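import Groth.Statements.S13864
import Groth.Agent.ASLocal.Basic
-- import your own Groth.Agent.* helpers here

set_option autoImplicit false
universe u
open ASCover

namespace Groth.Agent.S13864

/-- Let k be an algebraically closed field of characteristic p > 0, n ≥ 1 an integer prime to p, u ∈
k[[t]] the power series with constant term 1 and u^n · (1 + t^n) = 1 (so σ(t) = t·u is a
k-automorphism of k((t)) of order p), and a an integer; σ acts on I = t^a·k[[t]], and transported to
B = k[[t]] along h ↦ t^a·h the action is h ↦ u^a · h(t·u). For 1 ≤ m ≤ n let c_m ∈ B be determined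
by t^m · c_m = u^(a−m) − 1; this is the cocycle value σ(t^i) − t^i ∈ I of the element t^i, i = a −
m, divided by t^a. The published lemma says that the classes of the t^i with a − n ≤ i ≤ a − 1 and p
∤ i form a basis of H^1(⟨σ⟩, I); this row states their linear independence: if Σ λ_m c_m, summed
over 1 ≤ m ≤ n with p ∤ a − m, equals u^a · h(t·u) − h for some h ∈ B, then every such λ_m is 0.
(Together with the dimension of this H^1, namely n − ⌊(a−1)/p⌋ + ⌊(a−1−n)/p⌋, this gives the basis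
statement.) -/
theorem result {k : Type u} [Field k] [IsAlgClosed k] (p : ℕ)
    [Fact p.Prime] [CharP k p] (n : ℕ) (hn : 0 < n) (hpn : ¬ p ∣ n)
    (u : PowerSeries k) (hu1 : PowerSeries.constantCoeff u = 1)
    (hun : u ^ n * (1 + PowerSeries.X ^ n) = 1) (hu : IsUnit u) (a : ℤ)
    (c : ℕ → PowerSeries k)
    (hc : ∀ m : ℕ, 1 ≤ m → m ≤ n →
      PowerSeries.X ^ m * c m = ((hu.unit ^ (a - m) : (PowerSeries k)ˣ) : PowerSeries k) - 1)
    (coef : ℕ → k) (h : PowerSeries k)
    (hh : ((hu.unit ^ a : (PowerSeries k)ˣ) : PowerSeries k) * PowerSeries.subst (PowerSeries.X * u) h - h =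
      ∑ m ∈ (Finset.Icc 1 n).filter (fun m : ℕ => ¬ (p : ℤ) ∣ a - (m : ℤ)), coef m • c m) :
    ∀ m ∈ (Finset.Icc 1 n).filter (fun m : ℕ => ¬ (p : ℤ) ∣ a - (m : ℤ)), coef m = 0 := by
  intro m hm
  have hn0 : (n : k) ≠ 0 := fun h => hpn ((CharP.cast_eq_zero_iff k p n).1 h)
  have hm' := Finset.mem_filter.1 hm
  obtain ⟨hm1, hmn⟩ := Finset.mem_Icc.1 hm'.1
  have hcoef : ∀ m', 1 ≤ m' → m' ≤ n → PowerSeries.coeff (n - m) (c m') =
      if m' = m then -((a - m : ℤ) : k) * (n : k)⁻¹ else 0 := by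
    intro m' h1 h2
    rw [← PowerSeries.coeff_X_pow_mul (c m') m' (n - m), hc m' h1 h2,
      ASLocal.coeff_zpow_sub_one hu1 hun hn0 hu _ _ (by omega)]
    by_cases h : m' = m
    · subst h; rw [if_pos (Nat.sub_add_cancel hmn), if_pos rfl]
    · rw [if_neg (by omega), if_neg h]
  have hl : PowerSeries.coeff (n - m)
      (((hu.unit ^ a : (PowerSeries k)ˣ) : PowerSeries k) * PowerSeries.subst (PowerSeries.X * u) h - h) = 0 := by
    have h1 : PowerSeries.X ^ n ∣ ((hu.unit ^ a : (PowerSeries k)ˣ) : PowerSeries k) - 1 := by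
      rw [PowerSeries.X_pow_dvd_iff]
      intro i hi
      rw [ASLocal.coeff_zpow_sub_one hu1 hun hn0 hu a i (by omega), if_neg (by omega)]
    have h2 : PowerSeries.coeff (n - m) ((((hu.unit ^ a : (PowerSeries k)ˣ) : PowerSeries k) - 1) *
        PowerSeries.subst (PowerSeries.X * u) h) = 0 :=
      PowerSeries.X_pow_dvd_iff.1 (dvd_mul_of_dvd_left h1 _) _ (by omega)
    rw [sub_one_mul, map_sub, sub_eq_zero] at h2
    rw [map_sub, h2, ASLocal.coeff_subst_of_lt hu1 hun hn0 h _ (by omega), sub_self]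
  rw [hh, map_sum, Finset.sum_eq_single_of_mem m hm] at hl
  · rw [PowerSeries.coeff_smul, hcoef m hm1 hmn, if_pos rfl, smul_eq_mul, mul_eq_zero] at hl
    refine hl.resolve_right (mul_ne_zero (neg_ne_zero.2 fun h0 => hm'.2 ((CharP.intCast_eq_zero_iff k p _).1 h0)) (inv_ne_zero hn0))
  · intro m' hm'' hne
    obtain ⟨h1, h2⟩ := Finset.mem_Icc.1 (Finset.mem_filter.1 hm'').1
    rw [PowerSeries.coeff_smul, hcoef m' h1 h2, if_neg hne, smul_zero]

end Groth.Agent.S13864
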