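import Groth.Statements.S7422
import Groth.Agent.AWN.Ring

set_option autoImplicit false
universe u
open CategoryTheory AlgebraicGeometry
open HTop

namespace Groth.Agent.S7422

/-- Every ring `A` has an absolute weak normalization: a ring map `A → A^awn` which induces a universal
homeomorphism on spectra and is final among ring maps out of `A` with this property. -/
theorem result (A : Type u) [CommRing A] :
    ∃ (B : Type u) (_ : CommRing B) (φ : A →+* B), HTop.IsRingAWN φ := by
  let R := ∀ p : PrimeSpectrum A, AlgebraicClosure p.asIdeal.ResidueField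
  refine ⟨Groth.Agent.AWN.awnSub A R, inferInstance, algebraMap A _, Groth.Agent.AWN.isRingAWN_awnSub ?_⟩
  intro a ha
  rw [nilradical_eq_sInf, Submodule.mem_sInf]
  intro (p : Ideal A) (hp : p.IsPrime)
  have h := congrFun (RingHom.mem_ker.mp ha) ⟨p, hp⟩
  rw [Pi.algebraMap_apply, IsScalarTower.algebraMap_apply A p.ResidueField] at h
  exact Ideal.algebraMap_residueField_eq_zero.mp ((map_eq_zero _).mp h)

end Groth.Agent.S7422
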