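import Groth.Statements.S7423
import Groth.Agent.AWN.Normal
-- import your own Groth.Agent.* helpers here

set_option autoImplicit false
universe u
open CategoryTheory AlgebraicGeometry
open HTop

open Groth.Agent.AWN

namespace Groth.Agent.S7423

/-- Let `φ : A → A^awn` be an absolute weak normalization and `ψ : A → B` a ring map inducing a
universal homeomorphism on spectra. Then `B` is absolutely weakly normal exactly when the induced
map `χ : B → A^awn` with `χ ∘ ψ = φ` is an isomorphism. -/
theorem result {A B W : Type u} [CommRing A] [CommRing B] [CommRing W]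
    (φ : A →+* W) (hφ : HTop.IsRingAWN φ) (ψ : A →+* B)
    (hψ : FlatMor.IsUnivHomeo (Spec.map (CommRingCat.ofHom ψ))) (χ : B →+* W) (hχ : χ.comp ψ = φ) :
    Function.Bijective χ ↔ HTop.IsAWNRing B := by
    obtain ⟨hU, hφu⟩ := hφ
    obtain ⟨hi, hj, hs⟩ := (isUnivHomeo_spec_iff φ).mp hU
    have hcomp : ∀ {C : Type u} [CommRing C] (g : W →+* C), FlatMor.IsUnivHomeo (Spec.map (CommRingCat.ofHom g)) →
        ∃ τ : C →+* W, τ.comp g = RingHom.id W := by
      intro C _ g hg
      have hgφ : FlatMor.IsUnivHomeo (Spec.map (CommRingCat.ofHom (g.comp φ))) := by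
        rw [CommRingCat.ofHom_comp, Spec.map_comp]
        exact (CondHom.comp (sn := False) ⟨hg, False.elim⟩ ⟨hU, False.elim⟩).1
      obtain ⟨τ, hτ, -⟩ := hφu C (g.comp φ) hgφ
      exact ⟨τ, (hφu W φ hU).unique (by rw [RingHom.comp_assoc]; exact hτ) (RingHom.id_comp φ)⟩
    have hredW : _root_.IsReduced W := by
      obtain ⟨τ, hτ⟩ := hcomp (Ideal.Quotient.mk (nilradical W)) ((isUnivHomeo_spec_iff _).mpr
        ⟨RingHom.isIntegral_of_surjective _ Ideal.Quotient.mk_surjective,
          fun K _ g g' hgg => Ideal.Quotient.ringHom_ext hgg,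
          fun p => ⟨⟨p.asIdeal.map _, Ideal.map_isPrime_of_surjective Ideal.Quotient.mk_surjective
              (by simpa using nilradical_le_prime p.asIdeal)⟩,
            PrimeSpectrum.ext (by
              simp [Ideal.comap_map_of_surjective _ Ideal.Quotient.mk_surjective, ← RingHom.ker_eq_comap_bot,
                nilradical_le_prime p.asIdeal])⟩⟩)
      haveI : _root_.IsReduced (W ⧸ nilradical W) :=
        (Ideal.isRadical_iff_quotient_reduced _).mp (Ideal.radical_isRadical _)
      exact isReduced_of_injective (Ideal.Quotient.mk (nilradical W))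
        (Function.LeftInverse.injective (g := τ) fun w => RingHom.congr_fun hτ w)
    have hW : N False W := by
      refine Cl.n ⟨hredW, fun C _ g hg hC => ?_⟩
      obtain ⟨τ, hτ⟩ := hcomp g hg.1
      refine ⟨Function.LeftInverse.injective (g := τ) fun w => RingHom.congr_fun hτ w,
        fun c => ⟨τ c, sub_eq_zero.mp (IsNilpotent.eq_zero (nilpotent_iff_mem_prime.mpr fun q hq => ?_))⟩⟩
      haveI := hq
      rw [← Ideal.algebraMap_residueField_eq_zero (I := q), map_sub, sub_eq_zero]
      exact RingHom.congr_fun (((isUnivHomeo_spec_iff g).mp hg.1).2.1 q.ResidueField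
        (((algebraMap C q.ResidueField).comp g).comp τ) (algebraMap C q.ResidueField)
        (by rw [RingHom.comp_assoc, hτ, RingHom.comp_id])) c
    rw [← n_false_iff]
    refine ⟨fun hbij => ?_, fun hB => ?_⟩
    · let e := RingEquiv.ofBijective χ hbij
      refine Cl.n ⟨isReduced_of_injective χ hbij.1, fun C _ g hg hC => ?_⟩
      haveI : IsIso (CommRingCat.ofHom e.symm.toRingHom) := (e.symm.toCommRingCatIso).isIso_hom
      have hc2 : CondHom False (Spec.map (CommRingCat.ofHom (g.comp e.symm.toRingHom))) := by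
        rw [CommRingCat.ofHom_comp, Spec.map_comp]
        exact hg.comp (condHom_of_isIso _)
      exact (Function.Bijective.of_comp_iff g e.symm.bijective).mp (hW.cl.2 C _ hc2 hC)
    · subst hχ
      obtain ⟨-, hj', -⟩ := (isUnivHomeo_spec_iff ψ).mp hψ
      refine hB.cl.2 W χ ⟨(isUnivHomeo_spec_iff χ).mpr ⟨RingHom.IsIntegral.tower_top ψ χ hi,
        fun K _ g g' hgg => hj K g g' (by rw [← RingHom.comp_assoc, ← RingHom.comp_assoc, hgg]), fun q => ?_⟩,
        False.elim⟩ hredW
      obtain ⟨r, hr⟩ := hs (PrimeSpectrum.comap ψ q)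
      exact ⟨r, (isHomeomorph_of_univHomeo hψ).injective (by
        show PrimeSpectrum.comap ψ (PrimeSpectrum.comap χ r) = _
        rw [← PrimeSpectrum.comap_comp_apply]; exact hr)⟩

end Groth.Agent.S7423
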