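import Groth.Statements.S0552
import Mathlib

set_option autoImplicit false
universe u
open CAlg

namespace Groth.Agent.S0552

/-- A ring is catenary exactly when its localization at every maximal ideal is catenary. -/
theorem result (R : Type u) [CommRing R] :
    CAlg.IsCatenary R ↔ ∀ (m : Ideal R) [m.IsMaximal], CAlg.IsCatenary (Localization.AtPrime m) := by
  have hcover : ∀ {α : Type u} [PartialOrder α] {a : α} (x y : Set.Iic a),
      x ⋖ y ↔ (x : α) ⋖ (y : α) := by
    intro α _ a x y
    constructor
    · intro h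
      exact ⟨h.lt, fun c h1 h2 => h.2 (c := ⟨c, h2.le.trans y.2⟩) h1 h2⟩
    · intro h
      exact ⟨h.lt, fun c h1 h2 => h.2 (c := c.1) h1 h2⟩
  constructor
  · rintro ⟨hb, hl⟩ m hm
    let e := IsLocalization.AtPrime.primeSpectrumOrderIso (Localization.AtPrime m) m
    let φ : PrimeSpectrum (Localization.AtPrime m) → PrimeSpectrum R := fun x => (e x : _)
    have hφ : StrictMono φ := fun x y h => (e.strictMono h : _)
    have hφc : ∀ x y, x ⋖ y → φ x ⋖ φ y := fun x y h => (hcover (e x) (e y)).1 ((apply_covBy_apply_iff e).2 h)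
    refine ⟨fun p q hpq => ?_, fun s t h1 h2 hs ht => ?_⟩
    · obtain ⟨n, hn⟩ := hb (φ p) (φ q) (hφ.monotone hpq)
      exact ⟨n, fun s h1 h2 => hn (s.map φ hφ) (congrArg φ h1) (congrArg φ h2)⟩
    · exact hl (s.map φ hφ) (t.map φ hφ) (congrArg φ h1) (congrArg φ h2)
        (fun i => hφc _ _ (hs i)) (fun i => hφc _ _ (ht i))
  · intro h
    have hlift : ∀ (m : Ideal R) [m.IsMaximal] (s : LTSeries (PrimeSpectrum R)),
        s.last.asIdeal ≤ m → ∃ s' : LTSeries (PrimeSpectrum (Localization.AtPrime m)),
          ∃ hl : s'.length = s.length, ∀ i : Fin (s'.length + 1),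
            ((IsLocalization.AtPrime.primeSpectrumOrderIso (Localization.AtPrime m) m (s' i) : _) :
              PrimeSpectrum R) = s (Fin.cast (by rw [hl]) i) := by
      intro m _ s hs
      let e := IsLocalization.AtPrime.primeSpectrumOrderIso (Localization.AtPrime m) m
      have hmem : ∀ i, s i ∈ Set.Iic (⟨m, inferInstance⟩ : PrimeSpectrum R) :=
        fun i => le_trans (show (s i).asIdeal ≤ s.last.asIdeal from s.monotone (Fin.le_last i)) hs
      refine ⟨LTSeries.mk s.length (fun i => e.symm ⟨s i, hmem i⟩)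
        (fun i j hij => e.symm.strictMono (show s i < s j from s.strictMono hij)), rfl, fun i => ?_⟩
      show ((e (e.symm ⟨s i, hmem i⟩) : _) : PrimeSpectrum R) = _
      rw [e.apply_symm_apply]
      rfl
    refine ⟨fun p q hpq => ?_, fun s t h1 h2 hs ht => ?_⟩
    · obtain ⟨m, hm, hle⟩ := Ideal.exists_le_maximal q.asIdeal q.2.ne_top
      let e := IsLocalization.AtPrime.primeSpectrumOrderIso (Localization.AtPrime m) m
      have hp : p ∈ Set.Iic (⟨m, inferInstance⟩ : PrimeSpectrum R) := le_trans hpq hle
      obtain ⟨n, hn⟩ := (h m).1 (e.symm ⟨p, hp⟩) (e.symm ⟨q, hle⟩) (e.symm.monotone hpq)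
      refine ⟨n, fun s h1 h2 => ?_⟩
      obtain ⟨s', hl, hs'⟩ := hlift m s (by rw [h2]; exact hle)
      rw [← hl]
      refine hn s' (e.injective (Subtype.ext ?_)) (e.injective (Subtype.ext ?_))
      · rw [e.apply_symm_apply]
        exact ((hs' 0).trans (congrArg s (Fin.ext rfl))).trans h1
      · rw [e.apply_symm_apply]
        exact ((hs' (Fin.last _)).trans (congrArg s (Fin.ext (by simp [hl])))).trans h2
    · obtain ⟨m, hm, hle⟩ := Ideal.exists_le_maximal s.last.asIdeal s.last.2.ne_top
      let e := IsLocalization.AtPrime.primeSpectrumOrderIso (Localization.AtPrime m) m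
      obtain ⟨s', hls, hs'⟩ := hlift m s hle
      obtain ⟨t', hlt, ht'⟩ := hlift m t (by rw [← h2]; exact hle)
      rw [← hls, ← hlt]
      refine (h m).2 s' t' (e.injective (Subtype.ext ?_)) (e.injective (Subtype.ext ?_))
        (fun i => (apply_covBy_apply_iff e).1 ((hcover _ _).2 ?_))
        (fun i => (apply_covBy_apply_iff e).1 ((hcover _ _).2 ?_))
      · exact ((hs' 0).trans (congrArg s (Fin.ext rfl))).trans (h1.trans
          ((ht' 0).trans (congrArg t (Fin.ext rfl))).symm)
      · exact ((hs' (Fin.last _)).trans (congrArg s (Fin.ext (by simp [hls])))).trans (h2.trans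
          ((ht' (Fin.last _)).trans (congrArg t (Fin.ext (by simp [hlt])))).symm)
      · rw [hs', hs']
        exact hs (Fin.cast hls i)
      · rw [ht', ht']
        exact ht (Fin.cast hlt i)

end Groth.Agent.S0552
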