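import Groth.Statements.S3449
import Groth.Agent.GeomUnib.JacobsonDim
import Groth.Agent.GeomUnib.CatenaryFormula
import Groth.Agent.GeomUnib.FibreGen
-- import your own Groth.Agent.* helpers here

set_option autoImplicit false
open CategoryTheory AlgebraicGeometry
universe u
open EGA43

namespace Groth.Agent.S3449

/-- Let S be a locally Noetherian scheme which is Jacobson, whose local rings are universally catenary,
and whose irreducible components S' are equidimensional in the sense that for every closed point s
of S' the dimension of S' equals the dimension of S' at s (the Krull dimension of the set of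
generizations of s inside S'). Let X and Y be S-schemes, each locally of finite type over the base
S, and let f : X ⟶ Y be a morphism over S, with X irreducible and f dominant; let η be the generic
point of Y and e the dimension of the fibre over η. Then dim X = dim Y + e. -/
theorem result {X Y S : Scheme.{u}} [IsLocallyNoetherian S]
    [JacobsonSpace S] (h2 : ∀ s : S, CAlg.IsUniversallyCatenary (S.presheaf.stalk s))
    (h3 : ∀ S' ∈ irreducibleComponents (S : Type u), ∀ s ∈ S', IsClosed ({s} : Set S) →
      topologicalKrullDim (↥S' : Type u) = topologicalKrullDim ↥{t : S | t ∈ S' ∧ t ⤳ s})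
    (p : X ⟶ S) (q : Y ⟶ S) [LocallyOfFiniteType p] [LocallyOfFiniteType q] (f : X ⟶ Y) (hf : f ≫ q = p)
    [IrreducibleSpace X] [IrreducibleSpace Y] [IsDominant f] :
    topologicalKrullDim (X : Type u) =
      topologicalKrullDim (Y : Type u) + topologicalKrullDim ↥(f.fiber (genericPoint Y)) := by
  subst hf
  have hgen : f.base (genericPoint X) = genericPoint Y := by
    refine IsGenericPoint.eq ?_ (genericPoint_spec Y)
    show closure ({f.base (genericPoint X)} : Set Y) = Set.univ
    have h1 := (genericPoint_spec X).image f.continuous
    rw [Set.image_univ, (f.denseRange).closure_range] at h1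
    exact h1.def
  obtain ⟨g, hg⟩ := QuasiSober.sober (isIrreducible_irreducibleComponent (x := q.base (genericPoint Y)))
    isClosed_irreducibleComponent
  have hgt : g ⤳ q.base (genericPoint Y) := hg.specializes mem_irreducibleComponent
  have hset : ∀ s : S, GeomUnib.genDim g s =
      topologicalKrullDim ↥{t : S | t ∈ irreducibleComponent (q.base (genericPoint Y)) ∧ t ⤳ s} := fun s => by
    rw [GeomUnib.genDim, hg.def]
  obtain ⟨s₀, hs₀t, hs₀⟩ := nonempty_inter_closedPoints (X := S) (Z := closure {q.base (genericPoint Y)})
    ⟨_, subset_closure rfl⟩ isClosed_closure.isLocallyClosed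
  obtain ⟨c, D, hc, hD₀, hN⟩ := GeomUnib.genDim_add (h2 s₀) hgt (specializes_iff_mem_closure.2 hs₀t)
  have hD : ∀ s : S, IsClosed ({s} : Set S) → q.base (genericPoint Y) ⤳ s →
      GeomUnib.genDim (q.base (genericPoint Y)) s = D := fun s hs hts => by
    obtain ⟨c', D', hc', hD', hN'⟩ := GeomUnib.genDim_add (h2 s) hgt hts
    have e1 : GeomUnib.genDim g s = GeomUnib.genDim g s₀ := by
      rw [hset, hset, ← h3 _ (irreducibleComponent_mem_irreducibleComponents _) s
          (hg.def.le (hgt.trans hts).mem_closure) hs,
        ← h3 _ (irreducibleComponent_mem_irreducibleComponents _) s₀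
          (hg.def.le (hgt.trans (specializes_iff_mem_closure.2 hs₀t)).mem_closure) hs₀]
    rw [hN, hN'] at e1
    have e2 : c' + D' = c + D := by exact_mod_cast e1
    have e3 : c' = c := by exact_mod_cast hc'.symm.trans hc
    rw [hD', show D' = D by omega]
  obtain ⟨eY, heY, hdY⟩ := GeomUnib.dim_eq_add h2 q D hD
  obtain ⟨eX, heX, hdX⟩ := GeomUnib.dim_eq_add h2 (f ≫ q) D (fun s hs hts => by
    have h1 : (f ≫ q).base (genericPoint X) = q.base (genericPoint Y) := congrArg q.base hgen
    rw [h1] at hts ⊢
    exact hD s hs hts)
  haveI : LocallyOfFiniteType f := locallyOfFiniteType_of_comp f q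
  obtain ⟨a, b, c', ha, hb, hc'', hsum⟩ := GeomUnib.fdim_comp_generic f q (genericPoint X)
  rw [hgen, heY] at ha
  rw [heX] at hc''
  have hfib : topologicalKrullDim ↥(f.fiber (genericPoint Y)) = (b : WithBot ℕ∞) := by
    rw [← hb, FibreDim.fdim, genericPoint_spec X, Set.univ_inter, hgen]
    exact FibreDim.dim_homeo (f.fiberHomeo _)
  rw [hdX, hdY, hfib]
  have ea : eY = a := by exact_mod_cast ha
  have ec : eX = c' := by exact_mod_cast hc''
  exact_mod_cast (by omega : D + eX = D + eY + b)

end Groth.Agent.S3449
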