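import Groth.Statements.S2035
import Groth.Agent.PP16Lib.GeomRegFS
-- import your own Groth.Agent.* helpers here

set_option autoImplicit false
universe u
open CAlg

namespace Groth.Agent.S2035

/-- Let `k` be a field of characteristic zero and `A` a Noetherian local `k`-algebra. Then `A` is a
regular local ring if and only if `k → A` is formally smooth for the adic topology of the maximal
ideal. -/
theorem result {k A : Type u} [Field k] [CharZero k]
    [CommRing A] [IsLocalRing A] [IsNoetherianRing A] [Algebra k A] :
    IsRegularLocalRing A ↔ CAlgX.IsAdicFormallySmooth k A (IsLocalRing.maximalIdeal A) := by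
  haveI := EGA41Lib.isGeometricallyReduced_of_charZero (k := k) (K := IsLocalRing.ResidueField A)
  rw [S4571.result, ← PP16Lib.isRegularLocalRing_iff_symGrBijective]
  exact ⟨fun h => ⟨h, PP16Lib.injective_lTensor_of_isGeometricallyReduced⟩, fun h => h.1⟩

end Groth.Agent.S2035
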