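import Groth.Statements.S4571
import Groth.Agent.PP16Lib.AdicOmega
import Groth.Agent.EGA41Lib.Separable
-- import your own Groth.Agent.* helpers here

set_option autoImplicit false
universe u
open TensorProduct KaehlerDifferential IsLocalRing
open EGA41

namespace Groth.Agent.S4571

/-- Derivations kill the prime field. -/
theorem derivation_prime {k : Type u} [Field k] {M : Type u} [AddCommGroup M] [Module (⊥ : Subfield k) M]
    (d : Derivation ℤ (⊥ : Subfield k) M) (x : (⊥ : Subfield k)) : d x = 0 := by
  let S : Subfield (⊥ : Subfield k) :=
    { carrier := {x | d x = 0}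
      mul_mem' := fun {a b} ha hb => by
        show d (a * b) = 0
        rw [Derivation.leibniz, show d a = 0 from ha, show d b = 0 from hb, smul_zero, smul_zero, add_zero]
      one_mem' := d.map_one_eq_zero
      add_mem' := fun {a b} ha hb => by
        show d (a + b) = 0
        rw [map_add, show d a = 0 from ha, show d b = 0 from hb, add_zero]
      zero_mem' := map_zero d
      neg_mem' := fun {a} ha => by
        show d (-a) = 0
        rw [map_neg, show d a = 0 from ha, neg_zero]
      inv_mem' := fun a ha => by
        show d a⁻¹ = 0
        rw [Derivation.leibniz_inv, show d a = 0 from ha, smul_zero] }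
  have h : x.1 ∈ S.map (⊥ : Subfield k).subtype := (bot_le : (⊥ : Subfield k) ≤ _) x.2
  obtain ⟨y, hy, he⟩ := h
  rwa [Subtype.ext (he : (y : k) = x)] at hy

theorem subsingleton_prime {k : Type u} [Field k] :
    Subsingleton (KaehlerDifferential ℤ (⊥ : Subfield k)) := by
  refine subsingleton_of_forall_eq 0 fun w => ?_
  induction (KaehlerDifferential.span_range_derivation ℤ (⊥ : Subfield k)).ge (Submodule.mem_top (x := w)) using
    Submodule.span_induction with
  | mem w hw =>
    obtain ⟨x, rfl⟩ := hw
    exact derivation_prime _ x
  | zero => rfl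
  | add a b _ _ ha hb => rw [ha, hb, add_zero]
  | smul a b _ hb => rw [hb, smul_zero]

/-- Every field is formally smooth over the prime field. -/
theorem formallySmooth_of_prime {k K : Type u} [Field k] [Field K] [Algebra (⊥ : Subfield k) K] :
    Algebra.FormallySmooth (⊥ : Subfield k) K := by
  haveI := subsingleton_prime (k := k)
  exact EGA41Lib.formallySmooth_of_injective fun x y _ => Subsingleton.elim x y

theorem injective_prime {k A Q : Type u} [Field k] [CommRing A] [Algebra k A] [CommRing Q] [Algebra A Q]
    (hinj : Function.Injective ((mapBaseChange ℤ k A).lTensor Q)) :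
    Function.Injective ((mapBaseChange (⊥ : Subfield k) k A).lTensor Q) := by
  haveI := subsingleton_prime (k := k)
  let θk : KaehlerDifferential ℤ k →ₗ[k] KaehlerDifferential (⊥ : Subfield k) k :=
    KaehlerDifferential.map ℤ (⊥ : Subfield k) k k
  let θA : KaehlerDifferential ℤ A →ₗ[A] KaehlerDifferential (⊥ : Subfield k) A :=
    KaehlerDifferential.map ℤ (⊥ : Subfield k) A A
  have hθA : Function.Bijective θA := by
    refine ⟨(injective_iff_map_eq_zero _).mpr fun z hz => ?_, KaehlerDifferential.map_surjective _ _ A⟩
    obtain ⟨w, rfl⟩ := (KaehlerDifferential.exact_mapBaseChange_map ℤ (⊥ : Subfield k) A z).mp hz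
    rw [Subsingleton.elim w 0, map_zero]
  have hsq : (mapBaseChange (⊥ : Subfield k) k A).comp (θk.baseChange A) = θA.comp (mapBaseChange ℤ k A) := by
    refine TensorProduct.AlgebraTensorModule.ext fun a w => ?_
    induction (KaehlerDifferential.span_range_derivation ℤ k).ge (Submodule.mem_top (x := w)) using
      Submodule.span_induction generalizing a with
    | mem w hw =>
      obtain ⟨x, rfl⟩ := hw
      simp [θk, θA, KaehlerDifferential.map_D]
    | zero => simp
    | add x y _ _ hx hy => simp only [TensorProduct.tmul_add, map_add, hx, hy]
    | smul c x _ hx => rw [← TensorProduct.smul_tmul]; exact hx _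
  intro y y' h
  have hs : Function.Surjective ((θk.baseChange A).lTensor Q) :=
    LinearMap.lTensor_surjective _ (LinearMap.lTensor_surjective A (KaehlerDifferential.map_surjective _ _ k))
  obtain ⟨z, rfl⟩ := hs y
  obtain ⟨z', rfl⟩ := hs y'
  rw [← LinearMap.lTensor_comp_apply, ← LinearMap.lTensor_comp_apply, hsq, LinearMap.lTensor_comp_apply,
    LinearMap.lTensor_comp_apply] at h
  rw [hinj ((LinearEquiv.ofBijective θA hθA).lTensor Q |>.injective h)]

/-- For an arbitrary local algebra: let k be a field and A a local k-algebra with maximal ideal m and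
residue field K. Then A is formally smooth over k for the m-adic topology if and only if the
canonical maps Sym^n_K(m/m²) → m^n/m^(n+1) are bijective for n ≥ 1 and the canonical map Ω_{k/ℤ} ⊗_k
K → Ω_{A/ℤ} ⊗_A K is injective (absolute differentials, which agree with differentials over the
prime field). -/
theorem result {k A : Type u} [Field k] [CommRing A]
    [IsLocalRing A] [Algebra k A] :
    CAlgX.IsAdicFormallySmooth k A (maximalIdeal A) ↔
      (PP16.SymGrBijective A (maximalIdeal A) ∧
        Function.Injective ((mapBaseChange ℤ k A).lTensor (ResidueField A))) := by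
  constructor
  · intro h
    letI : Field (A ⧸ maximalIdeal A) := Ideal.Quotient.field _
    haveI := formallySmooth_of_prime (k := k) (K := k)
    haveI := formallySmooth_of_prime (k := k) (K := A ⧸ maximalIdeal A)
    exact ⟨PP16Lib.symGrBijective_of_adicSmooth (PP16Lib.adicSmooth_comp (Λ := (⊥ : Subfield k)) h),
      PP16Lib.injective_of_adicSmooth h⟩
  · rintro ⟨hG, hinj⟩
    letI : Field (A ⧸ maximalIdeal A) := Ideal.Quotient.field _
    haveI := formallySmooth_of_prime (k := k) (K := A ⧸ maximalIdeal A)
    haveI : Module.Projective (A ⧸ maximalIdeal A) (maximalIdeal A).Cotangent := Module.Projective.of_free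
    have hB : CAlgX.IsAdicFormallySmooth (⊥ : Subfield k) A (maximalIdeal A) :=
      PP16Lib.adicSmooth_of_symGrBijective inferInstance hG
    exact PP16Lib.adicSmooth_relative hB (injective_prime (Q := A ⧸ maximalIdeal A) hinj) Module.Projective.of_free


end Groth.Agent.S4571
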