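import Groth.Statements.S4512
import Groth.Agent.S4571
import Groth.Agent.PP16Lib.GeomReg
import Groth.Agent.RegularSerre.Localization
import Groth.Agent.EGA41Lib.AdicLift
import Mathlib.RingTheory.MvPowerSeries.Equiv
import Mathlib.RingTheory.IntegralClosure.IsIntegralClosure.Basic
-- import your own Groth.Agent.* helpers here

set_option autoImplicit false
universe u
open EGA41

namespace Groth.Agent.S4512

open scoped TensorProduct
open IsLocalRing

theorem adicSmooth_localization {k : Type u} [CommRing k] {T : Type u} [CommRing T] [Algebra k T] {J : Ideal T}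
    (n : Ideal T) [n.IsPrime] (hJ : J ≤ n) (h : CAlgX.IsAdicFormallySmooth k T J) :
    CAlgX.IsAdicFormallySmooth k (Localization.AtPrime n) (maximalIdeal (Localization.AtPrime n)) := by
  intro E _ _ N hN ψ hψ
  obtain ⟨j, hj⟩ := hψ
  obtain ⟨χ, hχ⟩ := h E N hN (ψ.comp (IsScalarTower.toAlgHom k T (Localization.AtPrime n))) ⟨j, fun x hx => by
    refine hj _ ?_
    rw [← Localization.AtPrime.map_eq_maximalIdeal, ← Ideal.map_pow]
    exact Ideal.mem_map_of_mem _ (Ideal.pow_right_mono hJ j hx)⟩
  have hunit : ∀ s : n.primeCompl, IsUnit (χ s) := fun s => by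
    have h1 : IsUnit (Ideal.Quotient.mk N (χ s)) := by
      rw [show Ideal.Quotient.mk N (χ s) = ψ (algebraMap T _ (s : T)) from DFunLike.congr_fun hχ (s : T)]
      exact (IsLocalization.map_units (Localization.AtPrime n) s).map ψ
    obtain ⟨w, hw⟩ := h1.exists_right_inv
    obtain ⟨w, rfl⟩ := Ideal.Quotient.mk_surjective w
    rw [← map_mul, ← map_one (Ideal.Quotient.mk N), Ideal.Quotient.eq] at hw
    have hsq : (χ (s : T) * w - 1) ^ 2 = 0 := by
      rw [← Ideal.mem_bot, ← hN]
      exact Ideal.pow_mem_pow hw 2
    exact IsUnit.of_mul_eq_one (w * (1 - (χ (s : T) * w - 1))) (by linear_combination (-1 : E) * hsq)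
  refine ⟨IsLocalization.liftAlgHom (M := n.primeCompl) (f := χ) hunit,
    IsLocalization.algHom_ext n.primeCompl (AlgHom.ext fun x => ?_)⟩
  show Ideal.Quotient.mk N (IsLocalization.liftAlgHom (M := n.primeCompl) (f := χ) hunit (algebraMap T _ x)) = _
  rw [IsLocalization.liftAlgHom_apply, IsLocalization.lift_eq]
  exact DFunLike.congr_fun hχ x

theorem isRegularRing_tensor {k A k' : Type u} [Field k] [CommRing A] [IsLocalRing A] [IsNoetherianRing A]
    [Algebra k A] [Field k'] [Algebra k k'] [Module.Finite k k']
    (h : CAlgX.IsAdicFormallySmooth k A (maximalIdeal A)) : IsRegularRing (k' ⊗[k] A) := by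
  haveI := PP16Lib.isNoetherianRing_tensor (k := k) (k' := k') (A := A)
  rw [isRegularRing_iff]
  intro P hP
  obtain ⟨n, hn, hle⟩ := Ideal.exists_le_maximal P hP.ne_top
  letI : Algebra A (k' ⊗[k] A) := (Algebra.TensorProduct.includeRight : A →ₐ[k] k' ⊗[k] A).toRingHom.toAlgebra
  haveI := IsScalarTower.of_algebraMap_eq (R := k) (S := A) (A := k' ⊗[k] A) fun r =>
    ((Algebra.TensorProduct.includeRight : A →ₐ[k] k' ⊗[k] A).commutes r).symm
  haveI : Algebra.IsIntegral A (k' ⊗[k] A) := ⟨fun x => by
    induction x using TensorProduct.induction_on with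
    | zero => exact isIntegral_zero
    | add a b ha hb => exact ha.add hb
    | tmul c a =>
      rw [show c ⊗ₜ[k] a = Algebra.TensorProduct.includeLeft (S := k) c * algebraMap A (k' ⊗[k] A) a by
        show _ = (c ⊗ₜ[k] (1 : A)) * ((1 : k') ⊗ₜ[k] a)
        simp]
      exact (((Algebra.IsIntegral.isIntegral (R := k) c).map
        (Algebra.TensorProduct.includeLeft : k' →ₐ[k] k' ⊗[k] A)).tower_top).mul isIntegral_algebraMap⟩
  have hmax : (n.comap (algebraMap A (k' ⊗[k] A))).IsMaximal :=
    Ideal.isMaximal_comap_of_isIntegral_of_isMaximal n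
  have hm : ∀ a ∈ maximalIdeal A, Algebra.TensorProduct.includeRight (R := k) (A := k') a ∈ n := fun a ha => by
    rw [← IsLocalRing.eq_maximalIdeal hmax] at ha
    exact ha
  haveI := hn.isPrime
  haveI : IsRegularLocalRing (Localization.AtPrime n) := PP16Lib.isRegularLocalRing_of_symGrBijective
    (S4571.result.mp (adicSmooth_localization n le_rfl (PP16Lib.adicSmooth_tensor h n hm))).1
  haveI := RegularSerre.isRegularRing_of_isRegularLocalRing (Localization.AtPrime n)
  have hdis : Disjoint (n.primeCompl : Set (k' ⊗[k] A)) P :=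
    Set.disjoint_left.mpr fun x hx hx' => hx (hle hx')
  haveI := IsLocalization.isPrime_of_isPrime_disjoint n.primeCompl (Localization.AtPrime n) P hP hdis
  let P' := P.map (algebraMap (k' ⊗[k] A) (Localization.AtPrime n))
  haveI := IsLocalization.isLocalization_isLocalization_atPrime_isLocalization n.primeCompl
    (Localization.AtPrime P') P'
  have hcomap : P'.comap (algebraMap (k' ⊗[k] A) (Localization.AtPrime n)) = P :=
    IsLocalization.comap_map_of_isPrime_disjoint n.primeCompl (Localization.AtPrime n) hP hdis
  haveI : IsLocalization.AtPrime (Localization.AtPrime P') P := by convert! ‹IsLocalization.AtPrime (Localization.AtPrime P') (P'.comap _)› using 1; exact hcomap.symm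
  exact IsRegularLocalRing.of_ringEquiv (R := Localization.AtPrime P') (IsLocalization.algEquiv P.primeCompl (Localization.AtPrime P')
    (Localization.AtPrime P)).toRingEquiv

section completion

open AdicCompletion

variable {R S : Type u} [CommRing R] [CommRing S] {I : Ideal R} {J : Ideal S}

theorem factorPow_evalₐ {m n : ℕ} (hle : m ≤ n) (x : AdicCompletion I R) :
    Ideal.Quotient.factorPow I hle (evalₐ I n x) = evalₐ I m x := by
  induction x using AdicCompletion.induction_on with
  | _ x =>
    rw [evalₐ_mk, evalₐ_mk]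
    show Ideal.Quotient.mk (I ^ m) (x n) = Ideal.Quotient.mk (I ^ m) (x m)
    exact AdicCompletion.Ideal.mk_eq_mk I hle x

theorem exists_completion_equiv_of_quotients (e : ∀ n, (R ⧸ I ^ n) ≃+* S ⧸ J ^ n)
    (he : ∀ {m n : ℕ} (hle : m ≤ n) (x : R ⧸ I ^ n),
      Ideal.Quotient.factorPow J hle (e n x) = e m (Ideal.Quotient.factorPow I hle x)) :
    Nonempty (AdicCompletion I R ≃+* AdicCompletion J S) := by
  let fwd : AdicCompletion I R →+* AdicCompletion J S :=
    liftRingHom J (fun n => (e n).toRingHom.comp (evalₐ I n).toRingHom) fun {m n} hle => RingHom.ext fun x => by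
      show Ideal.Quotient.factorPow J hle (e n (evalₐ I n x)) = e m (evalₐ I m x)
      rw [he, factorPow_evalₐ]
  let bwd : AdicCompletion J S →+* AdicCompletion I R :=
    liftRingHom I (fun n => (e n).symm.toRingHom.comp (evalₐ J n).toRingHom) fun {m n} hle => RingHom.ext fun x => by
      show Ideal.Quotient.factorPow I hle ((e n).symm (evalₐ J n x)) = (e m).symm (evalₐ J m x)
      apply (e m).injective
      rw [← he, RingEquiv.apply_symm_apply, RingEquiv.apply_symm_apply, factorPow_evalₐ]
  refine ⟨RingEquiv.ofRingHom fwd bwd (RingHom.ext fun x => ext_evalₐ fun n => ?_)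
    (RingHom.ext fun x => ext_evalₐ fun n => ?_)⟩
  · show evalₐ J n (fwd (bwd x)) = evalₐ J n x
    rw [evalₐ_liftRingHom]
    show e n (evalₐ I n (bwd x)) = _
    rw [evalₐ_liftRingHom]
    exact (e n).apply_symm_apply _
  · show evalₐ I n (bwd (fwd x)) = evalₐ I n x
    rw [evalₐ_liftRingHom]
    show (e n).symm (evalₐ J n (fwd x)) = _
    rw [evalₐ_liftRingHom]
    exact (e n).symm_apply_apply _

end completion

open MvPolynomial in
theorem exists_completion_equiv {k A : Type u} [Field k] [CommRing A] [IsLocalRing A] [IsNoetherianRing A]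
    [Algebra k A] (hG : PP16.SymGrBijective A (maximalIdeal A)) :
    ∃ n : ℕ, Nonempty (AdicCompletion (maximalIdeal A) A ≃+* MvPowerSeries (Fin n) (ResidueField A)) := by
  classical
  haveI := PP16Lib.isRegularLocalRing_of_symGrBijective hG
  obtain ⟨f, hf, hspan⟩ := QReg.exists_quasiRegular_parameters A
  generalize (maximalIdeal A).spanFinrank = d at f hf hspan
  letI : Field (A ⧸ maximalIdeal A) := Ideal.Quotient.field _
  let F := (⊥ : Subfield k)
  haveI := S4571.formallySmooth_of_prime (k := k) (K := A ⧸ maximalIdeal A)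
  -- compatible sections of the residue field
  choose g hg using EGA41Lib.exists_lift_succ (k := F) (K := A ⧸ maximalIdeal A) (maximalIdeal A)
  let e1 : (A ⧸ maximalIdeal A) ≃ₐ[F] A ⧸ maximalIdeal A ^ (0 + 1) :=
    Ideal.quotientEquivAlgOfEq F (by rw [zero_add, pow_one])
  let σ : (n : ℕ) → (A ⧸ maximalIdeal A) →ₐ[F] A ⧸ maximalIdeal A ^ (n + 1) := fun n =>
    Nat.rec (motive := fun n => (A ⧸ maximalIdeal A) →ₐ[F] A ⧸ maximalIdeal A ^ (n + 1)) e1.toAlgHom g n
  have hσ : ∀ {m n : ℕ} (hle : m ≤ n) (y : A ⧸ maximalIdeal A),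
      Ideal.Quotient.factorPow (maximalIdeal A) (Nat.succ_le_succ hle) (σ n y) = σ m y := fun {m n} hle y => by
    induction hle with
    | refl =>
      obtain ⟨z, hz⟩ := Ideal.Quotient.mk_surjective (σ m y)
      rw [← hz]
      rfl
    | @step n hle ih =>
      obtain ⟨z, hz⟩ := Ideal.Quotient.mk_surjective (σ (n + 1) y)
      rw [← ih, show σ n y = Ideal.Quotient.factorPow (maximalIdeal A) (Nat.le_succ (n + 1)) (σ (n + 1) y) from
        (hg n (σ n) y).symm, ← hz]
      rfl
  have hσres : ∀ (N : ℕ) (y : A ⧸ maximalIdeal A) (a : A),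
      σ N y = Ideal.Quotient.mk _ a → Ideal.Quotient.mk (maximalIdeal A) a = y := fun N y a ha => by
    obtain ⟨b, rfl⟩ := Ideal.Quotient.mk_surjective y
    have h := hσ (Nat.zero_le N) (Ideal.Quotient.mk _ b)
    rw [ha] at h
    have h2 : Ideal.Quotient.mk (maximalIdeal A ^ (0 + 1)) a = Ideal.Quotient.mk (maximalIdeal A ^ (0 + 1)) b := h
    rw [Ideal.Quotient.eq, zero_add, pow_one] at h2
    exact Ideal.Quotient.eq.mpr h2
  let θ : ∀ N : ℕ, MvPolynomial (Fin d) (A ⧸ maximalIdeal A) →+* A ⧸ maximalIdeal A ^ N := fun N =>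
    eval₂Hom ((Ideal.Quotient.factorPow (maximalIdeal A) (Nat.le_succ N)).comp (σ N).toRingHom)
      fun i => Ideal.Quotient.mk _ (f i)
  have hlift : ∀ (N : ℕ) (c : A ⧸ maximalIdeal A), ∃ a : A, Ideal.Quotient.mk (maximalIdeal A) a = c ∧
      θ N (C c) = Ideal.Quotient.mk _ a := fun N c => by
    obtain ⟨a, ha⟩ := Ideal.Quotient.mk_surjective (σ N c)
    refine ⟨a, hσres N c a ha.symm, ?_⟩
    rw [eval₂Hom_C, RingHom.comp_apply]
    show Ideal.Quotient.factorPow (maximalIdeal A) (Nat.le_succ N) (σ N c) = _
    rw [← ha]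
    rfl
  have heval : ∀ (N : ℕ) (Q : MvPolynomial (Fin d) A) (P : MvPolynomial (Fin d) (A ⧸ maximalIdeal A)),
      (∀ m, θ N (C (P.coeff m)) = Ideal.Quotient.mk _ (Q.coeff m)) → P.support = Q.support →
      θ N P = Ideal.Quotient.mk _ (eval f Q) := fun N Q P h hs => by
    conv_lhs => rw [P.as_sum]
    conv_rhs => rw [Q.as_sum]
    rw [map_sum, map_sum, map_sum, hs]
    refine Finset.sum_congr rfl fun m _ => ?_
    rw [show monomial m (P.coeff m) = C (P.coeff m) * monomial m 1 by rw [C_mul_monomial, mul_one],
      show monomial m (Q.coeff m) = C (Q.coeff m) * monomial m 1 by rw [C_mul_monomial, mul_one],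
      map_mul, map_mul, map_mul, h, eval_C]
    congr 1
    show eval₂Hom _ _ (monomial m 1) = _
    simp [eval₂Hom_monomial, eval_monomial, map_finsuppProd]
  have hker : ∀ (N : ℕ) (P : MvPolynomial (Fin d) (A ⧸ maximalIdeal A)),
      θ N P = 0 ↔ P ∈ idealOfVars (Fin d) (A ⧸ maximalIdeal A) ^ N := fun N P => by
    constructor
    · intro hP
      suffices ∀ j ≤ N, P ∈ idealOfVars (Fin d) (A ⧸ maximalIdeal A) ^ j from this N le_rfl
      intro j
      induction j with
      | zero => simp
      | succ j ih =>
        intro hj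
        have hPj := ih (Nat.le_of_succ_le hj)
        rw [mem_pow_idealOfVars_iff'] at hPj ⊢
        choose a ha hθa using fun m => hlift N ((homogeneousComponent j P).coeff m)
        let Q : MvPolynomial (Fin d) A := ∑ m ∈ (homogeneousComponent j P).support, monomial m (a m)
        have hQc : ∀ m, Q.coeff m = if m ∈ (homogeneousComponent j P).support then a m else 0 := fun m => by
          simp [Q, coeff_sum, coeff_monomial]
        have hQs : (homogeneousComponent j P).support = Q.support := by
          ext m
          rw [mem_support_iff (p := Q), hQc]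
          split_ifs with hm
          · refine iff_of_true hm fun h0 => (mem_support_iff.mp hm) ?_
            rw [← ha m, h0, map_zero]
          · exact iff_of_false hm (by simp)
        have hQh : Q.IsHomogeneous j := IsHomogeneous.sum _ _ _ fun m hm => isHomogeneous_monomial _ (by
          rw [Finsupp.degree_eq_weight_one]
          exact homogeneousComponent_isHomogeneous j P (mem_support_iff.mp hm))
        have hrest : P - homogeneousComponent j P ∈ idealOfVars (Fin d) (A ⧸ maximalIdeal A) ^ (j + 1) := by
          rw [mem_pow_idealOfVars_iff']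
          intro m hm
          rw [coeff_sub, coeff_homogeneousComponent]
          split_ifs with hmj
          · exact sub_self _
          · rw [sub_zero]; exact hPj m (by omega)
        have hmap : ∀ q ∈ idealOfVars (Fin d) (A ⧸ maximalIdeal A) ^ (j + 1),
            θ N q ∈ (maximalIdeal A ^ (j + 1)).map (Ideal.Quotient.mk (maximalIdeal A ^ N)) := fun q hq => by
          rw [Ideal.map_pow]
          have hq' := Ideal.mem_map_of_mem (θ N) hq
          rw [Ideal.map_pow] at hq'
          refine Ideal.pow_right_mono ?_ _ hq'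
          rw [idealOfVars, Ideal.map_span]
          refine Ideal.span_le.mpr ?_
          rintro _ ⟨_, ⟨i, rfl⟩, rfl⟩
          simp only [θ, eval₂Hom_X']
          exact Ideal.mem_map_of_mem _ (hspan ▸ Ideal.subset_span ⟨i, rfl⟩)
        have h1 : θ N (homogeneousComponent j P) = Ideal.Quotient.mk _ (eval f Q) :=
          heval N Q _ (fun m => by
            rw [hQc]; split_ifs with hm
            · exact hθa m
            · rw [notMem_support_iff.mp hm, C_0, map_zero, map_zero]) hQs
        have h2 : eval f Q ∈ maximalIdeal A ^ (j + 1) := by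
          have h3 : θ N (homogeneousComponent j P) = - θ N (P - homogeneousComponent j P) := by
            rw [map_sub, hP, zero_sub, neg_neg]
          have h4 := hmap _ hrest
          rw [← Ideal.neg_mem_iff, ← h3, h1, Ideal.mem_quotient_iff_mem_sup,
            sup_eq_left.mpr (Ideal.pow_le_pow_right hj)] at h4
          exact h4
        intro m hm
        by_cases hmj : Finsupp.degree m = j
        · have h5 := hf j Q hQh (by rwa [hspan]) m
          rw [hspan, hQc] at h5
          by_contra h0
          have hms : m ∈ (homogeneousComponent j P).support := by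
            rw [mem_support_iff, coeff_homogeneousComponent, if_pos hmj]; exact h0
          rw [if_pos hms] at h5
          have h6 := ha m
          rw [Ideal.Quotient.eq_zero_iff_mem.mpr h5, coeff_homogeneousComponent, if_pos hmj] at h6
          exact h0 h6.symm
        · exact hPj m (by omega)
    · intro hP
      have h : θ N P ∈ ((maximalIdeal A).map (Ideal.Quotient.mk (maximalIdeal A ^ N))) ^ N := by
        have hq' := Ideal.mem_map_of_mem (θ N) hP
        rw [Ideal.map_pow] at hq'
        refine Ideal.pow_right_mono ?_ _ hq'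
        rw [idealOfVars, Ideal.map_span]
        refine Ideal.span_le.mpr ?_
        rintro _ ⟨_, ⟨i, rfl⟩, rfl⟩
        simp only [θ, eval₂Hom_X']
        exact Ideal.mem_map_of_mem _ (hspan ▸ Ideal.subset_span ⟨i, rfl⟩)
      rwa [← Ideal.map_pow, Ideal.map_quotient_self, Ideal.mem_bot] at h
  have hsurj : ∀ N, Function.Surjective (θ N) := fun N y => by
    obtain ⟨a, rfl⟩ := Ideal.Quotient.mk_surjective y
    suffices ∀ j ≤ N, ∃ P b, b ∈ maximalIdeal A ^ j ∧ θ N P + Ideal.Quotient.mk _ b = Ideal.Quotient.mk _ a by
      obtain ⟨P, b, hb, h⟩ := this N le_rfl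
      exact ⟨P, by rw [← h, Ideal.Quotient.eq_zero_iff_mem.mpr hb, add_zero]⟩
    intro j
    induction j with
    | zero => exact fun _ => ⟨0, a, by simp, by simp⟩
    | succ j ih =>
      intro hj
      obtain ⟨P, b, hb, h⟩ := ih (Nat.le_of_succ_le hj)
      obtain ⟨H, hH, rfl⟩ := AdicLim.exists_isHomogeneous_eval f hspan hb
      choose c hc hθc using fun m => hlift N (Ideal.Quotient.mk (maximalIdeal A) (H.coeff m))
      refine ⟨P + ∑ m ∈ H.support, monomial m (Ideal.Quotient.mk (maximalIdeal A) (H.coeff m)),
        eval f (∑ m ∈ H.support, monomial m (H.coeff m - c m)), ?_, ?_⟩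
      · refine QReg.eval_mem_pow_succ (fun i => hspan ▸ Ideal.subset_span ⟨i, rfl⟩)
          (IsHomogeneous.sum _ _ _ fun m hm => isHomogeneous_monomial _ (by
            rw [Finsupp.degree_eq_weight_one]; exact hH (mem_support_iff.mp hm))) fun m => ?_
        rw [coeff_sum]
        refine Submodule.sum_mem _ fun m' _ => ?_
        rw [coeff_monomial]
        split_ifs
        · exact Ideal.Quotient.eq.mp (hc m').symm
        · exact zero_mem _
      · rw [← h, map_add, add_assoc]
        congr 1
        conv_rhs => rw [H.as_sum]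
        rw [map_sum, map_sum, map_sum, map_sum, ← Finset.sum_add_distrib, map_sum (Ideal.Quotient.mk _)]
        refine Finset.sum_congr rfl fun m _ => ?_
        have hmono : ∀ (c' : A ⧸ maximalIdeal A) (a' : A), θ N (C c') = Ideal.Quotient.mk _ a' →
            θ N (monomial m c') = Ideal.Quotient.mk _ (eval f (monomial m a')) := fun c' a' h' => by
          rw [show monomial m c' = C c' * monomial m 1 by rw [C_mul_monomial, mul_one],
            show monomial m a' = C a' * monomial m 1 by rw [C_mul_monomial, mul_one], map_mul, map_mul, map_mul, h',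
            eval_C]
          congr 1
          show eval₂Hom _ _ (monomial m 1) = _
          simp [eval₂Hom_monomial, eval_monomial, map_finsuppProd]
        rw [hmono _ _ (hθc m), ← map_add, ← map_add, ← map_add, add_sub_cancel]
  let e : ∀ N, (MvPolynomial (Fin d) (A ⧸ maximalIdeal A) ⧸ idealOfVars (Fin d) (A ⧸ maximalIdeal A) ^ N) ≃+*
      A ⧸ maximalIdeal A ^ N := fun N =>
    (Ideal.quotEquivOfEq (Ideal.ext fun P => (hker N P).symm)).trans
      (RingHom.quotientKerEquivOfSurjective (hsurj N))
  have hcompat : ∀ {m n : ℕ} (hle : m ≤ n), (Ideal.Quotient.factorPow (maximalIdeal A) hle).comp (θ n) = θ m :=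
    fun {m n} hle => by
    refine MvPolynomial.ringHom_ext (fun c => ?_) fun i => ?_
    · simp only [θ, RingHom.comp_apply, eval₂Hom_C]
      obtain ⟨z, hz⟩ := Ideal.Quotient.mk_surjective (σ n c)
      show Ideal.Quotient.factorPow _ hle (Ideal.Quotient.factorPow _ (Nat.le_succ n) (σ n c)) =
        Ideal.Quotient.factorPow _ (Nat.le_succ m) (σ m c)
      rw [← hσ hle c, ← hz]
      rfl
    · simp only [θ, RingHom.comp_apply, eval₂Hom_X']
      rfl
  obtain ⟨Φ⟩ := exists_completion_equiv_of_quotients e fun {m n} hle x => by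
    obtain ⟨P, rfl⟩ := Ideal.Quotient.mk_surjective x
    exact RingHom.congr_fun (hcompat hle) P
  exact ⟨d, ⟨Φ.symm.trans (MvPowerSeries.toAdicCompletionAlgEquiv (Fin d) (A ⧸ maximalIdeal A)).symm.toRingEquiv⟩⟩

/-- Let k be a field and A a Noetherian local k-algebra with residue field K, and suppose A is formally
smooth over k for the adic topology of its maximal ideal (k discrete). Then A is geometrically
regular over k, i.e. A ⊗_k k' is a regular ring for every finite extension k' of k; and the adic
completion of A is isomorphic, as a ring, to a power series ring K[[T_1, …, T_n]] (existence of a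
ring isomorphism; no compatibility with k is asserted, and none holds in general when K is
inseparable over k). -/
theorem result {k A : Type u} [Field k] [CommRing A]
    [IsLocalRing A] [IsNoetherianRing A] [Algebra k A] (h : CAlgX.IsAdicFormallySmooth k A (maximalIdeal A)) :
    CAlg.IsGeometricallyRegular k A ∧
      ∃ n : ℕ, Nonempty (AdicCompletion (maximalIdeal A) A ≃+* MvPowerSeries (Fin n) (ResidueField A)) := by
  refine ⟨fun k' _ _ _ => isRegularRing_tensor h, ?_⟩
  exact exists_completion_equiv (S4571.result.mp h).1 (k := k)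


end Groth.Agent.S4512
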