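import Groth.Statements.S4704
import Groth.Agent.FlatAscent.Descent
import Groth.Agent.FormalFibre.FlatCompletion

set_option autoImplicit false
universe u
open EGA4

namespace Groth.Agent.S4704

open scoped TensorProduct

/-- Let A → A' be a local homomorphism of Noetherian local rings which is regular (flat, with
geometrically regular fibres). If the completion map of A' is regular (the formal fibres of A' are
geometrically regular), then the completion map of A is regular. -/
theorem result (A A' : Type u) [CommRing A] [CommRing A'] [IsNoetherianRing A]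
    [IsNoetherianRing A'] [IsLocalRing A] [IsLocalRing A'] [Algebra A A'] [IsLocalHom (algebraMap A A')]
    (hf : CAlg.IsRegularHom A A') (hA' : CAlg.IsRegularHom A' (EGA4.Cpl A')) :
    CAlg.IsRegularHom A (EGA4.Cpl A) := by
  have := Groth.Agent.CohenStruct.isNoetherianRing_completion A'
  have := Groth.Agent.CohenStruct.isNoetherianRing_completion A
  have := hf.1
  obtain ⟨alg, htow, hff⟩ :=
    Groth.Agent.FormalFibre.exists_faithfullyFlat_cplMap (C := A) (D := A')
  refine ⟨inferInstance, fun p _ => ⟨?_, fun k' _ _ hk => ?_⟩⟩
  · have hcomm : IsNoetherianRing (EGA4.Cpl A ⊗[A] p.ResidueField) :=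
      Algebra.EssFiniteType.isNoetherianRing (EGA4.Cpl A) _
    exact isNoetherianRing_of_ringEquiv (EGA4.Cpl A ⊗[A] p.ResidueField)
      (Algebra.TensorProduct.comm A (EGA4.Cpl A) p.ResidueField).toRingEquiv
  letI := alg
  haveI := htow
  haveI := hff
  let : Algebra A k' := ((algebraMap p.ResidueField k').comp (algebraMap A p.ResidueField)).toAlgebra
  have : IsScalarTower A p.ResidueField k' := .of_algebraMap_eq fun _ => rfl
  exact Groth.Agent.FlatAscent.descend_base_change (B := EGA4.Cpl A) (C := EGA4.Cpl A') p k'
    (fun R _ => IsRegularRing R)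
    (fun _ _ _ _ e h => haveI := h; IsRegularRing.of_ringEquiv e)
    (fun R T _ _ _ _ h => haveI := h; Groth.Agent.J2Lib.isRegularRing_of_faithfullyFlat R T)
    (Groth.Agent.FlatAscent.isGeometricallyRegular_comp A A' (EGA4.Cpl A') hf hA' p (by
      have := Algebra.EssFiniteType.isNoetherianRing (EGA4.Cpl A') (EGA4.Cpl A' ⊗[A] p.ResidueField)
      exact isNoetherianRing_of_ringEquiv (EGA4.Cpl A' ⊗[A] p.ResidueField)
        (Algebra.TensorProduct.comm A (EGA4.Cpl A') p.ResidueField).toRingEquiv) k' hk)

end Groth.Agent.S4704
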