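import Groth.Statements.S9259
import Groth.Agent.FlatAscent.IadicFibre2
import Groth.Agent.FlatAscent.Smooth
-- import your own Groth.Agent.* helpers here

set_option autoImplicit false
universe u
open CAlg

namespace Groth.Agent.S9259

open scoped TensorProduct

/-- The fibres of `R → Λ_q` are those of `R_p → Λ_q`. -/
theorem local_of_regular {R Λ : Type u} [CommRing R] [CommRing Λ] [Algebra R Λ] [IsNoetherianRing Λ]
    (h : CAlg.IsRegularHom R Λ) (q : Ideal Λ) [q.IsPrime] :
    letI := (Localization.localRingHom (Ideal.comap (algebraMap R Λ) q) q (algebraMap R Λ) rfl).toAlgebra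
    CAlg.IsRegularHom (Localization.AtPrime (Ideal.comap (algebraMap R Λ) q))
      (Localization.AtPrime q) := by
  let p := q.comap (algebraMap R Λ)
  let Rp := Localization.AtPrime p
  let Λq := Localization.AtPrime q
  let : Algebra Rp Λq := (Localization.localRingHom p q (algebraMap R Λ) rfl).toAlgebra
  have : IsScalarTower R Rp Λq := .of_algebraMap_eq fun x => by
    rw [RingHom.algebraMap_toAlgebra, Localization.localRingHom_to_map, ← IsScalarTower.algebraMap_apply]
  have := h.1
  have : Module.Flat R Λq := Module.Flat.trans R Λ Λq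
  have hflat : Module.Flat Rp Λq :=
    (Module.flat_iff_of_isLocalization Rp p.primeCompl Λq).2 inferInstance
  refine ⟨hflat, fun p' _ => ?_⟩
  have h1 : CAlg.IsGeometricallyRegular p'.ResidueField (p'.Fiber Λq) := by
    intro k' _ _ hk
    let : Algebra Rp k' := ((algebraMap p'.ResidueField k').comp (algebraMap Rp p'.ResidueField)).toAlgebra
    have : IsScalarTower Rp p'.ResidueField k' := .of_algebraMap_eq fun _ => rfl
    let : Algebra R k' := ((algebraMap Rp k').comp (algebraMap R Rp)).toAlgebra
    have : IsScalarTower R Rp k' := .of_algebraMap_eq fun _ => rfl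
    let p₀ : Ideal R := RingHom.ker (algebraMap R k')
    have : p₀.IsPrime := RingHom.ker_isPrime _
    let : Algebra p₀.ResidueField k' := (Ideal.ResidueField.lift p₀ (algebraMap R k') le_rfl
      fun x hx => isUnit_iff_ne_zero.mpr hx).toAlgebra
    have : IsScalarTower R p₀.ResidueField k' :=
      .of_algebraMap_eq fun x => (Ideal.ResidueField.lift_algebraMap ..).symm
    have : Algebra.EssFiniteType R Rp := Algebra.EssFiniteType.of_isLocalization Rp p.primeCompl
    have : Algebra.EssFiniteType Rp k' := Algebra.EssFiniteType.comp Rp p'.ResidueField k'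
    have : Algebra.EssFiniteType R k' := Algebra.EssFiniteType.comp R Rp k'
    have : Algebra.EssFiniteType p₀.ResidueField k' := Algebra.EssFiniteType.of_comp R p₀.ResidueField k'
    have := (h.2 p₀).1
    have : IsRegularRing (k' ⊗[R] Λ) := Groth.Agent.FlatAscent.isRegularRing_transport
      (Algebra.TensorProduct.cancelBaseChange R p₀.ResidueField k' k' Λ).toRingEquiv
      (Groth.Agent.FlatAscent.isRegularRing_of_geometricallyRegular (h.2 p₀).2 k')
    let : Algebra (k' ⊗[R] Λ) (k' ⊗[R] Λq) :=
      (Algebra.TensorProduct.map (AlgHom.id k' k') (IsScalarTower.toAlgHom R Λ Λq)).toRingHom.toAlgebra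
    have : IsScalarTower k' (k' ⊗[R] Λ) (k' ⊗[R] Λq) :=
      .of_algebraMap_eq fun c => ((Algebra.TensorProduct.map (AlgHom.id k' k')
        (IsScalarTower.toAlgHom R Λ Λq)).commutes c).symm
    have := IsLocalization.tensorProduct_tensorProduct_right (R := R) (S := k') q.primeCompl Λq
      (RingHom.ext fun c => by simp [RingHom.algebraMap_toAlgebra])
    have hr : IsRegularRing (k' ⊗[R] Λq) := Groth.Agent.PP16Lib.isRegularRing_of_isLocalization
      (T := k' ⊗[R] Λ) (q.primeCompl.map (Algebra.TensorProduct.includeRight (R := R) (A := k')))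
    have := IsLocalization.tensorProduct_compatibleSMul p.primeCompl Rp k' Λq
    exact Groth.Agent.FlatAscent.isRegularRing_transport
      ((Algebra.TensorProduct.equivOfCompatibleSMul R Rp Rp k' Λq).symm.toRingEquiv.trans
        (Algebra.TensorProduct.cancelBaseChange Rp p'.ResidueField k' k' Λq).symm.toRingEquiv) hr
  exact ⟨Groth.Agent.FlatAscent.isNoetherianRing_of_geometricallyRegular h1, h1⟩

/-- Regularity from the local maps at maximal ideals. -/
theorem regular_of_local {R Λ : Type u} [CommRing R] [CommRing Λ] [Algebra R Λ] [IsNoetherianRing Λ]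
    (h : ∀ (n : Ideal Λ) [n.IsMaximal],
        letI := (Localization.localRingHom (Ideal.comap (algebraMap R Λ) n) n (algebraMap R Λ) rfl).toAlgebra
        CAlg.IsRegularHom (Localization.AtPrime (Ideal.comap (algebraMap R Λ) n))
          (Localization.AtPrime n)) : CAlg.IsRegularHom R Λ := by
  have hflat : Module.Flat R Λ := by
    refine Module.flat_of_isLocalized_maximal Λ Λ (fun P _ => Localization.AtPrime P)
      (fun P _ => Algebra.linearMap Λ (Localization.AtPrime P)) fun P hP => ?_
    let p := P.comap (algebraMap R Λ)
    let : Algebra (Localization.AtPrime p) (Localization.AtPrime P) :=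
      (Localization.localRingHom p P (algebraMap R Λ) rfl).toAlgebra
    have : IsScalarTower R (Localization.AtPrime p) (Localization.AtPrime P) := .of_algebraMap_eq fun x => by
      rw [RingHom.algebraMap_toAlgebra, Localization.localRingHom_to_map, ← IsScalarTower.algebraMap_apply]
    exact (Module.flat_iff_of_isLocalization (Localization.AtPrime p) p.primeCompl _).1 (h P).1
  refine ⟨hflat, fun p₀ _ => ?_⟩
  have h1 : CAlg.IsGeometricallyRegular p₀.ResidueField (p₀.Fiber Λ) := by
    intro k' _ _ hk
    let : Algebra R k' := ((algebraMap p₀.ResidueField k').comp (algebraMap R p₀.ResidueField)).toAlgebra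
    have : IsScalarTower R p₀.ResidueField k' := .of_algebraMap_eq fun _ => rfl
    have : Algebra.EssFiniteType R k' := Algebra.EssFiniteType.comp R p₀.ResidueField k'
    have : IsNoetherianRing (k' ⊗[R] Λ) := by
      have := Algebra.EssFiniteType.isNoetherianRing Λ (Λ ⊗[R] k')
      exact isNoetherianRing_of_ringEquiv _ (Algebra.TensorProduct.comm R Λ k').toRingEquiv
    refine Groth.Agent.FlatAscent.isRegularRing_transport
      (Algebra.TensorProduct.cancelBaseChange R p₀.ResidueField k' k' Λ).symm.toRingEquiv
      (isRegularRing_iff.mpr fun Q hQ => ?_)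
    obtain ⟨n, hn, hqn⟩ := Ideal.exists_le_maximal
      (Q.comap (Algebra.TensorProduct.includeRight : Λ →ₐ[R] k' ⊗[R] Λ).toRingHom)
      (Ideal.IsPrime.ne_top inferInstance)
    let p := n.comap (algebraMap R Λ)
    let D := Localization.AtPrime n
    let : Algebra (Localization.AtPrime p) D :=
      (Localization.localRingHom p n (algebraMap R Λ) rfl).toAlgebra
    have : IsScalarTower R (Localization.AtPrime p) D := .of_algebraMap_eq fun x => by
      rw [RingHom.algebraMap_toAlgebra, Localization.localRingHom_to_map, ← IsScalarTower.algebraMap_apply]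
    have hD : IsRegularRing (k' ⊗[p₀.ResidueField] p₀.Fiber D) :=
      Groth.Agent.FlatAscent.Iadic.fibre_of_localization p.primeCompl (Localization.AtPrime p)
        (fun R _ => IsRegularRing R)
        (fun _ _ _ _ e h => Groth.Agent.FlatAscent.isRegularRing_transport e h)
        (fun R _ hR => by
          have : IsNoetherianRing R := isNoetherian_of_subsingleton R R
          exact isRegularRing_iff.mpr fun Q hQ => absurd (Subsingleton.elim Q ⊤) hQ.ne_top)
        (fun p' _ L _ _ hL => ((h n).2 p').2 L hL) p₀ k'
    have hD' : IsRegularRing (k' ⊗[R] D) := Groth.Agent.FlatAscent.isRegularRing_transport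
      (Algebra.TensorProduct.cancelBaseChange R p₀.ResidueField k' k' D).toRingEquiv hD
    let : Algebra (k' ⊗[R] Λ) (k' ⊗[R] D) :=
      (Algebra.TensorProduct.map (AlgHom.id k' k') (IsScalarTower.toAlgHom R Λ D)).toRingHom.toAlgebra
    have : IsScalarTower k' (k' ⊗[R] Λ) (k' ⊗[R] D) :=
      .of_algebraMap_eq fun c => ((Algebra.TensorProduct.map (AlgHom.id k' k')
        (IsScalarTower.toAlgHom R Λ D)).commutes c).symm
    let M := n.primeCompl.map (Algebra.TensorProduct.includeRight (R := R) (A := k') (B := Λ))
    have : IsLocalization M (k' ⊗[R] D) :=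
      IsLocalization.tensorProduct_tensorProduct_right (R := R) (S := k') n.primeCompl D
        (RingHom.ext fun c => by simp [RingHom.algebraMap_toAlgebra])
    have hdis : Disjoint (M : Set (k' ⊗[R] Λ)) Q := Set.disjoint_left.mpr fun x hx hxQ => by
      obtain ⟨s, hs, rfl⟩ := hx
      exact hs (hqn hxQ)
    have := IsLocalization.isPrime_of_isPrime_disjoint M (k' ⊗[R] D) Q hQ hdis
    have key : ∀ (P : Ideal (k' ⊗[R] Λ)) [P.IsPrime], P = Q → IsRegularLocalRing (Localization.AtPrime P) →
        IsRegularLocalRing (Localization.AtPrime Q) := by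
      rintro P _ rfl h; exact h
    exact key _ (IsLocalization.comap_map_of_isPrime_disjoint M (k' ⊗[R] D) hQ hdis)
      ((Groth.Agent.PP16Lib.isRegularLocalRing_atPrime_iff M
        (Q.map (algebraMap (k' ⊗[R] Λ) (k' ⊗[R] D)))).mpr inferInstance)
  exact ⟨Groth.Agent.FlatAscent.isNoetherianRing_of_geometricallyRegular h1, h1⟩

/-- Regularity of a ring map is a local property: for a ring map R → Λ with Noetherian target,
regularity of R → Λ is equivalent to regularity of every induced local map R_p → Λ_q (q a prime of
Λ, p = q ∩ R), and also to regularity of those induced maps at the maximal ideals q of Λ. (The maps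
of local rings are the canonical localized maps.) -/
theorem result (R Λ : Type u) [CommRing R] [CommRing Λ] [Algebra R Λ]
    [IsNoetherianRing Λ] :
    (CAlg.IsRegularHom R Λ ↔
      ∀ (q : Ideal Λ) [q.IsPrime],
        letI := (Localization.localRingHom (Ideal.comap (algebraMap R Λ) q) q (algebraMap R Λ) rfl).toAlgebra
        CAlg.IsRegularHom (Localization.AtPrime (Ideal.comap (algebraMap R Λ) q))
          (Localization.AtPrime q)) ∧
    (CAlg.IsRegularHom R Λ ↔
      ∀ (n : Ideal Λ) [n.IsMaximal],
        letI := (Localization.localRingHom (Ideal.comap (algebraMap R Λ) n) n (algebraMap R Λ) rfl).toAlgebra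
        CAlg.IsRegularHom (Localization.AtPrime (Ideal.comap (algebraMap R Λ) n))
          (Localization.AtPrime n)) := by
  exact ⟨⟨fun h q _ => local_of_regular h q, fun h => regular_of_local fun n hn => h n⟩,
    ⟨fun h n _ => local_of_regular h n, fun h => regular_of_local h⟩⟩

end Groth.Agent.S9259
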