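import Groth.Statements.S9257
import Groth.Agent.GRing17.Maximal
import Groth.Agent.GRingLib.Transport
import Groth.Agent.FlatAscent.QuotientFibre
-- import your own Groth.Agent.* helpers here

set_option autoImplicit false
universe u
open CAlg

namespace Groth.Agent.S9257

open TensorProduct IsLocalRing

/-- `R_p / q R_p` is the localization of `R / q` at `p / q`. -/
theorem isLocalization_quotient {R : Type u} [CommRing R] (p q : Ideal R) [p.IsPrime] (hqp : q ≤ p)
    (P : Ideal (R ⧸ q)) [P.IsPrime] (hP : P.comap (Ideal.Quotient.mk q) = p) :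
    IsLocalization P.primeCompl (Localization.AtPrime p ⧸ q.map (algebraMap R (Localization.AtPrime p))) := by
  have hsub : Algebra.algebraMapSubmonoid (R ⧸ q) p.primeCompl = P.primeCompl := by
    ext x
    refine ⟨?_, fun hx => ?_⟩
    · rintro ⟨a, ha, rfl⟩ h
      exact ha (hP.le h)
    · obtain ⟨a, rfl⟩ := Ideal.Quotient.mk_surjective x
      exact ⟨a, fun h => hx (show a ∈ P.comap (Ideal.Quotient.mk q) from hP.ge h), rfl⟩
  have h0 : IsLocalization (Algebra.algebraMapSubmonoid (R ⧸ q) p.primeCompl)
      (Localization.AtPrime p ⧸ q.map (algebraMap R (Localization.AtPrime p))) := inferInstance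
  rwa [hsub] at h0

/-- A Noetherian ring R is a G-ring exactly when, for all primes q ⊆ p of R, the completion of the local
domain (R/q)_p tensored with its fraction field κ(q) is geometrically regular over κ(q). Here the
pairs q ⊆ p are enumerated as primes P of R/q. -/
theorem result (R : Type u) [CommRing R] [IsNoetherianRing R] :
    CAlg.IsGRing R ↔
      ∀ (q : Ideal R) [q.IsPrime] (P : Ideal (R ⧸ q)) [P.IsPrime],
        CAlg.IsGeometricallyRegular (⊥ : Ideal (Localization.AtPrime P)).ResidueField
          (EGA4.formalFibre (Localization.AtPrime P) (⊥ : Ideal (Localization.AtPrime P))) := by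
  constructor
  · intro h q _ P _
    let p := P.comap (Ideal.Quotient.mk q)
    have hqp : q ≤ p := fun x hx => by
      rw [Ideal.mem_comap, Ideal.Quotient.eq_zero_iff_mem.mpr hx]; exact P.zero_mem
    have := isLocalization_quotient p q hqp P rfl
    let I := q.map (algebraMap R (Localization.AtPrime p))
    have : IsDomain (R ⧸ q) := Ideal.Quotient.isDomain q
    have : Nontrivial (Localization.AtPrime p ⧸ I) :=
      (IsLocalization.AtPrime.isLocalRing (Localization.AtPrime p ⧸ I) P).toNontrivial
    have : IsLocalRing (Localization.AtPrime p ⧸ I) := IsLocalRing.of_surjective' _ Ideal.Quotient.mk_surjective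
    have h' := Groth.Agent.GRingLib.isRegularHom_completion_of_equiv
      (R := Localization.AtPrime p ⧸ I) (R' := Localization.AtPrime P)
      (IsLocalization.algEquiv P.primeCompl (Localization.AtPrime p ⧸ I) (Localization.AtPrime P)).toRingEquiv
      (Groth.Agent.FlatAscent.isRegularHom_cpl_quotient (Localization.AtPrime p) (h.2 p) I)
    exact (h'.2 ⊥).2
  · intro h
    refine ⟨inferInstance, fun p _ => ⟨AdicCompletion.flat_of_isNoetherian _, fun 𝔮 _ => ?_⟩⟩
    have hg : CAlg.IsGeometricallyRegular 𝔮.ResidueField
        (𝔮.Fiber (EGA4.Cpl (Localization.AtPrime p))) := by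
      intro L _ _ hL
      let A := Localization.AtPrime p
      let q := 𝔮.comap (algebraMap R A)
      have hqp : q ≤ p := fun x hx => by
        by_contra hx'
        exact Ideal.IsPrime.ne_top ‹𝔮.IsPrime› (𝔮.eq_top_of_isUnit_mem hx
          (IsLocalization.map_units A (⟨x, hx'⟩ : p.primeCompl)))
      let P := p.map (Ideal.Quotient.mk q)
      have hP : P.IsPrime := Ideal.map_isPrime_of_surjective Ideal.Quotient.mk_surjective (by rwa [Ideal.mk_ker])
      have hPc : P.comap (Ideal.Quotient.mk q) = p := by
        rw [Ideal.comap_map_of_surjective' _ Ideal.Quotient.mk_surjective, Ideal.mk_ker, sup_eq_left.mpr hqp]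
      have := isLocalization_quotient p q hqp P hPc
      let I : Ideal A := q.map (algebraMap R A)
      have hI : I = 𝔮 := IsLocalization.map_under p.primeCompl A 𝔮
      have : IsDomain (R ⧸ q) := Ideal.Quotient.isDomain q
      have : Nontrivial (A ⧸ I) := Ideal.Quotient.nontrivial_iff.mpr (hI ▸ Ideal.IsPrime.ne_top ‹_›)
      have : IsLocalRing (A ⧸ I) := IsLocalRing.of_surjective' _ Ideal.Quotient.mk_surjective
      let S := Localization.AtPrime P
      let ε := IsLocalization.algEquiv P.primeCompl S (A ⧸ I)
      let : Algebra A L := ((algebraMap 𝔮.ResidueField L).comp (algebraMap A 𝔮.ResidueField)).toAlgebra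
      have : IsScalarTower A 𝔮.ResidueField L := .of_algebraMap_eq fun _ => rfl
      let : Algebra (A ⧸ I) L := (Ideal.Quotient.lift I (algebraMap A L) fun x hx => by
        show algebraMap 𝔮.ResidueField L (algebraMap A 𝔮.ResidueField x) = 0
        rw [Ideal.algebraMap_residueField_eq_zero.mpr (hI ▸ hx), map_zero]).toAlgebra
      have : IsScalarTower A (A ⧸ I) L := by
        exact IsScalarTower.of_algebraMap_eq (R := A) (S := A ⧸ I) (A := L) fun _ => rfl
      let : Algebra (R ⧸ q) L := ((algebraMap (A ⧸ I) L).comp (algebraMap (R ⧸ q) (A ⧸ I))).toAlgebra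
      have : IsScalarTower (R ⧸ q) (A ⧸ I) L := .of_algebraMap_eq fun _ => rfl
      let : Algebra S L := ((algebraMap (A ⧸ I) L).comp ε.toRingEquiv.toRingHom).toAlgebra
      have : IsScalarTower (R ⧸ q) S L := .of_algebraMap_eq fun x => by
        show algebraMap (A ⧸ I) L (algebraMap (R ⧸ q) (A ⧸ I) x) = algebraMap (A ⧸ I) L (ε (algebraMap (R ⧸ q) S x))
        rw [ε.commutes]
      have hinj : Function.Injective (algebraMap S L) := by
        have h1 : Function.Injective (algebraMap (A ⧸ I) L) := by
          refine (injective_iff_map_eq_zero _).2 fun x hx => ?_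
          obtain ⟨a, rfl⟩ := Ideal.Quotient.mk_surjective x
          change algebraMap 𝔮.ResidueField L (algebraMap A 𝔮.ResidueField a) = 0 at hx
          rw [map_eq_zero, Ideal.algebraMap_residueField_eq_zero] at hx
          exact Ideal.Quotient.eq_zero_iff_mem.mpr (hI ▸ hx)
        exact h1.comp ε.injective
      have : IsDomain S := inferInstance
      let K := (⊥ : Ideal S).ResidueField
      let : Algebra K L := (Ideal.ResidueField.lift ⊥ (algebraMap S L)
        (fun x hx => by rw [Ideal.mem_bot] at hx; rw [RingHom.mem_ker, hx, map_zero])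
        fun x hx => isUnit_iff_ne_zero.mpr fun h0 => hx ((Ideal.mem_bot).mpr (hinj (by rw [h0, map_zero])))).toAlgebra
      have : IsScalarTower S K L := .of_algebraMap_eq fun x => (Ideal.ResidueField.lift_algebraMap ..).symm
      let φ₀ : A →+* K := (algebraMap S K).comp (ε.symm.toRingEquiv.toRingHom.comp (Ideal.Quotient.mk I))
      have hφ₀ : ∀ a : A, algebraMap K L (φ₀ a) = algebraMap A L a := fun a => by
        show algebraMap K L (algebraMap S K (ε.symm (Ideal.Quotient.mk I a))) = _
        rw [← IsScalarTower.algebraMap_apply S K L]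
        show algebraMap (A ⧸ I) L (ε (ε.symm (Ideal.Quotient.mk I a))) = _
        rw [ε.apply_symm_apply]
        rfl
      let φ : 𝔮.ResidueField →+* K := Ideal.ResidueField.lift 𝔮 φ₀
        (fun x hx => by
          refine RingHom.mem_ker.mpr ((algebraMap K L).injective ?_)
          rw [hφ₀, map_zero]
          show algebraMap 𝔮.ResidueField L (algebraMap A 𝔮.ResidueField x) = 0
          rw [Ideal.algebraMap_residueField_eq_zero.mpr hx, map_zero])
        fun x hx => isUnit_iff_ne_zero.mpr fun h0 => by
          have h1 := congrArg (algebraMap K L) h0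
          rw [hφ₀, map_zero] at h1
          change algebraMap 𝔮.ResidueField L (algebraMap A 𝔮.ResidueField x) = 0 at h1
          rw [map_eq_zero, Ideal.algebraMap_residueField_eq_zero] at h1
          exact hx h1
      let : Algebra 𝔮.ResidueField K := φ.toAlgebra
      have : IsScalarTower 𝔮.ResidueField K L := .of_algebraMap_eq' (Ideal.ResidueField.ringHom_ext (RingHom.ext fun a => by
        show algebraMap 𝔮.ResidueField L (algebraMap A 𝔮.ResidueField a) = algebraMap K L (φ (algebraMap A 𝔮.ResidueField a))
        rw [show φ (algebraMap A 𝔮.ResidueField a) = φ₀ a from Ideal.ResidueField.lift_algebraMap .., hφ₀]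
        rfl))
      have : Module.Finite K L := Module.Finite.of_restrictScalars_finite 𝔮.ResidueField K L
      have hreg := h q P L inferInstance
      obtain ⟨εI⟩ := Groth.Agent.FlatAscent.exists_quotient_cpl_equiv A I
      obtain ⟨ε'⟩ := Groth.Agent.GRing17.exists_cpl_congr (A := R ⧸ q) (R := S) (R' := A ⧸ I) ε
      refine Groth.Agent.FlatAscent.isRegularRing_transport ?_ hreg
      refine (Algebra.TensorProduct.cancelBaseChange S K K L (EGA4.Cpl S)).toRingEquiv.trans ?_
      have : CompatibleSMul (R ⧸ q) S L (EGA4.Cpl S) :=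
        IsLocalization.tensorProduct_compatibleSMul P.primeCompl S _ _
      have : CompatibleSMul (R ⧸ q) (A ⧸ I) L (EGA4.Cpl (A ⧸ I)) :=
        IsLocalization.tensorProduct_compatibleSMul P.primeCompl (A ⧸ I) _ _
      have : IsScalarTower (A ⧸ I) (A ⧸ I) L := by
        exact IsScalarTower.of_algebraMap_eq (R := A ⧸ I) (S := A ⧸ I) (A := L) fun _ => rfl
      exact (Algebra.TensorProduct.equivOfCompatibleSMul (R ⧸ q) S L L (EGA4.Cpl S)).toRingEquiv.trans
        ((Algebra.TensorProduct.congr (AlgEquiv.refl (R := R ⧸ q) (A₁ := L)) ε').toRingEquiv.trans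
          ((Algebra.TensorProduct.equivOfCompatibleSMul (R ⧸ q) (A ⧸ I) L L (EGA4.Cpl (A ⧸ I))).symm.toRingEquiv.trans
            ((Algebra.TensorProduct.congr (AlgEquiv.refl (R := A ⧸ I) (A₁ := L)) εI).symm.toRingEquiv.trans
              ((Algebra.TensorProduct.cancelBaseChange A (A ⧸ I) (A ⧸ I) L (EGA4.Cpl A)).toRingEquiv.trans
                (Algebra.TensorProduct.cancelBaseChange A 𝔮.ResidueField 𝔮.ResidueField L (EGA4.Cpl A)).symm.toRingEquiv))))
    exact ⟨Groth.Agent.FlatAscent.isNoetherianRing_of_geometricallyRegular hg, hg⟩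

end Groth.Agent.S9257
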