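import Groth.Statements.S9604
import Groth.Agent.AdicEquiv.Basic

set_option autoImplicit false
universe u
open CAlg

namespace Groth.Agent.S9604

/-- Let R be a ring and I, J ideals of R with I^c ⊆ J and J^d ⊆ I for some integers c, d > 0. Then for
an R-module, being complete in the I-adic topology is equivalent to being complete in the J-adic
topology. -/
theorem result {R : Type u} [CommRing R] (I J : Ideal R) (c d : ℕ) (hc : 0 < c) (hd : 0 < d) (hI : I ^ c ≤ J) (hJ : J ^ d ≤ I) (M : Type u) [AddCommGroup M] [Module R M] :
    IsAdicComplete I M ↔ IsAdicComplete J M := by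

  exact ⟨Groth.Agent.AdicEquiv.of_pow_le_pow_le d c hd hJ hI,
    Groth.Agent.AdicEquiv.of_pow_le_pow_le c d hc hI hJ⟩

end Groth.Agent.S9604
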