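import Groth.Statements.S19474
import Groth.Agent.PP16Lib.RegularCompletion
import Groth.Agent.DepthLib.FlatDepth
import Mathlib.RingTheory.AdicCompletion.AsTensorProduct
-- import your own Groth.Agent.* helpers here

set_option autoImplicit false
universe u
open CAlg IsLocalRing

namespace Groth.Agent.S19474

open IsLocalRing in
theorem regular_iff_atPrime {R : Type u} [CommRing R] [IsLocalRing R] (M : Ideal R) [M.IsPrime]
    (hM : M = maximalIdeal R) : IsRegularLocalRing R ↔ IsRegularLocalRing (Localization.AtPrime M) := by
  subst hM
  let e : R ≃+* Localization.AtPrime (maximalIdeal R) :=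
    (IsLocalization.atUnits R (maximalIdeal R).primeCompl (S := Localization.AtPrime (maximalIdeal R))
      (fun x hx => by_contra fun h => hx h)).toRingEquiv
  exact ⟨fun _ => IsRegularLocalRing.of_ringEquiv e, fun _ => IsRegularLocalRing.of_ringEquiv e.symm⟩

/-- Let A be a Noetherian local ring and I an ideal of A different from A. Then the I-adic completion of
A has the same Krull dimension as A, and A is a regular local ring if and only if the I-adic
completion of A is a regular local ring (in particular the completion is then local and Noetherian).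
The case where I is the maximal ideal is the classical one; here I is any proper ideal. -/
theorem result (A : Type u) [CommRing A]
    [IsLocalRing A] [IsNoetherianRing A] (I : Ideal A) (hI : I ≠ ⊤) :
    ringKrullDim (AdicCompletion I A) = ringKrullDim A ∧
      (IsRegularLocalRing A ↔ IsRegularLocalRing (AdicCompletion I A)) := by
  haveI : IsNoetherianRing (AdicCompletion I A) := S0543.result A I
  have hle : I ≤ maximalIdeal A := le_maximalIdeal hI
  let M := (maximalIdeal A).map (algebraMap A (AdicCompletion I A))
  haveI hM : M.IsMaximal := AdicCompletion.isMaximal_map_of_le I _ hle (IsNoetherian.noetherian I)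
  haveI := AdicCompletion.isAdicComplete_self I (IsNoetherian.noetherian I)
  have huniq : ∀ N : Ideal (AdicCompletion I A), N.IsMaximal → N = M := fun N hN => by
    have hIN : I.map (algebraMap A (AdicCompletion I A)) ≤ N :=
      (IsAdicComplete.le_jacobson_bot _).trans (sInf_le ⟨bot_le, hN⟩)
    refine (hM.eq_of_le hN.ne_top (Ideal.map_le_iff_le_comap.mpr fun a ha => ?_)).symm
    by_contra h
    obtain ⟨c, i, hi, hci⟩ := hN.exists_inv h
    obtain ⟨x, hx⟩ := PP16Lib.exists_sub_mem_map_pow I 1 c
    have h1 : algebraMap A (AdicCompletion I A) (x * a - 1) ∈ N := by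
      rw [map_sub, map_mul, map_one, show (algebraMap A (AdicCompletion I A) x) * algebraMap A _ a - 1 =
        (algebraMap A (AdicCompletion I A) x - c) * algebraMap A _ a - i by linear_combination hci]
      exact sub_mem (Ideal.mul_mem_right _ _ (hIN (by rwa [pow_one] at hx))) hi
    exact hN.ne_top (Ideal.eq_top_of_isUnit_mem _ h1 (IsUnit.map _ (by
      rw [← IsUnit.neg_iff, neg_sub]
      exact (isUnit_or_isUnit_one_sub_self (x * a)).resolve_left fun hu =>
        (mem_maximalIdeal _).mp (Ideal.mul_mem_left _ x ha) hu)))
  haveI : IsLocalRing (AdicCompletion I A) := IsLocalRing.of_unique_max_ideal ⟨M, hM, huniq⟩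
  have hMeq : M = maximalIdeal (AdicCompletion I A) := IsLocalRing.eq_maximalIdeal hM
  haveI : M.LiesOver (maximalIdeal A) := ⟨(maximalIdeal.isMaximal A).eq_of_le
    (Ideal.comap_ne_top _ hM.ne_top) Ideal.le_comap_map⟩
  refine ⟨?_, ?_⟩
  · have h := DepthLib.height_eq_of_mem_minimalPrimes_map (maximalIdeal A) M (by
      rw [Ideal.minimalPrimes_eq_subsingleton_self]; exact Set.mem_singleton _)
    rw [hMeq] at h
    rw [← maximalIdeal_height_eq_ringKrullDim, ← maximalIdeal_height_eq_ringKrullDim, h]
  · rw [regular_iff_atPrime (maximalIdeal A) rfl,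
      PP16Lib.isRegularLocalRing_atPrime_completion_iff I hle M rfl]
    exact (regular_iff_atPrime M hMeq).symm

end Groth.Agent.S19474
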