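import Groth.Statements.S9295
import Groth.Agent.FlatAscent.Descent
import Groth.Agent.HenselLib.FaithfulDescent

set_option autoImplicit false
universe u
open CAlg

namespace Groth.Agent.S9295

open scoped TensorProduct

/-- For ring maps A → B → C, if the composite A → C is a regular map and C is flat over B with every
prime of B lying under a prime of C (that is, B → C is faithfully flat), then A → B is a regular
map. -/
theorem result (A B C : Type u) [CommRing A] [CommRing B] [CommRing C]
    [Algebra A B] [Algebra B C] [Algebra A C] [IsScalarTower A B C]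
    (hAC : CAlg.IsRegularHom A C) [Module.Flat B C]
    (hsurj : Function.Surjective (PrimeSpectrum.comap (algebraMap B C))) :
    CAlg.IsRegularHom A B := by
  have := hAC.1
  have : Module.FaithfullyFlat B C := Module.FaithfullyFlat.of_comap_surjective hsurj
  refine ⟨Groth.Agent.FlatAscent.flat_of_faithfullyFlat (C := C), fun p _ => ⟨?_, fun k' _ _ hk => ?_⟩⟩
  · have := (hAC.2 p).1
    have h : IsNoetherianRing (p.ResidueField ⊗[p.ResidueField] p.Fiber B) := by
      refine Groth.Agent.FlatAscent.descend_base_change (B := B) (C := C) p p.ResidueField
        (fun R _ => IsNoetherianRing R)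
        (fun R _ _ _ e h => haveI := h; isNoetherianRing_of_ringEquiv R e)
        (fun R T _ _ _ _ h => haveI := h; Groth.Agent.HenselLib.isNoetherianRing_of_faithfullyFlat R T) ?_
      exact isNoetherianRing_of_ringEquiv (p.Fiber C)
        (Algebra.TensorProduct.lid p.ResidueField (p.Fiber C)).toRingEquiv.symm
    exact isNoetherianRing_of_ringEquiv (p.ResidueField ⊗[p.ResidueField] p.Fiber B)
      (Algebra.TensorProduct.lid p.ResidueField (p.Fiber B)).toRingEquiv
  let : Algebra A k' := ((algebraMap p.ResidueField k').comp (algebraMap A p.ResidueField)).toAlgebra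
  have : IsScalarTower A p.ResidueField k' := .of_algebraMap_eq fun _ => rfl
  exact Groth.Agent.FlatAscent.descend_base_change (B := B) (C := C) p k'
    (fun R _ => IsRegularRing R)
    (fun R _ _ _ e h => haveI := h; IsRegularRing.of_ringEquiv e)
    (fun R T _ _ _ _ h => haveI := h; Groth.Agent.J2Lib.isRegularRing_of_faithfullyFlat R T)
    ((hAC.2 p).2 k' hk)

end Groth.Agent.S9295
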