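import Groth.Statements.S18939
import Groth.Agent.RegSeq.Imm
-- import your own Groth.Agent.* helpers here

set_option autoImplicit false
universe u
open LCI

namespace Groth.Agent.S18939

/-- Let R be a commutative ring, I a proper ideal of R and f_1, …, f_r a Koszul-regular sequence of
elements of I generating I. Then I/I² is a free R/I-module of rank r, with basis the classes of f_1,
…, f_r. -/
theorem result {R : Type u} [CommRing R] {I : Ideal R} (hI : I ≠ ⊤)
    (r : ℕ) (f : Fin r → I) (hf : LCI.IsKoszulRegularSeq R (List.ofFn (fun i => (f i : R))))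
    (hfI : Ideal.span (Set.range (fun i => (f i : R))) = I) :
    ∃ b : Module.Basis (Fin r) (R ⧸ I) I.Cotangent, ∀ i, b i = I.toCotangent (f i) := by
  set g : Fin r → R := fun i => (f i : R) with hg
  have hq : CAlgX.IsQuasiRegular g := by
    have h := S2103.result _ (Groth.Agent.RegSeq.isH1Regular_of_isKoszulRegularSeq hf)
    have hget : (List.ofFn g).get = g ∘ Fin.cast List.length_ofFn := funext fun i => by simp only [List.get_eq_getElem, List.getElem_ofFn, Function.comp_apply]; rfl
    rw [hget] at h
    exact (Groth.Agent.RegSeq.cast_iff (@CAlgX.IsQuasiRegular R _) List.length_ofFn g).1 h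
  let v : Fin r → I.Cotangent := fun i => I.toCotangent (f i)
  have hli : LinearIndependent (R ⧸ I) v := by
    rw [Fintype.linearIndependent_iff]
    intro c hc i
    obtain ⟨c', hc'⟩ : ∃ c' : Fin r → R, ∀ i, Ideal.Quotient.mk I (c' i) = c i :=
      ⟨fun i => (Ideal.Quotient.mk_surjective (c i)).choose, fun i => (Ideal.Quotient.mk_surjective (c i)).choose_spec⟩
    have h0 : I.toCotangent (∑ i, c' i • f i) = 0 := by
      rw [← hc, map_sum]
      refine Finset.sum_congr rfl fun i _ => ?_
      rw [map_smul, ← hc' i]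
      rfl
    rw [Ideal.toCotangent_eq_zero] at h0
    simp only [Submodule.coe_sum, Submodule.coe_smul, smul_eq_mul] at h0
    let P : MvPolynomial (Fin r) R := ∑ i, MvPolynomial.C (c' i) * MvPolynomial.X i
    have hP : P.IsHomogeneous 1 := MvPolynomial.IsHomogeneous.sum _ _ _ fun i _ =>
      MvPolynomial.isHomogeneous_C_mul_X _ _
    have hcoef := hq 1 P hP (by rw [hfI]; simpa [P, map_sum, hg] using h0) (Finsupp.single i 1)
    rw [hfI] at hcoef
    have e : P.coeff (Finsupp.single i 1) = c' i := by
      simp only [P, MvPolynomial.coeff_sum, MvPolynomial.coeff_C_mul, MvPolynomial.coeff_X']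
      rw [Finset.sum_eq_single i (fun b _ hb => by
        rw [if_neg (fun h => hb (Finsupp.single_left_injective one_ne_zero h)), mul_zero])
        (fun h => absurd (Finset.mem_univ i) h), if_pos rfl, mul_one]
    rw [e] at hcoef
    rw [← hc' i]
    exact Ideal.Quotient.eq_zero_iff_mem.2 hcoef
  refine ⟨Module.Basis.mk hli ?_, fun i => by rw [Module.Basis.mk_apply]⟩
  rintro x -
  obtain ⟨⟨y, hy⟩, rfl⟩ := I.toCotangent_surjective x
  obtain ⟨c, hc⟩ := Ideal.mem_span_range_iff_exists_fun.1 (show y ∈ Ideal.span (Set.range g) by rw [hfI]; exact hy)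
  have : (⟨y, hy⟩ : I) = ∑ i, c i • f i := Subtype.ext (by simpa [Submodule.coe_sum, hg] using hc.symm)
  rw [this, map_sum]
  refine Submodule.sum_mem _ fun i _ => ?_
  rw [map_smul, ← IsScalarTower.algebraMap_smul (R ⧸ I) (c i)]
  exact Submodule.smul_mem _ _ (Submodule.subset_span ⟨i, rfl⟩)

end Groth.Agent.S18939
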