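import Groth.Statements.S2157
import Groth.Agent.ConormalSection.Main
import Groth.Agent.QCohLib.Pullback
import Mathlib.RingTheory.Kaehler.Basic

set_option autoImplicit false
universe u
open CategoryTheory AlgebraicGeometry
open Mor

namespace Groth.Agent.S2157

open Limits

variable (R A : Type u) [CommRing R] [CommRing A] [Algebra R A]

/-- multiplication -/
noncomputable def mulHom : CommRingCat.of (TensorProduct R A A) ⟶ CommRingCat.of A :=
  CommRingCat.ofHom (Algebra.TensorProduct.lmul' R : TensorProduct R A A →ₐ[R] A).toRingHom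

theorem conormal_diagonal :
    Nonempty (Omega.sheaf (Spec.map (CommRingCat.ofHom (algebraMap R A))) ≅
      Omega.conormal (Spec.map (mulHom R A))) := by
  set f := Spec.map (CommRingCat.ofHom (algebraMap R A))
  have he : Spec.map (mulHom R A) ≫
      Spec.map (CommRingCat.ofHom (Algebra.TensorProduct.includeLeftRingHom)) = 𝟙 _ := by
    rw [← Spec.map_comp, ← Spec.map_id]
    congr 1; ext x; exact _root_.mul_one x
  have hd : pullback.diagonal f = Spec.map (mulHom R A) ≫ (pullbackSpecIso R A A).inv :=
    diagonal_SpecMap R A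
  have : QuasiCompact (pullback.diagonal f) := inferInstance
  exact (ConormalSection.conormal_baseChange (p := Spec.map _) (e := Spec.map (mulHom R A))
    (π := (pullbackSpecIso R A A).hom) (q := pullback.fst f f) (s := 𝟙 _) (e' := pullback.diagonal f) he
    (IsPullback.of_horiz_isIso ⟨by rw [pullbackSpecIso_hom_fst, Category.comp_id]⟩)
    (by rw [hd, Category.assoc, Iso.inv_hom_id, Category.comp_id, Category.id_comp])
    (pullback.diagonal_fst f)).map (· ≪≫ (Scheme.Modules.pullbackId _).app _)

/-- global sections of an ideal sheaf on an affine scheme -/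
theorem idealΓ {B C : CommRingCat.{u}} (φ : B ⟶ C) :
    Nonempty (QCohLib.ΓR (ClSub.idealMod (Spec.map φ).ker) ≅
      ModuleCat.of B (RingHom.ker φ.hom)) := by
  let K := (Spec.map φ).ker
  let γ : Γ(Spec B, ⊤) →+* B := (Scheme.ΓSpecIso B).hom.hom
  have hnat : ∀ a : Γ(Spec B, ⊤), φ (γ a) = (Scheme.ΓSpecIso C).hom ((Spec.map φ).app ⊤ a) := fun a =>
    (congr(($(Scheme.ΓSpecIso_naturality φ)) a)).symm
  have hK : ∀ a : Γ(Spec B, ⊤), a ∈ K.ideal ⟨⊤, isAffineOpen_top _⟩ ↔ γ a ∈ RingHom.ker φ.hom := by
    intro a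
    rw [Scheme.Hom.ker_apply, RingHom.mem_ker, RingHom.mem_ker]
    show (Spec.map φ).app ⊤ a = 0 ↔ φ (γ a) = 0
    rw [hnat]
    exact ⟨fun h => h ▸ map_zero _, fun h =>
      (Scheme.ΓSpecIso C).commRingCatIsoToRingEquiv.injective (h.trans (map_zero _).symm)⟩
  let l : QCohLib.ΓR (ClSub.idealMod K) →ₗ[B] RingHom.ker φ.hom :=
    { toFun := fun m => ⟨γ (OmegaSh.idealSect K ⊤ m),
        (hK _).1 (ConormalSection.idealSect_mem K ⟨⊤, isAffineOpen_top _⟩ m)⟩
      map_add' := fun m n => Subtype.ext ((congrArg γ (map_add _ m n)).trans (map_add γ _ _))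
      map_smul' := fun b m => Subtype.ext (by
        show γ (OmegaSh.idealSect K ⊤ ((Scheme.ΓSpecIso B).inv b • (show Γ(ClSub.idealMod K, ⊤) from m))) =
          b * γ (OmegaSh.idealSect K ⊤ m)
        rw [ConormalSection.idealSect_smul, map_mul]
        congr 1
        exact congr(($((Scheme.ΓSpecIso B).inv_hom_id)) b)) }
  refine ⟨(LinearEquiv.ofBijective l ⟨fun m n h => ?_, fun i => ?_⟩).toModuleIso⟩
  · exact ConormalSection.idealSect_injective K ⊤
      ((Scheme.ΓSpecIso B).commRingCatIsoToRingEquiv.injective (congrArg Subtype.val h))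
  · obtain ⟨a, ha⟩ := (Scheme.ΓSpecIso B).commRingCatIsoToRingEquiv.surjective i.1
    obtain ⟨m, hm⟩ := ConormalSection.exists_idealSect_eq K ⟨⊤, isAffineOpen_top _⟩ a
      ((hK a).2 (by show (Scheme.ΓSpecIso B).hom a ∈ _; exact ha ▸ i.2))
    exact ⟨m, Subtype.ext ((congrArg γ hm).trans ha)⟩

open scoped ChangeOfRings in
theorem extend_ideal :
    Nonempty ((ModuleCat.extendScalars (mulHom R A).hom).obj
      (ModuleCat.of (TensorProduct R A A) (KaehlerDifferential.ideal R A)) ≅
        ModuleCat.of A (Ω[A⁄R])) := by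
  let φ := (mulHom R A).hom
  have hsm : ∀ (b : TensorProduct R A A) (w : Ω[A⁄R]), b • w = φ b • w := fun b w => by
    obtain ⟨i, rfl⟩ := KaehlerDifferential.fromIdeal_surjective R A w
    rw [← IsScalarTower.algebraMap_smul (TensorProduct R A A) (φ b), ← sub_eq_zero, ← sub_smul,
      ← map_smul]
    refine (Ideal.toCotangent_eq_zero _ _).2 ?_
    rw [pow_two]
    refine Ideal.mul_mem_mul ?_ i.2
    rw [RingHom.mem_ker, map_sub, sub_eq_zero]
    exact (_root_.mul_one (φ b)).symm
  letI : Algebra (TensorProduct R A A) A := φ.toAlgebra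
  let g : ModuleCat.of (TensorProduct R A A) (KaehlerDifferential.ideal R A) ⟶
      (ModuleCat.restrictScalars φ).obj (ModuleCat.of A (Ω[A⁄R])) :=
    ModuleCat.ofHom (Y := (ModuleCat.restrictScalars φ).obj (ModuleCat.of A (Ω[A⁄R])))
      { toFun := fun i => KaehlerDifferential.fromIdeal R A i
        map_add' := fun i j => map_add (KaehlerDifferential.fromIdeal R A) i j
        map_smul' := fun b i => ((KaehlerDifferential.fromIdeal R A).map_smul b i).trans (hsm b _) }
  let adj := ModuleCat.extendRestrictScalarsAdj.{u, u, u} φ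
  let h := (adj.homEquiv _ _).symm g
  have h1 : ∀ i : KaehlerDifferential.ideal R A,
      h ((1 : A) ⊗ₜ[TensorProduct R A A, φ] i) = KaehlerDifferential.fromIdeal R A i := fun i =>
    (ModuleCat.extendRestrictScalarsAdj_homEquiv_apply h i).symm.trans
      congr(($(Equiv.apply_symm_apply (adj.homEquiv _ _) g)) i)
  have hspan : ∀ x, ∃ i : KaehlerDifferential.ideal R A,
      x = (1 : A) ⊗ₜ[TensorProduct R A A, φ] i := by
    intro x
    induction x using TensorProduct.induction_on with
    | zero => exact ⟨0, (TensorProduct.tmul_zero _ _).symm⟩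
    | tmul a i =>
      refine ⟨(Algebra.TensorProduct.includeLeftRingHom a : TensorProduct R A A) • i, ?_⟩
      refine Eq.trans ?_ (TensorProduct.smul_tmul _ _ _)
      congr 1
      show a = φ (a ⊗ₜ[R] (1 : A)) * 1
      exact (congrArg (· * (1 : A)) (_root_.mul_one a)).trans (_root_.mul_one a) |>.symm
    | add x y hx hy =>
      obtain ⟨i, rfl⟩ := hx
      obtain ⟨j, rfl⟩ := hy
      exact ⟨i + j, (TensorProduct.tmul_add _ _ _).symm⟩
  have hkill : ∀ i ∈ KaehlerDifferential.ideal R A • (⊤ : Submodule _ (KaehlerDifferential.ideal R A)),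
      ((1 : A) ⊗ₜ[TensorProduct R A A] i : TensorProduct (TensorProduct R A A) A
        (KaehlerDifferential.ideal R A)) = 0 := fun i hi => by
    refine Submodule.smul_induction_on hi (fun j hj i _ => ?_) (fun a b ha hb => ?_)
    · have h0 : j • (1 : A) = 0 :=
        (congrArg (· * (1 : A)) (RingHom.mem_ker.1 hj)).trans (zero_mul _)
      rw [← TensorProduct.smul_tmul, h0, TensorProduct.zero_tmul]
    · rw [TensorProduct.tmul_add, ha, hb, add_zero]
  refine ⟨(LinearEquiv.ofBijective h.hom ⟨?_, fun w => ?_⟩).toModuleIso⟩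
  · rw [injective_iff_map_eq_zero]
    intro x hx
    obtain ⟨i, rfl⟩ := hspan x
    have hx' : KaehlerDifferential.fromIdeal R A i = 0 := (h1 i).symm.trans hx
    have hi : i ∈ KaehlerDifferential.ideal R A • (⊤ : Submodule _ (KaehlerDifferential.ideal R A)) :=
      (Submodule.Quotient.mk_eq_zero _).1 hx'
    exact hkill i hi
  · obtain ⟨i, rfl⟩ := KaehlerDifferential.fromIdeal_surjective R A w
    exact ⟨_, h1 i⟩

/-- For a ring map `R → A`, the sheaf of differentials of `Spec A → Spec R`, defined as the conormal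
sheaf of the diagonal, is isomorphic as an `O_{Spec A}`-module to the sheaf associated with the
module of Kähler differentials `Ω_{A/R}` (the source also pins the isomorphism down by compatibility
with the universal derivations, which is not restated here). -/
theorem result (R A : Type u) [CommRing R] [CommRing A] [Algebra R A] :
    Nonempty (Omega.sheaf (Spec.map (CommRingCat.ofHom (algebraMap R A))) ≅
      tilde (R := CommRingCat.of A) (ModuleCat.of A (Ω[A⁄R]))) := by
  obtain ⟨a⟩ := conormal_diagonal R A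
  obtain ⟨b⟩ := idealΓ (mulHom R A)
  obtain ⟨c⟩ := extend_ideal R A
  have := ConormalSection.isQuasicoherent_idealMod (Spec.map (mulHom R A)).ker
  exact ⟨a ≪≫ (Scheme.Modules.pullback (Spec.map (mulHom R A))).mapIso
      (QCohLib.counitIso (ClSub.idealMod (Spec.map (mulHom R A)).ker)).symm ≪≫
    ((QCohLib.pullbackTildeIso (mulHom R A)).app _).symm ≪≫
    (tilde.functor (CommRingCat.of A)).mapIso
      ((ModuleCat.extendScalars (mulHom R A).hom).mapIso b ≪≫ c)⟩

end Groth.Agent.S2157
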