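import Groth.Statements.S4450
import Groth.Agent.DvrDom.Basic

set_option autoImplicit false
universe u
open CategoryTheory CategoryTheory.Limits AlgebraicGeometry
open EGA2

namespace Groth.Agent.S4450

/-- Let Y be a locally Noetherian scheme, p : X ⟶ Y a morphism locally of finite type, x a point of X, y
= p(x) and y' a specialization of y distinct from y. Then there are a discrete valuation ring A with
field of fractions the residue field k(x) and a morphism Spec A ⟶ Y mapping the closed point to y'
and restricting on Spec k(x) to the canonical morphism Spec k(x) ⟶ X ⟶ Y (so the generic point goes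
to y, and the rational map from Spec A to X so defined induces the identity of k(x)). -/
theorem result {X Y : Scheme.{u}} [IsLocallyNoetherian Y]
    (p : X ⟶ Y) [LocallyOfFiniteType p] (x : X) (y' : Y) (hsp : p.base x ⤳ y') (hne : y' ≠ p.base x) :
    ∃ (A : ValuationSubring (X.residueField x)) (h : Spec (CommRingCat.of A) ⟶ Y), IsDiscreteValuationRing A ∧
      h.base (IsLocalRing.closedPoint A) = y' ∧
      Spec.map (CommRingCat.ofHom A.subtype) ≫ h = X.fromSpecResidueField x ≫ p := by
  classical
  let φ : Y.presheaf.stalk y' ⟶ X.residueField x :=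
    Y.presheaf.stalkSpecializes hsp ≫ p.stalkMap x ≫ X.residue x
  have hφ : Spec.map φ ≫ Y.fromSpecStalk y' = X.fromSpecResidueField x ≫ p := by
    simp only [φ, Spec.map_comp, Category.assoc]
    rw [Scheme.SpecMap_stalkSpecializes_fromSpecStalk, Scheme.SpecMap_stalkMap_fromSpecStalk]
    simp [Scheme.fromSpecResidueField]
  let A₀ := φ.hom.range
  haveI : IsLocalRing A₀ := .of_surjective' φ.hom.rangeRestrict φ.hom.rangeRestrict_surjective
  haveI : IsNoetherianRing A₀ :=
    isNoetherianRing_of_surjective _ _ φ.hom.rangeRestrict φ.hom.rangeRestrict_surjective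
  haveI : IsLocalHom φ.hom.rangeRestrict := .of_surjective _ φ.hom.rangeRestrict_surjective
  have hA₀ : ¬ IsField A₀ := by
    intro hF
    apply hne
    let pt : PrimeSpectrum (X.residueField x) := IsLocalRing.closedPoint (X.residueField x)
    have h1 : Spec.map φ pt = IsLocalRing.closedPoint (Y.presheaf.stalk y') := by
      apply PrimeSpectrum.ext
      change Ideal.comap φ.hom pt.asIdeal = IsLocalRing.maximalIdeal _
      refine le_antisymm (IsLocalRing.le_maximalIdeal (Ideal.IsPrime.ne_top inferInstance)) ?_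
      intro r hr
      have h2 : φ.hom.rangeRestrict r ∈ IsLocalRing.maximalIdeal A₀ := map_nonunit φ.hom.rangeRestrict r hr
      rw [IsLocalRing.isField_iff_maximalIdeal_eq.mp hF, Ideal.mem_bot] at h2
      change φ.hom r ∈ pt.asIdeal
      rw [show φ.hom r = 0 from congrArg Subtype.val h2]
      exact zero_mem _
    have h2 := congrArg (fun f => (f : Spec (X.residueField x) ⟶ Y) pt) hφ
    simp only [Scheme.Hom.comp_apply, h1] at h2
    rw [Scheme.fromSpecStalk_closedPoint, Scheme.fromSpecResidueField_apply] at h2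
    exact h2
  obtain ⟨_, ⟨U, hU, rfl⟩, hy'U, -⟩ :=
    Y.isBasis_affineOpens.exists_subset_of_mem_open (Set.mem_univ y') isOpen_univ
  have hxU : x ∈ p ⁻¹ᵁ U := hsp.mem_open U.isOpen hy'U
  obtain ⟨_, ⟨V, hV, rfl⟩, hxV, hVU : V ≤ p ⁻¹ᵁ U⟩ :=
    X.isBasis_affineOpens.exists_subset_of_mem_open hxU (p ⁻¹ᵁ U).isOpen
  let ev : Γ(X, V) →+* X.residueField x := (X.presheaf.germ V x hxV ≫ X.residue x).hom
  have hev : ∀ a, ev (p.appLE U V hVU a) = φ.hom (Y.presheaf.germ U y' hy'U a) := by
    intro a
    change X.residue x (X.presheaf.germ V x hxV (p.appLE U V hVU a)) =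
      X.residue x (p.stalkMap x (Y.presheaf.stalkSpecializes hsp (Y.presheaf.germ U y' hy'U a)))
    rw [Y.presheaf.germ_stalkSpecializes_apply hy'U hsp, Scheme.Hom.germ_stalkMap_apply,
      Scheme.Hom.appLE, CommRingCat.comp_apply, X.presheaf.germ_res_apply (homOfLE hVU) x hxV]
  letI := (p.appLE U V hVU).hom.toAlgebra
  haveI : Algebra.FiniteType Γ(Y, U) Γ(X, V) := p.finiteType_appLE hU hV hVU
  obtain ⟨G, hG⟩ : (⊤ : Subalgebra Γ(Y, U) Γ(X, V)).FG := Algebra.FiniteType.out
  have hgen : Subfield.closure (Set.range (algebraMap A₀ (X.residueField x)) ∪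
      ((G.image ev : Finset (X.residueField x)) : Set (X.residueField x))) = ⊤ := by
    set F := Subfield.closure (Set.range (algebraMap A₀ (X.residueField x)) ∪
      ((G.image ev : Finset (X.residueField x)) : Set (X.residueField x)))
    have hB : ∀ b, ev b ∈ F := fun b => by
      have hb : b ∈ Algebra.adjoin Γ(Y, U) (G : Set Γ(X, V)) := by rw [hG]; trivial
      induction hb using Algebra.adjoin_induction with
      | mem b hb => exact Subfield.subset_closure (Or.inr (Finset.mem_coe.mpr (Finset.mem_image_of_mem _ hb)))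
      | algebraMap a =>
        refine Subfield.subset_closure (Or.inl ⟨⟨_, Y.presheaf.germ U y' hy'U a, rfl⟩, ?_⟩)
        exact (hev a).symm
      | add a b _ _ ha hb => rw [map_add]; exact F.add_mem ha hb
      | mul a b _ _ ha hb => rw [map_mul]; exact F.mul_mem ha hb
    refine top_le_iff.mp fun z _ => ?_
    obtain ⟨z, rfl⟩ := Ideal.Quotient.mk_surjective z
    letI := TopCat.Presheaf.algebra_section_stalk X.presheaf (⟨x, hxV⟩ : V)
    haveI := hV.isLocalization_stalk ⟨x, hxV⟩
    obtain ⟨⟨b, c⟩, hbc⟩ := IsLocalization.surj (hV.primeIdealOf ⟨x, hxV⟩).asIdeal.primeCompl z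
    have hc : ev c.1 ≠ 0 :=
      ((IsLocalization.map_units (X.presheaf.stalk x) c).map (X.residue x).hom).ne_zero
    have h : (X.residue x).hom z * ev c.1 = ev b := by
      have := congrArg (X.residue x).hom hbc
      rwa [map_mul] at this
    change (X.residue x).hom z ∈ F
    rw [eq_div_of_mul_eq hc h]
    exact F.div_mem (hB _) (hB _)
  obtain ⟨O, hO, hmem, hdom⟩ :=
    DvrDom.exists_dvr A₀ hA₀ (L := X.residueField x) Subtype.val_injective _ hgen
  let ψ : Y.presheaf.stalk y' →+* O :=
    φ.hom.codRestrict O.toSubring fun r => hmem ⟨_, r, rfl⟩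
  haveI : IsLocalHom ψ := by
    refine ⟨fun r hr => ?_⟩
    by_contra h
    have h2 : φ.hom.rangeRestrict r ∈ IsLocalRing.maximalIdeal A₀ := map_nonunit φ.hom.rangeRestrict r h
    have h3 := hdom _ h2
    have h4 : ψ r ∈ IsLocalRing.maximalIdeal O := (O.valuation_lt_one_iff (ψ r)).mpr h3
    exact h4 hr
  refine ⟨O, Spec.map (CommRingCat.ofHom ψ) ≫ Y.fromSpecStalk y', hO, ?_, ?_⟩
  · have h : Spec.map (CommRingCat.ofHom ψ) (IsLocalRing.closedPoint O) =
        IsLocalRing.closedPoint (Y.presheaf.stalk y') := IsLocalRing.comap_closedPoint ψ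
    change Y.fromSpecStalk y' (Spec.map (CommRingCat.ofHom ψ) (IsLocalRing.closedPoint O)) = y'
    rw [h]
    exact Scheme.fromSpecStalk_closedPoint
  · rw [← Category.assoc, ← Spec.map_comp, ← hφ]
    rfl

end Groth.Agent.S4450
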