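import Groth.Statements.S10831
import Mathlib
import Groth.Agent.BMCoh.Topology


set_option autoImplicit false
universe u
open Topology TopologicalSpace
open TopDim

namespace Groth.Agent.S10831

/-- The Krull dimension of a topological space is the supremum of the Krull dimensions of its
irreducible components. -/
theorem result (X : Type u) [TopologicalSpace X] :
    topologicalKrullDim X = ⨆ Y ∈ irreducibleComponents X, topologicalKrullDim ↥Y := by
  refine le_antisymm ?_ (iSup₂_le fun Y _ =>
    (Topology.IsInducing.subtypeVal (t := Y)).topologicalKrullDim_le)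
  rw [show topologicalKrullDim X = ⨆ l : LTSeries (TopologicalSpace.IrreducibleCloseds X),
    ((l.length : ℕ∞) : WithBot ℕ∞) from rfl]
  refine iSup_le fun l => ?_
  obtain ⟨Y, hY, hlY⟩ := exists_mem_irreducibleComponents_subset_of_isIrreducible
    ((l (Fin.last _) : TopologicalSpace.IrreducibleCloseds X) : Set X) (l (Fin.last _)).isIrreducible
  refine le_trans ?_ (le_iSup₂ (f := fun Y (_ : Y ∈ irreducibleComponents X) =>
    topologicalKrullDim ↥Y) Y hY)
  exact Groth.Agent.BMCoh.length_le_topologicalKrullDim Y l
    fun i => Set.Subset.trans (show (l i : Set X) ⊆ l (Fin.last _) from l.strictMono.monotone (Fin.le_last i)) hlY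

end Groth.Agent.S10831
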