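import Groth.Statements.S1883
import Mathlib
import Groth.Agent.GrpdBasic.Basic
import Groth.Agent.GrpdDim.FieldImage
import Groth.Agent.FibDim.Scheme
import Groth.Agent.S10831
-- import your own Groth.Agent.* helpers here

set_option autoImplicit false
universe u
open CategoryTheory CategoryTheory.Limits AlgebraicGeometry
open Grpd

namespace Groth.Agent.S1883

open Groth.Agent

variable {S : Scheme.{u}} (G : Grpd.GroupoidScheme S) {k : Type u} [Field k] (eU : G.U ≅ Spec (CommRingCat.of k))

theorem j_fst : G.j ≫ pullback.fst G.pU G.pU = G.t := pullback.lift_fst _ _ _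

theorem j_snd : G.j ≫ pullback.snd G.pU G.pU = G.s := pullback.lift_snd _ _ _

theorem diag_fst : G.diag ≫ pullback.fst G.pU G.pU = 𝟙 G.U := pullback.lift_fst _ _ _

theorem diag_snd : G.diag ≫ pullback.snd G.pU G.pU = 𝟙 G.U := pullback.lift_snd _ _ _

/-- The inclusion of the stabiliser. -/
noncomputable def stabι : G.stabilizer ⟶ G.R := pullback.fst G.j G.diag

theorem stabι_j : stabι G ≫ G.j = G.stabilizerToU ≫ G.diag := pullback.condition

theorem stab_t : stabι G ≫ G.t = G.stabilizerToU := by
  rw [← j_fst, reassoc_of% (stabι_j G), diag_fst, Category.comp_id]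

theorem stab_s : stabι G ≫ G.s = G.stabilizerToU := by
  rw [← j_snd, reassoc_of% (stabι_j G), diag_snd, Category.comp_id]

theorem stab_ext {T : Scheme.{u}} {m m' : T ⟶ G.stabilizer} (h₁ : m ≫ stabι G = m' ≫ stabι G)
    (h₂ : m ≫ G.stabilizerToU = m' ≫ G.stabilizerToU) : m = m' := pullback.hom_ext h₁ h₂

include eU in
/-- The map `j` is constant along specialisations. -/
theorem eq_of_specializes [LocallyOfFiniteType G.s] {r r' : G.R} (h : r ⤳ r') : G.j r = G.j r' := by
  obtain ⟨U, hU, hU', -⟩ := exists_isAffineOpen_mem_and_subset (X := G.R) (x := r') (U := ⊤) trivial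
  have hr : r ∈ U := h.mem_open U.isOpen hU'
  let p := hU.primeIdealOf ⟨r, hr⟩
  let D := Γ(G.R, U) ⧸ p.asIdeal
  let ιD : Spec (CommRingCat.of D) ⟶ G.R := Spec.map (CommRingCat.ofHom (Ideal.Quotient.mk p.asIdeal)) ≫ hU.fromSpec
  obtain ⟨σ, hσ⟩ := Spec.map_surjective (R := CommRingCat.of k) (ιD ≫ G.s ≫ eU.hom)
  obtain ⟨τ, hτ⟩ := Spec.map_surjective (R := CommRingCat.of k) (ιD ≫ G.t ≫ eU.hom)
  let : Algebra k D := σ.hom.toAlgebra
  have : IsClosedImmersion (Spec.map (CommRingCat.ofHom (Ideal.Quotient.mk p.asIdeal))) :=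
    IsClosedImmersion.spec_of_surjective _ Ideal.Quotient.mk_surjective
  have : Algebra.FiniteType k D :=
    RingHom.finiteType_algebraMap.mp ((HasRingHomProperty.Spec_iff (P := @LocallyOfFiniteType)).mp
      (hσ ▸ inferInstanceAs (LocallyOfFiniteType ((_ ≫ hU.fromSpec) ≫ G.s ≫ eU.hom))))
  let L := integralClosure k D
  let := ((isField_of_isIntegral_of_isField' (R := k) (S := L) (Field.toIsField k))).toField
  have hτL : ∀ c, τ.hom c ∈ L := fun c =>
    (GrpdDim.isAlgebraic_of_field_hom (k := k) τ.hom c).isIntegral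
  let τ' : CommRingCat.of k ⟶ CommRingCat.of L := CommRingCat.ofHom (τ.hom.codRestrict L.toSubring hτL)
  let σ' : CommRingCat.of k ⟶ CommRingCat.of L := CommRingCat.ofHom (algebraMap k L)
  let hh : Spec (CommRingCat.of D) ⟶ Spec (CommRingCat.of L) := Spec.map (CommRingCat.ofHom (L.val.toRingHom))
  have : Flat hh := Flat.SpecMap_iff.mpr (by
    algebraize [L.val.toRingHom]
    exact RingHom.flat_algebraMap_iff.mpr inferInstance)
  have : Surjective hh := ⟨fun y => ⟨Classical.arbitrary _, Subsingleton.elim _ _⟩⟩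
  have h1 : ιD ≫ G.t = hh ≫ Spec.map τ' ≫ eU.inv := by
    rw [← Category.assoc hh, ← Spec.map_comp, Iso.eq_comp_inv, Category.assoc, ← hτ]; rfl
  have h2 : ιD ≫ G.s = hh ≫ Spec.map σ' ≫ eU.inv := by
    rw [← Category.assoc hh, ← Spec.map_comp, Iso.eq_comp_inv, Category.assoc, ← hσ]; rfl
  have hcond : (Spec.map τ' ≫ eU.inv) ≫ G.pU = (Spec.map σ' ≫ eU.inv) ≫ G.pU := by
    rw [← cancel_epi hh, ← Category.assoc, ← h1, ← Category.assoc, ← h2]
    simp only [ιD, Category.assoc, G.t_over, G.s_over]
  have hj : ιD ≫ G.j = hh ≫ pullback.lift _ _ hcond := by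
    refine pullback.hom_ext ?_ ?_
    · rw [Category.assoc, j_fst, h1, Category.assoc, pullback.lift_fst]
    · rw [Category.assoc, j_snd, h2, Category.assoc, pullback.lift_snd]
  have hrange : ∀ y, r ⤳ y → y ∈ U → y ∈ Set.range ιD := fun y hy hyU => by
    let P := hU.primeIdealOf ⟨y, hyU⟩
    have hle : p.asIdeal ≤ P.asIdeal := (PrimeSpectrum.le_iff_specializes p P).mpr
      (hU.fromSpec.isOpenEmbedding.isInducing.specializes_iff.mp (by
        rw [hU.fromSpec_primeIdealOf, hU.fromSpec_primeIdealOf]; exact hy))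
    obtain ⟨Q, hQ⟩ : P ∈ Set.range (PrimeSpectrum.comap (Ideal.Quotient.mk p.asIdeal)) := by
      rw [range_comap_of_surjective _ _ Ideal.Quotient.mk_surjective, Ideal.mk_ker]
      exact hle
    refine ⟨Q, ?_⟩
    rw [Scheme.Hom.comp_apply]
    exact (congrArg hU.fromSpec hQ).trans (hU.fromSpec_primeIdealOf ⟨y, hyU⟩)
  obtain ⟨Q, hQ⟩ := hrange r specializes_rfl hr
  obtain ⟨Q', hQ'⟩ := hrange r' h hU'
  rw [← hQ, ← hQ', ← Scheme.Hom.comp_apply, ← Scheme.Hom.comp_apply, hj, Scheme.Hom.comp_apply, Scheme.Hom.comp_apply,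
    Subsingleton.elim (hh Q) (hh Q')]

/-- The fibre of `j` over an arrow is the stabiliser. -/
theorem exists_isPullback {K : Scheme.{u}} (a : K ⟶ G.R) :
    ∃ e : pullback G.j (a ≫ G.j) ⟶ G.stabilizer,
      IsPullback e (pullback.snd G.j (a ≫ G.j)) G.stabilizerToU (a ≫ G.s) ∧
      pullback.lift a (𝟙 K) (by rw [Category.id_comp]) ≫ e = (a ≫ G.s) ≫ G.eStab := by
  let F := pullback G.j (a ≫ G.j)
  let β := pullback.fst G.j (a ≫ G.j)
  let α := pullback.snd G.j (a ≫ G.j) ≫ a
  have hβs : β ≫ G.s = α ≫ G.s := by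
    simp only [← j_snd G, β, α, Category.assoc, pullback.condition_assoc]
  have hβt : β ≫ G.t = α ≫ G.t := by
    simp only [← j_fst G, β, α, Category.assoc, pullback.condition_assoc]
  have hc : (α ≫ G.i) ≫ G.s = β ≫ G.t := by rw [Category.assoc, G.i_s, hβt]
  let g := GrpdBasic.mul G (α ≫ G.i) β hc
  have hg : g ≫ G.j = (α ≫ G.s) ≫ G.diag := by
    refine pullback.hom_ext ?_ ?_
    · rw [Category.assoc, j_fst, GrpdBasic.mul_t, Category.assoc, G.i_t, Category.assoc (α ≫ G.s),
        diag_fst, Category.comp_id]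
    · rw [Category.assoc, j_snd, GrpdBasic.mul_s, hβs, Category.assoc (α ≫ G.s),
        diag_snd, Category.comp_id]
  let e : F ⟶ G.stabilizer := pullback.lift g (α ≫ G.s) hg
  have w : e ≫ G.stabilizerToU = pullback.snd G.j (a ≫ G.j) ≫ a ≫ G.s :=
    (pullback.lift_snd _ _ _).trans (Category.assoc _ _ _)
  have hcone : ∀ (q : PullbackCone G.stabilizerToU (a ≫ G.s)),
      (q.snd ≫ a) ≫ G.s = (q.fst ≫ stabι G) ≫ G.t := fun q => by
    rw [Category.assoc, Category.assoc, stab_t]; exact q.condition.symm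
  refine ⟨e, IsPullback.of_isLimit (c := PullbackCone.mk e (pullback.snd G.j (a ≫ G.j)) w)
    (PullbackCone.IsLimit.mk _
      (fun q => pullback.lift (GrpdBasic.mul G (q.snd ≫ a) (q.fst ≫ stabι G) (hcone q)) q.snd ?_)
      (fun q => ?_) (fun q => pullback.lift_snd _ _ _) fun q m h₁ h₂ => ?_), stab_ext G ?_ ?_⟩
  · refine pullback.hom_ext ?_ ?_
    · simp only [Category.assoc, j_fst, GrpdBasic.mul_t]
    · simp only [Category.assoc, j_snd, GrpdBasic.mul_s, stab_s]
      exact q.condition
  · refine stab_ext G ?_ ?_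
    · rw [Category.assoc, show e ≫ stabι G = g from pullback.lift_fst _ _ _, GrpdBasic.comp_mul]
      refine (GrpdBasic.mul_congr G ?_ (pullback.lift_fst _ _ _) _).trans
        (GrpdBasic.mul_inv_cancel_left G (q.snd ≫ a) (q.fst ≫ stabι G) (hcone q))
      simp only [α, pullback.lift_snd_assoc, Category.assoc]
    · rw [Category.assoc, w, pullback.lift_snd_assoc]
      exact q.condition.symm
  · refine pullback.hom_ext ?_ (h₂.trans (pullback.lift_snd _ _ _).symm)
    rw [pullback.lift_fst]
    have hm : (m ≫ α ≫ G.i) ≫ G.s = (m ≫ β) ≫ G.t := by rw [Category.assoc m, hc, ← Category.assoc m]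
    have := GrpdBasic.mul_inv_cancel_left G (m ≫ α ≫ G.i) (m ≫ β) hm
    refine this.symm.trans (GrpdBasic.mul_congr G ?_ ?_ _)
    · simp only [Category.assoc, GrpdBasic.i_i, Category.comp_id, α]
      rw [← h₂]; simp
    · refine Eq.trans ?_ (congrArg (· ≫ stabι G) h₁)
      simp only [Category.assoc, show e ≫ stabι G = g from pullback.lift_fst _ _ _, g, GrpdBasic.comp_mul]
  · rw [Category.assoc, show e ≫ stabι G = g from pullback.lift_fst _ _ _, GrpdBasic.comp_mul]
    refine Eq.trans ?_ (Eq.symm ((Category.assoc _ _ _).trans (congrArg ((a ≫ G.s) ≫ ·)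
      (show G.eStab ≫ stabι G = G.e from pullback.lift_fst _ _ _))))
    refine (GrpdBasic.mul_congr G (α' := a ≫ G.i) (β' := a) ?_ (pullback.lift_fst _ _ _) _).trans
      ((GrpdBasic.inv_mul G a).trans (Category.assoc _ _ _).symm)
    simp only [α, pullback.lift_snd_assoc, Category.assoc, Category.id_comp]
  · rw [Category.assoc, w, pullback.lift_snd_assoc, Category.id_comp, Category.assoc,
      show G.eStab ≫ G.stabilizerToU = 𝟙 G.U from pullback.lift_snd _ _ _, Category.comp_id]

/-- Let (U, R, s, t, c) be a groupoid scheme over S with U the spectrum of a field and s, t locally of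
finite type. Then R and its stabilizer group scheme G have equal dimension (G is the base change of
(t, s) along the diagonal of U). (A groupoid scheme carries U, R, s, t, c, e, i over S with the
groupoid axioms on T-points; 'finite locally free' is finite, flat and locally of finite
presentation; C ⊂ Γ(U) is the ring of functions a with s♯(a) = t♯(a) and M = Spec C.) -/
theorem result (S : Scheme.{u}) (G : Grpd.GroupoidScheme S) (k : Type u) [Field k] (eU : G.U ≅ Spec (CommRingCat.of k)) [LocallyOfFiniteType G.s] [LocallyOfFiniteType G.t] : topologicalKrullDim G.R = topologicalKrullDim G.stabilizer := by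
  have : LocallyOfFiniteType G.j :=
    @locallyOfFiniteType_of_comp _ _ _ G.j (pullback.snd G.pU G.pU) (j_snd G ▸ inferInstance)
  have hfd : IsImmersion G.diag := by
    have : G.diag = pullback.diagonal G.pU := rfl
    rw [this]; infer_instance
  have : IsImmersion (pullback.fst G.j G.diag) := inferInstance
  refine le_antisymm ?_ ((pullback.fst G.j G.diag).isEmbedding.isInducing.topologicalKrullDim_le)
  rw [S10831.result G.R]
  refine iSup₂_le fun Y hY => ?_
  obtain ⟨r, hr⟩ := QuasiSober.sober hY.1 (isClosed_of_mem_irreducibleComponents Y hY)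
  obtain ⟨ζ, hζr⟩ : r ∈ Set.range (G.j.fiberι (G.j r)) := by rw [Scheme.Hom.range_fiberι]; rfl
  have hζ : ∀ z, z ⤳ ζ → z = ζ := fun z hz => by
    refine (G.j.fiberι _).isEmbedding.injective ((hz.map (G.j.fiberι _).continuous).antisymm ?_).eq
    rw [hζr]
    refine hr.specializes (hY.2 isIrreducible_singleton.closure ?_ (subset_closure rfl))
    rw [← hr.def]
    exact closure_minimal (Set.singleton_subset_iff.2
      (hζr ▸ hz.map (G.j.fiberι _).continuous).mem_closure) isClosed_closure
  let K := G.R.residueField r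
  let a : Spec (CommRingCat.of K) ⟶ G.R := G.R.fromSpecResidueField r
  obtain ⟨e, he, -⟩ := exists_isPullback G a
  let F := pullback G.j (a ≫ G.j)
  obtain ⟨σ, hσ, -⟩ := Scheme.Pullback.exists_preimage_pullback (f := G.j) (g := a ≫ G.j) r
    (IsLocalRing.closedPoint _) (by rw [Scheme.Hom.comp_apply]; exact (congrArg G.j (G.R.fromSpecResidueField_apply r _)).symm)
  obtain ⟨η, hη⟩ := QuasiSober.sober (isIrreducible_irreducibleComponent (x := σ)) isClosed_irreducibleComponent
  have hmax : ∀ η', η' ⤳ η → η' = η := fun η' h => by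
    refine (h.antisymm (hη.specializes ?_)).eq
    refine (irreducibleComponent_mem_irreducibleComponents σ).2 isIrreducible_singleton.closure ?_ (subset_closure rfl)
    rw [← hη.def]
    exact closure_minimal (Set.singleton_subset_iff.2 h.mem_closure) isClosed_closure
  have h1 := FibDim.dim_closure_fibre G.j ζ hζ (a ≫ G.j) (IsPullback.of_hasPullback _ _)
    (hσ.trans hζr.symm) (hη.specializes mem_irreducibleComponent) hmax
  obtain ⟨φ, hφ⟩ := Spec.map_surjective ((a ≫ G.s) ≫ eU.hom)
  have he' : IsPullback e (pullback.snd G.j (a ≫ G.j)) (G.stabilizerToU ≫ eU.hom) (Spec.map φ) := by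
    rw [hφ]
    exact IsPullback.of_iso he (Iso.refl _) (Iso.refl _) (Iso.refl _) eU (by simp) (by simp) (by simp) (by simp)
  have : LocallyOfFiniteType (G.stabilizerToU ≫ eU.hom) := by
    have : LocallyOfFiniteType G.stabilizerToU :=
      inferInstanceAs (LocallyOfFiniteType (pullback.snd G.j G.diag))
    infer_instance
  obtain ⟨-, h2⟩ := FibDim.dim_closure_of_isPullback _ φ he' η hmax
  have h3 : closure ({r} : Set G.R) = (G.j.fiberι _) '' closure {ζ} := by
    refine subset_antisymm (fun y hy => ?_) ?_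
    · have h := specializes_iff_mem_closure.mpr hy
      obtain ⟨z, rfl⟩ : y ∈ Set.range (G.j.fiberι (G.j r)) := by
        rw [Scheme.Hom.range_fiberι]; exact (eq_of_specializes G eU h).symm
      refine ⟨z, ?_, rfl⟩
      exact ((G.j.fiberι _).isEmbedding.isInducing.specializes_iff.mp ((specializes_of_eq hζr).trans h)).mem_closure
    · exact (image_closure_subset_closure_image (G.j.fiberι _).continuous).trans (by rw [Set.image_singleton, hζr])
  rw [← hr.def, h3,
    ← ((G.j.fiberι _).isEmbedding.homeomorphImage _).isHomeomorph.topologicalKrullDim_eq, ← h1, h2]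
  exact Topology.IsInducing.subtypeVal.topologicalKrullDim_le

end Groth.Agent.S1883
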