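import Groth.Statements.S14424
import Groth.Agent.DepthLib.CohenMacaulay
import Groth.Agent.DepthLib.Localization

set_option autoImplicit false
universe u
open LocCoh

namespace Groth.Agent.S14424

/-- `R_p` as the localization of the module `R`. -/
noncomputable def e {R : Type u} [CommRing R] (p : Ideal R) [p.IsPrime] :
    LocalizedModule p.primeCompl R ≃ₗ[Localization.AtPrime p] Localization.AtPrime p :=
  (LocalizedModule.equivTensorProduct p.primeCompl R).trans
    (TensorProduct.AlgebraTensorModule.rid R (Localization.AtPrime p) (Localization.AtPrime p))



/-- Let R be a Noetherian ring. Then R is Cohen–Macaulay (every localization at a prime ideal is a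
Cohen–Macaulay local ring) if and only if for every proper ideal a of R the a-depth of R equals the
height (codimension) of a. (The published statement defines a Cohen–Macaulay ring by its
localizations at maximal ideals; this row uses all prime ideals, an equivalent definition because
Cohen–Macaulayness passes to localizations.) -/
theorem result (R : Type u) [CommRing R] [IsNoetherianRing R] :
    LocCoh.IsCohenMacaulayRing R ↔ ∀ a : Ideal R, a ≠ ⊤ → LocCoh.idealDepth a R = a.height := by
  constructor
  · intro hCM a ha
    refine le_antisymm ?_ (ENat.forall_natCast_le_iff_le.1 fun n hn => ?_)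
    · obtain ⟨p, hp⟩ := Ideal.nonempty_minimalPrimes ha
      rw [Ideal.height_eq_inf_minimalPrimes]
      refine le_iInf₂ fun q hq => ?_
      haveI : q.IsPrime := hq.1.1
      haveI := hCM.isCohenMacaulayLocalRing_localization q
      have h1 := Groth.Agent.DepthLib.idealDepth_le_supportDim_localization (R := R) (M := R)
        (⟨q, inferInstance⟩ : PrimeSpectrum R) hq.1.2 (Module.mem_support_iff'.2 ⟨1, fun r hr h0 => hr (by rw [smul_eq_mul, mul_one] at h0; rw [h0]; exact zero_mem q)⟩)
      refine WithBot.coe_le_coe.1 (h1.trans ?_)
      rw [← IsLocalization.AtPrime.ringKrullDim_eq_height q (Localization.AtPrime q),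
        Module.supportDim_eq_of_equiv (e q)]
      exact Module.supportDim_le_ringKrullDim _ _
    · refine Groth.Agent.DepthLib.natCast_le_idealDepth_iff_forall_localization.2 fun p _ hap => ?_
      haveI := hCM.isCohenMacaulayLocalRing_localization p
      rw [Groth.Agent.DepthLib.depth_congr (e p)]
      have h1 : ringKrullDim (Localization.AtPrime p) = _ := Groth.Agent.DepthLib.ringKrullDim_eq_depth
      rw [IsLocalization.AtPrime.ringKrullDim_eq_height p (Localization.AtPrime p)] at h1
      exact (hn.trans (Ideal.height_mono hap)).trans (WithBot.coe_injective h1).le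
  · intro h
    refine { isCohenMacaulayLocalRing_localization := fun p hp => ?_ }
    rw [Groth.Agent.DepthLib.isCohenMacaulayLocalRing_iff,
      IsLocalization.AtPrime.ringKrullDim_eq_height p (Localization.AtPrime p), WithBot.coe_le_coe,
      ← h p hp.ne_top]
    refine le_of_le_of_eq ?_ (Groth.Agent.DepthLib.depth_congr (e p))
    exact Groth.Agent.DepthLib.idealDepth_le_depth_localization p le_rfl

end Groth.Agent.S14424
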