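import Groth.Statements.S0542
import Groth.Agent.AdicLim.Noetherian
import Mathlib.RingTheory.AdicCompletion.LocalRing
import Mathlib.RingTheory.AdicCompletion.Completeness

set_option autoImplicit false
universe u
open CAlg

namespace Groth.Agent.S0542

/-- If `I` is a finitely generated ideal of a ring `R` and `R/I` is Noetherian, then the `I`-adic
completion of `R` is a Noetherian ring. (The source also states completeness of the completion along
the extended ideal, which Mathlib already has; only Noetherianity is stated here.) -/
theorem result (R : Type u) [CommRing R] (I : Ideal R)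
    (hI : I.FG) [IsNoetherianRing (R ⧸ I)] : IsNoetherianRing (AdicCompletion I R) := by
  haveI := AdicCompletion.isAdicComplete_self I hI
  let e := (RingHom.quotientKerEquivOfSurjective
    (f := (AdicCompletion.evalOneₐ I).toRingHom) (AdicCompletion.evalOneₐ_surjective I))
  haveI : IsNoetherianRing
      (AdicCompletion I R ⧸ I.map (algebraMap R (AdicCompletion I R))) := by
    refine isNoetherianRing_of_ringEquiv (R ⧸ I) ?_
    exact (e.symm.trans (Ideal.quotEquivOfEq (AdicCompletion.ker_evalOneₐ_eq_map I hI)))
  exact Groth.Agent.AdicLim.isNoetherianRing_of_isAdicComplete
    (Ideal.FG.map hI (algebraMap R (AdicCompletion I R)))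

end Groth.Agent.S0542
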