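import Groth.Statements.S2453
import Groth.Agent.PP16Lib.CompletionEquiv
import Groth.Agent.PP16Lib.GeomRegFS
-- import your own Groth.Agent.* helpers here

set_option autoImplicit false
universe u
open EGA41

namespace Groth.Agent.S2453

open IsLocalRing in
/-- Let k be a field and A a Noetherian local k-algebra with maximal ideal 𝔪 and residue field K
separable over k; give A the 𝔪-adic topology (k discrete). The following are equivalent: (a) A is
formally smooth over k; (b) the 𝔪-adic completion of A is isomorphic to some K[[T_1, …, T_n]] by an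
isomorphism carrying the image of k in A to the image of k under k → K → K[[T]]; (b') the completion
is isomorphic as a ring to some K[[T_1, …, T_n]]; (c) A is a regular local ring. -/
theorem result {k A : Type u} [Field k] [CommRing A] [IsLocalRing A] [IsNoetherianRing A] [Algebra k A]
    [Algebra.IsGeometricallyReduced k (ResidueField A)] :
    [CAlgX.IsAdicFormallySmooth k A (maximalIdeal A),
     ∃ (n : ℕ) (e : AdicCompletion (maximalIdeal A) A ≃+* MvPowerSeries (Fin n) (ResidueField A)),
       ∀ x : k, e (algebraMap A (AdicCompletion (maximalIdeal A) A) (algebraMap k A x)) =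
         algebraMap (ResidueField A) (MvPowerSeries (Fin n) (ResidueField A)) (algebraMap k (ResidueField A) x),
     ∃ n : ℕ, Nonempty (AdicCompletion (maximalIdeal A) A ≃+* MvPowerSeries (Fin n) (ResidueField A)),
     IsRegularLocalRing A].TFAE := by
  letI : Field (A ⧸ maximalIdeal A) := Ideal.Quotient.field _
  tfae_have 1 → 4 := fun h => PP16Lib.isRegularLocalRing_iff_symGrBijective.mpr (S4571.result.mp h).1
  tfae_have 4 → 1 := fun h => S4571.result.mpr
    ⟨PP16Lib.isRegularLocalRing_iff_symGrBijective.mp h, PP16Lib.injective_lTensor_of_isGeometricallyReduced⟩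
  tfae_have 4 → 2 := fun h => by
    haveI : Algebra.FormallySmooth k (A ⧸ maximalIdeal A) :=
      EGA41Lib.formallySmooth_iff_isGeometricallyReduced.mpr ‹Algebra.IsGeometricallyReduced k (ResidueField A)›
    obtain ⟨n, e, he⟩ := PP16Lib.exists_completion_equiv_compat (F := k)
      (PP16Lib.isRegularLocalRing_iff_symGrBijective.mp h)
    exact ⟨n, e, fun x => he x⟩
  tfae_have 2 → 3 := fun ⟨n, e, _⟩ => ⟨n, ⟨e⟩⟩
  tfae_have 3 → 4 := fun ⟨n, ⟨e⟩⟩ => by
    haveI := PP16Lib.isRegularLocalRing_mvPowerSeries n (ResidueField A)
    exact PP16Lib.isRegularLocalRing_iff_completion.mpr (IsRegularLocalRing.of_ringEquiv e.symm)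
  tfae_finish

end Groth.Agent.S2453
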