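import Groth.Statements.S8914
import Groth.Agent.ConormalSection.Ideal
import Groth.Agent.InvBasic.OfBasis
import Groth.Agent.QCohLib.Basic

set_option autoImplicit false
universe u
open CategoryTheory CategoryTheory.Limits AlgebraicGeometry TopologicalSpace
open SDiv

namespace Groth.Agent.S8914

theorem idealSect_map {S : Scheme.{u}} (K : S.IdealSheafData) {W V : S.Opens} (h : W ≤ V)
    (m : Γ(ClSub.idealMod K, V)) :
    OmegaSh.idealSect K W ((ClSub.idealMod K).presheaf.map (homOfLE h).op m) =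
      S.presheaf.map (homOfLE h).op (OmegaSh.idealSect K V m) :=
  Groth.Agent.QCohLib.app_map (ClSub.idealModι K) h m

theorem isEff {S : Scheme.{u}} {𝓘 : S.IdealSheafData} (h : PicF.IsInvertible (ClSub.idealMod 𝓘)) :
    BlowUp.IsEffCartierIdeal 𝓘 := by
  intro x
  obtain ⟨U, hx, ℓ, hℓ⟩ := InvBasic.exists_isBasis h x
  obtain ⟨V, hV, hxV, hVU⟩ := exists_isAffineOpen_mem_and_subset (X := S) (x := x) (U := U) hx
  let ℓV : Γ(ClSub.idealMod 𝓘, V) := (ClSub.idealMod 𝓘).presheaf.map (homOfLE hVU).op ℓ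
  have hb := hℓ V hVU
  refine ⟨⟨V, hV⟩, hxV, OmegaSh.idealSect 𝓘 V ℓV, ?_, ?_⟩
  · rw [mem_nonZeroDivisors_iff_right]
    intro r hr
    refine hb.1 ?_
    apply ConormalSection.idealSect_injective 𝓘 V
    simp only [ConormalSection.idealSect_smul, zero_mul]
    exact hr
  · refine le_antisymm (fun a ha => ?_) ((Ideal.span_singleton_le_iff_mem _).mpr
      (ConormalSection.idealSect_mem 𝓘 ⟨V, hV⟩ ℓV))
    obtain ⟨m, rfl⟩ := ConormalSection.exists_idealSect_eq 𝓘 ⟨V, hV⟩ a ha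
    obtain ⟨r, rfl⟩ := hb.2 m
    exact Ideal.mem_span_singleton.mpr ⟨r, (ConormalSection.idealSect_smul 𝓘 V r _).trans (mul_comm _ _)⟩

theorem isBasis {S : Scheme.{u}} {𝓘 : S.IdealSheafData} {U : S.affineOpens} {f : Γ(S, U.1)}
    (hf : f ∈ nonZeroDivisors Γ(S, U.1)) (hI : 𝓘.ideal U = Ideal.span {f})
    {m : Γ(ClSub.idealMod 𝓘, U.1)} (hm : OmegaSh.idealSect 𝓘 U.1 m = f) :
    InvBasic.IsBasis (ClSub.idealMod 𝓘) m := by
  intro W hW
  have hr : ∀ (W : S.Opens) (hW : W ≤ U.1) (r : Γ(S, W)),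
      OmegaSh.idealSect 𝓘 W (r • (ClSub.idealMod 𝓘).presheaf.map (homOfLE hW).op m) =
        r * S.presheaf.map (homOfLE hW).op f := fun W hW r => by
    rw [ConormalSection.idealSect_smul, idealSect_map 𝓘 hW m, hm]
  have inj : ∀ (W : S.Opens) (hW : W ≤ U.1) (r : Γ(S, W)),
      r * S.presheaf.map (homOfLE hW).op f = 0 → r = 0 := by
    intro W hW r h
    refine TopCat.Presheaf.section_ext S.sheaf W _ _ fun y hy => ?_
    have h1 := congrArg (S.presheaf.germ W y hy) h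
    rw [map_mul, map_zero, TopCat.Presheaf.germ_res_apply] at h1
    let := TopCat.Presheaf.algebra_section_stalk S.presheaf (⟨y, hW hy⟩ : U.1)
    have := U.2.isLocalization_stalk ⟨y, hW hy⟩
    obtain ⟨⟨a, s⟩, e⟩ := IsLocalization.surj (U.2.primeIdealOf ⟨y, hW hy⟩).asIdeal.primeCompl
      (S.presheaf.germ W y hy r)
    change _ = S.presheaf.germ U.1 y (hW hy) a at e
    have h2 : algebraMap Γ(S, U.1) (S.presheaf.stalk y) (a * f) = 0 := by
      rw [map_mul]
      change S.presheaf.germ U.1 y (hW hy) a * S.presheaf.germ U.1 y (hW hy) f = 0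
      rw [← e, mul_right_comm, h1, zero_mul]
    obtain ⟨t, ht⟩ := (IsLocalization.map_eq_zero_iff
      (U.2.primeIdealOf ⟨y, hW hy⟩).asIdeal.primeCompl _ _).mp h2
    have h3 : (t : Γ(S, U.1)) * a = 0 :=
      mem_nonZeroDivisors_iff_right.mp hf _ (by rw [mul_assoc]; exact ht)
    have h4 : algebraMap Γ(S, U.1) (S.presheaf.stalk y) a = 0 :=
      (IsLocalization.map_eq_zero_iff (U.2.primeIdealOf ⟨y, hW hy⟩).asIdeal.primeCompl _ _).mpr ⟨t, h3⟩
    change S.presheaf.germ U.1 y (hW hy) a = 0 at h4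
    rw [h4] at e
    refine ((IsLocalization.map_units (S.presheaf.stalk y) s).mul_left_eq_zero.mp e).trans (map_zero _).symm
  refine ⟨fun r r' e => sub_eq_zero.mp (inj W hW _ ?_), fun t => ?_⟩
  · have e' := congrArg (OmegaSh.idealSect 𝓘 W) e
    simp only [hr] at e'
    rw [sub_mul, e', sub_self]
  let a := OmegaSh.idealSect 𝓘 W t
  have H : ∀ y : W, ∃ (V : S.Opens) (hV : V ≤ W), y.1 ∈ V ∧ ∃ r : Γ(S, V),
      r * S.presheaf.map (homOfLE (hV.trans hW)).op f = S.presheaf.map (homOfLE hV).op a := by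
    intro y
    obtain ⟨V, hVa, hyV, hVW⟩ := exists_isAffineOpen_mem_and_subset (X := S) (x := y.1) (U := W) y.2
    refine ⟨V, hVW, hyV, ?_⟩
    have h1 : S.presheaf.map (homOfLE hVW).op a ∈ 𝓘.ideal ⟨V, hVa⟩ :=
      idealSect_map 𝓘 hVW t ▸ ConormalSection.idealSect_mem 𝓘 ⟨V, hVa⟩ _
    rw [← 𝓘.map_ideal (U := ⟨V, hVa⟩) (V := U) (hVW.trans hW), hI, Ideal.map_span, Set.image_singleton,
      Ideal.mem_span_singleton] at h1
    obtain ⟨r, e⟩ := h1
    exact ⟨r, (mul_comm _ _).trans e.symm⟩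
  choose V hV hyV r hr' using H
  obtain ⟨τ, hτ, -⟩ := TopCat.Sheaf.existsUnique_gluing' S.sheaf V W (fun x => homOfLE (hV x))
    (fun x hx => Opens.mem_iSup.mpr ⟨⟨x, hx⟩, hyV ⟨x, hx⟩⟩) r (fun i j => by
      refine sub_eq_zero.mp (inj (V i ⊓ V j) (inf_le_left.trans ((hV i).trans hW)) _ ?_)
      have e1 := congrArg (S.presheaf.map (homOfLE (inf_le_left : V i ⊓ V j ≤ V i)).op) (hr' i)
      have e2 := congrArg (S.presheaf.map (homOfLE (inf_le_right : V i ⊓ V j ≤ V j)).op) (hr' j)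
      rw [map_mul, QCohLib.ring_map_map, QCohLib.ring_map_map] at e1 e2
      exact (sub_mul _ _ _).trans (sub_eq_zero.mpr (e1.trans e2.symm)))
  let τ' : Γ(S, W) := τ
  have hτ' : ∀ i, S.presheaf.map (homOfLE (hV i)).op τ' = r i := hτ
  refine ⟨τ', ConormalSection.idealSect_injective 𝓘 W ((hr W hW τ').trans ?_)⟩
  refine TopCat.Sheaf.eq_of_locally_eq' S.sheaf V W (fun x => homOfLE (hV x))
    (fun x hx => Opens.mem_iSup.mpr ⟨⟨x, hx⟩, hyV ⟨x, hx⟩⟩) _ _ fun i => ?_
  exact ((map_mul (S.presheaf.map (homOfLE (hV i)).op).hom τ' _).trans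
    (congrArg₂ (· * ·) (hτ' i) (QCohLib.ring_map_map (hV i) hW f))).trans (hr' i)

/-- Let S be a scheme and D ⊆ S a closed subscheme with quasi-coherent ideal sheaf 𝓘. Then the ideal
sheaf of D is an invertible O_S-module (that is, D is an effective Cartier divisor) if and only if
every point has an affine open neighbourhood Spec A in S with D ∩ Spec A = Spec A/(f) for a
nonzerodivisor f ∈ A. -/
theorem result {S : Scheme.{u}} (𝓘 : S.IdealSheafData) :
    PicF.IsInvertible (ClSub.idealMod 𝓘) ↔ BlowUp.IsEffCartierIdeal 𝓘 := by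
  refine ⟨isEff, fun h => InvBasic.isInvertible_of_isBasis fun x => ?_⟩
  obtain ⟨U, hx, f, hf, hI⟩ := h x
  obtain ⟨m, hm⟩ := ConormalSection.exists_idealSect_eq 𝓘 U f (hI ▸ Ideal.mem_span_singleton_self f)
  exact ⟨U.1, hx, m, isBasis hf hI hm⟩

end Groth.Agent.S8914
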