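import Groth.Statements.S3587
import Groth.Agent.GrBasics.Core

set_option autoImplicit false
universe u
open CategoryTheory AlgebraicGeometry Opposite TopologicalSpace
open EGA2

namespace Groth.Agent.S3587

/-- Let S be a graded ring, M a graded S-module, f a homogeneous element of degree d > 0 and m a
homogeneous element of M. If the fraction m/f^k vanishes in the localized module M_x for every point
x of D_+(f), then f^N m = 0 for some N (so m/f^k = 0 in M_(f)); this is the injectivity half of the
identification of the sections of M~ over D_+(f) with M_(f). -/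
theorem result {R A : Type u} [CommRing R] [CommRing A] [Algebra R A] (𝒜 : ℕ → Submodule R A) [GradedAlgebra 𝒜]
    {M : Type u} [AddCommGroup M] [Module R M] [Module A M] [IsScalarTower R A M] (ℳ : ℕ → Submodule R M) [DirectSum.Decomposition ℳ] [SetLike.GradedSMul 𝒜 ℳ] {d : ℕ} (hd : 0 < d) {f : A} (hf : f ∈ 𝒜 d) (k i : ℕ) (m : ℳ i)
    (h : ∀ x : ProjectiveSpectrum.basicOpen 𝒜 f,
      (LocalizedModule.mk m.1 ⟨f ^ k, fun h => (ProjectiveSpectrum.mem_basicOpen 𝒜 f x.1).mp x.2
        (x.1.isPrime.mem_of_pow_mem k h)⟩ : GrTilde.LocMod 𝒜 (M := M) x.1) = 0) :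
    ∃ N : ℕ, f ^ N • m.1 = 0 := by
  classical
  let I : Ideal A := LinearMap.ker (LinearMap.toSpanSingleton A M m.1)
  have hI : I.IsHomogeneous 𝒜 := by
    intro j a ha
    have ha' : a • m.1 = 0 := ha
    show (DirectSum.decompose 𝒜 a j : A) • m.1 = 0
    have hsum : ((DirectSum.decompose ℳ (a • m.1) (j + i) : ℳ (j + i)) : M) =
        (DirectSum.decompose 𝒜 a j : A) • m.1 := by
      conv_lhs => rw [← DirectSum.sum_support_decompose 𝒜 a, Finset.sum_smul, DirectSum.decompose_sum,
        DFinsupp.finsetSum_apply, AddSubmonoidClass.coe_finsetSum]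
      rw [Finset.sum_eq_single j]
      · exact DirectSum.decompose_of_mem_same ℳ (SetLike.GradedSMul.smul_mem (DirectSum.decompose 𝒜 a j).2 m.2)
      · intro b _ hb
        exact DirectSum.decompose_of_mem_ne ℳ (SetLike.GradedSMul.smul_mem (DirectSum.decompose 𝒜 a b).2 m.2)
          (fun e => hb (Nat.add_right_cancel e))
      · intro hj
        rw [DFinsupp.notMem_support_iff.mp hj]
        simp
    rw [← hsum, ha']
    simp
  by_contra hc
  push Not at hc
  have hfI : f ∉ I.radical := fun ⟨N, hN⟩ => hc N hN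
  obtain ⟨x, hIx, hfx⟩ := GrBasics.exists_point_of_notMem_radical 𝒜 hI hd hf hfI
  have hx := h ⟨x, hfx⟩
  rw [← LocalizedModule.zero_mk (S := x.asHomogeneousIdeal.toIdeal.primeCompl) 1, LocalizedModule.mk_eq] at hx
  obtain ⟨u, hu⟩ := hx
  exact u.2 (hIx (show u.1 • m.1 = 0 by simpa [Submonoid.smul_def] using hu))

end Groth.Agent.S3587
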