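import Groth.Statements.S2330
import Groth.Agent.InvPow.VeryAmple
import Groth.Agent.InvPow.AmpleOfImmersion
-- import your own Groth.Agent.* helpers here

set_option autoImplicit false
set_option synthInstance.maxHeartbeats 400000
set_option maxHeartbeats 1600000
universe u
open CategoryTheory CategoryTheory.Limits AlgebraicGeometry
open EGA2

namespace Groth.Agent.S2330


/-- Change of base along an isomorphism. -/
theorem exists_transfer {X S S' : Scheme.{u}} (g : S ⟶ S') [IsIso g] (f : X ⟶ S) (f' : X ⟶ S') (hf : f ≫ g = f')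
    (L : X.Modules) {n : ℕ} (i : X ⟶ CohB1.ProjSpaceOver n S) (hi : IsImmersion i)
    (hs : i ≫ pullback.snd (CohB1.ProjSpace.toSpec n (ULift.{u} ℤ)) (specULiftZIsTerminal.from S) = f)
    (e : L ≅ (Scheme.Modules.pullback i).obj (Twist.twistOver n S 1)) :
    ∃ i' : X ⟶ CohB1.ProjSpaceOver n S', IsImmersion i' ∧
      i' ≫ pullback.snd (CohB1.ProjSpace.toSpec n (ULift.{u} ℤ)) (specULiftZIsTerminal.from S') = f' ∧
      Nonempty (L ≅ (Scheme.Modules.pullback i').obj (Twist.twistOver n S' 1)) := by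
  let M : CohB1.ProjSpaceOver n S ⟶ CohB1.ProjSpaceOver n S' :=
    pullback.map (CohB1.ProjSpace.toSpec n (ULift.{u} ℤ)) (specULiftZIsTerminal.from S)
      (CohB1.ProjSpace.toSpec n (ULift.{u} ℤ)) (specULiftZIsTerminal.from S') (𝟙 _) g (𝟙 _)
      (by simp) (specULiftZIsTerminal.hom_ext _ _)
  have : IsIso M := inferInstanceAs (IsIso (pullback.map _ _ _ _ _ _ _ _ _))
  have hM : M ≫ pullback.fst (CohB1.ProjSpace.toSpec n (ULift.{u} ℤ)) (specULiftZIsTerminal.from S') =
      pullback.fst (CohB1.ProjSpace.toSpec n (ULift.{u} ℤ)) (specULiftZIsTerminal.from S) :=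
    (pullback.lift_fst _ _ _).trans (Category.comp_id _)
  refine ⟨i ≫ M, @IsImmersion.comp _ _ _ i M hi inferInstance, ?_, ⟨?_⟩⟩
  · rw [Category.assoc, show M ≫ pullback.snd _ _ = pullback.snd _ _ ≫ g from pullback.lift_snd _ _ _]
    exact (Category.assoc _ _ _).symm.trans ((congrArg (· ≫ g) hs).trans hf)
  · exact e ≪≫ (Scheme.Modules.pullback i).mapIso
      (((Scheme.Modules.pullbackCongr hM).app _).symm ≪≫
        ((Scheme.Modules.pullbackComp M _).app _).symm) ≪≫ (Scheme.Modules.pullbackComp i M).app _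

/-- Let Y be affine, q : X → Y separated and of finite type, and L an invertible O_X-module. Then L is
ample if and only if some L^{⊗n} (n > 0) is very ample relative to q, in the sense that it is the
pullback of O(1) along an immersion of X into some P^m_Y over Y; moreover, if L is ample this holds
for all n beyond some n₀. ('Very ample relative to q' in general means this with P(E) for a
quasi-coherent O_Y-module E in place of P^m_Y; for q of finite type over an affine base the two
agree, and the P^m_Y form is the one used here.) -/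
theorem result {X Y : Scheme.{u}} [IsAffine Y] (q : X ⟶ Y) [IsSeparated q]
    [QuasiCompact q] [LocallyOfFiniteType q] (L : X.Modules) (hL : PicF.IsInvertible L) :
    (CohB1.IsAmple L ↔ ∃ n : ℕ, 0 < n ∧ RelAmple.IsRelVeryAmplePn q (CohB1.tensorPow L n)) ∧
      (CohB1.IsAmple L → ∃ n₀ : ℕ, ∀ n, n₀ ≤ n → RelAmple.IsRelVeryAmplePn q (CohB1.tensorPow L n)) := by
  let R := Γ(Y, ⊤)
  let e : Y ⟶ Spec R := Y.isoSpec.hom
  let q' : X ⟶ Spec (CommRingCat.of R) := q ≫ e
  have : IsSeparated q' := inferInstanceAs (IsSeparated (q ≫ e))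
  have : LocallyOfFiniteType q' := inferInstanceAs (LocallyOfFiniteType (q ≫ e))
  have hcpt : CompactSpace X := (quasiCompact_iff_compactSpace q).mp inferInstance
  have fwd : CohB1.IsAmple L → ∃ n₀ : ℕ, ∀ n, n₀ ≤ n → RelAmple.IsRelVeryAmplePn q (CohB1.tensorPow L n) := by
    intro hA
    obtain ⟨n₀, h⟩ := Groth.Agent.InvPow.exists_bound_immersion q' hA
    refine ⟨n₀, fun n hn => ?_⟩
    obtain ⟨M, i, hi, hiq, ⟨τ⟩⟩ := h n hn
    exact ⟨M, exists_transfer (inv e) q' q (by simp [q']) _ i hi hiq τ⟩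
  refine ⟨⟨fun hA => ?_, ?_⟩, fwd⟩
  · obtain ⟨n₀, h⟩ := fwd hA
    exact ⟨n₀ + 1, Nat.succ_pos _, h _ (Nat.le_succ _)⟩
  · rintro ⟨n, hn, m, i, hi, hiq, ⟨τ⟩⟩
    obtain ⟨i', hi', -, ⟨τ'⟩⟩ := exists_transfer e q q' rfl _ i hi hiq τ
    obtain ⟨θ⟩ := Groth.Agent.ProjSpaceBC.nonempty_twistOver_iso m R 1
    let j : CohB1.ProjSpace m R ⟶ CohB1.ProjSpaceOver m (Spec (CommRingCat.of R)) :=
      Groth.Agent.ProjSpaceBC.toOver m R
    let r : X ⟶ CohB1.ProjSpace m R := i' ≫ inv j
    have hr : IsImmersion r := @IsImmersion.comp _ _ _ i' (inv j) hi' inferInstance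
    refine @Groth.Agent.InvPow.isAmple_of_immersion X L R _ m hcpt hL n hn r hr ?_
    exact (Scheme.Modules.pullback r).mapIso θ.symm ≪≫ (Scheme.Modules.pullbackComp r j).app _ ≪≫
      (Scheme.Modules.pullbackCongr (by simp [r] : r ≫ j = i')).app _ ≪≫ τ'.symm

end Groth.Agent.S2330
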