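import Groth.Statements.S1576
import Mathlib
import Groth.Agent.QCohLib.Coherent
import Groth.Agent.QCohLib.StalkLoc
-- import your own Groth.Agent.* helpers here

set_option autoImplicit false
universe u
open CategoryTheory CategoryTheory.Limits AlgebraicGeometry
open Divisors

namespace Groth.Agent.S1576

/-- Let X be locally Noetherian and F coherent. Then the associated points of F lying in any
quasi-compact open subset form a finite set. -/
theorem result (X : Scheme.{u}) [IsLocallyNoetherian X]
    (F : X.Modules) (hF : Coh.IsCoh F) (U : X.Opens) (hU : IsCompact (U : Set X)) :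
    {x : X | x ∈ U ∧ Curv2.IsAssPoint F x}.Finite := by
  have key : ∀ W : X.affineOpens, {x : X | x ∈ (W : X.Opens) ∧ Curv2.IsAssPoint F x}.Finite := by
    intro W
    haveI : IsNoetherianRing Γ(X, W.1) := IsLocallyNoetherian.component_noetherian (X := X) W
    haveI := hF.1
    haveI : Module.Finite Γ(X, W.1) Γ(F, W.1) := (Groth.Agent.QCohLib.isCoh_iff.mp hF).2 W
    refine (((associatedPrimes.finite Γ(X, W.1) Γ(F, W.1)).preimage
      (f := fun q : PrimeSpectrum Γ(X, W.1) => q.asIdeal) ?_).image W.2.fromSpec).subset ?_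
    · exact fun a _ b _ h => PrimeSpectrum.ext h
    rintro x ⟨hx, hass⟩
    refine ⟨W.2.primeIdealOf ⟨x, hx⟩, ?_, W.2.fromSpec_primeIdealOf ⟨x, hx⟩⟩
    letI := TopCat.Presheaf.algebra_section_stalk X.presheaf (⟨x, hx⟩ : W.1)
    haveI := W.2.isLocalization_stalk ⟨x, hx⟩
    letI := Groth.Agent.QCohLib.germModule F x hx
    haveI := Groth.Agent.QCohLib.isLocalizedModule_germ (M := F) W.2 x hx
    haveI : IsScalarTower Γ(X, W.1) (X.presheaf.stalk x) (F.presheaf.stalk x) :=
      IsScalarTower.of_algebraMap_smul fun _ _ => rfl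
    have h := Module.associatedPrimes.comap_mem_associatedPrimes_of_mem_associatedPrimes_of_isLocalizedModule_of_fg
      (W.2.primeIdealOf ⟨x, hx⟩).asIdeal.primeCompl (Groth.Agent.QCohLib.germLinearMap F x hx)
      (IsLocalRing.maximalIdeal (X.presheaf.stalk x)) hass (IsNoetherian.noetherian _)
    rw [← Ideal.under_def, IsLocalization.AtPrime.under_maximalIdeal (X.presheaf.stalk x)
      (W.2.primeIdealOf ⟨x, hx⟩).asIdeal] at h
    exact h
  obtain ⟨s, hs, e⟩ := isCompact_iff_finite_and_eq_biUnion_affineOpens.1 hU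
  refine (hs.biUnion fun W _ => key W).subset ?_
  rintro x ⟨hxU, hass⟩
  have hxU' : x ∈ (U : Set X) := hxU
  rw [e] at hxU'
  obtain ⟨W, hW, hxW⟩ : ∃ W ∈ s, x ∈ (W : X.Opens) := by simpa using hxU'
  exact Set.mem_biUnion hW ⟨hxW, hass⟩

end Groth.Agent.S1576
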