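import Groth.Statements.S2928
import Groth.Agent.NegVanish.Converse
import Groth.Agent.ProjTwist.Ample

set_option autoImplicit false
set_option backward.isDefEq.respectTransparency false
universe u
open CategoryTheory AlgebraicGeometry
open ProjDual

namespace Groth.Agent.S2928

/-- (i)⇔(ii): Let k be a field, X = P^r_k, F a coherent O_X-module and n ≥ 0. Then H^i(X, F(−m)) = 0 for
all i ≤ n and all sufficiently large m if and only if at every closed point x of X the stalk F_x has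
depth greater than n over O_{X,x}. -/
theorem result (k : Type u) [Field k] (r : ℕ) (F : (CohB1.ProjSpace r k).Modules) (hF : Coh.IsCoh F) (n : ℕ) : (∃ m₀ : ℤ, ∀ m : ℤ, m₀ ≤ m → ∀ i : ℕ, i ≤ n → Subsingleton (Coh.HH (CohB1.ProjSpace r k) (Twist.twistBy _ F (-m)) i)) ↔ ∀ x : (CohB1.ProjSpace r k), IsClosed ({x} : Set (CohB1.ProjSpace r k)) → (n : ℕ∞) < LocCoh.depth ((CohB1.ProjSpace r k).presheaf.stalk x) (F.presheaf.stalk x) := by
  haveI : IsProper (CohB1.ProjSpace.toSpec r k) := Groth.Agent.InvPow.isProper_toSpec r k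
  haveI : CompactSpace ↥(CohB1.ProjSpace r k) :=
    QuasiCompact.compactSpace_of_compactSpace (CohB1.ProjSpace.toSpec r k)
  haveI : IsLocallyNoetherian (CohB1.ProjSpace r k) :=
    LocallyOfFiniteType.isLocallyNoetherian (CohB1.ProjSpace.toSpec r k)
  haveI : CompactSpace ↥(Proj (CohB1.polyGrading r k)) := ‹CompactSpace ↥(CohB1.ProjSpace r k)›
  have hL : CohB1.IsAmple (Twist.twist (CohB1.polyGrading r k) ((1 : ℕ) : ℤ)) :=
    Groth.Agent.ProjTwist.isAmple_twist _ one_pos fun y => by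
      obtain ⟨i, hi⟩ := TopologicalSpace.Opens.mem_iSup.mp
        ((Groth.Agent.ProjPoint.iSup_basicOpen_X (R := k) (n := r)).ge (TopologicalSpace.Opens.mem_top y))
      exact ⟨MvPolynomial.X i, Groth.Agent.ProjPoint.X_mem i, hi⟩
  have hM : ClSub.IsInverseOf (Twist.twist (CohB1.polyGrading r k) ((1 : ℕ) : ℤ)) (Twist.twist (CohB1.polyGrading r k) (-1)) := by
    obtain ⟨e⟩ := Groth.Agent.ProjTwist.nonempty_tensor_twist_iso (CohB1.polyGrading r k)
      (show ((1 : ℕ) : ℤ) + -1 = 0 by norm_num) (Groth.Agent.ProjCoh.hasUnit_polyGrading (-1))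
    obtain ⟨e0⟩ := Groth.Agent.ProjTwist.nonempty_structureModule_iso_twist_zero (CohB1.polyGrading r k)
    exact ⟨e ≪≫ e0.symm⟩
  have hiso : ∀ m : ℕ, Nonempty (CohB1.tensorMod F (CohB1.tensorPow (Twist.twist (CohB1.polyGrading r k) (-1)) m) ≅
      Twist.twistBy _ F (-(m : ℤ))) := fun m => by
    obtain ⟨a⟩ := Groth.Agent.ProjTwist.nonempty_twist_iso_tensorPow (CohB1.polyGrading r k)
      (Groth.Agent.ProjCoh.hasUnit_polyGrading (-1 : ℤ)) m (-(m : ℤ)) (by ring)
    exact Groth.Agent.ProjTwist.nonempty_tensorMod_iso (Iso.refl _) a.symm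
  constructor
  · rintro ⟨m₀, hm₀⟩ x hx
    refine lt_of_lt_of_le ?_ (Groth.Agent.NegVanish.natCast_le_depth_of_vanishing hL hM n F hF ⟨m₀.toNat, fun m hm i hi => ?_⟩ x hx)
    · exact_mod_cast Nat.lt_succ_self n
    · obtain ⟨e⟩ := hiso m
      exact @Groth.Agent.CohVanish.subsingleton_HH_of_iso (CohB1.ProjSpace r k) _ _ e.symm i (hm₀ m (by omega) i hi)
  · intro h
    have hd : ∀ x : (CohB1.ProjSpace r k), IsClosed ({x} : Set (CohB1.ProjSpace r k)) →
        ((n + 1 : ℕ) : ℕ∞) ≤ LocCoh.depth ((CohB1.ProjSpace r k).presheaf.stalk x) (F.presheaf.stalk x) :=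
      fun x hx => by
        push_cast
        exact Order.add_one_le_of_lt (h x hx)
    obtain ⟨m₀, hm₀⟩ := Groth.Agent.NegVanish.exists_vanishing_of_depth (CohB1.ProjSpace.toSpec r k) hL hM F hF (n + 1) hd
    refine ⟨m₀, fun m hm i hi => ?_⟩
    obtain ⟨j, rfl⟩ : ∃ j : ℕ, m = j := ⟨m.toNat, by omega⟩
    obtain ⟨e⟩ := hiso j
    exact @Groth.Agent.CohVanish.subsingleton_HH_of_iso (CohB1.ProjSpace r k) _ _ e i (hm₀ j (by omega) i (by omega))
end Groth.Agent.S2928
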