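import Groth.Statements.S9347
import Mathlib


set_option autoImplicit false
universe u
open Dom CategoryTheory AlgebraicGeometry

namespace Groth.Agent.S9347

/-- A point in the closure of the range of a quasi-compact morphism is a specialization of a point
of the range. -/
lemma exists_specializes_of_mem_closure_range {X S : AlgebraicGeometry.Scheme.{u}} (f : X ⟶ S)
    [AlgebraicGeometry.QuasiCompact f] (y : S) (hy : y ∈ closure (Set.range f)) :
    ∃ x : X, f x ⤳ y := by
  obtain ⟨W, hW, hyW, -⟩ := AlgebraicGeometry.exists_isAffineOpen_mem_and_subset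
    (X := S) (x := y) (U := ⊤) trivial
  obtain ⟨R, h, hh⟩ := (AlgebraicGeometry.isCompact_iff_exists (U := f ⁻¹ᵁ W)).mp
    (f.isCompact_preimage hW.isCompact)
  have hsub : Set.range (h ≫ f) ⊆ Set.range hW.fromSpec := by
    rw [hW.range_fromSpec]
    rintro _ ⟨r, rfl⟩
    exact (hh.le ⟨r, rfl⟩ :)
  let k := AlgebraicGeometry.IsOpenImmersion.lift hW.fromSpec (h ≫ f) hsub
  have hk : k ≫ hW.fromSpec = h ≫ f := AlgebraicGeometry.IsOpenImmersion.lift_fac _ _ _
  obtain ⟨φ, hφ⟩ := AlgebraicGeometry.Spec.map_surjective k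
  obtain ⟨p, hp⟩ : y ∈ Set.range hW.fromSpec := by rw [hW.range_fromSpec]; exact hyW
  have hpc : p ∈ closure (Set.range k) := by
    rw [mem_closure_iff]
    intro o ho hpo
    obtain ⟨_, ⟨q, hq, rfl⟩, x, hx⟩ := mem_closure_iff.mp hy (hW.fromSpec '' o)
      (hW.fromSpec.isOpenEmbedding.isOpenMap o ho) ⟨p, hpo, hp⟩
    have : x ∈ (f ⁻¹ᵁ W : Set X) := by
      have : hW.fromSpec q ∈ (W : Set S) := hW.range_fromSpec ▸ ⟨q, rfl⟩
      change f x ∈ (W : Set S)
      rw [hx]; exact this
    obtain ⟨r, rfl⟩ := hh.ge this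
    refine ⟨q, hq, r, hW.fromSpec.isOpenEmbedding.injective ?_⟩
    rw [← hx]
    rw [← Scheme.Hom.comp_apply h f r, ← hk, Scheme.Hom.comp_apply]
  rw [← hφ] at hpc hk
  have hz : p ∈ PrimeSpectrum.zeroLocus (RingHom.ker φ.hom : Set Γ(S, W)) := by
    rw [← PrimeSpectrum.closure_range_comap]
    exact hpc
  have := p.isPrime
  obtain ⟨q, -, hq, hqle⟩ := p.asIdeal.exists_ideal_comap_le_prime (⊥ : Ideal R)
    (show Ideal.comap φ.hom ⊥ ≤ p.asIdeal from hz)
  refine ⟨h ⟨q, hq⟩, ?_⟩
  have hsp : (AlgebraicGeometry.Spec.map φ) ⟨q, hq⟩ ⤳ p :=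
    (PrimeSpectrum.le_iff_specializes _ _).mp hqle
  have := hsp.map hW.fromSpec.continuous
  rw [← hp]
  have e : ∀ r, hW.fromSpec (Spec.map φ r) = f (h r) := fun r => by
    rw [← Scheme.Hom.comp_apply, hk, Scheme.Hom.comp_apply]
  exact e _ ▸ this

open AlgebraicGeometry CategoryTheory in
/-- Let f : X → S be quasi-compact and let η ∈ S be a point whose closure is an irreducible component of
S (a maximal point of S). If η is not in the image of f, then η has an open neighbourhood V with
f⁻¹(V) empty. -/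
theorem result {X S : Scheme.{u}} (f : X ⟶ S) [QuasiCompact f]
    (η : ↑S) (hη : closure {η} ∈ irreducibleComponents (↑S : Type u)) (hnot : η ∉ Set.range f.base) :
    ∃ V : S.Opens, η ∈ V ∧ f ⁻¹ᵁ V = ⊥ := by
  have hn : η ∉ closure (Set.range f) := fun hc => by
    obtain ⟨x, hx⟩ := exists_specializes_of_mem_closure_range f η hc
    refine hnot ⟨x, ?_⟩
    have h₁ : closure ({f x} : Set S) ⊆ closure {η} :=
      hη.2 isIrreducible_singleton.closure (specializes_iff_closure_subset.mp hx)
    exact Inseparable.eq (inseparable_iff_closure_eq.mpr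
      (h₁.antisymm (specializes_iff_closure_subset.mp hx)))
  refine ⟨⟨(closure (Set.range f))ᶜ, isClosed_closure.isOpen_compl⟩, hn, ?_⟩
  ext x
  simp only [TopologicalSpace.Opens.map_coe, TopologicalSpace.Opens.coe_bot, Set.mem_empty_iff_false, iff_false]
  exact fun h => h (subset_closure ⟨x, rfl⟩)

end Groth.Agent.S9347
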