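import Groth.Statements.S7552
-- import your own Groth.Agent.* helpers here

set_option autoImplicit false
universe u
open PtTop

namespace Groth.Agent.S7552

/-- Let f : X → Y be a continuous surjective map of topological spaces with Y sober, and assume that
specializations lift along f or that generalizations lift along f. Then dim X ≥ dim Y (Krull
dimensions as suprema of lengths of chains of irreducible closed subsets). -/
theorem result {X Y : Type u}
    [TopologicalSpace X] [TopologicalSpace Y] [QuasiSober Y] [T0Space Y]
    (f : X → Y) (hf : Continuous f) (hsurj : Function.Surjective f)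
    (hlift : SpecializingMap f ∨ GeneralizingMap f) :
    topologicalKrullDim Y ≤ topologicalKrullDim X := by
  refine iSup_le fun p => ?_
  have hg : ∀ i, ∃ y : Y, IsGenericPoint y (p i : Set Y) :=
    fun i => QuasiSober.sober (p i).isIrreducible (p i).isClosed
  choose g hg using hg
  have hstep : ∀ i : Fin p.length, g i.succ ⤳ g i.castSucc := fun i =>
    (hg i.succ).specializes ((show p i.castSucc ≤ p i.succ from le_of_lt (show p i.castSucc < p i.succ from p.step i)) (hg i.castSucc).mem)
  obtain ⟨x, hx, hxs⟩ : ∃ x : Fin (p.length + 1) → X, (∀ i, f (x i) = g i) ∧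
      ∀ i : Fin p.length, x i.succ ⤳ x i.castSucc := by
    rcases hlift with h | h
    · let b : {a : X // f a = g (Fin.last _)} := ⟨_, (hsurj _).choose_spec⟩
      have stp : ∀ (i : Fin p.length) (a : {a : X // f a = g i.succ}),
          ∃ a' : {a : X // f a = g i.castSucc}, a.1 ⤳ a'.1 := by
        intro i a
        obtain ⟨a', ha', hfa'⟩ := @h a.1 (g i.castSucc) (show f a.1 ⤳ g i.castSucc by rw [a.2]; exact hstep i)
        exact ⟨⟨a', hfa'⟩, ha'⟩
      choose F hF using stp
      let X' : ∀ i, {a : X // f a = g i} :=
        Fin.reverseInduction (motive := fun i => {a : X // f a = g i}) b fun i a => F i a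
      refine ⟨fun i => (X' i).1, fun i => (X' i).2, fun i => ?_⟩
      have : X' i.castSucc = F i (X' i.succ) := Fin.reverseInduction_castSucc ..
      simp only [this]
      exact hF i _
    · let b : {a : X // f a = g 0} := ⟨_, (hsurj _).choose_spec⟩
      have stp : ∀ (i : Fin p.length) (a : {a : X // f a = g i.castSucc}),
          ∃ a' : {a : X // f a = g i.succ}, a'.1 ⤳ a.1 := by
        intro i a
        obtain ⟨a', ha', hfa'⟩ := @h a.1 (g i.succ) (show g i.succ ⤳ f a.1 by rw [a.2]; exact hstep i)
        exact ⟨⟨a', hfa'⟩, ha'⟩
      choose F hF using stp
      let X' : ∀ i, {a : X // f a = g i} :=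
        Fin.induction (motive := fun i => {a : X // f a = g i}) b fun i a => F i a
      refine ⟨fun i => (X' i).1, fun i => (X' i).2, fun i => ?_⟩
      have : X' i.succ = F i (X' i.castSucc) := Fin.induction_succ ..
      simp only [this]
      exact hF i _
  let q : LTSeries (TopologicalSpace.IrreducibleCloseds X) :=
    { length := p.length
      toFun := fun i => ⟨closure {x i}, isIrreducible_singleton.closure, isClosed_closure⟩
      step := fun i => by
        show (_ : TopologicalSpace.IrreducibleCloseds X) < _
        refine lt_of_le_of_ne (specializes_iff_closure_subset.1 (hxs i)) fun e => ?_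
        have he : closure ({x i.castSucc} : Set X) = closure {x i.succ} := congrArg TopologicalSpace.IrreducibleCloseds.carrier e
        have hins := (inseparable_iff_closure_eq.2 he).map hf
        rw [hx, hx] at hins
        have hY : (p i.castSucc : Set Y) = p i.succ := by
          rw [← (hg i.castSucc).def, ← (hg i.succ).def, inseparable_iff_closure_eq.1 hins]
        exact (show p i.castSucc < p i.succ from p.step i).ne (SetLike.coe_injective hY) }
  exact le_iSup_of_le q le_rfl

end Groth.Agent.S7552
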