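import Groth.Statements.S1686
import Groth.Agent.FibreDim.Topo
-- import your own Groth.Agent.* helpers here

set_option autoImplicit false
universe u
open CategoryTheory CategoryTheory.Limits AlgebraicGeometry TopologicalSpace
open SDiv

namespace Groth.Agent.S1686

/-- Let D be the closed subscheme of an effective Cartier divisor on a scheme S and d a point of D with
image s in S. If the local dimension of S at s is finite, then the local dimension of D at d is
strictly smaller. -/
theorem result (S : Scheme.{u}) (𝓘 : S.IdealSheafData) (h𝓘 : BlowUp.IsEffCartierIdeal 𝓘) (d : ↥𝓘.subscheme)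
    (hfin : FlatMor.localDim ↥S (𝓘.subschemeι d) ≠ ⊤) :
    FlatMor.localDim ↥𝓘.subscheme d < FlatMor.localDim ↥S (𝓘.subschemeι d) := by
  obtain ⟨W, hsW, f, hf, hI⟩ := h𝓘 (𝓘.subschemeι d)
  obtain ⟨O, hO, hsO, hdimO⟩ := Groth.Agent.FibreDim.exists_localDim (T := ↥S) (𝓘.subschemeι d)
  obtain ⟨g, hgO, hsg⟩ := W.2.exists_basicOpen_le (V := ⟨O, hO⟩) ⟨_, hsO⟩ hsW
  let V : S.affineOpens := S.affineBasicOpen g
  have hVa : IsAffineOpen V.1 := V.2
  let φ : Γ(S, W.1) →+* Γ(S, V.1) := (S.presheaf.map (homOfLE (S.basicOpen_le g)).op).hom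
  have hV : 𝓘.ideal V = Ideal.span {φ f} := by
    rw [← 𝓘.map_ideal_basicOpen W g, hI, Ideal.map_span, Set.image_singleton]
    rfl
  letI : Algebra Γ(S, W.1) Γ(S, V.1) := φ.toAlgebra
  haveI : IsLocalization.Away g Γ(S, V.1) := W.2.isLocalization_basicOpen g
  have hf' : φ f ∈ nonZeroDivisors Γ(S, V.1) := by
    refine mem_nonZeroDivisors_iff_right.mpr fun z hz => ?_
    obtain ⟨a, t, rfl⟩ := IsLocalization.exists_mk'_eq (Submonoid.powers g) z
    have h2 : algebraMap Γ(S, W.1) Γ(S, V.1) f = φ f := rfl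
    rw [← h2] at hz
    have h3 : algebraMap Γ(S, W.1) Γ(S, V.1) (a * f) = 0 := by
      rw [map_mul, ← IsLocalization.mk'_spec (M := Submonoid.powers g) (S := Γ(S, V.1)) a t, mul_right_comm]
      exact (congrArg (· * _) hz).trans (zero_mul _)
    obtain ⟨c, hc⟩ := (IsLocalization.map_eq_zero_iff (Submonoid.powers g) _ _).mp h3
    refine (IsLocalization.mk'_eq_zero_iff a t).mpr ⟨c, mem_nonZeroDivisors_iff_right.mp hf _ ?_⟩
    rw [mul_assoc]; exact hc
  have hdV : ringKrullDim Γ(S, V.1) ≤ FlatMor.localDim ↥S (𝓘.subschemeι d) := by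
    rw [← hdimO, ← PrimeSpectrum.topologicalKrullDim_eq_ringKrullDim]
    have h1 := Groth.Agent.FibreDim.dim_image hVa.fromSpec.isOpenEmbedding.toIsEmbedding Set.univ
    rw [Set.image_univ, hVa.range_fromSpec] at h1
    refine le_trans ?_ (Groth.Agent.FibreDim.dim_mono (T := ↥S) hgO)
    rw [show topologicalKrullDim ↥((S.basicOpen g : S.Opens) : Set S) = _ from h1]
    exact le_of_eq (Homeomorph.Set.univ _).symm.isHomeomorph.topologicalKrullDim_eq
  have hdD : FlatMor.localDim ↥𝓘.subscheme d ≤ ringKrullDim (Γ(S, V.1) ⧸ Ideal.span {φ f}) := by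
    refine (Groth.Agent.FibreDim.localDim_le (V.1.2.preimage 𝓘.subschemeι.continuous)
      (show 𝓘.subschemeι d ∈ (V.1 : Set S) from hsg)).trans ?_
    have e : 𝓘.subschemeι '' (𝓘.subschemeι ⁻¹' (V.1 : Set S)) = hVa.fromSpec ''
        PrimeSpectrum.zeroLocus ((Ideal.span {φ f} : Ideal Γ(S, V.1)) : Set Γ(S, V.1)) := by
      rw [Set.image_preimage_eq_inter_range, Scheme.IdealSheafData.range_subschemeι, Set.inter_comm,
        hVa.fromSpec_image_zeroLocus]
      exact (𝓘.coe_support_inter V).trans (by rw [hV])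
    refine le_of_eq_of_le ((Groth.Agent.FibreDim.dim_image 𝓘.subschemeι.isEmbedding _).symm.trans
      ((congrArg (fun s : Set S => topologicalKrullDim s) e).trans
        (Groth.Agent.FibreDim.dim_image hVa.fromSpec.isOpenEmbedding.toIsEmbedding _))) ?_
    rw [← PrimeSpectrum.topologicalKrullDim_eq_ringKrullDim]
    have hc := PrimeSpectrum.isClosedEmbedding_comap_of_surjective _ _
      (Ideal.Quotient.mk_surjective (I := Ideal.span {φ f}))
    have hr : Set.range (PrimeSpectrum.comap (Ideal.Quotient.mk (Ideal.span {φ f}))) =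
        PrimeSpectrum.zeroLocus ((Ideal.span {φ f} : Ideal Γ(S, V.1)) : Set Γ(S, V.1)) := by
      rw [range_comap_of_surjective _ _ Ideal.Quotient.mk_surjective, Ideal.mk_ker]
    exact ((hc.isEmbedding.toHomeomorph.trans (Homeomorph.setCongr hr)).isHomeomorph.topologicalKrullDim_eq).ge
  have hmain : FlatMor.localDim ↥𝓘.subscheme d + 1 ≤ FlatMor.localDim ↥S (𝓘.subschemeι d) :=
    (add_le_add_left hdD 1).trans ((ringKrullDim_quotient_succ_le_of_nonZeroDivisor hf').trans hdV)
  have hbot : FlatMor.localDim ↥S (𝓘.subschemeι d) ≠ ⊥ := by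
    rw [← hdimO]
    haveI : Nonempty (IrreducibleCloseds ↥O) :=
      ⟨⟨closure {⟨_, hsO⟩}, isIrreducible_singleton.closure, isClosed_closure⟩⟩
    intro h
    have h0 : (0 : WithBot ℕ∞) ≤ topologicalKrullDim ↥O := Order.krullDim_nonneg (α := IrreducibleCloseds ↥O)
    rw [h] at h0
    exact absurd (le_bot_iff.mp h0) (by simp)
  generalize FlatMor.localDim ↥𝓘.subscheme d = a at hmain
  generalize FlatMor.localDim ↥S (𝓘.subschemeι d) = c at hmain hbot hfin
  induction c with
  | bot => exact absurd rfl hbot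
  | coe c => induction a with
    | bot => exact WithBot.bot_lt_coe _
    | coe a =>
      have h : a + 1 ≤ c := by exact_mod_cast hmain
      have hc : c ≠ ⊤ := fun h => hfin (h ▸ rfl)
      exact WithBot.coe_lt_coe.mpr (lt_of_lt_of_le ((ENat.lt_add_one_iff (ne_top_of_le_ne_top hc
        (le_trans le_self_add h))).mpr le_rfl) h)

end Groth.Agent.S1686
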