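import Groth.Statements.S9126
import Groth.Agent.Catenary.Basic
import Mathlib.RingTheory.EssentialFiniteness
import Mathlib.RingTheory.MvPolynomial.Localization

set_option autoImplicit false
universe u
open CAlg

namespace Groth.Agent.S9126

/-- An algebra essentially of finite type over a Noetherian universally catenary ring is universally
catenary. -/
theorem result (A : Type u) [CommRing A] (B : Type u) [CommRing B]
    [Algebra A B] [Algebra.EssFiniteType A B]
    (hA : CAlg.IsUniversallyCatenary A) : CAlg.IsUniversallyCatenary B := by
  open Groth.Agent.Catenary in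
  have : IsNoetherianRing A := hA.1
  have hN : IsNoetherianRing B := Algebra.EssFiniteType.isNoetherianRing A B
  refine ⟨hN, fun T _ _ hT => ?_⟩
  obtain ⟨n, g, hg⟩ := Algebra.FiniteType.iff_quotient_mvPolynomial''.mp hT
  refine isCatenary_of_surjective g.toRingHom hg ?_
  let B₀ := Algebra.EssFiniteType.subalgebra A B
  let M : Submonoid B₀ := Algebra.EssFiniteType.submonoid A B
  let _ : Algebra (MvPolynomial (Fin n) B₀) (MvPolynomial (Fin n) B) := MvPolynomial.algebraMvPolynomial
  have : IsLocalization (M.map (MvPolynomial.C (σ := Fin n))) (MvPolynomial (Fin n) B) := MvPolynomial.isLocalization M B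
  exact isCatenary_of_isLocalization (M.map (MvPolynomial.C (σ := Fin n)))
    (hA.2 (MvPolynomial (Fin n) B₀) (Algebra.FiniteType.trans (S := B₀) inferInstance inferInstance))

end Groth.Agent.S9126
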