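import Groth.Statements.S14362
import Mathlib
-- import your own Groth.Agent.* helpers here

set_option autoImplicit false
universe u
open AlgebraicGeometry
open SchImage

namespace Groth.Agent.S14362

open AlgebraicGeometry TopologicalSpace

theorem vanishingIdeal_le_ker {X Y : Scheme.{u}} [IsReduced X] (π : X ⟶ Y) :
    Scheme.IdealSheafData.vanishingIdeal ⟨closure (Set.range π), isClosed_closure⟩ ≤ π.ker := by
  refine Scheme.IdealSheafData.le_ofIdeals_iff.mpr fun U x hx => ?_
  rw [Scheme.IdealSheafData.vanishingIdeal_ideal, PrimeSpectrum.mem_vanishingIdeal] at hx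
  show (π.app U.1).hom x = 0
  apply eq_zero_of_basicOpen_eq_bot
  rw [← Scheme.preimage_basicOpen π x, eq_bot_iff]
  intro z hz
  exfalso
  have hzU : π z ∈ (U.1 : Set Y) := Y.basicOpen_le x hz
  obtain ⟨p, hp⟩ : π z ∈ Set.range U.2.fromSpec := by rwa [U.2.range_fromSpec]
  have h1 := hx p (show U.2.fromSpec p ∈ closure (Set.range π) from hp ▸ subset_closure ⟨z, rfl⟩)
  have h2 : p ∈ U.2.fromSpec ⁻¹ᵁ Y.basicOpen x := show U.2.fromSpec p ∈ Y.basicOpen x from hp ▸ hz
  exact ((show IsAffineOpen U.1 from U.2).fromSpec_preimage_basicOpen x).le h2 h1


/-- Let π : X → Y be a morphism of schemes with X reduced. Then the closed subset underlying the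
scheme-theoretic image of π, i.e. the support of its kernel ideal sheaf, is the closure of the image
of π. (The published statement allows, as an alternative to X being reduced, that π be
quasi-compact; this row is the reduced case and assumes no quasi-compactness.) -/
theorem result (X Y : Scheme.{u}) [IsReduced X]
    (π : X ⟶ Y) :
    (π.ker.support : Set Y) = closure (Set.range π) := by
  refine Set.Subset.antisymm ?_ (π.ker.support.isClosed.closure_subset_iff.mpr π.range_subset_ker_support)
  intro x hx
  have h1 := Scheme.IdealSheafData.support_antitone (vanishingIdeal_le_ker π) hx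
  rw [← SetLike.mem_coe, Scheme.IdealSheafData.coe_support_vanishingIdeal] at h1
  exact h1

end Groth.Agent.S14362
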