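import Groth.Statements.S5794
import Mathlib
-- import your own Groth.Agent.* helpers here

set_option autoImplicit false
universe u
open TopDim

namespace Groth.Agent.S5794

open TopologicalSpace

theorem discrete_of_dim_le_zero (X : Type u) [TopologicalSpace X] [NoetherianSpace X] [T0Space X]
    (h : topologicalKrullDim X ≤ 0) : Finite X ∧ DiscreteTopology X := by
  have hmin := Order.krullDim_nonpos_iff_forall_isMin.mp h
  have hsub : ∀ (t : IrreducibleCloseds X) (z : X), z ∈ (t : Set X) → (t : Set X) = closure {z} := by
    intro t z hz
    have hle : (⟨closure {z}, isIrreducible_singleton.closure, isClosed_closure⟩ : IrreducibleCloseds X) ≤ t :=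
      t.isClosed.closure_subset_iff.mpr (Set.singleton_subset_iff.mpr hz)
    exact (congrArg SetLike.coe (le_antisymm hle (hmin t hle))).symm
  have h1 : ∀ y : X, closure ({y} : Set X) = {y} := by
    intro y
    refine Set.Subset.antisymm (fun z hz => ?_) subset_closure
    have := hsub ⟨closure {y}, isIrreducible_singleton.closure, isClosed_closure⟩ z hz
    exact (((isGenericPoint_closure (x := y))).eq (show IsGenericPoint z (closure {y}) from this.symm)).symm
  haveI : T1Space X := ⟨fun y => closure_eq_iff_isClosed.mp (h1 y)⟩
  obtain ⟨S, hSf, hSc, hSi, hS⟩ := NoetherianSpace.exists_finite_set_isClosed_irreducible (isClosed_univ (X := X))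
  haveI : Finite X := by
    refine Set.finite_univ_iff.mp (hS ▸ hSf.sUnion fun t ht => ?_)
    obtain ⟨z, hz⟩ := (hSi t ht).nonempty
    have e : t = closure {z} := hsub ⟨t, hSi t ht, hSc t ht⟩ z hz
    rw [e, h1]
    exact Set.finite_singleton z
  exact ⟨this, inferInstance⟩


/-- Let X be a nonempty Noetherian Kolmogoroff space. Then dim(X) = 0 if and only if X is finite and
discrete. -/
theorem result (X : Type u) [TopologicalSpace X]
    [TopologicalSpace.NoetherianSpace X] [T0Space X] [Nonempty X] :
    topologicalKrullDim X = 0 ↔ Finite X ∧ DiscreteTopology X := by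
  constructor
  · exact fun h => discrete_of_dim_le_zero X h.le
  · rintro ⟨-, hd⟩
    haveI : Nonempty (TopologicalSpace.IrreducibleCloseds X) :=
      ⟨⟨closure {Classical.arbitrary X}, isIrreducible_singleton.closure, isClosed_closure⟩⟩
    exact le_antisymm (topologicalKrullDim_zero_of_discreteTopology X) Order.krullDim_nonneg

end Groth.Agent.S5794
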