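import Groth.Statements.S5795
import Mathlib
import Groth.Agent.S5794
-- import your own Groth.Agent.* helpers here

set_option autoImplicit false
universe u
open TopDim

namespace Groth.Agent.S5795

/-- Let X be a Noetherian Kolmogoroff space and x a point of X. Then x is isolated in X if and only if
dim_x(X) = 0. -/
theorem result (X : Type u) [TopologicalSpace X]
    [TopologicalSpace.NoetherianSpace X] [T0Space X] (x : X) :
    IsOpen ({x} : Set X) ↔ FlatMor.localDim X x = 0 := by
  constructor
  · intro hx
    refine le_antisymm ?_ (le_iInf fun U => ?_)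
    · refine iInf_le_of_le ⟨⟨{x}, hx⟩, rfl⟩ (le_of_eq ?_)
      haveI : Nonempty ↥({x} : Set X) := ⟨⟨x, rfl⟩⟩
      haveI : Subsingleton ↥({x} : Set X) := Set.subsingleton_singleton.coe_sort
      exact le_antisymm (topologicalKrullDim_zero_of_discreteTopology ↥({x} : Set X)) (by
        haveI : Nonempty (TopologicalSpace.IrreducibleCloseds ↥({x} : Set X)) :=
          ⟨⟨closure {⟨x, rfl⟩}, isIrreducible_singleton.closure, isClosed_closure⟩⟩
        exact Order.krullDim_nonneg)
    · haveI : Nonempty ↥(U.1 : Set X) := ⟨⟨x, U.2⟩⟩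
      haveI : Nonempty (TopologicalSpace.IrreducibleCloseds ↥(U.1 : Set X)) :=
        ⟨⟨closure {⟨x, U.2⟩}, isIrreducible_singleton.closure, isClosed_closure⟩⟩
      exact Order.krullDim_nonneg
  · intro h
    haveI : Nonempty {U : TopologicalSpace.Opens X // x ∈ U} := ⟨⟨⊤, trivial⟩⟩
    obtain ⟨U, hU⟩ : ∃ U : {U : TopologicalSpace.Opens X // x ∈ U}, topologicalKrullDim (U.1 : Set X) ≤ 0 := by
      refine ⟨Function.argmin (fun U : {U : TopologicalSpace.Opens X // x ∈ U} => topologicalKrullDim (U.1 : Set X)), ?_⟩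
      exact (le_iInf fun V => Function.argmin_le (fun U : {U : TopologicalSpace.Opens X // x ∈ U} => topologicalKrullDim (U.1 : Set X)) V).trans h.le
    obtain ⟨-, hd⟩ := S5794.discrete_of_dim_le_zero (U.1 : Set X) hU
    have := U.1.2.isOpenMap_subtype_val _ (isOpen_discrete ({⟨x, U.2⟩} : Set (U.1 : Set X)))
    simpa using this

end Groth.Agent.S5795
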