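import Groth.Statements.S3836
import Groth.Agent.ZMTBir.Scheme

set_option autoImplicit false
universe u
open CategoryTheory CategoryTheory.Limits AlgebraicGeometry TopologicalSpace
open Rat20

namespace Groth.Agent.S3836

open CategoryTheory CategoryTheory.Limits AlgebraicGeometry TopologicalSpace in
/-- A morphism from a scheme with at most one point is quasi-compact. -/
lemma quasiCompact_of_subsingleton {A B : Scheme.{u}} [Subsingleton A] (f : A ⟶ B) :
    QuasiCompact f :=
  ⟨fun _ _ _ => (Set.subsingleton_of_subsingleton).isCompact⟩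

/-- Let X be a locally integral S-scheme, Y an S-scheme locally of finite type and separated over S, and
h : U → Y an S-morphism on a dense open subset (a rational S-map ω). Let Γ be the closure in X ×_S Y
of the graph of h and p : Γ → X the projection. If x is a point of X whose local ring is integrally
closed and the fibre p⁻¹(x) contains an isolated point, then ω is defined at x: some S-morphism from
an open neighbourhood of x to Y agrees with h on U. -/
theorem result {X Y S : Scheme.{u}} (pX : X ⟶ S) (pY : Y ⟶ S)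
    [LocallyOfFiniteType pY] [IsSeparated pY] (hX : ∀ y : ↥X, ∃ W : X.Opens, y ∈ W ∧ IsIntegral (W : Scheme.{u}))
    (U : X.Opens) (hU : Dense (U : Set ↥X)) (h : (U : Scheme.{u}) ⟶ Y) (hh : U.ι ≫ pX = h ≫ pY)
    (x : ↥X) (hx : IsIntegrallyClosed (X.presheaf.stalk x))
    (z : ↥(pullback pX pY)) (hz : pullback.fst pX pY z = x)
    (hzΓ : z ∈ closure (Set.range (pullback.lift U.ι h hh)))
    (hiso : ∃ W : (pullback pX pY).Opens, (W : Set ↥(pullback pX pY)) ∩ closure (Set.range (pullback.lift U.ι h hh)) ∩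
      (pullback.fst pX pY) ⁻¹' {x} = {z}) :
    ∃ (V : X.Opens) (v : (V : Scheme.{u}) ⟶ Y), x ∈ V ∧ v ≫ pY = V.ι ≫ pX ∧
      X.homOfLE (inf_le_right : U ⊓ V ≤ V) ≫ v = X.homOfLE (inf_le_left : U ⊓ V ≤ U) ≫ h := by
  classical
  obtain ⟨W, hxW, hW⟩ := hX x
  haveI := hW
  haveI : Nonempty (W : Scheme.{u}) := ⟨⟨x, hxW⟩⟩
  let w₀ : X := (genericPoint (W : Scheme.{u})).1
  have hwW : w₀ ∈ W := (genericPoint (W : Scheme.{u})).2
  have hspec : ∀ y ∈ W, w₀ ⤳ y := fun y hy =>
    ((genericPoint_spec (W : Scheme.{u})).specializes (y := ⟨y, hy⟩) trivial).map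
      continuous_subtype_val
  have hwU : w₀ ∈ U := by
    obtain ⟨y, hyW, hyU⟩ := hU.inter_open_nonempty _ W.isOpen ⟨x, hxW⟩
    exact (hspec y hyW).mem_open U.isOpen hyU
  have hKf : IsField (X.presheaf.stalk w₀) :=
    (W.stalkIso (genericPoint (W : Scheme.{u}))).commRingCatIsoToRingEquiv.toMulEquiv.symm.isField
      (Field.toIsField (W : Scheme.{u}).functionField)
  letI := hKf.toField
  let k := X.fromSpecStalk w₀
  have hkU : Set.range k ⊆ Set.range U.ι := by
    rw [Scheme.Opens.range_ι, Scheme.range_fromSpecStalk]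
    exact fun y hy => Specializes.mem_open hy U.isOpen hwU
  let k' := IsOpenImmersion.lift U.ι k hkU
  have hk' : k' ≫ U.ι = k := IsOpenImmersion.lift_fac _ _ _
  let g := k' ≫ pullback.lift U.ι h hh
  haveI : Subsingleton (Spec (X.presheaf.stalk w₀)) := inferInstanceAs (Subsingleton (PrimeSpectrum _))
  haveI : QuasiCompact g := quasiCompact_of_subsingleton g
  let T := g.image
  let ι := g.imageι
  let t := g.toImage
  have ht : t ≫ ι = g := g.toImage_imageι
  have hrange : Set.range ι = closure (Set.range g) := by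
    change Set.range g.ker.subschemeι = _
    rw [Scheme.IdealSheafData.range_subschemeι, Scheme.Hom.support_ker]
  let pt : Spec (X.presheaf.stalk w₀) := IsLocalRing.closedPoint _
  haveI : IsReduced (Spec (X.presheaf.stalk w₀)) := inferInstance
  have hreduced : IsReduced T := by
    haveI : ∀ a, _root_.IsReduced (T.presheaf.stalk a) := fun a => by
      obtain ⟨_, ⟨O, hO, rfl⟩, haO, -⟩ :=
        (pullback pX pY).isBasis_affineOpens.exists_subset_of_mem_open (Set.mem_univ (ι a)) isOpen_univ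
      have hO' : IsAffineOpen (ι ⁻¹ᵁ O) := hO.preimage ι
      haveI : _root_.IsReduced Γ(T, ι ⁻¹ᵁ O) :=
        isReduced_of_injective (t.app (ι ⁻¹ᵁ O)).hom (g.toImage_app_injective (U := ⟨O, hO⟩))
      letI := TopCat.Presheaf.algebra_section_stalk T.presheaf (⟨a, haO⟩ : (ι ⁻¹ᵁ O : T.Opens))
      haveI := hO'.isLocalization_stalk ⟨a, haO⟩
      exact isReduced_localizationPreserves (hO'.primeIdealOf ⟨a, haO⟩).asIdeal.primeCompl _
        (inferInstance : _root_.IsReduced Γ(T, ι ⁻¹ᵁ O))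
    exact isReduced_of_isReduced_stalk _
  haveI := hreduced
  have hθ : IsGenericPoint (t pt) (Set.univ : Set T) := by
    rw [isGenericPoint_def, ← t.denseRange.closure_eq]
    congr 1
    ext a
    refine ⟨fun ha => ⟨pt, (Set.mem_singleton_iff.mp ha).symm⟩, ?_⟩
    rintro ⟨b, rfl⟩
    exact congrArg t (Subsingleton.elim b pt)
  haveI : IrreducibleSpace T := by
    haveI : Nonempty T := ⟨t pt⟩
    haveI : PreirreducibleSpace T := ⟨hθ.isIrreducible.isPreirreducible⟩
    constructor
    infer_instance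
  haveI : IsIntegral T := isIntegral_of_irreducibleSpace_of_isReduced T
  have hθ' : genericPoint T = t pt := (genericPoint_spec T).eq hθ
  let p := ι ≫ pullback.fst pX pY
  have htp : t ≫ p = k := by
    rw [← Category.assoc, ht]
    change (k' ≫ _) ≫ _ = _
    rw [Category.assoc, pullback.lift_fst, hk']
  -- range of the graph over `W`
  have hsub : closure (Set.range (pullback.lift U.ι h hh)) ∩ (pullback.fst pX pY) ⁻¹' (W : Set X) ⊆
      Set.range ι := by
    rw [hrange, Set.inter_comm]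
    refine (((pullback.fst pX pY) ⁻¹ᵁ W).isOpen.inter_closure).trans (closure_minimal ?_ isClosed_closure)
    rintro _ ⟨hyW, u₀, rfl⟩
    have huW : u₀.1 ∈ W := by
      have h2 : pullback.fst pX pY (pullback.lift U.ι h hh u₀) ∈ W := hyW
      rw [← Scheme.Hom.comp_apply, pullback.lift_fst] at h2
      exact h2
    have hk0 : U.ι (k' pt) = w₀ := by
      rw [← Scheme.Hom.comp_apply, hk']
      exact Scheme.fromSpecStalk_closedPoint
    have hs : k' pt ⤳ u₀ := by
      rw [← U.ι.isOpenEmbedding.toIsInducing.specializes_iff, hk0]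
      exact hspec _ huW
    have hs' : g pt ⤳ pullback.lift U.ι h hh u₀ := hs.map (pullback.lift U.ι h hh).continuous
    exact closure_mono (Set.singleton_subset_iff.mpr (Set.mem_range_self pt)) hs'.mem_closure
  obtain ⟨z', hz'⟩ := hsub ⟨hzΓ, show pullback.fst pX pY z ∈ W by rw [hz]; exact hxW⟩
  have hpz : p z' = x := by
    change pullback.fst pX pY (ι z') = x
    rw [hz', hz]
  have hTsub : Set.range ι ⊆ closure (Set.range (pullback.lift U.ι h hh)) := by
    rw [hrange]
    exact closure_mono (by rintro _ ⟨a, rfl⟩; exact ⟨k' a, rfl⟩)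
  have hqf : p.QuasiFiniteAt z' := by
    rw [Scheme.Hom.quasiFiniteAt_iff_isOpen_singleton_asFiber]
    obtain ⟨W₀, hW₀⟩ := hiso
    have he : ({p.asFiber z'} : Set (p.fiber (p z'))) = (p.fiberι (p z') ≫ ι) ⁻¹' (W₀ : Set _) := by
      ext a
      simp only [Set.mem_singleton_iff, Set.mem_preimage, SetLike.mem_coe]
      constructor
      · rintro rfl
        rw [Scheme.Hom.comp_apply, p.fiberι_asFiber, hz']
        exact (hW₀.ge rfl).1.1
      · intro ha
        apply (p.fiberι (p z')).isEmbedding.injective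
        rw [p.fiberι_asFiber]
        apply ι.isClosedEmbedding.injective
        rw [hz']
        have h1 : pullback.fst pX pY ((p.fiberι (p z') ≫ ι) a) = x := by
          have h2 : p.fiberι (p z') a ∈ p ⁻¹' {p z'} := p.range_fiberι (p z') ▸ Set.mem_range_self a
          exact (Set.mem_singleton_iff.mp h2).trans hpz
        exact hW₀.le ⟨⟨ha, hTsub ⟨_, rfl⟩⟩, h1⟩
    rw [he]
    exact (W₀.isOpen).preimage (p.fiberι (p z') ≫ ι).continuous
  have hzW : z' ∈ p ⁻¹ᵁ W := by
    change p z' ∈ W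
    rw [hpz]; exact hxW
  haveI : Nonempty (p ⁻¹ᵁ W : T.Opens) := ⟨⟨z', hzW⟩⟩
  have hgen : (genericPoint (p ⁻¹ᵁ W : Scheme.{u})).1 = t pt :=
    (genericPoint_eq_of_isOpenImmersion (p ⁻¹ᵁ W).ι).trans hθ'
  have hqf' : (p ∣_ W).QuasiFiniteAt ⟨z', hzW⟩ := by
    rw [← Scheme.Hom.quasiFiniteAt_comp_iff (g := W.ι), morphismRestrict_ι,
      Scheme.Hom.quasiFiniteAt_comp_iff_of_isOpenImmersion]
    exact hqf
  have hbij : Function.Bijective (p.stalkMap (t pt)) := by
    haveI hs : SurjectiveOnStalks (t ≫ p) := by rw [htp]; infer_instance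
    have h1 := hs.stalkMap_surjective pt
    rw [Scheme.Hom.stalkMap_comp] at h1
    have hT : IsField (T.presheaf.stalk (t pt)) := by
      rw [← hθ']
      exact Field.toIsField T.functionField
    letI := hT.toField
    have hinjt : Function.Injective (t.stalkMap pt) := (t.stalkMap pt).hom.injective
    have hptk : p (t pt) = w₀ := by
      rw [← Scheme.Hom.comp_apply, htp]
      exact Scheme.fromSpecStalk_closedPoint
    have hK' : IsField (X.presheaf.stalk (p (t pt))) := by
      rw [hptk]; exact hKf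
    letI := hK'.toField
    refine ⟨(p.stalkMap (t pt)).hom.injective, fun b => ?_⟩
    obtain ⟨a, ha⟩ := h1 (t.stalkMap pt b)
    exact ⟨a, hinjt ha⟩
  have hbir : Function.Bijective ((p ∣_ W).stalkMap (genericPoint (p ⁻¹ᵁ W : Scheme.{u}))) := by
    rw [← ConcreteCategory.isIso_iff_bijective]
    refine ((MorphismProperty.isomorphisms CommRingCat).arrow_mk_iso_iff
      (morphismRestrictStalkMap p W (genericPoint (p ⁻¹ᵁ W : Scheme.{u})))).mpr ?_
    change IsIso (p.stalkMap (genericPoint (p ⁻¹ᵁ W : Scheme.{u})).1)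
    rw [hgen]
    exact (ConcreteCategory.isIso_iff_bijective _).mpr hbij
  have hnormal : IsIntegrallyClosed ((W : Scheme.{u}).presheaf.stalk ((p ∣_ W) ⟨z', hzW⟩)) := by
    have he : ((p ∣_ W) ⟨z', hzW⟩).1 = x := (morphismRestrict_base_coe p W ⟨z', hzW⟩).trans hpz
    haveI : IsIntegrallyClosed (X.presheaf.stalk ((p ∣_ W) ⟨z', hzW⟩).1) := by rw [he]; exact hx
    exact IsIntegrallyClosed.of_equiv (W.stalkIso _).commRingCatIsoToRingEquiv.symm
  obtain ⟨V₀, hxV₀, hV₀⟩ :=
    Groth.Agent.ZMTBir.exists_isIso_morphismRestrict (p ∣_ W) hbir ⟨z', hzW⟩ hqf' hnormal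
  let V : X.Opens := W.ι ''ᵁ V₀
  haveI hV : IsIso (p ∣_ V) :=
    ((MorphismProperty.isomorphisms Scheme.{u}).arrow_mk_iso_iff
      (morphismRestrictRestrict p W V₀)).mp hV₀
  have hxV : x ∈ V := ⟨(p ∣_ W) ⟨z', hzW⟩, hxV₀, (morphismRestrict_base_coe p W ⟨z', hzW⟩).trans hpz⟩
  let σ : (V : Scheme.{u}) ⟶ T := inv (p ∣_ V) ≫ (p ⁻¹ᵁ V).ι
  have hσ : σ ≫ p = V.ι := by
    simp only [σ, Category.assoc]
    rw [← morphismRestrict_ι, IsIso.inv_hom_id_assoc]
  have huniq : ∀ {Z : Scheme.{u}} (m : Z ⟶ T) (n : Z ⟶ (V : Scheme.{u})),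
      m ≫ p = n ≫ V.ι → m = n ≫ σ := by
    intro Z m n hmn
    have hr : Set.range m ⊆ Set.range (p ⁻¹ᵁ V).ι := by
      rintro _ ⟨a, rfl⟩
      rw [Scheme.Opens.range_ι]
      change p (m a) ∈ V
      rw [← Scheme.Hom.comp_apply, hmn]
      exact (n a).2
    let m' := IsOpenImmersion.lift (p ⁻¹ᵁ V).ι m hr
    have hm' : m' ≫ (p ⁻¹ᵁ V).ι = m := IsOpenImmersion.lift_fac _ _ _
    have : m' ≫ (p ∣_ V) = n := by
      rw [← cancel_mono V.ι, Category.assoc, morphismRestrict_ι, reassoc_of% hm', hmn]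
    rw [← this, ← hm']
    simp [σ]
  refine ⟨V, σ ≫ ι ≫ pullback.snd pX pY, hxV, ?_, ?_⟩
  · rw [← hσ]
    simp [p, pullback.condition]
  · have hVW : V ≤ W := W.ι_image_le V₀
    have hwV : w₀ ∈ U ⊓ V := ⟨hwU, (hspec x hxW).mem_open V.isOpen hxV⟩
    haveI : Nonempty (U ⊓ V : X.Opens) := ⟨⟨w₀, hwV⟩⟩
    haveI : IsIntegral ((U ⊓ V : X.Opens) : Scheme.{u}) :=
      isIntegral_of_isOpenImmersion (X.homOfLE (inf_le_right.trans hVW : U ⊓ V ≤ W))
    have hkUV : Set.range k ⊆ Set.range (U ⊓ V).ι := by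
      rw [Scheme.Opens.range_ι, Scheme.range_fromSpecStalk]
      exact fun y hy => Specializes.mem_open hy (U ⊓ V).isOpen hwV
    let k'' := IsOpenImmersion.lift (U ⊓ V).ι k hkUV
    have hk'' : k'' ≫ (U ⊓ V).ι = k := IsOpenImmersion.lift_fac _ _ _
    haveI : IsDominant k'' := by
      constructor
      refine Dense.mono (Set.singleton_subset_iff.mpr ⟨pt, rfl⟩) ?_
      intro u₀
      rw [← specializes_iff_mem_closure, ← (U ⊓ V).ι.isOpenEmbedding.toIsInducing.specializes_iff,
        ← Scheme.Hom.comp_apply, hk'']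
      have : k pt = w₀ := Scheme.fromSpecStalk_closedPoint
      rw [this]
      exact hspec _ (hVW u₀.2.2)
    refine ext_of_isDominant_of_isSeparated pY ?_ k'' ?_
    · simp only [Category.assoc]
      rw [← pullback.condition, ← hh, Scheme.homOfLE_ι_assoc]
      rw [show σ ≫ ι ≫ pullback.fst pX pY ≫ pX = V.ι ≫ pX by
        rw [← hσ]; simp [p], Scheme.homOfLE_ι_assoc]
    · have h1 : k' = k'' ≫ X.homOfLE (inf_le_left : U ⊓ V ≤ U) := by
        rw [← cancel_mono U.ι, hk', Category.assoc, Scheme.homOfLE_ι, hk'']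
      have h2 : t = (k'' ≫ X.homOfLE (inf_le_right : U ⊓ V ≤ V)) ≫ σ := huniq t _ (by
        rw [htp, Category.assoc, Scheme.homOfLE_ι, hk''])
      rw [← Category.assoc, ← Category.assoc (k'' ≫ _), ← h2, reassoc_of% ht,
        ← Category.assoc k'', ← h1]
      simp only [g, Category.assoc]
      exact congrArg (k' ≫ ·) (pullback.lift_snd _ _ _)

end Groth.Agent.S3836
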