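import Groth.Statements.S9456
import Groth.Agent.FlatDescent.Global

set_option autoImplicit false
universe u
open CAlg

namespace Groth.Agent.S9456

open Groth.FlatDescent MvPolynomial in
theorem isPushout_of_presentation {A R S : Type u} [CommRing A] [CommRing R] [CommRing S] [Algebra A R] [Algebra R S]
    [Algebra A S] [IsScalarTower A R S] {n : ℕ} (π : MvPolynomial (Fin n) R →ₐ[R] S) (hπ : Function.Surjective π)
    (H₂ : Ideal (MvPolynomial (Fin n) A)) [Algebra (MvPolynomial (Fin n) A ⧸ H₂) S]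
    [IsScalarTower A (MvPolynomial (Fin n) A ⧸ H₂) S]
    (halg : ∀ p, algebraMap (MvPolynomial (Fin n) A ⧸ H₂) S (Ideal.Quotient.mk H₂ p) = π (MvPolynomial.map (algebraMap A R) p))
    (hHmap : RingHom.ker π.toRingHom ≤ H₂.map (MvPolynomial.map (algebraMap A R))) :
    Algebra.IsPushout A R (MvPolynomial (Fin n) A ⧸ H₂) S := by
  let φ := algebraMap A R
  let P₂ := MvPolynomial (Fin n) A
  let P := MvPolynomial (Fin n) R
  refine ⟨IsBaseChange.of_lift_unique _ fun Q _ _ _ _ q => ?_⟩
  let G' : P →ₗ[R] Q := (MvPolynomial.basisMonomials (Fin n) R).constr ℕ fun d =>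
    q (Ideal.Quotient.mk H₂ (monomial d 1))
  have hG' : ∀ p : P₂, G' (MvPolynomial.map φ p) = q (Ideal.Quotient.mk H₂ p) := by
    intro p
    induction p using MvPolynomial.induction_on' with
    | monomial d a =>
      have h1 : MvPolynomial.map φ (monomial d a) = (φ a) • MvPolynomial.basisMonomials (Fin n) R d := by
        rw [map_monomial, show MvPolynomial.basisMonomials (Fin n) R d = monomial d 1 from rfl, smul_monomial,
          smul_eq_mul, mul_one]
      have h2 : Ideal.Quotient.mk H₂ (monomial d a) = a • Ideal.Quotient.mk H₂ (monomial d 1) := by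
        rw [← Ideal.Quotient.mkₐ_eq_mk A, ← map_smul, smul_monomial, smul_eq_mul, mul_one]
      rw [h1, map_smul, Module.Basis.constr_basis, h2, map_smul, ← algebraMap_smul R a]
    | add a b ha hb => simp only [map_add, ha, hb]
  have hG0 : ∀ x ∈ LinearMap.ker π.toLinearMap, G' x = 0 := by
    intro x hx
    have h1 := mem_span_of_mem_map φ H₂ (hHmap (RingHom.mem_ker.mpr (LinearMap.mem_ker.mp hx)))
    clear hx
    induction h1 using Submodule.span_induction with
    | mem x hx =>
      obtain ⟨h, hh, rfl⟩ := hx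
      rw [hG', Ideal.Quotient.eq_zero_iff_mem.mpr hh, map_zero]
    | zero => exact map_zero _
    | add a b _ _ ha hb => rw [map_add, ha, hb, add_zero]
    | smul c a _ ha => rw [map_smul, ha, smul_zero]
  choose sec hsec using hπ
  have hd : ∀ a b, π a = π b → G' a = G' b := fun a b hab => by
    rw [← sub_add_cancel a b, map_add, hG0 (a - b) (LinearMap.mem_ker.mpr
      (show π (a - b) = 0 by rw [map_sub, hab, sub_self])), zero_add]
  let g₁ : S →ₗ[R] Q :=
    { toFun := fun x => G' (sec x)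
      map_add' := fun a b => by
        rw [← map_add]
        exact hd _ _ (by rw [map_add, hsec, hsec, hsec])
      map_smul' := fun c x => by
        rw [RingHom.id_apply, ← map_smul]
        exact hd _ _ (by rw [map_smul, hsec, hsec]) }
  refine ⟨g₁, LinearMap.ext fun c => ?_, fun g₂ hg₂ => LinearMap.ext fun x => ?_⟩
  · obtain ⟨c, rfl⟩ := Ideal.Quotient.mk_surjective c
    show G' (sec (algebraMap (MvPolynomial (Fin n) A ⧸ H₂) S (Ideal.Quotient.mk H₂ c))) = _
    rw [halg, hd _ (MvPolynomial.map (algebraMap A R) c) (hsec _)]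
    exact hG' c
  · have h3 : (g₂.comp π.toLinearMap) = G' := (MvPolynomial.basisMonomials (Fin n) R).ext fun d => by
      rw [Module.Basis.constr_basis]
      refine Eq.trans ?_ (LinearMap.congr_fun hg₂ (Ideal.Quotient.mk H₂ (monomial d 1)))
      show g₂ (π (monomial d 1)) = g₂ (algebraMap (MvPolynomial (Fin n) A ⧸ H₂) S (Ideal.Quotient.mk H₂ (monomial d 1)))
      rw [halg, map_monomial, (algebraMap A R).map_one]
    show g₂ x = G' (sec x)
    rw [← h3]
    exact (congrArg g₂ (hsec x)).symm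

open Groth.FlatDescent MvPolynomial in
theorem isBaseChange_of_presentation {A R S : Type u} [CommRing A] [CommRing R] [CommRing S] [Algebra R S] (φ : A →+* R)
    {n k : ℕ} (π : MvPolynomial (Fin n) R →ₐ[R] S) (hπ : Function.Surjective π)
    {M : Type u} [AddCommGroup M] [Module S M]
    {N : Submodule (MvPolynomial (Fin n) R) (Fin k → MvPolynomial (Fin n) R)}
    (f : (Fin k → MvPolynomial (Fin n) R) →+ M) (hf : Function.Surjective f)
    (hsmul : ∀ (r : MvPolynomial (Fin n) R) x, f (r • x) = π r • f x) (hker : ∀ x, f x = 0 ↔ x ∈ N)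
    (N₂ : Submodule (MvPolynomial (Fin n) A) (Fin k → MvPolynomial (Fin n) A)) (hN₂ : baseN φ N₂ = N)
    {S₀ : Type u} [CommRing S₀] [Algebra S₀ S] [Module S₀ ((Fin k → MvPolynomial (Fin n) A) ⧸ N₂)]
    [Algebra (MvPolynomial (Fin n) A) S₀]
    [IsScalarTower (MvPolynomial (Fin n) A) S₀ ((Fin k → MvPolynomial (Fin n) A) ⧸ N₂)]
    [Module S₀ M] [IsScalarTower S₀ S M]
    (halg : ∀ p, algebraMap S₀ S (algebraMap _ S₀ p) = π (MvPolynomial.map φ p))
    (f₀ : ((Fin k → MvPolynomial (Fin n) A) ⧸ N₂) →ₗ[S₀] M)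
    (hf₀ : ∀ y, f₀ (Submodule.Quotient.mk y) = f (mapF φ y)) :
    IsBaseChange S f₀ := by
  let P₂ := MvPolynomial (Fin n) A
  let P := MvPolynomial (Fin n) R
  let F := Fin k → P
  refine IsBaseChange.of_lift_unique _ fun Q _ _ _ _ q => ?_
  letI : Module P Q := Module.compHom Q π.toRingHom
  let G' : F →ₗ[P] Q := (Pi.basisFun P (Fin k)).constr ℕ fun i => q (Submodule.Quotient.mk (Pi.single i 1))
  have hG' : ∀ y : Fin k → P₂, G' (mapF φ y) = q (Submodule.Quotient.mk y) := by
    intro y
    conv_rhs => rw [show y = ∑ i, y i • (Pi.single i 1 : Fin k → P₂) by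
      funext j; simp [Finset.sum_apply, Pi.single_apply]]
    rw [show mapF φ y = ∑ i, MvPolynomial.map φ (y i) • Pi.basisFun P (Fin k) i by
      funext j; simp [Finset.sum_apply, Pi.single_apply], map_sum, ← Submodule.mkQ_apply, map_sum, map_sum]
    refine Finset.sum_congr rfl fun i _ => ?_
    rw [map_smul, Module.Basis.constr_basis, map_smul, ← algebraMap_smul S₀ (y i), map_smul,
      ← algebraMap_smul S (algebraMap P₂ S₀ (y i)), halg]
    rfl
  have hG0 : ∀ x ∈ N, G' x = 0 := by
    intro x hx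
    rw [← hN₂] at hx
    induction hx using Submodule.span_induction with
    | mem x hx =>
      obtain ⟨y, hy, rfl⟩ := hx
      rw [hG', (Submodule.Quotient.mk_eq_zero _).mpr hy, map_zero]
    | zero => exact map_zero _
    | add a b _ _ ha hb => rw [map_add, ha, hb, add_zero]
    | smul c a _ ha => rw [map_smul, ha, smul_zero]
  choose sec hsec using hf
  have hd : ∀ a b, f a = f b → G' a = G' b := fun a b hab => by
    rw [← sub_add_cancel a b, map_add, hG0 (a - b) ((hker _).mp (by rw [map_sub, hab, sub_self])), zero_add]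
  let g₁ : M →ₗ[S] Q :=
    { toFun := fun m => G' (sec m)
      map_add' := fun a b => by
        rw [← map_add]
        exact hd _ _ (by rw [map_add, hsec, hsec, hsec])
      map_smul' := fun c m => by
        obtain ⟨c, rfl⟩ := hπ c
        rw [RingHom.id_apply]
        refine (hd _ (c • sec m) (by rw [hsmul, hsec, hsec])).trans ?_
        rw [map_smul]
        rfl }
  refine ⟨g₁, LinearMap.ext fun m => ?_, fun g₂ hg₂ => LinearMap.ext fun m => ?_⟩
  · obtain ⟨y, rfl⟩ := Submodule.Quotient.mk_surjective _ m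
    show G' (sec (f₀ (Submodule.Quotient.mk y))) = _
    rw [hf₀, hd _ (mapF φ y) (hsec _), hG']
  · let g₂' : F →ₗ[P] Q :=
      { toFun := fun x => g₂ (f x)
        map_add' := fun a b => by rw [map_add, map_add]
        map_smul' := fun c x => by rw [hsmul, map_smul]; rfl }
    have h3 : g₂' = G' := (Pi.basisFun P (Fin k)).ext fun i => by
      rw [Module.Basis.constr_basis]
      refine Eq.trans ?_ (LinearMap.congr_fun hg₂ (Submodule.Quotient.mk (Pi.single i 1)))
      show g₂ (f (Pi.basisFun P (Fin k) i)) = g₂ (f₀ (Submodule.Quotient.mk (Pi.single i 1)))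
      rw [hf₀]
      congr 2
      funext j
      by_cases hj : j = i
      · subst hj; simp
      · simp [Pi.single_eq_of_ne hj]
    have := LinearMap.congr_fun h3 (sec m)
    show g₂ m = G' (sec m)
    rw [← this]
    exact (congrArg g₂ (hsec m)).symm


open Groth.FlatDescent MvPolynomial in
set_option maxHeartbeats 1000000 in
theorem exists_model {A R S M : Type u} [CommRing A] [CommRing R] [CommRing S] [Algebra A R] [Algebra R S] [Algebra A S]
    [IsScalarTower A R S] [AddCommGroup M] [Module S M] {n k : ℕ}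
    (π : MvPolynomial (Fin n) R →ₐ[R] S) (hπ : Function.Surjective π)
    {N : Submodule (MvPolynomial (Fin n) R) (Fin k → MvPolynomial (Fin n) R)}
    (f : (Fin k → MvPolynomial (Fin n) R) →+ M) (hf : Function.Surjective f)
    (hsmul : ∀ (r : MvPolynomial (Fin n) R) x, f (r • x) = π r • f x) (hker : ∀ x, f x = 0 ↔ x ∈ N)
    (N₂ : Submodule (MvPolynomial (Fin n) A) (Fin k → MvPolynomial (Fin n) A)) (hN₂ : baseN (algebraMap A R) N₂ = N)
    (H₂ : Ideal (MvPolynomial (Fin n) A))
    (htor : Module.IsTorsionBySet (MvPolynomial (Fin n) A) ((Fin k → MvPolynomial (Fin n) A) ⧸ N₂)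
      (H₂ : Set (MvPolynomial (Fin n) A)))
    (hHker : ∀ h ∈ H₂, π (MvPolynomial.map (algebraMap A R) h) = 0)
    (hHmap : RingHom.ker π.toRingHom ≤ H₂.map (MvPolynomial.map (algebraMap A R)))
    (hflatM : Module.Flat A ((Fin k → MvPolynomial (Fin n) A) ⧸ N₂)) :
    ∃ (S₀ : Type u) (_ : CommRing S₀)
      (_ : Algebra A S₀) (_ : Algebra S₀ S)
      (_ : IsScalarTower A S₀ S) (M₀ : Type u) (_ : AddCommGroup M₀) (_ : Module S₀ M₀)
      (_ : Module A M₀) (_ : IsScalarTower A S₀ M₀) (_ : Module S₀ M) (_ : IsScalarTower S₀ S M)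
      (f : M₀ →ₗ[S₀] M),
      Algebra.FiniteType A S₀ ∧ Module.Finite S₀ M₀ ∧ Module.Flat A M₀ ∧
        Algebra.IsPushout A R S₀ S ∧ IsBaseChange S f := by
  let φ := algebraMap A R
  let P₂ := MvPolynomial (Fin n) A
  let S₀ := P₂ ⧸ H₂
  let M₀ := (Fin k → P₂) ⧸ N₂
  letI : Module S₀ M₀ := htor.module
  let ψ : S₀ →+* S := Ideal.Quotient.lift H₂ (π.toRingHom.comp (MvPolynomial.map φ)) hHker
  letI : Algebra S₀ S := ψ.toAlgebra
  letI : Module S₀ M := Module.compHom M ψ
  haveI : IsScalarTower S₀ S M := IsScalarTower.of_algebraMap_smul fun _ _ => rfl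
  haveI : IsScalarTower P₂ S₀ M₀ := htor.isScalarTower (S := P₂)
  haveI : IsScalarTower A S₀ M₀ := htor.isScalarTower (S := A)
  haveI : IsScalarTower A S₀ S := ⟨fun a b c => by
    obtain ⟨b, rfl⟩ := Ideal.Quotient.mk_surjective b
    show π (MvPolynomial.map φ (a • b)) * c = a • (π (MvPolynomial.map φ b) * c)
    rw [Algebra.smul_def, MvPolynomial.algebraMap_eq, map_mul, map_mul, MvPolynomial.map_C, ← MvPolynomial.algebraMap_eq,
      π.commutes, Algebra.smul_def, mul_assoc, ← IsScalarTower.algebraMap_apply A R S]⟩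
  let fl : (Fin k → P₂) →+ M := f.comp (mapF φ)
  have hfl : ∀ y ∈ N₂, fl y = 0 := fun y hy => (hker _).mpr (hN₂ ▸ mapF_mem_baseN hy)
  let f₀ : M₀ →ₗ[S₀] M :=
    { toFun := QuotientAddGroup.lift N₂.toAddSubgroup fl hfl
      map_add' := map_add _
      map_smul' := fun c m => by
        obtain ⟨c, rfl⟩ := Ideal.Quotient.mk_surjective c
        obtain ⟨m, rfl⟩ := Submodule.Quotient.mk_surjective _ m
        show f (mapF φ (c • m)) = π (MvPolynomial.map φ c) • f (mapF φ m)
        rw [mapF_smul, hsmul] }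
  have hf₀ : ∀ y, f₀ (Submodule.Quotient.mk y) = f (mapF φ y) := fun _ => rfl
  haveI : Module.Finite P₂ M₀ := inferInstance
  haveI : Module.Finite S₀ M₀ := Module.Finite.of_restrictScalars_finite P₂ S₀ M₀
  
  haveI : Algebra.FiniteType A S₀ := Algebra.FiniteType.of_surjective (Ideal.Quotient.mkₐ A H₂) Ideal.Quotient.mk_surjective
  have hpush : Algebra.IsPushout A R S₀ S := isPushout_of_presentation π hπ H₂ (fun _ => rfl) hHmap
  have hbc : IsBaseChange S f₀ :=
    isBaseChange_of_presentation φ π hπ f hf hsmul hker N₂ hN₂ (fun _ => rfl) f₀ hf₀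
  exact ⟨S₀, inferInstance, inferInstance, inferInstance, inferInstance,
    M₀, inferInstance, inferInstance, inferInstance, inferInstance, inferInstance,
    inferInstance, f₀, inferInstance, inferInstance, hflatM, hpush, hbc⟩

/-- Let R → S be of finite presentation and M a finitely presented S-module which is flat over R. Then
the triple descends to a finite type ℤ-algebra: there are R₀ of finite type over ℤ with R₀ → R, a
finite type R₀-algebra S₀ with a compatible map S₀ → S making S the base change R ⊗_{R₀} S₀, and a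
finite S₀-module M₀ flat over R₀ with an S₀-linear map M₀ → M making M the base change S ⊗_{S₀} M₀. -/
theorem result (R : Type u) [CommRing R]
    (S : Type u) [CommRing S] [Algebra R S] [Algebra.FinitePresentation R S] (M : Type u)
    [AddCommGroup M] [Module S M] [Module R M] [IsScalarTower R S M]
    [Module.FinitePresentation S M] [Module.Flat R M] :
    ∃ (R₀ : Type u) (_ : CommRing R₀) (_ : Algebra R₀ R) (S₀ : Type u) (_ : CommRing S₀)
      (_ : Algebra R₀ S₀) (_ : Algebra S₀ S) (_ : Algebra R₀ S) (_ : IsScalarTower R₀ R S)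
      (_ : IsScalarTower R₀ S₀ S) (M₀ : Type u) (_ : AddCommGroup M₀) (_ : Module S₀ M₀)
      (_ : Module R₀ M₀) (_ : IsScalarTower R₀ S₀ M₀) (_ : Module S₀ M) (_ : IsScalarTower S₀ S M)
      (f : M₀ →ₗ[S₀] M),
      Algebra.FiniteType ℤ R₀ ∧ Algebra.FiniteType R₀ S₀ ∧ Module.Finite S₀ M₀ ∧ Module.Flat R₀ M₀ ∧
        Algebra.IsPushout R₀ R S₀ S ∧ IsBaseChange S f := by
  open Groth.FlatDescent MvPolynomial in
  classical
  obtain ⟨n, k, π, hπ, N, hN, f, hf, hsmul, hker⟩ := exists_presentation R S M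
  let P := MvPolynomial (Fin n) R
  let F := Fin k → P
  have hR : ∀ (r : R) (x : F), f (r • x) = r • f x := fun r x => by
    rw [← algebraMap_smul P r x, hsmul, AlgHom.commutes, algebraMap_smul]
  let fR : F →ₗ[R] M := { f with map_smul' := hR }
  haveI : Module.Flat R (F ⧸ N) := by
    let e : (F ⧸ N.restrictScalars R) ≃ₗ[R] M :=
      (Submodule.quotEquivOfEq _ (LinearMap.ker fR) (by ext x; exact (hker x).symm)).trans (fR.quotKerEquivOfSurjective hf)
    exact Module.Flat.of_linearEquiv ((Submodule.Quotient.restrictScalarsEquiv R N).symm.trans e)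
  obtain ⟨G, hG⟩ := Algebra.FinitePresentation.ker_fG_of_surjective π hπ
  let C : Finset R := G.biUnion fun g => g.coeffs
  obtain ⟨A₁, hA₁, hAA₁, N₁, hN₁, hflat⟩ := exists_flat_model hN (Algebra.adjoin ℤ (C : Set R)) (Subalgebra.fg_adjoin_finset C)
  have hl : ∀ g : G, ∃ g', MvPolynomial.map A₁.val.toRingHom g' = (g : P) := fun g =>
    mem_range_map_iff_coeffs_subset.mpr fun a ha => ⟨⟨a, hAA₁ (Algebra.subset_adjoin
      (Finset.mem_biUnion.mpr ⟨g.1, g.2, ha⟩))⟩, rfl⟩
  choose g' hg' using hl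
  let T : Finset (Fin k → MvPolynomial (Fin n) A₁) :=
    (Finset.univ ×ˢ Finset.univ : Finset (G × Fin k)).image fun p => Pi.single p.2 (g' p.1)
  obtain ⟨A₂, hA₂, h12, hmem⟩ := exists_subalgebra_forall_mem hA₁ N₁ T (by
    intro y hy
    obtain ⟨⟨g, i⟩, -, rfl⟩ := Finset.mem_image.mp hy
    rw [hN₁, ← hker]
    have hs : mapF A₁.val.toRingHom (Pi.single i (g' g)) = (g : P) • (Pi.single i 1 : F) := by
      funext j
      rw [mapF_apply, Pi.smul_apply, smul_eq_mul]
      by_cases hj : j = i
      · subst hj; rw [Pi.single_eq_same, Pi.single_eq_same, hg', mul_one]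
      · rw [Pi.single_eq_of_ne hj, Pi.single_eq_of_ne hj, map_zero, mul_zero]
    have hg0 : π (g : P) = 0 := RingHom.mem_ker.mp (hG.le (Submodule.subset_span g.2))
    rw [hs, hsmul, hg0, zero_smul])
  let φ : A₂ →+* R := A₂.val.toRingHom
  let incl : A₁ →+* A₂ := (Subalgebra.inclusion h12).toRingHom
  let P₂ := MvPolynomial (Fin n) A₂
  let N₂ := baseN incl N₁
  have hN₂ : baseN φ N₂ = N := by rw [baseN_baseN, val_incl, hN₁]
  let H₂ : Ideal P₂ := Ideal.span (Set.range fun g : G => MvPolynomial.map incl (g' g))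
  have hgmap : ∀ g : G, MvPolynomial.map φ (MvPolynomial.map incl (g' g)) = (g : P) := fun g => by
    rw [MvPolynomial.map_map, val_incl, hg']
  have hHker : ∀ h ∈ H₂, π (MvPolynomial.map φ h) = 0 := by
    intro h hh
    induction hh using Submodule.span_induction with
    | mem h hh =>
      obtain ⟨g, rfl⟩ := hh
      rw [hgmap]
      exact RingHom.mem_ker.mp (hG.le (Submodule.subset_span g.2))
    | zero => simp
    | add a b _ _ ha hb => rw [map_add, map_add, ha, hb, add_zero]
    | smul c a _ ha => rw [smul_eq_mul, map_mul, map_mul, ha, mul_zero]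
  have hHmap : RingHom.ker π.toRingHom ≤ H₂.map (MvPolynomial.map φ) := by
    rw [← hG, Submodule.span_le]
    intro g hg
    have := Ideal.mem_map_of_mem (MvPolynomial.map φ) (show MvPolynomial.map incl (g' ⟨g, hg⟩) ∈ H₂ from
      Submodule.subset_span ⟨⟨g, hg⟩, rfl⟩)
    rwa [hgmap] at this
  haveI : Fact (H₂ ≤ Module.annihilator P₂ ((Fin k → P₂) ⧸ N₂)) := ⟨by
    rw [Ideal.span_le]
    rintro _ ⟨g, rfl⟩
    rw [SetLike.mem_coe, Module.mem_annihilator]
    intro m
    obtain ⟨y, rfl⟩ := Submodule.Quotient.mk_surjective _ m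
    rw [← Submodule.Quotient.mk_smul, Submodule.Quotient.mk_eq_zero,
      show MvPolynomial.map incl (g' g) • y = ∑ i, y i • mapF incl (Pi.single i (g' g)) by
        funext j
        rw [Finset.sum_apply, Finset.sum_eq_single j (fun i _ hi => by simp [Pi.single_eq_of_ne (Ne.symm hi)]) (by simp)]
        simp [mul_comm]]
    exact Submodule.sum_mem _ fun i _ => Submodule.smul_mem _ _
      (hmem _ (Finset.mem_image.mpr ⟨(g, i), by simp, rfl⟩))⟩
  have htor : Module.IsTorsionBySet P₂ ((Fin k → P₂) ⧸ N₂) (H₂ : Set P₂) := fun m a =>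
    Module.mem_annihilator.mp ((Fact.out : H₂ ≤ Module.annihilator P₂ ((Fin k → P₂) ⧸ N₂)) a.2) m
  haveI : Algebra.FiniteType ℤ A₂ := ⟨A₂.fg_top.mpr hA₂⟩
  haveI : IsScalarTower A₂ R S := inferInstance
  obtain ⟨S₀, i₁, i₂, i₃, i₄, M₀, i₅, i₆, i₇, i₈, i₉, i₁₀, f₀, j₁, j₂, j₃, j₄, j₅⟩ :=
    exists_model π hπ f hf hsmul hker N₂ hN₂ H₂ htor hHker hHmap (hflat A₂ hA₂ h12)
  exact ⟨A₂, inferInstance, inferInstance, S₀, i₁, i₂, i₃, inferInstance, inferInstance, i₄, M₀, i₅, i₆, i₇, i₈, i₉,
    i₁₀, f₀, inferInstance, j₁, j₂, j₃, j₄, j₅⟩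

end Groth.Agent.S9456
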