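import Groth.Statements.S0404
import Groth.Agent.FibConstr.Dim
-- import your own Groth.Agent.* helpers here

set_option autoImplicit false
universe u
open FlatMor

namespace Groth.Agent.S0404

open AlgebraicGeometry CategoryTheory Limits in
/-- For a flat morphism of finite presentation (here: flat, quasi-compact, quasi-separated and locally
of finite presentation) the dimension of the fibre is a lower semicontinuous function on the target. -/
theorem result {X S : Scheme.{u}} (f : X ⟶ S) [Flat f] [LocallyOfFinitePresentation f] [QuasiCompact f] [QuasiSeparated f] (c : WithBot ℕ∞) :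
    IsOpen {s : S | c < topologicalKrullDim (f.fiber s)} := by
  have hopen : ∀ k : ℕ, IsOpen {s : S | (k : WithBot ℕ∞) ≤ topologicalKrullDim ↥(f.fiber s)} := by
    intro k
    set E := {s : S | (k : WithBot ℕ∞) ≤ topologicalKrullDim ↥(f.fiber s)} with hE
    have hgen : ∀ y y' : S, y' ⤳ y → y ∈ E → y' ∈ E := by
      intro y y' hy hyE
      obtain ⟨_, ⟨V, hV, rfl⟩, hyV, -⟩ := S.isBasis_affineOpens.exists_subset_of_mem_open (Set.mem_univ y) isOpen_univ
      have hy'V : y' ∈ V := hy.mem_open V.2 hyV
      obtain ⟨t, ht, hcov⟩ := FibreND.exists_finite_cover f hV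
      obtain ⟨U, hU⟩ := (FibConstr.le_dim_iff_exists f ht hcov k ⟨y, hyV⟩).1 hyE
      refine (FibConstr.le_dim_iff_exists f ht hcov k ⟨y', hy'V⟩).2 ⟨U, ?_⟩
      haveI : IsAffine (U.1.1 : Scheme.{u}) := U.1.2
      haveI : IsAffine (V : Scheme.{u}) := hV
      haveI : LocallyOfFinitePresentation (f.resLE V U.1.1 (ht _ U.2)) := by
        delta Scheme.Hom.resLE; infer_instance
      haveI : Flat (f.resLE V U.1.1 (ht _ U.2)) := by
        delta Scheme.Hom.resLE; infer_instance
      obtain ⟨X₀, S₀, f₀, g, g', _, _, hpb, hft, hf₀, hflat⟩ := NoethApprox.exists_approx (f.resLE V U.1.1 (ht _ U.2))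
      have : IsNoetherianRing Γ(S₀, ⊤) := Algebra.FiniteType.isNoetherianRing ℤ _
      haveI : IsNoetherian S₀ :=
        { __ := LocallyOfFiniteType.isLocallyNoetherian S₀.isoSpec.hom }
      haveI : LocallyOfFinitePresentation f₀ := LocallyOfFinitePresentation.iff_locallyOfFiniteType.2 hf₀
      haveI : Flat f₀ := hflat inferInstance
      have hsp : (⟨y', hy'V⟩ : (V : Scheme.{u})) ⤳ ⟨y, hyV⟩ :=
        (Scheme.Opens.ι V).isOpenEmbedding.isInducing.specializes_iff.1 hy
      rw [FibConstr.dim_fibre_bc f₀ g _ g' hpb] at hU ⊢
      exact GeomUnib.FibreDimNhds.le_dim_fibre_of_specializes f₀ (hsp.map g.continuous)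
        (fun x _ O hO => f₀.isOpenMap.image_mem_nhds hO) hU
    rw [isOpen_iff_forall_mem_open]
    intro y hy
    obtain ⟨_, ⟨V, hV, rfl⟩, hyV, -⟩ := S.isBasis_affineOpens.exists_subset_of_mem_open (Set.mem_univ y) isOpen_univ
    haveI : IsAffine (V : Scheme.{u}) := hV
    have ho : IsOpen (hV.fromSpec ⁻¹' E) := by
      refine PrimeSpectrum.isOpen_of_stableUnderGeneralization_of_isConstructible
        (fun a b hba ha => hgen _ _ (hba.map hV.fromSpec.continuous) ha) ?_
      exact ((FibConstr.isLocallyConstructible_le_dim f k).preimage_of_isOpenEmbedding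
        hV.fromSpec.isOpenEmbedding).isConstructible
    refine ⟨hV.fromSpec '' (hV.fromSpec ⁻¹' E), Set.image_preimage_subset _ _,
      hV.fromSpec.isOpenEmbedding.isOpenMap _ ho, ?_⟩
    obtain ⟨z, hz⟩ := hV.range_fromSpec.ge hyV
    exact ⟨z, (show hV.fromSpec z ∈ E from hz ▸ hy), hz⟩
  induction c with
  | bot =>
    convert hopen 0 using 1
    ext s
    simp only [Set.mem_setOf_eq, Nat.cast_zero]
    generalize topologicalKrullDim ↥(f.fiber s) = b
    cases b with
    | bot => simp
    | coe b => simp
  | coe a =>
    induction a using ENat.recTopCoe with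
    | top =>
      convert isOpen_empty using 1
      refine Set.eq_empty_of_forall_notMem fun s hs => ?_
      revert hs
      simp only [Set.mem_setOf_eq]
      generalize topologicalKrullDim ↥(f.fiber s) = b
      cases b with
      | bot => simp
      | coe b => simp
    | coe k =>
      convert hopen (k + 1) using 1
      ext s
      simp only [Set.mem_setOf_eq]
      generalize topologicalKrullDim ↥(f.fiber s) = b
      cases b with
      | bot => simp
      | coe b =>
        induction b using ENat.recTopCoe with
        | top => norm_cast; simp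
        | coe j => norm_cast

end Groth.Agent.S0404
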