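import Groth.Statements.S15345
import Mathlib
-- import your own Groth.Agent.* helpers here

set_option autoImplicit false
universe u
open CategoryTheory CategoryTheory.Limits AlgebraicGeometry
open Mor

namespace Groth.Agent.S15345

section Aux
open scoped TensorProduct

set_option linter.style.haveILetI false

variable {X Y : Scheme.{u}} (f : Y ⟶ X)

/-- The chart `Spec (C ⊗ P)` of a base change. -/
theorem exists_chart {R C : Type u} [CommRing R] [CommRing C] [Algebra R C]
    (iU : Spec (.of R) ⟶ X) [IsOpenImmersion iU] (iW : Spec (.of C) ⟶ Y) [IsOpenImmersion iW]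
    (hw : iW ≫ f = Spec.map (CommRingCat.ofHom (algebraMap R C)) ≫ iU)
    (P : Type u) [CommRing P] [Algebra R P] :
    ∃ m : Spec (.of (C ⊗[R] P)) ⟶
        pullback f (Spec.map (CommRingCat.ofHom (algebraMap R P)) ≫ iU),
      IsOpenImmersion m ∧ Set.range m = (pullback.fst f _) ⁻¹' Set.range iW ∧
      m ≫ pullback.snd f _ = Spec.map (CommRingCat.ofHom
        (Algebra.TensorProduct.includeRight.toRingHom : P →+* C ⊗[R] P)) := by
  haveI : IsOpenImmersion
      (pullback.map (Spec.map (CommRingCat.ofHom (algebraMap R C)))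
        (Spec.map (CommRingCat.ofHom (algebraMap R P))) f
        (Spec.map (CommRingCat.ofHom (algebraMap R P)) ≫ iU) iW (𝟙 _) iU hw.symm
        (Category.id_comp _).symm) := inferInstance
  refine ⟨(pullbackSpecIso R C P).inv ≫ pullback.map _ _ _ _ iW (𝟙 _) iU hw.symm
    (Category.id_comp _).symm, inferInstance, ?_, ?_⟩
  · rw [Scheme.Hom.comp_base, TopCat.coe_comp, Set.range_comp,
      show Set.range (pullbackSpecIso R C P).inv = Set.univ from
        Set.range_eq_univ.2 (pullbackSpecIso R C P).inv.homeomorph.surjective, Set.image_univ,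
      Scheme.Pullback.range_map]
    simp
  · rw [Category.assoc, pullback.lift_snd, Category.comp_id, pullbackSpecIso_inv_snd]
    rfl

theorem specializes_of_chart {R C A : Type u} [CommRing R] [CommRing C] [Algebra R C] [CommRing A]
    [Algebra R A]
    (iU : Spec (.of R) ⟶ X) [IsOpenImmersion iU] (iW : Spec (.of C) ⟶ Y) [IsOpenImmersion iW]
    (hw : iW ≫ f = Spec.map (CommRingCat.ofHom (algebraMap R C)) ≫ iU)
    (h : ∀ (X' : Scheme.{u}) (g : X' ⟶ X) [LocallyOfFiniteType g] (y₀ y₁ : ↥(pullback f g)),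
      (pullback.snd f g).base y₁ ⤳ (pullback.snd f g).base y₀ → y₁ ⤳ y₀)
    (q₀ q₁ : PrimeSpectrum (C ⊗[R] A))
    (hq : q₁.comap (Algebra.TensorProduct.includeRight.toRingHom : A →+* C ⊗[R] A) ⤳
      q₀.comap (Algebra.TensorProduct.includeRight.toRingHom : A →+* C ⊗[R] A)) :
    q₁ ⤳ q₀ := by
  rw [← PrimeSpectrum.le_iff_specializes] at hq ⊢
  intro t ht
  obtain ⟨s, rfl⟩ := TensorProduct.exists_finset t
  let ev : MvPolynomial s R →ₐ[R] A := MvPolynomial.aeval fun i => i.1.2
  let φ : C ⊗[R] MvPolynomial s R →ₐ[C] C ⊗[R] A := Algebra.TensorProduct.map (AlgHom.id C C) ev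
  have ht' : (∑ i ∈ s, i.1 ⊗ₜ[R] i.2) =
      φ (∑ i ∈ s.attach, i.1.1 ⊗ₜ[R] (MvPolynomial.X i : MvPolynomial s R)) := by
    rw [map_sum, ← Finset.sum_attach]
    exact Finset.sum_congr rfl fun i _ => by simp [φ, ev]
  obtain ⟨m, hm, -, hm₂⟩ := exists_chart f iU iW hw (MvPolynomial s R)
  haveI : LocallyOfFiniteType (Spec.map (CommRingCat.ofHom (algebraMap R (MvPolynomial s R)))) := by
    rw [HasRingHomProperty.Spec_iff (P := @LocallyOfFiniteType)]
    exact RingHom.finiteType_algebraMap.2 inferInstance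
  let r₀ : PrimeSpectrum (C ⊗[R] MvPolynomial s R) := q₀.comap φ.toRingHom
  let r₁ : PrimeSpectrum (C ⊗[R] MvPolynomial s R) := q₁.comap φ.toRingHom
  have hcomm : φ.toRingHom.comp
      (Algebra.TensorProduct.includeRight.toRingHom : MvPolynomial s R →+* C ⊗[R] MvPolynomial s R) =
      (Algebra.TensorProduct.includeRight.toRingHom : A →+* C ⊗[R] A).comp ev.toRingHom :=
    RingHom.ext fun x => by simp [φ]
  have hr : r₁.comap (Algebra.TensorProduct.includeRight.toRingHom : MvPolynomial s R →+* _) ⤳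
      r₀.comap (Algebra.TensorProduct.includeRight.toRingHom : MvPolynomial s R →+* _) := by
    simp only [r₁, r₀, ← PrimeSpectrum.comap_comp_apply, hcomm]
    rw [PrimeSpectrum.comap_comp_apply, PrimeSpectrum.comap_comp_apply]
    exact ((PrimeSpectrum.le_iff_specializes _ _).1 hq).map (PrimeSpectrum.continuous_comap _)
  have hsp := h _ _ (m r₀) (m r₁) (by
    rw [← Scheme.Hom.comp_apply, ← Scheme.Hom.comp_apply, hm₂]
    exact hr)
  have hle := (PrimeSpectrum.le_iff_specializes _ _).2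
    (m.isOpenEmbedding.isInducing.specializes_iff.1 hsp)
  rw [ht'] at ht ⊢
  exact hle ht


end Aux

/-- Let f : Y ⟶ X be a morphism of schemes, X quasi-separated. If for every morphism X' ⟶ X locally of
finite type the projection Y ×_X X' ⟶ X' reflects specializations (the image of y₁ specializing to
the image of y₀ forces y₁ to specialize to y₀), then the same holds for every morphism X' ⟶ X. (The
published statement assumes moreover that f is a monomorphism; this row does not.) -/
theorem result {X Y : Scheme.{u}} [QuasiSeparatedSpace ↥X]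
    (f : Y ⟶ X)
    (h : ∀ (X' : Scheme.{u}) (g : X' ⟶ X) [LocallyOfFiniteType g] (y₀ y₁ : ↥(pullback f g)),
      (pullback.snd f g).base y₁ ⤳ (pullback.snd f g).base y₀ → y₁ ⤳ y₀) :
    ∀ (X' : Scheme.{u}) (g : X' ⟶ X) (y₀ y₁ : ↥(pullback f g)),
        (pullback.snd f g).base y₁ ⤳ (pullback.snd f g).base y₀ → y₁ ⤳ y₀ := by
  intro X' g y₀ y₁ hy
  have hsm : ∀ y : ↥(pullback f g), f (pullback.fst f g y) = g (pullback.snd f g y) := fun y => by
    rw [← Scheme.Hom.comp_apply, pullback.condition, Scheme.Hom.comp_apply]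
  have hfst : pullback.fst f g y₁ ⤳ pullback.fst f g y₀ := by
    let e : pullback f (𝟙 X) ≅ Y := asIso (pullback.fst f (𝟙 X))
    have key := h X (𝟙 X) (e.inv (pullback.fst f g y₀)) (e.inv (pullback.fst f g y₁)) (by
      have hs : ∀ z, pullback.snd f (𝟙 X) (e.inv z) = f z := fun z => by
        have he : e.inv ≫ pullback.snd f (𝟙 X) = f := by
          rw [Iso.inv_comp_eq]
          simp [e, pullback.condition]
        rw [← Scheme.Hom.comp_apply, he]
      rw [hs, hs, hsm, hsm]
      exact hy.map g.continuous)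
    have := key.map e.hom.continuous
    simpa only [← Scheme.Hom.comp_apply, Category.assoc, Iso.inv_hom_id, Category.comp_id, Scheme.Hom.id_base, TopCat.hom_id,
      TopCat.id_app, ContinuousMap.id_apply] using this
  obtain ⟨U, hU, hxU, -⟩ := exists_isAffineOpen_mem_and_subset
    (TopologicalSpace.Opens.mem_top (f (pullback.fst f g y₀)))
  obtain ⟨W, hW, hyW, hWU⟩ := exists_isAffineOpen_mem_and_subset (U := f ⁻¹ᵁ U)
    (x := pullback.fst f g y₀) hxU
  obtain ⟨V, hV, hxV, hVU⟩ := exists_isAffineOpen_mem_and_subset (U := g ⁻¹ᵁ U)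
    (x := pullback.snd f g y₀) (show g (pullback.snd f g y₀) ∈ U by rw [← hsm]; exact hxU)
  letI : Algebra Γ(X, U) Γ(Y, W) := (f.appLE U W hWU).hom.toAlgebra
  letI : Algebra Γ(X, U) Γ(X', V) := (g.appLE U V hVU).hom.toAlgebra
  have hw : hW.fromSpec ≫ f =
      Spec.map (CommRingCat.ofHom (algebraMap Γ(X, U) Γ(Y, W))) ≫ hU.fromSpec :=
    (IsAffineOpen.SpecMap_appLE_fromSpec f hU hW hWU).symm
  have hv : (Spec.map (CommRingCat.ofHom (algebraMap Γ(X, U) Γ(X', V))) ≫ hU.fromSpec) ≫ 𝟙 X =
      hV.fromSpec ≫ g := by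
    rw [Category.comp_id]
    exact IsAffineOpen.SpecMap_appLE_fromSpec g hU hV hVU
  obtain ⟨m, hm, hmr, hm₂⟩ := exists_chart f hU.fromSpec hW.fromSpec hw Γ(X', V)
  let n := pullback.map f (Spec.map (CommRingCat.ofHom (algebraMap Γ(X, U) Γ(X', V))) ≫ hU.fromSpec)
    f g (𝟙 Y) hV.fromSpec (𝟙 X) (by simp) hv
  have hmem : ∀ y, pullback.fst f g y ∈ W → pullback.snd f g y ∈ V → y ∈ Set.range (m ≫ n) := by
    intro y h1 h2
    have hn : y ∈ Set.range n := by
      rw [Scheme.Pullback.range_map]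
      exact ⟨⟨_, rfl⟩, by rw [Set.mem_preimage, hV.range_fromSpec]; exact h2⟩
    obtain ⟨z, rfl⟩ := hn
    have hz : z ∈ Set.range m := by
      rw [hmr, Set.mem_preimage, hW.range_fromSpec]
      have e : n ≫ pullback.fst f g = pullback.fst f _ := (pullback.lift_fst _ _ _).trans (Category.comp_id _)
      rw [← e, Scheme.Hom.comp_apply]
      exact h1
    obtain ⟨q, rfl⟩ := hz
    exact ⟨q, by rw [Scheme.Hom.comp_apply]⟩
  obtain ⟨q₀, hq₀⟩ := hmem y₀ hyW hxV
  obtain ⟨q₁, hq₁⟩ := hmem y₁ (hfst.mem_open W.2 hyW) (hy.mem_open V.2 hxV)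
  have hsnd : (m ≫ n) ≫ pullback.snd f g = Spec.map (CommRingCat.ofHom
      (Algebra.TensorProduct.includeRight.toRingHom : Γ(X', V) →+*
        TensorProduct Γ(X, U) Γ(Y, W) Γ(X', V))) ≫ hV.fromSpec := by
    rw [← hm₂, Category.assoc, Category.assoc]
    exact congrArg (m ≫ ·) (pullback.lift_snd _ _ _)
  rw [← hq₀, ← hq₁] at hy ⊢
  rw [← Scheme.Hom.comp_apply, ← Scheme.Hom.comp_apply, hsnd, Scheme.Hom.comp_apply,
    Scheme.Hom.comp_apply, hV.fromSpec.isOpenEmbedding.isInducing.specializes_iff] at hy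
  exact (specializes_of_chart f hU.fromSpec hW.fromSpec hw h q₀ q₁ hy).map (m ≫ n).continuous

end Groth.Agent.S15345
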