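import Groth.Statements.S15346
import Mathlib
import Groth.Agent.S15345
import Groth.Agent.S4450
-- import your own Groth.Agent.* helpers here

set_option autoImplicit false
universe u
open CategoryTheory CategoryTheory.Limits AlgebraicGeometry
open Mor

namespace Groth.Agent.S15346

section Aux
open IsLocalRing

set_option linter.style.haveILetI false

theorem isIso_residueFieldMap {P X' : Scheme.{u}} (q : P ⟶ X') [Mono q] (y : P) :
    IsIso (Spec.map (q.residueFieldMap y)) := by
  let r := Spec.map (q.residueFieldMap y)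
  have hr : r ≫ X'.fromSpecResidueField (q y) = P.fromSpecResidueField y ≫ q :=
    Scheme.Hom.SpecMap_residueFieldMap_fromSpecResidueField _ _
  haveI : Mono r := mono_of_mono_fac hr
  haveI : Surjective r := ⟨fun _ => ⟨closedPoint _, Subsingleton.elim _ _⟩⟩
  haveI : Flat r := by
    rw [HasRingHomProperty.Spec_iff (P := @Flat)]
    algebraize [(q.residueFieldMap y).hom]
    exact Module.Flat.of_free
  exact Flat.isIso_of_surjective_of_mono r

theorem reflects_of_dvr {X Y : Scheme.{u}} (f : Y ⟶ X) [Mono f]
    (H : ∀ S : ValuativeCommSq f, IsDiscreteValuationRing S.R →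
        (∃ l₀ : Spec (CommRingCat.of (IsLocalRing.ResidueField S.R)) ⟶ Y,
            l₀ ≫ f = Spec.map (CommRingCat.ofHom (IsLocalRing.residue S.R)) ≫ S.i₂) →
          S.commSq.HasLift)
    {X' : Scheme.{u}} [IsLocallyNoetherian X'] (g : X' ⟶ X) (y₀ y₁ : ↥(pullback f g))
    (h : (pullback.snd f g).base y₁ ⤳ (pullback.snd f g).base y₀) : y₁ ⤳ y₀ := by
  let q := pullback.snd f g
  rcases eq_or_ne (q y₀) (q y₁) with he | hne
  · exact specializes_of_eq (q.injective he).symm
  obtain ⟨A, u, hA, hu, hu'⟩ := Groth.Agent.S4450.result (𝟙 X') (q y₁) (q y₀) h hne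
  haveI : IsIso (Spec.map (q.residueFieldMap y₁)) := isIso_residueFieldMap q y₁
  haveI : IsIso (Spec.map (q.residueFieldMap y₀)) := isIso_residueFieldMap q y₀
  let j₁ := inv (Spec.map (q.residueFieldMap y₁)) ≫ (pullback f g).fromSpecResidueField y₁
  have hj₁ : j₁ ≫ q = Spec.map (CommRingCat.ofHom (algebraMap A (X'.residueField (q y₁)))) ≫ u := by
    simp only [j₁, Category.assoc, ← Scheme.Hom.SpecMap_residueFieldMap_fromSpecResidueField,
      IsIso.inv_hom_id_assoc]
    exact ((Category.comp_id _).symm.trans hu'.symm)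
  let k₀ := Spec.map (CommRingCat.ofHom (residue A)) ≫ u
  obtain ⟨⟨z, φ⟩, hzφ⟩ := (Scheme.SpecToEquivOfField (ResidueField A) X').symm.surjective k₀
  change Spec.map φ ≫ X'.fromSpecResidueField z = k₀ at hzφ
  obtain rfl : z = q y₀ := by
    rw [← X'.fromSpecResidueField_apply z (Spec.map φ (closedPoint (ResidueField A))),
      ← Scheme.Hom.comp_apply, hzφ, Scheme.Hom.comp_apply]
    exact (congrArg u (comap_closedPoint (S := ResidueField A) (residue A))).trans hu
  let L₀ := Spec.map φ ≫ inv (Spec.map (q.residueFieldMap y₀)) ≫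
    (pullback f g).fromSpecResidueField y₀
  have hL₀ : L₀ ≫ q = k₀ := by
    simp only [L₀, Category.assoc, ← Scheme.Hom.SpecMap_residueFieldMap_fromSpecResidueField,
      IsIso.inv_hom_id_assoc]
    exact hzφ
  have hk : (L₀ ≫ pullback.fst f g) ≫ f = Spec.map (CommRingCat.ofHom (residue A)) ≫ u ≫ g := by
    rw [Category.assoc, pullback.condition, reassoc_of% hL₀]
    simp only [k₀, Category.assoc]
  obtain ⟨⟨⟨l, hl₁, hl₂⟩⟩⟩ := H
    { R := A, K := X'.residueField (q y₁), i₁ := j₁ ≫ pullback.fst f g, i₂ := u ≫ g,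
      commSq := ⟨by rw [Category.assoc, pullback.condition, reassoc_of% hj₁]⟩ } hA
    ⟨L₀ ≫ pullback.fst f g, hk⟩
  dsimp only at hl₁ hl₂
  let L : Spec (.of A) ⟶ pullback f g := pullback.lift l u hl₂
  have hL : Spec.map (CommRingCat.ofHom (algebraMap A (X'.residueField (q y₁)))) ≫ L = j₁ := by
    refine (cancel_mono q).1 ?_
    rw [Category.assoc, hj₁, pullback.lift_snd]
  have h0 : L (closedPoint A) = y₀ := by
    refine q.injective ?_
    rw [← Scheme.Hom.comp_apply, pullback.lift_snd]
    exact hu
  have e1 : L (Spec.map (CommRingCat.ofHom (algebraMap A (X'.residueField (q y₁))))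
      (closedPoint (X'.residueField (q y₁)))) = y₁ := by
    rw [← Scheme.Hom.comp_apply, hL]
    simp only [j₁, Scheme.Hom.comp_apply, Scheme.fromSpecResidueField_apply]
  exact ((specializes_of_eq e1.symm).trans
    ((specializes_closedPoint _).map L.continuous)).trans (specializes_of_eq h0)


end Aux

/-- Let X be a locally Noetherian scheme and f : Y ⟶ X a monomorphism. Suppose that for every discrete
valuation ring A with fraction field K and every commutative square Spec K ⟶ Y, Spec A ⟶ X over f
such that some morphism from the spectrum of the residue field of A to Y lies over Spec A ⟶ X, the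
square admits a lift Spec A ⟶ Y. Then after every base change X' ⟶ X the projection Y ×_X X' ⟶ X'
reflects specializations. -/
theorem result {X Y : Scheme.{u}} [IsLocallyNoetherian X]
    (f : Y ⟶ X) [Mono f]
    (h : ∀ S : ValuativeCommSq f, IsDiscreteValuationRing S.R →
        (∃ l₀ : Spec (CommRingCat.of (IsLocalRing.ResidueField S.R)) ⟶ Y,
            l₀ ≫ f = Spec.map (CommRingCat.ofHom (IsLocalRing.residue S.R)) ≫ S.i₂) →
          S.commSq.HasLift) :
    ∀ (X' : Scheme.{u}) (g : X' ⟶ X) (y₀ y₁ : ↥(pullback f g)),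
        (pullback.snd f g).base y₁ ⤳ (pullback.snd f g).base y₀ → y₁ ⤳ y₀ := by
  refine Groth.Agent.S15345.result f fun X' g _ y₀ y₁ hy => ?_
  haveI : IsLocallyNoetherian X' := LocallyOfFiniteType.isLocallyNoetherian g
  exact reflects_of_dvr f h g y₀ y₁ hy

end Groth.Agent.S15346
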