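import Groth.Statements.S1482
import Groth.Agent.Weighting.Local
-- import your own Groth.Agent.* helpers here

set_option autoImplicit false
universe u
open FlatMor

namespace Groth.Agent.S1482

open AlgebraicGeometry CategoryTheory Limits

open Groth.Agent.Weighting

variable {Ω : Type u} [Field Ω] [IsAlgClosed Ω]

theorem geoFib_image {P Q V : Scheme.{u}} (m : P ⟶ Q) [IsOpenImmersion m] (π : Q ⟶ V) (π' : P ⟶ V)
    (hπ : m ≫ π = π') (γ : Spec (CommRingCat.of Ω) ⟶ V) (W : P.Opens) :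
    (fun φ => φ ≫ m) '' geoFib π' γ W = geoFib π γ ↑(m ''ᵁ W) := by
  subst hπ
  ext φ
  constructor
  · rintro ⟨φ₀, ⟨h₁, h₂⟩, rfl⟩
    exact ⟨(Category.assoc _ _ _).trans h₁, pt φ₀, h₂, (pt_comp φ₀ m).symm⟩
  · rintro ⟨h₁, z, hz, hzφ⟩
    have hr : Set.range φ ⊆ Set.range m := by
      rw [range_eq_pt, Set.singleton_subset_iff]; exact ⟨z, hzφ⟩
    refine ⟨IsOpenImmersion.lift m φ hr, ⟨?_, ?_⟩, IsOpenImmersion.lift_fac _ _ _⟩
    · rw [← Category.assoc, IsOpenImmersion.lift_fac, h₁]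
    · have : z = pt (IsOpenImmersion.lift m φ hr) := m.isOpenEmbedding.injective <| by
        rw [← pt_comp, IsOpenImmersion.lift_fac]; exact hzφ
      exact this ▸ hz

theorem exists_geoFib_of_mem {Q V : Scheme.{u}} (π : Q ⟶ V) (W : Q.Opens) [IsFinite (W.ι ≫ π)]
    (γ : Spec (CommRingCat.of Ω) ⟶ V) {w : Q} (hw : w ∈ W) (hπ : π w = pt γ) :
    ∃ φ, φ ∈ geoFib π γ ↑W ∧ pt φ = w := by
  obtain ⟨φ₀, hφ₀, (hpt : pt φ₀ = ⟨w, hw⟩)⟩ := (finite_geoFib_singleton (W.ι ≫ π) γ ⟨w, hw⟩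
    ((Scheme.Hom.comp_apply _ _ _).trans hπ)).2.1
  refine ⟨φ₀ ≫ W.ι, ⟨(Category.assoc _ _ _).trans hφ₀, ?_⟩, ?_⟩
  · rw [pt_comp]; exact (pt φ₀).2
  · rw [pt_comp, hpt]; rfl

theorem isPurelyInseparable_of_comp {K L M : Type u} [Field K] [Field L] [Field M] (a : K →+* L)
    (b : L →+* M) (h : @IsPurelyInseparable K M _ _ (b.comp a).toAlgebra) :
    @IsPurelyInseparable K L _ _ a.toAlgebra := by
  let := a.toAlgebra
  let := b.toAlgebra
  let := (b.comp a).toAlgebra
  have : IsScalarTower K L M := IsScalarTower.of_algebraMap_eq fun _ => rfl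
  exact IsPurelyInseparable.tower_bot K L M

theorem isPurelyInseparable_of_geoFib_subsingleton {Q V : Scheme.{u}} (π : Q ⟶ V) (W : Q.Opens)
    [IsFinite (W.ι ≫ π)] (γ : Spec (CommRingCat.of Ω) ⟶ V) (h : (geoFib π γ ↑W).Subsingleton)
    {w : Q} (hw : w ∈ W) (hπ : π w = pt γ) :
    letI := (π.residueFieldMap w).hom.toAlgebra
    IsPurelyInseparable ↑(V.residueField (π w)) ↑(Q.residueField w) := by
  obtain ⟨w₀, rfl⟩ : ∃ w₀ : (W : Scheme.{u}), W.ι w₀ = w := ⟨⟨w, hw⟩, rfl⟩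
  obtain ⟨hfin, hne, hsum⟩ := finite_geoFib_singleton (W.ι ≫ π) γ w₀
    ((Scheme.Hom.comp_apply _ _ _).trans hπ)
  have hsub : (geoFib (W.ι ≫ π) γ {w₀}).Subsingleton := fun a ha b hb =>
    (cancel_mono W.ι).1 (h ⟨(Category.assoc _ _ _).trans ha.1, by rw [pt_comp]; exact (pt a).2⟩
      ⟨(Category.assoc _ _ _).trans hb.1, by rw [pt_comp]; exact (pt b).2⟩)
  obtain ⟨φ, hφ⟩ := hne
  have h1 := (finsum_mem_congr (hsub.eq_singleton_of_mem hφ) fun _ _ => rfl).symm.trans
    (hsum fun _ => 1)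
  rw [finsum_mem_singleton, one_mul] at h1
  have h2 : @IsPurelyInseparable _ _ _ _ ((W.ι ≫ π).residueFieldMap w₀).hom.toAlgebra := by
    let := ((W.ι ≫ π).residueFieldMap w₀).hom.toAlgebra
    refine isPurelyInseparable_of_finSepDegree_eq_one ?_
    exact_mod_cast h1.symm
  have e : ((W.ι ≫ π).residueFieldMap w₀).hom =
      (W.ι.residueFieldMap w₀).hom.comp (π.residueFieldMap (W.ι w₀)).hom :=
    congrArg CommRingCat.Hom.hom (Scheme.residueFieldMap_comp _ _ _)
  exact isPurelyInseparable_of_comp _ _ (e ▸ h2)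

theorem finite_residueFieldMap {Q V : Scheme.{u}} (π : Q ⟶ V) (W : Q.Opens) [IsFinite (W.ι ≫ π)] {w : Q} (hw : w ∈ W) :
    letI := (π.residueFieldMap w).hom.toAlgebra
    Module.Finite ↑(V.residueField (π w)) ↑(Q.residueField w) := by
  obtain ⟨w₀, rfl⟩ : ∃ w₀ : (W : Scheme.{u}), W.ι w₀ = w := ⟨⟨w, hw⟩, rfl⟩
  have e : ((W.ι ≫ π).residueFieldMap w₀).hom =
      (W.ι.residueFieldMap w₀).hom.comp (π.residueFieldMap (W.ι w₀)).hom :=
    congrArg CommRingCat.Hom.hom (Scheme.residueFieldMap_comp _ _ _)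
  have h := residueFieldMap_finite (W.ι ≫ π) w₀
  rw [e] at h
  letI := (π.residueFieldMap (W.ι w₀)).hom.toAlgebra
  letI := (W.ι.residueFieldMap w₀).hom.toAlgebra
  letI := ((W.ι.residueFieldMap w₀).hom.comp (π.residueFieldMap (W.ι w₀)).hom).toAlgebra
  haveI : IsScalarTower ↑(V.residueField (π (W.ι w₀))) ↑(Q.residueField (W.ι w₀)) ↑((W : Scheme.{u}).residueField w₀) :=
    IsScalarTower.of_algebraMap_eq fun _ => rfl
  haveI : FiniteDimensional ↑(V.residueField (π (W.ι w₀))) ↑((W : Scheme.{u}).residueField w₀) := h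
  exact FiniteDimensional.left ↑(V.residueField (π (W.ι w₀))) ↑(Q.residueField (W.ι w₀)) ↑((W : Scheme.{u}).residueField w₀)


open AlgebraicGeometry CategoryTheory Limits in
/-- Let f : X → S be locally of finite type, s a point of S and x_1, …, x_n pairwise distinct points
over s at which f is quasi-finite. Then there are an étale morphism g : U → S with a point u over s
and, for each i, finitely many opens V_{i,j} of X_U = X ×_S U, each finite over U and containing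
exactly one point v_{i,j} over u, with κ(v_{i,j}) finite purely inseparable over κ(u), the v_{i,j}
pairwise distinct, v_{i,j} mapping to x_i, and every point of X_U over u mapping to some x_i equal
to one of the v_{i,j}. -/
theorem result {X S : Scheme.{u}} (f : X ⟶ S) [LocallyOfFiniteType f] (s : S) {ι : Type} [Finite ι]
    (x : ι → ↑X) (hinj : Function.Injective x) (hs : ∀ i, f (x i) = s) (hx : ∀ i, f.QuasiFiniteAt (x i)) :
    ∃ (U : Scheme.{u}) (g : U ⟶ S) (u : U), Etale g ∧ g u = s ∧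
      ∃ (J : ι → Type) (_ : ∀ i, Finite (J i)) (V : ∀ i, J i → (pullback f g).Opens) (v : ∀ i, J i → ↑(pullback f g)),
        (∀ i j, v i j ∈ V i j ∧ IsFinite ((V i j).ι ≫ pullback.snd f g) ∧ pullback.snd f g (v i j) = u ∧
          (∀ w : ↑(pullback f g), w ∈ V i j → pullback.snd f g w = u → w = v i j) ∧
          (letI := ((pullback.snd f g).residueFieldMap (v i j)).hom.toAlgebra
           Module.Finite ↑(U.residueField (pullback.snd f g (v i j))) ↑((pullback f g).residueField (v i j)) ∧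
           IsPurelyInseparable ↑(U.residueField (pullback.snd f g (v i j))) ↑((pullback f g).residueField (v i j))) ∧
          pullback.fst f g (v i j) = x i) ∧
        (∀ i j i' j', v i j = v i' j' → i = i' ∧ HEq j j') ∧
        (∀ (w : ↑(pullback f g)) (i : ι), pullback.snd f g w = u → pullback.fst f g w = x i → ∃ j, w = v i j) := by
  cases nonempty_fintype ι
  let X' : X.Opens := f.quasiFiniteLocus
  let f' : (X' : Scheme.{u}) ⟶ S := X'.ι ≫ f
  let Ω := AlgebraicClosure (S.residueField s)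
  let γ₀ : Spec (CommRingCat.of Ω) ⟶ S := geoPt S s
  let x' : ι → (X' : Scheme.{u}) := fun i => ⟨x i, hx i⟩
  have hx' : ∀ i, f' (x' i) = pt γ₀ := fun i =>
    ((Scheme.Hom.comp_apply _ _ _).trans (hs i)).trans (pt_geoPt S s).symm
  let Φ : ι → Set (Spec (CommRingCat.of Ω) ⟶ X') := fun i => geoFib f' γ₀ {x' i}
  have hΦfin : ∀ i, (Φ i).Finite := fun i => (finite_geoFib_singleton f' γ₀ _ (hx' i)).1
  have hΦall : (⋃ i, Φ i).Finite := Set.finite_iUnion hΦfin
  obtain ⟨V₀, g₀, _, γ₁, hγ₁, hW⟩ := exists_isolating_family f' γ₀ (⋃ i, Φ i) hΦall (by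
    simp only [Set.mem_iUnion]; rintro χ ⟨i, hχ⟩; exact hχ.1)
  choose W hWfin hWlift using fun χ : ↥(⋃ i, Φ i) => hW χ χ.2
  haveI : Finite ↥(⋃ i, Φ i) := hΦall
  let m : pullback f' g₀ ⟶ pullback f g₀ :=
    pullback.map f' g₀ f g₀ X'.ι (𝟙 _) (𝟙 _) (Category.comp_id _) ((Category.comp_id _).trans (Category.id_comp _).symm)
  have hm₂ : m ≫ pullback.snd f g₀ = pullback.snd f' g₀ := by
    exact (pullback.lift_snd _ _ _).trans (Category.comp_id _)
  have hm₁ : m ≫ pullback.fst f g₀ = pullback.fst f' g₀ ≫ X'.ι := by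
    exact pullback.lift_fst _ _ _
  let W' : ↥(⋃ i, Φ i) → (pullback f g₀).Opens := fun χ => m ''ᵁ W χ
  haveI hW'fin : ∀ χ, IsFinite ((W' χ).ι ≫ pullback.snd f g₀) := fun χ => by
    haveI := hWfin χ
    rw [show (W' χ).ι = (m.isoImage (W χ)).inv ≫ (W χ).ι ≫ m from
      (Scheme.Hom.isoImage_inv_ι _ _).symm, Category.assoc, Category.assoc, hm₂]
    infer_instance
  have hW'lift : ∀ χ, lifts f g₀ (W' χ) γ₁ = {χ.1 ≫ X'.ι} := by
    intro χ
    rw [lifts, ← geoFib_image m _ _ hm₂, Set.image_image,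
      ← Set.image_singleton (f := fun φ => φ ≫ X'.ι), ← hWlift χ, lifts, Set.image_image]
    simp only [Category.assoc, hm₁]
  let γ := γ₁
  let g := g₀
  let V : ↥(⋃ i, Φ i) → (pullback f g).Opens := W'
  haveI hVfin : ∀ χ, IsFinite ((V χ).ι ≫ pullback.snd f g) := hW'fin
  have hγg : γ ≫ g = γ₀ := hγ₁
  have hmem : ∀ χ : ↥(⋃ i, Φ i),
      ∃ φ, geoFib (pullback.snd f g) γ (V χ) = {φ} ∧ φ ≫ pullback.fst f g = χ.1 ≫ X'.ι := by
    intro χ
    have h : lifts f g (V χ) γ = {χ.1 ≫ X'.ι} := hW'lift χ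
    obtain ⟨φ, hφ, he⟩ : χ.1 ≫ X'.ι ∈ lifts f g (V χ) γ := by rw [h]; rfl
    refine ⟨φ, Set.eq_singleton_iff_unique_mem.2 ⟨hφ, fun ψ hψ => injOn_fst hψ hφ ?_⟩, he⟩
    have : ψ ≫ pullback.fst f g ∈ lifts f g (V χ) γ := ⟨ψ, hψ, rfl⟩
    rw [h, Set.mem_singleton_iff] at this
    exact this.trans he.symm
  choose φ hφeq hφfst using hmem
  let e : ∀ i, Fin (Nat.card (Φ i)) ≃ Φ i := fun i =>
    haveI : Finite (Φ i) := hΦfin i
    (Finite.equivFin (Φ i)).symm
  let χof : ∀ i, Fin (Nat.card (Φ i)) → ↥(⋃ i, Φ i) := fun i j =>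
    ⟨(e i j).1, Set.mem_iUnion.2 ⟨i, (e i j).2⟩⟩
  refine ⟨V₀, g, pt γ, inferInstance, by rw [← pt_comp, hγg]; exact pt_geoPt S s,
    fun i => Fin (Nat.card (Φ i)), fun i => inferInstance, fun i j => V (χof i j),
    fun i j => pt (φ (χof i j)), ?_, ?_, ?_⟩
  · intro i j
    have hφm : φ (χof i j) ∈ geoFib (pullback.snd f g) γ (V (χof i j)) := by rw [hφeq]; rfl
    have hsnd : pullback.snd f g (pt (φ (χof i j))) = pt γ := by rw [← pt_comp, hφm.1]
    refine ⟨hφm.2, hVfin _, hsnd, fun w hw hwu => ?_, ?_, ?_⟩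
    · obtain ⟨ψ, hψ, rfl⟩ := exists_geoFib_of_mem (pullback.snd f g) _ γ hw hwu
      rw [hφeq, Set.mem_singleton_iff] at hψ
      rw [hψ]
    · exact ⟨finite_residueFieldMap (pullback.snd f g) _ hφm.2,
        isPurelyInseparable_of_geoFib_subsingleton (pullback.snd f g) _ γ
          (by rw [hφeq]; exact Set.subsingleton_singleton) hφm.2 hsnd⟩
    · rw [← pt_comp, hφfst, pt_comp, show pt (χof i j).1 = x' i from (e i j).2.2]
      rfl
  · intro i j i' j' hv
    have h1 : φ (χof i j) ∈ geoFib (pullback.snd f g) γ (V (χof i j)) := by rw [hφeq]; rfl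
    have h2 : φ (χof i' j') ∈ geoFib (pullback.snd f g) γ (V (χof i' j')) := by rw [hφeq]; rfl
    have h3 : φ (χof i' j') ∈ geoFib (pullback.snd f g) γ (V (χof i j)) := ⟨h2.1, (show pt (φ (χof i j)) = pt (φ (χof i' j')) from hv) ▸ h1.2⟩
    rw [hφeq, Set.mem_singleton_iff] at h3
    have h : (χof i j).1 = (χof i' j').1 := (cancel_mono X'.ι).1 (by rw [← hφfst, ← hφfst, h3])
    have h' : (e i j).1 = (e i' j').1 := h
    have hi : x' i = x' i' := by
      rw [← show pt (e i j).1 = x' i from (e i j).2.2, h']; exact (e i' j').2.2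
    obtain rfl : i = i' := hinj (congrArg Subtype.val hi)
    exact ⟨rfl, heq_of_eq ((e i).injective (Subtype.ext h'))⟩
  · intro w i hwu hwx
    let n : pullback f' g ⟶ pullback f g :=
      pullback.map f' g f g X'.ι (𝟙 _) (𝟙 _) (Category.comp_id _) ((Category.comp_id _).trans (Category.id_comp _).symm)
    have hn₁ : n ≫ pullback.fst f g = pullback.fst f' g ≫ X'.ι := pullback.lift_fst _ _ _
    have hn₂ : n ≫ pullback.snd f g = pullback.snd f' g :=
      (pullback.lift_snd _ _ _).trans (Category.comp_id _)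
    obtain ⟨w₀, rfl⟩ : w ∈ Set.range n := by
      rw [Scheme.Pullback.range_map]
      exact ⟨⟨x' i, hwx.symm⟩, pullback.snd f g w, by simp⟩
    rw [← Scheme.Hom.comp_apply, hn₂] at hwu
    rw [← Scheme.Hom.comp_apply, hn₁, Scheme.Hom.comp_apply] at hwx
    obtain ⟨φ₀, hφ₀, (hpt : pt φ₀ = w₀)⟩ :=
      (finite_geoFib_singleton (pullback.snd f' g) γ w₀ hwu).2.1
    have hχ : φ₀ ≫ pullback.fst f' g ∈ Φ i := by
      refine ⟨?_, ?_⟩
      · rw [Category.assoc, pullback.condition, reassoc_of% hφ₀, hγg]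
      · change pt (φ₀ ≫ pullback.fst f' g) = x' i
        rw [pt_comp, hpt]
        exact X'.ι.isOpenEmbedding.injective hwx
    obtain ⟨j, hj⟩ := (e i).surjective ⟨_, hχ⟩
    refine ⟨j, ?_⟩
    have hm : φ (χof i j) ∈ geoFib (pullback.snd f g) γ (V (χof i j)) := by rw [hφeq]; rfl
    have heq : φ₀ ≫ n = φ (χof i j) := by
      apply pullback.hom_ext
      · rw [Category.assoc, hn₁, hφfst, show (χof i j).1 = φ₀ ≫ pullback.fst f' g from
          congrArg Subtype.val hj, Category.assoc]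
      · rw [Category.assoc, hn₂, hφ₀, hm.1]
    rw [← hpt, ← pt_comp, heq]


end Groth.Agent.S1482
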