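import Groth.Statements.S9355
import Groth.Agent.FibreSemi.Basic
import Groth.Agent.GeomUnib.SectionRestrict
-- import your own Groth.Agent.* helpers here

set_option autoImplicit false
universe u
open FibDim

namespace Groth.Agent.S9355

open AlgebraicGeometry CategoryTheory in
/-- For f : X → S locally of finite presentation and n ≥ 0, the open set U_n of points x with dim_x(X_{f
x}) ≤ n is retrocompact in X. -/
theorem result {X S : Scheme.{u}} (f : X ⟶ S) [LocallyOfFinitePresentation f] (n : ℕ) :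
    IsRetrocompact {x : ↑X | FlatMor.fibreDimAt f x ≤ n} := by
  intro K hK hKo
  have hopen : IsOpen {x : ↑X | FlatMor.fibreDimAt f x ≤ (n : WithBot ℕ∞)} := FibreSemi.isOpen_le f _
  have key : ∀ (V : S.Opens) (U : X.Opens), IsAffineOpen V → IsAffineOpen U → U ≤ f ⁻¹ᵁ V →
      IsCompact ({x : ↑X | FlatMor.fibreDimAt f x ≤ (n : WithBot ℕ∞)} ∩ (U : Set X)) := by
    intro V U hV hU h
    haveI : IsAffine (U : Scheme.{u}) := hU
    haveI : IsAffine (V : Scheme.{u}) := hV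
    haveI : LocallyOfFinitePresentation (f.resLE V U h) := by
      delta Scheme.Hom.resLE; infer_instance
    obtain ⟨X₀, S₀, f₀, g, g', _, _, hpb, hft, hf₀, -⟩ := NoethApprox.exists_approx (f.resLE V U h)
    have : IsNoetherianRing Γ(S₀, ⊤) := Algebra.FiniteType.isNoetherianRing ℤ _
    haveI : IsNoetherian S₀ :=
      { __ := LocallyOfFiniteType.isLocallyNoetherian S₀.isoSpec.hom }
    haveI : IsNoetherian X₀ :=
      { __ := LocallyOfFiniteType.isLocallyNoetherian f₀ }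
    have hbc : ∀ x, FlatMor.fibreDimAt (f.resLE V U h) x = FlatMor.fibreDimAt f₀ (g' x) := by
      intro x
      have e := GeomUnib.SectionBC.fibreDimAt_bc f₀ g (hpb.isoPullback.hom x)
      rw [← GeomUnib.SectionBC.fibreDimAt_restrict (f := Limits.pullback.snd f₀ g) (f' := f.resLE V U h)
        (j := hpb.isoPullback.hom) (i := 𝟙 _) (by simp) x] at e
      refine e.trans ?_
      rw [← Scheme.Hom.comp_apply, IsPullback.isoPullback_hom_fst]
    have hcpt : IsCompact (g' ⁻¹' {z | FlatMor.fibreDimAt f₀ z ≤ (n : WithBot ℕ∞)}) :=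
      QuasiCompact.isCompact_preimage (f := g') _ (FibreSemi.isOpen_le f₀ _) (TopologicalSpace.NoetherianSpace.isCompact _)
    convert hcpt.image U.ι.continuous using 1
    ext x
    constructor
    · rintro ⟨hx, hxU⟩
      refine ⟨⟨x, hxU⟩, ?_, rfl⟩
      show FlatMor.fibreDimAt f₀ (g' ⟨x, hxU⟩) ≤ _
      rw [← hbc, GeomUnib.SectionBC.fibreDimAt_restrict (f := f) (j := U.ι) (i := V.ι) (Scheme.Hom.resLE_comp_ι f h)]
      exact hx
    · rintro ⟨z, hz, rfl⟩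
      refine ⟨?_, z.2⟩
      show FlatMor.fibreDimAt f (U.ι z) ≤ _
      rw [← GeomUnib.SectionBC.fibreDimAt_restrict (f := f) (f' := f.resLE V U h) (j := U.ι) (i := V.ι) (Scheme.Hom.resLE_comp_ι f h), hbc]
      exact hz
  have hcov : ∀ x ∈ K, ∃ UV : X.affineOpens × S.affineOpens, x ∈ (UV.1 : X.Opens) ∧
      ((UV.1 : X.Opens) : Set X) ⊆ K ∧ (UV.1 : X.Opens) ≤ f ⁻¹ᵁ (UV.2 : S.Opens) := by
    intro x hx
    obtain ⟨_, ⟨V, hV, rfl⟩, hxV, -⟩ := S.isBasis_affineOpens.exists_subset_of_mem_open (Set.mem_univ (f x)) isOpen_univ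
    obtain ⟨_, ⟨U, hU, rfl⟩, hxU, hUW⟩ := X.isBasis_affineOpens.exists_subset_of_mem_open
      (show x ∈ ((f ⁻¹ᵁ V : X.Opens) : Set X) ∩ K from ⟨hxV, hx⟩) ((f ⁻¹ᵁ V).2.inter hKo)
    exact ⟨⟨⟨U, hU⟩, ⟨V, hV⟩⟩, hxU, fun z hz => (hUW hz).2, fun z hz => (hUW hz).1⟩
  haveI : Nonempty (X.affineOpens × S.affineOpens) := ⟨⟨⟨⊥, isAffineOpen_bot X⟩, ⟨⊥, isAffineOpen_bot S⟩⟩⟩
  choose! UV hmem hsub hle using hcov
  obtain ⟨t, htK, htcov⟩ := hK.elim_nhds_subcover (fun x => ((UV x).1 : X.Opens).1)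
    (fun x hx => ((UV x).1 : X.Opens).2.mem_nhds (hmem x hx))
  have e : {x : ↑X | FlatMor.fibreDimAt f x ≤ (n : WithBot ℕ∞)} ∩ K =
      ⋃ x ∈ t, ({x : ↑X | FlatMor.fibreDimAt f x ≤ (n : WithBot ℕ∞)} ∩ (((UV x).1 : X.Opens) : Set X)) := by
    ext z
    constructor
    · rintro ⟨hz, hzK⟩
      obtain ⟨x, hx, hzx⟩ := Set.mem_iUnion₂.1 (htcov hzK)
      exact Set.mem_iUnion₂.2 ⟨x, hx, hz, hzx⟩
    · intro hz
      obtain ⟨x, hx, hz1, hz2⟩ := Set.mem_iUnion₂.1 hz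
      exact ⟨hz1, hsub x (htK x hx) hz2⟩
  rw [e]
  exact t.isCompact_biUnion fun x hx => key _ _ (UV x).2.2 (UV x).1.2 (hle x (htK x hx))

end Groth.Agent.S9355
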