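import Mathlib
import Groth.Agent.GoldmanLib.Basic
import Groth.Statements.S9832
-- import your own Groth.Agent.* helpers here

set_option autoImplicit false
universe u
open Props

namespace Groth.Agent.S9832

/-- For a Noetherian ring R and an ideal I inside the Jacobson radical of R, the complement of V(I) in
Spec R is a Jacobson topological space. -/
theorem result (R : Type u) [CommRing R] [IsNoetherianRing R]
    (I : Ideal R) (hI : I ≤ (⊥ : Ideal R).jacobson) :
    JacobsonSpace ↥((PrimeSpectrum.zeroLocus (I : Set R))ᶜ) := by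
  classical
  rw [jacobsonSpace_iff_locallyClosed]
  intro Z hne hlc
  obtain ⟨U, C, hU, hC, hUC⟩ := hlc.image Topology.IsInducing.subtypeVal
    (by rw [Subtype.range_coe]; exact (PrimeSpectrum.isClosed_zeroLocus _).isOpen_compl.isLocallyClosed)
  let T : Set (Ideal R) := PrimeSpectrum.asIdeal '' (Subtype.val '' Z)
  obtain ⟨_, ⟨p, hp, rfl⟩, hmax⟩ := set_has_maximal_iff_noetherian.2 (inferInstance : IsNoetherian R R) T
    ((hne.image _).image _)
  have hpUC : p ∈ U ∩ C := hUC ▸ hp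
  obtain ⟨_, ⟨f, rfl⟩, hpf, hfU⟩ := PrimeSpectrum.isTopologicalBasis_basic_opens.exists_subset_of_mem_open hpUC.1 hU
  have hf : ∀ r : Ideal R, r.IsPrime → p.asIdeal ≤ r → f ∉ r → r = p.asIdeal := by
    intro r hr hle hfr
    have h1 : (⟨r, hr⟩ : PrimeSpectrum R) ∈ U := hfU hfr
    have h2 : (⟨r, hr⟩ : PrimeSpectrum R) ∈ C := ((PrimeSpectrum.le_iff_specializes p ⟨r, hr⟩).1 hle).mem_closed hC hpUC.2
    by_contra hne'
    refine hmax r ⟨⟨r, hr⟩, hUC.symm ▸ ⟨h1, h2⟩, rfl⟩ (lt_of_le_of_ne hle (Ne.symm hne'))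
  obtain ⟨z, hz, rfl⟩ := hp
  refine ⟨z, hz, ?_⟩
  rw [mem_closedPoints_iff]
  refine closure_eq_iff_isClosed.1 (Set.Subset.antisymm (fun y hy => ?_) subset_closure)
  have hle : z.1.asIdeal ≤ y.1.asIdeal := (PrimeSpectrum.le_iff_specializes _ _).2 ((specializes_iff_mem_closure.2 hy).map continuous_subtype_val)
  rcases eq_or_lt_of_le hle with e | e
  · exact Set.mem_singleton_iff.2 (Subtype.ext (PrimeSpectrum.ext e.symm))
  obtain ⟨m, hm, hym⟩ := Ideal.exists_le_maximal _ y.1.2.ne_top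
  have he := Groth.Agent.GoldmanLib.eq_of_le_of_lt z.1.asIdeal f hpf hf y.1.2 hm.isPrime e hym
  exact absurd (fun a ha => he ▸ (hI.trans (sInf_le ⟨bot_le, hm⟩)) ha) y.2

end Groth.Agent.S9832
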