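import Groth.Statements.S7566
open Set Filter Topology

set_option autoImplicit false
universe u
open PtTop

namespace Groth.Agent.S7566

/-- Let X be a quasi-compact topological space whose quasi-compact opens form a basis, any two of them
meeting in a quasi-compact set. Then for every x ∈ X the connected component of x equals the
intersection of every clopen subset of X that contains x. -/
theorem result {X : Type u} [TopologicalSpace X]
    [CompactSpace X] [PrespectralSpace X] [QuasiSeparatedSpace X] (x : X) :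
    connectedComponent x = ⋂₀ {Z : Set X | IsClopen Z ∧ x ∈ Z} := by
  let ι := {Z : Set X // IsClopen Z ∧ x ∈ Z}
  have hne : Nonempty ι := ⟨⟨univ, isClopen_univ, mem_univ x⟩⟩
  set S := ⋂₀ {Z : Set X | IsClopen Z ∧ x ∈ Z} with hSdef
  have hS : S = ⋂ Z : ι, Z.1 := sInter_eq_iInter
  refine Subset.antisymm (fun y hy Z hZ => hZ.1.connectedComponent_subset hZ.2 hy) ?_
  refine IsPreconnected.subset_connectedComponent ?_ (fun Z hZ => hZ.2)
  have hSc : IsClosed S := isClosed_sInter fun Z hZ => hZ.1.1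
  rw [isPreconnected_iff_subset_of_fully_disjoint_closed hSc]
  intro a b ha hb hab habd
  obtain ⟨u, huc, huo, hau, hub⟩ :=
    PrespectralSpace.exists_isCompact_and_isOpen_between (ha.inter hSc).isCompact hb.isOpen_compl
      (fun y hy => Set.disjoint_left.1 habd hy.1)
  obtain ⟨v, hvc, hvo, hbv, hva⟩ :=
    PrespectralSpace.exists_isCompact_and_isOpen_between (hb.inter hSc).isCompact
      ((hSc.inter (ha.inter huo.isClosed_compl |>.union ha)).isOpen_compl)
      (fun y hy h' => Set.disjoint_right.1 habd hy.1 (h'.2.elim And.left id))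
  have hK : IsCompact ((u ∩ v) ∪ (u ∪ v)ᶜ) :=
    (huc.inter_of_isOpen hvc huo hvo).union (huo.union hvo).isClosed_compl.isCompact
  have hdir : Directed (· ⊇ ·) fun Z : ι => Z.1 := fun Z Z' =>
    ⟨⟨Z.1 ∩ Z'.1, Z.2.1.inter Z'.2.1, Z.2.2, Z'.2.2⟩, inter_subset_left, inter_subset_right⟩
  have hdisj : ((u ∩ v) ∪ (u ∪ v)ᶜ) ∩ ⋂ Z : ι, Z.1 = ∅ := by
    rw [← hS, eq_empty_iff_forall_notMem]
    rintro y ⟨h1 | h1, hy⟩
    · rcases hab hy with h2 | h2
      · exact hva h1.2 ⟨hy, Or.inr h2⟩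
      · exact hub h1.1 h2
    · rcases hab hy with h2 | h2
      · exact h1 (Or.inl (hau ⟨h2, hy⟩))
      · exact h1 (Or.inr (hbv ⟨h2, hy⟩))
  obtain ⟨⟨Z, hZ, hxZ⟩, hZK⟩ := hK.elim_directed_family_closed _ (fun Z => Z.2.1.1) hdisj hdir
  rw [eq_empty_iff_forall_notMem] at hZK
  have hcov : Z ⊆ u ∪ v := fun y hy => by_contra fun h => hZK y ⟨Or.inr h, hy⟩
  have hdis : ∀ y ∈ Z, y ∈ u → y ∉ v := fun y hy h1 h2 => hZK y ⟨Or.inl ⟨h1, h2⟩, hy⟩
  rcases hcov hxZ with hx | hx
  · left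
    have hc : IsClopen (Z ∩ u) := by
      refine ⟨?_, hZ.2.inter huo⟩
      have : Z ∩ u = Z ∩ vᶜ := Set.ext fun y =>
        ⟨fun h => ⟨h.1, hdis y h.1 h.2⟩, fun h => ⟨h.1, (hcov h.1).resolve_right h.2⟩⟩
      exact this ▸ hZ.1.inter hvo.isClosed_compl
    intro y hy
    exact (hab hy).resolve_right fun h2 => hub (hy _ ⟨hc, hxZ, hx⟩).2 h2
  · right
    have hc : IsClopen (Z ∩ v) := by
      refine ⟨?_, hZ.2.inter hvo⟩
      have : Z ∩ v = Z ∩ uᶜ := Set.ext fun y =>
        ⟨fun h => ⟨h.1, fun hu => hdis y h.1 hu h.2⟩, fun h => ⟨h.1, (hcov h.1).resolve_left h.2⟩⟩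
      exact this ▸ hZ.1.inter huo.isClosed_compl
    intro y hy
    exact (hab hy).resolve_left fun h2 => hva (hy _ ⟨hc, hxZ, hx⟩).2 ⟨hy, Or.inr h2⟩

end Groth.Agent.S7566
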