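import Groth.Statements.S10242
import Groth.Agent.AlgSpGsectInt.Main
-- import your own Groth.Agent.* helpers here

set_option autoImplicit false
set_option backward.isDefEq.respectTransparency.types false
universe u
open CategoryTheory CategoryTheory.Limits AlgebraicGeometry Topology TopologicalSpace
open AlgSp

namespace Groth.Agent.S10242

/-- Let X be a reduced algebraic space over a scheme S. Then the ring of global sections of the
structure sheaf of X (on the small etale site) is reduced, and if a global section f satisfies X =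
V(f), meaning that its restriction to every scheme U etale over X has empty non-vanishing locus
D(f|_U), then f = 0. -/
theorem result {S : Scheme.{u}} (X : AlgSp.Space S) (hX : AlgSp.IsReducedSp X.obj) :
    _root_.IsReduced ↥(AlgSp.gsectEt (AlgSp.OEt X.obj)) ∧
      ∀ f : ↥(AlgSp.gsectEt (AlgSp.OEt X.obj)),
        (∀ E : AlgSp.EtOver X.obj,
            E.obj.left.left.basicOpen ((limit.π (AlgSp.OEt X.obj).obj (Opposite.op E)) f).down = ⊥) →
          f = 0 := by
  obtain ⟨U, p, hp, hps, hred⟩ := hX
  let E₀ : AlgSp.EtOver X.obj := AlgSp.EtOver.mk p hp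
  have key : ∀ f : ↥(AlgSp.gsectEt (AlgSp.OEt X.obj)), Groth.Agent.AlgSpGsectInt.comp f E₀ = 0 → f = 0 := by
    intro f hf
    refine Concrete.limit_ext _ _ _ (fun E => ?_)
    rw [map_zero]
    obtain ⟨Q, a, b, sqQ⟩ := Groth.Agent.AlgSpLib.exists_isPullback hp.1 E.unop.obj.hom
    have hb : Etale b.left := hp.2 E.unop.obj.hom _ b sqQ
    have hbs : Surjective b.left := hps.2 E.unop.obj.hom _ b sqQ
    let E₁ : AlgSp.EtOver X.obj := AlgSp.EtOver.mk ((AlgSp.yon S).map b ≫ E.unop.obj.hom)
      (Groth.Agent.AlgSpLib.repWith_yon_comp b hb E.unop.property)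
    let ga : E₁ ⟶ E₀ := AlgSp.EtOver.homMk a sqQ.w
    let gb : E₁ ⟶ E.unop := AlgSp.EtOver.homMk b rfl
    refine ULift.down_injective (Groth.Agent.AlgSpGsectInt.appTop_injective_of_flat b.left ?_)
    refine ((Groth.Agent.AlgSpGsectInt.comp_map f gb).trans
      (Groth.Agent.AlgSpGsectInt.comp_map f ga).symm).trans ?_
    exact ((congrArg a.left.appTop.hom hf).trans (map_zero _)).trans (map_zero b.left.appTop.hom).symm
  have : AlgebraicGeometry.IsReduced E₀.obj.left.left := hred
  refine ⟨⟨fun f ⟨n, hn⟩ => key f ?_⟩, fun f h => key f ((basicOpen_eq_bot_iff _).1 (h E₀))⟩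
  have h0 : (Groth.Agent.AlgSpGsectInt.comp f E₀) ^ n = 0 := by
    have := congrArg (fun x => Groth.Agent.AlgSpGsectInt.comp x E₀) hn
    simp only [Groth.Agent.AlgSpGsectInt.comp, map_pow, map_zero] at this
    exact this
  exact IsReduced.eq_zero _ ⟨n, h0⟩

end Groth.Agent.S10242
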