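import Groth.Statements.S9435
import Mathlib
-- import your own Groth.Agent.* helpers here

set_option autoImplicit false
universe u
open CAlg

namespace Groth.Agent.S9435

/-- Given a prime p of a ring R and a finite separable extension L of κ(p), there is an étale R-algebra
R' with a prime p' over p whose residue field is κ(p)-isomorphic to L. Stated through an R-algebra
map ψ : R' → L whose image generates the field L: its kernel is such a prime p' and the induced
κ(p') → L is then an isomorphism over κ(p). -/
theorem result (R : Type u) [CommRing R]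
    (p : Ideal R) [p.IsPrime] (L : Type u) [Field L] [Algebra p.ResidueField L] [Algebra R L]
    [IsScalarTower R p.ResidueField L] [Module.Finite p.ResidueField L]
    [Algebra.IsSeparable p.ResidueField L] :
    ∃ (R' : Type u) (_ : CommRing R') (_ : Algebra R R') (_ : Algebra.Etale R R') (ψ : R' →ₐ[R] L),
      Subfield.closure (Set.range ψ) = ⊤ := by
  classical
  obtain ⟨α, hα⟩ := Field.exists_primitive_element p.ResidueField L
  have hint : IsIntegral p.ResidueField α := Algebra.IsIntegral.isIntegral α
  have hfrac : ∀ c : p.ResidueField, ∃ b : R, b ∉ p ∧ ∃ a : R,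
      algebraMap R p.ResidueField b * c = algebraMap R p.ResidueField a := fun c ↦ by
    obtain ⟨y, rfl⟩ := IsLocalRing.residue_surjective c
    obtain ⟨x, s, rfl⟩ := IsLocalization.exists_mk'_eq p.primeCompl y
    refine ⟨s, s.2, x, ?_⟩
    rw [IsScalarTower.algebraMap_apply R (Localization.AtPrime p) p.ResidueField,
      IsScalarTower.algebraMap_apply R (Localization.AtPrime p) p.ResidueField,
      IsLocalRing.ResidueField.algebraMap_eq, ← map_mul, IsLocalization.mk'_spec']
  choose b hb a ha using hfrac
  let t : R := ∏ i ∈ Finset.range (minpoly p.ResidueField α).natDegree,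
    b ((minpoly p.ResidueField α).coeff i)
  have ht : t ∉ p := fun h ↦ by
    obtain ⟨i, -, hi⟩ := (Ideal.IsPrime.prod_mem_iff).mp h
    exact hb _ hi
  have ht0 : algebraMap R p.ResidueField t ≠ 0 := by rwa [Ne, Ideal.algebraMap_residueField_eq_zero]
  let β : L := algebraMap R p.ResidueField t • α
  let q : Polynomial p.ResidueField :=
    (minpoly p.ResidueField α).scaleRoots (algebraMap R p.ResidueField t)
  have hq : q.Monic := (Polynomial.monic_scaleRoots_iff _).mpr (minpoly.monic hint)
  have hl : q ∈ Polynomial.lifts (algebraMap R p.ResidueField) := by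
    rw [Polynomial.lifts_iff_coeff_lifts]
    intro i
    rw [Polynomial.coeff_scaleRoots]
    rcases lt_trichotomy i (minpoly p.ResidueField α).natDegree with h | rfl | h
    · obtain ⟨k, hk⟩ : ∃ k, (minpoly p.ResidueField α).natDegree - i = k + 1 := ⟨_, (Nat.succ_pred_eq_of_pos (Nat.sub_pos_of_lt h)).symm⟩
      obtain ⟨u, hu⟩ : b ((minpoly p.ResidueField α).coeff i) ∣ t :=
        Finset.dvd_prod_of_mem _ (Finset.mem_range.mpr h)
      refine ⟨a ((minpoly p.ResidueField α).coeff i) * u * t ^ k, ?_⟩
      rw [hk, map_mul, map_mul, map_pow, ← ha, pow_succ', hu, map_mul]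
      ring
    · exact ⟨1, by simp [(minpoly.monic hint).coeff_natDegree]⟩
    · exact ⟨0, by simp [Polynomial.coeff_eq_zero_of_natDegree_lt h]⟩
  obtain ⟨F, hFq, -, hF⟩ := Polynomial.lifts_and_natDegree_eq_and_monic hl hq
  have hroot : Polynomial.aeval β q = 0 := by
    simp only [β, Algebra.smul_def]
    exact Polynomial.scaleRoots_aeval_eq_zero (minpoly.aeval _ _)
  have hqi : q = minpoly p.ResidueField β := by
    have hintβ : IsIntegral p.ResidueField β := Algebra.IsIntegral.isIntegral β
    have hβtop : IntermediateField.adjoin p.ResidueField {β} = ⊤ := by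
      rw [← top_le_iff, ← hα, IntermediateField.adjoin_simple_le_iff]
      have h := (IntermediateField.adjoin p.ResidueField {β}).smul_mem
        (IntermediateField.mem_adjoin_simple_self _ β) (x := (algebraMap R p.ResidueField t)⁻¹)
      rwa [inv_smul_smul₀ ht0] at h
    refine Polynomial.eq_of_monic_of_dvd_of_natDegree_le (minpoly.monic hintβ) hq
      (minpoly.dvd _ _ hroot) ?_
    rw [← IntermediateField.adjoin.finrank hintβ, hβtop, ← hα, IntermediateField.adjoin.finrank hint,
      Polynomial.natDegree_scaleRoots]
  have hsep : Polynomial.aeval β q.derivative ≠ 0 := hqi ▸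
    (Algebra.IsSeparable.isSeparable p.ResidueField β).aeval_derivative_ne_zero (minpoly.aeval _ _)
  let P : StandardEtalePair R :=
    { f := F, monic_f := hF, g := Polynomial.derivative F, cond := ⟨1, 0, 1, by simp⟩ }
  have hβ : P.HasMap β := by
    refine ⟨?_, isUnit_iff_ne_zero.mpr ?_⟩
    · rw [← Polynomial.aeval_map_algebraMap p.ResidueField, hFq, hroot]
    · rw [← Polynomial.aeval_map_algebraMap p.ResidueField, ← Polynomial.derivative_map, hFq]
      exact hsep
  refine ⟨P.Ring, inferInstance, inferInstance, inferInstance, P.lift β hβ, ?_⟩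
  have hκ : ∀ c : p.ResidueField, algebraMap p.ResidueField L c ∈
      Subfield.closure (Set.range (P.lift β hβ)) := fun c ↦ by
    have hR : ∀ r : R, algebraMap R L r ∈ Subfield.closure (Set.range (P.lift β hβ)) := fun r ↦
      Subfield.subset_closure ⟨algebraMap R _ r, AlgHom.commutes _ r⟩
    have hb0 : algebraMap R p.ResidueField (b c) ≠ 0 := by
      rw [Ne, Ideal.algebraMap_residueField_eq_zero]; exact hb c
    have : c = algebraMap R p.ResidueField (a c) / algebraMap R p.ResidueField (b c) :=
      eq_div_of_mul_eq hb0 (by rw [mul_comm]; exact ha c)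
    rw [this, map_div₀, ← IsScalarTower.algebraMap_apply, ← IsScalarTower.algebraMap_apply]
    exact div_mem (hR _) (hR _)
  refine eq_top_iff.mpr fun x _ ↦ ?_
  have hx : x ∈ (IntermediateField.adjoin p.ResidueField {α}) := hα ▸ IntermediateField.mem_top
  refine (IntermediateField.adjoin_le_iff (T := ((Subfield.closure
    (Set.range (P.lift β hβ))).toIntermediateField hκ))).mpr ?_ hx
  rintro y (hy : y = α)
  have hβm : β ∈ Subfield.closure (Set.range (P.lift β hβ)) :=
    Subfield.subset_closure ⟨P.X, P.lift_X _ _⟩
  have : α = algebraMap p.ResidueField L (algebraMap R p.ResidueField t)⁻¹ * β := by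
    rw [← Algebra.smul_def, inv_smul_smul₀ ht0]
  change y ∈ Subfield.closure (Set.range (P.lift β hβ))
  rw [hy, this]
  exact mul_mem (hκ _) hβm

end Groth.Agent.S9435
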