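import Groth.Statements.S9734
import Groth.Agent.S9435
-- import your own Groth.Agent.* helpers here

set_option autoImplicit false
universe u
open FlatMor

namespace Groth.Agent.S9734

open AlgebraicGeometry CategoryTheory Limits in
/-- Let S be a scheme, s a point of S and k a finite separable field extension of the residue field
κ(s). Then there is an étale neighbourhood (U, u) ⟶ (S, s) whose residue field extension κ(u)/κ(s)
is isomorphic to k/κ(s). -/
theorem result (S : Scheme.{u}) (s : S) (k : Type u) [Field k]
    [Algebra (S.residueField s) k] [FiniteDimensional (S.residueField s) k] [Algebra.IsSeparable (S.residueField s) k] :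
    ∃ (U : Scheme.{u}) (g : U ⟶ S) (u : U) (hu : g u = s), Etale g ∧
      letI := ((S.residueFieldCongr hu).inv ≫ g.residueFieldMap u).hom.toAlgebra
      Nonempty (k ≃ₐ[S.residueField s] U.residueField u) := by
  obtain ⟨_, ⟨V, hV, rfl⟩, hsV, -⟩ :=
    S.isBasis_affineOpens.exists_subset_of_mem_open (Set.mem_univ s) isOpen_univ
  replace hV : IsAffineOpen V := hV
  let ev : Γ(S, V) ⟶ S.residueField s := S.presheaf.germ V s hsV ≫ S.residue s
  let p : Ideal Γ(S, V) := RingHom.ker ev.hom
  haveI : p.IsPrime := RingHom.ker_isPrime _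
  let ι : p.ResidueField →+* S.residueField s := Ideal.ResidueField.lift p ev.hom le_rfl
    (fun r hr => (isUnit_iff_ne_zero (a := ev.hom r)).2 hr)
  have hι : Function.Bijective ι := by
    refine ⟨ι.injective, fun c => ?_⟩
    obtain ⟨y, rfl⟩ := IsLocalRing.residue_surjective c
    haveI := hV.isLocalization_stalk ⟨s, hsV⟩
    letI : Algebra Γ(S, V) (S.presheaf.stalk s) := (S.presheaf.germ V s hsV).hom.toAlgebra
    obtain ⟨r, t, rfl⟩ := IsLocalization.exists_mk'_eq (hV.primeIdealOf ⟨s, hsV⟩).asIdeal.primeCompl y
    have ht : IsUnit (ev.hom t) :=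
      (IsLocalization.map_units (S.presheaf.stalk s) t).map (IsLocalRing.residue (S.presheaf.stalk s))
    refine ⟨algebraMap _ p.ResidueField r / algebraMap _ p.ResidueField (t : Γ(S, V)), ?_⟩
    rw [map_div₀, Ideal.ResidueField.lift_algebraMap, Ideal.ResidueField.lift_algebraMap,
      div_eq_iff ht.ne_zero]
    show IsLocalRing.residue _ _ = IsLocalRing.residue _ _ * IsLocalRing.residue _ _
    erw [← map_mul]
    exact congrArg _ (IsLocalization.mk'_spec (S.presheaf.stalk s) r t).symm
  letI : Algebra p.ResidueField (S.residueField s) := ι.toAlgebra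
  haveI : Module.Finite p.ResidueField (S.residueField s) :=
    Module.Finite.of_surjective (Algebra.linearMap p.ResidueField (S.residueField s)) hι.2
  haveI : Algebra.IsSeparable p.ResidueField (S.residueField s) :=
    Algebra.IsSeparable.of_equiv_equiv (RingEquiv.refl p.ResidueField) (RingEquiv.ofBijective ι hι) rfl
  letI : Algebra p.ResidueField k := ((algebraMap (S.residueField s) k).comp ι).toAlgebra
  haveI : IsScalarTower p.ResidueField (S.residueField s) k := IsScalarTower.of_algebraMap_eq' rfl
  haveI : Module.Finite p.ResidueField k := Module.Finite.trans (S.residueField s) k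
  haveI : Algebra.IsSeparable p.ResidueField k := Algebra.IsSeparable.trans p.ResidueField (S.residueField s) k
  letI : Algebra Γ(S, V) k := ((algebraMap (S.residueField s) k).comp ev.hom).toAlgebra
  haveI : IsScalarTower Γ(S, V) p.ResidueField k := IsScalarTower.of_algebraMap_eq fun r =>
    (congrArg (algebraMap (S.residueField s) k) (Ideal.ResidueField.lift_algebraMap p ev.hom le_rfl _ r)).symm
  obtain ⟨R', _, _, _, ψ, hψ⟩ := S9435.result Γ(S, V) p k
  let αk : S.residueField s ⟶ CommRingCat.of k := CommRingCat.ofHom (algebraMap (S.residueField s) k)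
  let a : Spec (CommRingCat.of k) ⟶ Spec (CommRingCat.of R') := Spec.map (CommRingCat.ofHom ψ.toRingHom)
  let g : Spec (CommRingCat.of R') ⟶ S := Spec.map (CommRingCat.ofHom (algebraMap Γ(S, V) R')) ≫ hV.fromSpec
  have hsquare : a ≫ g = Spec.map αk ≫ S.fromSpecResidueField s := by
    rw [Scheme.fromSpecResidueField, ← hV.fromSpecStalk_eq_fromSpecStalk hsV, IsAffineOpen.fromSpecStalk]
    simp only [a, g, ← Category.assoc, ← Spec.map_comp]
    congr 2
    ext r
    exact ψ.commutes r
  let u := a (IsLocalRing.closedPoint k)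
  let θ := Scheme.descResidueField (Scheme.stalkClosedPointTo a)
  have hθ : Spec.map θ ≫ (Spec (CommRingCat.of R')).fromSpecResidueField u = a :=
    Scheme.descResidueField_stalkClosedPointTo_fromSpecResidueField k _ a
  have hu : g u = s := by
    rw [← Scheme.Hom.comp_apply, hsquare, Scheme.Hom.comp_apply, Scheme.fromSpecResidueField_apply]
  refine ⟨Spec (CommRingCat.of R'), g, u, hu, ?_, ?_⟩
  · haveI : Etale (Spec.map (CommRingCat.ofHom (algebraMap Γ(S, V) R'))) :=
      HasRingHomProperty.Spec_iff.2 (RingHom.etale_algebraMap.2 inferInstance)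
    infer_instance
  have hcomp : (S.residueFieldCongr hu).inv ≫ g.residueFieldMap u ≫ θ = αk := by
    rw [← Spec.map_inj, ← cancel_mono (S.fromSpecResidueField s), Spec.map_comp, Spec.map_comp,
      Category.assoc, Category.assoc, ← hsquare, ← hθ, Category.assoc,
      ← Scheme.Hom.SpecMap_residueFieldMap_fromSpecResidueField,
      ← Scheme.residueFieldCongr_fromSpecResidueField hu.symm]
    simp [Scheme.residueFieldCongr_inv]
  have hψθ : CommRingCat.ofHom ψ.toRingHom =
      (((Scheme.ΓSpecIso (CommRingCat.of R')).inv ≫ (Spec (CommRingCat.of R')).presheaf.germ ⊤ u trivial) ≫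
        (Spec (CommRingCat.of R')).residue u) ≫ θ := by
    rw [← Spec.map_inj, Spec.map_comp, Spec.map_comp, ← Spec.fromSpecStalk_eq]
    exact hθ.symm
  have hsurj : Function.Surjective θ.hom := by
    rw [← RingHom.range_eq_top, ← top_le_iff]
    intro x _
    have hx : x ∈ θ.hom.fieldRange := (Subfield.closure_le (t := θ.hom.fieldRange)).2
      (by rintro _ ⟨r, rfl⟩; exact ⟨((((Scheme.ΓSpecIso (CommRingCat.of R')).inv ≫ (Spec (CommRingCat.of R')).presheaf.germ ⊤ u trivial) ≫
        (Spec (CommRingCat.of R')).residue u)).hom r, (RingHom.congr_fun (congrArg CommRingCat.Hom.hom hψθ) r).symm⟩)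
      (hψ.ge trivial)
    exact hx
  letI := ((S.residueFieldCongr hu).inv ≫ g.residueFieldMap u).hom.toAlgebra
  exact ⟨(AlgEquiv.ofBijective
    { θ.hom with commutes' := fun c => RingHom.congr_fun (congrArg CommRingCat.Hom.hom hcomp) c }
    ⟨θ.hom.injective, hsurj⟩).symm⟩

end Groth.Agent.S9734
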