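import Groth.Statements.S1344
import Groth.Agent.CMLocalDim.Basic
-- import your own Groth.Agent.* helpers here

set_option autoImplicit false
universe u
open FlatMor

namespace Groth.Agent.S1344

open AlgebraicGeometry CategoryTheory Limits in
/-- Let f be locally of finite type between locally Noetherian schemes and Cohen–Macaulay at every
point. Then for every point x of the source with image y, the local dimension of the source at x
equals the local dimension of the target at y plus the local dimension at x of the fibre over y. -/
theorem result {X Y : Scheme.{u}} (f : X ⟶ Y) [IsLocallyNoetherian X] [IsLocallyNoetherian Y] [LocallyOfFiniteType f]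
    (hf : ∀ x : X, MoreMor.IsCMAt f x) (x : X) :
    FlatMor.localDim ↑X x = FlatMor.localDim ↑Y (f x) + FlatMor.fibreDimAt f x := by
  obtain ⟨n, U, hxU, g, hg, hgf, hgq⟩ := Groth.FlatDescent.CM.exists_toAffineSpace_of_isCMAt f x (hf x)
  have hU : ∀ u ∈ U, FlatMor.fibreDimAt f u = n := fun u hu =>
    Groth.FlatDescent.CM.fibreDimAt_of_toAffineSpace f U g hg ⟨u, hu⟩ (Flat.stalkMap g _)
  rw [Groth.Agent.CMLocalDim.localDim_eq f (fun x => (hf x).1) n U hU x hxU, hU x hxU]

end Groth.Agent.S1344
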