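import Groth.Statements.S0120
import Mathlib

set_option autoImplicit false
open CategoryTheory CategoryTheory.Limits AlgebraicGeometry Opposite
universe u
open EtBase

namespace Groth.Agent.S0120

/-- For an étale morphism X → Y with Y locally Noetherian and a point x of X, the local ring of X at x
and the local ring of Y at the image of x have the same Krull dimension. -/
theorem result {X Y : Scheme.{u}} (f : X ⟶ Y) [AlgebraicGeometry.Etale f]
    [IsLocallyNoetherian Y] (x : X) :
    ringKrullDim (X.presheaf.stalk x) = ringKrullDim (Y.presheaf.stalk (f.base x)) := by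
  have : IsLocallyNoetherian X := LocallyOfFiniteType.isLocallyNoetherian f
  let R := Y.presheaf.stalk (f.base x)
  let S := X.presheaf.stalk x
  algebraize [(f.stalkMap x).hom]
  have hflat : Module.Flat R S := Flat.stalkMap f x
  have : Algebra.EssFiniteType R S := LocallyOfFiniteType.stalkMap f x
  have : Algebra.FormallyUnramified R S := FormallyUnramified.stalkMap f x
  have : IsLocalHom (algebraMap R S) := inferInstanceAs (IsLocalHom (f.stalkMap x).hom)
  have hm : (IsLocalRing.maximalIdeal R).map (algebraMap R S) = IsLocalRing.maximalIdeal S :=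
    Algebra.FormallyUnramified.map_maximalIdeal
  have : (IsLocalRing.maximalIdeal S).LiesOver (IsLocalRing.maximalIdeal R) :=
    ⟨(IsLocalRing.maximalIdeal_comap (algebraMap R S)).symm⟩
  have h := Ideal.height_eq_height_add_of_liesOver_of_hasGoingDown (IsLocalRing.maximalIdeal R)
    (IsLocalRing.maximalIdeal S)
  have h0 : ((IsLocalRing.maximalIdeal S).map
      (Ideal.Quotient.mk ((IsLocalRing.maximalIdeal R).map (algebraMap R S)))).height = 0 := by
    have : Nontrivial (S ⧸ IsLocalRing.maximalIdeal S) :=
      Ideal.Quotient.nontrivial_iff.mpr (IsLocalRing.maximalIdeal.isMaximal S).ne_top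
    rw [hm, Ideal.map_quotient_self, Ideal.height_bot]
  rw [h0, add_zero] at h
  rw [← IsLocalRing.maximalIdeal_height_eq_ringKrullDim,
    ← IsLocalRing.maximalIdeal_height_eq_ringKrullDim]
  exact congrArg _ h

end Groth.Agent.S0120
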