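import Groth.Statements.S9885
import Groth.Agent.AlgSpLib.DiagMor
-- import your own Groth.Agent.* helpers here

set_option autoImplicit false
set_option backward.isDefEq.respectTransparency.types false
universe u
open CategoryTheory CategoryTheory.Limits AlgebraicGeometry
open AlgSp

namespace Groth.Agent.S9885

/-- Let `a : F ⟶ G` be a map of fppf sheaves of sets over `S` which is representable by schemes, flat,
locally of finite presentation and surjective (in the representable sense). Then `a` is surjective
as a map of sheaves (locally surjective). -/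
theorem result (S : Scheme.{u}) (F G : AlgSp.Sp S) (a : F ⟶ G)
    (h₁ : AlgSp.RepWith @Flat a) (h₂ : AlgSp.RepWith @LocallyOfFinitePresentation a)
    (h₃ : AlgSp.RepWith @Surjective a) : Sheaf.IsLocallySurjective a := by
  refine ⟨fun {T} s => ?_⟩
  obtain ⟨V, snd, fst, sq⟩ := h₁.1 ((AlgSp.J S).uliftYonedaEquiv.symm s)
  have hf : Flat snd.left := h₁.2 _ fst snd sq
  have hp : LocallyOfFinitePresentation snd.left := h₂.2 _ fst snd sq
  have hs : Surjective snd.left := h₃.2 _ fst snd sq
  rw [GrothendieckTopology.mem_over_iff]
  refine GrothendieckTopology.superset_covering _ ?_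
    (Precoverage.generate_mem_toGrothendieck (Scheme.Hom.singleton_mem_fppfPrecoverage snd.left))
  rw [Sieve.generate_le_iff]
  rintro W _ ⟨⟩
  have hmem : (Presheaf.imageSieve a.hom s).arrows snd := by
    refine ⟨(AlgSp.J S).uliftYonedaEquiv fst, ?_⟩
    rw [← GrothendieckTopology.uliftYonedaEquiv_comp, sq.w,
      ← GrothendieckTopology.uliftYonedaEquiv_naturality, Equiv.apply_symm_apply]
  rw [Sieve.overEquiv_iff]
  have := (Presheaf.imageSieve a.hom s).downward_closed hmem
    (Over.homMk (𝟙 _) (by simp) : Over.mk (snd.left ≫ T.hom) ⟶ V)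
  convert this using 1
  ext
  simp

end Groth.Agent.S9885
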