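import Groth.Statements.S10618
import Mathlib
-- import your own Groth.Agent.* helpers here

set_option autoImplicit false
universe u
open CategoryTheory CategoryTheory.Limits AlgebraicGeometry
open AlgSp

namespace Groth.Agent.S10618

theorem et_iff {S : Scheme.{u}} {F G : AlgSp.Sp S} (f : F ⟶ G) :
    AlgSp.IsFormallyEtaleMor f ↔ AlgSp.IsFormallySmoothMor f ∧ AlgSp.IsFormallyUnramifiedMor f := by
  constructor
  · intro h
    exact ⟨fun sq => (h sq).exists, fun sq l l' a b a' b' => (h sq).unique ⟨a, b⟩ ⟨a', b'⟩⟩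
  · rintro ⟨hs, hu⟩ sq
    obtain ⟨l, hl⟩ := hs sq
    exact ⟨l, hl, fun l' hl' => hu sq l' l hl'.1 hl'.2 hl.1 hl.2⟩


/-- Let a : F ⟶ G and b : G ⟶ H be morphisms of fppf sheaves on (Sch/S) with b formally unramified. If a
≫ b is formally unramified, resp. formally etale, resp. formally smooth, then so is a. (The
published statement is for transformations of arbitrary presheaves of sets on (Sch/S)_fppf; this row
takes fppf sheaves, the case of algebraic spaces.) -/
theorem result {S : Scheme.{u}} {F G H : AlgSp.Sp S} (a : F ⟶ G) (b : G ⟶ H)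
    (hb : AlgSp.IsFormallyUnramifiedMor b) :
    (AlgSp.IsFormallyUnramifiedMor (a ≫ b) → AlgSp.IsFormallyUnramifiedMor a) ∧
    (AlgSp.IsFormallyEtaleMor (a ≫ b) → AlgSp.IsFormallyEtaleMor a) ∧
    (AlgSp.IsFormallySmoothMor (a ≫ b) → AlgSp.IsFormallySmoothMor a) := by
  have U : AlgSp.IsFormallyUnramifiedMor (a ≫ b) → AlgSp.IsFormallyUnramifiedMor a := by
    intro hab sq l l' h1 h2 h1' h2'
    exact hab { A := sq.A, I := sq.I, sq_zero := sq.sq_zero, str := sq.str, top := sq.top, bot := sq.bot ≫ b, comm := by rw [← Category.assoc, sq.comm, Category.assoc] } l l' h1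
      ((Category.assoc _ _ _).symm.trans (congrArg (· ≫ b) h2)) h1' ((Category.assoc _ _ _).symm.trans (congrArg (· ≫ b) h2'))
  have Sm : AlgSp.IsFormallySmoothMor (a ≫ b) → AlgSp.IsFormallySmoothMor a := by
    intro hab sq
    obtain ⟨l, hl1, hl2⟩ := hab { A := sq.A, I := sq.I, sq_zero := sq.sq_zero, str := sq.str, top := sq.top, bot := sq.bot ≫ b, comm := by rw [← Category.assoc, sq.comm, Category.assoc] }
    refine ⟨l, hl1, ?_⟩
    exact hb { A := sq.A, I := sq.I, sq_zero := sq.sq_zero, str := sq.str, top := sq.top ≫ a, bot := sq.bot ≫ b, comm := (congrArg (· ≫ b) sq.comm).trans (Category.assoc _ _ _) } (l ≫ a) sq.bot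
      ((Category.assoc _ _ _).symm.trans (congrArg (· ≫ a) hl1)) ((Category.assoc _ _ _).trans hl2)
      sq.comm.symm rfl
  refine ⟨U, ?_, Sm⟩
  rw [et_iff, et_iff]
  exact fun h => ⟨Sm h.1, U h.2⟩

end Groth.Agent.S10618
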