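import Groth.Statements.S10619
import Mathlib
-- import your own Groth.Agent.* helpers here

set_option autoImplicit false
universe u
open CategoryTheory CategoryTheory.Limits AlgebraicGeometry
open AlgSp

namespace Groth.Agent.S10619

theorem et_iff {S : Scheme.{u}} {F G : AlgSp.Sp S} (f : F ⟶ G) :
    AlgSp.IsFormallyEtaleMor f ↔ AlgSp.IsFormallySmoothMor f ∧ AlgSp.IsFormallyUnramifiedMor f := by
  constructor
  · intro h
    exact ⟨fun sq => (h sq).exists, fun sq l l' a b a' b' => (h sq).unique ⟨a, b⟩ ⟨a', b'⟩⟩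
  · rintro ⟨hs, hu⟩ sq
    obtain ⟨l, hl⟩ := hs sq
    exact ⟨l, hl, fun l' hl' => hu sq l' l hl'.1 hl'.2 hl.1 hl.2⟩


/-- A composition of formally smooth, resp. formally etale, resp. formally unramified morphisms of fppf
sheaves on (Sch/S) is again formally smooth, resp. formally etale, resp. formally unramified. (The
published statement is for transformations of arbitrary presheaves of sets on (Sch/S)_fppf; this row
takes fppf sheaves, the case of algebraic spaces.) -/
theorem result {S : Scheme.{u}} {F G H : AlgSp.Sp S} (a : F ⟶ G) (b : G ⟶ H) :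
    (AlgSp.IsFormallySmoothMor a → AlgSp.IsFormallySmoothMor b → AlgSp.IsFormallySmoothMor (a ≫ b)) ∧
    (AlgSp.IsFormallyEtaleMor a → AlgSp.IsFormallyEtaleMor b → AlgSp.IsFormallyEtaleMor (a ≫ b)) ∧
    (AlgSp.IsFormallyUnramifiedMor a → AlgSp.IsFormallyUnramifiedMor b → AlgSp.IsFormallyUnramifiedMor (a ≫ b)) := by
  have U : AlgSp.IsFormallyUnramifiedMor a → AlgSp.IsFormallyUnramifiedMor b →
      AlgSp.IsFormallyUnramifiedMor (a ≫ b) := by
    intro ha hb sq l l' h1 h2 h1' h2'
    let sqb : AlgSp.InfSq b :=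
      { A := sq.A, I := sq.I, sq_zero := sq.sq_zero, str := sq.str, top := sq.top ≫ a, bot := sq.bot, comm := by rw [Category.assoc]; exact sq.comm }
    have e : l ≫ a = l' ≫ a := hb sqb (l ≫ a) (l' ≫ a)
      (by show _ = sq.top ≫ a; rw [← h1, Category.assoc]) (by show _ = sq.bot; rw [← h2, Category.assoc])
      (by show _ = sq.top ≫ a; rw [← h1', Category.assoc]) (by show _ = sq.bot; rw [← h2', Category.assoc])
    let sqa : AlgSp.InfSq a :=
      { A := sq.A, I := sq.I, sq_zero := sq.sq_zero, str := sq.str, top := sq.top, bot := l ≫ a, comm := by rw [← h1, Category.assoc] }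
    exact ha sqa l l' h1 rfl h1' e.symm
  have Sm : AlgSp.IsFormallySmoothMor a → AlgSp.IsFormallySmoothMor b →
      AlgSp.IsFormallySmoothMor (a ≫ b) := by
    intro ha hb sq
    obtain ⟨m, hm1, hm2⟩ := hb { A := sq.A, I := sq.I, sq_zero := sq.sq_zero, str := sq.str, top := sq.top ≫ a, bot := sq.bot, comm := by rw [Category.assoc]; exact sq.comm }
    obtain ⟨l, hl1, hl2⟩ := ha { A := sq.A, I := sq.I, sq_zero := sq.sq_zero, str := sq.str, top := sq.top, bot := m, comm := hm1.symm }
    exact ⟨l, hl1, (Category.assoc _ _ _).symm.trans ((congrArg (· ≫ b) hl2).trans hm2)⟩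
  refine ⟨Sm, ?_, U⟩
  rw [et_iff, et_iff, et_iff]
  exact fun ha hb => ⟨Sm ha.1 hb.1, U ha.2 hb.2⟩

end Groth.Agent.S10619
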