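import Groth.Statements.S3843
import Groth.Agent.FlatDescent.Dom.Preimage

set_option autoImplicit false
universe u
open CategoryTheory CategoryTheory.Limits AlgebraicGeometry TopologicalSpace
open Rat20

namespace Groth.Agent.S3843

/-- For the open subset U = X; the general case is the same statement over the open subscheme U: let f :
X' → X be flat and locally of finite presentation. Then for every schematically dense open subset V
of X, the preimage f⁻¹(V) is schematically dense in X'. -/
theorem result {X X' : Scheme.{u}} (f : X' ⟶ X) [Flat f]
    [LocallyOfFinitePresentation f] (V : X.Opens) (hV : CInt.IsSchematicallyDense V) :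
    CInt.IsSchematicallyDense (f ⁻¹ᵁ V) := by
  exact Groth.FlatDescent.Dom.isSchematicallyDense_preimage_of_schDom f V
    (Groth.FlatDescent.Dom.schDom_pullback_snd _ ((Groth.FlatDescent.Dom.schDom_ι_iff V).mp hV) f)

end Groth.Agent.S3843
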