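import Groth.Statements.S12731
import Groth.Agent.ArtFunLib.Criteria
import Groth.Agent.ArtFunLib.Trunc
import Groth.Agent.ArtFunLib.Separable
import Mathlib

set_option autoImplicit false
universe u v
open CategoryTheory
open ArtFun

namespace Groth.Agent.S12731

/-- For functors, if a functor F on Artinian local Λ-algebras with residue field k with F(k) a point has
a versal family over a complete local Noetherian ring with residue field k which is bijective on
tangent spaces (a hull), then F satisfies (S1) and (S2) and has finite-dimensional tangent space. -/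
theorem result {Λ : Type u} {k : Type u} [CommRing Λ] [Field k] [Algebra Λ k]
    [IsNoetherianRing Λ] [Module.Finite Λ k]
    (F : ArtFun.Art Λ k ⥤ Type v) [ArtFun.TangentStr F] (h0 : ArtFun.H0 F) (h : ArtFun.HasHull F) :
    ArtFun.S1 F ∧ ArtFun.Heps F ∧ ArtFun.Hfin F := by
  open Groth.Agent.ArtFunLib ArtFun ArtFun.Art ArtFun.CRing in
  obtain ⟨⟨R, ξ, hv, hb⟩⟩ := h
  have hs := IsVersal.app_surjective hv h0
  refine ⟨s1_of_versal hv hs, heps_of_miniversal hv hb.1 hs, ?_⟩
  obtain ⟨q, w, hw⟩ := Module.Finite.exists_fin (R := Λ) (M := R.trunc 1)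
  choose a ha using fun b => Ideal.Quotient.mk_surjective (w b)
  let e := Equiv.ofBijective _ hb
  let L : TangentSpace F → (Fin q → k) := fun x b => TrivSqZeroExt.snd (show DualNumber k from (e.symm x).1 (a b))
  have he : ∀ φ, e.symm (ξ.app (dual Λ k) φ) = φ := fun φ => e.symm_apply_apply φ
  have hadd : ∀ x y, L (x + y) = L x + L y := fun x y => by
    obtain ⟨φx, rfl⟩ := hb.2 x
    obtain ⟨φy, rfl⟩ := hb.2 y
    obtain ⟨φ, h₁, h₂⟩ := exists_homSet_lift (isFibreProd_dual2 (Λ := Λ) (k := k)) (g₁ := φx) (g₂ := φy)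
      (Subsingleton.elim _ _)
    have hz : TangentSpace.mk (F := F) (ξ.app (dual Λ k) φx) + TangentSpace.mk (F := F) (ξ.app (dual Λ k) φy) = TangentSpace.mk (F := F) (ξ.app (dual Λ k) (HomSet.map plus φ)) := by
      rw [← h₁, ← h₂, ξ.natural, ξ.natural, ξ.natural]
      exact TangentStr.add_eq _
    funext b
    rw [Pi.add_apply]
    simp only [L]
    erw [hz, he, he, he, ← h₁, ← h₂]
    rfl
  have hsmul : ∀ (c : k) x, L (c • x) = c • L x := fun c x => by
    obtain ⟨φx, rfl⟩ := hb.2 x
    have hz : c • TangentSpace.mk (F := F) (ξ.app (dual Λ k) φx) = TangentSpace.mk (F := F) (ξ.app (dual Λ k) (HomSet.map (scale c) φx)) := by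
      rw [ξ.natural]
      exact TangentStr.smul_eq _ _
    funext b
    rw [Pi.smul_apply]
    simp only [L]
    erw [hz, he, he]
    rfl
  let Lₗ : TangentSpace F →ₗ[k] (Fin q → k) := { toFun := L, map_add' := hadd, map_smul' := hsmul }
  refine Module.Finite.of_injective Lₗ fun x y hxy => e.symm.injective ?_
  set φ := e.symm x
  set ψ := e.symm y
  have hkill : ∀ χ : HomSet R.carrier R.res (dual Λ k), ∀ r ∈ mpow R 1, χ.1 r = 0 := fun χ r hr => by
    have := homSet_mpow χ 1 hr
    rw [sq] at this
    refine Submodule.mul_induction_on this (fun u hu v hv => ?_) (fun u v hu hv => by rw [hu, hv, add_zero])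
    rw [Art.mem_maximalIdeal_iff] at hu hv
    exact TrivSqZeroExt.ext ((TrivSqZeroExt.fst_mul _ _).trans (by
        rw [show TrivSqZeroExt.fst (show DualNumber k from u) = 0 from hu, zero_mul]; rfl))
      ((TrivSqZeroExt.snd_mul _ _).trans (by
        rw [show TrivSqZeroExt.fst (show DualNumber k from u) = 0 from hu,
          show TrivSqZeroExt.fst (show DualNumber k from v) = 0 from hv]
        simp only [zero_smul, MulOpposite.op_zero, add_zero]
        rfl))
  have hlift : ∀ b, (truncLift φ 1 (hkill φ)) (w b) = (truncLift ψ 1 (hkill ψ)) (w b) := fun b => by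
    rw [← ha b]
    exact TrivSqZeroExt.ext ((homSet_res φ (a b)).trans (homSet_res ψ (a b)).symm) (congrFun hxy b)
  have heq : truncLift φ 1 (hkill φ) = truncLift ψ 1 (hkill ψ) :=
    Art.hom_ext (AlgHom.toLinearMap_injective (LinearMap.ext_on_range hw hlift))
  rw [← truncLift_truncHom φ 1 (hkill φ), heq, truncLift_truncHom]

end Groth.Agent.S12731
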