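import Mathlib
import Groth.Statements.S6862
-- import your own Groth.Agent.* helpers here

set_option autoImplicit false
universe u
open CAlg

namespace Groth.Agent.S6862

/-- Let `R` be a commutative ring and `P'`, `P`, `P''` finitely generated projective `R`-modules in an
exact sequence `0 → P' → P → P'' → 0`. Whenever two of the three are stably free, the remaining one
is stably free too (all three cases are stated). -/
theorem result {R : Type u} [CommRing R] {P' P P'' : Type u}
    [AddCommGroup P'] [Module R P'] [Module.Finite R P'] [Module.Projective R P']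
    [AddCommGroup P] [Module R P] [Module.Finite R P] [Module.Projective R P]
    [AddCommGroup P''] [Module R P''] [Module.Finite R P''] [Module.Projective R P'']
    (f : P' →ₗ[R] P) (g : P →ₗ[R] P'') (hf : Function.Injective f) (hg : Function.Surjective g)
    (hfg : Function.Exact f g) :
    (Module.IsStablyFree R P' → Module.IsStablyFree R P → Module.IsStablyFree R P'') ∧
    (Module.IsStablyFree R P' → Module.IsStablyFree R P'' → Module.IsStablyFree R P) ∧
    (Module.IsStablyFree R P → Module.IsStablyFree R P'' → Module.IsStablyFree R P') := by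
  have prod : ∀ (A B : Type u) [AddCommGroup A] [Module R A] [AddCommGroup B] [Module R B],
      Module.IsStablyFree R A → Module.IsStablyFree R B → Module.IsStablyFree R (A × B) := fun A B _ _ _ _ hA hB => by
    obtain ⟨N₁, _, _, _, _, _⟩ := Module.IsStablyFree.exist_free_prod R A
    obtain ⟨N₂, _, _, _, _, _⟩ := Module.IsStablyFree.exist_free_prod R B
    haveI : Module.Free R ((A × B) × (N₁ × N₂)) := Module.Free.of_equiv (LinearEquiv.prodProdProdComm R A N₁ B N₂)
    exact Module.IsStablyFree.of_free_prod R (A × B) (N₁ × N₂)
  have cancel : ∀ (A B : Type u) [AddCommGroup A] [Module R A] [AddCommGroup B] [Module R B] [Module.Finite R A],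
      Module.IsStablyFree R A → Module.IsStablyFree R (A × B) → Module.IsStablyFree R B := fun A B _ _ _ _ _ hA hAB => by
    obtain ⟨N₁, _, _, _, _, _⟩ := Module.IsStablyFree.exist_free_prod R A
    obtain ⟨N₂, _, _, _, _, _⟩ := Module.IsStablyFree.exist_free_prod R (A × B)
    let E : (((A × B) × N₂) × N₁) ≃ₗ[R] B × ((A × N₁) × N₂) :=
      { toFun := fun q => (q.1.1.2, ((q.1.1.1, q.2), q.1.2))
        invFun := fun q => (((q.2.1.1, q.1), q.2.2), q.2.1.2)
        map_add' := fun _ _ => rfl
        map_smul' := fun _ _ => rfl
        left_inv := fun _ => rfl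
        right_inv := fun _ => rfl }
    haveI : Module.Free R (B × ((A × N₁) × N₂)) := Module.Free.of_equiv E
    exact Module.IsStablyFree.of_free_prod R B ((A × N₁) × N₂)
  obtain ⟨s, hs⟩ := Module.projective_lifting_property g LinearMap.id hg
  have hs' : ∀ y, g (s y) = y := fun y => LinearMap.congr_fun hs y
  have hbij : Function.Bijective (f.coprod s) := by
    refine ⟨(injective_iff_map_eq_zero _).mpr fun ⟨x, y⟩ hxy => ?_, fun p => ?_⟩
    · simp only [LinearMap.coprod_apply] at hxy
      have hy : y = 0 := by simpa [hs', hfg.apply_apply_eq_zero] using congrArg g hxy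
      subst hy
      simp only [map_zero, add_zero] at hxy
      simp [hf (hxy.trans (map_zero f).symm)]
    · obtain ⟨x, hx⟩ := (hfg (p - s (g p))).mp (by simp [hs'])
      exact ⟨(x, g p), by simp [hx]⟩
  let e : (P' × P'') ≃ₗ[R] P := LinearEquiv.ofBijective _ hbij
  refine ⟨fun h1 h => cancel P' P'' h1 (haveI := h; Module.IsStablyFree.equiv e.symm),
    fun h1 h2 => haveI := prod P' P'' h1 h2; Module.IsStablyFree.equiv e,
    fun h h2 => cancel P'' P' h2 (haveI := h; Module.IsStablyFree.equiv (e.symm.trans (LinearEquiv.prodComm R P' P'')))⟩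

end Groth.Agent.S6862
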