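import Groth.Statements.S5863
import Groth.Agent.RadPtLib.Basic
-- import your own Groth.Agent.* helpers here

set_option autoImplicit false
universe u
open RadPt

open CategoryTheory.Limits

namespace Groth.Agent.S5863

open CategoryTheory AlgebraicGeometry in
/-- Let f : X → Y and h : Y' → Y be morphisms of schemes, f' : X ×_Y Y' → Y' the base change of f (any
cartesian square), y' a point of Y' and y = h(y'). Then f is radicial at y if and only if f' is
radicial at y'. -/
theorem result {X Y X' Y' : Scheme.{u}} {f : X ⟶ Y} {h : Y' ⟶ Y} {f' : X' ⟶ Y'} {h' : X' ⟶ X}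
    (sq : IsPullback h' f' f h) (y' : Y') :
    RadPt.IsRadicialAt f (h y') ↔ RadPt.IsRadicialAt f' y' := by
  rw [RadPtLib.isRadicialAt_iff_points, RadPtLib.isRadicialAt_iff_points]
  constructor
  · intro H K _ g₁ g₂ hg hy
    refine sq.hom_ext (H K _ _ ?_ ?_) hg
    · rw [Category.assoc, Category.assoc, sq.w, reassoc_of% hg]
    · rw [Category.assoc, sq.w, ← Category.assoc, Scheme.Hom.comp_apply, hy]
  · intro H K _ g₁ g₂ hg hy
    obtain ⟨z, hz₁, hz₂⟩ := Scheme.Pullback.exists_preimage_pullback (f := g₁ ≫ f) (g := h) (IsLocalRing.closedPoint K) y' hy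
    let φ := (pullback (g₁ ≫ f) h).fromSpecResidueField z
    let p := φ ≫ pullback.fst (g₁ ≫ f) h
    let r := φ ≫ pullback.snd (g₁ ≫ f) h
    have w₁ : (p ≫ g₁) ≫ f = r ≫ h := by simp [p, r, pullback.condition]
    have w₂ : (p ≫ g₂) ≫ f = r ≫ h := by rw [Category.assoc, ← hg, ← Category.assoc, w₁]
    have key : sq.lift _ _ w₁ = sq.lift _ _ w₂ := by
      refine H _ _ _ ((sq.lift_snd _ _ _).trans (sq.lift_snd _ _ _).symm) ?_
      refine (congrArg (fun m : Spec ((pullback (g₁ ≫ f) h).residueField z) ⟶ Y' =>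
        m (IsLocalRing.closedPoint _)) (sq.lift_snd _ _ _)).trans ?_
      show pullback.snd (g₁ ≫ f) h (φ (IsLocalRing.closedPoint _)) = y'
      rw [Scheme.fromSpecResidueField_apply, hz₂]
    have key' : p ≫ g₁ = p ≫ g₂ := by
      have := congrArg (· ≫ h') key
      simpa using this
    obtain ⟨ψ, hψ⟩ := Spec.map_surjective p
    haveI : Surjective p := ⟨fun a => ⟨IsLocalRing.closedPoint _, Subsingleton.elim (α := PrimeSpectrum K) _ _⟩⟩
    haveI : Flat p := by
      rw [← hψ, HasRingHomProperty.Spec_iff (P := @Flat)]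
      letI := ψ.hom.toAlgebra
      exact inferInstanceAs (Module.Flat K ((pullback (g₁ ≫ f) h).residueField z))
    haveI := Flat.epi_of_flat_of_surjective p
    exact (cancel_epi p).mp key'

end Groth.Agent.S5863
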