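import Groth.Statements.S4752
import Groth.Agent.S9634
import Mathlib

set_option autoImplicit false
universe u
open EGA4

namespace Groth.Agent.S4752

open scoped TensorProduct

/-- A flat algebra with geometrically reduced fibres keeps a reduced Noetherian ring reduced. -/
theorem isReduced_baseChange {B : Type u} (C R : Type u) [CommRing B] [CommRing C] [CommRing R]
    [Algebra B C] [Algebra B R] [Module.Flat B C] [IsNoetherianRing R] [IsReduced R]
    (hBC : ∀ (q : Ideal B) [q.IsPrime], Algebra.IsGeometricallyReduced q.ResidueField (q.Fiber C)) :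
    IsReduced (C ⊗[B] R) := by
  classical
  let P := minimalPrimes R
  have hfin : Finite P := (minimalPrimes.finite_of_isNoetherianRing R).to_subtype
  have : Fintype P := Fintype.ofFinite P
  have hP : ∀ i : P, (i : Ideal R).IsPrime := fun i => i.2.1.1
  let L : P → Type u := fun i => (i : Ideal R).ResidueField
  let f : ∀ i : P, R →ₐ[B] L i := fun i => IsScalarTower.toAlgHom B R (L i)
  let ι : R →ₗ[B] (∀ i, L i) := LinearMap.pi fun i => (f i).toLinearMap
  have hι : Function.Injective ι := by
    refine (injective_iff_map_eq_zero ι).mpr fun x hx => ?_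
    refine IsNilpotent.eq_zero (mem_nilradical.mp ?_)
    rw [nilradical, Ideal.radical_eq_sInf, Ideal.mem_sInf]
    rintro Q ⟨-, hQ⟩
    obtain ⟨q, hq, hqQ⟩ := Ideal.exists_minimalPrimes_le (bot_le : (⊥ : Ideal R) ≤ Q)
    have : q.IsPrime := hq.1.1
    have h1 : algebraMap R (q.ResidueField) x = 0 := congrFun hx ⟨q, hq⟩
    exact hqQ (by rwa [← RingHom.mem_ker, Ideal.ker_algebraMap_residueField] at h1)
  have hred : ∀ i, IsReduced (C ⊗[B] L i) := by
    intro i
    let q : Ideal B := RingHom.ker (algebraMap B (L i))
    have : q.IsPrime := RingHom.ker_isPrime _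
    let : Algebra q.ResidueField (L i) := (Ideal.ResidueField.lift q (algebraMap B (L i)) le_rfl
      fun x hx => isUnit_iff_ne_zero.mpr hx).toAlgebra
    have : IsScalarTower B q.ResidueField (L i) :=
      .of_algebraMap_eq fun x => (Ideal.ResidueField.lift_algebraMap ..).symm
    have h1 : (Algebra.IsGeometricallyReduced q.ResidueField (q.Fiber C)) ↔
        ∀ (K : Type u) [Field K] [Algebra q.ResidueField K],
          IsReduced (K ⊗[q.ResidueField] q.Fiber C) :=
      (S9634.result (k := q.ResidueField) (S := q.Fiber C)).out 1 2
    have := h1.mp (hBC q) (L i)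
    have : IsReduced (L i ⊗[B] C) :=
      isReduced_of_injective
        (Algebra.TensorProduct.cancelBaseChange B q.ResidueField (L i) (L i) C).symm (AlgEquiv.injective _)
    exact isReduced_of_injective (Algebra.TensorProduct.comm B C (L i)) (AlgEquiv.injective _)
  refine ⟨fun z hz => ?_⟩
  have hinj : Function.Injective (LinearMap.lTensor C ι) :=
    Module.Flat.lTensor_preserves_injective_linearMap ι hι
  refine hinj ((TensorProduct.piRight B B C L).injective (funext fun i => ?_))
  have hnat : ∀ w, TensorProduct.piRight B B C L (LinearMap.lTensor C ι w) i =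
      Algebra.TensorProduct.map (AlgHom.id B C) (f i) w := by
    intro w
    induction w using TensorProduct.induction_on with
    | zero => simp
    | tmul c r => simp [ι]
    | add x y hx hy => simp only [map_add, Pi.add_apply, hx, hy]
  rw [hnat, map_zero, map_zero]
  exact (hz.map (Algebra.TensorProduct.map (AlgHom.id B C) (f i))).eq_zero

/-- Case of reduced morphisms, affine form: let A → B → C be homomorphisms of Noetherian rings, both
flat and with geometrically reduced fibres. Then the composite A → C is flat with geometrically
reduced fibres. -/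
theorem result (A B C : Type u) [CommRing A] [CommRing B] [CommRing C] [IsNoetherianRing A]
    [IsNoetherianRing B] [IsNoetherianRing C] [Algebra A B] [Algebra B C] [Algebra A C] [IsScalarTower A B C]
    [Module.Flat A B] [Module.Flat B C]
    (hAB : ∀ (p : Ideal A) [p.IsPrime], Algebra.IsGeometricallyReduced p.ResidueField (p.Fiber B))
    (hBC : ∀ (q : Ideal B) [q.IsPrime], Algebra.IsGeometricallyReduced q.ResidueField (q.Fiber C)) :
    Module.Flat A C ∧ ∀ (p : Ideal A) [p.IsPrime], Algebra.IsGeometricallyReduced p.ResidueField (p.Fiber C) := by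
  refine ⟨Module.Flat.trans A B C, fun p _ => ?_⟩
  let κ := p.ResidueField
  have h1 : (∀ (k' : Type u) [Field k'] [Algebra κ k'] [Module.Finite κ k'] [IsPurelyInseparable κ k'],
      IsReduced (k' ⊗[κ] p.Fiber C)) ↔ Algebra.IsGeometricallyReduced κ (p.Fiber C) :=
    (S9634.result (k := κ) (S := p.Fiber C)).out 0 1
  refine h1.mp fun k' _ _ _ _ => ?_
  let : Algebra A k' := ((algebraMap κ k').comp (algebraMap A κ)).toAlgebra
  have : IsScalarTower A κ k' := .of_algebraMap_eq fun _ => rfl
  have : Algebra.EssFiniteType A k' := Algebra.EssFiniteType.comp A κ k'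
  have := hAB p
  have : IsReduced (k' ⊗[A] B) :=
    isReduced_of_injective (Algebra.TensorProduct.cancelBaseChange A κ k' k' B).symm
      (AlgEquiv.injective _)
  have : IsReduced (B ⊗[A] k') :=
    isReduced_of_injective (Algebra.TensorProduct.comm A B k') (AlgEquiv.injective _)
  have : IsNoetherianRing (B ⊗[A] k') := Algebra.EssFiniteType.isNoetherianRing B (B ⊗[A] k')
  have := isReduced_baseChange C (B ⊗[A] k') hBC
  have : IsReduced (C ⊗[A] k') :=
    isReduced_of_injective (Algebra.TensorProduct.cancelBaseChange A B C C k').symm (AlgEquiv.injective _)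
  have : IsReduced (k' ⊗[A] C) :=
    isReduced_of_injective (Algebra.TensorProduct.comm A k' C) (AlgEquiv.injective _)
  exact isReduced_of_injective (Algebra.TensorProduct.cancelBaseChange A κ k' k' C)
    (AlgEquiv.injective _)

end Groth.Agent.S4752
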