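import Groth.Statements.S9812
import Mathlib
-- import your own Groth.Agent.* helpers here

set_option autoImplicit false
universe u
open CAlg2

namespace Groth.Agent.S9812

/-- At the level of the local ring: an integrally closed local domain is geometrically unibranch.
Consequently a normal scheme is geometrically unibranch. -/
theorem result (A : Type u) [CommRing A] [IsLocalRing A]
    [IsDomain A] [IsIntegrallyClosed A] : CAlg2.IsGeomUnibranch A := by
    have hbot : nilradical A = ⊥ := nilradical_eq_zero A
    let e : (A ⧸ nilradical A) ≃+* A := (Ideal.quotEquivOfEq hbot).trans (RingEquiv.quotientBot A)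
    haveI : IsDomain (CAlg2.red A) := e.toMulEquiv.isDomain A
    haveI : IsIntegrallyClosed (CAlg2.red A) := IsIntegrallyClosed.of_equiv e.symm
    have hb : Function.Bijective (algebraMap (CAlg2.red A) (CAlg2.normRed A)) := by
      refine ⟨fun x y h => IsFractionRing.injective _ (FractionRing (CAlg2.red A)) (congrArg Subtype.val h), fun z => ?_⟩
      obtain ⟨r, hr⟩ := IsIntegrallyClosed.isIntegral_iff.mp z.2
      exact ⟨r, Subtype.ext hr⟩
    let ψ : A ≃+* CAlg2.normRed A := e.symm.trans (RingEquiv.ofBijective _ hb)
    refine ⟨⟨inferInstance, ψ.isLocalRing⟩, fun m' _ x => ⟨0, ?_⟩⟩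
    obtain ⟨y, rfl⟩ := Ideal.Quotient.mk_surjective x
    obtain ⟨a, rfl⟩ := ψ.surjective y
    exact ⟨a, by rw [pow_zero, pow_one]; rfl⟩

end Groth.Agent.S9812
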