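import Mathlib
import Groth.Statements.S6278
-- import your own Groth.Agent.* helpers here

set_option autoImplicit false
universe u
open CAlg

namespace Groth.Agent.S6278

/-- A normal ring R (all localizations at primes are integrally closed domains) is integrally closed in
its total ring of fractions. -/
theorem result (R : Type u) [CommRing R] (hR : EGA4.IsNormalRing R) : IsIntegrallyClosedIn R (FractionRing R) := by
  rw [isIntegrallyClosedIn_iff]
  refine ⟨IsFractionRing.injective R (FractionRing R), fun {x} hx => ?_⟩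
  obtain ⟨a, b, rfl⟩ := IsLocalization.exists_mk'_eq (nonZeroDivisors R) x
  let J : Ideal R := Submodule.comap (LinearMap.toSpanSingleton R R a) (Ideal.span {(b : R)})
  by_cases hJ : J = ⊤
  · obtain ⟨c, hc⟩ := Ideal.mem_span_singleton'.mp (show (LinearMap.toSpanSingleton R R a) 1 ∈ Ideal.span {(b : R)} from (Eq.ge hJ) (Submodule.mem_top : (1 : R) ∈ (⊤ : Ideal R)))
    refine ⟨c, ?_⟩
    rw [IsLocalization.eq_mk'_iff_mul_eq, ← map_mul, hc]
    simp
  obtain ⟨p, hp, hle⟩ := Ideal.exists_le_maximal J hJ
  haveI := hp.isPrime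
  haveI : IsDomain (Localization.AtPrime p) := (hR p).1
  haveI : IsIntegrallyClosed (Localization.AtPrime p) := (hR p).2
  let Ap := Localization.AtPrime p
  let L := FractionRing Ap
  let f : R →+* L := (algebraMap Ap L).comp (algebraMap R Ap)
  have hu : ∀ y : nonZeroDivisors R, IsUnit (f y) := fun y => by
    refine isUnit_iff_ne_zero.mpr fun h0 => ?_
    have h1 : algebraMap R Ap y = 0 := (map_eq_zero_iff _ (IsFractionRing.injective Ap L)).mp h0
    obtain ⟨t, ht⟩ := (IsLocalization.map_eq_zero_iff p.primeCompl Ap _).mp h1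
    exact t.2 (((mem_nonZeroDivisors_iff.mp y.2).2 _ ht).symm ▸ p.zero_mem)
  let ψ : FractionRing R →+* L := IsLocalization.lift hu
  have hψ : ψ.comp (algebraMap R (FractionRing R)) = f := IsLocalization.lift_comp hu
  obtain ⟨q, hq, hqx⟩ := hx
  have hint : IsIntegral Ap (ψ (IsLocalization.mk' _ a b)) := by
    refine ⟨q.map (algebraMap R Ap), hq.map _, ?_⟩
    have := congrArg ψ hqx
    rw [map_zero, Polynomial.hom_eval₂, hψ] at this
    rwa [Polynomial.eval₂_map]
  obtain ⟨y, hy⟩ := IsIntegrallyClosed.algebraMap_eq_of_integral hint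
  obtain ⟨c, s, rfl⟩ := IsLocalization.exists_mk'_eq p.primeCompl y
  have h1 : algebraMap R Ap (c * b) = algebraMap R Ap (s * a) := by
    refine IsFractionRing.injective Ap L ?_
    have h2 : ψ (IsLocalization.mk' _ a b) * f b = f a := by
      rw [← hψ]
      show ψ _ * ψ _ = ψ _
      rw [← map_mul, IsLocalization.mk'_spec]
    rw [← hy] at h2
    have h3 : algebraMap R Ap c = IsLocalization.mk' Ap c s * algebraMap R Ap s := (IsLocalization.mk'_spec _ _ _).symm
    simp only [f, RingHom.comp_apply] at h2
    rw [map_mul, map_mul, map_mul, map_mul, h3, map_mul, ← h2]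
    ring
  obtain ⟨t, ht⟩ := (IsLocalization.eq_iff_exists p.primeCompl Ap).mp h1
  refine absurd (hle (?_ : (t : R) * s ∈ J)) (p.primeCompl.mul_mem t.2 s.2)
  show LinearMap.toSpanSingleton R R a (t * s) ∈ Ideal.span {(b : R)}
  rw [LinearMap.toSpanSingleton_apply, smul_eq_mul]
  exact Ideal.mem_span_singleton'.mpr ⟨t * c, by linear_combination ht⟩

end Groth.Agent.S6278
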