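import Groth.Statements.S2104
import Groth.Agent.MLMod.NilFlat
import Mathlib

set_option autoImplicit false
universe u
open CAlg

namespace Groth.Agent.S2104

section helper

open TensorProduct MvPolynomial Finsupp

variable {A : Type u} [CommRing A] {m : ℕ}

theorem eval_mem_span (g : Fin m → A) (z : MvPolynomial (Fin m) A) :
    eval g z - constantCoeff z ∈ Ideal.span (Set.range g) := by
  induction z using MvPolynomial.induction_on with
  | C a => simp
  | add p q hp hq =>
    rw [map_add, map_add, add_sub_add_comm]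
    exact add_mem hp hq
  | mul_X p i _ =>
    rw [map_mul, map_mul, eval_X, constantCoeff_X, mul_zero, sub_zero]
    exact Ideal.mul_mem_left _ _ (Ideal.subset_span ⟨i, rfl⟩)

theorem coeff_mul_of_mem_pow {q : ℕ} (b z : MvPolynomial (Fin m) A) (hz : z ∈ idealOfVars (Fin m) A ^ q)
    (d : Fin m →₀ ℕ) (hd : d.degree = q) : coeff d (b * z) = constantCoeff b * coeff d z := by
  classical
  rw [coeff_mul, Finset.sum_eq_single ((0 : Fin m →₀ ℕ), d)]
  · rfl
  · rintro ⟨a, c⟩ hac hne
    rw [Finset.HasAntidiagonal.mem_antidiagonal] at hac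
    rcases lt_or_ge c.degree q with hc | hc
    · rw [(mem_pow_idealOfVars_iff' q z).mp hz c hc, mul_zero]
    · exfalso
      have h1 : a.degree + c.degree = q := by rw [← hd, ← hac, map_add]
      have ha : a = 0 := (Finsupp.degree_eq_zero_iff a).mp (by omega)
      apply hne
      subst ha
      rw [zero_add] at hac
      exact Prod.ext rfl hac
  · intro h
    exact absurd (Finset.HasAntidiagonal.mem_antidiagonal.mpr (zero_add d)) h

theorem map_idealOfVars_pow (g : Fin m → A) (q : ℕ) :
    (idealOfVars (Fin m) A ^ q).map (eval g) = Ideal.span (Set.range g) ^ q := by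
  rw [Ideal.map_pow, idealOfVars, Ideal.map_span, ← Set.range_comp]
  congr 3
  funext i
  simp

theorem exists_eval_eq (g : Fin m → A) {q : ℕ} {x : A} (hx : x ∈ Ideal.span (Set.range g) ^ q) :
    ∃ W ∈ idealOfVars (Fin m) A ^ q, eval g W = x := by
  rw [← map_idealOfVars_pow] at hx
  exact (Ideal.mem_map_iff_of_surjective _ (fun a => ⟨C a, eval_C a⟩)).mp hx

/-- `H₁`-regularity makes the powers of the variable ideal inject. -/
theorem injective_pow_rTensor (I : Ideal A) (g : Fin m → A)
    (hg : CAlgX.IsH1Regular (fun j => Ideal.Quotient.mk I (g j))) (q : ℕ) :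
    letI := ((Ideal.Quotient.mk I).comp (eval g)).toAlgebra
    Function.Injective ((idealOfVars (Fin m) A ^ q).subtype.rTensor (A ⧸ I)) := by
  letI := ((Ideal.Quotient.mk I).comp (eval g)).toAlgebra
  classical
  let B := MvPolynomial (Fin m) A
  let V : Ideal B := idealOfVars (Fin m) A
  have hX : ∀ i, (X i : B) ∈ V := fun i => Ideal.subset_span ⟨i, rfl⟩
  have htor : Function.Injective (V.subtype.rTensor (A ⧸ I)) := by
    refine (injective_iff_map_eq_zero _).mpr fun z hz => ?_
    obtain ⟨a, rfl⟩ : ∃ a : Fin m → A ⧸ I, z = ∑ i, (⟨X i, hX i⟩ : V) ⊗ₜ[B] a i := by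
      clear hz
      induction z using TensorProduct.induction_on with
      | zero => exact ⟨0, by simp⟩
      | add x y hx hy =>
        obtain ⟨a, rfl⟩ := hx
        obtain ⟨b, rfl⟩ := hy
        exact ⟨a + b, by simp [TensorProduct.tmul_add, Finset.sum_add_distrib]⟩
      | tmul v a =>
        obtain ⟨v, hv⟩ := v
        obtain ⟨c, hc⟩ := (Submodule.mem_span_range_iff_exists_fun B).mp hv
        refine ⟨fun i => c i • a, ?_⟩
        simp only [← TensorProduct.smul_tmul, ← TensorProduct.sum_tmul]
        congr 1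
        apply Subtype.ext
        simp only [smul_eq_mul] at hc
        simp [← hc, idealOfVars]
    have hrel : ∑ i, a i * Ideal.Quotient.mk I (g i) = 0 := by
      have h1 := congrArg (TensorProduct.lid B (A ⧸ I)) hz
      rw [map_zero] at h1
      rw [← h1, map_sum, map_sum]
      refine Finset.sum_congr rfl fun i _ => ?_
      show a i * Ideal.Quotient.mk I (g i) = Ideal.Quotient.mk I (eval g (X i)) * a i
      rw [eval_X, mul_comm]
    have h2 : ∀ c : A ⧸ I, ∑ i, (⟨X i, hX i⟩ : V) ⊗ₜ[B] (c * a i) = 0 := by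
      have hmem := hg a hrel
      clear hz hrel
      induction hmem using Submodule.span_induction with
      | zero => intro c; simp
      | add x y _ _ hx hy => intro c; simp [mul_add, TensorProduct.tmul_add, Finset.sum_add_distrib, hx c, hy c]
      | smul r x _ hx =>
        intro c
        simp only [Pi.smul_apply, smul_eq_mul, ← mul_assoc]
        exact hx _
      | mem x hx =>
        obtain ⟨i, j, rfl⟩ := hx
        intro c
        let Λ : (Fin m → A ⧸ I) →ₗ[B] V ⊗[B] (A ⧸ I) :=
          LinearMap.lsum B (fun _ : Fin m => A ⧸ I) B fun k => TensorProduct.mk B V (A ⧸ I) ⟨X k, hX k⟩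
        have hΛ : ∀ a, Λ a = ∑ k, (⟨X k, hX k⟩ : V) ⊗ₜ[B] a k := fun a => by
          simp [Λ]
        rw [show ∑ k, (⟨X k, hX k⟩ : V) ⊗ₜ[B] (c * (Pi.single i (Ideal.Quotient.mk I (g j)) -
            Pi.single j (Ideal.Quotient.mk I (g i)) : Fin m → A ⧸ I) k) =
            Λ (Pi.single i (c * Ideal.Quotient.mk I (g j)) - Pi.single j (c * Ideal.Quotient.mk I (g i))) from by
          rw [hΛ]
          refine Finset.sum_congr rfl fun k _ => ?_
          congr 1
          simp only [Pi.sub_apply, mul_sub, Pi.single_apply, mul_ite, mul_zero], map_sub, LinearMap.lsum_piSingle,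
          LinearMap.lsum_piSingle, TensorProduct.mk_apply, TensorProduct.mk_apply]
        have hs : ∀ k, c * Ideal.Quotient.mk I (g k) = (X k : B) • c := fun k => by
          show _ = Ideal.Quotient.mk I (eval g (X k)) * c
          rw [eval_X, mul_comm]
        rw [hs, hs, ← TensorProduct.smul_tmul, ← TensorProduct.smul_tmul, sub_eq_zero]
        congr 1
        apply Subtype.ext
        exact mul_comm _ _
    simpa using h2 1
  have hT : ∀ k, MLMod.TorZero (R := B) (A ⧸ I) (B ⧸ V ^ k) := by
    intro k
    induction k with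
    | zero =>
      intro E F _ _ _ _ f p hf hfp hp
      haveI : Subsingleton (B ⧸ V ^ 0) := Ideal.Quotient.subsingleton_iff.mpr (by simp)
      exact (LinearEquiv.rTensor (A ⧸ I) (LinearEquiv.ofBijective f ⟨hf, fun y => (hfp y).mp (Subsingleton.elim _ _)⟩)).injective
    | succ k ih =>
      let α : Type u := ULift.{u} {d : Fin m →₀ ℕ // d.degree = k}
      let mon : α → B := fun a => monomial a.down.1 1
      have hmonV : ∀ a, mon a ∈ V ^ k := fun a => by
        rw [mem_pow_idealOfVars_iff']
        intro x hx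
        rw [coeff_monomial, if_neg]
        rintro rfl
        exact absurd a.down.2 hx.ne
      let ι : (α →₀ B ⧸ V) →ₗ[B] B ⧸ V ^ (k + 1) :=
        Finsupp.lsum B fun a => Submodule.liftQ V ((LinearMap.toSpanSingleton B _ (Submodule.Quotient.mk (mon a)))) fun v hv => by
          rw [LinearMap.mem_ker, LinearMap.toSpanSingleton_apply, ← Submodule.Quotient.mk_smul, Submodule.Quotient.mk_eq_zero,
            smul_eq_mul, pow_succ']
          exact Ideal.mul_mem_mul hv (hmonV a)
      have hι : ∀ c : α →₀ B, ι (Finsupp.mapRange.linearMap (Submodule.mkQ V) c) =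
          Submodule.Quotient.mk (Finsupp.linearCombination B mon c) := by
        intro c
        induction c using Finsupp.induction_linear with
        | zero => simp
        | add x y hx hy => rw [map_add, map_add, hx, hy, map_add, Submodule.Quotient.mk_add]
        | single a b =>
          simp [ι, ← Submodule.Quotient.mk_smul]
          rfl
      have hinj : Function.Injective ι := by
        refine (injective_iff_map_eq_zero _).mpr fun z hz => ?_
        obtain ⟨c, rfl⟩ := Finsupp.mapRange_surjective _ (map_zero (Submodule.mkQ V)) (Submodule.mkQ_surjective V) z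
        have hz' : Finsupp.linearCombination B mon c ∈ V ^ (k + 1) := by
          rw [← Submodule.Quotient.mk_eq_zero, ← hι]
          exact hz
        refine Finsupp.ext fun a => (Submodule.Quotient.mk_eq_zero V).mpr ?_
        have h3 := (mem_pow_idealOfVars_iff' _ _).mp hz' a.down.1 (by rw [a.down.2]; omega)
        rw [Finsupp.linearCombination_apply, Finsupp.sum, coeff_sum, Finset.sum_eq_single a] at h3
        · rw [smul_eq_mul, coeff_mul_of_mem_pow _ _ (hmonV a) _ a.down.2, coeff_monomial, if_pos rfl, mul_one] at h3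
          rw [← pow_one V, mem_pow_idealOfVars_iff']
          intro x hx
          rw [(Finsupp.degree_eq_zero_iff x).mp (by omega)]
          exact h3
        · intro b _ hb
          rw [smul_eq_mul, coeff_mul_of_mem_pow _ _ (hmonV b) _ a.down.2, coeff_monomial, if_neg, mul_zero]
          exact fun h => hb (ULift.ext _ _ (Subtype.ext h))
        · intro hns
          rw [Finsupp.notMem_support_iff.mp hns, zero_smul, coeff_zero]
      have hπ : ∀ v ∈ V ^ (k + 1), v ∈ V ^ k := fun v hv => Ideal.pow_le_pow_right (Nat.le_succ k) hv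
      let π : (B ⧸ V ^ (k + 1)) →ₗ[B] B ⧸ V ^ k := Submodule.mapQ _ _ LinearMap.id hπ
      refine MLMod.torZero_extension (i := ι) (q := π) hinj ?_ ?_ (MLMod.torZero_finsupp V htor α) ih
      · intro z
        constructor
        · intro hz
          obtain ⟨z, rfl⟩ := Submodule.Quotient.mk_surjective _ z
          replace hz : z ∈ V ^ k := (Submodule.Quotient.mk_eq_zero _).mp hz
          have hspan : z ∈ Submodule.span B (Set.range mon) := by
            rw [pow_idealOfVars_eq_span] at hz
            refine Submodule.span_mono ?_ hz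
            rintro _ ⟨d, hd, rfl⟩
            exact ⟨ULift.up ⟨d, hd⟩, rfl⟩
          obtain ⟨c, hc⟩ := Finsupp.mem_span_range_iff_exists_finsupp.mp hspan
          refine ⟨Finsupp.mapRange.linearMap (Submodule.mkQ V) c, ?_⟩
          rw [hι, ← hc]
          rfl
        · rintro ⟨z, rfl⟩
          obtain ⟨c, rfl⟩ := Finsupp.mapRange_surjective _ (map_zero (Submodule.mkQ V)) (Submodule.mkQ_surjective V) z
          show π (ι (Finsupp.mapRange.linearMap (Submodule.mkQ V) c)) = 0
          rw [hι]
          refine (Submodule.Quotient.mk_eq_zero _).mpr ?_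
          rw [LinearMap.id_apply, Finsupp.linearCombination_apply]
          exact sum_mem fun a _ => Ideal.mul_mem_left _ _ (hmonV a)
      · intro z
        obtain ⟨z, rfl⟩ := Submodule.Quotient.mk_surjective _ z
        exact ⟨Submodule.Quotient.mk z, rfl⟩
  exact hT q (V ^ q : Ideal B) B (V ^ q).subtype (Submodule.mkQ (V ^ q)) Subtype.val_injective
    (LinearMap.exact_subtype_mkQ (V ^ q)) (Submodule.mkQ_surjective _)

/-- The two consequences used below. -/
theorem eval_mem_and_coeff_mem (I : Ideal A) (g : Fin m → A)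
    (hg : CAlgX.IsH1Regular (fun j => Ideal.Quotient.mk I (g j))) (q : ℕ) (Q : MvPolynomial (Fin m) A)
    (hQ : Q ∈ idealOfVars (Fin m) A ^ q) (he : eval g Q ∈ I) :
    eval g Q ∈ I * Ideal.span (Set.range g) ^ q ∧
      ∀ d, d.degree = q → coeff d Q ∈ I ⊔ Ideal.span (Set.range g) := by
  let K := Ideal.span (Set.range g)
  let L₁ := I * K ^ q
  let L₂ := I ⊔ K
  letI := ((Ideal.Quotient.mk I).comp (eval g)).toAlgebra
  letI : Algebra (MvPolynomial (Fin m) A) (A ⧸ L₁) := ((Ideal.Quotient.mk L₁).comp (eval g)).toAlgebra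
  letI : Algebra (MvPolynomial (Fin m) A) (A ⧸ L₂) := ((Ideal.Quotient.mk L₂).comp (eval g)).toAlgebra
  let B := MvPolynomial (Fin m) A
  let V : Ideal B := idealOfVars (Fin m) A ^ q
  have hzero : (⟨Q, hQ⟩ : V) ⊗ₜ[B] (1 : A ⧸ I) = 0 := by
    refine injective_pow_rTensor I g hg q ?_
    rw [map_zero]
    refine (TensorProduct.lid B (A ⧸ I)).injective ?_
    rw [map_zero]
    show Ideal.Quotient.mk I (eval g Q) * 1 = 0
    rw [mul_one]
    exact Ideal.Quotient.eq_zero_iff_mem.mpr he
  let sec := Function.surjInv (Ideal.Quotient.mk_surjective (I := I))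
  have hsec : ∀ x, sec (Ideal.Quotient.mk I x) - x ∈ I := fun x =>
    Ideal.Quotient.eq.mp (Function.surjInv_eq Ideal.Quotient.mk_surjective _)
  have hev : ∀ z : V, eval g z.1 ∈ K ^ q := fun z => by
    rw [← map_idealOfVars_pow]
    exact Ideal.mem_map_of_mem _ z.2
  -- bilinear maps
  have key : ∀ (L : Ideal A) (θ : V → A), (∀ z z', θ (z + z') = θ z + θ z') →
      (∀ (b : B) (z : V), θ (b • z) - eval g b * θ z ∈ L) → (∀ z, ∀ i ∈ I, θ z * i ∈ L) →
        θ ⟨Q, hQ⟩ ∈ L := by
    intro L θ hadd hsmul hI
    letI : Algebra B (A ⧸ L) := ((Ideal.Quotient.mk L).comp (eval g)).toAlgebra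
    have hval : ∀ z x, Ideal.Quotient.mk L (θ z * sec (Ideal.Quotient.mk I x)) = Ideal.Quotient.mk L (θ z * x) :=
      fun z x => by
        rw [Ideal.Quotient.eq, ← mul_sub]
        exact hI z _ (hsec x)
    let φ : V →ₗ[B] (A ⧸ I) →ₗ[B] A ⧸ L := LinearMap.mk₂ B (fun z a => Ideal.Quotient.mk L (θ z * sec a))
      (fun z z' a => by rw [hadd, add_mul, map_add])
      (fun b z a => by
        show _ = Ideal.Quotient.mk L (eval g b) * _
        rw [← map_mul, Ideal.Quotient.eq, ← mul_assoc, ← sub_mul]
        exact L.mul_mem_right _ (hsmul b z))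
      (fun z a a' => by
        obtain ⟨x, rfl⟩ := Ideal.Quotient.mk_surjective a
        obtain ⟨y, rfl⟩ := Ideal.Quotient.mk_surjective a'
        rw [← map_add, hval, hval, hval, mul_add, map_add])
      (fun b z a => by
        obtain ⟨x, rfl⟩ := Ideal.Quotient.mk_surjective a
        show Ideal.Quotient.mk L (θ z * sec (Ideal.Quotient.mk I (eval g b) * Ideal.Quotient.mk I x)) =
          Ideal.Quotient.mk L (eval g b) * Ideal.Quotient.mk L (θ z * sec (Ideal.Quotient.mk I x))
        rw [← map_mul, hval, hval, ← map_mul, mul_left_comm])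
    have h1 := congrArg (TensorProduct.lift φ) hzero
    rw [map_zero, TensorProduct.lift.tmul] at h1
    have h2 : Ideal.Quotient.mk L (θ ⟨Q, hQ⟩ * sec 1) = 0 := h1
    rw [← map_one (Ideal.Quotient.mk I), hval, mul_one] at h2
    exact Ideal.Quotient.eq_zero_iff_mem.mp h2
  refine ⟨key L₁ (fun z => eval g z.1) (fun z z' => map_add _ _ _) (fun b z => ?_) (fun z i hi => ?_), fun d hd => ?_⟩
  · show eval g (b * z.1) - _ ∈ _
    rw [map_mul, sub_self]
    exact zero_mem _
  · rw [mul_comm]
    exact Ideal.mul_mem_mul hi (hev z)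
  · refine key L₂ (fun z => coeff d z.1) (fun z z' => coeff_add _ _ _) (fun b z => ?_) (fun z i hi => Ideal.mem_sup_left (I.mul_mem_left _ hi))
    show coeff d (b * z.1) - _ ∈ _
    rw [coeff_mul_of_mem_pow b z.1 z.2 d hd, ← sub_mul]
    refine Ideal.mem_sup_right (Ideal.mul_mem_right _ _ ?_)
    rw [← neg_sub]
    exact neg_mem (eval_mem_span g b)

theorem sup_pow_succ_le (I K : Ideal A) (t : ℕ) : (I ⊔ K) ^ (t + 1) ≤ K ^ (t + 1) ⊔ I * (I ⊔ K) ^ t := by
  induction t with
  | zero => simp [sup_comm]
  | succ t ih =>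
    rw [pow_succ' (I ⊔ K) (t + 1), Ideal.sup_mul]
    refine sup_le le_sup_right ((Ideal.mul_mono le_rfl ih).trans ?_)
    rw [Ideal.mul_sup, ← pow_succ', ← mul_assoc, mul_comm K I, mul_assoc]
    refine sup_le le_sup_left (le_sup_of_le_right (Ideal.mul_mono le_rfl ?_))
    rw [pow_succ']
    exact Ideal.mul_mono le_sup_right le_rfl

theorem monomial_eval_mem {n : ℕ} (f : Fin n → A) {j : ℕ} (a : Fin n →₀ ℕ) (ha : a.degree = j) (r : A) {L : Ideal A}
    (hr : r ∈ L) : eval f (monomial a r) ∈ Ideal.span (Set.range f) ^ j * L := by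
  rw [show monomial a r = monomial a 1 * C r by rw [mul_comm, C_mul_monomial, mul_one], map_mul, eval_C]
  refine Ideal.mul_mem_mul ?_ hr
  rw [← map_idealOfVars_pow]
  refine Ideal.mem_map_of_mem _ ?_
  rw [mem_pow_idealOfVars_iff']
  intro x hx
  rw [coeff_monomial, if_neg]
  rintro rfl
  omega

theorem eval_hom_mem {n : ℕ} (f : Fin n → A) {j : ℕ} (R : MvPolynomial (Fin n) A) (hR : R.IsHomogeneous j)
    {L : Ideal A} (hL : ∀ a, coeff a R ∈ L) : eval f R ∈ Ideal.span (Set.range f) ^ j * L := by
  rw [R.as_sum, map_sum]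
  refine sum_mem fun a ha => monomial_eval_mem f a ?_ _ (hL a)
  exact (IsHomogeneous.degree_eq_sum_deg_support hR ha).symm

theorem exists_hom {n : ℕ} (f : Fin n → A) {j : ℕ} {L : Ideal A} {v : A} (hv : v ∈ Ideal.span (Set.range f) ^ j * L) :
    ∃ R : MvPolynomial (Fin n) A, R.IsHomogeneous j ∧ (∀ a, coeff a R ∈ L) ∧ eval f R = v := by
  induction hv using Submodule.mul_induction_on' with
  | mem_mul_mem x hx y hy =>
    obtain ⟨W, hW, rfl⟩ := exists_eval_eq f hx
    rw [pow_idealOfVars_eq_span] at hW
    clear hx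
    induction hW using Submodule.span_induction generalizing y with
    | zero => exact ⟨0, isHomogeneous_zero _ _ _, fun a => by simp, by simp⟩
    | add p q _ _ hp hq =>
      obtain ⟨R, h1, h2, h3⟩ := hp y hy
      obtain ⟨R', h1', h2', h3'⟩ := hq y hy
      exact ⟨R + R', h1.add h1', fun a => by rw [coeff_add]; exact add_mem (h2 a) (h2' a), by rw [map_add, h3, h3', map_add, add_mul]⟩
    | smul c p _ hp =>
      obtain ⟨R, h1, h2, h3⟩ := hp (eval f c * y) (L.mul_mem_left _ hy)
      exact ⟨R, h1, h2, by rw [h3, smul_eq_mul, map_mul]; ring⟩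
    | mem p hp =>
      obtain ⟨a, ha, rfl⟩ := hp
      refine ⟨monomial a y, isHomogeneous_monomial _ ha, fun b => ?_, by rw [eval_monomial, eval_monomial]; ring⟩
      rw [coeff_monomial]
      split_ifs
      exacts [hy, zero_mem _]
  | add x _ y _ hx hy =>
    obtain ⟨R, h1, h2, h3⟩ := hx
    obtain ⟨R', h1', h2', h3'⟩ := hy
    exact ⟨R + R', h1.add h1', fun a => by rw [coeff_add]; exact add_mem (h2 a) (h2' a), by rw [map_add, h3, h3']⟩

theorem main {n m : ℕ} (f : Fin n → A) (g : Fin m → A) (hf : CAlgX.IsQuasiRegular f)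
    (hg : CAlgX.IsH1Regular (fun j => Ideal.Quotient.mk (Ideal.span (Set.range f)) (g j)))
    (N : ℕ) (P : MvPolynomial (Fin (n + m)) A) (hP : P.IsHomogeneous N)
    (he : eval (Fin.append f g) P ∈ (Ideal.span (Set.range f) ⊔ Ideal.span (Set.range g)) ^ (N + 1)) :
    ∀ d, coeff d P ∈ Ideal.span (Set.range f) ⊔ Ideal.span (Set.range g) := by
  classical
  set I := Ideal.span (Set.range f) with hI
  set K := Ideal.span (Set.range g) with hK
  set J := I ⊔ K with hJ
  have hinter : ∀ (j M : ℕ), j ≤ M → I ^ j ⊓ J ^ M ≤ I ^ j * J ^ (M - j) := by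
    intro j
    induction j with
    | zero => intro M _; simp
    | succ j ih =>
      rintro M hM u ⟨hu1, hu2⟩
      obtain ⟨s, hs⟩ : ∃ s, M - j = s + 1 := ⟨M - j - 1, by omega⟩
      have h1 : u ∈ I ^ j * J ^ (s + 1) := hs ▸ ih M (by omega) ⟨Ideal.pow_le_pow_right (Nat.le_succ j) hu1, hu2⟩
      have h2 := Ideal.mul_mono le_rfl (sup_pow_succ_le I K s) h1
      rw [Ideal.mul_sup, ← mul_assoc, ← pow_succ] at h2
      obtain ⟨v, hv, w, hw, rfl⟩ := Submodule.mem_sup.mp h2
      have hvI : v ∈ I ^ (j + 1) := by
        have := sub_mem hu1 (Ideal.mul_le_left hw : w ∈ I ^ (j + 1))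
        rwa [add_sub_cancel_right] at this
      obtain ⟨R, hR1, hR2, rfl⟩ := exists_hom f hv
      have hR3 := hf j R hR1 hvI
      have hR4 : ∀ a, coeff a R ∈ I * K ^ (s + 1) := fun a => by
        obtain ⟨W, hW, hWe⟩ := exists_eval_eq g (hR2 a)
        rw [← hWe]
        exact (eval_mem_and_coeff_mem I g hg (s + 1) W hW (by rw [hWe]; exact hR3 a)).1
      rw [show M - (j + 1) = s by omega]
      refine add_mem (Ideal.mul_mono le_rfl ?_ ((mul_assoc (I ^ j) I (K ^ (s + 1))).symm ▸ eval_hom_mem f R hR1 hR4)) hw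
      exact (Ideal.pow_le_pow_right (Nat.le_succ s)).trans (Ideal.pow_right_mono le_sup_right s)
  let u : (Fin (n + m) →₀ ℕ) → (Fin n →₀ ℕ) := fun d => Finsupp.equivFunOnFinite.symm fun i => d (Fin.castAdd m i)
  let w : (Fin (n + m) →₀ ℕ) → (Fin m →₀ ℕ) := fun d => Finsupp.equivFunOnFinite.symm fun i => d (Fin.natAdd n i)
  have hdeg : ∀ d ∈ P.support, (u d).degree + (w d).degree = N := by
    intro d hd
    rw [IsHomogeneous.degree_eq_sum_deg_support hP hd, ← Finsupp.degree_apply, Finsupp.degree_eq_sum, Finsupp.degree_eq_sum, Finsupp.degree_eq_sum,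
      Fin.sum_univ_add]
    simp [u, w]
  have huw : ∀ d d', u d = u d' → w d = w d' → d = d' := by
    intro d d' h1 h2
    ext i
    induction i using Fin.addCases with
    | left i => simpa [u] using DFunLike.congr_fun h1 i
    | right i => simpa [w] using DFunLike.congr_fun h2 i
  let term : (Fin (n + m) →₀ ℕ) → A := fun d => eval f (monomial (u d) 1) * eval g (monomial (w d) (coeff d P))
  have hterm : eval (Fin.append f g) P = ∑ d ∈ P.support, term d := by
    rw [eval_eq']
    refine Finset.sum_congr rfl fun d _ => ?_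
    simp only [term, eval_monomial, Finsupp.prod_fintype _ _ (fun i => pow_zero _), Fin.prod_univ_add, Fin.append_left,
      Fin.append_right, u, w, Finsupp.equivFunOnFinite_symm_apply_apply]
    ring
  have hmain : ∀ j ≤ N + 1, (∀ d ∈ P.support, (u d).degree < j → coeff d P ∈ J) ∧
      ∑ d ∈ P.support.filter (fun d => j ≤ (u d).degree), term d ∈ J ^ (N + 1) := by
    intro j
    induction j with
    | zero =>
      intro _
      refine ⟨fun d _ hd => absurd hd (Nat.not_lt_zero _), ?_⟩
      rw [Finset.filter_true_of_mem (fun d _ => Nat.zero_le _), ← hterm]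
      exact he
    | succ j ih =>
      intro hj
      obtain ⟨hcoef, hsum⟩ := ih (by omega)
      obtain ⟨t, ht⟩ : ∃ t, N = j + t := ⟨N - j, by omega⟩
      let s := P.support.filter (fun d => (u d).degree = j)
      let s' := P.support.filter (fun d => j + 1 ≤ (u d).degree)
      have hsplit : ∑ d ∈ P.support.filter (fun d => j ≤ (u d).degree), term d = ∑ d ∈ s, term d + ∑ d ∈ s', term d := by
        rw [← Finset.sum_union (Finset.disjoint_filter.mpr fun d _ h1 h2 => by omega), ← Finset.filter_or]
        refine Finset.sum_congr (Finset.filter_congr fun d _ => by omega) fun _ _ => rfl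
      have hmemI : ∀ d, term d ∈ I ^ (u d).degree := fun d =>
        Ideal.mul_mem_right _ _ (Ideal.mul_le_left (monomial_eval_mem f (u d) rfl 1 (Submodule.mem_top (R := A))))
      have hx : ∑ d ∈ P.support.filter (fun d => j ≤ (u d).degree), term d ∈ I ^ j * J ^ (t + 1) := by
        have := hinter j (N + 1) (by omega) ⟨sum_mem fun d hd =>
          Ideal.pow_le_pow_right (Finset.mem_filter.mp hd).2 (hmemI d), hsum⟩
        rwa [show N + 1 - j = t + 1 by omega] at this
      have h2 := Ideal.mul_mono le_rfl (sup_pow_succ_le I K t) hx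
      rw [Ideal.mul_sup, ← mul_assoc, ← pow_succ] at h2
      obtain ⟨v, hv, i, hi, hvi⟩ := Submodule.mem_sup.mp h2
      obtain ⟨Rw, hRw1, hRw2, rfl⟩ := exists_hom f hv
      let RP : MvPolynomial (Fin n) A := ∑ d ∈ s, monomial (u d) (eval g (monomial (w d) (coeff d P)))
      have hRP : RP.IsHomogeneous j := IsHomogeneous.sum _ _ _ fun d hd => isHomogeneous_monomial _ (Finset.mem_filter.mp hd).2
      have hRPe : eval f RP = ∑ d ∈ s, term d := by
        rw [map_sum]
        refine Finset.sum_congr rfl fun d _ => ?_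
        simp only [term]
        rw [eval_monomial (a := eval g _), eval_monomial (f := f) (a := 1)]
        ring
      have hdiff : eval f (RP - Rw) ∈ I ^ (j + 1) := by
        rw [map_sub, hRPe, show ∑ d ∈ s, term d - eval f Rw = i - ∑ d ∈ s', term d by linear_combination (-1 : A) * (hvi.trans hsplit)]
        exact sub_mem (Ideal.mul_le_left hi) (sum_mem fun d hd => Ideal.pow_le_pow_right (Finset.mem_filter.mp hd).2 (hmemI d))
      have hI' := hf j (RP - Rw) (hRP.sub hRw1) hdiff
      have hcomp : ∀ a, coeff a RP ∈ J ^ (t + 1) ∧ ∀ d ∈ s, u d = a → coeff d P ∈ J := by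
        intro a
        obtain ⟨W, hW, hWe⟩ := exists_eval_eq g (hRw2 a)
        let Qa : MvPolynomial (Fin m) A := ∑ d ∈ s.filter (fun d => u d = a), monomial (w d) (coeff d P)
        have hwdeg : ∀ d ∈ s, (w d).degree = t := fun d hd => by
          obtain ⟨hd1, hd2⟩ := Finset.mem_filter.mp hd
          have := hdeg d hd1
          omega
        have hQa : Qa ∈ idealOfVars (Fin m) A ^ t := sum_mem fun d hd => by
          rw [mem_pow_idealOfVars_iff']
          intro x hx
          rw [coeff_monomial, if_neg]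
          intro h
          have := hwdeg d (Finset.mem_filter.mp hd).1
          rw [h] at this
          omega
        have hQe : eval g Qa = coeff a RP := by
          rw [map_sum, coeff_sum, Finset.sum_filter]
          refine Finset.sum_congr rfl fun d _ => ?_
          rw [coeff_monomial]
        have hQI : eval g (Qa - W) ∈ I := by
          rw [map_sub, hQe, hWe, ← coeff_sub]
          exact hI' a
        obtain ⟨h1, h3⟩ := eval_mem_and_coeff_mem I g hg t (Qa - W)
          (sub_mem hQa (Ideal.pow_le_pow_right (Nat.le_succ t) hW)) hQI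
        refine ⟨?_, fun d hd hud => ?_⟩
        · rw [← hQe, show eval g Qa = eval g (Qa - W) + eval g W by rw [map_sub, sub_add_cancel], hWe]
          refine add_mem ?_ (Ideal.pow_right_mono le_sup_right _ (hRw2 a))
          rw [pow_succ']
          exact Ideal.mul_mono le_sup_left (Ideal.pow_right_mono le_sup_right t) h1
        · have h4 := h3 (w d) (hwdeg d hd)
          rw [coeff_sub, (mem_pow_idealOfVars_iff' _ W).mp hW (w d) (by rw [hwdeg d hd]; omega), sub_zero, coeff_sum,
            Finset.sum_eq_single_of_mem d (Finset.mem_filter.mpr ⟨hd, hud⟩) (fun b hb hne => ?_), coeff_monomial, if_pos rfl] at h4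
          · exact h4
          · rw [coeff_monomial, if_neg]
            intro h
            exact hne (huw b d ((Finset.mem_filter.mp hb).2.trans hud.symm) h)
      refine ⟨fun d hd hlt => ?_, ?_⟩
      · rcases Nat.lt_succ_iff_lt_or_eq.mp hlt with h | h
        · exact hcoef d hd h
        · exact (hcomp (u d)).2 d (Finset.mem_filter.mpr ⟨hd, h⟩) rfl
      · have h5 : eval f RP ∈ J ^ (N + 1) := by
          rw [show N + 1 = j + (t + 1) by omega, pow_add]
          exact Ideal.mul_mono (Ideal.pow_right_mono le_sup_left j) le_rfl (eval_hom_mem f RP hRP fun a => (hcomp a).1)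
        have := sub_mem hsum h5
        rwa [hsplit, hRPe, add_sub_cancel_left] at this
  intro d
  by_cases hd : d ∈ P.support
  · exact (hmain (N + 1) le_rfl).1 d hd (by have := hdeg d hd; omega)
  · rw [MvPolynomial.notMem_support_iff.mp hd]
    exact zero_mem _

end helper

/-- Appending to a quasi-regular sequence `f` a sequence `g` whose image modulo the ideal `(f)` is
`H_1`-regular yields a quasi-regular sequence. -/
theorem result {A : Type u} [CommRing A] {n m : ℕ} (f : Fin n → A)
    (g : Fin m → A) (hf : CAlgX.IsQuasiRegular f)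
    (hg : CAlgX.IsH1Regular (fun j => Ideal.Quotient.mk (Ideal.span (Set.range f)) (g j))) :
    CAlgX.IsQuasiRegular (Fin.append f g) := by
  intro N P hP he d
  have hrange : Ideal.span (Set.range (Fin.append f g)) = Ideal.span (Set.range f) ⊔ Ideal.span (Set.range g) := by
    rw [← Ideal.span_union]
    congr 1
    ext x
    simp only [Set.mem_range, Set.mem_union]
    constructor
    · rintro ⟨i, rfl⟩
      induction i using Fin.addCases with
      | left i => exact Or.inl ⟨i, by simp⟩
      | right i => exact Or.inr ⟨i, by simp⟩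
    · rintro (⟨i, rfl⟩ | ⟨i, rfl⟩)
      · exact ⟨Fin.castAdd m i, by simp⟩
      · exact ⟨Fin.natAdd n i, by simp⟩
  rw [hrange] at he ⊢
  exact main f g hf hg N P hP he d

end Groth.Agent.S2104
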