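import Groth.Statements.S2103
import Groth.Agent.S2104

set_option autoImplicit false
universe u
open CAlg

namespace Groth.Agent.S2103

/-- Case `M = R`: an `H_1`-regular sequence in a ring (first Koszul homology zero) is quasi-regular (the
associated graded of the ideal it generates is a polynomial ring over the quotient). -/
theorem result {R : Type u} [CommRing R] {c : ℕ} (f : Fin c → R) (hf : CAlgX.IsH1Regular f) :
    CAlgX.IsQuasiRegular f := by
  intro N P hP he
  have hg : CAlgX.IsH1Regular (fun j => Ideal.Quotient.mk (⊥ : Ideal R) (f j)) := by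
    intro a ha
    let e := (RingEquiv.quotientBot R).symm
    have he : ∀ x, e x = Ideal.Quotient.mk (⊥ : Ideal R) x := fun x => rfl
    choose a' ha' using fun i => Ideal.Quotient.mk_surjective (a i)
    have h0 : ∑ i, a' i * f i = 0 := e.injective (by rw [map_sum, map_zero, ← ha]; simp [he, ha'])
    have key : ∀ v ∈ Submodule.span R {v : Fin c → R | ∃ i j : Fin c, v = Pi.single i (f j) - Pi.single j (f i)},
        (fun i => e (v i)) ∈ Submodule.span (R ⧸ (⊥ : Ideal R)) {v : Fin c → R ⧸ (⊥ : Ideal R) | ∃ i j : Fin c,
          v = Pi.single i (Ideal.Quotient.mk ⊥ (f j)) - Pi.single j (Ideal.Quotient.mk ⊥ (f i))} := by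
      intro v hv
      induction hv using Submodule.span_induction with
      | zero =>
        convert zero_mem (Submodule.span (R ⧸ (⊥ : Ideal R)) _) using 1
        ext i
        exact map_zero e
      | add x y _ _ hx hy =>
        convert add_mem hx hy using 1
        ext i
        exact map_add e _ _
      | smul r x _ hx =>
        convert Submodule.smul_mem _ (e r) hx using 1
        ext i
        exact map_mul e _ _
      | mem x hx =>
        obtain ⟨i, j, rfl⟩ := hx
        refine Submodule.subset_span ⟨i, j, ?_⟩
        ext k
        show e _ = _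
        rw [Pi.sub_apply, map_sub, Pi.sub_apply, Pi.single_apply, Pi.single_apply, Pi.single_apply, Pi.single_apply]
        split_ifs <;> simp [he]
    have := key a' (hf a' h0)
    convert this using 1
    ext i
    rw [he, ha']
  intro d
  by_cases hd : d ∈ P.support
  · obtain ⟨W, hW, hWe⟩ := S2104.exists_eval_eq f he
    have hPV : P ∈ MvPolynomial.idealOfVars (Fin c) R ^ N := by
      rw [MvPolynomial.mem_pow_idealOfVars_iff']
      exact fun x hx => MvPolynomial.IsHomogeneous.coeff_eq_zero hP hx.ne
    have hdeg : d.degree = N := by
      by_contra h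
      exact MvPolynomial.mem_support_iff.mp hd (MvPolynomial.IsHomogeneous.coeff_eq_zero hP h)
    have h1 := (S2104.eval_mem_and_coeff_mem (⊥ : Ideal R) f hg N (P - W)
      (sub_mem hPV (Ideal.pow_le_pow_right (Nat.le_succ N) hW)) (by rw [map_sub, hWe, sub_self]; exact zero_mem _)).2 d hdeg
    rw [bot_sup_eq, MvPolynomial.coeff_sub, (MvPolynomial.mem_pow_idealOfVars_iff' _ W).mp hW d (by omega), sub_zero] at h1
    exact h1
  · rw [MvPolynomial.notMem_support_iff.mp hd]
    exact zero_mem _

end Groth.Agent.S2103
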