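import Groth.Statements.S18944
import Groth.Agent.PerfMor.Surj
import Mathlib.RingTheory.Regular.Flat
-- import your own Groth.Agent.* helpers here

set_option autoImplicit false
universe u
open CategoryTheory AlgebraicGeometry
open RegImm

namespace Groth.Agent.S18944

/-- Let i : Z → X be a regular immersion of schemes (kind: successive non-zero-divisors). Then for every
point z of Z the kernel of the induced map of local rings O_{X, i(z)} → O_{Z, z} is generated by a
regular sequence of O_{X, i(z)}. (No Noetherian hypothesis; over a locally Noetherian X the converse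
also holds.) -/
theorem result {Z X : Scheme.{u}} (i : Z ⟶ X)
    (h : RegImm.IsRegularImmersion RegImm.Kind.regular i) (z : Z) :
    ∃ rs : List (X.presheaf.stalk (i z)),
      RingTheory.Sequence.IsRegular (X.presheaf.stalk (i z)) rs ∧
        RingHom.ker (i.stalkMap z).hom = Ideal.ofList rs := by
  obtain ⟨U, hzU, hcl, rs, hrs, hker⟩ := h.2 z
  let W := i ⁻¹ᵁ U.1
  haveI : IsAffine U.1.toScheme := U.2
  obtain ⟨hA, hs⟩ := Groth.Agent.PerfMor.surjective_app_of_restrict i U.2
  letI : Algebra Γ(X, U.1) (X.presheaf.stalk (i z)) := (X.presheaf.germ U.1 (i z) hzU).hom.toAlgebra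
  letI : Algebra Γ(Z, W) (Z.presheaf.stalk z) := (Z.presheaf.germ W z hzU).hom.toAlgebra
  haveI : IsLocalization.AtPrime (X.presheaf.stalk (i z)) (U.2.primeIdealOf ⟨i z, hzU⟩).asIdeal :=
    U.2.isLocalization_stalk ⟨i z, hzU⟩
  haveI : IsLocalization.AtPrime (Z.presheaf.stalk z) (hA.primeIdealOf ⟨z, hzU⟩).asIdeal :=
    hA.isLocalization_stalk ⟨z, hzU⟩
  have key : ∀ r : Γ(X, U.1), (i.stalkMap z).hom (algebraMap _ (X.presheaf.stalk (i z)) r) =
      algebraMap Γ(Z, W) (Z.presheaf.stalk z) ((i.app U.1).hom r) :=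
    fun r => Scheme.Hom.germ_stalkMap_apply i U.1 z hzU r
  have hzero : ∀ r ∈ rs, (i.stalkMap z).hom (algebraMap _ (X.presheaf.stalk (i z)) r) = 0 := fun r hr => by
    rw [key, RingHom.mem_ker.1 (hker.symm ▸ Ideal.subset_span hr : r ∈ RingHom.ker (i.app U.1).hom), map_zero]
  have hmem : ∀ r ∈ rs, r ∈ (U.2.primeIdealOf ⟨i z, hzU⟩).asIdeal := fun r hr => by
    by_contra hc
    have := (IsLocalization.map_units (X.presheaf.stalk (i z)) (⟨r, hc⟩ : Ideal.primeCompl _)).map (i.stalkMap z).hom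
    rw [hzero r hr] at this
    exact not_isUnit_zero this
  refine ⟨rs.map (algebraMap _ (X.presheaf.stalk (i z))),
    (hrs : RingTheory.Sequence.IsRegular _ rs).toIsWeaklyRegular.isRegular_of_isLocalization_of_mem
      (X.presheaf.stalk (i z)) (U.2.primeIdealOf ⟨i z, hzU⟩).asIdeal hmem, le_antisymm ?_ ?_⟩
  · intro x hx
    obtain ⟨⟨r, s⟩, hx'⟩ := IsLocalization.surj (U.2.primeIdealOf ⟨i z, hzU⟩).asIdeal.primeCompl x
    have h1 : algebraMap Γ(Z, W) (Z.presheaf.stalk z) ((i.app U.1).hom r) = 0 := by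
      rw [← key, ← hx', map_mul, RingHom.mem_ker.1 hx, zero_mul]
    obtain ⟨t, ht⟩ := (IsLocalization.map_eq_zero_iff (hA.primeIdealOf ⟨z, hzU⟩).asIdeal.primeCompl
      (Z.presheaf.stalk z) _).1 h1
    obtain ⟨T, hT⟩ := hs t.1
    have hTr : T * r ∈ Ideal.ofList rs := by
      rw [← hker, RingHom.mem_ker, map_mul, hT]; exact ht
    have hu : IsUnit (algebraMap Γ(X, U.1) (X.presheaf.stalk (i z)) T) := by
      refine IsUnit.of_map (i.stalkMap z).hom _ ?_
      rw [key, hT]
      exact IsLocalization.map_units _ t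
    rw [← Ideal.map_ofList, ← Ideal.unit_mul_mem_iff_mem _ hu, ← Ideal.mul_unit_mem_iff_mem _
      (IsLocalization.map_units (X.presheaf.stalk (i z)) s), mul_assoc, hx', ← map_mul]
    exact Ideal.mem_map_of_mem _ hTr
  · rw [Ideal.span_le]
    rintro _ hx
    obtain ⟨r, hr, rfl⟩ := List.mem_map.1 hx
    exact RingHom.mem_ker.2 (hzero r hr)

end Groth.Agent.S18944
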