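import Groth.Statements.S9758
import Groth.Agent.RelGCILib.Criterion
import Groth.Agent.KRIdeal.Koszul

set_option autoImplicit false
universe u
open FlatMor

namespace Groth.Agent.S9758

open AlgebraicGeometry CategoryTheory Limits in
/-- A morphism of schemes f : X ⟶ S is flat and a local complete intersection morphism (Koszul at every
point) if and only if it is syntomic. -/
theorem result {X S : Scheme.{u}} (f : X ⟶ S) :
    (Flat f ∧ ∀ x : X, Synt.IsKoszulAt f x) ↔ Synt.IsSyntomicMor f := by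
  constructor
  · rintro ⟨hflat, hk⟩ x
    have hlci := KRIdeal.schLCI_of_isKoszulAt f hk
    obtain ⟨_, ⟨V, hV, rfl⟩, hxV, -⟩ :=
      S.isBasis_affineOpens.exists_subset_of_mem_open (Set.mem_univ (f.base x)) isOpen_univ
    obtain ⟨_, ⟨U, hU, rfl⟩, hxU, hUV⟩ :=
      X.isBasis_affineOpens.exists_subset_of_mem_open (show x ∈ (f ⁻¹ᵁ V : Set X) from hxV) (f ⁻¹ᵁ V).2
    refine ⟨⟨U, hU⟩, ⟨V, hV⟩, hUV, hxU, ?_⟩
    have h1 := (KRIdeal.schLCI_iff f).1 hlci U V hU hV hUV
    have h2 : (f.appLE V U hUV).hom.Flat := HasRingHomProperty.appLE @Flat f hflat ⟨V, hV⟩ ⟨U, hU⟩ hUV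
    letI := (f.appLE V U hUV).hom.toAlgebra
    haveI : Module.Flat Γ(S, V) Γ(X, U) := h2
    exact RelGCILib.isSyntomic_of_flat_isLCI _ _ h1
  · intro h
    refine ⟨?_, fun x => ?_⟩
    · refine (HasRingHomProperty.iff_exists_appLE (P := @Flat)
        (RingHom.Flat.stableUnderComposition.stableUnderCompositionWithLocalizationAway
          RingHom.Flat.holdsForLocalizationAway).1).2 fun x => ?_
      obtain ⟨U, V, e, hxU, hs⟩ := h x
      exact ⟨V, U, hxU, e, hs.1⟩
    · refine KRIdeal.isKoszulAt_of_schLCI f ?_ x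
      refine (HasRingHomProperty.iff_exists_appLE (P := @KRIdeal.SchLCI)
        (KRIdeal.stableUnderComposition.stableUnderCompositionWithLocalizationAway
          (fun _ _ _ _ _ r _ => KRIdeal.ringLCI_away r)).1).2 fun x => ?_
      obtain ⟨U, V, e, hxU, hs⟩ := h x
      exact ⟨V, U, hxU, e, @RelGCILib.isLCI_of_isSyntomic Γ(S, V.1) Γ(X, U.1) _ _ (f.appLE V.1 U.1 e).hom.toAlgebra hs⟩

end Groth.Agent.S9758
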