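import Groth.Statements.S9151
import Groth.Agent.RelGCILib.Criterion

set_option autoImplicit false
universe u
open Synt

namespace Groth.Agent.S9151

/-- Let S = R[x_1, …, x_n]/I with I finitely generated and let g ∈ S be such that S_g is syntomic over
R. Then the localization (I/I²)_g of the conormal module is a finite projective S_g-module. -/
theorem result (R : Type u) [CommRing R] (n : ℕ)
    (I : Ideal (MvPolynomial (Fin n) R)) (hI : I.FG) (g : MvPolynomial (Fin n) R ⧸ I)
    (hg : Synt.IsSyntomic R (Localization.Away g)) :
    Module.Finite (Localization.Away g) (LocalizedModule (Submonoid.powers g) I.Cotangent) ∧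
      Module.Projective (Localization.Away g) (LocalizedModule (Submonoid.powers g) I.Cotangent) := by
  classical
  let T' := Localization.Away g
  let N := LocalizedModule (Submonoid.powers g) I.Cotangent
  have hfin : Module.Finite (MvPolynomial (Fin n) R ⧸ I) I.Cotangent := by
    haveI : Module.Finite (MvPolynomial (Fin n) R) I := Module.Finite.iff_fg.2 hI
    haveI : Module.Finite (MvPolynomial (Fin n) R) I.Cotangent := Module.Finite.of_surjective _ I.toCotangent_surjective
    exact Module.Finite.of_restrictScalars_finite (MvPolynomial (Fin n) R) _ _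
  haveI hN : Module.Finite T' N := Module.Finite.of_isLocalizedModule (Submonoid.powers g)
    (LocalizedModule.mkLinearMap (Submonoid.powers g) I.Cotangent)
  refine ⟨hN, ?_⟩
  obtain ⟨β, hβ⟩ := Ideal.Quotient.mk_surjective g
  haveI : IsLocalization.Away (Ideal.Quotient.mk I β) T' := by rw [hβ]; infer_instance
  obtain ⟨x, hx⟩ := (IsLocalization.Away.algebraMap_isUnit (S := T') (Ideal.Quotient.mk I β)).exists_right_inv
  set φ := Polynomial.eval₂RingHom ((algebraMap (MvPolynomial (Fin n) R ⧸ I) T').comp (Ideal.Quotient.mk I)) x with hφ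
  let u := MvPolynomial.finSuccEquiv R n
  have hφsurj : Function.Surjective φ := fun z => by
    obtain ⟨k, a, hka⟩ := IsLocalization.Away.surj (Ideal.Quotient.mk I β) z
    obtain ⟨a, rfl⟩ := Ideal.Quotient.mk_surjective a
    refine ⟨Polynomial.C a * Polynomial.X ^ k, ?_⟩
    rw [hφ, Polynomial.coe_eval₂RingHom, Polynomial.eval₂_mul, Polynomial.eval₂_X_pow, Polynomial.eval₂_C,
      RingHom.comp_apply, ← hka, mul_assoc, ← mul_pow, hx, one_pow, mul_one]
  let α : MvPolynomial (Fin (n + 1)) R →ₐ[R] T' :=
    { φ.comp u.toRingEquiv.toRingHom with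
      commutes' := fun r => by
        show φ (u (algebraMap R _ r)) = _
        rw [u.commutes, IsScalarTower.algebraMap_apply R (MvPolynomial (Fin n) R) (Polynomial (MvPolynomial (Fin n) R)),
          hφ, Polynomial.algebraMap_eq, Polynomial.coe_eval₂RingHom, Polynomial.eval₂_C, RingHom.comp_apply,
          ← Ideal.Quotient.algebraMap_eq, ← IsScalarTower.algebraMap_apply, ← IsScalarTower.algebraMap_apply] }
  have hk1 : LCI.IsKoszulRegularIdeal (RingHom.ker φ) :=
    (KRIdeal.isKRI_ker_equiv_iff u.toRingEquiv φ α.toRingHom rfl).1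
      (KRIdeal.isKRI_ker_of_isLCI (RelGCILib.isLCI_of_isSyntomic _ _ hg) α (hφsurj.comp u.surjective))
  obtain ⟨L₀, _, _, _, hkri⟩ := KRIdeal.isKRI_away (Ideal.Quotient.mk I) β T' x hx hk1
  rw [Ideal.mk_ker] at hkri
  let good : Set T' := {t | Module.Free (Localization.Away t) (LocalizedModule.Away t N) ∧
    Module.Finite (Localization.Away t) (LocalizedModule.Away t N)}
  have hspan : Ideal.span good = ⊤ := by
    by_contra hne
    obtain ⟨M, hM, hle⟩ := Ideal.exists_le_maximal _ hne
    let P : Ideal (MvPolynomial (Fin n) R) := M.comap ((algebraMap _ T').comp (Ideal.Quotient.mk I))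
    haveI : P.IsPrime := inferInstance
    have hβP : β ∉ P := fun h => hM.ne_top (Ideal.eq_top_of_isUnit_mem _ h
      (IsLocalization.Away.algebraMap_isUnit (S := T') (Ideal.Quotient.mk I β)))
    have hIP : I ≤ P := fun a ha => by
      show algebraMap _ T' (Ideal.Quotient.mk I a) ∈ M
      rw [Ideal.Quotient.eq_zero_iff_mem.2 ha, map_zero]; exact zero_mem _
    haveI : (P.map (algebraMap (MvPolynomial (Fin n) R) L₀)).IsPrime :=
      IsLocalization.isPrime_of_isPrime_disjoint (Submonoid.powers β) L₀ P inferInstance
        (Set.disjoint_left.2 fun y hy hyp => by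
          obtain ⟨k, rfl⟩ := hy
          exact hβP (Ideal.IsPrime.mem_of_pow_mem inferInstance k hyp))
    obtain ⟨h, hhP, r, f, hd⟩ := KRIdeal.at_of_at_away P hβP L₀ ((KRIdeal.isKRI_iff _).1 hkri _ (Ideal.map_mono hIP))
    set τ : MvPolynomial (Fin n) R →+* T' := (algebraMap _ T').comp (Ideal.Quotient.mk I) with hτ
    let t := τ h
    refine hhP (hle (Ideal.subset_span (show t ∈ good from ?_)))
    let c : Fin r → N := fun i => LocalizedModule.mkLinearMap (Submonoid.powers g) I.Cotangent (I.toCotangent ⟨f i, hd.mem i⟩)
    let ψ : (Fin r → T') →ₗ[T'] N := Fintype.linearCombination T' c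
    have hsur : ∀ m : N, ∃ (k : ℕ) (v : Fin r → T'), ψ v = t ^ k • m := by
      intro m
      induction m using LocalizedModule.induction_on with
      | h y s =>
        obtain ⟨⟨y, hy⟩, rfl⟩ := I.toCotangent_surjective y
        have hy' := Ideal.mem_map_of_mem (algebraMap _ (Localization.Away h)) hy
        rw [hd.map_eq] at hy'
        obtain ⟨_, ⟨k, rfl⟩, hk⟩ := (IsLocalization.algebraMap_mem_map_algebraMap_iff (Submonoid.powers h) _ _ _).1 hy'
        obtain ⟨a, ha⟩ := (Ideal.mem_span_range_iff_exists_fun).1 hk
        refine ⟨k, fun i => τ (a i) * Localization.mk 1 s, ?_⟩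
        simp only [ψ, Fintype.linearCombination_apply, mul_comm (τ _) (Localization.mk 1 s), mul_smul, ← Finset.smul_sum]
        have h1 : ∀ (b : MvPolynomial (Fin n) R) (z : I.Cotangent),
            τ b • LocalizedModule.mkLinearMap (Submonoid.powers g) I.Cotangent z =
              LocalizedModule.mkLinearMap (Submonoid.powers g) I.Cotangent (b • z) := fun b z => by
          rw [hτ, RingHom.comp_apply, algebraMap_smul, ← map_smul]
          exact congrArg _ (by obtain ⟨z, rfl⟩ := I.toCotangent_surjective z; rfl)
        simp only [c, h1, ← map_sum, ← map_smul I.toCotangent]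
        rw [show (∑ i, a i • (⟨f i, hd.mem i⟩ : I)) = h ^ k • ⟨y, hy⟩ from Subtype.ext (by simpa using ha),
          map_smul, ← h1, map_pow, smul_comm]
        congr 1
        rw [LocalizedModule.mkLinearMap_apply, LocalizedModule.mk_smul_mk, one_smul, mul_one]
    have hinj : ∀ v, ψ v = 0 → ∃ k : ℕ, t ^ k • v = 0 := by
      intro v hv
      obtain ⟨⟨_, j, rfl⟩, hj⟩ := IsLocalization.exist_integer_multiples_of_finite (Submonoid.powers (Ideal.Quotient.mk I β)) v
      choose a ha using hj
      choose a' ha' using fun i => Ideal.Quotient.mk_surjective (a i)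
      have h2 : LocalizedModule.mkLinearMap (Submonoid.powers g) I.Cotangent (I.toCotangent (∑ i, a' i • ⟨f i, hd.mem i⟩)) = 0 := by
        have h3 : algebraMap _ T' (Ideal.Quotient.mk I β) ^ j • ψ v = 0 := by rw [hv, smul_zero]
        rw [← h3]
        simp only [ψ, Fintype.linearCombination_apply, Finset.smul_sum, map_sum, smul_smul]
        refine Finset.sum_congr rfl fun i _ => ?_
        rw [← map_pow, ← Algebra.smul_def, ← ha i, ← ha' i, algebraMap_smul, map_smul I.toCotangent,
          ← algebraMap_smul (MvPolynomial (Fin n) R ⧸ I) (a' i) (I.toCotangent ⟨f i, hd.mem i⟩), map_smul]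
        rfl
      obtain ⟨⟨_, l, rfl⟩, hl⟩ := (IsLocalizedModule.eq_zero_iff (Submonoid.powers g) _).1 h2
      have h4 : I.toCotangent (β ^ l • ∑ i, a' i • ⟨f i, hd.mem i⟩) = 0 := by
        rw [map_smul]
        rw [← hβ] at hl
        exact hl
      rw [Ideal.toCotangent_eq_zero] at h4
      simp only [Submodule.coe_smul, Submodule.coe_sum, smul_eq_mul, Finset.mul_sum, ← mul_assoc] at h4
      have h5 := Ideal.mem_map_of_mem (algebraMap _ (Localization.Away h)) h4
      rw [Ideal.map_pow, hd.map_eq, Ideal.map_span, ← Set.range_comp] at h5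
      simp only [map_sum, map_mul] at h5
      have hex := hd.ex
      rw [List.map_ofFn] at hex
      obtain ⟨z, hz, hzs⟩ := (Submodule.mem_ideal_smul_span_iff_exists_sum _ _ _).1
        (show _ ∈ Ideal.span (Set.range (algebraMap _ (Localization.Away h) ∘ f)) •
          Submodule.span (Localization.Away h) (Set.range (algebraMap _ (Localization.Away h) ∘ f)) from
          (by rw [smul_eq_mul, ← sq]; exact h5))
      rw [Finsupp.sum_fintype _ _ (fun i => by simp)] at hzs
      have h6 : ∀ i, algebraMap _ (Localization.Away h) (β ^ l * a' i) ∈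
          I.map (algebraMap _ (Localization.Away h)) := fun i => by
        rw [hd.map_eq, Ideal.map_span, ← Set.range_comp, map_mul]
        have := KRIdeal.coeff_mem_of_ex hex (a := fun i => algebraMap _ _ (β ^ l) * algebraMap _ _ (a' i) - z i) (by
          simp only [sub_mul, Finset.sum_sub_distrib, Function.comp_apply]
          rw [sub_eq_zero, ← hzs]
          exact Finset.sum_congr rfl fun i _ => by simp) i
        simpa using Ideal.add_mem _ this (hz i)
      have h8 : ∀ i, ∃ m : ℕ, h ^ m * (β ^ l * a' i) ∈ I := fun i => by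
        obtain ⟨_, ⟨m, rfl⟩, hm⟩ := (IsLocalization.algebraMap_mem_map_algebraMap_iff (Submonoid.powers h) _ _ _).1 (h6 i)
        exact ⟨m, hm⟩
      choose m hm using h8
      refine ⟨Finset.univ.sup m, funext fun i => ?_⟩
      have hu : IsUnit (τ β) := IsLocalization.Away.algebraMap_isUnit (S := T') (Ideal.Quotient.mk I β)
      have h7 : τ (h ^ Finset.univ.sup m * (β ^ l * a' i)) = 0 := by
        rw [hτ, RingHom.comp_apply, Ideal.Quotient.eq_zero_iff_mem.2, map_zero]
        obtain ⟨d, hd'⟩ := Nat.exists_eq_add_of_le (Finset.le_sup (f := m) (Finset.mem_univ i))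
        rw [hd', pow_add, mul_comm (h ^ m i), mul_assoc]
        exact I.mul_mem_left _ (hm i)
      rw [map_mul, map_mul, map_pow, map_pow, mul_left_comm, (hu.pow l).mul_right_eq_zero] at h7
      have hai : τ (a' i) = τ β ^ j * v i := by
        rw [hτ, RingHom.comp_apply, RingHom.comp_apply, ha', ha i, Algebra.smul_def, map_pow]
      rw [hai, mul_left_comm, (hu.pow j).mul_right_eq_zero] at h7
      exact h7
    let ψt := LocalizedModule.map (Submonoid.powers t) ψ
    have hbij : Function.Bijective ψt := by
      refine ⟨(injective_iff_map_eq_zero _).2 fun w hw => ?_, fun w => ?_⟩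
      · induction w using LocalizedModule.induction_on with
        | h v s =>
          rw [LocalizedModule.map_mk, ← LocalizedModule.zero_mk 1, LocalizedModule.mk_eq] at hw
          obtain ⟨⟨_, k, rfl⟩, hk⟩ := hw
          simp only [one_smul, smul_zero, Submonoid.smul_def] at hk
          rw [← map_smul] at hk
          obtain ⟨k', hk'⟩ := hinj _ hk
          rw [← LocalizedModule.zero_mk 1, LocalizedModule.mk_eq]
          refine ⟨⟨t ^ k' * t ^ k, mul_mem (pow_mem (Submonoid.mem_powers t) k') (pow_mem (Submonoid.mem_powers t) k)⟩, ?_⟩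
          simp only [one_smul, smul_zero, Submonoid.smul_def]
          rw [mul_smul]; exact hk'
      · induction w using LocalizedModule.induction_on with
        | h m s =>
          obtain ⟨k, v, hv⟩ := hsur m
          refine ⟨LocalizedModule.mk v (⟨t ^ k, pow_mem (Submonoid.mem_powers t) k⟩ * s), ?_⟩
          rw [LocalizedModule.map_mk, hv]
          exact LocalizedModule.mk_cancel_common_left ⟨t ^ k, pow_mem (Submonoid.mem_powers t) k⟩ s m
    haveI : Module.Free (Localization.Away t) (LocalizedModule.Away t (Fin r → T')) :=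
      Module.free_of_isLocalizedModule (Submonoid.powers t) (LocalizedModule.mkLinearMap (Submonoid.powers t) (Fin r → T'))
    haveI : Module.Finite (Localization.Away t) (LocalizedModule.Away t (Fin r → T')) :=
      Module.Finite.of_isLocalizedModule (Submonoid.powers t) (LocalizedModule.mkLinearMap (Submonoid.powers t) (Fin r → T'))
    let e := LinearEquiv.ofBijective ψt hbij
    exact ⟨Module.Free.of_equiv e, Module.Finite.equiv e⟩
  haveI : Module.FinitePresentation T' N :=
    Module.FinitePresentation.of_localizationSpan good hspan fun t => by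
      haveI := t.2.1; haveI := t.2.2
      haveI : Module.Projective (Localization.Away t.1) (LocalizedModule.Away t.1 N) := Module.Projective.of_free
      exact Module.finitePresentation_of_projective _ _
  haveI : Module.Flat T' N := Module.flat_of_localized_span T' N good hspan fun t => by
    haveI := t.2.1
    haveI : Module.Projective (Localization.Away t.1) (LocalizedModule.Away t.1 N) := Module.Projective.of_free
    haveI : Module.Flat (Localization.Away t.1) (LocalizedModule.Away t.1 N) := Module.Flat.of_projective
    exact Module.Flat.trans T' (Localization.Away t.1) _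
  exact Module.Flat.projective_of_finitePresentation

end Groth.Agent.S9151
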