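import Groth.Statements.S0611
-- import your own Groth.Agent.* helpers here

set_option autoImplicit false
universe u
open RRAlg

namespace Groth.Agent.S0611

open RingTheory.Sequence IsLocalRing

theorem exchange {A : Type u} [CommRing A] [IsLocalRing A] [IsNoetherianRing A] :
    ∀ (k : ℕ) (P as bs : List A), as.length = k → bs.length = k → IsRegular A (P ++ as) →
      Ideal.ofList (P ++ as) = Ideal.ofList (P ++ bs) → IsRegular A (P ++ bs) := by
  classical
  intro k
  induction k with
  | zero =>
    intro P as bs h1 h2 h _
    rw [List.length_eq_zero_iff.mp h1] at h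
    rwa [List.length_eq_zero_iff.mp h2]
  | succ k ih =>
    intro P as bs h1 h2 h heq
    obtain ⟨a, as', rfl⟩ : ∃ a as', as = a :: as' := by
      cases as with
      | nil => simp at h1
      | cons a as' => exact ⟨a, as', rfl⟩
    have h' : IsRegular A ((P ++ as') ++ [a]) := isRegular_of_perm h (by
      rw [List.append_assoc]
      exact List.Perm.append_left P (List.perm_append_comm (l₁ := [a])))
    have hmem : ∀ r ∈ P ++ (a :: as'), r ∈ maximalIdeal A := fun r hr => le_maximalIdeal (J := Ideal.ofList (P ++ a :: as'))
      (fun he => h.2 (by rw [he, Submodule.top_smul])) (Ideal.subset_span hr)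
    have hw := (isWeaklyRegular_append_iff A (P ++ as') [a]).mp h'.1
    set Jid := Ideal.ofList (P ++ as') with hJid
    have hJm : Jid ≤ maximalIdeal A := Ideal.span_le.mpr fun r hr => hmem r (by
      simp only [Set.mem_ofPred_eq, List.mem_append, List.mem_cons] at hr ⊢; tauto)
    have hrega : ∀ z, a * z ∈ Jid → z ∈ Jid := by
      intro z hz
      have hs := (isWeaklyRegular_singleton_iff _ a).mp hw.2
      have he : (Jid • ⊤ : Submodule A A) = Jid := by rw [smul_eq_mul, Ideal.mul_top]
      rw [← he] at hz ⊢
      rw [← Submodule.Quotient.mk_eq_zero] at hz ⊢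
      refine hs ?_
      show a • Submodule.Quotient.mk z = a • (0 : A ⧸ (Jid • ⊤ : Submodule A A))
      rw [smul_zero, ← Submodule.Quotient.mk_smul, smul_eq_mul]
      exact hz
    have hanot : a ∉ Jid := fun ha =>
      (maximalIdeal.isMaximal A).ne_top ((Ideal.eq_top_iff_one _).mpr (hJm (hrega 1 (by rwa [mul_one]))))
    have hsplit : Ideal.ofList (P ++ a :: as') = Jid ⊔ Ideal.span {a} := by
      rw [hJid, Ideal.ofList_append, Ideal.ofList_append, Ideal.ofList_cons, sup_comm (Ideal.span {a}),
        sup_assoc]
    obtain ⟨b, hb, c, hc, y, hy, hby⟩ : ∃ b ∈ bs, ∃ c, IsUnit c ∧ ∃ y ∈ Jid, b = y + c * a := by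
      by_contra hcon
      push Not at hcon
      have hbs : Ideal.ofList (P ++ bs) ≤ Jid ⊔ Ideal.span {a} * maximalIdeal A := by
        rw [Ideal.ofList, Ideal.span_le]
        intro r hr
        simp only [Set.mem_ofPred_eq, List.mem_append] at hr
        rcases hr with hr | hr
        · exact Ideal.mem_sup_left (Ideal.subset_span (List.mem_append_left _ hr))
        · have hr' : r ∈ Jid ⊔ Ideal.span {a} := by
            rw [← hsplit, heq]; exact Ideal.subset_span (List.mem_append_right _ hr)
          obtain ⟨y, hy, w, hw', rfl⟩ := Submodule.mem_sup.mp hr'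
          obtain ⟨c, rfl⟩ := Ideal.mem_span_singleton'.mp hw'
          refine Submodule.add_mem_sup hy ?_
          rw [mul_comm c a]
          exact Ideal.mul_mem_mul (Ideal.mem_span_singleton_self a) ((mem_maximalIdeal _).mpr
            fun hu => hcon _ hr c hu y hy rfl)
      have ha : a ∈ Jid ⊔ Ideal.span {a} * maximalIdeal A :=
        hbs (heq ▸ Ideal.subset_span (List.mem_append_right _ List.mem_cons_self))
      obtain ⟨y, hy, w, hw', hyw⟩ := Submodule.mem_sup.mp ha
      obtain ⟨c, hc, rfl⟩ := Ideal.mem_span_singleton_mul.mp hw'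
      have hu : IsUnit (1 - c) := isUnit_one_sub_self_of_mem_nonunits c ((mem_maximalIdeal _).mp hc)
      have : a * (1 - c) ∈ Jid := by
        rw [show a * (1 - c) = y by rw [mul_sub, mul_one]; exact sub_eq_iff_eq_add.mpr hyw.symm]; exact hy
      exact hanot (by simpa [mul_assoc] using Jid.mul_mem_right (↑hu.unit⁻¹ : A) this)
    obtain ⟨bs₁, bs₂, rfl⟩ := List.append_of_mem hb
    have hnew : IsRegular A ((P ++ as') ++ [b]) := by
      refine IsRegular.of_isWeaklyRegular_of_mem_maximalIdeal A ?_ ?_
      rotate_left
      · refine (isWeaklyRegular_append_iff A (P ++ as') [b]).mpr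
          ⟨hw.1, (isWeaklyRegular_singleton_iff _ b).mpr fun z₁ z₂ hz => ?_⟩
        obtain ⟨z₁, rfl⟩ := Submodule.Quotient.mk_surjective _ z₁
        obtain ⟨z₂, rfl⟩ := Submodule.Quotient.mk_surjective _ z₂
        have he : (Jid • ⊤ : Submodule A A) = Jid := by rw [smul_eq_mul, Ideal.mul_top]
        change b • (Submodule.Quotient.mk z₁ : A ⧸ (Jid • ⊤ : Submodule A A)) = b • Submodule.Quotient.mk z₂ at hz
        rw [← Submodule.Quotient.mk_smul, ← Submodule.Quotient.mk_smul, Submodule.Quotient.eq,
          ← smul_sub] at hz
        rw [smul_eq_mul Jid ⊤] at hz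
        refine (Submodule.Quotient.eq (Jid • ⊤ : Submodule A A)).mpr ?_
        rw [he]
        rw [Ideal.mul_top, smul_eq_mul] at hz
        refine hrega _ ?_
        have h3 : c * (a * (z₁ - z₂)) ∈ Jid := by
          rw [show c * (a * (z₁ - z₂)) = b * (z₁ - z₂) - y * (z₁ - z₂) by rw [hby]; ring]
          exact sub_mem hz (Jid.mul_mem_right _ hy)
        simpa [← mul_assoc] using Jid.mul_mem_left (↑hc.unit⁻¹ : A) h3
      · intro r hr
        simp only [List.mem_append, List.mem_singleton] at hr
        rcases hr with hr | rfl
        · exact hmem r (by simp only [List.mem_append, List.mem_cons]; tauto)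
        · rw [hby]
          exact add_mem (hJm hy) (Ideal.mul_mem_left _ _ (hmem a (by simp)))
    have hnew' : IsRegular A ((P ++ [b]) ++ as') := isRegular_of_perm hnew (by
      rw [List.append_assoc, List.append_assoc]
      exact List.Perm.append_left P List.perm_append_comm)
    have hid : Ideal.ofList ((P ++ [b]) ++ as') = Ideal.ofList (P ++ a :: as') := by
      have e : Ideal.ofList ((P ++ [b]) ++ as') = Jid ⊔ Ideal.span {b} := by
        simp only [hJid, Ideal.ofList_append, Ideal.ofList_singleton]
        rw [sup_right_comm]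
      rw [e, hsplit]
      refine le_antisymm (sup_le le_sup_left ((Ideal.span_singleton_le_iff_mem _).mpr ?_))
        (sup_le le_sup_left ((Ideal.span_singleton_le_iff_mem _).mpr ?_))
      · rw [hby]
        exact Submodule.add_mem_sup hy (Ideal.mul_mem_left _ _ (Ideal.mem_span_singleton_self a))
      · rw [show a = -(↑hc.unit⁻¹ : A) * y + (↑hc.unit⁻¹ : A) * b by
          rw [hby, mul_add, ← mul_assoc, IsUnit.val_inv_mul, one_mul]; ring]
        exact Submodule.add_mem_sup (Jid.mul_mem_left _ hy)
          (Ideal.mul_mem_left _ _ (Ideal.mem_span_singleton_self b))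
    have hperm : ((P ++ [b]) ++ (bs₁ ++ bs₂)).Perm (P ++ (bs₁ ++ b :: bs₂)) := by
      rw [List.append_assoc]
      exact List.Perm.append_left P (List.perm_middle (a := b) (l₁ := bs₁) (l₂ := bs₂)).symm
    refine isRegular_of_perm (ih (P ++ [b]) as' (bs₁ ++ bs₂) ?_ ?_ hnew' ?_) hperm
    · simp at h1; omega
    · simp at h2 ⊢; omega
    · rw [hid, heq]
      exact congrArg Ideal.span (Set.ext fun r => (hperm.mem_iff).symm)

/-- In a Noetherian local ring, any minimal generating set of an ideal generated by a regular sequence
is again a regular sequence: if a₁, …, aₙ is a regular sequence and b₁, …, bₙ are n elements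
generating the same ideal, then b₁, …, bₙ is a regular sequence. (A regular sequence of length n
generating an ideal I is a minimal generating set of I, so "minimal" amounts to "of length n".) -/
theorem result {A : Type u} [CommRing A] [IsLocalRing A] [IsNoetherianRing A]
    {n : ℕ} (a b : Fin n → A) (ha : RingTheory.Sequence.IsRegular A (List.ofFn a))
    (hab : Ideal.span (Set.range a) = Ideal.span (Set.range b)) :
    RingTheory.Sequence.IsRegular A (List.ofFn b) := by
  have h := exchange n [] (List.ofFn a) (List.ofFn b) List.length_ofFn List.length_ofFn ha (by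
    simp only [List.nil_append, Ideal.ofList, List.mem_ofFn]
    exact hab)
  exact h

end Groth.Agent.S0611
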