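import Groth.Statements.S14036
import Groth.Agent.SmoothFrob.Main
-- import your own Groth.Agent.* helpers here

set_option autoImplicit false
universe u v
open W4c1frobunstiva

namespace Groth.Agent.S14036

/-- Flatness of the relative Frobenius does not depend on the universe of the algebra. -/
theorem flat_relFrob_any (p : ℕ) [Fact p.Prime] (A : Type u) [CommRing A] [CharP A p] (B : Type v) [CommRing B]
    [Algebra A B] [CharP B p] [Algebra.Smooth A B] : (FrobAlg.relFrob p A B).Flat := by
  obtain ⟨n, f, hf⟩ := Algebra.FiniteType.iff_quotient_mvPolynomial''.1 (inferInstance : Algebra.FiniteType A B)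
  let e : (MvPolynomial (Fin n) A ⧸ RingHom.ker f) ≃ₐ[A] B := Ideal.quotientKerAlgEquivOfSurjective hf
  haveI := Algebra.Smooth.of_equiv e.symm
  haveI : CharP (MvPolynomial (Fin n) A ⧸ RingHom.ker f) p := charP_of_injective_ringHom (f := e.symm.toRingEquiv.toRingHom) e.symm.injective p
  have h : FrobAlg.relFrob p A B =
      (e.toRingEquiv.toRingHom.comp (FrobAlg.relFrob p A _)).comp
        (Algebra.TensorProduct.congr e.symm (AlgEquiv.refl : FrobAlg.Twist p A ≃ₐ[A] _)).toRingEquiv.toRingHom :=
    RingHom.ext fun x => by
      have := Groth.Agent.SmoothFrob.relFrob_natural p A e.symm.toAlgHom x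
      show FrobAlg.relFrob p A B x = e (FrobAlg.relFrob p A _ _)
      rw [← e.apply_symm_apply (FrobAlg.relFrob p A B x)]
      exact congrArg e this
  rw [h]
  exact (RingHom.Flat.of_bijective (AlgEquiv.bijective _)).comp
    ((Groth.Agent.SmoothFrob.flat_relFrob p A _).comp (RingHom.Flat.of_bijective e.bijective))

/-- Let p be a prime number, A a commutative ring of characteristic p and B a smooth A-algebra of
characteristic p. Then the relative Frobenius homomorphism from the Frobenius twist B ⊗_A A (right
factor A through its p-th power map) to B, sending b ⊗ a to b^p a, is flat. (Affine form of the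
statement that the relative Frobenius X → X^(p) of a smooth S-scheme in characteristic p is flat;
flatness and the relative Frobenius are both local on affine opens.) -/
theorem result (p : ℕ) [Fact p.Prime] (A : Type u) [CommRing A]
    [CharP A p] (B : Type v) [CommRing B] [Algebra A B] [CharP B p] [Algebra.Smooth A B] :
    (FrobAlg.relFrob p A B).Flat := by
  exact flat_relFrob_any p A B

end Groth.Agent.S14036
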