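import Groth.Statements.S0302
import Groth.Agent.InjHull.Basic

set_option autoImplicit false
universe u v
open InjHull

namespace Groth.Agent.S0302

/-- Two injective hulls of the same module are isomorphic by an isomorphism compatible with the two
embeddings. -/
theorem result (R : Type u) [CommRing R] (M : Type u) [AddCommGroup M] [Module R M] (E : Type u) [AddCommGroup E] [Module R E] (E' : Type u) [AddCommGroup E'] [Module R E'] (f : M →ₗ[R] E) (hf : InjHull.IsInjectiveHull f) (g : M →ₗ[R] E') (hg : InjHull.IsInjectiveHull g) : ∃ e : E ≃ₗ[R] E', e.toLinearMap ∘ₗ f = g := by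
  obtain ⟨e, he⟩ := InjHullBasic.exists_extend hg.isInjective hf.injective g
  have hinj : Function.Injective e :=
    InjHullBasic.injective_of_comp_injective hf.toIsEssentialInj e (he ▸ hg.injective)
  obtain ⟨C, hC⟩ := InjHullBasic.exists_isCompl_range hf.isInjective hinj
  have hC0 : C = ⊥ := by
    by_contra hne
    refine hg.essential C hne (eq_bot_iff.mpr ?_)
    have : LinearMap.range g ≤ LinearMap.range e := by
      rw [← he]; exact LinearMap.range_comp_le_range f e
    exact (inf_le_inf_left C this).trans hC.symm.inf_eq_bot.le
  have hsurj : LinearMap.range e = ⊤ := by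
    simpa [hC0] using hC.sup_eq_top
  exact ⟨LinearEquiv.ofBijective e ⟨hinj, LinearMap.range_eq_top.mp hsurj⟩, he⟩

end Groth.Agent.S0302
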