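import Groth.Statements.S12444
import Groth.Agent.PtTop.Catenary
-- import your own Groth.Agent.* helpers here

set_option autoImplicit false
universe u
open PtTop

namespace Groth.Agent.S12444

/-- A topological space X is catenary if and only if it has an open covering by catenary subspaces
(here: every point has a catenary open neighbourhood); and if X is catenary then so is every locally
closed subspace of X. -/
theorem result (X : Type u) [TopologicalSpace X] :
    (PtTop.IsCatenarySpace X ↔
      ∀ x : X, ∃ U : TopologicalSpace.Opens X, x ∈ U ∧ PtTop.IsCatenarySpace U) ∧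
    (PtTop.IsCatenarySpace X → ∀ S : Set X, IsLocallyClosed S → PtTop.IsCatenarySpace S) := by
  simp only [PtCat.isCatenary_iff]
  refine ⟨⟨fun h x => ⟨⊤, trivial, PtCat.cat_of_range (PtCat.incl _)
    (PtCat.ordConnected_range_incl isOpen_univ.isLocallyClosed) h⟩, fun h T T' hT => ?_⟩,
    fun h S hS => PtCat.cat_of_range (PtCat.incl S) (PtCat.ordConnected_range_incl hS) h⟩
  obtain ⟨x, hx⟩ := T.isIrreducible.nonempty
  obtain ⟨U, hxU, hU⟩ := h x
  have hlc : IsLocallyClosed (U : Set X) := U.2.isLocallyClosed
  have mem : ∀ A : TopologicalSpace.IrreducibleCloseds X, x ∈ (A : Set X) →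
      A ∈ Set.range (PtCat.incl (U : Set X)) := fun A hA =>
    (PtCat.mem_range_incl hlc).2 ⟨⟨x, hA, hxU⟩,
      (subset_closure_inter_of_isPreirreducible_of_isOpen A.isIrreducible.isPreirreducible U.2
        ⟨x, hA, hxU⟩).trans (closure_mono Set.inter_subset_right)⟩
  obtain ⟨a, rfl⟩ := mem T hx
  obtain ⟨b, rfl⟩ := mem T' (hT hx)
  exact PtCat.cat_at _ (PtCat.ordConnected_range_incl hlc) hU hT

end Groth.Agent.S12444
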