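import Groth.Statements.S0455
import Groth.Agent.CechCmp.Compare
import Groth.Agent.CechCmp.MathlibCech
-- import your own Groth.Agent.* helpers here

set_option autoImplicit false
universe u
open CategoryTheory
open CohTop

namespace Groth.Agent.S0455

open Opposite CategoryTheory.Limits in
theorem subsingleton_H_of_flasque {R : Type u} [CommRing R] {X : TopCat.{u}} {ι : Type u} [DecidableEq ι]
    (U : ι → TopologicalSpace.Opens X) (p : ℕ) :
    ∀ (F : CechCmp.RSh R X), TopCat.Sheaf.IsFlasque F.F → Subsingleton ((F.sys U).H (p + 1)) := by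
  classical
  induction p using Nat.strong_induction_on with
  | _ p ih =>
  intro F hFl
  haveI := hFl
  have hF : F.Acyc U := fun s _ n => CohVanish.subsingleton_of_flasque F.F _ n
  let S := F.sys U
  let SG := F.god.sys U
  let SQ := F.godQuot.sys U
  let hh : SG.Homotopy fun _ => LinearMap.id :=
    { h := fun s =>
        { toFun := fun y x => if h : ∃ i, x.1 ∈ U i then
            y h.choose ⟨x.1, CechCmp.RSh.mem_meetOpen_insert U x.2 h.choose_spec⟩ else 0
          map_add' := fun y y' => funext fun x => by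
            change (if h : ∃ i, x.1 ∈ U i then ((y + y') h.choose ⟨x.1, CechCmp.RSh.mem_meetOpen_insert U x.2 h.choose_spec⟩ : F.st x.1) else (0 : F.st x.1)) =
              (if h : ∃ i, x.1 ∈ U i then (y h.choose ⟨x.1, CechCmp.RSh.mem_meetOpen_insert U x.2 h.choose_spec⟩ : F.st x.1) else (0 : F.st x.1)) +
              (if h : ∃ i, x.1 ∈ U i then (y' h.choose ⟨x.1, CechCmp.RSh.mem_meetOpen_insert U x.2 h.choose_spec⟩ : F.st x.1) else (0 : F.st x.1))
            by_cases h : ∃ i, x.1 ∈ U i
            · rw [dif_pos h, dif_pos h, dif_pos h]; rfl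
            · rw [dif_neg h, dif_neg h, dif_neg h, add_zero]
          map_smul' := fun r y => funext fun x => by
            dsimp only
            change _ = F.actStalk x.1 r _
            by_cases h : ∃ i, x.1 ∈ U i
            · simp only [dif_pos h]; rfl
            · simp only [dif_neg h]; exact (map_zero _).symm }
      nat := fun {s t} hst y hs => funext fun x => by
        obtain ⟨i, hi⟩ := hs
        have hx : ∃ i, x.1 ∈ U i := ⟨i, (iInf₂_le (α := TopologicalSpace.Opens X) (f := fun i _ => U i) i (hst hi)) x.2⟩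
        refine (dif_pos hx).trans ?_
        show _ = (if h : ∃ i, x.1 ∈ U i then (y h.choose ⟨x.1, CechCmp.RSh.mem_meetOpen_insert U
          ((CechCmp.RSh.meetOpen_anti U hst) x.2) h.choose_spec⟩ : F.st x.1) else (0 : F.st x.1))
        rw [dif_pos hx]
        rfl
      diag := fun s z hs => funext fun x => by
        obtain ⟨i, hi⟩ := hs
        have hx : ∃ i, x.1 ∈ U i := ⟨i, (iInf₂_le (α := TopologicalSpace.Opens X) (f := fun i _ => U i) i hi) x.2⟩
        exact dif_pos hx }
  refine subsingleton_of_forall_eq 0 fun x => ?_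
  obtain ⟨a, rfl⟩ := Submodule.mkQ_surjective _ x
  refine (S.cls_eq_zero_iff a).2 ?_
  have hz : SG.d (p + 2) (F.incHom.mapC (p + 2) (a : S.C (p + 2))) = 0 := by
    rw [← CechCmp.RSh.Hom.mapC_d, LinearMap.mem_ker.1 a.2, map_zero]
  obtain ⟨b, hb⟩ := CechCmp.Sys.mem_B_of_homotopy hh p ⟨_, LinearMap.mem_ker.2 hz⟩
  suffices h : ∃ b' : SG.C (p + 1), SG.d (p + 1) b' = F.incHom.mapC (p + 2) (a : S.C (p + 2)) ∧
      F.projHom.mapC (p + 1) b' = 0 by
    obtain ⟨b', hb', hb0⟩ := h
    obtain ⟨c, rfl⟩ := CechCmp.RSh.exact_cochains F (p + 1) b' hb0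
    refine ⟨c, CechCmp.RSh.incHom_injective F (p + 2) ?_⟩
    rw [CechCmp.RSh.Hom.mapC_d]
    exact hb'
  have hbz : SQ.d (p + 1) (F.projHom.mapC (p + 1) b) = 0 := by
    rw [← CechCmp.RSh.Hom.mapC_d, hb]; exact CechCmp.RSh.proj_inc F _ _
  cases p with
  | zero =>
    let W : TopologicalSpace.Opens X := ⨆ i, U i
    let σ₁ : ι → Fin 1 → ι := fun i _ => i
    have hle : ∀ σ : Fin 1 → ι, CechCmp.RSh.meetOpen U (CechCmp.img σ) = U (σ 0) := fun σ => by
      have : CechCmp.img σ = {σ 0} := by ext a; simp [Fin.exists_fin_one, eq_comm]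
      rw [this]; simp [CechCmp.RSh.meetOpen]
    let z := F.projHom.mapC 1 b
    let sf : ∀ i, F.godQuot.F.obj.obj (op (U i)) := fun i => F.godQuot.res (hle (σ₁ i)).ge (z (σ₁ i))
    have hcompat : TopCat.Presheaf.IsCompatible F.godQuot.F.obj U sf := by
      intro i j
      let τ : Fin 2 → ι := ![i, j]
      have hinf : CechCmp.RSh.meetOpen U (CechCmp.img τ) = U i ⊓ U j := by
        have : CechCmp.img τ = {i, j} := by ext a; simp [τ, Fin.exists_fin_two, eq_comm]
        rw [this]; simp only [CechCmp.RSh.meetOpen, Finset.iInf_insert, Finset.iInf_singleton]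
      have h := congrFun hbz τ
      rw [CechCmp.Sys.d_apply, Fin.sum_univ_two] at h
      simp only [Fin.val_zero, Fin.val_one, pow_zero, pow_one, one_smul, neg_smul, CechCmp.RSh.sys,
        Pi.zero_apply] at h
      replace h := eq_of_add_neg_eq_zero h
      have h := congrArg (F.godQuot.res hinf.ge) h
      rw [F.godQuot.res_res, F.godQuot.res_res] at h
      have e0 : τ ∘ Fin.succAbove 0 = σ₁ j := by funext k; fin_cases k; rfl
      have e1 : τ ∘ Fin.succAbove 1 = σ₁ i := by funext k; fin_cases k; rfl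
      have cg : ∀ (ρ ρ' : Fin 1 → ι), ρ = ρ' → ∀ (hρ : U i ⊓ U j ≤ CechCmp.RSh.meetOpen U (CechCmp.img ρ))
          (hρ' : U i ⊓ U j ≤ CechCmp.RSh.meetOpen U (CechCmp.img ρ')),
          F.godQuot.res hρ (z ρ) = F.godQuot.res hρ' (z ρ') := by
        rintro ρ _ rfl _ _; rfl
      change F.godQuot.res inf_le_left (F.godQuot.res (hle (σ₁ i)).ge (z (σ₁ i))) =
        F.godQuot.res inf_le_right (F.godQuot.res (hle (σ₁ j)).ge (z (σ₁ j)))
      rw [F.godQuot.res_res, F.godQuot.res_res]
      exact (cg _ _ e1.symm _ _).trans (h.symm.trans (cg _ _ e0 _ _))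
    obtain ⟨q, hq, -⟩ := TopCat.Sheaf.existsUnique_gluing' (F := F.godQuot.F) U W
      (fun i => homOfLE (le_iSup U i)) le_rfl sf hcompat
    haveI : Subsingleton (CohVanish.EU F.godSES.X₁ W 1) := CohVanish.subsingleton_of_flasque F.F _ 0
    obtain ⟨t, ht⟩ := CohVanish.surjective_app_of_subsingleton F.godSES_shortExact W q
    have hσ : ∀ σ : Fin 1 → ι, CechCmp.RSh.meetOpen U (CechCmp.img σ) ≤ W := fun σ =>
      (hle σ).le.trans (le_iSup U (σ 0))
    refine ⟨b - (fun σ => F.god.res (hσ σ) t : SG.C 1), ?_, ?_⟩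
    · rw [map_sub, hb, sub_eq_self]
      funext τ
      rw [CechCmp.Sys.d_apply, Fin.sum_univ_two]
      simp only [Fin.val_zero, Fin.val_one, pow_zero, pow_one, one_smul, neg_smul, CechCmp.RSh.sys,
        Pi.zero_apply]
      rw [F.god.res_res, F.god.res_res, add_neg_cancel]
    · rw [map_sub, sub_eq_zero]
      funext σ
      obtain ⟨i, rfl⟩ : ∃ i, σ = σ₁ i := ⟨σ 0, funext fun k => by rw [show k = 0 from Fin.ext (by omega)]⟩
      show z (σ₁ i) = F.projHom.app _ (F.god.res (hσ (σ₁ i)) t)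
      rw [CechCmp.RSh.Hom.app_res, show F.projHom.app W t = q from ht]
      have h := congrArg (F.godQuot.res (hle (σ₁ i)).le) (hq i)
      rw [← CechCmp.RSh.res_apply, F.godQuot.res_res, F.godQuot.res_res, F.godQuot.res_self] at h
      exact h.symm
  | succ q =>
    haveI : TopCat.Sheaf.IsFlasque F.godSES.X₁ := hFl
    haveI : TopCat.Sheaf.IsFlasque F.godSES.X₂ := CechCmp.RSh.isFlasque_god F
    haveI : TopCat.Sheaf.IsFlasque F.godQuot.F := TopCat.Sheaf.IsFlasque.of_shortExact_of_isFlasque₁₂ F.godSES_shortExact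
    haveI := ih q (by omega) F.godQuot inferInstance
    obtain ⟨w, hw⟩ := (SQ.cls_eq_zero_iff ⟨_, LinearMap.mem_ker.2 hbz⟩).1 (Subsingleton.elim _ _)
    obtain ⟨w', rfl⟩ := CechCmp.RSh.proj_surjective hF q w
    refine ⟨b - SG.d (q + 1) w', ?_, ?_⟩
    · rw [map_sub, hb, CechCmp.Sys.d_d, sub_zero]
    · rw [map_sub, CechCmp.RSh.Hom.mapC_d, sub_eq_zero]
      exact hw.symm

open TopologicalSpace CategoryTheory.Limits in
/-- If F is a flasque abelian sheaf on X, then for any family of opens the Cech cohomology groups of F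
in positive degree are zero. -/
theorem result {X : TopCat.{u}} (F : CohTop.Ab X) [TopCat.Sheaf.IsFlasque F]
    {ι : Type u} (U : ι → Opens X) (p : ℕ) : IsZero (CohTop.cechH F.obj U (p + 1)) := by
  classical
  let F' : CechCmp.RSh (ULift.{u} ℤ) X :=
    ⟨F, (Int.castRingHom (End F)).comp (ULift.ringEquiv : ULift.{u} ℤ ≃+* ℤ).toRingHom⟩
  obtain ⟨e⟩ := CechCmp.nonempty_cechH_equiv U F' (p + 1)
  haveI := subsingleton_H_of_flasque U p F' ‹_›
  exact AddCommGrpCat.isZero_iff_subsingleton.2 e.toEquiv.subsingleton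

end Groth.Agent.S0455
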