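import Groth.Statements.S5820
import Mathlib

set_option autoImplicit false
universe u v
open EGA41

namespace Groth.Agent.S5820

section aux

open TensorProduct KaehlerDifferential

variable {A : Type u} {B C L : Type v} [CommRing A] [CommRing B] [CommRing C]
  [Algebra A B] [Algebra B C] [Algebra A C] [IsScalarTower A B C] [AddCommGroup L] [Module C L]
  (X : Exal.Ext B C L)

lemma inclC_mem_ker (z : L) : X.inclC A z ∈ RingHom.ker (algebraMap (X.CharCarrier A) C) :=
  RingHom.mem_ker.2 ((X.isExtension.exact _).2 ⟨z, rfl⟩)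

lemma mul_inclC (e : X.CharCarrier A) (z : L) :
    e * X.inclC A z = X.inclC A (algebraMap (X.CharCarrier A) C e • z) :=
  X.isExtension.mul_incl e z

lemma deltaL_eq (z : L) :
    X.deltaL A z = kerToTensor A (X.CharCarrier A) C ⟨X.inclC A z, inclC_mem_ker X z⟩ := rfl

lemma deltaL_injective (hX : X.IsTrivialOver A) : Function.Injective (X.deltaL A) := by
  obtain ⟨s, hs⟩ := hX
  let g : C →ₐ[A] X.CharCarrier A :=
    { toRingHom := s.toRingHom, commutes' := fun a => s.commutes a }
  have hg : (IsScalarTower.toAlgHom A (X.CharCarrier A) C).comp g = AlgHom.id A C :=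
    AlgHom.ext hs
  have hsq : RingHom.ker (algebraMap (X.CharCarrier A) C) ^ 2 = ⊥ := by
    rw [pow_two, eq_bot_iff, Ideal.mul_le]
    intro x hx y hy
    obtain ⟨z, rfl⟩ := (X.isExtension.exact y).1 hy
    change x * X.inclC A z ∈ (⊥ : Ideal (X.CharCarrier A))
    rw [Ideal.mem_bot, mul_inclC, RingHom.mem_ker.1 hx, zero_smul, map_zero]
  have hl := retractionOfSectionOfKerSqZero_comp_kerToTensor _ hsq hg
  intro z z' h
  rw [deltaL_eq, deltaL_eq] at h
  have h' := congrArg (retractionOfSectionOfKerSqZero _ hsq hg) h
  have e := fun w => LinearMap.congr_fun hl w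
  simp only [LinearMap.comp_apply, LinearMap.id_apply] at e
  rw [e, e] at h'
  exact X.isExtension.incl_injective (congrArg Subtype.val h')

lemma deltaL_smul (c : C) (z : L) : X.deltaL A (c • z) = c • X.deltaL A z := by
  obtain ⟨e, rfl⟩ : ∃ e : X.CharCarrier A, algebraMap (X.CharCarrier A) C e = c :=
    X.isExtension.proj_surjective c
  have h := mul_inclC (A := A) X e z
  have h' : (⟨X.inclC A (algebraMap (X.CharCarrier A) C e • z), inclC_mem_ker X _⟩ :
      RingHom.ker (algebraMap (X.CharCarrier A) C)) = e • ⟨X.inclC A z, inclC_mem_ker X z⟩ :=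
    Subtype.ext h.symm
  change X.deltaL A (algebraMap (X.CharCarrier A) C e • z) = algebraMap (X.CharCarrier A) C e • _
  rw [deltaL_eq, deltaL_eq, h', LinearMap.map_smul, ← IsScalarTower.algebraMap_smul C e]

lemma baseChangeToMiddle_tmul (c : C) (ω : Ω[B⁄A]) :
    X.baseChangeToMiddle A (c ⊗ₜ ω) =
      c ⊗ₜ[X.CharCarrier A] KaehlerDifferential.map A A B (X.CharCarrier A) ω := rfl

lemma baseChangeToMiddle_smul (c : C) (z : C ⊗[B] Ω[B⁄A]) :
    X.baseChangeToMiddle A (c • z) = c • X.baseChangeToMiddle A z := by
  induction z using TensorProduct.induction_on with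
  | zero => simp
  | tmul x y => rw [TensorProduct.smul_tmul', baseChangeToMiddle_tmul, baseChangeToMiddle_tmul,
      TensorProduct.smul_tmul']
  | add x y hx hy => rw [smul_add, map_add, map_add, hx, hy, smul_add]

lemma map_map_apply (ω : Ω[B⁄A]) :
    KaehlerDifferential.map A A (X.CharCarrier A) C
      (KaehlerDifferential.map A A B (X.CharCarrier A) ω) = KaehlerDifferential.map A A B C ω := by
  have hω : ω ∈ Submodule.span B (Set.range (KaehlerDifferential.D A B)) :=
    (span_range_derivation A B).symm ▸ trivial
  induction hω using Submodule.span_induction with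
  | mem x hx =>
    obtain ⟨b, rfl⟩ := hx
    simp [← IsScalarTower.algebraMap_apply B (X.CharCarrier A) C]
  | zero => simp
  | add x y _ _ hx hy => rw [map_add, map_add, map_add, hx, hy]
  | smul b x _ hx =>
    rw [LinearMap.map_smul (KaehlerDifferential.map A A B (X.CharCarrier A)), LinearMap.map_smul_of_tower,
      LinearMap.map_smul (KaehlerDifferential.map A A B C), hx]

lemma mapBaseChange_baseChangeToMiddle (z : C ⊗[B] Ω[B⁄A]) :
    mapBaseChange A (X.CharCarrier A) C (X.baseChangeToMiddle A z) = mapBaseChange A B C z := by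
  induction z using TensorProduct.induction_on with
  | zero => simp
  | tmul x y => rw [baseChangeToMiddle_tmul, mapBaseChange_tmul, mapBaseChange_tmul, map_map_apply]
  | add x y hx hy => rw [map_add, map_add, map_add, hx, hy]

lemma exists_deltaL_eq (z : EGA41.imperfection A B C) :
    ∃ l, X.deltaL A l = X.baseChangeToMiddle A (z : C ⊗[B] Ω[B⁄A]) := by
  have hz : X.baseChangeToMiddle A (z : C ⊗[B] Ω[B⁄A]) ∈
      LinearMap.range (kerCotangentToTensor A (X.CharCarrier A) C) := by
    rw [range_kerCotangentToTensor A (X.CharCarrier A) C X.isExtension.proj_surjective]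
    exact LinearMap.mem_ker.2 ((mapBaseChange_baseChangeToMiddle X _).trans (LinearMap.mem_ker.1 z.2))
  obtain ⟨q, hq⟩ := hz
  obtain ⟨x, rfl⟩ := Ideal.toCotangent_surjective _ q
  obtain ⟨l, hl⟩ := (X.isExtension.exact x.1).1 x.2
  exact ⟨l, by rw [← hq, kerCotangentToTensor_toCotangent, ← hl]; rfl⟩

end aux

/-- For ring maps A → B → C, a C-module L and a B-extension X of C by L with middle ring E which is
A-trivial, there is exactly one C-linear map χ from the imperfection module Υ_{C/B/A} = ker(C ⊗_B
Ω_{B/A} → Ω_{C/A}) to L making the defining square commute, i.e. such that z ↦ 1 ⊗ d(χ z) ∈ C ⊗_E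
Ω_{E/A} agrees on Υ_{C/B/A} with the map induced by B → E. This χ is the characteristic homomorphism
of X. (The published statement also asserts that both rows of its diagram are exact; this row states
only the commutativity of the left square and the existence and uniqueness of χ.) -/
theorem result {A : Type u} {B C L : Type v} [CommRing A] [CommRing B] [CommRing C]
    [Algebra A B] [Algebra B C] [Algebra A C] [IsScalarTower A B C] [AddCommGroup L] [Module C L]
    (X : Exal.Ext B C L) (hX : X.IsTrivialOver A) :
    ∃! χ : ↥(EGA41.imperfection A B C) →ₗ[C] L, X.IsCharHom A χ := by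
  have hinj := deltaL_injective X hX
  choose f hf using exists_deltaL_eq (A := A) X
  refine ⟨{ toFun := f, map_add' := fun z z' => hinj ?_, map_smul' := fun c z => hinj ?_ }, hf,
    fun χ hχ => LinearMap.ext fun z => hinj ((hχ z).trans (hf z).symm)⟩
  · rw [map_add, hf, hf, hf, Submodule.coe_add, map_add]
  · rw [RingHom.id_apply, deltaL_smul, hf, hf, Submodule.coe_smul, baseChangeToMiddle_smul]

end Groth.Agent.S5820
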