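import Groth.Prelude.Def_QuadGrp
import Mathlib.LinearAlgebra.Matrix.SesquilinearForm
import Mathlib.Algebra.MvPolynomial.Rename
import Mathlib.Data.ZMod.Basic
import Mathlib.Tactic

/-!
Universal half-discriminant: `2 * halfDiscUniv = discUniv` in odd size, and the transformation rule
`halfDisc (Q ∘ g) = det g ^ 2 * halfDisc Q`.
-/

set_option autoImplicit false
universe u v

namespace Groth.Agent.QuadHalfDisc

open MvPolynomial Matrix QuadGrp

variable {n : ℕ}

/-- The coefficient family of the quadratic form `x ↦ xᵀ V x`. -/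
def co {R : Type*} [CommRing R] (V : Matrix (Fin n) (Fin n) R) : Sym2 (Fin n) → R :=
  Sym2.lift ⟨fun i j => if i = j then V i i else V i j + V j i, fun i j => by
    by_cases h : i = j
    · subst h; rfl
    · dsimp only
      rw [if_neg h, if_neg (Ne.symm h), add_comm]⟩

lemma co_mk {R : Type*} [CommRing R] (V : Matrix (Fin n) (Fin n) R) (i j : Fin n) :
    co V (Sym2.mk i j) = if i = j then V i i else V i j + V j i := rfl

/-- An upper triangular matrix with the given coefficient family. -/
def up {R : Type*} [CommRing R] (c : Sym2 (Fin n) → R) : Matrix (Fin n) (Fin n) R :=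
  Matrix.of fun i j => if i ≤ j then c (Sym2.mk i j) else 0

lemma co_up {R : Type*} [CommRing R] (c : Sym2 (Fin n) → R) : co (up c) = c := by
  funext s
  induction s using Sym2.ind with
  | _ i j =>
    rw [co_mk]
    rcases lt_trichotomy i j with h | h | h
    · simp [up, h.ne, h.le, not_le.mpr h]
    · subst h; simp [up]
    · simp [up, h.ne', h.le, not_le.mpr h, Sym2.eq_swap]

lemma map_co {R S : Type*} [CommRing R] [CommRing S] (f : R →+* S) (V : Matrix (Fin n) (Fin n) R) :
    f ∘ co V = co (V.map f) := by
  funext s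
  induction s using Sym2.ind with
  | _ i j =>
    simp only [Function.comp_apply, co_mk, Matrix.map_apply]
    split <;> simp

lemma polarMat_co {R : Type*} [CommRing R] (V : Matrix (Fin n) (Fin n) R) :
    (univPolarMat n).map (eval₂Hom (Int.castRingHom R) (co V)) = V + Vᵀ := by
  ext i j
  simp only [Matrix.map_apply, univPolarMat, Matrix.of_apply, Matrix.add_apply, Matrix.transpose_apply]
  by_cases h : i = j
  · subst h
    rw [if_pos rfl, map_mul, map_ofNat, eval₂Hom_X', co_mk, if_pos rfl, two_mul]
  · rw [if_neg h, eval₂Hom_X', co_mk, if_neg h]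

lemma eval_discUniv {R : Type*} [CommRing R] (V : Matrix (Fin n) (Fin n) R) :
    eval₂Hom (Int.castRingHom R) (co V) (discUniv n) = (V + Vᵀ).det := by
  rw [discUniv, RingHom.map_det, RingHom.mapMatrix_apply, polarMat_co]

/-- In odd size the universal discriminant is twice the universal half-discriminant. -/
lemma two_mul_halfDiscUniv (hn : Odd n) : 2 * halfDiscUniv n = discUniv n := by
  have hK : ((univPolarMat n).det).map (Int.castRingHom (ZMod 2)) = 0 := by
    let K : Matrix (Fin n) (Fin n) (MvPolynomial (Sym2 (Fin n)) ℤ) := Matrix.of fun i j =>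
      if i < j then X (Sym2.mk i j) else if j < i then -X (Sym2.mk i j) else 0
    have hKt : Kᵀ = -K := by
      ext i j
      simp only [K, Matrix.transpose_apply, Matrix.of_apply, Matrix.neg_apply]
      rcases lt_trichotomy i j with h | h | h
      · simp [h, h.not_gt, Sym2.eq_swap]
      · subst h; simp
      · simp [h, h.not_gt, Sym2.eq_swap]
    have hdet : K.det = 0 := by
      have h1 : K.det = -K.det := by
        conv_lhs => rw [← Matrix.det_transpose, hKt, Matrix.det_neg, Fintype.card_fin, hn.neg_one_pow]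
        ring
      have h2 : (2 : MvPolynomial (Sym2 (Fin n)) ℤ) * K.det = 0 := by linear_combination h1
      exact (mul_eq_zero.mp h2).resolve_left two_ne_zero
    have hmap : (univPolarMat n).map (MvPolynomial.map (Int.castRingHom (ZMod 2)))
        = K.map (MvPolynomial.map (Int.castRingHom (ZMod 2))) := by
      have h2 : (2 : MvPolynomial (Sym2 (Fin n)) (ZMod 2)) = 0 := by
        rw [show (2 : MvPolynomial (Sym2 (Fin n)) (ZMod 2)) = C (2 : ZMod 2) from (map_ofNat C 2).symm,
          show (2 : ZMod 2) = 0 from rfl, map_zero]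
      ext1 i j
      simp only [K, Matrix.map_apply, univPolarMat, Matrix.of_apply]
      rcases lt_trichotomy i j with h | h | h
      · simp [h, h.ne]
      · subst h; simp [h2]
      · simp only [h.ne', h.not_gt, h, if_false, if_true, map_neg, map_X]
        linear_combination (X (Sym2.mk i j)) * h2
    rw [RingHom.map_det, RingHom.mapMatrix_apply, hmap, ← RingHom.mapMatrix_apply, ← RingHom.map_det,
      hdet, map_zero]
  have heven : ∀ s, (2 : ℤ) ∣ coeff s (discUniv n) := by
    intro s
    have h := congrArg (coeff s) hK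
    rw [coeff_map, coeff_zero] at h
    exact (ZMod.intCast_zmod_eq_zero_iff_dvd _ _).mp h
  ext1 s
  rw [show (2 : MvPolynomial (Sym2 (Fin n)) ℤ) = C (2 : ℤ) from (map_ofNat C 2).symm, coeff_C_mul,
    coeff_halfDiscUniv, Int.mul_ediv_cancel' (heven s)]

/-- The universal transformation rule. -/
lemma eval_halfDiscUniv_congr {R : Type u} [CommRing R] (hn : Odd n) (c : Sym2 (Fin n) → R)
    (G : Matrix (Fin n) (Fin n) R) :
    eval₂Hom (Int.castRingHom R) (co (Gᵀ * up c * G)) (halfDiscUniv n) =
      G.det ^ 2 * eval₂Hom (Int.castRingHom R) c (halfDiscUniv n) := by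
  let σ := Sym2 (Fin n) ⊕ (Fin n × Fin n)
  let A : Sym2 (Fin n) → MvPolynomial σ ℤ := fun s => X (Sum.inl s)
  let H : Matrix (Fin n) (Fin n) (MvPolynomial σ ℤ) := Matrix.of fun i j => X (Sum.inr (i, j))
  have key : eval₂Hom (Int.castRingHom (MvPolynomial σ ℤ)) (co (Hᵀ * up A * H)) (halfDiscUniv n) =
      H.det ^ 2 * eval₂Hom (Int.castRingHom (MvPolynomial σ ℤ)) A (halfDiscUniv n) := by
    have h1 : eval₂Hom (Int.castRingHom (MvPolynomial σ ℤ)) (co (Hᵀ * up A * H)) (discUniv n) =
        H.det ^ 2 * eval₂Hom (Int.castRingHom (MvPolynomial σ ℤ)) (co (up A)) (discUniv n) := by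
      rw [eval_discUniv, eval_discUniv, Matrix.transpose_mul, Matrix.transpose_mul, Matrix.transpose_transpose,
        ← Matrix.mul_assoc, ← Matrix.add_mul, ← Matrix.mul_add, Matrix.det_mul, Matrix.det_mul,
        Matrix.det_transpose]
      ring
    rw [co_up, ← two_mul_halfDiscUniv hn, map_mul, map_mul, map_ofNat, map_ofNat] at h1
    exact mul_left_cancel₀ (two_ne_zero (α := MvPolynomial σ ℤ)) (by linear_combination h1)
  let φ : MvPolynomial σ ℤ →+* R :=
    eval₂Hom (Int.castRingHom R) (Sum.elim c fun p => G p.1 p.2)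
  have hA : φ ∘ A = c := by funext s; simp [φ, A]
  have hH : H.map φ = G := by ext i j; simp [φ, H]
  have hup : (up A).map φ = up c := by
    ext i j
    simp only [up, Matrix.map_apply, Matrix.of_apply]
    split
    · exact congrFun hA _
    · exact map_zero φ
  have hco : φ ∘ co (Hᵀ * up A * H) = co (Gᵀ * up c * G) := by
    rw [map_co, Matrix.map_mul, Matrix.map_mul, Matrix.transpose_map, hH, hup]
  have hev : ∀ (a : Sym2 (Fin n) → MvPolynomial σ ℤ) (p : MvPolynomial (Sym2 (Fin n)) ℤ),
      φ (eval₂Hom (Int.castRingHom _) a p) = eval₂Hom (Int.castRingHom R) (φ ∘ a) p := by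
    intro a p
    refine RingHom.congr_fun (?_ : φ.comp (eval₂Hom (Int.castRingHom _) a) = _) p
    ext <;> simp
  have := congrArg φ key
  rw [map_mul, map_pow, RingHom.map_det, RingHom.mapMatrix_apply, hH, hev, hev, hco, hA] at this
  exact this

variable {R : Type u} [CommRing R] {M : Type v} [AddCommGroup M] [Module R M]

lemma coeffs_toQuadraticMap (b : Module.Basis (Fin n) R M) (B : LinearMap.BilinMap R M R) :
    coeffs b (LinearEquiv.refl R R) B.toQuadraticMap = co (LinearMap.toMatrix₂ b b B) := by
  funext s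
  induction s using Sym2.ind with
  | _ i j =>
    rw [coeffs_mk, co_mk, LinearMap.toMatrix₂_apply, LinearMap.toMatrix₂_apply, LinearMap.toMatrix₂_apply]
    by_cases h : i = j
    · simp [h]
    · simp only [h, if_false, LinearEquiv.refl_apply, LinearMap.BilinMap.polar_toQuadraticMap]

/-- Any quadratic map presented by a bilinear one. -/
theorem halfDisc_comp (hn : Odd n) (b : Module.Basis (Fin n) R M) (Q : QuadraticForm R M) (g : M →ₗ[R] M) :
    halfDisc b (LinearEquiv.refl R R) (Q.comp g) =
      LinearMap.det g ^ 2 * halfDisc b (LinearEquiv.refl R R) Q := by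
  set B := Q.toBilin b with hB
  have hQ : B.toQuadraticMap = Q := Q.toQuadraticMap_toBilin b
  have hQg : LinearMap.BilinMap.toQuadraticMap (B.compl₁₂ g g) = Q.comp g := by
    ext x
    rw [LinearMap.BilinMap.toQuadraticMap_apply, LinearMap.compl₁₂_apply, QuadraticMap.comp_apply,
      ← LinearMap.BilinMap.toQuadraticMap_apply, hQ]
  have hup : up (coeffs b (LinearEquiv.refl R R) Q) = LinearMap.toMatrix₂ b b B := by
    ext i j
    rw [LinearMap.toMatrix₂_apply, hB, QuadraticMap.toBilin_apply]
    simp only [up, Matrix.of_apply, coeffs_mk, LinearEquiv.refl_apply]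
    rcases lt_trichotomy i j with h | h | h
    · simp [h, h.le, h.ne]
    · subst h; simp
    · simp [h.ne', h.not_gt, not_le.mpr h]
  show eval₂Hom _ _ _ = _ * eval₂Hom _ _ _
  rw [← hQg, coeffs_toQuadraticMap, LinearMap.toMatrix₂_compl₁₂ b b b b, ← hup,
    eval_halfDiscUniv_congr hn, LinearMap.det_toMatrix]

end Groth.Agent.QuadHalfDisc
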