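import Groth.Statements.S3557
import Groth.Agent.ProjQuot.Range
import Groth.Agent.ProjTwist.Frac

set_option autoImplicit false
universe u
open CategoryTheory CategoryTheory.Limits AlgebraicGeometry
open EGA2

namespace Groth.Agent.S3557

open DirectSum

/-- Let S be a graded ring which is essentially reduced (S_+ contains no nonzero nilpotent). Then Proj S
is an integral scheme if and only if S is essentially integral, i.e. S_+ is nonzero and the product
of two nonzero elements of S_+ is nonzero. -/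
theorem result {R A : Type u} [CommRing R] [CommRing A] [Algebra R A] (𝒜 : ℕ → Submodule R A) [GradedAlgebra 𝒜]
    (hred : ∀ f ∈ (HomogeneousIdeal.irrelevant 𝒜).toIdeal, IsNilpotent f → f = 0) :
    AlgebraicGeometry.IsIntegral (Proj 𝒜) ↔
      ((∃ f ∈ (HomogeneousIdeal.irrelevant 𝒜).toIdeal, f ≠ 0) ∧
        ∀ f ∈ (HomogeneousIdeal.irrelevant 𝒜).toIdeal, ∀ g ∈ (HomogeneousIdeal.irrelevant 𝒜).toIdeal,
          f * g = 0 → f = 0 ∨ g = 0) := by
  classical
  -- a positive-degree component of a nonzero element of the irrelevant ideal, and a point avoiding it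
  have hpt : ∀ f ∈ (HomogeneousIdeal.irrelevant 𝒜).toIdeal, f ≠ 0 →
      ∃ x : ProjectiveSpectrum 𝒜, f ∉ x.asHomogeneousIdeal := by
    intro f hf hf0
    obtain ⟨n, hn⟩ : ∃ n, (decompose 𝒜 f n : A) ≠ 0 := by
      by_contra hc
      push Not at hc
      exact hf0 (by rw [← DirectSum.sum_support_decompose 𝒜 f]; exact Finset.sum_eq_zero fun n _ => hc n)
    have hpos : 0 < n := by
      by_contra h
      obtain rfl : n = 0 := by omega
      exact hn ((HomogeneousIdeal.mem_irrelevant_iff 𝒜 f).mp hf)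
    obtain ⟨x, hx⟩ := Groth.Agent.ProjQuot.exists_point_of_not_isNilpotent hpos
      (SetLike.coe_mem (decompose 𝒜 f n))
      fun h => hn (hred _ (HomogeneousIdeal.mem_irrelevant_of_mem 𝒜 hpos (SetLike.coe_mem _)) h)
    exact ⟨x, fun h => hx (x.asHomogeneousIdeal.isHomogeneous n h)⟩
  have hopen : ∀ f : A, IsOpen {x : ProjectiveSpectrum 𝒜 | f ∉ x.asHomogeneousIdeal} := fun f =>
    (ProjectiveSpectrum.basicOpen 𝒜 f).2
  constructor
  · intro hint
    have hne : Nonempty (Proj 𝒜) := inferInstance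
    obtain ⟨x⟩ := hne
    obtain ⟨d, f, hd, hf, hfx⟩ := Groth.Agent.ProjTwist.exists_pos_notMem 𝒜 (x : ProjectiveSpectrum 𝒜)
    refine ⟨⟨f, HomogeneousIdeal.mem_irrelevant_of_mem 𝒜 hd hf, fun h => hfx (h ▸ zero_mem _)⟩, ?_⟩
    intro a ha b hb hab
    have hirr := irreducibleSpace_of_isIntegral (Proj 𝒜)
    by_contra hc
    push Not at hc
    obtain ⟨x, hx⟩ := hpt a ha hc.1
    obtain ⟨y, hy⟩ := hpt b hb hc.2
    have hpre : PreirreducibleSpace ↥(Proj 𝒜) := hirr.toPreirreducibleSpace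
    obtain ⟨z, hz, hz'⟩ := @nonempty_preirreducible_inter ↥(Proj 𝒜) _ _ _ hpre (hopen a) (hopen b) ⟨x, hx⟩ ⟨y, hy⟩
    exact (z.isPrime.mem_or_mem (show a * b ∈ z.asHomogeneousIdeal.toIdeal by rw [hab]; exact zero_mem _)).elim hz hz'
  · rintro ⟨⟨f, hf, hf0⟩, hdom⟩
    have := Groth.Agent.ProjQuot.isReduced_proj hred
    have : Nonempty (Proj 𝒜) := ⟨(hpt f hf hf0).choose⟩
    have : PreirreducibleSpace (Proj 𝒜) := by
      refine ⟨fun U V hU hV ⟨x, _, hxU⟩ ⟨y, _, hyV⟩ => ?_⟩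
      have key : ∀ (W : Set (ProjectiveSpectrum 𝒜)) (hW : IsOpen W) (x : ProjectiveSpectrum 𝒜), x ∈ W →
          ∃ (d : ℕ) (a : A), 0 < d ∧ a ∈ 𝒜 d ∧ a ∉ x.asHomogeneousIdeal ∧
            ∀ z : ProjectiveSpectrum 𝒜, a ∉ z.asHomogeneousIdeal → z ∈ W := by
        intro W hW x hxW
        obtain ⟨e, a, ha, hxa, haW⟩ := Groth.Agent.ProjTwist.exists_homogeneous_nhd 𝒜 (x := x) ⟨W, hW⟩ hxW
        obtain ⟨d, b, hd, hb, hbx⟩ := Groth.Agent.ProjTwist.exists_pos_notMem 𝒜 x
        exact ⟨e + d, a * b, by omega, SetLike.mul_mem_graded ha hb, Groth.Agent.ProjGamma.notMem_mul hxa hbx,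
          fun z hz => haW (fun h => hz (Ideal.mul_mem_right b _ h))⟩
      obtain ⟨d, a, hd, ha, hxa, haU⟩ := key U hU x hxU
      obtain ⟨e, b, he, hb, hyb, hbV⟩ := key V hV y hyV
      have hab : a * b ≠ 0 := fun h => (hdom a (HomogeneousIdeal.mem_irrelevant_of_mem 𝒜 hd ha) b
        (HomogeneousIdeal.mem_irrelevant_of_mem 𝒜 he hb) h).elim (fun h => hxa (h ▸ zero_mem _))
          (fun h => hyb (h ▸ zero_mem _))
      obtain ⟨z, hz⟩ := hpt (a * b) (Ideal.mul_mem_right _ _ (HomogeneousIdeal.mem_irrelevant_of_mem 𝒜 hd ha)) hab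
      exact ⟨z, trivial, haU z (fun h => hz (Ideal.mul_mem_right b _ h)), hbV z (fun h => hz (Ideal.mul_mem_left _ a h))⟩
    have hne : Nonempty (Proj 𝒜) := inferInstance
    have : IrreducibleSpace (Proj 𝒜) := { toNonempty := hne }
    exact AlgebraicGeometry.isIntegral_of_irreducibleSpace_of_isReduced _

end Groth.Agent.S3557
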