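import Groth.Statements.S5159
import Groth.Agent.LocCohLib.DualityReg
import Groth.Agent.S5170

set_option autoImplicit false
universe u
open CategoryTheory Opposite
open Dual

namespace Groth.Agent.S5159

/-- Let A be a regular local ring of dimension n and M an A-module of finite length. Then Ext^i_A(M, A)
= 0 for i ≠ n and length Ext^n_A(M, A) = length M (the functor Ext^n_A(−, A) is dualizing). -/
theorem result (A : Type u) [CommRing A] [IsRegularLocalRing A] (n : ℕ) (hn : ringKrullDim A = n) (M : Type u) [AddCommGroup M] [Module A M] (hM : IsFiniteLength A M) : (∀ i : ℕ, i ≠ n → Subsingleton (((Ext A (ModuleCat.{u} A) i).obj (op (ModuleCat.of A M))).obj (ModuleCat.of A A))) ∧ Module.length A (((Ext A (ModuleCat.{u} A) n).obj (op (ModuleCat.of A M))).obj (ModuleCat.of A A)) = Module.length A M := by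
  haveI := Groth.Agent.LocCohLib.isRegularRing_of_isRegularLocalRing A
  haveI hfl := isFiniteLength_iff_isNoetherian_isArtinian.1 hM
  haveI := hfl.1
  haveI : Module.Finite A M := inferInstance
  let m := IsLocalRing.maximalIdeal A
  have htor : LocCoh.IsPowerTorsion m M := Groth.Agent.MatlisLib.isPowerTorsion_of_isFiniteLength hM
  obtain ⟨k, hk⟩ := Groth.Agent.LocCohLib.exists_pow_le_annihilator_of_fg (I := m) htor
    (W := (⊤ : Submodule A M)) Module.Finite.fg_top
  have hm : m.height = n := by
    have h := IsLocalRing.maximalIdeal_height_eq_ringKrullDim (R := A)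
    rw [hn] at h
    exact WithBot.coe_injective h
  have hsupp : ∀ q : PrimeSpectrum A, q ∈ Module.support A M → q.asIdeal = m := fun q hq => by
    refine ((IsLocalRing.maximalIdeal.isMaximal A).eq_of_le q.2.ne_top fun a ha => ?_).symm
    obtain ⟨x, hx⟩ := Module.mem_support_iff'.1 hq
    by_contra haq
    exact hx (a ^ k) (fun h => haq (q.2.mem_of_pow_mem k h))
      (Submodule.mem_annihilator.1 (hk (Ideal.pow_mem_pow ha k)) x trivial)
  constructor
  · intro i hi
    haveI := Groth.Agent.LocCohLib.subsingleton_extS i M fun q hq => by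
      rw [hsupp q hq, hm, Ne, Nat.cast_inj]
      exact fun h => hi h.symm
    exact (Groth.Agent.LocCohLib.extEquiv i (ModuleCat.of A M) (ModuleCat.of A A)).injective.subsingleton
  · obtain ⟨g, hg⟩ := Groth.Agent.LocCohLib.exists_injectiveHull_H_top hn
    obtain ⟨d⟩ := Groth.Agent.LocCohLib.nonempty_duality hn n 0 (zero_add n) (ModuleCat.of A M)
    haveI : Module.Finite A (CategoryTheory.Abelian.Ext (ModuleCat.of A M) (ModuleCat.of A A) n) := inferInstance
    have hX : IsFiniteLength A (CategoryTheory.Abelian.Ext (ModuleCat.of A M) (ModuleCat.of A A) n) :=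
      isFiniteLength_iff_isNoetherian_isArtinian.2 ⟨isNoetherian_of_isNoetherianRing_of_finite A _,
        Groth.Agent.LocCohLib.isArtinian_of_pow_smul (m := m) k _ fun a ha x =>
          Groth.Agent.LocCohLib.smul_eq_zero_of_killed (N := ModuleCat.of A M)
            (fun y : M => Submodule.mem_annihilator.1 (hk ha) y trivial) x⟩
    have h1 := Groth.Agent.S5170.result A _ g hg _ hX
    rw [(Groth.Agent.LocCohLib.extEquiv n (ModuleCat.of A M) (ModuleCat.of A A)).length_eq, ← h1]
    refine (d.symm.trans ((Groth.Agent.LocCohLib.h0Equiv m (ModuleCat.of A M)).trans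
      (LinearEquiv.ofTop _ (eq_top_iff.2 fun x _ => htor x)))).length_eq

end Groth.Agent.S5159
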