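import Groth.Statements.S12916
import Groth.Agent.DepthLib.Sk
import Mathlib.GroupTheory.CosetCover
import Mathlib.RingTheory.FiniteLength
import Mathlib.RingTheory.MvPolynomial.Homogeneous
import Mathlib.RingTheory.Ideal.AssociatedPrime.Finiteness

set_option autoImplicit false
universe u
open CAlgX

namespace Groth.Agent.S12916

theorem isFiniteLength_of_support {A : Type u} [CommRing A] [IsNoetherianRing A] (N : Type u)
    [AddCommGroup N] [Module A N] [hN : Module.Finite A N]
    (h : ∀ q ∈ Module.support A N, q.asIdeal.IsMaximal) : IsFiniteLength A N := by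
  refine isFiniteLength_iff_isNoetherian_isArtinian.mpr ⟨inferInstance, ?_⟩
  induction hN using IsNoetherianRing.induction_on_isQuotientEquivQuotientPrime A with
  | subsingleton N => infer_instance
  | quotient N p e =>
    have hp : p.asIdeal.IsMaximal := by
      refine h p ?_
      rw [e.support_eq, Module.support_eq_zeroLocus, Ideal.annihilator_quotient, PrimeSpectrum.mem_zeroLocus]
    haveI : IsSimpleModule A (A ⧸ p.asIdeal) := isSimpleModule_iff_isCoatom.mpr hp.out
    exact isArtinian_of_linearEquiv e.symm
  | exact N₁ N₂ N₃ f g hf hg hfg h₁ h₃ =>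
    haveI := h₁ fun q hq => h q (Module.support_subset_of_injective f hf hq)
    haveI := h₃ fun q hq => h q (Module.support_subset_of_surjective g hg hq)
    exact isArtinian_of_range_eq_ker f g hfg.linearMap_ker_eq.symm


/-- Let k be an infinite field, S = k[x_0, …, x_r], M a finitely generated S-module and d a natural
number. Then some nonzero homogeneous polynomial f of degree d is quasi-regular on M: the submodule
(0 :_M f) of elements of M annihilated by f has finite length. (The published statement assumes M
graded; this row assumes only that M is finitely generated.) -/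
theorem result (k : Type u) [Field k] [Infinite k] (r d : ℕ)
    (M : Type u) [AddCommGroup M] [Module (MvPolynomial (Fin (r + 1)) k) M] [Module.Finite (MvPolynomial (Fin (r + 1)) k) M] :
    ∃ f : MvPolynomial (Fin (r + 1)) k, f.IsHomogeneous d ∧ f ≠ 0 ∧
      IsFiniteLength (MvPolynomial (Fin (r + 1)) k) ↥(Submodule.torsionBy (MvPolynomial (Fin (r + 1)) k) M f) := by
  classical
  set S := MvPolynomial (Fin (r + 1)) k
  let V := MvPolynomial.homogeneousSubmodule (Fin (r + 1)) k d
  let P := {p : Ideal S | p ∈ associatedPrimes S M ∧ ¬ p.IsMaximal}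
  have hP : P.Finite := (associatedPrimes.finite S M).subset fun p hp => hp.1
  let w : Option P → Subspace k V := fun p => match p with
    | none => ⊥
    | some p => (p.1.restrictScalars k).comap V.subtype
  haveI := hP.to_subtype
  have hX : ∀ i : Fin (r + 1), (MvPolynomial.X i ^ d : S) ∈ V := fun i => by
    show MvPolynomial.IsHomogeneous (MvPolynomial.X i ^ d : S) d
    simpa using MvPolynomial.IsHomogeneous.pow (MvPolynomial.isHomogeneous_X k i) d
  have hnt : ¬ (⋃ p, (w p : Set V)) = Set.univ := by
    intro hcov
    obtain ⟨p, hp⟩ := Subspace.exists_eq_top_of_iUnion_eq_univ hcov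
    rcases p with _ | ⟨p, hpass, hpmax⟩
    · have h1 : (⟨_, hX 0⟩ : V) ∈ w none := by rw [hp]; trivial
      exact pow_ne_zero d (MvPolynomial.X_ne_zero (0 : Fin (r + 1))) (congrArg Subtype.val ((Submodule.mem_bot k).mp h1))
    · apply hpmax
      haveI := IsAssociatedPrime.isPrime hpass
      have hXp : ∀ i, (MvPolynomial.X i : S) ∈ p := fun i =>
        ‹p.IsPrime›.mem_of_pow_mem d (show (⟨_, hX i⟩ : V) ∈ w (some ⟨p, hpass, hpmax⟩) by rw [hp]; trivial)
      have hker : RingHom.ker (MvPolynomial.constantCoeff (R := k) (σ := Fin (r + 1))) ≤ p := by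
        intro q hq
        suffices q - MvPolynomial.C (MvPolynomial.constantCoeff q) ∈ p by simpa [RingHom.mem_ker.mp hq] using this
        clear hq
        induction q using MvPolynomial.induction_on with
        | C a => simp
        | add q q' hq hq' => simpa [add_sub_add_comm] using add_mem hq hq'
        | mul_X q i _ => simpa using Ideal.mul_mem_left p q (hXp i)
      have hmax : (RingHom.ker (MvPolynomial.constantCoeff (R := k) (σ := Fin (r + 1)))).IsMaximal :=
        RingHom.ker_isMaximal_of_surjective _ fun c => ⟨MvPolynomial.C c, MvPolynomial.constantCoeff_C _ c⟩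
      rwa [← hmax.eq_of_le ‹p.IsPrime›.ne_top hker]
  obtain ⟨f, hf⟩ := (Set.ne_univ_iff_exists_notMem _).mp hnt
  simp only [Set.mem_iUnion, SetLike.mem_coe, not_exists] at hf
  refine ⟨f.1, f.2, fun h0 => hf none ((Submodule.mem_bot k).mpr (Subtype.ext h0)), ?_⟩
  refine isFiniteLength_of_support (Submodule.torsionBy S M f.1) fun q hq => ?_
  obtain ⟨p, hp, hpq⟩ := Groth.Agent.DepthLib.exists_associatedPrime_le_of_mem_support hq
  have hpM : p ∈ associatedPrimes S M :=
    associatedPrimes.subset_of_injective (f := (Submodule.torsionBy S M f.1).subtype) Subtype.val_injective hp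
  have hfp : f.1 ∈ p := DepthLib.annihilator_le_of_mem_associatedPrimes hp
    (Module.mem_annihilator.mpr fun x => Subtype.ext x.2)
  have hpmax : p.IsMaximal := by
    by_contra hne
    exact hf (some ⟨p, hpM, hne⟩) hfp
  exact hpmax.eq_of_le q.isPrime.ne_top hpq ▸ hpmax

end Groth.Agent.S12916
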