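import Groth.Statements.S4614
import Groth.Agent.CAlgJapanese.Radicial

set_option autoImplicit false
universe u
open TensorProduct AlgebraicGeometry
open CAlg
open Groth.Agent.CAlgJapanese

namespace Groth.Agent.S4614

/-- Let A be a domain with fraction field K, B a Noetherian flat A-algebra with B/q Japanese for every
minimal prime q, K' a finite extension of K, and consider the sub-A-algebras C of K' finite over A
with fraction field K' (a filtered family with union the integral closure A' of A in K'). (i) Some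
member C_α is such that for every member C ⊇ C_α the map (C_α ⊗_A B)_red → (C ⊗_A B)_red is
bijective. (ii) If B is faithfully flat over A then Spec A' → Spec C_α is radicial. -/
theorem result {A B K' : Type u} [CommRing A]
    [IsDomain A] [CommRing B] [Algebra A B] [IsNoetherianRing B] [Module.Flat A B]
    (hJ : ∀ (q : Ideal B) [q.IsPrime], q ∈ minimalPrimes B → CAlg.IsN2 (B ⧸ q))
    [Field K'] [Algebra A K'] [Algebra (FractionRing A) K'] [IsScalarTower A (FractionRing A) K']
    [FiniteDimensional (FractionRing A) K'] :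
    let P : Subalgebra A K' → Prop := fun C : Subalgebra A K' => Module.Finite A C ∧ ∀ x : K', ∃ a b : C, (b : K') ≠ 0 ∧ x * b = a
    ∃ Cα : Subalgebra A K', P Cα ∧
      (∀ C : Subalgebra A K', P C → ∀ hle : Cα ≤ C,
        (∀ x : ↥Cα ⊗[A] B, IsNilpotent (Algebra.TensorProduct.map (Subalgebra.inclusion hle) (AlgHom.id A B) x) →
          IsNilpotent x) ∧
        (∀ y : ↥C ⊗[A] B, ∃ x : ↥Cα ⊗[A] B,
          IsNilpotent (Algebra.TensorProduct.map (Subalgebra.inclusion hle) (AlgHom.id A B) x - y))) ∧
      (Module.FaithfullyFlat A B → ∀ hint : Cα ≤ integralClosure A K',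
        UniversallyInjective (Spec.map (CommRingCat.ofHom (Subalgebra.inclusion hint).toRingHom))) := by
  intro P
  classical
  -- a first member
  obtain ⟨a₀, ha₀, hint₀⟩ := exists_integral_multiples A (FractionRing A)
    (Finset.univ.image (Module.finBasis (FractionRing A) K'))
  set bs := Module.finBasis (FractionRing A) K'
  let C₀ : Subalgebra A K' := Algebra.adjoin A (Set.range fun i => a₀ • bs i)
  have hC₀fin : Module.Finite A C₀ := Module.Finite.iff_fg.mpr <|
    fg_adjoin_of_finite (Set.finite_range _) (by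
      rintro _ ⟨i, rfl⟩
      exact hint₀ _ (Finset.mem_image_of_mem _ (Finset.mem_univ i)))
  have hinjA : Function.Injective (algebraMap A K') := algebraMap_field_injective A K'
  have hC₀frac : ∀ x : K', ∃ a b : C₀, (b : K') ≠ 0 ∧ x * b = a := by
    intro x
    obtain ⟨d, hd⟩ := IsLocalization.exist_integer_multiples (nonZeroDivisors A) Finset.univ
      (fun i => bs.repr x i)
    refine ⟨⟨((d : A) * a₀) • x, ?_⟩, algebraMap A C₀ ((d : A) * a₀), ?_, ?_⟩
    · rw [← bs.sum_repr x, Finset.smul_sum]
      refine sum_mem fun i hi => ?_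
      obtain ⟨n, hn⟩ := hd i hi
      have : ((d : A) * a₀) • (bs.repr x i • bs i) = n • (a₀ • bs i) := by
        rw [mul_smul, smul_comm a₀ (bs.repr x i) (bs i), ← smul_assoc, ← hn,
          algebraMap_smul]
      rw [this]
      exact C₀.smul_mem (Algebra.subset_adjoin (Set.mem_range_self i)) n
    · exact (map_ne_zero_iff _ hinjA).mpr (mul_ne_zero (nonZeroDivisors.coe_ne_zero d) ha₀)
    · change x * algebraMap A K' ((d : A) * a₀) = ((d : A) * a₀) • x
      rw [Algebra.smul_def, mul_comm]
  -- a member with the largest image in the normalization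
  let R : Set (Submodule B (Normal A B K')) :=
    {M | ∃ (C : Subalgebra A K') (_ : P C) (_ : Module.Finite A C),
      LinearMap.range (toNormal (B := B) C).toLinearMap = M}
  have := isNoetherian_normal A B K' hJ
  obtain ⟨_, ⟨Cα, hα, hαfin, rfl⟩, hmax⟩ :=
    set_has_maximal_iff_noetherian.mpr this R ⟨_, C₀, ⟨hC₀fin, hC₀frac⟩, hC₀fin, rfl⟩
  have key : ∀ C : Subalgebra A K', P C → ∀ hle : Cα ≤ C,
      (∀ x : ↥Cα ⊗[A] B,
        IsNilpotent (Algebra.TensorProduct.map (Subalgebra.inclusion hle) (AlgHom.id A B) x) →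
          IsNilpotent x) ∧
      (∀ y : ↥C ⊗[A] B, ∃ x : ↥Cα ⊗[A] B,
        IsNilpotent
          (Algebra.TensorProduct.map (Subalgebra.inclusion hle) (AlgHom.id A B) x - y)) := by
    intro C hC hle
    haveI := hC.1
    let m := Algebra.TensorProduct.map (AlgHom.id B B) (Subalgebra.inclusion hle)
    have hswap : ∀ x, Algebra.TensorProduct.comm A C B
        (Algebra.TensorProduct.map (Subalgebra.inclusion hle) (AlgHom.id A B) x) =
          m (Algebra.TensorProduct.comm A Cα B x) := by
      intro x
      induction x using TensorProduct.induction_on with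
      | zero => simp
      | tmul c b => rfl
      | add x y hx hy => simp only [map_add, hx, hy]
    constructor
    · intro x hx
      refine (IsNilpotent.map_iff (Algebra.TensorProduct.comm A Cα B).injective).mp
        (isNilpotent_of_toNormal_eq_zero ?_)
      rw [← toNormal_incl hle]
      apply toNormal_eq_zero_of_isNilpotent
      have h2 := hx.map (Algebra.TensorProduct.comm A C B)
      rwa [hswap] at h2
    · intro y
      have hle' : LinearMap.range (toNormal (B := B) Cα).toLinearMap ≤
          LinearMap.range (toNormal (B := B) C).toLinearMap := by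
        rintro _ ⟨x, rfl⟩
        exact ⟨m x, toNormal_incl hle x⟩
      have heq := eq_of_le_of_not_lt hle' (hmax _ ⟨C, hC, hC.1, rfl⟩)
      obtain ⟨x, hx⟩ : toNormal C (Algebra.TensorProduct.comm A C B y) ∈
          LinearMap.range (toNormal (B := B) Cα).toLinearMap := by
        rw [heq]; exact ⟨_, rfl⟩
      refine ⟨(Algebra.TensorProduct.comm A Cα B).symm x, ?_⟩
      refine (IsNilpotent.map_iff (Algebra.TensorProduct.comm A C B).injective).mp
        (isNilpotent_of_toNormal_eq_zero ?_)
      rw [map_sub, hswap, AlgEquiv.apply_symm_apply, map_sub, toNormal_incl hle]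
      exact sub_eq_zero.mpr hx
  refine ⟨Cα, hα, key, fun hff hint => ?_⟩
  rw [AWN.universallyInjective_spec_iff]
  intro L _ g g' hgg
  refine RingHom.ext fun x => ?_
  haveI := hα.1
  have hxint : IsIntegral A (x : K') := x.2
  haveI hxfin : Module.Finite A (Algebra.adjoin A ({(x : K')} : Set K')) :=
    Module.Finite.iff_fg.mpr hxint.fg_adjoin_singleton
  let C := Cα ⊔ Algebra.adjoin A ({(x : K')} : Set K')
  have hCfin : Module.Finite A C := finite_sup_subalgebra _ _
  have hle : Cα ≤ C := le_sup_left
  have hC : P C := ⟨hCfin, fun z => by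
    obtain ⟨a, b, hb, hab⟩ := hα.2 z
    exact ⟨⟨a, hle a.2⟩, ⟨b, hle b.2⟩, hb, hab⟩⟩
  have hCi : C ≤ integralClosure A K' :=
    sup_le hint (Algebra.adjoin_le (Set.singleton_subset_iff.mpr hxint))
  letI : Algebra A L := (g.comp (algebraMap A (integralClosure A K'))).toAlgebra
  have hA : ∀ a, g' (algebraMap A _ a) = algebraMap A L a := fun a =>
    (RingHom.congr_fun hgg (algebraMap A Cα a)).symm
  let G : integralClosure A K' →ₐ[A] L := { g with commutes' := fun _ => rfl }
  let G' : integralClosure A K' →ₐ[A] L := { g' with commutes' := hA }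
  haveI : Nontrivial (L ⊗[A] B) := Module.FaithfullyFlat.rTensor_nontrivial A B L
  obtain ⟨𝔪, h𝔪⟩ := Ideal.exists_maximal (L ⊗[A] B)
  letI : Field ((L ⊗[A] B) ⧸ 𝔪) := Ideal.Quotient.field 𝔪
  let π : L ⊗[A] B →ₐ[A] (L ⊗[A] B) ⧸ 𝔪 := Ideal.Quotient.mkₐ A 𝔪
  let H := π.comp (Algebra.TensorProduct.map (G.comp (Subalgebra.inclusion hCi)) (AlgHom.id A B))
  let H' := π.comp (Algebra.TensorProduct.map (G'.comp (Subalgebra.inclusion hCi)) (AlgHom.id A B))
  let y : C := ⟨x, le_sup_right (a := Cα) (Algebra.self_mem_adjoin_singleton A (x : K'))⟩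
  obtain ⟨z, hz⟩ := (key C hC hle).2 (y ⊗ₜ 1)
  have hH : ∀ f : ↥C ⊗[A] B →ₐ[A] (L ⊗[A] B) ⧸ 𝔪,
      f (y ⊗ₜ 1) = f (Algebra.TensorProduct.map (Subalgebra.inclusion hle) (AlgHom.id A B) z) :=
    fun f => by
      have := (hz.map f).eq_zero
      rw [map_sub, sub_eq_zero] at this
      exact this.symm
  have hcomp : H.comp (Algebra.TensorProduct.map (Subalgebra.inclusion hle) (AlgHom.id A B)) =
      H'.comp (Algebra.TensorProduct.map (Subalgebra.inclusion hle) (AlgHom.id A B)) := by
    have hG : ∀ c : Cα, G (Subalgebra.inclusion hint c) = G' (Subalgebra.inclusion hint c) :=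
      fun c => RingHom.congr_fun hgg c
    refine Algebra.TensorProduct.ext' fun c b => ?_
    exact congrArg (fun l => π (l ⊗ₜ b)) (hG c)
  have heq : H (y ⊗ₜ 1) = H' (y ⊗ₜ 1) :=
    (hH H).trans ((AlgHom.congr_fun hcomp z).trans (hH H').symm)
  exact (π.comp Algebra.TensorProduct.includeLeft).toRingHom.injective heq

end Groth.Agent.S4614
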