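import Groth.Statements.S9566
import Mathlib.RingTheory.Smooth.Fiber
import Mathlib.AlgebraicGeometry.Morphisms.Etale
-- import your own Groth.Agent.* helpers here

set_option autoImplicit false
universe u
open EtLocal

namespace Groth.Agent.S9566

open AlgebraicGeometry CategoryTheory TensorProduct

attribute [local instance] Algebra.FormallyEtale.of_formallyUnramified_of_field in
theorem isEtaleAt_of_local {R S : Type u} [CommRing R] [CommRing S] [Algebra R S]
    [Algebra.FinitePresentation R S] (p : Ideal R) (q : Ideal S) [p.IsPrime] [q.IsPrime]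
    [q.LiesOver p] [Algebra (Localization.AtPrime p) (Localization.AtPrime q)]
    [Localization.AtPrime.IsLiesOverAlgebra p q]
    [Module.Flat (Localization.AtPrime p) (Localization.AtPrime q)]
    [Algebra.FormallyUnramified (Localization.AtPrime p) (Localization.AtPrime q)] :
    Algebra.IsEtaleAt R q := by
  let Rp := Localization.AtPrime p
  let Sp := Localization (Algebra.algebraMapSubmonoid S p.primeCompl)
  let Sq := Localization.AtPrime q
  let f : Sp →ₐ[S] Sq := IsLocalization.liftAlgHom (M := Algebra.algebraMapSubmonoid S p.primeCompl)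
        (f := Algebra.ofId _ _) (by
      rintro ⟨_, x, hx, rfl⟩
      simpa using! IsLocalization.map_units (M := q.primeCompl) Sq ⟨algebraMap _ _ x,
        by simp_all [q.over_def p]⟩)
  algebraize [f.toRingHom]
  have : IsScalarTower R Sp Sq := .to₁₃₄ _ S _ _
  have : IsScalarTower Rp Sp Sq := .of_algebraMap_eq' <| by
    apply IsLocalization.ringHom_ext p.primeCompl
    simp only [RingHom.comp_assoc, ← IsScalarTower.algebraMap_eq]
  have : IsLocalization (Algebra.algebraMapSubmonoid Sp q.primeCompl) Sq :=
    .isLocalization_of_submonoid_le _ _ (Algebra.algebraMapSubmonoid S p.primeCompl) _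
    (by rintro _ ⟨x, hx, rfl⟩; simp_all [q.over_def p])
  have : Algebra.FinitePresentation Rp Sp := by
    have : Algebra.IsPushout R Rp S Sp :=
      .symm <| Algebra.isPushout_of_isLocalization p.primeCompl _ _ _
    exact .equiv (Algebra.IsPushout.equiv R Rp S Sp)
  have : Algebra.EssFiniteType Rp Sq := .of_comp R _ _
  have hsm := Algebra.FormallySmooth.of_formallySmooth_residueField_tensor
    (R := Rp) (S := Sq) (P := Sp) (Algebra.algebraMapSubmonoid _ q.primeCompl)
  have : Algebra.FormallyEtale Rp Sq :=
    Algebra.FormallyEtale.iff_formallyUnramified_and_formallySmooth.mpr ⟨inferInstance, hsm⟩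
  exact Algebra.FormallyEtale.comp R Rp Sq

theorem exists_etale_away {A B : Type u} [CommRing A] [CommRing B] (φ : A →+* B)
    (hφ : φ.FinitePresentation) (p : Ideal A) (q : Ideal B) [p.IsPrime] [q.IsPrime]
    (h : p = q.comap φ) (hfl : (Localization.localRingHom p q φ h).Flat)
    (hu : (Localization.localRingHom p q φ h).FormallyUnramified) :
    ∃ g ∉ q, ((algebraMap B (Localization.Away g)).comp φ).Etale := by
  algebraize [φ]
  haveI : q.LiesOver p := ⟨h⟩
  letI := Localization.AtPrime.algebraOfLiesOver p q
  haveI : Module.Flat (Localization.AtPrime p) (Localization.AtPrime q) := hfl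
  haveI : Algebra.FormallyUnramified (Localization.AtPrime p) (Localization.AtPrime q) := hu
  haveI := isEtaleAt_of_local p q
  obtain ⟨g, hg, hget⟩ := Algebra.exists_etale_of_isEtaleAt (R := A) q
  refine ⟨g, hg, ?_⟩
  rw [← RingHom.algebraMap_toAlgebra φ, ← IsScalarTower.algebraMap_eq A B (Localization.Away g),
    RingHom.etale_algebraMap]
  exact hget

open AlgebraicGeometry CategoryTheory in
/-- Let Y be a locally Noetherian scheme, f : X ⟶ Y locally of finite type and x a point of X with image
y. Then f is étale on some open neighbourhood of x if and only if the map of local rings O_{Y,y} →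
O_{X,x} is an étale homomorphism of local rings: it is flat, the maximal ideal of O_{Y,y} generates
that of O_{X,x}, and the residue field of x is a finite separable extension of that of y (O_{X,x} is
automatically essentially of finite type over O_{Y,y}). -/
theorem result {X Y : Scheme.{u}} (f : X ⟶ Y)
    [LocallyOfFiniteType f] [IsLocallyNoetherian Y] (x : X) :
    (∃ U : X.Opens, x ∈ U ∧ Etale (U.ι ≫ f)) ↔
      ((f.stalkMap x).hom.Flat ∧
        (IsLocalRing.maximalIdeal (Y.presheaf.stalk (f.base x))).map (f.stalkMap x).hom =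
          IsLocalRing.maximalIdeal (X.presheaf.stalk x) ∧
        letI := (f.residueFieldMap x).hom.toAlgebra
        Module.Finite (Y.residueField (f.base x)) (X.residueField x) ∧
          Algebra.IsSeparable (Y.residueField (f.base x)) (X.residueField x)) := by
  constructor
  · rintro ⟨U, hxU, hU⟩
    let u : (U : Scheme.{u}) := ⟨x, hxU⟩
    haveI hιiso : IsIso (U.ι.stalkMap u) := inferInstance
    have hcomp : (U.ι ≫ f).stalkMap u = f.stalkMap (U.ι u) ≫ U.ι.stalkMap u :=
      Scheme.Hom.stalkMap_comp U.ι f u
    have hfl : (f.stalkMap x).hom.Flat := by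
      have h1 := Flat.stalkMap (U.ι ≫ f) u
      rw [hcomp] at h1
      exact (@RingHom.RespectsIso.cancel_right_isIso _ RingHom.Flat.respectsIso _ _ _ (f.stalkMap (U.ι u)) (U.ι.stalkMap u) hιiso).mp h1
    have hun : (f.stalkMap x).hom.FormallyUnramified := by
      have h1 := FormallyUnramified.stalkMap (U.ι ≫ f) u
      rw [hcomp] at h1
      exact (@RingHom.RespectsIso.cancel_right_isIso _ RingHom.FormallyUnramified.respectsIso _ _ _ (f.stalkMap (U.ι u)) (U.ι.stalkMap u) hιiso).mp h1
    have hess := LocallyOfFiniteType.stalkMap f x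
    refine ⟨hfl, ?_⟩
    letI := (f.stalkMap x).hom.toAlgebra
    haveI : IsLocalHom (algebraMap (Y.presheaf.stalk (f x)) (X.presheaf.stalk x)) :=
      inferInstanceAs <| IsLocalHom (f.stalkMap x).hom
    haveI : Algebra.FormallyUnramified (Y.presheaf.stalk (f x)) (X.presheaf.stalk x) := hun
    haveI : Algebra.EssFiniteType (Y.presheaf.stalk (f x)) (X.presheaf.stalk x) := hess
    refine ⟨Algebra.FormallyUnramified.map_maximalIdeal, ?_⟩
    have hf1 : Module.Finite (IsLocalRing.ResidueField (Y.presheaf.stalk (f x)))
        (IsLocalRing.ResidueField (X.presheaf.stalk x)) := inferInstance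
    have hs1 : Algebra.IsSeparable (IsLocalRing.ResidueField (Y.presheaf.stalk (f x)))
        (IsLocalRing.ResidueField (X.presheaf.stalk x)) := inferInstance
    constructor
    · convert! hf1
      refine congrArg (fun a => @Algebra.toModule _ _ _ _ a) (Algebra.algebra_ext _ _ fun z => ?_)
      obtain ⟨z, rfl⟩ := IsLocalRing.residue_surjective z
      rfl
    · convert! hs1
      refine Algebra.algebra_ext _ _ fun z => ?_
      obtain ⟨z, rfl⟩ := IsLocalRing.residue_surjective z
      rfl
  · rintro ⟨hfl, hm, hres⟩
    have hun : (f.stalkMap x).hom.FormallyUnramified := by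
      have hess := LocallyOfFiniteType.stalkMap f x
      letI := (f.stalkMap x).hom.toAlgebra
      haveI : IsLocalHom (algebraMap (Y.presheaf.stalk (f x)) (X.presheaf.stalk x)) :=
        inferInstanceAs <| IsLocalHom (f.stalkMap x).hom
      haveI : Algebra.EssFiniteType (Y.presheaf.stalk (f x)) (X.presheaf.stalk x) := hess
      haveI : Algebra.IsSeparable (IsLocalRing.ResidueField (Y.presheaf.stalk (f x)))
          (IsLocalRing.ResidueField (X.presheaf.stalk x)) := by
        convert! hres.2
        refine Algebra.algebra_ext _ _ fun z => ?_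
        obtain ⟨z, rfl⟩ := IsLocalRing.residue_surjective z
        rfl
      exact Algebra.FormallyUnramified.of_map_maximalIdeal hm
    obtain ⟨_, ⟨V, hV, rfl⟩, hfV, -⟩ :=
      Y.isBasis_affineOpens.exists_subset_of_mem_open (Set.mem_univ (f x)) isOpen_univ
    obtain ⟨_, ⟨W, hW, rfl⟩, hxW, e⟩ :=
      X.isBasis_affineOpens.exists_subset_of_mem_open (show x ∈ (f ⁻¹ᵁ V : Set X) from hfV)
        (f ⁻¹ᵁ V).isOpen
    haveI : IsNoetherianRing Γ(Y, V) := IsLocallyNoetherian.component_noetherian ⟨V, hV⟩
    have hfp : (f.appLE V W e).hom.FinitePresentation :=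
      RingHom.FinitePresentation.of_finiteType.mp (f.finiteType_appLE hV hW e)
    have hiso := IsAffineOpen.arrowStalkMapIso f V hV W hW e hxW
    have h1 : RingHom.toMorphismProperty RingHom.Flat (f.stalkMap x) := hfl
    have h2 : RingHom.toMorphismProperty RingHom.FormallyUnramified (f.stalkMap x) := hun
    haveI := RingHom.toMorphismProperty_respectsIso_iff.mp RingHom.Flat.respectsIso
    haveI := RingHom.toMorphismProperty_respectsIso_iff.mp RingHom.FormallyUnramified.respectsIso
    rw [(RingHom.toMorphismProperty RingHom.Flat).arrow_mk_iso_iff hiso] at h1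
    rw [(RingHom.toMorphismProperty RingHom.FormallyUnramified).arrow_mk_iso_iff hiso] at h2
    obtain ⟨g, hg, het⟩ := exists_etale_away (f.appLE V W e).hom hfp _ _
      (congrArg PrimeSpectrum.asIdeal (IsAffineOpen.comap_primeIdealOf_appLE V hV W hW e hxW)).symm h1 h2
    have hxg : x ∈ X.basicOpen g := by
      rw [← hW.fromSpec_image_basicOpen g]
      exact ⟨hW.primeIdealOf ⟨x, hxW⟩, hg, hW.fromSpec_primeIdealOf ⟨x, hxW⟩⟩
    refine ⟨X.basicOpen g, hxg, ?_⟩
    have hU := hW.basicOpen g
    have e' : X.basicOpen g ≤ f ⁻¹ᵁ V := (X.basicOpen_le g).trans e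
    haveI := hW.isLocalization_basicOpen g
    have het' : (f.appLE V (X.basicOpen g) e').hom.Etale := by
      rw [← f.appLE_map e (homOfLE (X.basicOpen_le g)).op, CommRingCat.hom_comp]
      have hcomp : (X.presheaf.map (homOfLE (X.basicOpen_le g)).op).hom =
          (IsLocalization.algEquiv (Submonoid.powers g) (Localization.Away g)
            Γ(X, X.basicOpen g)).toRingEquiv.toRingHom.comp
          (algebraMap Γ(X, W) (Localization.Away g)) := by
        ext z
        exact ((IsLocalization.algEquiv (Submonoid.powers g) (Localization.Away g)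
            Γ(X, X.basicOpen g)).commutes z).symm
      rw [hcomp, RingHom.comp_assoc]
      exact RingHom.Etale.respectsIso.1 _ _ het
    haveI : Etale (Spec.map (f.appLE V (X.basicOpen g) e')) :=
      (HasRingHomProperty.Spec_iff (P := @Etale)).mpr het'
    rw [← hU.isoSpec_hom_fromSpec, Category.assoc, ← hV.SpecMap_appLE_fromSpec f hU e']
    infer_instance

end Groth.Agent.S9566
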