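import Groth.Statements.S4573
import Groth.Agent.S4571
import Groth.Agent.PP16Lib.GeomReg
import Groth.Agent.RegularSerre.Localization
import Mathlib.FieldTheory.KummerPolynomial
import Mathlib.FieldTheory.IsAlgClosed.AlgebraicClosure
-- import your own Groth.Agent.* helpers here

set_option autoImplicit false
universe u
open TensorProduct IsLocalRing
open EGA41

namespace Groth.Agent.S4573

section adjoin

open Polynomial

/-- Adjoining a `p`-th root commutes with tensoring. -/
theorem exists_equiv_adjoinRoot {k A L : Type u} [Field k] [CommRing A] [Algebra k A] [Field L] [Algebra k L]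
    (p : ℕ) (x₀ : k) :
    Nonempty ((AdjoinRoot (X ^ p - C (algebraMap k L x₀)) ⊗[k] A) ≃+*
      AdjoinRoot (X ^ p - C (algebraMap k (L ⊗[k] A) x₀))) := by
  let f := X ^ p - C (algebraMap k L x₀)
  let g := X ^ p - C (algebraMap k (L ⊗[k] A) x₀)
  let ρ : L →+* AdjoinRoot g := (AdjoinRoot.of g).comp Algebra.TensorProduct.includeLeftRingHom
  have hρ : f.eval₂ ρ (AdjoinRoot.root g) = 0 := by
    have h := AdjoinRoot.eval₂_root g
    rw [eval₂_sub, eval₂_pow, eval₂_X, eval₂_C] at h ⊢
    exact h
  let f1 : AdjoinRoot f →ₐ[k] AdjoinRoot g :=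
    { AdjoinRoot.lift ρ (AdjoinRoot.root g) hρ with
      commutes' := fun r => by
        show AdjoinRoot.lift ρ (AdjoinRoot.root g) hρ (algebraMap k (AdjoinRoot f) r) = _
        rw [IsScalarTower.algebraMap_apply k L (AdjoinRoot f), AdjoinRoot.algebraMap_eq, AdjoinRoot.lift_of,
          IsScalarTower.algebraMap_apply k (L ⊗[k] A) (AdjoinRoot g), AdjoinRoot.algebraMap_eq]
        rfl }
  let f2 : A →ₐ[k] AdjoinRoot g :=
    (IsScalarTower.toAlgHom k (L ⊗[k] A) (AdjoinRoot g)).comp Algebra.TensorProduct.includeRight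
  let fwd : AdjoinRoot f ⊗[k] A →ₐ[k] AdjoinRoot g := Algebra.TensorProduct.lift f1 f2 fun _ _ => Commute.all _ _
  let T : L ⊗[k] A →ₐ[k] AdjoinRoot f ⊗[k] A :=
    Algebra.TensorProduct.map (IsScalarTower.toAlgHom k L (AdjoinRoot f)) (AlgHom.id k A)
  have hT : g.eval₂ T.toRingHom ((AdjoinRoot.root f) ⊗ₜ[k] (1 : A)) = 0 := by
    rw [eval₂_sub, eval₂_pow, eval₂_X, eval₂_C, sub_eq_zero, Algebra.TensorProduct.tmul_pow, one_pow]
    show _ = T (algebraMap k (L ⊗[k] A) x₀)
    rw [AlgHom.commutes, Algebra.TensorProduct.algebraMap_apply, IsScalarTower.algebraMap_apply k L (AdjoinRoot f),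
      AdjoinRoot.algebraMap_eq]
    congr 1
    have h := AdjoinRoot.eval₂_root f
    rwa [eval₂_sub, eval₂_pow, eval₂_X, eval₂_C, sub_eq_zero] at h
  let bwd : AdjoinRoot g →+* AdjoinRoot f ⊗[k] A := AdjoinRoot.lift T.toRingHom _ hT
  have h1 : ∀ z, fwd (bwd z) = z := fun z => by
    induction z using AdjoinRoot.induction_on with
    | ih q =>
      induction q using Polynomial.induction_on' with
      | add a b ha hb => simp only [map_add, ha, hb]
      | monomial n c =>
        rw [← C_mul_X_pow_eq_monomial, map_mul (AdjoinRoot.mk _), map_pow (AdjoinRoot.mk _), AdjoinRoot.mk_X, AdjoinRoot.mk_C, map_mul, map_pow, map_mul,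
          map_pow, AdjoinRoot.lift_root, AdjoinRoot.lift_of]
        congr 1
        · induction c using TensorProduct.induction_on with
          | zero => simp
          | add a b ha hb => simp only [map_add, ha, hb]
          | tmul c a =>
            show f1 (algebraMap L (AdjoinRoot f) c) * f2 a = _
            show AdjoinRoot.lift ρ (AdjoinRoot.root g) hρ (algebraMap L (AdjoinRoot f) c) * f2 a = _
            rw [AdjoinRoot.algebraMap_eq, AdjoinRoot.lift_of]
            show AdjoinRoot.of g (c ⊗ₜ 1) * AdjoinRoot.of g (1 ⊗ₜ a) = _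
            rw [← map_mul, Algebra.TensorProduct.tmul_mul_tmul, mul_one, one_mul]
        · congr 1
          show f1 (AdjoinRoot.root f) * f2 1 = _
          rw [map_one f2, mul_one]
          exact AdjoinRoot.lift_root hρ
  have h2 : ∀ z, bwd (fwd z) = z := fun z => by
    induction z using TensorProduct.induction_on with
    | zero => simp
    | add a b ha hb => simp only [map_add, ha, hb]
    | tmul c a =>
      induction c using AdjoinRoot.induction_on with
      | ih q =>
        induction q using Polynomial.induction_on' with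
        | add a b ha hb => simp only [map_add, TensorProduct.add_tmul, ha, hb]
        | monomial n c =>
          rw [← C_mul_X_pow_eq_monomial, map_mul, map_pow, AdjoinRoot.mk_X, AdjoinRoot.mk_C]
          show bwd (f1 (AdjoinRoot.of f c * AdjoinRoot.root f ^ n) * f2 a) = _
          simp only [map_mul, map_pow, show f1 (AdjoinRoot.root f) = AdjoinRoot.root g from AdjoinRoot.lift_root hρ,
            show f1 (AdjoinRoot.of f c) = AdjoinRoot.of g (c ⊗ₜ 1) from AdjoinRoot.lift_of hρ,
            show f2 a = AdjoinRoot.of g (1 ⊗ₜ a) from rfl]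
          simp only [bwd, map_mul, map_pow, AdjoinRoot.lift_of, AdjoinRoot.lift_root]
          simp [T, Algebra.TensorProduct.tmul_pow, AdjoinRoot.algebraMap_eq]
  exact ⟨RingEquiv.ofRingHom fwd.toRingHom bwd (RingHom.ext h1) (RingHom.ext h2)⟩

end adjoin

theorem pow_prime_eq {k : Type u} [Field k] (p : ℕ) [Fact p.Prime] [CharP k p] (r : (⊥ : Subfield k)) :
    r ^ p = r := by
  let S : Subfield k :=
    { carrier := {x | x ^ p = x}
      mul_mem' := fun {a b} ha hb => by
        show (a * b) ^ p = a * b
        rw [mul_pow, show a ^ p = a from ha, show b ^ p = b from hb]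
      one_mem' := one_pow p
      add_mem' := fun {a b} ha hb => by
        show (a + b) ^ p = a + b
        rw [add_pow_char, show a ^ p = a from ha, show b ^ p = b from hb]
      zero_mem' := zero_pow (Fact.out : p.Prime).ne_zero
      neg_mem' := fun {a} ha => by
        show (-a) ^ p = -a
        rw [← zero_sub, sub_pow_char, zero_pow (Fact.out : p.Prime).ne_zero, show a ^ p = a from ha]
      inv_mem' := fun a ha => by
        show a⁻¹ ^ p = a⁻¹
        rw [inv_pow, show a ^ p = a from ha] }
  exact Subtype.ext (by simpa [S] using (bot_le : (⊥ : Subfield k) ≤ S) r.2)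

open Polynomial in
/-- If the base changes to `L` and to `L(x₀^(1/p))` are regular and the `x_j` are `p`-th powers in `L`, then the
differential of `x₀` is not a combination of those of the `x_j` in the fibre. -/
theorem not_mem_span_of_regular {k A : Type u} [Field k] (p : ℕ) [Fact p.Prime] [CharP k p] [CommRing A]
    [IsLocalRing A] [IsNoetherianRing A] [Algebra k A]
    (h : ∀ (k' : Type u) [Field k'] [Algebra k k'], Module.Finite k k' →
        (∀ x : k', x ^ p ∈ (algebraMap k k').range) → IsRegularRing (k' ⊗[k] A))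
    {L : Type u} [Field L] [Algebra k L] [Module.Finite k L] (hkL : ∀ z : L, z ^ p ∈ (algebraMap k L).range)
    (x₀ : k) (hnot : ∀ z : L, z ^ p ≠ algebraMap k L x₀) {ι : Type u} (t : Finset ι) (x : ι → k)
    (hroot : ∀ j ∈ t, ∃ z : L, z ^ p = algebraMap k L (x j)) (l : ι →₀ A ⧸ maximalIdeal A)
    (hl : l ∈ Finsupp.supported (A ⧸ maximalIdeal A) (A ⧸ maximalIdeal A) (t : Set ι))
    (hsum : Finsupp.linearCombination (A ⧸ maximalIdeal A) (fun j => (1 : A ⧸ maximalIdeal A) ⊗ₜ[A]
        KaehlerDifferential.D (⊥ : Subfield k) A (algebraMap k A (x j))) l =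
      (1 : A ⧸ maximalIdeal A) ⊗ₜ[A] KaehlerDifferential.D (⊥ : Subfield k) A (algebraMap k A x₀)) : False := by
  rw [Finsupp.mem_supported] at hl
  letI : Field (A ⧸ maximalIdeal A) := Ideal.Quotient.field _
  -- the two regular base changes
  haveI := h L inferInstance hkL
  haveI := PP16Lib.isLocalRing_tensor (k' := L) (A := A) p hkL
  haveI := IsRegularLocalRing.of_isRegularRing_of_isLocalRing (L ⊗[k] A)
  have hirr : Irreducible (X ^ p - C (algebraMap k L x₀)) :=
    X_pow_sub_C_irreducible_of_prime (Fact.out : p.Prime) hnot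
  haveI := Fact.mk hirr
  haveI : Module.Finite L (AdjoinRoot (X ^ p - C (algebraMap k L x₀))) :=
    (monic_X_pow_sub_C _ (Fact.out : p.Prime).ne_zero).finite_adjoinRoot
  have hkL' : ∀ z : AdjoinRoot (X ^ p - C (algebraMap k L x₀)),
      z ^ p ∈ (algebraMap k (AdjoinRoot (X ^ p - C (algebraMap k L x₀)))).range := fun z => by
    haveI : CharP L p := charP_of_injective_algebraMap (algebraMap k L).injective p
    haveI : CharP (AdjoinRoot (X ^ p - C (algebraMap k L x₀))) p :=
      charP_of_injective_algebraMap (algebraMap k (AdjoinRoot (X ^ p - C (algebraMap k L x₀)))).injective p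
    induction z using AdjoinRoot.induction_on with
    | ih q =>
      induction q using Polynomial.induction_on' with
      | add a b ha hb => rw [map_add, add_pow_char]; exact add_mem ha hb
      | monomial n c =>
        obtain ⟨s, hs⟩ := hkL c
        have hr := AdjoinRoot.eval₂_root (X ^ p - C (algebraMap k L x₀))
        rw [eval₂_sub, eval₂_pow, eval₂_X, eval₂_C, sub_eq_zero] at hr
        refine ⟨s * x₀ ^ n, ?_⟩
        rw [← C_mul_X_pow_eq_monomial, map_mul (AdjoinRoot.mk _), map_pow (AdjoinRoot.mk _), AdjoinRoot.mk_X, AdjoinRoot.mk_C, map_mul,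
          mul_pow, ← pow_mul, mul_comm n, pow_mul, hr, ← map_pow (AdjoinRoot.of (X ^ p - C (algebraMap k L x₀))) c, ← hs,
          ← AdjoinRoot.algebraMap_eq, ← IsScalarTower.algebraMap_apply, ← IsScalarTower.algebraMap_apply, map_pow]
  have hreg2 := h (AdjoinRoot (X ^ p - C (algebraMap k L x₀)))
    (Module.Finite.trans L _) hkL'
  obtain ⟨eq⟩ := exists_equiv_adjoinRoot (A := A) (L := L) p x₀
  have hreg3 := IsRegularRing.of_ringEquiv eq
  haveI : CharP (L ⊗[k] A) p := PP16Lib.charP_tensor p
  letI : Field ((L ⊗[k] A) ⧸ maximalIdeal (L ⊗[k] A)) := Ideal.Quotient.field _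
  haveI := S4571.formallySmooth_of_prime (k := k)
    (K := (L ⊗[k] A) ⧸ maximalIdeal (L ⊗[k] A))
  refine PP16Lib.not_regular_adjoinRoot (F := (⊥ : Subfield k)) p (pow_prime_eq p) _ ?_ hreg3
  -- the differential of `x_i` vanishes in the fibre
  letI : Algebra A (L ⊗[k] A) :=
    (Algebra.TensorProduct.includeRight : A →ₐ[k] L ⊗[k] A).toRingHom.toAlgebra
  haveI := IsScalarTower.of_algebraMap_eq (R := (⊥ : Subfield k)) (S := A) (A := L ⊗[k] A) fun r =>
    (Algebra.TensorProduct.includeRight.commutes (r : k)).symm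
  let Q'' := (L ⊗[k] A) ⧸ maximalIdeal (L ⊗[k] A)
  let g : KaehlerDifferential (⊥ : Subfield k) A →ₗ[A]
      Q'' ⊗[L ⊗[k] A] KaehlerDifferential (⊥ : Subfield k) (L ⊗[k] A) :=
    ((TensorProduct.mk _ Q'' _ 1).restrictScalars A).comp
      (KaehlerDifferential.map (⊥ : Subfield k) (⊥ : Subfield k) A (L ⊗[k] A))
  let G : (A ⧸ maximalIdeal A) ⊗[A] KaehlerDifferential (⊥ : Subfield k) A →ₗ[A]
      Q'' ⊗[L ⊗[k] A] KaehlerDifferential (⊥ : Subfield k) (L ⊗[k] A) :=
    TensorProduct.lift (Submodule.liftQ (maximalIdeal A) (LinearMap.toSpanSingleton A _ g) fun a ha => by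
      refine LinearMap.ext fun w => ?_
      show a • g w = 0
      rw [← algebraMap_smul (L ⊗[k] A) a (g w), ← algebraMap_smul Q'' (algebraMap A _ a) (g w),
        show algebraMap A (L ⊗[k] A) a = Algebra.TensorProduct.includeRight a from rfl,
        Ideal.Quotient.algebraMap_eq,
        Ideal.Quotient.eq_zero_iff_mem.mpr (PP16Lib.map_mem_maximalIdeal p hkL ha), zero_smul])
  have hG : ∀ y : k, G ((1 : A ⧸ maximalIdeal A) ⊗ₜ[A] KaehlerDifferential.D (⊥ : Subfield k) A (algebraMap k A y)) =
      (1 : Q'') ⊗ₜ KaehlerDifferential.D (⊥ : Subfield k) (L ⊗[k] A) (algebraMap k (L ⊗[k] A) y) := fun y => by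
    show (1 : A) • g (KaehlerDifferential.D (⊥ : Subfield k) A (algebraMap k A y)) = _
    rw [one_smul, LinearMap.comp_apply, LinearMap.restrictScalars_apply, TensorProduct.mk_apply,
      KaehlerDifferential.map_D]
    exact congrArg (fun z => (1 : Q'') ⊗ₜ KaehlerDifferential.D (⊥ : Subfield k) (L ⊗[k] A) z)
      (Algebra.TensorProduct.includeRight.commutes y)
  have hzero : ∀ j ∈ l.support, G ((1 : A ⧸ maximalIdeal A) ⊗ₜ[A]
      KaehlerDifferential.D (⊥ : Subfield k) A (algebraMap k A (x j))) = 0 := fun j hj => by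
    obtain ⟨zj, hzj⟩ := hroot j (hl hj)
    have e : algebraMap k (L ⊗[k] A) (x j) = (zj ⊗ₜ[k] (1 : A)) ^ p := by
      rw [Algebra.TensorProduct.tmul_pow, one_pow, Algebra.TensorProduct.algebraMap_apply, hzj]
    rw [hG, e, Derivation.leibniz_pow, ← Nat.cast_smul_eq_nsmul (L ⊗[k] A),
      CharP.cast_eq_zero, zero_smul, TensorProduct.tmul_zero]
  rw [← hG, ← hsum, Finsupp.linearCombination_apply, Finsupp.sum, map_sum]
  refine Finset.sum_eq_zero fun j hj => ?_
  obtain ⟨a, ha⟩ := Ideal.Quotient.mk_surjective (l j)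
  rw [← ha, ← Ideal.Quotient.algebraMap_eq, algebraMap_smul, map_smul, hzero j hj, smul_zero]

open Polynomial in
/-- Regularity of the purely inseparable base changes of exponent one forces injectivity on differentials. -/
theorem injective_of_regular {k A : Type u} [Field k] (p : ℕ) [Fact p.Prime] [CharP k p] [CommRing A]
    [IsLocalRing A] [IsNoetherianRing A] [Algebra k A]
    (h : ∀ (k' : Type u) [Field k'] [Algebra k k'], Module.Finite k k' →
        (∀ x : k', x ^ p ∈ (algebraMap k k').range) → IsRegularRing (k' ⊗[k] A)) :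
    Function.Injective ((KaehlerDifferential.mapBaseChange (⊥ : Subfield k) k A).lTensor
      (A ⧸ maximalIdeal A)) := by
  classical
  letI : Field (A ⧸ maximalIdeal A) := Ideal.Quotient.field _
  obtain ⟨B, hB⟩ := EGA41Lib.exists_isPBasis (p := p) (k := (⊥ : Subfield k)) (K := k)
  obtain ⟨b, hb⟩ := EGA41Lib.exists_basis_kaehler hB
  let v : B → (A ⧸ maximalIdeal A) ⊗[A] KaehlerDifferential (⊥ : Subfield k) A := fun i =>
    (1 : A ⧸ maximalIdeal A) ⊗ₜ[A] KaehlerDifferential.D (⊥ : Subfield k) A (algebraMap k A (i : k))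
  have hli : LinearIndependent (A ⧸ maximalIdeal A) v := by
    rw [linearIndependent_iff_notMem_span]
    intro i hmem
    obtain ⟨l, hl, hsum⟩ := (Finsupp.mem_span_image_iff_linearCombination _).mp hmem
    -- adjoin the `p`-th roots of the other elements involved
    choose ζ hζ using fun j : B =>
      IsAlgClosed.exists_pow_nat_eq (algebraMap k (AlgebraicClosure k) (j : k)) (Fact.out : p.Prime).pos
    let L : IntermediateField k (AlgebraicClosure k) := IntermediateField.adjoin k (ζ '' (l.support : Set B))
    haveI : Finite (ζ '' (l.support : Set B)) := (l.support.finite_toSet.image ζ).to_subtype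
    haveI hfin : Module.Finite k L := IntermediateField.finiteDimensional_adjoin fun x _ =>
      Algebra.IsIntegral.isIntegral x
    let S : Subring k := Subring.closure
      ((EGA41Lib.pSub p (⊥ : Subfield k) k : Set k) ∪ (fun j : B => (j : k)) '' {j | j ≠ i})
    have hS : ∀ y : k, y ^ p ∈ S := fun y => Subring.subset_closure (Or.inl (EGA41Lib.pow_mem_pSub p _ y))
    haveI : CharP (AlgebraicClosure k) p := charP_of_injective_algebraMap (algebraMap k (AlgebraicClosure k)).injective p
    have hLp : ∀ z ∈ L, ∃ s ∈ S, z ^ p = algebraMap k (AlgebraicClosure k) s := fun z hz => by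
      induction hz using IntermediateField.adjoin_induction with
      | mem z hz =>
        obtain ⟨j, hj, rfl⟩ := hz
        exact ⟨j, Subring.subset_closure (Or.inr ⟨j, fun e => ((Finsupp.mem_supported _ l).mp hl hj).2 e, rfl⟩), hζ j⟩
      | algebraMap y => exact ⟨y ^ p, hS y, (map_pow _ _ _).symm⟩
      | add x y _ _ hx hy =>
        obtain ⟨s, hs, hx⟩ := hx
        obtain ⟨t, ht, hy⟩ := hy
        exact ⟨s + t, add_mem hs ht, by rw [add_pow_char, hx, hy, map_add]⟩
      | inv x _ hx =>
        obtain ⟨s, hs, hx⟩ := hx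
        exact ⟨s⁻¹, EGA41Lib.inv_mem_of_pow hS hs, by rw [inv_pow, hx, map_inv₀]⟩
      | mul x y _ _ hx hy =>
        obtain ⟨s, hs, hx⟩ := hx
        obtain ⟨t, ht, hy⟩ := hy
        exact ⟨s * t, mul_mem hs ht, by rw [mul_pow, hx, hy, map_mul]⟩
    have hkL : ∀ z : L, z ^ p ∈ (algebraMap k L).range := fun z => by
      obtain ⟨s, -, hs⟩ := hLp z z.2
      exact ⟨s, Subtype.ext hs.symm⟩
    have hnot : ∀ z : L, z ^ p ≠ algebraMap k L (i : k) := fun z hz => by
      obtain ⟨s, hs, hzs⟩ := hLp z z.2
      have e : s = (i : k) := (algebraMap k (AlgebraicClosure k)).injective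
        (hzs.symm.trans (congrArg Subtype.val hz))
      exact EGA41Lib.Ind.notMem_closure (EGA41Lib.pow_mem_pSub p _) hB.1 i (e ▸ hs)
    refine not_mem_span_of_regular p h (L := L) hkL (i : k) hnot l.support (fun j : B => (j : k)) (fun j hj => ?_) l
      (Finsupp.mem_supported _ l |>.mpr subset_rfl) hsum
    exact ⟨⟨ζ j, IntermediateField.subset_adjoin k _ ⟨j, hj, rfl⟩⟩, Subtype.ext (hζ j)⟩
  let e := Algebra.TensorProduct.basis (A ⧸ maximalIdeal A) (Algebra.TensorProduct.basis A b)
  let f := (KaehlerDifferential.mapBaseChange (⊥ : Subfield k) k A).baseChange (A ⧸ maximalIdeal A)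
  show Function.Injective f
  rw [injective_iff_map_eq_zero]
  intro y hy
  rw [← e.linearCombination_repr y, Finsupp.linearCombination_apply, map_finsuppSum] at hy
  have hfe : ∀ i, f (e i) = v i := fun i => by
    simp [f, e, v, hb, KaehlerDifferential.map_D]
  have h0 : Finsupp.linearCombination (A ⧸ maximalIdeal A) v (e.repr y) = 0 := by
    rw [Finsupp.linearCombination_apply, ← hy]
    exact Finset.sum_congr rfl fun i _ => by
      show _ • v i = f (_ • e i)
      rw [map_smul, hfe]
  rw [linearIndependent_iff] at hli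
  exact e.repr.map_eq_zero_iff.mp (hli _ h0)

/-- Let k be a field of characteristic exponent p and A a Noetherian local k-algebra. Then A is formally
smooth over k for the adic topology of its maximal ideal if and only if, for every finite extension
k' of k with k'^p ⊆ k, the ring k' ⊗_k A is regular. -/
theorem result {k A : Type u} [Field k] (p : ℕ)
    [ExpChar k p] [CommRing A] [IsLocalRing A] [IsNoetherianRing A] [Algebra k A] :
    CAlgX.IsAdicFormallySmooth k A (maximalIdeal A) ↔
      ∀ (k' : Type u) [Field k'] [Algebra k k'], Module.Finite k k' →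
        (∀ x : k', x ^ p ∈ (algebraMap k k').range) → IsRegularRing (k' ⊗[k] A) := by
  constructor
  · intro h k' _ _ _ hk
    cases ‹ExpChar k p› with
    | zero =>
      have hb : Function.Bijective (Algebra.ofId k k') := ⟨(algebraMap k k').injective, fun x => by
        obtain ⟨y, hy⟩ := hk x
        exact ⟨y, by rw [pow_one] at hy; exact hy⟩⟩
      haveI : IsRegularLocalRing A := PP16Lib.isRegularLocalRing_of_symGrBijective (S4571.result.mp h).1
      haveI := RegularSerre.isRegularRing_of_isRegularLocalRing A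
      exact IsRegularRing.of_ringEquiv
        (((Algebra.TensorProduct.congr (AlgEquiv.ofBijective _ hb) (AlgEquiv.refl : A ≃ₐ[k] A)).symm.trans
          (Algebra.TensorProduct.lid k A)).symm.toRingEquiv)
    | prime hp =>
      haveI : Fact p.Prime := ⟨hp⟩
      haveI := PP16Lib.isLocalRing_tensor (k' := k') (A := A) p hk
      haveI := PP16Lib.isNoetherianRing_tensor (k := k) (k' := k') (A := A)
      haveI : IsRegularLocalRing (k' ⊗[k] A) := PP16Lib.isRegularLocalRing_of_symGrBijective
        (S4571.result.mp (PP16Lib.adicSmooth_tensor h _ fun a ha => PP16Lib.map_mem_maximalIdeal p hk ha)).1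
      exact RegularSerre.isRegularRing_of_isRegularLocalRing _
  · intro h
    haveI : IsRegularRing (k ⊗[k] A) := h k inferInstance fun x => ⟨x ^ p, rfl⟩
    haveI := IsRegularRing.of_ringEquiv (Algebra.TensorProduct.lid k A).toRingEquiv
    haveI := IsRegularLocalRing.of_isRegularRing_of_isLocalRing A
    have hG := PP16Lib.symGrBijective_of_isRegularLocalRing A
    letI : Field (A ⧸ maximalIdeal A) := Ideal.Quotient.field _
    haveI : Module.Projective (A ⧸ maximalIdeal A) (maximalIdeal A).Cotangent := Module.Projective.of_free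
    cases ‹ExpChar k p› with
    | zero =>
      haveI : Algebra.FormallySmooth k (A ⧸ maximalIdeal A) := EGA41Lib.formallySmooth_of_charZero
      exact PP16Lib.adicSmooth_of_symGrBijective inferInstance hG
    | prime hp =>
      haveI : Fact p.Prime := ⟨hp⟩
      haveI := S4571.formallySmooth_of_prime (k := k) (K := A ⧸ maximalIdeal A)
      exact PP16Lib.adicSmooth_relative (PP16Lib.adicSmooth_of_symGrBijective (A := (⊥ : Subfield k)) inferInstance hG)
        (injective_of_regular p h) Module.Projective.of_free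


end Groth.Agent.S4573
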