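import Groth.Statements.S15544
import Groth.Agent.ZarConn.Global
import Groth.Agent.S2422

set_option autoImplicit false
open CategoryTheory AlgebraicGeometry
universe u
open Coherent

namespace Groth.Agent.S15544

/-- Let X and Y be integral schemes, Y locally Noetherian with all local rings integrally closed, and f
: X ⟶ Y a proper birational morphism (the generic point of X maps to that of Y and the stalk map
there is an isomorphism). Then every fibre of f is connected and nonempty. (The published statement
takes X and Y Noetherian; over a locally Noetherian Y this is the same assertion fibre by fibre.) -/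
theorem result {X Y : Scheme.{u}} [IsIntegral X]
    [IsIntegral Y] [IsLocallyNoetherian Y] (hY : Pi1.IsNormalScheme Y) (f : X ⟶ Y) [IsProper f]
    (hgen : f.base (genericPoint X) = genericPoint Y) (hbir : IsIso (f.stalkMap (genericPoint X)))
    (y : Y) : ConnectedSpace ↥(f.fiber y) := by
  haveI : IsLocallyNoetherian X := LocallyOfFiniteType.isLocallyNoetherian f
  have h : f.base (genericPoint X) ⤳ genericPoint Y := by rw [hgen]
  have hψ : Function.Surjective (CohIII.stalkToFunctionField f (genericPoint Y) h) := by
    intro x
    haveI := hbir
    obtain ⟨z, hz⟩ := (ConcreteCategory.bijective_of_isIso (f.stalkMap (genericPoint X))).2 x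
    have h' : genericPoint Y ⤳ f.base (genericPoint X) := by rw [hgen]
    refine ⟨(Y.presheaf.stalkSpecializes h').hom z, ?_⟩
    show (f.stalkMap (genericPoint X)).hom ((Y.presheaf.stalkSpecializes h).hom
      ((Y.presheaf.stalkSpecializes h').hom z)) = x
    refine Eq.trans (congrArg (f.stalkMap (genericPoint X)).hom ?_) hz
    rw [← CommRingCat.comp_apply, TopCat.Presheaf.stalkSpecializes_comp, TopCat.Presheaf.stalkSpecializes_refl]
    rfl
  refine Groth.Agent.ZarConn.connectedSpace_fiber f (fun U => ?_) y
  exact (ConcreteCategory.isIso_iff_bijective (f.app U)).mp
    (Groth.Agent.S2422.result hY f h (fun x _ => hψ x) U)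

end Groth.Agent.S15544
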