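import Groth.Statements.S1570
import Groth.Agent.InvExtend.CartierCriterion
-- import your own Groth.Agent.* helpers here

set_option autoImplicit false
universe u
open CategoryTheory CategoryTheory.Limits AlgebraicGeometry
open Divisors

namespace Groth.Agent.S1570

open TopologicalSpace Groth.Agent.InvExtend

/-- Let X be locally Noetherian and D a closed subscheme with ideal sheaf I. If for every point x of D
the ideal generated by I in the local ring at x is generated by one nonzerodivisor, then D is an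
effective Cartier divisor. -/
theorem result (X : Scheme.{u}) [IsLocallyNoetherian X]
    (D : X.IdealSheafData)
    (h : ∀ x ∈ D.support, ∀ (U : X.affineOpens) (hx : x ∈ (U : X.Opens)),
      ∃ g : X.presheaf.stalk x, g ∈ nonZeroDivisors (X.presheaf.stalk x) ∧
        (D.ideal U).map (X.presheaf.germ U x hx).hom = Ideal.span {g}) :
    BlowUp.IsEffCartierIdeal D := by
  intro x
  obtain ⟨_, ⟨W₀, (hW : IsAffineOpen W₀), rfl⟩, (hxW : x ∈ W₀), -⟩ :=
    X.isBasis_affineOpens.exists_subset_of_mem_open (Set.mem_univ x) isOpen_univ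
  let W : X.affineOpens := ⟨W₀, hW⟩
  haveI : IsNoetherianRing Γ(X, W₀) := IsLocallyNoetherian.component_noetherian (X := X) W
  let p := (hW.primeIdealOf ⟨x, hxW⟩).asIdeal
  letI := TopCat.Presheaf.algebra_section_stalk X.presheaf (⟨x, hxW⟩ : W₀)
  haveI hloc := hW.isLocalization_stalk ⟨x, hxW⟩
  have key : ∃ d : X.presheaf.stalk x, d ∈ nonZeroDivisors (X.presheaf.stalk x) ∧
      (D.ideal W).map (algebraMap Γ(X, W₀) (X.presheaf.stalk x)) = Ideal.span {d} := by
    by_cases hx : x ∈ D.support
    · exact h x hx W hxW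
    · refine ⟨1, one_mem _, ?_⟩
      rw [Ideal.span_singleton_one]
      have hnle : ¬ D.ideal W ≤ p := by
        intro hle
        apply hx
        have h2 := (Set.ext_iff.mp (D.coe_support_inter W) x)
        rw [Set.mem_inter_iff, Set.mem_inter_iff, Scheme.mem_zeroLocus_iff] at h2
        refine (h2.mpr ⟨fun f hf => ?_, hxW⟩).1
        rw [mem_basicOpen_iff hW hxW f, not_not]
        exact hle hf
      obtain ⟨f, hf, hfp⟩ := SetLike.not_le_iff_exists.mp hnle
      exact Ideal.eq_top_of_isUnit_mem _ (Ideal.mem_map_of_mem _ hf)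
        (IsLocalization.map_units _ (⟨f, hfp⟩ : p.primeCompl))
  obtain ⟨d, hd, hId⟩ := key
  obtain ⟨f, hfp, a, -, hloc'⟩ := exists_span_singleton_near p _ (D.ideal W) d hd hId
  refine ⟨⟨X.basicOpen f, hW.basicOpen f⟩, (mem_basicOpen_iff hW hxW f).mpr hfp, ?_⟩
  letI := (X.presheaf.map (homOfLE (X.basicOpen_le f)).op).hom.toAlgebra
  haveI := hW.isLocalization_basicOpen f
  obtain ⟨h1, h2⟩ := hloc' Γ(X, X.basicOpen f)
  refine ⟨_, h1, ?_⟩
  rw [← h2]
  exact (D.map_ideal' (U := ⟨X.basicOpen f, hW.basicOpen f⟩) (V := W) (homOfLE (X.basicOpen_le f)).op).symm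

end Groth.Agent.S1570
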