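import Groth.Statements.S8848
import Groth.Agent.FlatDescent.LocalFP.Main
import Groth.Agent.FlatDescent.Scheme
import Groth.Agent.FlatDescent.Global
import Groth.Agent.Div38.Glue
import Mathlib.RingTheory.TensorProduct.Quotient

set_option autoImplicit false
universe u
open CategoryTheory CategoryTheory.Limits AlgebraicGeometry TopologicalSpace
open SDiv

namespace Groth.Agent.S8848

open TensorProduct Groth.FlatDescent Groth.Agent.DivCodimTwo

/-- The closed fibre criterion for a regular element with flat quotient, at a local ring. -/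
theorem regular_and_flat_at {A B : Type u} [CommRing A] [CommRing B] [Algebra A B] [Algebra.FinitePresentation A B]
    [Module.Flat A B] (Q : Ideal B) [Q.IsPrime] (L : Type u) [CommRing L] [IsLocalRing L] [Algebra B L] [Algebra A L]
    [IsScalarTower A B L] [IsLocalization.AtPrime L Q] (t : L)
    (h : ∀ a : L, t * a ∈ ((IsLocalRing.maximalIdeal L).comap (algebraMap A L)).map (algebraMap A L) →
      a ∈ ((IsLocalRing.maximalIdeal L).comap (algebraMap A L)).map (algebraMap A L)) :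
    t ∈ nonZeroDivisors L ∧ Module.Flat A (L ⧸ Ideal.span {t}) := by
  haveI : Module.Flat B L := IsLocalization.flat L Q.primeCompl
  haveI : Module.Flat A L := Module.Flat.trans A B L
  have hS : CAlgX.IsEssFinitePresentation A L :=
    ⟨B, inferInstance, inferInstance, inferInstance, inferInstance, Q.primeCompl, inferInstance, inferInstance⟩
  obtain ⟨h1, h2⟩ := LocalFP.injective_and_flat_coker hS (LinearMap.mulLeft L t) (fun a ha => by
    simp only [Ideal.smul_eq_mul, Ideal.mul_top] at ha ⊢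
    exact h a ha)
  refine ⟨?_, ?_⟩
  · rw [mem_nonZeroDivisors_iff_right]
    intro a ha
    exact (injective_iff_map_eq_zero _).mp h1 a (by rw [LinearMap.mulLeft_apply, mul_comm]; exact ha)
  · have : LinearMap.range (LinearMap.mulLeft L t) = Ideal.span {t} := by
      ext a
      rw [LinearMap.mem_range, Ideal.mem_span_singleton']
      exact ⟨fun ⟨c, hc⟩ => ⟨c, by rw [← hc, LinearMap.mulLeft_apply, mul_comm]⟩,
        fun ⟨c, hc⟩ => ⟨c, by rw [LinearMap.mulLeft_apply, mul_comm, hc]⟩⟩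
    exact Module.Flat.of_linearEquiv ((Submodule.quotEquivOfEq _ _ this).restrictScalars A).symm

/-- Flatness of a quotient from the local rings. -/
theorem flat_quotient {A B : Type u} [CommRing A] [CommRing B] [Algebra A B] (I : Ideal B)
    (h : ∀ (Q : Ideal B) [Q.IsPrime], ∃ (L : Type u) (_ : CommRing L) (_ : Algebra B L) (_ : Algebra A L)
      (_ : IsScalarTower A B L) (_ : IsLocalization.AtPrime L Q), Module.Flat A (L ⧸ I.map (algebraMap B L))) :
    Module.Flat A (B ⧸ I) := by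
  refine flat_of_flatAt (P := B) fun Q _ => ?_
  obtain ⟨L, _, _, _, _, _, hL⟩ := h Q
  let e₁ : LocalizedModule Q.primeCompl (B ⧸ I) ≃ₗ[B] Localization Q.primeCompl ⊗[B] (B ⧸ I) :=
    (LocalizedModule.equivTensorProduct Q.primeCompl (B ⧸ I)).restrictScalars B
  let e₂ : Localization Q.primeCompl ⊗[B] (B ⧸ I) ≃ₗ[B] L ⊗[B] (B ⧸ I) :=
    TensorProduct.congr (IsLocalization.algEquiv Q.primeCompl (Localization Q.primeCompl) L).toLinearEquiv
      (LinearEquiv.refl B (B ⧸ I))
  let e₃ : L ⊗[B] (B ⧸ I) ≃ₗ[B] L ⧸ I.map (algebraMap B L) :=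
    ((Algebra.TensorProduct.quotIdealMapEquivTensorQuot L I).toLinearEquiv.restrictScalars B).symm
  exact Module.Flat.of_linearEquiv ((e₁.trans (e₂.trans e₃)).restrictScalars A)

open AlgebraicGeometry CategoryTheory CategoryTheory.Limits

/-- Multiplication by a local generator is injective on the fibre. -/
theorem fibre_step {X S : Scheme.{u}} (φ : X ⟶ S)
    (𝓘 : X.IdealSheafData) (hfib : ∀ s : S, BlowUp.IsEffCartierIdeal (𝓘.comap (φ.fiberι s)))
    (U : X.affineOpens) {a : Γ(X, U.1)} (ha : 𝓘.ideal U = Ideal.span {a}) (s : S) (z : φ.fiber s) (x : X)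
    (hzx : φ.fiberι s z = x) (hx : x ∈ U.1) (b : X.presheaf.stalk x)
    (hb : X.presheaf.germ U.1 x hx a * b ∈ maxExt φ x) : b ∈ maxExt φ x := by
  subst hzx
  let ι := φ.fiberι s
  obtain ⟨W, hzW, d, hd, hdI⟩ := hfib s z
  letI := TopCat.Presheaf.algebra_section_stalk (φ.fiber s).presheaf (⟨z, hzW⟩ : W.1)
  haveI := W.2.isLocalization_stalk ⟨z, hzW⟩
  have hd' : (φ.fiber s).presheaf.germ W.1 z hzW d ∈ nonZeroDivisors ((φ.fiber s).presheaf.stalk z) :=
    IsLocalization.map_nonZeroDivisors_le (W.2.primeIdealOf ⟨z, hzW⟩).asIdeal.primeCompl _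
      (Submonoid.mem_map_of_mem _ hd)
  have h1 := gI_eq (𝓘.comap ι) W hzW
  rw [Div38.gI_comap, gI_eq 𝓘 U hx, ha, hdI, Ideal.map_span, Ideal.map_span, Ideal.map_span,
    Set.image_singleton, Set.image_singleton, Set.image_singleton] at h1
  obtain ⟨c, hc⟩ := Ideal.mem_span_singleton'.mp (h1.ge (Ideal.mem_span_singleton_self _))
  rw [← ker_stalkMap_fiberι φ s z, RingHom.mem_ker] at hb ⊢
  rw [map_mul] at hb
  refine (mem_nonZeroDivisors_iff_right.mp hd') _ ?_
  rw [← hc, mul_comm _ (c * _), mul_assoc, hb, mul_zero]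

/-- A local generator which is regular on the fibre is regular, with flat quotient. -/
theorem germ_regular_and_flat {X S : Scheme.{u}} (φ : X ⟶ S) [Flat φ] [LocallyOfFinitePresentation φ]
    (𝓘 : X.IdealSheafData) (hfib : ∀ s : S, BlowUp.IsEffCartierIdeal (𝓘.comap (φ.fiberι s)))
    {V : S.Opens} (hV : IsAffineOpen V) (U : X.affineOpens) (e : U.1 ≤ φ ⁻¹ᵁ V) {a : Γ(X, U.1)}
    (ha : 𝓘.ideal U = Ideal.span {a}) {x : X} (hx : x ∈ U.1) :
    letI := ((X.presheaf.germ U.1 x hx).hom.comp (φ.appLE V U.1 e).hom).toAlgebra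
    X.presheaf.germ U.1 x hx a ∈ nonZeroDivisors (X.presheaf.stalk x) ∧
      Module.Flat Γ(S, V) (X.presheaf.stalk x ⧸ Ideal.span {X.presheaf.germ U.1 x hx a}) := by
  letI : Algebra Γ(S, V) Γ(X, U.1) := (φ.appLE V U.1 e).hom.toAlgebra
  letI := TopCat.Presheaf.algebra_section_stalk X.presheaf (⟨x, hx⟩ : U.1)
  letI : Algebra Γ(S, V) (X.presheaf.stalk x) :=
    ((X.presheaf.germ U.1 x hx).hom.comp (φ.appLE V U.1 e).hom).toAlgebra
  haveI : IsScalarTower Γ(S, V) Γ(X, U.1) (X.presheaf.stalk x) := IsScalarTower.of_algebraMap_eq fun _ => rfl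
  haveI := U.2.isLocalization_stalk ⟨x, hx⟩
  haveI : Algebra.FinitePresentation Γ(S, V) Γ(X, U.1) :=
    HasRingHomProperty.appLE @LocallyOfFinitePresentation φ inferInstance ⟨V, hV⟩ U e
  haveI : Module.Flat Γ(S, V) Γ(X, U.1) := φ.flat_appLE hV U.2 e
  have hp : ((IsLocalRing.maximalIdeal (X.presheaf.stalk x)).comap (algebraMap Γ(S, V) (X.presheaf.stalk x))).map
      (algebraMap Γ(S, V) (X.presheaf.stalk x)) = maxExt φ x := by
    letI := TopCat.Presheaf.algebra_section_stalk S.presheaf (⟨φ x, e hx⟩ : V)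
    haveI := hV.isLocalization_stalk ⟨φ x, e hx⟩
    have hc : algebraMap Γ(S, V) (X.presheaf.stalk x) =
        (φ.stalkMap x).hom.comp (algebraMap Γ(S, V) (S.presheaf.stalk (φ x))) :=
      RingHom.ext fun r => Div38.germ_appLE e hx r
    rw [hc, ← Ideal.comap_comap, IsLocalRing.maximalIdeal_comap, ← Ideal.map_map,
      IsLocalization.map_under (hV.primeIdealOf ⟨φ x, e hx⟩).asIdeal.primeCompl]
    rfl
  refine regular_and_flat_at (A := Γ(S, V)) (U.2.primeIdealOf ⟨x, hx⟩).asIdeal _ _ fun b hb => ?_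
  rw [hp] at hb ⊢
  obtain ⟨z, hz⟩ : x ∈ Set.range (φ.fiberι (φ x)) := (φ.range_fiberι (φ x)).ge rfl
  exact fibre_step φ 𝓘 hfib U ha (φ x) z x hz hx b hb

/-- Relative effective Cartier divisors from the fibres. -/
theorem relEffCartier {X S : Scheme.{u}} (φ : X ⟶ S) [Flat φ] [LocallyOfFinitePresentation φ]
    (𝓘 : X.IdealSheafData) (hfib : ∀ s : S, BlowUp.IsEffCartierIdeal (𝓘.comap (φ.fiberι s)))
    (hZ : Curv2.IsLocPrincipal 𝓘) : BlowUp.IsEffCartierIdeal 𝓘 ∧ Flat (𝓘.subschemeι ≫ φ) := by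
  have hch : ∀ x : X, ∃ (V : S.Opens) (_ : IsAffineOpen V) (U : X.affineOpens) (_ : U.1 ≤ φ ⁻¹ᵁ V) (a : Γ(X, U.1)),
      x ∈ U.1 ∧ 𝓘.ideal U = Ideal.span {a} := by
    intro x
    obtain ⟨V, hV, hxV, -⟩ := exists_isAffineOpen_mem_and_subset (U := (⊤ : S.Opens)) (x := φ x) trivial
    by_cases hx : x ∈ 𝓘.support
    · obtain ⟨U, hxU, a, ha⟩ := hZ x hx
      obtain ⟨g, hgle, hxg⟩ := U.2.exists_basicOpen_le (V := φ ⁻¹ᵁ V) ⟨x, hxV⟩ hxU
      refine ⟨V, hV, X.affineBasicOpen g, hgle, (X.presheaf.map (homOfLE <| X.basicOpen_le g).op).hom a, hxg, ?_⟩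
      rw [← 𝓘.map_ideal_basicOpen U g, ha, Ideal.map_span, Set.image_singleton]; rfl
    · obtain ⟨U, hU, hxU, hle⟩ := exists_isAffineOpen_mem_and_subset
        (U := φ ⁻¹ᵁ V ⊓ 𝓘.support.compl) (x := x) ⟨hxV, hx⟩
      refine ⟨V, hV, ⟨U, hU⟩, hle.trans inf_le_left, 1, hxU, ?_⟩
      rw [Ideal.span_singleton_one]
      have h := ideal_le_of_gI_le ⊤ 𝓘 ⟨U, hU⟩ fun y hy => by
        rw [(gI_eq_top_iff 𝓘 y).mpr (hle hy).2]; exact le_top
      rwa [Scheme.IdealSheafData.ideal_top, Pi.top_apply, top_le_iff] at h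
  refine ⟨fun x => ?_, ?_⟩
  · obtain ⟨V, hV, U, e, a, hx, ha⟩ := hch x
    exact ⟨U, hx, a, Div38.mem_nonZeroDivisors_of_germ U fun y hy =>
      (germ_regular_and_flat φ 𝓘 hfib hV U e ha hy).1, ha⟩
  · rw [HasRingHomProperty.iff_exists_appLE (P := @Flat) (fun R S T _ _ _ _ r _ f hf => RingHom.Flat.comp (RingHom.flat_algebraMap_iff.mpr (IsLocalization.flat S (Submonoid.powers r))) hf)]
    intro z
    obtain ⟨V, hV, U, e, a, hx, ha⟩ := hch (𝓘.subschemeι z)
    refine ⟨⟨V, hV⟩, ⟨𝓘.subschemeι ⁻¹ᵁ U.1, U.2.preimage 𝓘.subschemeι⟩, hx, fun w hw => e hw, ?_⟩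
    letI : Algebra Γ(S, V) Γ(X, U.1) := (φ.appLE V U.1 e).hom.toAlgebra
    haveI : Module.Flat Γ(S, V) (Γ(X, U.1) ⧸ 𝓘.ideal U) := by
      refine flat_quotient _ fun Q _ => ?_
      let q : PrimeSpectrum Γ(X, U.1) := ⟨Q, inferInstance⟩
      let x := InvExtend.pt U.2 q
      have hxU : x ∈ U.1 := InvExtend.pt_mem U.2 q
      have hq : (U.2.primeIdealOf ⟨x, hxU⟩).asIdeal = Q :=
        congrArg PrimeSpectrum.asIdeal (InvExtend.primeIdealOf_pt U.2 q)
      letI := TopCat.Presheaf.algebra_section_stalk X.presheaf (⟨x, hxU⟩ : U.1)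
      letI : Algebra Γ(S, V) (X.presheaf.stalk x) :=
        ((X.presheaf.germ U.1 x hxU).hom.comp (φ.appLE V U.1 e).hom).toAlgebra
      have hloc := U.2.isLocalization_stalk ⟨x, hxU⟩
      simp only [hq] at hloc
      refine ⟨X.presheaf.stalk x, inferInstance, inferInstance, inferInstance,
        IsScalarTower.of_algebraMap_eq fun _ => rfl, hloc, ?_⟩
      rw [ha, Ideal.map_span, Set.image_singleton]
      exact (germ_regular_and_flat φ 𝓘 hfib hV U e ha hxU).2
    let e' : (Γ(X, U.1) ⧸ 𝓘.ideal U) ≃+* Γ(𝓘.subscheme, 𝓘.subschemeι ⁻¹ᵁ U.1) :=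
      (Ideal.quotEquivOfEq (Scheme.IdealSheafData.ker_subschemeι_app 𝓘 U).symm).trans
        (RingHom.quotientKerEquivOfSurjective (𝓘.subschemeι_app_surjective U))
    have hcomp : ((𝓘.subschemeι ≫ φ).appLE V (𝓘.subschemeι ⁻¹ᵁ U.1) (fun w hw => e hw)).hom =
        e'.toRingHom.comp (algebraMap Γ(S, V) (Γ(X, U.1) ⧸ 𝓘.ideal U)) := by
      refine RingHom.ext fun r => ?_
      change _ = (𝓘.subschemeι.app U.1).hom (φ.appLE V U.1 e r)
      rw [← CommRingCat.comp_apply, Scheme.Hom.app_eq_appLE, Scheme.Hom.appLE_comp_appLE]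
    rw [hcomp]
    exact RingHom.Flat.comp (RingHom.flat_algebraMap_iff.mpr inferInstance) (RingHom.Flat.of_bijective e'.bijective)

/-- Let φ : X ⟶ S be flat and locally of finite presentation and let 𝓘 be a quasi-coherent ideal sheaf
on X which is locally principal (generated by one section on some affine open neighbourhood of each
point of its support). If for every point s of S the inverse image ideal of 𝓘 on the
scheme-theoretic fibre X_s is the ideal sheaf of an effective Cartier divisor of X_s, then 𝓘 is the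
ideal sheaf of an effective Cartier divisor of X and its closed subscheme is flat over S (a relative
effective Cartier divisor). -/
theorem result {X S : Scheme.{u}} (φ : X ⟶ S) [Flat φ] [LocallyOfFinitePresentation φ]
    (𝓘 : X.IdealSheafData) (hZ : Curv2.IsLocPrincipal 𝓘)
    (hfib : ∀ s : ↥S, BlowUp.IsEffCartierIdeal (𝓘.comap (φ.fiberι s))) :
    BlowUp.IsEffCartierIdeal 𝓘 ∧ Flat (𝓘.subschemeι ≫ φ) := by

  exact relEffCartier φ 𝓘 hfib hZ

end Groth.Agent.S8848
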