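import Groth.Statements.S8847
import Groth.Agent.S8848
import Groth.Agent.FlatDescent.LocalFP.Sheaf
import Groth.Agent.FlatDescent.SheafBC.Rings

set_option autoImplicit false
universe u
open CategoryTheory CategoryTheory.Limits AlgebraicGeometry TopologicalSpace
open SDiv

namespace Groth.Agent.S8847

open TensorProduct Groth.FlatDescent Groth.Agent.DivCodimTwo
open AlgebraicGeometry CategoryTheory CategoryTheory.Limits

/-- The fibre generator lifts to a stalk generator. -/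
theorem exists_stalk_gen {X S : Scheme.{u}} (φ : X ⟶ S) (𝓘 : X.IdealSheafData)
    (hfib : ∀ s : S, BlowUp.IsEffCartierIdeal (𝓘.comap (φ.fiberι s))) (s : S) (z : φ.fiber s) (x : X)
    (hzx : φ.fiberι s z = x) : ∃ t ∈ gI 𝓘 x, gI 𝓘 x ≤ Ideal.span {t} ⊔ (gI 𝓘 x ⊓ maxExt φ x) := by
  subst hzx
  let ι := φ.fiberι s
  obtain ⟨W, hzW, d, hd, hdI⟩ := hfib s z
  have h1 := gI_eq (𝓘.comap ι) W hzW
  rw [Div38.gI_comap, hdI, Ideal.map_span, Set.image_singleton] at h1
  obtain ⟨t, ht, htd⟩ := (Ideal.mem_map_iff_of_surjective _ (ι.stalkMap_surjective z)).mp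
    (h1.ge (Ideal.mem_span_singleton_self _))
  refine ⟨t, ht, fun m hm => ?_⟩
  obtain ⟨c, hc⟩ := Ideal.mem_span_singleton'.mp (h1.le (Ideal.mem_map_of_mem _ hm))
  obtain ⟨c', rfl⟩ := ι.stalkMap_surjective z c
  rw [← add_sub_cancel (c' * t) m]
  refine Submodule.add_mem_sup (Ideal.mem_span_singleton'.mpr ⟨c', rfl⟩)
    ⟨sub_mem hm (Ideal.mul_mem_left _ _ ht), ?_⟩
  rw [← ker_stalkMap_fiberι φ s z]
  show (ι.stalkMap z).hom (m - c' * t) = 0
  rw [map_sub, map_mul, htd, ← hc, sub_self]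

/-- An ideal which is principal in a local ring is principal nearby. -/
theorem exists_principal {B : Type u} [CommRing B] (I : Ideal B) (hI : I.FG) (Q : Ideal B) [Q.IsPrime]
    (L : Type u) [CommRing L] [Algebra B L] [IsLocalization.AtPrime L Q] (i : B)
    (h : I.map (algebraMap B L) ≤ Ideal.span {algebraMap B L i}) :
    ∃ g, g ∉ Q ∧ ∀ b ∈ I, g * b ∈ Ideal.span {i} := by
  classical
  obtain ⟨G, rfl⟩ := hI
  have hb : ∀ b : G, ∃ g : Q.primeCompl, (g : B) * b.1 ∈ Ideal.span {i} := fun b => by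
    have h2 : algebraMap B L b.1 ∈ (Ideal.span {i}).map (algebraMap B L) := by
      rw [Ideal.map_span, Set.image_singleton]
      exact h (Ideal.mem_map_of_mem _ (Ideal.subset_span b.2))
    obtain ⟨g, hg, hg'⟩ := (IsLocalization.algebraMap_mem_map_algebraMap_iff Q.primeCompl L (Ideal.span {i}) b.1).mp h2
    exact ⟨⟨g, hg⟩, hg'⟩
  choose g hg using hb
  refine ⟨((∏ b, g b : Q.primeCompl) : B), (∏ b, g b).2, fun b hb => ?_⟩
  induction hb using Submodule.span_induction with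
  | mem b hb =>
    rw [Submonoid.coe_finsetProd, ← Finset.mul_prod_erase _ _ (Finset.mem_univ (⟨b, hb⟩ : G)), mul_right_comm]
    exact Ideal.mul_mem_right _ _ (hg ⟨b, hb⟩)
  | zero => rw [mul_zero]; exact zero_mem _
  | add a b _ _ ha hb => rw [mul_add]; exact add_mem ha hb
  | smul r a _ ha => rw [smul_eq_mul, mul_left_comm]; exact Ideal.mul_mem_left _ _ ha

/-- The ideal of a flat family of divisors is locally principal. -/
theorem isLocPrincipal {X S : Scheme.{u}} (φ : X ⟶ S) [Flat φ] [LocallyOfFinitePresentation φ]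
    (𝓘 : X.IdealSheafData) [Flat (𝓘.subschemeι ≫ φ)] [LocallyOfFinitePresentation (𝓘.subschemeι ≫ φ)]
    (hfib : ∀ s : ↥S, BlowUp.IsEffCartierIdeal (𝓘.comap (φ.fiberι s))) : Curv2.IsLocPrincipal 𝓘 := by
  intro x _
  obtain ⟨V, hV, hxV, -⟩ := exists_isAffineOpen_mem_and_subset (U := (⊤ : S.Opens)) (x := φ x) trivial
  obtain ⟨U₀, hU₀, hx, e⟩ := exists_isAffineOpen_mem_and_subset (U := φ ⁻¹ᵁ V) (x := x) hxV
  let U : X.affineOpens := ⟨U₀, hU₀⟩
  letI : Algebra Γ(S, V) Γ(X, U.1) := (φ.appLE V U.1 e).hom.toAlgebra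
  haveI : Algebra.FinitePresentation Γ(S, V) Γ(X, U.1) :=
    HasRingHomProperty.appLE @LocallyOfFinitePresentation φ inferInstance ⟨V, hV⟩ U e
  haveI : Module.Flat Γ(S, V) Γ(X, U.1) := φ.flat_appLE hV U.2 e
  let πr := (𝓘.subschemeι.app U.1).hom
  letI : Algebra Γ(S, V) Γ(𝓘.subscheme, 𝓘.subschemeι ⁻¹ᵁ U.1) :=
    (πr.comp (φ.appLE V U.1 e).hom).toAlgebra
  let π : Γ(X, U.1) →ₐ[Γ(S, V)] Γ(𝓘.subscheme, 𝓘.subschemeι ⁻¹ᵁ U.1) :=
    { πr with commutes' := fun r => rfl }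
  have hcomp : ((𝓘.subschemeι ≫ φ).appLE V (𝓘.subschemeι ⁻¹ᵁ U.1) (fun w hw => e hw)).hom =
      πr.comp (φ.appLE V U.1 e).hom := by
    refine RingHom.ext fun r => ?_
    change _ = (𝓘.subschemeι.app U.1).hom (φ.appLE V U.1 e r)
    rw [← CommRingCat.comp_apply, Scheme.Hom.app_eq_appLE, Scheme.Hom.appLE_comp_appLE]
  haveI : Module.Flat Γ(S, V) Γ(𝓘.subscheme, 𝓘.subschemeι ⁻¹ᵁ U.1) := by
    show (πr.comp (φ.appLE V U.1 e).hom).Flat
    rw [← hcomp]
    exact (𝓘.subschemeι ≫ φ).flat_appLE hV (U.2.preimage 𝓘.subschemeι) _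
  haveI : Algebra.FinitePresentation Γ(S, V) Γ(𝓘.subscheme, 𝓘.subschemeι ⁻¹ᵁ U.1) := by
    show (πr.comp (φ.appLE V U.1 e).hom).FinitePresentation
    rw [← hcomp]
    exact HasRingHomProperty.appLE @LocallyOfFinitePresentation (𝓘.subschemeι ≫ φ) inferInstance ⟨V, hV⟩
      ⟨_, U.2.preimage 𝓘.subschemeι⟩ _
  have hker : RingHom.ker π.toRingHom = 𝓘.ideal U := Scheme.IdealSheafData.ker_subschemeι_app 𝓘 U
  have hIfg : (𝓘.ideal U).FG := hker ▸ Algebra.FinitePresentation.ker_fG_of_surjective π (𝓘.subschemeι_app_surjective U)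
  let eq : (Γ(X, U.1) ⧸ 𝓘.ideal U) ≃ₐ[Γ(S, V)] Γ(𝓘.subscheme, 𝓘.subschemeι ⁻¹ᵁ U.1) :=
    (Ideal.quotientEquivAlgOfEq Γ(S, V) hker.symm).trans
      (Ideal.quotientKerAlgEquivOfSurjective (f := π) (𝓘.subschemeι_app_surjective U))
  haveI : Module.Flat Γ(S, V) (Γ(X, U.1) ⧸ 𝓘.ideal U) := Module.Flat.of_linearEquiv eq.toLinearEquiv
  letI := TopCat.Presheaf.algebra_section_stalk X.presheaf (⟨x, hx⟩ : U.1)
  haveI := U.2.isLocalization_stalk ⟨x, hx⟩
  let T := X.presheaf.stalk x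
  letI : Algebra Γ(S, V) T := ((X.presheaf.germ U.1 x hx).hom.comp (φ.appLE V U.1 e).hom).toAlgebra
  haveI : IsScalarTower Γ(S, V) Γ(X, U.1) T := IsScalarTower.of_algebraMap_eq fun _ => rfl
  haveI : Module.Flat Γ(X, U.1) T := IsLocalization.flat T (U.2.primeIdealOf ⟨x, hx⟩).asIdeal.primeCompl
  let J : Ideal T := (𝓘.ideal U).map (algebraMap Γ(X, U.1) T)
  have hJ : gI 𝓘 x = J := gI_eq 𝓘 U hx
  haveI : Module.Flat Γ(S, V) (T ⊗[Γ(X, U.1)] (Γ(X, U.1) ⧸ 𝓘.ideal U)) := SheafBC.flat_tensor_of_flat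
  have hC : Module.Flat Γ(S, V) (T ⧸ LinearMap.range J.subtype) := by
    rw [Submodule.range_subtype]
    exact Module.Flat.of_linearEquiv
      (((Algebra.TensorProduct.quotIdealMapEquivTensorQuot T (𝓘.ideal U)).toLinearEquiv).restrictScalars Γ(S, V))
  have hp : ((IsLocalRing.maximalIdeal T).comap (algebraMap Γ(S, V) T)).map (algebraMap Γ(S, V) T) = maxExt φ x := by
    letI := TopCat.Presheaf.algebra_section_stalk S.presheaf (⟨φ x, e hx⟩ : V)
    haveI := hV.isLocalization_stalk ⟨φ x, e hx⟩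
    have hc : algebraMap Γ(S, V) T =
        (φ.stalkMap x).hom.comp (algebraMap Γ(S, V) (S.presheaf.stalk (φ x))) :=
      RingHom.ext fun r => Div38.germ_appLE e hx r
    rw [hc, ← Ideal.comap_comap, IsLocalRing.maximalIdeal_comap, ← Ideal.map_map,
      IsLocalization.map_under (hV.primeIdealOf ⟨φ x, e hx⟩).asIdeal.primeCompl]
    rfl
  obtain ⟨z, hz⟩ : x ∈ Set.range (φ.fiberι (φ x)) := (φ.range_fiberι (φ x)).ge rfl
  obtain ⟨t, ht, hgen⟩ := exists_stalk_gen φ 𝓘 hfib (φ x) z x hz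
  rw [hJ] at ht hgen
  have hle : J ≤ Ideal.span {t} := by
    refine Submodule.le_of_le_smul_of_le_jacobson_bot (I := maxExt φ x) (Ideal.FG.map hIfg _)
      (le_trans ?_ (IsLocalRing.maximalIdeal_le_jacobson ⊥)) (hgen.trans (sup_le_sup_left ?_ _))
    · exact Ideal.map_le_iff_le_comap.mpr (IsLocalRing.maximalIdeal_comap (φ.stalkMap x).hom).ge
    · rintro m ⟨hm, hmp⟩
      have h := LocalFP.mem_smul_of_flat_coker J.subtype J.injective_subtype hC
        ((IsLocalRing.maximalIdeal T).comap (algebraMap Γ(S, V) T)) ⟨m, hm⟩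
        (by rw [hp, Ideal.smul_eq_mul, Ideal.mul_top]; exact hmp)
      have h' := Submodule.mem_map_of_mem (f := J.subtype) h
      rw [hp, Submodule.map_smul'', Submodule.map_top, Submodule.range_subtype] at h'
      exact h'
  obtain ⟨⟨i, c⟩, hic⟩ := (IsLocalization.mem_map_algebraMap_iff (U.2.primeIdealOf ⟨x, hx⟩).asIdeal.primeCompl T).mp ht
  have hspan : Ideal.span {t} = Ideal.span {algebraMap Γ(X, U.1) T (i : Γ(X, U.1))} := by
    rw [← hic]
    exact (Ideal.span_singleton_mul_right_unit (IsLocalization.map_units T c) t).symm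
  obtain ⟨g, hg, hgI⟩ := exists_principal (𝓘.ideal U) hIfg (U.2.primeIdealOf ⟨x, hx⟩).asIdeal T (i : Γ(X, U.1)) (hle.trans hspan.le)
  let res := (X.presheaf.map (homOfLE <| X.basicOpen_le g).op).hom
  letI : Algebra Γ(X, U.1) Γ(X, X.basicOpen g) := res.toAlgebra
  haveI : IsLocalization.Away g Γ(X, X.basicOpen g) := U.2.isLocalization_basicOpen g
  refine ⟨X.affineBasicOpen g, (InvExtend.mem_basicOpen_iff U.2 hx _).mpr hg, res i, ?_⟩
  rw [← 𝓘.map_ideal_basicOpen U g]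
  refine le_antisymm (Ideal.map_le_iff_le_comap.mpr fun b hb => ?_) ?_
  · rw [Ideal.mem_comap]
    obtain ⟨c, hc⟩ := Ideal.mem_span_singleton'.mp (hgI b hb)
    have hu : IsUnit (res g) := IsLocalization.Away.algebraMap_isUnit g
    show res b ∈ Ideal.span {res i}
    refine (Ideal.unit_mul_mem_iff_mem _ hu).mp ?_
    exact Ideal.mem_span_singleton'.mpr ⟨res c, by rw [← map_mul, ← map_mul, hc]⟩
  · rw [Ideal.span_singleton_le_iff_mem]
    exact Ideal.mem_map_of_mem _ i.2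

/-- Let φ : X ⟶ S be flat and locally of finite presentation and let 𝓘 be a quasi-coherent ideal sheaf
on X whose closed subscheme Z is flat and locally of finite presentation over S. If for every point
s of S the inverse image ideal of 𝓘 on the scheme-theoretic fibre X_s is the ideal sheaf of an
effective Cartier divisor of X_s, then 𝓘 is the ideal sheaf of an effective Cartier divisor of X;
together with the flatness of Z over S this says Z is a relative effective Cartier divisor. -/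
theorem result {X S : Scheme.{u}} (φ : X ⟶ S) [Flat φ] [LocallyOfFinitePresentation φ]
    (𝓘 : X.IdealSheafData) [Flat (𝓘.subschemeι ≫ φ)] [LocallyOfFinitePresentation (𝓘.subschemeι ≫ φ)]
    (hfib : ∀ s : ↥S, BlowUp.IsEffCartierIdeal (𝓘.comap (φ.fiberι s))) :
    BlowUp.IsEffCartierIdeal 𝓘 := by

  exact (S8848.relEffCartier φ 𝓘 hfib (isLocPrincipal φ 𝓘 hfib)).1

end Groth.Agent.S8847
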