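import Groth.Statements.S1702
import Groth.Agent.FlatDescent.DivFlat.Basic

set_option autoImplicit false
universe u
open CategoryTheory CategoryTheory.Limits AlgebraicGeometry TopologicalSpace
open SDiv

namespace Groth.Agent.S1702

/-- Let f : X ⟶ S be a morphism and 𝓘₁, 𝓘₂ ideal sheaves of effective Cartier divisors on X whose closed
subschemes are flat over S. Then the product ideal 𝓘₁𝓘₂ (the sum of the divisors) is again the ideal
of an effective Cartier divisor flat over S. -/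
theorem result {X S : Scheme.{u}} (f : X ⟶ S) (𝓘₁ 𝓘₂ : X.IdealSheafData)
    (h₁ : (BlowUp.IsEffCartierIdeal 𝓘₁ ∧ Flat (𝓘₁.subschemeι ≫ f))) (h₂ : (BlowUp.IsEffCartierIdeal 𝓘₂ ∧ Flat (𝓘₂.subschemeι ≫ f))) : (BlowUp.IsEffCartierIdeal (𝓘₁ * 𝓘₂) ∧ Flat ((𝓘₁ * 𝓘₂).subschemeι ≫ f)) := by

  haveI := h₁.2
  haveI := h₂.2
  refine ⟨fun x => ?_, Groth.FlatDescent.DivFlat.flat_subscheme f _ fun x => ?_⟩
  · obtain ⟨U, hx, -, ⟨a, ha, hI₁⟩, ⟨b, hb, hI₂⟩⟩ :=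
      Groth.FlatDescent.DivFlat.exists_chart₂ h₁.1 h₂.1 (O := ⊤) (x := x) trivial
    refine ⟨U, hx, a * b, Submonoid.mul_mem _ ha hb, ?_⟩
    rw [Scheme.IdealSheafData.ideal_mul, Pi.mul_apply, hI₁, hI₂, Ideal.span_singleton_mul_span_singleton]
  · obtain ⟨V, hV, hxV, -⟩ := exists_isAffineOpen_mem_and_subset (U := (⊤ : S.Opens)) (x := f x) trivial
    obtain ⟨U, hx, e, ⟨a, ha, hI₁⟩, ⟨b, hb, hI₂⟩⟩ :=
      Groth.FlatDescent.DivFlat.exists_chart₂ h₁.1 h₂.1 (O := f ⁻¹ᵁ V) (x := x) hxV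
    refine ⟨V, hV, U, e, hx, ?_⟩
    letI := (f.appLE V U.1 e).hom.toAlgebra
    have q₁ := Groth.FlatDescent.DivFlat.flat_quot f 𝓘₁ hV U e
    have q₂ := Groth.FlatDescent.DivFlat.flat_quot f 𝓘₂ hV U e
    rw [hI₁] at q₁
    rw [hI₂] at q₂
    rw [Scheme.IdealSheafData.ideal_mul, Pi.mul_apply, hI₁, hI₂, Ideal.span_singleton_mul_span_singleton]
    exact Groth.FlatDescent.DivFlat.flat_quot_mul ha q₁ q₂

end Groth.Agent.S1702
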