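import Groth.Statements.S1710
import Groth.Agent.FlatDescent.DivFlat.Basic

set_option autoImplicit false
universe u
open CategoryTheory CategoryTheory.Limits AlgebraicGeometry TopologicalSpace
open SDiv

namespace Groth.Agent.S1710

/-- Let f : X ⟶ S be a morphism and 𝓘₁, 𝓘₂ ideal sheaves of effective Cartier divisors D₁ ⊆ D₂ on X,
both flat over S, and let 𝓘 be the ideal sheaf of an effective Cartier divisor D with D₂ = D₁ + D
(that is, 𝓘₁𝓘 = 𝓘₂). Then D is flat over S as well. -/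
theorem result {X S : Scheme.{u}} (f : X ⟶ S) (𝓘₁ 𝓘₂ 𝓘 : X.IdealSheafData)
    (h₁ : (BlowUp.IsEffCartierIdeal 𝓘₁ ∧ Flat (𝓘₁.subschemeι ≫ f))) (h₂ : (BlowUp.IsEffCartierIdeal 𝓘₂ ∧ Flat (𝓘₂.subschemeι ≫ f))) (h : BlowUp.IsEffCartierIdeal 𝓘) (hsum : 𝓘₁ * 𝓘 = 𝓘₂) :
    Flat (𝓘.subschemeι ≫ f) := by

  haveI := h₁.2
  haveI := h₂.2
  refine Groth.FlatDescent.DivFlat.flat_subscheme f _ fun x => ?_
  obtain ⟨V, hV, hxV, -⟩ := exists_isAffineOpen_mem_and_subset (U := (⊤ : S.Opens)) (x := f x) trivial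
  obtain ⟨U, hx, e, ⟨a, ha, hI₁⟩, ⟨b, hb, hI⟩⟩ :=
    Groth.FlatDescent.DivFlat.exists_chart₂ h₁.1 h (O := f ⁻¹ᵁ V) (x := x) hxV
  refine ⟨V, hV, U, e, hx, ?_⟩
  letI := (f.appLE V U.1 e).hom.toAlgebra
  have q₁ := Groth.FlatDescent.DivFlat.flat_quot f 𝓘₁ hV U e
  have q₂ := Groth.FlatDescent.DivFlat.flat_quot f 𝓘₂ hV U e
  rw [hI₁] at q₁
  rw [← hsum, Scheme.IdealSheafData.ideal_mul, Pi.mul_apply, hI₁, hI, Ideal.span_singleton_mul_span_singleton] at q₂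
  rw [hI]
  exact Groth.FlatDescent.DivFlat.flat_quot_right ha q₁ q₂

end Groth.Agent.S1710
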