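import Groth.Statements.S14845
-- import your own Groth.Agent.* helpers here

set_option autoImplicit false
open CategoryTheory CategoryTheory.Limits AlgebraicGeometry
universe u
open HilbD

namespace Groth.Agent.S14845

variable {X S : Scheme.{u}} (f : X ⟶ S) [IsSeparated f]

/-- The morphism (x, id). -/
noncomputable def gr (T : Over S) (x : T.left ⟶ X) (hx : x ≫ f = T.hom) : T.left ⟶ PicF.XT f T :=
  pullback.lift x (𝟙 T.left) (by simpa using hx)

theorem gr_fst (T : Over S) (x : T.left ⟶ X) (hx : x ≫ f = T.hom) : gr f T x hx ≫ pullback.fst _ _ = x :=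
  pullback.lift_fst _ _ _

theorem gr_snd (T : Over S) (x : T.left ⟶ X) (hx : x ≫ f = T.hom) : gr f T x hx ≫ pullback.snd _ _ = 𝟙 _ :=
  pullback.lift_snd _ _ _

instance (T : Over S) (x : T.left ⟶ X) (hx : x ≫ f = T.hom) : IsClosedImmersion (gr f T x hx) := by
  haveI : IsClosedImmersion (gr f T x hx ≫ pullback.snd f T.hom) := by rw [gr_snd]; infer_instance
  exact IsClosedImmersion.of_comp (gr f T x hx) (pullback.snd f T.hom)

theorem secGraph_eq (T : Over S) (x : T.left ⟶ X) (hx : x ≫ f = T.hom) :
    HilbD.secGraph f T x hx = (gr f T x hx).ker := rfl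

theorem secGraph_mem (T : Over S) (x : T.left ⟶ X) (hx : x ≫ f = T.hom) :
    Mor2.IsFinLocFreeOfDeg 1 ((HilbD.secGraph f T x hx).subschemeι ≫ PicF.XTproj f T) := by
  have : (gr f T x hx).toImage ≫ ((HilbD.secGraph f T x hx).subschemeι ≫ PicF.XTproj f T) = 𝟙 _ := by
    rw [← Category.assoc]
    exact (congrArg (· ≫ pullback.snd f T.hom) (gr f T x hx).toImage_imageι).trans (gr_snd f T x hx)
  haveI : IsIso ((HilbD.secGraph f T x hx).subschemeι ≫ PicF.XTproj f T) := by
    haveI : IsIso ((gr f T x hx).toImage ≫ ((HilbD.secGraph f T x hx).subschemeι ≫ PicF.XTproj f T)) := by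
      rw [this]; infer_instance
    exact @IsIso.of_isIso_comp_left _ _ _ _ _ (gr f T x hx).toImage _
      (inferInstanceAs (IsIso (gr f T x hx).toImage)) this
  exact ⟨⟨inferInstance, inferInstance, inferInstance⟩, fun y ↦ by
    rw [Scheme.Hom.finrank_eq_one_of_isIso]; rfl⟩

theorem secGraph_inj (T : Over S) (x x' : T.left ⟶ X) (hx : x ≫ f = T.hom) (hx' : x' ≫ f = T.hom)
    (h : (gr f T x hx).ker = (gr f T x' hx').ker) : x = x' := by
  let a := IsClosedImmersion.lift (gr f T x hx) (gr f T x' hx') h.le
  have ha : a ≫ gr f T x hx = gr f T x' hx' := IsClosedImmersion.lift_fac _ _ _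
  have hid : a = 𝟙 _ := by
    simpa [gr_snd] using congrArg (· ≫ pullback.snd f T.hom) ha
  rw [← gr_fst f T x hx, ← gr_fst f T x' hx', ← ha, hid, Category.id_comp]

theorem pull_secGraph (T : Over S) (g : T ⟶ Over.mk f) :
    HilbD.pull f g (HilbD.secGraph f (Over.mk f) (𝟙 X) (Category.id_comp f)) =
      (gr f T g.left (Over.w g)).ker := by
  let D := gr f (Over.mk f) (𝟙 X) (Category.id_comp f)
  have w1 : g.left ≫ D = gr f T g.left (Over.w g) ≫ PicF.XTmap f g := by
    apply pullback.hom_ext
    · simp only [D, PicF.XTmap, gr, Category.assoc, pullback.lift_fst, pullback.map, pullback.lift_fst_assoc,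
        Category.comp_id]
      exact Category.comp_id _
    · simp only [D, PicF.XTmap, gr, Category.assoc, pullback.lift_snd, pullback.map, pullback.lift_snd_assoc,
        Category.id_comp]
      simp
  have hD1 : D ≫ pullback.fst _ _ = 𝟙 X := gr_fst f _ _ _
  have hD2 : D ≫ pullback.snd _ _ = 𝟙 X := gr_snd f _ _ _
  have sq : IsPullback g.left (gr f T g.left (Over.w g)) D (PicF.XTmap f g) := by
    refine IsPullback.of_isLimit' ⟨w1⟩ (PullbackCone.IsLimit.mk _
      (fun c ↦ c.snd ≫ pullback.snd f T.hom) (fun c ↦ ?_) (fun c ↦ ?_) (fun c m h1 h2 ↦ ?_))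
    · have := congrArg (· ≫ pullback.snd f (Over.mk f).hom) c.condition
      simp only [Category.assoc, hD2, PicF.XTmap, pullback.map, pullback.lift_snd] at this
      simp only [Category.assoc]
      simpa using this.symm
    · have h1 := congrArg (· ≫ pullback.fst f (Over.mk f).hom) c.condition
      have h2 := congrArg (· ≫ pullback.snd f (Over.mk f).hom) c.condition
      simp only [Category.assoc, hD1, hD2, PicF.XTmap, pullback.map, pullback.lift_fst, pullback.lift_snd,
        Category.comp_id] at h1 h2
      apply pullback.hom_ext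
      · simp only [Category.assoc, gr_fst]
        exact (h2.symm.trans h1)
      · simp [Category.assoc, gr_snd]
    · rw [← h2]; simp [gr_snd]
  let J := HilbD.secGraph f (Over.mk f) (𝟙 X) (Category.id_comp f)
  haveI : IsClosedImmersion D := by infer_instance
  have sq' : IsPullback (g.left ≫ D.toImage) (gr f T g.left (Over.w g)) J.subschemeι (PicF.XTmap f g) :=
    sq.of_iso (Iso.refl _) (asIso D.toImage) (Iso.refl _) (Iso.refl _) (by simp) (by simp)
      (by simp; exact D.toImage_imageι.symm) (by simp)
  show (pullback.snd J.subschemeι (PicF.XTmap f g)).ker = _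
  exact (Scheme.Hom.ker_comp_of_isIso _ _).symm.trans (congrArg Scheme.Hom.ker sq'.isoPullback_hom_snd)

/-- For a separated morphism f : X → S, the Hilbert functor of one point of X over S is represented by X
with the diagonal as universal family: the diagonal of X ×_S X (the graph of the identity section of
X over itself) is a closed subscheme finite locally free of degree 1 over X, and every closed
subscheme of X ×_S T which is finite locally free of degree 1 over T is its base change along a
unique S-morphism T → X. (The published statement takes S Noetherian, f locally of finite type and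
the Hilbert functor on locally Noetherian S-schemes with flat proper families of Hilbert polynomial
1; this row uses the functor of families finite locally free of degree 1 on all S-schemes, for which
the same argument applies without Noetherian hypotheses.) -/
theorem result {X S : Scheme.{u}} (f : X ⟶ S) [IsSeparated f] :
    ∃ Δ : HilbD.Obj f 1 (Over.mk f),
      Δ.1 = HilbD.secGraph f (Over.mk f) (𝟙 X) (Category.id_comp f) ∧
      HilbD.IsUniversal f 1 (Over.mk f) Δ := by
  refine ⟨⟨_, secGraph_mem f (Over.mk f) (𝟙 X) (Category.id_comp f)⟩, rfl, fun T Z' ↦ ?_⟩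
  obtain ⟨I, ⟨h1, h2, h3⟩, h4⟩ := Z'
  haveI : IsIso (I.subschemeι ≫ PicF.XTproj f T) :=
    (Scheme.Hom.isIso_iff_finrank_eq _).mpr (funext h4)
  let p := I.subschemeι ≫ PicF.XTproj f T
  let x : T.left ⟶ X := inv p ≫ I.subschemeι ≫ pullback.fst f T.hom
  have hx : x ≫ f = T.hom := by
    simp only [x, Category.assoc, pullback.condition]
    rw [← Category.assoc I.subschemeι, ← Category.assoc]
    exact (congrArg (· ≫ T.hom) (IsIso.inv_hom_id p)).trans (Category.id_comp _)
  have hgr : gr f T x hx = inv p ≫ I.subschemeι := by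
    apply pullback.hom_ext
    · simp only [gr_fst, x, Category.assoc]
    · simp only [gr_snd, Category.assoc]; exact (IsIso.inv_hom_id p).symm
  have hI : (gr f T x hx).ker = I := by
    rw [hgr, Scheme.Hom.ker_comp_of_isIso, Scheme.IdealSheafData.ker_subschemeι]
  refine ⟨Over.homMk x hx, (pull_secGraph f T _).trans hI, fun g' hg' ↦ ?_⟩
  ext
  exact secGraph_inj f T g'.left x (Over.w g') hx
    (((pull_secGraph f T g').symm.trans hg').trans hI.symm)

end Groth.Agent.S14845
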