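import Groth.Statements.S5233
import Mathlib
-- import your own Groth.Agent.* helpers here

set_option autoImplicit false
open CategoryTheory CategoryTheory.Limits AlgebraicGeometry
universe u
open GrpQ

namespace Groth.Agent.S5233

section Aux
theorem ker_eq_bot_of_flat {X Y : Scheme.{u}} (f : X ⟶ Y) [Flat f] [Surjective f] [QuasiCompact f] :
    f.ker = ⊥ := by
  refine Scheme.IdealSheafData.ext (funext fun U => ?_)
  rw [Scheme.Hom.ker_apply, Scheme.IdealSheafData.ideal_bot, Pi.bot_apply, ← RingHom.injective_iff_ker_eq_bot]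
  intro s t hst
  refine TopCat.Presheaf.section_ext Y.sheaf U.1 s t fun y hy => ?_
  obtain ⟨x, rfl⟩ := f.surjective y
  algebraize [(f.stalkMap x).hom]
  haveI : Module.FaithfullyFlat (Y.presheaf.stalk (f x)) (X.presheaf.stalk x) :=
    @Module.FaithfullyFlat.of_flat_of_isLocalHom _ _ _ _ _ _ _
      (Flat.stalkMap f x) (f.toLRSHom.prop x)
  refine ‹RingHom.FaithfullyFlat _›.injective ?_
  change (f.stalkMap x).hom ((Y.presheaf.germ U.1 (f x) hy).hom s) =
    (f.stalkMap x).hom ((Y.presheaf.germ U.1 (f x) hy).hom t)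
  rw [Scheme.Hom.germ_stalkMap_apply, Scheme.Hom.germ_stalkMap_apply]
  exact congrArg _ hst

theorem toImage_ker_eq_bot {X Y : Scheme.{u}} (f : X ⟶ Y) [QuasiCompact f] :
    f.toImage.ker = ⊥ := by
  refine Scheme.IdealSheafData.ext_of_iSup_eq_top
    (fun U : Y.affineOpens => ⟨f.imageι ⁻¹ᵁ U.1, U.2.preimage f.imageι⟩) ?_ fun U => ?_
  · exact (TopologicalSpace.IsOpenCover.comap (Y.isBasis_affineOpens.isOpenCover) f.imageι.base.hom)
  rw [Scheme.Hom.ker_apply, Scheme.IdealSheafData.ideal_bot, Pi.bot_apply, ← RingHom.injective_iff_ker_eq_bot]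
  exact f.toImage_app_injective U

theorem eq_of_ker_eq {X : Scheme.{u}} (y y' : Subobject X) (hy : IsClosedImmersion y.arrow)
    (hy' : IsClosedImmersion y'.arrow) (h : y.arrow.ker = y'.arrow.ker) : y = y' := by
  haveI := hy
  haveI := hy'
  exact le_antisymm (Subobject.le_of_comm (IsClosedImmersion.lift y'.arrow y.arrow h.ge) (by simp))
    (Subobject.le_of_comm (IsClosedImmersion.lift y.arrow y'.arrow h.le) (by simp))

theorem isClosedImmersion_pullback {X Y : Scheme.{u}} (f : X ⟶ Y) (y : Subobject Y)
    (hy : IsClosedImmersion y.arrow) : IsClosedImmersion ((Subobject.pullback f).obj y).arrow :=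
  MorphismProperty.of_isPullback (Subobject.isPullback f y) hy


end Aux

/-- For schemes, with (M) the faithfully flat quasi-compact morphisms and (N) the closed immersions: if
`π : X ⟶ X'` is flat, surjective and quasi-compact (so `X' = X/R` for its kernel pair `R ⇉ X`), then
`Y' ↦ π⁻¹(Y')` is a bijection from closed subschemes of `X'` onto the closed subschemes of `X`
stable under `R`. -/
theorem result {X X' : Scheme.{u}} (π : X ⟶ X')
    [Flat π] [Surjective π] [QuasiCompact π] :
    Set.BijOn (Subobject.pullback π).obj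
      {Y' : Subobject X' | IsClosedImmersion Y'.arrow}
      {Y : Subobject X | IsClosedImmersion Y.arrow ∧
        (Subobject.pullback (pullback.fst π π)).obj Y = (Subobject.pullback (pullback.snd π π)).obj Y} := by
  refine ⟨fun y hy => ⟨isClosedImmersion_pullback π y hy, ?_⟩, fun y hy y' hy' h => ?_, ?_⟩
  · rw [← Subobject.pullback_comp, ← Subobject.pullback_comp, pullback.condition]
  · haveI : IsClosedImmersion y.arrow := hy
    haveI : IsClosedImmersion y'.arrow := hy'
    have key : ∀ y : Subobject X', IsClosedImmersion y.arrow →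
        (((Subobject.pullback π).obj y).arrow ≫ π).ker = y.arrow.ker := fun y hy => by
      haveI := hy
      have sq := Subobject.isPullback π y
      haveI : Flat (Subobject.pullbackπ π y) := MorphismProperty.of_isPullback sq.flip ‹_›
      haveI : Surjective (Subobject.pullbackπ π y) := MorphismProperty.of_isPullback sq.flip ‹_›
      haveI : QuasiCompact (Subobject.pullbackπ π y) := MorphismProperty.of_isPullback sq.flip ‹_›
      rw [← sq.w, Scheme.Hom.ker_comp, ker_eq_bot_of_flat, Scheme.IdealSheafData.map_bot]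
    refine eq_of_ker_eq y y' hy hy' ?_
    rw [← key y hy, ← key y' hy', h]
  · rintro z ⟨hz1, hz2⟩
    haveI := hz1
    haveI : QuasiCompact (z.arrow ≫ π) := inferInstance
    let g := z.arrow ≫ π
    let y := Subobject.mk g.imageι
    have hy : IsClosedImmersion y.arrow := by
      rw [← Subobject.underlyingIso_hom_comp_eq_mk]; infer_instance
    refine ⟨y, hy, ?_⟩
    let c : (z : Scheme.{u}) ⟶ (y : Scheme.{u}) := g.toImage ≫ (Subobject.underlyingIso g.imageι).inv
    have hc : c ≫ y.arrow = z.arrow ≫ π := by
      simp [c, y, g]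
    haveI : IsSchemeTheoreticallyDominant g.toImage := ⟨toImage_ker_eq_bot g⟩
    haveI : IsSchemeTheoreticallyDominant c := by dsimp only [c]; infer_instance
    haveI : QuasiCompact c := by dsimp only [c]; infer_instance
    have sq := Subobject.isPullback π y
    haveI : Flat (Subobject.pullbackπ π y) := MorphismProperty.of_isPullback sq.flip ‹_›
    haveI := isClosedImmersion_pullback π y hy
    let P := (Subobject.pullback π).obj y
    let pP : (P : Scheme.{u}) ⟶ (y : Scheme.{u}) := Subobject.pullbackπ π y
    let t : (z : Scheme.{u}) ⟶ (P : Scheme.{u}) := sq.lift c z.arrow hc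
    have ht : t ≫ P.arrow = z.arrow := sq.lift_snd c z.arrow hc
    haveI : IsClosedImmersion (t ≫ P.arrow) := by rw [ht]; exact hz1
    haveI : IsClosedImmersion t := IsClosedImmersion.of_comp t P.arrow
    let φ : pullback c pP ⟶ pullback π π :=
      pullback.lift (pullback.fst c pP ≫ z.arrow) (pullback.snd c pP ≫ P.arrow) (by
        simp only [Category.assoc, ← hc]
        rw [pullback.condition_assoc]
        exact congrArg (pullback.snd c pP ≫ ·) sq.w)
    have hW := Subobject.isPullback (pullback.fst π π) z
    obtain ⟨b, hb⟩ : ∃ b : (((Subobject.pullback (pullback.fst π π)).obj z : Subobject _) : Scheme.{u}) ⟶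
        (z : Scheme.{u}), b ≫ z.arrow =
          ((Subobject.pullback (pullback.fst π π)).obj z).arrow ≫ pullback.snd π π := by
      rw [hz2]
      exact ⟨_, (Subobject.isPullback (pullback.snd π π) z).w⟩
    let ψ : pullback c pP ⟶ (z : Scheme.{u}) :=
      hW.lift (pullback.fst c pP) φ (by rw [pullback.lift_fst]) ≫ b
    have hψ : ψ ≫ t = pullback.snd c pP := by
      rw [← cancel_mono P.arrow, Category.assoc, ht, Category.assoc, hb, hW.lift_snd_assoc,
        pullback.lift_snd]
    have hk : t.ker = ⊥ := le_bot_iff.1 (by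
      calc t.ker ≤ (ψ ≫ t).ker := Scheme.Hom.le_ker_comp ψ t
        _ = ⊥ := by rw [hψ]; exact Scheme.Hom.ker_eq_bot _)
    haveI : IsIso t := IsClosedImmersion.isIso_iff_ker_eq_bot.2 hk
    exact (Subobject.eq_of_comm (asIso t) ht).symm

end Groth.Agent.S5233
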