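import Groth.Statements.S6285
import Mathlib
import Groth.Agent.S6284

set_option autoImplicit false
universe u
open CAlg

open scoped TensorProduct

namespace Groth.Agent.S6285

/-- For a ring R and an R-module M of finite presentation, the support Supp(M) is closed in Spec(R), and
its complement in Spec(R) is quasi-compact. -/
theorem result (R : Type u) [CommRing R] (M : Type u) [AddCommGroup M] [Module R M] [Module.FinitePresentation R M] : IsClosed (Module.support R M) ∧ IsCompact (Module.support R M)ᶜ := by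
  refine ⟨Module.isClosed_support, ?_⟩
  classical
  obtain ⟨n, m, π, g, hπ, hex⟩ := Module.FinitePresentation.exists_fin' (R := R) (M := M)
  let A : Set R := Set.range fun p : Fin m × Fin n => g (Pi.single p.1 1) p.2
  let R₀ : Subalgebra ℤ R := Algebra.adjoin ℤ A
  haveI : Algebra.FiniteType ℤ R₀ := (Subalgebra.fg_iff_finiteType _).1 (Subalgebra.fg_def.2 ⟨A, Set.finite_range _, rfl⟩)
  haveI : IsNoetherianRing R₀ := Algebra.FiniteType.isNoetherianRing ℤ R₀
  let col : Fin m → Fin n → R₀ := fun j i =>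
    ⟨g (Pi.single j 1) i, Algebra.subset_adjoin ⟨(j, i), rfl⟩⟩
  let N₀ : Submodule R₀ (Fin n → R₀) := Submodule.span R₀ (Set.range col)
  let M₀ := (Fin n → R₀) ⧸ N₀
  let T : (Fin n → R) →ₗ[R] R ⊗[R₀] M₀ :=
    (Pi.basisFun R (Fin n)).constr R fun i => (1 : R) ⊗ₜ[R₀] (N₀.mkQ (Pi.single i 1))
  have hT : ∀ x : Fin n → R₀, T (fun i => (x i : R)) = (1 : R) ⊗ₜ[R₀] N₀.mkQ x := by
    intro x
    rw [Module.Basis.constr_apply_fintype]
    conv_rhs => rw [pi_eq_sum_univ' x]
    simp only [map_sum, map_smul, TensorProduct.tmul_sum, Pi.basisFun_equivFun]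
    refine Finset.sum_congr rfl fun i _ => ?_
    rw [TensorProduct.tmul_smul]
    exact algebraMap_smul R (x i) _
  have hle : LinearMap.ker π ≤ LinearMap.ker T := by
    rw [LinearMap.exact_iff.1 hex, LinearMap.range_eq_map, Submodule.map_le_iff_le_comap,
      ← (Pi.basisFun R (Fin m)).span_eq, Submodule.span_le]
    rintro _ ⟨j, rfl⟩
    show T (g (Pi.basisFun R (Fin m) j)) = 0
    rw [Pi.basisFun_apply, show g (Pi.single j 1) = fun i => ((col j i : R₀) : R) from rfl, hT,
      Submodule.mkQ_apply, (Submodule.Quotient.mk_eq_zero N₀).2 (Submodule.subset_span ⟨j, rfl⟩),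
      TensorProduct.tmul_zero]
  let π₀ : (Fin n → R₀) →ₗ[R₀] M :=
    (π.restrictScalars R₀) ∘ₗ LinearMap.compLeft (Algebra.linearMap R₀ R) (Fin n)
  have hπ₀ : N₀ ≤ LinearMap.ker π₀ := by
    rw [Submodule.span_le]
    rintro _ ⟨j, rfl⟩
    exact hex.apply_apply_eq_zero (Pi.single j 1)
  let k : R ⊗[R₀] M₀ →ₗ[R] M := (N₀.liftQ π₀ hπ₀).liftBaseChange R
  have hkT : k ∘ₗ T = π := (Pi.basisFun R (Fin n)).ext fun i => by
    rw [LinearMap.comp_apply]
    simp only [T, Module.Basis.constr_basis]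
    rw [LinearMap.liftBaseChange_tmul, one_smul, Submodule.mkQ_apply, Submodule.liftQ_apply,
      Pi.basisFun_apply]
    refine congrArg π (funext fun i' => ?_)
    by_cases h : i' = i
    · subst h; simp
    · simp [Pi.single_eq_of_ne h]
  have hTsurj : Function.Surjective T := by
    intro z
    induction z with
    | zero => exact ⟨0, map_zero _⟩
    | add x y hx hy =>
      obtain ⟨a, rfl⟩ := hx
      obtain ⟨b, rfl⟩ := hy
      exact ⟨a + b, map_add _ _ _⟩
    | tmul r y =>
      obtain ⟨x, rfl⟩ := N₀.mkQ_surjective y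
      exact ⟨r • fun i => (x i : R), by rw [map_smul, hT, TensorProduct.smul_tmul', smul_eq_mul, mul_one]⟩
  have hk : Function.Bijective k := by
    refine ⟨(injective_iff_map_eq_zero k).2 fun z hz => ?_, fun y => ?_⟩
    · obtain ⟨x, rfl⟩ := hTsurj z
      exact hle (show π x = 0 by rw [← hkT]; exact hz)
    · obtain ⟨x, rfl⟩ := hπ y
      exact ⟨T x, LinearMap.congr_fun hkT x⟩
  rw [← (LinearEquiv.ofBijective k hk).support_eq, Groth.Agent.S6284.result (R := R₀) (R' := R) M₀,
    Module.support_eq_zeroLocus (R := R₀) (M := M₀), PrimeSpectrum.preimage_comap_zeroLocus]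
  obtain ⟨s, hs⟩ := IsNoetherian.noetherian (Module.annihilator R₀ M₀)
  rw [← PrimeSpectrum.zeroLocus_span, ← Ideal.map]
  exact (PrimeSpectrum.isRetrocompact_zeroLocus_compl_of_fg
    (Ideal.FG.map ⟨s, hs⟩ (algebraMap R₀ R))).isCompact

end Groth.Agent.S6285
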