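import Groth.Statements.S7643
import Groth.Agent.CurveDeg.Basic
import Groth.Agent.ModGroth.StalkTensor
import Groth.Agent.FlatDescent.FibreFlat.Rank
import Groth.Agent.DCohPerf.FreeLocus
import Groth.Agent.QCohLib.StalkRestrict
-- import your own Groth.Agent.* helpers here

set_option autoImplicit false
set_option backward.isDefEq.respectTransparency false
universe u
open CategoryTheory CategoryTheory.Limits AlgebraicGeometry
open Variety

namespace Groth.Agent.S7643

/-- Let X be proper of dimension at most one over a field k and let 0 → E₁ → E₂ → E₃ → 0 be a short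
exact sequence of finite locally free modules of constant ranks n₁, n₂, n₃. Then deg(E₂) = deg(E₁) +
deg(E₃). -/
theorem result (k : Type u) [Field k] (X : Scheme.{u}) [X.Over (Spec (CommRingCat.of k))] [IsProper (X ↘ (Spec (CommRingCat.of k)))]
    (hdim : topologicalKrullDim X ≤ 1) (S : ShortComplex X.Modules) (hS : S.ShortExact)
    (n₁ n₂ n₃ : ℕ) (h₁ : FlatMod.IsFinLocFreeOfRank n₁ S.X₁) (h₂ : FlatMod.IsFinLocFreeOfRank n₂ S.X₂)
    (h₃ : FlatMod.IsFinLocFreeOfRank n₃ S.X₃) :
    Curv2.deg k X S.X₂ n₂ = Curv2.deg k X S.X₁ n₁ + Curv2.deg k X S.X₃ n₃ := by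
  haveI : IsLocallyNoetherian X := LocallyOfFiniteType.isLocallyNoetherian (X ↘ Spec (CommRingCat.of k))
  have hlf : ∀ {n : ℕ} {M : X.Modules}, FlatMod.IsFinLocFreeOfRank n M → FlatMod.IsFinLocFree M := fun h x => by
    obtain ⟨U, hx, e⟩ := h x
    exact ⟨U, _, hx, e⟩
  have he := Groth.Agent.HilbPoly.euler_additive (k := k) hS (Groth.Agent.DCohPerf.isCoh_finLocFree (hlf h₁))
    (Groth.Agent.DCohPerf.isCoh_finLocFree (hlf h₂)) (Groth.Agent.DCohPerf.isCoh_finLocFree (hlf h₃))
  rcases isEmpty_or_nonempty X with hX | ⟨⟨x⟩⟩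
  · have hO : IsZero (Coh.structureModule X) := Groth.Agent.QCohLib.isZero_of_subsingleton_stalk fun x => hX.elim x
    let T : ShortComplex X.Modules := ShortComplex.mk (0 : Coh.structureModule X ⟶ Coh.structureModule X)
      (0 : Coh.structureModule X ⟶ Coh.structureModule X) zero_comp
    haveI : Mono T.f := ⟨fun a b _ => hO.eq_of_tgt a b⟩
    haveI : Epi T.g := ⟨fun a b _ => hO.eq_of_src a b⟩
    have hT : T.ShortExact := { exact := T.exact_of_isZero_X₂ hO }
    have hcO := Groth.Agent.InvPow.isCoh_of_isInvertible (Groth.Agent.HilbPoly.isInvertible_structureModule X)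
    have h0 := Groth.Agent.HilbPoly.euler_additive (k := k) hT hcO hcO hcO
    dsimp only [T] at h0
    have h0' : Curv2.euler k X (Coh.structureModule X) = 0 := by linarith
    simp only [Curv2.deg, h0', mul_zero, sub_zero]
    exact he
  · haveI : (DerSch.stalkFunctor X x).PreservesHomology := Groth.Agent.ModGroth.Stalk.preservesHomology_stalk x
    haveI : PreservesFiniteLimits (DerSch.stalkFunctor X x) :=
      (DerSch.stalkFunctor X x).preservesFiniteLimits_of_preservesHomology
    haveI : PreservesFiniteColimits (DerSch.stalkFunctor X x) :=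
      (DerSch.stalkFunctor X x).preservesFiniteColimits_of_preservesHomology
    have hSx : (S.map (DerSch.stalkFunctor X x)).ShortExact := hS.map_of_exact _
    have free : ∀ {n : ℕ} {M : X.Modules}, FlatMod.IsFinLocFreeOfRank n M →
        Module.finrank (X.presheaf.stalk x) (M.presheaf.stalk x) = n ∧
          ∃ b : Module.Basis (Fin n) (X.presheaf.stalk x) (M.presheaf.stalk x), True := fun {n M} h => by
      obtain ⟨U, hx, ⟨i⟩⟩ := h x
      obtain ⟨b, hb⟩ := Groth.Agent.LocFreeAnn.exists_basis i
      have hB : Groth.Agent.ModGroth.LocBasis.IsBasis (O := X.sheaf) M b := fun W h => by convert! hb W h.le using 1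
      exact ⟨Groth.FlatDescent.FibreFlat.finrank_stalk_eq i hx, Module.Basis.ofEquivFun
        (LinearEquiv.ofBijective _ (Groth.Agent.ModGroth.LocBasis.isStalkBasis_of_isBasis hB x hx)).symm, trivial⟩
    obtain ⟨r₁, b₁, -⟩ := free h₁
    obtain ⟨r₂, b₂, -⟩ := free h₂
    obtain ⟨r₃, b₃, -⟩ := free h₃
    let f : S.X₁.presheaf.stalk x →ₗ[X.presheaf.stalk x] S.X₂.presheaf.stalk x := Algz.stalkMapₗ S.f x
    let g : S.X₂.presheaf.stalk x →ₗ[X.presheaf.stalk x] S.X₃.presheaf.stalk x := Algz.stalkMapₗ S.g x
    have hgf : Function.Exact f g := (ShortComplex.ShortExact.moduleCat_exact_iff_function_exact _).mp hSx.exact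
    have hg : Function.Surjective g := (ModuleCat.epi_iff_surjective _).mp hSx.epi_g
    have hf : Function.Injective f := (ModuleCat.mono_iff_injective _).mp hSx.mono_f
    haveI : Module.Free (X.presheaf.stalk x) (S.X₁.presheaf.stalk x) := Module.Free.of_basis b₁
    haveI : Module.Free (X.presheaf.stalk x) (S.X₃.presheaf.stalk x) := Module.Free.of_basis b₃
    haveI : Module.Finite (X.presheaf.stalk x) (S.X₁.presheaf.stalk x) := Module.Finite.of_basis b₁
    haveI : Module.Finite (X.presheaf.stalk x) (S.X₃.presheaf.stalk x) := Module.Finite.of_basis b₃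
    obtain ⟨e, -⟩ := hgf.splitSurjectiveEquiv hf ⟨_, (Module.projective_lifting_property g LinearMap.id hg).choose_spec⟩
    have hr := e.finrank_eq
    erw [Module.finrank_prod] at hr
    have hn : n₂ = n₁ + n₃ := by
      rw [← r₁, ← r₂, ← r₃]; exact hr
    simp only [Curv2.deg, hn, Nat.cast_add]
    linarith

end Groth.Agent.S7643
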