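import Groth.Statements.S1521
import Groth.Agent.CurveDeg.Basic
import Groth.Agent.LocFreeAnn.Free
import Groth.Agent.QCohLib.StalkRestrict
-- import your own Groth.Agent.* helpers here

set_option autoImplicit false
set_option backward.isDefEq.respectTransparency false
universe u
open CategoryTheory CategoryTheory.Limits AlgebraicGeometry
open Variety

namespace Groth.Agent.S1521

open CategoryTheory CategoryTheory.Limits AlgebraicGeometry TopologicalSpace Opposite Groth.Agent.InvBasic Groth.Agent.ProjUniv Groth.Agent.CurveDeg Groth.Agent.InvPow in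
/-- A nonzero morphism of invertible modules on an integral scheme is a monomorphism whose cokernel
vanishes on a nonempty open. -/
theorem mono_and_disjoint {X : Scheme.{u}} [IsIntegral X] {N L : X.Modules} (hN : PicF.IsInvertible N)
    (hL : PicF.IsInvertible L) (φ : N ⟶ L) (hφ : φ ≠ 0) :
    Mono φ ∧ ∃ U : X.Opens, (U : Set X).Nonempty ∧ Disjoint (CohB1.support (cokernel φ)) (U : Set X) := by
  have loc : ∀ x : X, ∃ (V : X.Opens) (β : Γ(N, V)) (γ : Γ(L, V)) (c : Γ(X, V)),
      x ∈ V ∧ InvBasic.IsBasis N β ∧ InvBasic.IsBasis L γ ∧ φ.app V β = c • γ := fun x => by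
    obtain ⟨V₁, h₁, β₁, hβ₁⟩ := InvBasic.exists_isBasis hN x
    obtain ⟨V₂, h₂, γ₂, hγ₂⟩ := InvBasic.exists_isBasis hL x
    have hb := isBasis_res hγ₂ (inf_le_right : V₁ ⊓ V₂ ≤ V₂)
    obtain ⟨c, hc⟩ := exists_coef hb (φ.app (V₁ ⊓ V₂) (res N inf_le_left β₁))
    exact ⟨V₁ ⊓ V₂, _, _, c, ⟨h₁, h₂⟩, isBasis_res hβ₁ _, hb, hc⟩
  choose V β γ c hmem hβ hγ hc using loc
  have hres : ∀ (W : X.Opens) (x : X) (hW : W ≤ V x) (d : Γ(X, W)),
      φ.app W (d • res N hW (β x)) = (d * resR hW (c x)) • res L hW (γ x) := fun W x hW d => by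
    rw [LocFreeAnn.app_smul', mul_smul, ← res_smul, ← hc x]
    exact congrArg (d • ·) (QCohLib.app_map φ hW (β x))
  have hne : ∀ x, c x ≠ 0 := by
    intro x hx
    refine hφ (Scheme.Modules.hom_ext _ _ fun W => AddCommGrpCat.ext fun a => ?_)
    show φ.app W a = 0
    refine QCohLib.section_ext _ _ fun z hz => ?_
    rw [map_zero]
    haveI : Nonempty (V z) := ⟨⟨z, hmem z⟩⟩
    haveI : Nonempty (V x ⊓ V z : X.Opens) := by
      obtain ⟨y, hy⟩ := nonempty_preirreducible_inter (V x).2 (V z).2 ⟨x, hmem x⟩ ⟨z, hmem z⟩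
      exact ⟨⟨y, hy⟩⟩
    have hcz : c z = 0 := by
      obtain ⟨e, he⟩ := exists_coef (isBasis_res (hβ x) (inf_le_left : V x ⊓ V z ≤ V x))
        (res N (inf_le_right : V x ⊓ V z ≤ V z) (β z))
      have h1 : resR (inf_le_right : V x ⊓ V z ≤ V z) (c z) • res L (inf_le_right : V x ⊓ V z ≤ V z) (γ z) = 0 := by
        have h2 := hres (V x ⊓ V z) z inf_le_right 1
        rw [one_smul, one_mul, he, hres (V x ⊓ V z) x inf_le_left e, hx] at h2
        rw [← h2]; simp only [resR, map_zero, mul_zero, zero_smul]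
      have h3 : resR (inf_le_right : V x ⊓ V z ≤ V z) (c z) = 0 :=
        (hγ z (V x ⊓ V z) inf_le_right).1 (show _ • res L inf_le_right (γ z) = (0 : Γ(X, V x ⊓ V z)) • res L inf_le_right (γ z) by
          rw [h1, zero_smul])
      exact map_injective_of_isIntegral X (homOfLE (inf_le_right : V x ⊓ V z ≤ V z)) (h3.trans (map_zero _).symm)
    obtain ⟨d, hd⟩ := exists_coef (isBasis_res (hβ z) (inf_le_right : W ⊓ V z ≤ V z)) (res N (inf_le_left : W ⊓ V z ≤ W) a)
    refine (TopCat.Presheaf.germ_res_apply L.presheaf (homOfLE (inf_le_left : W ⊓ V z ≤ W)) z ⟨hz, hmem z⟩ _).symm.trans ?_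
    rw [show L.presheaf.map (homOfLE (inf_le_left : W ⊓ V z ≤ W)).op (φ.app W a) = φ.app (W ⊓ V z) (res N inf_le_left a)
      from (QCohLib.app_map φ _ a).symm, hd, hres _ z inf_le_right d, hcz]
    simp only [resR, map_zero, mul_zero, zero_smul]
  refine ⟨(QCohLib.mono_iff_app_injective φ).2 fun W => (injective_iff_map_eq_zero _).mpr fun a ha => ?_, ?_⟩
  · refine QCohLib.section_ext _ _ fun z hz => ?_
    rw [map_zero]
    haveI : Nonempty (W ⊓ V z : X.Opens) := ⟨⟨z, hz, hmem z⟩⟩
    haveI : Nonempty (V z) := ⟨⟨z, hmem z⟩⟩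
    obtain ⟨d, hd⟩ := exists_coef (isBasis_res (hβ z) (inf_le_right : W ⊓ V z ≤ V z)) (res N (inf_le_left : W ⊓ V z ≤ W) a)
    have h1 : (d * resR (inf_le_right : W ⊓ V z ≤ V z) (c z)) • res L (inf_le_right : W ⊓ V z ≤ V z) (γ z) = 0 := by
      rw [← hres _ z inf_le_right d, ← hd]
      exact (QCohLib.app_map φ (inf_le_left : W ⊓ V z ≤ W) a).trans (by rw [ha, map_zero])
    have h2 : d * resR (inf_le_right : W ⊓ V z ≤ V z) (c z) = 0 :=
      (hγ z (W ⊓ V z) inf_le_right).1 (show _ • res L inf_le_right (γ z) = (0 : Γ(X, W ⊓ V z)) • res L inf_le_right (γ z) by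
        rw [h1, zero_smul])
    have h3 : d = 0 := (mul_eq_zero.mp h2).resolve_right fun h =>
      hne z (map_injective_of_isIntegral X (homOfLE (inf_le_right : W ⊓ V z ≤ V z)) (h.trans (map_zero _).symm))
    refine (TopCat.Presheaf.germ_res_apply N.presheaf (homOfLE (inf_le_left : W ⊓ V z ≤ W)) z ⟨hz, hmem z⟩ _).symm.trans ?_
    rw [show N.presheaf.map (homOfLE (inf_le_left : W ⊓ V z ≤ W)).op a = res N inf_le_left a from rfl, hd, h3, zero_smul, map_zero]
  · obtain ⟨x₀⟩ : Nonempty X := inferInstance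
    refine ⟨X.basicOpen (c x₀), ?_, Set.disjoint_left.mpr fun y hy hyU => ?_⟩
    · rw [Set.nonempty_iff_ne_empty]
      exact fun h => hne x₀ ((basicOpen_eq_bot_iff _).mp (Opens.ext h))
    · refine absurd ?_ (show ¬ Subsingleton ((cokernel φ).presheaf.stalk y) from hy)
      refine subsingleton_of_forall_eq 0 fun m => ?_
      obtain ⟨W, hyW, t, rfl⟩ := (cokernel φ).presheaf.exists_germ_eq m
      obtain ⟨W', hW', ⟨l, hl⟩, hyW'⟩ := (QCohLib.epi_iff_locally_surjective (cokernel.π φ)).1 inferInstance W t y hyW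
      let W'' := W' ⊓ X.basicOpen (c x₀)
      have hV : W'' ≤ V x₀ := inf_le_right.trans (X.basicOpen_le _)
      have hu : IsUnit (resR hV (c x₀)) := by
        have := (X.toRingedSpace.isUnit_res_basicOpen (c x₀)).map (X.presheaf.map (homOfLE (inf_le_right : W'' ≤ _)).op).hom
        change IsUnit (resR inf_le_right (resR (X.basicOpen_le _) (c x₀))) at this
        rwa [resR_resR] at this
      obtain ⟨r, hr⟩ := exists_coef (isBasis_res (hγ x₀) hV) (res L (inf_le_left : W'' ≤ W') l)
      obtain ⟨v, hv⟩ := hu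
      have e1 : φ.app W'' ((r * ↑v⁻¹) • res N hV (β x₀)) = res L (inf_le_left : W'' ≤ W') l := by
        rw [hres W'' x₀ hV, ← hv, mul_assoc, Units.inv_mul, mul_one, hr]
      have e2 : (cokernel.π φ).app W'' (res L (inf_le_left : W'' ≤ W') l) = 0 := by
        rw [← e1, ← LocFreeAnn.app_comp, cokernel.condition]
        rfl
      rw [show (cokernel.π φ).app W'' (res L (inf_le_left : W'' ≤ W') l) =
        (cokernel φ).presheaf.map (homOfLE (inf_le_left : W'' ≤ W')).op ((cokernel.π φ).app W' l) from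
          QCohLib.app_map (cokernel.π φ) _ l, hl] at e2
      have h4 := congrArg ((cokernel φ).presheaf.germ W'' y ⟨hyW', hyU⟩) e2
      rw [TopCat.Presheaf.germ_res_apply, TopCat.Presheaf.germ_res_apply, map_zero] at h4
      exact h4

set_option maxHeartbeats 300000 in
/-- On a proper curve over a field, a nonzero map N → L of invertible modules forces deg N ≤ deg L, and
if the degrees are equal the map is an isomorphism. -/
theorem result (k : Type u) [Field k] (X : Scheme.{u}) [X.Over (Spec (CommRingCat.of k))]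
    [IsIntegral X] [IsProper (X ↘ (Spec (CommRingCat.of k)))] (hdim : topologicalKrullDim X = 1)
    (N L : X.Modules) (hN : PicF.IsInvertible N) (hL : PicF.IsInvertible L) (φ : N ⟶ L) (hφ : φ ≠ 0) :
    Curv2.deg k X N 1 ≤ Curv2.deg k X L 1 ∧ (Curv2.deg k X N 1 = Curv2.deg k X L 1 → IsIso φ) := by
  obtain ⟨hmono, U, hU, hdisj⟩ := mono_and_disjoint hN hL φ hφ
  haveI := hmono
  have : IsLocallyNoetherian X := LocallyOfFiniteType.isLocallyNoetherian (X ↘ Spec (CommRingCat.of k))
  have hcN := Groth.Agent.InvPow.isCoh_of_isInvertible hN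
  have hcL := Groth.Agent.InvPow.isCoh_of_isInvertible hL
  have hQ := Groth.Agent.QCohLib.isCoh_cokernel φ hcN.1 hcL
  let S := ShortComplex.mk φ (cokernel.π φ) (cokernel.condition φ)
  have hS : S.ShortExact := { exact := ShortComplex.exact_of_g_is_cokernel _ (cokernelIsCokernel _) }
  have he := Groth.Agent.HilbPoly.euler_additive (k := k) hS hcN hcL hQ
  dsimp only [S] at he
  have hd := Groth.Agent.CurveDeg.dim_compl_le_zero hdim.le hU (Groth.Agent.QCohLib.isClosed_support hQ.2) hdisj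
  have h0 := Groth.Agent.CurveDeg.euler_nonneg_of_dim_zero k hQ hd
  refine ⟨by simp only [Curv2.deg]; linarith, fun heq => ?_⟩
  have hz : IsZero (cokernel φ) := Groth.Agent.QCohLib.isZero_of_subsingleton_stalk fun x => by
    by_contra hx
    have hp := Groth.Agent.CurveDeg.euler_pos_of_dim_zero k hQ hd (x := x) hx
    simp only [Curv2.deg] at heq
    linarith
  haveI : Epi φ := Abelian.epi_of_cokernel_π_eq_zero φ (hz.eq_of_tgt _ _)
  exact isIso_of_mono_of_epi φ

end Groth.Agent.S1521
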