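import Groth.Statements.S0560
import Groth.Agent.DepthLib.CMModule
import Groth.Agent.DepthLib.Generators

set_option autoImplicit false
universe u
open CAlg

namespace Groth.Agent.S0560

/-- Regularity of a Noetherian local ring can be checked after dividing out one nonzerodivisor lying in
the maximal ideal: if that quotient is a regular local ring, so is the original ring. -/
theorem result (R : Type u) [CommRing R] [IsLocalRing R]
    [IsNoetherianRing R] (x : R) (hx : x ∈ IsLocalRing.maximalIdeal R) (hreg : x ∈ nonZeroDivisors R)
    [IsRegularLocalRing (R ⧸ Ideal.span ({x} : Set R))] : IsRegularLocalRing R := by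
  haveI := Ideal.Quotient.nontrivial_iff.mpr (ne_top_of_le_ne_top
    (IsLocalRing.maximalIdeal.isMaximal R).ne_top ((Ideal.span_singleton_le_iff_mem _).mpr hx))
  classical
  obtain ⟨S, hS, hspan⟩ := DepthLib.exists_lift_generators (Ideal.span ({x} : Set R))
  refine IsRegularLocalRing.of_spanFinrank_maximalIdeal_le R ?_
  rw [← ringKrullDim_quotient_span_singleton_succ_eq_ringKrullDim_of_mem_nonZeroDivisors hreg hx,
    ← IsRegularLocalRing.spanFinrank_maximalIdeal (R := R ⧸ Ideal.span ({x} : Set R))]
  have h1 : (IsLocalRing.maximalIdeal R).spanFinrank ≤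
      (IsLocalRing.maximalIdeal (R ⧸ Ideal.span ({x} : Set R))).spanFinrank + 1 := by
    rw [← hspan, ← Ideal.span_union]
    refine (Submodule.spanFinrank_span_le_ncard_of_finite (S.finite_toSet.union (Set.finite_singleton x))).trans ?_
    refine (Set.ncard_union_le _ _).trans ?_
    rw [Set.ncard_coe_finset, Set.ncard_singleton]
    omega
  exact_mod_cast h1

end Groth.Agent.S0560
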