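import Groth.Statements.S9246
import Groth.Agent.J2Lib.Descent

set_option autoImplicit false
universe u
open CAlg

namespace Groth.Agent.S9246

/-- Let A → B be an étale ring map and q a prime of B lying over the prime p of A. Then A_p is a regular
local ring if and only if B_q is a regular local ring. -/
theorem result (A B : Type u) [CommRing A] [CommRing B]
    [Algebra A B] [Algebra.Etale A B] (q : Ideal B) [q.IsPrime] :
    IsRegularLocalRing (Localization.AtPrime (Ideal.comap (algebraMap A B) q)) ↔
      IsRegularLocalRing (Localization.AtPrime q) := by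
  let p := Ideal.comap (algebraMap A B) q
  let Ap := Localization.AtPrime p
  let Bq := Localization.AtPrime q
  letI : Algebra Ap Bq := (Localization.localRingHom p q (algebraMap A B) rfl).toAlgebra
  haveI : IsScalarTower A Ap Bq := IsScalarTower.of_algebraMap_eq fun x => by
    rw [RingHom.algebraMap_toAlgebra, Localization.localRingHom_to_map,
      ← IsScalarTower.algebraMap_apply]
  haveI : IsLocalHom (algebraMap Ap Bq) :=
    Localization.isLocalHom_localRingHom p q (algebraMap A B) rfl
  haveI : Module.Flat A Bq := Module.Flat.trans A B Bq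
  haveI : Module.Flat Ap Bq :=
    (Module.flat_iff_of_isLocalization Ap p.primeCompl Bq).2 inferInstance
  haveI : Algebra.FormallyUnramified B Bq :=
    Algebra.FormallyUnramified.of_isLocalization (Rₘ := Bq) q.primeCompl
  haveI : Algebra.FormallyUnramified A Bq := Algebra.FormallyUnramified.comp A B Bq
  haveI : Algebra.FormallyUnramified Ap Bq := Algebra.FormallyUnramified.of_restrictScalars A Ap Bq
  haveI : Algebra.EssFiniteType B Bq := Algebra.EssFiniteType.of_isLocalization Bq q.primeCompl
  haveI : Algebra.EssFiniteType A Bq := Algebra.EssFiniteType.comp A B Bq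
  haveI : Algebra.EssFiniteType Ap Bq := Algebra.EssFiniteType.of_comp A Ap Bq
  haveI := Module.FaithfullyFlat.of_flat_of_isLocalHom (A := Ap) (B := Bq)
  constructor
  · intro h
    haveI : IsRegularLocalRing Ap := h
    haveI : IsNoetherianRing Bq := Algebra.EssFiniteType.isNoetherianRing Ap Bq
    exact J2Lib.isRegularLocalRing_of_flat_of_map_maximalIdeal Ap Bq
      Algebra.FormallyUnramified.map_maximalIdeal
  · intro h
    haveI : IsRegularLocalRing Bq := h
    haveI : IsNoetherianRing Ap := by
      rw [isNoetherianRing_iff, isNoetherian_iff']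
      refine StrictMono.wellFoundedGT (f := fun I : Ideal Ap => I.map (algebraMap Ap Bq)) ?_
      intro (I : Ideal Ap) (J : Ideal Ap) hIJ
      refine lt_of_le_of_ne (Ideal.map_mono hIJ.le) fun he => hIJ.ne ?_
      replace he : Ideal.map (algebraMap Ap Bq) I = Ideal.map (algebraMap Ap Bq) J := he
      rw [← Ideal.comap_map_eq_self_of_faithfullyFlat (B := Bq) I, he,
        Ideal.comap_map_eq_self_of_faithfullyFlat]
    exact J2Lib.isRegularLocalRing_of_flat Ap Bq

end Groth.Agent.S9246
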