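import Groth.Statements.S9826
import Groth.Agent.QCohLib.Coherent

set_option autoImplicit false
universe u
open CategoryTheory CategoryTheory.Limits AlgebraicGeometry TopologicalSpace Opposite
open Props

namespace Groth.Agent.S9826

/-- The sheaf associated to a module over a ring is of finite type on the spectrum if and only if the
module is finitely generated. -/
theorem result (R : CommRingCat.{u}) (M : ModuleCat.{u} R) :
    CohB1.IsFT (tilde M) ↔ Module.Finite R M := by
  have e : M ≅ Groth.Agent.QCohLib.ΓR (tilde M) := tilde.isoTop M
  exact (Groth.Agent.QCohLib.isFiniteType_iff_Spec (P := tilde M)).trans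
    ⟨fun _ => Module.Finite.equiv e.toLinearEquiv.symm, fun _ => Module.Finite.equiv e.toLinearEquiv⟩

end Groth.Agent.S9826
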