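import Groth.Statements.S9069
import Groth.Agent.DerAdj.Devissage

set_option autoImplicit false
universe u
open CategoryTheory CategoryTheory.Limits Opposite
attribute [local instance] HasDerivedCategory.standard
open SiteCmp

namespace Groth.Agent.S9069

open Groth.Agent.DerAdj DerivedCategory in
theorem main {A₀ : Type*} {B₀ : Type*} [Category* A₀] [Category* B₀] [Abelian A₀] [Abelian B₀]
    [HasDerivedCategory A₀] [HasDerivedCategory B₀] (G : B₀ ⥤ A₀) [G.Additive] [PreservesFiniteLimits G]
    [PreservesFiniteColimits G] {R : DerivedCategory A₀ ⥤ DerivedCategory B₀}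
    (adj : G.mapDerivedCategory ⊣ R) (A : ObjectProperty A₀) [WSerre.IsWeakSerre A]
    (A' : ObjectProperty B₀) [WSerre.IsWeakSerre A']
    (h2a : ∀ F' : B₀, A' F' → A (G.obj F'))
    (h2c : ∀ F : A₀, A F → ∃ F' : B₀, A' F' ∧ Nonempty (G.obj F' ≅ F))
    (h3 : ∀ F' : B₀, A' F' → IsIso (adj.unit.app ((singleFunctor B₀ 0).obj F'))) :
    (∀ Y : DerivedCategory B₀, WSerre.cohInPlus A' Y →
      WSerre.cohInPlus A (G.mapDerivedCategory.obj Y) ∧ IsIso (adj.unit.app Y)) ∧
    (∀ X : DerivedCategory A₀, WSerre.cohInPlus A X →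
      WSerre.cohInPlus A' (R.obj X) ∧ IsIso (adj.counit.app X)) := by
  letI := adj.rightAdjointCommShift ℤ
  haveI := adj.commShift_of_leftAdjoint ℤ
  haveI := adj.isTriangulated_rightAdjoint
  refine ⟨fun Y hY => ?_, fun X hX => ?_⟩
  · obtain ⟨hA', n, hn⟩ := hY
    haveI : Y.IsGE n := hn
    exact ⟨⟨fun i => A.prop_of_iso (homology_mapDerivedCategory G Y i).some.symm (h2a _ (hA' i)),
        n, isGE_mapDerivedCategory G Y n⟩, isIso_unit_of_isGE G adj Y n fun q => h3 _ (hA' q)⟩
  · obtain ⟨hA, n, hn⟩ := hX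
    haveI : X.IsGE n := hn
    have key : ∀ F : A₀, A F → IsIso (adj.counit.app ((singleFunctor A₀ 0).obj F)) ∧
        ∃ F' : B₀, A' F' ∧ Nonempty (R.obj ((singleFunctor A₀ 0).obj F) ≅ (singleFunctor B₀ 0).obj F') := by
      intro F hF
      obtain ⟨F', hF', ⟨e⟩⟩ := h2c F hF
      haveI := h3 F' hF'
      let e' : G.mapDerivedCategory.obj ((singleFunctor B₀ 0).obj F') ≅ (singleFunctor A₀ 0).obj F :=
        (G.mapDerivedCategorySingleFunctor 0).app F' ≪≫ (singleFunctor A₀ 0).mapIso e
      exact ⟨isIso_counit_of_iso G adj e', F', hF',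
        ⟨R.mapIso e'.symm ≪≫ (asIso (adj.unit.app ((singleFunctor B₀ 0).obj F'))).symm⟩⟩
    exact ⟨⟨fun q => homology_rightAdjoint G adj A (fun F hF => (key F hF).2) X n hA q,
        n, isGE_rightAdjoint G adj X n⟩, isIso_counit_of_isGE G adj X n fun q => (key _ (hA q)).1⟩

/-- Let f be a flat morphism from the ringed site (C, O_C) to the ringed site (D, O_D) and A ⊂ Mod(O_C),
A' ⊂ Mod(O_D) weak Serre subcategories such that f^* induces an equivalence of categories A' → A and
F' → Rf_*f^*F' is an isomorphism for every F' ∈ A'. Then f^* : D^+_{A'}(O_D) → D^+_A(O_C) is an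
equivalence with quasi-inverse Rf_*: on bounded below objects with cohomology sheaves in A' (resp.
A) the functor f^* (resp. Rf_*) lands in bounded below objects with cohomology sheaves in A (resp.
A'), and the unit (resp. counit) of the adjunction is an isomorphism there. The adjunction f^* ⊣
Rf_* on unbounded derived categories is a hypothesis; f^* is exact, so it is its own derived
functor. Stated for ringed sites; the published statement is for ringed topoi. -/
theorem result
    {C : Type u} [SmallCategory C] {J : GrothendieckTopology C} {O_C : Sheaf J CommRingCat.{u}}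
    {D : Type u} [SmallCategory D] {K : GrothendieckTopology D} {O_D : Sheaf K CommRingCat.{u}}
    (f : ModSite.RMor O_C O_D) [PreservesFiniteLimits f.pull] [SiteCmp.HasRpushD f]
    (adj : SiteCmp.pullD f ⊣ SiteCmp.RpushD f)
    (A : ObjectProperty (ModSite.Mod O_C)) [WSerre.IsWeakSerre A]
    (A' : ObjectProperty (ModSite.Mod O_D)) [WSerre.IsWeakSerre A']
    (h2a : ∀ F' : ModSite.Mod O_D, A' F' → A (f.pull.obj F'))
    (h2b : ∀ F' G' : ModSite.Mod O_D, A' F' → A' G' →
      Function.Bijective (fun φ : F' ⟶ G' => f.pull.map φ))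
    (h2c : ∀ F : ModSite.Mod O_C, A F → ∃ F' : ModSite.Mod O_D, A' F' ∧ Nonempty (f.pull.obj F' ≅ F))
    (h3 : ∀ F' : ModSite.Mod O_D, A' F' → IsIso (adj.unit.app (SiteCmp.inD O_D F'))) :
    (∀ Y : DerivedCategory (ModSite.Mod O_D), WSerre.cohInPlus A' Y →
      WSerre.cohInPlus A ((SiteCmp.pullD f).obj Y) ∧ IsIso (adj.unit.app Y)) ∧
    (∀ X : DerivedCategory (ModSite.Mod O_C), WSerre.cohInPlus A X →
      WSerre.cohInPlus A' ((SiteCmp.RpushD f).obj X) ∧ IsIso (adj.counit.app X)) := by
  exact main f.pull adj A A' h2a h2c h3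

end Groth.Agent.S9069
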