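import Groth.Statements.S1039
import Groth.Agent.DCohPerf.CohPC
-- import your own Groth.Agent.* helpers here

set_option autoImplicit false
universe u
open CategoryTheory CategoryTheory.Limits AlgebraicGeometry
attribute [local instance] HasDerivedCategory.standard
open Perf

namespace Groth.Agent.S1039

open DCohPerf CategoryTheory.Pretriangulated DerivedCategory TopologicalSpace

lemma isCoh_HD_of_isPC {X : Scheme.{u}} [IsLocallyNoetherian X] {E : DCoh.D X} (hE : DCoh.IsQCohD E) {m : ℤ}
    (h : DCoh.IsPseudoCoherentD m E) (i : ℤ) (hi : m ≤ i) : Coh.IsCoh (DCoh.HD E i) := by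
  choose W j hj w hw hs using (isPC_iff m E).1 h
  refine QCohLib.isCoh_of_cover j (fun x => ⟨x, w x, hw x⟩) fun x => ?_
  obtain ⟨P, α, hP, hα⟩ := hs x
  have : IsLocallyNoetherian (W x) := isLocallyNoetherian_of_isOpenImmersion (j x)
  have := hE i
  have hq : ((DCoh.HD E i).restrict (j x)).IsQuasicoherent := inferInstance
  have hc := isCoh_homology (fun k => isCoh_finLocFree (hP.2 k)) i
  have := hα.epi i hi
  exact QCohLib.isCoh_of_epi (((DerivedCategory.homologyFunctorFactors (W x).Modules i).app P).inv ≫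
    (DerivedCategory.homologyFunctor (W x).Modules i).map α ≫ (homology_restrict (j x) E i).some.hom) hc hq

lemma exists_bound {X : Scheme.{u}} [CompactSpace X] {E : DCoh.D X} {m : ℤ}
    (h : DCoh.IsPseudoCoherentD m E) : ∃ b : ℤ, E.IsLE b := by
  choose W j hj w hw N hN hz using exists_bound_of_isPC h
  obtain ⟨s, hs⟩ := isCompact_univ.elim_finite_subcover (fun x => ((j x).opensRange : Set X))
    (fun x => (j x).opensRange.isOpen) (fun x _ => Set.mem_iUnion.2 ⟨x, w x, hw x⟩)
  obtain ⟨B, hB⟩ := (s.image N).bddAbove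
  refine ⟨B, (DerivedCategory.isLE_iff E B).2 fun i hi => ?_⟩
  refine isZero_of_cover (fun x : s => j x.1) (fun x => ?_) fun x => ?_
  · obtain ⟨y, hy, hxy⟩ := Set.mem_iUnion₂.1 (hs (Set.mem_univ x))
    exact ⟨⟨y, hy⟩, hxy⟩
  · exact (hz x.1 i ((hB (Finset.mem_image_of_mem N x.2)).trans hi.le)).of_iso (homology_restrict (j x.1) E i).some.symm

lemma isPC_of_coh {X : Scheme.{u}} [IsLocallyNoetherian X] {E : DCoh.D X} {m b : ℤ} [E.IsLE b]
    (h : ∀ i : ℤ, m ≤ i → Coh.IsCoh (DCoh.HD E i)) : DCoh.IsPseudoCoherentD m E := by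
  let T := (TStructure.t.triangleLTGE m).obj E
  have hT : T ∈ distTriang _ := TStructure.t.triangleLTGE_distinguished _ _
  have hA : T.obj₁.IsLE (m - 1) := inferInstanceAs (TStructure.t.IsLE _ _)
  have hC : T.obj₃.IsGE m := inferInstanceAs (TStructure.t.IsGE _ _)
  have iso : ∀ i, m ≤ i → IsIso ((homologyFunctor X.Modules i).map T.mor₂) := fun i hi => by
    have h1 : Mono ((homologyFunctor X.Modules i).map T.mor₂) :=
      (HomologySequence.mono_homologyMap_mor₂_iff T hT i).2
        ((isZero_of_isLE T.obj₁ (m - 1) i (by omega)).eq_of_src _ _)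
    have h2 : Epi ((homologyFunctor X.Modules i).map T.mor₂) :=
      (HomologySequence.epi_homologyMap_mor₂_iff T hT i (i + 1) rfl).2
        ((isZero_of_isLE T.obj₁ (m - 1) (i + 1) (by omega)).eq_of_tgt _ _)
    exact isIso_of_mono_of_epi _
  refine isPC_triangle₂ m hT (isPC_of_isZero m fun i hi => isZero_of_isLE T.obj₁ (m - 1) i (by omega))
    (isPC_of_dbCoh ⟨fun i => ?_, m, max b m, hC, ?_⟩ m)
  · by_cases hi : m ≤ i
    · have := iso i hi
      exact QCohLib.isCoh_of_iso (asIso ((homologyFunctor X.Modules i).map T.mor₂)) (h i hi)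
    · exact QCohLib.isCoh_of_isZero (isZero_of_isGE _ m i (by omega))
  · rw [isLE_iff]
    intro i hi
    have := iso i (by omega)
    exact (isZero_of_isLE E b i (by omega)).of_iso (@asIso _ _ _ _ ((homologyFunctor X.Modules i).map T.mor₂) this).symm

/-- Let X be a Noetherian scheme, E ∈ D(O_X) with quasi-coherent cohomology sheaves and m ∈ ℤ. Then
m-pseudo-coherence of E is equivalent to: Hⁱ(E) is coherent for every i ≥ m and vanishes for i
large. -/
theorem result (X : Scheme.{u}) [IsNoetherian X] (E : DCoh.D X) (hE : DCoh.IsQCohD E) (m : ℤ) :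
    DCoh.IsPseudoCoherentD m E ↔ (∀ i : ℤ, m ≤ i → Coh.IsCoh (DCoh.HD E i)) ∧ ∃ b : ℤ, E.IsLE b := by
  exact ⟨fun h => ⟨fun i hi => isCoh_HD_of_isPC hE h i hi, exists_bound h⟩,
    fun ⟨h, b, hb⟩ => isPC_of_coh (b := b) h⟩

end Groth.Agent.S1039
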