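import Groth.Statements.S17541
import Mathlib
-- import your own Groth.Agent.* helpers here

set_option autoImplicit false
universe u v w
open W4c5adicflatcompl
open CAlg

namespace Groth.Agent.S17541

/-- Over a Noetherian ring A which is I-adically complete, for a finitely generated A-module M, a
submodule N and a set Z, a function Z → N decays I-adically in N exactly when it decays I-adically
in M (decaying functions into N are the decaying functions into M with values in N). -/
theorem result {A : Type u} [CommRing A] [IsNoetherianRing A] (I : Ideal A)
    [IsAdicComplete I A] (Z : Type v) (M : Type w) [AddCommGroup M] [Module A M]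
    [Module.Finite A M] (N : Submodule A M) (f : Z → N) :
    f ∈ decaying I Z N ↔ (fun z => (f z : M)) ∈ decaying I Z M := by
  rw [mem_decaying_iff, mem_decaying_iff]
  have hmap : ∀ n, Submodule.map N.subtype (I ^ n • ⊤ : Submodule A N) = I ^ n • N := fun n => by
    rw [Submodule.map_smul'', Submodule.map_subtype_top]
  constructor
  · intro h n
    refine (h n).subset fun z hz hz' => hz ?_
    have := Submodule.mem_map_of_mem (f := N.subtype) hz'
    rw [hmap] at this
    exact Submodule.smul_mono le_rfl le_top this
  · intro h n
    obtain ⟨c, hc⟩ := I.exists_pow_inf_eq_pow_smul N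
    refine (h (n + c)).subset fun z hz hz' => hz ?_
    have h1 : (f z : M) ∈ (I ^ (n + c) • ⊤ ⊓ N : Submodule A M) := ⟨hz', (f z).2⟩
    rw [hc (n + c) (Nat.le_add_left c n), Nat.add_sub_cancel] at h1
    have h2 : (f z : M) ∈ I ^ n • N := Submodule.smul_mono le_rfl inf_le_right h1
    rw [← hmap] at h2
    obtain ⟨y, hy, he⟩ := h2
    rwa [← Subtype.ext he]

end Groth.Agent.S17541
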