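import Groth.Statements.S17542
import Mathlib
-- import your own Groth.Agent.* helpers here

set_option autoImplicit false
universe u v w
open W4c5adicflatcompl
open CAlg

namespace Groth.Agent.S17542

/-- Over a Noetherian ring A which is I-adically complete, for a surjection φ : M → M'' of A-modules
with M finitely generated and a set Z, every I-adically decaying function Z → M'' is the composite
of φ with an I-adically decaying function Z → M. (This is the right exactness of the
decaying-functions functor on finitely generated modules; left exactness is the statement about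
submodules.) -/
theorem result {A : Type u} [CommRing A] [IsNoetherianRing A] (I : Ideal A)
    [IsAdicComplete I A] (Z : Type v) {M : Type w} {M'' : Type w} [AddCommGroup M] [Module A M]
    [Module.Finite A M] [AddCommGroup M''] [Module A M''] (φ : M →ₗ[A] M'')
    (hφ : Function.Surjective φ) (g : Z → M'') (hg : g ∈ decaying I Z M'') :
    ∃ f : Z → M, f ∈ decaying I Z M ∧ ∀ z, φ (f z) = g z := by
  classical
  have : Module.Finite A M'' := Module.Finite.of_surjective φ hφ
  have hH : IsHausdorff I M'' := IsHausdorff.of_le_jacobson I M'' (IsAdicComplete.le_jacobson_bot I)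
  have hlift : ∀ z, ∃ y, φ y = g z ∧
      ∀ n, g z ∈ (I ^ n • ⊤ : Submodule A M'') → y ∈ (I ^ n • ⊤ : Submodule A M) := by
    intro z
    by_cases h0 : g z = 0
    · exact ⟨0, by rw [map_zero, h0], fun n _ => zero_mem _⟩
    have hex : ∃ n, g z ∉ (I ^ n • ⊤ : Submodule A M'') := by
      by_contra hne
      exact h0 (hH.haus' _ fun n => SModEq.zero.mpr (not_not.mp fun h => hne ⟨n, h⟩))
    have hpos : Nat.find hex ≠ 0 := fun h => by
      have := Nat.find_spec hex
      rw [h] at this
      exact this (by simp)
    have hmem : g z ∈ Submodule.map φ (I ^ (Nat.find hex - 1) • ⊤ : Submodule A M) := by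
      rw [Submodule.map_smul'', Submodule.map_top, LinearMap.range_eq_top.mpr hφ]
      exact not_not.mp (Nat.find_min hex (by omega))
    obtain ⟨y, hy, he⟩ := hmem
    refine ⟨y, he, fun n hn => Submodule.smul_mono_left (Ideal.pow_le_pow_right ?_) hy⟩
    by_contra hcon
    exact Nat.find_spec hex (Submodule.smul_mono_left (Ideal.pow_le_pow_right (by omega)) hn)
  choose f hf hf' using hlift
  refine ⟨f, ?_, hf⟩
  rw [mem_decaying_iff] at hg ⊢
  exact fun n => (hg n).subset fun z hz hz' => hz (hf' z n hz')

end Groth.Agent.S17542
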