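import Groth.Statements.S13489
import Groth.Agent.DerCompSec.Push

set_option autoImplicit false
universe u
open CategoryTheory CategoryTheory.Limits Opposite
attribute [local instance] HasDerivedCategory.standard
open DerComp

namespace Groth.Agent.S13489

/-- The morphism of ringed sites of a map of sheaves of rings. -/
noncomputable def rmor {C : Type u} [SmallCategory C] {J : GrothendieckTopology C}
    {O O' : Sheaf J CommRingCat.{u}} (φ : O ⟶ O') : ModSite.RMor O' O where
  fn := 𝟭 C
  exact := (ModSite.RMor.id O).exact
  sharp := φ ≫ ((Functor.sheafPushforwardContinuousId CommRingCat.{u} J).inv.app O')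

/-- Restriction of scalars is the direct image. -/
noncomputable def pushIso {C : Type u} [SmallCategory C] {J : GrothendieckTopology C}
    {O O' : Sheaf J CommRingCat.{u}} (φ : O ⟶ O') :
    SheafOfModules.restrictScalars.{u} ((sheafCompose J (forget₂ CommRingCat.{u} RingCat.{u})).map φ) ≅
      (rmor φ).push :=
  Iso.refl _

/-- Let phi : O -> O' be a homomorphism of sheaves of rings on a site, I a sheaf of ideals of O and I' =
I O' the sheaf of ideals of O' generated by its image. Then K' in D(O') is derived complete with
respect to I O' if and only if its image under the restriction functor D(O') -> D(O) is derived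
complete with respect to I. The restriction functor is the one induced on derived categories by
restriction of scalars, whose exactness is taken as instance hypotheses. -/
theorem result {C : Type u} [SmallCategory C] {J : GrothendieckTopology C} {O O' : Sheaf J CommRingCat.{u}} (φ : O ⟶ O') (I : DerComp.IdealSh O) (I' : DerComp.IdealSh O') (hI' : DerComp.IsIdealExt φ I I') [PreservesFiniteLimits (SheafOfModules.restrictScalars.{u} ((sheafCompose J (forget₂ CommRingCat.{u} RingCat.{u})).map φ))] [PreservesFiniteColimits (SheafOfModules.restrictScalars.{u} ((sheafCompose J (forget₂ CommRingCat.{u} RingCat.{u})).map φ))] (K' : DerivedCategory (ModSite.Mod O')) : DerComp.IsDerComp O' I' K' ↔ DerComp.IsDerComp O I ((SheafOfModules.restrictScalars.{u} ((sheafCompose J (forget₂ CommRingCat.{u} RingCat.{u})).map φ)).mapDerivedCategory.obj K') := by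
  obtain ⟨A, hA, hinj, ⟨e⟩⟩ := DerCompSec.exists_model K'
  haveI := ModGroth.sheaf_isGrothendieckAbelian (ModSite.ringSh O)
  obtain ⟨Jc, q, hJ, hq, -, hJinj⟩ := TriH.exists_kInjective_resolution (RpushLeft.pushCx (rmor φ) A)
  haveI := hJ
  haveI := hq
  let R := SheafOfModules.restrictScalars.{u} ((sheafCompose J (forget₂ CommRingCat.{u} RingCat.{u})).map φ)
  let e' : DerivedCategory.Q.obj Jc ≅ R.mapDerivedCategory.obj K' :=
    (asIso (DerivedCategory.Q.map q)).symm ≪≫
      DerivedCategory.Q.mapIso ((NatIso.mapHomologicalComplex (pushIso φ) (ComplexShape.up ℤ)).app A).symm ≪≫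
      (R.mapDerivedCategoryFactors.app A).symm ≪≫ R.mapDerivedCategory.mapIso e
  rw [DerCompSec.isDerComp_iff_le A hinj e]
  rw [DerCompSec.isDerComp_iff_le Jc hJinj e']
  have key : ∀ (U : C) (g : O.obj.obj (op U)),
      g ∈ (DerCompSec.goodIdeal Jc hJinj).ideal U ↔ (φ.hom.app (op U)).hom g ∈ (DerCompSec.goodIdeal A hinj).ideal U := by
    intro U g
    refine forall₂_congr fun V k => ?_
    refine (DerCompSec.goodH_push_iff (rmor φ) A q V _).trans ?_
    have h : DerCompSec.sharpApp (rmor φ) V ((O.obj.map k.op).hom g) =
        (O'.obj.map k.op).hom ((φ.hom.app (op U)).hom g) :=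
      ConcreteCategory.congr_hom (φ.hom.naturality k.op) g
    rw [h]
    exact Iff.rfl
  exact ⟨fun h U g hg => (key U g).2 (h U (hI'.1 U g hg)),
    fun h => hI'.2 _ fun U g hg => (key U g).1 (h U hg)⟩

end Groth.Agent.S13489
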