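import Groth.Statements.S9273
import Groth.Agent.RegSeq.Basic
import Mathlib.LinearAlgebra.TensorProduct.Pi
-- import your own Groth.Agent.* helpers here

set_option autoImplicit false
universe u
open CAlgX

namespace Groth.Agent.S9273

open TensorProduct in
theorem lTensor_injective_aux {A J B Q K P M : Type u} [CommRing A] [AddCommGroup J] [Module A J]
    [AddCommGroup B] [Module A B] [AddCommGroup Q] [Module A Q] [Module.Flat A Q]
    [AddCommGroup K] [Module A K] [AddCommGroup P] [Module A P] [Module.Flat A P] [AddCommGroup M] [Module A M]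
    (j : J →ₗ[A] B) (hj : Function.Injective j) (q : B →ₗ[A] Q) (hjq : Function.Exact j q)
    (hq : Function.Surjective q) (κ : K →ₗ[A] P) (hκ : Function.Injective κ) (π : P →ₗ[A] M)
    (hπκ : Function.Exact κ π) (hπ : Function.Surjective π) :
    Function.Injective (j.lTensor M) := by
  rw [injective_iff_map_eq_zero]
  intro x hx
  obtain ⟨x', rfl⟩ := LinearMap.rTensor_surjective J hπ x
  have h1 : π.rTensor B (j.lTensor P x') = 0 := by
    rw [← LinearMap.comp_apply, LinearMap.rTensor_comp_lTensor, ← LinearMap.lTensor_comp_rTensor]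
    exact hx
  obtain ⟨y, hy⟩ := (rTensor_exact B hπκ hπ _).1 h1
  have h2 : q.lTensor K y = 0 := by
    refine (injective_iff_map_eq_zero _).1
      (Module.Flat.rTensor_preserves_injective_linearMap (M := Q) κ hκ) _ ?_
    rw [← LinearMap.comp_apply, LinearMap.rTensor_comp_lTensor, ← LinearMap.lTensor_comp_rTensor,
      LinearMap.comp_apply, hy, ← LinearMap.lTensor_comp_apply, hjq.linearMap_comp_eq_zero]
    simp
  obtain ⟨z, rfl⟩ := (lTensor_exact _ hjq hq _).1 h2
  have h3 : x' = κ.rTensor J z := by
    refine Module.Flat.lTensor_preserves_injective_linearMap (M := P) j hj ?_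
    rw [← hy, ← LinearMap.comp_apply, LinearMap.rTensor_comp_lTensor, ← LinearMap.lTensor_comp_rTensor]
    rfl
  rw [h3, ← LinearMap.rTensor_comp_apply, hπκ.linearMap_comp_eq_zero]
  simp

/-- A short exact sequence with flat cokernel stays exact after tensoring. -/
theorem lTensor_injective_of_flat_quotient {A J B Q : Type u} [CommRing A] [AddCommGroup J] [Module A J]
    [AddCommGroup B] [Module A B] [AddCommGroup Q] [Module A Q] [Module.Flat A Q]
    (j : J →ₗ[A] B) (hj : Function.Injective j) (q : B →ₗ[A] Q) (hjq : Function.Exact j q)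
    (hq : Function.Surjective q) (M : Type u) [AddCommGroup M] [Module A M] :
    Function.Injective (j.lTensor M) :=
  lTensor_injective_aux (K := LinearMap.ker (Finsupp.linearCombination A (id : M → M))) (P := M →₀ A) (M := M)
    j hj q hjq hq (Submodule.subtype _) Subtype.val_injective (Finsupp.linearCombination A (id : M → M))
    (fun a => ⟨fun h => ⟨⟨a, h⟩, rfl⟩, fun ⟨b, hb⟩ => hb ▸ b.2⟩) (Finsupp.linearCombination_id_surjective A M)

/-- Let A → B and A → A' be ring maps and B' = A' ⊗_A B. If f_1, ..., f_r is an H_1-regular sequence in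
B with B/(f_1, ..., f_r) flat over A, then the images of the f_i in B' form an H_1-regular sequence. -/
theorem result (A B A' : Type u) [CommRing A] [CommRing B]
    [CommRing A'] [Algebra A B] [Algebra A A'] (r : ℕ) (f : Fin r → B)
    (hflat : Module.Flat A (B ⧸ Ideal.span (Set.range f))) (hq : CAlgX.IsH1Regular f) :
    CAlgX.IsH1Regular (fun i => ((1 : A') ⊗ₜ[A] f i : TensorProduct A A' B)) := by
  intro a ha
  set J := Ideal.span (Set.range f) with hJ
  let Φ : (Fin r → B) →ₗ[A] J := {
    toFun := fun b => ⟨∑ i, b i * f i, Submodule.sum_mem _ fun i _ =>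
      Ideal.mul_mem_left _ _ (Ideal.subset_span ⟨i, rfl⟩)⟩
    map_add' := fun b c => Subtype.ext (by simp [add_mul, Finset.sum_add_distrib])
    map_smul' := fun s b => Subtype.ext (by simp [Finset.smul_sum]) }
  have hΦ : Function.Surjective Φ := fun ⟨x, hx⟩ => by
    obtain ⟨c, hc⟩ := Ideal.mem_span_range_iff_exists_fun.1 hx
    exact ⟨c, Subtype.ext hc⟩
  let ι : (Groth.Agent.RegSeq.triv f).restrictScalars A →ₗ[A] (Fin r → B) := Submodule.subtype _
  have hex : Function.Exact ι Φ := fun b => by
    constructor
    · exact fun h => ⟨⟨b, hq b (congrArg Subtype.val h)⟩, rfl⟩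
    · rintro ⟨⟨c, hc⟩, rfl⟩
      refine Subtype.ext ?_
      show ∑ i, c i * f i = 0
      induction hc using Submodule.span_induction with
      | mem v hv =>
        obtain ⟨i, j, rfl⟩ := hv
        simp [sub_mul, Finset.sum_sub_distrib, Pi.single_apply, ite_mul, mul_comm (f i) (f j)]
      | zero => simp
      | add a b _ _ ha hb => simp [add_mul, Finset.sum_add_distrib, ha, hb]
      | smul s a _ ha => simp [mul_assoc, ← Finset.mul_sum, ha]
  let e : TensorProduct A A' (Fin r → B) ≃ₗ[A] (Fin r → TensorProduct A A' B) :=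
    (TensorProduct.piRight A A A' (fun _ : Fin r => B))
  let jj : J →ₗ[A] B := (J.subtype).restrictScalars A
  have hjinj : Function.Injective (jj.lTensor A') :=
    lTensor_injective_of_flat_quotient jj J.injective_subtype ((Ideal.Quotient.mkₐ A J).toLinearMap)
      (fun b => ⟨fun h => ⟨⟨b, Ideal.Quotient.eq_zero_iff_mem.1 h⟩, rfl⟩,
        fun ⟨c, hc⟩ => hc ▸ Ideal.Quotient.eq_zero_iff_mem.2 c.2⟩) Ideal.Quotient.mk_surjective A'
  have he : ∀ t : TensorProduct A A' (Fin r → B),
      (jj ∘ₗ Φ).lTensor A' t = ∑ i, e t i * ((1 : A') ⊗ₜ[A] f i) := by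
    intro t
    induction t using TensorProduct.induction_on with
    | zero => simp
    | tmul s b => simp [e, jj, Φ, TensorProduct.tmul_sum, Algebra.TensorProduct.tmul_mul_tmul]
    | add x y hx hy => simp [map_add, hx, hy, add_mul, Finset.sum_add_distrib]
  have hmem : ∀ t : TensorProduct A A' ((Groth.Agent.RegSeq.triv f).restrictScalars A),
      e (ι.lTensor A' t) ∈ Groth.Agent.RegSeq.triv (fun i => ((1 : A') ⊗ₜ[A] f i : TensorProduct A A' B)) := by
    intro t
    induction t using TensorProduct.induction_on with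
    | zero => simp
    | add x y hx hy => simp only [map_add]; exact add_mem hx hy
    | tmul s c =>
      have : e (ι.lTensor A' (s ⊗ₜ c)) = (s ⊗ₜ[A] (1 : B) : TensorProduct A A' B) •
          ((Algebra.TensorProduct.includeRight : B →ₐ[A] TensorProduct A A' B).toRingHom ∘ (c : Fin r → B)) := by
        funext i
        simp [e, ι, Algebra.TensorProduct.tmul_mul_tmul]
      rw [this]
      have hc : (c : Fin r → B) ∈ Groth.Agent.RegSeq.triv f := c.2
      have h1 := Groth.Agent.RegSeq.map_mem_triv
        (Algebra.TensorProduct.includeRight : B →ₐ[A] TensorProduct A A' B).toRingHom hc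
      exact Submodule.smul_mem _ _ h1
  have h0' : jj.lTensor A' (Φ.lTensor A' (e.symm a)) = 0 :=
    (LinearMap.lTensor_comp_apply A' jj Φ (e.symm a)).symm.trans
      ((he (e.symm a)).trans ((Finset.sum_congr rfl fun i _ => congrArg (· * _)
        (congrFun (e.apply_symm_apply a) i)).trans ha))
  have h0 : Φ.lTensor A' (e.symm a) = 0 := hjinj (h0'.trans (map_zero _).symm)
  obtain ⟨t, ht⟩ := (lTensor_exact A' hex hΦ _).1 h0
  have := hmem t
  rwa [ht, e.apply_symm_apply] at this

end Groth.Agent.S9273
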