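import Mathlib
import Groth.Prelude.Def_CycAlg

/-!
Principalization of a two-generated ideal in a one-dimensional Noetherian local ring.
-/

set_option autoImplicit false
set_option linter.style.haveILetI false
universe u

namespace DimOneBlowUp

variable {R : Type u} [CommRing R]

theorem pow_span_pair (a b : R) : ∀ N : ℕ, (Ideal.span {a, b}) ^ N ≤
    Ideal.span (Set.range fun i : Fin (N + 1) => a ^ (N - i) * b ^ (i : ℕ))
  | 0 => by
    rw [pow_zero, Ideal.one_eq_top, top_le_iff, Ideal.eq_top_iff_one]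
    exact Ideal.subset_span ⟨0, by simp⟩
  | N + 1 => by
    rw [pow_succ]
    refine (Ideal.mul_mono_left (pow_span_pair a b N)).trans ?_
    rw [Ideal.span_mul_span', Ideal.span_le]
    rintro _ ⟨_, ⟨i, rfl⟩, y, hy, rfl⟩
    have hi := i.2
    rcases hy with rfl | hy
    · refine Ideal.subset_span ⟨⟨i, by omega⟩, ?_⟩
      simp only []
      rw [show N + 1 - (i : ℕ) = N - i + 1 by omega, pow_succ]
      ring
    · rw [Set.mem_singleton_iff.1 hy]
      refine Ideal.subset_span ⟨⟨i + 1, by omega⟩, ?_⟩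
      simp only []
      rw [show N + 1 - ((i : ℕ) + 1) = N - i by omega, pow_succ]
      ring

theorem monomial_mem (a b : R) (i j : ℕ) : a ^ i * b ^ j ∈ (Ideal.span {a, b}) ^ (i + j) := by
  rw [pow_add]
  have ha : a ∈ Ideal.span {a, b} := Ideal.mem_span_pair.2 ⟨1, 0, by simp⟩
  have hb : b ∈ Ideal.span {a, b} := Ideal.mem_span_pair.2 ⟨0, 1, by simp⟩
  exact Ideal.mul_mem_mul (Ideal.pow_mem_pow ha i) (Ideal.pow_mem_pow hb j)

variable [IsNoetherianRing R] [IsLocalRing R]

theorem isArtinian_quotient (hR : ringKrullDim R = 1) {y : R} (hy : y ∈ nonZeroDivisors R) :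
    IsArtinianRing (R ⧸ Ideal.span {y}) := by
  have h := ringKrullDim_quotient_succ_le_of_nonZeroDivisor hy
  rw [hR] at h
  haveI : Ring.KrullDimLE 0 (R ⧸ Ideal.span {y}) := by
    rw [Ring.krullDimLE_iff]
    revert h
    generalize ringKrullDim (R ⧸ Ideal.span {y}) = d
    intro h
    induction d with
    | bot => exact bot_le
    | coe d =>
      norm_cast at h ⊢
      induction d with
      | top => simp at h
      | coe d => norm_cast at h ⊢; omega
  exact IsNoetherianRing.isArtinianRing_of_krullDimLE_zero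

theorem length_quotient_ne_top (hR : ringKrullDim R = 1) {y : R} (hy : y ∈ nonZeroDivisors R) :
    Module.length R (R ⧸ Ideal.span {y}) ≠ ⊤ := by
  haveI := isArtinian_quotient hR hy
  haveI : IsArtinian R (R ⧸ Ideal.span {y}) :=
    isArtinian_of_surjective_algebraMap (R := R ⧸ Ideal.span {y}) (S := R)
      Ideal.Quotient.mk_surjective
  exact Module.length_ne_top

theorem exists_pow_le (hR : ringKrullDim R = 1) {y : R} (hy : y ∈ nonZeroDivisors R) :
    ∃ k, (IsLocalRing.maximalIdeal R) ^ k ≤ Ideal.span {y} := by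
  haveI := isArtinian_quotient hR hy
  have hrad : IsLocalRing.maximalIdeal R ≤ (Ideal.span {y}).radical := by
    rw [Ideal.radical_eq_sInf]
    refine le_sInf fun P ⟨hle, hP⟩ => ?_
    haveI := hP
    haveI : (P.map (Ideal.Quotient.mk (Ideal.span {y}))).IsPrime :=
      Ideal.map_isPrime_of_surjective Ideal.Quotient.mk_surjective (by rwa [Ideal.mk_ker])
    haveI : (P.map (Ideal.Quotient.mk (Ideal.span {y}))).IsMaximal := inferInstance
    have := Ideal.comap_isMaximal_of_surjective (Ideal.Quotient.mk (Ideal.span {y}))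
      Ideal.Quotient.mk_surjective (K := P.map (Ideal.Quotient.mk (Ideal.span {y})))
    rw [Ideal.comap_map_of_surjective' _ Ideal.Quotient.mk_surjective, Ideal.mk_ker,
      sup_eq_left.2 hle] at this
    exact (IsLocalRing.eq_maximalIdeal this).ge
  obtain ⟨k, hk⟩ := (Ideal.span {y}).exists_radical_pow_le_of_fg (IsNoetherian.noetherian _)
  exact ⟨k, (Ideal.pow_right_mono hrad k).trans hk⟩

/-- The monomials of degree `n` in `a, b` satisfy a relation with a unit coefficient. -/
theorem exists_relation (hR : ringKrullDim R = 1) (a b : R) (ha : a ∈ nonZeroDivisors R)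
    (ham : a ∈ IsLocalRing.maximalIdeal R) :
    ∃ (n : ℕ) (c : ℕ → R), (∑ j ∈ Finset.range (n + 1), c j * (a ^ (n - j) * b ^ j)) = 0 ∧
      ∃ j ≤ n, IsUnit (c j) := by
  classical
  obtain ⟨n, hn⟩ := WithTop.ne_top_iff_exists.1 (length_quotient_ne_top hR ha)
  refine ⟨n, ?_⟩
  by_contra hcon
  push Not at hcon
  set I : Ideal R := (Ideal.span {a, b}) ^ n with hI
  let m := IsLocalRing.maximalIdeal R
  let w : Fin (n + 1) → I := fun i => ⟨a ^ (n - i) * b ^ (i : ℕ), by
    have := monomial_mem a b (n - i) i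
    rwa [show n - (i : ℕ) + i = n by omega] at this⟩
  let ψ : (Fin (n + 1) → R) →ₗ[R] I := Fintype.linearCombination R w
  have hψ : Function.Surjective ψ := by
    rintro ⟨z, hz⟩
    obtain ⟨c, hc⟩ := (Submodule.mem_span_range_iff_exists_fun R).1 (pow_span_pair a b n hz)
    exact ⟨c, Subtype.ext (by simpa [ψ, Fintype.linearCombination_apply, w] using hc)⟩
  let Φ : (Fin (n + 1) → R) →ₗ[R] (Fin (n + 1) → R ⧸ m) :=
    LinearMap.pi fun i => m.mkQ ∘ₗ LinearMap.proj i
  have hker : LinearMap.ker ψ ≤ LinearMap.ker Φ := by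
    intro c hc
    refine funext fun i => (Submodule.Quotient.mk_eq_zero m).2 ?_
    by_contra hi
    let c' : ℕ → R := fun j => if h : j < n + 1 then c ⟨j, h⟩ else 0
    have hc' : ∀ j : Fin (n + 1), c' j = c j := fun j => dif_pos j.2
    refine hcon c' ?_ i (Nat.lt_succ_iff.1 i.2) ?_
    · have := congrArg Subtype.val (LinearMap.mem_ker.1 hc)
      rw [Finset.sum_range]
      simp only [hc']
      simpa [ψ, Fintype.linearCombination_apply, w] using this
    · rw [hc']
      simpa [m, IsLocalRing.mem_maximalIdeal] using hi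
  let χ : I →ₗ[R] (Fin (n + 1) → R ⧸ m) :=
    (LinearMap.ker ψ).liftQ Φ hker ∘ₗ (ψ.quotKerEquivOfSurjective hψ).symm.toLinearMap
  have hχψ : ∀ c, χ (ψ c) = Φ c := fun c => by
    have : (ψ.quotKerEquivOfSurjective hψ).symm (ψ c) = (LinearMap.ker ψ).mkQ c :=
      (LinearEquiv.symm_apply_eq _).2 rfl
    show (LinearMap.ker ψ).liftQ Φ hker _ = _
    rw [LinearEquiv.coe_coe, this]
    rfl
  have hχ : Function.Surjective χ := fun v => by
    choose c hc using fun i => Submodule.mkQ_surjective m (v i)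
    exact ⟨ψ c, (hχψ c).trans (funext hc)⟩
  -- `a • I` inside `I`
  let N : Submodule R I := LinearMap.range (LinearMap.lsmul R I a)
  have hNχ : N ≤ LinearMap.ker χ := by
    rintro _ ⟨z, rfl⟩
    rw [LinearMap.mem_ker, LinearMap.lsmul_apply, map_smul]
    ext i
    obtain ⟨q, hq⟩ := Submodule.mkQ_surjective m (χ z i)
    rw [Pi.smul_apply, ← hq, ← map_smul, Pi.zero_apply, Submodule.mkQ_apply,
      Submodule.Quotient.mk_eq_zero]
    exact Ideal.mul_mem_right _ _ ham
  have h1 : ((n + 1 : ℕ) : ℕ∞) ≤ Module.length R (I ⧸ N) := by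
    have h := Module.length_le_of_surjective (N.liftQ χ hNχ) (by
      intro v; obtain ⟨z, rfl⟩ := hχ v; exact ⟨N.mkQ z, rfl⟩)
    haveI : IsSimpleModule R (R ⧸ m) := isSimpleModule_iff_isCoatom.2
      (IsLocalRing.maximalIdeal.isMaximal R).out
    rw [Module.length_pi_of_fintype] at h
    simpa [Module.length_eq_one] using h
  -- the two computations of `length (R / aI)`
  let K : Submodule R R := Submodule.map I.subtype N
  have hK : K ≤ I := Submodule.map_subtype_le I N
  have hKmem : ∀ z, z ∈ K ↔ ∃ x ∈ I, a * x = z := fun z => by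
    constructor
    · rintro ⟨_, ⟨x, rfl⟩, rfl⟩
      exact ⟨x, x.2, rfl⟩
    · rintro ⟨x, hx, rfl⟩
      exact ⟨a • ⟨x, hx⟩, ⟨⟨x, hx⟩, rfl⟩, rfl⟩
  let f1 : (I ⧸ N) →ₗ[R] R ⧸ K := N.mapQ K I.subtype (Submodule.le_comap_map _ _)
  have hf1 : Function.Injective f1 := by
    rw [← LinearMap.ker_eq_bot, eq_bot_iff]
    intro z hz
    obtain ⟨z, rfl⟩ := N.mkQ_surjective z
    obtain ⟨x, hx, hxz⟩ := (hKmem _).1 ((Submodule.Quotient.mk_eq_zero K).1 hz)
    exact (Submodule.mem_bot R).2 ((Submodule.Quotient.mk_eq_zero N).2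
      ⟨⟨x, hx⟩, Subtype.ext hxz⟩)
  let g1 : (R ⧸ K) →ₗ[R] R ⧸ I := Submodule.factor hK
  have e1 : Module.length R (R ⧸ K) = Module.length R (I ⧸ N) + Module.length R (R ⧸ I) := by
    refine Module.length_eq_add_of_exact f1 g1 hf1 (Submodule.factor_surjective hK) fun z => ?_
    obtain ⟨z, rfl⟩ := K.mkQ_surjective z
    constructor
    · intro hz
      exact ⟨N.mkQ ⟨z, (Submodule.Quotient.mk_eq_zero I).1 hz⟩, rfl⟩
    · rintro ⟨x, hx⟩
      obtain ⟨x, rfl⟩ := N.mkQ_surjective x
      rw [← hx]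
      exact (Submodule.Quotient.mk_eq_zero I).2 x.2
  let f2 : (R ⧸ I) →ₗ[R] R ⧸ K := Submodule.mapQ I K (LinearMap.lsmul R R a) fun x hx =>
    (hKmem _).2 ⟨x, hx, rfl⟩
  have hf2 : Function.Injective f2 := by
    rw [← LinearMap.ker_eq_bot, eq_bot_iff]
    intro z hz
    obtain ⟨z, rfl⟩ := Submodule.mkQ_surjective I z
    obtain ⟨x, hx, hxz⟩ := (hKmem _).1 ((Submodule.Quotient.mk_eq_zero K).1 hz)
    have : x = z := (mem_nonZeroDivisors_iff_right.1 ha (x - z) (by rw [sub_mul, mul_comm x, mul_comm z]; exact sub_eq_zero.2 hxz) |> sub_eq_zero.1)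
    exact (Submodule.mem_bot R).2 ((Submodule.Quotient.mk_eq_zero I).2 (this ▸ hx))
  have hKa : K ≤ Ideal.span {a} := fun z hz => by
    obtain ⟨x, -, rfl⟩ := (hKmem z).1 hz
    exact Ideal.mem_span_singleton.2 (dvd_mul_right a x)
  have e2 : Module.length R (R ⧸ K) =
      Module.length R (R ⧸ I) + Module.length R (R ⧸ Ideal.span {a}) := by
    refine Module.length_eq_add_of_exact f2 (Submodule.factor hKa) hf2
      (Submodule.factor_surjective hKa) fun z => ?_
    obtain ⟨z, rfl⟩ := K.mkQ_surjective z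
    constructor
    · intro hz
      obtain ⟨x, rfl⟩ := Ideal.mem_span_singleton'.1 ((Submodule.Quotient.mk_eq_zero _).1 hz)
      exact ⟨Submodule.mkQ I x, congrArg K.mkQ (mul_comm a x)⟩
    · rintro ⟨x, hx⟩
      obtain ⟨x, rfl⟩ := Submodule.mkQ_surjective I x
      rw [← hx]
      exact (Submodule.Quotient.mk_eq_zero _).2 (Ideal.mem_span_singleton.2 (dvd_mul_right a x))
  have hfin : Module.length R (R ⧸ I) ≠ ⊤ := by
    have hle : Ideal.span {a ^ n} ≤ I := (Ideal.span_singleton_le_iff_mem I).2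
      (Ideal.pow_mem_pow (Ideal.subset_span (Set.mem_insert _ _)) n)
    exact ne_top_of_le_ne_top (length_quotient_ne_top hR (pow_mem ha n))
      (Module.length_le_of_surjective (Submodule.factor hle) (Submodule.factor_surjective hle))
  rw [e2, add_comm (Module.length R (I ⧸ N))] at e1
  have e3 := WithTop.add_left_cancel hfin e1
  rw [← e3, ← hn] at h1
  exact absurd (WithTop.coe_le_coe.1 h1) (by simp)

/-- A principal reduction of some power of `(a, b)`. -/
theorem exists_reduction (hR : ringKrullDim R = 1) (a b : R) (ha : a ∈ nonZeroDivisors R)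
    (ham : a ∈ IsLocalRing.maximalIdeal R) :
    ∃ (d n : ℕ) (x : R), x ∈ nonZeroDivisors R ∧ x ∈ (Ideal.span {a, b}) ^ (d + 1) ∧
      (Ideal.span {a, b}) ^ (d + 1 + n) ≤ Ideal.span {x} * (Ideal.span {a, b}) ^ n := by
  classical
  obtain ⟨n, c, hc, hex⟩ := exists_relation hR a b ha ham
  obtain ⟨k0, hk0, hk1⟩ := hex
  let d := Nat.findGreatest (fun j => IsUnit (c j)) n
  have hd : d ≤ n := Nat.findGreatest_le n
  have hdu : IsUnit (c d) := Nat.findGreatest_spec (P := fun j => IsUnit (c j)) hk0 hk1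
  have htail : ∀ j, d < j → j ≤ n → c j ∈ IsLocalRing.maximalIdeal R := fun j h1 h2 =>
    Nat.findGreatest_is_greatest h1 h2
  set J := Ideal.span {a, b} with hJ
  let M : ℕ → R := fun L => a ^ (d + 1 + n - L) * b ^ L
  let x : R := a ^ (d + 1) + ∑ j ∈ Finset.range (d + 1), c j * (a ^ (d - j) * b ^ (j + 1))
  have hx : x ∈ J ^ (d + 1) := by
    refine add_mem ?_ (sum_mem fun j hj => Ideal.mul_mem_left _ _ ?_)
    · simpa using monomial_mem a b (d + 1) 0
    · have := Finset.mem_range.1 hj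
      have h := monomial_mem a b (d - j) (j + 1)
      rwa [show d - j + (j + 1) = d + 1 by omega] at h
  set W := Ideal.span {x} * J ^ n ⊔ IsLocalRing.maximalIdeal R * J ^ (d + 1 + n) with hW
  -- truncated relations
  have hT : ∀ l, l ≤ d + 1 →
      ∑ j ∈ Finset.range (d + 1), c j * M (j + l) ∈ IsLocalRing.maximalIdeal R * J ^ (d + 1 + n) := by
    intro l hl
    have h0 : ∑ j ∈ Finset.range (n + 1), c j * M (j + l) = 0 := by
      rw [← mul_zero (a ^ (d + 1 - l) * b ^ l), ← hc, Finset.mul_sum]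
      refine Finset.sum_congr rfl fun j hj => ?_
      have := Finset.mem_range.1 hj
      simp only [M]
      rw [show d + 1 + n - (j + l) = (d + 1 - l) + (n - j) by omega, pow_add, pow_add]
      ring
    rw [← Finset.sum_range_add_sum_Ico _ (show d + 1 ≤ n + 1 by omega)] at h0
    rw [eq_neg_of_add_eq_zero_left h0]
    refine neg_mem (sum_mem fun j hj => ?_)
    obtain ⟨h1, h2⟩ := Finset.mem_Ico.1 hj
    refine Ideal.mul_mem_mul (htail j (by omega) (by omega)) ?_
    have h := monomial_mem a b (d + 1 + n - (j + l)) (j + l)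
    rwa [show d + 1 + n - (j + l) + (j + l) = d + 1 + n by omega] at h
  have hxs : ∀ l, l ≤ n → M l + ∑ j ∈ Finset.range (d + 1), c j * M (j + (l + 1)) ∈ W := by
    intro l hl
    have h : x * (a ^ (n - l) * b ^ l) ∈ W := by
      refine Ideal.mem_sup_left (Ideal.mul_mem_mul (Ideal.mem_span_singleton_self x) ?_)
      have h := monomial_mem a b (n - l) l
      rwa [show n - l + l = n by omega] at h
    convert h using 1
    simp only [x, M, add_mul, Finset.sum_mul]
    congr 1
    · rw [show d + 1 + n - l = (d + 1) + (n - l) by omega, pow_add]; ring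
    · refine Finset.sum_congr rfl fun j hj => ?_
      have := Finset.mem_range.1 hj
      rw [show d + 1 + n - (j + (l + 1)) = (d - j) + (n - l) by omega, pow_add,
        show j + (l + 1) = (j + 1) + l by omega, pow_add]
      ring
  have hM : ∀ L, L ≤ d + 1 + n → M L ∈ W := by
    intro L
    induction L using Nat.strong_induction_on with
    | _ L ih =>
      intro hL
      by_cases hLd : L ≤ d
      · have := sub_mem (hxs L (hLd.trans hd)) (Ideal.mem_sup_right (hT (L + 1) (by omega)))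
        simpa using this
      · obtain ⟨l, rfl⟩ : ∃ l, L = d + 1 + l := ⟨L - (d + 1), by omega⟩
        have h := hxs l (by omega)
        rw [Finset.sum_range_succ] at h
        have hlow : M l + ∑ j ∈ Finset.range d, c j * M (j + (l + 1)) ∈ W := by
          refine add_mem (ih l (by omega) (by omega)) (sum_mem fun j hj => ?_)
          have := Finset.mem_range.1 hj
          exact Ideal.mul_mem_left _ _ (ih _ (by omega) (by omega))
        rw [← add_assoc] at h
        have h' := (Ideal.add_mem_iff_right _ hlow).1 h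
        rw [show d + (l + 1) = d + 1 + l by omega] at h'
        exact (Ideal.unit_mul_mem_iff_mem _ hdu).1 h'
  have hle : J ^ (d + 1 + n) ≤ Ideal.span {x} * J ^ n := by
    refine Submodule.le_of_le_smul_of_le_jacobson_bot (IsNoetherian.noetherian _)
      (IsLocalRing.maximalIdeal_le_jacobson ⊥) ?_
    refine le_trans ((pow_span_pair a b _).trans (Ideal.span_le.2 ?_)) (le_of_eq hW)
    rintro _ ⟨i, rfl⟩
    exact hM i (Nat.lt_succ_iff.1 i.2)
  refine ⟨d, n, x, ?_, hx, hle⟩
  have h : a ^ (d + 1 + n) ∈ Ideal.span {x} := Ideal.mul_le_left (hle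
    (Ideal.pow_mem_pow (Ideal.subset_span (Set.mem_insert _ _)) _))
  obtain ⟨y, hy⟩ := Ideal.mem_span_singleton'.1 h
  exact (mul_mem_nonZeroDivisors.1 (hy ▸ pow_mem ha _ : y * x ∈ nonZeroDivisors R)).2

set_option synthInstance.maxHeartbeats 80000 in
theorem exists_blowUp (hR : ringKrullDim R = 1) (a b : R) (ha : a ∈ nonZeroDivisors R)
    (hb : b ∈ nonZeroDivisors R) (ham : a ∈ IsLocalRing.maximalIdeal R) :
    ∃ (R' : Type u) (_ : CommRing R') (_ : Algebra R R'),
      CycAlg.IsFinExt R R' (IsLocalRing.maximalIdeal R) ∧ ∃ t a' b' : R', t ∈ nonZeroDivisors R' ∧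
        a' ∈ nonZeroDivisors R' ∧ b' ∈ nonZeroDivisors R' ∧ algebraMap R R' a = t * a' ∧
        algebraMap R R' b = t * b' ∧ Ideal.span {a', b'} = ⊤ := by
  classical
  obtain ⟨d, n, x, hx0, hx, hle⟩ := exists_reduction hR a b ha ham
  set J := Ideal.span {a, b} with hJ
  let Q := Localization (nonZeroDivisors R)
  let ι := algebraMap R Q
  have hι : Function.Injective ι := IsLocalization.injective Q le_rfl
  have hu : ∀ {y : R}, y ∈ nonZeroDivisors R → IsUnit (ι y) := fun hy =>
    IsLocalization.map_units Q ⟨_, hy⟩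
  let P : Submodule R Q := IsLocalization.coeSubmodule Q (J ^ n)
  let E : Subalgebra R Q :=
    { carrier := {z | ∀ y ∈ P, z * y ∈ P}
      mul_mem' := fun {u v} hu hv y hy => by rw [mul_assoc]; exact hu _ (hv y hy)
      one_mem' := fun y hy => by rwa [one_mul]
      add_mem' := fun {u v} hu hv y hy => by rw [add_mul]; exact add_mem (hu y hy) (hv y hy)
      zero_mem' := fun y hy => by rw [zero_mul]; exact zero_mem P
      algebraMap_mem' := fun r y hy => by rw [← Algebra.smul_def]; exact P.smul_mem r hy }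
  have han : a ^ n ∈ J ^ n := Ideal.pow_mem_pow (Ideal.subset_span (Set.mem_insert _ _)) n
  have hEa : ∀ z : E, ∃ w : R, (z : Q) * ι (a ^ n) = ι w := fun z => by
    obtain ⟨w, -, hw⟩ := z.2 _ (⟨a ^ n, han, rfl⟩ : ι (a ^ n) ∈ P)
    exact ⟨w, hw.symm⟩
  haveI hfin : Module.Finite R E := by
    obtain ⟨v, hv⟩ := hu (pow_mem ha n)
    have hle' : Subalgebra.toSubmodule E ≤
        Submodule.span R {((v⁻¹ : Qˣ) : Q)} := fun z hz => by
      obtain ⟨w, hw⟩ := hEa ⟨z, hz⟩
      refine Submodule.mem_span_singleton.2 ⟨w, ?_⟩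
      rw [Algebra.smul_def]
      show ι w * _ = z
      rw [← hw, ← hv, mul_assoc, Units.mul_inv, mul_one]
    haveI : Module.Finite R (Submodule.span R {((v⁻¹ : Qˣ) : Q)}) :=
      Module.Finite.span_of_finite R (Set.finite_singleton _)
    exact Module.Finite.of_injective (Submodule.inclusion hle') (Submodule.inclusion_injective hle')
  have hinj : Function.Injective (algebraMap R E) := fun u v h => hι (congrArg Subtype.val h)
  have hExt : CycAlg.IsFinExt R E (IsLocalRing.maximalIdeal R) := by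
    obtain ⟨k, hk⟩ := exists_pow_le hR (pow_mem ha n)
    refine ⟨hinj, hfin, k, fun r hr z => ?_⟩
    obtain ⟨s, rfl⟩ := Ideal.mem_span_singleton'.1 (hk hr)
    obtain ⟨w, hw⟩ := hEa z
    refine ⟨s * w, Subtype.ext ?_⟩
    show ι (s * w) = (s * a ^ n) • (z : Q)
    rw [Algebra.smul_def, map_mul, map_mul, ← hw]
    ring
  -- `J^(d+1) E = x E`
  obtain ⟨v, hv⟩ := hu hx0
  have hdiv : ∀ y ∈ J ^ (d + 1), ∃ q : E, algebraMap R E x * q = algebraMap R E y := by
    intro y hy
    refine ⟨⟨ι y * ((v⁻¹ : Qˣ) : Q), fun p hp => ?_⟩, Subtype.ext ?_⟩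
    · obtain ⟨z, hz, rfl⟩ := hp
      have hyz : y * z ∈ Ideal.span {x} * J ^ n := hle (by
        rw [pow_add]; exact Ideal.mul_mem_mul hy hz)
      obtain ⟨w, hw, hxw⟩ := Ideal.mem_span_singleton_mul.1 hyz
      refine ⟨w, hw, ?_⟩
      have : ι x * ι w = ι y * ι z := by rw [← map_mul, hxw, map_mul]
      show ι w = ι y * _ * ι z
      rw [mul_right_comm, ← this, ← hv, mul_right_comm, Units.mul_inv, one_mul]
    · show ι x * (ι y * _) = ι y
      rw [mul_left_comm, ← hv, Units.mul_inv, mul_one]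
  have hXnz : algebraMap R E x ∈ nonZeroDivisors E := by
    rw [mem_nonZeroDivisors_iff_right]
    intro z hz
    have : (z : Q) * ι x = 0 := congrArg Subtype.val hz
    exact Subtype.ext ((hu hx0).mul_left_eq_zero.1 this)
  set A := algebraMap R E a with hA
  set B := algebraMap R E b with hB
  let T : Ideal E := Ideal.span {A, B}
  let S : Ideal E := (J ^ d).map (algebraMap R E)
  have hTJ : T = J.map (algebraMap R E) := by
    rw [hJ, Ideal.map_span, Set.image_pair]
  have hTS : T * S ≤ Ideal.span {algebraMap R E x} := by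
    rw [hTJ, ← Ideal.map_mul, ← pow_succ', Ideal.map_le_iff_le_comap]
    intro y hy
    obtain ⟨q, hq⟩ := hdiv y hy
    exact Ideal.mem_span_singleton.2 ⟨q, hq.symm⟩
  have hXTS : algebraMap R E x ∈ T * S := by
    rw [hTJ, ← Ideal.map_mul, ← pow_succ']
    exact Ideal.mem_map_of_mem _ hx
  haveI : Finite (MaximalSpectrum E) := by
    have hfin := (Algebra.QuasiFinite.finite_primesOver (S := E) (IsLocalRing.maximalIdeal R)).to_subtype
    refine Finite.of_injective (fun M => (⟨M.asIdeal, M.isMaximal.isPrime, ⟨?_⟩⟩ :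
      (IsLocalRing.maximalIdeal R).primesOver E)) fun M M' h => MaximalSpectrum.ext (congrArg Subtype.val h)
    haveI := M.isMaximal
    exact (IsLocalRing.eq_maximalIdeal
      (Ideal.isMaximal_comap_of_isIntegral_of_isMaximal M.asIdeal)).symm
  cases nonempty_fintype (MaximalSpectrum E)
  have hkey : ∀ M : MaximalSpectrum E, ∃ t ∈ T, ∃ s ∈ S, ∀ q, t * s = algebraMap R E x * q →
      q ∉ M.asIdeal := by
    intro M
    by_contra h
    push Not at h
    have hle' : T * S ≤ Ideal.span {algebraMap R E x} * M.asIdeal :=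
      Ideal.mul_le.2 fun t ht s hs => by
        obtain ⟨q, hq, hqM⟩ := h t ht s hs
        rw [hq]
        exact Ideal.mul_mem_mul (Ideal.mem_span_singleton_self _) hqM
    obtain ⟨q, hq, hxq⟩ := Ideal.mem_span_singleton_mul.1 (hle' hXTS)
    have : q = 1 := (mul_cancel_left_mem_nonZeroDivisors hXnz).1 (hxq.trans (mul_one _).symm)
    exact M.isMaximal.ne_top ((Ideal.eq_top_iff_one _).2 (this ▸ hq))
  choose t ht s hs hts using hkey
  choose q hq using fun M N => Ideal.mem_span_singleton.1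
    (hTS (Ideal.mul_mem_mul (ht M) (hs N)))
  have hco : Pairwise (Function.onFun IsCoprime fun M : MaximalSpectrum E => M.asIdeal) :=
    fun M N h => Ideal.isCoprime_iff_sup_eq.2
      (M.isMaximal.coprime_of_ne N.isMaximal fun e => h (MaximalSpectrum.ext e))
  choose e he using fun M : MaximalSpectrum E =>
    Ideal.exists_forall_sub_mem_ideal hco fun N => if N = M then (1 : E) else 0
  let t0 := ∑ M, e M * t M
  let s0 := ∑ M, e M * s M
  let q0 := ∑ M, ∑ N, e M * e N * q M N
  have ht0 : t0 ∈ T := sum_mem fun M _ => T.mul_mem_left _ (ht M)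
  have hs0 : s0 ∈ S := sum_mem fun M _ => S.mul_mem_left _ (hs M)
  have hts0 : t0 * s0 = algebraMap R E x * q0 := by
    simp only [t0, s0, q0]
    rw [Finset.sum_mul_sum, Finset.mul_sum]
    simp only [Finset.mul_sum]
    refine Finset.sum_congr rfl fun M _ => Finset.sum_congr rfl fun N _ => ?_
    rw [mul_mul_mul_comm, hq M N]
    ring
  have hq0 : IsUnit q0 := by
    by_contra h
    obtain ⟨M, hM, hqM⟩ := exists_max_ideal_of_mem_nonunits h
    let M' : MaximalSpectrum E := ⟨M, hM⟩
    have hmk : ∀ N, Ideal.Quotient.mk M (e N) = if N = M' then 1 else 0 := fun N => by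
      have := he N M'
      rw [← Ideal.Quotient.mk_eq_mk_iff_sub_mem] at this
      rw [this]
      by_cases hN : N = M'
      · simp [hN]
      · simp [hN, Ne.symm hN]
    have hz := Ideal.Quotient.eq_zero_iff_mem.2 hqM
    simp only [q0, map_sum, map_mul, hmk, ite_mul, mul_ite, mul_one, mul_zero, one_mul, zero_mul,
      Finset.sum_ite_eq', Finset.mem_univ, if_true, Finset.sum_ite_irrel, Finset.sum_const_zero] at hz
    exact hts M' (q M' M') (hq M' M') (Ideal.Quotient.eq_zero_iff_mem.1 hz)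
  have hdvd : ∀ y ∈ T, ∃ r, y = t0 * r := by
    intro y hy
    obtain ⟨r, hr⟩ := Ideal.mem_span_singleton.1 (hTS (Ideal.mul_mem_mul hy hs0))
    obtain ⟨q1, hq1⟩ := hq0
    refine ⟨r * ((q1⁻¹ : Eˣ) : E), (mul_cancel_left_mem_nonZeroDivisors hXnz).1 ?_⟩
    calc algebraMap R E x * y = y * (algebraMap R E x * q0) * ((q1⁻¹ : Eˣ) : E) := by
          rw [← hq1, ← mul_assoc, mul_assoc, Units.mul_inv, mul_one, mul_comm]
      _ = t0 * (y * s0) * ((q1⁻¹ : Eˣ) : E) := by rw [← hts0]; ring
      _ = algebraMap R E x * (t0 * (r * ((q1⁻¹ : Eˣ) : E))) := by rw [hr]; ring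
  obtain ⟨a', ha'⟩ := hdvd A (Ideal.subset_span (Set.mem_insert _ _))
  obtain ⟨b', hb'⟩ := hdvd B (Ideal.subset_span (Set.mem_insert_of_mem _ rfl))
  have hnz : ∀ {y : R}, y ∈ nonZeroDivisors R → algebraMap R E y ∈ nonZeroDivisors E := by
    intro y hy
    rw [mem_nonZeroDivisors_iff_right]
    intro z hz
    have : (z : Q) * ι y = 0 := congrArg Subtype.val hz
    exact Subtype.ext ((hu hy).mul_left_eq_zero.1 this)
  have h1 := mul_mem_nonZeroDivisors.1 (ha' ▸ hnz ha : t0 * a' ∈ nonZeroDivisors E)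
  have h2 := mul_mem_nonZeroDivisors.1 (hb' ▸ hnz hb : t0 * b' ∈ nonZeroDivisors E)
  refine ⟨E, inferInstance, inferInstance, hExt, t0, a', b', h1.1, h1.2, h2.2, ha', hb', ?_⟩
  obtain ⟨u, w, huw⟩ := Ideal.mem_span_pair.1 ht0
  rw [Ideal.eq_top_iff_one]
  refine Ideal.mem_span_pair.2 ⟨u, w, (mul_cancel_left_mem_nonZeroDivisors h1.1).1 ?_⟩
  rw [ha', hb'] at huw
  linear_combination huw

theorem exists_blowUp' (hR : ringKrullDim R = 1) (a b : R) (ha : a ∈ nonZeroDivisors R)
    (hb : b ∈ nonZeroDivisors R) :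
    ∃ (R' : Type u) (_ : CommRing R') (_ : Algebra R R'),
      CycAlg.IsFinExt R R' (IsLocalRing.maximalIdeal R) ∧ ∃ t a' b' : R', t ∈ nonZeroDivisors R' ∧
        a' ∈ nonZeroDivisors R' ∧ b' ∈ nonZeroDivisors R' ∧ algebraMap R R' a = t * a' ∧
        algebraMap R R' b = t * b' ∧ Ideal.span {a', b'} = ⊤ := by
  by_cases ham : a ∈ IsLocalRing.maximalIdeal R
  · exact exists_blowUp hR a b ha hb ham
  · refine ⟨R, inferInstance, Algebra.id R, ⟨fun _ _ h => h, inferInstance, 0, fun r _ z => ⟨r * z, rfl⟩⟩,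
      1, a, b, one_mem _, ha, hb, (one_mul _).symm, (one_mul _).symm, ?_⟩
    refine Ideal.eq_top_of_isUnit_mem _ (Ideal.subset_span (Set.mem_insert a {b})) ?_
    simpa [IsLocalRing.mem_maximalIdeal] using ham

end DimOneBlowUp
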