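import Groth.Statements.S1412
import Mathlib
-- import your own Groth.Agent.* helpers here

set_option autoImplicit false
universe u
open FlatMor

open AlgebraicGeometry CategoryTheory Limits TensorProduct
namespace Groth.Agent.S1412

open AlgebraicGeometry CategoryTheory Limits in
theorem flat_fromSpecStalk (X : Scheme.{u}) (x : X) : Flat (X.fromSpecStalk x) := by
  obtain ⟨U, hU, hx, -⟩ := exists_isAffineOpen_mem_and_subset (X := X) (x := x) (U := ⊤) trivial
  rw [← hU.fromSpecStalk_eq_fromSpecStalk hx, IsAffineOpen.fromSpecStalk]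
  have : Flat (Spec.map (X.presheaf.germ U x hx)) := by
    rw [HasRingHomProperty.Spec_iff (P := @Flat)]
    letI : Algebra Γ(X, U) (X.presheaf.stalk x) := (X.presheaf.germ U x hx).hom.toAlgebra
    haveI := hU.isLocalization_stalk ⟨x, hx⟩
    exact IsLocalization.flat (X.presheaf.stalk x) (hU.primeIdealOf ⟨x, hx⟩).asIdeal.primeCompl
  infer_instance

theorem weaklyEtale_fromSpecStalk (X : Scheme.{u}) (x : X) : WeaklyEtale (X.fromSpecStalk x) := by
  have := flat_fromSpecStalk X x
  have : IsIso (pullback.diagonal (X.fromSpecStalk x)) := inferInstance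
  exact { }

theorem weaklyEtale_SpecMap_iff {R S : CommRingCat.{u}} (φ : R ⟶ S) :
    WeaklyEtale (Spec.map φ) ↔ φ.hom.Flat ∧
      (letI := φ.hom.toAlgebra
       (Algebra.TensorProduct.lmul' (S := ↑S) (↑R)).toRingHom.Flat) := by
  letI := φ.hom.toAlgebra
  rw [weaklyEtale_iff, HasRingHomProperty.Spec_iff (P := @Flat)]
  refine and_congr_right fun _ => ?_
  rw [show Spec.map φ = Spec.map (CommRingCat.ofHom (algebraMap R S)) from rfl, diagonal_SpecMap R S,
    MorphismProperty.cancel_right_of_respectsIso @Flat, HasRingHomProperty.Spec_iff (P := @Flat)]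
  rfl

/-- A morphism of schemes f : X → Y is weakly étale (flat with flat diagonal) if and only if for every
point x of X the local ring map O_{Y, f(x)} → O_{X, x} is weakly étale, that is, flat and with flat
multiplication map O_{X,x} ⊗_{O_{Y, f(x)}} O_{X,x} → O_{X,x}. -/
theorem result {X Y : Scheme.{u}} (f : X ⟶ Y) :
    WeaklyEtale f ↔ ∀ x : X, (f.stalkMap x).hom.Flat ∧
      (letI := (f.stalkMap x).hom.toAlgebra
       (Algebra.TensorProduct.lmul' (S := ↑(X.presheaf.stalk x)) (↑(Y.presheaf.stalk (f x)))).toRingHom.Flat) := by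
  have hfac : ∀ x, Spec.map (f.stalkMap x) ≫ Y.fromSpecStalk (f x) = X.fromSpecStalk x ≫ f :=
    fun x => Scheme.SpecMap_stalkMap_fromSpecStalk f
  constructor
  · intro _ x
    rw [← weaklyEtale_SpecMap_iff]
    have := weaklyEtale_fromSpecStalk X x
    have := weaklyEtale_fromSpecStalk Y (f x)
    have : WeaklyEtale (Spec.map (f.stalkMap x) ≫ Y.fromSpecStalk (f x)) := by
      rw [hfac]; infer_instance
    exact WeaklyEtale.of_comp _ (Y.fromSpecStalk (f x))
  · intro h
    have hflat : Flat f := (Flat.iff_flat_stalkMap f).2 fun x => (h x).1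
    refine { flat := hflat, flat_diagonal := (Flat.iff_flat_stalkMap _).2 fun x => ?_ }
    have := weaklyEtale_fromSpecStalk Y (f x)
    have hφ : WeaklyEtale (Spec.map (f.stalkMap x)) := (weaklyEtale_SpecMap_iff _).2 (h x)
    have hgf : WeaklyEtale (X.fromSpecStalk x ≫ f) := by rw [← hfac]; infer_instance
    have hg := flat_fromSpecStalk X x
    let m := pullback.map (X.fromSpecStalk x ≫ f) (X.fromSpecStalk x ≫ f) f f
      (X.fromSpecStalk x) (X.fromSpecStalk x) (𝟙 Y) (by simp) (by simp)
    have hm : Flat m := MorphismProperty.pullbackMap (P := @Flat) hg hg rfl rfl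
    have heq : X.fromSpecStalk x ≫ pullback.diagonal f =
        pullback.diagonal (X.fromSpecStalk x ≫ f) ≫ m := by
      ext1
      · simp [m, pullback.lift_fst]
      · simp [m, pullback.lift_snd]
    have hcomp : Flat (X.fromSpecStalk x ≫ pullback.diagonal f) := by
      rw [heq]; infer_instance
    let c := IsLocalRing.closedPoint (X.presheaf.stalk x)
    have hc : X.fromSpecStalk x c = x := Scheme.fromSpecStalk_closedPoint
    have h1 := Flat.stalkMap (X.fromSpecStalk x ≫ pullback.diagonal f) c
    rw [Scheme.Hom.stalkMap_comp] at h1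
    have hiso : IsIso ((X.fromSpecStalk x).stalkMap c) := by
      have h2 : (X.fromSpecStalk x).stalkMap c ≫
          (AlgebraicGeometry.stalkClosedPointIso (X.presheaf.stalk x)).hom = _ :=
        Scheme.stalkClosedPointTo_fromSpecStalk x
      exact @IsIso.of_isIso_comp_right _ _ _ _ _ _ _ inferInstance (by rw [h2]; infer_instance)
    have h3 : ((pullback.diagonal f).stalkMap (X.fromSpecStalk x c)).hom.Flat :=
      (RingHom.Flat.respectsIso.cancel_right_isIso _ _).1 h1
    exact hc ▸ h3

end Groth.Agent.S1412
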