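import Groth.Statements.S1746
import Groth.Agent.DualCx.DerDevissage
import Groth.Agent.DualCx.Setup
-- import your own Groth.Agent.* helpers here

set_option autoImplicit false
universe u
open CategoryTheory
attribute [local instance] HasDerivedCategory.standard
open Dual

namespace Groth.Agent.S1746

/-- Let A be a Noetherian ring and K, L objects of D(A) all of whose cohomology modules are finite
A-modules, with L of finite injective dimension. Then for every integer i the A-module of maps K →
L[i] in D(A) (the i-th cohomology of RHom(K, L)) is a finite A-module. -/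
theorem result (A : Type u) [CommRing A] [IsNoetherianRing A] (K L : Dual.D A) (hK : ∀ i : ℤ, Module.Finite A (Dual.HD A K i)) (hL : ∀ i : ℤ, Module.Finite A (Dual.HD A L i)) (hLi : DRing.HasFiniteInjDim A L) (i : ℤ) : Module.Finite A (K ⟶ L⟦i⟧) := by
  obtain ⟨a, b, W, hzero, hinj', ⟨e⟩⟩ := hLi
  haveI : ∀ i, Injective (W.X i) := fun i =>
    haveI := hinj' i
    (Module.injective_iff_injective_object A (W.X i)).1 (hinj' i)
  haveI : W.IsStrictlyGE a := (CochainComplex.isStrictlyGE_iff _ _).2 fun j hj => hzero j (Or.inl hj)
  haveI := CochainComplex.isKInjective_of_injective W a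
  have hT1 := (DerivedCategory.TStructure.t (C := ModuleCat.{u} A)).triangleLEGE_distinguished (b - i) (b - i + 1) rfl K
  refine Groth.Agent.DualCx.finite_hom_mid hT1 ?_ ?_
  · let U := (DerivedCategory.TStructure.t (C := ModuleCat.{u} A)).truncLE (b - i) |>.obj K
    have hT2 := (DerivedCategory.TStructure.t (C := ModuleCat.{u} A)).triangleLEGE_distinguished (a - i - 1) (a - i) (by omega) U
    refine Groth.Agent.DualCx.finite_hom_mid hT2 ?_ ?_
    · let V := (DerivedCategory.TStructure.t (C := ModuleCat.{u} A)).truncLE (a - i - 1) |>.obj U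
      haveI : Subsingleton (V ⟶ L⟦i⟧) :=
        Groth.Agent.DualCx.hom_subsingleton_of_isLE e a (fun j hj => hzero j (Or.inl hj)) V (a - i - 1) i (by omega)
      exact (Module.Finite.of_finite : Module.Finite A (V ⟶ L⟦i⟧))
    · let V := (DerivedCategory.TStructure.t (C := ModuleCat.{u} A)).truncGE (a - i) |>.obj U
      have hhigh : ∀ j, b - i < j → Limits.IsZero ((DerivedCategory.homologyFunctor (ModuleCat.{u} A) j).obj V) := fun j hj => by
        by_cases hja : j < a - i
        · exact Groth.Agent.TriH.EndNilp.isZero_homology_truncGE U (a - i) j hja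
        · haveI := Groth.Agent.TriH.EndNilp.isIso_homology_π U (a - i - 1) (a - i) j (by omega) (by omega)
          exact (Groth.Agent.TriH.EndNilp.isZero_homology_truncLE K (b - i) j hj).of_iso
            (asIso ((DerivedCategory.homologyFunctor (ModuleCat.{u} A) j).map
              ((DerivedCategory.TStructure.t.truncGEπ (a - i)).app U))).symm
      refine Groth.Agent.DualCx.der_devissage (fun X => Module.Finite A (X ⟶ L⟦i⟧))
        (fun {X Y} g h => Module.Finite.equiv (Linear.homCongr A g (Iso.refl (L⟦i⟧))))
        (fun {X} h => haveI : Subsingleton (X ⟶ L⟦i⟧) := ⟨fun f g => h.eq_of_src f g⟩; Module.Finite.of_finite)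
        (fun T hT h₁ h₃ => Groth.Agent.DualCx.finite_hom_mid hT h₁ h₃) (b - a + 1).toNat (a - i) V
        (fun j hj => ?_) (fun j hj hj' => ?_)
      · rcases hj with hj | hj
        · exact Groth.Agent.TriH.EndNilp.isZero_homology_truncGE U (a - i) j hj
        · by_cases hja : j < a - i
          · exact Groth.Agent.TriH.EndNilp.isZero_homology_truncGE U (a - i) j hja
          · exact hhigh j (by omega)
      · haveI := Groth.Agent.TriH.EndNilp.isIso_homology_π U (a - i - 1) (a - i) j (by omega) hj
        haveI := Groth.Agent.TriH.EndNilp.isIso_homology_ι K (b - i) (b - i + 1) j rfl (by omega)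
        haveI : Module.Finite A ((DerivedCategory.homologyFunctor (ModuleCat.{u} A) j).obj K) := hK j
        let g : (DerivedCategory.homologyFunctor (ModuleCat.{u} A) j).obj V ≅
            (DerivedCategory.homologyFunctor (ModuleCat.{u} A) j).obj K :=
          (asIso ((DerivedCategory.homologyFunctor (ModuleCat.{u} A) j).map
            ((DerivedCategory.TStructure.t.truncGEπ (a - i)).app U))).symm ≪≫
          asIso ((DerivedCategory.homologyFunctor (ModuleCat.{u} A) j).map
            ((DerivedCategory.TStructure.t.truncLEι (b - i)).app K))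
        haveI : Module.Finite A ((DerivedCategory.homologyFunctor (ModuleCat.{u} A) j).obj V) :=
          Module.Finite.equiv g.toLinearEquiv.symm
        haveI := Groth.Agent.DualCx.finite_dual (W := W) a (fun q hq => hzero q (Or.inl hq))
          (Groth.Agent.DualCx.finite_homology_model e hL) ((DerivedCategory.homologyFunctor (ModuleCat.{u} A) j).obj V) (i + j)
        exact Module.Finite.equiv ((Groth.Agent.DualCx.singleHomEquiv _ L j i).trans
          (Groth.Agent.DualCx.homIso W e _ (i + j))).symm
  · let U := (DerivedCategory.TStructure.t (C := ModuleCat.{u} A)).truncGE (b - i + 1) |>.obj K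
    haveI : Subsingleton (U ⟶ L⟦i⟧) :=
      Groth.Agent.DualCx.hom_subsingleton_of_isGE e b (fun j hj => hzero j (Or.inr hj)) U (b - i + 1) i (by omega)
    exact (Module.Finite.of_finite : Module.Finite A (U ⟶ L⟦i⟧))

end Groth.Agent.S1746
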