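import Groth.Statements.S0345
import Groth.Agent.GorLib.LocalInjDim


set_option autoImplicit false
universe u v
open Goren

namespace Groth.Agent.S0345

/-- For a Noetherian ring A, the A-module A has finite injective dimension exactly when every
localization of A at a prime is Gorenstein and A has finite Krull dimension. -/
theorem result (A : Type u) [CommRing A] [IsNoetherianRing A] : (∃ n : ℕ, CategoryTheory.HasInjectiveDimensionLT (ModuleCat.of A A) n) ↔ (LocCoh.IsGorensteinRing A ∧ ringKrullDim A < ⊤) := by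
  constructor
  · rintro ⟨n, h⟩
    have hp : ∀ (p : Ideal A) [p.IsPrime], CategoryTheory.HasInjectiveDimensionLT (ModuleCat.of (Localization.AtPrime p) (Localization.AtPrime p)) (n + 1) :=
      fun p _ => (GorLib.hasInjDimLT_self_iff p.primeCompl n).2
        (haveI : CategoryTheory.HasInjectiveDimensionLE (ModuleCat.of A A) n := CategoryTheory.hasInjectiveDimensionLT_of_ge _ n (n + 1) n.le_succ
         ModuleCat.localizedModule_hasInjectiveDimensionLE n p.primeCompl _)
    refine ⟨⟨fun p _ => { exists_hasInjectiveDimensionLT := ⟨n + 1, hp p⟩ }⟩,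
      lt_of_le_of_lt ((ringKrullDim_le_iff_height_le ((n : ℕ) : WithBot ℕ∞)).2 fun p _ => ?_) (WithBot.coe_lt_coe.2 (ENat.coe_lt_top n))⟩
    obtain ⟨d, hd⟩ := ENat.ne_top_iff_exists.1 (Ideal.height_ne_top (I := p) (Ideal.IsPrime.ne_top'))
    have h1 := GorLib.ringKrullDim_lt_of_injDim (hp p) (d := d)
      ((IsLocalization.AtPrime.ringKrullDim_eq_height p (Localization.AtPrime p)).trans (by rw [← hd]; rfl))
    rw [← hd]
    exact_mod_cast Nat.lt_succ_iff.1 h1
  · rintro ⟨hG, hdim⟩
    obtain ⟨N, hN⟩ : ∃ N : ℕ, ringKrullDim A ≤ (N : WithBot ℕ∞) := by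
      cases hA : ringKrullDim A with
      | bot => exact ⟨0, bot_le⟩
      | coe x =>
        rw [hA] at hdim
        obtain ⟨m, rfl⟩ := ENat.ne_top_iff_exists.1 (ne_of_lt (WithBot.coe_lt_coe.1 hdim))
        exact ⟨m, le_rfl⟩
    refine ⟨N + 1, (ModuleCat.hasInjectiveDimensionLE_iff_forall_primeSpectrum N (ModuleCat.of A A)).2 fun p => ?_⟩
    haveI := hG.isGorensteinLocalRing_localization p.asIdeal
    obtain ⟨d, hd⟩ := ENat.ne_top_iff_exists.1 (Ideal.height_ne_top (I := p.asIdeal) (Ideal.IsPrime.ne_top'))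
    refine (GorLib.hasInjDimLT_self_iff p.asIdeal.primeCompl N).1 (GorLib.injDim_le_of_dim
      ((IsLocalization.AtPrime.ringKrullDim_eq_height p.asIdeal (Localization.AtPrime p.asIdeal)).trans (by rw [← hd]; rfl)) ?_)
    have h1 := (ringKrullDim_le_iff_height_le _).1 hN (p := p.asIdeal) p.isPrime
    rw [← hd] at h1
    exact_mod_cast h1

end Groth.Agent.S0345
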