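import Groth.Statements.S2042
import Mathlib
-- import your own Groth.Agent.* helpers here

set_option autoImplicit false
universe u
open CAlg

namespace Groth.Agent.S2042

open Polynomial

theorem exists_away_bijective {A : Type u} [CommRing A] (I : Ideal A) {C : Type u} [CommRing C] [Algebra A C]
    [Algebra.Etale A C] (φ : C →ₐ[A] A ⧸ I) :
    ∃ s : C, φ s = 1 ∧
      Function.Bijective (algebraMap (A ⧸ I) (Localization.Away s ⧸ I.map (algebraMap A (Localization.Away s)))) := by
  classical
  set IC := I.map (algebraMap A C)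
  have hIC : ∀ x ∈ IC, φ x = 0 := by
    intro x hx
    refine (Ideal.map_le_iff_le_comap.2 ?_ : IC ≤ RingHom.ker φ.toRingHom) hx
    intro a ha
    simp [RingHom.mem_ker, Ideal.Quotient.eq_zero_iff_mem.2 ha]
  let ψ : (C ⧸ IC) →ₐ[A] A ⧸ I := Ideal.Quotient.liftₐ IC φ hIC
  set K : Ideal (C ⧸ IC) := RingHom.ker ψ.toRingHom with hKdef
  have hK : K.FG := by
    obtain ⟨S, hS⟩ := Algebra.FiniteType.out (R := A) (A := C)
    choose a ha using fun x : C => Ideal.Quotient.mk_surjective (φ x)
    refine ⟨S.image (fun x => Ideal.Quotient.mk IC (x - algebraMap A C (a x))), le_antisymm (Ideal.span_le.2 ?_) ?_⟩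
    · intro y hy
      simp only [Finset.coe_image, Set.mem_image] at hy
      obtain ⟨x, -, rfl⟩ := hy
      show φ (x - algebraMap A C (a x)) = 0
      simp [ha]
    · intro y hy
      obtain ⟨c, rfl⟩ := Ideal.Quotient.mk_surjective y
      set J : Ideal (C ⧸ IC) := Submodule.span _ (↑(S.image fun x => Ideal.Quotient.mk IC (x - algebraMap A C (a x))) : Set (C ⧸ IC))
      have key : ∀ c ∈ Algebra.adjoin A (S : Set C), ∃ b : A, Ideal.Quotient.mk IC (c - algebraMap A C b) ∈ J ∧
          φ c = Ideal.Quotient.mk I b := by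
        intro c hc
        induction hc using Algebra.adjoin_induction with
        | mem x hx => exact ⟨a x, Ideal.subset_span (by simp only [Finset.coe_image]; exact ⟨x, hx, rfl⟩), (ha x).symm⟩
        | algebraMap r => exact ⟨r, by simp, by simp⟩
        | add x y _ _ h1 h2 =>
          obtain ⟨b, hb, hb'⟩ := h1; obtain ⟨d, hd, hd'⟩ := h2
          refine ⟨b + d, ?_, by simp [hb', hd']⟩
          rw [show x + y - algebraMap A C (b + d) = (x - algebraMap A C b) + (y - algebraMap A C d) by
            simp; ring, map_add]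
          exact J.add_mem hb hd
        | mul x y _ _ h1 h2 =>
          obtain ⟨b, hb, hb'⟩ := h1; obtain ⟨d, hd, hd'⟩ := h2
          refine ⟨b * d, ?_, by simp [hb', hd']⟩
          rw [show x * y - algebraMap A C (b * d) = x * (y - algebraMap A C d) + algebraMap A C d * (x - algebraMap A C b) by
            simp; ring, map_add, map_mul, map_mul]
          exact J.add_mem (J.mul_mem_left _ hd) (J.mul_mem_left _ hb)
      obtain ⟨b, hb, hb'⟩ := key c (by rw [hS]; exact Algebra.mem_top)
      have hb0 : Ideal.Quotient.mk I b = 0 := by rw [← hb']; exact hy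
      have : Ideal.Quotient.mk IC (algebraMap A C b) = 0 :=
        Ideal.Quotient.eq_zero_iff_mem.2 (Ideal.mem_map_of_mem _ (Ideal.Quotient.eq_zero_iff_mem.1 hb0))
      rwa [map_sub, this, sub_zero] at hb
  have hidem : IsIdempotentElem K := by
    refine le_antisymm Ideal.mul_le_left ?_
    let D := (C ⧸ IC) ⧸ K * K
    let g₁ : C →ₐ[A] D := (Ideal.Quotient.mkₐ A (K * K)).comp (Ideal.Quotient.mkₐ A IC)
    let σ : (A ⧸ I) →ₐ[A] D := Ideal.Quotient.liftₐ I (Algebra.ofId A D) (fun a ha => by
      have h0 : Ideal.Quotient.mk IC (algebraMap A C a) = 0 := Ideal.Quotient.eq_zero_iff_mem.2 (Ideal.mem_map_of_mem _ ha)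
      show Ideal.Quotient.mk (K * K) (Ideal.Quotient.mk IC (algebraMap A C a)) = 0
      rw [h0, map_zero])
    have heq : g₁ = σ.comp φ := by
      refine Algebra.FormallyUnramified.ext (K.map (Ideal.Quotient.mk (K * K))) ⟨2, ?_⟩ fun x => ?_
      · rw [pow_two, ← Ideal.map_mul, Ideal.map_quotient_self]; rfl
      obtain ⟨a, ha⟩ := Ideal.Quotient.mk_surjective (φ x)
      rw [Ideal.Quotient.eq]
      show g₁ x - σ (φ x) ∈ _
      rw [← ha]
      show Ideal.Quotient.mk (K * K) (Ideal.Quotient.mk IC x) - Ideal.Quotient.mk (K * K) (Ideal.Quotient.mk IC (algebraMap A C a)) ∈ _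
      rw [← map_sub, ← map_sub]
      refine Ideal.mem_map_of_mem _ ?_
      show φ (x - algebraMap A C a) = 0
      simp [ha]
    intro y hy
    obtain ⟨c, rfl⟩ := Ideal.Quotient.mk_surjective y
    have h := DFunLike.congr_fun heq c
    replace h : g₁ c = σ (φ c) := h
    rw [show φ c = 0 from hy, map_zero] at h
    exact Ideal.Quotient.eq_zero_iff_mem.1 h
  obtain ⟨e, he, heK⟩ := (Ideal.isIdempotentElem_iff_of_fg K hK).1 hidem
  obtain ⟨s, hs⟩ := Ideal.Quotient.mk_surjective (1 - e)
  have heK' : e ∈ K := by rw [heK]; exact Submodule.mem_span_singleton_self e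
  have hφs : φ s = 1 := by
    have : ψ (Ideal.Quotient.mk IC s) = 1 := by rw [hs, map_sub, map_one, show ψ e = 0 from heK', sub_zero]
    exact this
  refine ⟨s, hφs, ?_, ?_⟩
  · let φ' : Localization.Away s →ₐ[A] A ⧸ I := IsLocalization.Away.liftAlgHom (f := φ) s (by rw [hφs]; exact isUnit_one)
    let χ : (Localization.Away s ⧸ I.map (algebraMap A (Localization.Away s))) →ₐ[A] A ⧸ I :=
      Ideal.Quotient.liftₐ _ φ' (fun x hx => (Ideal.map_le_iff_le_comap.2 (fun a ha => by
        simp [RingHom.mem_ker, Ideal.Quotient.eq_zero_iff_mem.2 ha]) :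
          I.map (algebraMap A (Localization.Away s)) ≤ RingHom.ker φ'.toRingHom) hx)
    refine Function.LeftInverse.injective (g := χ) fun x => ?_
    obtain ⟨a, rfl⟩ := Ideal.Quotient.mk_surjective x
    exact AlgHom.commutes χ a
  · set Q := Ideal.Quotient.mk (I.map (algebraMap A (Localization.Away s)))
    have hQC : ∀ c, c ∈ IC → Q (algebraMap C (Localization.Away s) c) = 0 := fun c hc => by
      refine Ideal.Quotient.eq_zero_iff_mem.2 ?_
      have := Ideal.mem_map_of_mem (algebraMap C (Localization.Away s)) hc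
      rwa [Ideal.map_map, ← IsScalarTower.algebraMap_eq] at this
    have hsK : ∀ c : C, Ideal.Quotient.mk IC c ∈ K → Q (algebraMap C (Localization.Away s) c) = 0 := fun c hc => by
      rw [heK] at hc
      obtain ⟨r, hr⟩ := Submodule.mem_span_singleton.1 hc
      have hsc : s * c ∈ IC := by
        rw [← Ideal.Quotient.eq_zero_iff_mem, map_mul, hs, ← hr, smul_eq_mul]
        linear_combination (-r) * he.eq
      have h := hQC _ hsc
      rw [map_mul, map_mul] at h
      exact ((IsLocalization.Away.algebraMap_isUnit s).map Q).mul_right_eq_zero.1 h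
    intro y
    obtain ⟨x, rfl⟩ := Ideal.Quotient.mk_surjective y
    obtain ⟨k, c, hc⟩ := IsLocalization.Away.surj s x
    obtain ⟨a, ha⟩ := Ideal.Quotient.mk_surjective (φ c)
    have h1 : Q (algebraMap C (Localization.Away s) s) = 1 := by
      have h := hsK (s - 1) (show φ (s - 1) = 0 by simp [hφs])
      rwa [map_sub, map_sub, map_one, map_one, sub_eq_zero] at h
    have h2 := hsK (c - algebraMap A C a) (show φ (c - algebraMap A C a) = 0 by simp [ha])
    refine ⟨Ideal.Quotient.mk I a, ?_⟩
    rw [map_sub, map_sub, sub_eq_zero, ← hc, map_mul, map_pow, h1, one_pow, mul_one] at h2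
    rw [h2, ← IsScalarTower.algebraMap_apply]
    rfl


open Polynomial in
/-- Let `I ⊆ A` be an ideal and `f ∈ A[X]` monic whose image in `(A/I)[X]` factors as a product of two
monic polynomials generating the unit ideal. Then over some étale `A`-algebra `A'` with `A/I →
A'/IA'` bijective, `f` factors as a product of two monic polynomials lifting the given factors. -/
theorem result {A : Type u} [CommRing A] (I : Ideal A) (f : A[X])
    (hf : f.Monic) (g h : (A ⧸ I)[X]) (hg : g.Monic) (hh : h.Monic) (hcop : IsCoprime g h)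
    (hfgh : f.map (Ideal.Quotient.mk I) = g * h) :
    ∃ (A' : Type u) (_ : CommRing A') (_ : Algebra A A'), Algebra.Etale A A' ∧
      Function.Bijective (algebraMap (A ⧸ I) (A' ⧸ I.map (algebraMap A A'))) ∧
      ∃ g' h' : A'[X], g'.Monic ∧ h'.Monic ∧ f.map (algebraMap A A') = g' * h' ∧
        g'.map (Ideal.Quotient.mk (I.map (algebraMap A A'))) =
          g.map (algebraMap (A ⧸ I) (A' ⧸ I.map (algebraMap A A'))) ∧
        h'.map (Ideal.Quotient.mk (I.map (algebraMap A A'))) =
          h.map (algebraMap (A ⧸ I) (A' ⧸ I.map (algebraMap A A'))) := by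
  classical
  by_cases htriv : Nontrivial (A ⧸ I)
  · have hdeg : f.natDegree = g.natDegree + h.natDegree := by
      rw [← hg.natDegree_mul hh, ← hfgh, hf.natDegree_map]
    let p : MonicDegreeEq A f.natDegree := .mk f hf rfl
    let φ := (UniversalCoprimeFactorizationRing.homEquiv (A ⧸ I) g.natDegree h.natDegree hdeg p).symm
      ⟨(.mk g hg rfl, .mk h hh rfl), hfgh.symm, hcop⟩
    obtain ⟨s, hφs, hbij⟩ := exists_away_bijective I φ
    have happ := (UniversalCoprimeFactorizationRing.homEquiv (A ⧸ I) g.natDegree h.natDegree hdeg p).apply_symm_apply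
      ⟨(.mk g hg rfl, .mk h hh rfl), hfgh.symm, hcop⟩
    have hg₀ : (UniversalCoprimeFactorizationRing.factor₁ g.natDegree h.natDegree hdeg p).1.map φ.toRingHom = g := by
      rw [UniversalCoprimeFactorizationRing.factor₁, MonicDegreeEq.map_coe, Polynomial.map_map]
      exact congrArg (fun q => q.1.1.1) happ
    have hh₀ : (UniversalCoprimeFactorizationRing.factor₂ g.natDegree h.natDegree hdeg p).1.map φ.toRingHom = h := by
      rw [UniversalCoprimeFactorizationRing.factor₂, MonicDegreeEq.map_coe, Polynomial.map_map]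
      exact congrArg (fun q => q.1.2.1) happ
    let C := UniversalCoprimeFactorizationRing g.natDegree h.natDegree hdeg p
    let A' := Localization.Away (M := C) s
    let Q := Ideal.Quotient.mk (I.map (algebraMap A A'))
    have hQ : Q.comp (algebraMap C A') = (algebraMap (A ⧸ I) (A' ⧸ I.map (algebraMap A A'))).comp φ.toRingHom := by
      let φ' : A' →ₐ[A] A ⧸ I := IsLocalization.Away.liftAlgHom (f := φ) s (by rw [hφs]; exact isUnit_one)
      ext c
      obtain ⟨b, hb⟩ := hbij.2 (Q (algebraMap C A' c))
      obtain ⟨a, rfl⟩ := Ideal.Quotient.mk_surjective b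
      rw [RingHom.comp_apply, RingHom.comp_apply, ← hb]
      congr 1
      have h1 : algebraMap A A' a - algebraMap C A' c ∈ I.map (algebraMap A A') := Ideal.Quotient.eq.1 hb
      have h2 : φ' (algebraMap A A' a - algebraMap C A' c) = 0 :=
        (Ideal.map_le_iff_le_comap.2 (fun a ha => by simp [RingHom.mem_ker, Ideal.Quotient.eq_zero_iff_mem.2 ha]) :
          I.map (algebraMap A A') ≤ RingHom.ker φ'.toRingHom) h1
      rw [map_sub, AlgHom.commutes, sub_eq_zero] at h2
      refine h2.trans ?_
      exact IsLocalization.Away.lift_eq (g := φ.toRingHom) s (by rw [AlgHom.toRingHom_eq_coe, RingHom.coe_coe, hφs]; exact isUnit_one) c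
    refine ⟨A', inferInstance, inferInstance, inferInstance, hbij,
      (UniversalCoprimeFactorizationRing.factor₁ g.natDegree h.natDegree hdeg p).1.map (algebraMap C A'),
      (UniversalCoprimeFactorizationRing.factor₂ g.natDegree h.natDegree hdeg p).1.map (algebraMap C A'),
      (MonicDegreeEq.monic _).map _, (MonicDegreeEq.monic _).map _, ?_, ?_, ?_⟩
    · rw [← Polynomial.map_mul, UniversalCoprimeFactorizationRing.factor₁_mul_factor₂, MonicDegreeEq.map_coe,
        Polynomial.map_map, ← IsScalarTower.algebraMap_eq]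
      rfl
    · rw [Polynomial.map_map, hQ, ← Polynomial.map_map, hg₀]
    · rw [Polynomial.map_map, hQ, ← Polynomial.map_map, hh₀]
  · have : Subsingleton (A ⧸ I) := not_nontrivial_iff_subsingleton.1 htriv
    have : Subsingleton (A ⧸ I.map (algebraMap A A)) := by rw [Algebra.algebraMap_self, Ideal.map_id]; infer_instance
    exact ⟨A, inferInstance, inferInstance, inferInstance, ⟨fun x y _ => Subsingleton.elim x y,
      fun y => ⟨0, Subsingleton.elim _ _⟩⟩, f, 1, hf, Polynomial.monic_one, by simp,
      Subsingleton.elim _ _, Subsingleton.elim _ _⟩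

end Groth.Agent.S2042
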