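import Groth.Prelude.Def_EtBase
import Groth.Prelude.Def_EtShriek2
-- import your own Groth.Agent.* helpers here

set_option autoImplicit false
open CategoryTheory CategoryTheory.Limits AlgebraicGeometry Opposite
universe u

namespace Groth.Agent.S0649

/-- Extension by zero commutes with pullback, for abelian sheaves. Let f : Y → X be a morphism of
schemes and j : V → X étale, and let V' = Y ×_X V with projections j' : V' → Y and f' : V' → V. Then
the functors j'_! ∘ f'^(-1) and f^(-1) ∘ j_! from abelian sheaves on V_ét to abelian sheaves on Y_ét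
are isomorphic. Only the existence of an isomorphism of functors is asserted; the published
statement gives the canonical one. (Continuity of the composition functor of étale sites, which
always holds, is carried as an instance hypothesis.) -/
theorem result {V' V Y X : Scheme.{u}} (j : V ⟶ X) [AlgebraicGeometry.Etale j] [EtShriek.JCont j]
    (f : Y ⟶ X) (j' : V' ⟶ Y) [AlgebraicGeometry.Etale j'] [EtShriek.JCont j'] (f' : V' ⟶ V)
    (h : IsPullback j' f' f j) :
    Nonempty (EtCoh.pull f' ⋙ EtShriek.extZero j' ≅ EtShriek.extZero j ⋙ EtCoh.pull f) := by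
  let sq : ∀ W : V.Etale, IsPullback (pullback.fst W.hom f') (pullback.snd W.hom f' ≫ j')
      (W.hom ≫ j) f := fun W => (IsPullback.of_hasPullback W.hom f').paste_vert h.flip
  let φ : ∀ W : V.Etale, (EtShriek.compEtale j').obj ((EtCoh.bc f').obj W) ≅
      (EtCoh.bc f).obj ((EtShriek.compEtale j).obj W) := fun W =>
    MorphismProperty.Over.isoMk (sq W).isoPullback (sq W).isoPullback_hom_snd
  let e : EtCoh.bc f' ⋙ EtShriek.compEtale j' ≅ EtShriek.compEtale j ⋙ EtCoh.bc f :=
    NatIso.ofComponents φ fun {W W'} a => by
      refine MorphismProperty.Over.Hom.ext (pullback.hom_ext ?_ ?_)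
      · refine (Category.assoc _ _ _).trans ((congrArg (_ ≫ ·) (sq W').isoPullback_hom_fst).trans ?_)
        refine (pullback.lift_fst _ _ _).trans ?_
        refine Eq.symm ((Category.assoc _ _ _).trans ((congrArg (_ ≫ ·) (pullback.lift_fst _ _ _)).trans ?_))
        exact (Category.assoc _ _ _).symm.trans (congrArg (· ≫ a.left) (sq W).isoPullback_hom_fst)
      · refine (Category.assoc _ _ _).trans ((congrArg (_ ≫ ·) (sq W').isoPullback_hom_snd).trans ?_)
        refine ((Category.assoc _ _ _).symm.trans (congrArg (· ≫ j')
          ((pullback.lift_snd _ _ _).trans (Category.comp_id _)))).trans ?_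
        refine Eq.symm ((Category.assoc _ _ _).trans
          ((congrArg (_ ≫ ·) ((pullback.lift_snd _ _ _).trans (Category.comp_id _))).trans ?_))
        exact (sq W).isoPullback_hom_snd
  have : (EtShriek.compEtale j ⋙ EtCoh.bc f).IsContinuous V.smallEtaleTopology Y.smallEtaleTopology :=
    Functor.isContinuous_comp _ _ _ X.smallEtaleTopology _
  have : (EtCoh.bc f' ⋙ EtShriek.compEtale j').IsContinuous V.smallEtaleTopology Y.smallEtaleTopology :=
    Functor.isContinuous_comp _ _ _ V'.smallEtaleTopology _
  exact ⟨(conjugateIsoEquiv ((EtShriek.extZeroAdj j).comp (EtCoh.pullPushAdj f))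
    ((EtCoh.pullPushAdj f').comp (EtShriek.extZeroAdj j'))).symm
    (Functor.sheafPushforwardContinuousComp _ _ _ _ _ _ ≪≫
      Functor.sheafPushforwardContinuousIso e.symm _ _ _ ≪≫
      (Functor.sheafPushforwardContinuousComp _ _ _ _ _ _).symm)⟩

end Groth.Agent.S0649
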