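import Groth.Prelude.Def_PBC
import Groth.Agent.EtSite.ExtZeroConstr
import Groth.Agent.EtSite.ConstFLC
import Groth.Agent.EtSite.PushConstr
-- import your own Groth.Agent.* helpers here

set_option autoImplicit false
universe u
open CategoryTheory CategoryTheory.Limits AlgebraicGeometry Opposite

namespace Groth.Agent.S0133

/-- (2): for j : U -> X etale with U and X quasi-compact and quasi-separated and M a finite abelian
group, j_! M is a constructible abelian sheaf on X_et. -/
theorem result (X : Scheme.{u}) [CompactSpace X] [QuasiSeparatedSpace X]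
    (U : X.Etale) [CompactSpace U.left] [QuasiSeparatedSpace U.left]
    (M : Type) [AddCommGroup M] [Finite M] :
    EtPBC.IsConstructible (EtPBC.extZeroConst U M) := by
  have : Etale U.hom := U.prop
  have : EtShriek.JCont U.hom := Groth.Agent.EtMV.jCont U.hom
  let A := AddCommGrpCat.of (ULift.{u + 1} M)
  have : Finite A := inferInstanceAs (Finite (ULift.{u + 1} M))
  let adj₁ := (constantSheafAdj (X.smallEtaleTopology.over U) AddCommGrpCat.{u + 1}
    (Over.mkIdTerminal (X := U))).comp (EtPBC.extZeroAdj U)
  let adj₂ := (constantSheafAdj U.left.smallEtaleTopology AddCommGrpCat.{u + 1}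
    (EtSite.topTerminal U.left)).comp (EtShriek.extZeroAdj U.hom)
  let e : (EtShriek.compEtale U.hom).obj (EtCoh.top U.left) ≅ U :=
    MorphismProperty.Over.isoMk (Iso.refl _) ((Category.id_comp _).trans (Category.id_comp _).symm)
  let eR : (sheafSections X.smallEtaleTopology AddCommGrpCat.{u + 1}).obj
      (op ((EtShriek.compEtale U.hom).obj (EtCoh.top U.left))) ≅
      (sheafSections X.smallEtaleTopology AddCommGrpCat.{u + 1}).obj (op U) :=
    (sheafSections X.smallEtaleTopology AddCommGrpCat.{u + 1}).mapIso e.symm.op
  let eL := (conjugateIsoEquiv adj₁ adj₂).symm eR.symm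
  have : CompactSpace ((Functor.fromPUnit X).obj U.right) := ‹CompactSpace X›
  have : QuasiSeparatedSpace ((Functor.fromPUnit X).obj U.right) := ‹QuasiSeparatedSpace X›
  have : CompactSpace ((𝟭 Scheme).obj U.left) := ‹CompactSpace U.left›
  have : QuasiSeparatedSpace ((𝟭 Scheme).obj U.left) := ‹QuasiSeparatedSpace U.left›
  exact EtSite.PushConstr.isConstructible_of_iso (eL.app A)
    (EtSite.ExtZeroConstr.isConstructible_extZero U.hom (EtSite.ConstFLC.isFLC_const U.left A))

end Groth.Agent.S0133
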