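import Groth.Statements.S13802
import Groth.Agent.Eta.Basic

set_option autoImplicit false
universe u
open EtaPt

namespace Groth.Agent.S13802

/-- For a commutative ring A with finitely many minimal prime ideals, the canonical map q_A from A to
the pointwise ring M_η(A) is integral. Here η is a natural transformation from the identity of the
category of fields to an endofunctor F with F(η_K) bijective and η_K purely inseparable for every
field K, N_η(A) is the product of the F(k(p)) over the primes p of A with diagonal map t_A, and
M_η(A) ⊆ N_η(A) is the subring of elements sent into the range of t_R by every ring map from A to a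
valuation ring R at whose fraction field η is bijective; q_A : A → M_η(A) is the corestriction of
t_A. -/
theorem result (η : EtaPt.FieldEndo.{u}) (A : Type u) [CommRing A]
    (hA : (minimalPrimes A).Finite) : (η.q A).IsIntegral := by
  intro x
  have hx : ∀ P : PrimeSpectrum A, ∃ Q : Polynomial A, Q.Monic ∧
      ((Polynomial.eval₂ (η.q A) x Q : η.M A) : η.N A) P = 0 := fun P => by
    obtain ⟨Q, hQ, hQ0⟩ :=
      Eta.isIntegralElem_val η (Eta.eta_obj_bijective η _) (Eta.point η P) x.2
    refine ⟨Q, hQ, ?_⟩
    refine (Eta.val_point η P _).symm.trans ?_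
    show ((Eta.val η (Eta.eta_obj_bijective η _) (Eta.point η P)).comp (η.M A).subtype) (Polynomial.eval₂ (η.q A) x Q) = 0
    rw [Polynomial.hom_eval₂]
    refine Eq.trans ?_ hQ0
    congr 1
    exact RingHom.ext fun a => Eta.val_t η (Eta.eta_obj_bijective η _) (Eta.point η P) a
  choose Q hQ hQ0 using hx
  have : Finite (minimalPrimes A) := hA.to_subtype
  cases nonempty_fintype (minimalPrimes A)
  refine ⟨∏ P : minimalPrimes A, Q ⟨P.1, P.2.1.1⟩, Polynomial.monic_prod_of_monic _ _ fun P _ => hQ _,
    Subtype.ext (funext fun p => ?_)⟩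
  obtain ⟨P, hP, hPp⟩ := Ideal.exists_minimalPrimes_le (bot_le : ⊥ ≤ p.asIdeal)
  rw [Polynomial.eval₂_finsetProd]
  show ((Pi.evalRingHom (fun p : PrimeSpectrum A => η.obj p.asIdeal.ResidueField) p).comp
    (η.M A).subtype) _ = 0
  rw [map_prod]
  refine Finset.prod_eq_zero (Finset.mem_univ ⟨P, hP⟩) ?_
  exact Eta.apply_eq_zero_of_le η (p := ⟨P, hP.1.1⟩) hPp (Subtype.coe_prop _) (hQ0 _)

end Groth.Agent.S13802
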