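import Groth.Statements.S13803
import Groth.Agent.Eta.Basic

set_option autoImplicit false
universe u
open EtaPt

namespace Groth.Agent.S13803

open EtaPt

variable {A : Type u} [CommRing A] (η : FieldEndo.{u})

/-- Evaluation of `M A` at a prime. -/
noncomputable def evalAt (p : PrimeSpectrum A) : η.M A →+* η.obj p.asIdeal.ResidueField :=
  (Pi.evalRingHom (fun p : PrimeSpectrum A => η.obj p.asIdeal.ResidueField) p).comp (η.M A).subtype

/-- The prime of `M A` above `p`. -/
noncomputable def kerEv (p : PrimeSpectrum A) : PrimeSpectrum (η.M A) :=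
  ⟨RingHom.ker (evalAt η p), RingHom.ker_isPrime _⟩


/-- For a commutative ring A with finitely many minimal prime ideals, Spec of q_A : A → M_η(A) is a
bijection, and for a prime Q of M_η(A) over the prime P of A the map η at k(P), from k(P) to
F(k(P)), factors through the residue field map k(P) → k(Q). Here η is a natural transformation from
the identity of the category of fields to an endofunctor F with F(η_K) bijective and η_K purely
inseparable for every field K, N_η(A) is the product of the F(k(p)) over the primes p of A with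
diagonal map t_A, and M_η(A) ⊆ N_η(A) is the subring of elements sent into the range of t_R by every
ring map from A to a valuation ring R at whose fraction field η is bijective; q_A : A → M_η(A) is
the corestriction of t_A. -/
theorem result (η : EtaPt.FieldEndo.{u}) (A : Type u) [CommRing A]
    (hA : (minimalPrimes A).Finite) :
    Function.Bijective (PrimeSpectrum.comap (η.q A)) ∧
      ∀ Q : PrimeSpectrum (η.M A),
        ∃ φ : Q.asIdeal.ResidueField →+* η.obj (PrimeSpectrum.comap (η.q A) Q).asIdeal.ResidueField,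
          φ.comp (Ideal.ResidueField.map (PrimeSpectrum.comap (η.q A) Q).asIdeal Q.asIdeal (η.q A) rfl) =
            η.eta (PrimeSpectrum.comap (η.q A) Q).asIdeal.ResidueField := by
  have hsurj : ∀ p : PrimeSpectrum A, PrimeSpectrum.comap (η.q A) (kerEv η p) = p := by
    intro p
    refine PrimeSpectrum.ext (Ideal.ext fun a => ?_)
    show η.eta _ (algebraMap A _ a) = 0 ↔ _
    simp
  have hker : ∀ Q : PrimeSpectrum (η.M A), Q = kerEv η (PrimeSpectrum.comap (η.q A) Q) := by
    intro Q
    have : Finite (minimalPrimes A) := hA.to_subtype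
    cases nonempty_fintype (minimalPrimes A)
    have hinf : (Finset.univ.inf fun P : minimalPrimes A =>
        (kerEv η ⟨P.1, P.2.1.1⟩).asIdeal) ≤ Q.asIdeal := fun x hx => by
      rw [Submodule.mem_finsetInf] at hx
      have : x = 0 := Subtype.ext (funext fun p => by
        obtain ⟨P, hP, hPp⟩ := Ideal.exists_minimalPrimes_le (bot_le : ⊥ ≤ p.asIdeal)
        exact Eta.apply_eq_zero_of_le η (p := ⟨P, hP.1.1⟩) hPp x.2 (hx ⟨P, hP⟩ (Finset.mem_univ _)))
      exact this ▸ zero_mem _
    obtain ⟨P, hPQ⟩ : ∃ P : PrimeSpectrum A, (kerEv η P).asIdeal ≤ Q.asIdeal := by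
      obtain ⟨P', -, h⟩ := Q.isPrime.inf_le'.mp hinf
      exact ⟨_, h⟩
    let p := PrimeSpectrum.comap (η.q A) Q
    obtain ⟨V, g', hg', hgQ⟩ := Eta.exists_dominate (evalAt η P) Q hPQ
    let g : A →+* V := g'.comp (η.q A)
    have hg : ∀ a, (g a : η.obj P.asIdeal.ResidueField) = Eta.point η P a := fun a => hg' _
    have hk : p.asIdeal = RingHom.ker ((IsLocalRing.residue V).comp g) := by
      rw [← RingHom.comap_ker, IsLocalRing.ker_residue, ← Ideal.comap_comap, hgQ]
      rfl
    let φ : p.asIdeal.ResidueField →+* IsLocalRing.ResidueField V :=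
      Ideal.ResidueField.lift p.asIdeal ((IsLocalRing.residue V).comp g) hk.le
        (fun a ha => isUnit_iff_ne_zero.mpr fun h' => ha (hk ▸ h'))
    have hφ : φ.comp (algebraMap A _) = (IsLocalRing.residue V).comp g :=
      RingHom.ext fun a => by
        rw [RingHom.comp_apply]
        exact Ideal.ResidueField.lift_algebraMap p.asIdeal _ hk.le
          (fun a ha => isUnit_iff_ne_zero.mpr fun h' => ha (hk ▸ h')) a
    refine PrimeSpectrum.ext (Ideal.ext fun x => ?_)
    obtain ⟨hv, hev⟩ := Eta.val_spec η (Eta.eta_obj_bijective η _) (Eta.point η P) V g hg x.2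
    have hgx : (⟨_, hv⟩ : V) = g' x := Subtype.ext ((Eta.val_point η P _).trans (hg' x).symm)
    rw [hgx, Eta.ev_eq η _ p φ hφ] at hev
    show _ ↔ (x : η.N A) p = 0
    rw [← hgQ, Ideal.mem_comap, ← IsLocalRing.residue_eq_zero_iff,
      ← map_eq_zero_iff (η.map φ) (η.map φ).injective, hev,
      map_eq_zero_iff (η.eta (IsLocalRing.ResidueField V)) (η.eta (IsLocalRing.ResidueField V)).injective]
  refine ⟨⟨fun Q Q' h => (hker Q).trans (h ▸ (hker Q').symm), fun p => ⟨_, hsurj p⟩⟩, fun Q => ?_⟩
  have hQ : Q.asIdeal = RingHom.ker (evalAt η (PrimeSpectrum.comap (η.q A) Q)) :=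
    congrArg PrimeSpectrum.asIdeal (hker Q)
  refine ⟨Ideal.ResidueField.lift Q.asIdeal (evalAt η (PrimeSpectrum.comap (η.q A) Q)) hQ.le
    (fun a ha => isUnit_iff_ne_zero.mpr fun h' => ha (hQ ▸ h')), ?_⟩
  refine Ideal.ResidueField.ringHom_ext (RingHom.ext fun a => ?_)
  simp only [RingHom.comp_apply]
  erw [Ideal.ResidueField.map_algebraMap]
  exact Ideal.ResidueField.lift_algebraMap _ _ _ _ _

end Groth.Agent.S13803
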