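import Groth.Statements.S13811
import Groth.Agent.Eta.Basic

set_option autoImplicit false
universe u
open EtaPt

namespace Groth.Agent.S13811

/-- If f : A → B is an integral ring map with N_η(f) bijective, then every ring map from A to a
valuation ring R at whose fraction field η is bijective factors through f. Here η is a natural
transformation from the identity of the category of fields to an endofunctor F with F(η_K) bijective
and η_K purely inseparable for every field K, N_η(A) is the product of the F(k(p)) over the primes p
of A with diagonal map t_A, and M_η(A) ⊆ N_η(A) is the subring of elements sent into the range of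
t_R by every ring map from A to a valuation ring R at whose fraction field η is bijective; q_A : A →
M_η(A) is the corestriction of t_A. -/
theorem result (η : EtaPt.FieldEndo.{u}) {A B : Type u} [CommRing A] [CommRing B] (f : A →+* B)
    (hf : f.IsIntegral) (hN : Function.Bijective (η.Nmap f))
    (R : Type u) [CommRing R] [IsDomain R] [ValuationRing R] (hR : η.InV R) (g : A →+* R) :
    ∃ g' : B →+* R, g'.comp f = g := by
  classical
  let p : PrimeSpectrum A := ⟨RingHom.ker g, RingHom.ker_isPrime g⟩
  obtain ⟨q, hq⟩ : ∃ q : PrimeSpectrum B, PrimeSpectrum.comap f q = p := by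
    by_contra h
    push Not at h
    have h0 : η.Nmap f (Pi.single p 1) = 0 := funext fun q => by
      show η.map _ ((Pi.single p 1 : η.N A) _) = 0
      rw [Pi.single_eq_of_ne (h q), map_zero]
    have h1 := congrFun (hN.1 (h0.trans (map_zero _).symm)) p
    rw [Pi.single_eq_same] at h1
    exact one_ne_zero h1
  let res := Ideal.ResidueField.map (PrimeSpectrum.comap f q).asIdeal q.asIdeal f rfl
  have hsurj : Function.Bijective (η.map res) := by
    refine ⟨(η.map res).injective, fun y => ?_⟩
    obtain ⟨x, hx⟩ := hN.2 (Pi.single q y)
    exact ⟨x (PrimeSpectrum.comap f q), (congrFun hx q).trans (Pi.single_eq_same (M := fun q : PrimeSpectrum B => η.obj q.asIdeal.ResidueField) q y)⟩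
  let h₀ : A →+* FractionRing R := (algebraMap R _).comp g
  have hker : (PrimeSpectrum.comap f q).asIdeal = RingHom.ker h₀ := by
    rw [hq]
    exact Ideal.ext fun a => by simp [p, h₀]
  let j : (PrimeSpectrum.comap f q).asIdeal.ResidueField →+* FractionRing R :=
    Ideal.ResidueField.lift _ h₀ hker.le
      (fun a ha => isUnit_iff_ne_zero.mpr fun h' => ha (hker ▸ h'))
  let h : B →+* FractionRing R := ((Eta.toField η (show Function.Bijective (η.eta (FractionRing R)) from hR) j).comp
    (RingEquiv.ofBijective _ hsurj).symm.toRingHom).comp
      ((η.eta _).comp (algebraMap B q.asIdeal.ResidueField))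
  have hh : h.comp f = h₀ := RingHom.ext fun a => by
    have : (RingEquiv.ofBijective _ hsurj).symm
        (η.eta _ (algebraMap B q.asIdeal.ResidueField (f a))) = η.eta _ (algebraMap A _ a) := by
      rw [RingEquiv.symm_apply_eq, RingEquiv.coe_ofBijective, Eta.eta_natural_apply]
      exact congrArg _ (Ideal.ResidueField.map_algebraMap _ _ _ rfl a).symm
    simp only [h, RingHom.comp_apply, RingEquiv.toRingHom_eq_coe, RingHom.coe_coe]
    rw [this, Eta.toField_eta]
    exact Ideal.ResidueField.lift_algebraMap _ _ _ _ a
  have hint : ∀ b, h b ∈ (algebraMap R (FractionRing R)).range := fun b => by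
    obtain ⟨P, hP, hP0⟩ := hf b
    refine IsIntegrallyClosed.isIntegral_iff.mp ⟨P.map g, hP.map g, ?_⟩
    rw [Polynomial.eval₂_map, ← show h.comp f = (algebraMap R _).comp g from hh,
      ← Polynomial.hom_eval₂, hP0, map_zero]
  choose r hr using hint
  let e := RingEquiv.ofBijective (algebraMap R (FractionRing R)).rangeRestrict
    ⟨fun x y hxy => IsFractionRing.injective R (FractionRing R) (congrArg Subtype.val hxy),
      RingHom.rangeRestrict_surjective _⟩
  refine ⟨e.symm.toRingHom.comp (h.codRestrict (algebraMap R (FractionRing R)).range
    (fun b => ⟨r b, hr b⟩)), RingHom.ext fun a => ?_⟩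
  simp only [RingHom.comp_apply, RingEquiv.toRingHom_eq_coe, RingHom.coe_coe]
  rw [RingEquiv.symm_apply_eq]
  exact Subtype.ext (DFunLike.congr_fun hh a)

end Groth.Agent.S13811
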