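import Groth.Statements.S13809
import Groth.Agent.Eta.Basic

set_option autoImplicit false
universe u
open EtaPt

namespace Groth.Agent.S13809

/-- For an integrally closed domain A such that η is bijective at the fraction field of A, the map q_A :
A → M_η(A) is bijective. Here η is a natural transformation from the identity of the category of
fields to an endofunctor F with F(η_K) bijective and η_K purely inseparable for every field K,
N_η(A) is the product of the F(k(p)) over the primes p of A with diagonal map t_A, and M_η(A) ⊆
N_η(A) is the subring of elements sent into the range of t_R by every ring map from A to a valuation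
ring R at whose fraction field η is bijective; q_A : A → M_η(A) is the corestriction of t_A. -/
theorem result (η : EtaPt.FieldEndo.{u}) (A : Type u) [CommRing A] [IsDomain A] [IsIntegrallyClosed A]
    (hA : η.InV A) : Function.Bijective (η.q A) := by
  refine ⟨fun a b hab => ?_, fun x => ?_⟩
  · have := congrFun (congrArg Subtype.val hab) ⟨⊥, Ideal.isPrime_bot⟩
    exact IsFractionRing.injective A (⊥ : Ideal A).ResidueField
      ((η.eta (⊥ : Ideal A).ResidueField).injective this)
  · have hK := (Eta.inV_iff η A (⊥ : Ideal A).ResidueField).mp hA
    let h := algebraMap A (⊥ : Ideal A).ResidueField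
    obtain ⟨a, ha⟩ := IsIntegrallyClosed.isIntegral_iff.mp
      (show IsIntegral A (Eta.val η hK h x.1) from Eta.isIntegralElem_val η hK h x.2)
    refine ⟨a, Subtype.ext (Eta.injOn_generic η A (η.q A a).2 x.2 ?_)⟩
    show η.eta _ (h a) = _
    rw [ha, Eta.eta_val]
    exact Eta.ev_residue η ⟨⊥, Ideal.isPrime_bot⟩ _

end Groth.Agent.S13809
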