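import Groth.Statements.S13824
import Groth.Agent.Eta.Basic

set_option autoImplicit false
universe u
open EtaPt

namespace Groth.Agent.S13824

/-- For a commutative ring A and f ∈ A, N_η(A)[1/t_A(f)] → N_η(A_f) is bijective: every element of
N_η(A_f) times a power of the image of f comes from N_η(A), and an element of N_η(A) dies in
N_η(A_f) only if a power of t_A(f) kills it. Here η is a natural transformation from the identity of
the category of fields to an endofunctor F with F(η_K) bijective and η_K purely inseparable for
every field K, N_η(A) is the product of the F(k(p)) over the primes p of A with diagonal map t_A,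
and M_η(A) ⊆ N_η(A) is the subring of elements sent into the range of t_R by every ring map from A
to a valuation ring R at whose fraction field η is bijective; q_A : A → M_η(A) is the corestriction
of t_A. -/
theorem result (η : EtaPt.FieldEndo.{u}) (A : Type u) [CommRing A] (f : A) :
    (∀ y : η.N (Localization.Away f), ∃ (x : η.N A) (n : ℕ),
        y * η.t (Localization.Away f) (algebraMap A (Localization.Away f) f) ^ n =
          η.Nmap (algebraMap A (Localization.Away f)) x) ∧
      ∀ x : η.N A, η.Nmap (algebraMap A (Localization.Away f)) x = 0 → ∃ n : ℕ, η.t A f ^ n * x = 0 := by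
  classical
  let am := algebraMap A (Localization.Away f)
  have lift : ∀ p : PrimeSpectrum A, f ∉ p.asIdeal → ∃ h : Localization.Away f →+*
      p.asIdeal.ResidueField, h.comp am = algebraMap A _ := fun p hp =>
    ⟨IsLocalization.Away.lift f (g := algebraMap A p.asIdeal.ResidueField)
      (isUnit_iff_ne_zero.mpr (by simpa using hp)), IsLocalization.Away.lift_comp f _⟩
  constructor
  · intro y
    refine ⟨fun p => if hp : f ∈ p.asIdeal then 0 else Eta.ev η (lift p hp).choose y, 0, ?_⟩
    rw [pow_zero, mul_one]
    funext q
    have hp : f ∉ (PrimeSpectrum.comap am q).asIdeal := fun h =>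
      q.isPrime.ne_top (Ideal.eq_top_of_isUnit_mem _ h (IsLocalization.Away.algebraMap_isUnit f))
    show _ = η.map _ (dite _ _ _)
    rw [dif_neg hp, Eta.map_ev, ← Eta.ev_residue η q y]
    congr 1
    refine congrArg (Eta.ev η) (IsLocalization.ringHom_ext (Submonoid.powers f) ?_)
    rw [RingHom.comp_assoc, (lift _ hp).choose_spec]
    exact RingHom.ext fun a => (Ideal.ResidueField.map_algebraMap _ _ _ _ a).symm
  · intro x hx
    refine ⟨1, funext fun p => ?_⟩
    rw [pow_one, Pi.mul_apply, Pi.zero_apply, ← Eta.ev_residue η p (η.t A f), Eta.ev_t]
    by_cases hp : f ∈ p.asIdeal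
    · rw [Ideal.algebraMap_residueField_eq_zero.mpr hp, map_zero, zero_mul]
    · obtain ⟨h, hh⟩ := lift p hp
      rw [← Eta.ev_residue η p x, ← hh, ← Eta.ev_Nmap, hx, map_zero, mul_zero]

end Groth.Agent.S13824
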