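import Groth.Statements.S14436
import Mathlib.RingTheory.Etale.Kaehler
import Mathlib.RingTheory.Etale.Field
import Mathlib.RingTheory.Kaehler.Polynomial
import Mathlib.RingTheory.AlgebraicIndependent.Adjoin
import Mathlib.RingTheory.TensorProduct.Free

set_option autoImplicit false
universe u
open CAlg

namespace Groth.Agent.S14436

/-- Let L/K be a finitely generated field extension which is separable in the sense that it has a
transcendence basis a_1, …, a_n over which L is a (finite) separable extension of K(a_1, …, a_n).
Then dim_L Ω_{L/K} = n, the transcendence degree of L over K. -/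
theorem result (K L : Type u) [Field K] [Field L] [Algebra K L]
    (hfg : ∃ s : Finset L, IntermediateField.adjoin K (s : Set L) = ⊤)
    (n : ℕ) (a : Fin n → L) (ha : IsTranscendenceBasis K a)
    (hsep : Algebra.IsSeparable ↥(IntermediateField.adjoin K (Set.range a)) L) :
    Module.finrank L (Ω[L⁄K]) = n := by
  classical
  let P := MvPolynomial (Fin n) K
  let Q := FractionRing P
  have hinj : Function.Injective (MvPolynomial.aeval (R := K) a) :=
    algebraicIndependent_iff_injective_aeval.mp ha.1
  let _ : Algebra P L := (MvPolynomial.aeval (R := K) a).toRingHom.toAlgebra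
  let _ : Algebra Q L := (IsFractionRing.lift (K := Q) hinj).toAlgebra
  have : IsScalarTower K P L := IsScalarTower.of_algebraMap_eq fun c =>
    ((MvPolynomial.aeval (R := K) a).commutes c).symm
  have : IsScalarTower P Q L := IsScalarTower.of_algebraMap_eq fun c =>
    (IsFractionRing.lift_algebraMap hinj c).symm
  have : Algebra.IsSeparable Q L :=
    Algebra.IsSeparable.of_equiv_equiv ha.1.aevalEquivField.symm.toRingEquiv (RingEquiv.refl L) (by
      refine RingHom.ext fun x => ?_
      obtain ⟨q, rfl⟩ := ha.1.aevalEquivField.surjective x
      simp only [RingHom.coe_comp, Function.comp_apply, RingEquiv.coe_toRingHom]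
      show algebraMap Q L (ha.1.aevalEquivField.symm (ha.1.aevalEquivField q)) = _
      rw [AlgEquiv.symm_apply_apply]
      exact (AlgebraicIndependent.aevalEquivField_apply_coe ha.1 q).symm)
  have : Algebra.FormallyEtale Q L := Algebra.FormallyEtale.of_isSeparable Q L
  have : Algebra.FormallyEtale P Q := Algebra.FormallyEtale.of_isLocalization (nonZeroDivisors P)
  have : Algebra.FormallyEtale P L := Algebra.FormallyEtale.comp P Q L
  rw [← (KaehlerDifferential.tensorKaehlerEquivOfFormallyEtale K P L).finrank_eq,
    Module.finrank_eq_card_basis ((KaehlerDifferential.mvPolynomialBasis K (Fin n)).baseChange L),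
    Fintype.card_fin]

end Groth.Agent.S14436
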