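import Groth.Agent.IdealComap.Basic
import Mathlib.AlgebraicGeometry.Morphisms.Flat
import Mathlib.RingTheory.Flat.Basic
import Mathlib.LinearAlgebra.TensorProduct.Quotient

set_option autoImplicit false
universe u
open CategoryTheory AlgebraicGeometry
open scoped TensorProduct

namespace Groth.Agent.FFComap

/-- Flatness: an element landing in `J B` has transporter ideal generating the unit ideal. -/
theorem colon_map_eq_top {A B : Type u} [CommRing A] [CommRing B] [Algebra A B] [Module.Flat A B]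
    (J : Ideal A) (x : A) (hx : algebraMap A B x ∈ J.map (algebraMap A B)) :
    Ideal.map (algebraMap A B)
      (LinearMap.ker (LinearMap.toSpanSingleton A (A ⧸ J) (Ideal.Quotient.mk J x)) : Ideal A) = ⊤ := by
  set g := LinearMap.toSpanSingleton A (A ⧸ J) (Ideal.Quotient.mk J x) with hg
  set K : Ideal A := LinearMap.ker g with hK
  let ψ : B →ₗ[B] B ⊗[A] (A ⧸ J) := LinearMap.toSpanSingleton B _ ((1 : B) ⊗ₜ (1 : A ⧸ J))
  have hψ : J.map (algebraMap A B) ≤ LinearMap.ker ψ := by
    rw [Ideal.map_le_iff_le_comap]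
    intro j hj
    have h0 : (j • (1 : A ⧸ J)) = 0 := by
      rw [← Ideal.Quotient.eq_zero_iff_mem] at hj
      rw [Algebra.smul_def, mul_one]; exact hj
    simp only [Ideal.mem_comap, LinearMap.mem_ker, ψ, LinearMap.toSpanSingleton_apply]
    rw [algebraMap_smul, ← TensorProduct.tmul_smul, h0, TensorProduct.tmul_zero]
  have h1 : g.lTensor B ((1 : B) ⊗ₜ (1 : A)) = 0 := by
    have := hψ hx
    simp only [LinearMap.mem_ker, ψ, LinearMap.toSpanSingleton_apply] at this
    rw [algebraMap_smul, ← TensorProduct.tmul_smul] at this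
    rw [LinearMap.lTensor_tmul, ← this]
    congr 1
    simp [g, Algebra.smul_def]
  obtain ⟨t, ht⟩ := (Module.Flat.lTensor_exact B (LinearMap.exact_subtype_ker_map g) _).1 h1
  rw [Ideal.eq_top_iff_one]
  have key : ∀ t : B ⊗[A] K, TensorProduct.rid A B (LinearMap.lTensor B K.subtype t) ∈ K.map (algebraMap A B) := by
    intro t
    induction t using TensorProduct.induction_on with
    | zero => simp
    | tmul b k =>
      simp only [LinearMap.lTensor_tmul, TensorProduct.rid_tmul, Submodule.coe_subtype, Algebra.smul_def]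
      exact Ideal.mul_mem_right _ _ (Ideal.mem_map_of_mem _ k.2)
    | add a b ha hb => simpa only [map_add] using add_mem ha hb
  have := key t
  erw [ht] at this
  simpa using this

theorem ideal_le {X Y : Scheme.{u}} (f : X ⟶ Y) [Flat f] [Surjective f] (I J : Y.IdealSheafData)
    (h : I.comap f = J.comap f) (V : Y.affineOpens) : I.ideal V ≤ J.ideal V := by
  intro x hx
  have hV : IsAffineOpen V.1 := V.2
  let g := LinearMap.toSpanSingleton Γ(Y, V.1) (Γ(Y, V.1) ⧸ J.ideal V) (Ideal.Quotient.mk _ x)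
  have hg : ∀ a, a ∈ LinearMap.ker g ↔ a * x ∈ J.ideal V := fun a => by
    rw [LinearMap.mem_ker, LinearMap.toSpanSingleton_apply, Algebra.smul_def, Ideal.Quotient.algebraMap_eq,
      ← map_mul, Ideal.Quotient.eq_zero_iff_mem]
  by_contra hne
  have hK : (LinearMap.ker g : Ideal Γ(Y, V.1)) ≠ ⊤ := fun e => hne (by simpa using (hg 1).1 (e ▸ Submodule.mem_top))
  obtain ⟨m, hm, hKm⟩ := Ideal.exists_le_maximal _ hK
  let p : PrimeSpectrum Γ(Y, V.1) := ⟨m, hm.isPrime⟩
  have hy : hV.fromSpec p ∈ V.1 := by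
    rw [← SetLike.mem_coe, ← hV.range_fromSpec]; exact ⟨p, rfl⟩
  obtain ⟨z, hz⟩ := f.surjective (hV.fromSpec p)
  have hzV : z ∈ f ⁻¹ᵁ V.1 := by rw [Scheme.Hom.mem_preimage, hz]; exact hy
  obtain ⟨_, ⟨U, hU, rfl⟩, hzU, hUV⟩ := X.isBasis_affineOpens.exists_subset_of_mem_open hzV (f ⁻¹ᵁ V.1).2
  have hp : hV.primeIdealOf ⟨f z, hUV hzU⟩ = p := by
    haveI := hV.isOpenImmersion_fromSpec
    apply hV.fromSpec.isOpenEmbedding.injective
    exact (IsAffineOpen.fromSpec_primeIdealOf _ _).trans hz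
  have hcomap := IsAffineOpen.comap_primeIdealOf_appLE (f := f) V.1 hV U hU hUV hzU
  letI := (f.appLE V.1 U hUV).hom.toAlgebra
  haveI : Module.Flat Γ(Y, V.1) Γ(X, U) := Flat.flat_appLE f hV hU hUV
  have hxB : algebraMap Γ(Y, V.1) Γ(X, U) x ∈ (J.ideal V).map (algebraMap Γ(Y, V.1) Γ(X, U)) := by
    have e := congrArg (fun S : X.IdealSheafData => S.ideal ⟨U, hU⟩) h
    dsimp only at e
    rw [IdealComap.ideal_comap I f ⟨U, hU⟩ V hUV, IdealComap.ideal_comap J f ⟨U, hU⟩ V hUV] at e
    exact e ▸ Ideal.mem_map_of_mem _ hx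
  have htop := colon_map_eq_top (B := Γ(X, U)) (J.ideal V) x hxB
  refine (hU.primeIdealOf ⟨z, hzU⟩).2.ne_top (top_le_iff.1 (htop.ge.trans ?_))
  rw [Ideal.map_le_iff_le_comap]
  intro a ha
  have := hKm ha
  change a ∈ p.asIdeal at this
  rw [← hp, ← hcomap] at this
  exact this

end Groth.Agent.FFComap
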