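import Groth.Statements.S3857
import Groth.Agent.ThickAffine.Main
import Groth.Agent.IdealComap.Basic
import Mathlib.RingTheory.Noetherian.OfPrime
-- import your own Groth.Agent.* helpers here

set_option autoImplicit false
universe u
open FCompl

namespace Groth.Agent.S3857

open AlgebraicGeometry CategoryTheory CategoryTheory.Limits in
theorem comap_pow {X Y : Scheme.{u}} (f : X ⟶ Y) (I : Y.IdealSheafData) (n : ℕ) :
    (I ^ n).comap f = I.comap f ^ n := by
  let h𝒰 := X.isBasis_affineOpens.isOpenCover_mem_and_le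
    (Y.isBasis_affineOpens.isOpenCover.comap f.base.hom)
  refine Scheme.IdealSheafData.ext_of_iSup_eq_top (fun U ↦ ⟨_, by exact U.2.1⟩) h𝒰 ?_
  rintro ⟨⟨U, ⟨V, hV⟩⟩, hU, hUV : U ≤ f ⁻¹ᵁ V⟩
  simp only [Scheme.IdealSheafData.ideal_pow, Pi.pow_apply]
  rw [IdealComap.ideal_comap (I ^ n) f ⟨U, hU⟩ ⟨V, hV⟩ hUV, IdealComap.ideal_comap I f ⟨U, hU⟩ ⟨V, hV⟩ hUV,
    Scheme.IdealSheafData.ideal_pow, Pi.pow_apply, Ideal.map_pow]

open AlgebraicGeometry CategoryTheory CategoryTheory.Limits in
theorem ker_eq_comap {X₀ X Y₀ Y : Scheme.{u}} {iX : X₀ ⟶ X} {a : X₀ ⟶ Y₀} {F : X ⟶ Y} {iY : Y₀ ⟶ Y}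
    [IsClosedImmersion iY] (hP : IsPullback iX a F iY) : iX.ker = iY.ker.comap F := by
  rw [← Scheme.IdealSheafData.ker_fst_of_isClosedImmersion, ← hP.isoPullback_hom_fst,
    Scheme.Hom.ker_comp_of_isIso]

open AlgebraicGeometry CategoryTheory CategoryTheory.Limits in
theorem isLocallyNoetherian_of_thickening {X₀ X Y₀ Y : Scheme.{u}} [IsLocallyNoetherian Y] [IsLocallyNoetherian X₀]
    {iX : X₀ ⟶ X} {a : X₀ ⟶ Y₀} {F : X ⟶ Y} {iY : Y₀ ⟶ Y} [IsClosedImmersion iY] [IsClosedImmersion iX]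
    (hX : Function.Surjective iX) (hP : IsPullback iX a F iY) : IsLocallyNoetherian X := by
  let h𝒰 := X.isBasis_affineOpens.isOpenCover_mem_and_le
    (Y.isBasis_affineOpens.isOpenCover.comap F.base.hom)
  refine isLocallyNoetherian_of_affine_cover (S := fun U => ⟨_, by exact U.2.1⟩) h𝒰 ?_
  rintro ⟨⟨U, ⟨V, hV⟩⟩, hU, hUV : U ≤ F ⁻¹ᵁ V⟩
  show IsNoetherianRing Γ(X, U)
  replace hU : IsAffineOpen U := hU
  haveI : IsNoetherianRing Γ(Y, V) := IsLocallyNoetherian.component_noetherian ⟨V, hV⟩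
  haveI : IsNoetherianRing Γ(X₀, iX ⁻¹ᵁ U) := IsLocallyNoetherian.component_noetherian ⟨_, hU.preimage iX⟩
  refine IsNoetherianRing.of_prime fun P hP' => ?_
  let π := (iX.app U).hom
  have hπ : Function.Surjective π := iX.app_surjective U hU
  have hJ : RingHom.ker π = (iY.ker.ideal ⟨V, hV⟩).map (F.appLE V U hUV).hom := by
    rw [← IdealComap.ideal_comap iY.ker F ⟨U, hU⟩ ⟨V, hV⟩ hUV, ← ker_eq_comap hP, Scheme.Hom.ker_apply]
  have hfg : (RingHom.ker π).FG := hJ ▸ Ideal.FG.map (IsNoetherian.noetherian _) _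
  have hle : RingHom.ker π ≤ P := fun z hz => by
    obtain ⟨m, hm⟩ := ThickAffine.isNilpotent_of_mem_K iX hX hU hz
    exact hP'.mem_of_pow_mem m (hm ▸ zero_mem P)
  obtain ⟨s, hs⟩ := (IsNoetherian.noetherian (P.map π) : (P.map π).FG)
  classical
  choose g hg using hπ
  have hspan : Ideal.span ((s.image g : Finset _) : Set Γ(X, U)) ⊔ RingHom.ker π = P := by
    have h0 : (Ideal.span ((s.image g : Finset _) : Set Γ(X, U))).map π = P.map π := by
      rw [Ideal.map_span, ← hs, Finset.coe_image, ← Set.image_comp, show π ∘ g = id from funext hg, Set.image_id]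
    have h1 := congrArg (Ideal.comap π) h0
    rwa [Ideal.comap_map_of_surjective π (fun y => ⟨g y, hg y⟩), Ideal.comap_map_of_surjective π (fun y => ⟨g y, hg y⟩),
      ← RingHom.ker_eq_comap_bot, sup_eq_left.2 hle] at h1
  rw [← hspan]
  exact Submodule.FG.sup ⟨_, rfl⟩ hfg

open AlgebraicGeometry in
/-- Here formal schemes are presented as systems of thickenings, an adic morphism being one all of whose
squares are cartesian. Let S_0 -> S_1 -> ... be a locally Noetherian adic formal system and (X_n ->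
S_n) a compatible family of morphisms such that every square X_n -> X_(n+1), S_n -> S_(n+1) is
cartesian. If X_0 is locally Noetherian, then (X_n) is a locally Noetherian adic formal system. -/
theorem result {𝔛 𝔖 : FSch.Sys.{u}} (f : 𝔛 ⟶ 𝔖)
    (h𝔖 : 𝔖.IsLocNoethFormal) (hf : FSch.IsAdicHom f) [IsLocallyNoetherian (𝔛.X 0)] :
    𝔛.IsLocNoethFormal := by
  obtain ⟨h1, h2, h3⟩ := h𝔖
  have hc : ∀ n, IsClosedImmersion (𝔛.ι n) := fun n =>
    haveI := (h1 n).1
    CategoryTheory.MorphismProperty.of_isPullback (hf n).flip ‹_›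
  have hs : ∀ n, Function.Surjective (𝔛.ι n).base := fun n =>
    haveI : Surjective (𝔖.ι n) := ⟨(h1 n).2⟩
    (CategoryTheory.MorphismProperty.of_isPullback (P := @Surjective) (hf n).flip ‹_›).surj
  have hto : ∀ n, CategoryTheory.IsPullback (𝔛.toX n) ((f : FSch.Hom 𝔛 𝔖).app 0) ((f : FSch.Hom 𝔛 𝔖).app n) (𝔖.toX n) := by
    intro n
    induction n with
    | zero => exact CategoryTheory.IsPullback.id_horiz _
    | succ n ih => exact ih.paste_horiz (hf n)
  have hcl : ∀ n, IsClosedImmersion (𝔖.toX n) := by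
    intro n
    induction n with
    | zero => exact inferInstanceAs (IsClosedImmersion (CategoryTheory.CategoryStruct.id _))
    | succ n ih =>
      haveI := ih
      haveI := (h1 n).1
      exact inferInstanceAs (IsClosedImmersion (CategoryTheory.CategoryStruct.comp _ _))
  refine ⟨fun n => ⟨hc n, hs n⟩, fun n => ?_, fun n => ?_⟩
  · haveI := (h1 n).1
    haveI := hcl (n + 1)
    rw [ker_eq_comap (hf n), h2 n, comap_pow, ker_eq_comap (hto (n + 1))]
  · induction n with
    | zero => infer_instance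
    | succ n ih =>
      haveI := ih
      haveI := h3 (n + 1)
      haveI := (h1 n).1
      haveI := hc n
      exact isLocallyNoetherian_of_thickening (hs n) (hf n)

end Groth.Agent.S3857
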