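import Groth.Statements.S9200
import Groth.Agent.LimLib.EventualBase

set_option autoImplicit false
set_option backward.isDefEq.respectTransparency false
set_option backward.defeqAttrib.useBackward true
universe u
open CategoryTheory AlgebraicGeometry
open Lim

namespace Groth.Agent.S9200

/-- Let S be a scheme and X = lim X_i a cofiltered limit of S-schemes X_i (a diagram with a compatible
family of structure maps to S) with affine transition morphisms, every X_i quasi-compact and
quasi-separated; the structure map X → S is the composite X → X_{i₀} → S for any index i₀. Assume S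
is quasi-compact and quasi-separated. If X → S is affine, then X_i → S is affine for all i beyond
some index i₁. -/
theorem result {I : Type u} [SmallCategory I] [IsCofiltered I] (S : Scheme.{u}) [CompactSpace S] [QuasiSeparatedSpace S]
    (D : I ⥤ Scheme.{u}) (t : D ⟶ (Functor.const I).obj S) (c : Limits.Cone D) (hc : Limits.IsLimit c)
    [∀ (i j : I) (a : i ⟶ j), IsAffineHom (D.map a)]
    [∀ i, CompactSpace (D.obj i)] [∀ i, QuasiSeparatedSpace (D.obj i)] (i₀ : I)
    [IsAffineHom (c.π.app i₀ ≫ t.app i₀)] :
    ∃ i₁ : I, ∀ (i : I) (_ : i ⟶ i₁), IsAffineHom (t.app i) := by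
  classical
  let T : ∀ i, D.obj i ⟶ S := fun i => t.app i
  have ht : ∀ ⦃i j : I⦄ (φ : j ⟶ i), D.map φ ≫ T i = T j :=
    fun i j φ => (t.naturality φ).trans (Category.comp_id _)
  have hX : IsAffineHom (c.π.app i₀ ≫ T i₀) := ‹_›
  obtain ⟨s, -, hs⟩ := Groth.Agent.LimLib.exists_affine_image_cover (𝟙 S) ⊤ fun _ => trivial
  obtain ⟨j, φ, hj⟩ := Groth.Agent.LimLib.exists_forall_of_finite
    (fun (a : s) k => IsAffineOpen (T k ⁻¹ᵁ a.1.1)) fun a => by
      exact Groth.Agent.LimLib.exists_isAffineOpen_base T ht hc a.1.1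
        (QuasiCompact.isCompact_preimage (f := T i₀) _ a.1.1.2 a.1.2.isCompact) (a.1.2.preimage _)
  refine ⟨j, fun k χ => ?_⟩
  change IsAffineHom (T k)
  refine isAffineHom_of_forall_exists_isAffineOpen (T k) fun y => ?_
  obtain ⟨U, hU, hy⟩ := hs y
  exact ⟨U.1, hy, U.2, hj ⟨U, hU⟩ k χ⟩

end Groth.Agent.S9200
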