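import Groth.Statements.S9199
import Groth.Agent.LimLib.EventualBase

set_option autoImplicit false
set_option backward.isDefEq.respectTransparency false
set_option backward.defeqAttrib.useBackward true
universe u
open CategoryTheory AlgebraicGeometry
open Lim

namespace Groth.Agent.S9199

/-- Let S be a scheme and X = lim X_i a cofiltered limit of S-schemes X_i (a diagram with a compatible
family of structure maps to S) with affine transition morphisms, every X_i quasi-compact and
quasi-separated; the structure map X → S is the composite X → X_{i₀} → S for any index i₀. Assume S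
is quasi-separated. If X → S is separated, then X_i → S is separated for all i beyond some index i₁. -/
theorem result {I : Type u} [SmallCategory I] [IsCofiltered I] (S : Scheme.{u}) [QuasiSeparatedSpace S]
    (D : I ⥤ Scheme.{u}) (t : D ⟶ (Functor.const I).obj S) (c : Limits.Cone D) (hc : Limits.IsLimit c)
    [∀ (i j : I) (a : i ⟶ j), IsAffineHom (D.map a)]
    [∀ i, CompactSpace (D.obj i)] [∀ i, QuasiSeparatedSpace (D.obj i)] (i₀ : I)
    [IsSeparated (c.π.app i₀ ≫ t.app i₀)] :
    ∃ i₁ : I, ∀ (i : I) (_ : i ⟶ i₁), IsSeparated (t.app i) := by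
  classical
  let T : ∀ i, D.obj i ⟶ S := fun i => t.app i
  have ht : ∀ ⦃i j : I⦄ (φ : j ⟶ i), D.map φ ≫ T i = T j :=
    fun i j φ => (t.naturality φ).trans (Category.comp_id _)
  have hX : IsSeparated (c.π.app i₀ ≫ T i₀) := ‹_›
  obtain ⟨s, -, hs⟩ := Groth.Agent.LimLib.exists_affine_image_cover (T i₀) ⊤ fun _ => trivial
  obtain ⟨j, φ, hj⟩ := Groth.Agent.LimLib.exists_forall_of_finite (i := i₀)
    (fun (a : s) k => IsSeparated (T k ∣_ a.1.1)) fun a => by
      let W := T i₀ ⁻¹ᵁ a.1.1
      have hc' : IsCompact (W : Set (D.obj i₀)) :=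
        QuasiCompact.isCompact_preimage (f := T i₀) _ a.1.1.2 a.1.2.isCompact
      have h1 (l : Over i₀) : CompactSpace ((opensDiagram D i₀ W).obj l) :=
        isCompact_iff_compactSpace.mp (QuasiCompact.isCompact_preimage _ W.2 hc')
      have h2 (l : Over i₀) : QuasiSeparatedSpace ((opensDiagram D i₀ W).obj l) :=
        (isQuasiSeparated_iff_quasiSeparatedSpace _ (D.map _ ⁻¹ᵁ _).2).mp (.of_quasiSeparatedSpace _)
      haveI : IsAffine a.1.1.toScheme := a.1.2
      have h3 : (opensCone D c i₀ W).pt.IsSeparated :=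
        (HasAffineProperty.iff_of_isAffine (P := @IsSeparated)
          (f := (c.π.app i₀ ≫ T i₀) ∣_ a.1.1)).1
          (IsZariskiLocalAtTarget.restrict hX _)
      obtain ⟨l, hl⟩ := Groth.Agent.LimLib.exists_isSeparated _ _
        (isLimitOpensCone D c hc i₀ W)
      refine ⟨l.left, l.hom, fun k χ => ?_⟩
      have h4 : Scheme.IsSeparated (D.map (χ ≫ l.hom) ⁻¹ᵁ W).toScheme :=
        hl (Over.mk (χ ≫ l.hom)) (Over.homMk χ)
      rw [Groth.Agent.LimLib.preimage_t T ht (χ ≫ l.hom) a.1.1] at h4
      exact (HasAffineProperty.iff_of_isAffine (P := @IsSeparated)).2 h4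
  refine ⟨j, fun k χ => ?_⟩
  change IsSeparated (T k)
  refine Groth.Agent.LimLib.of_restrict (P := @IsSeparated) (fun f g _ _ => inferInstance) (T k)
    (fun a : s => (a.1.1 : S.Opens)) (fun x => ?_) fun a => hj a k χ
  obtain ⟨U, hU, hx⟩ := hs (D.map (χ ≫ φ) x)
  refine ⟨⟨U, hU⟩, ?_⟩
  rw [← ht (χ ≫ φ)]
  exact hx

end Groth.Agent.S9199
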