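import Groth.Statements.S0444
import Groth.Agent.GeomUnib.ValuationFibre
import Groth.Agent.GeomUnib.FibreDimNhds
-- import your own Groth.Agent.* helpers here

set_option autoImplicit false
universe u
open FlatMor

namespace Groth.Agent.S0444

open AlgebraicGeometry CategoryTheory

/-- The residue field of a local ring as a residue field of a prime. -/
noncomputable def residueEquiv (R : Type u) [CommRing R] [IsLocalRing R] :
    IsLocalRing.ResidueField R ≃ₐ[R] (IsLocalRing.maximalIdeal R).ResidueField :=
  AlgEquiv.ofBijective (IsScalarTower.toAlgHom R (R ⧸ IsLocalRing.maximalIdeal R) _)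
    (Ideal.bijective_algebraMap_quotient_residueField (IsLocalRing.maximalIdeal R))

/-- The fraction field of a domain as a residue field of a prime. -/
noncomputable def genericEquiv (R : Type u) [CommRing R] [IsDomain R] :
    FractionRing R ≃ₐ[R] (⊥ : Ideal R).ResidueField :=
  AlgEquiv.ofBijective
    (IsLocalization.liftAlgHom (M := nonZeroDivisors R) (f := Algebra.ofId R (⊥ : Ideal R).ResidueField)
      fun y => isUnit_iff_ne_zero.2 fun h => nonZeroDivisors.ne_zero y.2
        (Ideal.algebraMap_residueField_eq_zero.1 h))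
    ⟨RingHom.injective _, fun z => by
      obtain ⟨a, b, hb, rfl⟩ := IsFractionRing.div_surjective (A := R ⧸ (⊥ : Ideal R)) z
      obtain ⟨a, rfl⟩ := Ideal.Quotient.mk_surjective a
      obtain ⟨b, rfl⟩ := Ideal.Quotient.mk_surjective b
      refine ⟨algebraMap R (FractionRing R) a / algebraMap R (FractionRing R) b, ?_⟩
      rw [map_div₀, AlgHom.commutes, AlgHom.commutes]
      rfl⟩

open TensorProduct in
/-- Let R be a valuation ring with residue field κ and fraction field K, and S a domain of finite type
over R with R → S injective. If the special fibre κ ⊗_R S is nonzero, then its Krull dimension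
equals the Krull dimension of the generic fibre K ⊗_R S. (The published statement also asserts that
the special fibre is equidimensional; that is not stated here.) -/
theorem result {R S : Type u} [CommRing R] [IsDomain R] [ValuationRing R] [CommRing S] [IsDomain S] [Algebra R S]
    (hinj : Function.Injective (algebraMap R S)) [Algebra.FiniteType R S]
    [Nontrivial (IsLocalRing.ResidueField R ⊗[R] S)] :
    ringKrullDim (IsLocalRing.ResidueField R ⊗[R] S) = ringKrullDim (FractionRing R ⊗[R] S) := by
  let f : Spec (CommRingCat.of S) ⟶ Spec (CommRingCat.of R) := Spec.map (CommRingCat.ofHom (algebraMap R S))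
  haveI : LocallyOfFiniteType f := by
    rw [HasRingHomProperty.Spec_iff (P := @LocallyOfFiniteType)]
    exact RingHom.finiteType_algebraMap.2 inferInstance
  have hdim : ∀ p : PrimeSpectrum R,
      topologicalKrullDim ↥(f.fiber p) = ringKrullDim (p.asIdeal.Fiber S) := fun p => by
    exact (GeomUnib.FibreDimNhds.dim_fibre_eq f p).trans
      ((FibreDim.dim_homeo (PrimeSpectrum.preimageHomeomorphFiber R S p)).trans
        (PrimeSpectrum.topologicalKrullDim_eq_ringKrullDim _))
  let η : ↥(Spec (CommRingCat.of S)) := (⟨⊥, Ideal.isPrime_bot⟩ : PrimeSpectrum S)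
  let b : PrimeSpectrum R := ⟨⊥, Ideal.isPrime_bot⟩
  let c : PrimeSpectrum R := IsLocalRing.closedPoint R
  have hη : f η = b := PrimeSpectrum.ext ((RingHom.injective_iff_ker_eq_bot _).1 hinj)
  have hηw : ∀ w : ↥(Spec (CommRingCat.of S)), η ⤳ w := fun w =>
    (PrimeSpectrum.le_iff_specializes (⟨⊥, Ideal.isPrime_bot⟩ : PrimeSpectrum S) w).1 bot_le
  obtain ⟨n, hn, -⟩ := FibreDim.exists_fdim f η
  have hgen : topologicalKrullDim ↥(f.fiber b) = n := by
    refine le_antisymm (GeomUnib.FibreDimNhds.dim_fibre_le f fun w hw => ?_) ?_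
    · rw [← hn]
      exact FibreDim.fdim_mono f (hηw w) (hη.trans hw.symm)
    · rw [← hn]
      exact GeomUnib.FibreDimNhds.fdim_le_dim_fibre f η hη
  haveI : Nontrivial (c.asIdeal.Fiber S) :=
    (Algebra.TensorProduct.congr (residueEquiv R) (AlgEquiv.refl : S ≃ₐ[R] S)).toRingEquiv.symm.toEquiv.nontrivial
  have hspec : topologicalKrullDim ↥(f.fiber c) = n := by
    refine le_antisymm (GeomUnib.FibreDimNhds.dim_fibre_le f fun w hw => ?_) ?_
    · rw [← hn]
      exact GeomUnib.fdim_le_of_valuationRing f (hηw w) hw hη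
    · obtain ⟨P⟩ := (PrimeSpectrum.nonempty_iff_nontrivial (R := c.asIdeal.Fiber S)).2 inferInstance
      obtain ⟨⟨w, hw⟩, -⟩ := (PrimeSpectrum.preimageHomeomorphFiber R S c).surjective P
      have hw' : f.base w = c := hw
      obtain ⟨m, hm, ⟨v, hv, -, hvm⟩, -⟩ := FibreDim.exists_fibreDimAt_eq f w
      refine ((hn.symm.le.trans (FibreDim.fdim_le_fibreDimAt f (hηw w))).trans_eq (hm.trans hvm.symm)).trans ?_
      exact GeomUnib.FibreDimNhds.fdim_le_dim_fibre f v (hv.trans hw')
  rw [ringKrullDim_eq_of_ringEquiv (Algebra.TensorProduct.congr (residueEquiv R) (AlgEquiv.refl : S ≃ₐ[R] S)).toRingEquiv,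
    ringKrullDim_eq_of_ringEquiv (Algebra.TensorProduct.congr (genericEquiv R) (AlgEquiv.refl : S ≃ₐ[R] S)).toRingEquiv]
  exact ((hdim c).symm.trans hspec).trans (((hdim b).symm.trans hgen).symm)

end Groth.Agent.S0444
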