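import Groth.Statements.S9437
import Groth.Agent.DepthLib.FlatDepth
import Groth.Agent.DepthLib.Reduced
import Mathlib.RingTheory.Ideal.GoingDown

set_option autoImplicit false
universe u
open CAlg

namespace Groth.Agent.S9437

/-- Serre's condition (S_k) descends along faithfully flat ring maps: if S is faithfully flat over R,
Noetherian and (S_k), then R is Noetherian and (S_k). -/
theorem result (k : ℕ) (R : Type u) [CommRing R] (S : Type u) [CommRing S]
    [Algebra R S] [Module.FaithfullyFlat R S] [IsNoetherianRing S] (hS : LocCoh.HasSk k S S) :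
    IsNoetherianRing R ∧ LocCoh.HasSk k R R := by
  have hnoeth : IsNoetherianRing R :=
    isNoetherianRing_iff.mpr (isNoetherian_iff'.mpr (StrictMono.wellFoundedGT (f := Ideal.map (algebraMap R S))
      (Monotone.strictMono_of_injective (fun I J h => Ideal.map_mono h)
        (Function.LeftInverse.injective Ideal.comap_map_eq_self_of_faithfullyFlat))))
  refine ⟨hnoeth, fun p hp => ?_⟩
  obtain ⟨q', hq'⟩ := PrimeSpectrum.comap_surjective_of_faithfullyFlat (B := S) ⟨p, hp⟩
  have hq'' : q'.asIdeal.comap (algebraMap R S) = p := congrArg PrimeSpectrum.asIdeal hq'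
  obtain ⟨q, hq, hle⟩ := Ideal.exists_minimalPrimes_le (Ideal.map_le_iff_le_comap.mpr hq''.ge)
  haveI := hq.isPrime
  haveI := DepthLib.liesOver_of_mem_minimalPrimes_map hq hle hq''
  have hh := DepthLib.height_eq_of_mem_minimalPrimes_map p q hq
  have hk := hS q
  rw [DepthLib.depth_localization_self, DepthLib.supportDim_localization_self, hh] at hk
  rw [DepthLib.depth_localization_self, DepthLib.supportDim_localization_self]
  refine hk.trans (le_of_eq (congrArg _ ?_))
  letI := Localization.AtPrime.algebraOfLiesOver p q
  haveI : IsLocalHom (algebraMap (Localization.AtPrime p) (Localization.AtPrime q)) := by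
    rw [RingHom.algebraMap_toAlgebra]
    exact Localization.isLocalHom_localRingHom p q (algebraMap R S) Ideal.LiesOver.over
  rw [← DepthLib.idealDepth_eq_depth_of_radical (A := Localization.AtPrime q)
    (I := (IsLocalRing.maximalIdeal (Localization.AtPrime p)).map (algebraMap _ (Localization.AtPrime q)))
    (((IsLocalRing.local_hom_TFAE _).out 0 2 rfl rfl).mp ‹_›) ?_]
  · exact DepthLib.idealDepth_map_eq fun Q hQ _ => DepthLib.map_ne_top_of_isLocalHom Q hQ
  intro Q hQ hQle
  refine IsLocalRing.eq_maximalIdeal ?_
  have hQq : Q.comap (algebraMap S (Localization.AtPrime q)) ≤ q :=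
    (IsLocalization.AtPrime.orderIsoOfPrime (Localization.AtPrime q) q ⟨Q, hQ⟩).2.2
  have hge : p.map (algebraMap R S) ≤ Q.comap (algebraMap S (Localization.AtPrime q)) := by
    rw [← Ideal.map_le_iff_le_comap, Ideal.map_map, ← IsScalarTower.algebraMap_eq,
      IsScalarTower.algebraMap_eq R (Localization.AtPrime p), ← Ideal.map_map,
      Localization.AtPrime.map_eq_maximalIdeal]
    exact hQle
  have heq := le_antisymm hQq (hq.2 ⟨hQ.comap _, hge⟩ hQq)
  have : Q = IsLocalRing.maximalIdeal (Localization.AtPrime q) := by
    rw [← IsLocalization.map_comap q.primeCompl (Localization.AtPrime q) Q, Ideal.under_def, heq,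
      Localization.AtPrime.map_eq_maximalIdeal]
  rw [this]; infer_instance

end Groth.Agent.S9437
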