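import Groth.Statements.S2069
import Mathlib

set_option autoImplicit false
universe u
open CAlg

namespace Groth.Agent.S2069

section helper

open TensorProduct

variable {R S N : Type u} [CommRing R] [CommRing S] [Algebra R S] [AddCommGroup N] [Module S N] [Module R N]
  [IsScalarTower R S N]

/-- `N ⊗ R ⧸ p` as an `S`-module. -/
noncomputable def quotEquiv (p : Ideal R) :
    (N ⧸ p.map (algebraMap R S) • (⊤ : Submodule S N)) ≃ₗ[S] N ⊗[R] (R ⧸ p) := by
  let P := p.map (algebraMap R S) • (⊤ : Submodule S N)
  let g : (R ⧸ p) →ₗ[R] (N →ₗ[S] N ⧸ P) :=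
    Submodule.liftQ p (LinearMap.toSpanSingleton R _ P.mkQ) (fun r hr => by
      rw [LinearMap.mem_ker, LinearMap.toSpanSingleton_apply]
      ext n
      rw [LinearMap.smul_apply, ← LinearMap.map_smul_of_tower, LinearMap.zero_apply]
      · refine (Submodule.Quotient.mk_eq_zero P).mpr ?_
        rw [← algebraMap_smul S r n]
        exact Submodule.smul_mem_smul (Ideal.mem_map_of_mem _ hr) trivial)
  let μ : (N ⧸ P) →ₗ[S] N ⊗[R] (R ⧸ p) := P.liftQ ((AlgebraTensorModule.mk R S N (R ⧸ p)).flip 1) (by
    rw [Submodule.smul_le]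
    intro r hr n _
    induction hr using Submodule.span_induction generalizing n with
    | mem r hr =>
      obtain ⟨a, ha, rfl⟩ := hr
      rw [LinearMap.mem_ker, algebraMap_smul]
      show (a • n) ⊗ₜ[R] (1 : R ⧸ p) = 0
      rw [TensorProduct.smul_tmul, Algebra.smul_def, mul_one, Ideal.Quotient.algebraMap_eq,
        Ideal.Quotient.eq_zero_iff_mem.mpr ha, TensorProduct.tmul_zero]
    | zero => simp
    | add a b _ _ ha hb => rw [add_smul]; exact add_mem (ha n trivial) (hb n trivial)
    | smul c a _ ha => rw [smul_assoc]; exact Submodule.smul_mem _ c (ha n trivial))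
  refine LinearEquiv.ofLinear μ (AlgebraTensorModule.lift (LinearMap.flip (g : (R ⧸ p) →ₗ[R] (N →ₗ[S] N ⧸ P)))) ?_ ?_
  · refine TensorProduct.AlgebraTensorModule.ext fun n r => ?_
    obtain ⟨r, rfl⟩ := Ideal.Quotient.mk_surjective r
    show μ (g (Submodule.Quotient.mk r) n) = n ⊗ₜ[R] (Ideal.Quotient.mk p r)
    show μ (r • P.mkQ n) = _
    rw [LinearMap.map_smul_of_tower]
    show r • (n ⊗ₜ[R] (1 : R ⧸ p)) = _
    rw [← TensorProduct.tmul_smul, Algebra.smul_def, mul_one, Ideal.Quotient.algebraMap_eq]
  · refine Submodule.linearMap_qext _ (LinearMap.ext fun n => ?_)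
    show g (Submodule.Quotient.mk 1) n = P.mkQ n
    show (1 : R) • P.mkQ n = P.mkQ n
    rw [one_smul]

end helper

open TensorProduct in
set_option maxHeartbeats 4000000 in
/-- Let `R → S` be a ring map, `M` an `R`-module and `N` an `S`-module flat over `R`. Then a prime of
`S` is associated to `N ⊗_R M` if and only if it is associated to `N/𝔭N` for some prime `𝔭` of `R`
associated to `M`. -/
theorem result {R S M N : Type u} [CommRing R] [IsNoetherianRing R] [CommRing S]
    [Algebra R S] [AddCommGroup M] [Module R M] [AddCommGroup N] [Module S N] [Module R N]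
    [IsScalarTower R S N] [Module.Flat R N] :
    associatedPrimes S (N ⊗[R] M) =
      ⋃ p ∈ associatedPrimes R M, associatedPrimes S (N ⧸ p.map (algebraMap R S) • (⊤ : Submodule S N)) := by
  classical
  ext q
  simp only [Set.mem_iUnion, exists_prop]
  constructor
  · rintro ⟨hq, x, hqx⟩
    haveI := hq
    let p := q.comap (algebraMap R S)
    have hann : ∀ c : S, c • x = 0 → c ∈ q := fun c hc => hqx.ge (Ideal.le_radical (by
      rw [Submodule.mem_colon_singleton, Submodule.mem_bot]
      exact hc))
    have hnil : ∀ c ∈ q, ∃ e : ℕ, c ^ e • x = 0 := fun c hc => by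
      obtain ⟨e, he⟩ := hqx.le hc
      exact ⟨e, by simpa [Submodule.mem_colon_singleton] using he⟩
    -- a finite submodule
    obtain ⟨M', hM', y, hy⟩ : ∃ M' : Submodule R M, M'.FG ∧ ∃ y : N ⊗[R] M', M'.subtype.lTensor N y = x := by
      clear hann hnil hqx
      induction x using TensorProduct.induction_on with
      | zero => exact ⟨⊥, Submodule.fg_bot, 0, map_zero _⟩
      | tmul n m => exact ⟨R ∙ m, Submodule.fg_span_singleton m, n ⊗ₜ ⟨m, Submodule.mem_span_singleton_self m⟩, rfl⟩
      | add a b ha hb =>
        obtain ⟨A, hA, y, rfl⟩ := ha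
        obtain ⟨B, hB, z, rfl⟩ := hb
        refine ⟨A ⊔ B, hA.sup hB, (Submodule.inclusion le_sup_left).lTensor N y + (Submodule.inclusion le_sup_right).lTensor N z, ?_⟩
        rw [map_add, ← LinearMap.lTensor_comp_apply, ← LinearMap.lTensor_comp_apply]
        rfl
    haveI : Module.Finite R M' := Module.Finite.iff_fg.mpr hM'
    let ι' : N ⊗[R] M' →ₗ[S] N ⊗[R] M := AlgebraTensorModule.map LinearMap.id M'.subtype
    have hι' : Function.Injective ι' := Module.Flat.lTensor_preserves_injective_linearMap _ Subtype.val_injective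
    have hannY : ∀ c : S, c • y = 0 → c ∈ q := fun c hc => hann c (by
      rw [← hy]
      show c • ι' y = 0
      rw [← map_smul, hc, map_zero])
    have hnilY : ∀ c ∈ q, ∃ e : ℕ, c ^ e • y = 0 := fun c hc => by
      obtain ⟨e, he⟩ := hnil c hc
      refine ⟨e, hι' ?_⟩
      rw [map_smul, map_zero]
      show c ^ e • (M'.subtype.lTensor N y) = 0
      rw [hy]
      exact he
    -- a power of `p` kills `y`
    obtain ⟨k, hk⟩ : ∃ k, ∀ r ∈ p ^ k, r • y = 0 := by
      let J : Ideal R := (⊥ : Submodule R (N ⊗[R] M')).colon {y}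
      have hJ : p ≤ J.radical := fun r hr => by
        obtain ⟨e, he⟩ := hnilY _ hr
        refine ⟨e, ?_⟩
        rw [Submodule.mem_colon_singleton, Submodule.mem_bot, ← algebraMap_smul S, map_pow]
        exact he
      obtain ⟨k, hk⟩ := Ideal.exists_pow_le_of_le_radical_of_fg hJ (IsNoetherian.noetherian p)
      exact ⟨k, fun r hr => (Submodule.mem_bot R).mp (Submodule.mem_colon_singleton.mp (hk hr))⟩
    let W : ℕ → Submodule R M' := fun j => Submodule.torsionBySet R M' ((p ^ j : Ideal R) : Set R)
    let Z : ℕ → Submodule S (N ⊗[R] M') := fun j =>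
      LinearMap.range (AlgebraTensorModule.map (LinearMap.id : N →ₗ[S] N) (W j).subtype)
    have hyk : y ∈ Z k := by
      obtain ⟨l, r, hr⟩ := Submodule.fg_iff_exists_fin_generating_family.mp (IsNoetherian.noetherian (p ^ k))
      let f : M' →ₗ[R] (Fin l → M') := LinearMap.pi fun i => r i • LinearMap.id
      have hex : Function.Exact (W k).subtype f := by
        intro m
        constructor
        · intro hm
          refine ⟨⟨m, ?_⟩, rfl⟩
          rw [Submodule.mem_torsionBySet_iff]
          rintro ⟨a, ha⟩
          show a • m = 0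
          rw [← hr] at ha
          induction ha using Submodule.span_induction with
          | mem a ha => obtain ⟨i, rfl⟩ := ha; exact congrFun hm i
          | zero => exact zero_smul _ _
          | add a b _ _ ha hb => show (a + b) • m = 0; rw [add_smul, show a • m = 0 from ha, show b • m = 0 from hb, add_zero]
          | smul c a _ ha => show (c * a) • m = 0; rw [mul_smul, show a • m = 0 from ha, smul_zero]
        · rintro ⟨w, rfl⟩
          funext i
          exact (Submodule.mem_torsionBySet_iff _ _).mp w.2 ⟨r i, hr.le (Submodule.subset_span ⟨i, rfl⟩)⟩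
      obtain ⟨w, hw⟩ := (Module.Flat.lTensor_exact N hex y).mp (by
        refine (TensorProduct.piRight R R N (fun _ : Fin l => M')).injective ?_
        rw [map_zero]
        funext i
        have h4 : ∀ y, TensorProduct.piRight R R N (fun _ : Fin l => M') (f.lTensor N y) i = r i • y := by
          intro y
          induction y using TensorProduct.induction_on with
          | zero => simp
          | add a b ha hb => simp only [map_add, Pi.add_apply, ha, hb, smul_add]
          | tmul a b => simp [f, TensorProduct.tmul_smul]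
        rw [h4]
        exact hk _ (hr.le (Submodule.subset_span ⟨i, rfl⟩)))
      exact ⟨w, hw⟩
    have hex : ∃ j, ∃ b ∉ q, b • y ∈ Z j :=
      ⟨k, 1, fun h => hq.ne_top ((Ideal.eq_top_iff_one q).mpr h), by rwa [one_smul]⟩
    obtain ⟨b, hb, w, hw⟩ := Nat.find_spec hex
    obtain ⟨j, hj⟩ : ∃ j, Nat.find hex = j + 1 := by
      rcases Nat.eq_zero_or_pos (Nat.find hex) with h0 | h0
      · exfalso
        have hW : ∀ m : W (Nat.find hex), m = 0 := fun m => by
          have := (Submodule.mem_torsionBySet_iff _ _).mp m.2 ⟨1, by simp [h0]⟩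
          exact Subtype.ext (by simpa using this)
        have hw0 : w = 0 := by
          clear hw
          induction w using TensorProduct.induction_on with
          | zero => rfl
          | tmul n m => rw [hW m, TensorProduct.tmul_zero]
          | add a b ha hb => rw [ha, hb, add_zero]
        rw [hw0, map_zero] at hw
        exact hb (hannY b hw.symm)
      · exact ⟨Nat.find hex - 1, by omega⟩
    have hWle : W j ≤ W (Nat.find hex) := fun m hm => by
      rw [Submodule.mem_torsionBySet_iff] at hm ⊢
      rintro ⟨a, ha⟩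
      exact hm ⟨a, Ideal.pow_le_pow_right (by omega) ha⟩
    let Q := W (Nat.find hex) ⧸ LinearMap.range (Submodule.inclusion hWle)
    let π : N ⊗[R] W (Nat.find hex) →ₗ[S] N ⊗[R] Q :=
      AlgebraTensorModule.map LinearMap.id (LinearMap.range (Submodule.inclusion hWle)).mkQ
    have hannz : ∀ c : S, c • π w = 0 → c ∈ q := by
      intro c hc
      by_contra hcq
      rw [← map_smul] at hc
      obtain ⟨v, hv⟩ := (lTensor_exact (M := ↥(W j)) N (LinearMap.exact_map_mkQ_range (Submodule.inclusion hWle))
        (Submodule.mkQ_surjective _) (c • w)).mp hc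
      refine Nat.find_min hex (show j < Nat.find hex by omega) ⟨c * b, hq.mul_notMem hcq hb, ?_⟩
      refine ⟨v, ?_⟩
      rw [mul_smul, ← hw, ← map_smul, ← hv]
      show (W j).subtype.lTensor N v = (W (Nat.find hex)).subtype.lTensor N ((Submodule.inclusion hWle).lTensor N v)
      rw [← LinearMap.lTensor_comp_apply]
      rfl
    have hnilz : ∀ c ∈ q, ∃ e : ℕ, c ^ e • π w = 0 := by
      intro c hc
      obtain ⟨e, he⟩ := hnilY c hc
      refine ⟨e, ?_⟩
      rw [← map_smul]
      have h5 : c ^ e • w = 0 := by
        refine (Module.Flat.lTensor_preserves_injective_linearMap (M := N) (W (Nat.find hex)).subtype Subtype.val_injective) ?_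
        rw [map_zero]
        show AlgebraTensorModule.map (LinearMap.id : N →ₗ[S] N) (W (Nat.find hex)).subtype (c ^ e • w) = 0
        rw [map_smul, hw, smul_comm, he, smul_zero]
      rw [h5, map_zero]
    -- `p` is associated to `M`
    have hQkill : ∀ r ∈ p, ∀ z : Q, r • z = 0 := by
      intro r hr z
      obtain ⟨m, rfl⟩ := Submodule.Quotient.mk_surjective _ z
      rw [← Submodule.Quotient.mk_smul, Submodule.Quotient.mk_eq_zero]
      refine ⟨⟨r • m.1, (Submodule.mem_torsionBySet_iff _ _).mpr fun a => ?_⟩, rfl⟩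
      rw [smul_smul]
      exact (Submodule.mem_torsionBySet_iff _ _).mp m.2 ⟨a.1 * r, by rw [hj, pow_succ]; exact Ideal.mul_mem_mul a.2 hr⟩
    have hpM : p ∈ associatedPrimes R M := by
      by_contra hp
      have hkill : ∀ m : W (Nat.find hex), ∃ s, s ∉ p ∧ s • m = 0 := by
        intro m
        by_contra hno
        push Not at hno
        refine hp ⟨inferInstance, (m : M').1, le_antisymm (fun r hr => ?_) (fun r hr => ?_)⟩
        · refine ⟨Nat.find hex, ?_⟩
          rw [Submodule.mem_colon_singleton, Submodule.mem_bot]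
          exact congrArg Subtype.val ((Submodule.mem_torsionBySet_iff _ _).mp m.2 ⟨_, Ideal.pow_mem_pow hr _⟩)
        · obtain ⟨e, he⟩ := hr
          rw [Submodule.mem_colon_singleton, Submodule.mem_bot] at he
          have h6 : r ^ e ∈ p := by
            by_contra h7
            exact hno _ h7 (Subtype.ext (Subtype.ext he))
          exact Ideal.IsPrime.mem_of_pow_mem inferInstance e h6
      have hwkill : ∃ s, s ∉ p ∧ s • w = 0 := by
        clear hw hannz hnilz
        induction w using TensorProduct.induction_on with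
        | zero => exact ⟨1, fun h => (Ideal.IsPrime.ne_top (inferInstance : p.IsPrime)) ((Ideal.eq_top_iff_one p).mpr h), smul_zero _⟩
        | tmul n m =>
          obtain ⟨s, hs, hsm⟩ := hkill m
          exact ⟨s, hs, by rw [← TensorProduct.tmul_smul, hsm, TensorProduct.tmul_zero]⟩
        | add a b ha hb =>
          obtain ⟨s, hs, hsa⟩ := ha
          obtain ⟨t, ht, htb⟩ := hb
          exact ⟨s * t, Ideal.IsPrime.mul_notMem inferInstance hs ht, by
            rw [smul_add, mul_smul s t b, htb, smul_zero, add_zero, mul_comm, mul_smul, hsa, smul_zero]⟩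
      obtain ⟨s, hs, hsw⟩ := hwkill
      exact hs (hannz (algebraMap R S s) (by rw [algebraMap_smul, ← LinearMap.map_smul_of_tower, hsw, map_zero]))
    refine ⟨p, hpM, ?_⟩
    -- components
    have hT : Module.IsTorsionBySet R Q (p : Set R) := fun z r => hQkill r.1 r.2 z
    letI : Module (R ⧸ p) Q := hT.module
    haveI : IsScalarTower R (R ⧸ p) Q := hT.isScalarTower
    haveI : Module.Finite (R ⧸ p) Q := Module.Finite.of_restrictScalars_finite R (R ⧸ p) Q
    obtain ⟨g, π', hπ'⟩ := Module.Finite.exists_fin' (R ⧸ p) Q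
    let v : Fin g → Q := fun i => π' (Pi.single i 1)
    obtain ⟨I, hI, hmax⟩ := exists_maximal_linearIndepOn (R ⧸ p) v
    have hexv : ∀ i, ∃ a : R ⧸ p, a ≠ 0 ∧ a • v i ∈ Submodule.span (R ⧸ p) (v '' I) := fun i => by
      by_cases hi : i ∈ I
      · exact ⟨1, one_ne_zero, by rw [one_smul]; exact Submodule.subset_span ⟨i, hi, rfl⟩⟩
      · exact hmax i hi
    choose a ha ha' using hexv
    let F : Submodule (R ⧸ p) Q := Submodule.span (R ⧸ p) (v '' I)
    have hall : ∀ z, (∏ i, a i) • z ∈ F := by
      intro z
      obtain ⟨c, rfl⟩ := hπ' z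
      rw [pi_eq_sum_univ' c, map_sum, Finset.smul_sum]
      refine F.sum_mem fun i _ => ?_
      obtain ⟨b', hb'⟩ := Finset.dvd_prod_of_mem a (Finset.mem_univ i)
      rw [map_smul, smul_comm]
      refine F.smul_mem _ ?_
      rw [hb', mul_comm, mul_smul]
      exact F.smul_mem _ (ha' i)
    obtain ⟨s, hs⟩ := Ideal.Quotient.mk_surjective (∏ i, a i)
    have hsp : algebraMap R S s ∉ q := fun h => by
      refine (Finset.prod_ne_zero_iff (s := Finset.univ) (f := a)).mpr (fun i _ => ha i) ?_
      rw [← hs]
      exact Ideal.Quotient.eq_zero_iff_mem.mpr h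
    let B : Module.Basis I (R ⧸ p) F :=
      (Module.Basis.span hI.linearIndependent).map (LinearEquiv.ofEq _ _ (by simp [F, Set.image_eq_range]))
    haveI : Fintype I := Fintype.ofFinite I
    let φ : Q →ₗ[R] (I → R ⧸ p) :=
      (B.equivFun.toLinearMap ∘ₗ ((∏ i, a i) • LinearMap.id).codRestrict F hall).restrictScalars R
    let ψ : (I → R ⧸ p) →ₗ[R] Q := (F.subtype ∘ₗ B.equivFun.symm.toLinearMap).restrictScalars R
    have hψφ : ∀ z, ψ (φ z) = s • z := fun z => by
      show ((B.equivFun.symm (B.equivFun ⟨(∏ i, a i) • z, hall z⟩) : F) : Q) = _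
      rw [LinearEquiv.symm_apply_apply]
      show (∏ i, a i) • z = s • z
      rw [← hs]
      exact algebraMap_smul (R ⧸ p) s z
    let pr : I → N ⊗[R] Q →ₗ[S] N ⊗[R] (R ⧸ p) := fun i => AlgebraTensorModule.map LinearMap.id (LinearMap.proj i ∘ₗ φ)
    have hzero : ∀ c : S, (∀ i, c • pr i (π w) = 0) → c ∈ q := by
      intro c hc
      have h8 : φ.lTensor N (c • π w) = 0 := by
        refine (TensorProduct.piRight R R N (fun _ : I => R ⧸ p)).injective ?_
        rw [map_zero]
        funext i
        have h4 : ∀ u, TensorProduct.piRight R R N (fun _ : I => R ⧸ p) (φ.lTensor N u) i = pr i u := by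
          intro u
          induction u using TensorProduct.induction_on with
          | zero => simp
          | add a b ha hb => simp only [map_add, Pi.add_apply, ha, hb]
          | tmul a b => simp [pr]
        rw [h4, map_smul, hc i]
        rfl
      have h9 := congrArg (ψ.lTensor N) h8
      rw [map_zero, ← LinearMap.lTensor_comp_apply, show ψ.comp φ = s • LinearMap.id from LinearMap.ext hψφ,
        LinearMap.lTensor_smul, LinearMap.lTensor_id, LinearMap.smul_apply, LinearMap.id_apply, ← algebraMap_smul S s,
        smul_smul] at h9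
      exact (hq.mem_or_mem (hannz _ h9)).resolve_left hsp
    obtain ⟨i, hi⟩ : ∃ i, ∀ c : S, c • pr i (π w) = 0 → c ∈ q := by
      by_contra hno
      push Not at hno
      choose c hc hcq using hno
      have h10 : ∏ i, c i ∈ q := hzero _ fun i => by
        rw [← Finset.prod_erase_mul _ _ (Finset.mem_univ i), mul_smul, hc i, smul_zero]
      obtain ⟨i, -, hi⟩ := (Ideal.IsPrime.prod_mem_iff).mp h10
      exact hcq i hi
    refine IsAssociatedPrime.map_of_injective (quotEquiv p).symm.toLinearMap
      ⟨hq, pr i (π w), le_antisymm (fun c hc => ?_) (fun c hc => ?_)⟩ (quotEquiv p).symm.injective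
    · obtain ⟨e, he⟩ := hnilz c hc
      refine ⟨e, ?_⟩
      rw [Submodule.mem_colon_singleton, Submodule.mem_bot, ← map_smul, he, map_zero]
    · obtain ⟨e, he⟩ := hc
      rw [Submodule.mem_colon_singleton, Submodule.mem_bot] at he
      exact hq.mem_of_pow_mem e (hi _ he)
  · rintro ⟨p, hp, hq⟩
    obtain ⟨hp', m, hm⟩ := isAssociatedPrime_iff.mp hp
    let f : (R ⧸ p) →ₗ[R] M := Submodule.liftQ p (LinearMap.toSpanSingleton R M m) fun r hr => by
      rw [hm, Submodule.mem_colon_singleton, Submodule.mem_bot] at hr
      exact hr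
    have hf : Function.Injective f := (injective_iff_map_eq_zero _).mpr fun z hz => by
      obtain ⟨r, rfl⟩ := Submodule.Quotient.mk_surjective _ z
      rw [Submodule.Quotient.mk_eq_zero, hm, Submodule.mem_colon_singleton, Submodule.mem_bot]
      exact hz
    let G : N ⊗[R] (R ⧸ p) →ₗ[S] N ⊗[R] M := AlgebraTensorModule.map LinearMap.id f
    exact IsAssociatedPrime.map_of_injective (G ∘ₗ (quotEquiv p).toLinearMap) hq
      ((Module.Flat.lTensor_preserves_injective_linearMap f hf).comp (quotEquiv p).injective)

end Groth.Agent.S2069
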