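import Groth.Statements.S6889
import Groth.Agent.FittIdeal.Basic
-- import your own Groth.Agent.* helpers here

set_option autoImplicit false
universe u
open Fitt

namespace Groth.Agent.S6889

/-- Let `M` be an `R`-module generated by `x_1, …, x_n`. Then `Fit_k(M)` equals the ideal spanned by all
`(n-k) × (n-k)` determinants of matrices whose `n - k` rows are relation vectors among the `x_i`
(rows selected by any map `Fin (n-k) → Fin n`); in particular it does not depend on the generating
tuple. -/
theorem result {R : Type u} [CommRing R] {M : Type u} [AddCommGroup M] [Module R M]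
    {n : ℕ} (x : Fin n → M) (hx : Submodule.span R (Set.range x) = ⊤) (k : ℕ) :
    Fitt.ideal R M k = Ideal.span {d | ∃ (z : Fin (n - k) → (Fin n → R)) (e : Fin (n - k) → Fin n),
      (∀ j, ∑ i, z j i • x i = 0) ∧ d = (Matrix.of fun a b => z b (e a)).det} := by
  classical
  rw [Groth.Agent.FittIdeal.ideal_eq x hx]
  refine le_antisymm (Ideal.span_le.2 ?_) (Ideal.span_le.2 ?_)
  · rintro _ ⟨a, ha, rfl⟩
    -- expand along the rows below the relations
    suffices h : ∀ (p : ℕ) (hp : n - k ≤ p) (g : Fin p → Fin n) (b : Matrix (Fin p) (Fin p) R),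
        (∀ i : Fin p, (hi : (i : ℕ) < n - k) → ∀ j, b i j = a ⟨i, lt_of_lt_of_le hi (Nat.sub_le n k)⟩ (g j)) →
        b.det ∈ Ideal.span {d | ∃ (z : Fin (n - k) → (Fin n → R)) (e : Fin (n - k) → Fin n),
          (∀ j, ∑ i, z j i • x i = 0) ∧ d = (Matrix.of fun a b => z b (e a)).det} from
      h n (Nat.sub_le n k) id a fun i _ j => rfl
    intro p hp
    induction p, hp using Nat.le_induction with
    | base =>
      intro g b hb
      refine Ideal.subset_span ⟨fun i => a (Fin.castLE (Nat.sub_le n k) i), g, fun i => ha _ i.isLt, ?_⟩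
      rw [← Matrix.det_transpose b]
      congr 1
      ext i j
      exact hb j j.isLt i
    | succ p hp ih =>
      intro g b hb
      rw [Matrix.det_succ_row b (Fin.last p)]
      refine Submodule.sum_mem _ fun c _ => Ideal.mul_mem_left _ _ (ih (g ∘ c.succAbove) _ fun i hi j => ?_)
      simp only [Matrix.submatrix_apply, Fin.succAbove_last, Function.comp_apply]
      exact hb i.castSucc hi (c.succAbove j)
  · rintro _ ⟨z, e, hz, rfl⟩
    by_cases he : Function.Injective e
    swap
    · rw [Function.Injective] at he
      push Not at he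
      obtain ⟨i, j, hij, hne⟩ := he
      rw [SetLike.mem_coe, Matrix.det_zero_of_row_eq hne (funext fun b => congrArg (z b) hij)]
      exact zero_mem _
    let C := {c : Fin n // c ∉ Set.range e}
    let eC : Fin (n - k) ⊕ C ≃ Fin n :=
      (Equiv.sumCongr (Equiv.ofInjective e he) (Equiv.refl C)).trans (Equiv.sumCompl (· ∈ Set.range e))
    have hcard : Fintype.card C = n - (n - k) := by
      have := Fintype.card_congr eC
      simp at this; omega
    let eR : Fin n ≃ Fin (n - k) ⊕ C :=
      (finCongr (by omega : n = (n - k) + (n - (n - k)))).trans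
        (finSumFinEquiv.symm.trans (Equiv.sumCongr (Equiv.refl _) (Fintype.equivFinOfCardEq hcard).symm))
    let a : Matrix (Fin n) (Fin n) R := Matrix.of fun i => Sum.elim z (fun c => Pi.single c.1 1) (eR i)
    have ha : a.det ∈ Groth.Agent.FittIdeal.dIdeal x k := by
      refine Groth.Agent.FittIdeal.det_mem a fun i hi => ?_
      have : eR i = Sum.inl ⟨i, hi⟩ := by
        apply eR.symm.injective
        rw [Equiv.symm_apply_apply]
        ext; simp [eR]
      simpa [a, this] using hz ⟨i, hi⟩
    have hsub : a.submatrix eR.symm eC =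
        Matrix.fromBlocks (Matrix.of fun b c => z b (e c)) (Matrix.of fun b (c : C) => z b c.1) 0 1 := by
      ext i j
      rcases i with b | c <;> rcases j with b' | c'
      · simp [a, eC, Equiv.sumCompl]
      · simp [a, eC, Equiv.sumCompl]
      · simp only [Matrix.submatrix_apply, Matrix.fromBlocks_apply₂₁, Matrix.zero_apply]
        simp [a, eC, Equiv.sumCompl]
        exact Pi.single_eq_of_ne (fun h => c.2 ⟨b', h⟩) _
      · simp [a, eC, Equiv.sumCompl, Matrix.one_apply, Pi.single_apply, Subtype.val_inj, eq_comm]
    have hdet : (a.submatrix eR.symm eC).det = (Matrix.of fun a b => z b (e a)).det := by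
      rw [hsub, Matrix.det_fromBlocks_zero₂₁, Matrix.det_one, mul_one, ← Matrix.det_transpose]
      rfl
    rw [← hdet, show a.submatrix eR.symm eC = (a.submatrix id (eR.trans eC)).submatrix eR.symm eR.symm by
      ext i j; simp, Matrix.det_submatrix_equiv_self, Matrix.det_permute']
    exact Ideal.mul_mem_left _ _ ha

end Groth.Agent.S6889
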