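import Groth.Statements.S6890
import Groth.Agent.FittIdeal.Basic
import Mathlib.LinearAlgebra.TensorProduct.RightExactness
import Mathlib.LinearAlgebra.TensorProduct.Pi
import Mathlib.RingTheory.TensorProduct.Finite
-- import your own Groth.Agent.* helpers here

set_option autoImplicit false
universe u
open TensorProduct
open Fitt

namespace Groth.Agent.S6890

/-- For a finite `R`-module `M` and a ring map `R → R'`, the `k`-th Fitting ideal of `R' ⊗_R M` over
`R'` is the extension of `Fit_k(M)` along `R → R'`. -/
theorem result {R R' : Type u} [CommRing R] [CommRing R'] [Algebra R R'] (M : Type u) [AddCommGroup M]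
    [Module R M] [Module.Finite R M] (k : ℕ) :
    Fitt.ideal R' (R' ⊗[R] M) k = (Fitt.ideal R M k).map (algebraMap R R') := by
  classical
  obtain ⟨n, x, hx⟩ := Module.Finite.exists_fin (R := R) (M := M)
  let x' : Fin n → R' ⊗[R] M := fun i => 1 ⊗ₜ x i
  let φ : (Fin n → R) →ₗ[R] M := Fintype.linearCombination R x
  have hφ : Function.Surjective φ := by
    rw [← LinearMap.range_eq_top, Fintype.range_linearCombination, hx]
  let e := TensorProduct.piScalarRight R R' R' (Fin n)
  let φ' : (Fin n → R') →ₗ[R'] R' ⊗[R] M := Fintype.linearCombination R' x'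
  have hcomp : φ' ∘ₗ e.toLinearMap = φ.baseChange R' := by
    ext v
    simp [e, φ', φ, x', Fintype.linearCombination_apply, Pi.single_apply, smul_tmul', tmul_sum]
  have hx' : Submodule.span R' (Set.range x') = ⊤ := by
    rw [← Fintype.range_linearCombination R' x', LinearMap.range_eq_top]
    intro m
    obtain ⟨w, hw⟩ := LinearMap.lTensor_surjective R' hφ m
    exact ⟨e w, (LinearMap.congr_fun hcomp w).trans hw⟩
  let G : Set (Fin n → R) := LinearMap.ker φ
  let ι : (Fin n → R) → (Fin n → R') := fun v j => algebraMap R R' (v j)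
  have hG' : Submodule.span R' (ι '' G) = LinearMap.ker φ' := by
    refine le_antisymm (Submodule.span_le.2 ?_) fun w hw => ?_
    · rintro _ ⟨v, hv, rfl⟩
      have : φ' (e (1 ⊗ₜ v)) = φ.baseChange R' (1 ⊗ₜ v) := LinearMap.congr_fun hcomp _
      rw [LinearMap.baseChange_tmul, show φ v = 0 from hv, tmul_zero] at this
      simpa [e, ι, Algebra.smul_def] using this
    · obtain ⟨q, hq⟩ := (lTensor_exact R' (LinearMap.exact_subtype_ker_map φ) hφ (e.symm w)).1
        ((LinearMap.congr_fun hcomp (e.symm w)).symm.trans (by simpa using hw))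
      rw [show w = e ((LinearMap.ker φ).subtype.lTensor R' q) by rw [hq, LinearEquiv.apply_symm_apply]]
      clear hq
      induction q using TensorProduct.induction_on with
      | zero => simp
      | tmul r v =>
        have : e (r ⊗ₜ[R] v.1) = r • ι v.1 := by
          ext j; simp [e, ι, Algebra.smul_def, mul_comm]
        rw [LinearMap.lTensor_tmul, Submodule.subtype_apply, this]
        exact Submodule.smul_mem _ _ (Submodule.subset_span ⟨v.1, v.2, rfl⟩)
      | add p q hp hq => rw [map_add, map_add]; exact add_mem hp hq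
  rw [Groth.Agent.FittIdeal.ideal_eq x hx, Groth.Agent.FittIdeal.ideal_eq x' hx',
    Groth.Agent.FittIdeal.dIdeal_eq_span x k G (Submodule.span_eq _),
    Groth.Agent.FittIdeal.dIdeal_eq_span x' k (ι '' G) hG', Ideal.map_span]
  have hsingle : ∀ c : Fin n, ι (Pi.single c 1) = Pi.single c 1 := fun c => by
    ext j; simp [ι, Pi.single_apply, apply_ite (algebraMap R R')]
  congr 1
  ext d
  constructor
  · rintro ⟨b, hb, rfl⟩
    have : ∀ i : Fin n, ∃ v, (v ∈ if (i : ℕ) < n - k then G else Set.range fun c => (Pi.single c (1 : R) : Fin n → R)) ∧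
        ι v = b i := fun i => by
      have := hb i
      by_cases hi : (i : ℕ) < n - k <;> simp only [hi, if_true, if_false] at this ⊢
      · obtain ⟨v, hv, hvb⟩ := this; exact ⟨v, hv, hvb⟩
      · obtain ⟨c, hc⟩ := this; exact ⟨Pi.single c 1, ⟨c, rfl⟩, (hsingle c).trans hc⟩
    choose v hv hvb using this
    refine ⟨_, ⟨Matrix.of v, hv, rfl⟩, ?_⟩
    rw [RingHom.map_det]
    congr 1
    ext i j
    exact congrFun (hvb i) j
  · rintro ⟨_, ⟨b, hb, rfl⟩, rfl⟩
    refine ⟨(algebraMap R R').mapMatrix b, fun i => ?_, RingHom.map_det _ _⟩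
    have := hb i
    by_cases hi : (i : ℕ) < n - k <;> simp only [hi, if_true, if_false] at this ⊢
    · exact ⟨b i, this, rfl⟩
    · obtain ⟨c, hc⟩ := this; exact ⟨c, (hsingle c).symm.trans (congrArg ι hc)⟩

end Groth.Agent.S6890
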