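import Groth.Statements.S6891
import Groth.Agent.FittIdeal.Basic
import Mathlib.RingTheory.Support
-- import your own Groth.Agent.* helpers here

set_option autoImplicit false
universe u
open Fitt

namespace Groth.Agent.S6891

/-- Let `M` be a finite `R`-module. Then `Fit_0(M) ⊆ Ann_R(M)`, the closed set `V(Fit_0(M))` equals
`Supp(M)`, and for an ideal `I` one has `Fit_0(R/I) = I`. -/
theorem result {R : Type u} [CommRing R] (M : Type u) [AddCommGroup M]
    [Module R M] [Module.Finite R M] (I : Ideal R) :
    Fitt.ideal R M 0 ≤ Module.annihilator R M ∧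
    PrimeSpectrum.zeroLocus (Fitt.ideal R M 0 : Set R) = Module.support R M ∧
    Fitt.ideal R (R ⧸ I) 0 = I := by
  obtain ⟨n, x, hx⟩ := Module.Finite.exists_fin (R := R) (M := M)
  have h0 := Groth.Agent.FittIdeal.ideal_eq x hx 0
  have hann : Fitt.ideal R M 0 ≤ Module.annihilator R M := by
    rw [h0]
    refine Ideal.span_le.2 ?_
    rintro _ ⟨a, ha, rfl⟩
    rw [SetLike.mem_coe, Module.mem_annihilator]
    intro m
    have hm : m ∈ Submodule.span R (Set.range x) := hx ▸ Submodule.mem_top
    induction hm using Submodule.span_induction with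
    | mem y hy =>
      obtain ⟨i, rfl⟩ := hy
      have h1 : ∀ _ : Fin n, ∑ j, (a.adjugate * a) i j • x j = a.det • x i := fun _ => by
        simp [Matrix.adjugate_mul, Matrix.smul_apply, Matrix.one_apply, ite_smul, ← smul_smul]
      have h2 : ∑ j, (a.adjugate * a) i j • x j = 0 := by
        simp only [Matrix.mul_apply, Finset.sum_smul, ← smul_smul]
        rw [Finset.sum_comm]
        simp [← Finset.smul_sum, ha]
      exact (h1 i).symm.trans h2
    | zero => simp
    | add y z _ _ hy hz => simp [hy, hz]
    | smul c y _ hy => rw [smul_comm, hy, smul_zero]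
  refine ⟨hann, ?_, ?_⟩
  · rw [Module.support_eq_zeroLocus]
    refine (PrimeSpectrum.zeroLocus_anti_mono hann).antisymm' ?_
    intro p hp t ht
    refine p.isPrime.mem_of_pow_mem n ?_
    refine hp ?_
    rw [SetLike.mem_coe, h0]
    have := Groth.Agent.FittIdeal.det_mem (x := x) (r := 0) (Matrix.diagonal fun _ : Fin n => t) fun i _ => by
      simp only [Matrix.diagonal_apply, ite_smul, zero_smul, Finset.sum_ite_eq, Finset.mem_univ, if_true]
      exact Module.mem_annihilator.1 ht _
    simpa using this
  · have hy : Submodule.span R (Set.range (fun _ : Fin 1 => (Submodule.Quotient.mk 1 : R ⧸ I))) = ⊤ := by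
      rw [Set.range_const, eq_top_iff]
      rintro z -
      obtain ⟨r, rfl⟩ := Submodule.Quotient.mk_surjective I z
      exact Submodule.mem_span_singleton.2 ⟨r, by rw [← Submodule.Quotient.mk_smul, smul_eq_mul, mul_one]⟩
    rw [Groth.Agent.FittIdeal.ideal_eq _ hy]
    refine le_antisymm (Ideal.span_le.2 ?_) fun t ht => ?_
    · rintro _ ⟨a, ha, rfl⟩
      have := ha 0 (by simp)
      rw [Fin.sum_univ_one, ← Submodule.Quotient.mk_smul, Submodule.Quotient.mk_eq_zero, smul_eq_mul, mul_one] at this
      simpa [Matrix.det_fin_one] using this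
    · have := Groth.Agent.FittIdeal.det_mem (x := fun _ : Fin 1 => (Submodule.Quotient.mk 1 : R ⧸ I)) (r := 0)
        (Matrix.diagonal fun _ => t) fun i _ => by
          fin_cases i
          simp only [Fin.sum_univ_one, ← Submodule.Quotient.mk_smul, Submodule.Quotient.mk_eq_zero]
          simpa using ht
      simpa using this

end Groth.Agent.S6891
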