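import Groth.Statements.S6892
import Groth.Agent.FittIdeal.Basic
import Mathlib.RingTheory.Finiteness.Basic
import Mathlib.Algebra.Module.FinitePresentation
-- import your own Groth.Agent.* helpers here

set_option autoImplicit false
universe u
open Fitt

namespace Groth.Agent.S6892

/-- Let `M` be a finite `R`-module. When `n` elements generate `M` one has `Fit_n(M) = R`; when `M` is
of finite presentation every `Fit_k(M)` is finitely generated as an ideal; and a surjection `M → M'`
onto another module gives `Fit_k(M) ⊆ Fit_k(M')` for every `k`. -/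
theorem result {R : Type u} [CommRing R] (M M' : Type u) [AddCommGroup M]
    [Module R M] [Module.Finite R M] [AddCommGroup M'] [Module R M'] (k : ℕ) :
    (∀ (n : ℕ) (x : Fin n → M), Submodule.span R (Set.range x) = ⊤ → Fitt.ideal R M n = ⊤) ∧
    (Module.FinitePresentation R M → (Fitt.ideal R M k).FG) ∧
    (∀ f : M →ₗ[R] M', Function.Surjective f → Fitt.ideal R M k ≤ Fitt.ideal R M' k) := by
  classical
  refine ⟨fun n x hx => ?_, fun hfp => ?_, fun f hf => Ideal.span_le.2 ?_⟩
  · rw [Groth.Agent.FittIdeal.ideal_eq x hx, Groth.Agent.FittIdeal.dIdeal_eq_top x le_rfl]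
  · obtain ⟨n, x, hx⟩ := Module.Finite.exists_fin (R := R) (M := M)
    have hker : (LinearMap.ker (Fintype.linearCombination R x)).FG :=
      Module.FinitePresentation.fg_ker _ (by rw [← LinearMap.range_eq_top, Fintype.range_linearCombination, hx])
    obtain ⟨G, hG⟩ := hker
    rw [Groth.Agent.FittIdeal.ideal_eq x hx, Groth.Agent.FittIdeal.dIdeal_eq_span x k G hG]
    refine Submodule.fg_span ?_
    let T : Fin n → Set (Fin n → R) := fun i =>
      if (i : ℕ) < n - k then G else Set.range fun c => (Pi.single c (1 : R) : Fin n → R)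
    have hT : ∀ i, (T i).Finite := fun i => by
      simp only [T]; split
      · exact G.finite_toSet
      · exact Set.finite_range _
    refine ((Set.Finite.pi hT).image fun b : Fin n → Fin n → R => (Matrix.of b).det).subset ?_
    rintro _ ⟨b, hb, rfl⟩
    exact ⟨b, fun i _ => hb i, rfl⟩
  · rintro _ ⟨n, x, a, hx, ha, rfl⟩
    refine Ideal.subset_span ⟨n, f ∘ x, a, ?_, fun i hi => ?_, rfl⟩
    · rw [Set.range_comp, Submodule.span_image, hx, Submodule.map_top, LinearMap.range_eq_top.2 hf]
    · simp only [Function.comp_apply, ← map_smul, ← map_sum, ha i hi, map_zero]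

end Groth.Agent.S6892
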