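import Groth.Statements.S4853
import Mathlib

set_option autoImplicit false
universe u
open TensorProduct
open EGA43

namespace Groth.Agent.S4853

/-- Let A be a commutative ring and M an A-module such that (A/J) ⊗_A M is free over A/J for some
nilpotent ideal J of A. Then among the ideals R of A such that (A/R) ⊗_A M is free over A/R there is
a least one, R₀, which is also the least ideal R such that (A/R) ⊗_A M is flat over A/R; and for
every commutative A-algebra A', the module A' ⊗_A M is free over A' if and only if it is flat over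
A', if and only if R₀ generates the zero ideal of A'. -/
theorem result {A : Type u} [CommRing A]
    (M : Type u) [AddCommGroup M] [Module A M]
    (J : Ideal A) (hJ : IsNilpotent J) (hfree : Module.Free (A ⧸ J) ((A ⧸ J) ⊗[A] M)) :
    ∃ R₀ : Ideal A,
      IsLeast {R : Ideal A | Module.Free (A ⧸ R) ((A ⧸ R) ⊗[A] M)} R₀ ∧
      IsLeast {R : Ideal A | Module.Flat (A ⧸ R) ((A ⧸ R) ⊗[A] M)} R₀ ∧
      ∀ (A' : Type u) [CommRing A'] [Algebra A A'],
        (Module.Free A' (A' ⊗[A] M) ↔ Ideal.map (algebraMap A A') R₀ = ⊥) ∧
        (Module.Flat A' (A' ⊗[A] M) ↔ Ideal.map (algebraMap A A') R₀ = ⊥) := by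
  classical
  obtain ⟨n, hn⟩ := hJ
  let b := Module.Free.chooseBasis (A ⧸ J) ((A ⧸ J) ⊗[A] M)
  let ι := Module.Free.ChooseBasisIndex (A ⧸ J) ((A ⧸ J) ⊗[A] M)
  have hone : ∀ m : M, (1 : A ⧸ J) ⊗ₜ[A] m = 0 → m ∈ (J • ⊤ : Submodule A M) := fun m hm => by
    rwa [← (TensorProduct.quotTensorEquivQuotSMul M J).map_eq_zero_iff, ← map_one (Ideal.Quotient.mk J),
      TensorProduct.quotTensorEquivQuotSMul_mk_tmul, one_smul, Submodule.Quotient.mk_eq_zero] at hm
  have hsurjmk : Function.Surjective (TensorProduct.mk A (A ⧸ J) M 1) :=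
    TensorProduct.mk_surjective A M (A ⧸ J) Ideal.Quotient.mk_surjective
  choose v hv using fun i => hsurjmk (b i)
  let π : (ι →₀ A) →ₗ[A] M := Finsupp.linearCombination A v
  have hπ : Function.Surjective π := by
    let N := LinearMap.range π
    have hN : (⊤ : Submodule A M) ≤ N ⊔ J • ⊤ := by
      intro m _
      choose c hc using fun i => Ideal.Quotient.mk_surjective (b.repr (1 ⊗ₜ m) i)
      let c' : ι →₀ A := ∑ i ∈ (b.repr (1 ⊗ₜ m)).support, Finsupp.single i (c i)
      refine Submodule.mem_sup.mpr ⟨π c', ⟨c', rfl⟩, m - π c', hone _ ?_, add_sub_cancel _ _⟩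
      show TensorProduct.mk A (A ⧸ J) M 1 (m - π c') = 0
      rw [map_sub, sub_eq_zero, TensorProduct.mk_apply]
      conv_lhs => rw [← b.linearCombination_repr (1 ⊗ₜ m), Finsupp.linearCombination_apply, Finsupp.sum]
      show _ = TensorProduct.mk A (A ⧸ J) M 1 (π c')
      simp only [c', map_sum, π, Finsupp.linearCombination_single, map_smul, hv]
      refine Finset.sum_congr rfl fun i _ => ?_
      rw [← hc i, ← Ideal.Quotient.algebraMap_eq, algebraMap_smul]
    have hpow : ∀ k, (⊤ : Submodule A M) ≤ N ⊔ J ^ k • ⊤ := by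
      intro k
      induction k with
      | zero => simp
      | succ k ih =>
        refine ih.trans (sup_le le_sup_left ((Submodule.smul_mono le_rfl hN).trans ?_))
        rw [Submodule.smul_sup, ← Submodule.smul_assoc, smul_eq_mul, ← pow_succ]
        exact sup_le_sup Submodule.smul_le_right le_rfl
    intro m
    have := hpow n (Submodule.mem_top (x := m))
    rwa [hn, Submodule.zero_eq_bot, Submodule.bot_smul, sup_bot_eq] at this
  let R₀ : Ideal A := Ideal.span {a | ∃ k ∈ LinearMap.ker π, ∃ i, k i = a}
  have huniv : ∀ (B : Type u) [CommRing B] [Algebra A B],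
      (Ideal.map (algebraMap A B) R₀ = ⊥ → Module.Free B (B ⊗[A] M)) ∧
      (Module.Flat B (B ⊗[A] M) → Ideal.map (algebraMap A B) R₀ = ⊥) := by
    intro B _ _
    let φ : (ι →₀ A) →ₗ[A] (ι →₀ B) := Finsupp.mapRange.linearMap (Algebra.linearMap A B)
    let π' : (ι →₀ B) →ₗ[B] B ⊗[A] M := Finsupp.linearCombination B fun i => (1 : B) ⊗ₜ[A] v i
    have hnat : ∀ x, π' (φ x) = (1 : B) ⊗ₜ[A] π x := by
      intro x
      induction x using Finsupp.induction_linear with
      | zero => simp
      | add x y hx hy => simp [hx, hy, TensorProduct.tmul_add]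
      | single i a => simp [π', φ, π, Algebra.linearMap_apply, TensorProduct.tmul_smul]
    have hπ' : Function.Surjective π' := by
      intro z
      induction z using TensorProduct.induction_on with
      | zero => exact ⟨0, map_zero _⟩
      | add x y hx hy =>
        obtain ⟨x, rfl⟩ := hx
        obtain ⟨y, rfl⟩ := hy
        exact ⟨x + y, map_add _ _ _⟩
      | tmul c m =>
        obtain ⟨x, rfl⟩ := hπ m
        exact ⟨c • φ x, by rw [map_smul, hnat, TensorProduct.smul_tmul', smul_eq_mul, mul_one]⟩
    refine ⟨fun h0 => ?_, fun hflat => ?_⟩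
    · have hker : LinearMap.ker π ≤ LinearMap.ker φ := fun k hk => by
        ext i
        show algebraMap A B (k i) = 0
        rw [← Ideal.mem_bot, ← h0]
        exact Ideal.mem_map_of_mem _ (Ideal.subset_span ⟨k, hk, i, rfl⟩)
      let l : M →ₗ[A] (ι →₀ B) :=
        (LinearMap.ker π).liftQ φ hker ∘ₗ (π.quotKerEquivOfSurjective hπ).symm.toLinearMap
      let ψ : B ⊗[A] M →ₗ[B] (ι →₀ B) := l.liftBaseChange B
      have hl : ∀ x, l (π x) = φ x := fun x => by
        show (LinearMap.ker π).liftQ φ hker ((π.quotKerEquivOfSurjective hπ).symm (π x)) = φ x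
        rw [show (π.quotKerEquivOfSurjective hπ).symm (π x) = Submodule.Quotient.mk x from
          (LinearEquiv.symm_apply_eq _).mpr rfl, Submodule.liftQ_apply]
      have hψ : ψ ∘ₗ π' = LinearMap.id := by
        refine Finsupp.lhom_ext fun i c => ?_
        have h1 : v i = π (Finsupp.single i 1) := by simp [π]
        show ψ (π' (Finsupp.single i c)) = Finsupp.single i c
        rw [Finsupp.linearCombination_single, map_smul, show ψ ((1 : B) ⊗ₜ[A] v i) = (1 : B) • l (v i) from
          LinearMap.liftBaseChange_tmul _ _ _ _, one_smul, h1, hl]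
        simp [φ]
      have hinj : Function.Injective π' := fun x y hxy => by
        rw [← LinearMap.id_apply (R := B) x, ← hψ, LinearMap.comp_apply, hxy]
        exact LinearMap.congr_fun hψ y
      exact Module.Free.of_equiv (LinearEquiv.ofBijective π' ⟨hinj, hπ'⟩)
    · let JB : Ideal B := J.map (algebraMap A B)
      have hcoef : ∀ k ∈ LinearMap.ker π', ∀ i, k i ∈ JB := by
        intro k hk i
        let q : (A ⧸ J) →ₗ[A] B ⧸ JB := Submodule.liftQ J (Algebra.linearMap A (B ⧸ JB)) fun a ha => by
          rw [LinearMap.mem_ker, Algebra.linearMap_apply]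
          show algebraMap A (B ⧸ JB) a = 0
          rw [IsScalarTower.algebraMap_apply A B (B ⧸ JB)]
          exact Ideal.Quotient.eq_zero_iff_mem.mpr (Ideal.mem_map_of_mem _ ha)
        let l : M →ₗ[A] B ⧸ JB := q ∘ₗ (b.coord i).restrictScalars A ∘ₗ TensorProduct.mk A (A ⧸ J) M 1
        have hlv : ∀ j, l (v j) = if j = i then 1 else 0 := by
          intro j
          show q (b.coord i (TensorProduct.mk A (A ⧸ J) M 1 (v j))) = _
          rw [hv, Module.Basis.coord_apply, b.repr_self, Finsupp.single_apply]
          split_ifs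
          · show algebraMap A (B ⧸ JB) 1 = 1
            exact map_one _
          · exact map_zero q
        have h1 := congrArg (l.liftBaseChange B) (LinearMap.mem_ker.mp hk)
        rw [map_zero, Finsupp.linearCombination_apply, map_finsuppSum] at h1
        simp only [map_smul, LinearMap.liftBaseChange_tmul, hlv, one_smul, smul_ite, smul_zero, Finsupp.sum_ite_eq'] at h1
        by_cases hi : i ∈ k.support
        · rw [if_pos hi, Algebra.smul_def, mul_one] at h1
          exact Ideal.Quotient.eq_zero_iff_mem.mp h1
        · rw [Finsupp.notMem_support_iff.mp hi]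
          exact zero_mem _
      have hK : LinearMap.ker π' ≤ JB • LinearMap.ker π' := by
        intro k hk
        have hrel : ∑ i : k.support, k i • ((1 : B) ⊗ₜ[A] v i) = 0 := by
          rw [Finset.sum_coe_sort k.support (fun i => k i • ((1 : B) ⊗ₜ[A] v i))]
          exact (Finsupp.linearCombination_apply B k).symm.trans (LinearMap.mem_ker.mp hk)
        obtain ⟨m, C, y, hy, hC⟩ := Module.Flat.isTrivialRelation_of_sum_smul_eq_zero hrel
        choose w hw using fun j => hπ' (y j)
        have heq : k = ∑ i : k.support, k i • (Finsupp.single i.1 (1 : B) - ∑ j, C i j • w j) := by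
          simp only [smul_sub, Finset.sum_sub_distrib, Finset.smul_sum, smul_smul]
          rw [Finset.sum_comm (γ := k.support)]
          simp only [← Finset.sum_smul, hC, zero_smul, Finset.sum_const_zero, sub_zero, Finsupp.smul_single, smul_eq_mul, mul_one]
          conv_lhs => rw [← Finsupp.sum_single k]
          exact (Finset.sum_coe_sort k.support (fun i => Finsupp.single i (k i))).symm
        rw [heq]
        refine sum_mem fun i _ => Submodule.smul_mem_smul (hcoef k hk i) ?_
        rw [LinearMap.mem_ker, map_sub, map_sum, Finsupp.linearCombination_single, one_smul]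
        simp only [map_smul, hw]
        rw [← hy i, sub_self]
      have hK0 : ∀ j, LinearMap.ker π' ≤ JB ^ j • LinearMap.ker π' := by
        intro j
        induction j with
        | zero => simp
        | succ j ih =>
          refine ih.trans ((Submodule.smul_mono le_rfl hK).trans ?_)
          rw [← Submodule.smul_assoc, smul_eq_mul, ← pow_succ]
      have hbot : LinearMap.ker π' = ⊥ := le_bot_iff.mp ((hK0 n).trans (by
        rw [← Ideal.map_pow, hn, Submodule.zero_eq_bot, Ideal.map_bot, Submodule.bot_smul]))
      rw [eq_bot_iff, Ideal.map_le_iff_le_comap, Ideal.span_le]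
      rintro a ⟨k, hk, i, rfl⟩
      have : φ k ∈ LinearMap.ker π' := by
        rw [LinearMap.mem_ker, hnat, LinearMap.mem_ker.mp hk, TensorProduct.tmul_zero]
      rw [hbot, Submodule.mem_bot] at this
      exact DFunLike.congr_fun this i
  have hmap : Ideal.map (algebraMap A (A ⧸ R₀)) R₀ = ⊥ := Ideal.map_quotient_self R₀
  have hle : ∀ R : Ideal A, Ideal.map (algebraMap A (A ⧸ R)) R₀ = ⊥ → R₀ ≤ R := fun R h x hx => by
    have := Ideal.mem_map_of_mem (algebraMap A (A ⧸ R)) hx
    rw [h] at this
    exact Ideal.Quotient.eq_zero_iff_mem.mp this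
  refine ⟨R₀, ⟨(huniv _).1 hmap, fun R hR => hle R ((huniv _).2 (haveI : Module.Free _ _ := hR; inferInstance))⟩,
    ⟨(haveI : Module.Free _ _ := (huniv _).1 hmap; inferInstance : Module.Flat _ _), fun R hR => hle R ((huniv _).2 hR)⟩,
    fun B _ _ => ⟨⟨fun h => (huniv B).2 (haveI := h; inferInstance), (huniv B).1⟩,
      ⟨(huniv B).2, fun h => (haveI := (huniv B).1 h; inferInstance)⟩⟩⟩

end Groth.Agent.S4853
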