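import Groth.Statements.S8346
-- import your own Groth.Agent.* helpers here

set_option autoImplicit false
universe u
open ConstrTop

namespace Groth.Agent.S8346

open Topology in
theorem isCompact_of_isConstructible {Y : Type u} [TopologicalSpace Y] [CompactSpace Y] {s : Set Y}
    (hs : IsConstructible s) : IsCompact s := by
  refine BooleanSubalgebra.closure_sdiff_sup_induction (s := {U : Set Y | IsOpen U ∧ IsRetrocompact U})
    (p := fun g _ => IsCompact g) ⟨?_, ?_⟩ ⟨isOpen_empty, .empty⟩ ⟨isOpen_univ, .univ⟩ ?_ ?_ s hs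
  · exact fun a ha b hb => ⟨ha.1.union hb.1, ha.2.union hb.2⟩
  · intro a ha b hb
    refine ⟨ha.1.inter hb.1, fun V hVc hVo => ?_⟩
    show IsCompact (a ∩ b ∩ V)
    rw [Set.inter_assoc]
    exact ha.2 (hb.2 hVc hVo) (hb.1.inter hVo)
  · intro a ha b hb
    have : IsCompact a := by simpa using ha.2 isCompact_univ isOpen_univ
    exact this.diff hb.1
  · exact fun _ _ _ _ ha hb => ha.union hb

open TopologicalSpace in
/-- Let X be a topological space admitting a basis of open subsets which are retrocompact in X. Then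
every locally constructible subset T of X is retrocompact in X. -/
theorem result {X : Type u} [TopologicalSpace X]
    {B : Set (Set X)} (hB : IsTopologicalBasis B) (hBr : ∀ U ∈ B, IsRetrocompact U) {T : Set X}
    (hT : Topology.IsLocallyConstructible T) : IsRetrocompact T := by
  intro V hVc hVo
  have hW : ∀ x ∈ V, ∃ W ∈ B, x ∈ W ∧ W ⊆ V ∧ IsCompact (T ∩ W) := by
    intro x hx
    obtain ⟨U, hU, hUo, hcon⟩ := hT x
    obtain ⟨W, hWB, hxW, hWsub⟩ :=
      hB.exists_subset_of_mem_open (show x ∈ U ∩ V from ⟨mem_of_mem_nhds hU, hx⟩) (hUo.inter hVo)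
    refine ⟨W, hWB, hxW, hWsub.trans Set.inter_subset_right, ?_⟩
    have hWo : IsOpen W := hB.isOpen hWB
    have hWc : IsCompact W := by
      have := hBr W hWB hVc hVo
      rwa [Set.inter_eq_left.2 (hWsub.trans Set.inter_subset_right)] at this
    have hWU : W ⊆ U := hWsub.trans Set.inter_subset_left
    have hincl : Topology.IsOpenEmbedding (Set.inclusion hWU) :=
      Topology.IsOpenEmbedding.of_comp _ hUo.isOpenEmbedding_subtypeVal (hWo.isOpenEmbedding_subtypeVal)
    have h1 : Topology.IsConstructible (Set.inclusion hWU ⁻¹' (Subtype.val ⁻¹' T)) :=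
      hcon.preimage_of_isOpenEmbedding hincl
    haveI : CompactSpace W := isCompact_iff_compactSpace.1 hWc
    have h2 : IsCompact (Set.inclusion hWU ⁻¹' (Subtype.val ⁻¹' T)) := isCompact_of_isConstructible h1
    have h3 := h2.image continuous_subtype_val
    rwa [show Subtype.val '' (Set.inclusion hWU ⁻¹' (Subtype.val ⁻¹' T)) = T ∩ W by
      ext z
      constructor
      · rintro ⟨w, hw, rfl⟩; exact ⟨hw, w.2⟩
      · rintro ⟨hz, hzW⟩; exact ⟨⟨z, hzW⟩, hz, rfl⟩] at h3
  choose W hWB hxW hWV hWc using hW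
  obtain ⟨t, ht⟩ := hVc.elim_finite_subcover (fun x : V => W x.1 x.2) (fun x => hB.isOpen (hWB _ _))
    (fun x hx => Set.mem_iUnion.2 ⟨⟨x, hx⟩, hxW x hx⟩)
  have heq : T ∩ V = ⋃ x ∈ t, T ∩ W x.1 x.2 := by
    ext z
    constructor
    · intro ⟨hz, hzV⟩
      obtain ⟨x, hx, hzx⟩ := Set.mem_iUnion₂.1 (ht hzV)
      exact Set.mem_iUnion₂.2 ⟨x, hx, hz, hzx⟩
    · intro hz
      obtain ⟨x, hx, hzT, hzx⟩ := Set.mem_iUnion₂.1 hz
      exact ⟨hzT, hWV _ _ hzx⟩
  rw [heq]
  exact t.finite_toSet.isCompact_biUnion fun x _ => hWc _ _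

end Groth.Agent.S8346
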