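import Groth.Statements.S4667
import Groth.Agent.S5233
import Mathlib.AlgebraicGeometry.Morphisms.SchemeTheoreticallyDominant
-- import your own Groth.Agent.* helpers here

set_option autoImplicit false
open CategoryTheory AlgebraicGeometry
universe u
open FDesc

namespace Groth.Agent.S4667

open CategoryTheory.Limits in
/-- Let f : X → Y be a quasi-compact morphism of schemes and g : Y' → Y a flat morphism, and let f' : X
×_Y Y' → Y' be the base change of f. Then the scheme-theoretic image of f' is the inverse image
under g of the scheme-theoretic image of f: the quasi-coherent ideal sheaf cutting out the former is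
the pull-back along g of the one cutting out the latter. (One published statement is phrased for a
quasi-compact and quasi-separated S-morphism f and a flat base change S′ → S, which reduces to this
case; quasi-compactness of f suffices.) -/
theorem result {X Y Y' : Scheme.{u}} (f : X ⟶ Y) (g : Y' ⟶ Y)
    [QuasiCompact f] [Flat g] :
    (pullback.snd f g).ker = f.ker.comap g := by
  let a : pullback f g ⟶ pullback f.imageι g := pullback.lift (pullback.fst f g ≫ f.toImage) (pullback.snd f g)
    (by rw [Category.assoc, f.toImage_imageι, pullback.condition])
  have ha : a ≫ pullback.snd f.imageι g = pullback.snd f g := pullback.lift_snd _ _ _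
  have hab : a ≫ pullback.fst f.imageι g = pullback.fst f g ≫ f.toImage := pullback.lift_fst _ _ _
  have sq : IsPullback (pullback.fst f g) a f.toImage (pullback.fst f.imageι g) := by
    refine IsPullback.of_bot ?_ hab.symm (IsPullback.of_hasPullback f.imageι g)
    rw [ha, f.toImage_imageι]
    exact IsPullback.of_hasPullback f g
  haveI : IsSchemeTheoreticallyDominant f.toImage := ⟨Groth.Agent.S5233.toImage_ker_eq_bot f⟩
  haveI : Flat (pullback.fst f.imageι g) := MorphismProperty.of_isPullback (P := @Flat) (IsPullback.of_hasPullback f.imageι g).flip inferInstance
  haveI : IsSchemeTheoreticallyDominant a := IsSchemeTheoreticallyDominant.of_isPullback sq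
  haveI : QuasiCompact a := MorphismProperty.of_isPullback (P := @QuasiCompact) sq inferInstance
  rw [← ha, ← Scheme.IdealSheafData.map_ker, IsSchemeTheoreticallyDominant.ker_eq_bot, Scheme.IdealSheafData.map_bot,
    ← Scheme.IdealSheafData.ker_subschemeι f.ker, ← Scheme.IdealSheafData.ker_fst_of_isClosedImmersion,
    ← pullbackSymmetry_hom_comp_fst, Scheme.Hom.ker_comp_of_isIso]

end Groth.Agent.S4667
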