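import Groth.Statements.S0412
import Mathlib
-- import your own Groth.Agent.* helpers here

set_option autoImplicit false
universe u
open FlatMor

namespace Groth.Agent.S0412

section Aux
open Polynomial

section Alg
variable {R : Type u} [CommRing R] (p : Ideal R) [p.IsPrime]

theorem exists_denom (q : p.ResidueField[X]) : ∃ d ∉ p, ∃ Q : R[X],
    Q.map (algebraMap R p.ResidueField) = C (algebraMap R p.ResidueField d) * q := by
  induction q using Polynomial.induction_on' with
  | add a b ha hb =>
    obtain ⟨d, hd, A, hA⟩ := ha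
    obtain ⟨e, he, B, hB⟩ := hb
    refine ⟨d * e, fun h => (Ideal.IsPrime.mem_or_mem ‹_› h).elim hd he, C e * A + C d * B, ?_⟩
    rw [Polynomial.map_add, Polynomial.map_mul, Polynomial.map_mul, hA, hB, map_C, map_C, map_mul,
      map_mul]
    ring
  | monomial n c =>
    obtain ⟨a, s, hs⟩ := IsLocalization.exists_mk'_eq (nonZeroDivisors (R ⧸ p)) c
    obtain ⟨a, rfl⟩ := Ideal.Quotient.mk_surjective a
    obtain ⟨d, hd⟩ := Ideal.Quotient.mk_surjective (s : R ⧸ p)
    have hdp : d ∉ p := fun h => nonZeroDivisors.coe_ne_zero s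
      (hd.symm.trans (Ideal.Quotient.eq_zero_iff_mem.mpr h))
    refine ⟨d, hdp, monomial n a, ?_⟩
    rw [map_monomial, C_mul_monomial]
    congr 1
    rw [← hs, IsScalarTower.algebraMap_apply R (R ⧸ p) p.ResidueField a,
      IsScalarTower.algebraMap_apply R (R ⧸ p) p.ResidueField d, Ideal.Quotient.algebraMap_eq, hd,
      mul_comm, IsLocalization.mk'_spec]

/-- An etale algebra with a point hitting given coordinates in a finite separable extension. -/
theorem exists_etale_point {ι : Type*} (L : Type u) [Field L] [Algebra p.ResidueField L]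
    [FiniteDimensional p.ResidueField L] [Algebra.IsSeparable p.ResidueField L]
    [Algebra R L] [IsScalarTower R p.ResidueField L] (a : ι → L) [Finite ι] :
    ∃ (R' : Type u) (_ : CommRing R') (_ : Algebra R R') (_ : Algebra.Etale R R')
      (φ : R' →ₐ[R] L) (c : ι → R'), ∀ i, φ (c i) = a i := by
  classical
  let := Fintype.ofFinite ι
  let κ := p.ResidueField
  let f := algebraMap R κ
  let pb := Field.powerBasisOfFiniteOfSeparable κ L
  let t := pb.gen
  let m := minpoly κ t
  have hint : IsIntegral κ t := Algebra.IsIntegral.isIntegral t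
  have hm : m.Monic := minpoly.monic hint
  obtain ⟨d, hd, M, hM⟩ := exists_denom p m
  have hd0 : f d ≠ 0 := fun h => hd (Ideal.algebraMap_residueField_eq_zero.mp h)
  let N := m.natDegree
  let P : R[X] := X ^ N + ∑ j ∈ Finset.range N, monomial j (M.coeff j * d ^ (N - 1 - j))
  have hPd : (∑ j ∈ Finset.range N, monomial j (M.coeff j * d ^ (N - 1 - j)) : R[X]).degree < N :=
    (Polynomial.degree_sum_le _ _).trans_lt ((Finset.sup_lt_iff (WithBot.bot_lt_coe _)).mpr
      fun j hj => (degree_monomial_le j _).trans_lt (WithBot.coe_lt_coe.mpr (Finset.mem_range.mp hj)))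
  have hP : P.Monic := monic_X_pow_add hPd
  have hPbar : P.map f = C (f d ^ N) * m.comp (C (f d)⁻¹ * X) := by
    ext j
    rw [coeff_map, coeff_C_mul, comp_C_mul_X_coeff]
    simp only [P, coeff_add, coeff_X_pow, finsetSum_coeff, coeff_monomial, Finset.sum_ite_eq',
      Finset.mem_range]
    rcases lt_trichotomy j N with h | h | h
    · have h1 := congrArg (fun q => q.coeff j) hM
      simp only [coeff_map, coeff_C_mul] at h1
      change f (M.coeff j) = f d * m.coeff j at h1
      rw [if_neg h.ne, if_pos h, zero_add, map_mul, map_pow, h1, inv_pow]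
      obtain ⟨e, he⟩ : ∃ e, N = j + (e + 1) := ⟨N - j - 1, by omega⟩
      rw [show N - 1 - j = e by omega, he, pow_add, pow_succ]
      linear_combination (-(f d ^ e * f d * m.coeff j)) * mul_inv_cancel₀ (pow_ne_zero j hd0)
    · subst h
      rw [if_pos rfl, if_neg (lt_irrefl _), add_zero, map_one, show m.coeff N = 1 from hm.coeff_natDegree,
        one_mul, inv_pow, mul_inv_cancel₀ (pow_ne_zero _ hd0)]
    · rw [if_neg h.ne', if_neg (by omega), add_zero, map_zero, coeff_eq_zero_of_natDegree_lt h,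
        zero_mul, mul_zero]
  let t' : L := algebraMap κ L (f d) * t
  have hmap : ∀ Q : R[X], aeval t' Q = aeval t' (Q.map f) := fun Q => (aeval_map_algebraMap κ t' Q).symm
  have ht' : algebraMap κ L (f d)⁻¹ * t' = t := by
    rw [← mul_assoc, ← map_mul, inv_mul_cancel₀ hd0, map_one, one_mul]
  have hPt : aeval t' P = 0 := by
    rw [hmap, hPbar, map_mul, aeval_comp, map_mul, aeval_C, aeval_X, aeval_C, ht', minpoly.aeval,
      mul_zero]
  have hP't : aeval t' (derivative P) ≠ 0 := by
    rw [hmap, ← derivative_map, hPbar, derivative_C_mul, derivative_comp, derivative_C_mul,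
      derivative_X, mul_one, map_mul, map_mul, aeval_comp, map_mul, aeval_C, aeval_X, aeval_C, ht']
    have hsep : (minpoly κ t).Separable := Algebra.IsSeparable.isSeparable κ t
    exact mul_ne_zero ((_root_.map_ne_zero _).mpr (pow_ne_zero _ hd0)) (mul_ne_zero
      ((_root_.map_ne_zero _).mpr (inv_ne_zero hd0)) (hsep.aeval_derivative_ne_zero (minpoly.aeval κ t)))
  choose q hq using fun i => pb.exists_eq_aeval' (a i)
  let q' : ι → κ[X] := fun i => (q i).comp (C (f d)⁻¹ * X)
  choose e he Q hQ using fun i => exists_denom p (q' i)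
  let D := ∏ i, e i
  have hD : D ∉ p := fun h => by
    obtain ⟨i, -, hi⟩ := (Ideal.IsPrime.prod_mem_iff).mp h
    exact he i hi
  let S : StandardEtalePair R :=
    { f := P, monic_f := hP, g := derivative P * C D
      cond := ⟨C D, 0, 1, by simp⟩ }
  have hfe : ∀ r, r ∉ p → algebraMap R L r ≠ 0 := fun r hr => by
    rw [IsScalarTower.algebraMap_apply R κ L]
    exact (_root_.map_ne_zero _).mpr fun h => hr (Ideal.algebraMap_residueField_eq_zero.mp h)
  have hS : S.HasMap t' := ⟨hPt, by
    rw [map_mul, aeval_C]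
    exact (mul_ne_zero hP't (hfe D hD)).isUnit⟩
  have hu : ∀ i, IsUnit (algebraMap R S.Ring (e i)) := fun i => by
    have h := S.hasMap_X.2
    change IsUnit (aeval S.X (derivative P * C D)) at h
    rw [map_mul, aeval_C] at h
    exact isUnit_of_dvd_unit (map_dvd _ (Finset.dvd_prod_of_mem e (Finset.mem_univ i)))
      (isUnit_of_mul_isUnit_right h)
  refine ⟨S.Ring, inferInstance, inferInstance, inferInstance, S.lift t' hS,
    fun i => aeval S.X (Q i) * ↑(hu i).unit⁻¹, fun i => ?_⟩
  have h1 : S.lift t' hS (aeval S.X (Q i)) = algebraMap R L (e i) * a i := by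
    rw [← aeval_algHom_apply, StandardEtalePair.lift_X, hmap, hQ i, map_mul, aeval_C,
      IsScalarTower.algebraMap_apply R κ L]
    simp only [q', aeval_comp, map_mul, aeval_C, aeval_X, ht', hq i]
    rfl
  have h2 : S.lift t' hS ↑(hu i).unit⁻¹ * algebraMap R L (e i) = 1 := by
    rw [← AlgHom.commutes (S.lift t' hS), ← map_mul, IsUnit.val_inv_mul, map_one]
  rw [map_mul, h1]
  calc algebraMap R L (e i) * a i * S.lift t' hS ↑(hu i).unit⁻¹
      = a i * (S.lift t' hS ↑(hu i).unit⁻¹ * algebraMap R L (e i)) := by ring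
    _ = a i := by rw [h2, mul_one]

theorem exists_etale_mvPolynomial_point {n : ℕ} (h : MvPolynomial (Fin n) R)
    (hh : MvPolynomial.map (algebraMap R p.ResidueField) h ≠ 0) :
    ∃ (R' : Type u) (_ : CommRing R') (_ : Algebra R R') (_ : Algebra.Etale R R')
      (γ : MvPolynomial (Fin n) R →ₐ[R] R') (P' : PrimeSpectrum R'),
      P'.comap (algebraMap R R') = ⟨p, ‹_›⟩ ∧ γ h ∉ P'.asIdeal := by
  let κ := p.ResidueField
  let Ks := SeparableClosure κ
  have : Infinite Ks := by
    by_contra hfin
    have : Finite Ks := not_infinite_iff_finite.mp hfin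
    have : IsAlgClosed Ks := IsSepClosed.isAlgClosed_of_perfectField Ks
    exact not_finite Ks
  obtain ⟨a, ha⟩ : ∃ a : Fin n → Ks, MvPolynomial.eval a
      (MvPolynomial.map (algebraMap κ Ks) (MvPolynomial.map (algebraMap R κ) h)) ≠ 0 := by
    by_contra hall
    push Not at hall
    exact hh (MvPolynomial.map_injective _ (algebraMap κ Ks).injective
      (by rw [map_zero]; exact MvPolynomial.funext fun x => by rw [hall x, map_zero]))
  let F : IntermediateField κ Ks := IntermediateField.adjoin κ (Set.range a)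
  have hFfin : FiniteDimensional κ F := by
    have := (Set.finite_range a).to_subtype
    exact IntermediateField.finiteDimensional_adjoin fun x _ => Algebra.IsIntegral.isIntegral x
  let b : Fin n → F := fun i => ⟨a i, IntermediateField.subset_adjoin κ _ ⟨i, rfl⟩⟩
  obtain ⟨R', _, _, _, φ, c, hc⟩ := exists_etale_point p F b
  refine ⟨R', inferInstance, inferInstance, inferInstance, MvPolynomial.aeval c,
    ⟨RingHom.ker φ.toRingHom, RingHom.ker_isPrime _⟩, ?_, ?_⟩
  · ext r
    change φ (algebraMap R R' r) = 0 ↔ r ∈ p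
    rw [AlgHom.commutes, IsScalarTower.algebraMap_apply R κ F, map_eq_zero,
      Ideal.algebraMap_residueField_eq_zero]
  · intro hmem
    have h0 : φ (MvPolynomial.aeval c h) = 0 := hmem
    rw [← AlgHom.comp_apply, MvPolynomial.comp_aeval, funext hc] at h0
    apply ha
    rw [MvPolynomial.eval_map, MvPolynomial.eval₂_map, ← IsScalarTower.algebraMap_eq]
    have : IsScalarTower R F Ks := IsScalarTower.of_algebraMap_eq fun r => by
      rw [IsScalarTower.algebraMap_apply R κ Ks, IsScalarTower.algebraMap_apply R κ F, ← IsScalarTower.algebraMap_apply κ F Ks]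
    have h1 := congrArg (IsScalarTower.toAlgHom R F Ks) h0
    rw [← AlgHom.comp_apply, MvPolynomial.comp_aeval, map_zero] at h1
    exact h1

end Alg

open AlgebraicGeometry CategoryTheory TensorProduct in
theorem exists_section_nbhd {X S : Scheme.{u}} (f : X ⟶ S) [Smooth f] (x : X) :
    ∃ (S' : Scheme.{u}) (g : S' ⟶ S) (s' : S'), Etale g ∧ g s' = f x ∧ ∃ h : S' ⟶ X, h ≫ f = g := by
  obtain ⟨U, hU, V, hV, hxV, e, hst⟩ := Smooth.exists_isStandardSmooth f x
  obtain ⟨n, g, hgC, hg⟩ := hst.exists_etale_mvPolynomial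
  obtain ⟨q, hq⟩ := hV.range_fromSpec.ge hxV
  let Q : PrimeSpectrum (MvPolynomial (Fin n) Γ(S, U)) := q.comap g
  let p : PrimeSpectrum Γ(S, U) := Q.comap MvPolynomial.C
  have hpq : p = q.comap (f.appLE U V e).hom := by rw [← hgC]; rfl
  have hps : hU.fromSpec p = f x := by
    rw [hpq, ← hq]
    exact congrArg (fun m : Spec Γ(X, V) ⟶ S => m q) (hU.SpecMap_appLE_fromSpec f hV e)
  let _ : Algebra (MvPolynomial (Fin n) Γ(S, U)) Γ(X, V) := g.toAlgebra
  have hBet : Algebra.Etale (MvPolynomial (Fin n) Γ(S, U)) Γ(X, V) := hg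
  have hopen : IsOpenMap (PrimeSpectrum.comap (algebraMap (MvPolynomial (Fin n) Γ(S, U)) Γ(X, V))) :=
    PrimeSpectrum.isOpenMap_comap_of_hasGoingDown_of_finitePresentation
  obtain ⟨_, ⟨h, rfl⟩, hQh, hsub⟩ :=
    PrimeSpectrum.isTopologicalBasis_basic_opens.exists_subset_of_mem_open
      (Set.mem_range_self q : Q ∈ Set.range (PrimeSpectrum.comap g)) hopen.isOpen_range
  have hh : MvPolynomial.map (algebraMap Γ(S, U) p.asIdeal.ResidueField) h ≠ 0 := by
    intro h0
    apply hQh
    rw [MvPolynomial.as_sum h]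
    refine Q.asIdeal.sum_mem fun m _ => ?_
    rw [← mul_one (MvPolynomial.coeff m h), ← MvPolynomial.C_mul_monomial]
    refine Q.asIdeal.mul_mem_right _ ?_
    have h1 := congrArg (MvPolynomial.coeff m) h0
    rw [MvPolynomial.coeff_map, MvPolynomial.coeff_zero, Ideal.algebraMap_residueField_eq_zero] at h1
    exact h1
  obtain ⟨R', _, _, _, γ, P', hP', hγ⟩ := exists_etale_mvPolynomial_point p.asIdeal h hh
  let _ : Algebra (MvPolynomial (Fin n) Γ(S, U)) R' := γ.toRingHom.toAlgebra
  have : IsScalarTower Γ(S, U) (MvPolynomial (Fin n) Γ(S, U)) R' :=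
    IsScalarTower.of_algebraMap_eq fun r => (γ.commutes r).symm
  obtain ⟨q₂, hq₂⟩ := hsub (show P'.comap γ.toRingHom ∈ PrimeSpectrum.basicOpen h from hγ)
  let T := R' ⊗[MvPolynomial (Fin n) Γ(S, U)] Γ(X, V)
  have : Algebra.Etale R' T := inferInstance
  have : Algebra.Etale Γ(S, U) T := Algebra.Etale.comp Γ(S, U) R' T
  obtain ⟨z, hz, -⟩ := Scheme.Pullback.exists_preimage_pullback
    (f := Spec.map (CommRingCat.ofHom (algebraMap (MvPolynomial (Fin n) Γ(S, U)) R')))
    (g := Spec.map (CommRingCat.ofHom (algebraMap (MvPolynomial (Fin n) Γ(S, U)) Γ(X, V))))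
    P' q₂ hq₂.symm
  let z' : PrimeSpectrum T :=
    (pullbackSpecIso (MvPolynomial (Fin n) Γ(S, U)) R' Γ(X, V)).hom z
  have hz' : z'.comap (algebraMap R' T) = P' := by
    change Spec.map (CommRingCat.ofHom (Algebra.TensorProduct.includeLeftRingHom
      (R := MvPolynomial (Fin n) Γ(S, U)) (A := R') (B := Γ(X, V)))) z' = P'
    rw [← pullbackSpecIso_hom_fst, Scheme.Hom.comp_apply] at hz
    exact hz
  have het : Etale (Spec.map (CommRingCat.ofHom (algebraMap Γ(S, U) T))) :=
    (HasRingHomProperty.Spec_iff (P := @Etale)).mpr (RingHom.etale_algebraMap.mpr ‹_›)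
  refine ⟨Spec (CommRingCat.of T), Spec.map (CommRingCat.ofHom (algebraMap Γ(S, U) T)) ≫ hU.fromSpec,
    z', inferInstance, ?_, Spec.map (CommRingCat.ofHom (Algebra.TensorProduct.includeRight
      (R := MvPolynomial (Fin n) Γ(S, U)) (A := R') (B := Γ(X, V))).toRingHom) ≫ hV.fromSpec, ?_⟩
  · rw [Scheme.Hom.comp_apply, ← hps]
    congr 1
    change z'.comap (algebraMap Γ(S, U) T) = p
    rw [IsScalarTower.algebraMap_eq Γ(S, U) R' T, PrimeSpectrum.comap_comp_apply, hz', hP']
  · rw [Category.assoc, ← hU.SpecMap_appLE_fromSpec f hV e, ← Category.assoc, ← Spec.map_comp]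
    congr 2
    refine CommRingCat.hom_ext (RingHom.ext fun r => ?_)
    change (1 : R') ⊗ₜ[MvPolynomial (Fin n) Γ(S, U)] (f.appLE U V e).hom r =
      algebraMap Γ(S, U) R' r ⊗ₜ[MvPolynomial (Fin n) Γ(S, U)] (1 : Γ(X, V))
    rw [IsScalarTower.algebraMap_apply Γ(S, U) (MvPolynomial (Fin n) Γ(S, U)) R',
      Algebra.TensorProduct.tmul_one_eq_one_tmul, ← hgC]
    rfl

end Aux

open AlgebraicGeometry CategoryTheory Limits in
/-- A smooth morphism admits sections étale-locally on the target: every point in the image has an étale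
neighbourhood over which the morphism has a section. -/
theorem result {X S : Scheme.{u}} (f : X ⟶ S) [Smooth f] (s : S) (hs : s ∈ Set.range f) :
    ∃ (S' : Scheme.{u}) (g : S' ⟶ S) (s' : S'), Etale g ∧ g s' = s ∧ ∃ h : S' ⟶ X, h ≫ f = g := by
  obtain ⟨x, rfl⟩ := hs
  exact exists_section_nbhd f x

end Groth.Agent.S0412
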