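import Groth.Statements.S12608
import Groth.Agent.FunFld.WDiv
-- import your own Groth.Agent.* helpers here

set_option autoImplicit false
open FunFld

namespace Groth.Agent.S12608

/-- Over an algebraically closed constant field, let `φ = (φ₀, …, φₙ)` be an effective projective map
normalized at the place `P`, `t` a local parameter at `P`, `j₁, …, jₙ` the orders of `φ` and `j'₁,
…, j'ₙ` the orders of `φ` at `P`. Then `jₗ ≤ j'ₗ` for all `l`, and the following are equivalent: all
`j'ₗ = jₗ`; the Wronskian `w_t(φ)` does not vanish at `P`; the Weierstrass divisor `W(φ)` has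
coefficient `0` at `P` (the divisor of `dt` in it read through a family of Laurent expansions). -/
theorem result
    (k K : Type*) [Field k] [IsAlgClosed k] [Field K] [Algebra k K]
    (hK : FunFld.IsFunctionField k K) (P : FunFld.Place k K) {n : ℕ} (φ : Fin (n + 1) → K) (hφ : LinearIndependent k φ)
    (heff : (1 : K) ∈ Submodule.span k (Set.range φ)) (hnorm : ∀ i, P.1 (φ i) ≤ 1)
    (t : K) (ht : P.1 t = WithZero.exp (-1))
    (Ht : K →ₐ[k] PowerSeries K) (hHt : LocRes.IsHasseFamily t Ht)
    (J : Fin n → ℕ) (hJ : FunFld.IsOrders K (FunFld.hcol (AlgHom.id k K) Ht φ) J)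
    (J' : Fin n → ℕ) (hJ' : FunFld.IsOrders (IsLocalRing.ResidueField P.O) (FunFld.hcolAt P Ht φ) J')
    (Φ : FunFld.Place k K → (K →ₐ[k] LaurentSeries k))
    (hΦ : ∀ P : FunFld.Place k K, LocRes.IsExpansionAt P.1 (Φ P)) :
    (∀ l, J l ≤ J' l) ∧
    ((∀ l, J' l = J l) ↔ FunFld.evalP P (FunFld.wrMat (AlgHom.id k K) Ht φ J).det ≠ 0) ∧
    ((∀ l, J' l = J l) ↔ FunFld.wDiv (AlgHom.id k K) Ht Φ t φ J P = 0) := by
  obtain ⟨e⟩ := FunFldLib.exists_paramExp hK ht
  have hfix : FunFld.IsFixedPt (AlgHom.id k K) P := fun z hz => hz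
  have hJ'pos := FunFldLib.orders_at_pos e hK ht hHt hnorm hJ'
  have hne := FunFldLib.det_orders_ne_zero (AlgHom.id k K) hφ hJ
  have hbin : (FunFld.binomMat k J' J').det = 1 := by
    rw [Matrix.det_of_lowerTriangular _ (fun r s (hrs : r < s) => by
      simp only [FunFld.binomMat, Matrix.of_apply]
      rw [Nat.choose_eq_zero_of_lt (hJ'.1 hrs), Nat.cast_zero])]
    exact Finset.prod_eq_one fun r _ => by simp [FunFld.binomMat]
  have hJJ' : ∀ l, J l ≤ J' l := by
    have h := ((FunFldLib.det_estimate' e ht hHt _ hK hfix hφ heff hnorm hJ' J').2 (Or.inl hJ'pos)).2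
      (by rw [hbin]; exact one_ne_zero)
    have hne' : (FunFld.wrMat (AlgHom.id k K) Ht φ J').det ≠ 0 := fun h0 => by
      rw [h0, map_zero] at h; exact WithZero.exp_ne_zero h.symm
    rw [FunFldLib.wrMat_eq] at hne'
    exact FunFldLib.orders_le hJ hJ'.1 (FunFldLib.linearIndependent_of_det_ne_zero hne')
  have hmain : (∀ l, J' l = J l) ↔ P.ord (FunFld.wrMat (AlgHom.id k K) Ht φ J).det = 0 := by
    constructor
    · intro heq
      have hJJ : J = J' := funext fun l => (heq l).symm
      have h := ((FunFldLib.det_estimate' e ht hHt _ hK hfix hφ heff hnorm hJ' J).2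
        (Or.inl (by rw [hJJ]; exact hJ'pos))).2 (by rw [hJJ, hbin]; exact one_ne_zero)
      rw [FunFldLib.ord_eq_of_val P h, hJJ]
      simp
    · intro h0 l
      have h := (FunFldLib.det_estimate' e ht hHt _ hK hfix hφ heff hnorm hJ' J).1
      rw [FunFldLib.val_le_exp_iff P hne, h0, neg_neg] at h
      by_contra hl
      have hlt : ∑ l, (0 : ℤ) < ∑ l, ((J' l : ℤ) - J l) := Finset.sum_lt_sum
        (fun q _ => by have := hJJ' q; omega) ⟨l, Finset.mem_univ l, by have := hJJ' l; omega⟩
      simp only [Finset.sum_const_zero] at hlt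
      omega
  refine ⟨hJJ', hmain.trans ?_, hmain.trans ?_⟩
  · have hint : P.1 (FunFld.wrMat (AlgHom.id k K) Ht φ J).det ≤ 1 := FunFldLib.val_det_le_one' P _ fun i c => by
      induction c using Fin.cases with
      | zero => exact hnorm i
      | succ l => exact e.hasseD_le_one hK ht hHt (hnorm i) (J l)
    rw [e.evalP_eq hint, Ne, map_eq_zero, ← e.lt_one_iff hint, FunFldLib.val_lt_one_iff P hne]
    have := (FunFldLib.val_le_one_iff P hne).1 hint
    omega
  · rw [FunFldLib.wDiv_apply_normalized hK _ J hfix hnorm heff ht hHt hΦ]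

end Groth.Agent.S12608
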