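import Groth.Statements.S12516
import Groth.Agent.FunFld.Hyperelliptic
-- import your own Groth.Agent.* helpers here

set_option autoImplicit false
open FunFld

namespace Groth.Agent.S12516

/-- Let `char k ≠ 2`, `K` of degree `2` over `k(x)`, `y ∈ K` with `y² = f(x)` for a squarefree
polynomial `f` of degree `≥ 1`, and `P∞` the place of `k(x)` at which `x` has a pole. If `deg f` is
odd there is a unique place of `K` above `P∞`; it has ramification index `2` and degree `1`. If `deg
f` is even, every place of `K` above `P∞` is unramified and the conorm of `P∞` has degree `2` (so it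
is one place of degree `2` or the sum of two places of degree `1`). -/
theorem result (k K : Type*) [Field k] [Field K] (h2 : ringChar k ≠ 2) [Algebra k K]
    [Algebra (RatFunc k) K] [IsScalarTower k (RatFunc k) K]
    (hdeg : Module.finrank (RatFunc k) K = 2) (y : K) (f : Polynomial k) (hf : Squarefree f)
    (hd : 1 ≤ f.natDegree)
    (heq : y ^ 2 = algebraMap (RatFunc k) K (algebraMap (Polynomial k) (RatFunc k) f))
    (Pinf : FunFld.Place k (RatFunc k)) (hinf : Pinf.ord (RatFunc.X : RatFunc k) < 0) :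
    (Odd f.natDegree → (∃! P : FunFld.Place k K, FunFld.IsOver P Pinf) ∧
      ∀ P : FunFld.Place k K, FunFld.IsOver P Pinf → FunFld.IsOverWith P Pinf 2 ∧ P.deg = 1) ∧
    (Even f.natDegree → (FunFld.conorm K (Finsupp.single Pinf 1)).deg = 2 ∧
      ∀ P : FunFld.Place k K, FunFld.IsOver P Pinf → FunFld.IsOverWith P Pinf 1) := by
  have : FiniteDimensional (RatFunc k) K := Module.finite_of_finrank_pos (by rw [hdeg]; exact two_pos)
  have hF := FunFldLib.isFunctionField_ratFunc (k := k)
  have h2k : (2 : k) ≠ 0 := Ring.two_ne_zero h2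
  have hX0 : (RatFunc.X : RatFunc k) ≠ 0 := RatFunc.X_ne_zero
  have hX : 1 < Pinf.1 RatFunc.X := (FunFldLib.one_lt_val_iff Pinf hX0).2 hinf
  have hf0 : f ≠ 0 := by rintro rfl; simp at hd
  have hv : Pinf.1 (FunFldLib.polR f) = WithZero.exp (f.natDegree : ℤ) := by
    rw [FunFldLib.rat_val_pol_inf Pinf hX hf0, FunFldLib.rat_val_X_inf Pinf hX, ← WithZero.exp_nsmul]
    simp
  have hdeg1 := FunFldLib.rat_deg_inf Pinf hX
  refine ⟨fun hodd => ?_, fun heven => ⟨?_, ?_⟩⟩
  · have h := FunFldLib.quad_ramified hF hdeg (P := Pinf) (FunFldLib.ne_zero_of_val Pinf hv) heq (by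
      rw [FunFldLib.ord_eq_of_val Pinf hv, odd_neg]; exact_mod_cast hodd)
    exact ⟨h.1, fun P hP => ⟨(h.2 P hP).1, (h.2 P hP).2.1.trans hdeg1⟩⟩
  · rw [FunFldLib.deg_conorm hF, FunFldLib.deg_single, hdeg, hdeg1]
    norm_num
  · obtain ⟨m, hm⟩ := heven
    intro P hP
    have hy := FunFldLib.hyper_notMem hf hd heq
    set u : RatFunc k := RatFunc.X ^ m with hu
    have hu0 : u ≠ 0 := pow_ne_zero _ hX0
    refine FunFldLib.quad_unramified hF hdeg h2k (z := y / algebraMap (RatFunc k) K u)
      (g := FunFldLib.polR f / u ^ 2) ?_ ?_ ?_ hP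
    · rintro ⟨a, ha⟩
      refine hy ⟨a * u, ?_⟩
      rw [map_mul, ha, div_mul_cancel₀ _ (by simpa using hu0)]
    · rw [div_pow, heq, map_div₀]; simp only [hu, map_pow, FunFldLib.polR]
    · rw [map_div₀, map_pow, hv, hu, map_pow, FunFldLib.rat_val_X_inf Pinf hX, ← WithZero.exp_nsmul,
        ← WithZero.exp_nsmul, ← WithZero.exp_sub, WithZero.exp_eq_one]
      simp only [nsmul_eq_mul]
      omega

end Groth.Agent.S12516
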