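import Groth.Statements.S13785
import Mathlib
-- import your own Groth.Agent.* helpers here

set_option autoImplicit false
universe u
open CAlg

namespace Groth.Agent.S13785

/-- For any commutative ring A, the determinant of the generic n × n matrix is a nonzerodivisor of the
polynomial ring over A in the n² matrix entries. -/
theorem result (A : Type u) [CommRing A] (n : ℕ) :
    (Matrix.mvPolynomialX (Fin n) (Fin n) A).det ∈ nonZeroDivisors (MvPolynomial (Fin n × Fin n) A) := by
  classical
  let φ : MvPolynomial (Fin n × Fin n) A →ₐ[A] Polynomial (MvPolynomial (Fin n × Fin n) A) :=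
    MvPolynomial.aeval fun ij => (if ij.1 = ij.2 then Polynomial.X else 0) + Polynomial.C (MvPolynomial.X ij)
  let D := Matrix.mvPolynomialX (Fin n) (Fin n) A
  have hD : φ D.det = (-D).charpoly := by
    rw [AlgHom.map_det, Matrix.charpoly]
    congr 1
    ext i j : 1
    simp only [φ, D, AlgHom.mapMatrix_apply, Matrix.map_apply, Matrix.mvPolynomialX_apply, MvPolynomial.aeval_X,
      Matrix.charmatrix_apply, Matrix.neg_apply, Matrix.diagonal_apply, map_neg, sub_neg_eq_add]
  have hinv : ∀ p, (φ p).eval 0 = p := fun p => by
    have : ((Polynomial.aeval (0 : MvPolynomial (Fin n × Fin n) A)).restrictScalars A).comp φ = AlgHom.id A _ := by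
      refine MvPolynomial.algHom_ext fun ij => ?_
      by_cases h : ij.1 = ij.2 <;> simp [φ, h]
    simpa [Polynomial.coe_aeval_eq_eval] using AlgHom.congr_fun this p
  refine mem_nonZeroDivisors_iff_right.mpr fun p hp => ?_
  have h0 : φ p * (-D).charpoly = 0 := by rw [← hD, ← map_mul, hp, map_zero]
  have := mem_nonZeroDivisors_iff_right.mp (Matrix.charpoly_monic (-D)).mem_nonZeroDivisors (φ p) h0
  rw [← hinv p, this, Polynomial.eval_zero]

end Groth.Agent.S13785
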