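import Groth.Statements.S6485
import Mathlib.LinearAlgebra.Matrix.Permutation
import Mathlib.Algebra.Polynomial.Degree.Domain
import Mathlib.Algebra.Polynomial.AlgebraMap
import Mathlib.Algebra.MvPolynomial.Nilpotent


set_option autoImplicit false
universe u
open IntMult

namespace Groth.Agent.S6485

/-- Let k be a field and n ≥ 1. Then the determinant of the generic matrix (x_{ij})_{1 ≤ i, j ≤ n} is an
irreducible element of the polynomial ring k[x_{ij}] (Mathlib's Matrix.mvPolynomialX is the generic
matrix over MvPolynomial (Fin n × Fin n) k). -/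
theorem result (k : Type u) [Field k] (n : ℕ) (hn : 1 ≤ n) : Irreducible (Matrix.mvPolynomialX (Fin n) (Fin n) k).det := by
  classical
  let M : Matrix (Fin n) (Fin n) (MvPolynomial (Fin n × Fin n) k) := Matrix.mvPolynomialX (Fin n) (Fin n) k
  let z : Set (Fin n × Fin n) → ((MvPolynomial (Fin n × Fin n) k) →ₐ[k] (MvPolynomial (Fin n × Fin n) k)) := fun S =>
    MvPolynomial.aeval fun x => if x ∈ S then 0 else MvPolynomial.X x
  have hzz : ∀ S T : Set (Fin n × Fin n), (z S).comp (z T) = z (T ∪ S) := fun S T =>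
    MvPolynomial.algHom_ext fun x => by
      by_cases hx : x ∈ T <;> by_cases hx' : x ∈ S <;> simp [z, hx, hx']
  have hmap : ∀ φ : (MvPolynomial (Fin n × Fin n) k) →+* (MvPolynomial (Fin n × Fin n) k), φ M.det = (M.map φ).det := fun φ => φ.map_det M
  have hperm : ∀ (σ : Equiv.Perm (Fin n)), M.det.eval (fun x => if x.2 = σ x.1 then 1 else 0) = (Equiv.Perm.sign σ : k) := fun σ => by
    rw [RingHom.map_det, RingHom.mapMatrix_apply]
    have : M.map (MvPolynomial.eval fun x : Fin n × Fin n => if x.2 = σ x.1 then (1 : k) else 0) = σ.permMatrix k := by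
      ext a b
      simp [M, Matrix.mvPolynomialX, PEquiv.toMatrix_apply, Equiv.toPEquiv_apply, eq_comm]
    rw [this, Matrix.det_permutation]
  have hsingle : ∀ r c, z {(r, c)} M.det ≠ M.det := fun r c heq => by
    have h := congrArg (MvPolynomial.eval fun x : Fin n × Fin n => if x.2 = Equiv.swap r c x.1 then (1 : k) else 0) heq
    rw [hperm] at h
    have h0 : MvPolynomial.eval (fun x : Fin n × Fin n => if x.2 = Equiv.swap r c x.1 then (1 : k) else 0) (z {(r, c)} M.det) = 0 := by
      change (MvPolynomial.eval _).comp (z {(r, c)}).toRingHom M.det = 0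
      rw [RingHom.map_det]
      refine Matrix.det_eq_zero_of_row_eq_zero r fun b => ?_
      show MvPolynomial.eval _ (z {(r, c)} (MvPolynomial.X (r, b))) = 0
      by_cases hb : b = c <;> simp [z, hb]
    rw [h0] at h
    rcases Int.units_eq_one_or (Equiv.Perm.sign (Equiv.swap r c)) with hs | hs <;> rw [hs] at h <;> simp at h
  have hM0 : M.det ≠ 0 := fun h => by
    have h1 := hperm 1
    rw [h] at h1
    simp at h1
  -- scaling the variables in a line
  have hline : ∀ (S : Set (Fin n × Fin n)) (D : Polynomial (MvPolynomial (Fin n × Fin n) k)), D.natDegree = 1 →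
      MvPolynomial.aeval (R := k) (fun x => if x ∈ S then Polynomial.X * Polynomial.C (MvPolynomial.X x) else Polynomial.C (MvPolynomial.X x)) M.det = D →
      ∀ f g, f * g = M.det → z S f = f ∨ z S g = g := by
    intro S D hD hdet f g hfg
    let Φ : (MvPolynomial (Fin n × Fin n) k) →ₐ[k] Polynomial (MvPolynomial (Fin n × Fin n) k) :=
      MvPolynomial.aeval fun x => if x ∈ S then Polynomial.X * Polynomial.C (MvPolynomial.X x) else Polynomial.C (MvPolynomial.X x)
    have h0 : ((Polynomial.aeval (0 : (MvPolynomial (Fin n × Fin n) k))).restrictScalars k).comp Φ = z S := MvPolynomial.algHom_ext fun x => by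
      by_cases hx : x ∈ S <;> simp [Φ, z, hx]
    have h1 : ((Polynomial.aeval (1 : (MvPolynomial (Fin n × Fin n) k))).restrictScalars k).comp Φ = AlgHom.id k (MvPolynomial (Fin n × Fin n) k) := MvPolynomial.algHom_ext fun x => by
      by_cases hx : x ∈ S <;> simp [Φ, hx]
    have hfix : ∀ a, (Φ a).natDegree = 0 → z S a = a := fun a ha => by
      have e0 := DFunLike.congr_fun h0 a
      have e1 := DFunLike.congr_fun h1 a
      rw [AlgHom.comp_apply, AlgHom.restrictScalars_apply, Polynomial.eq_C_of_natDegree_eq_zero ha, Polynomial.aeval_C] at e0 e1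
      rw [← e0, e1]; rfl
    have hne : Φ f ≠ 0 ∧ Φ g ≠ 0 := mul_ne_zero_iff.1 (by
      rw [← map_mul, hfg, hdet]
      intro h; rw [h] at hD; simp at hD)
    have hdeg : (Φ f).natDegree + (Φ g).natDegree = 1 := by
      rw [← Polynomial.natDegree_mul hne.1 hne.2, ← map_mul, hfg, hdet, hD]
    rcases Nat.eq_zero_or_pos (Φ f).natDegree with h | h
    · exact .inl (hfix f h)
    · exact .inr (hfix g (by omega))
  have hdetline : ∀ (S : Set (Fin n × Fin n)),
      (M.map (MvPolynomial.aeval (R := k) (fun x => if x ∈ S then Polynomial.X * Polynomial.C (MvPolynomial.X x) else Polynomial.C (MvPolynomial.X x)) : (MvPolynomial (Fin n × Fin n) k) → Polynomial (MvPolynomial (Fin n × Fin n) k))).det = Polynomial.X * Polynomial.C M.det →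
      ∀ f g, f * g = M.det → z S f = f ∨ z S g = g := fun S hS => hline S (Polynomial.X * Polynomial.C M.det)
        (by rw [Polynomial.natDegree_mul Polynomial.X_ne_zero (by simpa using hM0)]; simp)
        (by rw [← hS]; exact AlgHom.map_det _ M)
  have hrow : ∀ r, ∀ f g, f * g = M.det → z {x | x.1 = r} f = f ∨ z {x | x.1 = r} g = g := fun r => hdetline _ (by
    have : (M.map (MvPolynomial.aeval (R := k) (fun x => if x ∈ {x : Fin n × Fin n | x.1 = r} then Polynomial.X * Polynomial.C (MvPolynomial.X x) else Polynomial.C (MvPolynomial.X x)) : (MvPolynomial (Fin n × Fin n) k) → Polynomial (MvPolynomial (Fin n × Fin n) k))) =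
        (M.map (Polynomial.C : (MvPolynomial (Fin n × Fin n) k) →+* Polynomial (MvPolynomial (Fin n × Fin n) k))).updateRow r ((Polynomial.X : Polynomial (MvPolynomial (Fin n × Fin n) k)) • (M.map (Polynomial.C : (MvPolynomial (Fin n × Fin n) k) →+* Polynomial (MvPolynomial (Fin n × Fin n) k))) r) := by
      refine Matrix.ext fun a b => ?_
      by_cases h : a = r <;> simp [M, Matrix.updateRow_apply, h]
    convert congrArg Matrix.det this using 1
    · congr!
    · rw [Matrix.det_updateRow_smul, Matrix.updateRow_eq_self, RingHom.map_det (Polynomial.C : MvPolynomial (Fin n × Fin n) k →+* Polynomial (MvPolynomial (Fin n × Fin n) k)) M, RingHom.mapMatrix_apply])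
  have hcol : ∀ c, ∀ f g, f * g = M.det → z {x | x.2 = c} f = f ∨ z {x | x.2 = c} g = g := fun c => hdetline _ (by
    have : (M.map (MvPolynomial.aeval (R := k) (fun x => if x ∈ {x : Fin n × Fin n | x.2 = c} then Polynomial.X * Polynomial.C (MvPolynomial.X x) else Polynomial.C (MvPolynomial.X x)) : (MvPolynomial (Fin n × Fin n) k) → Polynomial (MvPolynomial (Fin n × Fin n) k))) =
        (M.map (Polynomial.C : (MvPolynomial (Fin n × Fin n) k) →+* Polynomial (MvPolynomial (Fin n × Fin n) k))).updateCol c ((Polynomial.X : Polynomial (MvPolynomial (Fin n × Fin n) k)) • fun a => (M.map (Polynomial.C : (MvPolynomial (Fin n × Fin n) k) →+* Polynomial (MvPolynomial (Fin n × Fin n) k))) a c) := by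
      refine Matrix.ext fun a b => ?_
      by_cases h : b = c <;> simp [M, Matrix.updateCol_apply, h]
    convert congrArg Matrix.det this using 1
    · congr!
    · rw [Matrix.det_updateCol_smul, Matrix.updateCol_eq_self, RingHom.map_det (Polynomial.C : MvPolynomial (Fin n × Fin n) k →+* Polynomial (MvPolynomial (Fin n × Fin n) k)) M, RingHom.mapMatrix_apply])
  have hconst : ∀ f : (MvPolynomial (Fin n × Fin n) k), f ≠ 0 → (∀ r, z {x | x.1 = r} f = f) → IsUnit f := fun f hf hr => by
    have hall : ∀ T : Finset (Fin n), z {x | x.1 ∈ T} f = f := fun T => by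
      induction T using Finset.induction with
      | empty => exact (DFunLike.congr_fun (MvPolynomial.algHom_ext fun x => by simp [z] : z _ = AlgHom.id k (MvPolynomial (Fin n × Fin n) k)) f)
      | @insert a T _ ih =>
        rw [show {x : Fin n × Fin n | x.1 ∈ insert a T} = {x | x.1 = a} ∪ {x | x.1 ∈ T} by ext; simp,
          ← hzz, AlgHom.comp_apply, hr, ih]
    have h := hall Finset.univ
    have : z {x | x.1 ∈ (Finset.univ : Finset (Fin n))} f = MvPolynomial.C (MvPolynomial.constantCoeff f) := by
      simp [z, MvPolynomial.aeval_def, MvPolynomial.algebraMap_eq]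
    rw [← h, this]
    refine (isUnit_iff_ne_zero.2 fun h0 => hf ?_).map MvPolynomial.C
    rw [← h, this, h0, map_zero]
  refine ⟨fun hu => ?_, fun f g hfg => ?_⟩
  · obtain ⟨c, -, hc⟩ := MvPolynomial.isUnit_iff_eq_C_of_isReduced.1 hu
    refine hsingle ⟨0, hn⟩ ⟨0, hn⟩ ?_
    show z _ M.det = _
    rw [show M.det = MvPolynomial.C c from hc]
    exact (z _).commutes c
  · have hfg' : f * g = M.det := hfg.symm
    obtain ⟨hf0, hg0⟩ := mul_ne_zero_iff.1 (hfg' ▸ hM0)
    by_cases hall : ∀ r, z {x | x.1 = r} g = g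
    · exact .inr (hconst g hg0 hall)
    push Not at hall
    obtain ⟨r, hr⟩ := hall
    have hfr := (hrow r f g hfg').resolve_right hr
    have hkey : ∀ c, ¬ (z {x | x.2 = c} g = g) := fun c hgc => by
      refine hsingle r c ?_
      have hf1 : z {(r, c)} f = f := by
        conv_lhs => rw [← hfr, ← AlgHom.comp_apply, hzz]
        rw [show {x : Fin n × Fin n | x.1 = r} ∪ {(r, c)} = {x | x.1 = r} by ext ⟨a, b⟩; simp <;> tauto]; try rw [hfr]
      have hg1 : z {(r, c)} g = g := by
        conv_lhs => rw [← hgc, ← AlgHom.comp_apply, hzz]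
        rw [show {x : Fin n × Fin n | x.2 = c} ∪ {(r, c)} = {x | x.2 = c} by ext ⟨a, b⟩; simp <;> tauto, hgc]
      rw [← hfg', map_mul, hf1, hg1]
    have hfc : ∀ c, z {x | x.2 = c} f = f := fun c => (hcol c f g hfg').resolve_right (hkey c)
    refine .inl (hconst f hf0 fun r' => ?_)
    by_contra hr'
    exact hkey ⟨0, hn⟩ (by
      have hgr := (hrow r' f g hfg').resolve_left hr'
      exfalso
      refine hsingle r' ⟨0, hn⟩ ?_
      have hf1 : z {(r', (⟨0, hn⟩ : Fin n))} f = f := by
        conv_lhs => rw [← hfc ⟨0, hn⟩, ← AlgHom.comp_apply, hzz]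
        rw [show {x : Fin n × Fin n | x.2 = ⟨0, hn⟩} ∪ {(r', ⟨0, hn⟩)} = {x | x.2 = ⟨0, hn⟩} by ext ⟨a, b⟩; simp <;> tauto]; try rw [hfc]
      have hg1 : z {(r', (⟨0, hn⟩ : Fin n))} g = g := by
        conv_lhs => rw [← hgr, ← AlgHom.comp_apply, hzz]
        rw [show {x : Fin n × Fin n | x.1 = r'} ∪ {(r', ⟨0, hn⟩)} = {x | x.1 = r'} by ext ⟨a, b⟩; simp <;> tauto, hgr]
      rw [← hfg', map_mul, hf1, hg1])

end Groth.Agent.S6485
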