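import Groth.Statements.S5658
import Mathlib

set_option autoImplicit false
universe u
open CAlg

namespace Groth.Agent.S5658

section aux

open Matrix Polynomial
open scoped commutatorElement

/-- Over a commutative ring with a unit `u` such that `u - 1` is a unit, transvections are commutators. -/
lemma transvection_mem_commutator {R : Type*} [CommRing R] {n : ℕ} {u : R} (hu : IsUnit u)
    (hu1 : IsUnit (u - 1)) {i j : Fin n} (hij : i ≠ j) (c : R) (U : GL (Fin n) R)
    (hU : (U : Matrix (Fin n) (Fin n) R) = transvection i j c) :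
    U ∈ commutator (GL (Fin n) R) := by
  obtain ⟨l, rfl⟩ := hu
  obtain ⟨w₁, hw₁⟩ := hu1
  let x := c * ↑w₁⁻¹
  let E : GL (Fin n) R := ⟨transvection i j x, transvection i j (-x),
    by rw [transvection_mul_transvection_same _ _ hij, add_neg_cancel, transvection_zero],
    by rw [transvection_mul_transvection_same _ _ hij, neg_add_cancel, transvection_zero]⟩
  let v : Fin n → R := Function.update (fun _ => (1 : R)) i (l : R)
  let w : Fin n → R := Function.update (fun _ => (1 : R)) i (↑l⁻¹ : R)
  have hvw : ∀ r, v r * w r = 1 := fun r => by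
    rcases eq_or_ne r i with h | h
    · subst h; simp [v, w]
    · simp [v, w, h]
  let Dg : GL (Fin n) R := ⟨diagonal v, diagonal w, by simp [diagonal_mul_diagonal, hvw],
    by simp [diagonal_mul_diagonal, fun r => mul_comm (w r) (v r), hvw]⟩
  have : U = ⁅Dg, E⁆ := by
    refine Units.ext ?_
    rw [hU, commutatorElement_def]
    change _ = diagonal v * transvection i j x * diagonal w * transvection i j (-x)
    have h1 : diagonal v * transvection i j x * diagonal w = transvection i j ((l : R) * x) := by
      ext r s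
      simp only [mul_diagonal, diagonal_mul, transvection, Matrix.add_apply, one_apply, single_apply]
      by_cases hrs : r = s
      · subst hrs
        have : ¬(i = r ∧ j = r) := fun h => hij (h.1.trans h.2.symm)
        simp [this, hvw]
      · by_cases h : i = r ∧ j = s
        · obtain ⟨rfl, rfl⟩ := h
          simp [hij, v, w, hij.symm]
        · simp [hrs, h]
    rw [h1, transvection_mul_transvection_same _ _ hij]
    congr 1
    have : c = x * ((l : R) - 1) := by
      rw [← hw₁]; exact (Units.inv_mul_cancel_right c w₁).symm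
    rw [this]; ring
  rw [this]
  exact Subgroup.commutator_mem_commutator (Subgroup.mem_top _) (Subgroup.mem_top _)

/-- The matrices which are products of transvections. -/
def elem (n : ℕ) (R : Type*) [CommRing R] : Submonoid (Matrix (Fin n) (Fin n) R) :=
  Submonoid.closure (Set.range TransvectionStruct.toMatrix)

variable {R : Type*} [CommRing R] {n : ℕ}

lemma transvection_mem_elem {i j : Fin n} (hij : i ≠ j) (c : R) :
    transvection i j c ∈ elem n R :=
  Submonoid.subset_closure ⟨⟨i, j, hij, c⟩, rfl⟩

lemma exists_inv_of_mem_elem {M : Matrix (Fin n) (Fin n) R} (h : M ∈ elem n R) :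
    ∃ N ∈ elem n R, N * M = 1 ∧ M * N = 1 := by
  induction h using Submonoid.closure_induction with
  | mem x hx =>
    obtain ⟨t, rfl⟩ := hx
    exact ⟨t.inv.toMatrix, Submonoid.subset_closure ⟨_, rfl⟩, t.inv_mul, t.mul_inv⟩
  | one => exact ⟨1, one_mem _, mul_one _, mul_one _⟩
  | mul x y _ _ hx hy =>
    obtain ⟨x', hx', hx1, hx2⟩ := hx
    obtain ⟨y', hy', hy1, hy2⟩ := hy
    refine ⟨y' * x', mul_mem hy' hx', ?_, ?_⟩
    · rw [Matrix.mul_assoc, ← Matrix.mul_assoc x', hx1, Matrix.one_mul, hy1]
    · rw [Matrix.mul_assoc, ← Matrix.mul_assoc y, hy2, Matrix.one_mul, hx2]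

/-- `diag(a, a⁻¹)` in two coordinates is a product of transvections. -/
lemma diagonal_pair_mem_elem {i j : Fin n} (hij : i ≠ j) (a : Rˣ) :
    diagonal (Function.update (Function.update (fun _ => (1 : R)) i (a : R)) j (↑a⁻¹ : R)) ∈
      elem n R := by
  have key : diagonal (Function.update (Function.update (fun _ => (1 : R)) i (a : R)) j (↑a⁻¹ : R)) =
      transvection i j (a : R) * transvection j i (-(↑a⁻¹ : R)) * transvection i j (a : R) *
        (transvection i j (-1) * transvection j i 1 * transvection i j (-1)) := by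
    ext r s
    simp only [transvection, Matrix.mul_add, Matrix.add_mul, Matrix.mul_one, Matrix.one_mul,
      single_mul_single_same, single_mul_single_of_ne, ne_eq, hij, hij.symm, not_false_eq_true, Matrix.add_apply, one_apply, single_apply, diagonal_apply,
      Matrix.zero_apply, zero_mul]
    by_cases h1 : r = i <;> by_cases h2 : r = j <;> by_cases h3 : s = i <;> by_cases h4 : s = j <;>
      simp_all [eq_comm]
  rw [key]
  have h1 := fun c : R => transvection_mem_elem hij c
  have h2 := fun c : R => transvection_mem_elem hij.symm c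
  exact mul_mem (mul_mem (mul_mem (h1 _) (h2 _)) (h1 _)) (mul_mem (mul_mem (h1 _) (h2 _)) (h1 _))

/-- A diagonal matrix of determinant one is a product of transvections. -/
lemma diagonal_mem_elem : ∀ (s : Finset (Fin n)) (t : Fin n → Rˣ),
    (∀ i ∉ s, t i = 1) → ∏ i, t i = 1 → diagonal (fun i => (t i : R)) ∈ elem n R := by
  intro s
  induction s using Finset.induction with
  | empty =>
    intro t ht _
    have : (fun i => (t i : R)) = fun _ => 1 := funext fun i => by simp [ht i]
    rw [this, diagonal_one]; exact one_mem _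
  | insert i s his ih =>
    intro t ht hp
    by_cases hs : s = ∅
    · refine ih t (fun j _ => ?_) hp
      rcases eq_or_ne j i with rfl | h
      · rw [← hp, Finset.prod_eq_single j (fun b _ hb => ht b (by simp [hs, hb])) (by simp)]
      · exact ht j (by simp [hs, h])
    · obtain ⟨j, hj⟩ := Finset.nonempty_iff_ne_empty.2 hs
      have hij : i ≠ j := fun h => his (h ▸ hj)
      let t' : Fin n → Rˣ := Function.update (Function.update t i 1) j (t i * t j)
      have hp' : ∏ k, t' k = 1 := by
        have hsplit : ∀ f : Fin n → Rˣ, ∏ k, f k = f i * (f j * ∏ k ∈ (Finset.univ.erase i).erase j, f k) :=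
          fun f => by
            rw [← Finset.mul_prod_erase _ _ (Finset.mem_univ i),
              ← Finset.mul_prod_erase (Finset.univ.erase i) f (a := j) (by simp [hij.symm])]
        rw [← hp, hsplit, hsplit t]
        have : ∏ k ∈ (Finset.univ.erase i).erase j, t' k = ∏ k ∈ (Finset.univ.erase i).erase j, t k :=
          Finset.prod_congr rfl fun k hk => by
            simp only [Finset.mem_erase] at hk
            simp [t', hk.1, hk.2.1]
        rw [this]
        simp [t', hij, hij.symm, mul_assoc]
      have key : (diagonal fun k => (t k : R)) =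
          diagonal (Function.update (Function.update (fun _ => (1 : R)) i (t i : R)) j (↑(t i)⁻¹ : R)) *
            diagonal (fun k => (t' k : R)) := by
        rw [diagonal_mul_diagonal]
        congr 1
        funext k
        rcases eq_or_ne k j with rfl | h1
        · simp [t', ← mul_assoc]
        · rcases eq_or_ne k i with rfl | h2
          · simp [t', h1]
          · simp [t', h1, h2]
      rw [key]
      refine mul_mem (diagonal_pair_mem_elem hij _) (ih t' (fun k hk => ?_) hp')
      have hkj : k ≠ j := fun h => hk (h ▸ hj)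
      rcases eq_or_ne k i with rfl | h
      · simp [t', hkj]
      · simp [t', hkj, h, ht k (by simp [hk, h])]

lemma det_of_mem_elem {M : Matrix (Fin n) (Fin n) R} (h : M ∈ elem n R) : M.det = 1 := by
  induction h using Submonoid.closure_induction with
  | mem x hx => obtain ⟨t, rfl⟩ := hx; exact t.det
  | one => exact det_one
  | mul x y _ _ hx hy => rw [det_mul, hx, hy, one_mul]

variable [IsLocalRing R]

/-- Clearing off-diagonal entries of a matrix congruent to an invertible diagonal one. -/
lemma exists_elem_mul_eq_diagonal (S : Finset (Fin n)) :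
    ∀ M : Matrix (Fin n) (Fin n) R, (∀ i, IsUnit (M i i)) →
      (∀ i j, i ≠ j → M i j ∈ IsLocalRing.maximalIdeal R) →
      ∃ E ∈ elem n R, (∀ i, IsUnit ((E * M) i i)) ∧
        (∀ i j, i ≠ j → (E * M) i j ∈ IsLocalRing.maximalIdeal R) ∧
        (∀ i, ∀ j ∈ S, i ≠ j → (E * M) i j = 0) := by
  induction S using Finset.induction with
  | empty => exact fun M h1 h2 => ⟨1, one_mem _, by simpa using h1, by simpa using h2, by simp⟩
  | insert k S hk ih =>
    intro M h1 h2
    obtain ⟨E, hE, g1, g2, g3⟩ := ih M h1 h2
    set M' := E * M with hM'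
    obtain ⟨w, hw⟩ := g1 k
    let c : Fin n → R := fun r => if r = k then 0 else - (M' r k) * ↑w⁻¹
    have hc : ∀ T : Finset (Fin n),
        (1 + ∑ r ∈ T, single r k (c r)) ∈ elem n R := by
      intro T
      induction T using Finset.induction with
      | empty => simpa using one_mem _
      | insert r T hr iT =>
        rcases eq_or_ne r k with rfl | hrk
        · rw [Finset.sum_insert hr, show c r = 0 from if_pos rfl, single_zero, zero_add]; exact iT
        · have : (1 + ∑ x ∈ insert r T, single x k (c x)) =
              (1 + ∑ x ∈ T, single x k (c x)) * transvection r k (c r) := by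
            rw [Finset.sum_insert hr, transvection, Matrix.mul_add, Matrix.mul_one, Matrix.add_mul,
              Matrix.one_mul, Finset.sum_mul, Finset.sum_eq_zero (fun x _ =>
                single_mul_single_of_ne (c := c x) (h := hrk.symm) ..), add_zero]
            abel
          rw [this]; exact mul_mem iT (transvection_mem_elem hrk _)
    set F : Matrix (Fin n) (Fin n) R := 1 + ∑ r, single r k (c r) with hF
    have hFM : ∀ r s, (F * M') r s = M' r s + c r * M' k s := fun r s => by
      rw [hF, Matrix.add_mul, Matrix.one_mul, Finset.sum_mul, Matrix.add_apply, Matrix.sum_apply,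
        Finset.sum_eq_single r (fun b _ hb => by simp [hb.symm]) (by simp)]
      simp
    have hcm : ∀ r, c r ∈ IsLocalRing.maximalIdeal R := fun r => by
      rcases eq_or_ne r k with rfl | hrk
      · rw [show c r = 0 from if_pos rfl]; exact Submodule.zero_mem _
      · rw [show c r = _ from if_neg hrk]
        exact Ideal.mul_mem_right _ _ (neg_mem (g2 r k hrk))
    refine ⟨F * E, mul_mem (hc _) hE, fun i => ?_, fun i j hij => ?_, fun i j hj hij => ?_⟩
    · rw [Matrix.mul_assoc, ← hM', hFM]
      refine IsLocalRing.notMem_maximalIdeal.1 fun h => IsLocalRing.notMem_maximalIdeal.2 (g1 i) ?_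
      simpa using sub_mem h (Ideal.mul_mem_right (M' k i) _ (hcm i))
    · rw [Matrix.mul_assoc, ← hM', hFM]
      exact add_mem (g2 i j hij) (Ideal.mul_mem_right _ _ (hcm i))
    · rw [Matrix.mul_assoc, ← hM', hFM]
      rcases Finset.mem_insert.1 hj with rfl | hj
      · rw [show c i = _ from if_neg hij, ← hw, mul_assoc, Units.inv_mul]; ring
      · rw [g3 i j hj hij]
        rcases eq_or_ne k j with rfl | hkj
        · exact absurd hj hk
        · rw [g3 k j hj hkj, mul_zero, add_zero]

/-- Over a local ring, matrices of determinant one are products of transvections. -/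
lemma mem_elem_of_det_eq_one (M : Matrix (Fin n) (Fin n) R) (hM : M.det = 1) : M ∈ elem n R := by
  set π := IsLocalRing.residue R
  obtain ⟨L, L', D, hD⟩ := Pivot.exists_list_transvec_mul_mul_list_transvec_eq_diagonal (M.map π)
  have hlift : ∀ L : List (TransvectionStruct (Fin n) (IsLocalRing.ResidueField R)),
      ∃ P ∈ elem n R, P.map π = (L.map TransvectionStruct.toMatrix).prod ∧ P.det = 1 := by
    intro L
    induction L with
    | nil => exact ⟨1, one_mem _, by simp [Matrix.map_one], det_one⟩
    | cons t L ih =>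
      obtain ⟨P, hP, hP', hPd⟩ := ih
      obtain ⟨c, hc⟩ := IsLocalRing.residue_surjective (R := R) t.c
      refine ⟨transvection t.i t.j c * P, mul_mem (transvection_mem_elem t.hij c) hP, ?_, ?_⟩
      · rw [Matrix.map_mul, hP', List.map_cons, List.prod_cons]
        congr 1
        ext r s
        simp [TransvectionStruct.toMatrix, transvection, one_apply, single_apply, apply_ite π, hc, π]
      · rw [det_mul, hPd, det_transvection_of_ne _ _ t.hij, mul_one]
  obtain ⟨P, hP, hP', hPd⟩ := hlift L
  obtain ⟨Q, hQ, hQ', hQd⟩ := hlift L'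
  set M₁ := P * M * Q with hM₁
  have hM₁π : M₁.map π = diagonal D := by rw [hM₁, Matrix.map_mul, Matrix.map_mul, hP', hQ', hD]
  have hdetD : ∏ i, D i = 1 := by
    rw [← det_diagonal, ← hM₁π, ← RingHom.mapMatrix_apply, ← RingHom.map_det, hM₁, det_mul, det_mul,
      hPd, hM, hQd, one_mul, one_mul, map_one]
  have h1 : ∀ i, IsUnit (M₁ i i) := fun i => by
    refine (isUnit_map_iff π _).1 ?_
    rw [show π (M₁ i i) = D i by simpa using congr_fun₂ hM₁π i i]
    exact isUnit_of_dvd_one (hdetD ▸ Finset.dvd_prod_of_mem D (Finset.mem_univ i))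
  have h2 : ∀ i j, i ≠ j → M₁ i j ∈ IsLocalRing.maximalIdeal R := fun i j hij => by
    refine (IsLocalRing.residue_eq_zero_iff _).1 ?_
    change π (M₁ i j) = 0
    have h := congr_fun₂ hM₁π i j
    rwa [Matrix.map_apply, diagonal_apply_ne _ hij] at h
  obtain ⟨E, hE, g1, -, g3⟩ := exists_elem_mul_eq_diagonal Finset.univ M₁ h1 h2
  choose t ht using g1
  have hdiag : E * M₁ = diagonal (fun i => (t i : R)) := by
    ext i j
    rcases eq_or_ne i j with rfl | hij
    · simp [ht]
    · rw [diagonal_apply_ne _ hij, g3 i j (Finset.mem_univ j) hij]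
  have hEd : E.det = 1 := det_of_mem_elem hE
  have htp : ∏ i, t i = 1 := Units.ext (by
    rw [Units.coe_prod, ← det_diagonal, ← hdiag, hM₁, det_mul, det_mul, det_mul, hEd, hPd, hM, hQd]
    simp)
  have hmem : E * M₁ ∈ elem n R := hdiag ▸ diagonal_mem_elem Finset.univ t (by simp) htp
  obtain ⟨E', hE', hE'1, -⟩ := exists_inv_of_mem_elem hE
  obtain ⟨P', hP'm, hP'1, -⟩ := exists_inv_of_mem_elem hP
  obtain ⟨Q', hQ'm, -, hQ'1⟩ := exists_inv_of_mem_elem hQ
  have : M = P' * (E' * (E * M₁)) * Q' := by
    rw [← Matrix.mul_assoc E', hE'1, Matrix.one_mul, hM₁, ← Matrix.mul_assoc P', ← Matrix.mul_assoc P',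
      hP'1, Matrix.one_mul, Matrix.mul_assoc M, hQ'1, Matrix.mul_one]
  rw [this]
  exact mul_mem (mul_mem hP'm (mul_mem hE' hmem)) hQ'm

/-- A product of transvections is in the commutator subgroup. -/
lemma mem_commutator_of_mem_elem {T : Type*} [CommRing T] {u : T} (hu : IsUnit u)
    (hu1 : IsUnit (u - 1)) {M : Matrix (Fin n) (Fin n) T} (hM : M ∈ elem n T) (U : GL (Fin n) T)
    (hU : (U : Matrix (Fin n) (Fin n) T) = M) : U ∈ commutator (GL (Fin n) T) := by
  induction hM using Submonoid.closure_induction generalizing U with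
  | mem x hx =>
    obtain ⟨t, rfl⟩ := hx
    exact transvection_mem_commutator hu hu1 t.hij t.c U hU
  | one => rw [show U = 1 from Units.ext hU]; exact one_mem _
  | mul x y hx hy ihx ihy =>
    obtain ⟨x', -, hx1, hx2⟩ := exists_inv_of_mem_elem hx
    obtain ⟨y', -, hy1, hy2⟩ := exists_inv_of_mem_elem hy
    rw [show U = ⟨x, x', hx2, hx1⟩ * ⟨y, y', hy2, hy1⟩ from Units.ext hU]
    exact mul_mem (ihx _ rfl) (ihy _ rfl)

end aux

section spread

open Matrix

variable {B : Type u} [CommRing B] {n : ℕ} (q : Ideal B) [q.IsPrime]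

/-- A product of transvections over a local ring spreads out. -/
lemma exists_spread (M : Matrix (Fin n) (Fin n) (Localization.AtPrime q))
    (hM : M ∈ elem n (Localization.AtPrime q)) :
    ∃ d ∈ q.primeCompl, ∀ (T : Type u) [CommRing T] [Algebra B T], IsUnit (algebraMap B T d) →
      ∀ ψ : B →+* Localization.AtPrime q, ψ = algebraMap _ _ →
      ∃ M' ∈ elem n T, ∀ i j, ∃ (a : B) (e : B), e ∈ Submonoid.powers d ∧
        M' i j * algebraMap B T e = algebraMap B T a ∧ M i j * ψ e = ψ a := by
  induction hM using Submonoid.closure_induction with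
  | mem x hx =>
    obtain ⟨⟨i, j, hij, c⟩, rfl⟩ := hx
    obtain ⟨⟨b, d⟩, hbd⟩ := IsLocalization.surj q.primeCompl c
    refine ⟨d, d.2, fun T _ _ hd ψ hψ => ⟨transvection i j (algebraMap B T b * ↑hd.unit⁻¹),
      transvection_mem_elem hij _, fun r s => ?_⟩⟩
    subst hψ
    simp only [TransvectionStruct.toMatrix, transvection, Matrix.add_apply, one_apply, single_apply]
    refine ⟨(if r = s then (d : B) else 0) + (if i = r ∧ j = s then b else 0), d,
      Submonoid.mem_powers _, ?_, ?_⟩
    · rw [map_add, add_mul]; split_ifs <;> simp [mul_assoc]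
    · rw [map_add, add_mul]; split_ifs <;> simp [hbd]
  | one =>
    refine ⟨1, q.primeCompl.one_mem, fun T _ _ _ ψ _ => ⟨1, one_mem _, fun r s =>
      ⟨if r = s then 1 else 0, 1, Submonoid.one_mem _, ?_, ?_⟩⟩⟩ <;> split_ifs with h <;> simp [h, Matrix.one_apply]
  | mul x y _ _ ihx ihy =>
    obtain ⟨d₁, hd₁, h₁⟩ := ihx
    obtain ⟨d₂, hd₂, h₂⟩ := ihy
    refine ⟨d₁ * d₂, mul_mem hd₁ hd₂, fun T _ _ hd ψ hψ => ?_⟩
    rw [map_mul] at hd
    obtain ⟨X, hX, hXe⟩ := h₁ T (isUnit_of_mul_isUnit_left hd) ψ hψ
    obtain ⟨Y, hY, hYe⟩ := h₂ T (isUnit_of_mul_isUnit_right hd) ψ hψ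
    refine ⟨X * Y, mul_mem hX hY, fun r s => ?_⟩
    have hpow : ∀ e, e ∈ Submonoid.powers d₁ ∨ e ∈ Submonoid.powers d₂ →
        ∃ e', e * e' ∈ Submonoid.powers (d₁ * d₂) := by
      rintro e (⟨k, rfl⟩ | ⟨k, rfl⟩)
      · exact ⟨d₂ ^ k, k, by simp only [mul_pow]⟩
      · exact ⟨d₁ ^ k, k, by simp only [mul_pow]; ring⟩
    have hsum : ∀ S : Finset (Fin n), ∃ a e, e ∈ Submonoid.powers (d₁ * d₂) ∧
        (∑ k ∈ S, X r k * Y k s) * algebraMap B T e = algebraMap B T a ∧
        (∑ k ∈ S, x r k * y k s) * ψ e = ψ a := by
      intro S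
      induction S using Finset.induction with
      | empty => exact ⟨0, 1, Submonoid.one_mem _, by simp, by simp⟩
      | insert k S hk ih =>
        obtain ⟨a, e, he, ha, ha'⟩ := ih
        obtain ⟨a₁, e₁, he₁, p₁, p₁'⟩ := hXe r k
        obtain ⟨a₂, e₂, he₂, p₂, p₂'⟩ := hYe k s
        obtain ⟨f₁, hf₁⟩ := hpow e₁ (.inl he₁)
        obtain ⟨f₂, hf₂⟩ := hpow e₂ (.inr he₂)
        refine ⟨a₁ * f₁ * (a₂ * f₂) * e + a * (e₁ * f₁) * (e₂ * f₂), e₁ * f₁ * (e₂ * f₂) * e,
          mul_mem (mul_mem hf₁ hf₂) he, ?_, ?_⟩
        · simp only [Finset.sum_insert hk, map_mul, map_add]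
          rw [← p₁, ← p₂, ← ha]; ring
        · simp only [Finset.sum_insert hk, map_mul, map_add]
          rw [← p₁', ← p₂', ← ha']; ring
    simpa only [Matrix.mul_apply] using hsum Finset.univ

end spread

open Polynomial in
lemma exists_etale_units (A : Type u) [CommRing A] (p : PrimeSpectrum A) :
    ∃ (B : Type u) (_ : CommRing B) (_ : Algebra A B), Algebra.Etale A B ∧
      ∃ q : PrimeSpectrum B, q.asIdeal.comap (algebraMap A B) = p.asIdeal ∧
      ∃ u : B, IsUnit u ∧ IsUnit (u - 1) := by
  let K := AlgebraicClosure p.asIdeal.ResidueField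
  have hker : RingHom.ker (algebraMap A K) = p.asIdeal := by
    rw [IsScalarTower.algebraMap_eq A p.asIdeal.ResidueField K,
      RingHom.ker_comp_of_injective _ (algebraMap p.asIdeal.ResidueField K).injective,
      Ideal.ker_algebraMap_residueField]
  suffices ∃ (P : StandardEtalePair A) (x : K), P.HasMap x ∧ IsUnit P.X ∧ IsUnit (P.X - 1) by
    obtain ⟨P, x, hx, h1, h2⟩ := this
    refine ⟨P.Ring, inferInstance, inferInstance, inferInstance,
      ⟨⟨RingHom.ker (P.lift x hx).toRingHom, RingHom.ker_isPrime _⟩, ?_, P.X, h1, h2⟩⟩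
    change (RingHom.ker _).comap _ = _
    rw [RingHom.comap_ker, show (P.lift x hx).toRingHom.comp (algebraMap A P.Ring) = algebraMap A K
      from (P.lift x hx).comp_algebraMap, hker]
  by_cases h2 : (2 : K) = 0
  · have h3 : (3 : K) ≠ 0 := fun h3 => one_ne_zero (α := K) (by linear_combination h3 - h2)
    let P : StandardEtalePair A :=
      { f := X ^ 2 + X + 1, monic_f := by monicity!, g := C 3
        cond := ⟨-(2 * X + 1), 4, 1, by
          simp only [derivative_add, derivative_X_pow, derivative_X, derivative_one, map_ofNat,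
            Nat.cast_ofNat]
          ring⟩ }
    obtain ⟨x, hx⟩ := IsAlgClosed.exists_root (k := K) (X ^ 2 + X + 1 : K[X]) (by
      rw [show (X ^ 2 + X + 1 : K[X]).degree = 2 by compute_degree!]; decide)
    have hPf : P.f = X ^ 2 + X + 1 := rfl
    have hPg : P.g = C 3 := rfl
    clear_value P
    refine ⟨P, x, ⟨by simpa [hPf] using hx,
      isUnit_iff_ne_zero.2 (by simpa [hPg, map_ofNat] using h3)⟩, ?_, ?_⟩
    · have hf := P.hasMap_X.1
      rw [hPf] at hf
      simp at hf
      exact IsUnit.of_mul_eq_one (-P.X - 1) (by linear_combination -hf)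
    · have hf := P.hasMap_X.1
      have h3' := P.hasMap_X.2
      rw [hPf] at hf
      rw [hPg] at h3'
      simp [map_ofNat] at hf h3'
      exact isUnit_of_dvd_unit ⟨-(P.X + 2), by linear_combination hf⟩ h3'
  · let P : StandardEtalePair A :=
      { f := X + 1, monic_f := by monicity!, g := C 2, cond := ⟨C 2, 0, 1, by simp⟩ }
    have hPf : P.f = X + 1 := rfl
    have hPg : P.g = C 2 := rfl
    clear_value P
    refine ⟨P, -1, ⟨by simp [hPf], isUnit_iff_ne_zero.2 (by simpa [hPg, map_ofNat] using h2)⟩, ?_, ?_⟩
    · have hf := P.hasMap_X.1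
      rw [hPf] at hf
      simp at hf
      exact IsUnit.of_mul_eq_one (-1) (by linear_combination -hf)
    · have hf := P.hasMap_X.1
      have h2' := P.hasMap_X.2
      rw [hPf] at hf
      rw [hPg] at h2'
      simp [map_ofNat] at hf h2'
      exact isUnit_of_dvd_unit ⟨-1, by linear_combination hf⟩ h2'

/-- On the big étale site of a scheme the sheaf of commutator subgroups of Gl(n) is Sl(n) = Ker(det).
Concretely: let A be a commutative ring, n ≥ 0, s ∈ SL_n(A) and p a prime ideal of A. Then there are
an étale A-algebra A' with a prime ideal lying over p such that the image of s in GL_n(A') lies in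
the commutator subgroup of GL_n(A'). (The inclusion of commutators in SL_n being clear, this is the
content of the statement.) -/
theorem result (A : Type u) [CommRing A] (n : ℕ)
    (s : Matrix.SpecialLinearGroup (Fin n) A) (p : PrimeSpectrum A) :
    ∃ (A' : Type u) (_ : CommRing A') (_ : Algebra A A'), Algebra.Etale A A' ∧
      (∃ q : PrimeSpectrum A', q.asIdeal.comap (algebraMap A A') = p.asIdeal) ∧
      (Matrix.GeneralLinearGroup.map (algebraMap A A')) (Matrix.SpecialLinearGroup.toGL s) ∈
        commutator (Matrix.GeneralLinearGroup (Fin n) A') := by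
  obtain ⟨B, _, _, hB, q, hq, u, hu, hu1⟩ := exists_etale_units A p
  set φ := algebraMap A B
  let sB : Matrix (Fin n) (Fin n) B := (s : Matrix (Fin n) (Fin n) A).map φ
  let L := Localization.AtPrime q.asIdeal
  have hdet : (sB.map (algebraMap B L)).det = 1 := by
    simp only [sB, ← RingHom.mapMatrix_apply, ← RingHom.map_det, s.prop, map_one]
  obtain ⟨d, hd, hspread⟩ := exists_spread q.asIdeal _ (mem_elem_of_det_eq_one _ hdet)
  obtain ⟨M₀, hM₀, hM₀e⟩ := hspread (Localization.Away d) (IsLocalization.Away.algebraMap_isUnit d)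
    (algebraMap B L) rfl
  -- a single element killing the finitely many differences
  have hkill : ∀ i j, ∃ h ∈ q.asIdeal.primeCompl, ∀ (T : Type u) [CommRing T] [Algebra B T]
      (ψ : Localization.Away d →ₐ[B] T), IsUnit (algebraMap B T h) →
        ψ (M₀ i j) = algebraMap B T (sB i j) := by
    intro i j
    obtain ⟨a, e, he, h1, h2⟩ := hM₀e i j
    rw [Matrix.map_apply, ← map_mul] at h2
    obtain ⟨⟨c, hc⟩, hce⟩ := (IsLocalization.eq_iff_exists q.asIdeal.primeCompl L).1 h2
    refine ⟨c, hc, fun T _ _ ψ hT => ?_⟩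
    have he' : IsUnit (algebraMap B T e) := by
      obtain ⟨m, rfl⟩ := he
      rw [← ψ.commutes]
      refine IsUnit.map ψ ?_
      change IsUnit (algebraMap B (Localization.Away d) (d ^ m))
      rw [map_pow]
      exact (IsLocalization.Away.algebraMap_isUnit d).pow m
    have h1' := congrArg ψ h1
    rw [map_mul, ψ.commutes, ψ.commutes] at h1'
    have h3 := congrArg (algebraMap B T) hce
    rw [map_mul, map_mul, map_mul] at h3
    exact he'.mul_left_injective (h1'.trans (hT.mul_left_cancel h3).symm)
  choose h hh hψ using hkill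
  set g := d * ∏ i, ∏ j, h i j with hg
  have hgq : g ∈ q.asIdeal.primeCompl :=
    mul_mem hd (prod_mem fun i _ => prod_mem fun j _ => hh i j)
  let A' := Localization.Away g
  have hgu : IsUnit (algebraMap B A' g) := IsLocalization.Away.algebraMap_isUnit g
  have hdu : IsUnit (algebraMap B A' d) := by
    exact isUnit_of_dvd_unit (map_dvd (algebraMap B A') (Dvd.intro _ rfl)) hgu
  have hhu : ∀ i j, IsUnit (algebraMap B A' (h i j)) := fun i j => by
    refine isUnit_of_dvd_unit (map_dvd (algebraMap B A') ?_) hgu
    exact dvd_mul_of_dvd_right ((Finset.dvd_prod_of_mem _ (Finset.mem_univ j)).trans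
      (Finset.dvd_prod_of_mem (fun i => ∏ j, h i j) (Finset.mem_univ i))) _
  let ψ₀ : Localization.Away d →ₐ[B] A' :=
    { toRingHom := IsLocalization.Away.lift d hdu
      commutes' := fun b => IsLocalization.Away.lift_eq d hdu b }
  have : Algebra.Etale B A' := Algebra.Etale.of_isLocalizationAway g
  refine ⟨A', inferInstance, inferInstance, Algebra.Etale.comp A B A', ?_, ?_⟩
  · obtain ⟨q', hq'⟩ : q ∈ Set.range (PrimeSpectrum.comap (algebraMap B A')) := by
      rw [PrimeSpectrum.localization_away_comap_range A' g]; exact hgq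
    refine ⟨q', ?_⟩
    rw [IsScalarTower.algebraMap_eq A B A', ← Ideal.comap_comap,
      show q'.asIdeal.comap (algebraMap B A') = q.asIdeal from congrArg PrimeSpectrum.asIdeal hq', hq]
  · have hel : M₀.map ψ₀ ∈ elem n A' := by
      clear_value ψ₀
      clear hM₀e hψ hspread
      induction hM₀ using Submonoid.closure_induction with
      | mem x hx =>
        obtain ⟨t, rfl⟩ := hx
        convert transvection_mem_elem (R := A') t.hij (ψ₀ t.c) using 1
        ext r c
        simp [Matrix.TransvectionStruct.toMatrix, Matrix.transvection, Matrix.one_apply,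
          Matrix.single_apply, apply_ite ψ₀]
      | one => rw [Matrix.map_one _ (map_zero _) (map_one _)]; exact one_mem _
      | mul x y _ _ hx hy => rw [Matrix.map_mul]; exact mul_mem hx hy
    refine mem_commutator_of_mem_elem (u := algebraMap B A' u) (hu.map _)
      (by simpa using hu1.map (algebraMap B A')) hel _ ?_
    ext i j
    show algebraMap A A' (s i j) = ψ₀ (M₀ i j)
    rw [hψ i j A' ψ₀ (hhu i j), IsScalarTower.algebraMap_apply A B A']
    rfl

end Groth.Agent.S5658
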