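import Groth.Statements.S0545
import Mathlib

set_option autoImplicit false
universe u
open CAlg

namespace Groth.Agent.S0545

/-- For a Noetherian ring `A` with two ideals `I` and `J`, completeness of `A` along `I` together with
completeness of the quotient `A/I` along the image of `J` forces completeness of `A` along `J`. -/
theorem result (A : Type u) [CommRing A] [IsNoetherianRing A]
    (I J : Ideal A) [IsAdicComplete I A]
    [IsAdicComplete (Ideal.map (Ideal.Quotient.mk I) J) (A ⧸ I)] : IsAdicComplete J A := by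
  classical
  have hIjac := IsAdicComplete.le_jacobson_bot (I := I)
  have hKbar := IsAdicComplete.le_jacobson_bot (I := Ideal.map (Ideal.Quotient.mk I) J)
  have hJjac : J ≤ (⊥ : Ideal A).jacobson := by
    intro x hx
    have h1 := hKbar (Ideal.mem_map_of_mem (Ideal.Quotient.mk I) hx)
    rw [Ideal.mem_jacobson_bot] at h1 ⊢
    intro y
    obtain ⟨v, hv⟩ := IsUnit.exists_right_inv (h1 (Ideal.Quotient.mk I y))
    obtain ⟨v, rfl⟩ := Ideal.Quotient.mk_surjective v
    rw [← map_one (Ideal.Quotient.mk I), ← map_mul, ← map_add, ← map_mul, Ideal.Quotient.eq] at hv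
    have h2 := Ideal.mem_jacobson_bot.1 (hIjac hv) 1
    rw [mul_one, sub_add_cancel] at h2
    exact isUnit_of_mul_isUnit_left h2
  have krull : ∀ (a b : Ideal A), b ≤ (⊥ : Ideal A).jacobson → ∀ x,
      (∀ k : ℕ, x ∈ a ⊔ b ^ k) → x ∈ a := by
    intro a b hb x hx
    have : (Submodule.Quotient.mk x : A ⧸ a) ∈ (⨅ k : ℕ, b ^ k • ⊤ : Submodule A (A ⧸ a)) := by
      rw [Submodule.mem_iInf]
      intro k
      obtain ⟨p, hp, q, hq, rfl⟩ := Submodule.mem_sup.1 (hx k)
      rw [Submodule.Quotient.mk_add, (Submodule.Quotient.mk_eq_zero a).2 hp, zero_add]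
      have : (Submodule.Quotient.mk q : A ⧸ a) = q • (Submodule.Quotient.mk (1 : A)) := by
        rw [← Submodule.Quotient.mk_smul, smul_eq_mul, mul_one]
      rw [this]
      exact Submodule.smul_mem_smul hq trivial
    rw [Ideal.iInf_pow_smul_eq_bot_of_le_jacobson b hb, Submodule.mem_bot,
      Submodule.Quotient.mk_eq_zero] at this
    exact this
  have mkmem : ∀ (z : A) (n : ℕ), z ∈ J ^ n ⊔ I ↔
      Ideal.Quotient.mk I z ∈ Ideal.map (Ideal.Quotient.mk I) J ^ n := by
    intro z n
    rw [← Ideal.map_pow, Ideal.mem_quotient_iff_mem_sup]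
  have limI : ∀ y : ℕ → A, (∀ n, y n - y (n + 1) ∈ J ^ n) → ∃ Y, ∀ n, y n - Y ∈ J ^ n ⊔ I := by
    intro y hy
    have hc : ∀ {m n}, m ≤ n → y m - y n ∈ J ^ m := by
      intro m n h
      induction n, h using Nat.le_induction with
      | base => simp
      | succ n hmn ih =>
        have := Ideal.add_mem _ ih (Ideal.pow_le_pow_right hmn (hy n))
        simpa using this
    obtain ⟨Y, hY⟩ := IsPrecomplete.prec (I := Ideal.map (Ideal.Quotient.mk I) J)
      (M := A ⧸ I) inferInstance (f := fun n => Ideal.Quotient.mk I (y n)) (fun {m n} h => by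
        rw [SModEq.sub_mem, smul_eq_mul, Ideal.mul_top, ← map_sub, ← mkmem]
        exact Ideal.mem_sup_left (hc h))
    obtain ⟨Y, rfl⟩ := Ideal.Quotient.mk_surjective Y
    refine ⟨Y, fun n => ?_⟩
    have := hY n
    rwa [SModEq.sub_mem, smul_eq_mul, Ideal.mul_top, ← map_sub, ← mkmem] at this
  have step : ∀ k : ℕ, ∀ f : ℕ → A, (∀ m n, m ≤ n → f m - f n ∈ J ^ m) →
      ∃ L, ∀ n, f n - L ∈ J ^ n ⊔ I ^ k := by
    intro k
    induction k with
    | zero => exact fun f _ => ⟨0, fun n => by simp⟩
    | succ k ih =>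
      intro f hf
      obtain ⟨L, hL⟩ := ih f hf
      obtain ⟨c, hc⟩ := Ideal.exists_pow_inf_eq_pow_smul J (I ^ k : Ideal A)
      simp only [Submodule.mem_sup] at hL
      choose j hj i hi hji using hL
      have hdiff : ∀ n, ∃ d ∈ J ^ n * I ^ k, i (n + c) - i (n + 1 + c) - d ∈ (⊥ : Ideal A) := by
        intro n
        refine ⟨_, ?_, (Submodule.mem_bot A).2 (sub_self _)⟩
        have h1 : i (n + c) - i (n + 1 + c) ∈ J ^ (n + c) • (⊤ : Ideal A) ⊓ I ^ k := by
          refine ⟨?_, Ideal.sub_mem _ (hi _) (hi _)⟩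
          rw [smul_eq_mul, Ideal.mul_top]
          have h2 : i (n + c) - i (n + 1 + c) =
              (f (n + c) - f (n + 1 + c)) - j (n + c) + j (n + 1 + c) := by
            linear_combination hji (n + c) - hji (n + 1 + c)
          rw [h2]
          exact Ideal.add_mem _ (Ideal.sub_mem _ (hf _ _ (by omega)) (hj _))
            (Ideal.pow_le_pow_right (by omega) (hj _))
        rw [hc (n + c) (by omega), Nat.add_sub_cancel] at h1
        exact Submodule.smul_mono le_rfl inf_le_right h1
      choose d hd hd' using hdiff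
      obtain ⟨r, a, ha⟩ := Submodule.fg_iff_exists_fin_generating_family.1
        (IsNoetherian.noetherian (I ^ k : Ideal A))
      have hcoef : ∀ n, ∃ δ : Fin r → A, (∀ s, δ s ∈ J ^ n) ∧ ∑ s, δ s * a s = d n := by
        intro n
        have := hd n
        rw [← smul_eq_mul, ← ha] at this
        obtain ⟨δ, hδ, hsum⟩ :=
          (Submodule.mem_ideal_smul_span_iff_exists_sum _ a _).1 this
        exact ⟨δ, hδ, by rw [← hsum, Finsupp.sum_fintype _ _ (by simp)]; rfl⟩
      choose δ hδ hδsum using hcoef
      choose Y hY using fun s => limI (fun n => ∑ l ∈ Finset.range n, δ l s) (fun n => by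
        rw [Finset.sum_range_succ]
        simpa using hδ n s)
      refine ⟨L + (i c - ∑ s, Y s * a s), fun n => ?_⟩
      have htel : i (n + c) = i c - ∑ s, (∑ l ∈ Finset.range n, δ l s) * a s := by
        induction n with
        | zero => simp
        | succ n ihn =>
          have e := sub_eq_zero.1 ((Submodule.mem_bot A).1 (hd' n))
          simp only [Finset.sum_range_succ, add_mul, Finset.sum_add_distrib, hδsum]
          linear_combination ihn - e
      have hfn : f n - (L + (i c - ∑ s, Y s * a s)) =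
          (f n - f (n + c)) + j (n + c) - ∑ s, ((∑ l ∈ Finset.range n, δ l s) - Y s) * a s := by
        simp only [sub_mul, Finset.sum_sub_distrib]
        linear_combination htel - hji (n + c)
      rw [hfn]
      refine Ideal.sub_mem _ (Ideal.mem_sup_left (Ideal.add_mem _ (hf _ _ (by omega))
        (Ideal.pow_le_pow_right (by omega) (hj _)))) (Ideal.sum_mem _ fun s _ => ?_)
      obtain ⟨p, hp, q, hq, hpq⟩ := Submodule.mem_sup.1 (hY s n)
      rw [← hpq, add_mul]
      refine Ideal.add_mem _ (Ideal.mem_sup_left (Ideal.mul_mem_right _ _ hp))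
        (Ideal.mem_sup_right ?_)
      rw [pow_succ']
      exact Ideal.mul_mem_mul hq (ha ▸ Submodule.subset_span ⟨s, rfl⟩)
  refine { haus' := fun x hx => ?_, prec' := fun f hf => ?_ }
  · refine (Submodule.mem_bot A).1 (krull ⊥ J hJjac x fun k => ?_)
    rw [bot_sup_eq]
    have := hx k
    rwa [SModEq.zero, smul_eq_mul, Ideal.mul_top] at this
  · have hf' : ∀ m n, m ≤ n → f m - f n ∈ J ^ m := fun m n h => by
      have := hf h
      rwa [SModEq.sub_mem, smul_eq_mul, Ideal.mul_top] at this
    choose L hL using fun k => step k f hf'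
    have hLL : ∀ k, L k - L (k + 1) ∈ I ^ k := fun k => krull _ J hJjac _ fun n => by
      have h1 := hL k n
      have h2 : f n - L (k + 1) ∈ J ^ n ⊔ I ^ k :=
        (sup_le_sup_left (α := Ideal A) (Ideal.pow_le_pow_right (Nat.le_succ k)) (J ^ n) :) (hL (k + 1) n)
      rw [sup_comm]
      have := Ideal.sub_mem _ h2 h1
      simpa using this
    have hcauchy : ∀ {m n}, m ≤ n → L m - L n ∈ I ^ m := by
      intro m n h
      induction n, h using Nat.le_induction with
      | base => simp
      | succ n hmn ih =>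
        have := Ideal.add_mem _ ih (Ideal.pow_le_pow_right hmn (hLL n))
        simpa using this
    obtain ⟨L', hL'⟩ := IsPrecomplete.prec (I := I) (M := A) inferInstance (f := L)
      (fun {m n} h => by rw [SModEq.sub_mem, smul_eq_mul, Ideal.mul_top]; exact hcauchy h)
    refine ⟨L', fun n => ?_⟩
    rw [SModEq.sub_mem, smul_eq_mul, Ideal.mul_top]
    refine krull _ I hIjac _ fun k => ?_
    have h3 := hL' k
    rw [SModEq.sub_mem, smul_eq_mul, Ideal.mul_top] at h3
    have := Ideal.add_mem _ (hL k n) (Ideal.mem_sup_right (S := J ^ n) h3)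
    simpa using this

end Groth.Agent.S0545
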