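import Groth.Statements.S14002
import Mathlib
import Groth.Agent.FlatDescent.Local

set_option autoImplicit false
universe u
open CAlg

namespace Groth.Agent.S14002

section Criterion
open TensorProduct

variable {R : Type u} [CommRing R] [IsNoetherianRing R] (I : Ideal R) {S : Type u} [CommRing S] [IsNoetherianRing S]
  [Algebra R S] {M : Type u} [AddCommGroup M] [Module R M] [Module S M] [IsScalarTower R S M] [Module.Finite S M]

theorem flat_of_forall_flat_quotient_pow (hI : I.map (algebraMap R S) ≤ Ideal.jacobson ⊥)
    (hflat : ∀ n, Module.Flat (R ⧸ I ^ n) ((R ⧸ I ^ n) ⊗[R] M)) :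
    Module.Flat R M := by
  rw [Module.Flat.iff_lTensor_injective']
  intro J
  haveI : Module.Finite S (M ⊗[R] J) := by
    obtain ⟨t, ht⟩ := (Module.Finite.fg_top : (⊤ : Submodule R J).FG)
    obtain ⟨s, hs⟩ := (Module.Finite.fg_top : (⊤ : Submodule S M).FG)
    classical
    refine ⟨⟨(s ×ˢ t).image fun p => p.1 ⊗ₜ p.2, top_le_iff.mp fun z hz => ?_⟩⟩
    clear hz
    let G : Submodule S (M ⊗[R] J) := Submodule.span S ((s ×ˢ t).image fun p => p.1 ⊗ₜ[R] p.2)
    show z ∈ G
    induction z with
    | zero => exact zero_mem _
    | add a b ha hb => exact add_mem ha hb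
    | tmul m j =>
      have hm : m ∈ Submodule.span S (s : Set M) := by rw [hs]; trivial
      induction hm using Submodule.span_induction with
      | zero => rw [zero_tmul]; exact zero_mem _
      | add a b _ _ ha hb => rw [add_tmul]; exact add_mem ha hb
      | smul c a _ ha => rw [← smul_tmul']; exact G.smul_mem c ha
      | mem m hm =>
        have hj : j ∈ Submodule.span R (t : Set J) := by rw [ht]; trivial
        induction hj using Submodule.span_induction with
        | zero => rw [tmul_zero]; exact zero_mem _
        | add a b _ _ ha hb => rw [tmul_add]; exact add_mem ha hb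
        | smul c a _ ha => rw [tmul_smul]; exact G.smul_of_tower_mem c ha
        | mem j hj =>
          exact Submodule.subset_span (Finset.mem_coe.mpr (Finset.mem_image.mpr ⟨(m, j), Finset.mem_product.mpr ⟨hm, hj⟩, rfl⟩))
  refine (injective_iff_map_eq_zero _).mpr fun x hx => ?_
  obtain ⟨k, hk⟩ := I.exists_pow_inf_eq_pow_smul (M := R) J
  have key : ∀ n, x ∈ (I.map (algebraMap R S) ^ n • ⊤ : Submodule S (M ⊗[R] J)) := by
    intro n
    haveI : Module.Flat (R ⧸ I ^ (n + k)) ((R ⧸ I ^ (n + k)) ⊗[R] M) :=
      hflat (n + k)
    let φ : J →ₗ[R] R ⧸ I ^ (n + k) := (Submodule.mkQ (I ^ (n + k))).comp J.subtype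
    let L : Submodule (R ⧸ I ^ (n + k)) (R ⧸ I ^ (n + k)) := J.map (Ideal.Quotient.mk (I ^ (n + k)))
    let ψ : J →ₗ[R] L :=
      { toFun := fun j => ⟨φ j, Ideal.mem_map_of_mem _ j.2⟩
        map_add' := fun a b => Subtype.ext (φ.map_add a b)
        map_smul' := fun a b => Subtype.ext (φ.map_smul a b) }
    have hψ : Function.Surjective ψ := fun ⟨l, hl⟩ => by
      obtain ⟨j, hj, rfl⟩ := (Ideal.mem_map_iff_of_surjective _ Ideal.Quotient.mk_surjective).mp hl
      exact ⟨⟨j, hj⟩, Subtype.ext rfl⟩
    have hinj := MLMod.rTensor_injective_of_flat_quotient (M := M) (I ^ (n + k)) L.subtype Subtype.val_injective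
    have hzero : ψ.rTensor M (TensorProduct.comm R M J x) = 0 := by
      refine hinj ?_
      rw [map_zero, ← LinearMap.rTensor_comp_apply]
      have h2 : (L.subtype.restrictScalars R).comp ψ = (Submodule.mkQ (I ^ (n + k))).comp J.subtype := rfl
      rw [h2, LinearMap.rTensor_comp_apply]
      have h3 : J.subtype.rTensor M (TensorProduct.comm R M J x) = TensorProduct.comm R M R (J.subtype.lTensor M x) :=
        (TensorProduct.map_comm J.subtype LinearMap.id x)
      rw [h3, hx, map_zero, map_zero]
    obtain ⟨y, hy⟩ := (rTensor_exact M (LinearMap.exact_subtype_ker_map ψ) hψ _).mp hzero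
    suffices ∀ z : LinearMap.ker ψ ⊗[R] M, (TensorProduct.comm R M J).symm ((LinearMap.ker ψ).subtype.rTensor M z) ∈
        (I.map (algebraMap R S) ^ n • ⊤ : Submodule S (M ⊗[R] J)) by
      have h := this y
      rwa [hy, LinearEquiv.symm_apply_apply] at h
    intro z
    induction z with
    | zero => simp
    | add a b ha hb => rw [map_add, map_add]; exact add_mem ha hb
    | tmul j m =>
      show m ⊗ₜ[R] (j : J) ∈ _
      have hj : ((j : J) : R) ∈ (I ^ (n + k) • ⊤ ⊓ J : Submodule R R) := by
        refine ⟨?_, (j : J).2⟩
        have h0 := congrArg Subtype.val (LinearMap.mem_ker.mp j.2)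
        rw [smul_eq_mul, Ideal.mul_top]
        exact Ideal.Quotient.eq_zero_iff_mem.mp h0
      rw [hk (n + k) le_add_self, Nat.add_sub_cancel] at hj
      have hj' : (j : J) ∈ (I ^ n • ⊤ : Submodule R J) := by
        have h1 : ((j : J) : R) ∈ (I ^ n • ⊤ : Submodule R J).map J.subtype := by
          rw [Submodule.map_smul'', Submodule.map_top, Submodule.range_subtype]
          exact Submodule.smul_mono le_rfl inf_le_right hj
        obtain ⟨j', hj', he⟩ := h1
        rwa [← Subtype.ext he]
      generalize (j : J) = j₀ at hj' ⊢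
      induction hj' using Submodule.smul_induction_on' with
      | smul r hr a _ =>
        rw [tmul_smul, smul_tmul', ← algebraMap_smul S r m, ← smul_tmul']
        refine Submodule.smul_mem_smul ?_ trivial
        rw [← Ideal.map_pow]
        exact Ideal.mem_map_of_mem _ hr
      | add a _ b _ ha hb => rw [tmul_add]; exact add_mem ha hb
  have hbot := Ideal.iInf_pow_smul_eq_bot_of_le_jacobson (M := M ⊗[R] J) _ hI
  rw [← Submodule.mem_bot S, ← hbot, Submodule.mem_iInf]
  exact key

end Criterion

open TensorProduct in
/-- Flatness of an adic morphism of locally Noetherian formal schemes is detected on the truncations.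
Let B → A be a homomorphism of Noetherian rings and J an ideal of B such that A is adically
separated and complete with respect to the extended ideal JA. Then A is a flat B-module if and only
if for every n ≥ 1 the base change (B/Jⁿ) ⊗_B A = A/JⁿA is a flat (B/Jⁿ)-module. The ring B is not
assumed separated or complete for the J-adic topology. (The published statement is about an adic
morphism of locally Noetherian formal schemes, so that both rings are adic there; the criterion
holds without that assumption on B.) -/
theorem result (B A : Type u) [CommRing B] [CommRing A]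
    [IsNoetherianRing B] [IsNoetherianRing A] [Algebra B A] (J : Ideal B)
    [IsAdicComplete (J.map (algebraMap B A)) A] :
    Module.Flat B A ↔ ∀ n : ℕ, 0 < n → Module.Flat (B ⧸ J ^ n) ((B ⧸ J ^ n) ⊗[B] A) := by
  refine ⟨fun _ n _ => inferInstance, fun h => ?_⟩
  refine flat_of_forall_flat_quotient_pow J (S := A) (M := A) (IsAdicComplete.le_jacobson_bot _) fun n => ?_
  rcases Nat.eq_zero_or_pos n with rfl | hn
  · haveI : Subsingleton (B ⧸ J ^ 0) := by
      rw [pow_zero, Ideal.one_eq_top]; exact Ideal.Quotient.subsingleton_iff.mpr rfl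
    haveI : Subsingleton ((B ⧸ J ^ 0) ⊗[B] A) := Module.subsingleton (B ⧸ J ^ 0) _
    haveI : Module.Free (B ⧸ J ^ 0) ((B ⧸ J ^ 0) ⊗[B] A) := Module.Free.of_subsingleton _ _
    infer_instance
  · exact h n hn

end Groth.Agent.S14002
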