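import Groth.Statements.S0733
import Mathlib.CategoryTheory.Comma.Over.Pullback

set_option autoImplicit false
open CategoryTheory CategoryTheory.Limits AlgebraicGeometry Opposite Topology
universe u
open scoped TensorProduct
open ProEtW

namespace Groth.Agent.S0733

open scoped TensorProduct

/-- The algebra structure on the target of an object under `A`, over `A` itself. -/
local instance algebraUnder {A : Type u} [CommRing A] (X : Under (CommRingCat.of A)) :
    Algebra A X.right :=
  X.hom.hom.toAlgebra

/-- If A -> B is ind-etale (a filtered colimit of etale A-algebras) and A -> A' is any ring map, then A'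
-> A' (x)_A B is ind-etale. -/
theorem result (A B A' : Type u) [CommRing A] [CommRing B] [CommRing A']
    [Algebra A B] [Algebra A A'] (h : EtPBC.IsIndEtale A B) :
    EtPBC.IsIndEtale A' (A' ⊗[A] B) := by
  obtain ⟨J, _, _, D, c, hc, hD, ⟨e⟩⟩ := h
  have : (Under.pushout (CommRingCat.ofHom (algebraMap A A'))).IsLeftAdjoint :=
    (Under.mapPushoutAdj _).isLeftAdjoint
  have : PreservesColimitsOfShape J (CommRingCat.tensorProd (CommRingCat.of A) (CommRingCat.of A')) :=
    preservesColimitsOfShape_of_natIso
      (CommRingCat.tensorProdIsoPushout (CommRingCat.of A) (CommRingCat.of A')).symm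
  refine ⟨J, inferInstance, inferInstance,
    D ⋙ CommRingCat.tensorProd (CommRingCat.of A) (CommRingCat.of A'),
    (CommRingCat.tensorProd (CommRingCat.of A) (CommRingCat.of A')).mapCocone c,
    isColimitOfPreserves _ hc, fun j => ?_, ⟨?_⟩⟩
  · have hj := hD j
    have h1 : Algebra.Etale A' (A' ⊗[A] (D.obj j).right) := inferInstance
    have halg : ((CommRingCat.tensorProd (CommRingCat.of A) (CommRingCat.of A')).obj (D.obj j)).hom.hom.toAlgebra =
        (inferInstance : Algebra A' (A' ⊗[A] (D.obj j).right)) := Algebra.algebra_ext _ _ fun _ => rfl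
    exact halg.symm ▸ h1
  · refine (CommRingCat.tensorProd (CommRingCat.of A) (CommRingCat.of A')).mapIso e ≪≫ ?_
    let U : Under (CommRingCat.of A) := Under.mk (CommRingCat.ofHom (algebraMap A B))
    let φ : U.right ≃ₐ[A] B := AlgEquiv.ofRingEquiv (f := RingEquiv.refl B) (fun _ => rfl)
    let ψ : A' ⊗[A] U.right ≃ₐ[A'] A' ⊗[A] B := Algebra.TensorProduct.congr AlgEquiv.refl φ
    exact Under.isoMk (RingEquiv.toCommRingCatIso ψ.toRingEquiv)
      (CommRingCat.hom_ext (RingHom.ext fun x => ψ.commutes x))

end Groth.Agent.S0733
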