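import Groth.Statements.S4736
import Groth.Agent.FlatAscent.BaseChange

set_option autoImplicit false
universe u
open EGA4

namespace Groth.Agent.S4736

open scoped TensorProduct

/-- Let A → B be a regular homomorphism of Noetherian rings (flat, with geometrically regular fibres)
and S a multiplicative subset of A. Then the induced homomorphism S⁻¹A → S⁻¹B is regular. (S⁻¹A and
S⁻¹B are given here as arbitrary localizations at S and at its image.) -/
theorem result (A B : Type u) [CommRing A] [CommRing B] [IsNoetherianRing A] [IsNoetherianRing B]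
    [Algebra A B] (h : CAlg.IsRegularHom A B) (S : Submonoid A)
    (A' B' : Type u) [CommRing A'] [CommRing B'] [Algebra A A'] [Algebra B B'] [Algebra A' B'] [Algebra A B']
    [IsScalarTower A A' B'] [IsScalarTower A B B'] [IsLocalization S A']
    [IsLocalization (Algebra.algebraMapSubmonoid B S) B'] :
    CAlg.IsRegularHom A' B' := by
  obtain ⟨e⟩ := Groth.Agent.FlatAscent.nonempty_localization_equiv A B S A' B'
  have hft : Algebra.FiniteType A B ∨ Algebra.EssFiniteType A A' :=
    Or.inr (Groth.Agent.FlatAscent.essFiniteType_of_isLocalization S)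
  have hN : ∀ (p : Ideal A) [p.IsPrime], IsNoetherianRing (p.Fiber B) := fun p _ => by
    have := Algebra.EssFiniteType.isNoetherianRing B (B ⊗[A] p.ResidueField)
    exact isNoetherianRing_of_ringEquiv (B ⊗[A] p.ResidueField)
      (Algebra.TensorProduct.comm A B p.ResidueField).toRingEquiv
  have := h.1
  refine ⟨Module.Flat.of_linearEquiv e.symm.toLinearEquiv, fun P _ => ⟨?_, fun k' _ _ _ => ?_⟩⟩
  · have : IsNoetherianRing B' := IsLocalization.isNoetherianRing (Algebra.algebraMapSubmonoid B S) B' inferInstance
    have := Algebra.EssFiniteType.isNoetherianRing B' (B' ⊗[A'] P.ResidueField)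
    exact isNoetherianRing_of_ringEquiv (B' ⊗[A'] P.ResidueField)
      (Algebra.TensorProduct.comm A' B' P.ResidueField).toRingEquiv
  have := Groth.Agent.FlatAscent.base_change_fibre (A' := A') hft (fun R _ => IsRegularRing R)
      (fun R _ _ _ e h => haveI := h; IsRegularRing.of_ringEquiv e) hN
      (fun p _ L _ _ _ hL => haveI := hL
        Groth.Agent.FlatAscent.isRegularRing_tensor_of_geometricallyRegular (h.2 p).2 L) P k'
  exact IsRegularRing.of_ringEquiv (R := k' ⊗[P.ResidueField] P.Fiber (A' ⊗[A] B))
    (Algebra.TensorProduct.congr (AlgEquiv.refl (A₁ := k') (R := P.ResidueField))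
      (Algebra.TensorProduct.congr (AlgEquiv.refl (A₁ := P.ResidueField) (R := P.ResidueField)) e)).toRingEquiv

end Groth.Agent.S4736
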