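import Mathlib
import Groth.Statements.S2913
-- import your own Groth.Agent.* helpers here

set_option autoImplicit false
open CategoryTheory CategoryTheory.Limits AlgebraicGeometry Opposite
universe u
open SGA1

namespace Groth.Agent.S2913

/-- Let g : S' ⟶ S be a surjective morphism of schemes such that for every open U of S the map O_S(U) →
O_{S'}(g⁻¹U) is injective. Then g is an epimorphism in the category of schemes. -/
theorem result {S' S : Scheme.{u}} (g : S' ⟶ S) [Surjective g]
    (hinj : ∀ U : S.Opens, Function.Injective (g.app U).hom) : Epi g := by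
  refine ⟨fun {T} a b hab => ?_⟩
  have hbase : a.base = b.base := by
    ext s
    obtain ⟨s', rfl⟩ := g.surjective s
    have h1 : (g ≫ a) s' = (g ≫ b) s' := by rw [hab]
    simpa [Scheme.Hom.comp_apply] using h1
  refine Scheme.Hom.ext hbase fun U => ?_
  haveI : ∀ V, Mono (g.app V) := fun V => ConcreteCategory.mono_of_injective _ (hinj V)
  rw [← cancel_mono (g.app (b ⁻¹ᵁ U))]
  have h2 := Scheme.Hom.congr_app hab U
  simp only [Scheme.Hom.comp_app, Category.assoc] at h2 ⊢
  rw [g.naturality, ← Category.assoc]
  erw [h2]
  simp [← Functor.map_comp, Category.assoc]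
  rw [Subsingleton.elim (_ ≫ _) (𝟙 _)]
  simp

end Groth.Agent.S2913
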