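import Groth.Statements.S3423
import Groth.Agent.FibConstr.SmoothLocus
-- import your own Groth.Agent.* helpers here

set_option autoImplicit false
open CategoryTheory AlgebraicGeometry
universe u
open EGA43

namespace Groth.Agent.S3423

/-- Let f : X ⟶ S be locally of finite presentation. The set of points x of X such that the fibre of f
through x is geometrically regular at x over the residue field of f x — equivalently, such that x
lies in the smooth locus of that fibre over the residue field — is locally constructible in X. -/
theorem result {X S : Scheme.{u}} (f : X ⟶ S)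
    [LocallyOfFinitePresentation f]
    [∀ s : S, LocallyOfFinitePresentation (f.fiberToSpecResidueField s)] :
    Topology.IsLocallyConstructible {x : X | f.asFiber x ∈ (f.fiberToSpecResidueField (f.base x)).smoothLocus} := by
  have hl : LocallyOfFinitePresentation (f ≫ 𝟙 S) := by rw [Category.comp_id]; infer_instance
  convert FibConstr.goodLocus_smoothFibLocus.isLocallyConstructible f (𝟙 S) using 1
  ext x
  let s := f.base x
  let e : Spec (S.residueField s) ≅ (𝟙 S : S ⟶ S).fiber s :=
    (asIso (Limits.pullback.snd (𝟙 S) (S.fromSpecResidueField s))).symm
  have hsq : IsPullback (f.fiberι s) (f.fiberToSpecResidueField s ≫ e.hom) f ((𝟙 S : S ⟶ S).fiberι s) := by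
    have hb : IsPullback (S.fromSpecResidueField s) e.hom (𝟙 S) ((𝟙 S : S ⟶ S).fiberι s) := by
      refine IsPullback.of_vert_isIso ⟨?_⟩
      show S.fromSpecResidueField s ≫ 𝟙 S = e.hom ≫ Limits.pullback.fst (𝟙 S) _
      have hc : Limits.pullback.fst (𝟙 S) (S.fromSpecResidueField s) =
          Limits.pullback.snd (𝟙 S) (S.fromSpecResidueField s) ≫ S.fromSpecResidueField s := by
        simpa using (Limits.pullback.condition (f := 𝟙 S) (g := S.fromSpecResidueField s))
      rw [Category.comp_id, hc]
      exact ((asIso (Limits.pullback.snd (𝟙 S) (S.fromSpecResidueField s))).inv_hom_id_assoc _).symm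
    have := (IsPullback.of_hasPullback f (S.fromSpecResidueField s)).paste_vert hb
    rw [Category.comp_id] at this
    exact this
  have := FibConstr.mem_smoothFibLocus_iff hsq (f.asFiber x)
  rw [f.fiberι_asFiber, Groth.FibrewiseCrit.mem_smoothLocus_comp_right] at this
  exact this.symm

end Groth.Agent.S3423
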