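import Groth.Statements.S4948
import Groth.Agent.GeomUnib.FlatGrade
import Groth.Agent.FlatDescent.Scheme
-- import your own Groth.Agent.* helpers here

set_option autoImplicit false
set_option backward.isDefEq.respectTransparency false
open CategoryTheory AlgebraicGeometry
universe u v w
open EGA43

namespace Groth.Agent.S4948

/-- Consider a discrete valuation ring A and set Y = Spec A, whose closed point is y. Given a morphism f
: X ⟶ Y that is locally of finite type, and a point x lying in the fibre X_y, assume two things: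
first, f is open at each generic point of an irreducible component of X_y passing through x; second,
X_y is reduced at x (that is, the local ring of the fibre at x is reduced). Under these assumptions
f is flat at x. -/
theorem result {A : Type u} [CommRing A] [IsDomain A]
    [IsDiscreteValuationRing A] {X : Scheme.{u}} (f : X ⟶ Spec (CommRingCat.of A)) [LocallyOfFiniteType f] (x : X)
    (hx : f.base x = IsLocalRing.closedPoint A)
    (h : ∀ z : ↥(f.fiber (f.base x)), f.asFiber x ∈ closure {z} →
      (∀ z' : ↥(f.fiber (f.base x)), z ∈ closure {z'} → z' = z) → EGA43.IsOpenAt f.base ((f.fiberι (f.base x)).base z))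
    (hred : _root_.IsReduced ((f.fiber (f.base x)).presheaf.stalk (f.asFiber x))) :
    (f.stalkMap x).hom.Flat := by
  classical
  haveI hrad : (FlatDescent.maxExt f x).IsRadical := by
    have hker := FlatDescent.ker_stalkMap_fiberι f (f.base x) (f.asFiber x)
    haveI := hred
    have h1 : (RingHom.ker ((f.fiberι (f.base x)).stalkMap (f.asFiber x)).hom).IsRadical := fun a ha => by
      obtain ⟨n, hn⟩ := ha
      rw [RingHom.mem_ker, map_pow] at hn
      exact IsReduced.eq_zero _ ⟨n, hn⟩
    rw [hker, Scheme.Hom.fiberι_asFiber] at h1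
    exact h1
  obtain ⟨V, hV, hxV, -⟩ := exists_isAffineOpen_mem_and_subset (U := (⊤ : X.Opens)) (x := x) trivial
  obtain ⟨P, rfl⟩ : x ∈ Set.range hV.fromSpec := by rw [hV.range_fromSpec]; exact hxV
  let φ : CommRingCat.of A ⟶ Γ(X, V) := Spec.preimage (hV.fromSpec ≫ f)
  have hφ : Spec.map φ = hV.fromSpec ≫ f := Spec.map_preimage _
  letI : Algebra A Γ(X, V) := φ.hom.toAlgebra
  haveI : Algebra.FiniteType A Γ(X, V) := by
    have h' : LocallyOfFiniteType (Spec.map φ) := by rw [hφ]; infer_instance
    exact (HasRingHomProperty.Spec_iff (P := @LocallyOfFiniteType)).1 h'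
  have hpt : ∀ M : PrimeSpectrum Γ(X, V), f.base (hV.fromSpec M) = PrimeSpectrum.comap φ.hom M := fun M =>
    (congr($hφ M) : _).symm
  have hPm : P.asIdeal.comap (algebraMap A Γ(X, V)) = IsLocalRing.maximalIdeal A :=
    congrArg PrimeSpectrum.asIdeal ((hpt P).symm.trans hx)
  haveI : P.asIdeal.LiesOver (IsLocalRing.maximalIdeal A) := ⟨hPm.symm⟩
  let m := IsLocalRing.maximalIdeal A
  let B := Localization.AtPrime P.asIdeal
  letI := Localization.AtPrime.algebraOfLiesOver m P.asIdeal
  -- the stalk map
  have key : RingHom.Flat (Localization.localRingHom (PrimeSpectrum.comap φ.hom P).asIdeal P.asIdeal φ.hom rfl) →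
      (f.stalkMap (hV.fromSpec P)).hom.Flat := fun hfl => by
    have h1 : ((hV.fromSpec ≫ f).stalkMap P).hom.Flat := by
      have h2 : ((Spec.map φ).stalkMap P).hom.Flat :=
        (RingHom.Flat.respectsIso.arrow_mk_iso_iff (Scheme.arrowStalkMapSpecIso φ P)).2 hfl
      rw [hφ] at h2
      exact h2
    rwa [Scheme.Hom.stalkMap_comp, CommRingCat.hom_comp, RingHom.Flat.respectsIso.cancel_right_isIso] at h1
  -- the closed fibre is reduced
  haveI hredB : _root_.IsReduced (B ⧸ m.map (algebraMap A B)) := by
    rw [← Ideal.isRadical_iff_quotient_reduced]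
    let p' := PrimeSpectrum.comap φ.hom P
    let σ := asIso (hV.fromSpec.stalkMap P) ≪≫ Spec.stalkIso Γ(X, V) P
    have hp' : p'.asIdeal = m := hPm
    have hmap : (FlatDescent.maxExt f (hV.fromSpec P)).map σ.hom.hom = m.map (algebraMap A B) := by
      have hcomp : f.stalkMap (hV.fromSpec P) ≫ σ.hom = (hV.fromSpec ≫ f).stalkMap P ≫ (Spec.stalkIso Γ(X, V) P).hom := by
        rw [Scheme.Hom.stalkMap_comp]
        simp [σ]
      have h3 : (Spec.map φ).stalkMap P ≫ (Spec.stalkIso Γ(X, V) P).hom =
          (Spec.stalkIso (CommRingCat.of A) p').hom ≫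
            CommRingCat.ofHom (Localization.localRingHom p'.asIdeal P.asIdeal φ.hom rfl) := by
        rw [← Scheme.localRingHom_comp_stalkIso φ P]
        simp [p']
      have h4 : ∀ (g : Spec Γ(X, V) ⟶ Spec (CommRingCat.of A)), g = Spec.map φ →
          ((IsLocalRing.maximalIdeal _).map (g.stalkMap P).hom).map (Spec.stalkIso Γ(X, V) P).hom.hom =
            m.map (algebraMap A B) := by
        rintro g rfl
        rw [Ideal.map_map, ← CommRingCat.hom_comp, h3, CommRingCat.hom_comp, ← Ideal.map_map]
        let ι := (Spec.stalkIso (CommRingCat.of A) p').commRingCatIsoToRingEquiv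
        refine (congrArg (Ideal.map _) (show Ideal.map (Spec.stalkIso (CommRingCat.of A) p').hom.hom (IsLocalRing.maximalIdeal _) =
          IsLocalRing.maximalIdeal (Localization.AtPrime p'.asIdeal) from IsLocalRing.map_ringEquiv_maximalIdeal ι)).trans ?_
        rw [← Localization.AtPrime.map_eq_maximalIdeal, Ideal.map_map]
        refine Eq.trans ?_ (congrArg (Ideal.map (algebraMap A B)) hp')
        congr 1
        exact RingHom.ext fun a => (Localization.localRingHom_to_map p'.asIdeal P.asIdeal φ.hom rfl a).trans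
          (IsScalarTower.algebraMap_apply A Γ(X, V) B a).symm
      have h5 := h4 (hV.fromSpec ≫ f) hφ.symm
      rw [Ideal.map_map, ← CommRingCat.hom_comp, ← hcomp, CommRingCat.hom_comp, ← Ideal.map_map] at h5
      exact h5
    rw [← hmap]
    intro z hz
    obtain ⟨a, rfl⟩ := σ.commRingCatIsoToRingEquiv.surjective z
    obtain ⟨n, hn⟩ := hz
    refine Ideal.mem_map_of_mem _ (hrad ⟨n, ?_⟩)
    rw [← map_pow] at hn
    obtain ⟨b, hb, hbe⟩ := (Ideal.mem_map_iff_of_surjective _ σ.commRingCatIsoToRingEquiv.surjective).1 hn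
    exact σ.commRingCatIsoToRingEquiv.injective hbe ▸ hb
  haveI : IsNoetherianRing Γ(X, V) := Algebra.FiniteType.isNoetherianRing A Γ(X, V)
  haveI : IsNoetherianRing B := IsLocalization.isNoetherianRing P.asIdeal.primeCompl B inferInstance
  haveI : IsLocalHom (algebraMap A B) := ⟨fun a ha => by
    by_contra hna
    refine (IsLocalRing.notMem_maximalIdeal.2 ha) ?_
    rw [IsScalarTower.algebraMap_apply A Γ(X, V) B, IsLocalization.AtPrime.to_map_mem_maximal_iff B P.asIdeal]
    exact hPm.ge ((IsLocalRing.mem_maximalIdeal a).2 hna)⟩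
  obtain ⟨π, hπ⟩ := IsDiscreteValuationRing.exists_irreducible A
  haveI : _root_.IsReduced (B ⧸ Ideal.map (algebraMap A B) (IsLocalRing.maximalIdeal A)) := hredB
  haveI : Module.Flat A B := by
    refine GeomUnib.flat_of_flat_minimalPrimes fun q' hq' hq'min => ?_
    let q := q'.comap (algebraMap Γ(X, V) B)
    have hqP : q ≤ P.asIdeal := fun c hc =>
      (IsLocalization.AtPrime.to_map_mem_maximal_iff B P.asIdeal c).1 (IsLocalRing.le_maximalIdeal hq'.ne_top hc)
    let L := Localization.AtPrime q'
    haveI : IsLocalization.AtPrime L q :=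
      IsLocalization.isLocalization_isLocalization_atPrime_isLocalization P.asIdeal.primeCompl L q'
    haveI : IsNoetherianRing L := IsLocalization.isNoetherianRing q'.primeCompl L inferInstance
    -- the maximal ideal is generated by `π`
    have hmax : IsLocalRing.maximalIdeal L = Ideal.span {algebraMap A L π} := by
      have hspan : Ideal.span {algebraMap A L π} = (m.map (algebraMap A B)).map (algebraMap B L) := by
        rw [Ideal.map_map, ← IsScalarTower.algebraMap_eq, show m = Ideal.span {π} from hπ.maximalIdeal_eq,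
          Ideal.map_span, Set.image_singleton]
      refine le_antisymm ?_ ?_
      · rw [hspan]
        intro z hz
        obtain ⟨⟨c, ⟨s, hs⟩⟩, rfl⟩ := IsLocalization.mk'_surjective q'.primeCompl z
        have hc : c ∈ q' := (IsLocalization.AtPrime.mk'_mem_maximal_iff L q' c ⟨s, hs⟩).1 hz
        rw [IsLocalization.mk'_mem_map_algebraMap_iff q'.primeCompl]
        haveI := hredB
        have hex : ∃ v ∉ q', v * c ∈ m.map (algebraMap A B) := by
          by_contra! hne
          let T : Submonoid B := q'.primeCompl ⊔ Submonoid.powers c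
          have hd : Disjoint (m.map (algebraMap A B) : Set B) T := by
            refine Set.disjoint_left.2 fun t ht htT => ?_
            obtain ⟨v, hv, _, ⟨k, rfl⟩, rfl⟩ := Submonoid.mem_sup.1 htT
            refine hne v hv ((Ideal.isRadical_iff_quotient_reduced _).2 hredB ⟨k + 1, ?_⟩)
            rw [mul_pow, pow_succ' v k, mul_assoc, mul_comm v, pow_succ c k]
            have : v * c ^ k ∈ m.map (algebraMap A B) := ht
            have e : v ^ k * (c ^ k * c) * v = v ^ k * c * (v * c ^ k) := by ring
            rw [e]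
            exact Ideal.mul_mem_left _ _ this
          obtain ⟨N, hN, hle, hdis⟩ := Ideal.exists_le_prime_disjoint _ T hd
          have hNq : N ≤ q' := fun t ht => by_contra fun htq =>
            Set.disjoint_left.1 hdis ht ((le_sup_left : q'.primeCompl ≤ T) htq)
          exact Set.disjoint_left.1 hdis (hq'min.2 ⟨hN, hle⟩ hNq hc)
            ((le_sup_right : Submonoid.powers c ≤ T) ⟨1, pow_one c⟩)
        obtain ⟨v, hv, hvc⟩ := hex
        exact ⟨v, hv, hvc⟩
      · rw [Ideal.span_le, Set.singleton_subset_iff, SetLike.mem_coe, IsScalarTower.algebraMap_apply A B L,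
          IsLocalization.AtPrime.to_map_mem_maximal_iff L q']
        exact hq'min.1.2 (Ideal.mem_map_of_mem _ ((IsLocalRing.mem_maximalIdeal _).2 hπ.not_isUnit))
    have hπq : q.comap (algebraMap A Γ(X, V)) = m := by
      refine le_antisymm ((Ideal.comap_mono hqP).trans hPm.le) fun a ha => ?_
      show algebraMap Γ(X, V) B (algebraMap A Γ(X, V) a) ∈ q'
      rw [← IsScalarTower.algebraMap_apply]
      exact hq'min.1.2 (Ideal.mem_map_of_mem _ ha)
    -- `π` is not nilpotent at a generic point
    have hnil : ¬ IsNilpotent (algebraMap A L π) := by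
      rintro ⟨N, hN⟩
      rw [← map_pow, IsScalarTower.algebraMap_apply A Γ(X, V) L] at hN
      obtain ⟨⟨s, hs⟩, hsN⟩ := (IsLocalization.map_eq_zero_iff q.primeCompl L _).1 hN
      let ζ : X := hV.fromSpec ⟨q, inferInstance⟩
      have hζy : f.base ζ = f.base (hV.fromSpec P) := by
        rw [hpt, hpt]
        exact PrimeSpectrum.ext (hπq.trans hPm.symm)
      obtain ⟨z, hz⟩ : ζ ∈ Set.range (f.fiberι (f.base (hV.fromSpec P))) := by
        rw [Scheme.Hom.range_fiberι]; exact hζy
      have hio := (f.fiberι (f.base (hV.fromSpec P))).isEmbedding.isInducing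
      have hopen := h z ?_ fun z' hz' => ?_
      · rw [show (f.fiberι (f.base (hV.fromSpec P))).base z = ζ from hz] at hopen
        have hW := hopen (hV.fromSpec '' (PrimeSpectrum.basicOpen s : Set (PrimeSpectrum Γ(X, V))))
          (hV.fromSpec.isOpenEmbedding.isOpenMap.image_mem_nhds
            ((PrimeSpectrum.basicOpen s).isOpen.mem_nhds (x := ⟨q, inferInstance⟩) hs))
        obtain ⟨O, hOW, hO, hζO⟩ := mem_nhds_iff.1 hW
        have hgen : (⊥ : PrimeSpectrum A) ∈ O :=
          ((PrimeSpectrum.le_iff_specializes (⊥ : PrimeSpectrum A) _).1 bot_le).mem_open hO hζO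
        obtain ⟨_, ⟨M, hM, rfl⟩, hMη⟩ := hOW hgen
        rw [hpt] at hMη
        have h0 : s * algebraMap A Γ(X, V) (π ^ N) = 0 := hsN
        have h1 : algebraMap A Γ(X, V) (π ^ N) ∈ M.asIdeal :=
          (M.2.mem_or_mem (h0 ▸ M.asIdeal.zero_mem)).resolve_left hM
        have h2 : π ^ N ∈ (⊥ : Ideal A) := (congrArg PrimeSpectrum.asIdeal hMη).le h1
        exact pow_ne_zero N hπ.ne_zero (Ideal.mem_bot.1 h2)
      · rw [← specializes_iff_mem_closure, ← hio.specializes_iff, Scheme.Hom.fiberι_asFiber]
        exact hz.symm ▸ ((PrimeSpectrum.le_iff_specializes (⟨q, inferInstance⟩ : PrimeSpectrum Γ(X, V)) P).1 hqP).map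
          hV.fromSpec.continuous
      · rw [← specializes_iff_mem_closure, ← hio.specializes_iff] at hz'
        refine (f.fiberι (f.base (hV.fromSpec P))).isEmbedding.injective ?_
        rw [hz]
        change (f.fiberι (f.base (hV.fromSpec P))).base z' ⤳ (f.fiberι (f.base (hV.fromSpec P))).base z at hz'
        rw [show (f.fiberι (f.base (hV.fromSpec P))).base z = ζ from hz] at hz'
        obtain ⟨M, hMeq⟩ : (f.fiberι (f.base (hV.fromSpec P))).base z' ∈ Set.range hV.fromSpec := by
          rw [hV.range_fromSpec]; exact hz'.mem_open V.isOpen (hV.range_fromSpec.le ⟨_, rfl⟩)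
        rw [← hMeq] at hz'
        have hMq : M.asIdeal ≤ q := (PrimeSpectrum.le_iff_specializes M ⟨q, inferInstance⟩).2
          (hV.fromSpec.isOpenEmbedding.isInducing.specializes_iff.1 hz')
        have hMy : f.base (hV.fromSpec M) = f.base (hV.fromSpec P) := by
          rw [hMeq]
          exact (f.range_fiberι (f.base (hV.fromSpec P))).le ⟨z', rfl⟩
        rw [hpt, hpt] at hMy
        have hMA : M.asIdeal.comap (algebraMap A Γ(X, V)) = m := (congrArg PrimeSpectrum.asIdeal hMy).trans hPm
        have hMP : M.asIdeal ≤ P.asIdeal := hMq.trans hqP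
        have : q' ≤ M.asIdeal.map (algebraMap Γ(X, V) B) := by
          refine hq'min.2 ⟨Ideal.isPrime_map_of_isLocalizationAtPrime P.asIdeal hMP, ?_⟩ (Ideal.map_le_iff_le_comap.2 hMq)
          rw [IsScalarTower.algebraMap_eq A Γ(X, V) B, ← Ideal.map_map]
          exact Ideal.map_mono (Ideal.map_le_iff_le_comap.2 hMA.ge)
        have hqM : q ≤ M.asIdeal :=
          (Ideal.comap_mono this).trans (le_of_eq (Ideal.under_map_of_isLocalizationAtPrime P.asIdeal hMP))
        rw [← hMeq]
        exact congrArg hV.fromSpec (PrimeSpectrum.ext (le_antisymm hMq hqM))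
    -- torsion free
    rw [Module.Flat.flat_iff_torsion_eq_bot_of_isBezout, eq_bot_iff]
    intro z hz
    obtain ⟨⟨a, ha⟩, haz⟩ := hz
    change a • z = 0 at haz
    obtain ⟨k, u, rfl⟩ := IsDiscreteValuationRing.eq_unit_mul_pow_irreducible (nonZeroDivisors.ne_zero ha) hπ
    rw [Algebra.smul_def, map_mul, mul_assoc, (u.isUnit.map (algebraMap A L)).mul_right_eq_zero, map_pow] at haz
    by_contra hz0
    have hex : ∃ N, z ∉ IsLocalRing.maximalIdeal L ^ N := by
      by_contra! hall
      refine hz0 ((Submodule.mem_bot L).1 ?_)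
      rw [← Ideal.iInf_pow_eq_bot_of_isLocalRing (IsLocalRing.maximalIdeal L) (IsLocalRing.maximalIdeal.isMaximal L).ne_top]
      exact Submodule.mem_iInf _ |>.2 hall
    obtain ⟨N, hN, hmin⟩ : ∃ N, z ∈ IsLocalRing.maximalIdeal L ^ N ∧ z ∉ IsLocalRing.maximalIdeal L ^ (N + 1) := by
      have h0 := Nat.find_spec hex
      obtain ⟨N, hN⟩ : ∃ N, Nat.find hex = N + 1 := Nat.exists_eq_add_one.2 (Nat.pos_of_ne_zero fun h => by
        rw [h, pow_zero, Ideal.one_eq_top] at h0; exact h0 trivial)
      exact ⟨N, not_not.1 (Nat.find_min hex (by omega)), hN ▸ h0⟩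
    rw [hmax, Ideal.span_singleton_pow, Ideal.mem_span_singleton'] at hN
    obtain ⟨v, rfl⟩ := hN
    have hv : IsUnit v := IsLocalRing.notMem_maximalIdeal.1 fun hv' => hmin (by
      rw [pow_succ']
      exact Ideal.mul_mem_mul hv' (by rw [hmax, Ideal.span_singleton_pow]; exact Ideal.mem_span_singleton_self _))
    refine hnil ⟨k + N, ?_⟩
    rw [mul_left_comm, ← pow_add] at haz
    exact (hv.mul_right_eq_zero).1 haz
  refine key ?_
  have hp : (PrimeSpectrum.comap φ.hom P).asIdeal = m := hPm
  have : ∀ (p : Ideal A) [p.IsPrime] (hpP : p = P.asIdeal.comap φ.hom), p = m →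
      RingHom.Flat (Localization.localRingHom p P.asIdeal φ.hom hpP) := by
    rintro p _ hpP rfl
    haveI : Module.Flat (Localization.AtPrime m) B :=
      (Module.flat_iff_of_isLocalization (Localization.AtPrime m) m.primeCompl B).2 inferInstance
    exact RingHom.flat_algebraMap_iff.2 (inferInstance : Module.Flat (Localization.AtPrime m) B)
  exact this _ rfl hp

end Groth.Agent.S4948
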