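import Groth.Statements.S3447
import Groth.Agent.FlatDescent.Scheme

set_option autoImplicit false
open CategoryTheory AlgebraicGeometry
universe u
open EGA43

namespace Groth.Agent.S3447

theorem aux {X Y : Scheme.{u}} [IsLocallyNoetherian X] [IsLocallyNoetherian Y] (f : X ⟶ Y) (s : Y) (z : f.fiber s) :
    ringKrullDim (X.presheaf.stalk (f.fiberι s z)) ≤
      ringKrullDim (Y.presheaf.stalk (f (f.fiberι s z))) + ringKrullDim ((f.fiber s).presheaf.stalk z) := by
  set y := f.fiberι s z
  algebraize [(f.stalkMap y).hom]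
  let p := IsLocalRing.maximalIdeal (Y.presheaf.stalk (f y))
  let P := IsLocalRing.maximalIdeal (X.presheaf.stalk y)
  have : P.LiesOver p := ⟨(IsLocalRing.maximalIdeal_comap (f.stalkMap y).hom).symm⟩
  have h := Ideal.height_le_height_add_of_liesOver p P
  have e : (X.presheaf.stalk y ⧸ p.map (algebraMap (Y.presheaf.stalk (f y)) (X.presheaf.stalk y))) ≃+*
      (f.fiber s).presheaf.stalk z :=
    (Ideal.quotEquivOfEq (Groth.FlatDescent.ker_stalkMap_fiberι f s z).symm).trans
      (RingHom.quotientKerEquivOfSurjective ((f.fiberι s).stalkMap_surjective z))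
  rw [← IsLocalRing.maximalIdeal_height_eq_ringKrullDim, ← IsLocalRing.maximalIdeal_height_eq_ringKrullDim,
    ← ringKrullDim_eq_of_ringEquiv e]
  refine le_trans (WithBot.coe_le_coe.2 h) ?_
  rw [WithBot.coe_add]
  refine add_le_add le_rfl (Ideal.height_le_ringKrullDim_of_ne_top ?_)
  have : (P.map (Ideal.Quotient.mk (p.map (algebraMap (Y.presheaf.stalk (f y)) (X.presheaf.stalk y))))).IsPrime :=
    Ideal.map_isPrime_of_surjective Ideal.Quotient.mk_surjective (by
      rw [Ideal.mk_ker, Ideal.map_le_iff_le_comap]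
      exact (IsLocalRing.maximalIdeal_comap (f.stalkMap y).hom).ge)
  exact this.ne_top

/-- Let Y be locally Noetherian, f : X ⟶ Y of finite type and x a point of X with y = f x. Then dim
O_{X,x} ≤ dim O_{Y,y} + dim O_{X_y,x}, where X_y is the fibre through x. -/
theorem result {X Y : Scheme.{u}} [IsLocallyNoetherian Y] (f : X ⟶ Y)
    [LocallyOfFiniteType f] [QuasiCompact f] (x : X) :
    ringKrullDim (X.presheaf.stalk x) ≤
      ringKrullDim (Y.presheaf.stalk (f.base x)) + ringKrullDim ((f.fiber (f.base x)).presheaf.stalk (f.asFiber x)) := by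
  haveI := LocallyOfFiniteType.isLocallyNoetherian f
  have h := aux f (f.base x) (f.asFiber x)
  have hx : f.fiberι (f.base x) (f.asFiber x) = x := f.fiberι_asFiber x
  rw [congrArg (fun p => ringKrullDim (X.presheaf.stalk p)) hx,
    congrArg (fun p => ringKrullDim (Y.presheaf.stalk (f p))) hx] at h
  exact h

end Groth.Agent.S3447
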