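import Groth.Statements.S11269
import Groth.Agent.DepthLib.Reduced
import Groth.Agent.DepthLib.SkHom

set_option autoImplicit false
universe u
open W4bk4grassmannian

namespace Groth.Agent.S11269

/-- Let R be a Noetherian integral domain. Then R satisfies Serre's condition (S_2) (depth R_P ≥ min(2,
dim R_P) for all primes P) if and only if, for every nonzero a ∈ R, every associated prime of the
R-module R/(a) has height one. -/
theorem result (R : Type u) [CommRing R] [IsDomain R]
    [IsNoetherianRing R] :
    LocCoh.HasSk 2 R R ↔
      ∀ a : R, a ≠ 0 → ∀ P : Ideal R, P ∈ associatedPrimes R (R ⧸ Ideal.span {a}) → P.height = 1 := by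
  have hiff : ∀ (a : R) (ha : a ≠ 0) (P : Ideal R) [P.IsPrime], a ∈ P →
      (P ∈ associatedPrimes R (R ⧸ Ideal.span {a}) ↔
        LocCoh.depth (Localization.AtPrime P) (Localization.AtPrime P) = 1) := by
    intro a ha P _ haP
    have e : QuotSMulTop a R ≃ₗ[R] R ⧸ Ideal.span {a} := Submodule.quotEquivOfEq _ _ (by
      rw [← Submodule.ideal_span_singleton_smul, smul_eq_mul, Ideal.mul_top])
    have hreg : IsSMulRegular (LocalizedModule P.primeCompl R) (algebraMap R (Localization.AtPrime P) a) := by
      rw [(DepthLib.localizedSelfEquiv P).isSMulRegular_congr]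
      intro x y hxy
      exact mul_left_cancel₀ (fun h0 => ha (IsLocalization.injective (Localization.AtPrime P)
        P.primeCompl_le_nonZeroDivisors (by rw [h0, map_zero]))) hxy
    rw [← LinearEquiv.AssociatedPrimes.eq e, ← DepthLib.depth_localization_eq_zero_iff,
      ← DepthLib.depth_localization_self, ← DepthLib.depth_localization_quotSMulTop_add_one P haP hreg]
    constructor
    · intro h; rw [h, zero_add]
    · intro h
      exact (ENat.add_left_injective_of_ne_top ENat.one_ne_top) (h.trans (zero_add _).symm)
  have hmemP : ∀ (a : R) (P : Ideal R), P ∈ associatedPrimes R (R ⧸ Ideal.span {a}) → a ∈ P := by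
    intro a P hP
    have := DepthLib.annihilator_le_of_mem_associatedPrimes hP
    rw [Ideal.annihilator_quotient] at this
    exact this (Ideal.mem_span_singleton_self a)
  constructor
  · intro hS a ha P hP
    haveI := IsAssociatedPrime.isPrime hP
    have hd := (hiff a ha P (hmemP a P hP)).mp hP
    have h2 := hS P
    rw [DepthLib.depth_localization_self, DepthLib.supportDim_localization_self, hd] at h2
    have hne : P.height ≠ 0 := fun h0 => by
      rw [Ideal.height_eq_zero_iff_eq_bot] at h0
      exact ha (by simpa [h0] using hmemP a P hP)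
    refine le_antisymm ?_ (Order.one_le_iff_pos.mpr (pos_iff_ne_zero.mpr hne))
    rcases min_le_iff.mp h2 with h | h
    · have h' : ((2 : ℕ) : ℕ∞) ≤ 1 := WithBot.coe_le_coe.mp h
      exact absurd (Nat.cast_le.mp (h'.trans_eq Nat.cast_one.symm)) (by norm_num)
    · exact WithBot.coe_le_coe.mp h
  · intro h P _
    rw [DepthLib.depth_localization_self, DepthLib.supportDim_localization_self]
    refine DepthLib.withBot_le_coe (k := 2) (a := P.height) (min_le_left _ _) (min_le_right _ _) fun n hn hnh => ?_
    rcases n with _ | n
    · simp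
    have hP0 : P ≠ ⊥ := fun h0 => by
      rw [Ideal.height_eq_zero_iff_eq_bot.mpr h0] at hnh
      exact absurd (Nat.cast_le.mp (hnh.trans_eq Nat.cast_zero.symm)) (by omega)
    obtain ⟨a, haP, ha⟩ := Submodule.exists_mem_ne_zero_of_ne_bot hP0
    have h1 : (1 : ℕ∞) ≤ LocCoh.depth (Localization.AtPrime P) (Localization.AtPrime P) :=
      DepthLib.one_le_idealDepth_iff.mpr ⟨_,
        (IsLocalization.AtPrime.to_map_mem_maximal_iff (Localization.AtPrime P) P a).mpr haP,
        fun x y hxy => mul_left_cancel₀ (fun h0 => ha (IsLocalization.injective (Localization.AtPrime P)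
          P.primeCompl_le_nonZeroDivisors (by rw [h0, map_zero]))) hxy⟩
    rcases n with _ | _ | n
    · simpa using h1
    · by_contra hlt
      have h1' : LocCoh.depth (Localization.AtPrime P) (Localization.AtPrime P) = 1 :=
        le_antisymm (Order.le_of_lt_add_one (lt_of_lt_of_eq (not_le.mp hlt) (by norm_num))) h1
      have := h a ha P ((hiff a ha P haP).mpr h1')
      rw [this] at hnh
      exact absurd (Nat.cast_le.mp (hnh.trans_eq Nat.cast_one.symm)) (by omega)
    · omega

end Groth.Agent.S11269
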