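import Groth.Statements.S2561
import Groth.Agent.GeomUnib.FlatFibre
-- import your own Groth.Agent.* helpers here

set_option autoImplicit false
open CategoryTheory AlgebraicGeometry
universe u
open EGA43

namespace Groth.Agent.S2561

/-- Let Y be locally Noetherian, f : X ⟶ Y locally of finite type, x a point of X with y = f x. Suppose
that f is universally open at the generic point of every irreducible component of the fibre over y
passing through x, that this fibre is geometrically reduced at x, and that the local ring of Y at y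
is reduced. Then the local homomorphism O_{Y,y} ⟶ O_{X,x} is flat. -/
theorem result {X Y : Scheme.{u}} [IsLocallyNoetherian Y]
    (f : X ⟶ Y) [LocallyOfFiniteType f] (x : X)
    (hopen : ∀ z : ↥(f.fiber (f.base x)), f.asFiber x ∈ closure {z} →
      (∀ z' : ↥(f.fiber (f.base x)), z ∈ closure {z'} → z' = z) →
      EGA43.IsUnivOpenAt f ((f.fiberι (f.base x)).base z))
    (hred : FBase.IsGeomReducedAt (f.fiberToSpecResidueField (f.base x)) (f.asFiber x))
    (hy : _root_.IsReduced (Y.presheaf.stalk (f.base x))) :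
    (f.stalkMap x).hom.Flat := by
  classical
  obtain ⟨U₀, hU₀, hxU₀, -⟩ := exists_isAffineOpen_mem_and_subset (U := (⊤ : Y.Opens)) (x := f.base x) trivial
  haveI : IsNoetherianRing Γ(Y, U₀) := IsLocallyNoetherian.component_noetherian ⟨U₀, hU₀⟩
  obtain ⟨s, hs, hnil⟩ : ∃ s ∉ (hU₀.primeIdealOf ⟨f.base x, hxU₀⟩).asIdeal,
      ∀ a : Γ(Y, U₀), IsNilpotent a → s * a = 0 := by
    letI := Y.presheaf.algebra_section_stalk ⟨f.base x, hxU₀⟩
    haveI := hU₀.isLocalization_stalk ⟨f.base x, hxU₀⟩
    haveI := hy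
    obtain ⟨t, ht⟩ := IsNoetherian.noetherian (nilradical Γ(Y, U₀))
    have h1 : ∀ a ∈ t, ∃ s ∉ (hU₀.primeIdealOf ⟨f.base x, hxU₀⟩).asIdeal, s * a = 0 := by
      intro a ha
      obtain ⟨n, hn⟩ : IsNilpotent a := mem_nilradical.1 (ht ▸ Submodule.subset_span ha)
      obtain ⟨⟨s, hs⟩, h⟩ := (IsLocalization.map_eq_zero_iff
        (hU₀.primeIdealOf ⟨f.base x, hxU₀⟩).asIdeal.primeCompl (Y.presheaf.stalk (f.base x)) a).1
        (IsReduced.eq_zero _ ⟨n, by rw [← map_pow, hn, map_zero]⟩)
      exact ⟨s, hs, h⟩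
    choose! σ hσ hσ0 using h1
    refine ⟨∏ a ∈ t, σ a, fun h => ?_, fun a ha => ?_⟩
    · obtain ⟨a, ha, h⟩ := (Ideal.IsPrime.prod_mem_iff (p := (hU₀.primeIdealOf ⟨f.base x, hxU₀⟩).asIdeal)).1 h
      exact hσ a ha h
    · have ha' : a ∈ Ideal.span (t : Set Γ(Y, U₀)) := by rw [show Ideal.span (t : Set Γ(Y, U₀)) = _ from ht]; exact mem_nilradical.2 ha
      refine Submodule.span_induction (p := fun a _ => (∏ a ∈ t, σ a) * a = 0) (fun b hb => ?_) (mul_zero _)
        (fun b c _ _ hb hc => by rw [mul_add, hb, hc, add_zero])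
        (fun r b _ hb => by rw [smul_eq_mul, mul_left_comm, hb, mul_zero]) ha'
      obtain ⟨d, hd⟩ := Finset.dvd_prod_of_mem σ hb
      rw [hd, mul_right_comm, hσ0 b hb, zero_mul]
  let U : Y.Opens := Y.basicOpen s
  have hU : IsAffineOpen U := hU₀.basicOpen s
  have hxU : f.base x ∈ U := by
    show f.base x ∈ (Y.basicOpen s : Set Y)
    rw [← hU₀.fromSpec_image_basicOpen s]
    exact ⟨_, hs, hU₀.fromSpec_primeIdealOf ⟨f.base x, hxU₀⟩⟩
  haveI : IsNoetherianRing Γ(Y, U) := IsLocallyNoetherian.component_noetherian ⟨U, hU⟩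
  haveI : _root_.IsReduced Γ(Y, U) := by
    haveI := hU₀.isLocalization_basicOpen s
    refine ⟨fun z ⟨n, hn⟩ => ?_⟩
    obtain ⟨⟨a, ⟨m, hm⟩⟩, rfl⟩ := IsLocalization.mk'_surjective (Submonoid.powers s) z
    have h := congrArg (· ^ n) (IsLocalization.mk'_spec Γ(Y, U) a (⟨m, hm⟩ : Submonoid.powers s))
    simp only [mul_pow] at h
    change IsLocalization.mk' Γ(Y, U) a (⟨m, hm⟩ : Submonoid.powers s) ^ n = 0 at hn
    rw [hn, zero_mul, ← map_pow] at h
    obtain ⟨⟨c, k, rfl⟩, hc⟩ := (IsLocalization.map_eq_zero_iff (Submonoid.powers s) Γ(Y, U) _).1 h.symm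
    have hnilp : IsNilpotent (s ^ k * a) := ⟨n + 1, by
      change s ^ k * a ^ n = 0 at hc
      calc (s ^ k * a) ^ (n + 1) = (s ^ k) ^ n * (s ^ k * a ^ n) * a := by ring
        _ = 0 := by rw [hc, mul_zero, zero_mul]⟩
    exact (IsLocalization.mk'_eq_zero_iff _ _).2 ⟨⟨s ^ (k + 1), k + 1, rfl⟩, by
      show s ^ (k + 1) * a = 0
      rw [pow_succ', mul_assoc]
      exact hnil _ hnilp⟩
  obtain ⟨V, hV, hxV, hVU⟩ := exists_isAffineOpen_mem_and_subset (U := f ⁻¹ᵁ U) (x := x) hxU
  letI := (f.appLE U V hVU).hom.toAlgebra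
  haveI : Algebra.FiniteType Γ(Y, U) Γ(X, V) := f.finiteType_appLE hU hV hVU
  let p := (hU.primeIdealOf ⟨f.base x, hVU hxV⟩).asIdeal
  let qx := (hV.primeIdealOf ⟨x, hxV⟩).asIdeal
  haveI : qx.LiesOver p := ⟨congr($(IsAffineOpen.comap_primeIdealOf_appLE U hU V hV hVU hxV).1).symm⟩
  haveI : Module.Flat Γ(Y, U) (Localization.AtPrime qx) := by
    refine GeomUnib.flat_of_geomReduced qx p (fun P _ hP =>
      GeomUnib.isReduced_localization_tensor f hU hV hVU hxV hred (AlgebraicClosure p.ResidueField) ?_ P hP)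
      fun q _ hq hqmin => ?_
    · ext a
      rw [RingHom.mem_ker, IsScalarTower.algebraMap_apply Γ(Y, U) p.ResidueField (AlgebraicClosure p.ResidueField),
        map_eq_zero]
      exact Ideal.algebraMap_residueField_eq_zero
    · intro W _ _ _
      let ζ : X := hV.fromSpec ⟨q, inferInstance⟩
      have hζV : ζ ∈ V := hV.range_fromSpec.le ⟨_, rfl⟩
      have hζq : (hV.primeIdealOf ⟨ζ, hζV⟩).asIdeal = q :=
        ((UnivOpenAt.fromSpec_eq_iff hV hζV ⟨q, inferInstance⟩).1 rfl).symm
      have hy' : ∀ (M : Ideal Γ(X, V)) [M.IsPrime], M ≤ qx → p.map (algebraMap _ _) ≤ M →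
          f.base (hV.fromSpec ⟨M, inferInstance⟩) = f.base x := by
        intro M _ hMx hM
        have e₂ := IsAffineOpen.SpecMap_appLE_fromSpec f hU hV hVU
        refine ((congr($e₂ ⟨M, inferInstance⟩) : _).symm.trans (congrArg hU.fromSpec (PrimeSpectrum.ext ?_))).trans
          (hU.fromSpec_primeIdealOf ⟨f.base x, hVU hxV⟩)
        exact le_antisymm ((Ideal.comap_mono hMx).trans (Ideal.LiesOver.over (p := p) (P := qx)).ge)
          (Ideal.map_le_iff_le_comap.1 hM)
      have hζy : f.base ζ = f.base x := hy' q hq hqmin.1.2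
      obtain ⟨z, hz⟩ : ζ ∈ Set.range (f.fiberι (f.base x)) := by
        rw [Scheme.Hom.range_fiberι]; exact hζy
      have hspec : ζ ⤳ x := by
        have h := ((PrimeSpectrum.le_iff_specializes (⟨q, inferInstance⟩ : PrimeSpectrum Γ(X, V))
          (hV.primeIdealOf ⟨x, hxV⟩)).1 hq).map hV.fromSpec.continuous
        rwa [hV.fromSpec_primeIdealOf ⟨x, hxV⟩] at h
      have hio := (f.fiberι (f.base x)).isEmbedding.isInducing
      have h := hopen z ?_ fun z' hz' => ?_
      · rw [show (f.fiberι (f.base x)).base z = ζ from hz] at h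
        have := UnivOpenAt.torAt_of_isUnivOpenAt f hU hV hVU hζV h W
        rwa [hζq] at this
      · rw [← specializes_iff_mem_closure, ← hio.specializes_iff, Scheme.Hom.fiberι_asFiber]
        exact hz.symm ▸ hspec
      · rw [← specializes_iff_mem_closure, ← hio.specializes_iff] at hz'
        refine (f.fiberι (f.base x)).isEmbedding.injective ?_
        rw [hz]
        change (f.fiberι (f.base x)).base z' ⤳ (f.fiberι (f.base x)).base z at hz'
        rw [show (f.fiberι (f.base x)).base z = ζ from hz] at hz'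
        obtain ⟨⟨M, hM⟩, hMeq⟩ : (f.fiberι (f.base x)).base z' ∈ Set.range hV.fromSpec := by
          rw [hV.range_fromSpec]; exact hz'.mem_open V.isOpen hζV
        rw [← hMeq] at hz'
        have hMq : M ≤ q := (PrimeSpectrum.le_iff_specializes (⟨M, hM⟩ : PrimeSpectrum Γ(X, V)) ⟨q, inferInstance⟩).2
          (hV.fromSpec.isOpenEmbedding.isInducing.specializes_iff.1 hz')
        have hMy : f.base (hV.fromSpec ⟨M, hM⟩) = f.base x := by
          rw [hMeq]
          exact (f.range_fiberι (f.base x)).le ⟨z', rfl⟩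
        have hMA : M.comap (algebraMap Γ(Y, U) Γ(X, V)) = p := by
          have e₂ := IsAffineOpen.SpecMap_appLE_fromSpec f hU hV hVU
          have h3 : hU.fromSpec (PrimeSpectrum.comap (f.appLE U V hVU).hom ⟨M, hM⟩) =
              hU.fromSpec (hU.primeIdealOf ⟨f.base x, hVU hxV⟩) :=
            ((congr($e₂ ⟨M, hM⟩) : _).trans hMy).trans (hU.fromSpec_primeIdealOf ⟨f.base x, hVU hxV⟩).symm
          exact congrArg PrimeSpectrum.asIdeal (hU.fromSpec.isOpenEmbedding.injective h3)
        have : M = q := le_antisymm hMq (hqmin.2 ⟨hM, Ideal.map_le_iff_le_comap.2 hMA.ge⟩ hMq)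
        subst this
        exact hMeq.symm
  letI := Localization.AtPrime.algebraOfLiesOver p qx
  haveI : Module.Flat (Localization.AtPrime p) (Localization.AtPrime qx) :=
    (Module.flat_iff_of_isLocalization (Localization.AtPrime p) p.primeCompl _).2 inferInstance
  refine (RingHom.Flat.respectsIso.arrow_mk_iso_iff (IsAffineOpen.arrowStalkMapIso f U hU V hV hVU hxV)).2 ?_
  exact RingHom.flat_algebraMap_iff.2 (inferInstance : Module.Flat (Localization.AtPrime p) (Localization.AtPrime qx))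

end Groth.Agent.S2561
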