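import Groth.Statements.S1728
import Groth.Agent.InjHull.Basic

set_option autoImplicit false
universe u
open InjHull

namespace Groth.Agent.S1728

/-- Let I be an injective R-module and E a submodule of I. Then E is an injective module if and only if
every submodule E' of I containing E, such that every nonzero submodule of E' meets E nontrivially,
is equal to E. -/
theorem result (R : Type u) [CommRing R] (I : Type u) [AddCommGroup I] [Module R I] [Module.Injective R I] (E : Submodule R I) : Module.Injective R E ↔ ∀ E' : Submodule R I, E ≤ E' → (∀ N : Submodule R I, N ≤ E' → N ≠ ⊥ → N ⊓ E ≠ ⊥) → E' = E := by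
  constructor
  · intro hE E' hle hess
    refine le_antisymm (fun x hx => ?_) hle
    obtain ⟨r, hr⟩ := InjHullBasic.exists_extend hE E.injective_subtype LinearMap.id
    have hr' : ∀ e : E, r e = e := fun e => LinearMap.congr_fun hr e
    by_contra hxE
    refine hess (E' ⊓ LinearMap.ker r) inf_le_left ?_ ?_
    · rw [Submodule.ne_bot_iff]
      refine ⟨x - (r x : I), ⟨E'.sub_mem hx (hle (r x).2), ?_⟩, fun h => ?_⟩
      · simp [hr']
      · exact hxE (by rw [sub_eq_zero.mp h]; exact (r x).2)
    · rw [eq_bot_iff]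
      rintro y ⟨⟨-, hy⟩, hyE⟩
      have h0 := hr' ⟨y, hyE⟩
      rw [show r y = 0 from hy] at h0
      exact Submodule.mem_bot R |>.mpr (congrArg Subtype.val h0).symm
  · intro hmax
    obtain ⟨C, hC⟩ : ∃ C : Submodule R I, Maximal (fun C => Disjoint C E) C := by
      obtain ⟨C, -, hC⟩ := zorn_le_nonempty₀ {C : Submodule R I | Disjoint C E}
        (fun c hc hchain y hy => ⟨sSup c, by
          rw [Set.mem_setOf_eq, Submodule.disjoint_def]
          intro x hx hxE
          obtain ⟨z, hz, hxz⟩ := (Submodule.mem_sSup_of_directed ⟨y, hy⟩ hchain.directedOn).mp hx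
          exact Submodule.disjoint_def.mp (hc hz) x hxz hxE, fun z hz => le_sSup hz⟩) ⊥ disjoint_bot_left
      exact ⟨C, hC⟩
    let ψ₀ : E →ₗ[R] I ⧸ C := C.mkQ ∘ₗ E.subtype
    have hψ₀ : InjHull.IsEssentialInj ψ₀ := by
      refine ⟨fun a b hab => ?_, fun N hN hbot => ?_⟩
      · have : (a : I) - b ∈ C := (Submodule.Quotient.eq C).mp hab
        exact Subtype.ext (sub_eq_zero.mp (Submodule.disjoint_def.mp hC.prop _ this
          (E.sub_mem a.2 b.2)))
      · apply hN
        have hd : Disjoint (N.comap C.mkQ) E := by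
          rw [Submodule.disjoint_def]
          intro x hx hxE
          have : C.mkQ x ∈ N ⊓ LinearMap.range ψ₀ := ⟨hx, ⟨x, hxE⟩, rfl⟩
          rw [hbot, Submodule.mem_bot, Submodule.mkQ_apply, Submodule.Quotient.mk_eq_zero] at this
          exact Submodule.disjoint_def.mp hC.prop x this hxE
        have hle : N.comap C.mkQ = C :=
          le_antisymm (hC.le_of_ge hd (Submodule.le_comap_mkQ C N)) (Submodule.le_comap_mkQ C N)
        rw [← Submodule.map_comap_eq_of_surjective C.mkQ_surjective N, hle, Submodule.mkQ_map_self]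
    obtain ⟨ψ, hψ⟩ := InjHullBasic.exists_extend ‹Module.Injective R I› hψ₀.injective E.subtype
    have hψ' : ∀ e : E, ψ (ψ₀ e) = e := fun e => LinearMap.congr_fun hψ e
    have hinj : Function.Injective ψ :=
      InjHullBasic.injective_of_comp_injective hψ₀ ψ (hψ ▸ E.injective_subtype)
    have hrange : LinearMap.range ψ = E := by
      refine hmax _ (fun e he => ⟨ψ₀ ⟨e, he⟩, hψ' ⟨e, he⟩⟩) fun N hN hne hbot => ?_
      have : N.comap ψ ≠ ⊥ := fun h => hne (by
        rw [← inf_eq_right.mpr hN, ← Submodule.map_comap_eq, h, Submodule.map_bot])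
      obtain ⟨y, hy, hy0⟩ := Submodule.exists_mem_ne_zero_of_ne_bot (hψ₀.essential _ this)
      obtain ⟨hyN, e, rfl⟩ := Submodule.mem_inf.mp hy
      have : ψ (ψ₀ e) ∈ N ⊓ E := ⟨hyN, by rw [hψ']; exact e.2⟩
      rw [hbot, Submodule.mem_bot] at this
      exact hy0 (hinj (by rw [this, map_zero]))
    exact InjHullBasic.injective_of_retraction ‹Module.Injective R I› E.subtype
      ((ψ ∘ₗ C.mkQ).codRestrict E fun x => hrange ▸ ⟨_, rfl⟩)
      (fun e => Subtype.ext (hψ' e))

end Groth.Agent.S1728
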