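import Groth.Statements.S5155
import Groth.Agent.MatlisLib.Local

set_option autoImplicit false
universe u
open Matlis

namespace Groth.Agent.S5155

/-- Let A be a Noetherian local ring with residue field k. An A-module E is an injective hull of k if
and only if E is injective, E is m-power torsion, and Hom_A(k, E) is simple (one-dimensional over
k). (The torsion condition is needed: for a prime p ≠ m the module E(k) ⊕ E(A/p) is injective with
Hom_A(k, −) simple, represents the same functor on modules of finite length, and is not an injective
hull of k; the published definition of a dualizing module leaves this condition implicit and the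
published proof uses it.) -/
theorem result (A : Type u) [CommRing A] [IsLocalRing A] [IsNoetherianRing A] (E : Type u) [AddCommGroup E] [Module A E] : (∃ f : IsLocalRing.ResidueField A →ₗ[A] E, InjHull.IsInjectiveHull f) ↔ (Module.Injective A E ∧ LocCoh.IsPowerTorsion (IsLocalRing.maximalIdeal A) E ∧ IsSimpleModule A (IsLocalRing.ResidueField A →ₗ[A] E)) := by
  haveI hk : IsSimpleModule A (A ⧸ IsLocalRing.maximalIdeal A) :=
    isSimpleModule_iff_isCoatom.2 (Ideal.isMaximal_def.1 inferInstance)
  constructor
  · rintro ⟨f, hf⟩
    refine ⟨hf.isInjective, MatlisLib.isPowerTorsion hf, Module.length_eq_one_iff.1 ?_⟩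
    exact (MatlisLib.length_dual_quotient (m := IsLocalRing.maximalIdeal A) hf).trans
      (Module.length_eq_one A _)
  · rintro ⟨hinj, hT, hsimple⟩
    haveI : Module.Injective A E := hinj
    haveI := IsSimpleModule.nontrivial A (IsLocalRing.ResidueField A →ₗ[A] E)
    obtain ⟨φ, hφ⟩ := exists_ne (0 : IsLocalRing.ResidueField A →ₗ[A] E)
    have hinjφ : Function.Injective φ := (injective_iff_map_eq_zero φ).2 fun x hx => by
      by_contra h0
      refine hφ (LinearMap.ext fun y => ?_)
      obtain ⟨c, hc⟩ := Ideal.Quotient.mk_surjective (y * x⁻¹)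
      have hy : y = c • x := by
        rw [Algebra.smul_def, IsLocalRing.ResidueField.algebraMap_eq]
        exact ((inv_mul_cancel_right₀ h0 y).symm.trans (by rw [← hc]; rfl))
      rw [hy, map_smul, hx, smul_zero, LinearMap.zero_apply]
    refine ⟨φ, MatlisLib.isInjectiveHull_iff.2 ⟨hinjφ, hinj, fun x hx => ?_⟩⟩
    obtain ⟨r, hr0, hr⟩ := MatlisLib.exists_socle_multiple hT hx
    refine ⟨r, hr0, ?_⟩
    let ψ : IsLocalRing.ResidueField A →ₗ[A] E :=
      Submodule.liftQ (IsLocalRing.maximalIdeal A) (LinearMap.toSpanSingleton A E (r • x))
        fun a ha => hr a ha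
    obtain ⟨c, hc⟩ := IsSimpleModule.toSpanSingleton_surjective A hφ ψ
    refine ⟨c • (1 : IsLocalRing.ResidueField A), ?_⟩
    have h1 := LinearMap.congr_fun hc 1
    rw [LinearMap.toSpanSingleton_apply, LinearMap.smul_apply] at h1
    rw [map_smul, h1]
    exact one_smul A (r • x)

end Groth.Agent.S5155
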