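import Groth.Statements.S19754
import Groth.Agent.SegreDim.SegreCor

set_option autoImplicit false
universe u
open scoped TensorProduct
open GrSegre

namespace Groth.Agent.S19754

open Groth.Agent.SegreDim

/-- Let R and S be graded rings defined over a field k, T = R # S, M a finitely generated graded
Cohen–Macaulay R-module of dimension r ≥ 1 and N a finitely generated graded Cohen–Macaulay S-module
of dimension s ≥ 1. Then either M # N = 0 or dim (M # N) = r + s − 1. The letters r and s stand here
for the dimensions of the modules M and N themselves and are not assumed to equal dim R and dim S;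
the proof by homogeneous parameter systems of M and N establishes this general form. Here a graded
ring defined over k is a commutative k-algebra of finite type, graded in nonnegative degrees by
k-subspaces with degree-zero part k·1; the Segre product T = R # S = ⊕_n R_n ⊗_k S_n is presented
abstractly as a graded k-algebra T with an injective k-algebra homomorphism ψ : T → R ⊗_k S carrying
T_n onto the k-span of the elementary tensors a ⊗ b with a ∈ R_n, b ∈ S_n; the Segre product M # N =
⊕_n M_n ⊗_k N_n of a graded R-module M and a graded S-module N is presented abstractly as a graded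
T-module P with an injective k-linear map φ : P → M ⊗_k N carrying P_n onto the k-span of the
tensors x ⊗ y with x ∈ M_n, y ∈ N_n and turning the action of t ∈ T into that of ψ(t) (acting
factorwise on M ⊗_k N); a module over a ring is called Cohen–Macaulay when each of its localizations
at a prime ideal is zero or a Cohen–Macaulay module over the local ring (dimension of the support
equal to the depth), and the dimension of a module is the Krull dimension of its support. -/
theorem result (k : Type u) [Field k] (R : Type u) [CommRing R] [Algebra k R] (𝒜 : ℤ → Submodule k R) [GradedAlgebra 𝒜] (hposR : ∀ n : ℤ, n < 0 → 𝒜 n = ⊥) (h0R : 𝒜 0 = Submodule.span k {(1 : R)}) [Algebra.FiniteType k R] (S : Type u) [CommRing S] [Algebra k S] (ℬ : ℤ → Submodule k S) [GradedAlgebra ℬ] (hposS : ∀ n : ℤ, n < 0 → ℬ n = ⊥) (h0S : ℬ 0 = Submodule.span k {(1 : S)}) [Algebra.FiniteType k S] (T : Type u) [CommRing T] [Algebra k T] (𝒯 : ℤ → Submodule k T) [GradedAlgebra 𝒯] (ψ : T →ₐ[k] TensorProduct k R S) (hT : GrSeg.IsSegreRing 𝒜 ℬ 𝒯 ψ) (M :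 Type u) [AddCommGroup M] [Module R M] [Module k M] [IsScalarTower k R M] (ℳ : ℤ → AddSubgroup M) [DirectSum.Decomposition ℳ] [SetLike.GradedSMul 𝒜 ℳ] [Module.Finite R M] (N : Type u) [AddCommGroup N] [Module S N] [Module k N] [IsScalarTower k S N] (𝒩 : ℤ → AddSubgroup N) [DirectSum.Decomposition 𝒩] [SetLike.GradedSMul ℬ 𝒩] [Module.Finite S N] (P : Type u) [AddCommGroup P] [Module T P] [Module k P] [IsScalarTower k T P] (𝒬 : ℤ → AddSubgroup P) [DirectSum.Decomposition 𝒬] (φ : P →ₗ[k] TensorProduct k M N) (hP : GrSeg.IsSegreMod ψ ℳ 𝒩 𝒬 φ) (r s : ℕ) (h1r : 1 ≤ r) (h1s : 1 ≤ s) (hdM : Module.supportDim R M = r) (hdN : Module.supportDim S N = s) (hMcm : (∀ (q : Ideal R) [q.IsPrime], Subsingleton (LocalizedModule q.primeCompl M) ∨ LocCoh.IsCohenMacaulayModule (Localization.AtPrime q) (LocalizedModule q.primeCompl M))) (hNcm : (∀ (q : Ideal S) [q.IsPrime], Subsingleton (LocalizedModule q.primeCompl N) ∨ LocCoh.IsCohenMacaulayModule (Localization.AtPrime q) (LocalizedModule q.primeCompl N))) : Module.supportDim T P = ((r + s - 1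 : ℕ) : WithBot ℕ∞) ∨ Subsingleton P := by
  classical
  have hA : IsStd 𝒜 := ⟨hposR, h0R⟩
  have hB : IsStd ℬ := ⟨hposS, h0S⟩
  obtain ⟨D, f, g, X, Y, hD, hf, hg, hX, hY, hXs, hYs⟩ :=
    exists_common_params (ℳ := ℳ) (𝒩 := 𝒩) (M := M) (N := N) hA hB r s
      (fun l hl _ => length_le_of_supportDim hdM l hl) (fun l hl _ => length_le_of_supportDim hdN l hl)
  by_cases hex : ∃ (n : ℤ) (x : M) (y : N), x ∈ ℳ n ∧ y ∈ 𝒩 n ∧ x ≠ 0 ∧ y ≠ 0
  · left
    obtain ⟨n, x, y, hx, hy, hx0, hy0⟩ := hex
    have hxn := nonTors_of_cohenMacaulay hA hdM hMcm hXs hx hx0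
    have hyn := nonTors_of_cohenMacaulay hB hdN hNcm hYs hy hy0
    obtain ⟨r, rfl⟩ : ∃ r', r = r' + 1 := ⟨r - 1, by omega⟩
    obtain ⟨s, rfl⟩ : ∃ s', s = s' + 1 := ⟨s - 1, by omega⟩
    rw [supportDim_segreMod ψ φ hT hP hD hf hg hX hY hXs hYs hx hxn hy hyn]
    rw [show r + 1 + (s + 1) - 1 = r + s + 1 by omega]
  · right
    push Not at hex
    refine subsingleton_of_forall_eq 0 fun p => hP.injective ?_
    rw [map_zero]
    induction p using DirectSum.Decomposition.inductionOn 𝒬 with
    | zero => simp
    | add x y hx hy => rw [map_add, hx, hy, add_zero]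
    | @homogeneous n q =>
      have h : φ q ∈ (GrSeg.segrePiece k ℳ 𝒩 n : Set (M ⊗[k] N)) :=
        hP.image_piece n ▸ Set.mem_image_of_mem φ q.2
      have hle : GrSeg.segrePiece k ℳ 𝒩 n ≤ ⊥ := by
        rw [GrSeg.segrePiece, Submodule.span_le]
        rintro _ ⟨x, hx, y, hy, rfl⟩
        rcases eq_or_ne x 0 with rfl | hx0
        · simp
        · simp [hex n x y hx hy hx0]
      exact (Submodule.mem_bot k).1 (hle h)

end Groth.Agent.S19754
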