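import Groth.Statements.S18656
import Mathlib
import Groth.Agent.GrInj.TopDim
import Groth.Agent.GrInj.FreeReg
-- import your own Groth.Agent.* helpers here

set_option autoImplicit false
universe u
open GrLC

namespace Groth.Agent.S18656

open Groth.Agent.GrInj in
theorem van_top {R : Type u} [CommRing R] [IsNoetherianRing R] {𝒜 : ℤ → AddSubgroup R} [GradedRing 𝒜]
    {a : HomogeneousIdeal 𝒜} (hhom : a.toIdeal = Ideal.span ((𝒜 1 : AddSubgroup R) : Set R)) {r : ℕ}
    (hr : ringKrullDim R = r) (h1 : 1 ≤ r) {n : ℤ} (h : Van a r n (selfMod 𝒜)) (t : ℕ) :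
    Van a r (n + t) (selfMod 𝒜) := by
  refine van_of_van hhom h1 (r := r + n - 1) (fun k m hk hm => ?_) t r (n + t) le_rfl (by omega)
  rcases eq_or_lt_of_le hk with rfl | hlt
  · rwa [show m = n by omega]
  · intro E
    haveI := subsingleton_H_above hr E a hlt
    exact Submodule.eq_bot_of_subsingleton

/-- Let R be a graded ring defined over a field k = R_0, generated over k by R_1, of dimension r ≥ 1,
and let a(R) be its a-invariant. Then the homogeneous piece H^r_m(R)_n is nonzero for every n ≤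
a(R). Here 'graded ring defined over a field' means R = ⊕_{n ≥ 0} R_n is Noetherian with R_0 a
field, and m = R_+ is its unique graded maximal ideal. The a-invariant a(R) is the largest degree in
which the graded local cohomology H^n_m(R) (n = dim R, m = R_+), computed from a *injective
resolution of R in the graded category, is nonzero. -/
theorem result (R : Type u) [CommRing R] [IsNoetherianRing R] (𝒜 : ℤ → AddSubgroup R) [GradedRing 𝒜] (hpos : ∀ n : ℤ, n < 0 → 𝒜 n = ⊥) (h0 : IsField (GrLC.deg0 𝒜)) (m : HomogeneousIdeal 𝒜) (hm : GrLC.IsStarLocal 𝒜 m) (hmsp : m.toIdeal = Ideal.span (⋃ n ∈ Set.Ioi (0 : ℤ), (𝒜 n : Set R))) (hstd : Ideal.span (⋃ n ∈ Set.Ioi (0 : ℤ), (𝒜 n : Set R)) = Ideal.span ((𝒜 1 : AddSubgroup R) : Set R)) (r : ℕ) (hr : ringKrullDim R = r) (h1 : 1 ≤ r) (I : GrLC.StarInjRes 𝒜 𝒜) (a : ℤ) (ha : GrLC.endDeg (I.Hgr m r) = ((a : WithTop ℤ) : WithBot (WithTop ℤ))) (n : ℤ) (hn : n ≤ a) : I.Hcomp m r n ≠ ⊥ := by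
  intro hbot
  have hv : GrInj.Van m r n (GrInj.selfMod 𝒜) := GrInj.van_of_res I hbot
  have hle : GrLC.endDeg (I.Hgr m r) ≤ (((n - 1 : ℤ) : WithTop ℤ) : WithBot (WithTop ℤ)) :=
    iSup₂_le fun g hg => WithBot.coe_le_coe.2 (WithTop.coe_le_coe.2 (by
      by_contra h
      obtain ⟨t, ht⟩ : ∃ t : ℕ, g = n + t := ⟨(g - n).toNat, by omega⟩
      apply hg
      show (I.Hcomp m r g).toAddSubgroup = ⊥
      refine eq_bot_iff.2 fun c hc => AddSubgroup.mem_bot.2 ?_
      have hb := van_top (hmsp.trans hstd) hr h1 hv t I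
      exact (Submodule.mem_bot _).1 (hb.le (ht ▸ hc))))
  rw [ha] at hle
  have := WithTop.coe_le_coe.1 (WithBot.coe_le_coe.1 hle)
  omega

end Groth.Agent.S18656
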