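import Groth.Statements.S18651
import Mathlib
import Groth.Agent.GrInj.Socle
import Groth.Agent.GrInj.StarLoc
import Groth.Agent.GrInj.Conv
import Groth.Agent.FlatDescent.Slicing.Open
import Groth.Agent.DepthLib.Basic
-- import your own Groth.Agent.* helpers here

set_option autoImplicit false
universe u
attribute [local instance] MvPolynomial.weightedGradedAlgebra
open GrLC

namespace Groth.Agent.S18651

section
open Groth.Agent.GrInj GrLC

theorem main {R : Type u} [CommRing R] [IsNoetherianRing R] {𝒜 : ℤ → AddSubgroup R} [GradedRing 𝒜]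
    {a : HomogeneousIdeal 𝒜} (hpos : ∀ n : ℤ, n < 0 → 𝒜 n = ⊥)
    (ha : a.toIdeal = Ideal.span (⋃ n ∈ Set.Ioi (0 : ℤ), (𝒜 n : Set R))) (h0 : IsField (GrLC.deg0 𝒜))
    {C : Type u} [AddCommGroup C] [Module R C] [Module.Finite R C] {𝒞 : ℤ → AddSubgroup C}
    [DirectSum.Decomposition 𝒞] [SetLike.GradedSMul 𝒜 𝒞]
    {E' : Type u} [AddCommGroup E'] [Module R E'] {𝓔 : ℤ → AddSubgroup E'} {ε₀ : E'} (hε0 : ε₀ ∈ 𝓔 0)
    (hεne : ε₀ ≠ 0) (hεk : ∀ s ∈ a.toIdeal, s • ε₀ = 0)
    {H : Type u} [AddCommGroup H] [Module R H] {ℋ : ℤ → AddSubgroup H} (φ : (C →ₗ[R] E') ≃ₗ[R] H)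
    (hφ : ∀ (j : ℤ) (lam : C →ₗ[R] E'), (∀ (g : ℤ) (x : C), x ∈ 𝒞 g → lam x ∈ 𝓔 (g + j)) → φ lam ∈ ℋ j)
    (hscal : ∀ c : GrLC.deg0 𝒜, (c : R) • ε₀ ∈ 𝓔 0) (hr0 : ∀ r ∈ a.toIdeal, GrInj.pr 𝒜 0 r = 0)
    {d : ℤ} (hsoc : OneSoc a ℋ (-d)) (hann : ∀ g, ∀ s ∈ 𝒜 g, (∀ c : H, s • c = 0) → s = 0) :
    ∃ f : R →ₗ[R] C, Function.Bijective f ∧ ∀ g, ∀ s ∈ 𝒜 g, f s ∈ 𝒞 (g + d) := by
  classical
  letI := h0.toField
  let X : GMod.{u} 𝒜 := GMod.of 𝒜 C 𝒞
  let Q : Submodule R C := a.toIdeal • ⊤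
  have hsmulk : ∀ s ∈ a.toIdeal, ∀ y : C, s • y ∈ Q := fun s hs y => Submodule.smul_mem_smul hs Submodule.mem_top
  -- functionals on a piece give socle elements
  have hlam : ∀ (j : ℤ) (ℓ : GrLC.comp 𝒜 𝒞 j →ₗ[GrLC.deg0 𝒜] GrLC.deg0 𝒜),
      (∀ y : GrLC.comp 𝒜 𝒞 j, (y : C) ∈ Q → ℓ y = 0) → ∃ lam : C →ₗ[R] E',
        φ lam ∈ ℋ (-j) ∧ (∀ s ∈ a.toIdeal, s • φ lam = 0) ∧ ∀ y : GrLC.comp 𝒜 𝒞 j, lam y = (ℓ y : R) • ε₀ := by
    intro j ℓ hℓ
    let P : C → GrLC.comp 𝒜 𝒞 j := fun y => ⟨GrInj.pr 𝒞 j y, GrInj.pr_mem j y⟩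
    have hPadd : ∀ x y, P (x + y) = P x + P y := fun x y => Subtype.ext (map_add _ x y)
    have hsm : ∀ (r : R) (y : C), (ℓ (P (r • y)) : R) • ε₀ = r • ((ℓ (P y) : R) • ε₀) := by
      intro r y
      induction r using GrInj.induction 𝒜 generalizing y with
      | h0 =>
        have : P ((0 : R) • y) = 0 := Subtype.ext (by show GrInj.pr 𝒞 j ((0 : R) • y) = 0; rw [zero_smul, map_zero])
        rw [this, map_zero, zero_smul]
        exact zero_smul R ε₀
      | hh i r hr =>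
        rcases eq_or_ne i 0 with rfl | hi
        · have : P (r • y) = (⟨r, hr⟩ : GrLC.deg0 𝒜) • P y := Subtype.ext (by
            show GrInj.pr 𝒞 j (r • y) = r • GrInj.pr 𝒞 j y
            rw [GrInj.pr_smul' hr, sub_zero])
          rw [this, map_smul, smul_smul]
          rfl
        · have hra := GrInj.mem_a a hpos ha hi hr
          have h1 : ℓ (P (r • y)) = 0 := hℓ _ (by
            show GrInj.pr 𝒞 j (r • y) ∈ Q
            rw [GrInj.pr_smul' hr]; exact hsmulk r hra _)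
          rw [h1, smul_smul, mul_comm, ← smul_smul, hεk r hra, smul_zero]
          exact zero_smul R ε₀
      | hadd p q hp hq =>
        rw [add_smul, hPadd, map_add, add_smul, ← hp, ← hq, ← add_smul]
        rfl
    let lam : C →ₗ[R] E' :=
      { toFun := fun y => (ℓ (P y) : R) • ε₀
        map_add' := fun x y => by rw [hPadd, map_add, ← add_smul]; rfl
        map_smul' := hsm }
    refine ⟨lam, hφ _ lam fun g x hx => ?_, fun s hs => ?_, fun y => ?_⟩
    · rcases eq_or_ne g j with rfl | hg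
      · rw [add_neg_cancel]
        show (ℓ (P x) : R) • ε₀ ∈ 𝓔 0
        obtain ⟨c, hc⟩ : ∃ c : GrLC.deg0 𝒜, ℓ (P x) = c := ⟨_, rfl⟩
        rw [hc]
        exact hscal c
      · show (ℓ (P x) : R) • ε₀ ∈ 𝓔 (g + -j)
        rw [show P x = 0 from Subtype.ext (GrInj.pr_of_ne hx hg), map_zero]
        rw [show ((0 : GrLC.deg0 𝒜) : R) • ε₀ = 0 from zero_smul R ε₀]
        exact zero_mem _
    · rw [← map_smul, show s • lam = 0 from LinearMap.ext fun y => by
        show s • ((ℓ (P y) : R) • ε₀) = 0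
        rw [smul_comm, hεk s hs, smul_zero], map_zero]
    · show (ℓ (P y) : R) • ε₀ = _
      rw [show P y = y from Subtype.ext (GrInj.pr_of_mem y.2)]
  have hε1 : ∀ c : GrLC.deg0 𝒜, (c : R) • ε₀ = 0 → c = 0 := fun c hc => by
    by_contra hne
    obtain ⟨t, ht⟩ := h0.mul_inv_cancel hne
    refine hεne ?_
    rw [← one_smul R ε₀, ← show (c : R) * (t : R) = 1 from congrArg Subtype.val ht, mul_comm, mul_smul, hc, smul_zero]
  -- the homogeneous parts of `Q`
  let WQ : ∀ j, Submodule (GrLC.deg0 𝒜) (GrLC.comp 𝒜 𝒞 j) := fun j =>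
    (Q.restrictScalars (GrLC.deg0 𝒜)).comap (GrLC.comp 𝒜 𝒞 j).subtype
  have houtside : ∀ j, j ≠ d → ∀ y ∈ 𝒞 j, y ∈ Q := by
    intro j hj y hy
    by_contra hyQ
    obtain ⟨ℓ, hℓy, hℓ⟩ := Submodule.exists_dual_map_eq_bot_of_notMem
      (p := WQ j) (x := (⟨y, hy⟩ : GrLC.comp 𝒜 𝒞 j)) hyQ inferInstance
    obtain ⟨lam, h1, h2, h3⟩ := hlam j ℓ fun z hz => by
      have := hℓ.le (Submodule.mem_map_of_mem (f := ℓ) (show z ∈ WQ j from hz))
      exact (Submodule.mem_bot _).1 this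
    have hne : φ lam ≠ 0 := fun h => hℓy (hε1 _ (by
      rw [← h3, (φ.map_eq_zero_iff).1 h]; rfl))
    have := hsoc.1 _ _ h1 h2 hne
    omega
  -- a graded Nakayama lemma
  have hnak : ∀ P : Submodule R C, (∀ j, ∀ y ∈ 𝒞 j, ∃ p ∈ P, y - p ∈ Q) →
      (∀ j, ∀ p ∈ P, GrInj.pr 𝒞 j p ∈ P) → P = ⊤ := by
    intro P hPQ hPh
    haveI : Module.Finite R X.carrier := inferInstanceAs (Module.Finite R C)
    obtain ⟨D, hD⟩ := GrInj.exists_lower_bound hpos X
    refine eq_top_iff.2 fun x _ => ?_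
    have key : ∀ t : ℕ, ∀ j, j < D + t → ∀ y ∈ 𝒞 j, y ∈ P := by
      intro t
      induction t with
      | zero => intro j hj y hy; rw [show y = 0 from hD j (by simpa using hj) y hy]; exact zero_mem _
      | succ t ih =>
        intro j hj y hy
        obtain ⟨p, hp, hq⟩ := hPQ j y hy
        have hpr : GrInj.pr 𝒞 j (y - p) ∈ P := by
          refine Submodule.smul_induction_on (p := fun z => GrInj.pr 𝒞 j z ∈ P) hq (fun r hr z _ => ?_)
            fun u v hu hv => by rw [map_add]; exact add_mem hu hv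
          rw [← GrInj.sum_supp (ℳ := 𝒜) r, Finset.sum_smul, map_sum]
          refine sum_mem fun i _ => ?_
          rw [GrInj.pr_smul' (GrInj.pr_mem (ℳ := 𝒜) i r)]
          rcases lt_trichotomy i 0 with hi | rfl | hi
          · rw [AddSubgroup.mem_bot.1 ((hpos i hi).le (GrInj.pr_mem (ℳ := 𝒜) i r)), zero_smul]
            exact zero_mem _
          · rw [hr0 r hr, zero_smul]; exact zero_mem _
          · exact P.smul_mem _ (ih (j - i) (by push_cast at hj; omega) _ (GrInj.pr_mem _ z))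
        rw [map_sub, GrInj.pr_of_mem hy] at hpr
        simpa using add_mem hpr (hPh j p hp)
    induction x using GrInj.induction 𝒞 with
    | h0 => exact zero_mem _
    | hh i m hm => exact key (i - D + 1).toNat i (by omega) m hm
    | hadd p q hp hq => exact add_mem (hp trivial) (hq trivial)
  have hCne : ∃ x : C, x ≠ 0 := by
    obtain ⟨c, -, hc0, -⟩ := hsoc.2.1
    by_contra h
    push Not at h
    exact hc0 (by rw [← φ.apply_symm_apply c, show φ.symm c = 0 from LinearMap.ext fun x => by rw [h x, map_zero, map_zero], map_zero])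
  obtain ⟨x, hxd, hxQ⟩ : ∃ x ∈ 𝒞 d, x ∉ Q := by
    by_contra h
    push Not at h
    obtain ⟨y, hy⟩ := hCne
    refine hy ?_
    have := hnak ⊥ (fun j y hy => ⟨0, zero_mem _, by
      rw [sub_zero]
      rcases eq_or_ne j d with rfl | hj
      exacts [h y hy, houtside j hj y hy]⟩) fun j p hp => by rw [(Submodule.mem_bot R).1 hp, map_zero]; exact zero_mem _
    exact (Submodule.mem_bot R).1 (this.symm ▸ Submodule.mem_top)
  have hd' : ∀ y ∈ 𝒞 d, ∃ p ∈ Submodule.span R {x}, y - p ∈ Q := by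
    intro y hy
    let xc : GrLC.comp 𝒜 𝒞 d := ⟨x, hxd⟩
    let yc : GrLC.comp 𝒜 𝒞 d := ⟨y, hy⟩
    by_contra hno
    have hy' : yc ∉ WQ d ⊔ Submodule.span (GrLC.deg0 𝒜) {xc} := fun h => by
      obtain ⟨p, hp, q, hq, hpq⟩ := Submodule.mem_sup.1 h
      obtain ⟨r, rfl⟩ := Submodule.mem_span_singleton.1 hq
      refine hno ⟨(r : R) • x, Submodule.smul_mem _ _ (Submodule.mem_span_singleton_self x), ?_⟩
      have h' : (p : C) + (r : R) • x = y := congrArg Subtype.val hpq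
      rw [← h', add_sub_cancel_right]
      exact hp
    obtain ⟨ℓ', hℓ'y, hℓ'⟩ := Submodule.exists_dual_map_eq_bot_of_notMem hy' inferInstance
    obtain ⟨ℓ, hℓx, hℓ⟩ := Submodule.exists_dual_map_eq_bot_of_notMem (p := WQ d) (x := xc) hxQ inferInstance
    obtain ⟨lam, h1, h2, h3⟩ := hlam d ℓ fun z hz => (Submodule.mem_bot _).1
      (hℓ.le (Submodule.mem_map_of_mem (f := ℓ) (show z ∈ WQ d from hz)))
    obtain ⟨lam', h1', h2', h3'⟩ := hlam d ℓ' fun z hz => (Submodule.mem_bot _).1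
      (hℓ'.le (Submodule.mem_map_of_mem (f := ℓ') (Submodule.mem_sup_left (show z ∈ WQ d from hz))))
    have hlx : ℓ' xc = 0 := (Submodule.mem_bot _).1
      (hℓ'.le (Submodule.mem_map_of_mem (f := ℓ') (Submodule.mem_sup_right (Submodule.mem_span_singleton_self xc))))
    have hne' : φ lam' ≠ 0 := fun h => hℓ'y (hε1 _ (by rw [← h3', (φ.map_eq_zero_iff).1 h]; rfl))
    obtain ⟨r, -, hr⟩ := hsoc.2.2 _ h1' _ h1 h2' h2 hne'
    rw [← map_smul] at hr
    have h5 := congrArg (fun L : C →ₗ[R] E' => L xc) (φ.injective hr)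
    simp only [LinearMap.smul_apply, h3, h3'] at h5
    rw [hlx, show ((0 : GrLC.deg0 𝒜) : R) • ε₀ = 0 from zero_smul R ε₀, smul_zero] at h5
    exact hℓx (hε1 _ h5)
  have hgen : Submodule.span R {x} = ⊤ := hnak _ (fun j y hy => by
    rcases eq_or_ne j d with rfl | hj
    · exact hd' y hy
    · exact ⟨0, zero_mem _, by rw [sub_zero]; exact houtside j hj y hy⟩) fun j p hp =>
      GrInj.hom_span_singleton 𝒜 hxd j hp
  refine ⟨LinearMap.toSpanSingleton R C x, ⟨(injective_iff_map_eq_zero _).2 fun s hs => ?_, fun y => ?_⟩, fun g s hs => ?_⟩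
  · refine GrInj.eq_zero_of_pr (ℳ := 𝒜) fun g => ?_
    have hsg : GrInj.pr 𝒜 g s • x = 0 := by
      have h1 := congrArg (GrInj.pr 𝒞 (g + d)) (show s • x = 0 from hs)
      rw [map_zero, ← GrInj.sum_supp (ℳ := 𝒜) s, Finset.sum_smul, map_sum] at h1
      rw [Finset.sum_eq_single g (fun i _ hi => GrInj.pr_of_ne
        (GrInj.smul_mem_gr (GrInj.pr_mem (ℳ := 𝒜) i s) hxd) (by omega)) (fun h => by rw [GrInj.pr_eq_zero h, zero_smul, map_zero]),
        GrInj.pr_of_mem (GrInj.smul_mem_gr (GrInj.pr_mem (ℳ := 𝒜) g s) hxd)] at h1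
      exact h1
    refine hann g _ (GrInj.pr_mem g s) fun c => ?_
    rw [← φ.apply_symm_apply c, ← map_smul]
    refine (congrArg φ (LinearMap.ext fun y => ?_)).trans (map_zero φ)
    obtain ⟨r, rfl⟩ := Submodule.mem_span_singleton.1 (show y ∈ Submodule.span R {x} by rw [hgen]; trivial)
    show GrInj.pr 𝒜 g s • φ.symm c (r • x) = 0
    rw [← map_smul, smul_comm, hsg, smul_zero, map_zero]
  · obtain ⟨r, rfl⟩ := Submodule.mem_span_singleton.1 (show y ∈ Submodule.span R {x} by rw [hgen]; trivial)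
    exact ⟨r, rfl⟩
  · exact GrInj.smul_mem_gr hs hxd

end

section
open Groth.Agent.GrInj GrLC MvPolynomial

variable {k : Type u} [Field k] {N : ℕ} {w : Fin N → ℤ}

theorem weight_nonneg (hw : ∀ i, 0 < w i) (d : Fin N →₀ ℕ) :
    0 ≤ Finsupp.weight w d ∧ (Finsupp.weight w d = 0 → d = 0) := by
  rw [Finsupp.weight_apply, Finsupp.sum]
  have hn : ∀ i ∈ d.support, 0 ≤ d i • w i := fun i _ => nsmul_nonneg (hw i).le _
  refine ⟨Finset.sum_nonneg hn, fun h => Finsupp.ext fun i => ?_⟩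
  by_contra hi
  have := (Finset.sum_eq_zero_iff_of_nonneg hn).1 h i (Finsupp.mem_support_iff.2 hi)
  rw [nsmul_eq_mul] at this
  rcases mul_eq_zero.1 this with h1 | h1
  · exact hi (by exact_mod_cast h1)
  · exact (hw i).ne' h1

theorem eq_C_of_mem_zero (hw : ∀ i, 0 < w i) {r : MvPolynomial (Fin N) k}
    (hr : r ∈ weightedHomogeneousSubmodule k w 0) : r = C (coeff 0 r) := by
  ext d
  rw [coeff_C]
  split_ifs with h
  · rw [h]
  · by_contra hd
    exact h ((weight_nonneg hw d).2 (hr hd)).symm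

theorem eq_zero_of_mem_neg (hw : ∀ i, 0 < w i) {n : ℤ} (hn : n < 0) {r : MvPolynomial (Fin N) k}
    (hr : r ∈ weightedHomogeneousSubmodule k w n) : r = 0 := by
  ext d
  rw [coeff_zero]
  by_contra hd
  have := (weight_nonneg hw d).1
  have h2 : Finsupp.weight w d = n := hr hd
  omega

theorem span_pos_eq (hw : ∀ i, 0 < w i) :
    Ideal.span (⋃ n ∈ Set.Ioi (0 : ℤ), (weightedHomogeneousSubmodule k w n : Set (MvPolynomial (Fin N) k))) =
      Ideal.span (Set.range X) := by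
  refine le_antisymm (Ideal.span_le.2 ?_) (Ideal.span_le.2 ?_)
  · intro r hr
    simp only [Set.mem_iUnion] at hr
    obtain ⟨n, hn, hr⟩ := hr
    rw [SetLike.mem_coe, ← Groth.FlatDescent.Slicing.ker_constantCoeff, RingHom.mem_ker]
    show coeff 0 r = 0
    by_contra h
    have h2 : Finsupp.weight w (0 : Fin N →₀ ℕ) = n := hr h
    rw [map_zero] at h2
    exact (ne_of_gt (show (0 : ℤ) < n from hn)) h2.symm
  · rintro _ ⟨i, rfl⟩
    exact Ideal.subset_span (Set.mem_biUnion (show w i ∈ Set.Ioi (0 : ℤ) from hw i)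
      (isWeightedHomogeneous_X k w i))

end

/-- Let k be a field and R = k[X_1, …, X_N] the polynomial ring with deg X_i = w_i > 0. Then the
canonical module of R is K_R = X_1 X_2 ⋯ X_N · R ≅ R(−d) with d = w_1 + ⋯ + w_N; stated here as:
there is a bijective R-linear map R → K_R homogeneous of degree d. The canonical module is
represented by a finitely generated graded module C together with a homogeneous isomorphism from
Hom_R(C, E) onto H^N_m(R), where m = R_+, E is a *injective envelope of R/m and H^N_m(R) is computed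
from a *injective resolution of R in the graded category; by graded Matlis duality this says exactly
that C ≅ K_R as graded modules. -/
theorem result (k : Type u) [Field k] (N : ℕ) (w : Fin N → ℤ) (hw : ∀ i, 0 < w i) (m : HomogeneousIdeal (MvPolynomial.weightedHomogeneousSubmodule k w)) (hm : GrLC.IsStarLocal (MvPolynomial.weightedHomogeneousSubmodule k w) m) (hmsp : m.toIdeal = Ideal.span (⋃ n ∈ Set.Ioi (0 : ℤ), (MvPolynomial.weightedHomogeneousSubmodule k w n : Set (MvPolynomial (Fin N) k)))) (I : GrLC.StarInjRes (MvPolynomial.weightedHomogeneousSubmodule k w) (MvPolynomial.weightedHomogeneousSubmodule k w)) (E' : Type u) [AddCommGroup E'] [Module (MvPolynomial (Fin N) k) E'] (𝓔 : ℤ → AddSubgroup E') [DirectSum.Decomposition 𝓔] [SetLike.GradedSMul (MvPolynomial.weightedHomogeneousSubmodule k w) 𝓔] (e : (MvPolynomial (Fin N) k ⧸ m.toIdeal) →ₗ[MvPolynomial (Fin N) k] E') (he : GrLC.IsStarInjHull (MvPolynomial.weightedHomogeneousSubmodule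 k w) (GrLC.quotGr (MvPolynomial.weightedHomogeneousSubmodule k w) m) 𝓔 e) (C : Type u) [AddCommGroup C] [Module (MvPolynomial (Fin N) k) C] (𝒞 : ℤ → AddSubgroup C) [DirectSum.Decomposition 𝒞] [SetLike.GradedSMul (MvPolynomial.weightedHomogeneousSubmodule k w) 𝒞] (hC : GrLC.IsStarCanonical (MvPolynomial.weightedHomogeneousSubmodule k w) 𝒞 𝓔 m N I) : ∃ f : MvPolynomial (Fin N) k →ₗ[MvPolynomial (Fin N) k] C, Function.Bijective f ∧ GrLC.IsGrHomDeg (MvPolynomial.weightedHomogeneousSubmodule k w) 𝒞 f ((Finset.univ : Finset (Fin N)).sum w) := by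
  let 𝒜 := GrInj.Conv.grp (MvPolynomial.weightedHomogeneousSubmodule k w)
  let a : HomogeneousIdeal 𝒜 := GrInj.Conv.ideal (MvPolynomial.weightedHomogeneousSubmodule k w) m
  haveI : SetLike.GradedSMul 𝒜 𝓔 := ⟨fun {i j} r x hr hx =>
    SetLike.GradedSMul.smul_mem (A := (MvPolynomial.weightedHomogeneousSubmodule k w)) (show r ∈ (MvPolynomial.weightedHomogeneousSubmodule k w) i from hr) hx⟩
  haveI : SetLike.GradedSMul 𝒜 𝒞 := ⟨fun {i j} r x hr hx =>
    SetLike.GradedSMul.smul_mem (A := (MvPolynomial.weightedHomogeneousSubmodule k w)) (show r ∈ (MvPolynomial.weightedHomogeneousSubmodule k w) i from hr) hx⟩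
  have hspan : a.toIdeal = Ideal.span (Set.range MvPolynomial.X) := hmsp.trans (span_pos_eq hw)
  have hpos : ∀ n : ℤ, n < 0 → 𝒜 n = ⊥ := fun n hn => (AddSubgroup.eq_bot_iff_forall _).2 fun x hx =>
    eq_zero_of_mem_neg hw hn hx
  have ha : a.toIdeal = Ideal.span (⋃ n ∈ Set.Ioi (0 : ℤ), (𝒜 n : Set (MvPolynomial (Fin N) k))) := hmsp
  have hker : ∀ r, r ∈ a.toIdeal ↔ MvPolynomial.constantCoeff r = 0 := fun r => by
    rw [hspan, ← Groth.FlatDescent.Slicing.ker_constantCoeff, RingHom.mem_ker]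
  have ha1 : a.toIdeal ≠ ⊤ := fun h => one_ne_zero (((hker 1).1 (h ▸ Submodule.mem_top)).symm.trans (map_one _)).symm
  have h0 : IsField (GrLC.deg0 𝒜) := by
    refine ⟨⟨0, 1, fun h => zero_ne_one (congrArg Subtype.val h)⟩, mul_comm, fun {x} hx => ?_⟩
    obtain ⟨x, hx'⟩ := x
    have hx1 := eq_C_of_mem_zero hw hx'
    have hc : MvPolynomial.coeff 0 x ≠ 0 := fun h => hx (Subtype.ext (hx1.trans (by rw [h, map_zero]; rfl)))
    refine ⟨⟨MvPolynomial.C (MvPolynomial.coeff 0 x)⁻¹, MvPolynomial.isWeightedHomogeneous_C w _⟩, Subtype.ext ?_⟩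
    show x * MvPolynomial.C (MvPolynomial.coeff 0 x)⁻¹ = 1
    conv_lhs => arg 1; rw [hx1]
    rw [← map_mul, mul_inv_cancel₀ hc, map_one]
  have hr0 : ∀ r ∈ a.toIdeal, GrInj.pr 𝒜 0 r = 0 := fun r hr => by
    have h1 : GrInj.pr 𝒜 0 r ∈ a.toIdeal := a.isHomogeneous 0 hr
    rw [eq_C_of_mem_zero hw (show GrInj.pr 𝒜 0 r ∈ (MvPolynomial.weightedHomogeneousSubmodule k w) 0 from GrInj.pr_mem (ℳ := 𝒜) 0 r),
      show MvPolynomial.coeff 0 (GrInj.pr 𝒜 0 r) = 0 from (hker _).1 h1, map_zero]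
  let E : GrLC.StarInjRes 𝒜 (GrInj.selfMod 𝒜).gr := @GrInj.Conv.res ℤ _ _ _ _ _ _ _ (MvPolynomial.weightedHomogeneousSubmodule k w) _ _ _ _ _ _ _
    (MvPolynomial.weightedHomogeneousSubmodule k w) _ _ I
  obtain ⟨hfin, φ, hφ⟩ := hC
  let ε₀ : E' := e (Ideal.Quotient.mk m.toIdeal 1)
  have hε0 : ε₀ ∈ 𝓔 0 := he.grHom 0 _ ⟨1, SetLike.one_mem_graded (MvPolynomial.weightedHomogeneousSubmodule k w), rfl⟩
  have hεne : ε₀ ≠ 0 := fun h => ha1 ((Ideal.eq_top_iff_one _).2 (Ideal.Quotient.eq_zero_iff_mem.1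
    (he.injective (h.trans (map_zero e).symm))))
  have hεk : ∀ s ∈ a.toIdeal, s • ε₀ = 0 := fun s hs => by
    show s • e (Ideal.Quotient.mk m.toIdeal 1) = 0
    rw [← map_smul, show s • Ideal.Quotient.mk m.toIdeal 1 = Ideal.Quotient.mk m.toIdeal s from
      congrArg (Ideal.Quotient.mk m.toIdeal) (mul_one s),
      Ideal.Quotient.eq_zero_iff_mem.2 (show s ∈ m.toIdeal from hs), map_zero]
  have hscal : ∀ c : GrLC.deg0 𝒜, (c : MvPolynomial (Fin N) k) • ε₀ ∈ 𝓔 0 := fun c =>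
    by
    have h := GrInj.smul_mem_gr (𝒜 := 𝒜) (ℳ := 𝓔) c.2 hε0
    rwa [add_zero] at h
  have hdim : ringKrullDim (MvPolynomial (Fin N) k) = N := by
    rw [MvPolynomial.ringKrullDim_of_isNoetherianRing, ringKrullDim_eq_zero_of_field, zero_add, Nat.card_fin]
  have hreg : RingTheory.Sequence.IsWeaklyRegular (MvPolynomial (Fin N) k)
      (List.ofFn fun i => (MvPolynomial.X i : MvPolynomial (Fin N) k)) :=
    Groth.FlatDescent.Slicing.isWeaklyRegular_X N k
  have hlist : Ideal.ofList (List.ofFn fun i => (MvPolynomial.X i : MvPolynomial (Fin N) k)) = a.toIdeal := by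
    rw [hspan, Ideal.ofList]; congr 1; ext r; simp
  have hvan : ∀ i < N, Subsingleton (E.H a i) := fun i hi => by
    have hd : (N : ℕ∞) ≤ LocCoh.idealDepth a.toIdeal (MvPolynomial (Fin N) k) := by
      have := Groth.Agent.DepthLib.le_idealDepth_of_isWeaklyRegular (I := a.toIdeal) _ hreg (fun r hr => by
        rw [← hlist]; exact Ideal.subset_span hr)
      rwa [List.length_ofFn] at this
    have hs := (Groth.Agent.LocCohLib.natCast_le_idealDepth_iff_vanishing a.toIdeal (MvPolynomial (Fin N) k) N).1 hd i hi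
    rcases i with _ | i
    · obtain ⟨e⟩ := S13224.zero_case E a
      exact @Function.Injective.subsingleton _ _ _ e.injective hs
    · obtain ⟨e⟩ := S13224.succ_case E a i
      exact @Function.Injective.subsingleton _ _ _ e.injective hs
  have hsoc : GrInj.OneSoc a (E.Hgr a (0 + N)) (-(Finset.univ : Finset (Fin N)).sum w) :=
    GrInj.oneSoc_regular N (fun i => MvPolynomial.X i) w (fun i => MvPolynomial.isWeightedHomogeneous_X k w i)
      (fun i => hspan ▸ Ideal.subset_span ⟨i, rfl⟩) (GrInj.selfMod 𝒜) E hreg 0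
      (fun i hi => hvan i (by omega)) fun Q π hπ hπs hπk F =>
        GrInj.oneSoc_residue hpos ha h0 ha1 Q π hπ hπs (fun x => by
          let M := (GrInj.selfMod 𝒜).carrier
          have h1 : ∀ y : MvPolynomial (Fin N) k, y ∈ (Ideal.ofList (List.ofFn fun i => (MvPolynomial.X i : MvPolynomial (Fin N) k)) •
              (⊤ : Submodule (MvPolynomial (Fin N) k) (MvPolynomial (Fin N) k))) ↔ y ∈ a.toIdeal := fun y => by
            rw [smul_eq_mul, Ideal.mul_top, hlist]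
          exact (SetLike.ext_iff.1 hπk (show M from x)).trans (h1 x)) F
  rw [Nat.zero_add] at hsoc
  have hne : ¬ Subsingleton (E.H a N) := fun hs => by
    obtain ⟨c, -, hc, -⟩ := hsoc.2.1
    exact hc (Subsingleton.elim _ _)
  haveI : Module.Finite (MvPolynomial (Fin N) k) C := hfin
  let ψ : (C →ₗ[MvPolynomial (Fin N) k] E') ≃ₗ[MvPolynomial (Fin N) k] E.H a N := φ
  exact main (ℋ := E.Hgr a N) hpos ha h0 hε0 hεne hεk ψ (fun j lam hlam => (hφ j lam hlam : φ lam ∈ I.Hgr m N j)) hscal hr0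
    hsoc (fun g s hs hkill => GrInj.eq_zero_of_smul_top (𝒜 := 𝒜) hdim E hne hs hkill)

end Groth.Agent.S18651
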