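import Groth.Statements.S15416
import Mathlib
import Groth.Agent.GrInj.StdPoly
-- import your own Groth.Agent.* helpers here

set_option autoImplicit false
universe u
open GrSyz

namespace Groth.Agent.S15416

section
open GrInj GrLC

variable {R : Type u} [CommRing R] [IsNoetherianRing R]

/-- A minimal cover by a free module. -/
structure Cover (𝒜 : ℤ → AddSubgroup R) [GradedRing 𝒜] (a : HomogeneousIdeal 𝒜) (X : GMod.{u} 𝒜) where
  m : ℕ
  deg : Fin m → ℤ
  p : (freeG 𝒜 deg).carrier →ₗ[R] X.carrier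
  grHom : IsGrHom (freeG 𝒜 deg).gr X.gr p
  surj : Function.Surjective p
  min : ∀ v : Fin m → R, v ∈ LinearMap.ker p → ∀ b, v b ∈ a.toIdeal

variable {𝒜 : ℤ → AddSubgroup R} [GradedRing 𝒜] {a : HomogeneousIdeal 𝒜} {X : GMod.{u} 𝒜}

/-- The next module to cover. -/
noncomputable def Cover.next (C : Cover 𝒜 a X) : GMod.{u} 𝒜 :=
  subMod 𝒜 (LinearMap.ker C.p) (hom_ker C.grHom)

instance (C : Cover 𝒜 a X) : Module.Finite R C.next.carrier :=
  inferInstanceAs (Module.Finite R (LinearMap.ker C.p))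

theorem exists_cover (hpos : ∀ n : ℤ, n < 0 → 𝒜 n = ⊥)
    (ha : a.toIdeal = Ideal.span (⋃ n ∈ Set.Ioi (0 : ℤ), (𝒜 n : Set R)))
    (hunit : ∀ c ∈ 𝒜 0, c ∉ a.toIdeal → IsUnit c) [Module.Finite R X.carrier] : Nonempty (Cover 𝒜 a X) := by
  classical
  let P : ℕ → Prop := fun m => ∃ (deg : Fin m → ℤ) (v : Fin m → X.carrier), (∀ j, v j ∈ X.gr (deg j)) ∧
    Submodule.span R (Set.range v) = ⊤
  have hP : ∃ m, P m := exists_hom_gens (R := R) (ℳ := X.gr)
  obtain ⟨deg, v, hv, hspan⟩ := Nat.find_spec hP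
  refine ⟨⟨Nat.find hP, deg, Fintype.linearCombination R v, ?_, ?_, ?_⟩⟩
  · intro n w hw
    show Fintype.linearCombination R v (w : Fin (Nat.find hP) → R) ∈ X.gr n
    rw [Fintype.linearCombination_apply]
    refine sum_mem fun b _ => ?_
    have h := X.gsmul.smul_mem (mem_freeGr.1 hw b) (hv b)
    rwa [vadd_eq_add, sub_add_cancel] at h
  · intro y
    obtain ⟨c, hc⟩ := (Submodule.mem_span_range_iff_exists_fun R).1
      (show y ∈ Submodule.span R (Set.range v) by rw [hspan]; trivial)
    exact ⟨c, hc⟩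
  · intro c hc b
    by_contra hb
    have hc' : ∑ j, c j • v j = 0 := hc
    -- the component in degree `deg b`
    have hcomp : ∑ j, pr 𝒜 (deg b - deg j) (c j) • v j = 0 := by
      have h := congrArg (pr X.gr (deg b)) hc'
      rw [map_sum, map_zero] at h
      refine Eq.trans (Finset.sum_congr rfl fun j _ => ?_) h
      have h' := pr_map (ℳ := 𝒜) (𝒩 := X.gr) (f := (smulAddHom R X.carrier).flip (v j)) (d := deg j)
        (fun g b hb => smul_mem_gr hb (hv j)) (deg b - deg j) (c j)
      rw [sub_add_cancel] at h'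
      exact h'.symm
    have h0 : pr 𝒜 0 (c b) ∉ a.toIdeal := by
      intro h
      refine hb ?_
      rw [← sum_supp (ℳ := 𝒜) (c b)]
      refine sum_mem fun i _ => ?_
      rcases eq_or_ne i 0 with rfl | hi
      · exact h
      · exact mem_a a hpos ha hi (pr_mem i _)
    obtain ⟨w, hw⟩ := (hunit _ (pr_mem 0 _) h0).exists_left_inv
    obtain ⟨m', hm'⟩ : ∃ m', Nat.find hP = m' + 1 := ⟨Nat.find hP - 1, by have := b.isLt; omega⟩
    let e : Fin m' → Fin (Nat.find hP) := fun j => Fin.cast hm'.symm ((Fin.cast hm' b).succAbove j)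
    have hrest : ∀ j, j ≠ b → v j ∈ Submodule.span R (Set.range (v ∘ e)) := fun j hj => by
      obtain ⟨i, hi⟩ := Fin.exists_succAbove_eq (x := Fin.cast hm' j) (y := Fin.cast hm' b)
        (fun h => hj (Fin.cast_injective _ h))
      exact Submodule.subset_span ⟨i, by show v (e i) = v j; simp only [e, hi]; rfl⟩
    have hvb : v b ∈ Submodule.span R (Set.range (v ∘ e)) := by
      have h1 : pr 𝒜 0 (c b) • v b = -∑ j ∈ Finset.univ.erase b, pr 𝒜 (deg b - deg j) (c j) • v j := by
        rw [eq_neg_iff_add_eq_zero, ← hcomp, ← Finset.add_sum_erase _ _ (Finset.mem_univ b), sub_self]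
      have h2 : v b = w • (pr 𝒜 0 (c b) • v b) := by rw [smul_smul, hw, one_smul]
      rw [h2, h1]
      exact Submodule.smul_mem _ _ (neg_mem (sum_mem fun j hj => Submodule.smul_mem _ _
        (hrest j (Finset.ne_of_mem_erase hj))))
    refine Nat.find_min hP (show m' < Nat.find hP by omega) ⟨deg ∘ e, v ∘ e, fun j => hv _, ?_⟩
    rw [eq_top_iff, ← hspan, Submodule.span_le]
    rintro _ ⟨j, rfl⟩
    rcases eq_or_ne j b with rfl | hj
    · exact hvb
    · exact hrest j hj

end

theorem nonempty_cover (k : Type u) [Field k] (r : ℕ) (X : GrLC.GMod.{u} (GrInj.Std.gr k r))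
    [Module.Finite (GrInj.Std.S k r) X.carrier] : Nonempty (Cover (GrInj.Std.gr k r) (GrInj.Std.irr k r) X) :=
  exists_cover (GrInj.Std.pos k r) (GrInj.Std.irr_eq k r) fun c hc hca => by
    have hconst : MvPolynomial.constantCoeff c ≠ 0 := fun h => hca (by
      rw [GrSyzHilb.piece_zero (show c ∈ GrSyz.stdGr k (Fin (r + 1)) 0 from hc) h]
      exact zero_mem _)
    have hC : c = MvPolynomial.C (MvPolynomial.constantCoeff c) := by
      have hmem : MvPolynomial.C (MvPolynomial.constantCoeff c) ∈ GrSyz.stdGr k (Fin (r + 1)) 0 :=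
        MvPolynomial.isWeightedHomogeneous_C _ _
      refine sub_eq_zero.1 (GrSyzHilb.piece_zero (sub_mem (show c ∈ GrSyz.stdGr k (Fin (r + 1)) 0 from hc) hmem) ?_)
      simp
    rw [hC]
    exact (isUnit_iff_ne_zero.2 hconst).map MvPolynomial.C

/-- Let k be a field, S = k[x_0, …, x_r] graded by degree, 𝔪 = (x_0, …, x_r) its irrelevant ideal and M
a finitely generated ℤ-graded S-module. Then M has a graded free resolution by free modules of
finite rank with chosen homogeneous bases which is minimal: every entry of every differential's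
matrix lies in 𝔪. (Finite length is not part of this statement.) -/
theorem result (k : Type u) [Field k] (r : ℕ)
    (M : Type u) [AddCommGroup M] [Module k M] [Module (MvPolynomial (Fin (r + 1)) k) M]
    [IsScalarTower k (MvPolynomial (Fin (r + 1)) k) M] [Module.Finite (MvPolynomial (Fin (r + 1)) k) M]
    (ℳ : ℤ → Submodule k M) [DirectSum.Decomposition ℳ] [SetLike.GradedSMul (GrSyz.stdGr k (Fin (r + 1))) ℳ] :
    ∃ F : GrSyz.FreeRes (GrSyz.stdGr k (Fin (r + 1))) ℳ, F.IsMinimal (GrSyz.irrel (GrSyz.stdGr k (Fin (r + 1)))).toIdeal := by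
  classical
  letI : Module.Finite (GrInj.Std.S k r) (GrLC.GMod.of (GrInj.Std.gr k r) M (GrInj.Conv.grp ℳ)).carrier :=
    inferInstanceAs (Module.Finite (MvPolynomial (Fin (r + 1)) k) M)
  let C₀ : Cover (GrInj.Std.gr k r) (GrInj.Std.irr k r) (GrLC.GMod.of (GrInj.Std.gr k r) M (GrInj.Conv.grp ℳ)) :=
    (nonempty_cover k r _).some
  let st : ℕ → Σ X : GrLC.GMod.{u} (GrInj.Std.gr k r), Cover (GrInj.Std.gr k r) (GrInj.Std.irr k r) X := fun i =>
    Nat.rec ⟨_, C₀⟩ (fun _ s => ⟨s.2.next, (nonempty_cover k r s.2.next).some⟩) i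
  let rk : ℕ → ℕ := fun i => (st i).2.m
  let dl : ∀ i, (Fin (rk (i + 1)) → GrInj.Std.S k r) →ₗ[GrInj.Std.S k r] (Fin (rk i) → GrInj.Std.S k r) :=
    fun i => GrInj.subInc _ _ (GrInj.hom_ker (st i).2.grHom) ∘ₗ (st (i + 1)).2.p
  have hrange : ∀ i, LinearMap.range (dl i) = LinearMap.ker (st i).2.p := fun i => by
    show LinearMap.range (GrInj.subInc _ _ (GrInj.hom_ker (st i).2.grHom) ∘ₗ (st (i + 1)).2.p) = _
    refine (LinearMap.range_comp_of_range_eq_top _ (LinearMap.range_eq_top.2 (st (i + 1)).2.surj)).trans ?_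
    exact GrInj.range_subInc _
  have hker : ∀ i v, dl i v = 0 ↔ (st (i + 1)).2.p v = 0 := fun i v =>
    map_eq_zero_iff _ (GrInj.subInc_injective (GrInj.hom_ker (st i).2.grHom))
  have hmul : ∀ i, Matrix.mulVecLin (LinearMap.toMatrix' (dl i)) = dl i := fun i =>
    Matrix.toLin'_toMatrix' (dl i)
  have hdg : ∀ i b, dl i (Pi.single b 1) ∈ GrInj.freeGr (GrInj.Std.gr k r) (st i).2.deg ((st (i + 1)).2.deg b) :=
    fun i b => GrInj.grHom_subInc (GrInj.hom_ker (st i).2.grHom) _ _
      ((st (i + 1)).2.grHom _ _ (GrInj.single_mem_free _ b))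
  have haug : Fintype.linearCombination (GrInj.Std.S k r) (fun b => (C₀.p (Pi.single b 1 : Fin C₀.m → GrInj.Std.S k r) : M)) = C₀.p := by
    refine LinearMap.pi_ext' fun b => LinearMap.ext_ring ?_
    show Fintype.linearCombination _ _ (Pi.single b 1) = _
    rw [Fintype.linearCombination_apply_single, one_smul]
    rfl
  refine ⟨{ rk := rk
            deg := fun i => (st i).2.deg
            d := fun i => LinearMap.toMatrix' (dl i)
            aug := fun b => C₀.p (Pi.single b 1 : Fin C₀.m → GrInj.Std.S k r)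
            d_mem := fun i p b => ?_
            aug_mem := fun b => C₀.grHom _ _ (GrInj.single_mem_free _ b)
            aug_surjective := fun y => by
              obtain ⟨w, hw⟩ := C₀.surj y
              exact ⟨w, (LinearMap.congr_fun haug w).trans hw⟩
            exact_zero := ?_
            exact_succ := fun i => ?_ }, fun i p b => ?_⟩
  · rw [LinearMap.toMatrix'_apply]
    exact GrInj.mem_freeGr.1 (hdg i b) p
  · refine Submodule.ext fun v => ?_
    refine Iff.trans (?_ : _ ↔ C₀.p v = 0) ?_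
    · exact Eq.congr_left (LinearMap.congr_fun haug v)
    · rw [hmul 0]; exact (SetLike.ext_iff.1 (hrange 0) v).symm
  · refine Submodule.ext fun v => ?_
    rw [LinearMap.mem_ker, hmul i, hmul (i + 1), hker i v]
    exact (SetLike.ext_iff.1 (hrange (i + 1)) v).symm
  · show LinearMap.toMatrix' (dl i) p b ∈ _
    rw [LinearMap.toMatrix'_apply]
    exact (st i).2.min _ ((hrange i).le ⟨_, rfl⟩) p

end Groth.Agent.S15416
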