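import Groth.Statements.S1879
import Groth.Agent.GrpdBasic.Norm
-- import your own Groth.Agent.* helpers here

set_option autoImplicit false
universe u
open CategoryTheory CategoryTheory.Limits AlgebraicGeometry
open Grpd

namespace Groth.Agent.S1879

/-- Let (U, R, s, t, c) be a groupoid scheme with U, R affine and s, t finite locally free. Then Γ(U) is
integral over the subring C of R-invariant functions. (A groupoid scheme carries U, R, s, t, c, e, i
over S with the groupoid axioms on T-points; 'finite locally free' is finite, flat and locally of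
finite presentation; C ⊂ Γ(U) is the ring of functions a with s♯(a) = t♯(a) and M = Spec C.) -/
theorem result (S : Scheme.{u}) (G : Grpd.GroupoidScheme S) [IsAffine G.U] [IsAffine G.R] [IsFinite G.s] [Flat G.s] [LocallyOfFinitePresentation G.s] [IsFinite G.t] [Flat G.t] [LocallyOfFinitePresentation G.t] : Algebra.IsIntegral G.invariants Γ(G.U, ⊤) := by
  refine ⟨fun a => ?_⟩
  obtain ⟨n, ⟨F⟩⟩ := GrpdBasic.exists_frame_st G
  let _ := G.s.appTop.hom.toAlgebra
  let P := (GrpdFrame.mat F (G.t.appTop.hom a)).charpoly
  have hP : ∀ k, P.coeff k ∈ G.invariants := fun k => GrpdBasic.charpoly_invariant G a n F k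
  have hB : Polynomial.eval₂ G.s.appTop.hom (G.t.appTop.hom a) P = 0 :=
    GrpdFrame.aeval_charpoly F (G.t.appTop.hom a)
  have hA : P.eval a = 0 := by
    have := congrArg G.e.appTop.hom hB
    rw [Polynomial.hom_eval₂, map_zero] at this
    rw [← CommRingCat.hom_comp, ← Scheme.Hom.comp_appTop, G.e_s] at this
    rw [← CommRingCat.comp_apply, ← Scheme.Hom.comp_appTop, G.e_t] at this
    simp only [Scheme.Hom.id_appTop] at this
    exact this
  refine ⟨P.toSubring G.invariants fun x hx => ?_, ?_, ?_⟩
  · obtain ⟨k, -, rfl⟩ := Polynomial.mem_coeffs_iff.1 hx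
    exact hP k
  · exact (Polynomial.monic_toSubring ..).2 (Matrix.charpoly_monic _)
  · rw [show algebraMap G.invariants Γ(G.U, ⊤) = G.invariants.subtype from rfl, Polynomial.eval₂_eq_eval_map]
    refine (congrArg (Polynomial.eval a) ?_).trans hA
    ext k
    simp [Polynomial.coeff_map]

end Groth.Agent.S1879
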