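import Groth.Statements.S1878
import Groth.Agent.GrpdBasic.Orbit
import Groth.Agent.S1879
import Mathlib.FieldTheory.IsAlgClosed.AlgebraicClosure
import Mathlib.RingTheory.Ideal.GoingUp
-- import your own Groth.Agent.* helpers here

set_option autoImplicit false
universe u
open CategoryTheory CategoryTheory.Limits AlgebraicGeometry
open Grpd

namespace Groth.Agent.S1878

theorem exists_extension {R A k : Type u} [CommRing R] [CommRing A] [Algebra R A]
    [Algebra.IsIntegral R A] [Field k] [IsAlgClosed k] (φ : R →+* k) (P : Ideal A) [P.IsPrime]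
    (hP : P.comap (algebraMap R A) = RingHom.ker φ) :
    ∃ x : A →+* k, x.comp (algebraMap R A) = φ ∧ RingHom.ker x = P := by
  let q := P.comap (algebraMap R A)
  let φb : R ⧸ q →+* k := Ideal.Quotient.lift q φ fun a ha => by
    have : a ∈ RingHom.ker φ := hP ▸ ha
    exact this
  have hφb : Function.Injective φb :=
    RingHom.lift_injective_of_ker_le_ideal q _ hP.symm.le
  let _ : Algebra (R ⧸ q) k := φb.toAlgebra
  let _ : Algebra (R ⧸ q) (A ⧸ P) := Ideal.quotientAlgebra
  have : FaithfulSMul (R ⧸ q) k := (faithfulSMul_iff_algebraMap_injective _ _).2 hφb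
  have : FaithfulSMul (R ⧸ q) (A ⧸ P) :=
    (faithfulSMul_iff_algebraMap_injective _ _).2 Ideal.algebraMap_quotient_injective
  have : Algebra.IsIntegral (R ⧸ q) (A ⧸ P) := inferInstance
  let l : A ⧸ P →ₐ[R ⧸ q] k := IsAlgClosed.lift
  refine ⟨l.toRingHom.comp (Ideal.Quotient.mk P), RingHom.ext fun r => ?_, ?_⟩
  · exact l.commutes (Ideal.Quotient.mk q r)
  · have hinj : Function.Injective l.toRingHom := by
      rw [RingHom.injective_iff_ker_eq_bot]
      exact Ideal.eq_bot_of_comap_eq_bot (R := R ⧸ q) (eq_bot_iff.2 fun a ha => by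
        have h0 : l (algebraMap (R ⧸ q) (A ⧸ P) a) = 0 := ha
        rw [AlgHom.commutes] at h0
        exact hφb (h0.trans (map_zero _).symm))
    rw [RingHom.ker_comp_of_injective _ hinj, Ideal.mk_ker]


/-- Let (U, R, s, t, c) be a groupoid scheme over S with U, R affine and s, t finite locally free, and M
= Spec C. (1) U → M is surjective and two points of U have the same image iff some point of R has
them as target and source. (2) For every algebraically closed field k, M(k) = U(k)/R(k): every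
k-point of M lifts to U, and two k-points of U agree in M iff they are the target and source of a
k-point of R. (A groupoid scheme carries U, R, s, t, c, e, i over S with the groupoid axioms on
T-points; 'finite locally free' is finite, flat and locally of finite presentation; C ⊂ Γ(U) is the
ring of functions a with s♯(a) = t♯(a) and M = Spec C.) -/
theorem result (S : Scheme.{u}) (G : Grpd.GroupoidScheme S) [IsAffine G.U] [IsAffine G.R] [IsFinite G.s] [Flat G.s] [LocallyOfFinitePresentation G.s] [IsFinite G.t] [Flat G.t] [LocallyOfFinitePresentation G.t] : (Function.Surjective G.toQuot ∧ ∀ u₀ u₁ : G.U, G.toQuot u₀ = G.toQuot u₁ ↔ ∃ r : G.R, G.t r = u₀ ∧ G.s r = u₁) ∧ ∀ (k : Type u) [Field k] [IsAlgClosed k], (∀ m : Spec (CommRingCat.of k) ⟶ Spec (CommRingCat.of G.invariants), ∃ x : Spec (CommRingCat.of k) ⟶ G.U, x ≫ G.toQuot = m) ∧ ∀ x₀ x₁ : Spec (CommRingCat.of k) ⟶ G.U, x₀ ≫ G.toQuot = x₁ ≫ G.toQuot ↔ ∃ r : Spec (CommRingCat.of k) ⟶ G.R, r ≫ G.t = x₀ ∧ r ≫ G.s =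 x₁ := by
  have : Algebra.IsIntegral G.invariants Γ(G.U, ⊤) := Groth.Agent.S1879.result S G
  let incl : CommRingCat.of G.invariants ⟶ Γ(G.U, ⊤) := CommRingCat.ofHom G.invariants.subtype
  have hq : G.toQuot = G.U.isoSpec.hom ≫ Spec.map incl := rfl
  have hst : G.t ≫ G.toQuot = G.s ≫ G.toQuot := by
    have key : ∀ f : G.R ⟶ G.U, f ≫ G.toQuot = G.R.toSpecΓ ≫ Spec.map (incl ≫ f.appTop) := fun f => by
      rw [hq, Spec.map_comp, ← Scheme.toSpecΓ_naturality_assoc]
      rfl
    rw [key, key]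
    congr 2
    ext c
    exact c.2.symm
  have part2 : ∀ (k : Type u) [Field k] [IsAlgClosed k],
      (∀ m : Spec (CommRingCat.of k) ⟶ Spec (CommRingCat.of G.invariants),
        ∃ x : Spec (CommRingCat.of k) ⟶ G.U, x ≫ G.toQuot = m) ∧
      ∀ x₀ x₁ : Spec (CommRingCat.of k) ⟶ G.U, x₀ ≫ G.toQuot = x₁ ≫ G.toQuot ↔
        ∃ r : Spec (CommRingCat.of k) ⟶ G.R, r ≫ G.t = x₀ ∧ r ≫ G.s = x₁ := by
    intro k _ _
    refine ⟨fun m => ?_, fun x₀ x₁ => ⟨fun h => ?_, ?_⟩⟩
    · obtain ⟨φ, rfl⟩ := Spec.map_surjective m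
      have hker : RingHom.ker (algebraMap G.invariants Γ(G.U, ⊤)) ≤ RingHom.ker φ.hom := by
        rw [(RingHom.injective_iff_ker_eq_bot (algebraMap G.invariants Γ(G.U, ⊤))).1 Subtype.val_injective]
        exact bot_le
      have : (RingHom.ker φ.hom).IsPrime := RingHom.ker_isPrime _
      obtain ⟨P, -, hP, hP'⟩ := Ideal.exists_ideal_over_prime_of_isIntegral (RingHom.ker φ.hom)
        (⊥ : Ideal Γ(G.U, ⊤)) hker
      obtain ⟨x, hx, -⟩ := exists_extension φ.hom P hP'
      refine ⟨Spec.map (CommRingCat.ofHom x) ≫ G.U.isoSpec.inv, ?_⟩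
      rw [hq, Category.assoc, Iso.inv_hom_id_assoc, ← Spec.map_comp]
      congr 1
      exact CommRingCat.hom_ext hx
    · obtain ⟨ψ₀, hψ₀⟩ := Spec.map_surjective (x₀ ≫ G.U.isoSpec.hom)
      obtain ⟨ψ₁, hψ₁⟩ := Spec.map_surjective (x₁ ≫ G.U.isoSpec.hom)
      have hres : incl ≫ ψ₀ = incl ≫ ψ₁ := by
        apply Spec.map_injective
        rw [Spec.map_comp, Spec.map_comp, hψ₀, hψ₁, Category.assoc, Category.assoc, ← hq, h]
      obtain ⟨y, hy₀, hy₁⟩ := GrpdBasic.exists_orbit_ringHom G ψ₀.hom ψ₁.hom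
        fun c hc => ConcreteCategory.congr_hom hres ⟨c, hc⟩
      refine ⟨Spec.map (CommRingCat.ofHom y) ≫ G.R.isoSpec.inv, ?_, ?_⟩
      · rw [Category.assoc, ← Scheme.isoSpec_inv_naturality, ← Spec.map_comp_assoc,
          show G.t.appTop ≫ CommRingCat.ofHom y = ψ₀ from CommRingCat.hom_ext hy₀, hψ₀,
          Category.assoc, Iso.hom_inv_id, Category.comp_id]
      · rw [Category.assoc, ← Scheme.isoSpec_inv_naturality, ← Spec.map_comp_assoc,
          show G.s.appTop ≫ CommRingCat.ofHom y = ψ₁ from CommRingCat.hom_ext hy₁, hψ₁,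
          Category.assoc, Iso.hom_inv_id, Category.comp_id]
    · rintro ⟨r, rfl, rfl⟩
      rw [Category.assoc, Category.assoc, hst]
  refine ⟨⟨fun m => ?_, fun u₀ u₁ => ⟨fun h => ?_, ?_⟩⟩, part2⟩
  · obtain ⟨x, hx⟩ := (part2 (AlgebraicClosure ((Spec (CommRingCat.of G.invariants)).residueField m))).1
      (Spec.map (CommRingCat.ofHom (algebraMap ↑((Spec (CommRingCat.of G.invariants)).residueField m) (AlgebraicClosure ↑((Spec (CommRingCat.of G.invariants)).residueField m)))) ≫
        (Spec (CommRingCat.of G.invariants)).fromSpecResidueField m)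
    refine ⟨x (IsLocalRing.closedPoint _), ?_⟩
    rw [← Scheme.Hom.comp_apply, hx, Scheme.Hom.comp_apply, Scheme.fromSpecResidueField_apply]
  · let p₀ : PrimeSpectrum Γ(G.U, ⊤) := G.U.isoSpec.hom u₀
    let p₁ : PrimeSpectrum Γ(G.U, ⊤) := G.U.isoSpec.hom u₁
    have hpq : p₀.asIdeal.comap G.invariants.subtype = p₁.asIdeal.comap G.invariants.subtype :=
      congrArg PrimeSpectrum.asIdeal h
    let q := p₁.asIdeal.comap G.invariants.subtype
    let k := AlgebraicClosure (FractionRing (G.invariants ⧸ q))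
    let φ : G.invariants →+* k := (algebraMap (FractionRing (G.invariants ⧸ q)) k).comp
      ((algebraMap (G.invariants ⧸ q) (FractionRing (G.invariants ⧸ q))).comp (Ideal.Quotient.mk q))
    have hφ : RingHom.ker φ = q := by
      rw [RingHom.ker_comp_of_injective _ (RingHom.injective _),
        RingHom.ker_comp_of_injective _ (IsFractionRing.injective _ _), Ideal.mk_ker]
    obtain ⟨y₀, hy₀, hk₀⟩ := exists_extension φ p₀.asIdeal (hpq.trans hφ.symm)
    obtain ⟨y₁, hy₁, hk₁⟩ := exists_extension φ p₁.asIdeal hφ.symm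
    obtain ⟨r, hr₀, hr₁⟩ := ((part2 k).2 (Spec.map (CommRingCat.ofHom y₀) ≫ G.U.isoSpec.inv)
      (Spec.map (CommRingCat.ofHom y₁) ≫ G.U.isoSpec.inv)).1 (by
        rw [hq, Category.assoc, Category.assoc, Iso.inv_hom_id_assoc, ← Spec.map_comp, ← Spec.map_comp]
        congr 1
        exact CommRingCat.hom_ext (hy₀.trans hy₁.symm))
    have pt : ∀ (y : Γ(G.U, ⊤) →+* k) (u : G.U), RingHom.ker y = (G.U.isoSpec.hom u).asIdeal →
        (Spec.map (CommRingCat.ofHom y) ≫ G.U.isoSpec.inv) (IsLocalRing.closedPoint k) = u := by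
      intro y u hy
      have e : Spec.map (CommRingCat.ofHom y) (IsLocalRing.closedPoint k) = G.U.isoSpec.hom u := by
        refine PrimeSpectrum.ext ?_
        rw [← hy]
        exact congrArg (Ideal.comap y) (IsLocalRing.maximalIdeal_eq_bot (R := k))
      rw [Scheme.Hom.comp_apply, e, ← Scheme.Hom.comp_apply, Iso.hom_inv_id]
      rfl
    refine ⟨r (IsLocalRing.closedPoint k), ?_, ?_⟩
    · rw [← Scheme.Hom.comp_apply, hr₀]
      exact pt y₀ u₀ hk₀
    · rw [← Scheme.Hom.comp_apply, hr₁]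
      exact pt y₁ u₁ hk₁
  · rintro ⟨r, rfl, rfl⟩
    rw [← Scheme.Hom.comp_apply, ← Scheme.Hom.comp_apply, hst]

end Groth.Agent.S1878
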