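import Groth.Statements.S8892
import Groth.Agent.RegEmbed.Scheme
import Groth.Agent.RegSeq.Imm
import Groth.Agent.S9272
import Groth.Agent.S9273
import Mathlib.Algebra.Category.Ring.Constructions

set_option autoImplicit false
universe u
open CategoryTheory CategoryTheory.Limits AlgebraicGeometry TopologicalSpace
open SDiv

namespace Groth.Agent.S8892

open scoped TensorProduct
open Groth.Agent Groth.Agent.RegSeq

theorem seq_tensor (A B A' : Type u) [CommRing A] [CommRing B] [CommRing A'] [Algebra A B] [Algebra A A']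
    (rs : List B) (k : RegImm.Kind) (hk : k = RegImm.Kind.h1 ∨ k = RegImm.Kind.quasi)
    (hflat : Module.Flat A (B ⧸ Ideal.ofList rs)) (h : k.Seq B rs) :
    k.Seq (A' ⊗[A] B) (rs.map (Algebra.TensorProduct.includeRight : B →ₐ[A] A' ⊗[A] B)) := by
  have hspan : Ideal.span (Set.range rs.get) = Ideal.ofList rs :=
    congrArg Ideal.span (Set.range_list_get rs)
  rw [← hspan] at hflat
  rcases hk with rfl | rfl
  · exact (get_map_iff (@CAlgX.IsH1Regular (A' ⊗[A] B) _) rs _).2 (S9273.result A B A' rs.length rs.get hflat h)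
  · exact (get_map_iff (@CAlgX.IsQuasiRegular (A' ⊗[A] B) _) rs _).2 (S9272.result A B A' rs.length rs.get hflat h)

theorem seq_pushout {A B A' B' : CommRingCat.{u}} {φ : A ⟶ A'} {ψ : A ⟶ B} {a : A' ⟶ B'} {b : B ⟶ B'}
    (hP : IsPushout φ ψ a b) (rs : List B) (k : RegImm.Kind) (hk : k = RegImm.Kind.h1 ∨ k = RegImm.Kind.quasi)
    (hflat : letI := ψ.hom.toAlgebra; Module.Flat A (B ⧸ Ideal.ofList rs)) (h : k.Seq B rs)
    (hne : Ideal.ofList (rs.map b.hom) ≠ ⊤) : k.Seq B' (rs.map b.hom) := by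
  algebraize [φ.hom, ψ.hom]
  let e := (CommRingCat.isPushout_tensorProduct A A' B).isoIsPushout _ _ hP
  have he' : CommRingCat.ofHom ((Algebra.TensorProduct.includeRight : B →ₐ[A] A' ⊗[A] B).toRingHom) ≫ e.hom = b :=
    (CommRingCat.isPushout_tensorProduct A A' B).inr_isoIsPushout_hom _ _ hP
  have he : ∀ x : B, e.hom.hom ((Algebra.TensorProduct.includeRight : B →ₐ[A] A' ⊗[A] B) x) = b.hom x := fun x =>
    RingHom.congr_fun (congrArg CommRingCat.Hom.hom he') x
  letI : Algebra (A' ⊗[A] B) B' := e.hom.hom.toAlgebra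
  haveI : Module.Flat (A' ⊗[A] B) B' :=
    RingHom.Flat.of_bijective (ConcreteCategory.bijective_of_isIso e.hom)
  have hmap : (rs.map (Algebra.TensorProduct.includeRight : B →ₐ[A] A' ⊗[A] B)).map (algebraMap (A' ⊗[A] B) B') =
      rs.map b.hom := by
    rw [List.map_map]
    exact List.map_congr_left fun x _ => he x
  rw [← hmap] at hne ⊢
  exact seq_map_flat k (seq_tensor A B A' rs k hk hflat h) hne

theorem relBaseChange {Z X S S' : Scheme.{u}} (f : X ⟶ S) (i : Z ⟶ X) (k : RegImm.Kind)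
    (hk : k = RegImm.Kind.h1 ∨ k = RegImm.Kind.quasi) (hi : RegImm.IsRelRegularImmersion k f i) (g : S' ⟶ S) :
    RegImm.IsRelRegularImmersion k (pullback.snd f g) (pullback.snd i (pullback.fst f g)) := by
  obtain ⟨⟨himm, hreg⟩, hflat⟩ := hi
  haveI := himm
  haveI := hflat
  let p := pullback.fst f g
  let i' := pullback.snd i p
  have hsq : IsPullback (pullback.fst i p) i' i p := IsPullback.of_hasPullback i p
  have hpaste : IsPullback (pullback.fst i p) (i' ≫ pullback.snd f g) (i ≫ f) g :=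
    hsq.paste_vert (IsPullback.of_hasPullback f g)
  refine ⟨⟨MorphismProperty.of_isPullback hsq himm, fun z => ?_⟩, MorphismProperty.of_isPullback hpaste hflat⟩
  obtain ⟨U, hU, hcl, rs, hrs, hker⟩ := hreg (pullback.fst i p z)
  let y := i (pullback.fst i p z)
  have hy : p (i' z) = y := congr($(hsq.w) z).symm
  have hfy : f y = g (pullback.snd f g (i' z)) := by
    rw [← hy]; exact congr($(pullback.condition (f := f) (g := g)) (i' z))
  obtain ⟨W, hW, hyW, -⟩ := exists_isAffineOpen_mem_and_subset (U := (⊤ : S.Opens)) (x := f y) trivial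
  obtain ⟨W', hW', hzW', eW⟩ := exists_isAffineOpen_mem_and_subset (U := g ⁻¹ᵁ W) (x := pullback.snd f g (i' z))
    (show g (pullback.snd f g (i' z)) ∈ W from hfy ▸ hyW)
  obtain ⟨t, htW, hyt⟩ := U.2.exists_basicOpen_le (V := f ⁻¹ᵁ W) ⟨y, hyW⟩ hU
  let U₁ : X.affineOpens := X.affineBasicOpen t
  have hle : U₁.1 ≤ U.1 := X.basicOpen_le t
  haveI := hcl
  -- restrict to the basic open
  have hsq₀ : IsPullback (𝟙 Z) i i (𝟙 X) := IsPullback.of_horiz_isIso ⟨by simp⟩
  obtain ⟨hcl₁, hker₁⟩ := restrict_baseChange hsq₀ U.2 U₁.2 (show U₁.1 ≤ (𝟙 X) ⁻¹ᵁ U.1 from hle)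
  haveI := hcl₁
  let res := ((𝟙 X : X ⟶ X).appLE U.1 U₁.1 hle).hom
  have hker₁' : RingHom.ker (i.app U₁.1).hom = Ideal.ofList (rs.map res) := by
    rw [hker₁, hker, Ideal.map_ofList]
  have hne₁ : Ideal.ofList (rs.map res) ≠ ⊤ := by
    rw [← hker₁']
    haveI : Nonempty (i ⁻¹ᵁ U₁.1).toScheme := ⟨⟨pullback.fst i p z, hyt⟩⟩
    exact RingHom.ker_ne_top _
  have hrs₁ : k.Seq Γ(X, U₁.1) (rs.map res) := by
    letI := res.toAlgebra
    haveI : Module.Flat Γ(X, U.1) Γ(X, U₁.1) := (𝟙 X : X ⟶ X).flat_appLE U.2 U₁.2 hle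
    exact seq_map_flat k hrs hne₁
  -- the affine open of the base change
  let V : (pullback f g).Opens := p ⁻¹ᵁ U₁.1 ⊓ pullback.snd f g ⁻¹ᵁ W'
  have hzV : i' z ∈ V := ⟨show p (i' z) ∈ U₁.1 from hy ▸ hyt, hzW'⟩
  have hpf : IsPullback p (pullback.snd f g) f g := IsPullback.of_hasPullback f g
  have hV : IsAffineOpen V := by
    haveI : IsAffine W.toScheme := hW
    haveI : IsAffine W'.toScheme := hW'
    haveI : IsAffine (X.basicOpen t).toScheme := U₁.2
    exact .of_isIso (Scheme.Hom.isPullback_resLE hpf eW htW (UY := V) rfl).isoPullback.hom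
  have hP := (isIso_pushoutSection_iff hpf eW htW (UY := V) rfl).1
    (isIso_pushoutSection_of_isAffineOpen hpf eW htW (UY := V) rfl hW hW' U₁.2)
  have eV : V ≤ p ⁻¹ᵁ U₁.1 := inf_le_left
  obtain ⟨hcl', hker'⟩ := restrict_baseChange hsq U₁.2 hV eV
  refine ⟨⟨V, hV⟩, hzV, hcl', (rs.map res).map (p.appLE U₁.1 V eV).hom, ?_, ?_⟩
  · refine seq_pushout hP.flip _ k hk ?_ hrs₁ (fun htop => ?_)
    · letI := (f.appLE W U₁.1 htW).hom.toAlgebra
      show Module.Flat Γ(S, W) (Γ(X, U₁.1) ⧸ Ideal.ofList (rs.map res))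
      rw [← hker₁']
      haveI : IsAffine U₁.1.toScheme := U₁.2
      obtain ⟨hA, hs⟩ := PerfMor.surjective_app_of_restrict i U₁.2
      have hfl : ((i.app U₁.1).hom.comp (f.appLE W U₁.1 htW).hom).Flat := by
        have := (i ≫ f).flat_appLE hW hA (fun w hw => htW hw)
        convert this using 2
        rw [Scheme.Hom.app_eq_appLE, ← CommRingCat.hom_comp, Scheme.Hom.appLE_comp_appLE]
      letI := ((i.app U₁.1).hom.comp (f.appLE W U₁.1 htW).hom).toAlgebra
      let π : Γ(X, U₁.1) →ₐ[Γ(S, W)] Γ(Z, i ⁻¹ᵁ U₁.1) := { (i.app U₁.1).hom with commutes' := fun _ => rfl }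
      haveI : Module.Flat Γ(S, W) Γ(Z, i ⁻¹ᵁ U₁.1) := hfl
      exact Module.Flat.of_linearEquiv (Ideal.quotientKerAlgEquivOfSurjective (f := π) hs).toLinearEquiv
    · have h1 : RingHom.ker (i'.app V).hom = ⊤ := by
        rw [hker', hker₁', Ideal.map_ofList]; exact htop
      haveI : Nonempty (i' ⁻¹ᵁ V).toScheme := ⟨⟨z, hzV⟩⟩
      exact RingHom.ker_ne_top _ h1
  · rw [hker', hker₁', Ideal.map_ofList]

/-- Let f : X ⟶ S be a morphism of schemes and i : Z ⟶ X an H_1-regular (resp. quasi-regular) immersion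
such that Z ⟶ S is flat. Then for every morphism g : S' ⟶ S the base change of i to X ×_S S' is an
H_1-regular (resp. quasi-regular) immersion, again flat over S'. -/
theorem result {Z X S S' : Scheme.{u}} (f : X ⟶ S) (i : Z ⟶ X) (k : RegImm.Kind)
    (hk : k = RegImm.Kind.h1 ∨ k = RegImm.Kind.quasi) (hi : RegImm.IsRelRegularImmersion k f i) (g : S' ⟶ S) :
    RegImm.IsRelRegularImmersion k (pullback.snd f g) (pullback.snd i (pullback.fst f g)) := by
  exact relBaseChange f i k hk hi g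

end Groth.Agent.S8892
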