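import Groth.Statements.S8893
import Groth.Agent.ArtinFlat.RegSeq
import Groth.Agent.RegSeq.Noeth
import Groth.Agent.RegEmbed.Scheme

set_option autoImplicit false
universe u
open CategoryTheory CategoryTheory.Limits AlgebraicGeometry TopologicalSpace
open SDiv

namespace Groth.Agent.S8893

open RingTheory.Sequence IsLocalRing in
/-- A regular sequence in a Noetherian local algebra with flat quotient: the algebra is flat. -/
theorem flat_of_regularSeq {A : Type u} [CommRing A] : ∀ (l : ℕ) {O Q : Type u} [CommRing O] [CommRing Q]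
    [Algebra A O] [Algebra A Q] [IsNoetherianRing O] [IsLocalRing O] [Module.Flat A Q]
    (f : Fin l → O) (π : O →ₐ[A] Q), Function.Surjective π → RingHom.ker π.toRingHom = Ideal.span (Set.range f) →
    (∀ i, f i ∈ maximalIdeal O) → IsWeaklyRegular O (List.ofFn f) → Module.Flat A O := by
  intro l
  induction l with
  | zero =>
    intro O Q _ _ _ _ _ _ _ f π hπ hker _ _
    have hinj : Function.Injective π := by
      rw [show ⇑π = ⇑π.toRingHom from rfl, RingHom.injective_iff_ker_eq_bot, hker]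
      simp
    exact Module.Flat.of_linearEquiv (AlgEquiv.ofBijective π (show Function.Bijective π from ⟨hinj, hπ⟩)).toLinearEquiv
  | succ l ih =>
    intro O Q _ _ _ _ _ _ _ f π hπ hker hmem hreg
    rw [List.ofFn_succ, isWeaklyRegular_cons_iff] at hreg
    let I0 : Ideal O := Ideal.span {f 0}
    have hle : ∀ a ∈ I0, π a = 0 := fun a ha => by
      have : a ∈ RingHom.ker π.toRingHom := by
        rw [hker]; exact Ideal.span_mono (Set.singleton_subset_iff.mpr (Set.mem_range_self (f := f) 0)) ha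
      exact this
    haveI : Nontrivial (O ⧸ I0) := Ideal.Quotient.nontrivial_iff.mpr fun h =>
      (maximalIdeal.isMaximal O).ne_top (top_le_iff.mp (h ▸ (Ideal.span_singleton_le_iff_mem _).mpr (hmem 0)))
    haveI : IsLocalRing (O ⧸ I0) := IsLocalRing.of_surjective' (Ideal.Quotient.mk I0) Ideal.Quotient.mk_surjective
    haveI : Module.Flat A (O ⧸ I0) := by
      refine ih (fun i => Ideal.Quotient.mk I0 (f i.succ)) (Ideal.Quotient.liftₐ I0 π hle) ?_ ?_ ?_ ?_
      · exact fun q => let ⟨o, ho⟩ := hπ q; ⟨Ideal.Quotient.mk I0 o, ho⟩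
      · ext q
        obtain ⟨o, rfl⟩ := Ideal.Quotient.mk_surjective q
        show π o = 0 ↔ _
        rw [show π o = 0 ↔ o ∈ RingHom.ker π.toRingHom from Iff.rfl, hker,
          show (Set.range fun i : Fin l => Ideal.Quotient.mk I0 (f i.succ)) =
            Ideal.Quotient.mk I0 '' Set.range (fun i : Fin l => f i.succ) from Set.range_comp _ _,
          ← Ideal.map_span, Ideal.mem_quotient_iff_mem_sup, sup_comm]
        rw [← Ideal.span_union, Set.singleton_union, ← Fin.range_cons,
          show (Fin.cons (f 0) fun i : Fin l => f i.succ) = f from Fin.cons_self_tail f]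
      · intro i
        haveI : IsLocalHom (Ideal.Quotient.mk I0) := IsLocalHom.of_surjective _ Ideal.Quotient.mk_surjective
        exact fun h => hmem i.succ h.of_map
      · let E : QuotSMulTop (f 0) O ≃ₗ[O] O ⧸ I0 := Submodule.quotEquivOfEq _ _
          (by rw [← Submodule.ideal_span_singleton_smul, smul_eq_mul, Ideal.mul_top])
        have h := hreg.2
        rw [E.isWeaklyRegular_congr, ← isWeaklyRegular_map_algebraMap_iff (O ⧸ I0), List.map_ofFn] at h
        exact h
    rw [Module.Flat.iff_lTensor_injective]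
    intro I hI
    have hinjQ := (ArtinFlatAux (B := O ⧸ I0) I).mp (Module.Flat.iff_lTensor_injective.mp inferInstance hI)
    refine (ArtinFlatAux (B := O) I).mpr ?_
    rw [← LinearMap.ker_eq_bot]
    haveI : Module.Finite A I := Module.Finite.iff_fg.mpr hI
    refine Submodule.eq_bot_of_le_smul_of_le_jacobson_bot I0 _ (IsNoetherian.noetherian _) ?_
      (le_trans ((Ideal.span_singleton_le_iff_mem _).mpr (hmem 0)) (maximalIdeal_le_jacobson _))
    intro z hz
    obtain ⟨w, rfl⟩ := Groth.Agent.ArtinFlat.exists_eq_smul (f 0) I z (hinjQ (by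
      rw [map_zero, Groth.Agent.ArtinFlat.mu_mk, LinearMap.mem_ker.mp hz, map_zero]))
    rw [LinearMap.mem_ker, map_smul] at hz
    exact Submodule.smul_mem_smul (Ideal.mem_span_singleton_self _)
      (LinearMap.mem_ker.mpr (hreg.1.right_eq_zero_of_smul hz))
where
  ArtinFlatAux {A B : Type u} [CommRing A] [CommRing B] [Algebra A B] (I : Ideal A) :
      Function.Injective (I.subtype.lTensor B) ↔ Function.Injective (Groth.Agent.ArtinFlat.mu B I) := by
    have h : ⇑(Groth.Agent.ArtinFlat.mu B I) = ⇑(TensorProduct.rid A B) ∘ ⇑(I.subtype.lTensor B) := by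
      funext z
      induction z with
      | zero => simp
      | add a b ha hb => simp only [map_add, ha, hb, Function.comp_apply]
      | tmul b i => simp [Groth.Agent.ArtinFlat.mu_tmul, Algebra.smul_def, mul_comm]
    rw [h, EquivLike.comp_injective]

open Groth.Agent in
/-- The kernel of a stalk map, from an affine chart with surjective section map. -/
theorem ker_stalkMap' {X Y : Scheme.{u}} (j : Y ⟶ X) (y : Y) (U : X.Opens) (hU : IsAffineOpen U) (hy : j y ∈ U)
    (hA : IsAffineOpen (j ⁻¹ᵁ U)) (hs : Function.Surjective (j.app U).hom) :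
    RingHom.ker (j.stalkMap y).hom = (RingHom.ker (j.app U).hom).map (X.presheaf.germ U (j y) hy).hom ∧
      Function.Surjective (j.stalkMap y).hom := by
  letI : Algebra Γ(X, U) (X.presheaf.stalk (j y)) := (X.presheaf.germ U (j y) hy).hom.toAlgebra
  letI : Algebra Γ(Y, j ⁻¹ᵁ U) (Y.presheaf.stalk y) := (Y.presheaf.germ (j ⁻¹ᵁ U) y hy).hom.toAlgebra
  haveI : IsLocalization.AtPrime (X.presheaf.stalk (j y)) (hU.primeIdealOf ⟨j y, hy⟩).asIdeal :=
    hU.isLocalization_stalk ⟨j y, hy⟩
  haveI : IsLocalization.AtPrime (Y.presheaf.stalk y) (hA.primeIdealOf ⟨y, hy⟩).asIdeal :=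
    hA.isLocalization_stalk ⟨y, hy⟩
  have key : ∀ r : Γ(X, U), (j.stalkMap y).hom (algebraMap _ (X.presheaf.stalk (j y)) r) =
      algebraMap Γ(Y, j ⁻¹ᵁ U) (Y.presheaf.stalk y) ((j.app U).hom r) :=
    fun r => Scheme.Hom.germ_stalkMap_apply j U y hy r
  refine ⟨le_antisymm (fun x hx => ?_) (Ideal.map_le_iff_le_comap.2 fun r hr => ?_), fun q => ?_⟩
  · obtain ⟨⟨r, s⟩, hx'⟩ := IsLocalization.surj (hU.primeIdealOf ⟨j y, hy⟩).asIdeal.primeCompl x
    have h1 : algebraMap Γ(Y, j ⁻¹ᵁ U) (Y.presheaf.stalk y) ((j.app U).hom r) = 0 := by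
      rw [← key, ← hx', map_mul, RingHom.mem_ker.1 hx, zero_mul]
    obtain ⟨t, ht⟩ := (IsLocalization.map_eq_zero_iff (hA.primeIdealOf ⟨y, hy⟩).asIdeal.primeCompl
      (Y.presheaf.stalk y) _).1 h1
    obtain ⟨T, hT⟩ := hs t.1
    have hTr : T * r ∈ RingHom.ker (j.app U).hom := by
      rw [RingHom.mem_ker, map_mul, hT]; exact ht
    have hu : IsUnit (algebraMap Γ(X, U) (X.presheaf.stalk (j y)) T) := by
      refine IsUnit.of_map (j.stalkMap y).hom _ ?_
      rw [key, hT]
      exact IsLocalization.map_units _ t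
    show x ∈ (RingHom.ker (j.app U).hom).map (algebraMap Γ(X, U) (X.presheaf.stalk (j y)))
    rw [← Ideal.unit_mul_mem_iff_mem _ hu, ← Ideal.mul_unit_mem_iff_mem _
      (IsLocalization.map_units (X.presheaf.stalk (j y)) s), mul_assoc, hx', ← map_mul]
    exact Ideal.mem_map_of_mem _ hTr
  · show (j.stalkMap y).hom (algebraMap _ (X.presheaf.stalk (j y)) r) = 0
    rw [key, RingHom.mem_ker.1 hr, map_zero]
  · obtain ⟨⟨a, b⟩, hab⟩ := IsLocalization.surj (hA.primeIdealOf ⟨y, hy⟩).asIdeal.primeCompl q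
    obtain ⟨a', ha'⟩ := hs a
    obtain ⟨b', hb'⟩ := hs b
    have hu : IsUnit (algebraMap Γ(X, U) (X.presheaf.stalk (j y)) b') := by
      refine IsUnit.of_map (j.stalkMap y).hom _ ?_
      rw [key, hb']
      exact IsLocalization.map_units _ b
    refine ⟨algebraMap _ _ a' * ↑hu.unit⁻¹, ?_⟩
    have h2 : (j.stalkMap y).hom ↑hu.unit⁻¹ * (j.stalkMap y).hom (algebraMap Γ(X, U) _ b') = 1 := by
      rw [← map_mul, IsUnit.val_inv_mul, map_one]
    rw [key, hb'] at h2
    show (j.stalkMap y).hom _ = q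
    rw [map_mul, key, ha', ← hab]
    linear_combination q * h2

/-- Let f : X ⟶ S be a morphism of schemes and i : Z ⟶ X a relative quasi-regular immersion (a
quasi-regular immersion with Z flat over S). If z is a point of Z such that O_{X, i z} is
Noetherian, then f is flat at i z. -/
theorem result {Z X S : Scheme.{u}} (f : X ⟶ S) (i : Z ⟶ X)
    (hi : RegImm.IsRelRegularImmersion RegImm.Kind.quasi f i) (z : ↥Z) [IsNoetherianRing ↑(X.presheaf.stalk (i z))] :
    (f.stalkMap (i z)).hom.Flat := by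
  obtain ⟨⟨-, hreg⟩, hflat⟩ := hi
  obtain ⟨U, hzU, hcl, rs, hq, hker⟩ := hreg z
  obtain ⟨hA, hs⟩ := Groth.Agent.PerfMor.surjective_app_of_restrict i U.2
  obtain ⟨hk, hsurj⟩ := ker_stalkMap' i z U.1 U.2 hzU hA hs
  letI : Algebra (S.presheaf.stalk (f (i z))) (X.presheaf.stalk (i z)) := (f.stalkMap (i z)).hom.toAlgebra
  letI : Algebra (S.presheaf.stalk (f (i z))) (Z.presheaf.stalk z) :=
    ((i.stalkMap z).hom.comp (f.stalkMap (i z)).hom).toAlgebra
  haveI : Module.Flat (S.presheaf.stalk (f (i z))) (Z.presheaf.stalk z) := by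
    have h := Flat.stalkMap (i ≫ f) z
    rw [Scheme.Hom.stalkMap_comp] at h
    exact h
  letI : Algebra Γ(X, U.1) (X.presheaf.stalk (i z)) := (X.presheaf.germ U.1 (i z) hzU).hom.toAlgebra
  haveI : IsLocalization.AtPrime (X.presheaf.stalk (i z)) (U.2.primeIdealOf ⟨i z, hzU⟩).asIdeal :=
    U.2.isLocalization_stalk ⟨i z, hzU⟩
  haveI : Module.Flat Γ(X, U.1) (X.presheaf.stalk (i z)) :=
    IsLocalization.flat _ (U.2.primeIdealOf ⟨i z, hzU⟩).asIdeal.primeCompl
  let f' : Fin rs.length → X.presheaf.stalk (i z) := algebraMap Γ(X, U.1) _ ∘ rs.get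
  let π : X.presheaf.stalk (i z) →ₐ[S.presheaf.stalk (f (i z))] Z.presheaf.stalk z :=
    { (i.stalkMap z).hom with commutes' := fun r => rfl }
  have hk' : RingHom.ker π.toRingHom = Ideal.span (Set.range f') := by
    show RingHom.ker (i.stalkMap z).hom = _
    rw [hk, hker, Ideal.map_ofList, Ideal.ofList]
    congr 1
    ext q
    simp only [List.mem_map, Set.mem_setOf_eq, Set.mem_range]
    exact ⟨fun ⟨r, hr, e⟩ => let ⟨n, hn⟩ := List.mem_iff_get.mp hr; ⟨n, by rw [← e, ← hn]; rfl⟩,
      fun ⟨n, e⟩ => ⟨rs.get n, List.get_mem rs n, e⟩⟩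
  have hmem : ∀ n, f' n ∈ IsLocalRing.maximalIdeal (X.presheaf.stalk (i z)) := fun n h => by
    have h0 : π (f' n) = 0 := RingHom.mem_ker.mp (hk'.ge (Ideal.subset_span ⟨n, rfl⟩))
    exact not_isUnit_zero (h0 ▸ h.map π)
  exact flat_of_regularSeq rs.length f' π hsurj hk' hmem
    (Groth.Agent.RegSeq.isWeaklyRegular_of_isQuasiRegular _ f'
      (fun n => IsLocalRing.maximalIdeal_le_jacobson _ (hmem n)) (Groth.Agent.RegSeq.isQuasiRegular_of_flat hq))

end Groth.Agent.S8893
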