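import Groth.Statements.S8894
import Groth.Agent.S8892
import Groth.Agent.S8893
import Groth.Agent.RegSeq.NoethImm
import Groth.Agent.FlatDescent.Slicing.Scheme
import Groth.Agent.S9501
import Mathlib.RingTheory.TensorProduct.Quotient
import Mathlib.AlgebraicGeometry.Fiber

set_option autoImplicit false
universe u
open CategoryTheory CategoryTheory.Limits AlgebraicGeometry TopologicalSpace
open SDiv

namespace Groth.Agent.S8894

open scoped TensorProduct
open Groth.Agent Groth.Agent.RegSeq Groth.FlatDescent Groth.FlatDescent.Slicing RingTheory.Sequence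

theorem isNoetherianRing_stalk_quot {X S : Scheme.{u}} (f : X ⟶ S) [LocallyOfFiniteType f] (x : X) :
    IsNoetherianRing (X.presheaf.stalk x ⧸ maxExt f x) := by
  have h : ∀ (s : S) (y : f.fiber s),
      IsNoetherianRing (X.presheaf.stalk (f.fiberι s y) ⧸ maxExt f (f.fiberι s y)) := fun s y => by
    haveI : LocallyOfFiniteType (f.fiberToSpecResidueField s) :=
      MorphismProperty.pullback_snd (P := @LocallyOfFiniteType) f (S.fromSpecResidueField s) inferInstance
    haveI : IsLocallyNoetherian (f.fiber s) := LocallyOfFiniteType.isLocallyNoetherian (f.fiberToSpecResidueField s)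
    obtain ⟨hs, hk⟩ := S9501.result f s y
    exact isNoetherianRing_of_ringEquiv _
      ((Ideal.quotEquivOfEq hk.symm).trans (RingHom.quotientKerEquivOfSurjective hs)).symm
  have := h (f x) (f.asFiber x)
  rwa [Scheme.Hom.fiberι_asFiber] at this

/-- Quasi-regular sequences with flat quotient stay so on the closed fibre. -/
theorem weaklyRegular_closedFibre {A B : Type u} [CommRing A] [CommRing B] [IsLocalRing B] [Algebra A B]
    (I : Ideal A) (hI : I.map (algebraMap A B) ≤ IsLocalRing.maximalIdeal B)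
    [IsNoetherianRing (B ⧸ I.map (algebraMap A B))] {n : ℕ} (t : Fin n → B)
    (ht : ∀ k, t k ∈ IsLocalRing.maximalIdeal B)
    (hflat : Module.Flat A (B ⧸ Ideal.span (Set.range t))) (hq : CAlgX.IsQuasiRegular t) :
    IsWeaklyRegular (B ⧸ I.map (algebraMap A B))
      (List.ofFn fun k => Ideal.Quotient.mk (I.map (algebraMap A B)) (t k)) := by
  have h1 := S9272.result A B (A ⧸ I) n t hflat hq
  let e₀ := (Algebra.TensorProduct.comm A (A ⧸ I) B).toRingEquiv.trans
    (Algebra.TensorProduct.quotIdealMapEquivTensorQuot B I).symm.toRingEquiv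
  have he : ∀ b : B, e₀ ((1 : A ⧸ I) ⊗ₜ[A] b) = Ideal.Quotient.mk _ b := fun b =>
    AlgEquiv.symm_apply_eq (Algebra.TensorProduct.quotIdealMapEquivTensorQuot B I) |>.2
      rfl
  letI : Algebra ((A ⧸ I) ⊗[A] B) (B ⧸ I.map (algebraMap A B)) := e₀.toRingHom.toAlgebra
  haveI : Module.Flat ((A ⧸ I) ⊗[A] B) (B ⧸ I.map (algebraMap A B)) := RingHom.Flat.of_bijective e₀.bijective
  have h2 : CAlgX.IsQuasiRegular
      (algebraMap ((A ⧸ I) ⊗[A] B) (B ⧸ I.map (algebraMap A B)) ∘ fun k => (1 : A ⧸ I) ⊗ₜ[A] t k) :=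
    isQuasiRegular_of_flat h1
  have hfun : (algebraMap ((A ⧸ I) ⊗[A] B) (B ⧸ I.map (algebraMap A B)) ∘ fun k => (1 : A ⧸ I) ⊗ₜ[A] t k) =
      fun k => Ideal.Quotient.mk (I.map (algebraMap A B)) (t k) := funext fun k => he (t k)
  rw [hfun] at h2
  refine isWeaklyRegular_of_isQuasiRegular n _ (fun k => ?_) h2
  haveI : Nontrivial (B ⧸ I.map (algebraMap A B)) := Ideal.Quotient.nontrivial_iff.mpr fun h =>
    (IsLocalRing.maximalIdeal.isMaximal B).ne_top (top_le_iff.mp (h ▸ hI))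
  haveI : IsLocalRing (B ⧸ I.map (algebraMap A B)) :=
    IsLocalRing.of_surjective' (Ideal.Quotient.mk _) Ideal.Quotient.mk_surjective
  haveI : IsLocalHom (Ideal.Quotient.mk (I.map (algebraMap A B))) :=
    IsLocalHom.of_surjective _ Ideal.Quotient.mk_surjective
  exact IsLocalRing.maximalIdeal_le_jacobson _ (map_nonunit (Ideal.Quotient.mk _) _ (ht k))

theorem exists_nbhd_eq {X : Scheme.{u}} (x : X) {U₁ U₂ : X.Opens} (h₁ : x ∈ U₁) (h₂ : x ∈ U₂) :
    ∀ (l₁ : List Γ(X, U₁)) (l₂ : List Γ(X, U₂)),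
      l₁.map (X.presheaf.germ U₁ x h₁) = l₂.map (X.presheaf.germ U₂ x h₂) →
      ∃ W : X.Opens, x ∈ W ∧ ∀ (W' : X.Opens), W' ≤ W → ∀ (e₁ : W' ≤ U₁) (e₂ : W' ≤ U₂),
        l₁.map (X.presheaf.map (homOfLE e₁).op) = l₂.map (X.presheaf.map (homOfLE e₂).op) := by
  intro l₁
  induction l₁ with
  | nil =>
    intro l₂ h
    refine ⟨⊤, trivial, fun W' _ e₁ e₂ => ?_⟩
    rw [List.map_eq_nil_iff.1 h.symm]
    rfl
  | cons a l ih =>
    intro l₂ h
    cases l₂ with
    | nil => simp at h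
    | cons b m =>
      simp only [List.map_cons, List.cons.injEq] at h
      obtain ⟨W₀, hx₀, j₁, j₂, hab⟩ := X.presheaf.germ_eq x h₁ h₂ a b h.1
      obtain ⟨W₁, hx₁, hW₁⟩ := ih m h.2
      refine ⟨W₀ ⊓ W₁, ⟨hx₀, hx₁⟩, fun W' hW' e₁ e₂ => ?_⟩
      simp only [List.map_cons]
      rw [hW₁ W' (hW'.trans inf_le_right) e₁ e₂]
      refine congrArg (· :: _) ?_
      have := congrArg (X.presheaf.map (homOfLE (hW'.trans inf_le_left)).op) hab
      rw [← CommRingCat.comp_apply, ← CommRingCat.comp_apply, ← X.presheaf.map_comp, ← X.presheaf.map_comp] at this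
      exact this

theorem regular_of_relQuasi {Z X S : Scheme.{u}} (f : X ⟶ S) [LocallyOfFinitePresentation f]
    (i : Z ⟶ X) (hf : ∀ z : Z, (f.stalkMap (i z)).hom.Flat) (hi : RegImm.IsRelRegularImmersion RegImm.Kind.quasi f i) :
    RegImm.IsRegularImmersion RegImm.Kind.regular i := by
  obtain ⟨⟨himm, hreg⟩, hflat⟩ := hi
  haveI := himm
  haveI := hflat
  refine ⟨himm, fun z => ?_⟩
  obtain ⟨U, hzU, hcl, rs, hq, hker⟩ := hreg z
  haveI := hcl
  obtain ⟨hA, hs⟩ := Groth.Agent.PerfMor.surjective_app_of_restrict i U.2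
  obtain ⟨hk, hsurj⟩ := S8893.ker_stalkMap' i z U.1 U.2 hzU hA hs
  letI : Algebra (S.presheaf.stalk (f (i z))) (X.presheaf.stalk (i z)) := (f.stalkMap (i z)).hom.toAlgebra
  letI : Algebra (S.presheaf.stalk (f (i z))) (Z.presheaf.stalk z) :=
    ((i.stalkMap z).hom.comp (f.stalkMap (i z)).hom).toAlgebra
  haveI : Module.Flat (S.presheaf.stalk (f (i z))) (Z.presheaf.stalk z) := by
    have h := Flat.stalkMap (i ≫ f) z
    rw [Scheme.Hom.stalkMap_comp] at h
    exact h
  letI : Algebra Γ(X, U.1) (X.presheaf.stalk (i z)) := (X.presheaf.germ U.1 (i z) hzU).hom.toAlgebra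
  haveI : IsLocalization.AtPrime (X.presheaf.stalk (i z)) (U.2.primeIdealOf ⟨i z, hzU⟩).asIdeal :=
    U.2.isLocalization_stalk ⟨i z, hzU⟩
  haveI : Module.Flat Γ(X, U.1) (X.presheaf.stalk (i z)) :=
    IsLocalization.flat _ (U.2.primeIdealOf ⟨i z, hzU⟩).asIdeal.primeCompl
  let t : Fin rs.length → X.presheaf.stalk (i z) := algebraMap Γ(X, U.1) _ ∘ rs.get
  have hgerm : List.ofFn t = rs.map (X.presheaf.germ U.1 (i z) hzU) := by
    rw [← List.map_ofFn, List.ofFn_get]
    rfl
  let π : X.presheaf.stalk (i z) →ₐ[S.presheaf.stalk (f (i z))] Z.presheaf.stalk z :=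
    { (i.stalkMap z).hom with commutes' := fun r => rfl }
  have hk' : RingHom.ker π = Ideal.span (Set.range t) := by
    show RingHom.ker (i.stalkMap z).hom = _
    rw [hk, hker, Ideal.map_ofList, ← ofList_ofFn, hgerm]
  have hmem : ∀ n, t n ∈ IsLocalRing.maximalIdeal (X.presheaf.stalk (i z)) := fun n h => by
    have h0 : π (t n) = 0 := RingHom.mem_ker.mp (hk'.ge (Ideal.subset_span ⟨n, rfl⟩))
    exact not_isUnit_zero (h0 ▸ h.map π)
  haveI hfl : Module.Flat (S.presheaf.stalk (f (i z))) (X.presheaf.stalk (i z) ⧸ Ideal.span (Set.range t)) := by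
    rw [← hk']
    exact Module.Flat.of_linearEquiv (Ideal.quotientKerAlgEquivOfSurjective (f := π) hsurj).toLinearEquiv
  haveI : IsNoetherianRing (X.presheaf.stalk (i z) ⧸
      (IsLocalRing.maximalIdeal (S.presheaf.stalk (f (i z)))).map
        (algebraMap (S.presheaf.stalk (f (i z))) (X.presheaf.stalk (i z)))) :=
    isNoetherianRing_stalk_quot f (i z)
  have hwr := weaklyRegular_closedFibre (IsLocalRing.maximalIdeal (S.presheaf.stalk (f (i z))))
    (Ideal.map_le_iff_le_comap.mpr fun c hc => map_nonunit (f.stalkMap (i z)).hom c hc) t hmem hfl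
    (isQuasiRegular_of_flat hq)
  obtain ⟨V, U', hV, hU', e, hxU', n, b, hbs, -, hflat'⟩ := exists_slice f (i z) (hf z)
    (List.ofFn t) (fun a ha => by obtain ⟨k, rfl⟩ := (List.mem_ofFn' _ _).1 ha; exact hmem k)
    (by rw [List.map_ofFn]; exact hwr)
  obtain ⟨W₁, hxW₁, hW₁⟩ := exists_nbhd_eq (i z) hxU' hzU (List.ofFn b) rs (hbs.trans hgerm)
  obtain ⟨g, hgW, hxg⟩ := hU'.exists_basicOpen_le (V := W₁ ⊓ U.1) ⟨i z, hxW₁, hzU⟩ hxU'
  let W := X.basicOpen g
  have eU : W ≤ U.1 := hgW.trans inf_le_right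
  have hW : IsAffineOpen W := hU'.basicOpen g
  have hwrW := isWeaklyRegular_of_flat _ (flat_eval₂Hom_basicOpen f hU' e b hflat' g)
  simp only [MvPolynomial.eval₂Hom_X'] at hwrW
  have heq : List.ofFn (fun k => X.presheaf.map (homOfLE (X.basicOpen_le g)).op (b k)) =
      rs.map (X.presheaf.map (homOfLE eU).op) := by
    rw [← hW₁ W (hgW.trans inf_le_left) (X.basicOpen_le g) eU, List.map_ofFn]
    rfl
  rw [heq] at hwrW
  obtain ⟨hcl', hker'⟩ := restrict_baseChange (g := 𝟙 X) (g' := 𝟙 Z) (IsPullback.id_horiz i) U.2 hW eU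
  have he : ((𝟙 X : X ⟶ X).appLE U.1 W eU) = X.presheaf.map (homOfLE eU).op := by
    simp [Scheme.Hom.appLE]; exact Category.id_comp _
  rw [hker, Ideal.map_ofList, he] at hker'
  refine ⟨⟨W, hW⟩, hxg, hcl', _, ⟨hwrW, fun htop => ?_⟩, hker'⟩
  rw [smul_eq_mul, Ideal.mul_top, ← hker'] at htop
  haveI : Nonempty (i ⁻¹ᵁ W).toScheme := ⟨⟨z, hxg⟩⟩
  exact RingHom.ker_ne_top (i.app W).hom htop.symm

/-- Let f : X ⟶ S be flat and locally of finite presentation and i : Z ⟶ X a relative quasi-regular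
immersion (quasi-regular immersion with Z flat over S). Then i is a regular immersion, and for every
g : S' ⟶ S the base change of i to X ×_S S' is a regular immersion. -/
theorem result {Z X S : Scheme.{u}} (f : X ⟶ S) [Flat f] [LocallyOfFinitePresentation f]
    (i : Z ⟶ X) (hi : RegImm.IsRelRegularImmersion RegImm.Kind.quasi f i) :
    RegImm.IsRegularImmersion RegImm.Kind.regular i ∧
      ∀ (S' : Scheme.{u}) (g : S' ⟶ S), RegImm.IsRegularImmersion RegImm.Kind.regular (pullback.snd i (pullback.fst f g)) := by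
  refine ⟨regular_of_relQuasi f i (fun z => Flat.stalkMap f (i z)) hi, fun S' g => ?_⟩
  exact regular_of_relQuasi (pullback.snd f g) _ (fun z => Flat.stalkMap _ _) (S8892.relBaseChange f i .quasi (Or.inr rfl) hi g)

end Groth.Agent.S8894
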