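import Groth.Statements.S6827
import Groth.Agent.RelGCILib.GlobalLift

set_option autoImplicit false
universe u
open Smoothing TensorProduct

namespace Groth.Agent.S6827

/-- Let R → R₀ be a surjective ring map with kernel I (so R₀ = R/I) and A₀ a smooth R₀-algebra. Then
there is a smooth R-algebra A with A/IA isomorphic to A₀ as an R/I-algebra. -/
theorem result {R A₀ : Type u} [CommRing R] (I : Ideal R) [CommRing A₀]
    [Algebra (R ⧸ I) A₀] [Algebra.Smooth (R ⧸ I) A₀] :
    ∃ (A : Type u) (_ : CommRing A) (_ : Algebra R A), Algebra.Smooth R A ∧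
      Nonempty ((A ⧸ I.map (algebraMap R A)) ≃ₐ[R ⧸ I] A₀) := by
  classical
  obtain ⟨A, _, _, hA, ⟨e⟩⟩ := RelGCILib.exists_syntomic_lift I (RelGCILib.isSyntomic_of_smooth (R ⧸ I) A₀)
  haveI := hA.1
  haveI := hA.2.1
  haveI : Algebra.FormallySmooth (R ⧸ I) (A ⧸ I.map (algebraMap R A)) := Algebra.FormallySmooth.of_equiv e.symm
  have hloc : ∀ Q : Ideal A, ∀ _ : Q.IsPrime, I.map (algebraMap R A) ≤ Q → Algebra.IsSmoothAt R Q := by
    intro Q _ hQ
    let p := Q.comap (algebraMap R A)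
    have hIp : I ≤ p := Ideal.map_le_iff_le_comap.1 hQ
    haveI : Q.LiesOver p := ⟨rfl⟩
    let K := p.ResidueField
    letI : Algebra (R ⧸ I) K := (Ideal.Quotient.lift I (algebraMap R K) fun r hr =>
      Ideal.algebraMap_residueField_eq_zero.2 (hIp hr)).toAlgebra
    haveI : IsScalarTower R (R ⧸ I) K := IsScalarTower.of_algebraMap_eq fun r => rfl
    let e1 : (R ⧸ I) ⊗[R] A ≃ₐ[R] A ⧸ I.map (algebraMap R A) :=
      ((Algebra.TensorProduct.quotIdealMapEquivQuotTensor A I).symm).restrictScalars R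
    let e2 : (R ⧸ I) ⊗[R] A ≃ₐ[R ⧸ I] A ⧸ I.map (algebraMap R A) :=
      AlgEquiv.ofRingEquiv (f := e1.toRingEquiv) fun x => by
        obtain ⟨r, rfl⟩ := Ideal.Quotient.mk_surjective x
        exact e1.commutes r
    haveI : Algebra.FormallySmooth (R ⧸ I) ((R ⧸ I) ⊗[R] A) := Algebra.FormallySmooth.of_equiv e2.symm
    haveI : Algebra.FormallySmooth K (K ⊗[R ⧸ I] ((R ⧸ I) ⊗[R] A)) := inferInstance
    haveI : Algebra.FormallySmooth K (p.Fiber A) :=
      Algebra.FormallySmooth.of_equiv (Algebra.TensorProduct.cancelBaseChange R (R ⧸ I) K K A)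
    exact Algebra.IsSmoothAt.of_formallySmooth_fiber p Q
  let s : Set A := {g | Algebra.Smooth R (Localization.Away g)}
  have hsup : Ideal.span s ⊔ I.map (algebraMap R A) = ⊤ := by
    by_contra hne
    obtain ⟨Q, hQ, hle⟩ := Ideal.exists_le_maximal _ hne
    have hmem : (⟨Q, hQ.isPrime⟩ : PrimeSpectrum A) ∈ Algebra.smoothLocus R A := hloc Q hQ.isPrime (le_sup_right.trans hle)
    obtain ⟨_, ⟨g, rfl⟩, hgQ, hgs⟩ := PrimeSpectrum.isTopologicalBasis_basic_opens.exists_subset_of_mem_open hmem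
      Algebra.isOpen_smoothLocus
    exact hgQ (hle (Ideal.mem_sup_left (Ideal.subset_span (Algebra.basicOpen_subset_smoothLocus_iff_smooth.1 hgs))))
  obtain ⟨hh, hhs, i, hi, hsum⟩ := Submodule.mem_sup.1 (hsup ▸ Submodule.mem_top : (1 : A) ∈ Ideal.span s ⊔ I.map (algebraMap R A))
  have hh1 : Ideal.Quotient.mk (I.map (algebraMap R A)) hh = 1 := by
    rw [← map_one (Ideal.Quotient.mk (I.map (algebraMap R A))), ← hsum, map_add, Ideal.Quotient.eq_zero_iff_mem.2 hi, add_zero]
  haveI : Algebra.Smooth R (Localization.Away hh) := by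
    refine Algebra.basicOpen_subset_smoothLocus_iff_smooth.1 fun q hq => ?_
    obtain ⟨g, hg, hgq⟩ : ∃ g ∈ s, g ∉ q.asIdeal := by
      by_contra hcon
      push Not at hcon
      exact hq (Ideal.span_le.2 hcon hhs)
    exact Algebra.basicOpen_subset_smoothLocus_iff_smooth.2 hg hgq
  obtain ⟨e₂⟩ := RelGCILib.nonempty_quotient_away_equiv I hh hh1
  refine ⟨Localization.Away hh, inferInstance, inferInstance, inferInstance,
    ⟨(AlgEquiv.ofRingEquiv (f := e₂.toRingEquiv) fun x => ?_).trans e⟩⟩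
  obtain ⟨r, rfl⟩ := Ideal.Quotient.mk_surjective x
  exact e₂.commutes r

end Groth.Agent.S6827
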