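import Mathlib
import Groth.Prelude.Def_Smoothing
import Groth.Agent.S6827

/-!
Flat deformations along nilpotent ideals of ind-smooth algebras (lifting factorizations).
-/

set_option autoImplicit false
set_option linter.style.haveILetI false
universe u
open TensorProduct

namespace IndSmNilpLib

section
variable {R Λ : Type u} [CommRing R] [CommRing Λ] [Algebra R Λ]

theorem map_sq_eq_bot (I : Ideal R) (hI : I ^ 2 = ⊥) (B : Type u) [CommRing B] [Algebra R B] :
    (I.map (algebraMap R B)) ^ 2 = ⊥ := by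
  rw [← Ideal.map_pow, hI, Ideal.map_bot]

theorem smul_map_eq_zero (I : Ideal R) (hI : I ^ 2 = ⊥) {B : Type u} [CommRing B] [Algebra R B]
    {r : R} (hr : r ∈ I) {x : B} (hx : x ∈ I.map (algebraMap R B)) : r • x = 0 := by
  rw [Algebra.smul_def]
  have h := Ideal.mul_mem_mul (Ideal.mem_map_of_mem (algebraMap R B) hr) hx
  rw [← pow_two, map_sq_eq_bot I hI B, Ideal.mem_bot] at h
  exact h

theorem exists_eq_sum (I : Ideal R) {B : Type u} [CommRing B] [Algebra R B]
    {x : B} (hx : x ∈ I.map (algebraMap R B)) :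
    ∃ (n : ℕ) (ε : Fin n → R) (b : Fin n → B), (∀ i, ε i ∈ I) ∧ x = ∑ i, ε i • b i := by
  rw [Ideal.map, Ideal.span, Submodule.mem_span_set'] at hx
  obtain ⟨n, f, g, h⟩ := hx
  choose ε hε heq using fun i => (g i).2
  refine ⟨n, ε, f, hε, ?_⟩
  rw [← h]
  refine Finset.sum_congr rfl fun i _ => ?_
  rw [smul_eq_mul, Algebra.smul_def, heq i, mul_comm]

/-- The hypothesis "`Λ/IΛ` is ind-smooth over `R/I`", in a presentation-independent form. -/
def Approx (I : Ideal R) (Λ : Type u) [CommRing Λ] [Algebra R Λ] : Prop :=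
  ∀ (C : Type u) [CommRing C] [Algebra R C], Algebra.FinitePresentation R C →
    ∀ φ : C →ₐ[R] Λ, ∃ (B : Type u) (_ : CommRing B) (_ : Algebra R B), Algebra.Smooth R B ∧
      ∃ (g : C →ₐ[R] B ⧸ I.map (algebraMap R B)) (β : B →ₐ[R] Λ),
        ∀ (c : C) (b : B), Ideal.Quotient.mk (I.map (algebraMap R B)) b = g c →
          β b - φ c ∈ I.map (algebraMap R Λ)

theorem approx_of_indSmooth (I : Ideal R) (hI : I ^ 2 = ⊥)
    {Rb Lb : Type u} [CommRing Rb] [CommRing Lb] [Algebra R Rb] [Algebra Rb Lb] [Algebra R Lb]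
    [IsScalarTower R Rb Lb] (hsurj : Function.Surjective (algebraMap R Rb))
    (hker : RingHom.ker (algebraMap R Rb) = I)
    (q : Λ →ₐ[R] Lb) (hq : Function.Surjective q)
    (hqker : RingHom.ker (q : Λ →+* Lb) = I.map (algebraMap R Λ))
    (h : Smoothing.IndSmooth Rb Lb) : Approx I Λ := by
  intro C _ _ hC φ
  haveI := hC
  let f : Rb ⊗[R] C →ₐ[Rb] Lb := Algebra.TensorProduct.lift (Algebra.ofId Rb Lb) (q.comp φ)
    fun _ _ => Commute.all _ _
  obtain ⟨B0, _, _, hB0, g0, h0, hgh⟩ := h (Rb ⊗[R] C) inferInstance f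
  haveI := hB0
  letI e : (R ⧸ I) →+* Rb := Ideal.Quotient.lift I (algebraMap R Rb) fun r hr => by
    rwa [← RingHom.mem_ker, hker]
  letI : Algebra (R ⧸ I) Rb := e.toAlgebra
  have hbij : Function.Bijective (Algebra.ofId (R ⧸ I) Rb) := by
    refine ⟨?_, fun y => ?_⟩
    · rw [injective_iff_map_eq_zero]
      intro x hx
      obtain ⟨r, rfl⟩ := Ideal.Quotient.mk_surjective x
      rw [Ideal.Quotient.eq_zero_iff_mem, ← hker, RingHom.mem_ker]
      exact hx
    · obtain ⟨r, rfl⟩ := hsurj y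
      exact ⟨Ideal.Quotient.mk I r, rfl⟩
  haveI : Algebra.Smooth (R ⧸ I) Rb :=
    Algebra.Smooth.of_equiv (AlgEquiv.ofBijective (Algebra.ofId (R ⧸ I) Rb) hbij)
  letI : Algebra (R ⧸ I) B0 := ((algebraMap Rb B0).comp e).toAlgebra
  haveI : IsScalarTower (R ⧸ I) Rb B0 := IsScalarTower.of_algebraMap_eq fun _ => rfl
  haveI : Algebra.Smooth (R ⧸ I) B0 := Algebra.Smooth.comp (R ⧸ I) Rb B0
  obtain ⟨B, _, _, hB, ⟨eB⟩⟩ := Groth.Agent.S6827.result (A₀ := B0) I
  haveI := hB
  have he : ∀ r : R, eB (algebraMap R (B ⧸ I.map (algebraMap R B)) r)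
      = algebraMap Rb B0 (algebraMap R Rb r) := fun r => eB.commutes (Ideal.Quotient.mk I r)
  -- `C → B / IB`
  let g : C →ₐ[R] B ⧸ I.map (algebraMap R B) :=
    { (eB.symm.toRingEquiv.toRingHom.comp g0.toRingHom).comp
        (Algebra.TensorProduct.includeRight : C →ₐ[R] Rb ⊗[R] C).toRingHom with
      commutes' := fun r => by
        apply eB.injective
        rw [he]
        show eB (eB.symm (g0 ((1 : Rb) ⊗ₜ[R] algebraMap R C r))) = _
        rw [eB.apply_symm_apply, ← g0.commutes, Algebra.algebraMap_eq_smul_one (R := R) (A := C),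
          TensorProduct.tmul_smul, TensorProduct.smul_tmul', ← Algebra.algebraMap_eq_smul_one]
        rfl }
  -- `B → Lb`
  let p : B →ₐ[R] Lb :=
    { (h0.toRingHom.comp eB.toRingEquiv.toRingHom).comp (Ideal.Quotient.mk _) with
      commutes' := fun r => by
        show h0 (eB (algebraMap R (B ⧸ I.map (algebraMap R B)) r)) = _
        rw [he, h0.commutes, ← IsScalarTower.algebraMap_apply] }
  have hnil : IsNilpotent (RingHom.ker (q : Λ →+* Lb)) := by
    rw [hqker]; exact ⟨2, map_sq_eq_bot I hI Λ⟩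
  refine ⟨B, _, _, hB, g, Algebra.FormallySmooth.liftOfSurjective p q hq hnil, fun c b hcb => ?_⟩
  rw [← hqker, RingHom.sub_mem_ker_iff]
  show q (Algebra.FormallySmooth.liftOfSurjective p q hq hnil b) = q (φ c)
  refine (Algebra.FormallySmooth.liftOfSurjective_apply p q hq hnil b).trans ?_
  show h0 (eB (Ideal.Quotient.mk _ b)) = q (φ c)
  rw [hcb]
  show h0 (eB (eB.symm (g0 ((1 : Rb) ⊗ₜ[R] c)))) = q (φ c)
  rw [eB.apply_symm_apply, ← AlgHom.comp_apply, hgh]
  simp [f]

theorem lift_once (I : Ideal R) (H : Approx I Λ)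
    (A : Type u) [CommRing A] [Algebra R A] [Algebra.FinitePresentation R A] (φ : A →ₐ[R] Λ) :
    ∃ (B : Type u) (_ : CommRing B) (_ : Algebra R B), Algebra.Smooth R B ∧
      ∃ J : Ideal B, J ≤ I.map (algebraMap R B) ∧ J.FG ∧
        ∃ (g : A →ₐ[R] B ⧸ J) (k : (B ⧸ J) →ₐ[R] Λ), k.comp g = φ := by
  classical
  obtain ⟨B, _, _, hB, g0, β, hgβ⟩ := H A inferInstance φ
  haveI := hB
  obtain ⟨n, π, hπ, hfg⟩ := Algebra.FinitePresentation.out (R := R) (A := A)
  obtain ⟨t, ht⟩ := hfg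
  choose b hb using fun i : Fin n => Ideal.Quotient.mk_surjective (g0 (π (MvPolynomial.X i)))
  have hd : ∀ i, φ (π (MvPolynomial.X i)) - β (b i) ∈ I.map (algebraMap R Λ) := fun i => by
    rw [← neg_sub]; exact neg_mem (hgβ _ _ (hb i))
  choose l ε lam hε hsum using fun i => exists_eq_sum I (hd i)
  let σ : Type := Σ i : Fin n, Fin (l i)
  let B' := MvPolynomial σ B
  haveI : Algebra.Smooth B B' := ⟨inferInstance, inferInstance⟩
  haveI : Algebra.Smooth R B' := Algebra.Smooth.comp R B B'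
  let k' : B' →ₐ[R] Λ := MvPolynomial.aevalTower β fun s => lam s.1 s.2
  let g' : MvPolynomial (Fin n) R →ₐ[R] B' := MvPolynomial.aeval fun i =>
    MvPolynomial.C (b i) + ∑ j, ε i j • (MvPolynomial.X ⟨i, j⟩ : B')
  have hkC : ∀ x, k' (MvPolynomial.C x) = β x := fun x => MvPolynomial.aevalTower_C _ _ x
  have hkX : ∀ s : σ, k' (MvPolynomial.X s) = lam s.1 s.2 := fun s =>
    MvPolynomial.aevalTower_X _ _ s
  have hkg : k'.comp g' = φ.comp π := MvPolynomial.algHom_ext fun i => by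
    simp only [AlgHom.comp_apply, g', MvPolynomial.aeval_X, map_add, map_sum, map_smul, hkC, hkX]
    rw [← hsum i, add_sub_cancel]
  let Q : B ⧸ I.map (algebraMap R B) →ₐ[R] B' ⧸ I.map (algebraMap R B') :=
    Ideal.Quotient.liftₐ _ ((Ideal.Quotient.mkₐ R _).comp (IsScalarTower.toAlgHom R B B')) (by
      intro x hx
      rw [AlgHom.comp_apply, Ideal.Quotient.mkₐ_eq_mk, Ideal.Quotient.eq_zero_iff_mem,
        IsScalarTower.algebraMap_eq R B B', ← Ideal.map_map]
      exact Ideal.mem_map_of_mem _ hx)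
  have hQg : (Ideal.Quotient.mkₐ R (I.map (algebraMap R B'))).comp g' = (Q.comp g0).comp π :=
    MvPolynomial.algHom_ext fun i => by
      simp only [AlgHom.comp_apply, g', MvPolynomial.aeval_X, map_add, map_sum]
      rw [Finset.sum_eq_zero, add_zero, ← hb i]
      · rfl
      · intro j _
        rw [Ideal.Quotient.mkₐ_eq_mk, Ideal.Quotient.eq_zero_iff_mem, Algebra.smul_def]
        exact Ideal.mul_mem_right _ _ (Ideal.mem_map_of_mem _ (hε i j))
  let J : Ideal B' := Ideal.span ↑(t.image g')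
  have hJI : J ≤ I.map (algebraMap R B') := Ideal.span_le.2 fun y hy => by
    obtain ⟨x, hx, rfl⟩ := Finset.mem_image.1 hy
    have hx0 : π x = 0 := by
      have : x ∈ Ideal.span (t : Set (MvPolynomial (Fin n) R)) := Ideal.subset_span hx
      rw [ht] at this; exact this
    have := DFunLike.congr_fun hQg x
    simp only [AlgHom.comp_apply, hx0, map_zero] at this
    exact Ideal.Quotient.eq_zero_iff_mem.1 this
  let F : MvPolynomial (Fin n) R →ₐ[R] B' ⧸ J := (Ideal.Quotient.mkₐ R J).comp g'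
  have hkerF : RingHom.ker π ≤ RingHom.ker F := by
    refine le_of_eq_of_le ht.symm (Ideal.span_le.2 fun x hx => ?_)
    show F x = 0
    exact Ideal.Quotient.eq_zero_iff_mem.2 (Ideal.subset_span (Finset.mem_image_of_mem g' hx))
  let g : A →ₐ[R] B' ⧸ J := (Ideal.Quotient.liftₐ (RingHom.ker π) F fun x hx => hkerF hx).comp
    (Ideal.quotientKerAlgEquivOfSurjective hπ).symm.toAlgHom
  have hgπ : ∀ x, g (π x) = F x := fun x => by
    have : (Ideal.quotientKerAlgEquivOfSurjective hπ).symm (π x) = Ideal.Quotient.mk _ x :=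
      (AlgEquiv.symm_apply_eq _).2 rfl
    simp only [g, AlgHom.comp_apply]
    erw [this]
    rfl
  have hJk : ∀ y ∈ J, k' y = 0 := by
    have : J ≤ RingHom.ker k' := Ideal.span_le.2 fun y hy => by
      obtain ⟨x, hx, rfl⟩ := Finset.mem_image.1 hy
      have hx0 : π x = 0 := by
        have : x ∈ Ideal.span (t : Set (MvPolynomial (Fin n) R)) := Ideal.subset_span hx
        rw [ht] at this; exact this
      show (k'.comp g') x = 0
      rw [hkg, AlgHom.comp_apply, hx0, map_zero]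
    exact fun y hy => this hy
  refine ⟨B', inferInstance, inferInstance, inferInstance, J, hJI, ⟨_, rfl⟩, g,
    Ideal.Quotient.liftₐ J k' hJk, ?_⟩
  ext a
  obtain ⟨x, rfl⟩ := hπ a
  rw [AlgHom.comp_apply, hgπ]
  exact DFunLike.congr_fun hkg x

theorem lift_twice (I : Ideal R) (hI : I ^ 2 = ⊥) [Module.Flat R Λ] (H : Approx I Λ)
    (B : Type u) [CommRing B] [Algebra R B] [Algebra.Smooth R B] (φ : B →ₐ[R] Λ) (J : Ideal B)
    (hJ : J ≤ I.map (algebraMap R B)) (hJfg : J.FG) (hφJ : ∀ x ∈ J, φ x = 0) :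
    ∃ (B' : Type u) (_ : CommRing B') (_ : Algebra R B'), Algebra.Smooth R B' ∧
      ∃ (α : B →ₐ[R] B') (β : B' →ₐ[R] Λ), (∀ x ∈ J, α x = 0) ∧ β.comp α = φ := by
  classical
  obtain ⟨t, ht⟩ := hJfg
  have hmem : ∀ x : t, (x : B) ∈ J := fun x => ht ▸ Ideal.subset_span x.2
  choose l ε b hε hsum using fun x : t => exists_eq_sum I (hJ (hmem x))
  have hrel : ∀ x : t, ∑ i, ε x i • φ (b x i) = 0 := fun x => by
    rw [← hφJ _ (hmem x), hsum x, map_sum]; simp
  choose κ a y hy ha using fun x : t => Module.Flat.isTrivialRelation_of_sum_smul_eq_zero (R := R) (M := Λ) (hrel x)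
  let σ := Σ x : t, Fin (κ x)
  let P := MvPolynomial σ B
  let rel : (Σ x : t, Fin (l x)) → P := fun s =>
    MvPolynomial.C (b s.1 s.2) - ∑ j, a s.1 s.2 j • MvPolynomial.X ⟨s.1, j⟩
  let N : Ideal P := Ideal.span (Set.range rel)
  haveI : Algebra.FinitePresentation R P := Algebra.FinitePresentation.trans R B P
  haveI : Algebra.FinitePresentation R (P ⧸ N) := Algebra.FinitePresentation.quotient
    (I := N) (Submodule.fg_span (Set.finite_range rel))
  let k0 : P →ₐ[R] Λ := MvPolynomial.aevalTower φ fun s => y s.1 s.2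
  have hk0C : ∀ z, k0 (MvPolynomial.C z) = φ z := fun z => MvPolynomial.aevalTower_C _ _ z
  have hk0X : ∀ s : σ, k0 (MvPolynomial.X s) = y s.1 s.2 := fun s =>
    MvPolynomial.aevalTower_X _ _ s
  have hk0 : ∀ z ∈ N, k0 z = 0 := by
    have : N ≤ RingHom.ker k0 := Ideal.span_le.2 (Set.range_subset_iff.2 fun s => by
      show k0 (rel s) = 0
      simp only [rel, map_sub, map_sum, map_smul, hk0C, hk0X]
      rw [← hy, sub_self])
    exact fun z hz => this hz
  obtain ⟨B1, _, _, hB1, J1, hJ1, -, g, k, hkg⟩ :=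
    lift_once I H (P ⧸ N) (Ideal.Quotient.liftₐ N k0 hk0)
  haveI := hB1
  let ι : B →ₐ[R] P ⧸ N := (Ideal.Quotient.mkₐ R N).comp (IsScalarTower.toAlgHom R B P)
  have hnil : IsNilpotent J1 :=
    ⟨2, le_bot_iff.1 ((Ideal.pow_right_mono hJ1 2).trans (map_sq_eq_bot I hI B1).le)⟩
  let α := Algebra.FormallySmooth.lift J1 hnil (g.comp ι)
  have hα : ∀ z, Ideal.Quotient.mk J1 (α z) = g (ι z) := fun z =>
    Algebra.FormallySmooth.mk_lift J1 hnil _ z
  refine ⟨B1, _, _, hB1, α, k.comp (Ideal.Quotient.mkₐ R J1), ?_, ?_⟩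
  · have : J ≤ RingHom.ker α := by
      refine le_of_eq_of_le ht.symm (Ideal.span_le.2 fun z hz => ?_)
      show α ((⟨z, hz⟩ : t) : B) = 0
      generalize (⟨z, hz⟩ : t) = x
      choose w hw using fun j : Fin (κ x) =>
        Ideal.Quotient.mk_surjective (g (Ideal.Quotient.mkₐ R N (MvPolynomial.X ⟨x, j⟩)))
      have hb : ∀ i, α (b x i) - ∑ j, a x i j • w j ∈ I.map (algebraMap R B1) := fun i => by
        refine hJ1 (Ideal.Quotient.eq_zero_iff_mem.1 ?_)
        have h0 : Ideal.Quotient.mkₐ R N (rel ⟨x, i⟩) = 0 :=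
          Ideal.Quotient.eq_zero_iff_mem.2 (Ideal.subset_span ⟨_, rfl⟩)
        have h1 := congrArg g h0
        simp only [rel, map_sub, map_sum, map_smul, map_zero] at h1
        rw [← Ideal.Quotient.mkₐ_eq_mk R, map_sub, map_sum]
        simp only [map_smul]
        rw [Ideal.Quotient.mkₐ_eq_mk, hα]
        simp only [hw]
        exact h1
      rw [hsum x, map_sum]
      calc ∑ i, α (ε x i • b x i) = ∑ i, ε x i • ∑ j, a x i j • w j := by
            refine Finset.sum_congr rfl fun i _ => ?_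
            rw [map_smul, ← sub_eq_zero, ← smul_sub]
            exact smul_map_eq_zero I hI (hε x i) (hb i)
        _ = ∑ j, (∑ i, ε x i * a x i j) • w j := by
            simp only [Finset.smul_sum, smul_smul, Finset.sum_smul]
            rw [Finset.sum_comm]
        _ = 0 := by simp [ha x]
    exact fun z hz => this hz
  · ext z
    show k (Ideal.Quotient.mk J1 (α z)) = φ z
    rw [hα, ← AlgHom.comp_apply, hkg]
    exact hk0C z

theorem indSmooth_of_approx (I : Ideal R) (hI : I ^ 2 = ⊥) [Module.Flat R Λ] (H : Approx I Λ) :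
    Smoothing.IndSmooth R Λ := by
  intro A _ _ hA φ
  haveI := hA
  obtain ⟨B, _, _, hB, J, hJ, hJfg, g, k, hkg⟩ := lift_once I H A φ
  haveI := hB
  obtain ⟨B', _, _, hB', α, β, hαJ, hβ⟩ := lift_twice I hI H B (k.comp (Ideal.Quotient.mkₐ R J)) J
    hJ hJfg (fun x hx => by simp [Ideal.Quotient.eq_zero_iff_mem.2 hx])
  refine ⟨B', _, _, hB', (Ideal.Quotient.liftₐ J α hαJ).comp g, β, ?_⟩
  ext a
  obtain ⟨z, hz⟩ := Ideal.Quotient.mk_surjective (g a)
  show β (Ideal.Quotient.liftₐ J α hαJ (g a)) = φ a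
  rw [← hkg, AlgHom.comp_apply, ← hz]
  exact DFunLike.congr_fun hβ z

theorem approx_quotient (I : Ideal R) (hI : I ^ 2 = ⊥)
    (h : Smoothing.IndSmooth (R ⧸ I) (Λ ⧸ I.map (algebraMap R Λ))) : Approx I Λ :=
  approx_of_indSmooth I hI (Rb := R ⧸ I) (Lb := Λ ⧸ I.map (algebraMap R Λ))
    Ideal.Quotient.mk_surjective Ideal.mk_ker (Ideal.Quotient.mkₐ R _)
    Ideal.Quotient.mk_surjective Ideal.mk_ker h

/-- One doubling step of the induction. -/
theorem indSmooth_sq (I : Ideal R) [Module.Flat R Λ]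
    (h : Smoothing.IndSmooth (R ⧸ I) (Λ ⧸ I.map (algebraMap R Λ))) :
    Smoothing.IndSmooth (R ⧸ I ^ 2) (Λ ⧸ (I ^ 2).map (algebraMap R Λ)) := by
  let mR := Ideal.Quotient.mk (I ^ 2)
  have h12 : I ^ 2 ≤ I := Ideal.pow_le_self two_ne_zero
  letI : Algebra (R ⧸ I ^ 2) (R ⧸ I) := (Ideal.Quotient.factor h12).toAlgebra
  letI : Algebra (R ⧸ I ^ 2) (Λ ⧸ I.map (algebraMap R Λ)) :=
    ((algebraMap (R ⧸ I) _).comp (Ideal.Quotient.factor h12)).toAlgebra
  haveI : IsScalarTower (R ⧸ I ^ 2) (R ⧸ I) (Λ ⧸ I.map (algebraMap R Λ)) :=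
    IsScalarTower.of_algebraMap_eq fun _ => rfl
  have hflat : Module.Flat (R ⧸ I ^ 2) (Λ ⧸ (I ^ 2).map (algebraMap R Λ)) := by
    let e1 : (R ⧸ I ^ 2) ⊗[R] Λ ≃ₐ[R] Λ ⧸ (I ^ 2).map (algebraMap R Λ) :=
      ((Algebra.TensorProduct.quotIdealMapEquivQuotTensor Λ (I ^ 2 : Ideal R)).symm).restrictScalars R
    let e2 : (R ⧸ I ^ 2) ⊗[R] Λ ≃ₐ[R ⧸ I ^ 2] Λ ⧸ (I ^ 2).map (algebraMap R Λ) :=
      AlgEquiv.ofRingEquiv (f := e1.toRingEquiv) fun x => by
        obtain ⟨r, rfl⟩ := Ideal.Quotient.mk_surjective x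
        exact e1.commutes r
    exact Module.Flat.of_linearEquiv e2.symm.toLinearEquiv
  have hsq : (I.map mR) ^ 2 = ⊥ := by
    rw [← Ideal.map_pow, Ideal.map_quotient_self]
  have h12' : (I ^ 2).map (algebraMap R Λ) ≤ I.map (algebraMap R Λ) := Ideal.map_mono h12
  refine indSmooth_of_approx (I.map mR) hsq (approx_of_indSmooth (I.map mR) hsq
    (Rb := R ⧸ I) (Lb := Λ ⧸ I.map (algebraMap R Λ)) ?_ ?_
    { Ideal.Quotient.factor h12' with
      commutes' := fun x => by
        obtain ⟨r, rfl⟩ := Ideal.Quotient.mk_surjective x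
        rfl } ?_ ?_ h)
  · exact Ideal.Quotient.factor_surjective h12
  · exact Ideal.Quotient.factor_ker h12
  · exact Ideal.Quotient.factor_surjective h12'
  · show RingHom.ker (Ideal.Quotient.factor h12') = _
    rw [Ideal.Quotient.factor_ker, Ideal.map_map, Ideal.map_map]
    rfl

theorem indSmooth_of_nilpotent (I : Ideal R) (hI : IsNilpotent I) [Module.Flat R Λ]
    (h : Smoothing.IndSmooth (R ⧸ I) (Λ ⧸ I.map (algebraMap R Λ))) :
    Smoothing.IndSmooth R Λ := by
  obtain ⟨n, hn⟩ := hI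
  suffices ∀ (k : ℕ) (K : Ideal R), K ^ (2 ^ (k + 1)) = ⊥ →
      Smoothing.IndSmooth (R ⧸ K) (Λ ⧸ K.map (algebraMap R Λ)) → Smoothing.IndSmooth R Λ by
    refine this n I (le_bot_iff.1 ?_) h
    calc I ^ (2 ^ (n + 1)) ≤ I ^ n := Ideal.pow_le_pow_right
          ((Nat.le_succ n).trans (Nat.lt_two_pow_self).le)
      _ = ⊥ := hn
  intro k
  induction k with
  | zero => exact fun K hK hKs =>
      indSmooth_of_approx K (by simpa using hK) (approx_quotient K (by simpa using hK) hKs)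
  | succ k ih =>
    intro K hK hKs
    refine ih (K ^ 2) ?_ (indSmooth_sq K hKs)
    rw [← pow_mul, ← pow_succ']
    exact hK

end

end IndSmNilpLib
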