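import Groth.Statements.S9738
import Groth.Agent.LocCritFlat.Basic
-- import your own Groth.Agent.* helpers here

set_option autoImplicit false
universe u
open FlatMor

namespace Groth.Agent.S9738

open AlgebraicGeometry CategoryTheory Limits in
/-- For a morphism f : X ⟶ S between locally Noetherian schemes, an ideal sheaf I on S with closed
subscheme Z, and Z_n the closed subscheme cut out by I^(n+1): if each base change X ×_S Z_n ⟶ Z_n is
flat, then f is flat at each point of X lying over Z. -/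
theorem result {X S : Scheme.{u}} (f : X ⟶ S) [IsLocallyNoetherian X] [IsLocallyNoetherian S]
    (I : S.IdealSheafData) (h : ∀ n : ℕ, Flat (pullback.snd f (I ^ (n + 1)).subschemeι)) (x : X) (hx : f x ∈ I.support) :
    (f.stalkMap x).hom.Flat := by
  obtain ⟨_, ⟨V, hV, rfl⟩, hxV, -⟩ :=
    S.isBasis_affineOpens.exists_subset_of_mem_open (Set.mem_univ (f x)) isOpen_univ
  obtain ⟨_, ⟨U, hU, rfl⟩, hxU, hUV⟩ :=
    X.isBasis_affineOpens.exists_subset_of_mem_open (show x ∈ (f ⁻¹ᵁ V : X.Opens) from hxV) (f ⁻¹ᵁ V).isOpen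
  have e : U ≤ f ⁻¹ᵁ V := hUV
  replace hV : IsAffineOpen V := hV
  replace hU : IsAffineOpen U := hU
  haveI : IsNoetherianRing Γ(X, U) := IsLocallyNoetherian.component_noetherian ⟨U, hU⟩
  haveI : IsNoetherianRing Γ(S, V) := IsLocallyNoetherian.component_noetherian ⟨V, hV⟩
  let φ : Γ(S, V) ⟶ Γ(X, U) := f.appLE V U e
  algebraize [φ.hom]
  have hi : hU.fromSpec ≫ f = Spec.map φ ≫ hV.fromSpec :=
    (IsAffineOpen.SpecMap_appLE_fromSpec f hV hU e).symm
  let J : Ideal Γ(S, V) := I.ideal ⟨V, hV⟩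
  have hK : CplFlat.LevelFlat J Γ(X, U) := by
    refine CplFlat.levelFlat_of_flat_tensor fun n => ?_
    cases n with
    | zero =>
      have : Subsingleton (Γ(S, V) ⧸ J ^ 0) := by
        rw [Ideal.Quotient.subsingleton_iff]; simp
      haveI := Module.Free.of_subsingleton' (Γ(S, V) ⧸ J ^ 0) (TensorProduct Γ(S, V) (Γ(S, V) ⧸ J ^ 0) Γ(X, U))
      exact Module.Flat.of_free
    | succ n =>
      let I' := I ^ (n + 1)
      let K := I'.ideal ⟨V, hV⟩
      let mkK : Γ(S, V) ⟶ CommRingCat.of (Γ(S, V) ⧸ K) := CommRingCat.ofHom (Ideal.Quotient.mk K)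
      have hk : I'.subschemeCover.f ⟨V, hV⟩ ≫ I'.subschemeι = Spec.map mkK ≫ hV.fromSpec := by
        rw [Scheme.IdealSheafData.subschemeCover_map_subschemeι, Scheme.IdealSheafData.glueDataObjι_ι]
      haveI := h n
      have h1 : Flat (pullback.snd f (Spec.map mkK ≫ hV.fromSpec)) := by
        rw [← hk]
        refine (MorphismProperty.cancel_left_of_respectsIso @Flat
          (pullbackLeftPullbackSndIso f I'.subschemeι (I'.subschemeCover.f ⟨V, hV⟩)).hom _).1 ?_
        erw [pullbackLeftPullbackSndIso_hom_snd]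
        exact MorphismProperty.pullback_snd (P := @Flat) _ _ (h n)
      have h2 : Flat (pullback.snd (hU.fromSpec ≫ f) (Spec.map mkK ≫ hV.fromSpec)) := by
        refine (MorphismProperty.cancel_left_of_respectsIso @Flat
          (pullbackRightPullbackFstIso f (Spec.map mkK ≫ hV.fromSpec) hU.fromSpec).hom _).1 ?_
        rw [pullbackRightPullbackFstIso_hom_snd]
        infer_instance
      rw [hi] at h2
      have h3 : Flat (pullback.snd (Spec.map φ) (Spec.map mkK)) := by
        have hP : IsPullback (pullback.fst (Spec.map φ) (Spec.map mkK)) (pullback.snd (Spec.map φ) (Spec.map mkK))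
            (Spec.map φ ≫ hV.fromSpec) (Spec.map mkK ≫ hV.fromSpec) :=
          IsPullback.of_isLimit (pullbackIsPullbackOfCompMono (Spec.map φ) (Spec.map mkK) hV.fromSpec)
        rw [← hP.isoPullback_hom_snd]
        infer_instance
      have h4 := LocCritFlat.flat_quot_tensor_of_flat_base_change (A := Γ(S, V)) (B := Γ(S, V) ⧸ K)
        (R := Γ(X, U)) (Spec.map φ) h3 (𝟙 _) (Category.id_comp _)
      exact h4
  let ρ : Γ(X, U) ⟶ X.presheaf.stalk x := X.presheaf.germ U x hxU
  let σ : Γ(S, V) ⟶ S.presheaf.stalk (f x) := S.presheaf.germ V (f x) hxV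
  letI : Algebra Γ(X, U) (X.presheaf.stalk x) := ρ.hom.toAlgebra
  letI : Algebra Γ(S, V) (X.presheaf.stalk x) := (φ ≫ ρ).hom.toAlgebra
  haveI : IsScalarTower Γ(S, V) Γ(X, U) (X.presheaf.stalk x) := IsScalarTower.of_algebraMap_eq' rfl
  have hloc := hU.isLocalization_stalk ⟨x, hxU⟩
  let p := (hU.primeIdealOf ⟨x, hxU⟩).asIdeal
  let q := (hV.primeIdealOf ⟨f x, hxV⟩).asIdeal
  have hKq : J.map (algebraMap Γ(S, V) Γ(X, U)) ≤ p := by
    rw [Ideal.map_le_iff_le_comap]
    have e1 : hV.primeIdealOf ⟨f x, hxV⟩ = Spec.map φ (hU.primeIdealOf ⟨x, hxU⟩) := by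
      refine hV.fromSpec.isOpenEmbedding.injective ?_
      rw [hV.fromSpec_primeIdealOf, ← Scheme.Hom.comp_apply, ← hi, Scheme.Hom.comp_apply, hU.fromSpec_primeIdealOf]
    have h5 : hV.fromSpec (hV.primeIdealOf ⟨f x, hxV⟩) ∈ I.support := by
      rw [hV.fromSpec_primeIdealOf]; exact hx
    rw [Scheme.IdealSheafData.mem_support_iff_of_mem (U := ⟨V, hV⟩) (by rw [hV.fromSpec_primeIdealOf]; exact hxV)] at h5
    rw [hV.fromSpec_primeIdealOf] at h5
    have h6 : hV.primeIdealOf ⟨f x, hxV⟩ ∈ PrimeSpectrum.zeroLocus (J : Set Γ(S, V)) := by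
      have h7 := h5
      rw [← hV.fromSpec_primeIdealOf ⟨f x, hxV⟩] at h7
      exact (Set.ext_iff.1 (hV.fromSpec_preimage_zeroLocus (J : Set Γ(S, V))) _).1 h7
    rw [PrimeSpectrum.mem_zeroLocus] at h6
    rw [e1] at h6
    exact h6
  have hflatA : Module.Flat Γ(S, V) (X.presheaf.stalk x) :=
    LocCritFlat.flat_of_levelFlat_of_le (T := X.presheaf.stalk x) J hK p p le_rfl hKq
  letI : Algebra Γ(S, V) (S.presheaf.stalk (f x)) := σ.hom.toAlgebra
  letI : Algebra (S.presheaf.stalk (f x)) (X.presheaf.stalk x) := (f.stalkMap x).hom.toAlgebra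
  haveI : IsScalarTower Γ(S, V) (S.presheaf.stalk (f x)) (X.presheaf.stalk x) := by
    refine IsScalarTower.of_algebraMap_eq' ?_
    show (φ ≫ ρ).hom = (σ ≫ f.stalkMap x).hom
    congr 1
    simp only [φ, ρ, σ, Scheme.Hom.appLE, Category.assoc, TopCat.Presheaf.germ_res]
    exact (Scheme.Hom.germ_stalkMap f V x hxV).symm
  have hlocA : IsLocalization.AtPrime (S.presheaf.stalk (f x)) q :=
    hV.isLocalization_stalk ⟨f x, hxV⟩
  show RingHom.Flat (algebraMap (S.presheaf.stalk (f x)) (X.presheaf.stalk x))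
  rw [RingHom.flat_algebraMap_iff]
  exact (Module.flat_iff_of_isLocalization (S.presheaf.stalk (f x))
    q.primeCompl (X.presheaf.stalk x)).2 hflatA

end Groth.Agent.S9738
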