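import Groth.Statements.S0304
import Groth.Agent.MatlisLib.Local

set_option autoImplicit false
universe u v
open InjHull

namespace Groth.Agent.S0304

/-- Let R be a commutative ring and E an indecomposable injective R-module. Then any two nonzero
submodules of E have nonzero intersection, and the set of elements r ∈ R such that r·x = 0 for some
nonzero x ∈ E is a prime ideal of R. -/
theorem result (R : Type u) [CommRing R] (E : Type u) [AddCommGroup E] [Module R E] (hE : InjHull.IsIndecomposable R E) (hinj : Module.Injective R E) : (∀ N N' : Submodule R E, N ≠ ⊥ → N' ≠ ⊥ → N ⊓ N' ≠ ⊥) ∧ ∃ p : Ideal R, p.IsPrime ∧ (p : Set R) = {r : R | ∃ x : E, x ≠ 0 ∧ r • x = 0} := by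
  haveI := hinj
  haveI := hE.1
  have hess : ∀ N : Submodule R E, N ≠ ⊥ → ∀ x : E, x ≠ 0 → ∃ r : R, r • x ≠ 0 ∧ r • x ∈ N := by
    intro N hN x hx
    obtain ⟨E₁, hle, hinj₁, hE₁⟩ := MatlisLib.exists_injective_essential_le N
    obtain ⟨C, hC⟩ := InjHullBasic.exists_isCompl_range hinj₁ E₁.injective_subtype
    rw [Submodule.range_subtype] at hC
    rcases hE.2 E₁ C hC with h | h
    · exact absurd (le_bot_iff.1 (h ▸ hle)) hN
    · refine hE₁ x ?_ hx
      have h1 := hC.sup_eq_top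
      rw [h, sup_bot_eq] at h1
      rw [h1]
      exact Submodule.mem_top
  have hmeet : ∀ N N' : Submodule R E, N ≠ ⊥ → N' ≠ ⊥ → N ⊓ N' ≠ ⊥ := fun N N' hN hN' => by
    obtain ⟨x, hx, hx0⟩ := Submodule.exists_mem_ne_zero_of_ne_bot hN'
    obtain ⟨r, hr0, hr⟩ := hess N hN x hx0
    exact (Submodule.ne_bot_iff _).2 ⟨r • x, ⟨hr, N'.smul_mem r hx⟩, hr0⟩
  refine ⟨hmeet,
    { carrier := {r : R | ∃ x : E, x ≠ 0 ∧ r • x = 0}
      add_mem' := ?_
      zero_mem' := let ⟨x, hx⟩ := exists_ne (0 : E); ⟨x, hx, zero_smul R x⟩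
      smul_mem' := fun c r ⟨x, hx, h⟩ => ⟨x, hx, by rw [smul_eq_mul, mul_smul, h, smul_zero]⟩ },
    ⟨?_, ?_⟩, rfl⟩
  · rintro r s ⟨x, hx, hr⟩ ⟨y, hy, hs⟩
    obtain ⟨z, ⟨hz1, hz2⟩, hz0⟩ := Submodule.exists_mem_ne_zero_of_ne_bot
      (hmeet (R ∙ x) (R ∙ y) (by simpa using hx) (by simpa using hy))
    obtain ⟨a, rfl⟩ := Submodule.mem_span_singleton.1 hz1
    obtain ⟨b, hb⟩ := Submodule.mem_span_singleton.1 hz2
    refine ⟨_, hz0, ?_⟩
    rw [add_smul]
    nth_rewrite 2 [← hb]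
    rw [smul_comm r a x, hr, smul_comm s b y, hs, smul_zero, smul_zero, add_zero]
  · rw [Ne, Ideal.eq_top_iff_one]
    rintro ⟨x, hx, h⟩
    exact hx (by rwa [one_smul] at h)
  · rintro a b ⟨x, hx, h⟩
    by_cases hb : b • x = 0
    · exact Or.inr ⟨x, hx, hb⟩
    · exact Or.inl ⟨b • x, hb, by rw [← mul_smul]; exact h⟩

end Groth.Agent.S0304
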