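import Groth.Statements.S2329
import Groth.Agent.InvPow.GloballyGenerated
import Groth.Prelude.Def_PicGrp
-- import your own Groth.Agent.* helpers here

set_option autoImplicit false
universe u
open CategoryTheory CategoryTheory.Limits AlgebraicGeometry
open EGA2

namespace Groth.Agent.S2329

/-- Let X be a quasi-compact separated scheme, L an ample invertible module and L' an invertible module.
Then there is n₀ > 0 such that L^{⊗n} ⊗ L' is ample and globally generated for every n ≥ n₀. -/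
theorem result (X : Scheme.{u}) [CompactSpace X] [X.IsSeparated] (L L' : X.Modules) (hL : CohB1.IsAmple L) (hL' : PicF.IsInvertible L') :
    ∃ n₀ : ℕ, 0 < n₀ ∧ ∀ n, n₀ ≤ n →
      CohB1.IsAmple (CohB1.tensorMod (CohB1.tensorPow L n) L') ∧ Curv2.IsGloballyGenerated (CohB1.tensorMod (CohB1.tensorPow L n) L') := by
  obtain ⟨E, hE⟩ := InvPow.exists_gen_twist hL hL'
  refine ⟨E + 1, Nat.succ_pos E, fun n hn => ⟨?_, InvPow.isGloballyGenerated_of_gen _ (hE n (by omega))⟩⟩
  obtain ⟨m, hm, rfl⟩ : ∃ m, 0 < m ∧ n = m + E := ⟨n - E, by omega, by omega⟩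
  have hP := InvPow.isInvertible_tensorMod (InvPow.isInvertible_tensorPow hL.1 E) hL'
  have hA := InvPow.isAmple_tensor (InvPow.isAmple_pow hL hm) hP fun x => by
    obtain ⟨s, hs⟩ := hE E le_rfl x
    obtain ⟨σ, hσ⟩ := InvPow.exists_gen_pow_one hP s
    exact ⟨1, Nat.one_pos, σ, hσ.ge hs⟩
  obtain ⟨a⟩ := InvPow.nonempty_tensor_assoc (InvPow.isInvertible_tensorPow hL.1 m)
    (InvPow.isInvertible_tensorPow hL.1 E) hL'
  obtain ⟨b⟩ := InvPow.nonempty_pow_add_iso hL.1 m E
  exact InvPow.isAmple_of_iso (a ≪≫ PicGrp.tensorModIso b (Iso.refl L')) hA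

end Groth.Agent.S2329
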