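import Groth.Statements.S2111
import Groth.Agent.DepthLib.SerreNormal
import Groth.Agent.DepthLib.DomainDepth

set_option autoImplicit false
universe u
open CAlg

namespace Groth.Agent.S2111

theorem hasRk_hasSk_of_normal (A : Type u) [CommRing A] [IsDomain A] [IsNoetherianRing A]
    [IsIntegrallyClosed A] : LocCoh.HasRk 1 A ∧ LocCoh.HasSk 2 A A :=
  DepthLib.hasRk_one_hasSk_two_of_normal fun p hp =>
    ⟨inferInstance, isIntegrallyClosed_of_isLocalization _ p.primeCompl p.primeCompl_le_nonZeroDivisors⟩


/-- Let `R` be a Noetherian normal domain with fraction field `K`. An element of `K` which lies in `R_𝔭`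
for every prime `𝔭` of height one lies in `R`. -/
theorem result {R : Type u} [CommRing R] [IsDomain R] [IsNoetherianRing R]
    [IsIntegrallyClosed R] (x : FractionRing R)
    (hx : ∀ (p : Ideal R) [p.IsPrime], p.height = 1 →
      x ∈ Set.range (algebraMap (Localization.AtPrime p) (FractionRing R))) :
    x ∈ Set.range (algebraMap R (FractionRing R)) := by
  refine DepthLib.mem_range_algebraMap_of_forall_depth_one x fun p hp hd => ?_
  have h := (hasRk_hasSk_of_normal R).2 p
  rw [DepthLib.depth_localization_self, DepthLib.supportDim_localization_self, hd] at h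
  have hle : p.height ≤ 1 := by
    rcases min_le_iff.mp h with h2 | h2
    · have h2' : ((2 : ℕ) : ℕ∞) ≤ ((1 : ℕ) : ℕ∞) := WithBot.coe_le_coe.mp (h2.trans_eq (by norm_num))
      exact absurd (Nat.cast_le.mp h2') (by norm_num)
    · exact WithBot.coe_le_coe.mp h2
  have hge : 1 ≤ p.height := by
    refine Order.one_le_iff_pos.mpr (pos_iff_ne_zero.mpr fun h0 => ?_)
    have h' := DepthLib.depth_le_supportDim (R := Localization.AtPrime p) (Localization.AtPrime p)
    rw [hd, Module.supportDim_self_eq_ringKrullDim, IsLocalization.AtPrime.ringKrullDim_eq_height p, h0] at h'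
    exact absurd (WithBot.coe_le_coe.mp h') (by simp)
  obtain ⟨w, rfl⟩ := hx p (le_antisymm hle hge)
  obtain ⟨⟨a, s, hs⟩, h⟩ := IsLocalization.surj p.primeCompl w
  refine ⟨a, s, hs, ?_⟩
  rw [IsScalarTower.algebraMap_apply R (Localization.AtPrime p) (FractionRing R) s,
    IsScalarTower.algebraMap_apply R (Localization.AtPrime p) (FractionRing R) a, ← map_mul, h]

end Groth.Agent.S2111
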