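import Groth.Statements.S16598
import Groth.Agent.LGLib.Rank
-- import your own Groth.Agent.* helpers here

set_option autoImplicit false
universe u v
open LGRing

namespace Groth.Agent.S16598

/-- Let R be an LG-ring and M a faithfully projective R-module (finitely generated projective and
faithful). Then M contains a unimodular element: there are m ∈ M and a linear form f on M with f(m)
= 1 (so R·m is a free direct summand of M of rank one). -/
theorem result {R : Type u} [CommRing R] (hR : LGRing.IsLGRing R)
    (M : Type v) [AddCommGroup M] [Module R M] [Module.Finite R M] [Module.Projective R M] [FaithfulSMul R M] :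
    ∃ (m : M) (f : Module.Dual R M), f m = 1 := by
  haveI : Module.Finite R (ULift.{u} M) := Module.Finite.equiv ULift.moduleEquiv.symm
  haveI : Module.Projective R (ULift.{u} M) := Module.Projective.of_equiv ULift.moduleEquiv.symm
  haveI : Module.Finite R (ULift.{v} R) := Module.Finite.equiv ULift.moduleEquiv.symm
  haveI : Module.Projective R (ULift.{v} R) := Module.Projective.of_equiv ULift.moduleEquiv.symm
  obtain ⟨f, hf⟩ := Groth.Agent.LGLib.exists_surj (A := R) hR (ULift.{u} M) (ULift.{v} R) fun p => by
    haveI := p.nontrivial
    rw [Module.rankAtStalk_eq_of_equiv (ULift.moduleEquiv : ULift.{u} M ≃ₗ[R] M),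
      Module.rankAtStalk_eq_of_equiv (ULift.moduleEquiv : ULift.{v} R ≃ₗ[R] R),
      Module.rankAtStalk_self]
    exact Groth.Agent.LGLib.rankAtStalk_pos M p
  obtain ⟨x, hx⟩ := hf ⟨1⟩
  exact ⟨x.down, ULift.moduleEquiv.toLinearMap.comp (f.comp ULift.moduleEquiv.symm.toLinearMap),
    congrArg ULift.down hx⟩


end Groth.Agent.S16598
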