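import Mathlib

/-!
# Nonresonant logarithmic poles: reduction of pole order
-/

namespace Groth.Agent.LogPoles

open Polynomial

variable {R : Type*} [CommRing R] [IsDomain R] [Algebra ℂ R] {d r : ℕ} (θ : Fin r → R)
  (hθ : ∀ i k, i ≠ k → IsUnit (θ i - θ k)) (Θ : R[X]) (hΘ : Θ = ∏ i, (X - Polynomial.C (θ i)))
  (D₀ : (Fin d → R[X]) →+ (Fin d → R[X]))
  (hD₀ : ∀ (p : R[X]) (v : Fin d → R[X]), D₀ (p • v) = (Θ * Polynomial.derivative p) • v + p • D₀ v)
  (D : (Fin d → Localization.Away Θ) →+ (Fin d → Localization.Away Θ))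
  (hD : ∀ (p : R[X]) (w : Fin d → Localization.Away Θ), D (p • w) = (Θ * Polynomial.derivative p) • w + p • D w)
  (hDD₀ : ∀ v : Fin d → R[X], D (fun j => algebraMap R[X] (Localization.Away Θ) (v j)) =
    fun j => algebraMap R[X] (Localization.Away Θ) (D₀ v j))
  (Res : Fin r → ((Fin d → R) →ₗ[R] (Fin d → R)))
  (hRes : ∀ (i : Fin r) (m : Fin d → R) (j : Fin d),
    (D₀ (fun j => Polynomial.C (m j)) j).eval (θ i) = (∏ k ∈ Finset.univ.erase i, (θ i - θ k)) * Res i m j)
  (hχ : ∀ i : Fin r, ∃ χ : ℂ[X], (Res i).charpoly = χ.map (algebraMap ℂ R) ∧ ∀ n : ℤ, n ≠ 0 → χ.eval (n : ℂ) ≠ 0)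

include hΘ in
theorem eval_Θ (i : Fin r) : Θ.eval (θ i) = 0 := by
  rw [hΘ, eval_prod]
  exact Finset.prod_eq_zero (Finset.mem_univ i) (by simp)

include hΘ in
theorem eval_Θ' (i : Fin r) : (derivative Θ).eval (θ i) = ∏ k ∈ Finset.univ.erase i, (θ i - θ k) := by
  rw [hΘ, derivative_prod_finset, eval_finsetSum, Finset.sum_eq_single i]
  · simp [eval_prod]
  · intro b _ hb
    rw [eval_mul, eval_prod, Finset.prod_eq_zero (Finset.mem_erase.2 ⟨Ne.symm hb, Finset.mem_univ i⟩) (by simp), zero_mul]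
  · simp

include hΘ hD₀ hRes in
theorem eval_D₀ (i : Fin r) (v : Fin d → R[X]) (j : Fin d) :
    (D₀ v j).eval (θ i) = (derivative Θ).eval (θ i) * Res i (fun j => (v j).eval (θ i)) j := by
  classical
  have hv : v = ∑ l, v l • (fun j => Polynomial.C ((Pi.single l (1 : R) : Fin d → R) j)) := by
    ext1 j'
    simp [Finset.sum_apply, Pi.single_apply, apply_ite Polynomial.C, Finset.sum_ite_eq]
  conv_lhs => rw [hv]
  have hm : (fun j => (v j).eval (θ i)) = ∑ l, (v l).eval (θ i) • (Pi.single l (1 : R) : Fin d → R) := by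
    ext j'; simp [Finset.sum_apply, Pi.single_apply, Finset.sum_ite_eq]
  rw [hm, map_sum, map_sum, Finset.sum_apply, eval_finsetSum, Finset.sum_apply, Finset.mul_sum]
  refine Finset.sum_congr rfl fun l _ => ?_
  rw [hD₀, Pi.add_apply, Pi.smul_apply, Pi.smul_apply, map_smul, Pi.smul_apply, smul_eq_mul, smul_eq_mul, smul_eq_mul,
    eval_add, eval_mul, eval_mul, eval_mul, eval_Θ θ Θ hΘ, hRes, eval_Θ' θ Θ hΘ]
  ring

include hθ hΘ in
theorem dvd_of_eval (p : R[X]) (h : ∀ i, p.eval (θ i) = 0) : Θ ∣ p := by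
  rw [hΘ]
  exact Finset.prod_dvd_of_coprime (fun i _ k _ hik => isCoprime_X_sub_C_of_isUnit_sub (hθ i k hik))
    fun i _ => dvd_iff_isRoot.2 (h i)

include hχ in
theorem bijective_shift (i : Fin r) (k : ℕ) :
    Function.Bijective (fun m : Fin d → R => Res i m - ((k + 1 : ℕ) : R) • m) := by
  obtain ⟨χ, hc, hn⟩ := hχ i
  set c : R := ((k + 1 : ℕ) : R)
  have hu : IsUnit ((Res i).charpoly.eval c) := by
    rw [hc, eval_map, show c = algebraMap ℂ R ((k + 1 : ℕ) : ℂ) from (map_natCast _ _).symm, eval₂_at_apply]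
    refine (IsUnit.mk0 _ ?_).map _
    simpa using hn (k + 1 : ℕ) (by omega)
  rw [← LinearMap.charpoly_toMatrix _ (Pi.basisFun R (Fin d)), Matrix.eval_charpoly] at hu
  have e : Matrix.scalar (Fin d) c - LinearMap.toMatrix (Pi.basisFun R (Fin d)) (Pi.basisFun R (Fin d)) (Res i) =
      LinearMap.toMatrix (Pi.basisFun R (Fin d)) (Pi.basisFun R (Fin d)) (c • LinearMap.id - Res i) := by
    simp [map_sub, LinearMap.toMatrix_id, Matrix.smul_one_eq_diagonal]
  rw [e, LinearMap.det_toMatrix] at hu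
  have hb := (Module.End.isUnit_iff _).1 ((LinearMap.isUnit_iff_isUnit_det _).2 hu)
  have : (fun m : Fin d → R => Res i m - c • m) = (fun m => -m) ∘ (c • LinearMap.id - Res i : (Fin d → R) →ₗ[R] (Fin d → R)) := by
    funext m; simp
  rw [this]
  exact (Equiv.neg (Fin d → R)).bijective.comp hb

include hθ hΘ in
theorem isUnit_eval_Θ' (i : Fin r) : IsUnit ((derivative Θ).eval (θ i)) := by
  rw [eval_Θ' θ Θ hΘ]
  exact IsUnit.prod_iff.2 fun k hk => hθ i k (Ne.symm (Finset.mem_erase.1 hk).1)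

/-- `ι v = v/1`. -/
local notation "ι" => fun (v : Fin d → R[X]) => fun j => algebraMap R[X] (Localization.Away Θ) (v j)

theorem exists_num (w : Fin d → Localization.Away Θ) : ∃ (k : ℕ) (v : Fin d → R[X]), Θ ^ k • w = ι v := by
  obtain ⟨⟨_, k, rfl⟩, h⟩ := IsLocalization.exist_integer_multiples_of_finite (Submonoid.powers Θ) w
  choose v hv using h
  exact ⟨k, v, funext fun j => (hv j).symm⟩

theorem smul_cancel (k : ℕ) {a b : Fin d → Localization.Away Θ} (h : Θ ^ k • a = Θ ^ k • b) : a = b := by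
  funext j
  have := congrFun h j
  simp only [Pi.smul_apply, Algebra.smul_def] at this
  exact ((IsLocalization.map_units (Localization.Away Θ) (⟨Θ ^ k, k, rfl⟩ : Submonoid.powers Θ)).mul_right_inj).1 this

include hD hDD₀ in
/-- `Θ^k D(v/Θ^k) = D₀ v - k Θ' v`. -/
theorem smul_D (k : ℕ) (w : Fin d → Localization.Away Θ) (v : Fin d → R[X]) (h : Θ ^ k • w = ι v) :
    Θ ^ k • D w = ι (D₀ v - ((k : R[X]) * derivative Θ) • v) := by
  have h1 := hD (Θ ^ k) w
  rw [h, hDD₀] at h1
  have h2 : (Θ * derivative (Θ ^ k)) • w = ι (((k : R[X]) * derivative Θ) • v) := by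
    rcases k with _ | k
    · funext j; simp
    · rw [show Θ * derivative (Θ ^ (k + 1)) = ((k + 1 : ℕ) : R[X]) * derivative Θ * Θ ^ (k + 1) by
        rw [derivative_pow_succ, C_add, C_1, Polynomial.C_eq_natCast]; push_cast; ring, mul_smul, h]
      funext j; simp [Algebra.smul_def]
  rw [h2] at h1
  funext j
  have := congrFun h1 j
  simp only [Pi.add_apply, Pi.sub_apply, map_sub] at this ⊢
  rw [this]; ring

include hΘ in
theorem Θ_ne_zero : Θ ≠ 0 := by rw [hΘ]; exact Finset.prod_ne_zero_iff.2 fun i _ => X_sub_C_ne_zero _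

include hθ hΘ hD₀ hD hDD₀ hRes hχ in
theorem injective_poles : ∀ (k : ℕ) (f : Fin d → Localization.Away Θ) (v : Fin d → R[X]), Θ ^ k • f = ι v →
    (∃ u : Fin d → R[X], D f = ι u) → ∃ u : Fin d → R[X], f = ι u := by
  intro k
  induction k with
  | zero => intro f v h _; exact ⟨v, by rwa [pow_zero, one_smul] at h⟩
  | succ k ih =>
    intro f v h hf
    obtain ⟨u, hu⟩ := hf
    have h1 := smul_D Θ D₀ D hD hDD₀ (k + 1) f v h
    rw [hu] at h1
    have h2 : ∀ j, Θ ^ (k + 1) * u j = D₀ v j - (((k + 1 : ℕ) : R[X]) * derivative Θ) * v j := by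
      intro j
      refine IsLocalization.injective (Localization.Away Θ) (powers_le_nonZeroDivisors_of_noZeroDivisors (Θ_ne_zero θ Θ hΘ)) ?_
      have := congrFun h1 j
      simpa [Algebra.smul_def] using this
    have hv : ∀ i j, (v j).eval (θ i) = 0 := by
      intro i
      have h0 : (fun m : Fin d → R => Res i m - ((k + 1 : ℕ) : R) • m) (fun j => (v j).eval (θ i)) =
          (fun m : Fin d → R => Res i m - ((k + 1 : ℕ) : R) • m) 0 := by
        funext j
        have := congrArg (Polynomial.eval (θ i)) (h2 j)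
        rw [eval_mul, eval_pow, eval_Θ θ Θ hΘ, zero_pow k.succ_ne_zero, zero_mul, eval_sub,
          eval_D₀ θ Θ hΘ D₀ hD₀ Res hRes, eval_mul, eval_mul, eval_natCast] at this
        simp only [Pi.sub_apply, Pi.smul_apply, smul_eq_mul, map_zero, Pi.zero_apply, mul_zero, sub_zero]
        refine (isUnit_eval_Θ' θ hθ Θ hΘ i).mul_right_eq_zero.1 ?_
        linear_combination -this
      exact fun j => congrFun ((bijective_shift Res hχ i k).1 h0) j
    choose v₁ hv₁ using fun j => dvd_of_eval θ hθ Θ hΘ (v j) fun i => hv i j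
    refine ih f v₁ (smul_cancel Θ 1 ?_) ⟨u, hu⟩
    rw [smul_smul, ← pow_add, add_comm 1 k, h]
    funext j; simp [hv₁ j, Algebra.smul_def]

include hθ hΘ hD₀ hD hDD₀ hRes hχ in
theorem surjective_poles : ∀ (k : ℕ) (w : Fin d → Localization.Away Θ) (v : Fin d → R[X]), Θ ^ k • w = ι v →
    ∃ (w' : Fin d → Localization.Away Θ) (u : Fin d → R[X]), w = D w' + ι u := by
  intro k
  induction k with
  | zero => intro w v h; exact ⟨0, v, by rw [map_zero, zero_add]; rwa [pow_zero, one_smul] at h⟩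
  | succ k ih =>
    intro w v h
    choose e he using fun i => (isUnit_eval_Θ' θ hθ Θ hΘ i).exists_right_inv
    choose m hm using fun i => (bijective_shift Res hχ i k).2 fun j => e i * (v j).eval (θ i)
    let q : Fin d → R[X] := fun j => ∑ i, Polynomial.C (m i j * e i) * ∏ l ∈ Finset.univ.erase i, (X - Polynomial.C (θ l))
    have hq : ∀ i j, (q j).eval (θ i) = m i j := by
      intro i j
      simp only [q, eval_finsetSum]
      rw [Finset.sum_eq_single i]
      · rw [eval_mul, eval_C, eval_prod]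
        simp only [eval_sub, eval_X, eval_C]
        rw [← eval_Θ' θ Θ hΘ, mul_assoc, mul_comm (e i), he, mul_one]
      · intro b _ hb
        rw [eval_mul, eval_prod, Finset.prod_eq_zero (Finset.mem_erase.2 ⟨Ne.symm hb, Finset.mem_univ i⟩) (by simp), mul_zero]
      · simp
    have hdvd : ∀ j, Θ ∣ v j - (D₀ q j - (((k + 1 : ℕ) : R[X]) * derivative Θ) * q j) := fun j =>
      dvd_of_eval θ hθ Θ hΘ _ fun i => by
        rw [eval_sub, eval_sub, eval_D₀ θ Θ hΘ D₀ hD₀ Res hRes, eval_mul, eval_mul, eval_natCast, hq,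
          show (fun j => (q j).eval (θ i)) = m i from funext (hq i)]
        have := congrFun (hm i) j
        simp only [Pi.sub_apply, Pi.smul_apply, smul_eq_mul] at this
        linear_combination -(derivative Θ).eval (θ i) * this - (v j).eval (θ i) * he i
    choose v₁ hv₁ using hdvd
    obtain ⟨ι', hι⟩ := (IsLocalization.map_units (Localization.Away Θ) (⟨Θ ^ (k + 1), k + 1, rfl⟩ : Submonoid.powers Θ)).exists_right_inv
    let w₀ : Fin d → Localization.Away Θ := fun j => ι' * algebraMap R[X] _ (q j)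
    have hw₀ : Θ ^ (k + 1) • w₀ = ι q := funext fun j => by
      simp only [w₀, Pi.smul_apply, Algebra.smul_def]
      rw [← mul_assoc, hι, one_mul]
    have h1 := smul_D Θ D₀ D hD hDD₀ (k + 1) w₀ q hw₀
    obtain ⟨w', u, hu⟩ := ih (w - D w₀) v₁ (smul_cancel Θ 1 (by
      rw [smul_smul, ← pow_add, add_comm 1 k, smul_sub, h, h1]
      funext j
      have e := congrArg (algebraMap R[X] (Localization.Away Θ)) (hv₁ j)
      simp only [Pi.sub_apply, Pi.smul_apply, smul_eq_mul, pow_one, map_sub, map_mul] at e ⊢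
      simp only [Algebra.smul_def]
      exact e))
    exact ⟨w₀ + w', u, by rw [map_add, add_assoc, ← hu]; abel⟩

end Groth.Agent.LogPoles
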