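import Groth.Statements.S16408
import Groth.Agent.MVTri.Basic
-- import your own Groth.Agent.* helpers here

set_option autoImplicit false
universe v u
open CategoryTheory CategoryTheory.Limits CategoryTheory.Pretriangulated
open W4c3perfectstacks W4c3perfectstacks.MVSq

namespace Groth.Agent.S16408

/-- In a Mayer–Vietoris square of triangulated categories (single-square form), the connecting maps of
the Mayer–Vietoris triangles are natural: for a morphism φ : N₁ ⟶ N₂ over X and connecting maps d₁,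
d₂ making the two Mayer–Vietoris triangles (first map the two units, second map (unit of f at j_*
j^* N, minus f_* f^* of the unit of j)) distinguished, the square formed by d₁, d₂, φ⟦1⟧ and f_* f^*
j_* j^* φ commutes. (The four categories are taken in common universes.) -/
theorem result
    (S S' R R' : Type u) [Category.{v} S] [Category.{v} S'] [Category.{v} R] [Category.{v} R']
    [Preadditive S] [Preadditive S'] [Preadditive R] [Preadditive R']
    [HasZeroObject S] [HasZeroObject S'] [HasZeroObject R] [HasZeroObject R']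
    [HasShift S ℤ] [HasShift S' ℤ] [HasShift R ℤ] [HasShift R' ℤ]
    [∀ n : ℤ, (shiftFunctor S n).Additive] [∀ n : ℤ, (shiftFunctor S' n).Additive]
    [∀ n : ℤ, (shiftFunctor R n).Additive] [∀ n : ℤ, (shiftFunctor R' n).Additive]
    [Pretriangulated S] [Pretriangulated S'] [Pretriangulated R] [Pretriangulated R']
    [IsTriangulated S] [IsTriangulated S'] [IsTriangulated R] [IsTriangulated R']
    (q : W4c3perfectstacks.MVSq S S' R R')
    [q.jst.CommShift ℤ] [q.fst.CommShift ℤ] [q.jpst.CommShift ℤ] [q.gst.CommShift ℤ]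
    [q.jst.IsTriangulated] [q.fst.IsTriangulated] [q.jpst.IsTriangulated] [q.gst.IsTriangulated]
    (hq : q.IsMV) (N₁ N₂ : S) (φ : N₁ ⟶ N₂)
    (d₁ : q.fls.obj (q.fst.obj (q.jls.obj (q.jst.obj N₁))) ⟶ N₁⟦(1 : ℤ)⟧)
    (d₂ : q.fls.obj (q.fst.obj (q.jls.obj (q.jst.obj N₂))) ⟶ N₂⟦(1 : ℤ)⟧)
    (h₁ : Triangle.mk (biprod.lift (q.adjJ.unit.app N₁) (q.adjF.unit.app N₁))
        (biprod.desc (q.adjF.unit.app (q.jls.obj (q.jst.obj N₁)))
          (-(q.fls.map (q.fst.map (q.adjJ.unit.app N₁))))) d₁ ∈ distTriang S)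
    (h₂ : Triangle.mk (biprod.lift (q.adjJ.unit.app N₂) (q.adjF.unit.app N₂))
        (biprod.desc (q.adjF.unit.app (q.jls.obj (q.jst.obj N₂)))
          (-(q.fls.map (q.fst.map (q.adjJ.unit.app N₂))))) d₂ ∈ distTriang S) :
    d₁ ≫ (shiftFunctor S (1 : ℤ)).map φ = q.fls.map (q.fst.map (q.jls.map (q.jst.map φ))) ≫ d₂ := by
  open Groth.Agent.MVTri in
  let J : S ⥤ S := q.jst ⋙ q.jls
  let F : S ⥤ S := q.fst ⋙ q.fls
  have hgz : q.gst.PreservesZeroMorphisms := inferInstance
  obtain ⟨ψ, hψ₁, hψ₂⟩ : ∃ ψ : N₁ ⟶ N₂,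
      biprod.lift (q.adjJ.unit.app N₁) (q.adjF.unit.app N₁) ≫ biprod.map (J.map φ) (F.map φ) =
        ψ ≫ biprod.lift (q.adjJ.unit.app N₂) (q.adjF.unit.app N₂) ∧
      d₁ ≫ (shiftFunctor S (1 : ℤ)).map ψ = F.map (J.map φ) ≫ d₂ := by
    have comm : biprod.desc (q.adjF.unit.app (J.obj N₁)) (-(F.map (q.adjJ.unit.app N₁))) ≫ F.map (J.map φ) =
        biprod.map (J.map φ) (F.map φ) ≫
          biprod.desc (q.adjF.unit.app (J.obj N₂)) (-(F.map (q.adjJ.unit.app N₂))) := by
      ext
      · rw [biprod.inl_desc_assoc, biprod.inl_map_assoc, biprod.inl_desc]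
        exact (q.adjF.unit.naturality (J.map φ)).symm
      · rw [biprod.inr_desc_assoc, biprod.inr_map_assoc, biprod.inr_desc]
        simp only [Preadditive.neg_comp, Preadditive.comp_neg, neg_inj]
        refine (F.map_comp _ _).symm.trans (Eq.trans ?_ (F.map_comp _ _))
        exact congrArg F.map (q.adjJ.unit.naturality φ).symm
    exact complete_distinguished_triangle_morphism₁ _ _ h₁ h₂
      (biprod.map (J.map φ) (F.map φ)) (F.map (J.map φ)) comm
  have hd : q.jst.map d₁ = 0 := by
    have hc := hq.isIso_counitJ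
    have hT := q.jst.map_distinguished _ h₁
    have hm : Mono (q.jst.map (biprod.lift (q.adjJ.unit.app N₁) (q.adjF.unit.app N₁))) := by
      have : IsIso (q.jst.map (q.adjJ.unit.app N₁)) :=
        ⟨q.adjJ.counit.app _, q.adjJ.left_triangle_components N₁, by
          have h0 := q.adjJ.left_triangle_components N₁
          have : IsIso (q.adjJ.counit.app (q.jst.obj N₁)) := inferInstance
          rw [← IsIso.inv_eq_of_inv_hom_id h0]
          exact IsIso.hom_inv_id _⟩
      have : Mono (q.jst.map (biprod.lift (q.adjJ.unit.app N₁) (q.adjF.unit.app N₁)) ≫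
          q.jst.map biprod.fst) := by
        rw [← Functor.map_comp, biprod.lift_fst]; infer_instance
      exact mono_of_mono _ (q.jst.map biprod.fst)
    have := (Triangle.mor₃_eq_zero_iff_mono₁ _ hT).2 hm
    dsimp at this
    exact (cancel_mono ((q.jst.commShiftIso (1 : ℤ)).hom.app N₁)).1 (this.trans zero_comp.symm)
  have hδ : (ψ - φ) ≫ biprod.lift (q.adjJ.unit.app N₂) (q.adjF.unit.app N₂) = 0 := by
    rw [Preadditive.sub_comp, sub_eq_zero, ← hψ₁]
    ext
    · simp only [Category.assoc, biprod.map_fst, biprod.lift_fst, biprod.lift_fst_assoc]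
      erw [biprod.lift_fst]
      exact (q.adjJ.unit.naturality φ).symm
    · simp only [Category.assoc, biprod.map_snd, biprod.lift_snd, biprod.lift_snd_assoc]
      erw [biprod.lift_snd]
      exact (q.adjF.unit.naturality φ).symm
  obtain ⟨μ, hμ⟩ := Triangle.coyoneda_exact₃ _ (rot_of_distTriang _ h₂)
    ((shiftFunctor S (1 : ℤ)).map (ψ - φ)) (by
      show (shiftFunctor S (1 : ℤ)).map (ψ - φ) ≫ (-((shiftFunctor S (1 : ℤ)).map
        (biprod.lift (q.adjJ.unit.app N₂) (q.adjF.unit.app N₂)))) = 0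
      rw [Preadditive.comp_neg, ← Functor.map_comp, hδ, Functor.map_zero, neg_zero])
  have h0 : d₁ ≫ (shiftFunctor S (1 : ℤ)).map (ψ - φ) = 0 := by
    refine (congrArg (d₁ ≫ ·) hμ).trans ?_
    refine (Category.assoc _ _ _).symm.trans ?_
    exact (congrArg (· ≫ d₂) (comp_eq_zero_of_jst_map_eq_zero q hq d₁ hd μ)).trans zero_comp
  rw [Functor.map_sub, Preadditive.comp_sub, sub_eq_zero] at h0
  rw [← h0]
  exact hψ₂

end Groth.Agent.S16408
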