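import Groth.Statements.S18738
import Groth.Agent.ModPairBasic.Prod

set_option autoImplicit false
universe u
open CategoryTheory CategoryTheory.Limits AlgebraicGeometry TopologicalSpace
open ModPair

namespace Groth.Agent.S18738

/-- In the category of modulus pairs and ambient morphisms, the class Σ of abstract admissible blow-ups
(minimal, proper, an isomorphism over the interior of the target) admits a calculus of right
fractions: it contains the identities and is stable under composition; every pair X' ⟶ X ⟵ Y with X'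
⟶ X in Σ can be completed to a commutative square with a morphism Y' ⟶ Y in Σ; and two ambient
morphisms f, g : X ⟶ Y equalized by some Y ⟶ Z in Σ are equalized by some X' ⟶ X in Σ. -/
theorem result :
    (ModPair.Pair.admBlowup.{u}).HasRightCalculusOfFractions := by
  have hid : ∀ P : ModPair.Pair.{u}, ModPair.Pair.admBlowup (𝟙 P) := fun P =>
    ⟨(Scheme.IdealSheafData.comap_id P.mod).symm, show IsProper (𝟙 P.total) from inferInstance,
      show IsIso (𝟙 P.total ∣_ _) from inferInstance⟩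
  refine { id_mem := hid, comp_mem := ?_, exists_rightFraction := ?_, ext := ?_ }
  · rintro P Q R f g ⟨hf1, hf2, hf3⟩ ⟨hg1, hg2, hg3⟩
    refine ⟨?_, show IsProper (f.hom ≫ g.hom) from inferInstance, ?_⟩
    · show P.mod = R.mod.comap (f.hom ≫ g.hom)
      rw [Scheme.IdealSheafData.comap_comp, ← hg1]
      exact hf1
    · show IsIso ((f.hom ≫ g.hom) ∣_ _)
      have h3 : IsIso (f.hom ∣_ (g.hom ⁻¹ᵁ ModPair.interior R.mod)) := by
        rw [Groth.Agent.ModPairBasic.preimage_interior, ← hg1]; exact hf3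
      rw [morphismRestrict_comp]
      exact @IsIso.comp_isIso _ _ _ _ _ _ _ h3 hg3
  · intro P Q φ
    obtain ⟨h1, h2, h3⟩ := Groth.Agent.ModPairBasic.admBlowup_mprod P.isEffCartier
      (Groth.Agent.ModPairBasic.isLocPrincipal_of_ec Q.isEffCartier) φ.f.cond φ.hs
    let Z : ModPair.Pair.{u} := ⟨_, _, h1⟩
    let zs : Z ⟶ P := ⟨_, le_of_eq h2.1⟩
    let zf : Z ⟶ Q := ⟨_, h3⟩
    refine ⟨⟨zs, h2, zf⟩, ModPair.Pair.Hom.ext ?_⟩
    show (_ ≫ _) ≫ φ.f.hom = (_ ≫ _) ≫ φ.s.hom
    rw [Category.assoc, Category.assoc, pullback.condition]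
  · intro P Q R f₁ f₂ s hs h
    obtain ⟨hs1, hs2, hs3⟩ := hs
    have := Groth.Agent.ModPairBasic.dense_of_ec P.isEffCartier
    have hh : f₁.hom ≫ s.hom = f₂.hom ≫ s.hom := congrArg ModPair.Pair.Hom.hom h
    refine ⟨P, 𝟙 P, hid P, ModPair.Pair.Hom.ext ?_⟩
    show 𝟙 _ ≫ f₁.hom = 𝟙 _ ≫ f₂.hom
    rw [Category.id_comp, Category.id_comp]
    refine Groth.Agent.ModPairBasic.ext_of_dense s.hom (ModPair.interior P.mod) _ _ hh ?_
    have hr : ∀ f : P ⟶ Q, ∃ l : (ModPair.interior P.mod : Scheme.{u}) ⟶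
        (s.hom ⁻¹ᵁ ModPair.interior R.mod : Q.total.Opens),
        l ≫ (s.hom ⁻¹ᵁ ModPair.interior R.mod).ι = (ModPair.interior P.mod).ι ≫ f.hom := by
      intro f
      refine ⟨IsOpenImmersion.lift (s.hom ⁻¹ᵁ ModPair.interior R.mod).ι _ ?_, IsOpenImmersion.lift_fac _ _ _⟩
      rw [Scheme.Opens.range_ι]
      rintro _ ⟨w, rfl⟩
      rw [Groth.Agent.ModPairBasic.preimage_interior, ← hs1]
      exact Groth.Agent.ModPairBasic.preimage_interior_le f.cond w.2
    obtain ⟨l₁, hl₁⟩ := hr f₁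
    obtain ⟨l₂, hl₂⟩ := hr f₂
    have he : l₁ ≫ (s.hom ∣_ ModPair.interior R.mod) = l₂ ≫ (s.hom ∣_ ModPair.interior R.mod) := by
      rw [← cancel_mono (ModPair.interior R.mod).ι, Category.assoc, Category.assoc, morphismRestrict_ι,
        reassoc_of% hl₁, reassoc_of% hl₂, hh]
    rw [← hl₁, ← hl₂, (cancel_mono _).mp he]

end Groth.Agent.S18738
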