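import Groth.Statements.S2475
import Groth.Agent.EGA41Lib.FieldCrit
import Mathlib.FieldTheory.IntermediateField.Adjoin.Basic

set_option autoImplicit false
universe u
open EGA41

namespace Groth.Agent.S2475

theorem exists_indep {k₀ K ι κ : Type u} [Field k₀] [Field K] [Algebra k₀ K] [Preorder ι]
    [IsDirected ι (· ≤ ·)] [Nonempty ι] {L : ι → IntermediateField k₀ K} (hL : Antitone L)
    {v : κ → K}
    (hv : ∀ (s : Finset κ) (g : κ → K), (∀ e ∈ s, g e ∈ ⨅ i, L i) → ∑ e ∈ s, g e * v e = 0 →
      ∀ e ∈ s, g e = 0)
    (s : Finset κ) :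
    ∃ i, ∀ g : κ → K, (∀ e ∈ s, g e ∈ L i) → ∑ e ∈ s, g e * v e = 0 → ∀ e ∈ s, g e = 0 := by
  classical
  induction s using Finset.induction_on with
  | empty => exact ⟨Classical.arbitrary ι, by simp⟩
  | insert a s ha ih =>
    obtain ⟨i, hi⟩ := ih
    by_contra hne
    simp only [not_exists, not_forall] at hne
    have hrel : ∀ j, i ≤ j →
        ∃ h : κ → K, (∀ e ∈ s, h e ∈ L j) ∧ v a = ∑ e ∈ s, h e * v e := by
      intro j hj
      obtain ⟨g, hg, hsum, e, he, hge⟩ := hne j
      have hga : g a ≠ 0 := by
        intro h0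
        rw [Finset.sum_insert ha, h0, zero_mul, zero_add] at hsum
        rcases Finset.mem_insert.1 he with rfl | he
        · exact hge h0
        · exact hge (hi g (fun e he => hL hj (hg e (Finset.mem_insert_of_mem he))) hsum e he)
      refine ⟨fun e => -(g a)⁻¹ * g e, fun e he => mul_mem (neg_mem (inv_mem
        (hg a (Finset.mem_insert_self a s)))) (hg e (Finset.mem_insert_of_mem he)), ?_⟩
      rw [Finset.sum_insert ha] at hsum
      simp only [mul_assoc, ← Finset.mul_sum]
      rw [eq_neg_of_add_eq_zero_right hsum]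
      field_simp
    obtain ⟨h, hh, hva⟩ := hrel i le_rfl
    have hinf : ∀ e ∈ s, h e ∈ ⨅ j, L j := by
      intro e he
      rw [← SetLike.mem_coe, IntermediateField.coe_iInf, Set.mem_iInter]
      intro j
      obtain ⟨j', hij, hjj⟩ := exists_ge_ge i j
      obtain ⟨h', hh', hva'⟩ := hrel j' hij
      have hz := hi (fun e => h e - h' e) (fun e he => sub_mem (hh e he) (hL hij (hh' e he)))
        (by simp only [sub_mul, Finset.sum_sub_distrib]; rw [← hva, ← hva', sub_self]) e he
      rw [sub_eq_zero.1 hz]
      exact hL hjj (hh' e he)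
    have hfin := hv (insert a s) (fun e => if e = a then -1 else h e) (fun e he => by
      by_cases hea : e = a
      · simp [hea, neg_mem, one_mem]
      · simpa [hea] using hinf e ((Finset.mem_insert.1 he).resolve_left hea)) (by
      rw [Finset.sum_insert ha, Finset.sum_congr rfl (fun e he => by
        rw [if_neg (fun h : e = a => ha (h ▸ he))]), ← hva]
      simp) a (Finset.mem_insert_self a s)
    simp at hfin

/-- Let K be a field of characteristic p > 0, k₀ ⊆ K a subfield and (k_α) a decreasing filtered family
of subfields of K containing k₀. Then ⋂_α k_α(K^p) = k₀(K^p) if and only if the canonical map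
Ω_{K/k₀} → lim_α Ω_{K/k_α} is injective (an element of Ω_{K/k₀} whose image in every Ω_{K/k_α}
vanishes is zero). (Conditions (b), (b') of the source, on admissible subfields, are not stated.) -/
theorem result (p : ℕ) [Fact p.Prime] {k₀ K : Type u} [Field k₀] [Field K] [Algebra k₀ K] [CharP K p]
    {ι : Type u} [Preorder ι] [IsDirected ι (· ≤ ·)] [Nonempty ι] (k : ι → IntermediateField k₀ K) (hk : Antitone k) :
    (⨅ i, k i ⊔ IntermediateField.adjoin k₀ (Set.range fun y : K => y ^ p)) = IntermediateField.adjoin k₀ (Set.range fun y : K => y ^ p) ↔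
      ∀ ω : Ω[K⁄k₀], (∀ i, KaehlerDifferential.map k₀ (k i) K K ω = 0) → ω = 0 := by
  classical
  set K' := IntermediateField.adjoin k₀ (Set.range fun y : K => y ^ p) with hK'
  have hle : ∀ i, K' ≤ k i ⊔ K' := fun i => le_sup_right
  have hpow : ∀ y : K, y ^ p ∈ K' := fun y => IntermediateField.subset_adjoin k₀ _ ⟨y, rfl⟩
  have hsub : ∀ (i : ι) (a : K), a ∈ EGA41Lib.pSub p (k i) K → a ∈ k i ⊔ K' := by
    intro i a ha
    induction ha using Algebra.adjoin_induction with
    | mem z hz =>
      obtain ⟨y, rfl⟩ := hz
      exact hle i (hpow y)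
    | algebraMap r => exact (le_sup_left : k i ≤ k i ⊔ K') r.2
    | add _ _ _ _ h1 h2 => exact add_mem h1 h2
    | mul _ _ _ _ h1 h2 => exact mul_mem h1 h2
  have hsub0 : ∀ a : K, a ∈ EGA41Lib.pSub p k₀ K ↔ a ∈ K' := by
    intro a
    constructor
    · intro ha
      exact IntermediateField.algebra_adjoin_le_adjoin k₀ _ ha
    · intro ha
      induction ha using IntermediateField.adjoin_induction with
      | mem z hz =>
        obtain ⟨y, rfl⟩ := hz
        exact EGA41Lib.pow_mem_pSub p k₀ y
      | algebraMap r => exact EGA41Lib.algebraMap_mem_pSub p k₀ r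
      | add _ _ _ _ h1 h2 => exact add_mem h1 h2
      | inv _ _ h => exact EGA41Lib.inv_mem_of_pow (EGA41Lib.pow_mem_pSub p k₀) h
      | mul _ _ _ _ h1 h2 => exact mul_mem h1 h2
  constructor
  · intro hinf ω hω
    obtain ⟨B, hB⟩ := EGA41Lib.exists_isPBasis (p := p) (k := k₀) (K := K)
    obtain ⟨b, hb⟩ := EGA41Lib.exists_basis_kaehler hB
    let l := b.repr ω
    let x : {t : B // t ∈ l.support} → K := fun t => ((t.1 : B) : K)
    have hx : EGA41Lib.PIndep p k₀ x := EGA41Lib.isPIndependent_comp hB.1
      (Subtype.val : {t : B // t ∈ l.support} → B) Subtype.val_injective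
    have hfin : Finite (EGA41Lib.Red p {t : B // t ∈ l.support}) :=
      Finite.of_injective (fun e i => (⟨e.1 i, e.2 i⟩ : Fin p)) fun e e' h =>
        Subtype.ext (Finsupp.ext fun i => congrArg Fin.val (congrFun h i))
    have : Fintype (EGA41Lib.Red p {t : B // t ∈ l.support}) := Fintype.ofFinite _
    obtain ⟨i, hi⟩ := exists_indep (L := fun i => k i ⊔ K')
      (fun a c hac => sup_le_sup_right (hk hac) K') (v := EGA41Lib.mono (p := p) x)
      (fun s g hg hsum e he => by
        rw [hinf] at hg
        have h0 := linearIndependent_iff'.1 hx s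
          (fun e => if he : e ∈ s then ⟨g e, (hsub0 _).2 (hg e he)⟩ else 0) (by
            rw [← hsum]
            refine Finset.sum_congr rfl fun e he => ?_
            rw [dif_pos he]
            rfl) e he
        rw [dif_pos he] at h0
        exact congrArg Subtype.val h0) Finset.univ
    have hxi : EGA41Lib.PIndep p (k i) x := by
      rw [EGA41Lib.PIndep, EGA41Lib.Ind, Fintype.linearIndependent_iff]
      intro g hg e
      refine Subtype.ext (hi (fun e => (g e : K)) (fun e _ => hsub i _ (g e).2) ?_ e
        (Finset.mem_univ e))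
      rw [← hg]
      rfl
    have hli := (EGA41Lib.isPIndependent_iff_linearIndependent x).1 hxi
    have h0 : ∑ t : {t : B // t ∈ l.support}, l t.1 • KaehlerDifferential.D (k i) K (x t) = 0 := by
      rw [← hω i]
      conv_rhs => rw [← b.linearCombination_repr ω]
      rw [Finsupp.linearCombination_apply, Finsupp.sum, map_sum,
        ← Finset.sum_coe_sort l.support]
      refine Fintype.sum_congr _ _ fun t => ?_
      rw [LinearMap.map_smul, hb, KaehlerDifferential.map_D]
      rfl
    have hl : l = 0 := Finsupp.ext fun t => by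
      by_contra ht
      exact ht (Fintype.linearIndependent_iff.1 hli _ h0 ⟨t, Finsupp.mem_support_iff.2 ht⟩)
    exact b.repr.map_eq_zero_iff.1 hl
  · intro hinj
    refine le_antisymm (fun a ha => ?_) (le_iInf hle)
    rw [← SetLike.mem_coe, IntermediateField.coe_iInf, Set.mem_iInter] at ha
    have hd : KaehlerDifferential.D k₀ K a = 0 := by
      refine hinj _ fun i => ?_
      rw [KaehlerDifferential.map_D]
      let δ := KaehlerDifferential.D (k i) K
      let Z : IntermediateField k₀ K :=
        { carrier := {z | δ z = 0}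
          mul_mem' := fun {u v} (hu : δ u = 0) (hv : δ v = 0) => by
            show δ (u * v) = 0
            rw [δ.leibniz, hu, hv, smul_zero, smul_zero, add_zero]
          one_mem' := δ.map_one_eq_zero
          add_mem' := fun {u v} (hu : δ u = 0) (hv : δ v = 0) => by
            show δ (u + v) = 0
            rw [map_add, hu, hv, add_zero]
          zero_mem' := map_zero δ
          algebraMap_mem' := fun r => by
            show δ (algebraMap k₀ K r) = 0
            rw [IsScalarTower.algebraMap_apply k₀ (k i) K]
            exact δ.map_algebraMap _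
          inv_mem' := fun u (hu : δ u = 0) => by
            show δ u⁻¹ = 0
            rw [Derivation.leibniz_inv, hu, smul_zero] }
      have hZ : k i ⊔ K' ≤ Z := by
        refine sup_le (fun c hc => δ.map_algebraMap ⟨c, hc⟩)
          (IntermediateField.adjoin_le_iff.2 ?_)
        rintro _ ⟨y, rfl⟩
        show δ (y ^ p) = 0
        rw [Derivation.leibniz_pow, ← Nat.cast_smul_eq_nsmul K, CharP.cast_eq_zero, zero_smul]
      exact hZ (ha i)
    refine (hsub0 a).1 ?_
    by_contra hna
    have h1 := (EGA41Lib.isPIndependent_iff_linearIndependent (k := k₀) (fun _ : PUnit.{u+1} => a)).1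
      (EGA41Lib.ind_single (EGA41Lib.pow_mem_pSub p k₀) hna)
    exact h1.ne_zero PUnit.unit hd

end Groth.Agent.S2475
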