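import Groth.Statements.S4574
import Groth.Agent.S4573
import Mathlib.RingTheory.Localization.BaseChange
-- import your own Groth.Agent.* helpers here

set_option autoImplicit false
universe u
open IsLocalRing
open EGA41

namespace Groth.Agent.S4574

open TensorProduct

/-- Localisations of regular rings are regular. -/
theorem isRegularRing_localization {T : Type u} [CommRing T] [IsRegularRing T] (M : Submonoid T) (S : Type u)
    [CommRing S] [Algebra T S] [IsLocalization M S] : IsRegularRing S := by
  haveI := IsLocalization.isNoetherianRing M S inferInstance
  rw [isRegularRing_iff]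
  intro P _
  haveI := IsLocalization.isLocalization_isLocalization_atPrime_isLocalization M (Localization.AtPrime P) P
  exact IsRegularLocalRing.of_ringEquiv
    (IsLocalization.algEquiv (P.comap (algebraMap T S)).primeCompl (Localization.AtPrime (P.comap (algebraMap T S)))
      (Localization.AtPrime P)).toRingEquiv

/-- Let k be a field and A a Noetherian local k-algebra, formally smooth over k for its adic topology.
Then every localization A_p at a prime p is formally smooth over k for the pA_p-adic topology. -/
theorem result {k A : Type u} [Field k] [CommRing A]
    [IsLocalRing A] [IsNoetherianRing A] [Algebra k A] (h : CAlgX.IsAdicFormallySmooth k A (maximalIdeal A))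
    (p : Ideal A) [p.IsPrime] :
    CAlgX.IsAdicFormallySmooth k (Localization.AtPrime p) (maximalIdeal (Localization.AtPrime p)) := by
  obtain ⟨q, hq⟩ := ExpChar.exists k
  rw [S4573.result (p := q)] at h ⊢
  intro k' _ _ hfin hk
  haveI := h k' hfin hk
  haveI : IsRegularRing (A ⊗[k] k') := IsRegularRing.of_ringEquiv (Algebra.TensorProduct.comm k k' A).toRingEquiv
  letI : Algebra (Localization.AtPrime p) ((A ⊗[k] k') ⊗[A] Localization.AtPrime p) :=
    Algebra.TensorProduct.rightAlgebra
  haveI : IsLocalization (Algebra.algebraMapSubmonoid (A ⊗[k] k') p.primeCompl)
      ((A ⊗[k] k') ⊗[A] Localization.AtPrime p) :=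
    (Algebra.isLocalization_iff_isPushout p.primeCompl (Localization.AtPrime p)).mpr inferInstance
  haveI : IsRegularRing ((A ⊗[k] k') ⊗[A] Localization.AtPrime p) :=
    isRegularRing_localization (Algebra.algebraMapSubmonoid (A ⊗[k] k') p.primeCompl) _
  exact IsRegularRing.of_ringEquiv
    ((Algebra.TensorProduct.comm A (A ⊗[k] k') (Localization.AtPrime p)).toRingEquiv.trans
      (((Algebra.TensorProduct.cancelBaseChange k A (Localization.AtPrime p) (Localization.AtPrime p) k').toRingEquiv).trans
        (Algebra.TensorProduct.comm k (Localization.AtPrime p) k').toRingEquiv))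


end Groth.Agent.S4574
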