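import Groth.Statements.S9444
import Groth.Agent.PP16Lib.CompletionEquiv
-- import your own Groth.Agent.* helpers here

set_option autoImplicit false
universe u
open CAlg

namespace Groth.Agent.S9444

/-- A complete regular local ring containing a field (that is, containing the prime field F_p or ℚ) is
isomorphic to a power series ring in finitely many variables over its residue field (existence of an
isomorphism only). -/
theorem result (R : Type u)
    [CommRing R] [IsRegularLocalRing R] [IsAdicComplete (IsLocalRing.maximalIdeal R) R]
    (k₀ : Type u) [Field k₀] [Algebra k₀ R] :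
    ∃ d : ℕ, Nonempty (R ≃+* MvPowerSeries (Fin d) (IsLocalRing.ResidueField R)) := by
  letI : Field (R ⧸ IsLocalRing.maximalIdeal R) := Ideal.Quotient.field _
  letI : Algebra (⊥ : Subfield k₀) R := ((algebraMap k₀ R).comp (⊥ : Subfield k₀).subtype).toAlgebra
  haveI := S4571.formallySmooth_of_prime (k := k₀) (K := R ⧸ IsLocalRing.maximalIdeal R)
  obtain ⟨d, e, -⟩ := PP16Lib.exists_completion_equiv_compat (F := (⊥ : Subfield k₀)) (A := R)
    (PP16Lib.symGrBijective_of_isRegularLocalRing R)
  exact ⟨d, ⟨(RingEquiv.ofBijective (algebraMap R (AdicCompletion (IsLocalRing.maximalIdeal R) R))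
      (AdicCompletion.of_bijective (IsLocalRing.maximalIdeal R) R)).trans e⟩⟩

end Groth.Agent.S9444
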