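import Groth.Statements.S2460
import Groth.Agent.CohenStruct.Structure

set_option autoImplicit false
universe u
open EGA41

namespace Groth.Agent.S2460

open IsLocalRing in
/-- Let A be a complete Noetherian local domain containing a field k₀ such that the residue field of A
is a finite extension of k₀. Then there are n and an injective local k₀-algebra homomorphism from
the power series ring k₀[[T_1, …, T_n]] into A making A a finite module over it. -/
theorem result {k₀ A : Type u} [Field k₀] [CommRing A] [IsDomain A] [IsLocalRing A] [IsNoetherianRing A]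
    [IsAdicComplete (maximalIdeal A) A] [Algebra k₀ A] [Module.Finite k₀ (ResidueField A)] :
    ∃ (n : ℕ) (w : MvPowerSeries (Fin n) k₀ →ₐ[k₀] A), Function.Injective w ∧ IsLocalHom w.toRingHom ∧ w.toRingHom.Finite := by
  classical
  obtain ⟨d, a, N, hd, ham, hNle⟩ := CohenStruct.exists_parameters A
  set I : Ideal A := Ideal.span (Set.range a) with hI
  have hIm : I ≤ maximalIdeal A := Ideal.span_le.mpr (Set.range_subset_iff.mpr ham)
  have : Nontrivial (A ⧸ I) :=
    Ideal.Quotient.nontrivial_iff.mpr (ne_top_of_le_ne_top (maximalIdeal.isMaximal A).ne_top hIm)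
  have : IsLocalRing (A ⧸ I) := .of_surjective' (Ideal.Quotient.mk I) Ideal.Quotient.mk_surjective
  have hmaxI : maximalIdeal (A ⧸ I) = (maximalIdeal A).map (Ideal.Quotient.mk I) :=
    (map_maximalIdeal_of_surjective _ Ideal.Quotient.mk_surjective).symm
  have hnil : maximalIdeal (A ⧸ I) ^ N = ⊥ := by
    rw [hmaxI, ← Ideal.map_pow, eq_bot_iff, ← Ideal.map_quotient_self I]
    exact Ideal.map_mono hNle
  -- `A ⧸ I` is integral over `k₀`
  have : Algebra.IsIntegral k₀ (A ⧸ I) := by
    refine ⟨fun x => ?_⟩
    obtain ⟨y, rfl⟩ := Ideal.Quotient.mk_surjective x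
    obtain ⟨g, hgm, hg⟩ := Algebra.IsIntegral.isIntegral (R := k₀) (residue A y)
    have hy : Polynomial.aeval y g ∈ maximalIdeal A := by
      rw [← residue_eq_zero_iff]
      exact (Polynomial.aeval_algHom_apply (IsScalarTower.toAlgHom k₀ A (ResidueField A)) y g).symm.trans hg
    refine ⟨g ^ N, hgm.pow N, ?_⟩
    rw [← Polynomial.aeval_def, map_pow,
      show Ideal.Quotient.mk I y = Ideal.Quotient.mkₐ k₀ I y from rfl, Polynomial.aeval_algHom_apply]
    have h1 := Ideal.pow_mem_pow (Ideal.mem_map_of_mem (Ideal.Quotient.mk I) hy) N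
    rw [← hmaxI, hnil, Ideal.mem_bot] at h1
    exact h1
  -- and of finite type
  have hft : Algebra.FiniteType k₀ (A ⧸ I) := by
    obtain ⟨r, b, hb⟩ := Module.Finite.exists_fin (R := k₀) (M := ResidueField A)
    choose c hc using fun i => residue_surjective (b i)
    let φ : MvPolynomial (Fin r) k₀ →ₐ[k₀] A ⧸ I :=
      MvPolynomial.aeval fun i => Ideal.Quotient.mk I (c i)
    have hsurj : Function.Surjective ((residue (A ⧸ I)).comp φ.toRingHom) := by
      intro y
      obtain ⟨y, rfl⟩ := residue_surjective y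
      obtain ⟨y, rfl⟩ := Ideal.Quotient.mk_surjective y
      have hy : residue A y ∈ Submodule.span k₀ (Set.range b) := hb.symm ▸ Submodule.mem_top
      rw [Submodule.mem_span_range_iff_exists_fun] at hy
      obtain ⟨l, hl⟩ := hy
      refine ⟨∑ i, MvPolynomial.C (l i) * MvPolynomial.X i, ?_⟩
      have h2 : ∑ i, algebraMap k₀ A (l i) * c i - y ∈ maximalIdeal A := by
        rw [← residue_eq_zero_iff, map_sub, ← hl, map_sum, sub_eq_zero]
        refine Finset.sum_congr rfl fun i _ => ?_
        rw [map_mul, hc, Algebra.smul_def]; rfl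
      rw [RingHom.comp_apply, ← sub_eq_zero, ← map_sub, residue_eq_zero_iff, hmaxI]
      have h3 : φ.toRingHom (∑ i, MvPolynomial.C (l i) * MvPolynomial.X i) - Ideal.Quotient.mk I y =
          Ideal.Quotient.mk I (∑ i, algebraMap k₀ A (l i) * c i - y) := by
        simp [φ, map_sum, map_sub, map_mul]
      rw [h3]
      exact Ideal.mem_map_of_mem _ h2
    have hfin := CohenStruct.finite_of_pow_maximalIdeal_eq_bot (IsNoetherian.noetherian _)
      φ.toRingHom hsurj hnil
    let := φ.toRingHom.toAlgebra
    have : IsScalarTower k₀ (MvPolynomial (Fin r) k₀) (A ⧸ I) :=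
      .of_algebraMap_eq fun x => (φ.commutes x).symm
    have : Module.Finite (MvPolynomial (Fin r) k₀) (A ⧸ I) := hfin
    exact Algebra.FiniteType.trans (S := MvPolynomial (Fin r) k₀) inferInstance inferInstance
  have hfin0 : ((Ideal.Quotient.mk I).comp (algebraMap k₀ A)).Finite := by
    have : Module.Finite k₀ (A ⧸ I) := Algebra.IsIntegral.finite
    exact RingHom.finite_algebraMap.mpr this
  let e := CohenStruct.evalPS (maximalIdeal A) (algebraMap k₀ A) a ham
  have hefin : e.Finite := CohenStruct.evalPS_finite _ a ham hfin0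
  let w : MvPowerSeries (Fin d) k₀ →ₐ[k₀] A :=
    { e with commutes' := fun r => CohenStruct.evalPS_C _ _ a ham r }
  have hdim := CohenStruct.ringKrullDim_mvPowerSeries_le (Λ := k₀) d ∅
    (by rw [Finset.coe_empty, Ideal.span_empty]; exact isField_iff_maximalIdeal_eq.mp (Field.toIsField k₀))
  have : IsDomain (MvPowerSeries (Fin d) k₀) := NoZeroDivisors.to_isDomain _
  refine ⟨d, w, CohenStruct.injective_of_finite_of_dim e hefin (by simpa using hdim) hd.ge, ?_, hefin⟩
  refine ⟨fun f hf => ?_⟩
  by_contra hu
  have h1 : MvPowerSeries.constantCoeff f = 0 := by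
    rw [MvPowerSeries.isUnit_iff_constantCoeff, isUnit_iff_ne_zero, not_not] at hu
    exact hu
  have h2 := Ideal.mem_map_of_mem e (CohenStruct.mem_span_X_of_constantCoeff d f h1)
  rw [CohenStruct.map_span_X] at h2
  exact (mem_maximalIdeal _).mp (hIm h2) hf

end Groth.Agent.S2460
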