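import Groth.Statements.S1326
import Groth.Agent.GeomUnib.SectionConnConstr
-- import your own Groth.Agent.* helpers here

set_option autoImplicit false
universe u
open FlatMor

namespace Groth.Agent.S1326

open AlgebraicGeometry CategoryTheory Limits in
/-- Let f be of finite presentation (locally of finite presentation, quasi-compact and quasi-separated)
with a section s. Then the section components of (f, s) form a locally constructible subset of the
source. -/
theorem result {X Y : Scheme.{u}} (f : X ⟶ Y) (s : Y ⟶ X) (hs : s ≫ f = 𝟙 Y)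
    [LocallyOfFinitePresentation f] [QuasiCompact f] [QuasiSeparated f] :
    Topology.IsLocallyConstructible (MoreMor.sectionComponents f s) := by
  refine Topology.IsLocallyConstructible.of_isOpenCover (U := fun U : Y.affineOpens => f ⁻¹ᵁ U.1)
    (TopologicalSpace.IsOpenCover.comap (iSup_affineOpens_eq_top Y) ⟨_, f.continuous⟩) fun U => ?_
  let π := U.2.fromSpec
  let q := pullback.snd f π
  let ρ := pullback.fst f π
  have hpb : IsPullback ρ q f π := IsPullback.of_hasPullback f π
  haveI : LocallyOfFinitePresentation q := MorphismProperty.pullback_snd f π ‹_›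
  haveI : QuasiCompact q := MorphismProperty.pullback_snd f π ‹_›
  haveI : QuasiSeparated q := MorphismProperty.pullback_snd f π ‹_›
  let σ : Spec Γ(Y, U.1) ⟶ pullback f π := pullback.lift (π ≫ s) (𝟙 _)
    (by rw [Category.assoc, hs, Category.comp_id, Category.id_comp])
  have hσq : σ ≫ q = 𝟙 _ := pullback.lift_snd _ _ _
  have hσρ : σ ≫ ρ = π ≫ s := pullback.lift_fst _ _ _
  have hE : Topology.IsConstructible (MoreMor.sectionComponents q σ) :=
    Groth.Agent.GeomUnib.SectionConnConstr.isConstructible_sectionComponents (A := Γ(Y, U.1)) hσq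
  let W : X.Opens := f ⁻¹ᵁ U.1
  let j : (W : Scheme.{u}) ⟶ pullback f π := pullback.lift W.ι ((f ∣_ U.1) ≫ U.2.isoSpec.hom)
    (by rw [Category.assoc, U.2.isoSpec_hom_fromSpec, morphismRestrict_ι])
  haveI : IsOpenImmersion (j ≫ ρ) := by rw [pullback.lift_fst]; infer_instance
  haveI : IsOpenImmersion j := IsOpenImmersion.of_comp j ρ
  have hW : Topology.IsLocallyConstructible (j.base ⁻¹' MoreMor.sectionComponents q σ) :=
    hE.isLocallyConstructible.preimage_of_isOpenEmbedding j.isOpenEmbedding
  refine cast (congrArg Topology.IsLocallyConstructible ?_) hW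
  ext z
  have hz : ρ.base (j.base z) = z.1 := by
    rw [← Scheme.Hom.comp_apply, pullback.lift_fst]; rfl
  have hfz : f.base z.1 = π.base (q.base (j.base z)) := by
    rw [← hz, ← Scheme.Hom.comp_apply, hpb.w, Scheme.Hom.comp_apply]
  show j.base z ∈ Groth.Agent.GeomUnib.SectionComp.X0 q σ (q.base (j.base z)) ↔
    z.1 ∈ Groth.Agent.GeomUnib.SectionComp.X0 f s (f.base z.1)
  rw [hfz, ← hz]
  exact ⟨Groth.Agent.GeomUnib.SectionBC.mem_X0_map hpb hσρ hσq,
    Groth.Agent.GeomUnib.SectionBC.mem_X0_of_map hpb hσρ hσq hs rfl⟩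

end Groth.Agent.S1326
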