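import Groth.Statements.S2173
import Groth.Agent.NumType.QuadForm
import Mathlib.Data.ZMod.Basic
import Mathlib.Algebra.CharP.Two
import Mathlib.Algebra.Ring.Int.Parity


set_option autoImplicit false
open Finset
open Models Models.NumericalType

namespace Groth.Agent.S2173

/-- For a numerical type the sum over i of m i * a i i is even; equivalently the rational number 1 + sum
m_i (w_i (g_i - 1) - a_ii / 2) defining the genus is an integer. -/
theorem result {n : ℕ} (T : Models.NumericalType n) : (2 : ℤ) ∣ ∑ i, T.m i * T.a i i := by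
  have h0 : ∑ i, ∑ j, T.a i j * T.m i * T.m j = 0 := by
    refine Finset.sum_eq_zero fun i _ => ?_
    rw [← mul_zero (T.m i), ← NumType.row_eq T i, Finset.mul_sum]
    exact Finset.sum_congr rfl fun j _ => by ring
  have hdvd : (2 : ℤ) ∣ ∑ i, ∑ j, (if i = j then 0 else T.a i j * T.m i * T.m j) := by
    rw [show (2 : ℤ) = ((2 : ℕ) : ℤ) from rfl, ← ZMod.intCast_zmod_eq_zero_iff_dvd]
    push_cast
    rw [← Finset.sum_product']
    refine Finset.sum_involution (fun p _ => (p.2, p.1)) ?_ ?_ (by simp) (by simp)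
    · rintro ⟨i, j⟩ -
      by_cases h : i = j
      · subst h; simp
      · simp only [if_neg h, if_neg (Ne.symm h)]
        rw [NumType.a_symm T j i, mul_right_comm _ ((T.m j : ℤ) : ZMod 2)]
        exact CharTwo.add_self_eq_zero _
    · rintro ⟨i, j⟩ - hne e
      simp only [Prod.mk.injEq] at e
      exact hne (by simp [e.1])
  have hsplit : ∑ i, ∑ j, T.a i j * T.m i * T.m j = ∑ i, T.a i i * T.m i * T.m i +
      ∑ i, ∑ j, (if i = j then 0 else T.a i j * T.m i * T.m j) := by
    rw [← Finset.sum_add_distrib]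
    refine Finset.sum_congr rfl fun i _ => ?_
    rw [← Finset.add_sum_erase _ _ (mem_univ i)]
    conv_rhs => rw [← Finset.add_sum_erase _ _ (mem_univ i)]
    rw [if_pos rfl, zero_add]
    congr 1
    exact Finset.sum_congr rfl fun j hj => by rw [if_neg (Finset.ne_of_mem_erase hj).symm]
  have hev : (2 : ℤ) ∣ ∑ i, T.a i i * T.m i * (T.m i - 1) := Finset.dvd_sum fun i _ => by
    have : (2 : ℤ) ∣ T.m i * (T.m i - 1) := (Int.even_mul_pred_self _).two_dvd
    rw [mul_assoc]; exact this.mul_left _
  have e : ∑ i, T.m i * T.a i i = -(∑ i, T.a i i * T.m i * (T.m i - 1)) -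
      ∑ i, ∑ j, (if i = j then 0 else T.a i j * T.m i * T.m j) := by
    have e2 : ∑ i, T.a i i * T.m i * (T.m i - 1) + ∑ i, T.m i * T.a i i =
        ∑ i, T.a i i * T.m i * T.m i := by
      rw [← Finset.sum_add_distrib]; exact Finset.sum_congr rfl fun i _ => by ring
    linarith
  rw [e]
  exact (hev.neg_right).sub hdvd

end Groth.Agent.S2173
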