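import Groth.Statements.S0439
import Groth.Agent.NwdImage.Basic
-- import your own Groth.Agent.* helpers here

set_option autoImplicit false
universe u
open FlatMor

namespace Groth.Agent.S0439

open AlgebraicGeometry CategoryTheory Limits in
/-- A quasi-finite morphism (locally of finite type, quasi-compact, with discrete fibres) maps closed
nowhere dense subsets to nowhere dense subsets. -/
theorem result {Y X : Scheme.{u}} (f : Y ⟶ X) [LocallyQuasiFinite f] [LocallyOfFiniteType f] [QuasiCompact f]
    (T : Set ↑Y) (hT : IsClosed T) (hT' : IsNowhereDense T) : IsNowhereDense (f '' T) := by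
  have key := fun y => Groth.Agent.NwdImage.exists_nhd_isNowhereDense_image f hT' y
  choose O hyO hO using key
  rw [IsNowhereDense, Set.eq_empty_iff_forall_notMem]
  intro x hx
  obtain ⟨V, hV, hxV, hVc⟩ := exists_isAffineOpen_mem_and_subset (U := ⟨_, isOpen_interior⟩) (x := x) hx
  obtain ⟨s, hs⟩ := (QuasiCompact.isCompact_preimage (f := f) _ V.2 hV.isCompact).elim_finite_subcover
    (fun y => (O y : Set Y)) (fun y => (O y).2) (fun z _ => Set.mem_iUnion.mpr ⟨z, hyO z⟩)
  have hnd : IsNowhereDense (f '' T ∩ (V : Set X)) :=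
    (Groth.Agent.NwdImage.isNowhereDense_biUnion s fun y _ => hO y).mono (by
      rintro _ ⟨⟨t, ht, rfl⟩, htV⟩
      obtain ⟨y, hy, hty⟩ := Set.mem_iUnion₂.mp (hs htV)
      exact Set.mem_iUnion₂.mpr ⟨y, hy, t, ⟨ht, hty⟩, rfl⟩)
  have hsub : (V : Set X) ⊆ closure (f '' T ∩ (V : Set X)) := fun z hz => by
    rw [Set.inter_comm]
    exact V.2.inter_closure ⟨hz, interior_subset (hVc hz)⟩
  have : x ∈ interior (closure (f '' T ∩ (V : Set X))) := mem_interior.mpr ⟨V, hsub, V.2, hxV⟩
  rw [IsNowhereDense] at hnd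
  simp [hnd] at this

end Groth.Agent.S0439
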