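import Groth.Statements.S9254
import Groth.Agent.RelGCILib.Jacobian
import Groth.Agent.KRIdeal.Seq

set_option autoImplicit false
universe u
attribute [local instance] HasDerivedCategory.standard
open CategoryTheory
open Synt

namespace Groth.Agent.S9254

/-- Let R be a ring and F_1, ..., F_c polynomials in R[x_1, ..., x_n] that present R[x_1, ...,
x_n]/(F_1, ..., F_c) as a relative global complete intersection over R. Then the Koszul complex of
F_1, ..., F_c over the polynomial ring is exact outside degree zero, that is, F_1, ..., F_c form a
Koszul-regular sequence. -/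
theorem result (R : Type u) [CommRing R] (n c : ℕ)
    (F : Fin c → MvPolynomial (Fin n) R) (h : Synt.IsRelGCI R n c F) :
    LCI.IsKoszulRegularSeq (MvPolynomial (Fin n) R) (List.ofFn F) := by
  refine (KoszulLib.ex_iff _).1 (KRIdeal.ex_of_forall_maximal fun m hm => ?_)
  by_cases hle : Ideal.span (Set.range F) ≤ m
  · refine (KoszulLib.ex_iff _).2 (RegSeq.isKoszulRegularSeq_of_isWeaklyRegular ?_)
    rw [List.map_ofFn]
    exact RelGCILib.weaklyRegular_localization F h m hle
  · refine KRIdeal.ex_of_ofList_eq_top ?_
    obtain ⟨x, hx, hxm⟩ := SetLike.not_le_iff_exists.1 hle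
    have h1 : (Ideal.span (Set.range F)).map (algebraMap _ (Localization.AtPrime m)) =
        Ideal.ofList ((List.ofFn F).map (algebraMap _ (Localization.AtPrime m))) := by
      rw [Ideal.map_span, List.map_ofFn]
      exact congrArg Ideal.span (by ext; simp)
    rw [← h1]
    exact Ideal.eq_top_of_isUnit_mem _ (Ideal.mem_map_of_mem _ hx)
      (IsLocalization.map_units _ (⟨x, hxm⟩ : m.primeCompl))

end Groth.Agent.S9254
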