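import Groth.Statements.S15742
import Groth.Agent.ConormalSection.ToSect

set_option autoImplicit false
universe u
open CategoryTheory AlgebraicGeometry
open Mor

namespace Groth.Agent.S15742

open CommRingCat in
theorem transport {A B A' B' : CommRingCat.{u}} (f : A ⟶ B) (f' : A' ⟶ B') (g : A ≅ A') (g' : B ≅ B')
    (fac : g.hom ≫ f' = f ≫ g'.hom) :
    ∃ m : CommRingCat.KaehlerDifferential f → CommRingCat.KaehlerDifferential f',
      Function.Bijective m ∧ (∀ x y, m (x + y) = m x + m y) ∧
      (∀ (b : B) x, m (b • x) = g'.hom b • m x) ∧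
      ∀ b, m (KaehlerDifferential.d b) = KaehlerDifferential.d (g'.hom b) := by
  have fac' : g.inv ≫ f = f' ≫ g'.inv := by
    rw [Iso.inv_comp_eq, reassoc_of% fac, Iso.hom_inv_id, Category.comp_id]
  let m := CommRingCat.KaehlerDifferential.map fac
  let n := CommRingCat.KaehlerDifferential.map fac'
  refine ⟨m, Function.bijective_iff_has_inverse.2 ⟨n, fun x => ?_, fun x => ?_⟩,
    fun x y => map_add m.hom x y, fun b x => map_smul m.hom b x, fun b => CommRingCat.KaehlerDifferential.map_d fac b⟩
  · let : Algebra A B := f.hom.toAlgebra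
    have hx : x ∈ Submodule.span B (Set.range (_root_.KaehlerDifferential.D A B)) := by
      rw [_root_.KaehlerDifferential.span_range_derivation]; trivial
    induction hx using Submodule.span_induction with
    | mem y hy =>
      obtain ⟨b, rfl⟩ := hy
      refine (congrArg n (CommRingCat.KaehlerDifferential.map_d fac b)).trans ((CommRingCat.KaehlerDifferential.map_d fac' _).trans ?_)
      exact congrArg KaehlerDifferential.d congr(($(g'.hom_inv_id)) b)
    | zero => exact (congrArg n (map_zero m.hom)).trans (map_zero n.hom)
    | add y z _ _ hy hz =>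
      exact (congrArg n (map_add m.hom y z)).trans ((map_add n.hom _ _).trans (congrArg₂ (· + ·) hy hz))
    | smul b y _ hy =>
      refine (congrArg n (map_smul m.hom b y)).trans ((map_smul n.hom (g'.hom b) (m y)).trans ?_)
      exact congrArg₂ (fun (c : B) z => c • z) congr(($(g'.hom_inv_id)) b) hy
  · let : Algebra A' B' := f'.hom.toAlgebra
    have hx : x ∈ Submodule.span B' (Set.range (_root_.KaehlerDifferential.D A' B')) := by
      rw [_root_.KaehlerDifferential.span_range_derivation]; trivial
    induction hx using Submodule.span_induction with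
    | mem y hy =>
      obtain ⟨b, rfl⟩ := hy
      refine (congrArg m (CommRingCat.KaehlerDifferential.map_d fac' b)).trans ((CommRingCat.KaehlerDifferential.map_d fac _).trans ?_)
      exact congrArg KaehlerDifferential.d congr(($(g'.inv_hom_id)) b)
    | zero => exact (congrArg m (map_zero n.hom)).trans (map_zero m.hom)
    | add y z _ _ hy hz =>
      exact (congrArg m (map_add n.hom y z)).trans ((map_add m.hom _ _).trans (congrArg₂ (· + ·) hy hz))
    | smul b y _ hy =>
      refine (congrArg m (map_smul n.hom b y)).trans ((map_smul m.hom (g'.inv b) (n y)).trans ?_)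
      exact congrArg₂ (fun (c : B') z => c • z) congr(($(g'.inv_hom_id)) b) hy

/-- For a commutative ring `A` and a commutative `A`-algebra `B`, the canonical map from the module of
Kähler differentials `Ω[B⁄A]` to the global sections of the sheaf of relative differentials of `Spec
B ⟶ Spec A`, semilinear along the identification of `B` with the ring of global functions on `Spec
B` and sending `D b` to `d_{X/Y}` of the global function `b`, is bijective. -/
theorem result (A B : Type u) [CommRing A] [CommRing B] [Algebra A B] :
    Function.Bijective (OmAff.toSpec A B) := by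
  obtain ⟨φ, hφ⟩ : ∃ φ : A →+* B, ‹Algebra A B› = φ.toAlgebra := ⟨_, Algebra.algebra_ext _ _ fun _ => rfl⟩
  subst hφ
  let : Algebra A B := φ.toAlgebra
  let f := Spec.map (CommRingCat.ofHom (algebraMap A B))
  have fac : (Scheme.ΓSpecIso (CommRingCat.of A)).hom ≫ CommRingCat.ofHom (algebraMap A B) =
      f.appLE ⊤ ⊤ le_top ≫ (Scheme.ΓSpecIso (CommRingCat.of B)).hom := by
    rw [show f.appLE ⊤ ⊤ le_top = f.appTop from f.app_eq_appLE.symm, Scheme.ΓSpecIso_naturality]
  obtain ⟨m, hm, hma, hms, hmd⟩ := transport (CommRingCat.ofHom (algebraMap A B)) (f.appLE ⊤ ⊤ le_top)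
    (Scheme.ΓSpecIso (CommRingCat.of A)).symm (Scheme.ΓSpecIso (CommRingCat.of B)).symm (by
      rw [Iso.symm_hom, Iso.symm_hom, Iso.inv_comp_eq, ← Category.assoc, Iso.eq_comp_inv, fac])
  have hb := ConormalSection.bijective_toSect f (isAffineOpen_top (Spec (CommRingCat.of B)))
    (isAffineOpen_top (Spec (CommRingCat.of A))) le_top
  let Φ := OmAff.toSect f ⊤ ⊤ le_top
  have key : ∀ x : Ω[B⁄A], OmAff.toSpec A B x = Φ (m x) := by
    intro x
    have hx : x ∈ Submodule.span B (Set.range (KaehlerDifferential.D A B)) := by
      rw [KaehlerDifferential.span_range_derivation]; trivial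
    induction hx using Submodule.span_induction with
    | mem y hy =>
      obtain ⟨b, rfl⟩ := hy
      exact (OmAff.toSpec_D A B b).trans (((congrArg Φ (hmd b)).trans (OmAff.toSect_d f ⊤ ⊤ le_top _))).symm
    | zero =>
      have h0 : m 0 + m 0 = m 0 := (hma 0 0).symm.trans (congrArg m (add_zero _))
      rw [add_eq_left] at h0
      exact (map_zero _).trans (((congrArg Φ h0).trans (map_zero Φ.hom))).symm
    | add y z _ _ hy hz =>
      exact (map_add _ y z).trans (((congrArg Φ (hma y z)).trans ((map_add Φ.hom _ _).trans
        (congrArg₂ (· + ·) hy.symm hz.symm)))).symm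
    | smul b y _ hy =>
      refine (LinearMap.map_smulₛₗ _ b y).trans (((congrArg Φ (hms b y)).trans ((map_smul Φ.hom _ _).trans ?_))).symm
      exact congrArg _ hy.symm
  have : (OmAff.toSpec A B : _ → _) = Φ ∘ m := funext key
  rw [this]
  exact hb.comp hm

end Groth.Agent.S15742
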