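import Mathlib

/-!
# Lengths over one-dimensional Noetherian domains
-/

open scoped TensorProduct nonZeroDivisors

namespace Groth.Agent.OneDimLenH4

variable {O : Type*} [CommRing O] [IsDomain O]
variable {N : Type*} [AddCommGroup N] [Module O N] [Module.Finite O N]

/-- A finite module over a domain contains a free submodule of full rank with torsion cokernel. -/
theorem exists_free_le :
    ∃ g : (Fin (Module.finrank O N) → O) →ₗ[O] N, Function.Injective g ∧
      ∀ z : N, ∃ c : O, c ≠ 0 ∧ c • z ∈ LinearMap.range g := by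
  obtain ⟨f, hf⟩ := exists_linearIndependent_of_le_finrank (R := O) (M := N) le_rfl
  refine ⟨Fintype.linearCombination O f,
    linearIndependent_iff_injective_fintypeLinearCombination.mp hf, fun z => ?_⟩
  by_contra! hz
  have hli : LinearIndependent O (Fin.cons z f : Fin (Module.finrank O N + 1) → N) := by
    rw [Fintype.linearIndependent_iff]
    intro c hc
    rw [Fin.sum_univ_succ] at hc
    simp only [Fin.cons_zero, Fin.cons_succ] at hc
    have h0 : c 0 = 0 := by
      by_contra h0
      refine hz (c 0) h0 ⟨fun i => -c i.succ, ?_⟩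
      rw [Fintype.linearCombination_apply]
      simp only [neg_smul, Finset.sum_neg_distrib]
      exact (eq_neg_of_add_eq_zero_left hc).symm
    rw [h0, zero_smul, zero_add] at hc
    intro i
    refine Fin.cases h0 (fun j => ?_) i
    exact Fintype.linearIndependent_iff.mp hf _ hc j
  have := hli.fintype_card_le_finrank
  simp at this

omit [IsDomain O] in
/-- A uniform annihilator of the cokernel. -/
theorem exists_smul_mem [Nontrivial O] [NoZeroDivisors O] {F : Submodule O N}
    (h : ∀ z : N, ∃ c : O, c ≠ 0 ∧ c • z ∈ F) :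
    ∃ c : O, c ≠ 0 ∧ ∀ z : N, c • z ∈ F := by
  classical
  obtain ⟨s, hs⟩ := Module.Finite.fg_top (R := O) (M := N)
  choose c hc0 hc using h
  refine ⟨∏ z ∈ s, c z, Finset.prod_ne_zero_iff.mpr fun z _ => hc0 z, fun z => ?_⟩
  have hz : z ∈ Submodule.span O (s : Set N) := hs.symm ▸ Submodule.mem_top
  induction hz using Submodule.span_induction with
  | mem x hx =>
    rw [← Finset.prod_erase_mul s c (Finset.mem_coe.mp hx), mul_smul]
    exact F.smul_mem _ (hc x)
  | zero => simp
  | add x y _ _ hx hy => rw [smul_add]; exact F.add_mem hx hy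
  | smul a x _ hx => rw [smul_comm]; exact F.smul_mem _ hx

theorem finrank_tensor (K : Type*) [Field K] [Algebra O K] [IsFractionRing O K] :
    Module.finrank K (K ⊗[O] N) = Module.finrank O N := by
  rw [IsLocalization.finrank_eq (R := O) (S := K) (O⁰) le_rfl,
    IsLocalizedModule.finrank_eq O⁰ (TensorProduct.mk O K N 1) le_rfl]

omit [IsDomain O] in
theorem length_pi_quot (n : ℕ) (x : O) :
    Module.length O ((Fin n → O) ⧸ (Ideal.span {x} • ⊤ : Submodule O (Fin n → O))) =
      n * Module.length O (O ⧸ Ideal.span {x}) := by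
  let π : (Fin n → O) →ₗ[O] (Fin n → O ⧸ Ideal.span {x}) :=
    LinearMap.pi fun i => (Ideal.span {x} : Submodule O O).mkQ.comp (LinearMap.proj i)
  have hπ : Function.Surjective π := fun y => by
    choose z hz using fun i => Submodule.mkQ_surjective (Ideal.span {x} : Submodule O O) (y i)
    exact ⟨z, funext hz⟩
  have hker : LinearMap.ker π = Ideal.span {x} • ⊤ := by
    rw [Submodule.ideal_span_singleton_smul]
    ext y
    rw [LinearMap.mem_ker, Submodule.mem_smul_pointwise_iff_exists]
    constructor
    · intro hy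
      have h : ∀ i, ∃ a, a * x = y i := fun i =>
        Ideal.mem_span_singleton'.mp ((Submodule.Quotient.mk_eq_zero _).mp (congrFun hy i))
      choose a ha using h
      exact ⟨a, Submodule.mem_top, funext fun i => by simp [← ha i, mul_comm]⟩
    · rintro ⟨a, -, rfl⟩
      funext i
      exact (Submodule.Quotient.mk_eq_zero _).mpr (Ideal.mem_span_singleton'.mpr ⟨a i, by
        simp [mul_comm]⟩)
  rw [← hker, (LinearMap.quotKerEquivOfSurjective π hπ).length_eq, Module.length_pi]
  simp

variable [IsNoetherianRing O] [Ring.KrullDimLE 1 O] [Module.IsTorsionFree O N]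

/-- `length (N / x N) = rank N * length (O / x O)`. -/
theorem length_quot_smul (x : O) (hx : x ≠ 0) :
    Module.length O (N ⧸ (Ideal.span {x} • ⊤ : Submodule O N)) =
      Module.finrank O N * Module.length O (O ⧸ Ideal.span {x}) := by
  set n := Module.finrank O N with hn
  obtain ⟨g, hg, htor⟩ := exists_free_le (O := O) (N := N)
  set F := LinearMap.range g with hF
  obtain ⟨c, hc0, hc⟩ := exists_smul_mem htor
  set xF : Submodule O N := F.map (x • LinearMap.id) with hxF
  have hxFF : xF ≤ F := by
    rintro _ ⟨z, hz, rfl⟩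
    exact F.smul_mem x hz
  have hxN : xF ≤ (Ideal.span {x} • ⊤ : Submodule O N) := by
    rintro _ ⟨z, hz, rfl⟩
    exact Submodule.smul_mem_smul (Ideal.mem_span_singleton_self x) Submodule.mem_top
  -- finite length of `N / F`
  have hfinT : Module.length O (N ⧸ F) ≠ ⊤ := by
    obtain ⟨m, p, hp⟩ := Module.Finite.exists_fin' O (N ⧸ F)
    have hker : (Ideal.span {c} • ⊤ : Submodule O (Fin m → O)) ≤ LinearMap.ker p := by
      refine Submodule.smul_le.mpr fun a ha y _ => ?_
      obtain ⟨b, rfl⟩ := Ideal.mem_span_singleton'.mp ha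
      obtain ⟨z, hz⟩ := Submodule.Quotient.mk_surjective F (p y)
      rw [LinearMap.mem_ker, map_smul, ← hz, ← Submodule.Quotient.mk_smul,
        Submodule.Quotient.mk_eq_zero, mul_smul]
      exact F.smul_mem b (hc z)
    refine ne_top_of_le_ne_top ?_ (Module.length_le_of_surjective
      ((Ideal.span {c} • ⊤ : Submodule O (Fin m → O)).liftQ p hker) (fun y => by
        obtain ⟨w, rfl⟩ := hp y
        exact ⟨Submodule.Quotient.mk w, rfl⟩))
    rw [length_pi_quot]
    exact WithTop.mul_ne_top (ENat.natCast_ne_top m)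
      (Ring.ord_ne_top (mem_nonZeroDivisors_of_ne_zero hc0))
  -- `0 → Oⁿ/xOⁿ → N/xF → N/F → 0`
  have h1 : Module.length O (N ⧸ xF) =
      n * Module.length O (O ⧸ Ideal.span {x}) + Module.length O (N ⧸ F) := by
    rw [← length_pi_quot]
    have hle : (Ideal.span {x} • ⊤ : Submodule O (Fin n → O)) ≤ xF.comap g := by
      refine Submodule.smul_le.mpr fun a ha y _ => ?_
      obtain ⟨b, rfl⟩ := Ideal.mem_span_singleton'.mp ha
      exact ⟨b • g y, F.smul_mem b ⟨y, rfl⟩, by simp [smul_smul, mul_comm b x]⟩
    refine Module.length_eq_add_of_exact (Submodule.mapQ _ _ g hle) (Submodule.factor hxFF)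
      ?_ (Submodule.factor_surjective hxFF) ?_
    · rw [← LinearMap.ker_eq_bot, LinearMap.ker_eq_bot']
      intro y hy
      obtain ⟨y, rfl⟩ := Submodule.Quotient.mk_surjective _ y
      obtain ⟨_, ⟨w, rfl⟩, hw⟩ := (Submodule.Quotient.mk_eq_zero _).mp hy
      have : y = x • w := hg (by rw [map_smul]; exact hw.symm)
      rw [Submodule.Quotient.mk_eq_zero, this]
      exact Submodule.smul_mem_smul (Ideal.mem_span_singleton_self x) Submodule.mem_top
    · intro z
      obtain ⟨z, rfl⟩ := Submodule.Quotient.mk_surjective _ z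
      constructor
      · intro hz
        obtain ⟨y, rfl⟩ := (Submodule.Quotient.mk_eq_zero _).mp hz
        exact ⟨Submodule.Quotient.mk y, rfl⟩
      · rintro ⟨y, hy⟩
        obtain ⟨y, rfl⟩ := Submodule.Quotient.mk_surjective _ y
        rw [← hy]
        exact (Submodule.Quotient.mk_eq_zero _).mpr ⟨y, rfl⟩
  -- `0 → N/F → N/xF → N/xN → 0`
  have h2 : Module.length O (N ⧸ xF) = Module.length O (N ⧸ F) +
      Module.length O (N ⧸ (Ideal.span {x} • ⊤ : Submodule O N)) := by
    have hle : F ≤ xF.comap (x • (LinearMap.id : N →ₗ[O] N)) := fun z hz => ⟨z, hz, rfl⟩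
    refine Module.length_eq_add_of_exact (Submodule.mapQ _ _ _ hle) (Submodule.factor hxN)
      ?_ (Submodule.factor_surjective hxN) ?_
    · rw [← LinearMap.ker_eq_bot, LinearMap.ker_eq_bot']
      intro y hy
      obtain ⟨y, rfl⟩ := Submodule.Quotient.mk_surjective _ y
      obtain ⟨w, hw, hw'⟩ := (Submodule.Quotient.mk_eq_zero _).mp hy
      have e : w = y := smul_right_injective N hx hw'
      rw [Submodule.Quotient.mk_eq_zero, ← e]
      exact hw
    · intro z
      obtain ⟨z, rfl⟩ := Submodule.Quotient.mk_surjective _ z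
      constructor
      · intro hz
        have hz' := (Submodule.Quotient.mk_eq_zero _).mp hz
        rw [Submodule.ideal_span_singleton_smul] at hz'
        obtain ⟨y, -, rfl⟩ := hz'
        exact ⟨Submodule.Quotient.mk y, rfl⟩
      · rintro ⟨y, hy⟩
        obtain ⟨y, rfl⟩ := Submodule.Quotient.mk_surjective _ y
        rw [← hy]
        exact (Submodule.Quotient.mk_eq_zero _).mpr
          (Submodule.smul_mem_smul (Ideal.mem_span_singleton_self x) Submodule.mem_top)
  exact ENat.add_right_injective_of_ne_top hfinT (h2.symm.trans (h1.trans (add_comm _ _)))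

end Groth.Agent.OneDimLenH4
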