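import Groth.Statements.S0549
import Groth.Agent.PP16Lib.CompletionEquiv
import Groth.Agent.S0547
import Groth.Agent.DepthLib.RegularNormal
import Mathlib.RingTheory.DiscreteValuationRing.TFAE
-- import your own Groth.Agent.* helpers here

set_option autoImplicit false
universe u
open CAlg

namespace Groth.Agent.S0549

/-- A discrete valuation ring is a one-dimensional regular local ring. -/
theorem dvr_iff {R : Type u} [CommRing R] [IsLocalRing R] :
    (∃ _ : IsDomain R, IsDiscreteValuationRing R) ↔ IsRegularLocalRing R ∧ ringKrullDim R = 1 := by
  constructor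
  · rintro ⟨_, _⟩
    exact ⟨inferInstance,
      IsPrincipalIdealRing.ringKrullDim_eq_one R (IsDiscreteValuationRing.not_isField R)⟩
  · rintro ⟨h, hd⟩
    have := Groth.Agent.DepthLib.isDomain_of_isRegularLocalRing R
    have hf : ¬IsField R := fun hf => by
      rw [ringKrullDim_eq_zero_of_isField hf] at hd
      exact zero_ne_one hd
    refine ⟨this, ((IsDiscreteValuationRing.TFAE R hf).out 5 0).mp ?_⟩
    have := (IsRegularLocalRing.iff_finrank_cotangentSpace R).mp h
    rw [hd] at this
    exact_mod_cast this

/-- A Noetherian local ring is a discrete valuation ring exactly when its completion at the maximal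
ideal is a discrete valuation ring. -/
theorem result (A : Type u) [CommRing A] [IsLocalRing A]
    [IsNoetherianRing A] :
    (∃ _ : IsDomain A, IsDiscreteValuationRing A) ↔
      ∃ _ : IsDomain (AdicCompletion (IsLocalRing.maximalIdeal A) A),
        IsDiscreteValuationRing (AdicCompletion (IsLocalRing.maximalIdeal A) A) := by
  rw [dvr_iff, dvr_iff, Groth.Agent.S0547.result A,
    Groth.Agent.PP16Lib.isRegularLocalRing_iff_completion (A := A)]

end Groth.Agent.S0549
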