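import Groth.Statements.S3826
import Groth.Agent.PP16Lib.QuasiReg
import Groth.Agent.QReg.Change
import Mathlib.RingTheory.Localization.Free
import Mathlib.RingTheory.LocalProperties.FinitePresentation
import Mathlib.RingTheory.LocalProperties.Projective
import Mathlib.RingTheory.Spectrum.Prime.FreeLocus
-- import your own Groth.Agent.* helpers here

set_option autoImplicit false
universe u
open scoped TensorProduct
open QReg16

namespace Groth.Agent.S3826

open MvPolynomial Groth.Agent.PP16Lib

section local_chart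

variable {R : Type u} [CommRing R] {J : Ideal R} {Λ : Type u} [Fintype Λ] (x : Λ → J)

/-- The classes of `x` form a basis of `J/J²` after inverting `g`, and `x` generates `J` there. -/
structure IsChart (g : R) : Prop where
  gen : ∀ y ∈ J, ∃ N, g ^ N * y ∈ Ideal.span (Set.range fun a => (x a : R))
  free : ∀ c : Λ → R, ∑ a, c a * (x a : R) ∈ J ^ 2 → ∃ N, ∀ a, g ^ N * c a ∈ J

/-- Linear combinations of the classes, over `R/J`. -/
noncomputable def comb : (Λ →₀ R ⧸ J) →ₗ[R ⧸ J] J.Cotangent :=
  Finsupp.linearCombination (R ⧸ J) fun a => J.toCotangent (x a)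

theorem comb_mk (c : Λ → R) :
    comb x (Finsupp.equivFunOnFinite.symm fun a => Ideal.Quotient.mk J (c a)) = J.toCotangent (∑ a, c a • x a) := by
  rw [comb, Finsupp.linearCombination_apply, Finsupp.sum_fintype _ _ (by simp), map_sum]
  refine Finset.sum_congr rfl fun a _ => ?_
  rw [map_smul, Finsupp.equivFunOnFinite_symm_apply_apply]
  exact algebraMap_smul (R ⧸ J) (c a) _

theorem exists_mk (z : Λ →₀ R ⧸ J) : ∃ c : Λ → R, z = Finsupp.equivFunOnFinite.symm fun a => Ideal.Quotient.mk J (c a) := by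
  choose c hc using fun a => Ideal.Quotient.mk_surjective (z a)
  exact ⟨c, Finsupp.ext fun a => by simp [hc]⟩

variable {x} {g : R} (hc : IsChart x g)

include hc

theorem IsChart.exists_pre (q : J.Cotangent) : ∃ N, Ideal.Quotient.mk J g ^ N • q ∈ LinearMap.range (comb x) := by
  obtain ⟨y, rfl⟩ := J.toCotangent_surjective q
  obtain ⟨N, hN⟩ := hc.gen y y.2
  obtain ⟨c, hc'⟩ := Submodule.mem_span_range_iff_exists_fun R |>.mp hN
  refine ⟨N, _, (comb_mk x c).trans ?_⟩
  rw [← map_pow, ← Ideal.Quotient.algebraMap_eq, algebraMap_smul, ← map_smul]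
  congr 1
  ext1
  rw [Submodule.coe_sum]
  exact hc'

theorem IsChart.exists_kill {z : Λ →₀ R ⧸ J} (hz : comb x z = 0) : ∃ N, Ideal.Quotient.mk J g ^ N • z = 0 := by
  obtain ⟨c, rfl⟩ := exists_mk z
  rw [comb_mk, Ideal.toCotangent_eq_zero, Submodule.coe_sum] at hz
  obtain ⟨N, hN⟩ := hc.free c hz
  refine ⟨N, Finsupp.ext fun a => ?_⟩
  rw [Finsupp.smul_apply, Finsupp.equivFunOnFinite_symm_apply_apply, smul_eq_mul, ← map_pow, ← map_mul,
    Finsupp.zero_apply, Ideal.Quotient.eq_zero_iff_mem]
  exact hN a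

theorem IsChart.bijective_map (S : Submonoid (R ⧸ J)) (hS : Ideal.Quotient.mk J g ∈ S) :
    Function.Bijective (LocalizedModule.map S (comb x)) := by
  refine ⟨(injective_iff_map_eq_zero _).mpr fun q => ?_, fun q => ?_⟩
  · induction q using LocalizedModule.induction_on with
    | h z s =>
      intro h
      rw [LocalizedModule.map_mk, ← LocalizedModule.zero_mk (1 : S), LocalizedModule.mk_eq] at h
      obtain ⟨u, hu⟩ := h
      simp only [one_smul, smul_zero] at hu
      rw [Submonoid.smul_def, ← map_smul] at hu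
      obtain ⟨N, hN⟩ := hc.exists_kill hu
      rw [← LocalizedModule.zero_mk (1 : S), LocalizedModule.mk_eq]
      refine ⟨⟨_, mul_mem (pow_mem hS N) u.2⟩, ?_⟩
      simp only [one_smul, smul_zero, Submonoid.smul_def]
      rw [mul_smul, hN]
  · induction q using LocalizedModule.induction_on with
    | h q s =>
      obtain ⟨N, z, hz⟩ := hc.exists_pre q
      refine ⟨LocalizedModule.mk z (⟨_, pow_mem hS N⟩ * s), ?_⟩
      rw [LocalizedModule.map_mk, hz, ← LocalizedModule.mk_cancel_common_left ⟨_, pow_mem hS N⟩ s q, Submonoid.smul_def]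

theorem IsChart.exists_inverse (hfg : J.FG) [Module.Projective (R ⧸ J) J.Cotangent] :
    ∃ (i : J.Cotangent →ₗ[R] Λ →₀ R ⧸ J) (K : ℕ),
      (∀ q, classMap J x (i q) = g ^ K • q) ∧ ∀ z, i (classMap J x z) = g ^ K • z := by
  classical
  obtain ⟨G, hG⟩ := hfg
  choose f hf using hc.exists_pre
  let M := ∑ y ∈ G.attach, f (J.toCotangent ⟨y.1, hG ▸ Ideal.subset_span y.2⟩)
  let gbar := Ideal.Quotient.mk J g
  have hmono : ∀ q N N', gbar ^ N • q ∈ LinearMap.range (comb x) → N ≤ N' →
      gbar ^ N' • q ∈ LinearMap.range (comb x) := fun q N N' h hle => by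
    rw [← Nat.sub_add_cancel hle, pow_add, mul_smul]
    exact Submodule.smul_mem _ _ h
  have hM : ∀ q, gbar ^ M • q ∈ LinearMap.range (comb x) := fun q => by
    obtain ⟨⟨y, hy⟩, rfl⟩ := J.toCotangent_surjective q
    suffices ∀ (y : R) (hy : y ∈ Submodule.span R (G : Set R)),
        gbar ^ M • J.toCotangent ⟨y, hG.le hy⟩ ∈ LinearMap.range (comb x) from this y (hG.ge hy)
    intro y hy
    induction hy using Submodule.span_induction with
    | mem y hy =>
      exact hmono _ _ _ (hf _) (Finset.single_le_sum (f := fun y : {y // y ∈ G} =>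
        f (J.toCotangent ⟨y.1, hG ▸ Ideal.subset_span y.2⟩)) (fun _ _ => Nat.zero_le _) (Finset.mem_attach G ⟨y, hy⟩))
    | zero =>
      rw [show (⟨0, _⟩ : J) = 0 from rfl, map_zero, smul_zero]
      exact zero_mem _
    | add a b ha hb iha ihb =>
      rw [show (⟨a + b, _⟩ : J) = ⟨a, hG.le ha⟩ + ⟨b, hG.le hb⟩ from rfl, map_add, smul_add]
      exact add_mem iha ihb
    | smul c a ha iha =>
      rw [show (⟨c • a, _⟩ : J) = c • ⟨a, hG.le ha⟩ from rfl, map_smul, smul_comm, ← algebraMap_smul (R ⧸ J) c]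
      exact Submodule.smul_mem _ _ iha
  obtain ⟨i0, hi0⟩ := Module.projective_lifting_property (comb x).rangeRestrict
    ((gbar ^ M • LinearMap.id (R := R ⧸ J) (M := J.Cotangent)).codRestrict _ hM) (comb x).surjective_rangeRestrict
  have hi : ∀ q, comb x (i0 q) = gbar ^ M • q := fun q => congrArg Subtype.val (LinearMap.congr_fun hi0 q)
  choose k hk using fun a : Λ => hc.exists_kill (z := i0 (comb x (Finsupp.single a 1)) - gbar ^ M • Finsupp.single a 1)
    (by rw [map_sub, hi, map_smul, sub_self])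
  let N := ∑ a, k a
  refine ⟨((gbar ^ N) • i0).restrictScalars R, M + N, fun q => ?_, fun z => ?_⟩
  · show comb x (gbar ^ N • i0 q) = _
    rw [map_smul, hi, smul_smul, ← pow_add, add_comm N, ← map_pow, ← Ideal.Quotient.algebraMap_eq, algebraMap_smul]
  · show gbar ^ N • i0 (comb x z) = _
    rw [← algebraMap_smul (R ⧸ J) (g ^ (M + N)) z, Ideal.Quotient.algebraMap_eq, map_pow]
    induction z using Finsupp.induction_linear with
    | zero => simp
    | add a b ha hb => simp only [map_add, smul_add, ha, hb]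
    | single a c =>
      rw [← mul_one c, ← smul_eq_mul, ← Finsupp.smul_single, map_smul, map_smul, smul_comm, smul_comm _ c]
      congr 1
      have h0 : gbar ^ N • (i0 (comb x (Finsupp.single a 1)) - gbar ^ M • Finsupp.single a 1) = 0 := by
        have hle : k a ≤ N := Finset.single_le_sum (f := k) (fun _ _ => Nat.zero_le _) (Finset.mem_univ a)
        rw [← Nat.sub_add_cancel hle, pow_add, mul_smul, hk, smul_zero]
      rw [smul_sub, sub_eq_zero] at h0
      rw [h0, smul_smul, ← pow_add, add_comm]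

end local_chart

section sym

variable {R : Type u} [CommRing R] {J : Ideal R}

theorem symMap_symMap_smul {κ : Type u} [Fintype κ] {M N : Type u} [AddCommGroup M] [Module R M] [AddCommGroup N]
    [Module R N] (f : N →ₗ[R] M) (h : M →ₗ[R] N) (c : R) (hc : ∀ z, f (h z) = c • z) (s : SymmetricPower R κ M) :
    symMap κ f (symMap κ h s) = c ^ Fintype.card κ • s := by
  refine LinearMap.congr_fun (f := (symMap κ f).comp (symMap κ h)) (g := c ^ Fintype.card κ • LinearMap.id) ?_ s
  refine LinearMap.ext_on (SymmetricPower.span_tprod_eq_top R κ M) ?_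
  rintro _ ⟨v, rfl⟩
  rw [LinearMap.comp_apply, symMap_tprod, symMap_tprod, show (fun j => f (h (v j))) = fun j => c • v j from
    funext fun j => hc (v j), MultilinearMap.map_smul_univ, Finset.prod_const, Finset.card_univ]
  rfl

theorem smul_sym_eq_zero {κ : Type u} [Fintype κ] [Nonempty κ] {j : R} (hj : j ∈ J)
    (s : SymmetricPower R κ J.Cotangent) : j • s = 0 := by
  classical
  have hs : s ∈ Submodule.span R (Set.range (SymmetricPower.tprod R (ι := κ) (M := J.Cotangent))) :=
    (SymmetricPower.span_tprod_eq_top (R := R) (ι := κ) (M := J.Cotangent)) ▸ Submodule.mem_top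
  induction hs using Submodule.span_induction with
  | mem z hz =>
    obtain ⟨v, rfl⟩ := hz
    obtain ⟨i⟩ := ‹Nonempty κ›
    have h0 : j • v i = 0 := by
      rw [← algebraMap_smul (R ⧸ J) j, Ideal.Quotient.algebraMap_eq, Ideal.Quotient.eq_zero_iff_mem.mpr hj, zero_smul]
    conv_lhs => rw [← Function.update_eq_self i v, ← MultilinearMap.map_update_smul, h0]
    exact MultilinearMap.map_coord_zero _ i (Function.update_self i 0 v)
  | zero => rw [smul_zero]
  | add a b _ _ ha hb => rw [smul_add, ha, hb, add_zero]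
  | smul c a _ ha => rw [smul_comm, ha, smul_zero]

/-- A homogeneous polynomial gives a symmetric tensor. -/
theorem exists_tensor {Λ : Type u} (x : Λ → J) {n : ℕ} (P : MvPolynomial Λ R) (hP : P.IsHomogeneous n)
    (he : eval (fun a => (x a : R)) P ∈ J ^ (n + 1)) :
    ∃ s : SymmetricPower R (ULift.{u} (Fin n)) (Λ →₀ R ⧸ J),
      toPolyQ R (R ⧸ J) _ Λ s = MvPolynomial.map (Ideal.Quotient.mk J) P ∧
      canonJ J _ (symMap _ (classMap J x) s) = 0 := by
  classical
  choose g hg using fun e : {e : Λ →₀ ℕ // e ∈ P.support} => exists_cf (n := n) e.1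
    (by
      rw [Finsupp.degree_eq_weight_one]
      exact hP (mem_support_iff.mp e.2))
  refine ⟨∑ e : {e : Λ →₀ ℕ // e ∈ P.support},
    P.coeff e.1 • SymmetricPower.tprod R fun j => Finsupp.single (g e j) 1, ?_, ?_⟩
  · conv_rhs => rw [P.as_sum, ← Finset.sum_coe_sort]
    rw [map_sum, map_sum]
    refine Finset.sum_congr rfl fun e _ => ?_
    rw [map_smul, toPolyQ_single, hg, map_monomial, smul_monomial, ← Algebra.algebraMap_eq_smul_one]
    rfl
  · simp only [map_sum, map_smul, symMap_tprod, classMap_single, canonJ_tprod, PP16.zetaJ,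
      ← Submodule.Quotient.mk_smul]
    simp only [← Submodule.mkQ_apply]
    rw [← map_sum, Submodule.mkQ_apply, Submodule.Quotient.mk_eq_zero, Submodule.mem_comap, Submodule.subtype_apply]
    simp only [Submodule.coe_sum, Fintype.card_ulift, Fintype.card_fin]
    refine (congrArg (· ∈ J ^ (n + 1)) ?_).mp he
    conv_lhs => rw [P.as_sum, ← Finset.sum_coe_sort, map_sum]
    refine Finset.sum_congr rfl fun e _ => ?_
    conv_lhs => rw [← hg e, eval_monomial_cf, hg e]
    rfl

theorem exists_pow_mem_of_map {g : R} {I : Ideal R} {y : R}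
    (h : algebraMap R (Localization.Away g) y ∈ I.map (algebraMap R (Localization.Away g))) :
    ∃ N, g ^ N * y ∈ I := by
  obtain ⟨_, ⟨N, rfl⟩, hm⟩ := (IsLocalization.algebraMap_mem_map_algebraMap_iff (Submonoid.powers g) _ _ _).mp h
  exact ⟨N, hm⟩

theorem mem_map_of_pow {g : R} {I : Ideal R} {y : R} {N : ℕ} (h : g ^ N * y ∈ I) :
    algebraMap R (Localization.Away g) y ∈ I.map (algebraMap R (Localization.Away g)) :=
  (IsLocalization.algebraMap_mem_map_algebraMap_iff (Submonoid.powers g) _ _ _).mpr ⟨g ^ N, ⟨N, rfl⟩, h⟩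

theorem exists_pow_forall {Λ : Type*} [Finite Λ] {g : R} {I : Ideal R} {c : Λ → R}
    (h : ∀ a, ∃ N, g ^ N * c a ∈ I) : ∃ N, ∀ a, g ^ N * c a ∈ I := by
  choose f hf using h
  haveI := Fintype.ofFinite Λ
  refine ⟨∑ a, f a, fun a => ?_⟩
  rw [← Nat.sub_add_cancel (Finset.single_le_sum (f := f) (fun _ _ => Nat.zero_le _) (Finset.mem_univ a) :
    f a ≤ ∑ a, f a), pow_add, mul_assoc]
  exact I.mul_mem_left _ (hf a)

/-- A quasi-regular generating family on `D(g)` gives a chart and the coefficient criterion there. -/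
theorem exists_chart (h : PP16.IsLocallyQuasiRegular R J) (P : Ideal R) [P.IsPrime] (hP : J ≤ P) :
    ∃ (g : R) (r : ℕ) (x : ULift.{u} (Fin r) → J), g ∉ P ∧ IsChart x g ∧
      ∀ (n : ℕ) (Q : MvPolynomial (ULift.{u} (Fin r)) R), Q.IsHomogeneous n →
        eval (fun a => (x a : R)) Q ∈ J ^ (n + 1) → ∀ d, ∃ N, g ^ N * Q.coeff d ∈ J := by
  obtain ⟨g, hgP, r, f, hf, hspan⟩ := h P hP
  let Rg := Localization.Away g
  have hf' : ∀ b : Fin r, ∃ y : J, ∃ u : Rg, IsUnit u ∧ algebraMap R Rg (y : R) = u * f b := fun b => by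
    obtain ⟨y, ⟨_, k, rfl⟩, hy⟩ := IsLocalization.exists_mk'_eq (Submonoid.powers g) (f b)
    have hy' : algebraMap R Rg (g ^ k) * f b = algebraMap R Rg y := by
      rw [← hy, mul_comm]
      exact IsLocalization.mk'_spec _ y (⟨g ^ k, k, rfl⟩ : Submonoid.powers g)
    have hmem : algebraMap R Rg y ∈ J.map (algebraMap R Rg) := by
      rw [← hy', ← hspan]
      exact Ideal.mul_mem_left _ _ (Ideal.subset_span ⟨b, rfl⟩)
    obtain ⟨N, hN⟩ := exists_pow_mem_of_map hmem
    refine ⟨⟨_, hN⟩, algebraMap R Rg (g ^ N * g ^ k),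
      IsLocalization.map_units Rg (⟨g ^ N * g ^ k, N + k, pow_add g N k⟩ : Submonoid.powers g), ?_⟩
    rw [map_mul, map_mul, mul_assoc, hy']
  choose y u hu hy using hf'
  let x : ULift.{u} (Fin r) → J := fun a => y a.down
  have hspan' : Ideal.span (Set.range fun b => algebraMap R Rg (y b : R)) = J.map (algebraMap R Rg) := by
    rw [← hspan]
    refine le_antisymm (Ideal.span_le.mpr ?_) (Ideal.span_le.mpr ?_)
    · rintro _ ⟨b, rfl⟩
      show algebraMap R Rg (y b : R) ∈ Ideal.span (Set.range f)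
      rw [hy]
      exact Ideal.mul_mem_left _ _ (Ideal.subset_span ⟨b, rfl⟩)
    · rintro _ ⟨b, rfl⟩
      rw [show f b = ↑(hu b).unit⁻¹ * algebraMap R Rg (y b : R) by
        rw [hy, ← mul_assoc, IsUnit.val_inv_mul, one_mul]]
      exact Ideal.mul_mem_left _ _ (Ideal.subset_span ⟨b, rfl⟩)
  have hq : CAlgX.IsQuasiRegular fun b => algebraMap R Rg (y b : R) :=
    QReg.isQuasiRegular_of_span_eq f _ hf (hspan'.trans hspan.symm)
  have hcoeff : ∀ (n : ℕ) (Q : MvPolynomial (ULift.{u} (Fin r)) R), Q.IsHomogeneous n →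
        eval (fun a => (x a : R)) Q ∈ J ^ (n + 1) → ∀ d, ∃ N, g ^ N * Q.coeff d ∈ J := fun n Q hQ he d => by
    have h1 := hq n ((rename ULift.down Q).map (algebraMap R Rg)) (hQ.rename_isHomogeneous.map _) (by
      rw [hspan', ← Ideal.map_pow, eval_map, eval₂_rename]
      refine (congrArg (· ∈ _) ?_).mp (Ideal.mem_map_of_mem (algebraMap R Rg) he)
      rw [eval_eq, eval₂_eq, map_sum]
      simp [x]) (d.mapDomain ULift.down)
    rw [coeff_map, coeff_rename_mapDomain _ ULift.down_injective, hspan'] at h1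
    exact exists_pow_mem_of_map h1
  refine ⟨g, r, x, hgP, ⟨fun z hz => ?_, fun c hc => ?_⟩, hcoeff⟩
  · refine exists_pow_mem_of_map ?_
    rw [Ideal.map_span, ← Set.range_comp, show Set.range (algebraMap R Rg ∘ fun a => (x a : R)) =
      Set.range fun b => algebraMap R Rg (y b : R) from Equiv.ulift.surjective.range_comp fun b => algebraMap R Rg (y b : R),
      hspan']
    exact Ideal.mem_map_of_mem _ hz
  · classical
    refine exists_pow_forall fun a => ?_
    have h := hcoeff 1 (∑ b, C (c b) * X b) (IsHomogeneous.sum _ _ _ fun b _ => (isHomogeneous_X R b).C_mul _)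
      (by simpa [map_sum, pow_two] using hc) (Finsupp.single a 1)
    simpa [coeff_sum, coeff_C_mul, coeff_X', Finsupp.single_left_inj] using h

theorem fg_of_locally (h : PP16.IsLocallyQuasiRegular R J) :
    J.FG ∧ ∀ (m : Ideal (R ⧸ J)) [m.IsPrime], ∃ (g : R) (r : ℕ) (x : ULift.{u} (Fin r) → J),
      Ideal.Quotient.mk J g ∉ m ∧ IsChart x g := by
  classical
  have hcov : ∀ (m : Ideal (R ⧸ J)) [m.IsPrime], ∃ (g : R) (r : ℕ) (x : ULift.{u} (Fin r) → J),
      Ideal.Quotient.mk J g ∉ m ∧ IsChart x g := fun m _ => by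
    obtain ⟨g, r, x, hg, hc, -⟩ := exists_chart h (m.comap (Ideal.Quotient.mk J)) fun y hy => by
      rw [Ideal.mem_comap, Ideal.Quotient.eq_zero_iff_mem.mpr hy]; exact zero_mem _
    exact ⟨g, r, x, hg, hc⟩
  refine ⟨?_, hcov⟩
  let S : Set R := {g | (∃ (r : ℕ) (x : ULift.{u} (Fin r) → J), IsChart x g) ∨ g ∈ J}
  have htop : Ideal.span S = ⊤ := by
    by_contra hne
    obtain ⟨P, hP, hle⟩ := Ideal.exists_le_maximal _ hne
    haveI := hP.isPrime
    obtain ⟨g, r, x, hg, hc, -⟩ := exists_chart h P fun y hy => hle (Ideal.subset_span (Or.inr hy))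
    exact hg (hle (Ideal.subset_span (Or.inl ⟨r, x, hc⟩)))
  obtain ⟨T, hTS, hT⟩ := Submodule.mem_span_finite_of_mem_span (htop.ge (Submodule.mem_top (x := (1 : R))))
  let piece : R → Set R := fun g =>
    if hg : ∃ (r : ℕ) (x : ULift.{u} (Fin r) → J), IsChart x g then
      Set.range fun a => (hg.choose_spec.choose a : R) else {g}
  have hfin : (⋃ g ∈ T, piece g).Finite := T.finite_toSet.biUnion fun g _ => by
    simp only [piece]; split
    · exact Set.finite_range _
    · exact Set.finite_singleton _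
  refine ⟨hfin.toFinset, le_antisymm ?_ fun y hy => ?_⟩
  · rw [Set.Finite.coe_toFinset, Submodule.span_le, Set.iUnion₂_subset_iff]
    intro g hg
    simp only [piece]; split
    · rintro _ ⟨a, rfl⟩; exact SetLike.coe_mem _
    · next hn =>
      rw [Set.singleton_subset_iff]
      exact (hTS hg).resolve_left hn
  · rw [Set.Finite.coe_toFinset]
    have key : ∀ g ∈ T, ∃ N, g ^ N * y ∈ Submodule.span R (⋃ g ∈ T, piece g) := fun g hg => by
      by_cases hc : ∃ (r : ℕ) (x : ULift.{u} (Fin r) → J), IsChart x g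
      · obtain ⟨N, hN⟩ := hc.choose_spec.choose_spec.gen y hy
        refine ⟨N, Submodule.span_mono ?_ hN⟩
        exact fun z hz => Set.mem_biUnion hg (by simp only [piece, dif_pos hc]; exact hz)
      · refine ⟨1, ?_⟩
        rw [pow_one, mul_comm]
        exact Ideal.mul_mem_left _ _ (Submodule.subset_span (Set.mem_biUnion hg (by simp [piece, dif_neg hc])))
    refine Submodule.mem_of_span_eq_top_of_smul_pow_mem _ (T : Set R)
      (Ideal.eq_top_iff_one _ |>.mpr hT) y fun g => ?_
    obtain ⟨N, hN⟩ := key g g.2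
    exact ⟨N, hN⟩

theorem projective_of_locally (hfg : J.FG) (h : PP16.IsLocallyQuasiRegular R J)
    (hcov : ∀ (m : Ideal (R ⧸ J)) [m.IsPrime], ∃ (g : R) (r : ℕ) (x : ULift.{u} (Fin r) → J),
      Ideal.Quotient.mk J g ∉ m ∧ IsChart x g) :
    Module.Projective (R ⧸ J) J.Cotangent := by
  let S : Set (R ⧸ J) := {c | ∃ (g : R) (r : ℕ) (x : ULift.{u} (Fin r) → J), IsChart x g ∧ Ideal.Quotient.mk J g = c}
  have htop : Ideal.span S = ⊤ := by
    by_contra hne
    obtain ⟨m, hm, hle⟩ := Ideal.exists_le_maximal _ hne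
    haveI := hm.isPrime
    obtain ⟨g, r, x, hg, hc⟩ := hcov m
    exact hg (hle (Ideal.subset_span ⟨g, r, x, hc, rfl⟩))
  haveI : Module.FinitePresentation (R ⧸ J) J.Cotangent :=
    Module.FinitePresentation.of_localizationSpan S htop (by
      rintro ⟨c, g, r, x, hc, rfl⟩
      let e := LinearEquiv.ofBijective _ (hc.bijective_map (Submonoid.powers (Ideal.Quotient.mk J g)) ⟨1, pow_one _⟩)
      show Module.FinitePresentation (Localization (Submonoid.powers (Ideal.Quotient.mk J g)))
        (LocalizedModule (Submonoid.powers (Ideal.Quotient.mk J g)) J.Cotangent)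
      haveI : Module.Projective (Localization (Submonoid.powers (Ideal.Quotient.mk J g)))
          (LocalizedModule (Submonoid.powers (Ideal.Quotient.mk J g)) J.Cotangent) := Module.Projective.of_equiv e
      haveI : Module.Finite (Localization (Submonoid.powers (Ideal.Quotient.mk J g)))
          (LocalizedModule (Submonoid.powers (Ideal.Quotient.mk J g)) J.Cotangent) := Module.Finite.equiv e
      exact Module.finitePresentation_of_projective (R := Localization (Submonoid.powers (Ideal.Quotient.mk J g)))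
        (M := LocalizedModule (Submonoid.powers (Ideal.Quotient.mk J g)) J.Cotangent))
  refine Module.projective_of_localization_maximal fun m hm => ?_
  haveI := hm.isPrime
  obtain ⟨g, r, x, hg, hc⟩ := hcov m
  exact Module.Projective.of_equiv (LinearEquiv.ofBijective _ (hc.bijective_map m.primeCompl hg))

theorem injective_canonJ (hfg : J.FG) (h : PP16.IsLocallyQuasiRegular R J)
    (hproj : Module.Projective (R ⧸ J) J.Cotangent) (κ : Type u) [Fintype κ] [Nonempty κ] :
    Function.Injective (canonJ J κ) := by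
  classical
  rw [injective_iff_map_eq_zero]
  intro s hs
  suffices LinearMap.ker (LinearMap.toSpanSingleton R _ s) = ⊤ by
    have h1 : (1 : R) ∈ LinearMap.ker (LinearMap.toSpanSingleton R _ s) := this ▸ Submodule.mem_top
    simpa using h1
  by_contra hne
  obtain ⟨P, hP, hle⟩ := Ideal.exists_le_maximal _ hne
  haveI := hP.isPrime
  by_cases hJP : J ≤ P
  · obtain ⟨g, r, x, hg, hc, hcoeff⟩ := exists_chart h P hJP
    haveI := hproj
    obtain ⟨i, K, hi, -⟩ := hc.exists_inverse hfg
    obtain ⟨Q, hQ, hpoly, hm, hcan⟩ := exists_poly J x (symMap κ i s)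
    have h0 : canonJ J κ (symMap κ (classMap J x) (symMap κ i s)) = 0 := by
      rw [symMap_symMap_smul (classMap J x) i (g ^ K) hi s, map_smul, hs, smul_zero]
    rw [hcan, Submodule.Quotient.mk_eq_zero] at h0
    obtain ⟨N, hN⟩ := exists_pow_forall (c := fun d : {d // d ∈ Q.support} => Q.coeff d.1) (g := g) (I := J)
      fun d => hcoeff _ Q hQ h0 d.1
    have hz : g ^ N • symMap κ i s = 0 := by
      refine toPolyQ_injective (B := R) (C := R ⧸ J) Ideal.Quotient.mk_surjective ?_
      rw [map_zero, map_smul, hpoly]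
      ext d
      rw [coeff_smul, coeff_map, coeff_zero]
      by_cases hd : d ∈ Q.support
      · rw [← algebraMap_smul (R ⧸ J), smul_eq_mul, Ideal.Quotient.algebraMap_eq, ← map_mul,
          Ideal.Quotient.eq_zero_iff_mem]
        exact hN ⟨d, hd⟩
      · rw [notMem_support_iff.mp hd, map_zero, smul_zero]
    have hmem : g ^ N * (g ^ K) ^ Fintype.card κ ∈ LinearMap.ker (LinearMap.toSpanSingleton R _ s) := by
      rw [LinearMap.mem_ker, LinearMap.toSpanSingleton_apply, mul_smul,
        ← symMap_symMap_smul (classMap J x) i (g ^ K) hi s, ← map_smul, hz, map_zero]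
    exact hP.isPrime.mem_or_mem (hle hmem) |>.elim (fun h => hg (hP.isPrime.mem_of_pow_mem _ h))
      fun h => hg (hP.isPrime.mem_of_pow_mem _ (hP.isPrime.mem_of_pow_mem _ h))
  · obtain ⟨j, hj, hjP⟩ := SetLike.not_le_iff_exists.mp hJP
    exact hjP (hle (by rw [LinearMap.mem_ker, LinearMap.toSpanSingleton_apply, smul_sym_eq_zero hj]))

theorem locally_of_symGr (hfg : J.FG) (hproj : Module.Projective (R ⧸ J) J.Cotangent)
    (hG : PP16.SymGrBijective R J) : PP16.IsLocallyQuasiRegular R J := by
  classical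
  intro P _ hJP
  let Pb : Ideal (R ⧸ J) := P.map (Ideal.Quotient.mk J)
  haveI : Pb.IsPrime := Ideal.map_isPrime_of_surjective Ideal.Quotient.mk_surjective (by rw [Ideal.mk_ker]; exact hJP)
  have hPb : ∀ y, Ideal.Quotient.mk J y ∈ Pb ↔ y ∈ P := fun y => by
    rw [← Ideal.mem_comap, Ideal.comap_map_of_surjective _ Ideal.Quotient.mk_surjective, ← RingHom.ker_eq_comap_bot,
      Ideal.mk_ker, sup_eq_left.mpr hJP]
  haveI : Module.Finite R ↥J := Module.Finite.of_fg hfg
  haveI : Module.Finite R J.Cotangent := Module.Finite.of_surjective _ J.toCotangent_surjective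
  haveI : Module.Finite (R ⧸ J) J.Cotangent := Module.Finite.of_restrictScalars_finite R _ _
  haveI := hproj
  haveI : Module.FinitePresentation (R ⧸ J) J.Cotangent := Module.finitePresentation_of_projective _ _
  haveI hfree : Module.Free (Localization.AtPrime Pb) (LocalizedModule Pb.primeCompl J.Cotangent) := by
    have := Module.freeLocus_eq_univ (R := R ⧸ J) (M := J.Cotangent)
    exact Module.mem_freeLocus.mp (this ▸ Set.mem_univ (⟨Pb, inferInstance⟩ : PrimeSpectrum (R ⧸ J)))
  let bP := Module.Free.chooseBasis (Localization.AtPrime Pb) (LocalizedModule Pb.primeCompl J.Cotangent)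
  obtain ⟨c, hcP, b, -⟩ := Module.FinitePresentation.exists_basis_localizedModule_powers Pb.primeCompl
    (LocalizedModule.mkLinearMap Pb.primeCompl J.Cotangent) (Localization.AtPrime Pb) bP
  let r := Fintype.card (Module.Free.ChooseBasisIndex (Localization.AtPrime Pb) (LocalizedModule Pb.primeCompl J.Cotangent))
  let b₁ := b.reindex ((Fintype.equivFin _).trans Equiv.ulift.{u}.symm)
  have hb : ∀ a, ∃ (y : J) (u : (Localization (Submonoid.powers c))ˣ),
      u • b₁ a = LocalizedModule.mkLinearMap (Submonoid.powers c) J.Cotangent (J.toCotangent y) := fun a => by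
    obtain ⟨⟨q, t⟩, ht⟩ := IsLocalizedModule.surj (Submonoid.powers c)
      (LocalizedModule.mkLinearMap (Submonoid.powers c) J.Cotangent) (b₁ a)
    obtain ⟨y, rfl⟩ := J.toCotangent_surjective q
    refine ⟨y, (IsLocalization.map_units (Localization (Submonoid.powers c)) t).unit, ?_⟩
    rw [← ht]
    show algebraMap _ (Localization (Submonoid.powers c)) (t : R ⧸ J) • b₁ a = (t : R ⧸ J) • b₁ a
    rw [algebraMap_smul]
  choose x u hx using hb
  let b₂ := b₁.unitsSMul u
  have hb₂ : ∀ a, b₂ a = LocalizedModule.mkLinearMap (Submonoid.powers c) J.Cotangent (J.toCotangent (x a)) :=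
    fun a => (Module.Basis.unitsSMul_apply a).trans (hx a)
  have hcomb : ∀ z : ULift.{u} (Fin r) →₀ R ⧸ J,
      LocalizedModule.mkLinearMap (Submonoid.powers c) J.Cotangent (comb x z) =
        ∑ a, algebraMap (R ⧸ J) (Localization (Submonoid.powers c)) (z a) • b₂ a := fun z => by
    rw [comb, Finsupp.linearCombination_apply, Finsupp.sum_fintype _ _ (by simp), map_sum]
    exact Finset.sum_congr rfl fun a _ => by rw [map_smul, hb₂, algebraMap_smul]
  obtain ⟨g₀, rfl⟩ := Ideal.Quotient.mk_surjective c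
  have hker : ∀ z, comb x z = 0 → ∃ N, ∀ a, Ideal.Quotient.mk J g₀ ^ N * z a = 0 := fun z hz => by
    have h := hcomb z
    rw [hz, map_zero] at h
    have h2 := Fintype.linearIndependent_iff.mp b₂.linearIndependent _ h.symm
    obtain ⟨N, hN⟩ := exists_pow_forall (R := R ⧸ J) (g := Ideal.Quotient.mk J g₀) (I := ⊥) (c := fun a => z a) fun a => by
      obtain ⟨⟨_, N, rfl⟩, hN⟩ := (IsLocalization.map_eq_zero_iff (Submonoid.powers (Ideal.Quotient.mk J g₀))
        (Localization (Submonoid.powers (Ideal.Quotient.mk J g₀))) _).mp (h2 a)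
      exact ⟨N, by rw [Ideal.mem_bot]; exact hN⟩
    exact ⟨N, fun a => by rw [← Ideal.mem_bot]; exact hN a⟩
  have hpre : ∀ q, ∃ N, Ideal.Quotient.mk J g₀ ^ N • q ∈ LinearMap.range (comb x) := fun q => by
    let co := b₂.repr (LocalizedModule.mkLinearMap _ J.Cotangent q)
    obtain ⟨t, ht⟩ := IsLocalization.exist_integer_multiples_of_finite
      (Submonoid.powers (Ideal.Quotient.mk J g₀)) fun a => co a
    choose z hz using ht
    have h := hcomb (Finsupp.equivFunOnFinite.symm z)
    rw [show ∑ a, algebraMap (R ⧸ J) (Localization (Submonoid.powers (Ideal.Quotient.mk J g₀)))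
        (Finsupp.equivFunOnFinite.symm z a) • b₂ a =
        LocalizedModule.mkLinearMap (Submonoid.powers (Ideal.Quotient.mk J g₀)) J.Cotangent ((t : R ⧸ J) • q) by
      rw [map_smul, ← b₂.sum_repr (LocalizedModule.mkLinearMap _ J.Cotangent q), Finset.smul_sum]
      refine Finset.sum_congr rfl fun a _ => ?_
      rw [Finsupp.equivFunOnFinite_symm_apply_apply, hz, smul_assoc]] at h
    obtain ⟨⟨_, N, rfl⟩, hN⟩ := (IsLocalizedModule.eq_iff_exists (Submonoid.powers (Ideal.Quotient.mk J g₀)) _).mp h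
    obtain ⟨k, hk⟩ := t.2
    simp only [Submonoid.smul_def] at hN
    refine ⟨N + k, Ideal.Quotient.mk J g₀ ^ N • Finsupp.equivFunOnFinite.symm z, ?_⟩
    rw [map_smul, hN, smul_smul, pow_add, ← show Ideal.Quotient.mk J g₀ ^ k = (t : R ⧸ J) from hk]
  -- make `x` generate `J`
  let Rg := Localization.Away g₀
  let X' := (Ideal.span (Set.range fun a => (x a : R))).map (algebraMap R Rg)
  let J' := J.map (algebraMap R Rg)
  have hle : J'.map (Ideal.Quotient.mk X') ≤ J'.map (Ideal.Quotient.mk X') • J'.map (Ideal.Quotient.mk X') := by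
    rw [smul_eq_mul, ← Ideal.map_mul, ← pow_two, Ideal.map_le_iff_le_comap,
      Ideal.comap_map_of_surjective _ Ideal.Quotient.mk_surjective, ← RingHom.ker_eq_comap_bot, Ideal.mk_ker]
    refine Ideal.map_le_iff_le_comap.mpr fun y hy => ?_
    rw [Ideal.mem_comap, ← Ideal.map_pow, ← Ideal.map_sup]
    obtain ⟨N, z, hz⟩ := hpre (J.toCotangent ⟨y, hy⟩)
    obtain ⟨cz, rfl⟩ := exists_mk z
    rw [comb_mk, ← map_pow, ← Ideal.Quotient.algebraMap_eq, algebraMap_smul, ← map_smul, Ideal.toCotangent_eq,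
      Submodule.coe_sum] at hz
    refine mem_map_of_pow (N := N) ?_
    rw [sup_comm, show g₀ ^ N * y = ∑ a, cz a * (x a : R) - (∑ a, cz a * (x a : R) - g₀ ^ N * y) by ring]
    exact Submodule.sub_mem _ (Ideal.mem_sup_left (Submodule.sum_mem _ fun a _ =>
      Ideal.mul_mem_left _ _ (Ideal.subset_span ⟨a, rfl⟩))) (Ideal.mem_sup_right hz)
  obtain ⟨e, he1, he2⟩ := Submodule.exists_sub_one_mem_and_smul_eq_zero_of_fg_of_le_smul _ _
    ((hfg.map (algebraMap R Rg)).map (Ideal.Quotient.mk X')) hle
  obtain ⟨e, rfl⟩ := Ideal.Quotient.mk_surjective e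
  obtain ⟨h₀, ⟨_, k, rfl⟩, rfl⟩ := IsLocalization.exists_mk'_eq (Submonoid.powers g₀) e
  let tk : Submonoid.powers g₀ := ⟨g₀ ^ k, k, rfl⟩
  have hg₀ : g₀ ∉ P := fun h => hcP ((hPb g₀).mpr h)
  have hh : h₀ ∉ P := fun hh => by
    rw [← map_one (Ideal.Quotient.mk X'), ← map_sub, ← Ideal.mem_comap,
      Ideal.comap_map_of_surjective _ Ideal.Quotient.mk_surjective, ← RingHom.ker_eq_comap_bot, Ideal.mk_ker,
      ← Ideal.map_sup, sup_eq_left.mpr (Ideal.span_le.mpr (by rintro _ ⟨a, rfl⟩; exact (x a).2))] at he1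
    have h1 : algebraMap R Rg (h₀ - g₀ ^ k) ∈ J' := by
      rw [map_sub, ← IsLocalization.mk'_spec' Rg h₀ tk]
      show algebraMap R Rg (g₀ ^ k) * _ - algebraMap R Rg (g₀ ^ k) ∈ J'
      rw [← mul_sub_one]
      exact Ideal.mul_mem_left _ _ he1
    obtain ⟨N, hN⟩ := exists_pow_mem_of_map h1
    have h2 := hJP hN
    rw [mul_sub] at h2
    have h3 : g₀ ^ N * g₀ ^ k ∈ P := (P.sub_mem (P.mul_mem_left _ hh) h2 : g₀ ^ N * h₀ - (g₀ ^ N * h₀ - g₀ ^ N * g₀ ^ k) ∈ P) |>
      (congrArg (· ∈ P) (sub_sub_cancel _ _)).mp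
    rw [← pow_add] at h3
    exact hg₀ (‹P.IsPrime›.mem_of_pow_mem _ h3)
  have hchart : IsChart x (g₀ * h₀) := ⟨fun y hy => by
      have h := he2 (Ideal.Quotient.mk X' (algebraMap R Rg y)) (Ideal.mem_map_of_mem _ (Ideal.mem_map_of_mem _ hy))
      rw [smul_eq_mul, ← map_mul, Ideal.Quotient.eq_zero_iff_mem] at h
      have h' : algebraMap R Rg (h₀ * y) ∈ X' := by
        rw [map_mul, ← IsLocalization.mk'_spec' Rg h₀ tk, mul_assoc]
        exact Ideal.mul_mem_left _ _ h
      obtain ⟨N, hN⟩ := exists_pow_mem_of_map h'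
      refine ⟨N + 1, ?_⟩
      rw [show (g₀ * h₀) ^ (N + 1) * y = g₀ * h₀ ^ N * (g₀ ^ N * (h₀ * y)) by ring]
      exact Ideal.mul_mem_left _ _ hN,
    fun c hc => by
      obtain ⟨N, hN⟩ := hker (Finsupp.equivFunOnFinite.symm fun a => Ideal.Quotient.mk J (c a)) (by
        rw [comb_mk, Ideal.toCotangent_eq_zero, Submodule.coe_sum]
        exact hc)
      refine ⟨N, fun a => ?_⟩
      have h := hN a
      rw [Finsupp.equivFunOnFinite_symm_apply_apply, ← map_pow, ← map_mul, Ideal.Quotient.eq_zero_iff_mem] at h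
      rw [mul_pow, mul_comm (g₀ ^ N), mul_assoc]
      exact Ideal.mul_mem_left _ _ h⟩
  obtain ⟨i, K, -, hi⟩ := hchart.exists_inverse hfg
  set g := g₀ * h₀
  refine ⟨g, ‹P.IsPrime›.mul_notMem hg₀ hh, r, fun a => algebraMap R _ (x ⟨a⟩ : R), ?_, ?_⟩
  swap
  · refine le_antisymm (Ideal.span_le.mpr ?_) (Ideal.map_le_iff_le_comap.mpr fun y hy => ?_)
    · rintro _ ⟨a, rfl⟩; exact Ideal.mem_map_of_mem _ (x _).2
    · obtain ⟨N, hN⟩ := hchart.gen y hy
      rw [Ideal.mem_comap]
      have h := mem_map_of_pow hN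
      rwa [Ideal.map_span, ← Set.range_comp, show Set.range (algebraMap R (Localization.Away g) ∘ fun a => (x a : R)) =
        Set.range fun a : Fin r => algebraMap R (Localization.Away g) (x ⟨a⟩ : R) from
          (Equiv.ulift.{u}.symm.surjective.range_comp _).symm] at h
  intro n Q hQ he d
  have hspan : Ideal.span (Set.range fun a : Fin r => algebraMap R (Localization.Away g) (x ⟨a⟩ : R)) =
      J.map (algebraMap R (Localization.Away g)) := by
    refine le_antisymm (Ideal.span_le.mpr ?_) (Ideal.map_le_iff_le_comap.mpr fun y hy => ?_)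
    · rintro _ ⟨a, rfl⟩; exact Ideal.mem_map_of_mem _ (x _).2
    · obtain ⟨N, hN⟩ := hchart.gen y hy
      rw [Ideal.mem_comap]
      have h := mem_map_of_pow hN
      rwa [Ideal.map_span, ← Set.range_comp, show Set.range (algebraMap R (Localization.Away g) ∘ fun a => (x a : R)) =
        Set.range fun a : Fin r => algebraMap R (Localization.Away g) (x ⟨a⟩ : R) from
          (Equiv.ulift.{u}.symm.surjective.range_comp _).symm] at h
  rw [hspan] at he ⊢
  obtain ⟨t, ht⟩ := IsLocalization.exist_integer_multiples (Submonoid.powers g) Q.support fun d => Q.coeff d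
  choose z hz using ht
  let Q₀ : MvPolynomial (ULift.{u} (Fin r)) R := ∑ d : {d // d ∈ Q.support}, monomial (d.1.mapDomain ULift.up) (z d.1 d.2)
  have hQ₀ : Q₀.IsHomogeneous n := IsHomogeneous.sum _ _ _ fun d _ => isHomogeneous_monomial _ (by
    rw [Finsupp.degree_mapDomain, Finsupp.degree_eq_weight_one]
    exact hQ (mem_support_iff.mp d.2))
  have hmap : MvPolynomial.map (algebraMap R (Localization.Away g)) Q₀ =
      algebraMap R (Localization.Away g) (t : R) • rename ULift.up Q := by
    conv_rhs => rw [Q.as_sum, ← Finset.sum_coe_sort, map_sum, Finset.smul_sum]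
    rw [map_sum]
    refine Finset.sum_congr rfl fun d _ => ?_
    rw [map_monomial, rename_monomial, smul_monomial, hz, Algebra.smul_def]
    rfl
  have hev : algebraMap R (Localization.Away g) (eval (fun a => (x a : R)) Q₀) ∈
      (J ^ (n + 1)).map (algebraMap R (Localization.Away g)) := by
    rw [Ideal.map_pow]
    have e : algebraMap R (Localization.Away g) (eval (fun a => (x a : R)) Q₀) =
        eval (fun a => algebraMap R (Localization.Away g) (x a : R)) (MvPolynomial.map (algebraMap R _) Q₀) := by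
      rw [eval_map, eval_eq, eval₂_eq, map_sum]
      simp
    rw [e, hmap, smul_eval, eval_rename]
    exact Ideal.mul_mem_left _ _ he
  obtain ⟨l, hl⟩ := exists_pow_mem_of_map hev
  rcases eq_or_ne n 0 with rfl | hn
  · by_cases hd : Q.coeff d = 0
    · rw [hd]; exact zero_mem _
    obtain rfl : d = 0 := (Finsupp.degree_eq_zero_iff d).mp (by rw [Finsupp.degree_eq_weight_one]; exact hQ hd)
    rw [(totalDegree_eq_zero_iff_eq_C).mp (Nat.eq_zero_of_le_zero hQ.totalDegree_le), eval_C, zero_add,
      pow_one] at he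
    exact he
  haveI : Nonempty (Fin n) := ⟨⟨0, Nat.pos_of_ne_zero hn⟩⟩
  obtain ⟨s, hs, hcan⟩ := exists_tensor x (C (g ^ l) * Q₀) (hQ₀.C_mul _) (by rwa [map_mul, eval_C])
  have h0 := (injective_iff_map_eq_zero _).mp ((symGrBijective_iff J).mp hG _) _ hcan
  have h1 := symMap_symMap_smul i (classMap J x) (g ^ K) hi s
  rw [h0, map_zero] at h1
  have h2 := congrArg (MvPolynomial.coeff (d.mapDomain ULift.up))
    (congrArg (toPolyQ R (R ⧸ J) (ULift.{u} (Fin n)) (ULift.{u} (Fin r))) h1)
  rw [map_zero, map_smul, hs, coeff_zero, coeff_smul, coeff_map, ← algebraMap_smul (R ⧸ J), smul_eq_mul,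
    Ideal.Quotient.algebraMap_eq, ← map_mul, coeff_C_mul, eq_comm, Ideal.Quotient.eq_zero_iff_mem] at h2
  have h3 : algebraMap R (Localization.Away g) (Q₀.coeff (d.mapDomain ULift.up)) ∈
      J.map (algebraMap R (Localization.Away g)) := by
    obtain ⟨M, hM⟩ : ∃ M, g ^ M * Q₀.coeff (d.mapDomain ULift.up) ∈ J :=
      ⟨K * Fintype.card (ULift.{u} (Fin n)) + l, by rwa [pow_add, pow_mul, mul_assoc]⟩
    exact mem_map_of_pow hM
  rw [← coeff_map, hmap, coeff_smul, coeff_rename_mapDomain _ ULift.up_injective, smul_eq_mul] at h3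
  have hu : IsUnit (algebraMap R (Localization.Away g) (t : R)) := IsLocalization.map_units _ t
  exact (Ideal.unit_mul_mem_iff_mem _ hu).mp h3

end sym

/-- Affine form, X = Spec R: an ideal J of a ring R is quasi-regular (locally on Spec R generated by a
quasi-regular sequence) if and only if (i) J is finitely generated, (ii) J/J² is a locally free
R/J-module of finite type, here: finitely generated projective, and (iii) the canonical surjections
Sym^n(J/J²) → J^n/J^(n+1) are bijective for every n. -/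
theorem result (R : Type u) [CommRing R] (J : Ideal R) :
    PP16.IsLocallyQuasiRegular R J ↔
      J.FG ∧ Module.Projective (R ⧸ J) J.Cotangent ∧ PP16.SymGrBijective R J := by
  constructor
  · intro h
    obtain ⟨hfg, hcov⟩ := fg_of_locally h
    refine ⟨hfg, projective_of_locally hfg h hcov, ?_⟩
    rw [PP16Lib.symGrBijective_iff]
    intro κ _ _
    exact injective_canonJ hfg h (projective_of_locally hfg h hcov) κ
  · rintro ⟨hfg, hproj, hG⟩
    exact locally_of_symGr hfg hproj hG


end Groth.Agent.S3826
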