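import Groth.Statements.S4526
import Groth.Agent.EGA41Lib.Cartier

set_option autoImplicit false
universe u
open EGA41

namespace Groth.Agent.S4526

open scoped TensorProduct

/-- Let k ⊆ K ⊆ L be three fields with L an extension of finite type of k. Then Ω_{L/k} and Ω_{K/k} are
finite-dimensional and rank_L Ω_{L/k} − rank_K Ω_{K/k} ≥ trdeg_K L. (The published statement also
gives the exact value trdeg_K L + d(L/K, k) and an equality criterion; this row states only the
inequality.) -/
theorem result {k K L : Type u} [Field k] [Field K] [Field L]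
    [Algebra k K] [Algebra K L] [Algebra k L] [IsScalarTower k K L] [Algebra.EssFiniteType k L] :
    Module.Finite L (Ω[L⁄k]) ∧ Module.Finite K (Ω[K⁄k]) ∧
      (Cardinal.toNat (Algebra.trdeg K L) : ℤ) ≤ (Module.finrank L (Ω[L⁄k]) : ℤ) - Module.finrank K (Ω[K⁄k]) := by
  have : Algebra.EssFiniteType K L := Algebra.EssFiniteType.of_comp k K L
  obtain ⟨h1, h2, h3⟩ := EGA41Lib.fieldIdx_trdeg (K := K) (L := L)
  obtain ⟨h4, h5⟩ := EGA41Lib.imperfection_le (K := K) (L := L) k
  let u := KaehlerDifferential.mapBaseChange k K L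
  let e := (Submodule.quotEquivOfEq _ _
    (LinearMap.exact_iff.1 (KaehlerDifferential.exact_mapBaseChange_map k K L)).symm).trans
    (LinearMap.quotKerEquivOfSurjective _ (KaehlerDifferential.map_surjective k K L))
  have hLk : Module.Finite L (Ω[L⁄k]) := inferInstance
  have : Module.Finite L ((L ⊗[K] Ω[K⁄k]) ⧸ LinearMap.ker u) :=
    Module.Finite.equiv u.quotKerEquivRange.symm
  have hfin : Module.Finite L (L ⊗[K] Ω[K⁄k]) :=
    Module.Finite.of_submodule_quotient (R := L) (N := LinearMap.ker u)
  have hKk : Module.Finite K (Ω[K⁄k]) := by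
    let b := Module.Basis.ofVectorSpace K (Ω[K⁄k])
    have : Finite (Module.Basis.ofVectorSpaceIndex K (Ω[K⁄k])) := Module.Finite.finite_basis (b.baseChange L)
    exact Module.Finite.of_basis b
  refine ⟨hLk, hKk, ?_⟩
  have r1 := u.finrank_range_add_finrank_ker
  have r2 := (LinearMap.range u).finrank_quotient_add_finrank
  rw [Module.finrank_baseChange] at r1
  rw [e.finrank_eq] at r2
  change Module.finrank L (LinearMap.ker u) ≤ _ at h5
  omega

end Groth.Agent.S4526
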