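import Groth.Statements.S3432
import Mathlib

set_option autoImplicit false
open CategoryTheory AlgebraicGeometry
universe u
open EGA43

namespace Groth.Agent.S3432

theorem no_chain {R : Type u} [CommRing R] [IsDomain R] [IsNoetherianRing R] {g : R} (hg : g ≠ 0)
    (hgp : ∀ P : Ideal R, P.IsPrime → P ≠ ⊥ → g ∈ P) {q m : Ideal R} [q.IsPrime] [m.IsPrime]
    (hq : q ≠ ⊥) (hlt : q < m) : False := by
  classical
  have hfin : (Ideal.span {g} : Ideal R).minimalPrimes.Finite := Ideal.finite_minimalPrimes_of_isNoetherianRing R _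
  have hnot : ∀ P ∈ hfin.toFinset, ¬ m ≤ P := by
    intro P hP hmP
    rw [Set.Finite.mem_toFinset] at hP
    have := hP.1.1
    have h1 : P.height ≤ 1 := Ideal.height_le_one_of_isPrincipal_of_mem_minimalPrimes _ P hP
    have h2 := Ideal.height_add_one_le_of_lt_of_isPrime (I := q) (J := P) (hlt.trans_le hmP)
    have h3 : q.height ≠ 0 := fun h => hq (Ideal.height_eq_zero_iff_eq_bot.mp h)
    have h4 : (1 : ℕ∞) ≤ q.height := Order.one_le_iff_ne_zero.mpr h3
    have h5 : (1 : ℕ∞) + 1 ≤ 1 := ((add_le_add_left h4 1).trans h2).trans h1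
    norm_num at h5
  have hsub : ¬ (m : Set R) ⊆ ⋃ P ∈ (↑hfin.toFinset : Set (Ideal R)), (P : Set R) := by
    intro h
    obtain ⟨P, hP, hle⟩ := (Ideal.subset_union_prime (f := id) ⊥ ⊥ (fun P hP _ _ => by
      rw [Set.Finite.mem_toFinset] at hP; exact hP.1.1)).mp h
    exact hnot P hP hle
  obtain ⟨f, hfm, hf⟩ := Set.not_subset.mp hsub
  obtain ⟨P, hP, -⟩ := Ideal.exists_minimalPrimes_le (I := Ideal.span {f}) (J := m)
    ((Ideal.span_singleton_le_iff_mem m).mpr hfm)
  have hPp := hP.1.1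
  have hfP : f ∈ P := hP.1.2 (Ideal.mem_span_singleton_self f)
  have h1 : P.height ≤ 1 := Ideal.height_le_one_of_isPrincipal_of_mem_minimalPrimes _ P hP
  by_cases hP0 : P = ⊥
  · subst hP0
    obtain ⟨P', hP', hle'⟩ := Ideal.exists_minimalPrimes_le (I := Ideal.span {g}) (J := m)
      ((Ideal.span_singleton_le_iff_mem m).mpr (hgp m inferInstance
        (fun h => by subst h; exact not_lt_bot hlt)))
    exact hf (Set.mem_biUnion ((Set.Finite.mem_toFinset _).mpr hP') (by rw [(Ideal.mem_bot).mp hfP]; exact P'.zero_mem))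
  obtain ⟨Q, hQ, hQP⟩ := Ideal.exists_minimalPrimes_le (I := Ideal.span {g}) (J := P)
    ((Ideal.span_singleton_le_iff_mem P).mpr (hgp P hPp hP0))
  have := hQ.1.1
  have hQ0 : Q ≠ ⊥ := fun h => hg (by
    have hgQ : g ∈ Q := hQ.1.2 (Ideal.mem_span_singleton_self g)
    rw [h] at hgQ; simpa using hgQ)
  rcases eq_or_lt_of_le hQP with h | h
  · exact hf (Set.mem_biUnion ((Set.Finite.mem_toFinset _).mpr hQ) (h ▸ hfP))
  · have h2 := Ideal.height_add_one_le_of_lt_of_isPrime (I := Q) (J := P) h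
    have h3 : (1 : ℕ∞) ≤ Q.height :=
      Order.one_le_iff_ne_zero.mpr fun h => hQ0 (Ideal.height_eq_zero_iff_eq_bot.mp h)
    have h5 : (1 : ℕ∞) + 1 ≤ 1 := ((add_le_add_left h3 1).trans h2).trans h1
    norm_num at h5

open scoped Classical in
theorem no_specializes {A : Type u} [CommRing A] [IsNoetherianRing A] {p q m : PrimeSpectrum A}
    (hopen : ∃ o : Set (PrimeSpectrum A), IsOpen o ∧ closure {p} ∩ o = {p}) (hpq : p ⤳ q) (hqm : q ⤳ m)
    (hne : p ≠ q) : q = m := by
  by_contra hne'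
  obtain ⟨o, ho, hpo⟩ := hopen
  have hp : p ∈ o := (hpo.ge rfl).2
  obtain ⟨_, ⟨g, rfl⟩, hpg, hgo⟩ := PrimeSpectrum.isTopologicalBasis_basic_opens.exists_subset_of_mem_open hp ho
  have hgp : g ∉ p.asIdeal := hpg
  let π := Ideal.Quotient.mk p.asIdeal
  have hsurj : Function.Surjective π := Ideal.Quotient.mk_surjective
  have hle : p.asIdeal ≤ q.asIdeal := (PrimeSpectrum.le_iff_specializes p q).mpr hpq
  have hle' : q.asIdeal ≤ m.asIdeal := (PrimeSpectrum.le_iff_specializes q m).mpr hqm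
  have hker : ∀ I : Ideal A, p.asIdeal ≤ I → RingHom.ker π ≤ I := fun I h => by rwa [Ideal.mk_ker]
  have := Ideal.map_isPrime_of_surjective hsurj (hker _ hle)
  have := Ideal.map_isPrime_of_surjective hsurj (hker _ (hle.trans hle'))
  refine no_chain (g := π g) (fun h => hgp (Ideal.Quotient.eq_zero_iff_mem.mp h))
    (fun P hP hP0 => ?_) (q := q.asIdeal.map π) (m := m.asIdeal.map π) (fun h => hne ?_) ?_
  · by_contra hg
    apply hP0
    have h1 : p.asIdeal ≤ P.comap π := fun x hx => by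
      rw [Ideal.mem_comap, Ideal.Quotient.eq_zero_iff_mem.mpr hx]; exact P.zero_mem
    have h2 : (⟨P.comap π, inferInstance⟩ : PrimeSpectrum A) ∈ closure {p} ∩ o :=
      ⟨((PrimeSpectrum.le_iff_specializes p ⟨P.comap π, inferInstance⟩).mp h1).mem_closure,
        hgo (show g ∉ P.comap π from hg)⟩
    rw [hpo] at h2
    have h3 : P.comap π = p.asIdeal := congrArg PrimeSpectrum.asIdeal h2
    rw [← Ideal.map_comap_of_surjective π hsurj P, h3, Ideal.map_quotient_self]
  · refine PrimeSpectrum.ext (le_antisymm hle ?_)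
    rw [Ideal.map_eq_bot_iff_le_ker, Ideal.mk_ker] at h
    exact h
  · refine lt_of_le_of_ne (Ideal.map_mono hle') fun h => hne' (PrimeSpectrum.ext ?_)
    have := congrArg (Ideal.comap π) h
    rwa [Ideal.comap_map_quotientMk, Ideal.comap_map_quotientMk, sup_eq_right.mpr hle,
      sup_eq_right.mpr (hle.trans hle')] at this

/-- Let X be a locally Noetherian scheme and Y a closed subset of X such that every nonempty closed
subset of X meets Y. Then the open subscheme X ∖ Y (equivalently, the subspace X ∖ Y) is a Jacobson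
space. -/
theorem result (X : Scheme.{u}) [IsLocallyNoetherian X] (Y : Set X)
    (hY : IsClosed Y) (hmeet : ∀ Z : Set X, IsClosed Z → Z.Nonempty → (Z ∩ Y).Nonempty) :
    JacobsonSpace ↥(Yᶜ) := by
  rw [jacobsonSpace_iff_locallyClosed]
  intro Z hne hZ
  obtain ⟨z₀, hz₀⟩ := hne
  obtain ⟨_, ⟨W, hW, rfl⟩, hz₀W, -⟩ := X.isBasis_affineOpens.exists_subset_of_mem_open
    (Set.mem_univ z₀.1) isOpen_univ
  have : IsNoetherianRing Γ(X, W) := IsLocallyNoetherian.component_noetherian ⟨W, hW⟩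
  let Z' : Set X := Subtype.val '' Z ∩ W
  have hZ' : IsLocallyClosed Z' :=
    (hZ.image hY.isOpen_compl.isOpenEmbedding_subtypeVal.isInducing
      (by rw [Subtype.range_coe]; exact hY.isOpen_compl.isLocallyClosed)).inter W.2.isLocallyClosed
  have : TopologicalSpace.NoetherianSpace (W : Set X) :=
    noetherianSpace_of_isAffineOpen W hW
  have hcomp : IsCompact Z' := (TopologicalSpace.noetherianSpace_set_iff (W : Set X)).mp inferInstance Z' Set.inter_subset_right
  have : CompactSpace ↥Z' := isCompact_iff_compactSpace.mp hcomp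
  obtain ⟨z, -, hzc⟩ := IsClosed.exists_closed_singleton (X := ↥Z') isClosed_univ ⟨⟨z₀.1, ⟨z₀, hz₀, rfl⟩, hz₀W⟩, trivial⟩
  obtain ⟨o, c, ho, hc, hoc⟩ := hZ'
  have hzo : z.1 ∈ o ∧ z.1 ∈ c := hoc.le z.2
  -- the point is locally closed
  have hiso : closure {z.1} ∩ o = {z.1} := by
    refine Set.Subset.antisymm ?_ (by simpa using ⟨subset_closure rfl, hzo.1⟩)
    rintro y ⟨hy, hyo⟩
    have hyZ : y ∈ Z' := hoc.ge ⟨hyo, closure_minimal (by simpa using hzo.2) hc hy⟩
    have : (⟨y, hyZ⟩ : ↥Z') ∈ closure {z} := by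
      rw [closure_subtype, Set.image_singleton]; exact hy
    rw [hzc.closure_eq] at this
    exact congrArg Subtype.val this
  obtain ⟨⟨z', hz'Z, hz'eq⟩, hzW⟩ := z.2
  refine ⟨z', hz'Z, ?_⟩
  rw [mem_closedPoints_iff, ← closure_subset_iff_isClosed]
  rintro w hw
  rw [closure_subtype, Set.image_singleton, hz'eq] at hw
  by_contra hwz
  have hwne : z.1 ≠ w.1 := fun h => hwz (Subtype.ext (h.symm.trans hz'eq.symm))
  -- such a point is closed
  have hwc : IsClosed ({w.1} : Set X) := by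
    rw [← closure_subset_iff_isClosed]
    intro m hm
    have h1 : z.1 ⤳ w.1 := specializes_iff_mem_closure.mpr hw
    have h2 : w.1 ⤳ m := specializes_iff_mem_closure.mpr hm
    obtain ⟨_, ⟨V, hV, rfl⟩, hmV, -⟩ := X.isBasis_affineOpens.exists_subset_of_mem_open
      (Set.mem_univ m) isOpen_univ
    have : IsNoetherianRing Γ(X, V) := IsLocallyNoetherian.component_noetherian ⟨V, hV⟩
    have hwV : w.1 ∈ V := h2.mem_open V.2 hmV
    have hzV : z.1 ∈ V := h1.mem_open V.2 hwV
    rw [← SetLike.mem_coe, ← IsAffineOpen.range_fromSpec hV] at hwV hzV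
    rw [← IsAffineOpen.range_fromSpec hV] at hmV
    obtain ⟨⟨m', rfl⟩, ⟨q, hq⟩, ⟨p, hp⟩⟩ := hmV, hwV, hzV
    have hemb := hV.fromSpec.isOpenEmbedding
    rw [← hp, ← hq] at h1
    rw [← hq] at h2
    have hopen : ∃ o' : Set (PrimeSpectrum Γ(X, V)), IsOpen o' ∧ closure {p} ∩ o' = {p} := by
      refine ⟨hV.fromSpec ⁻¹' o, ho.preimage hV.fromSpec.continuous,
        Set.Subset.antisymm ?_ (by
          rintro _ rfl; exact ⟨subset_closure rfl, show hV.fromSpec _ ∈ o by rw [hp]; exact hzo.1⟩)⟩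
      rintro y ⟨hy, hyo⟩
      have h3 : hV.fromSpec y ∈ closure {z.1} ∩ o :=
        ⟨by rw [← hp]; exact ((specializes_iff_mem_closure.mpr hy).map hV.fromSpec.continuous).mem_closure, hyo⟩
      rw [hiso] at h3
      exact hemb.injective (h3.trans hp.symm)
    have := no_specializes hopen (hemb.isInducing.specializes_iff.mp h1) (hemb.isInducing.specializes_iff.mp h2)
      (fun h => hwne (by rw [← hp, ← hq, h]))
    subst this
    exact hq
  obtain ⟨y, rfl, hy⟩ := hmeet _ hwc ⟨w.1, rfl⟩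
  exact w.2 hy

end Groth.Agent.S3432
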