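import Groth.Statements.S7393
import Groth.Agent.GRing17.Maximal
import Groth.Agent.GRingLib.Transport
import Groth.Agent.S3432
-- import your own Groth.Agent.* helpers here

set_option autoImplicit false
universe u
open CategoryTheory AlgebraicGeometry
open Mor

namespace Groth.Agent.S7393

/-- In a locally Noetherian scheme every point specializes to a closed point. -/
theorem exists_closed_specialization (X : Scheme.{u}) [IsLocallyNoetherian X] (x : X) :
    ∃ c : X, x ⤳ c ∧ IsClosed ({c} : Set X) := by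
  obtain ⟨_, ⟨W, hW, rfl⟩, hxW, -⟩ := X.isBasis_affineOpens.exists_subset_of_mem_open
    (Set.mem_univ x) isOpen_univ
  rw [← hW.range_fromSpec] at hxW
  obtain ⟨p₀, rfl⟩ := hxW
  obtain ⟨m, hm, hpm⟩ := Ideal.exists_le_maximal p₀.asIdeal p₀.isPrime.ne_top
  let μ : PrimeSpectrum Γ(X, W) := ⟨m, hm.isPrime⟩
  let z := hW.fromSpec μ
  have hxz : hW.fromSpec p₀ ⤳ z :=
    ((PrimeSpectrum.le_iff_specializes p₀ μ).mp hpm).map hW.fromSpec.continuous
  by_cases hz : IsClosed ({z} : Set X)
  · exact ⟨z, hxz, hz⟩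
  have hiso : ∀ y, z ⤳ y → y ∈ W → y = z := by
    intro y hy hyW
    rw [← SetLike.mem_coe, ← hW.range_fromSpec] at hyW
    obtain ⟨P, rfl⟩ := hyW
    have hle : m ≤ P.asIdeal :=
      (PrimeSpectrum.le_iff_specializes μ P).mpr (hW.fromSpec.isOpenEmbedding.isInducing.specializes_iff.mp hy)
    exact congrArg hW.fromSpec (PrimeSpectrum.ext (hm.eq_of_le P.isPrime.ne_top hle).symm)
  rw [← closure_subset_iff_isClosed, Set.not_subset] at hz
  obtain ⟨w, hw, hwz⟩ := hz
  have hzw : z ⤳ w := specializes_iff_mem_closure.mpr hw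
  refine ⟨w, hxz.trans hzw, ?_⟩
  rw [← closure_subset_iff_isClosed]
  intro v hv
  by_contra hvw
  have hwv : w ⤳ v := specializes_iff_mem_closure.mpr hv
  obtain ⟨_, ⟨V, hV, rfl⟩, hvV, -⟩ := X.isBasis_affineOpens.exists_subset_of_mem_open
    (Set.mem_univ v) isOpen_univ
  have : IsNoetherianRing Γ(X, V) := IsLocallyNoetherian.component_noetherian ⟨V, hV⟩
  have hwV : w ∈ V := hwv.mem_open V.2 hvV
  have hzV : z ∈ V := hzw.mem_open V.2 hwV
  have hzW : z ∈ W := by rw [← SetLike.mem_coe, ← hW.range_fromSpec]; exact ⟨μ, rfl⟩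
  rw [← SetLike.mem_coe, ← hV.range_fromSpec] at hzV hwV
  rw [← hV.range_fromSpec] at hvV
  obtain ⟨P, hP⟩ := hzV
  obtain ⟨Q, rfl⟩ := hwV
  obtain ⟨U, rfl⟩ := hvV
  rw [← hP] at hzw hiso hwz hzW
  have hind := hV.fromSpec.isOpenEmbedding.isInducing
  have hPQ : P.asIdeal ≤ Q.asIdeal := (PrimeSpectrum.le_iff_specializes P Q).mpr (hind.specializes_iff.mp hzw)
  have hQU : Q.asIdeal ≤ U.asIdeal := (PrimeSpectrum.le_iff_specializes Q U).mpr (hind.specializes_iff.mp hwv)
  have hne1 : P.asIdeal ≠ Q.asIdeal := fun h => hwz (congrArg hV.fromSpec (PrimeSpectrum.ext h)).symm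
  have hne2 : Q.asIdeal ≠ U.asIdeal := fun h => hvw (congrArg hV.fromSpec (PrimeSpectrum.ext h)).symm
  obtain ⟨_, ⟨g, rfl⟩, hPg, hgW⟩ := PrimeSpectrum.isTopologicalBasis_basic_opens.exists_subset_of_mem_open
    (show P ∈ hV.fromSpec ⁻¹' W from hzW) (W.2.preimage hV.fromSpec.continuous)
  let π := Ideal.Quotient.mk P.asIdeal
  have key : ∀ I : Ideal (Γ(X, V) ⧸ P.asIdeal), I.IsPrime → I ≠ ⊥ → π g ∈ I := by
    intro I hI hI0
    by_contra hg
    refine hI0 ?_
    have h2 : P.asIdeal ≤ I.comap π := fun a ha => by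
      rw [Ideal.mem_comap, Ideal.Quotient.eq_zero_iff_mem.mpr ha]; exact I.zero_mem
    have h3 := hiso (hV.fromSpec ⟨I.comap π, inferInstance⟩)
      (((PrimeSpectrum.le_iff_specializes P ⟨I.comap π, inferInstance⟩).mp h2).map hV.fromSpec.continuous)
      (hgW (show g ∉ I.comap π from hg))
    have h4 : I.comap π = P.asIdeal :=
      congrArg PrimeSpectrum.asIdeal (hV.fromSpec.isOpenEmbedding.injective h3)
    rw [← Ideal.map_comap_of_surjective π Ideal.Quotient.mk_surjective I, h4, Ideal.map_quotient_self]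
  have hcom : ∀ J : Ideal Γ(X, V), P.asIdeal ≤ J → (J.map π).comap π = J := fun J hJ => by
    rw [Ideal.comap_map_of_surjective' _ Ideal.Quotient.mk_surjective, Ideal.mk_ker, sup_eq_left.mpr hJ]
  have : (Q.asIdeal.map π).IsPrime :=
    Ideal.map_isPrime_of_surjective Ideal.Quotient.mk_surjective (by rwa [Ideal.mk_ker])
  have : (U.asIdeal.map π).IsPrime :=
    Ideal.map_isPrime_of_surjective Ideal.Quotient.mk_surjective (by rw [Ideal.mk_ker]; exact hPQ.trans hQU)
  refine Groth.Agent.S3432.no_chain (g := π g) (fun h => hPg (Ideal.Quotient.eq_zero_iff_mem.mp h)) key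
    (q := Q.asIdeal.map π) (m := U.asIdeal.map π) (fun h => hne1 ?_) (lt_of_le_of_ne (Ideal.map_mono hQU) fun h => hne2 ?_)
  · have := congrArg (Ideal.comap π) h
    rw [hcom _ hPQ] at this
    exact (this.trans Ideal.mk_ker).symm
  · have := congrArg (Ideal.comap π) h
    rwa [hcom _ hPQ, hcom _ (hPQ.trans hQU)] at this

/-- A scheme `X` is a G-scheme (every point has an affine open neighbourhood whose coordinate ring is a
G-ring) if and only if `X` is locally Noetherian and, for every closed point `x`, the completion map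
of the local ring `O_{X,x} → O_{X,x}^∧` is a regular ring map. -/
theorem result (X : Scheme.{u}) :
    (∀ x : X, ∃ U : X.Opens, x ∈ U ∧ IsAffineOpen U ∧ CAlg.IsGRing Γ(X, U)) ↔
      IsLocallyNoetherian X ∧ ∀ x : X, IsClosed ({x} : Set X) →
        CAlg.IsRegularHom (X.presheaf.stalk x)
          (AdicCompletion (IsLocalRing.maximalIdeal (X.presheaf.stalk x)) (X.presheaf.stalk x)) := by
  constructor
  · intro h
    choose U hxU hU hG using h
    haveI : IsLocallyNoetherian X := isLocallyNoetherian_of_affine_cover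
      (S := fun x => ⟨U x, hU x⟩)
      (top_le_iff.mp fun x _ => TopologicalSpace.Opens.mem_iSup.mpr ⟨x, hxU x⟩)
      (fun x => (hG x).1)
    refine ⟨inferInstance, fun x _ => ?_⟩
    let _ := TopCat.Presheaf.algebra_section_stalk X.presheaf (⟨x, hxU x⟩ : U x)
    have := (hU x).isLocalization_stalk ⟨x, hxU x⟩
    let q := ((hU x).primeIdealOf ⟨x, hxU x⟩).asIdeal
    exact Groth.Agent.GRingLib.isRegularHom_completion_of_equiv
      (IsLocalization.algEquiv q.primeCompl (Localization.AtPrime q) (X.presheaf.stalk x)).toRingEquiv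
      ((hG x).2 q)
  · rintro ⟨hN, h⟩ x
    obtain ⟨U, hU, hxU, -⟩ := exists_isAffineOpen_mem_and_subset (X := X) (x := x)
      (U := (⊤ : X.Opens)) trivial
    refine ⟨U, hxU, hU, IsLocallyNoetherian.component_noetherian ⟨U, hU⟩, fun p _ => ?_⟩
    obtain ⟨c, hsp, hc⟩ := exists_closed_specialization X (hU.fromSpec ⟨p, inferInstance⟩)
    obtain ⟨V, hV, hcV, -⟩ := exists_isAffineOpen_mem_and_subset (X := X) (x := c)
      (U := (⊤ : X.Opens)) trivial
    have hyU : hU.fromSpec ⟨p, inferInstance⟩ ∈ U := by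
      rw [← SetLike.mem_coe, ← hU.range_fromSpec]; exact ⟨_, rfl⟩
    have hyV := hsp.mem_open V.2 hcV
    set y := hU.fromSpec ⟨p, inferInstance⟩ with hy
    have hp : hU.primeIdealOf ⟨y, hyU⟩ = ⟨p, inferInstance⟩ :=
      hU.fromSpec.isOpenEmbedding.injective (hU.fromSpec_primeIdealOf ⟨y, hyU⟩)
    have : IsNoetherianRing Γ(X, V) := IsLocallyNoetherian.component_noetherian ⟨V, hV⟩
    let pc := hV.primeIdealOf ⟨c, hcV⟩
    let py := hV.primeIdealOf ⟨y, hyV⟩
    have hle : py.asIdeal ≤ pc.asIdeal := by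
      refine (PrimeSpectrum.le_iff_specializes py pc).mpr (hV.fromSpec.isOpenEmbedding.isInducing.specializes_iff.mp ?_)
      rw [hV.fromSpec_primeIdealOf, hV.fromSpec_primeIdealOf]
      exact hsp
    let _ := TopCat.Presheaf.algebra_section_stalk X.presheaf (⟨c, hcV⟩ : V)
    have := hV.isLocalization_stalk ⟨c, hcV⟩
    have hm : CAlg.IsRegularHom (Localization.AtPrime pc.asIdeal)
        (AdicCompletion (IsLocalRing.maximalIdeal (Localization.AtPrime pc.asIdeal)) (Localization.AtPrime pc.asIdeal)) :=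
      Groth.Agent.GRingLib.isRegularHom_completion_of_equiv
        (IsLocalization.algEquiv pc.asIdeal.primeCompl (X.presheaf.stalk c) (Localization.AtPrime pc.asIdeal)).toRingEquiv
        (h c hc)
    have hy' := Groth.Agent.GRing17.isRegularHom_cpl_of_le pc.asIdeal hm py.asIdeal hle
    let _ := TopCat.Presheaf.algebra_section_stalk X.presheaf (⟨y, hyV⟩ : V)
    have := hV.isLocalization_stalk ⟨y, hyV⟩
    let e₁ : Localization.AtPrime py.asIdeal ≃+* X.presheaf.stalk y :=
      (IsLocalization.algEquiv py.asIdeal.primeCompl (Localization.AtPrime py.asIdeal) (X.presheaf.stalk y)).toRingEquiv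
    let _ := TopCat.Presheaf.algebra_section_stalk X.presheaf (⟨y, hyU⟩ : U)
    have hl : IsLocalization.AtPrime (X.presheaf.stalk y) p := by
      have := hU.isLocalization_stalk ⟨y, hyU⟩
      rw [hp] at this
      exact this
    let e₂ : Localization.AtPrime p ≃+* X.presheaf.stalk y :=
      (IsLocalization.algEquiv p.primeCompl (Localization.AtPrime p) (X.presheaf.stalk y)).toRingEquiv
    exact Groth.Agent.GRingLib.isRegularHom_completion_of_equiv (e₁.trans e₂.symm) hy'

end Groth.Agent.S7393
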