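import Groth.Statements.S16238
import Mathlib
import Groth.Agent.FTorColim.Vanish
-- import your own Groth.Agent.* helpers here

set_option autoImplicit false
universe u
open CategoryTheory
open CAlg

namespace Groth.Agent.S16238

open CategoryTheory CategoryTheory.Limits MonoidalCategory RingTheory.Sequence
open Groth.Agent.DRingPC (tensorRes torIso tensorResSC tensorResSC_shortExact)
open Groth.Agent.FTorColim (T)

section
variable {A : Type u} [CommRing A]

lemma hcMap_smul {ι : Type} {c : ComplexShape ι} {K L : HomologicalComplex (ModuleCat.{u} A) c}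
    (r : A) (φ : K ⟶ L) (i : ι) :
    HomologicalComplex.homologyMap (r • φ) i = r • HomologicalComplex.homologyMap φ i := by
  have : (HomologicalComplex.shortComplexFunctor (ModuleCat.{u} A) c i).map (r • φ) =
      r • (HomologicalComplex.shortComplexFunctor (ModuleCat.{u} A) c i).map φ := by
    ext <;> rfl
  unfold HomologicalComplex.homologyMap
  rw [this]
  exact ShortComplex.homologyMap_smul _ _

/-- `0 → M --r--> M → M' → 0`. -/
noncomputable def mulSC (I I' : Ideal A) (r : A) (h : I' = I ⊔ Ideal.span {r}) :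
    ShortComplex (ModuleCat.{u} A) :=
  ShortComplex.mk (ModuleCat.ofHom (r • (LinearMap.id : (A ⧸ I) →ₗ[A] A ⧸ I)))
    (ModuleCat.ofHom (Submodule.factor (h ▸ le_sup_left : I ≤ I'))) (by
      refine ModuleCat.hom_ext (Submodule.linearMap_qext _ (LinearMap.ext_ring ?_))
      refine (Submodule.Quotient.mk_eq_zero I').2 ?_
      rw [h]
      exact Ideal.mem_sup_right (Ideal.mem_span_singleton'.2 ⟨1, by simp⟩))

lemma mulSC_shortExact (I I' : Ideal A) (r : A) (h : I' = I ⊔ Ideal.span {r})
    (hr : IsSMulRegular (A ⧸ I) r) : (mulSC I I' r h).ShortExact where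
  mono_f := (ModuleCat.mono_iff_injective _).2 fun a b hab => hr hab
  epi_g := (ModuleCat.epi_iff_surjective _).2 (Submodule.factor_surjective (h ▸ le_sup_left : I ≤ I'))
  exact := by
    rw [ShortComplex.ShortExact.moduleCat_exact_iff_function_exact]
    intro y
    obtain ⟨y, rfl⟩ := Submodule.Quotient.mk_surjective I y
    constructor
    · intro hy
      have hy' : y ∈ I' := (Submodule.Quotient.mk_eq_zero I').1 hy
      rw [h, Submodule.mem_sup] at hy'
      obtain ⟨a, ha, b, hb, rfl⟩ := hy'
      obtain ⟨c, rfl⟩ := Ideal.mem_span_singleton'.1 hb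
      refine ⟨Submodule.Quotient.mk c, ?_⟩
      change r • (Submodule.Quotient.mk c : A ⧸ I) = _
      rw [← Submodule.Quotient.mk_smul, Submodule.Quotient.eq, smul_eq_mul]
      have : r * c - (a + c * r) = -a := by ring
      rw [this]; exact I.neg_mem ha
    · rintro ⟨x, hx⟩
      obtain ⟨x, rfl⟩ := Submodule.Quotient.mk_surjective I x
      rw [← hx]
      refine (Submodule.Quotient.mk_eq_zero I').2 ?_
      rw [h]
      exact Ideal.mem_sup_right (Ideal.mem_span_singleton'.2 ⟨x, by
        simp [mul_comm]⟩)

variable {N : ModuleCat.{u} A} (P : ProjectiveResolution N)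

lemma homologyMap_mulSC (I I' : Ideal A) (r : A) (h : I' = I ⊔ Ideal.span {r}) (i : ℕ) :
    HomologicalComplex.homologyMap (tensorResSC (S := mulSC I I' r h) P).f i =
      r • 𝟙 ((tensorRes (mulSC I I' r h).X₁ P).homology i) := by
  have hf : (tensorResSC (S := mulSC I I' r h) P).f = r • 𝟙 (tensorRes (mulSC I I' r h).X₁ P) := by
    have e : (mulSC I I' r h).f = r • 𝟙 (ModuleCat.of A (A ⧸ I)) := rfl
    refine HomologicalComplex.hom_ext _ _ fun j => ?_
    change (mulSC I I' r h).f ▷ P.complex.X j = r • 𝟙 _
    change (r • 𝟙 (ModuleCat.of A (A ⧸ I))) ▷ P.complex.X j = _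
    exact (MonoidalLinear.smul_whiskerRight r _ _).trans
      (congrArg (r • ·) (MonoidalCategory.id_whiskerRight _ _))
  rw [hf]
  exact (hcMap_smul r _ i).trans (congrArg (r • ·) (HomologicalComplex.homologyMap_id _ _))

lemma tor_zero_regular_iff (I : Ideal A) (N : ModuleCat.{u} A) (r : A) :
    IsSMulRegular (T 0 (ModuleCat.of A (A ⧸ I)) N) r ↔
      IsSMulRegular (N ⧸ (I • ⊤ : Submodule A N)) r := by
  haveI : PreservesFiniteColimits ((tensoringLeft (ModuleCat.{u} A)).obj (ModuleCat.of A (A ⧸ I))) :=
    inferInstanceAs (PreservesFiniteColimits (tensorLeft (ModuleCat.of A (A ⧸ I))))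
  exact LinearEquiv.isSMulRegular_congr
    ((((tensoringLeft (ModuleCat.{u} A)).obj (ModuleCat.of A (A ⧸ I))).leftDerivedZeroIsoSelf.app N).toLinearEquiv.trans
      (TensorProduct.quotTensorEquivQuotSMul N I)) r

lemma key [IsNoetherianRing A] [IsLocalRing A] (rs : List A) :
    IsWeaklyRegular A rs → (∀ r ∈ rs, r ∈ IsLocalRing.maximalIdeal A) →
    ∀ (N : ModuleCat.{u} A) [Module.Finite A N],
    (IsWeaklyRegular N rs ↔
      ∀ i : ℕ, 1 ≤ i → IsZero (T i (ModuleCat.of A (A ⧸ Ideal.ofList rs)) N)) := by
  induction rs using List.reverseRecOn with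
  | nil =>
    intro _ _ N _
    refine iff_of_true (IsWeaklyRegular.nil A N) fun i hi => ?_
    obtain ⟨j, rfl⟩ : ∃ j, i = j + 1 := ⟨i - 1, by omega⟩
    haveI : Module.Flat A (ModuleCat.of A (A ⧸ Ideal.ofList ([] : List A))) :=
      Module.Flat.of_linearEquiv (Submodule.quotEquivOfEqBot _ Ideal.ofList_nil)
    exact Groth.Agent.FTorColim.isZero_tor_succ_of_flat _ _ _
  | append_singleton rs r ih =>
    intro hA hm N _
    rw [isWeaklyRegular_append_iff, isWeaklyRegular_singleton_iff] at hA ⊢
    obtain ⟨hA₁, hA₂⟩ := hA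
    have hIH := ih hA₁ (fun s hs => hm s (List.mem_append_left _ hs)) N
    have hrm : r ∈ IsLocalRing.maximalIdeal A := hm r (by simp)
    have hM : IsSMulRegular (A ⧸ Ideal.ofList rs) r := by
      refine (LinearEquiv.isSMulRegular_congr (Submodule.quotEquivOfEq _ _ ?_) r).1 hA₂
      rw [Ideal.smul_top_eq_map, Algebra.algebraMap_self, Ideal.map_id]
      rfl
    have hI : Ideal.ofList (rs ++ [r]) = Ideal.ofList rs ⊔ Ideal.span {r} := by
      rw [Ideal.ofList_append, Ideal.ofList_singleton]
    let P := projectiveResolution N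
    have hT := tensorResSC_shortExact (mulSC_shortExact _ _ r hI hM) P
    have hf := homologyMap_mulSC P _ _ r hI
    let M := ModuleCat.of A (A ⧸ Ideal.ofList rs)
    have hreg0 : IsSMulRegular ((tensorRes M P).homology 0) r ↔
        IsSMulRegular (N ⧸ (Ideal.ofList rs • ⊤ : Submodule A N)) r := by
      rw [← tor_zero_regular_iff (Ideal.ofList rs) N r]
      exact ((torIso M P 0).toLinearEquiv.isSMulRegular_congr r).symm
    have hmono : ∀ i : ℕ, Mono (HomologicalComplex.homologyMap
        (tensorResSC (S := mulSC _ _ r hI) P).f i) ↔ IsSMulRegular ((tensorRes M P).homology i) r := by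
      intro i
      rw [hf i, ModuleCat.mono_iff_injective]
      rfl
    constructor
    · rintro ⟨hN₁, hN₂⟩ i hi
      have hz := hIH.1 hN₁
      obtain ⟨j, rfl⟩ : ∃ j, i = j + 1 := ⟨i - 1, by omega⟩
      refine IsZero.of_iso ?_ (torIso _ P (j + 1))
      refine (hT.homology_exact₃ (j + 1) j (by simp)).isZero_of_both_zeros ?_ ?_
      · exact ((hz (j + 1) (by omega)).of_iso (torIso M P (j + 1)).symm).eq_of_src _ _
      · haveI : Mono (HomologicalComplex.homologyMap (tensorResSC (S := mulSC _ _ r hI) P).f j) := by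
          rw [hmono]
          cases j with
          | zero => exact hreg0.2 hN₂
          | succ j =>
            haveI := ModuleCat.subsingleton_of_isZero
              ((hz (j + 1) (by omega)).of_iso (torIso M P (j + 1)).symm)
            exact fun a b _ => Subsingleton.elim a b
        exact Limits.zero_of_comp_mono _ (hT.δ_comp (j + 1) j (by simp))
    · intro hz
      have hz' : ∀ i : ℕ, IsZero ((tensorRes (mulSC _ _ r hI).X₃ P).homology (i + 1)) := fun i =>
        (hz (i + 1) (by omega)).of_iso (torIso _ P (i + 1)).symm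
      refine ⟨hIH.2 fun i hi => ?_, hreg0.1 ((hmono 0).1 ?_)⟩
      · obtain ⟨j, rfl⟩ : ∃ j, i = j + 1 := ⟨i - 1, by omega⟩
        haveI := Groth.Agent.FTorColim.finite_tor (j + 1) M N
        haveI : Module.Finite A ((tensorRes M P).homology (j + 1)) :=
          Module.Finite.equiv (torIso M P (j + 1)).toLinearEquiv
        have hepi : Epi (HomologicalComplex.homologyMap
            (tensorResSC (S := mulSC _ _ r hI) P).f (j + 1)) :=
          (hT.homology_exact₂ (j + 1)).epi_f ((hz' j).eq_of_tgt _ _)
        rw [hf, ModuleCat.epi_iff_surjective] at hepi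
        have htop : (⊤ : Submodule A ((tensorRes M P).homology (j + 1))) = ⊥ := by
          refine Submodule.eq_bot_of_le_smul_of_le_jacobson_bot (Ideal.span {r}) _
            Module.Finite.fg_top ?_ ?_
          · intro x _
            obtain ⟨y, rfl⟩ := hepi x
            exact Submodule.smul_mem_smul (Ideal.mem_span_singleton_self r) Submodule.mem_top
          · rw [IsLocalRing.jacobson_eq_maximalIdeal _ bot_ne_top, Ideal.span_singleton_le_iff_mem]
            exact hrm
        haveI : Subsingleton ((tensorRes M P).homology (j + 1)) := by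
          rw [← Submodule.subsingleton_iff A]
          exact subsingleton_of_bot_eq_top htop.symm
        exact (ModuleCat.isZero_of_subsingleton _).of_iso (torIso M P (j + 1))
      · exact (hT.homology_exact₁ 1 0 (by simp)).mono_g ((hz' 0).eq_of_src _ _)

end


/-- Let A be a Noetherian local ring, x_1, …, x_n a regular sequence on A (each x_i a non-zero-divisor
on A/(x_1, …, x_{i-1})) generating the ideal I, and J an ideal with I + J ≠ A. Then the images of
x_1, …, x_n form a regular sequence on A/J if and only if Tor_i^A(A/I, A/J) = 0 for all i ≥ 1 (in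
degree 0 the Tor is A/(I + J) in any case). (The published statement does not ask the x_i to form a
regular sequence on A itself; without this the equivalence fails, for instance for A = k[e]/(e²), n
= 1, x_1 = e and J = 0, where every higher Tor of A/(e) against the free module A vanishes although
e is a zero-divisor.) -/
theorem result (A : Type u) [CommRing A] [IsNoetherianRing A] [IsLocalRing A]
    (n : ℕ) (x : Fin n → A) (hx : RingTheory.Sequence.IsWeaklyRegular A (List.ofFn x))
    (J : Ideal A) (hIJ : Ideal.span (Set.range x) ⊔ J ≠ ⊤) :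
    RingTheory.Sequence.IsWeaklyRegular (A ⧸ J) (List.ofFn (fun i : Fin n => Ideal.Quotient.mk J (x i))) ↔
      ∀ i : ℕ, 1 ≤ i → Limits.IsZero (((Tor (ModuleCat.{u} A) i).obj
        (ModuleCat.of A (A ⧸ Ideal.span (Set.range x)))).obj (ModuleCat.of A (A ⧸ J))) := by
  have hI : Ideal.ofList (List.ofFn x) = Ideal.span (Set.range x) := by
    exact congrArg Ideal.span (Set.ext fun a => List.mem_ofFn)
  have hm : ∀ r ∈ List.ofFn x, r ∈ IsLocalRing.maximalIdeal A := by
    intro r hr
    exact IsLocalRing.le_maximalIdeal hIJ (Ideal.mem_sup_left (hI ▸ Ideal.subset_span hr))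
  have h := key (List.ofFn x) hx hm (ModuleCat.of A (A ⧸ J))
  rw [hI] at h
  rw [← h]
  have e : List.ofFn (fun i : Fin n => Ideal.Quotient.mk J (x i)) =
      (List.ofFn x).map (algebraMap A (A ⧸ J)) := by
    rw [List.map_ofFn]; rfl
  rw [e]
  exact RingTheory.Sequence.isWeaklyRegular_map_algebraMap_iff (A ⧸ J) (A ⧸ J) (List.ofFn x)

end Groth.Agent.S16238
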