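import Groth.Statements.S7007
import Mathlib
import Groth.Agent.RelFP.Basic

set_option autoImplicit false
universe u
open CAlg

namespace Groth.Agent.S7007

section
open Groth.Agent.RelFP

variable {R A : Type*} [CommRing R] [CommRing A] [Algebra R A] {n : ℕ}
  (α : MvPolynomial (Fin n) R →ₐ[R] A) (M : Type*) [AddCommGroup M] [Module A M]

/-- The map of localisations induced by `α`. -/
noncomputable def θ (g : MvPolynomial (Fin n) R) : Localization.Away g →ₐ[R] Localization.Away (α g) :=
  IsLocalization.Away.mapₐ (Localization.Away g) (Localization.Away (α g)) α g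

theorem θ_algebraMap (g p : MvPolynomial (Fin n) R) :
    θ α g (algebraMap _ _ p) = algebraMap A _ (α p) :=
  by simp [θ, IsLocalization.Away.map]

theorem θ_surjective (hα : Function.Surjective α) (g : MvPolynomial (Fin n) R) :
    Function.Surjective (θ α g) := fun y => by
  obtain ⟨a, ⟨_, m, rfl⟩, rfl⟩ := IsLocalization.exists_mk'_eq (Submonoid.powers (α g)) y
  obtain ⟨b, rfl⟩ := hα a
  refine ⟨IsLocalization.mk' _ b (⟨g ^ m, m, rfl⟩ : Submonoid.powers g), ?_⟩
  rw [eq_comm, IsLocalization.mk'_eq_iff_eq_mul]
  change algebraMap A _ (α b) = θ α g _ * algebraMap A _ (α g ^ m)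
  rw [← map_pow, ← θ_algebraMap, ← θ_algebraMap, ← map_mul, IsLocalization.mk'_spec]

/-- Localised pieces which are finitely presented. -/
def Good (g : MvPolynomial (Fin n) R) : Prop :=
  @Module.FinitePresentation (Localization.Away g) (LocalizedModule (Submonoid.powers (α g)) M) _ _
    (Module.compHom _ (θ α g).toRingHom)

theorem good_iff (hα : Function.Surjective α) (g : MvPolynomial (Fin n) R) {f : A} (h : α g = f) {k : ℕ}
    (γ : MvPolynomial (Fin k) R →ₐ[R] Localization.Away f) (hγ : Function.Surjective γ) :
    Good α M g ↔ @Module.FinitePresentation (MvPolynomial (Fin k) R)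
      (LocalizedModule (Submonoid.powers f) M) _ _ (Module.compHom _ γ.toRingHom) := by
  subst h
  haveI : Algebra.FinitePresentation R (Localization.Away g) :=
    haveI := IsLocalization.Away.finitePresentation (R := MvPolynomial (Fin n) R) g (S := Localization.Away g)
    Algebra.FinitePresentation.trans R (MvPolynomial (Fin n) R) (Localization.Away g)
  exact fp_indep (θ α g) (θ_surjective α hα g) γ hγ

theorem fp_good :
    (@Module.FinitePresentation (MvPolynomial (Fin n) R) M _ _ (Module.compHom M α.toRingHom) →
        ∀ g, Good α M g) ∧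
      ((∃ s : Set (MvPolynomial (Fin n) R), Ideal.span s = ⊤ ∧ ∀ g ∈ s, Good α M g) →
        @Module.FinitePresentation (MvPolynomial (Fin n) R) M _ _ (Module.compHom M α.toRingHom)) := by
  letI : Module (MvPolynomial (Fin n) R) M := Module.compHom M α.toRingHom
  letI Pm (g : MvPolynomial (Fin n) R) :
      Module (MvPolynomial (Fin n) R) (LocalizedModule (Submonoid.powers (α g)) M) :=
    Module.compHom _ ((algebraMap A (Localization.Away (α g))).comp α.toRingHom)
  letI Lm (g : MvPolynomial (Fin n) R) :
      Module (Localization.Away g) (LocalizedModule (Submonoid.powers (α g)) M) :=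
    Module.compHom _ (θ α g).toRingHom
  have hP : ∀ g (p : MvPolynomial (Fin n) R) (x : LocalizedModule (Submonoid.powers (α g)) M),
      p • x = α p • x := fun g p x => algebraMap_smul (Localization.Away (α g)) (α p) x
  haveI (g : MvPolynomial (Fin n) R) : IsScalarTower (MvPolynomial (Fin n) R) (Localization.Away g)
      (LocalizedModule (Submonoid.powers (α g)) M) :=
    IsScalarTower.of_algebraMap_smul fun p x => by
      change θ α g (algebraMap _ _ p) • x = p • x
      rw [θ_algebraMap, hP, algebraMap_smul]
  let mk (g : MvPolynomial (Fin n) R) :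
      M →ₗ[MvPolynomial (Fin n) R] LocalizedModule (Submonoid.powers (α g)) M :=
    { toFun := LocalizedModule.mkLinearMap _ M
      map_add' := map_add _
      map_smul' := fun p m => by
        change LocalizedModule.mkLinearMap _ M (α p • m) = p • _
        rw [map_smul, hP] }
  haveI (g : MvPolynomial (Fin n) R) : IsLocalizedModule (Submonoid.powers g) (mk g) := by
    refine ⟨?_, fun y => ?_, fun {x₁ x₂} h => ?_⟩
    · rintro ⟨_, m, rfl⟩
      rw [Module.End.isUnit_iff]
      have h := (Module.End.isUnit_iff _).1 (IsLocalizedModule.map_units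
        (LocalizedModule.mkLinearMap (Submonoid.powers (α g)) M) (⟨α g ^ m, m, rfl⟩ : Submonoid.powers (α g)))
      have e : (⇑((algebraMap (MvPolynomial (Fin n) R)
          (Module.End (MvPolynomial (Fin n) R) (LocalizedModule (Submonoid.powers (α g)) M))) (g ^ m))) =
          fun x => (α g ^ m) • x := by
        funext x
        rw [Module.algebraMap_end_apply, hP, map_pow]
      rw [e]
      exact h
    · obtain ⟨⟨x, ⟨_, m, rfl⟩⟩, hx⟩ := IsLocalizedModule.surj (Submonoid.powers (α g))
        (LocalizedModule.mkLinearMap (Submonoid.powers (α g)) M) y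
      refine ⟨(x, ⟨g ^ m, m, rfl⟩), ?_⟩
      change (g ^ m) • y = _
      rw [hP, map_pow]
      exact hx
    · obtain ⟨⟨_, m, rfl⟩, hm⟩ := IsLocalizedModule.exists_of_eq (S := Submonoid.powers (α g))
        (f := LocalizedModule.mkLinearMap (Submonoid.powers (α g)) M) h
      refine ⟨⟨g ^ m, m, rfl⟩, ?_⟩
      change α (g ^ m) • x₁ = α (g ^ m) • x₂
      rw [map_pow]
      exact hm
  refine ⟨fun h g => ?_, fun ⟨s, hs, H⟩ => ?_⟩
  · exact FinitePresentation.of_isBaseChange (mk g)
      (IsLocalizedModule.isBaseChange (Submonoid.powers g) (Localization.Away g) (mk g))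
  · exact fp_of_localizationSpan hs (Np := fun g : s => LocalizedModule (Submonoid.powers (α g.1)) M)
      (Pp := fun g : s => Localization.Away g.1) (fun g => mk g.1) fun g => H g.1 g.2

end

/-- Let R → A be a finite type homomorphism of commutative rings with a surjective R-algebra
homomorphism α : R[x_1, ..., x_n] → A, M an A-module, f_1, ..., f_r elements of A generating the
unit ideal, and for each i a surjective R-algebra homomorphism γ_i : R[z_1, ..., z_(k_i)] → A_(f_i).
Then M is finitely presented as an R[x_1, ..., x_n]-module through α if and only if, for every i,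
the localization M_(f_i) is finitely presented as an R[z_1, ..., z_(k_i)]-module through γ_i. -/
theorem result {R A : Type u} [CommRing R] [CommRing A] [Algebra R A]
    {n : ℕ} (α : MvPolynomial (Fin n) R →ₐ[R] A) (hα : Function.Surjective α) (M : Type u) [AddCommGroup M]
    [Module A M] {r : ℕ} (f : Fin r → A) (hf : Ideal.span (Set.range f) = ⊤) (k : Fin r → ℕ)
    (γ : ∀ i, MvPolynomial (Fin (k i)) R →ₐ[R] Localization.Away (f i)) (hγ : ∀ i, Function.Surjective (γ i)) :
    @Module.FinitePresentation (MvPolynomial (Fin n) R) (M) _ _ (Module.compHom (M) α.toRingHom) ↔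
      ∀ i, @Module.FinitePresentation (MvPolynomial (Fin (k i)) R) (LocalizedModule (Submonoid.powers (f i)) M) _ _ (Module.compHom (LocalizedModule (Submonoid.powers (f i)) M) (γ i).toRingHom) := by
  refine ⟨fun h i => ?_, fun H => ?_⟩
  · obtain ⟨g, hg⟩ := hα (f i)
    exact (good_iff α M hα g hg (γ i) (hγ i)).1 ((fp_good α M).1 h g)
  · refine (fp_good α M).2 ⟨{g | α g = 0} ∪ {g | ∃ i, α g = f i}, ?_, ?_⟩
    · have hle : RingHom.ker α.toRingHom ≤ Ideal.span ({g | α g = 0} ∪ {g | ∃ i, α g = f i}) :=
        fun g hg => Ideal.subset_span (Or.inl hg)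
      have hmap : Ideal.map α.toRingHom (Ideal.span ({g | α g = 0} ∪ {g | ∃ i, α g = f i})) = ⊤ := by
        rw [eq_top_iff, ← hf, Ideal.span_le]
        rintro _ ⟨i, rfl⟩
        obtain ⟨g, hg⟩ := hα (f i)
        exact hg ▸ Ideal.mem_map_of_mem _ (Ideal.subset_span (Or.inr ⟨i, hg⟩))
      have h2 := congrArg (Ideal.comap α.toRingHom) hmap
      have h3 := Ideal.comap_map_of_surjective' α.toRingHom hα
        (Ideal.span ({g | α g = 0} ∪ {g | ∃ i, α g = f i}))
      rw [sup_eq_left.2 hle] at h3
      exact h3.symm.trans (h2.trans Ideal.comap_top)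
    · rintro g (hg | ⟨i, hg⟩)
      · haveI : Subsingleton (LocalizedModule (Submonoid.powers (α g)) M) := by
          refine LocalizedModule.subsingleton_iff.2 fun m => ⟨0, ?_, zero_smul A m⟩
          rw [show α g = 0 from hg]; exact ⟨1, pow_one 0⟩
        letI : Module (Localization.Away g) (LocalizedModule (Submonoid.powers (α g)) M) :=
          Module.compHom _ (θ α g).toRingHom
        exact inferInstanceAs (Module.FinitePresentation (Localization.Away g)
          (LocalizedModule (Submonoid.powers (α g)) M))
      · exact (good_iff α M hα g hg (γ i) (hγ i)).2 (H i)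


end Groth.Agent.S7007
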