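import Groth.Statements.S6992
import Mathlib

set_option autoImplicit false
universe u
open CAlg

namespace Groth.Agent.S6992

theorem changeRing (A C M : Type*) [CommRing A] [CommRing C] [Algebra A C] [AddCommGroup M]
    [Module A M] [Module C M] [IsScalarTower A C M] [Module.FinitePresentation A C] :
    Module.FinitePresentation A M ↔ Module.FinitePresentation C M := by
  refine ⟨fun h => ?_, fun h => Module.FinitePresentation.trans A M C⟩
  have : Module.Finite C M := Module.Finite.of_restrictScalars_finite A C M
  obtain ⟨n, π, hπ⟩ := Module.Finite.exists_fin' C M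
  have hk : ((LinearMap.ker π).restrictScalars A).FG := by
    have := Module.FinitePresentation.fg_ker (π.restrictScalars A) hπ
    simpa [LinearMap.ker_restrictScalars] using this
  exact Module.finitePresentation_of_surjective π hπ (Submodule.FG.of_restrictScalars A hk)

/-- Let R be a commutative ring, A → B a finite homomorphism of finite type R-algebras, M a B-module,
and α : R[x_1, ..., x_n] → A, β : R[y_1, ..., y_k] → B surjective R-algebra homomorphisms. Then M is
finitely presented as an R[x_1, ..., x_n]-module through α and A → B (M is finitely presented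
relative to R as an A-module) if and only if M is finitely presented as an R[y_1, ..., y_k]-module
through β (M is finitely presented relative to R as a B-module). -/
theorem result {R A B : Type u} [CommRing R] [CommRing A] [CommRing B]
    [Algebra R A] [Algebra A B] [Algebra R B] [IsScalarTower R A B] [Algebra.FiniteType R A]
    [Algebra.FiniteType R B] [Module.Finite A B] (M : Type u) [AddCommGroup M] [Module B M] [Module A M]
    [IsScalarTower A B M] {n k : ℕ} (α : MvPolynomial (Fin n) R →ₐ[R] A) (hα : Function.Surjective α)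
    (β : MvPolynomial (Fin k) R →ₐ[R] B) (hβ : Function.Surjective β) :
    @Module.FinitePresentation (MvPolynomial (Fin n) R) M _ _ (Module.compHom M α.toRingHom) ↔
      @Module.FinitePresentation (MvPolynomial (Fin k) R) M _ _ (Module.compHom M β.toRingHom) := by
  classical
  -- everything acts on `M` through `B`
  letI : Module (MvPolynomial (Fin n) R) M := Module.compHom M α.toRingHom
  letI : Module (MvPolynomial (Fin k) R) M := Module.compHom M β.toRingHom
  let eA : (MvPolynomial (Fin n) R) →+* B := (algebraMap A B).comp α.toRingHom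
  letI : Algebra (MvPolynomial (Fin n) R) B := eA.toAlgebra
  let θ : (MvPolynomial (Fin k) (MvPolynomial (Fin n) R)) →+* B := MvPolynomial.eval₂Hom eA fun j => β (MvPolynomial.X j)
  letI : Algebra (MvPolynomial (Fin k) (MvPolynomial (Fin n) R)) B := θ.toAlgebra
  letI : Module (MvPolynomial (Fin k) (MvPolynomial (Fin n) R)) M := Module.compHom M θ
  haveI : IsScalarTower (MvPolynomial (Fin n) R) (MvPolynomial (Fin k) (MvPolynomial (Fin n) R)) B := IsScalarTower.of_algebraMap_eq fun p =>
    (MvPolynomial.eval₂Hom_C eA _ p).symm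
  have smulP : ∀ (p : (MvPolynomial (Fin n) R)) (m : M), p • m = eA p • m := fun p m =>
    (algebraMap_smul B (α p) m).symm
  haveI : IsScalarTower (MvPolynomial (Fin n) R) (MvPolynomial (Fin k) (MvPolynomial (Fin n) R)) M := IsScalarTower.of_algebraMap_smul fun p m => by
    show θ (MvPolynomial.C p) • m = p • m
    rw [smulP, show θ (MvPolynomial.C p) = eA p from MvPolynomial.eval₂Hom_C eA _ p]
  show Module.FinitePresentation (MvPolynomial (Fin n) R) M ↔ Module.FinitePresentation (MvPolynomial (Fin k) R) M
  -- the integral equations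
  haveI : Algebra.IsIntegral A B := Algebra.IsIntegral.of_finite A B
  have hint : ∀ j, ∃ p : Polynomial (MvPolynomial (Fin n) R), p.Monic ∧ Polynomial.eval₂ eA (β (MvPolynomial.X j)) p = 0 := by
    intro j
    obtain ⟨p, hp, hp0⟩ := Algebra.IsIntegral.isIntegral (R := A) (β (MvPolynomial.X j))
    obtain ⟨p', hp', -, hp'm⟩ := Polynomial.lifts_and_natDegree_eq_and_monic
      (show p ∈ Polynomial.lifts α.toRingHom from (Polynomial.mem_lifts _).2
        (Polynomial.map_surjective _ hα p)) hp
    exact ⟨p', hp'm, by rw [← Polynomial.eval₂_map, hp']; exact hp0⟩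
  choose q hqm hq0 using hint
  let J : Ideal (MvPolynomial (Fin k) (MvPolynomial (Fin n) R)) := Ideal.span (Set.range fun j =>
    Polynomial.aeval (MvPolynomial.X j : (MvPolynomial (Fin k) (MvPolynomial (Fin n) R))) (q j))
  have hJθ : J ≤ RingHom.ker θ := by
    rw [Ideal.span_le]
    rintro _ ⟨j, rfl⟩
    show θ (Polynomial.aeval (MvPolynomial.X j : (MvPolynomial (Fin k) (MvPolynomial (Fin n) R))) (q j)) = 0
    rw [Polynomial.aeval_def, Polynomial.hom_eval₂,
      show θ (MvPolynomial.X j) = β (MvPolynomial.X j) from MvPolynomial.eval₂Hom_X' eA _ j,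
      show θ.comp (algebraMap (MvPolynomial (Fin n) R) (MvPolynomial (Fin k) (MvPolynomial (Fin n) R))) = eA from MvPolynomial.eval₂Hom_comp_C eA _]
    exact hq0 j
  haveI : Algebra.FinitePresentation (MvPolynomial (Fin n) R) ((MvPolynomial (Fin k) (MvPolynomial (Fin n) R)) ⧸ J) :=
    Algebra.FinitePresentation.quotient (Submodule.fg_span (Set.finite_range _))
  haveI : Module.Finite (MvPolynomial (Fin n) R) ((MvPolynomial (Fin k) (MvPolynomial (Fin n) R)) ⧸ J) := by
    haveI : Algebra.IsIntegral (MvPolynomial (Fin n) R) ((MvPolynomial (Fin k) (MvPolynomial (Fin n) R)) ⧸ J) := by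
      refine ⟨fun x => ?_⟩
      obtain ⟨x, rfl⟩ := Ideal.Quotient.mk_surjective x
      induction x using MvPolynomial.induction_on with
      | C a => exact isIntegral_algebraMap (x := a)
      | add a b ha hb => rw [map_add]; exact IsIntegral.add (R := (MvPolynomial (Fin n) R)) (A := (MvPolynomial (Fin k) (MvPolynomial (Fin n) R)) ⧸ J) ha hb
      | mul_X a j ha =>
        rw [map_mul]
        refine IsIntegral.mul (R := (MvPolynomial (Fin n) R)) (A := (MvPolynomial (Fin k) (MvPolynomial (Fin n) R)) ⧸ J) ha ⟨q j, hqm j, ?_⟩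
        rw [← Polynomial.aeval_def, show Ideal.Quotient.mk J (MvPolynomial.X j) =
          Ideal.Quotient.mkₐ (MvPolynomial (Fin n) R) J (MvPolynomial.X j) from rfl, Polynomial.aeval_algHom_apply]
        exact Ideal.Quotient.eq_zero_iff_mem.2 (Ideal.subset_span ⟨j, rfl⟩)
    exact Algebra.IsIntegral.finite (R := (MvPolynomial (Fin n) R)) (A := (MvPolynomial (Fin k) (MvPolynomial (Fin n) R)) ⧸ J)
  haveI : Module.FinitePresentation (MvPolynomial (Fin n) R) ((MvPolynomial (Fin k) (MvPolynomial (Fin n) R)) ⧸ J) :=
    Module.FinitePresentation.of_finite_of_finitePresentation (MvPolynomial (Fin n) R) ((MvPolynomial (Fin k) (MvPolynomial (Fin n) R)) ⧸ J)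
  let θ' : ((MvPolynomial (Fin k) (MvPolynomial (Fin n) R)) ⧸ J) →+* B := Ideal.Quotient.lift J θ fun a ha => hJθ ha
  letI : Module ((MvPolynomial (Fin k) (MvPolynomial (Fin n) R)) ⧸ J) M := Module.compHom M θ'
  haveI : IsScalarTower (MvPolynomial (Fin n) R) ((MvPolynomial (Fin k) (MvPolynomial (Fin n) R)) ⧸ J) M := IsScalarTower.of_algebraMap_smul (R := (MvPolynomial (Fin n) R)) (A := (MvPolynomial (Fin k) (MvPolynomial (Fin n) R)) ⧸ J) (M := M) fun p m => by
    show θ' (Ideal.Quotient.mk J (MvPolynomial.C p)) • m = p • m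
    rw [smulP, show θ' (Ideal.Quotient.mk J (MvPolynomial.C p)) = θ (MvPolynomial.C p) from rfl,
      show θ (MvPolynomial.C p) = eA p from MvPolynomial.eval₂Hom_C eA _ p]
  haveI : Module.FinitePresentation (MvPolynomial (Fin k) (MvPolynomial (Fin n) R)) ((MvPolynomial (Fin k) (MvPolynomial (Fin n) R)) ⧸ J) := by
    exact Module.finitePresentation_of_surjective (Submodule.mkQ J) (Submodule.mkQ_surjective J)
      (by rw [Submodule.ker_mkQ]; exact Submodule.fg_span (Set.finite_range _))
  haveI : IsScalarTower (MvPolynomial (Fin k) (MvPolynomial (Fin n) R)) ((MvPolynomial (Fin k) (MvPolynomial (Fin n) R)) ⧸ J) M :=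
    IsScalarTower.of_algebraMap_smul (R := (MvPolynomial (Fin k) (MvPolynomial (Fin n) R))) (A := (MvPolynomial (Fin k) (MvPolynomial (Fin n) R)) ⧸ J) (M := M) fun p m => rfl
  -- `(MvPolynomial (Fin k) (MvPolynomial (Fin n) R)) → (MvPolynomial (Fin k) R)`
  let lift : Fin n → (MvPolynomial (Fin k) R) := fun i => Function.surjInv hβ (algebraMap A B (α (MvPolynomial.X i)))
  let ρ₀ : (MvPolynomial (Fin n) R) →+* (MvPolynomial (Fin k) R) := (MvPolynomial.aeval lift).toRingHom
  let ρ : (MvPolynomial (Fin k) (MvPolynomial (Fin n) R)) →+* (MvPolynomial (Fin k) R) := MvPolynomial.eval₂Hom ρ₀ MvPolynomial.X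
  let incl : (MvPolynomial (Fin k) R) →+* (MvPolynomial (Fin k) (MvPolynomial (Fin n) R)) := MvPolynomial.map (MvPolynomial.C : R →+* (MvPolynomial (Fin n) R))
  have hρθ : ∀ t, β (ρ t) = θ t := by
    have : β.toRingHom.comp ρ = θ := by
      refine MvPolynomial.ringHom_ext (fun p => ?_) (fun j => ?_)
      · simp only [ρ, θ, RingHom.coe_comp, Function.comp_apply, MvPolynomial.eval₂Hom_C]
        have : β.toRingHom.comp ρ₀ = eA := by
          refine MvPolynomial.ringHom_ext (fun a => ?_) (fun i => ?_)
          · simp only [ρ₀, eA, RingHom.coe_comp, Function.comp_apply, AlgHom.toRingHom_eq_coe,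
              RingHom.coe_coe]
            rw [show MvPolynomial.C a = algebraMap R (MvPolynomial (Fin n) R) a from rfl,
              AlgHom.commutes, AlgHom.commutes, AlgHom.commutes, ← IsScalarTower.algebraMap_apply]
          · simp [ρ₀, eA, lift, Function.surjInv_eq hβ]
        exact RingHom.congr_fun this p
      · simp [ρ, θ]
    exact fun t => RingHom.congr_fun this t
  have hρsurj : Function.Surjective ρ := fun z => ⟨incl z, by
    have : ρ.comp incl = RingHom.id (MvPolynomial (Fin k) R) := by
      refine MvPolynomial.ringHom_ext (fun a => ?_) (fun j => ?_)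
      · simp [ρ, incl, ρ₀]
      · simp [ρ, incl]
    exact RingHom.congr_fun this z⟩
  have hρker : (RingHom.ker ρ).FG := by
    let J' : Ideal (MvPolynomial (Fin k) (MvPolynomial (Fin n) R)) := Ideal.span (Set.range fun i : Fin n =>
      MvPolynomial.C (MvPolynomial.X i) - incl (lift i))
    have hρincl : ∀ z, ρ (incl z) = z := fun z => by
      have : ρ.comp incl = RingHom.id (MvPolynomial (Fin k) R) := by
        refine MvPolynomial.ringHom_ext (fun a => ?_) (fun j => ?_)
        · simp [ρ, incl, ρ₀]
        · simp [ρ, incl]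
      exact RingHom.congr_fun this z
    have hJ' : J' = RingHom.ker ρ := by
      refine le_antisymm ?_ fun t ht => ?_
      · rw [Ideal.span_le]
        rintro _ ⟨i, rfl⟩
        show ρ _ = 0
        rw [map_sub, hρincl]
        simp [ρ, ρ₀]
      · have key : (Ideal.Quotient.mk J').comp (incl.comp ρ) = Ideal.Quotient.mk J' := by
          refine MvPolynomial.ringHom_ext (fun p => ?_) (fun j => by simp [ρ, incl])
          have : ((Ideal.Quotient.mk J').comp (incl.comp ρ)).comp MvPolynomial.C =
              (Ideal.Quotient.mk J').comp MvPolynomial.C := by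
            refine MvPolynomial.ringHom_ext (fun a => by simp [ρ, ρ₀, incl]) (fun i => ?_)
            simp only [RingHom.coe_comp, Function.comp_apply, ρ, MvPolynomial.eval₂Hom_C]
            simp only [ρ₀, AlgHom.toRingHom_eq_coe, RingHom.coe_coe, MvPolynomial.aeval_X]
            refine ((Ideal.Quotient.eq (I := J')).2 ?_).symm
            exact Ideal.subset_span ⟨i, rfl⟩
          exact RingHom.congr_fun this p
        have := RingHom.congr_fun key t
        rw [RingHom.comp_apply, RingHom.comp_apply, (RingHom.mem_ker).1 ht, map_zero, map_zero] at this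
        exact Ideal.Quotient.eq_zero_iff_mem.1 this.symm
    rw [← hJ']
    exact Submodule.fg_span (Set.finite_range _)
  letI : Algebra (MvPolynomial (Fin k) (MvPolynomial (Fin n) R)) (MvPolynomial (Fin k) R) := ρ.toAlgebra
  haveI : Module.FinitePresentation (MvPolynomial (Fin k) (MvPolynomial (Fin n) R)) (MvPolynomial (Fin k) R) :=
    Module.finitePresentation_of_surjective (Algebra.linearMap (MvPolynomial (Fin k) (MvPolynomial (Fin n) R)) (MvPolynomial (Fin k) R))
      hρsurj hρker
  haveI : IsScalarTower (MvPolynomial (Fin k) (MvPolynomial (Fin n) R)) (MvPolynomial (Fin k) R) M := IsScalarTower.of_algebraMap_smul fun t m => by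
    show β (ρ t) • m = θ t • m
    rw [hρθ]
  exact ((changeRing (MvPolynomial (Fin n) R) ((MvPolynomial (Fin k) (MvPolynomial (Fin n) R)) ⧸ J) M).trans (changeRing (MvPolynomial (Fin k) (MvPolynomial (Fin n) R)) ((MvPolynomial (Fin k) (MvPolynomial (Fin n) R)) ⧸ J) M).symm).trans (changeRing (MvPolynomial (Fin k) (MvPolynomial (Fin n) R)) (MvPolynomial (Fin k) R) M)

end Groth.Agent.S6992
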