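import Groth.Statements.S12482
import Groth.Agent.QReg.Basic
import Mathlib.RingTheory.Ideal.Cotangent

set_option autoImplicit false
universe u
open Dual

namespace Groth.Agent.S12482

/-- Let `A` be a commutative ring, `x_1, …, x_p` a sequence of elements of `A` such that each `x_i` is a
non-zero-divisor on `A/(x_1, …, x_{i-1})`, and `J` the ideal generated by the `x_i`. Then `J/J²` is
a free `(A/J)`-module with basis the classes of the `x_i`: there is a basis of `J/J²` over `A/J`,
indexed by `1, …, p`, whose `i`-th vector is the class of `x_i`. (The other assertions of the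
published statement, on the Koszul complex and on Ext and Tor against `A/J`, are stated separately.) -/
theorem result (A : Type u) [CommRing A] (p : ℕ) (x : Fin p → A)
    (hreg : RingTheory.Sequence.IsWeaklyRegular A (List.ofFn x)) :
    ∃ b : Module.Basis (Fin p) (A ⧸ Ideal.span (Set.range x)) (Ideal.span (Set.range x)).Cotangent,
      ∀ i, b i = (Ideal.span (Set.range x)).toCotangent ⟨x i, Ideal.subset_span (Set.mem_range_self i)⟩ := by
  classical
  set J := Ideal.span (Set.range x) with hJ
  let v : Fin p → J.Cotangent := fun i => J.toCotangent ⟨x i, Ideal.subset_span (Set.mem_range_self i)⟩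
  have hq := QReg.isQuasiRegular_of_isWeaklyRegular x hreg
  have hv : ∀ (a : Fin p → A), (∑ i, (Ideal.Quotient.mk J (a i)) • v i) =
      J.toCotangent ⟨∑ i, a i * x i, Ideal.sum_mem _ fun i _ =>
        J.mul_mem_left _ (Ideal.subset_span (Set.mem_range_self i))⟩ := fun a => by
    have h1 : (⟨∑ i, a i * x i, Ideal.sum_mem _ fun i _ =>
        J.mul_mem_left _ (Ideal.subset_span (Set.mem_range_self i))⟩ : J) =
        ∑ i, a i • (⟨x i, Ideal.subset_span (Set.mem_range_self i)⟩ : J) :=
      Subtype.ext (by simp)
    rw [h1, map_sum]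
    refine Finset.sum_congr rfl fun i _ => ?_
    rw [map_smul]
    rfl
  have hli : LinearIndependent (A ⧸ J) v := by
    rw [Fintype.linearIndependent_iff]
    intro g hg i
    choose a ha using fun j => Ideal.Quotient.mk_surjective (g j)
    simp only [← ha] at hg ⊢
    rw [hv, Ideal.toCotangent_eq_zero] at hg
    rw [Ideal.Quotient.eq_zero_iff_mem]
    have h := hq 1 (∑ j, MvPolynomial.C (a j) * MvPolynomial.X j)
      (MvPolynomial.IsHomogeneous.sum _ _ _ fun j _ => MvPolynomial.isHomogeneous_C_mul_X _ _)
      (by simpa using hg) (Finsupp.single i 1)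
    simpa [MvPolynomial.coeff_sum, MvPolynomial.coeff_C_mul, MvPolynomial.coeff_X', Finsupp.single_eq_single_iff,
      Finset.sum_ite_eq'] using h
  refine ⟨Module.Basis.mk hli ?_, fun i => Module.Basis.mk_apply hli _ i⟩
  intro y _
  obtain ⟨⟨z, hz⟩, rfl⟩ := J.toCotangent_surjective y
  obtain ⟨a, ha⟩ := (Submodule.mem_span_range_iff_exists_fun A).mp hz
  simp only [smul_eq_mul] at ha
  subst ha
  rw [← hv]
  exact Submodule.sum_mem _ fun i _ => Submodule.smul_mem _ _ (Submodule.subset_span (Set.mem_range_self i))

end Groth.Agent.S12482
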