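import Groth.Statements.S10067
import Mathlib
-- import your own Groth.Agent.* helpers here

set_option autoImplicit false
universe u
open CategoryTheory CategoryTheory.Limits AlgebraicGeometry
open AlgSp

open Opposite
namespace Groth.Agent.S10067

/-- A transformation `a : F ⟶ G` of presheaves of sets on schemes over `S` is relatively limit
preserving if and only if, for every directed limit `T = lim T_i` of affine schemes over `S` (with
`T` affine), the square formed by `colim F(T_i) → F(T)`, `colim G(T_i) → G(T)` and the two maps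
induced by `a` is cartesian in sets. -/
theorem result (S : Scheme.{u}) {F G : AlgSp.PSp S} (a : F ⟶ G) :
    AlgSp.IsRelLimitPreserving a ↔
      ∀ ⦃I : Type u⦄ [SmallCategory I] [IsCofiltered I] (D : I ⥤ Over S) (c : Cone D),
        IsLimit ((Over.forget S).mapCone c) → (∀ i, IsAffine (D.obj i).left) → IsAffine c.pt.left →
          IsPullback (colimMap (Functor.whiskerLeft D.op a)) (colimit.desc (D.op ⋙ F) (F.mapCocone c.op))
            (colimit.desc (D.op ⋙ G) (G.mapCocone c.op)) (a.app (Opposite.op c.pt)) := by
  constructor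
  · intro h I _ _ D c hc hD hT
    -- the system over a stage `k`
    have key : ∀ (k : I) (g : G.obj (op (D.obj k))),
        (∀ x₁ x₂ : F.obj (op (D.obj k)), a.app _ x₁ = g → a.app _ x₂ = g →
          F.map (c.π.app k).op x₁ = F.map (c.π.app k).op x₂ →
          ∃ (l : I) (f : l ⟶ k), F.map (D.map f).op x₁ = F.map (D.map f).op x₂) ∧
        (∀ x : F.obj (op c.pt), a.app _ x = G.map (c.π.app k).op g →
          ∃ (l : I) (f : l ⟶ k) (z : F.obj (op (D.obj l))),
            a.app _ z = G.map (D.map f).op g ∧ F.map (c.π.app l).op z = x) := by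
      intro k g
      let M := Over.map (D.obj k).hom
      let D' : Over k ⥤ Over (D.obj k).left :=
        { obj := fun l => Over.mk (D.map l.hom).left
          map := fun {l m} f => Over.homMk (D.map f.left).left (by
            show (D.map f.left).left ≫ (D.map m.hom).left = (D.map l.hom).left
            rw [← Over.comp_left, ← D.map_comp, Over.w f])
          map_id := fun l => by apply Over.OverMorphism.ext; simp
          map_comp := fun f f' => by apply Over.OverMorphism.ext; simp }
      let φ : ∀ l : Over k, M.obj (D'.obj l) ≅ D.obj l.left := fun l =>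
        Over.isoMk (Iso.refl _) (by
          show 𝟙 _ ≫ (D.obj l.left).hom = (D.map l.hom).left ≫ (D.obj k).hom
          rw [Category.id_comp, Over.w])
      let c' : Cone D' :=
        { pt := Over.mk (c.π.app k).left
          π :=
            { app := fun l => Over.homMk (c.π.app l.left).left (by
                show (c.π.app l.left).left ≫ (D.map l.hom).left = (c.π.app k).left
                rw [← Over.comp_left, c.w])
              naturality := fun l m f => by
                apply Over.OverMorphism.ext
                show 𝟙 _ ≫ (c.π.app m.left).left = (c.π.app l.left).left ≫ (D.map f.left).left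
                rw [Category.id_comp, ← Over.comp_left, c.w] } }
      let ψ : M.obj c'.pt ≅ c.pt := Over.isoMk (Iso.refl _) (by
        show 𝟙 _ ≫ c.pt.hom = (c.π.app k).left ≫ (D.obj k).hom
        rw [Category.id_comp]
        exact (Over.w (c.π.app k)).symm)
      have hψ : ∀ l : Over k, M.map (c'.π.app l) ≫ (φ l).hom = ψ.hom ≫ c.π.app l.left := fun l => by
        apply Over.OverMorphism.ext
        show (c.π.app l.left).left ≫ 𝟙 _ = 𝟙 _ ≫ (c.π.app l.left).left
        simp
      have hφ : ∀ l : Over k, (φ l).hom ≫ D.map l.hom = AlgSp.overHom (D.obj k) (D'.obj l) :=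
        fun l => by
        apply Over.OverMorphism.ext
        show 𝟙 _ ≫ (D.map l.hom).left = _
        simp [D']
      have hψ' : ψ.hom ≫ c.π.app k = AlgSp.overHom (D.obj k) c'.pt := by
        apply Over.OverMorphism.ext
        show 𝟙 _ ≫ (c.π.app k).left = _
        simp [c']
      have hlim : IsLimit ((Over.forget (D.obj k).left).mapCone c') := by
        refine IsLimit.ofIsoLimit ((Functor.Initial.isLimitWhiskerEquiv (Over.forget k) _).symm hc) ?_
        exact Cone.ext (Iso.refl _) (fun l => (Category.id_comp _).symm)
      obtain ⟨hcol⟩ := h (D.obj k) g D' c' hlim (fun l => hD l.left) hT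
      refine ⟨fun x₁ x₂ h₁ h₂ h12 => ?_, fun x hx => ?_⟩
      · let t : ∀ x : F.obj (op (D.obj k)), a.app _ x = g →
            (AlgSp.fiberFun a (D.obj k) g).obj (op (D'.obj (Over.mk (𝟙 k)))) := fun x hx =>
          ⟨F.map (φ (Over.mk (𝟙 k))).hom.op x, by
            rw [NatTrans.naturality_apply]
            show G.map _ (a.app (op (D.obj k)) x) = G.map (AlgSp.overHom (D.obj k) (D'.obj (Over.mk (𝟙 k)))).op g
            rw [hx, ← hφ (Over.mk (𝟙 k))]
            simp⟩
        have e : ((AlgSp.fiberFun a (D.obj k) g).mapCocone c'.op).ι.app (op (Over.mk (𝟙 k)))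
              (t x₁ h₁) =
            ((AlgSp.fiberFun a (D.obj k) g).mapCocone c'.op).ι.app (op (Over.mk (𝟙 k)))
              (t x₂ h₂) := by
          apply Subtype.ext
          show F.map (M.map (c'.π.app (Over.mk (𝟙 k)))).op (F.map (φ (Over.mk (𝟙 k))).hom.op x₁) =
            F.map (M.map (c'.π.app (Over.mk (𝟙 k)))).op (F.map (φ (Over.mk (𝟙 k))).hom.op x₂)
          rw [← Functor.map_comp_apply, ← Functor.map_comp_apply, ← op_comp, hψ, op_comp,
            Functor.map_comp_apply, Functor.map_comp_apply]
          exact congrArg _ h12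
        obtain ⟨m, f, hm⟩ := (Types.FilteredColimit.isColimit_eq_iff' hcol _ _).1 e
        have hm' : F.map (M.map (D'.map f.unop)).op (F.map (φ (Over.mk (𝟙 k))).hom.op x₁) =
            F.map (M.map (D'.map f.unop)).op (F.map (φ (Over.mk (𝟙 k))).hom.op x₂) :=
          congrArg Subtype.val hm
        refine ⟨m.unop.left, m.unop.hom, ?_⟩
        have hh : M.map (D'.map f.unop) ≫ (φ (Over.mk (𝟙 k))).hom =
            (φ m.unop).hom ≫ D.map m.unop.hom := by
          apply Over.OverMorphism.ext
          show (D.map f.unop.left).left ≫ 𝟙 _ = 𝟙 _ ≫ (D.map m.unop.hom).left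
          have hw : f.unop.left = m.unop.hom := by
            have := Over.w f.unop
            simpa using this
          rw [Category.comp_id, Category.id_comp, hw]
        rw [← Functor.map_comp_apply, ← Functor.map_comp_apply, ← op_comp, hh, op_comp,
          Functor.map_comp_apply, Functor.map_comp_apply] at hm'
        exact ((F.mapIso (φ m.unop).op).toEquiv.injective) hm'
      · let x' : (AlgSp.fiberFun a (D.obj k) g).obj (op c'.pt) :=
          ⟨F.map ψ.hom.op x, by
            rw [NatTrans.naturality_apply, hx, ← hψ', ← Functor.map_comp_apply, op_comp]⟩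
        obtain ⟨l, z, hz⟩ := Types.jointly_surjective _ hcol x'
        refine ⟨l.unop.left, l.unop.hom, F.map (φ l.unop).inv.op z.1, ?_, ?_⟩
        · rw [NatTrans.naturality_apply]
          erw [z.2]
          show G.map _ (G.map (AlgSp.overHom (D.obj k) (D'.obj l.unop)).op g) = _
          rw [← hφ l.unop, ← Functor.map_comp_apply, ← op_comp, Iso.inv_hom_id_assoc]
        · have hz' : F.map (M.map (c'.π.app l.unop)).op z.1 = F.map ψ.hom.op x :=
            congrArg Subtype.val hz
          refine (F.mapIso ψ.op).toEquiv.injective ?_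
          show F.map ψ.hom.op (F.map (c.π.app l.unop.left).op (F.map (φ l.unop).inv.op z.1)) = _
          refine Eq.trans ?_ hz'
          rw [← Functor.map_comp_apply, ← Functor.map_comp_apply, ← op_comp, ← op_comp,
            ← hψ, Category.assoc, Iso.hom_inv_id, Category.comp_id]
    rw [Types.isPullback_iff]
    refine ⟨?_, ?_, ?_⟩
    · apply colimit.hom_ext
      intro i
      simp only [ι_colimMap_assoc, colimit.ι_desc, colimit.ι_desc_assoc]
      ext x
      exact (NatTrans.naturality_apply a (c.π.app i.unop).op x).symm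
    · rintro ξ η ⟨hG, hF⟩
      obtain ⟨i, xi, rfl⟩ := Types.jointly_surjective' ξ
      obtain ⟨j, xj, rfl⟩ := Types.jointly_surjective' η
      simp only [colimit.ι_map_apply, colimit.ι_desc_apply] at hG hF
      obtain ⟨k, f, g, hk⟩ := (Types.FilteredColimit.colimit_eq_iff _).1 hG
      have hk' : a.app _ (F.map (D.map f.unop).op xi) = a.app _ (F.map (D.map g.unop).op xj) := by
        rw [NatTrans.naturality_apply, NatTrans.naturality_apply]; exact hk
      obtain ⟨l, e, hl⟩ := (key k.unop _).1 _ _ hk' rfl (by
        rw [← Functor.map_comp_apply, ← Functor.map_comp_apply, ← op_comp, ← op_comp, c.w, c.w]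
        exact hF)
      refine (Types.FilteredColimit.colimit_eq_iff _).2 ⟨op l, f ≫ e.op, g ≫ e.op, ?_⟩
      simpa using hl
    · intro γ x hγ
      obtain ⟨k, g, rfl⟩ := Types.jointly_surjective' γ
      simp only [colimit.ι_desc_apply] at hγ
      obtain ⟨l, f, z, hz, hzx⟩ := (key k.unop g).2 x hγ.symm
      refine ⟨colimit.ι (D.op ⋙ F) (op l) z, ?_, ?_⟩
      · simp only [colimit.ι_map_apply]
        refine (Types.FilteredColimit.colimit_eq_iff _).2 ⟨op l, 𝟙 _, f.op, ?_⟩
        simpa using hz
      · simp only [colimit.ι_desc_apply]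
        exact hzx
  · intro h T y I _ _ D' c' hc hD hT
    let M := Over.map T.hom
    have sq := Types.isPullback_iff _ _ _ _ |>.1 (h (D' ⋙ M) (M.mapCone c') hc hD hT)
    have hy : ∀ {i j : I} (f : i ⟶ j), G.map (M.map (D'.map f)).op
        (G.map (AlgSp.overHom T (D'.obj j)).op y) = G.map (AlgSp.overHom T (D'.obj i)).op y := by
      intro i j f
      rw [← Functor.map_comp_apply, ← op_comp, AlgSp.map_comp_overHom]
    refine ⟨Types.FilteredColimit.isColimitOf _ _ (fun x => ?_) (fun i j xi xj hij => ?_)⟩
    · obtain ⟨j⟩ := (IsCofiltered.nonempty : Nonempty I)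
      obtain ⟨ξ, h₁, h₂⟩ := sq.2.2
        (colimit.ι ((D' ⋙ M).op ⋙ G) (op j) (G.map (AlgSp.overHom T (D'.obj j)).op y)) x.1 (by
          simp only [colimit.ι_desc_apply]
          refine Eq.trans ?_ x.2.symm
          show G.map (M.map (c'.π.app j)).op _ = _
          rw [← Functor.map_comp_apply, ← op_comp, AlgSp.map_comp_overHom]
          rfl)
      obtain ⟨k, xk, rfl⟩ := Types.jointly_surjective' ξ
      simp only [colimit.ι_map_apply] at h₁
      simp only [colimit.ι_desc_apply] at h₂
      obtain ⟨l, f, g, hl⟩ := (Types.FilteredColimit.colimit_eq_iff _).1 h₁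
      refine ⟨l, ⟨F.map (M.map (D'.map f.unop)).op xk, ?_⟩, ?_⟩
      · rw [NatTrans.naturality_apply]
        exact hl.trans (hy g.unop)
      · apply Subtype.ext
        show x.1 = F.map (M.map (c'.π.app l.unop)).op (F.map (M.map (D'.map f.unop)).op xk)
        rw [← Functor.map_comp_apply, ← op_comp, ← Functor.map_comp, c'.w]
        exact h₂.symm
    · have h12 := congrArg Subtype.val hij
      have : colimit.ι ((D' ⋙ M).op ⋙ F) i xi.1 = colimit.ι ((D' ⋙ M).op ⋙ F) j xj.1 := by
        refine sq.2.1 _ _ ⟨?_, ?_⟩
        · simp only [colimit.ι_map_apply]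
          refine (Types.FilteredColimit.colimit_eq_iff _).2
            ⟨IsFiltered.max i j, IsFiltered.leftToMax i j, IsFiltered.rightToMax i j, ?_⟩
          show G.map (M.map (D'.map _)).op (a.app _ xi.1) = G.map (M.map (D'.map _)).op (a.app _ xj.1)
          erw [xi.2, xj.2]
          exact (hy _).trans (hy _).symm
        · simp only [colimit.ι_desc_apply]
          exact h12
      obtain ⟨k, f, g, hk⟩ := (Types.FilteredColimit.colimit_eq_iff _).1 this
      exact ⟨k, f, g, Subtype.ext hk⟩

end Groth.Agent.S10067
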