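import Groth.Statements.S7240
import Groth.Agent.DCohPerf.Coherent
-- import your own Groth.Agent.* helpers here

set_option autoImplicit false
universe u
open CategoryTheory CategoryTheory.Limits AlgebraicGeometry
attribute [local instance] HasDerivedCategory.standard
open Perf

namespace Groth.Agent.S7240

lemma qcoh_homology {Y : Scheme.{u}} {P : CochainComplex Y.Modules ℤ} (hP : DCoh.IsStrictlyPerfect P) (i : ℤ) :
    (P.homology i).IsQuasicoherent := by
  have hq : ∀ k, (P.X k).IsQuasicoherent := fun k =>
    (QCohLib.isCoh_of_isFP (DCohPerf.isFP_local fun x => by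
      obtain ⟨W, j, hj, w, hw, n, ⟨e⟩⟩ := DCohPerf.exists_free (hP.2 k) x
      exact ⟨W, j, hj, w, hw, DCohPerf.isFP_of_iso e.symm (DCohPerf.isFP_free n)⟩)).1
  have := hq i
  have := hq (i + 1)
  have := hq (i - 1)
  have : (P.cycles i).IsQuasicoherent :=
    @QCohLib.isQuasicoherent_of_iso _ _ _ ((kernelIsKernel _).conePointUniqueUpToIso (P.cyclesIsKernel i (i + 1) (by simp)))
      (QCohLib.isQuasicoherent_kernel (P.d i (i + 1)))
  exact @QCohLib.isQuasicoherent_of_iso _ _ _
    ((cokernelIsCokernel _).coconePointUniqueUpToIso (P.homologyIsCokernel (i - 1) i (by simp)))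
    (QCohLib.isQuasicoherent_cokernel (P.toCycles (i - 1) i))


/-- Let X be a scheme, m an integer and E an m-pseudo-coherent object of D(O_X). Then the cohomology
sheaf Hⁱ(E) is quasi-coherent for every i > m, and Hᵐ(E) is, locally on X, a quotient of a
quasi-coherent module: every point of X has an open neighbourhood V and a quasi-coherent O_V-module
mapping onto Hᵐ(E)|_V. (The published statement says that Hᵐ(E) is a quotient of a quasi-coherent
O_X-module; its proof gives this only locally on X, which is what this row states, and the global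
form fails: on the affine plane over ℚ, the direct image of an invertible module over the inverse
image of O_X on a triangle of three lines, twisted by the constant 2 around the cycle, is an
O_X-module of finite type with no nonzero global section, so it is not a quotient of any
quasi-coherent module.) -/
theorem result {X : Scheme.{u}} (m : ℤ) (E : DCoh.D X)
    (hE : DCoh.IsPseudoCoherentD m E) :
    (∀ i : ℤ, m < i → Coh.IsQCoh (DCoh.HD E i)) ∧
      ∀ x : X, ∃ (V : X.Opens) (Q : (V : Scheme.{u}).Modules)
        (π : Q ⟶ (Scheme.Modules.restrictFunctor V.ι).obj (DCoh.HD E m)), x ∈ V ∧ Coh.IsQCoh Q ∧ Epi π := by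
  refine ⟨fun i hi => ?_, fun x => ?_⟩
  · choose W j hj w hw hs using (DCohPerf.isPC_iff m E).1 hE
    refine QCohLib.isQuasicoherent_of_cover j (fun x => ⟨x, w x, hw x⟩) fun x => ?_
    obtain ⟨P, α, hP, hα⟩ := hs x
    have := hα.1 i hi
    exact @QCohLib.isQuasicoherent_of_iso _ _ _ ((DerivedCategory.homologyFunctorFactors (W x).Modules i).symm.app P ≪≫
      asIso ((DerivedCategory.homologyFunctor (W x).Modules i).map α) ≪≫ (DCohPerf.homology_restrict (j x) E i).some) (qcoh_homology hP i)
  · obtain ⟨W, j, hj, w, hw, hs⟩ := (DCohPerf.isPC_iff m E).1 hE x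
    obtain ⟨hm, k, hk, hkj⟩ := DCohPerf.exists_opens j w
    obtain ⟨P, α, hP, hα⟩ := DCohPerf.pcOn_congr hkj (DCohPerf.pcOn_comp hs k)
    have := hα.2
    exact ⟨j.opensRange, P.homology m, ((DerivedCategory.homologyFunctorFactors _ m).app P).inv ≫
      (DerivedCategory.homologyFunctor _ m).map α ≫ (DCohPerf.homology_restrict _ E m).some.hom, hw ▸ hm,
      qcoh_homology hP m, inferInstance⟩

end Groth.Agent.S7240
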