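import Groth.Statements.S0015
-- import your own Groth.Agent.* helpers here

set_option autoImplicit false
universe u
open Coherent

namespace Groth.Agent.S0015

open AlgebraicGeometry in
/-- Let X be quasi-compact and quasi-separated and P a property of opens of X. If P holds for affine
opens, and P(U ∪ V) follows from P(U), P(V), P(U ∩ V) whenever U is quasi-compact open and V affine
open, then P holds for every quasi-compact open, in particular for X. -/
theorem result (X : Scheme.{u}) [CompactSpace X] [QuasiSeparatedSpace X]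
    (P : X.Opens → Prop) (h₁ : ∀ U : X.Opens, IsAffineOpen U → P U)
    (h₂ : ∀ U V : X.Opens, IsCompact (U : Set X) → IsAffineOpen V → P U → P V → P (U ⊓ V) →
      P (U ⊔ V))
    (U : X.Opens) (hU : IsCompact (U : Set X)) : P U := by
  have key : ∀ (V : X.Opens), IsAffineOpen V → ∀ (l : List Γ(X, V)) (g : Γ(X, V)),
      P (l.foldr (fun f W => X.basicOpen (g * f) ⊔ W) ⊥) := by
    intro V hV l
    induction l with
    | nil => exact fun _ => h₁ _ (isAffineOpen_bot X)
    | cons a l ih =>
      intro g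
      have hA : IsAffineOpen (X.basicOpen (g * a)) := hV.basicOpen _
      have hcpt : ∀ (m : List Γ(X, V)),
          IsCompact ((m.foldr (fun f W => X.basicOpen (g * f) ⊔ W) ⊥ : X.Opens) : Set X) := by
        intro m
        induction m with
        | nil => simp
        | cons b m ihm =>
          simp only [List.foldr_cons, TopologicalSpace.Opens.coe_sup]
          exact (hV.basicOpen _).isCompact.union ihm
      have hint : ∀ (m : List Γ(X, V)),
          m.foldr (fun f W => X.basicOpen (g * f) ⊔ W) ⊥ ⊓ X.basicOpen (g * a) =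
            m.foldr (fun f W => X.basicOpen ((g * a) * f) ⊔ W) ⊥ := by
        intro m
        induction m with
        | nil => simp
        | cons b m ihm =>
          simp only [List.foldr_cons, inf_sup_right]
          rw [ihm]
          simp only [Scheme.basicOpen_mul]
          congr 1
          exact le_antisymm (fun x ⟨⟨h1, h2⟩, ⟨_, h4⟩⟩ => ⟨⟨h1, h4⟩, h2⟩)
            (fun x ⟨⟨h1, h4⟩, h2⟩ => ⟨⟨h1, h2⟩, ⟨h1, h4⟩⟩)
      rw [List.foldr_cons, sup_comm]
      exact h₂ _ _ (hcpt l) hA (ih g) (h₁ _ hA) (hint l ▸ ih (g * a))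
  refine compact_open_induction_on U hU (h₁ _ (isAffineOpen_bot X)) fun S hS V hPS => ?_
  refine h₂ S V.1 hS V.2 hPS (h₁ _ V.2) ?_
  have hW : IsCompact ((S ⊓ V.1 : X.Opens) : Set X) :=
    QuasiSeparatedSpace.inter_isCompact (S : Set X) (V.1 : Set X) S.2 hS V.1.2 V.2.isCompact
  have hex : ∀ x : ↥(S ⊓ V.1), ∃ f : Γ(X, V.1), X.basicOpen f ≤ S ⊓ V.1 ∧ x.1 ∈ X.basicOpen f :=
    fun x => by
      obtain ⟨f, hf, hxf⟩ := V.2.exists_basicOpen_le (V := S ⊓ V.1) x x.2.2
      exact ⟨f, hf, hxf⟩
  choose f hf hxf using hex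
  obtain ⟨t, ht⟩ := hW.elim_finite_subcover (fun x : ↥(S ⊓ V.1) => (X.basicOpen (f x) : Set X))
    (fun x => (X.basicOpen (f x)).2) (fun x hx => Set.mem_iUnion.mpr ⟨⟨x, hx⟩, hxf ⟨x, hx⟩⟩)
  convert key V.1 V.2 (t.toList.map f) 1
  have hmem : ∀ (m : List Γ(X, V.1)) (y : X),
      y ∈ m.foldr (fun f W => X.basicOpen (1 * f) ⊔ W) ⊥ ↔ ∃ a ∈ m, y ∈ X.basicOpen a := by
    intro m y
    induction m with
    | nil => simp
    | cons b m ihm =>
      simp only [List.foldr_cons, TopologicalSpace.Opens.mem_sup, List.mem_cons, exists_eq_or_imp]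
      rw [ihm, one_mul]
  refine TopologicalSpace.Opens.ext (Set.ext fun y => ?_)
  rw [SetLike.mem_coe, SetLike.mem_coe, hmem]
  constructor
  · intro hy
    obtain ⟨i, hi, hyi⟩ := Set.mem_iUnion₂.mp (ht hy)
    exact ⟨f i, List.mem_map.mpr ⟨i, Finset.mem_toList.mpr hi, rfl⟩, hyi⟩
  · rintro ⟨a, ha, hya⟩
    obtain ⟨i, _, rfl⟩ := List.mem_map.mp ha
    exact hf i hya

end Groth.Agent.S0015
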