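import Groth.Statements.S12131
import Groth.Agent.RelFPLib.PullTensor
import Groth.Agent.QCohLib.Pullback
import Groth.Agent.QCohLib.Criterion
import Groth.Agent.QCohLib.Cover
import Mathlib.Algebra.Category.Ring.Constructions

set_option autoImplicit false
set_option linter.style.haveILetI false
open scoped TensorProduct
set_option backward.isDefEq.respectTransparency false
universe u
open EGA2 Groth.Agent
set_option maxHeartbeats 300000

namespace Groth.Agent.S12131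

theorem cancel_symm_tmul (R S A B M : Type u) [CommRing R] [CommRing S] [CommRing A] [CommRing B]
    [Algebra R S] [Algebra R A] [Algebra R B] [Algebra S B] [Algebra A B] [IsScalarTower R S B]
    [IsScalarTower R A B] [Algebra.IsPushout R S A B] [AddCommGroup M] [Module R M] [Module A M]
    [IsScalarTower R A M] (a : S) (m : M) :
    (Algebra.IsPushout.cancelBaseChange R S A B M).symm (a ⊗ₜ[R] m) = algebraMap S B a ⊗ₜ[A] m :=
  Algebra.IsPushout.cancelBaseChangeAux_symm_tmul R S A B M a m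

open AlgebraicGeometry CategoryTheory Scheme.Modules in
/-- Let f : X → S be an affine morphism, g : S' → S a morphism, X' = X ×_S S' with projections g' : X' →
X and f' : X' → S', and F a quasi-coherent O_X-module. Let ρ : F → g'_* g'^* F be the unit of
adjunction and v = f_*(ρ) : f_* F → f_* g'_* g'^* F = g_* f'_* g'^* F; then the map u : g^*(f_* F) →
f'_*(g'^* F) adjoint to v is an isomorphism. -/
theorem result {X S X' S' : Scheme.{u}} (f : X ⟶ S) (g : S' ⟶ S)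
    (g' : X' ⟶ X) (f' : X' ⟶ S') (h : IsPullback g' f' f g) [IsAffineHom f]
    (F : X.Modules) [Coh.IsQCoh F] :
    IsIso (((pullbackPushforwardAdjunction g).homEquiv ((pushforward f).obj F)
        ((pushforward f').obj ((pullback g').obj F))).symm
      ((pushforward f).map ((pullbackPushforwardAdjunction g').unit.app F) ≫
        (pushforwardComp g' f).hom.app ((pullback g').obj F) ≫
        (pushforwardCongr h.w).hom.app ((pullback g').obj F) ≫
        (pushforwardComp f' g).inv.app ((pullback g').obj F))) := by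
  let P := (Scheme.Modules.pullback g').obj F
  let M := (Scheme.Modules.pushforward f).obj F
  let adj := Scheme.Modules.pullbackPushforwardAdjunction g
  let adj' := Scheme.Modules.pullbackPushforwardAdjunction g'
  let v : M ⟶ (Scheme.Modules.pushforward g).obj ((Scheme.Modules.pushforward f').obj P) :=
      ((Scheme.Modules.pushforward f).map (adj'.unit.app F) ≫
        (Scheme.Modules.pushforwardComp g' f).hom.app P ≫
        (Scheme.Modules.pushforwardCongr h.w).hom.app P ≫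
        (Scheme.Modules.pushforwardComp f' g).inv.app P)
  show IsIso ((adj.homEquiv M _).symm v)
  let u := (adj.homEquiv M _).symm v
  show IsIso u
  haveI : IsAffineHom f' := MorphismProperty.of_isPullback h ‹_›
  haveI : M.IsQuasicoherent := QCohLib.isQuasicoherent_pushforward f
  haveI : P.IsQuasicoherent := QCohLib.isQuasicoherent_pullback g' F
  haveI : ((Scheme.Modules.pullback g).obj M).IsQuasicoherent := QCohLib.isQuasicoherent_pullback g M
  haveI : ((Scheme.Modules.pushforward f').obj P).IsQuasicoherent := QCohLib.isQuasicoherent_pushforward f'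
  let I := {p : S.affineOpens × S'.affineOpens // p.2.1 ≤ g ⁻¹ᵁ p.1.1}
  refine QCohLib.isIso_of_cover_bijective (fun i : I => i.1.2.1) (fun i => i.1.2.2) (fun x => ?_) u fun i => ?_
  · obtain ⟨U, hU, hxU, -⟩ := exists_isAffineOpen_mem_and_subset (TopologicalSpace.Opens.mem_top (g.base x))
    obtain ⟨W, hW, hxW, hWU⟩ := exists_isAffineOpen_mem_and_subset (X := S') (x := x) (U := g ⁻¹ᵁ U) hxU
    exact ⟨⟨(⟨U, hU⟩, ⟨W, hW⟩), hWU⟩, hxW⟩
  obtain ⟨⟨⟨U, hU⟩, ⟨W, hW⟩⟩, hWU⟩ := i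
  show Function.Bijective (u.app W)
  have hV : IsAffineOpen (f ⁻¹ᵁ U) := hU.preimage f
  have hV' : IsAffineOpen (f' ⁻¹ᵁ W) := hW.preimage f'
  have hle : f' ⁻¹ᵁ W ≤ g' ⁻¹ᵁ (f ⁻¹ᵁ U) := by
    intro y hy
    have h1 : g (f' y) ∈ U := hWU hy
    rwa [← Scheme.Hom.comp_apply, ← h.w, Scheme.Hom.comp_apply] at h1
  have hUY : f' ⁻¹ᵁ W = g' ⁻¹ᵁ (f ⁻¹ᵁ U) ⊓ f' ⁻¹ᵁ W := (inf_eq_right.mpr hle).symm
  have hpo := (isIso_pushoutSection_iff h hWU (le_refl (f ⁻¹ᵁ U)) hUY).mp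
    (isIso_pushoutSection_of_isAffineOpen h hWU (le_refl _) hUY hU hW hV)
  rw [Scheme.Hom.appLE_eq_app (f := f)] at hpo
  have hpr : ∀ m : Γ(M, U), u.app W (ConormalSection.pullRes g M hWU m) = ConormalSection.pullRes g' F hle m := by
    intro m
    have h1 : adj.unit.app M ≫ (Scheme.Modules.pushforward g).map u = v :=
      ((Adjunction.homEquiv_unit (adj := adj) (f := u)).symm).trans ((adj.homEquiv _ _).apply_symm_apply v)
    have h2 : u.app (g ⁻¹ᵁ U) ((adj.unit.app M).app U m) = v.app U m :=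
      congr($(congr(Scheme.Modules.Hom.app $h1 U)) m)
    refine (QCohLib.app_map u hWU _).trans ?_
    refine (congrArg _ h2).trans ?_
    exact QCohLib.map_map P _ _ _
  letI : Algebra Γ(S, U) Γ(S', W) := (g.appLE U W hWU).hom.toAlgebra
  letI : Algebra Γ(S, U) Γ(X, f ⁻¹ᵁ U) := (f.app U).hom.toAlgebra
  letI : Algebra Γ(X, f ⁻¹ᵁ U) Γ(X', f' ⁻¹ᵁ W) := (g'.appLE (f ⁻¹ᵁ U) (f' ⁻¹ᵁ W) hle).hom.toAlgebra
  letI : Algebra Γ(S', W) Γ(X', f' ⁻¹ᵁ W) := (f'.appLE W (f' ⁻¹ᵁ W) le_rfl).hom.toAlgebra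
  letI : Algebra Γ(S, U) Γ(X', f' ⁻¹ᵁ W) :=
    ((g'.appLE (f ⁻¹ᵁ U) (f' ⁻¹ᵁ W) hle).hom.comp (f.app U).hom).toAlgebra
  haveI : IsScalarTower Γ(S, U) Γ(X, f ⁻¹ᵁ U) Γ(X', f' ⁻¹ᵁ W) := IsScalarTower.of_algebraMap_eq fun _ => rfl
  haveI : IsScalarTower Γ(S, U) Γ(S', W) Γ(X', f' ⁻¹ᵁ W) :=
    IsScalarTower.of_algebraMap_eq fun a => congr($(hpo.w) a)
  haveI hP1 : Algebra.IsPushout Γ(S, U) Γ(X, f ⁻¹ᵁ U) Γ(S', W) Γ(X', f' ⁻¹ᵁ W) :=
    CommRingCat.isPushout_iff_isPushout.mp hpo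
  haveI : Algebra.IsPushout Γ(S, U) Γ(S', W) Γ(X, f ⁻¹ᵁ U) Γ(X', f' ⁻¹ᵁ W) := hP1.symm
  letI : Module Γ(S, U) Γ(F, f ⁻¹ᵁ U) := Module.compHom _ (f.app U).hom
  haveI : IsScalarTower Γ(S, U) Γ(X, f ⁻¹ᵁ U) Γ(F, f ⁻¹ᵁ U) :=
    IsScalarTower.of_algebraMap_smul fun _ _ => rfl
  obtain ⟨e₁, he₁⟩ := RelFPLib.exists_pullTensorEquiv g M hU hW hWU
  obtain ⟨e₂, he₂⟩ := RelFPLib.exists_pullTensorEquiv g' F hV hV' hle
  let c := Algebra.IsPushout.cancelBaseChange Γ(S, U) Γ(S', W) Γ(X, f ⁻¹ᵁ U) Γ(X', f' ⁻¹ᵁ W) Γ(F, f ⁻¹ᵁ U)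
  have key : ∀ z, u.app W (e₁ z) = e₂ (c.symm z) := by
    intro z
    induction z with
    | zero => simp only [map_zero]
    | add a b ha hb => rw [map_add, map_add, ha, hb, map_add, map_add]
    | tmul a m =>
      rw [he₁, Scheme.Modules.Hom.app_smul, hpr]
      have hc := cancel_symm_tmul Γ(S, U) Γ(S', W) Γ(X, f ⁻¹ᵁ U) Γ(X', f' ⁻¹ᵁ W) Γ(F, f ⁻¹ᵁ U) a m
      refine Eq.trans ?_ ((congrArg e₂ hc).trans (he₂ _ _)).symm
      have hr : f'.app W a = (f'.appLE W (f' ⁻¹ᵁ W) le_rfl).hom a := by rw [Scheme.Hom.appLE_eq_app]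
      exact congrArg (fun (r : Γ(X', f' ⁻¹ᵁ W)) => r • ConormalSection.pullRes g' F hle m) hr
  have : (u.app W : _ → _) = e₂ ∘ c.symm ∘ e₁.symm := funext fun z => by
    simpa using key (e₁.symm z)
  rw [this]
  exact e₂.bijective.comp (c.symm.bijective.comp e₁.symm.bijective)
end Groth.Agent.S12131
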