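import Groth.Statements.S0064
import Groth.Agent.Rigidity.Sections

set_option autoImplicit false
open CategoryTheory CategoryTheory.Limits AlgebraicGeometry Opposite
universe u
set_option backward.isDefEq.respectTransparency.types false
open EtBase

namespace Groth.Agent.S0064

/-- Let S be a Noetherian scheme, X → S a quasi-compact, separated, unramified morphism (formally
unramified and locally of finite type), and Y a Noetherian scheme with a morphism Y → S. Then there
are only finitely many S-morphisms Y → X. The published statement does not assume X → S separated;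
it is stated here in the separated case. -/
theorem result {X S Y : Scheme.{u}} [IsNoetherian S] [IsNoetherian Y]
    (π : X ⟶ S) [FormallyUnramified π] [LocallyOfFiniteType π] [QuasiCompact π] [IsSeparated π]
    (h : Y ⟶ S) : Set.Finite {f : Y ⟶ X | f ≫ π = h} := by
  classical
  let pt : irreducibleComponents Y → Y := fun Z ↦ Z.2.1.nonempty.choose
  have hpt : ∀ Z, pt Z ∈ Z.1 := fun Z ↦ Z.2.1.nonempty.choose_spec
  have : Finite (irreducibleComponents Y) :=
    (TopologicalSpace.NoetherianSpace.finite_irreducibleComponents).to_subtype
  -- finiteness over a point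
  have hfin : ∀ y : Y, Finite {s : Spec (Y.residueField y) ⟶
      pullback (Y.fromSpecResidueField y ≫ h) π //
      s ≫ pullback.fst (Y.fromSpecResidueField y ≫ h) π = 𝟙 _} := by
    intro y
    let q := pullback.fst (Y.fromSpecResidueField y ≫ h) π
    have : FormallyUnramified q := MorphismProperty.pullback_fst _ _ inferInstance
    have : LocallyOfFiniteType q := MorphismProperty.pullback_fst _ _ inferInstance
    have : IsSeparated q := MorphismProperty.pullback_fst _ _ inferInstance
    have : QuasiCompact q := MorphismProperty.pullback_fst _ _ inferInstance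
    obtain ⟨a⟩ : Nonempty ↥(Spec (Y.residueField y)) := inferInstance
    have : IsLocallyNoetherian (pullback (Y.fromSpecResidueField y ≫ h) π) :=
      LocallyOfFiniteType.isLocallyNoetherian q
    have : CompactSpace ↥(pullback (Y.fromSpecResidueField y ≫ h) π) :=
      QuasiCompact.compactSpace_of_compactSpace q
    have : IsNoetherian (pullback (Y.fromSpecResidueField y ≫ h) π) := {}
    have : Finite (irreducibleComponents ↥(pullback (Y.fromSpecResidueField y ≫ h) π)) :=
      (TopologicalSpace.NoetherianSpace.finite_irreducibleComponents).to_subtype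
    have hsing : ∀ s : {s : Spec (Y.residueField y) ⟶ pullback (Y.fromSpecResidueField y ≫ h) π //
        s ≫ q = 𝟙 _}, irreducibleComponent (s.1 a) = Set.range s.1 ∧ Set.range s.1 = {s.1 a} := by
      intro s
      have hr : Set.range s.1 = {s.1 a} := by
        ext b
        exact ⟨fun ⟨c, hc⟩ ↦ by rw [← hc, Subsingleton.elim c a]; rfl, fun hb ↦ ⟨a, hb.symm⟩⟩
      obtain ⟨x, hx⟩ := Groth.Agent.Rigidity.range_section q s.1 s.2
      refine ⟨subset_antisymm ?_ (hr ▸ Set.singleton_subset_iff.mpr mem_irreducibleComponent), hr⟩
      rw [hx, connectedComponent_eq (hx.le ⟨a, rfl⟩)]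
      exact isIrreducible_irreducibleComponent.isConnected.isPreconnected.subset_connectedComponent mem_irreducibleComponent
    refine Finite.of_injective (fun s ↦ (⟨irreducibleComponent (s.1 a),
      irreducibleComponent_mem_irreducibleComponents _⟩ :
        irreducibleComponents ↥(pullback (Y.fromSpecResidueField y ≫ h) π))) fun s s' hs ↦ ?_
    apply (Groth.Agent.Rigidity.sectionsEquiv q).injective
    apply Subtype.ext
    apply TopologicalSpace.Opens.ext
    change Set.range s.1 = Set.range s'.1
    rw [← (hsing s).1, ← (hsing s').1]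
    exact congrArg Subtype.val hs
  let F : {f : Y ⟶ X | f ≫ π = h} → ∀ Z : irreducibleComponents Y,
      {s : Spec (Y.residueField (pt Z)) ⟶ pullback (Y.fromSpecResidueField (pt Z) ≫ h) π //
      s ≫ pullback.fst (Y.fromSpecResidueField (pt Z) ≫ h) π = 𝟙 _} := fun f Z ↦
    ⟨pullback.lift (𝟙 _) (Y.fromSpecResidueField (pt Z) ≫ f.1)
      (by rw [Category.id_comp, Category.assoc, f.2]), pullback.lift_fst _ _ _⟩
  suffices Function.Injective F from
    Set.finite_coe_iff.mp (Finite.of_injective F this)
  rintro ⟨f, hf⟩ ⟨g, hg⟩ hfg
  apply Subtype.ext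
  have hab : f ≫ π = g ≫ π := hf.trans hg.symm
  apply Groth.Agent.Rigidity.eq_of_range_eq_univ π f g hab
  let i := pullback.fst (pullback.lift f g hab) (pullback.diagonal π)
  have : IsOpenImmersion i := MorphismProperty.pullback_fst _ _ inferInstance
  have : IsClosedImmersion i := MorphismProperty.pullback_fst _ _ inferInstance
  have hclopen : IsClopen (Set.range i) :=
    ⟨i.isClosedEmbedding.isClosed_range, i.isOpenEmbedding.isOpen_range⟩
  refine Set.eq_univ_of_forall fun y ↦ ?_
  let Z : irreducibleComponents Y := ⟨_, irreducibleComponent_mem_irreducibleComponents y⟩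
  have he : Y.fromSpecResidueField (pt Z) ≫ f = Y.fromSpecResidueField (pt Z) ≫ g := by
    have h2 := congrArg (fun s ↦ (s Z).1 ≫ pullback.snd _ _) hfg
    simp only [F] at h2
    erw [pullback.lift_snd, pullback.lift_snd] at h2
    exact h2
  obtain ⟨t⟩ : Nonempty ↥(Spec (Y.residueField (pt Z))) := inferInstance
  have hmem : pt Z ∈ Set.range i := by
    refine ⟨(pullback.lift _ _ (Groth.Agent.Rigidity.comp_lift_eq π f g hab _ he) :
      Spec (Y.residueField (pt Z)) ⟶ _) t, ?_⟩
    change (_ ≫ i) t = _
    rw [pullback.lift_fst]
    simp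
  exact (Z.2.1.isConnected.isPreconnected.subset_isClopen hclopen ⟨_, hpt Z, hmem⟩)
    mem_irreducibleComponent

end Groth.Agent.S0064
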