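import Groth.Statements.S0065
import Groth.Agent.EtStalk.Basic
import Groth.Agent.S0120

set_option autoImplicit false
open CategoryTheory CategoryTheory.Limits AlgebraicGeometry Opposite
universe u
open EtBase

namespace Groth.Agent.S0065

/-- For an étale morphism X → Y with Y locally Noetherian and a point x of X, the local ring of X at x
is regular if and only if the local ring of Y at the image of x is regular. -/
theorem result {X Y : Scheme.{u}} (f : X ⟶ Y) [AlgebraicGeometry.Etale f]
    [IsLocallyNoetherian Y] (x : X) :
    IsRegularLocalRing (X.presheaf.stalk x) ↔ IsRegularLocalRing (Y.presheaf.stalk (f.base x)) := by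
  have : IsLocallyNoetherian X := LocallyOfFiniteType.isLocallyNoetherian f
  let R := Y.presheaf.stalk (f.base x)
  let S := X.presheaf.stalk x
  algebraize [(f.stalkMap x).hom]
  have : Module.Flat R S := Flat.stalkMap f x
  have : Algebra.EssFiniteType R S := LocallyOfFiniteType.stalkMap f x
  have : Algebra.FormallyUnramified R S := FormallyUnramified.stalkMap f x
  have : IsLocalHom (algebraMap R S) := inferInstanceAs (IsLocalHom (f.stalkMap x).hom)
  have := Module.FaithfullyFlat.of_flat_of_isLocalHom (A := R) (B := S)
  have hm : (IsLocalRing.maximalIdeal R).map (algebraMap R S) = IsLocalRing.maximalIdeal S :=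
    Algebra.FormallyUnramified.map_maximalIdeal
  rw [isRegularLocalRing_iff, isRegularLocalRing_iff,
    Groth.Agent.EtStalk.spanFinrank_eq R S hm, Groth.Agent.S0120.result f x]

end Groth.Agent.S0065
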