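import Groth.Statements.S0066
import Groth.Agent.FlatAscent.Fibres
import Groth.Agent.FlatAscent.Descent

set_option autoImplicit false
open CategoryTheory CategoryTheory.Limits AlgebraicGeometry Opposite
universe u
open EtBase

namespace Groth.Agent.S0066

/-- For an étale morphism f : X → Y with Y locally Noetherian and a point x of X, the local ring O_{X,x}
is a normal domain (a domain which is integrally closed in its fraction field) if and only if
O_{Y,f(x)} is. -/
theorem result {X Y : Scheme.{u}} (f : X ⟶ Y) [AlgebraicGeometry.Etale f]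
    [IsLocallyNoetherian Y] (x : X) :
    (IsDomain (X.presheaf.stalk x) ∧ IsIntegrallyClosed (X.presheaf.stalk x)) ↔
      (IsDomain (Y.presheaf.stalk (f.base x)) ∧ IsIntegrallyClosed (Y.presheaf.stalk (f.base x))) := by
  obtain ⟨U, hU, hxU, -⟩ := exists_isAffineOpen_mem_and_subset (X := Y) (x := f.base x) (U := ⊤) trivial
  obtain ⟨V, hV, hxV, hVU⟩ := exists_isAffineOpen_mem_and_subset (X := X) (x := x) (U := f ⁻¹ᵁ U) hxU
  haveI : IsNoetherianRing Γ(Y, U) := IsLocallyNoetherian.component_noetherian ⟨U, hU⟩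
  letI := (f.appLE U V hVU).hom.toAlgebra
  haveI : Algebra.Etale Γ(Y, U) Γ(X, V) :=
    RingHom.etale_algebraMap.1 (HasRingHomProperty.appLE @AlgebraicGeometry.Etale f inferInstance ⟨U, hU⟩ ⟨V, hV⟩ hVU)
  haveI : IsNoetherianRing Γ(X, V) := Algebra.FiniteType.isNoetherianRing Γ(Y, U) _
  let q := (hV.primeIdealOf ⟨x, hxV⟩).asIdeal
  let p := (hU.primeIdealOf ⟨f.base x, hxU⟩).asIdeal
  have hqp : q.comap (algebraMap Γ(Y, U) Γ(X, V)) = p :=
    congrArg PrimeSpectrum.asIdeal (IsAffineOpen.comap_primeIdealOf_appLE (f := f) U hU V hV hVU hxV)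
  haveI : q.LiesOver p := ⟨hqp.symm⟩
  letI : Algebra Γ(X, V) (X.presheaf.stalk x) := (X.presheaf.germ V x hxV).hom.toAlgebra
  haveI : IsLocalization.AtPrime (X.presheaf.stalk x) q := hV.isLocalization_stalk ⟨x, hxV⟩
  letI : Algebra Γ(Y, U) (Y.presheaf.stalk (f.base x)) := (Y.presheaf.germ U (f.base x) hxU).hom.toAlgebra
  haveI : IsLocalization.AtPrime (Y.presheaf.stalk (f.base x)) p := hU.isLocalization_stalk ⟨f.base x, hxU⟩
  let eX : Localization.AtPrime q ≃+* X.presheaf.stalk x := (IsLocalization.algEquiv q.primeCompl _ _).toRingEquiv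
  let eY : Localization.AtPrime p ≃+* Y.presheaf.stalk (f.base x) := (IsLocalization.algEquiv p.primeCompl _ _).toRingEquiv
  have hY : (IsDomain (Y.presheaf.stalk (f.base x)) ∧ IsIntegrallyClosed (Y.presheaf.stalk (f.base x))) ↔
      (IsDomain (Localization.AtPrime p) ∧ IsIntegrallyClosed (Localization.AtPrime p)) :=
    ⟨fun ⟨hd, hi⟩ => ⟨eY.toMulEquiv.isDomain _, IsIntegrallyClosed.of_equiv eY.symm⟩,
      fun ⟨hd, hi⟩ => ⟨eY.symm.toMulEquiv.isDomain _, IsIntegrallyClosed.of_equiv eY⟩⟩
  have hX : (IsDomain (X.presheaf.stalk x) ∧ IsIntegrallyClosed (X.presheaf.stalk x)) ↔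
      (IsDomain (Localization.AtPrime q) ∧ IsIntegrallyClosed (Localization.AtPrime q)) :=
    ⟨fun ⟨hd, hi⟩ => ⟨eX.toMulEquiv.isDomain _, IsIntegrallyClosed.of_equiv eX.symm⟩,
      fun ⟨hd, hi⟩ => ⟨eX.symm.toMulEquiv.isDomain _, IsIntegrallyClosed.of_equiv eX⟩⟩
  rw [hX, hY]
  constructor
  · rintro ⟨hd, hi⟩
    letI := Localization.AtPrime.algebraOfLiesOver p q
    haveI : Module.Flat Γ(Y, U) (Localization.AtPrime q) := Module.Flat.trans Γ(Y, U) Γ(X, V) _
    haveI : Module.Flat (Localization.AtPrime p) (Localization.AtPrime q) :=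
      (Module.flat_iff_of_isLocalization (Localization.AtPrime p) p.primeCompl _).2 inferInstance
    haveI : IsLocalHom (algebraMap (Localization.AtPrime p) (Localization.AtPrime q)) :=
      Localization.isLocalHom_localRingHom p q (algebraMap _ _) hqp.symm
    haveI := Module.FaithfullyFlat.of_flat_of_isLocalHom (A := Localization.AtPrime p) (B := Localization.AtPrime q)
    exact ⟨HenselLib.isDomain_of_faithfullyFlat _ (Localization.AtPrime q),
      HenselLib.isIntegrallyClosed_of_faithfullyFlat _ (Localization.AtPrime q)⟩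
  · rintro ⟨hd, hi⟩
    have hgen : ∀ (p' : Ideal Γ(Y, U)) [p'.IsPrime], p' = p →
        IsDomain (Localization.AtPrime p') ∧ IsIntegrallyClosed (Localization.AtPrime p') := by
      rintro p' _ rfl
      exact ⟨hd, hi⟩
    obtain ⟨hd', hi'⟩ := hgen (q.comap (algebraMap Γ(Y, U) Γ(X, V))) hqp
    refine FlatAscent.normal_atPrime (A := Γ(Y, U)) q fun q' _ _ => ?_
    obtain ⟨Q, hQ, ⟨e⟩⟩ := FlatAscent.exists_fibre_prime (A := Γ(Y, U)) q'
    let κ := (q'.comap (algebraMap Γ(Y, U) Γ(X, V))).ResidueField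
    let F := (q'.comap (algebraMap Γ(Y, U) Γ(X, V))).Fiber Γ(X, V)
    haveI : Algebra.Etale κ F := inferInstance
    haveI : Module.Finite κ F := Algebra.FormallyUnramified.finite_of_free κ F
    haveI : IsArtinianRing F := IsArtinianRing.of_finite κ F
    haveI : IsReduced F := Algebra.FormallyUnramified.isReduced_of_field κ F
    haveI : IsReduced (Localization.AtPrime Q) := isReduced_localizationPreserves Q.primeCompl (Localization.AtPrime Q) ‹IsReduced F›
    have hfield : IsField (Localization.AtPrime Q) := IsArtinianRing.isField_of_isReduced_of_isLocalRing (R := Localization.AtPrime Q)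
    letI := hfield.toField
    exact ⟨e.symm.toMulEquiv.isDomain _, IsIntegrallyClosed.of_equiv e⟩

end Groth.Agent.S0066
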