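import Mathlib
import Groth.Agent.PLinFix.Basic
import Groth.Statements.S0077
-- import your own Groth.Agent.* helpers here

set_option autoImplicit false
universe u
open EtBase

namespace Groth.Agent.S0077

/-- First half — on a finite-dimensional vector space over an algebraically closed field of
characteristic p, any additive p-semilinear map F has F − id surjective. -/
theorem result {k V : Type u} [Field k] [IsAlgClosed k] (p : ℕ) [Fact p.Prime] [CharP k p]
    [AddCommGroup V] [Module k V] [FiniteDimensional k V] (F : V →+ V)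
    (hF : ∀ (c : k) (v : V), F (c • v) = c ^ p • F v) :
    Function.Surjective fun v => F v - v := by
  classical
  obtain ⟨m₀, hm₀⟩ := PLinFix.exists_stable p hF
  intro v
  obtain ⟨w, hw, z, ⟨m, hz⟩, hwz⟩ := Submodule.mem_sup.mp (show v ∈ PLinFix.img p hF m₀ ⊔ PLinFix.nil p hF by
    rw [(PLinFix.isCompl_stable p hF hm₀).sup_eq_top]; exact Submodule.mem_top)
  rw [← PLinFix.span_fixed_eq p hF hm₀] at hw
  obtain ⟨T, hT, hTw⟩ := Submodule.mem_span_finite_of_mem_span hw
  obtain ⟨c, -, hc⟩ := Submodule.mem_span_finset.mp hTw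
  have hroot : ∀ a : k, ∃ t : k, t ^ p - t = a := fun a => by
    have hp1 : 1 < p := (Fact.out : p.Prime).one_lt
    have hd : (Polynomial.X ^ p - Polynomial.X - Polynomial.C a : Polynomial k).degree = (p : WithBot ℕ) := by
      rw [sub_sub, Polynomial.degree_sub_eq_left_of_degree_lt] <;>
        simp only [Polynomial.degree_X_add_C, Polynomial.degree_X_pow]
      exact_mod_cast hp1
    obtain ⟨t, ht⟩ := IsAlgClosed.exists_root _ (by rw [hd]; exact_mod_cast (by omega : p ≠ 0))
    exact ⟨t, by simpa [Polynomial.IsRoot, sub_eq_zero] using ht⟩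
  choose r hr using hroot
  refine ⟨(∑ u ∈ T, r (c u) • u) - ∑ i ∈ Finset.range m, (⇑F)^[i] z, ?_⟩
  have h1 : F (∑ u ∈ T, r (c u) • u) - ∑ u ∈ T, r (c u) • u = w := by
    rw [← hc, map_sum, ← Finset.sum_sub_distrib]
    refine Finset.sum_congr rfl fun u hu => ?_
    rw [hF, show F u = u from hT hu, ← sub_smul, hr]
  have h2 : F (∑ i ∈ Finset.range m, (⇑F)^[i] z) - ∑ i ∈ Finset.range m, (⇑F)^[i] z = -z := by
    rw [map_sum, ← Finset.sum_sub_distrib]
    simp only [← Function.iterate_succ_apply' (⇑F)]
    rw [Finset.sum_range_sub (fun i => (⇑F)^[i] z), hz, Function.iterate_zero_apply, zero_sub]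
  show F (_ - _) - (_ - _) = v
  rw [map_sub, sub_sub_sub_comm, h1, h2, sub_neg_eq_add, hwz]

end Groth.Agent.S0077
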