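import Mathlib
import Groth.Statements.S0078
-- import your own Groth.Agent.* helpers here

set_option autoImplicit false
universe u
open EtBase

namespace Groth.Agent.S0078

/-- Second half — for such an F the fixed vectors F v = v form a finite set of size at most p ^ dim V
(an F_p-space of dimension at most dim V). -/
theorem result {k V : Type u} [Field k] [IsAlgClosed k] (p : ℕ) [Fact p.Prime] [CharP k p]
    [AddCommGroup V] [Module k V] [FiniteDimensional k V] (F : V →+ V)
    (hF : ∀ (c : k) (v : V), F (c • v) = c ^ p • F v) :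
    Set.Finite {v : V | F v = v} ∧ Nat.card {v : V | F v = v} ≤ p ^ Module.finrank k V := by
  classical
  obtain ⟨b, hbW, hspan, hli⟩ := exists_linearIndependent k {v : V | F v = v}
  haveI : Fintype b := (LinearIndependent.setFinite hli).fintype
  have hp : 1 < p := (Fact.out : p.Prime).one_lt
  let P : Polynomial k := Polynomial.X ^ p - Polynomial.X
  have hP : P ≠ 0 := FiniteField.X_pow_card_sub_X_ne_zero k hp
  let S : Finset k := P.roots.toFinset
  have hS : S.card ≤ p := (Multiset.toFinset_card_le _).trans
    ((Polynomial.card_roots' P).trans (FiniteField.X_pow_card_sub_X_natDegree_eq k hp).le)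
  let Φ : (b → S) → V := fun c => ∑ i, (c i : k) • (i : V)
  have hsub : {v : V | F v = v} ⊆ Set.range Φ := by
    intro v hv
    have hmem : v ∈ Submodule.span k (Set.range ((↑) : b → V)) := by
      rw [Subtype.range_coe, hspan]; exact Submodule.subset_span hv
    obtain ⟨c, hc⟩ := (Submodule.mem_span_range_iff_exists_fun k).mp hmem
    have hFv : ∑ i, c i ^ p • (i : V) = ∑ i, c i • (i : V) := by
      conv_rhs => rw [hc, ← hv, ← hc, map_sum]
      refine Finset.sum_congr rfl fun i _ => ?_
      rw [hF, show F (i : V) = i from hbW i.2]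
    have hcp : ∀ i, c i ^ p = c i := fun i => Fintype.linearIndependent_iffₛ.mp hli _ _ hFv i
    exact ⟨fun i => ⟨c i, Multiset.mem_toFinset.mpr ((Polynomial.mem_roots hP).mpr (by simp [P, hcp i]))⟩, hc⟩
  have hfin : (Set.range Φ).Finite := Set.finite_range Φ
  refine ⟨hfin.subset hsub, ?_⟩
  haveI := hfin.to_subtype
  calc Nat.card {v : V | F v = v} ≤ Nat.card (Set.range Φ) := Nat.card_mono hfin hsub
    _ ≤ Nat.card (b → S) := Finite.card_range_le Φ
    _ = S.card ^ Fintype.card b := by simp
    _ ≤ p ^ Fintype.card b := Nat.pow_le_pow_left hS _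
    _ ≤ p ^ Module.finrank k V := Nat.pow_le_pow_right (by omega) hli.fintype_card_le_finrank

end Groth.Agent.S0078
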