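import Mathlib.AlgebraicGeometry.Morphisms.Etale
import Mathlib.AlgebraicGeometry.Morphisms.Finite
import Mathlib.AlgebraicGeometry.Morphisms.Separated
import Mathlib.AlgebraicGeometry.Morphisms.ClosedImmersion
import Mathlib.AlgebraicGeometry.ResidueField
import Mathlib.AlgebraicGeometry.Noetherian
import Mathlib.AlgebraicGeometry.Limits
import Mathlib.AlgebraicGeometry.Pullbacks
import Groth.Agent.EtSite.Split
import Groth.Agent.Rigidity.SinglePoint
-- import your own Groth.Agent.* helpers here

set_option autoImplicit false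
open CategoryTheory CategoryTheory.Limits AlgebraicGeometry Opposite
universe u

namespace Groth.Agent.S0096

open Groth.Agent.Weighting

/-- Near a point over which any two geometric points of the source coincide, a finite unramified
morphism is a closed immersion. -/
theorem exists_isClosedImmersion {C V : Scheme.{u}} (j : C ⟶ V) [IsFinite j] [FormallyUnramified j]
    {Ω : Type u} [Field Ω] [IsAlgClosed Ω] (γ : Spec (CommRingCat.of Ω) ⟶ V)
    (huniq : ∀ a b : Spec (CommRingCat.of Ω) ⟶ C, a ≫ j = γ → b ≫ j = γ → a = b) :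
    ∃ U : V.Opens, pt γ ∈ U ∧ ∀ U' ≤ U, IsClosedImmersion (j ∣_ U') := by
  have hopen : IsOpenImmersion (pullback.diagonal j) := inferInstance
  have hfin : IsFinite (pullback.fst j j ≫ j) := inferInstance
  let D : Set (pullback j j : Scheme.{u}) := (Set.range (pullback.diagonal j))ᶜ
  have hD : IsClosed D := (pullback.diagonal j).isOpenEmbedding.isOpen_range.isClosed_compl
  let U : V.Opens := ⟨((pullback.fst j j ≫ j) '' D)ᶜ,
    ((pullback.fst j j ≫ j).isClosedMap _ hD).isOpen_compl⟩
  refine ⟨U, ?_, fun U' hU' => ?_⟩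
  · rintro ⟨z, hzD, hz⟩
    obtain ⟨φ, hφ, (hφz : pt φ = z)⟩ := (finite_geoFib_singleton (pullback.fst j j ≫ j) γ z hz).2.1
    rw [← Category.assoc] at hφ
    have h2 : (φ ≫ pullback.snd j j) ≫ j = γ := by
      rw [Category.assoc, ← pullback.condition, ← Category.assoc]
      exact hφ
    have e := huniq _ _ hφ h2
    have hd : φ = (φ ≫ pullback.fst j j) ≫ pullback.diagonal j := by
      apply pullback.hom_ext
      · rw [Category.assoc, Category.assoc, pullback.diagonal_fst, Category.comp_id]
      · rw [Category.assoc, Category.assoc, pullback.diagonal_snd, Category.comp_id]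
        exact e.symm
    exact hzD ⟨pt (φ ≫ pullback.fst j j), (pt_comp _ _).symm.trans (hd ▸ hφz)⟩
  · have : IsFinite (j ∣_ U') := inferInstance
    have : Mono (j ∣_ U') := by
      refine ⟨fun {T} a b hab ↦ ?_⟩
      rw [← cancel_mono (j ⁻¹ᵁ U').ι]
      have hab' : (a ≫ (j ⁻¹ᵁ U').ι) ≫ j = (b ≫ (j ⁻¹ᵁ U').ι) ≫ j := by
        have := congrArg (· ≫ U'.ι) hab
        simpa [morphismRestrict_ι] using this
      apply Rigidity.eq_of_range_eq_univ j _ _ hab'
      refine Set.eq_univ_of_forall fun t ↦ ?_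
      let l := pullback.lift (a ≫ (j ⁻¹ᵁ U').ι) (b ≫ (j ⁻¹ᵁ U').ι) hab'
      have hmem : l t ∈ Set.range (pullback.diagonal j) := by
        by_contra hcon
        have hlU : (pullback.fst j j ≫ j) (l t) ∈ (U : Set V) := by
          apply hU'
          rw [← Scheme.Hom.comp_apply, pullback.lift_fst_assoc, Category.assoc,
            ← morphismRestrict_ι, Scheme.Hom.comp_apply, Scheme.Hom.comp_apply]
          exact ((j ∣_ U') (a t)).2
        exact hlU ⟨l t, hcon, rfl⟩
      obtain ⟨w, hw⟩ := hmem
      obtain ⟨u, hu, -⟩ := Scheme.Pullback.exists_preimage_pullback (f := l)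
        (g := pullback.diagonal j) t w hw.symm
      exact ⟨u, hu⟩
    exact (IsClosedImmersion.iff_isFinite_and_mono _).mpr ⟨inferInstance, inferInstance⟩

/-- A finite unramified morphism becomes, after base change to a suitable étale neighbourhood of any
point of the base, a finite disjoint union of closed immersions. -/
theorem result {X S : Scheme.{u}} (f : X ⟶ S) [IsFinite f] [FormallyUnramified f] (s : S) :
    ∃ (U : Scheme.{u}) (g : U ⟶ S) (_ : AlgebraicGeometry.Etale g) (u : U) (_ : g.base u = s)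
      (n : ℕ) (V : Fin n → Scheme.{u}) (c : ∀ j, V j ⟶ U) (_ : ∀ j, IsClosedImmersion (c j))
      (e : (∐ V) ≅ pullback f g), ∀ j, Sigma.ι V j ≫ e.hom ≫ pullback.snd f g = c j := by
  let γ := geoPt S s
  let K := {ξ : Spec (CommRingCat.of (AlgebraicClosure (S.residueField s))) ⟶ X // ξ ≫ f = γ}
  have hK : Finite K := Set.finite_coe_iff.2 ((Weighting.finite_geoFib f γ Set.univ
    ((f.finite_preimage_singleton _).inter_of_left _)).subset fun ξ hξ => ⟨hξ, trivial⟩)
  obtain ⟨V, g, hg, γ', C, c, φ, w, hγ', hc, hφ, hwφ, hwc, hd, hcov⟩ :=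
    EtSite.exists_split f γ (κ := K) (fun _ => X) (fun _ => 𝟙 X) (fun k => k.1)
      (fun _ => inferInstance) (fun k => by rw [Category.id_comp]; exact k.2)
      (fun ξ hξ => ⟨⟨ξ, hξ⟩, Category.comp_id _⟩)
      (fun k l h => Subtype.ext (by simpa using h))
  have : ∀ k, IsOpenImmersion (c k) := hc
  have hcl : ∀ k, IsClosedImmersion (c k) := fun k => by
    refine IsClosedImmersion.of_isPreimmersion _ (isOpen_compl_iff.1 ?_)
    rw [show (Set.range (c k))ᶜ = ⋃ l : {l : K // l ≠ k}, Set.range (c l.1) by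
      ext y
      simp only [Set.mem_compl_iff, Set.mem_iUnion, Subtype.exists]
      refine ⟨fun hy => ?_, fun ⟨l, hl, hy⟩ hy' => Set.disjoint_left.1 (hd hl) hy hy'⟩
      obtain ⟨l, hl⟩ := hcov y
      exact ⟨l, fun e => hy (e ▸ hl), hl⟩]
    exact isOpen_iUnion fun l => (c l.1).isOpenEmbedding.isOpen_range
  let j : ∀ k, C k ⟶ V := fun k => c k ≫ pullback.snd f g
  have hjfin : ∀ k, IsFinite (j k) := fun k => inferInstanceAs (IsFinite (c k ≫ pullback.snd f g))
  have hfu : FormallyUnramified (pullback.snd f g) :=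
    MorphismProperty.pullback_snd f g inferInstance
  have hjfu : ∀ k, FormallyUnramified (j k) := fun k =>
    MorphismProperty.comp_mem (W := @FormallyUnramified) _ _
      (have : Etale (c k) := inferInstance; (inferInstance : FormallyUnramified (c k))) hfu
  have key : ∀ k (a : Spec (CommRingCat.of (AlgebraicClosure (S.residueField s))) ⟶ C k),
      a ≫ j k = γ' → a = w k := by
    intro k a ha
    have hl : (a ≫ φ k) ≫ f = γ := by
      have : φ k = c k ≫ pullback.fst f g := (Category.comp_id _).symm.trans (hφ k)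
      rw [this, Category.assoc, Category.assoc, pullback.condition, ← hγ', ← ha]
      simp only [j, Category.assoc]
    let l : K := ⟨a ≫ φ k, hl⟩
    have e : a ≫ c k = w l ≫ c l := by
      have h1 : ∀ i, φ i = c i ≫ pullback.fst f g := fun i => (Category.comp_id _).symm.trans (hφ i)
      apply pullback.hom_ext
      · rw [Category.assoc, Category.assoc, ← h1, ← h1, hwφ l]
      · rw [Category.assoc, Category.assoc, hwc l]
        exact ha
    have hkl : k = l := by
      by_contra hne
      refine Set.disjoint_left.1 (hd hne) ⟨pt a, (pt_comp a (c k)).symm⟩ ?_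
      exact ⟨pt (w l), ((pt_comp (w l) (c l)).symm.trans (congrArg pt e.symm))⟩
    rw [← hkl] at e
    exact (cancel_mono (c k)).1 e
  choose O hO hOc using fun k => exists_isClosedImmersion (j k) γ'
    (fun a b ha hb => (key k a ha).trans (key k b hb).symm)
  cases nonempty_fintype K
  let O' : V.Opens := Finset.univ.inf O
  have hO' : ∀ k, O' ≤ O k := fun k => Finset.inf_le (Finset.mem_univ k)
  have hmem : pt γ' ∈ O' := by
    have : ∀ t : Finset K, pt γ' ∈ t.inf O := fun t => by
      classical
      induction t using Finset.induction with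
      | empty => trivial
      | @insert k t _ ih => rw [Finset.inf_insert]; exact ⟨hO k, ih⟩
    exact this _
  let n := Nat.card K
  let eK : Fin n ≃ K := (Finite.equivFin K).symm
  let W : Fin n → Scheme.{u} := fun i => (j (eK i) ⁻¹ᵁ O' : (C (eK i)).Opens)
  let a : ∀ i, W i ⟶ pullback f (O'.ι ≫ g) := fun i =>
    pullback.lift ((j (eK i) ⁻¹ᵁ O').ι ≫ c (eK i) ≫ pullback.fst f g) (j (eK i) ∣_ O') (by
      rw [morphismRestrict_ι_assoc]
      simp only [j, Category.assoc, pullback.condition])
  let ρ : pullback f (O'.ι ≫ g) ⟶ pullback f g :=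
    pullback.map f (O'.ι ≫ g) f g (𝟙 _) O'.ι (𝟙 _) (by simp) (by simp)
  have hρ : IsOpenImmersion ρ := inferInstanceAs (IsOpenImmersion (pullback.map f (O'.ι ≫ g) f g (𝟙 _) O'.ι (𝟙 _) _ _))
  have haρ : ∀ i, a i ≫ ρ = (j (eK i) ⁻¹ᵁ O').ι ≫ c (eK i) := fun i => by
    apply pullback.hom_ext
    · simp only [a, ρ, Category.assoc]
      erw [pullback.lift_fst, Category.comp_id, pullback.lift_fst]
    · simp only [a, ρ, j, Category.assoc]
      erw [pullback.lift_snd, pullback.lift_snd_assoc, morphismRestrict_ι]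
  have hao : ∀ i, IsOpenImmersion (a i) := fun i => by
    have : IsOpenImmersion (a i ≫ ρ) := by rw [haρ i]; infer_instance
    exact IsOpenImmersion.of_comp (a i) ρ
  have hrange : ∀ i z, ρ (a i z) = c (eK i) ((j (eK i) ⁻¹ᵁ O').ι z) := fun i z => by
    rw [← Scheme.Hom.comp_apply, haρ i, Scheme.Hom.comp_apply]
  have hdis : Pairwise (Function.onFun Disjoint fun i => Set.range (a i)) := fun i i' hne =>
    Set.disjoint_left.2 (by
      rintro _ ⟨z, rfl⟩ ⟨z', hz'⟩
      refine Set.disjoint_left.1 (hd (fun h => hne (eK.injective h))) ⟨_, (hrange i z).symm⟩ ?_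
      exact ⟨_, (hrange i' z').symm.trans (congrArg ρ hz')⟩)
  have hop : IsOpenImmersion (Sigma.desc a) := isOpenImmersion_sigmaDesc _ a hdis
  have hsurj : Surjective (Sigma.desc a) := ⟨fun y => by
    obtain ⟨k, z, hz⟩ := hcov (ρ y)
    obtain ⟨i, rfl⟩ := eK.surjective k
    have hzO : j (eK i) z ∈ O' := by
      have h2 : j (eK i) z = O'.ι (pullback.snd f (O'.ι ≫ g) y) := by
        simp only [j]
        rw [Scheme.Hom.comp_apply, hz, ← Scheme.Hom.comp_apply, ← Scheme.Hom.comp_apply]
        have e : ρ ≫ pullback.snd f g = pullback.snd f (O'.ι ≫ g) ≫ O'.ι := pullback.lift_snd _ _ _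
        rw [e]
      rw [h2]
      exact (pullback.snd f (O'.ι ≫ g) y).2
    refine ⟨Sigma.ι W i ⟨z, hzO⟩, ?_⟩
    rw [← Scheme.Hom.comp_apply, Sigma.ι_desc]
    apply ρ.isOpenEmbedding.injective
    rw [hrange]
    exact hz⟩
  have hiso : IsIso (Sigma.desc a) :=
    (isIso_iff_isOpenImmersion_and_surjective _).mpr ⟨hop, hsurj⟩
  refine ⟨O', O'.ι ≫ g, inferInstance, ⟨pt γ', hmem⟩, ?_, n, W, fun i => j (eK i) ∣_ O',
    fun i => hOc (eK i) O' (hO' (eK i)), asIso (Sigma.desc a), fun i => ?_⟩
  · rw [Scheme.Hom.comp_apply]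
    change g (pt γ') = s
    rw [← pt_comp, hγ']
    exact pt_geoPt S s
  · rw [asIso_hom, Sigma.ι_desc_assoc]
    exact pullback.lift_snd _ _ _

end Groth.Agent.S0096
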