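import Mathlib.AlgebraicGeometry.Morphisms.Etale
import Mathlib.AlgebraicGeometry.Morphisms.Finite
import Mathlib.AlgebraicGeometry.Morphisms.Separated
import Mathlib.AlgebraicGeometry.Morphisms.ClosedImmersion
import Mathlib.AlgebraicGeometry.ResidueField
import Mathlib.AlgebraicGeometry.Noetherian
import Groth.Prelude.Def_EtBase
import Groth.Agent.EtSite.FLCOps
-- import your own Groth.Agent.* helpers here

set_option autoImplicit false
open CategoryTheory CategoryTheory.Limits AlgebraicGeometry Opposite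
universe u

namespace Groth.Agent.S0105

/-- On a connected scheme X, a finite locally constant abelian sheaf F on the small étale site is, étale
locally, constant with one and the same finite group everywhere: there are a finite abelian group M
and an étale covering (U_i) of X such that the restriction of F to every U_i is isomorphic to the
constant sheaf with value M. (The published statement covers arbitrary locally constant sheaves of
modules; stated here for finite locally constant abelian sheaves.) -/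
theorem result {X : Scheme.{u}} [ConnectedSpace X] (F : EtCoh.Ab X) (h : EtCoh.IsFiniteLocallyConstant F) :
    ∃ (M : Type) (_ : AddCommGroup M) (_ : Finite M) (ι : Type u) (U : ι → X.Etale), EtCoh.Covers U ∧
      ∀ i, Nonempty (EtCoh.restr F (U i) ≅
        (constantSheaf (X.smallEtaleTopology.over (U i)) AddCommGrpCat.{u + 1}).obj
          (AddCommGrpCat.of (ULift.{u + 1} M))) := by
  classical
  obtain ⟨ι, U, hU, hF⟩ := h
  choose M hM hfin e using hF
  obtain ⟨x₀⟩ := (inferInstance : Nonempty X)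
  obtain ⟨i₀, y₀, hy₀⟩ := hU x₀
  let P : ι → Prop := fun i => Nonempty (M i ≃+ M i₀)
  have key : ∀ (i j : ι) (a : (U i).left) (b : (U j).left),
      (U i).hom.base a = (U j).hom.base b → Nonempty (M i ≃+ M j) := fun i j a b hab => by
    let ξ := Groth.Agent.EtSite.gpt ((U i).hom.base a)
    have hξ : ξ.base default = (U i).hom.base a := Groth.Agent.EtSite.gpt_apply _ _
    obtain ⟨s⟩ := Groth.Agent.EtSite.FLCBasic.nonempty_fiber (ξ := ξ) a hξ.symm
    obtain ⟨t⟩ := Groth.Agent.EtSite.FLCBasic.nonempty_fiber (ξ := ξ) b (hab.symm.trans hξ.symm)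
    obtain ⟨φ, hφ⟩ := Groth.Agent.EtSite.LocConst.exists_germBij_of_iso (e i).some
    obtain ⟨ψ, hψ⟩ := Groth.Agent.EtSite.LocConst.exists_germBij_of_iso (e j).some
    exact ⟨(AddEquiv.ulift.symm.trans ((AddEquiv.ofBijective _
      (Groth.Agent.EtSite.FLCOps.gm_bijective hφ ξ s)).trans (AddEquiv.ofBijective _
      (Groth.Agent.EtSite.FLCOps.gm_bijective hψ ξ t)).symm)).trans AddEquiv.ulift⟩
  let S : Set X := ⋃ i ∈ {i | P i}, Set.range (U i).hom.base
  have hS : IsOpen S := isOpen_biUnion fun i _ =>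
    (haveI : Etale (U i).hom := (U i).prop; (U i).hom.isOpenMap.isOpen_range)
  have hSc : Sᶜ = ⋃ i ∈ {i | ¬ P i}, Set.range (U i).hom.base := by
    ext x
    simp only [S, Set.mem_compl_iff, Set.mem_iUnion, Set.mem_range, Set.mem_setOf_eq]
    constructor
    · intro hx
      obtain ⟨i, y, hy⟩ := hU x
      exact ⟨i, fun hi => hx ⟨i, hi, y, hy⟩, y, hy⟩
    · rintro ⟨i, hi, a, ha⟩ ⟨j, hj, b, hb⟩
      exact hi ⟨(key i j a b (ha.trans hb.symm)).some.trans hj.some⟩
  have hcl : IsClopen S := ⟨isOpen_compl_iff.1 (hSc ▸ isOpen_biUnion fun i _ =>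
    (haveI : Etale (U i).hom := (U i).prop; (U i).hom.isOpenMap.isOpen_range)), hS⟩
  have huniv : S = Set.univ := hcl.eq_univ
    ⟨x₀, Set.mem_biUnion (x := i₀) (by exact ⟨AddEquiv.refl _⟩) ⟨y₀, hy₀⟩⟩
  refine ⟨M i₀, hM i₀, hfin i₀, {i // P i}, fun i => U i.1, fun x => ?_, fun i => ?_⟩
  · obtain ⟨i, hi, y, hy⟩ := Set.mem_iUnion₂.1 (huniv.ge (Set.mem_univ x))
    exact ⟨⟨i, hi⟩, y, hy⟩
  · exact ⟨(e i.1).some ≪≫ (constantSheaf _ _).mapIso
      (AddEquiv.toAddCommGrpIso ((AddEquiv.ulift.trans i.2.some).trans AddEquiv.ulift.symm))⟩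

end Groth.Agent.S0105
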