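import Mathlib.AlgebraicGeometry.Morphisms.Etale
import Mathlib.AlgebraicGeometry.Morphisms.Finite
import Mathlib.AlgebraicGeometry.Morphisms.Separated
import Mathlib.AlgebraicGeometry.Morphisms.ClosedImmersion
import Mathlib.AlgebraicGeometry.ResidueField
import Mathlib.AlgebraicGeometry.Noetherian
import Groth.Prelude.Def_EtBase
import Groth.Prelude.Def_EtGm
import Groth.Agent.EtSite.Points
import Mathlib.RingTheory.Etale.StandardEtale
import Mathlib.AlgebraicGeometry.Morphisms.Etale
import Mathlib.FieldTheory.IsAlgClosed.AlgebraicClosure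
-- import your own Groth.Agent.* helpers here

set_option autoImplicit false
open CategoryTheory CategoryTheory.Limits AlgebraicGeometry Opposite
universe u
open Polynomial in
/-- The standard étale pair `(T^n - a, 1)` for `n` and `a` invertible. -/
noncomputable def kummerPair {B : Type u} [CommRing B] {n : ℕ} (hn0 : n ≠ 0) (hn : IsUnit (n : B)) (a : Bˣ) :
    StandardEtalePair B where
  f := X ^ n - C (a : B)
  monic_f := monic_X_pow_sub_C _ hn0
  g := 1
  cond := ⟨C (↑(hn.unit⁻¹) * ↑a⁻¹) * X, -C ↑a⁻¹, 0, by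
    obtain ⟨m, rfl⟩ := Nat.exists_eq_succ_of_ne_zero hn0
    have h1 : ((m + 1 : ℕ) : B) * ↑(hn.unit⁻¹) = 1 := hn.mul_val_inv
    have h2 : (C (a : B)) * C (↑a⁻¹ : B) = 1 := by rw [← map_mul, Units.mul_inv, map_one]
    have h3 : C ((m + 1 : ℕ) : B) * C (↑(hn.unit⁻¹) : B) = 1 := by rw [← map_mul, h1, map_one]
    rw [derivative_sub, derivative_C, sub_zero, derivative_X_pow]
    simp only [Nat.succ_eq_add_one, Nat.add_sub_cancel]
    simp only [map_mul, pow_zero, pow_succ]
    linear_combination (X ^ m * X * C (↑a⁻¹ : B)) * h3 + h2⟩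


namespace Groth.Agent.S0108

/-- The Kummer sequence — when n is invertible on S, the n-th power map on the multiplicative group
sheaf is an epimorphism of étale sheaves (its kernel μ_n is, by definition in the prelude, the sheaf
of n-th roots of unity, so the sequence 0 → μ_n → G_m → G_m → 0 is exact). -/
theorem result (S : Scheme.{u}) (n : ℕ) (hn : IsUnit (n : Γ(S, ⊤))) : Epi (EtCoh.powMap S n) := by
  have : Presheaf.IsLocallySurjective S.smallEtaleTopology (EtCoh.powMap S n).hom := by
    refine ⟨fun {U} s => EtSite.mem_smallEtaleTopology_of_points U _ fun x => ?_⟩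
    obtain ⟨W, hW, hxW, -⟩ := exists_isAffineOpen_mem_and_subset (U := (⊤ : U.left.Opens)) (x := x) trivial
    have : IsAffine W := hW
    let B := Γ((W : Scheme.{u}), ⊤)
    let k : Spec B ⟶ U.left := (W : Scheme.{u}).isoSpec.inv ≫ W.ι
    let ρ : Γ(U.left, ⊤) →+* B := ((Scheme.ΓSpecIso B).hom.hom).comp k.appTop.hom
    have hnB : IsUnit (n : B) := by
      have := hn.map (ρ.comp U.hom.appTop.hom)
      rwa [map_natCast] at this
    let z : W := ⟨x, hxW⟩
    let p : PrimeSpectrum B := (W : Scheme.{u}).isoSpec.hom z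
    have hn0 : n ≠ 0 := fun h => p.2.ne_top ((Ideal.eq_top_iff_one _).2 (by
      have := hnB
      rw [h, Nat.cast_zero, isUnit_zero_iff] at this
      exact this ▸ p.asIdeal.zero_mem))
    let a0 : Γ(U.left, ⊤)ˣ := Additive.toMul (ULift.down s)
    let a : Bˣ := Units.map ρ.toMonoidHom a0
    let P := kummerPair hn0 hnB a
    let φ : B →+* P.Ring := algebraMap B P.Ring
    have hroot : P.X ^ n = φ a := by
      have h := P.hasMap_X.1
      rw [show P.f = Polynomial.X ^ n - Polynomial.C (a : B) from rfl, map_sub, map_pow,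
        Polynomial.aeval_X, Polynomial.aeval_C, sub_eq_zero] at h
      exact h
    let r : P.Ringˣ := IsUnit.unit (a := P.X)
      ((isUnit_pow_iff hn0).1 (hroot ▸ a.isUnit.map φ))
    let g : Spec (CommRingCat.of P.Ring) ⟶ U.left := Spec.map (CommRingCat.ofHom φ) ≫ k
    have : Etale (Spec.map (CommRingCat.ofHom φ)) :=
      (HasRingHomProperty.Spec_iff (P := @Etale)).2 (RingHom.etale_algebraMap.2 inferInstance)
    have : Etale g := inferInstanceAs (Etale (Spec.map (CommRingCat.ofHom φ) ≫ _ ≫ W.ι))
    have : Etale U.hom := U.prop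
    -- a point over `x`
    let K := AlgebraicClosure p.asIdeal.ResidueField
    obtain ⟨x0, hx0⟩ := IsAlgClosed.exists_pow_nat_eq (algebraMap B K a) (Nat.pos_of_ne_zero hn0)
    have hmap : P.HasMap x0 := by
      refine ⟨?_, ?_⟩
      · rw [show P.f = Polynomial.X ^ n - Polynomial.C (a : B) from rfl, map_sub, map_pow,
          Polynomial.aeval_X, Polynomial.aeval_C, hx0, sub_self]
      · rw [show P.g = 1 from rfl, map_one]
        exact isUnit_one
    let q : PrimeSpectrum P.Ring := ⟨RingHom.ker (P.lift x0 hmap).toRingHom, RingHom.ker_isPrime _⟩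
    have hq : (Spec.map (CommRingCat.ofHom φ)) q = p := PrimeSpectrum.ext (by
      show Ideal.comap φ (RingHom.ker (P.lift x0 hmap).toRingHom) = p.asIdeal
      rw [RingHom.comap_ker, show (P.lift x0 hmap).toRingHom.comp φ = algebraMap B K from
        (P.lift x0 hmap).comp_algebraMap, IsScalarTower.algebraMap_eq B p.asIdeal.ResidueField K,
        RingHom.ker_comp_of_injective _ (algebraMap p.asIdeal.ResidueField K).injective,
        Ideal.ker_algebraMap_residueField])
    let V : S.Etale := Scheme.Etale.mk (g ≫ U.hom)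
    let π : V ⟶ U := MorphismProperty.Over.homMk g rfl
    refine ⟨V, π, q, ⟨ULift.up (Additive.ofMul
      (Units.map (Scheme.ΓSpecIso (CommRingCat.of P.Ring)).inv.hom.toMonoidHom r)), ?_⟩, ?_⟩
    · have e : ∀ t, (EtCoh.powMap S n).hom.app (op V) t = n • t := fun t => by
        show (((sheafToPresheaf _ _).map (n • 𝟙 (EtCoh.Gm S))).app (op V)) t = n • t
        rw [Functor.map_nsmul]
        rfl
      refine (e _).trans (ULift.ext _ _ (congrArg Additive.ofMul (Units.ext ?_)))
      show ((Scheme.ΓSpecIso (CommRingCat.of P.Ring)).inv.hom P.X) ^ n = g.appTop a0.1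
      rw [← map_pow, hroot, Scheme.Hom.comp_appTop, CommRingCat.comp_apply,
        show (Spec.map (CommRingCat.ofHom φ)).appTop = (Scheme.ΓSpecIso B).hom ≫ CommRingCat.ofHom φ ≫
          (Scheme.ΓSpecIso (CommRingCat.of P.Ring)).inv by
        rw [← Scheme.ΓSpecIso_naturality_assoc, Iso.hom_inv_id, Category.comp_id]
        rfl]
      rfl
    · show g q = x
      rw [show g q = k ((Spec.map (CommRingCat.ofHom φ)) q) from Scheme.Hom.comp_apply _ _ _, hq]
      show ((W : Scheme.{u}).isoSpec.inv ≫ W.ι) ((W : Scheme.{u}).isoSpec.hom z) = x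
      rw [← Scheme.Hom.comp_apply, Iso.hom_inv_id_assoc]
      rfl
  have : Sheaf.IsLocallySurjective (EtCoh.powMap S n) := this
  infer_instance

end Groth.Agent.S0108
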