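import Groth.Statements.S0116
import Groth.Agent.SourceDescent.Basic
-- import your own Groth.Agent.* helpers here

set_option autoImplicit false
set_option backward.isDefEq.respectTransparency.types false
open CategoryTheory CategoryTheory.Limits AlgebraicGeometry Opposite
universe u
open EtBase

namespace Groth.Agent.S0116

/-- If f : X → Y is surjective, flat and locally of finite presentation and X is locally Noetherian,
then Y is locally Noetherian. (This is the descent half of the statement that, for such f, X is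
locally Noetherian if and only if Y is; the ascent half is the fact that a scheme locally of finite
type over a locally Noetherian scheme is locally Noetherian, and is not stated here.) -/
theorem result {X Y : Scheme.{u}} (f : X ⟶ Y) [Surjective f] [Flat f] [LocallyOfFinitePresentation f]
    [IsLocallyNoetherian X] : IsLocallyNoetherian Y := by
  have key : ∀ {B C : CommRingCat.{u}} (ψ : B ⟶ C), ψ.hom.FaithfullyFlat → IsNoetherianRing C → IsNoetherianRing B := by
    intro B C ψ hψ hC
    algebraize [ψ.hom]
    exact (isNoetherianRing_iff_ideal_fg _).2 fun I =>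
      Ideal.FG.of_FG_map_of_faithfullyFlat (S := C) (IsNoetherian.noetherian _)
  wlog hY : IsAffine Y generalizing X Y
  · rw [isLocallyNoetherian_iff_openCover Y.affineCover]
    intro i
    have hs : Surjective (pullback.snd f (Y.affineCover.f i)) :=
      MorphismProperty.pullback_snd (P := @Surjective) _ _ ‹_›
    have ho : IsOpenImmersion (pullback.fst f (Y.affineCover.f i)) :=
      MorphismProperty.pullback_fst (P := @IsOpenImmersion) _ _ (Y.affineCover.map_prop i)
    have hX : IsLocallyNoetherian (pullback f (Y.affineCover.f i)) :=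
      @isLocallyNoetherian_of_isOpenImmersion _ X (pullback.fst f (Y.affineCover.f i)) ho ‹_›
    exact this (pullback.snd f (Y.affineCover.f i)) inferInstance
  obtain ⟨W : X.Opens, hW, e⟩ := f.isOpenMap.exists_opens_image_eq_of_prespectralSpace
      f.continuous (U := Set.univ) (fun y _ => f.surjective y) isOpen_univ isCompact_univ
  have hWc : CompactSpace W := isCompact_iff_compactSpace.mp hW
  let 𝒰 := (W : Scheme.{u}).affineCover.finiteSubcover
  let p : ∐ (fun i : 𝒰.I₀ ↦ 𝒰.X i) ⟶ X := Sigma.desc (fun i ↦ 𝒰.f i ≫ W.ι)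
  have hk : ∀ i, Sigma.ι (fun i ↦ 𝒰.X i) i ≫ p = 𝒰.f i ≫ W.ι := fun i => Sigma.ι_desc _ _
  have hp : Flat p := by
    rw [IsZariskiLocalAtSource.iff_of_openCover (P := @Flat) (sigmaOpenCover _)]
    intro i
    show Flat (Sigma.ι (fun i ↦ 𝒰.X i) i ≫ p)
    rw [hk]
    infer_instance
  have hpn : IsLocallyNoetherian (∐ (fun i : 𝒰.I₀ ↦ 𝒰.X i)) := by
    rw [isLocallyNoetherian_iff_openCover (sigmaOpenCover _)]
    intro i
    have : IsOpenImmersion (𝒰.f i) := 𝒰.map_prop i
    exact @isLocallyNoetherian_of_isOpenImmersion _ X (𝒰.f i ≫ W.ι)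
      (MorphismProperty.comp_mem @IsOpenImmersion _ _ ‹_› inferInstance) ‹_›
  have hpf : Surjective (p ≫ f) := ⟨fun y => by
    obtain ⟨x, hx, rfl⟩ := e.ge (Set.mem_univ y)
    obtain ⟨i, a, ha⟩ := 𝒰.exists_eq ⟨x, hx⟩
    refine ⟨Sigma.ι (fun i ↦ 𝒰.X i) i a, ?_⟩
    rw [← Scheme.Hom.comp_apply, ← Category.assoc, hk, Category.assoc]
    exact congrArg f (congrArg Subtype.val ha)⟩
  have hff := (Flat.flat_and_surjective_iff_faithfullyFlat_of_isAffine (f := p ≫ f)).1 ⟨inferInstance, hpf⟩
  have hC : IsNoetherianRing Γ(∐ (fun i : 𝒰.I₀ ↦ 𝒰.X i), ⊤) :=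
    IsLocallyNoetherian.component_noetherian ⟨⊤, isAffineOpen_top _⟩
  have := key _ hff hC
  exact isLocallyNoetherian_iff_of_iSup_eq_top (S := fun _ : PUnit.{u+1} => (⟨⊤, isAffineOpen_top Y⟩ : Y.affineOpens))
    (by simp) |>.2 fun _ => this

end Groth.Agent.S0116
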