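import Groth.Prelude.Def_EtBase
import Groth.Agent.EtSite.ColimCohom
import Groth.Agent.EtSite.Torsion
-- import your own Groth.Agent.* helpers here

set_option autoImplicit false
universe u
open CategoryTheory CategoryTheory.Limits AlgebraicGeometry Opposite
open EtPBC

namespace Groth.Agent.S0124

/-- Part (1): if X is quasi-compact and quasi-separated and F is a torsion abelian sheaf on X_et, then
H^n(X_et, F) is a torsion abelian group for every n. -/
theorem result (X : Scheme.{u}) [CompactSpace X] [QuasiSeparatedSpace X]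
    (F : EtCoh.Ab X) (hF : EtCoh.IsTorsion F) (n : ℕ) :
    IsAddTorsion (EtCoh.H X F n) := by
  intro x
  obtain ⟨J, _, _, D, c, hc, hD, ⟨e⟩⟩ := Groth.Agent.EtSite.Torsion.exists_filtered_colimit F hF
  obtain ⟨j, y, hy⟩ := Groth.Agent.EtSite.ColimCohom.exists_lift_H hc n ((EtCoh.HF X n).map e.inv x)
  obtain ⟨m, hm, hk⟩ := Groth.Agent.EtSite.Compact.exists_killed (D.obj j) (hD j)
  have h0 : m • (𝟙 (D.obj j)) = 0 := (Groth.Agent.EtSite.Present.killedBy_iff (D.obj j) m).1 hk
  let x' : Abelian.Ext _ F n := x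
  let y' : Abelian.Ext _ (D.obj j) n := y
  have hx : y'.comp (Abelian.Ext.mk₀ (c.ι.app j)) (add_zero n) =
      x'.comp (Abelian.Ext.mk₀ e.inv) (add_zero n) := hy
  have hx' : y'.comp (Abelian.Ext.mk₀ (c.ι.app j ≫ e.hom)) (add_zero n) = x' := by
    rw [← Abelian.Ext.mk₀_comp_mk₀, ← Abelian.Ext.comp_assoc_of_second_deg_zero, hx,
      Abelian.Ext.comp_assoc_of_second_deg_zero, Abelian.Ext.mk₀_comp_mk₀, Iso.inv_hom_id,
      Abelian.Ext.comp_mk₀_id]
  have key : ∀ {A : EtCoh.Ab X} (z : Abelian.Ext A (D.obj j) n), m • z = 0 := fun {A} z => by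
    have h5 : ∀ k : ℕ, z.comp (Abelian.Ext.mk₀ (k • 𝟙 (D.obj j))) (add_zero n) = k • z := fun k => by
      induction k with
      | zero => rw [zero_smul, zero_smul, Abelian.Ext.mk₀_zero, Abelian.Ext.comp_zero]
      | succ k ih => rw [succ_nsmul, succ_nsmul, Abelian.Ext.mk₀_add, Abelian.Ext.comp_add, ih,
          Abelian.Ext.comp_mk₀_id]
    rw [← h5, h0, Abelian.Ext.mk₀_zero, Abelian.Ext.comp_zero]
  refine isOfFinAddOrder_iff_nsmul_eq_zero.2 ⟨m, hm, ?_⟩
  change m • x' = 0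
  rw [← hx']
  have h4 := congrArg ((Abelian.Ext.mk₀ (c.ι.app j ≫ e.hom)).postcomp _ (add_zero n)) (key y')
  rw [map_nsmul, map_zero] at h4
  exact h4

end Groth.Agent.S0124
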