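import Groth.Statements.S0152
import Groth.Agent.WLocalLib.Retract

set_option autoImplicit false
universe u
open EtPBC

namespace Groth.Agent.S0152

/-- Let X be a spectral space and Z a closed subset such that Z meets the closure of every point of X in
a connected (nonempty) set. If Z is the disjoint union of two closed subsets Z_1, Z_2 then X is the
disjoint union of closed subsets X_1, X_2 with Z_i = Z ∩ X_i. -/
theorem result (X : Type u) [TopologicalSpace X] [SpectralSpace X]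
    (Z : Set X) (hZ : IsClosed Z)
    (hconn : ∀ x : X, IsConnected (Z ∩ closure {x}))
    (Z₁ Z₂ : Set X) (h₁ : IsClosed Z₁) (h₂ : IsClosed Z₂) (hdisj : Disjoint Z₁ Z₂) (hunion : Z₁ ∪ Z₂ = Z) :
    ∃ X₁ X₂ : Set X, IsClosed X₁ ∧ IsClosed X₂ ∧ Disjoint X₁ X₂ ∧ X₁ ∪ X₂ = Set.univ ∧
      Z₁ = Z ∩ X₁ ∧ Z₂ = Z ∩ X₂ := by
  have hcons : ∀ C : Set X, IsClosed C → @IsClosed X (constructibleTopology X) {x : X | ∃ c ∈ C, x ⤳ c} :=
    fun C hC => Groth.Agent.WLocalLib.isClosed_cons_generalizations hC.isCompact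
  have hZ₁ : Z₁ ⊆ Z := hunion ▸ Set.subset_union_left
  have hZ₂ : Z₂ ⊆ Z := hunion ▸ Set.subset_union_right
  have hnot : ∀ x : X, ∀ a ∈ Z₁, ∀ b ∈ Z₂, x ⤳ a → x ⤳ b → False := by
    intro x a ha b hb hxa hxb
    obtain ⟨z, -, hz1, hz2⟩ := isPreconnected_closed_iff.1 (hconn x).isPreconnected Z₁ Z₂ h₁ h₂
      (fun y hy => hunion.symm ▸ hy.1) ⟨a, ⟨hZ₁ ha, hxa.mem_closure⟩, ha⟩ ⟨b, ⟨hZ₂ hb, hxb.mem_closure⟩, hb⟩
    exact Set.disjoint_left.1 hdisj hz1 hz2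
  have hcov : ∀ x : X, (∃ c ∈ Z₁, x ⤳ c) ∨ ∃ c ∈ Z₂, x ⤳ c := fun x => by
    obtain ⟨z, hzZ, hz⟩ := (hconn x).nonempty
    rw [← hunion] at hzZ
    have := specializes_iff_mem_closure.2 hz
    exact hzZ.imp (fun h => ⟨z, h, this⟩) fun h => ⟨z, h, this⟩
  refine ⟨{x | ∃ c ∈ Z₁, x ⤳ c}, {x | ∃ c ∈ Z₂, x ⤳ c},
    Groth.Agent.SpecSp.isClosed_of_stableUnderSpecialization (hcons _ h₁) ?_,
    Groth.Agent.SpecSp.isClosed_of_stableUnderSpecialization (hcons _ h₂) ?_,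
    Set.disjoint_left.2 fun x ⟨a, ha, hxa⟩ ⟨b, hb, hxb⟩ => hnot x a ha b hb hxa hxb,
    Set.eq_univ_of_forall fun x => hcov x, ?_, ?_⟩
  · rintro x y hxy ⟨a, ha, hxa⟩
    exact (hcov y).elim id fun ⟨b, hb, hyb⟩ => (hnot x a ha b hb hxa (hxy.trans hyb)).elim
  · rintro x y hxy ⟨b, hb, hxb⟩
    exact (hcov y).elim (fun ⟨a, ha, hya⟩ => (hnot x a ha b hb (hxy.trans hya) hxb).elim) id
  · refine Set.Subset.antisymm (fun z hz => ⟨hZ₁ hz, z, hz, specializes_rfl⟩) ?_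
    rintro z ⟨hz, a, ha, hza⟩
    rw [← hunion] at hz
    exact hz.elim id fun hz => (hnot z a ha z hz hza specializes_rfl).elim
  · refine Set.Subset.antisymm (fun z hz => ⟨hZ₂ hz, z, hz, specializes_rfl⟩) ?_
    rintro z ⟨hz, b, hb, hzb⟩
    rw [← hunion] at hz
    exact hz.elim (fun hz => (hnot z z hz b hb specializes_rfl hzb).elim) id

end Groth.Agent.S0152
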