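import Groth.Prelude.Def_PBC
import Groth.Agent.EtSite.BaseChangeStalk
import Groth.Agent.EtSite.RightExact
-- import your own Groth.Agent.* helpers here

set_option autoImplicit false
universe u
open CategoryTheory CategoryTheory.Limits AlgebraicGeometry Opposite

namespace Groth.Agent.S0161

/-- For a finite morphism f : X -> Y, cohomology commutes with base change: for every cartesian square
and torsion abelian F on X_et and every q, g^* R^q f_* F ≅ R^q f'_* g'^* F (abstract-isomorphism
form). -/
theorem result {X Y : Scheme.{u}} (f : X ⟶ Y) [IsFinite f] [EtCoh.BCCont f] :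
    EtPBC.CohCommutesWithBC f := by
  intro X' Y' f' g' g _ _ _ h F _ q
  have : IsFinite f' := MorphismProperty.of_isPullback h inferInstance
  have := EtSite.push_preservesEpimorphisms_of_isFinite f
  have := EtSite.push_preservesEpimorphisms_of_isFinite f'
  have := EtSite.push_preservesFiniteLimits f
  have := EtSite.push_preservesFiniteLimits f'
  rcases Nat.eq_zero_or_pos q with rfl | hq
  · have : IsIso (EtCoh.baseChange0 f g f' g' h.w F) := EtSite.isIso_of_exists_stalk _ fun y => by
      obtain ⟨η, hη⟩ := EtSite.exists_algClosed_pt (Y := Y') y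
      exact ⟨_, inferInstance, inferInstance, η, hη,
        EtSite.isIso_stalk_baseChange0_of_finite f g f' g' h η F⟩
    exact ⟨(EtCoh.pull g).mapIso ((EtCoh.push f).rightDerivedZeroIsoSelf.app F) ≪≫
      asIso (EtCoh.baseChange0 f g f' g' h.w F) ≪≫
        ((EtCoh.push f').rightDerivedZeroIsoSelf.app ((EtCoh.pull g').obj F)).symm⟩
  · exact ⟨((EtCoh.pull g).map_isZero (EtSite.isZero_Rpush_of_epi f F q hq)).iso
      (EtSite.isZero_Rpush_of_epi f' _ q hq)⟩

end Groth.Agent.S0161
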