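import Groth.Prelude.Def_EtBase
import Mathlib.AlgebraicGeometry.Morphisms.QuasiFinite
import Groth.Agent.EtSite.QuasiFiniteSplit
-- import your own Groth.Agent.* helpers here

set_option autoImplicit false
universe u
open CategoryTheory CategoryTheory.Limits AlgebraicGeometry Opposite

namespace Groth.Agent.S0170

/-- For f : Y -> X quasi-finite and of finite presentation with X and Y affine, one can find an affine
X' mapping onto X such that the base change Y' = X' x_X Y contains a closed subscheme Z' with the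
same underlying space (a thickening) for which the composite Z' -> Y' -> X' is finite etale. -/
theorem result {Y X : Scheme.{u}} [IsAffine X] [IsAffine Y] (f : Y ⟶ X)
    [LocallyQuasiFinite f] [LocallyOfFinitePresentation f] :
    ∃ (X' : Scheme.{u}) (_ : IsAffine X') (a : X' ⟶ X) (_ : Surjective a) (Z' : Scheme.{u})
      (c : Z' ⟶ pullback a f) (_ : IsClosedImmersion c) (_ : Surjective c),
      IsFinite (c ≫ pullback.fst a f) ∧ Etale (c ≫ pullback.fst a f) := by
  algebraize [f.appTop.hom]
  have : Algebra.QuasiFinite Γ(X, ⊤) Γ(Y, ⊤) :=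
    HasRingHomProperty.appTop (P := @LocallyQuasiFinite) f ‹_›
  have : Algebra.FinitePresentation Γ(X, ⊤) Γ(Y, ⊤) :=
    HasRingHomProperty.appTop (P := @LocallyOfFinitePresentation) f ‹_›
  obtain ⟨C, _, _, Φ, hfin, het, hsurj, hnil⟩ :=
    Groth.Agent.EtSite.QuasiFiniteSplit.exists_split Γ(X, ⊤) Γ(Y, ⊤)
  let R := Groth.Agent.EtSite.QuasiFiniteSplit.R Γ(X, ⊤)
  let α := CommRingCat.ofHom (algebraMap Γ(X, ⊤) R)
  let β := CommRingCat.ofHom (algebraMap Γ(X, ⊤) Γ(Y, ⊤))
  let a : Spec (.of R) ⟶ X := Spec.map α ≫ X.isoSpec.inv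
  let e : pullback a f ⟶ pullback (Spec.map α) (Spec.map β) :=
    pullback.map a f (Spec.map α) (Spec.map β) (𝟙 _) Y.isoSpec.hom X.isoSpec.hom
      (by simp [a]) (Scheme.isoSpec_hom_naturality f).symm
  let Z : Scheme.{u} := Spec (.of C)
  let c : Z ⟶ pullback a f := Spec.map (CommRingCat.ofHom Φ.toRingHom) ≫
    (pullbackSpecIso Γ(X, ⊤) R Γ(Y, ⊤)).inv ≫ inv e
  have h1 : IsClosedImmersion (Spec.map (CommRingCat.ofHom Φ.toRingHom)) :=
    IsClosedImmersion.spec_of_surjective _ hsurj
  have h2 : Surjective (Spec.map (CommRingCat.ofHom Φ.toRingHom)) := by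
    refine ⟨fun q => ?_⟩
    have : Set.range (PrimeSpectrum.comap Φ.toRingHom) = Set.univ := by
      rw [_root_.range_comap_of_surjective _ _ hsurj, PrimeSpectrum.zeroLocus_eq_univ_iff]
      exact fun z hz => mem_nilradical.2 (hnil z hz)
    exact this.ge (Set.mem_univ q)
  have hc : c ≫ pullback.fst a f = Spec.map (CommRingCat.ofHom (algebraMap R C)) := by
    have he : inv e ≫ pullback.fst a f = pullback.fst (Spec.map α) (Spec.map β) := by
      rw [IsIso.inv_comp_eq]; exact ((pullback.lift_fst _ _ _).trans (Category.comp_id _)).symm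
    simp only [c, Category.assoc, he]
    rw [show (pullbackSpecIso Γ(X, ⊤) R Γ(Y, ⊤)).inv ≫ pullback.fst (Spec.map α) (Spec.map β) = _ from
      pullbackSpecIso_inv_fst .., ← Spec.map_comp]
    congr 1
    ext r
    exact Φ.commutes r
  refine ⟨Spec (.of R), inferInstance, a, ?_, Z, c, inferInstance, inferInstance, ?_, ?_⟩
  · have : Surjective (Spec.map α) :=
      ⟨Groth.Agent.EtSite.QuasiFiniteSplit.comap_R_surjective Γ(X, ⊤)⟩
    infer_instance
  · rw [hc, IsFinite.SpecMap_iff]
    exact RingHom.finite_algebraMap.2 hfin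
  · rw [hc, HasRingHomProperty.Spec_iff (P := @Etale)]
    exact RingHom.etale_algebraMap.2 het

end Groth.Agent.S0170
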