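import Groth.Statements.S0175
import Groth.Agent.EtMV.Complement

set_option autoImplicit false
set_option linter.style.haveILetI false
universe u
open CategoryTheory CategoryTheory.Limits AlgebraicGeometry Opposite
open EtPBC

namespace Groth.Agent.S0175

/-- Let i : Z → X be a closed immersion of schemes with open complement j : U → X, and I an injective
abelian sheaf on X_ét. Then the subsheaf H_Z(I) of sections supported on Z (the kernel of I → j_*
j^* I), viewed on Z_ét via i^*, is an injective abelian sheaf on Z_ét. -/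
theorem result {Z X U : Scheme.{u}} (i : Z ⟶ X) [IsClosedImmersion i]
    (j : U ⟶ X) [IsOpenImmersion j] (hZU : Set.range j = (Set.range i)ᶜ)
    [EtCoh.BCCont i] [EtCoh.BCCont j] (I : EtCoh.Ab X) [Injective I] :
    Injective ((EtCoh.pull i).obj (kernel ((EtCoh.pullPushAdj j).unit.app I))) := by
  let K := kernel ((EtCoh.pullPushAdj j).unit.app I)
  haveI hff := Groth.Agent.EtSite.push_full_faithful_closedImmersion i
  haveI := hff.1
  haveI := hff.2
  have hz : ∀ {Ω : Type u} [Field Ω] [IsSepClosed Ω] (ξ : Spec (CommRingCat.of Ω) ⟶ X),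
      ξ.base default ∈ Set.range j.base → ∀ (G : EtCoh.Ab Z),
        IsZero ((EtCoh.stalk ξ).obj ((EtCoh.push i).obj G)) := fun ξ hp G => by
    refine Groth.Agent.EtSite.isZero_stalk_push_outside i G ξ (Set.disjoint_left.2 ?_)
    rintro _ ⟨p, rfl⟩
    rw [Subsingleton.elim p default]
    rw [hZU] at hp
    exact hp
  obtain ⟨w, hS⟩ := Groth.Agent.EtMV.complement_shortExact j i hZU K
  have hk : Groth.Agent.EtMV.kS j K = 0 := by
    refine Groth.Agent.EtMV.eq_zero_of_stalks _ fun Ω _ _ ξ => ?_
    by_cases hp : ξ.base default ∈ Set.range j.base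
    · have hsK : IsZero ((EtCoh.stalk ξ).obj K) := by
        haveI : Mono ((EtCoh.stalk ξ).map (kernel.ι ((EtCoh.pullPushAdj j).unit.app I))) := inferInstance
        have hu : Mono ((EtCoh.stalk ξ).map ((EtCoh.pullPushAdj j).unit.app I)) := by
          obtain ⟨ζ, rfl⟩ : ∃ ζ : Spec (CommRingCat.of Ω) ⟶ U, ζ ≫ j = ξ := by
            have hr : Set.range ξ.base ⊆ Set.range j.base := by
              rintro _ ⟨p, rfl⟩
              rwa [Subsingleton.elim p default]
            exact ⟨IsOpenImmersion.lift j ξ hr, IsOpenImmersion.lift_fac j ξ hr⟩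
          exact (AddCommGrpCat.mono_iff_injective _).2 (Groth.Agent.EtSite.stalk_unit_injective j ζ I)
        have e : (EtCoh.stalk ξ).map (kernel.ι ((EtCoh.pullPushAdj j).unit.app I)) = 0 := by
          rw [← cancel_mono ((EtCoh.stalk ξ).map ((EtCoh.pullPushAdj j).unit.app I)), ← Functor.map_comp,
            kernel.condition, Functor.map_zero, zero_comp]
        exact IsZero.of_mono_eq_zero _ e
      exact hsK.eq_of_tgt _ _
    · exact (Groth.Agent.EtMV.isZero_stalk_shriek j K ξ hp).eq_of_src _ _
  haveI : Mono ((EtCoh.pullPushAdj i).unit.app K) :=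
    (ShortComplex.exact_iff_mono _ hk).1 hS.exact
  haveI : Epi ((EtCoh.pullPushAdj i).unit.app K) := hS.epi_g
  haveI : IsIso ((EtCoh.pullPushAdj i).unit.app K) := isIso_of_mono_of_epi _
  constructor
  intro A B g a ha
  haveI := ha
  haveI : PreservesLimitsOfSize.{0, 0} (EtCoh.push i) := (EtCoh.pullPushAdj i).rightAdjoint_preservesLimits
  haveI : Mono ((EtCoh.push i).map a) := inferInstance
  let g' := (EtCoh.push i).map g ≫ inv ((EtCoh.pullPushAdj i).unit.app K)
  obtain ⟨e, he⟩ : ∃ e, (EtCoh.push i).map a ≫ e = g' ≫ kernel.ι _ :=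
    ⟨Injective.factorThru (g' ≫ kernel.ι _) _, Injective.comp_factorThru _ _⟩
  have he0 : e ≫ (EtCoh.pullPushAdj j).unit.app I = 0 := by
    have hB : IsZero ((EtCoh.pull j).obj ((EtCoh.push i).obj B)) :=
      Groth.Agent.EtSite.isZero_of_stalks _ fun Ω _ _ ζ =>
        IsZero.of_iso (hz (ζ ≫ j) ⟨ζ.base default, rfl⟩ B)
          ((Groth.Agent.EtSite.stalkPullIso j ζ).app _).symm
    exact ((EtCoh.pullPushAdj j).homEquiv _ _).symm.injective (hB.eq_of_src _ _)
  obtain ⟨h', hh'⟩ := (EtCoh.push i).map_surjective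
    (kernel.lift _ e he0 ≫ (EtCoh.pullPushAdj i).unit.app K)
  refine ⟨h', (EtCoh.push i).map_injective ?_⟩
  rw [Functor.map_comp, hh', ← Category.assoc]
  have : (EtCoh.push i).map a ≫ kernel.lift _ e he0 = g' := by
    rw [← cancel_mono (kernel.ι ((EtCoh.pullPushAdj j).unit.app I)), Category.assoc, kernel.lift_ι, he]
  rw [this]
  simp [g']

end Groth.Agent.S0175
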