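import Groth.Statements.S0179
import Groth.Agent.S7566
import Mathlib.Order.Disjointed

set_option autoImplicit false
universe u
open EtPBC

namespace Groth.Agent.S0179

/-- For a spectral space X with set of closed points X_0, the following are equivalent: (1) any open
cover of X admits a refinement by finitely many pairwise disjoint open-and-closed pieces; (2) the
map from X_0 to the space of connected components pi_0(X) is a bijection. -/
theorem result (X : Type u) [TopologicalSpace X] [SpectralSpace X] :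
    (∀ (ι : Type u) (U : ι → Set X), (∀ i, IsOpen (U i)) → (⋃ i, U i) = Set.univ →
      ∃ (n : ℕ) (V : Fin n → Set X), (∀ k, IsClopen (V k)) ∧
        Pairwise (fun k l => Disjoint (V k) (V l)) ∧ (⋃ k, V k) = Set.univ ∧ ∀ k, ∃ i, V k ⊆ U i) ↔
    Function.Bijective (fun x : {x : X // IsClosed ({x} : Set X)} => _root_.ConnectedComponents.mk x.1) := by
  classical
  constructor
  · intro h
    refine ⟨fun ⟨x, hx⟩ ⟨y, hy⟩ hxy => ?_, fun c => ?_⟩
    · by_contra hne
      have hne' : x ≠ y := fun h => hne (Subtype.ext h)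
      let U : ULift.{u} Bool → Set X := fun b => if b.down then {x}ᶜ else {y}ᶜ
      obtain ⟨n, V, hV, -, hcov, href⟩ := h (ULift.{u} Bool) U
        (fun b => by cases b.down <;> simp [U, *] <;> first | exact hx.isOpen_compl | exact hy.isOpen_compl | skip
                     all_goals (split_ifs <;> first | exact hx.isOpen_compl | exact hy.isOpen_compl))
        (Set.eq_univ_of_forall fun z => Set.mem_iUnion.mpr (by
          by_cases hz : z = x
          · exact ⟨⟨false⟩, by simp [U, hz, hne']⟩
          · exact ⟨⟨true⟩, by simp [U, hz]⟩))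
      obtain ⟨k, hk⟩ := Set.mem_iUnion.mp (show x ∈ ⋃ k, V k by rw [hcov]; trivial)
      have hsub := (hV k).connectedComponent_subset hk
      have hy' : y ∈ V k := hsub ((ConnectedComponents.coe_eq_coe'.mp hxy.symm))
      obtain ⟨⟨b⟩, hb⟩ := href k
      cases b
      · exact absurd (hb hy') (by simp [U])
      · exact absurd (hb hk) (by simp [U])
    · obtain ⟨z, rfl⟩ := ConnectedComponents.surjective_coe c
      obtain ⟨x, hx, hxc⟩ := (isClosed_connectedComponent (x := z)).exists_closed_singleton ⟨z, mem_connectedComponent⟩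
      exact ⟨⟨x, hxc⟩, ConnectedComponents.coe_eq_coe'.mpr hx⟩
  · intro hbij ι U hUo hcov
    have hW : ∀ z : X, ∃ W : Set X, IsClopen W ∧ z ∈ W ∧ ∃ i, W ⊆ U i := by
      intro z
      obtain ⟨⟨x, hxc⟩, hx⟩ := hbij.2 (ConnectedComponents.mk z)
      obtain ⟨i, hi⟩ := Set.mem_iUnion.mp (show x ∈ ⋃ i, U i by rw [hcov]; trivial)
      have hsub : connectedComponent z ⊆ U i := by
        intro w hw
        by_contra hwU
        obtain ⟨x', ⟨hx'C, hx'U⟩, hx'c⟩ := (isClosed_connectedComponent.inter (hUo i).isClosed_compl).exists_closed_singleton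
          (⟨w, hw, hwU⟩ : (connectedComponent z ∩ (U i)ᶜ).Nonempty)
        have : (⟨x', hx'c⟩ : {x : X // IsClosed ({x} : Set X)}) = ⟨x, hxc⟩ :=
          hbij.1 ((ConnectedComponents.coe_eq_coe'.mpr hx'C).trans hx.symm)
        exact hx'U ((show x' = x from congrArg Subtype.val this).symm ▸ hi)
      rw [S7566.result z] at hsub
      let κ := {W : Set X // IsClopen W ∧ z ∈ W}
      haveI : Nonempty κ := ⟨⟨Set.univ, isClopen_univ, trivial⟩⟩
      have hdir : Directed (· ⊇ ·) fun W : κ => W.1 := fun W W' =>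
        ⟨⟨W.1 ∩ W'.1, W.2.1.inter W'.2.1, W.2.2, W'.2.2⟩, Set.inter_subset_left, Set.inter_subset_right⟩
      obtain ⟨W, hW⟩ := ((hUo i).isClosed_compl.isCompact).elim_directed_family_closed (fun W : κ => W.1)
        (fun W => W.2.1.1) (Set.eq_empty_iff_forall_notMem.mpr fun w hw => hw.1 (hsub (fun T hT => Set.mem_iInter.mp hw.2 ⟨T, hT⟩))) hdir
      exact ⟨W.1, W.2.1, W.2.2, i, fun w hw => by_contra fun hwU => (Set.eq_empty_iff_forall_notMem.mp hW w) ⟨hwU, hw⟩⟩
    choose W hWc hzW iz hWU using hW
    obtain ⟨t, ht⟩ := isCompact_univ.elim_finite_subcover W (fun z => (hWc z).2) (fun z _ => Set.mem_iUnion.mpr ⟨z, hzW z⟩)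
    let e := t.equivFin.symm
    let w : Fin t.card → Set X := fun k => W (e k).1
    refine ⟨t.card, disjointed w, fun k => ?_, disjoint_disjointed w, ?_,
      fun k => ⟨iz (e k).1, Set.Subset.trans (disjointed_le w k) (hWU _)⟩⟩
    · exact disjointedRec (p := IsClopen) (fun _ _ hs => IsClopen.diff hs (hWc _)) (hWc _)
    · rw [iUnion_disjointed, Set.eq_univ_iff_forall]
      intro z
      obtain ⟨y, hy, hzy⟩ := Set.mem_iUnion₂.mp (ht (Set.mem_univ z))
      exact Set.mem_iUnion.mpr ⟨e.symm ⟨y, hy⟩, by simpa [w] using hzy⟩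

end Groth.Agent.S0179
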