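import Groth.Prelude.Def_PBC
import Groth.Agent.EtSite.StrataLocus
import Groth.Agent.EtSite.StrataAb
-- import your own Groth.Agent.* helpers here

set_option autoImplicit false
universe u
open CategoryTheory CategoryTheory.Limits AlgebraicGeometry Opposite

namespace Groth.Agent.S0182

/-- (1), surjectivity case, for abelian sheaves: X quasi-compact and quasi-separated, F -> G a map of
constructible abelian sheaves on X_et; the set of points x of X such that F -> G is surjective on
stalks at (every) geometric point over x is constructible. The source states this for constructible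
sheaves of sets; an abelian constructible sheaf is one, with the same stalks. -/
theorem result (X : Scheme.{u}) [CompactSpace X] [QuasiSeparatedSpace X]
    {F G : EtCoh.Ab X} (φ : F ⟶ G) (hF : EtPBC.IsConstructible F) (hG : EtPBC.IsConstructible G) :
    Topology.IsConstructible {x : X | ∀ (Ω : Type u) [Field Ω] [IsSepClosed Ω]
      (ξ : Spec (CommRingCat.of Ω) ⟶ X), Set.range ξ = {x} →
        Function.Surjective ((EtCoh.stalk ξ).map φ)} := by
  have hC := Groth.Agent.EtSite.StrataAb.isConstructible_cokernel φ hF hG
  have h := Groth.Agent.EtSite.StrataLocus.isConstructible_locus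
    (P := fun A => Subsingleton A) (fun {A B} e hA => by
      exact ((AddCommGrpCat.isZero_of_subsingleton A).of_iso e.symm |> AddCommGrpCat.subsingleton_of_isZero)) hC
  have key : ∀ (Ω : Type u) [Field Ω] [IsSepClosed Ω] (ξ : Spec (CommRingCat.of Ω) ⟶ X),
      Function.Surjective ((EtCoh.stalk ξ).map φ) ↔
        Subsingleton ((EtCoh.stalk ξ).obj (cokernel φ)) := by
    intro Ω _ _ ξ
    have hex := Groth.Agent.EtSite.FLCAb.stalk_exact
      (S := ShortComplex.mk φ (cokernel.π φ) (cokernel.condition φ))
      (ShortComplex.exact_of_g_is_cokernel _ (cokernelIsCokernel φ)) Ω ξ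
    constructor
    · intro hs
      refine subsingleton_of_forall_eq 0 fun c => ?_
      obtain ⟨g, rfl⟩ := Groth.Agent.EtSite.FLCAb.stalk_surjective (cokernel.π φ) Ω ξ c
      exact (hex g).2 (hs g)
    · intro hs g
      exact (hex g).1 (@Subsingleton.elim _ hs _ _)
  refine (congrArg Topology.IsConstructible ?_).mp h
  ext x
  simp only [Groth.Agent.EtSite.StrataLocus.locus, Groth.Agent.EtSite.StrataLocus.range_eq_singleton_iff,
    key, Set.mem_setOf_eq]

end Groth.Agent.S0182
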