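import Groth.Statements.S0191
import Groth.Agent.CSA.Basic

set_option autoImplicit false
universe u v w
open scoped TensorProduct
open Curves

namespace Groth.Agent.S0191

/-- If K is a skew field with center k, every two-sided ideal of A ⊗ K is generated by the elements a ⊗
1 it contains. -/
theorem result (k : Type u) [Field k] (A : Type v) [Ring A] [Algebra k A]
    (K : Type w) [DivisionRing K] [Algebra k K] [Algebra.IsCentral k K]
    (I : TwoSidedIdeal (A ⊗[k] K)) :
    I = TwoSidedIdeal.span ((fun a : A => a ⊗ₜ[k] (1 : K)) '' {a : A | a ⊗ₜ[k] (1 : K) ∈ I}) := by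
  classical
  set J := TwoSidedIdeal.span ((fun a : A => a ⊗ₜ[k] (1 : K)) '' {a : A | a ⊗ₜ[k] (1 : K) ∈ I})
  let ℬ := Module.Free.chooseBasis k A
  refine le_antisymm ?_ ?_
  · suffices H : ∀ (n : ℕ) (x : A ⊗[k] K), x ∈ I →
        (TensorProduct.equivFinsuppOfBasisLeft ℬ x).support.card ≤ n → x ∈ J from
      fun x hx => H _ x hx le_rfl
    intro n
    induction n with
    | zero =>
      intro x hx hc
      have : TensorProduct.equivFinsuppOfBasisLeft ℬ x = 0 := by
        simpa [Finset.card_eq_zero] using hc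
      rw [(LinearEquiv.map_eq_zero_iff _).1 this]
      exact J.zero_mem
    | succ n ih =>
      intro x hx hc
      by_cases hx0 : x = 0
      · rw [hx0]; exact J.zero_mem
      obtain ⟨a, i, hai, haI, hsupp⟩ := Groth.Agent.CSA.exists_tmul_one_mem ℬ I x hx hx0
      set c := Groth.Agent.CSA.coefL ℬ i x
      have hac : a ⊗ₜ[k] c = (a ⊗ₜ[k] (1 : K)) * ((1 : A) ⊗ₜ[k] c) := by simp
      have haJ : a ⊗ₜ[k] c ∈ J := hac ▸ J.mul_mem_right _ _ (TwoSidedIdeal.subset_span ⟨a, haI, rfl⟩)
      have haI' : a ⊗ₜ[k] c ∈ I := hac ▸ I.mul_mem_right _ _ haI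
      have hco : ∀ j, TensorProduct.equivFinsuppOfBasisLeft ℬ (x - a ⊗ₜ[k] c) j =
          Groth.Agent.CSA.coefL ℬ j x - ℬ.repr a j • c := by
        intro j
        rw [map_sub, Finsupp.sub_apply, TensorProduct.equivFinsuppOfBasisLeft_apply_tmul_apply]
        rfl
      have hxi : Groth.Agent.CSA.coefL ℬ i x ≠ 0 := fun h => one_ne_zero (hai ▸ hsupp i h)
      have hlt : (TensorProduct.equivFinsuppOfBasisLeft ℬ (x - a ⊗ₜ[k] c)).support.card <
          (TensorProduct.equivFinsuppOfBasisLeft ℬ x).support.card := by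
        refine Finset.card_lt_card ⟨fun j hj => ?_, fun h => ?_⟩
        · rw [Finsupp.mem_support_iff, hco] at hj
          rw [Finsupp.mem_support_iff]
          intro h
          apply hj
          rw [hsupp j h, zero_smul, sub_zero]
          exact h
        · have hi := Finsupp.mem_support_iff.1 (h (Finsupp.mem_support_iff.2 hxi))
          rw [hco, hai, one_smul, sub_self] at hi
          exact hi rfl
      have := J.add_mem (ih _ (I.sub_mem hx haI') (by omega)) haJ
      rwa [sub_add_cancel] at this
  · rw [TwoSidedIdeal.span_le]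
    rintro _ ⟨a, ha, rfl⟩
    exact ha

end Groth.Agent.S0191
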