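import Groth.Statements.S0195
import Groth.Agent.CSA.IndexBC

set_option autoImplicit false
universe u v w
open scoped TensorProduct
open Curves

namespace Groth.Agent.S0195

/-- A finite extension k' of k splits a finite central simple algebra A exactly when some algebra
similar to A contains k' with dim equal to [k':k]^2. Uses Mathlib's bundled CSA and Brauer
equivalence. -/
theorem result (k : Type u) [Field k] (A : CSA.{u, u} k)
    (k' : Type u) [Field k'] [Algebra k k'] [FiniteDimensional k k'] :
    Curves.Splits k A k' ↔ ∃ (B : CSA.{u, u} k) (_ : k' →ₐ[k] B), IsBrauerEquivalent A B ∧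
      Module.finrank k B = Module.finrank k k' ^ 2 := by
  constructor
  · intro h
    obtain ⟨N, B, ι, hc, hs, hd, hbr, -⟩ := Groth.Agent.CSA.exists_brEq_containing (A := A) h
    have : FiniteDimensional k B := Module.finite_of_finrank_pos (by
      rw [hd]; exact pow_pos Module.finrank_pos 2)
    exact ⟨{ toAlgCat := AlgCat.of k B, isCentral := hc, isSimple := hs, fin_dim := this }, ι, hbr, hd⟩
  · rintro ⟨B, ι, hbr, hd⟩
    have hop := Groth.Agent.CSA.isSplit_op k (A := (B : Type u)ᵐᵒᵖ)
      (ι.toOpposite fun x y => (Commute.all x y).map ι)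
      (by rw [← (MulOpposite.opLinearEquiv k : (B : Type u) ≃ₗ[k] (B : Type u)ᵐᵒᵖ).finrank_eq, hd, sq])
    have hB : Groth.Agent.CSA.IsSplit k B k' := by
      obtain ⟨n, hn, g, -⟩ := Groth.Agent.CSA.exists_algHom_of_isSplit k hop
      exact Groth.Agent.CSA.isSplit_of_algHom k (g.comp (AlgEquiv.opOp k B).toAlgHom) (by
        rw [Fintype.card_fin, hn, (AlgEquiv.opOp k B).toLinearEquiv.finrank_eq])
    exact (Groth.Agent.CSA.isSplit_field_iff_of_brEq (A := A) (B := B) k' hbr).2 hB

end Groth.Agent.S0195
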