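import Groth.Statements.S0216
import Groth.Agent.EtSite.SpecConstr
import Mathlib
-- import your own Groth.Agent.* helpers here

set_option autoImplicit false
universe u
open CategoryTheory CategoryTheory.Limits AlgebraicGeometry TopologicalSpace
open Curves

namespace Groth.Agent.S0216

/-- An element integral over a field in a reduced ring without idempotents is zero or a unit. -/
theorem isUnit_of_integral {k R : Type u} [Field k] [CommRing R] [Algebra k R] [IsReduced R]
    (hR : ∀ e : R, IsIdempotentElem e → e = 0 ∨ e = 1) {y : R} (hy : IsIntegral k y) : y = 0 ∨ IsUnit y := by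
  obtain ⟨Q, hQm, hQy⟩ := hy
  obtain ⟨Q', hQ', hX⟩ := Polynomial.exists_eq_pow_rootMultiplicity_mul_and_not_dvd Q hQm.ne_zero 0
  rw [map_zero, sub_zero] at hQ' hX
  set n := Q.rootMultiplicity 0
  have h1 : y ^ n * Polynomial.aeval y Q' = 0 := by
    have : Polynomial.aeval y Q = 0 := hQy
    rwa [hQ', map_mul, map_pow, Polynomial.aeval_X] at this
  have hc : Q'.coeff 0 ≠ 0 := fun h => hX (Polynomial.X_dvd_iff.2 h)
  obtain ⟨u, hu⟩ : ∃ u, Polynomial.aeval y Q' = y * u + algebraMap k R (Q'.coeff 0) := by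
    refine ⟨Polynomial.aeval y Q'.divX, ?_⟩
    conv_lhs => rw [← Polynomial.X_mul_divX_add Q']
    rw [map_add, map_mul, Polynomial.aeval_X, Polynomial.aeval_C]
  have h2 : y * Polynomial.aeval y Q' = 0 := by
    refine IsReduced.eq_zero _ ⟨n + 1, ?_⟩
    calc (y * Polynomial.aeval y Q') ^ (n + 1) = (y ^ n * Polynomial.aeval y Q') * (y * Polynomial.aeval y Q' ^ n) := by ring
      _ = 0 := by rw [h1, zero_mul]
  set c := algebraMap k R (Q'.coeff 0)
  obtain ⟨d, hd⟩ : IsUnit c := (isUnit_iff_ne_zero.2 hc).map _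
  have hy2 : y * (y * u) = - (y * c) := by
    rw [hu, mul_add] at h2
    exact eq_neg_of_add_eq_zero_left h2
  have he : IsIdempotentElem (-(y * u * ↑d⁻¹)) := by
    show -(y * u * ↑d⁻¹) * -(y * u * ↑d⁻¹) = -(y * u * ↑d⁻¹)
    have hcd : c * ↑d⁻¹ = 1 := by rw [← hd]; exact d.mul_inv
    calc -(y * u * ↑d⁻¹) * -(y * u * ↑d⁻¹) = y * (y * u) * u * ↑d⁻¹ * ↑d⁻¹ := by ring
      _ = -(y * u * ↑d⁻¹) * (c * ↑d⁻¹) := by rw [hy2]; ring
      _ = _ := by rw [hcd, mul_one]
  rcases hR _ he with h | h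
  · left
    rw [neg_eq_zero, Units.mul_left_eq_zero] at h
    have h5 : y * c = 0 := by
      have := hy2
      rw [h, mul_zero] at this
      exact neg_eq_zero.mp this.symm
    rw [← hd] at h5
    exact (Units.mul_left_eq_zero _).mp h5
  · right
    exact IsUnit.of_mul_eq_one (-(u * ↑d⁻¹)) (by rw [← h]; ring)

/-- An element `x` with all `x^m - 1` units is algebraic in a finite type algebra. -/
theorem exists_annihilating {k B : Type u} [Field k] [CommRing B] [Algebra k B] [Algebra.FiniteType k B] (x : B)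
    (hx : ∀ m : ℕ, 0 < m → IsUnit (x ^ m - 1)) : ∃ Q : Polynomial k, Q ≠ 0 ∧ Polynomial.aeval x Q = 0 := by
  by_contra hcon
  push_neg at hcon
  let f : Polynomial k →+* B := (Polynomial.aeval x).toRingHom
  have hinj : Function.Injective f := (injective_iff_map_eq_zero f).2 fun Q hQ => by
    by_contra h; exact hcon Q h hQ
  have hft : f.FiniteType := by
    refine RingHom.FiniteType.of_comp_finiteType (f := Polynomial.C) ?_
    have : f.comp Polynomial.C = algebraMap k B := by ext a; simp [f]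
    rw [this]
    exact RingHom.finiteType_algebraMap.2 inferInstance
  have hcons := PrimeSpectrum.isConstructible_range_comap (RingHom.FinitePresentation.of_finiteType.1 hft)
  have hbot : ∀ p : PrimeSpectrum (Polynomial k), p ⤳ ⟨⊥, Ideal.isPrime_bot⟩ → p ∈ Set.range (PrimeSpectrum.comap f) := by
    intro p hp
    rw [← PrimeSpectrum.le_iff_specializes] at hp
    have hpe : p = ⟨⊥, Ideal.isPrime_bot⟩ := PrimeSpectrum.ext (le_bot_iff.1 hp)
    subst hpe
    obtain ⟨q, hq, -, hqc⟩ := Ideal.exists_comap_eq_of_mem_minimalPrimes f (I := ⊥) (⊥ : Ideal (Polynomial k)) (by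
      rw [Ideal.comap_bot_of_injective f hinj]
      exact ⟨⟨Ideal.isPrime_bot, le_rfl⟩, fun q _ _ => bot_le⟩)
    exact ⟨⟨q, hq⟩, PrimeSpectrum.ext hqc⟩
  have hint := Groth.Agent.EtSite.SpecConstr.mem_interior_of_generizations (S := Spec (CommRingCat.of (Polynomial k)))
    (E := Set.range (PrimeSpectrum.comap f)) hcons hbot
  obtain ⟨_, ⟨h, rfl⟩, hh, hsub⟩ := PrimeSpectrum.isTopologicalBasis_basic_opens.exists_subset_of_mem_open hint isOpen_interior
  have hh0 : h ≠ 0 := fun e => hh (by rw [e]; exact Ideal.zero_mem _)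
  classical
  let K := AlgebraicClosure k
  obtain ⟨m, hmN, hm⟩ := Nat.exists_infinite_primes (max (h.natDegree + 1) (ringChar k + 1))
  have hmk : (m : K) ≠ 0 := by
    rw [← map_natCast (algebraMap k K), ne_eq, map_eq_zero]
    intro e
    have h' := (ringChar.spec k m).1 e
    rcases (Nat.dvd_prime hm).1 h' with h1 | h1
    · exact CharP.ringChar_ne_one h1
    · omega
  haveI : NeZero (m : K) := ⟨hmk⟩
  obtain ⟨ζ, hζ⟩ := HasEnoughRootsOfUnity.exists_primitiveRoot K m
  obtain ⟨a, hax, hah⟩ : ∃ a : K, a ^ m = 1 ∧ Polynomial.aeval a h ≠ 0 := by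
    by_contra hall
    push_neg at hall
    have hsubset : (Polynomial.nthRootsFinset m (1 : K)) ⊆ (h.aroots K).toFinset := fun a ha => by
      rw [Multiset.mem_toFinset, Polynomial.mem_aroots]
      exact ⟨hh0, hall a ((Polynomial.mem_nthRootsFinset hm.pos _).1 ha)⟩
    have := (Finset.card_le_card hsubset).trans ((Multiset.toFinset_card_le _).trans
      ((Polynomial.card_roots' _).trans Polynomial.natDegree_map_le))
    rw [hζ.card_nthRootsFinset] at this
    omega
  let P : PrimeSpectrum (Polynomial k) := ⟨RingHom.ker (Polynomial.aeval a : Polynomial k →ₐ[k] K).toRingHom, RingHom.ker_isPrime _⟩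
  have hPmem : P ∈ (PrimeSpectrum.basicOpen h : Set (PrimeSpectrum (Polynomial k))) := hah
  obtain ⟨q, hq⟩ := interior_subset (hsub hPmem)
  have hXm : (Polynomial.X ^ m - 1 : Polynomial k) ∈ P.asIdeal := by
    show Polynomial.aeval a (Polynomial.X ^ m - 1 : Polynomial k) = 0
    simp [hax]
  rw [← hq] at hXm
  have : x ^ m - 1 ∈ q.asIdeal := by simpa [f] using hXm
  exact q.isPrime.ne_top (Ideal.eq_top_of_isUnit_mem _ this (hx m hm.pos))

theorem eq_zero_or_one {X : Scheme.{u}} [IsReduced X] [ConnectedSpace X] (e : Γ(X, ⊤)) (he : IsIdempotentElem e) :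
    e = 0 ∨ e = 1 := by
  have hcomp : ((X.basicOpen e : Set X))ᶜ = (X.basicOpen (1 - e) : Set X) := by
    ext p
    simp only [Set.mem_compl_iff, SetLike.mem_coe, Scheme.mem_basicOpen_top]
    let v := (X.presheaf.germ ⊤ p trivial).hom
    change ¬ IsUnit (v e) ↔ IsUnit (v (1 - e))
    have hv : v e * (1 - v e) = 0 := by rw [mul_sub, mul_one, ← map_mul, he.eq, sub_self]
    rw [map_sub, map_one]
    constructor
    · intro h
      rcases IsLocalRing.isUnit_or_isUnit_one_sub_self (v e) with h' | h'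
      · exact absurd h' h
      · exact h'
    · intro h h'
      exact not_isUnit_zero (hv ▸ h'.mul h)
  have hclopen : IsClopen (X.basicOpen e : Set X) :=
    ⟨isOpen_compl_iff.1 (hcomp ▸ (X.basicOpen (1 - e)).2), (X.basicOpen e).2⟩
  rcases isClopen_iff.1 hclopen with h | h
  · exact Or.inl ((AlgebraicGeometry.basicOpen_eq_bot_iff e).1 (SetLike.coe_injective h))
  · right
    have h0 : (X.basicOpen (1 - e) : Set X) = ∅ := by rw [← hcomp, h, Set.compl_univ]
    exact (sub_eq_zero.1 ((AlgebraicGeometry.basicOpen_eq_bot_iff (1 - e)).1 (SetLike.coe_injective h0))).symm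

theorem main (X : Scheme.{u}) [IsReduced X] [ConnectedSpace X] (k₁ k₂ : Type u) [Field k₁] [Field k₂]
    (a : X ⟶ Spec (CommRingCat.of k₁)) (b : X ⟶ Spec (CommRingCat.of k₂)) [LocallyOfFiniteType b]
    (x : Γ(X, ⊤)) (hx : (Coh.toGlobal a).IsIntegralElem x) : (Coh.toGlobal b).IsIntegralElem x := by
  classical
  haveI : IsReduced X := inferInstance
  letI A1 : Algebra k₁ Γ(X, ⊤) := (Coh.toGlobal a).toAlgebra
  have hx1 : IsIntegral k₁ (x : Γ(X, ⊤)) := hx
  by_cases hroot : ∃ m : ℕ, 0 < m ∧ (x : Γ(X, ⊤)) ^ m = 1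
  · obtain ⟨m, hm, hm1⟩ := hroot
    exact ⟨Polynomial.X ^ m - 1, Polynomial.monic_X_pow_sub_C (1 : k₂) hm.ne', by
      rw [Polynomial.eval₂_sub, Polynomial.eval₂_X_pow, Polynomial.eval₂_one]
      exact sub_eq_zero.2 hm1⟩
  push_neg at hroot
  have hunit : ∀ m : ℕ, 0 < m → IsUnit ((x : Γ(X, ⊤)) ^ m - 1) := fun m hm =>
    (isUnit_of_integral (k := k₁) eq_zero_or_one ((hx1.pow m).sub isIntegral_one)).resolve_left
      (sub_ne_zero.2 (hroot m hm))
  let φ : k₂ →+* Γ(X, ⊤) := Coh.toGlobal b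
  have chart : ∀ (V : X.Opens), IsAffineOpen V → ∃ Q : Polynomial k₂, Q ≠ 0 ∧
      (X.presheaf.map (homOfLE (le_top : V ≤ ⊤)).op).hom (Polynomial.eval₂ φ x Q) = 0 := by
    intro V hV
    let ρ := (X.presheaf.map (homOfLE (le_top : V ≤ ⊤)).op).hom
    letI : Algebra k₂ Γ(X, V) := (ρ.comp φ).toAlgebra
    haveI : Algebra.FiniteType k₂ Γ(X, V) := by
      have h1 : (b.appLE ⊤ V le_top).hom.FiniteType := b.finiteType_appLE (isAffineOpen_top _) hV _
      refine RingHom.finiteType_algebraMap.1 ?_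
      exact h1.comp (RingHom.FiniteType.of_surjective _
        (Scheme.ΓSpecIso (CommRingCat.of k₂)).commRingCatIsoToRingEquiv.symm.surjective)
    obtain ⟨Q, hQ, hQ0⟩ := exists_annihilating (k := k₂) (ρ x) fun m hm => by
      have h := (hunit m hm).map ρ
      rw [map_sub, map_pow, map_one] at h
      exact h
    refine ⟨Q, hQ, ?_⟩
    rw [← hQ0, Polynomial.hom_eval₂]
    rfl
  have mem_iff : ∀ (V : X.Opens) (p : X) (hp : p ∈ V) (y : Γ(X, ⊤)),
      p ∈ X.basicOpen y ↔ IsUnit (X.presheaf.germ V p hp ((X.presheaf.map (homOfLE (le_top : V ≤ ⊤)).op).hom y)) := by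
    intro V p hp y
    rw [Scheme.mem_basicOpen_top, X.presheaf.germ_res_apply]
  obtain ⟨p0⟩ := (inferInstance : Nonempty X)
  obtain ⟨V0, hV0, hp0, -⟩ := exists_isAffineOpen_mem_and_subset (U := ⊤) (x := p0) trivial
  obtain ⟨Q0, hQ0, hQ0x⟩ := chart V0 hV0
  obtain ⟨Q, hQm, hQirr, hQp⟩ : ∃ Q : Polynomial k₂, Q.Monic ∧ Irreducible Q ∧ p0 ∉ X.basicOpen (Polynomial.eval₂ φ x Q) := by
    obtain ⟨fs, hfs, u, hu⟩ := WfDvdMonoid.exists_factors Q0 hQ0
    by_contra hc
    push_neg at hc
    let ψ : Polynomial k₂ →+* X.presheaf.stalk p0 := (X.presheaf.germ ⊤ p0 trivial).hom.comp (Polynomial.eval₂RingHom φ x)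
    have hz : ψ Q0 = 0 := by
      show X.presheaf.germ ⊤ p0 trivial (Polynomial.eval₂ φ x Q0) = 0
      rw [← X.presheaf.germ_res_apply (homOfLE (le_top : V0 ≤ ⊤)) p0 hp0]
      exact (congrArg _ hQ0x).trans (map_zero _)
    refine not_isUnit_zero (M₀ := X.presheaf.stalk p0) (hz ▸ ?_)
    rw [← hu, map_mul, map_multiset_prod]
    refine IsUnit.mul (Multiset.prod_induction IsUnit _ (fun _ _ => IsUnit.mul) isUnit_one fun y hy => ?_) (u.isUnit.map ψ)
    obtain ⟨F, hF, rfl⟩ := Multiset.mem_map.1 hy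
    have hirr := hfs F hF
    have := hc (F * Polynomial.C F.leadingCoeff⁻¹) (Polynomial.monic_mul_leadingCoeff_inv hirr.ne_zero)
      ((irreducible_mul_isUnit (Polynomial.isUnit_C.2 (isUnit_iff_ne_zero.2 (inv_ne_zero (Polynomial.leadingCoeff_ne_zero.2 hirr.ne_zero))))).2 hirr)
    rw [Scheme.mem_basicOpen_top, Polynomial.eval₂_mul, map_mul] at this
    exact isUnit_of_mul_isUnit_left this
  refine ⟨Q, hQm, (AlgebraicGeometry.basicOpen_eq_bot_iff _).1 ?_⟩
  set y := Polynomial.eval₂ φ x Q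
  have hopen : IsOpen ((X.basicOpen y : Set X))ᶜ := by
    rw [isOpen_iff_forall_mem_open]
    intro p hp
    obtain ⟨V, hV, hpV, -⟩ := exists_isAffineOpen_mem_and_subset (U := ⊤) (x := p) trivial
    obtain ⟨QV, hQV, hQVx⟩ := chart V hV
    obtain ⟨e, R, hR, hQR⟩ := WfDvdMonoid.max_power_factor hQV hQirr
    obtain ⟨c, d, hcd⟩ := hQirr.coprime_iff_not_dvd.2 hR
    refine ⟨(V : Set X) ∩ X.basicOpen (Polynomial.eval₂ φ x R), ?_, (V.2).inter (X.basicOpen _).2, hpV, ?_⟩
    · rintro q ⟨hqV, hqR⟩ hqy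
      have hz : X.presheaf.germ ⊤ q trivial (Polynomial.eval₂ φ x QV) = 0 := by
        rw [← X.presheaf.germ_res_apply (homOfLE (le_top : V ≤ ⊤)) q hqV]
        exact (congrArg _ hQVx).trans (map_zero _)
      rw [hQR, Polynomial.eval₂_mul, Polynomial.eval₂_pow, map_mul, map_pow] at hz
      exact not_isUnit_zero (hz ▸ (((Scheme.mem_basicOpen_top X y q).1 hqy).pow e).mul ((Scheme.mem_basicOpen_top X _ q).1 hqR))
    · by_contra hpR
      apply (IsLocalRing.maximalIdeal.isMaximal (X.presheaf.stalk p)).ne_top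
      rw [Ideal.eq_top_iff_one]
      have := congrArg (X.presheaf.germ ⊤ p trivial ∘ Polynomial.eval₂ φ x) hcd
      simp only [Function.comp_apply, Polynomial.eval₂_add, Polynomial.eval₂_mul, Polynomial.eval₂_one, map_add, map_mul, map_one] at this
      rw [← this]
      refine add_mem (Ideal.mul_mem_left _ _ ?_) (Ideal.mul_mem_left _ _ ?_)
      · exact fun h => hp ((Scheme.mem_basicOpen_top X y p).2 h)
      · exact fun h => hpR ((Scheme.mem_basicOpen_top X _ p).2 h)
  rcases isClopen_iff.1 (⟨isOpen_compl_iff.1 hopen, (X.basicOpen y).2⟩ : IsClopen (X.basicOpen y : Set X)) with h | h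
  · exact SetLike.coe_injective h
  · exact absurd (h ▸ Set.mem_univ p0 : p0 ∈ (X.basicOpen y : Set X)) hQp


/-- If a connected reduced scheme is locally of finite type over two fields k₁ and k₂, then a global
function is integral over k₁ exactly when it is integral over k₂ (the integral closures of the two
base fields in the global functions coincide). -/
theorem result (X : Scheme.{u}) [IsReduced X] [ConnectedSpace X]
    (k₁ k₂ : Type u) [Field k₁] [Field k₂]
    (a : X ⟶ Spec (CommRingCat.of k₁)) (b : X ⟶ Spec (CommRingCat.of k₂))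
    [LocallyOfFiniteType a] [LocallyOfFiniteType b] (x : Coh.Γtop X) :
    (Coh.toGlobal a).IsIntegralElem x ↔ (Coh.toGlobal b).IsIntegralElem x := by
  exact ⟨main X k₁ k₂ a b x, main X k₂ k₁ b a x⟩

end Groth.Agent.S0216
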