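import Groth.Statements.S0218
import Mathlib.FieldTheory.Minpoly.Field
import Mathlib.RingTheory.Adjoin.Polynomial.Basic
import Mathlib.Tactic.LinearCombination
import Mathlib.Tactic.Module
-- import your own Groth.Agent.* helpers here

set_option autoImplicit false
universe u
open Curves

namespace Groth.Agent.S0218

/-- Over an algebraically closed field k, a commutative k-algebra with exactly two k-subalgebras is
isomorphic to k × k or to the dual numbers over k. -/
theorem result (k : Type u) [Field k] [IsAlgClosed k] (A : Type u) [CommRing A] [Algebra k A]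
    (h : Nat.card (Subalgebra k A) = 2) :
    Nonempty (A ≃ₐ[k] (k × k)) ∨ Nonempty (A ≃ₐ[k] DualNumber k) := by
  classical
  obtain ⟨S₁, S₂, hne, huniv⟩ := Nat.card_eq_two_iff.mp h
  have hpair : ∀ S : Subalgebra k A, S = S₁ ∨ S = S₂ := fun S => by
    have : S ∈ ({S₁, S₂} : Set (Subalgebra k A)) := huniv ▸ Set.mem_univ S
    simpa using this
  have hbt : (⊥ : Subalgebra k A) ≠ ⊤ := by
    intro he
    haveI := subsingleton_of_bot_eq_top he
    exact hne (Subsingleton.elim _ _)
  have hdich : ∀ S : Subalgebra k A, S = ⊥ ∨ S = ⊤ := by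
    intro S
    rcases hpair S with h1 | h1 <;> rcases hpair ⊥ with h2 | h2 <;> rcases hpair ⊤ with h3 | h3 <;>
      first
      | exact Or.inl (h1.trans h2.symm)
      | exact Or.inr (h1.trans h3.symm)
      | exact absurd (h2.trans h3.symm) hbt
  haveI : Nontrivial A := by
    by_contra hA
    rw [not_nontrivial_iff_subsingleton] at hA
    exact hbt (SetLike.ext fun x => by simp [Subsingleton.elim x 0])
  obtain ⟨a, ha⟩ : ∃ a : A, a ∉ (⊥ : Subalgebra k A) := by
    by_contra hall
    push Not at hall
    exact hbt (SetLike.ext fun x => ⟨fun _ => trivial, fun _ => hall x⟩)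
  -- `a` is integral
  have hint : IsIntegral k a := by
    rw [← isAlgebraic_iff_isIntegral]
    rcases hdich (Algebra.adjoin k {a ^ 2}) with hs | hs
    · have hm : a ^ 2 ∈ (⊥ : Subalgebra k A) := hs ▸ Algebra.subset_adjoin rfl
      obtain ⟨d, hd⟩ := Algebra.mem_bot.mp hm
      refine ⟨Polynomial.X ^ 2 - Polynomial.C d, ?_, by simp [hd]⟩
      intro h0
      have := congrArg (fun f : Polynomial k => f.coeff 2) h0
      simp [Polynomial.coeff_C] at this
    · have hm : a ∈ Algebra.adjoin k {a ^ 2} := hs ▸ Algebra.mem_top
      rw [Algebra.adjoin_singleton_eq_range_aeval] at hm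
      obtain ⟨q, hq⟩ := hm
      refine ⟨Polynomial.X - q.comp (Polynomial.X ^ 2), ?_, ?_⟩
      · intro h0
        have h1 := congrArg Polynomial.natDegree (sub_eq_zero.mp h0)
        rw [Polynomial.natDegree_X, Polynomial.natDegree_comp, Polynomial.natDegree_X_pow] at h1
        omega
      · simpa [Polynomial.aeval_comp, sub_eq_zero] using hq.symm
  set μ := minpoly k a
  have hμdeg : 2 ≤ μ.natDegree := (minpoly.two_le_natDegree_iff hint).mpr fun hr => by
    obtain ⟨d, hd⟩ := hr
    exact ha (Algebra.mem_bot.mpr ⟨d, hd⟩)
  obtain ⟨α, hα⟩ := IsAlgClosed.exists_root μ fun hd => by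
    have := Polynomial.natDegree_eq_zero_iff_degree_le_zero.mpr hd.le
    omega
  obtain ⟨q, hq⟩ := Polynomial.dvd_iff_isRoot.mpr hα
  have hq0 : q ≠ 0 := by
    rintro rfl
    rw [mul_zero] at hq
    exact minpoly.ne_zero hint hq
  have hqdeg : q.natDegree + 1 = μ.natDegree := by
    rw [hq, Polynomial.natDegree_mul (Polynomial.X_sub_C_ne_zero α) hq0,
      Polynomial.natDegree_X_sub_C, add_comm]
  set c := q.eval α
  set x := Polynomial.aeval a q
  have hxx : x * x = c • x := by
    obtain ⟨r, hr⟩ := Polynomial.X_sub_C_dvd_sub_C_eval (a := α) (p := q)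
    have h1 : q * (q - Polynomial.C c) = μ * r := by
      rw [hr, hq]; ring
    have h2 := congrArg (Polynomial.aeval a) h1
    rw [map_mul, map_mul, map_sub, Polynomial.aeval_C, minpoly.aeval, zero_mul] at h2
    rw [Algebra.smul_def]
    linear_combination h2
  have hxbot : x ∉ (⊥ : Subalgebra k A) := by
    intro hx
    obtain ⟨d, hd⟩ := Algebra.mem_bot.mp hx
    have hqd : q - Polynomial.C d ≠ 0 := by
      intro h0
      have := congrArg Polynomial.natDegree (sub_eq_zero.mp h0)
      rw [Polynomial.natDegree_C] at this
      omega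
    have h1 : Polynomial.aeval a (q - Polynomial.C d) = 0 := by simp [x, hd]
    have h2 := Polynomial.natDegree_le_natDegree (minpoly.degree_le_of_ne_zero k a hqd h1)
    rw [Polynomial.natDegree_sub_C] at h2
    have : μ.natDegree ≤ q.natDegree := h2
    omega
  by_cases hc : c = 0
  · right
    rw [hc, zero_smul] at hxx
    let φ : DualNumber k →ₐ[k] A :=
      DualNumber.lift ⟨(Algebra.ofId k A, x), hxx, fun u => Commute.all _ _⟩
    have hφ : ∀ z, φ z = algebraMap k A z.fst + algebraMap k A z.snd * x := fun z => rfl
    have hsurj : Function.Surjective φ := by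
      rw [← AlgHom.range_eq_top]
      refine (hdich φ.range).resolve_left fun hb => hxbot (hb ▸ ?_)
      exact ⟨DualNumber.eps, by simp [φ]⟩
    have hinj : Function.Injective φ := by
      rw [injective_iff_map_eq_zero]
      intro z hz
      rw [hφ] at hz
      have hx0 : x ≠ 0 := fun h0 => hxbot (h0 ▸ zero_mem _)
      have h1 : z.fst = 0 := by
        by_contra hf
        apply hx0
        have : algebraMap k A z.fst * x = 0 := by
          linear_combination x * hz - algebraMap k A z.snd * hxx
        exact ((IsUnit.mk0 _ hf).map (algebraMap k A)).mul_right_eq_zero.mp this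
      have h2 : z.snd = 0 := by
        by_contra hf
        rw [h1, map_zero, zero_add] at hz
        exact hx0 (((IsUnit.mk0 _ hf).map (algebraMap k A)).mul_right_eq_zero.mp hz)
      exact TrivSqZeroExt.ext h1 h2
    exact ⟨(AlgEquiv.ofBijective φ ⟨hinj, hsurj⟩).symm⟩
  · left
    set e := c⁻¹ • x with hedef
    have hee : e * e = e := by
      rw [hedef, smul_mul_smul_comm, hxx, smul_smul, mul_assoc, inv_mul_cancel₀ hc, mul_one]
    have hebot : e ∉ (⊥ : Subalgebra k A) := fun he => hxbot (by
      have := Subalgebra.smul_mem _ he c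
      rwa [hedef, smul_smul, mul_inv_cancel₀ hc, one_smul] at this)
    let φ : (k × k) →ₐ[k] A := AlgHom.ofLinearMap
      ((LinearMap.toSpanSingleton k A e).coprod (LinearMap.toSpanSingleton k A (1 - e)))
      (by simp)
      (by
        rintro ⟨u, v⟩ ⟨u', v'⟩
        show (u * u') • e + (v * v') • (1 - e) = (u • e + v • (1 - e)) * (u' • e + v' • (1 - e))
        simp only [Algebra.smul_def, map_mul]
        linear_combination -((algebraMap k A u * algebraMap k A u'
          - algebraMap k A u * algebraMap k A v' - algebraMap k A v * algebraMap k A u'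
          + algebraMap k A v * algebraMap k A v') * hee))
    have hφ : ∀ u v, φ (u, v) = u • e + v • (1 - e) := fun u v => rfl
    have hsurj : Function.Surjective φ := by
      rw [← AlgHom.range_eq_top]
      refine (hdich φ.range).resolve_left fun hb => hebot (hb ▸ ?_)
      exact ⟨(1, 0), (hφ 1 0).trans (by simp)⟩
    have hinj : Function.Injective φ := by
      rw [injective_iff_map_eq_zero]
      rintro ⟨u, v⟩ hz
      rw [hφ] at hz
      have h1 : u = 0 := by
        by_contra hu
        apply hebot
        have h' : u • e = 0 := by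
          have := congrArg (e * ·) hz
          simp only [mul_add, mul_smul_comm, mul_sub, mul_one, hee, sub_self, smul_zero, add_zero,
            mul_zero] at this
          exact this
        rw [(smul_eq_zero.mp h').resolve_left hu]
        exact zero_mem _
      have h2 : v = 0 := by
        by_contra hv
        apply hebot
        rw [h1, zero_smul, zero_add] at hz
        rw [← sub_eq_zero.mp ((smul_eq_zero.mp hz).resolve_left hv)]
        exact one_mem _
      rw [h1, h2]; rfl
    exact ⟨(AlgEquiv.ofBijective φ ⟨hinj, hsurj⟩).symm⟩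

end Groth.Agent.S0218
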