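import Groth.Statements.S0219
import Mathlib
import Groth.Agent.FibDim.MaxPoints
import Groth.Agent.DimTrdeg.Scheme
import Groth.Agent.FibreDim.Local
-- import your own Groth.Agent.* helpers here

set_option autoImplicit false
set_option backward.isDefEq.respectTransparency false
universe u
open CategoryTheory CategoryTheory.Limits AlgebraicGeometry TopologicalSpace
open Curves

namespace Groth.Agent.S0219

/-- A morphism over a field from a proper scheme of dimension at most one to a separated scheme, which
does not contract any one-dimensional irreducible component to a point, is finite. -/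
theorem result (k : Type u) [Field k] (X Y : Scheme.{u}) (p : X ⟶ Spec (CommRingCat.of k)) (q : Y ⟶ Spec (CommRingCat.of k))
    [IsProper p] [IsSeparated q] (f : X ⟶ Y) (hf : f ≫ q = p) (hdim : topologicalKrullDim X ≤ 1)
    (h : ∀ Z ∈ irreducibleComponents (X : Type u), topologicalKrullDim Z = 1 → (f.base '' Z).Nontrivial) :
    IsFinite f := by
  haveI : IsProper (f ≫ q) := hf ▸ ‹IsProper p›
  haveI : IsProper f := .of_comp f q
  haveI : IsLocallyNoetherian X := LocallyOfFiniteType.isLocallyNoetherian p
  haveI : CompactSpace X := QuasiCompact.compactSpace_of_compactSpace p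
  haveI : IsNoetherian X := {}
  have hfin : ∀ y : Y, (f ⁻¹' {y}).Finite := fun y => by
    haveI : JacobsonSpace X := LocallyOfFiniteType.jacobsonSpace p
    have key : ∀ a b : X, f a = y → f b = y → a ⤳ b → a = b := by
      intro a b ha hb hab
      by_contra hne
      obtain ⟨ζ, hζa, hζmax⟩ := FibDim.exists_isMax'_specializes a
      let c : X → IrreducibleCloseds X := fun a => ⟨closure {a}, isIrreducible_singleton.closure, isClosed_closure⟩
      have hlt : ∀ a b : X, a ⤳ b → a ≠ b → c b < c a := fun a b hab hab' => by
        refine lt_of_le_of_ne ?_ fun he => hab' ?_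
        · exact closure_minimal (Set.singleton_subset_iff.2 (specializes_iff_mem_closure.1 hab)) isClosed_closure
        · exact ((inseparable_iff_closure_eq.2 (congrArg (fun Z : IrreducibleCloseds X => (Z : Set X)) he)).eq).symm
      have hζ : ζ = a := by
        by_contra hn
        let s : LTSeries (IrreducibleCloseds X) :=
          ((RelSeries.singleton _ (c b)).snoc (c a) (hlt a b hab hne)).snoc (c ζ) (by
            simp only [RelSeries.last_snoc]; exact hlt ζ a hζa hn)
        have h3 : (s.length : WithBot ℕ∞) ≤ topologicalKrullDim X := Order.LTSeries.length_le_krullDim s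
        have h4 := h3.trans hdim
        simp [s] at h4
      subst hζ
      obtain ⟨n, hn⟩ : ∃ n : ℕ, topologicalKrullDim (closure ({ζ} : Set X)) = n := by
        obtain ⟨n, -, hn⟩ := DimTrdeg.exists_dim_closure_eq_trdeg p ζ
        exact ⟨n, hn⟩
      have hd : topologicalKrullDim (closure ({ζ} : Set X)) = 1 := by
        refine le_antisymm ((Topology.IsEmbedding.subtypeVal.isInducing.topologicalKrullDim_le).trans hdim) ?_
        let T := closure ({ζ} : Set X)
        let c' : T → IrreducibleCloseds T := fun a => ⟨closure {a}, isIrreducible_singleton.closure, isClosed_closure⟩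
        have hlt' : c' ⟨b, hab.mem_closure⟩ < c' ⟨ζ, subset_closure rfl⟩ := by
          refine lt_of_le_of_ne (closure_minimal (Set.singleton_subset_iff.2 ?_) isClosed_closure) fun he => hne ?_
          · exact ((subtype_specializes_iff _ _).2 hab).mem_closure
          · exact (congrArg Subtype.val ((inseparable_iff_closure_eq.2 (congrArg (fun Z : IrreducibleCloseds T => (Z : Set T)) he)).eq)).symm
        exact Order.LTSeries.length_le_krullDim ((RelSeries.singleton _ (c' ⟨b, hab.mem_closure⟩)).snoc _ hlt')
      have hbc : IsClosed ({b} : Set X) := by
        refine closure_eq_iff_isClosed.1 (Set.Subset.antisymm (fun w hw => ?_) subset_closure)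
        by_contra hwb
        let s : LTSeries (IrreducibleCloseds X) :=
          ((RelSeries.singleton _ (c w)).snoc (c b) (hlt b w (specializes_iff_mem_closure.2 hw) (fun e => hwb e.symm))).snoc (c ζ) (by
            simp only [RelSeries.last_snoc]; exact hlt ζ b hab hne)
        have h3 : (s.length : WithBot ℕ∞) ≤ topologicalKrullDim X := Order.LTSeries.length_le_krullDim s
        have h4 := h3.trans hdim
        simp [s] at h4
      have hyc : IsClosed ({y} : Set Y) := by
        rw [← hb, ← Set.image_singleton (f := f)]
        exact f.isClosedMap _ hbc
      obtain ⟨z, ⟨w, hw, rfl⟩, hzy⟩ := (h _ (FibDim.closure_mem_components hζmax) hd).exists_ne y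
      have hsub : f w ∈ closure (f '' {ζ}) := image_closure_subset_closure_image f.continuous ⟨w, hw, rfl⟩
      rw [Set.image_singleton, ha, hyc.closure_eq] at hsub
      exact hzy hsub
    let F := ↥(f.base ⁻¹' {y})
    haveI : QuasiSober F := FibreDim.quasiSober_fibre f y
    haveI : NoetherianSpace F := inferInstance
    have hfinc : (irreducibleComponents F).Finite := NoetherianSpace.finite_irreducibleComponents
    haveI : Finite (irreducibleComponents F) := hfinc.to_subtype
    have : Finite F := Finite.of_injective (fun a : F => (⟨irreducibleComponent a, irreducibleComponent_mem_irreducibleComponents a⟩ : irreducibleComponents F)) fun a b hab => by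
      have he : irreducibleComponent a = irreducibleComponent b := congrArg Subtype.val hab
      obtain ⟨g, hg⟩ := QuasiSober.sober (isIrreducible_irreducibleComponent (x := a)) isClosed_irreducibleComponent
      have h1 : g ⤳ a := hg.specializes mem_irreducibleComponent
      have h2 : g ⤳ b := hg.specializes (he ▸ mem_irreducibleComponent)
      have e1 := key g.1 a.1 g.2 a.2 ((subtype_specializes_iff _ _).1 h1)
      have e2 := key g.1 b.1 g.2 b.2 ((subtype_specializes_iff _ _).1 h2)
      exact Subtype.ext (e1.symm.trans e2)
    exact Set.toFinite _
  haveI : LocallyQuasiFinite f := .of_finite_preimage_singleton f hfin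
  exact IsFinite.of_isProper_of_locallyQuasiFinite f

end Groth.Agent.S0219
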