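import Groth.Statements.S0220
import Groth.Agent.NormalizationAffine.Cokernel
import Mathlib
-- import your own Groth.Agent.* helpers here

set_option autoImplicit false
universe u
open CategoryTheory CategoryTheory.Limits AlgebraicGeometry TopologicalSpace
open Curves

namespace Groth.Agent.S0220

/-- A nonconstant morphism between curves over a field (integral, separated, finite type, dimension one)
whose target has integrally closed local domains is flat. -/
theorem result (k : Type u) [Field k] (X Y : Scheme.{u}) (p : X ⟶ Spec (CommRingCat.of k)) (q : Y ⟶ Spec (CommRingCat.of k))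
    [IsIntegral X] [IsIntegral Y] [IsSeparated p] [IsSeparated q] [LocallyOfFiniteType p] [LocallyOfFiniteType q]
    [QuasiCompact p] [QuasiCompact q] (hX : topologicalKrullDim X = 1) (hY : topologicalKrullDim Y = 1)
    (hN : ∀ y : Y, IsDomain (Y.presheaf.stalk y) ∧ IsIntegrallyClosed (Y.presheaf.stalk y))
    (f : X ⟶ Y) (hf : f ≫ q = p) (hnc : (Set.range f.base).Nontrivial) :
    Flat f := by
  have : IsLocallyNoetherian Y := LocallyOfFiniteType.isLocallyNoetherian q
  have hdimle : ∀ y : Y, Ring.KrullDimLE 1 (Y.presheaf.stalk y) := fun y => by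
    obtain ⟨U, hU, hyU, -⟩ := exists_isAffineOpen_mem_and_subset (X := Y) (x := y) (U := ⊤) trivial
    letI : Algebra Γ(Y, U) (Y.presheaf.stalk y) := (Y.presheaf.germ U y hyU).hom.toAlgebra
    have := hU.isLocalization_stalk ⟨y, hyU⟩
    rw [Ring.krullDimLE_iff,
      IsLocalization.AtPrime.ringKrullDim_eq_height (hU.primeIdealOf ⟨y, hyU⟩).asIdeal
        (Y.presheaf.stalk y)]
    refine (Ideal.height_le_ringKrullDim_of_ne_top (hU.primeIdealOf ⟨y, hyU⟩).isPrime.ne_top).trans ?_
    rw [← PrimeSpectrum.topologicalKrullDim_eq_ringKrullDim]
    exact (hU.fromSpec.isOpenEmbedding.isInducing.topologicalKrullDim_le).trans hY.le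
  have hdom : f.base (genericPoint X) = genericPoint Y := by
    by_contra hne
    have hcl : IsClosed ({f.base (genericPoint X)} : Set Y) := by
      by_contra hnc'
      have hF := Groth.Agent.NormalizationAffine.stalk_isField_of_not_isClosed hY.le hnc'
      have h0 : ringKrullDim (Y.presheaf.stalk (f.base (genericPoint X))) = 0 :=
        ringKrullDim_eq_zero_of_isField hF
      have h1 := (ringKrullDim_stalk_eq_coheight (f.base (genericPoint X))).symm.trans h0
      have hmax : IsMax (f.base (genericPoint X)) := Order.coheight_eq_zero.1 (by exact_mod_cast h1)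
      have hle : f.base (genericPoint X) ≤ genericPoint Y :=
        (genericPoint_spec Y).specializes trivial
      have hge : genericPoint Y ≤ f.base (genericPoint X) := hmax hle
      exact hne ((Specializes.antisymm (show f.base (genericPoint X) ⤳ genericPoint Y from hge)
        ((genericPoint_spec Y).specializes trivial)).eq)
    obtain ⟨a, ⟨x, rfl⟩, b, ⟨x', rfl⟩, hab⟩ := hnc
    refine hab ?_
    have h : ∀ x : X, f.base x = f.base (genericPoint X) := fun x => by
      have hs : f.base (genericPoint X) ⤳ f.base x :=
        ((genericPoint_spec X).specializes trivial).map f.base.hom.continuous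
      have h' := hs.mem_closure
      rw [hcl.closure_eq] at h'
      exact h'
    rw [h x, h x']
  rw [Flat.iff_flat_stalkMap]
  intro x
  have hy := hN (f.base x)
  have : IsDomain (Y.presheaf.stalk (f.base x)) := hy.1
  have : IsIntegrallyClosed (Y.presheaf.stalk (f.base x)) := hy.2
  have := hdimle (f.base x)
  have : Ring.DimensionLEOne (Y.presheaf.stalk (f.base x)) :=
    ⟨fun {P} hP hP' => Ring.krullDimLE_one_iff_of_isPrime_bot.mp this P hP hP'⟩
  have : IsDedekindDomain (Y.presheaf.stalk (f.base x)) := { }
  have hinj : Function.Injective (f.stalkMap x).hom := by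
    have hs : genericPoint X ⤳ x := (genericPoint_spec X).specializes trivial
    have h := Scheme.Hom.stalkSpecializes_stalkMap f (genericPoint X) x hs
    intro a b hab
    have ha := Scheme.Hom.stalkSpecializes_stalkMap_apply f (genericPoint X) x hs a
    have hb := Scheme.Hom.stalkSpecializes_stalkMap_apply f (genericPoint X) x hs b
    rw [show f.stalkMap x a = f.stalkMap x b from hab, ← hb] at ha
    have hK : IsField (Y.presheaf.stalk (f.base (genericPoint X))) := by
      rw [hdom]; exact Field.toIsField Y.functionField
    letI := hK.toField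
    have h2 := (f.stalkMap (genericPoint X)).hom.injective ha
    have hinj2 : ∀ (z : Y) (hz : z = genericPoint Y) (h : z ⤳ f.base x),
        Function.Injective (Y.presheaf.stalkSpecializes h).hom := by
      rintro _ rfl h
      exact IsFractionRing.injective (Y.presheaf.stalk (f.base x)) Y.functionField
    exact hinj2 _ hdom _ h2
  let := (f.stalkMap x).hom.toAlgebra
  show Module.Flat (Y.presheaf.stalk (f.base x)) (X.presheaf.stalk x)
  have : Module.IsTorsionFree (Y.presheaf.stalk (f.base x)) (X.presheaf.stalk x) :=
    Module.isTorsionFree_iff_algebraMap_injective.2 hinj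
  rw [IsDedekindDomain.flat_iff_torsion_eq_bot, ← Submodule.isTorsionFree_iff_torsion_eq_bot]
  infer_instance

end Groth.Agent.S0220
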