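import Groth.Statements.S0223
import Groth.Agent.FlatBC.Main
import Groth.Agent.HilbPoly.Euler
import Groth.Agent.QCohLib.Pullback
import Groth.Agent.InvBasic.QCoh

set_option autoImplicit false
set_option linter.style.haveILetI false
set_option backward.isDefEq.respectTransparency false
universe u
open CategoryTheory CategoryTheory.Limits AlgebraicGeometry
open Curves

namespace Groth.Agent.S0223

namespace Helper
open CategoryTheory CategoryTheory.Limits AlgebraicGeometry Opposite TopologicalSpace
open scoped Groth.Agent.CohVanish
open Groth.Agent.CohVanish Groth.Agent.CechCmp Groth.Agent.CohFinite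

theorem finrank_HH_congr {k : Type u} [Field k] {X : Scheme.{u}} [X.Over (Spec (CommRingCat.of k))] {M M' : X.Modules} (e : M ≅ M') (i : ℕ) :
    Module.finrank k (Coh.HH X M i) = Module.finrank k (Coh.HH X M' i) := by
  let φ := Coh.toGlobal (X ↘ Spec (CommRingCat.of k))
  let f : HMod (modRSh φ M) ⊤ i ≃ₗ[k] HMod (modRSh φ M') ⊤ i :=
    LinearEquiv.ofLinearMap (mapHMod (modHom φ e.hom) ⊤ i) (mapHMod (modHom φ e.inv) ⊤ i)
      (LinearMap.ext fun x => ((eMap_comp _ _ ⊤ i x).symm.trans (congrArg (fun a => eMap a ⊤ i x)
        (((toAbF X).map_comp e.inv e.hom).symm.trans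
          ((congrArg (toAbF X).map e.inv_hom_id).trans ((toAbF X).map_id M'))))).trans (eMap_id ⊤ i x))
      (LinearMap.ext fun x => ((eMap_comp _ _ ⊤ i x).symm.trans (congrArg (fun a => eMap a ⊤ i x)
        (((toAbF X).map_comp e.hom e.inv).symm.trans
          ((congrArg (toAbF X).map e.hom_inv_id).trans ((toAbF X).map_id M))))).trans (eMap_id ⊤ i x))
  exact ((hhEquiv M i).trans (f.trans (hhEquiv M' i).symm)).finrank_eq


end Helper


/-- For a proper one-dimensional scheme X over a field k with only constant global functions, base
change to a field extension k' keeps the global functions equal to the constants and keeps the genus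
dim H^1(X, O_X). The base change is given as any pullback square. -/
theorem result (k : Type u) [Field k] (X : Scheme.{u}) [X.Over (Spec (CommRingCat.of k))]
    [IsProper (X ↘ Spec (CommRingCat.of k))] (hdim : topologicalKrullDim X = 1)
    (h0 : Module.finrank k (Coh.HH X (Coh.structureModule X) 0) = 1)
    (k' : Type u) [Field k'] [Algebra k k'] (X' : Scheme.{u}) [X'.Over (Spec (CommRingCat.of k'))]
    (g : X' ⟶ X)
    (hpb : IsPullback g (X' ↘ Spec (CommRingCat.of k')) (X ↘ Spec (CommRingCat.of k))
      (Spec.map (CommRingCat.ofHom (algebraMap k k')))) :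
    Module.finrank k' (Coh.HH X' (Coh.structureModule X') 0) = 1 ∧
      Module.finrank k' (Coh.HH X' (Coh.structureModule X') 1) =
        Module.finrank k (Coh.HH X (Coh.structureModule X) 1) := by
  haveI : CompactSpace X := QuasiCompact.compactSpace_of_compactSpace (X ↘ Spec (CommRingCat.of k))
  haveI : X.IsSeparated := ⟨by
    rw [← terminal.comp_from (X ↘ Spec (CommRingCat.of k))]
    infer_instance⟩
  haveI : (Coh.structureModule X).IsQuasicoherent := Groth.Agent.InvBasic.isQuasicoherent_structureModule X
  have h : ∀ i, Module.finrank k' (Coh.HH X' (Coh.structureModule X') i) =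
      Module.finrank k (Coh.HH X (Coh.structureModule X) i) := fun i => by
    obtain ⟨e⟩ := Groth.Agent.FlatBC.nonempty_baseChange_HH k k' X X' g hpb (Coh.structureModule X) i
    rw [← Helper.finrank_HH_congr (Groth.Agent.QCohLib.pullbackUnitIso g) i, ← e.finrank_eq, Module.finrank_baseChange]
  exact ⟨(h 0).trans h0, h 1⟩
end Groth.Agent.S0223
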