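import Groth.Statements.S0226
import Mathlib
import Groth.Agent.AuslBuchs.Ufd
-- import your own Groth.Agent.* helpers here

set_option autoImplicit false
universe u
open Curves

namespace Groth.Agent.S0226

/-- In a regular local ring of dimension two, an ideal inside the maximal ideal with reduced quotient is
zero, the maximal ideal, or principal. -/
theorem result (A : Type u) [CommRing A] [IsRegularLocalRing A] (hdim : ringKrullDim A = 2)
    (I : Ideal A) (hI : I ≤ IsLocalRing.maximalIdeal A) [IsReduced (A ⧸ I)] :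
    I = ⊥ ∨ I = IsLocalRing.maximalIdeal A ∨ ∃ f ∈ IsLocalRing.maximalIdeal A, f ≠ 0 ∧ I = Ideal.span {f} := by
  classical
  haveI : IsDomain A := DepthLib.isDomain_of_isRegularLocalRing A
  haveI : UniqueFactorizationMonoid A := Groth.Agent.AuslBuchs.uniqueFactorizationMonoid_of_isRegularLocalRing A
  let m := IsLocalRing.maximalIdeal A
  have hrad : I.radical = I := Ideal.radical_eq_iff.mpr ((Ideal.isRadical_iff_quotient_reduced I).mpr inferInstance)
  have hsInf : sInf I.minimalPrimes = I := by rw [Ideal.sInf_minimalPrimes, hrad]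
  by_cases hm : m ∈ I.minimalPrimes
  · refine Or.inr (Or.inl (le_antisymm hI ?_))
    calc m ≤ sInf I.minimalPrimes := le_sInf fun p hp => by
            haveI := hp.1.1
            exact hm.2 hp.1 (IsLocalRing.le_maximalIdeal hp.1.1.ne_top)
      _ = I := hsInf
  by_cases hb : (⊥ : Ideal A) ∈ I.minimalPrimes
  · exact Or.inl (le_bot_iff.mp (hb.1.2))
  refine Or.inr (Or.inr ?_)
  have hp : ∀ p ∈ I.minimalPrimes, ∃ π : A, Prime π ∧ p = Ideal.span {π} := by
    intro p hp
    haveI := hp.1.1
    have hne : p ≠ ⊥ := fun h => hb (h ▸ hp)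
    have hlt : p < m := lt_of_le_of_ne (IsLocalRing.le_maximalIdeal hp.1.1.ne_top) fun h => hm (h ▸ hp)
    have h1 : p.height < 2 := by
      refine lt_of_lt_of_eq (Ideal.height_strict_mono_of_isPrime hlt) ?_
      have := IsLocalRing.maximalIdeal_height_eq_ringKrullDim (R := A)
      rw [hdim] at this
      show (IsLocalRing.maximalIdeal A).height = 2
      exact WithBot.coe_injective (this.trans rfl)
    have h2 : p.height ≠ 0 := by
      rw [Ne, Ideal.height_eq_zero_iff, IsDomain.minimalPrimes_eq_singleton_bot, Set.mem_singleton_iff]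
      exact hne
    have h3 : p.height = 1 := by
      obtain ⟨n, hn⟩ := ENat.ne_top_iff_exists.mp (ne_top_of_lt h1)
      rw [← hn] at h1 h2 ⊢
      norm_cast at h1 h2 ⊢
      omega
    obtain ⟨π, hπ⟩ := (UniqueFactorizationMonoid.isPrincipal_of_height_eq_one h3).principal
    refine ⟨π, (Ideal.span_singleton_prime fun h => hne (by rw [hπ, h]; simp)).mp ?_, hπ⟩
    rw [show Ideal.span ({π} : Set A) = p from hπ.symm]; exact hp.1.1
  have hfin := Ideal.finite_minimalPrimes_of_isNoetherianRing A I
  have key : ∀ s : Finset (Ideal A), (↑s ⊆ I.minimalPrimes) → ∃ f : A, f ≠ 0 ∧ s.inf id = Ideal.span {f} := by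
    intro s
    induction s using Finset.induction with
    | empty => exact fun _ => ⟨1, one_ne_zero, by simp⟩
    | @insert p t hpt ih =>
      intro hs
      rw [Finset.coe_insert, Set.insert_subset_iff] at hs
      obtain ⟨f, hf, hf'⟩ := ih hs.2
      obtain ⟨π, hπ, rfl⟩ := hp p hs.1
      haveI := hs.1.1.1
      refine ⟨π * f, mul_ne_zero hπ.ne_zero hf, ?_⟩
      rw [Finset.inf_insert, hf', id]
      refine le_antisymm (fun x hx => ?_) ?_
      · obtain ⟨hx1, hx2⟩ := hx
        obtain ⟨c, rfl⟩ := Ideal.mem_span_singleton'.mp hx2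
        have hπf : f ∉ Ideal.span {π} := fun h => by
          have hle : t.inf id ≤ Ideal.span {π} := hf' ▸ (Ideal.span_singleton_le_iff_mem _).mpr h
          obtain ⟨q, hq, hq'⟩ := (Ideal.IsPrime.inf_le' hs.1.1.1).mp hle
          exact hpt (le_antisymm (hs.1.2 (hs.2 hq).1 hq') hq' ▸ hq)
        obtain ⟨d, rfl⟩ := Ideal.mem_span_singleton'.mp ((hs.1.1.1.mem_or_mem hx1).resolve_right hπf)
        exact Ideal.mem_span_singleton'.mpr ⟨d, by ring⟩
      · rw [Ideal.span_singleton_le_iff_mem]
        exact ⟨Ideal.mul_mem_right _ _ (Ideal.mem_span_singleton_self _), Ideal.mul_mem_left _ _ (Ideal.mem_span_singleton_self _)⟩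
  obtain ⟨f, hf, hf'⟩ := key hfin.toFinset (by simp)
  have hIf : I = Ideal.span {f} := by rw [← hf', Finset.inf_id_eq_sInf, Set.Finite.coe_toFinset, hsInf]
  exact ⟨f, hI (by rw [hIf]; exact Ideal.mem_span_singleton_self f), hf, hIf⟩


end Groth.Agent.S0226
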