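import Groth.Statements.S0234
import Groth.Agent.InvExtend.Main

set_option autoImplicit false
universe u
open CategoryTheory CategoryTheory.Limits AlgebraicGeometry
open Curves

namespace Groth.Agent.S0234

set_option linter.style.haveILetI false

open Opposite TopologicalSpace Groth.Agent.InvBasic Groth.Agent.InvExtend

variable {X : Scheme.{u}}

/-- Sections of a pushforward from `U` only depend on the trace on opens containing `U`. -/
lemma push_map_bijective (U U' : X.Opens) (hU : U ≤ U') (M : (U : Scheme.{u}).Modules) (W : X.Opens) :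
    Function.Bijective (((Scheme.Modules.pushforward U.ι).obj M).presheaf.map
      (homOfLE (inf_le_left : W ⊓ U' ≤ W)).op) := by
  have e : U.ι ⁻¹ᵁ W ≤ U.ι ⁻¹ᵁ (W ⊓ U') := fun z hz => ⟨hz, hU z.2⟩
  haveI : IsIso ((Opens.map U.ι.base).map (homOfLE (inf_le_left : W ⊓ U' ≤ W))) :=
    ⟨⟨homOfLE e, Subsingleton.elim _ _, Subsingleton.elim _ _⟩⟩
  exact ConcreteCategory.bijective_of_isIso
    (M.presheaf.map ((Opens.map U.ι.base).map (homOfLE (inf_le_left : W ⊓ U' ≤ W))).op)

/-- Sections of a pushforward from `V` on opens disjoint from `V` vanish. -/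
lemma push_subsingleton (V : X.Opens) (M : (V : Scheme.{u}).Modules) (W : X.Opens) (h : ∀ z ∈ W, z ∉ V) :
    Subsingleton Γ((Scheme.Modules.pushforward V.ι).obj M, W) :=
  ⟨fun a b => TopCat.Presheaf.section_ext
    (⟨M.presheaf, M.isSheaf⟩ : TopCat.Sheaf AddCommGrpCat.{u} (V : Scheme.{u}))
    (V.ι ⁻¹ᵁ W) a b fun z hz => absurd z.2 (h _ hz)⟩

lemma isIso_restrict_map {A B : X.Modules} (φ : A ⟶ B) (U : X.Opens)
    (h : ∀ W : X.Opens, W ≤ U → Function.Bijective (φ.app W)) :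
    IsIso ((Scheme.Modules.restrictFunctor U.ι).map φ) :=
  Scheme.Modules.Hom.isIso_iff_isIso_app.mpr fun W =>
    (ConcreteCategory.isIso_iff_bijective (φ.app (U.ι ''ᵁ W))).mpr (h _ (ι_image_le U W))

lemma bases_of_restrict_iso (P : X.Modules) (U : X.Opens) (L : (U : Scheme.{u}).Modules)
    (hL : ∀ z : (U : Scheme.{u}), ∃ (V : (U : Scheme.{u}).Opens) (_ : z ∈ V) (ℓ : Γ(L, V)), IsBasis L ℓ)
    (e : P.restrict U.ι ≅ L) :
    ∀ x ∈ U, ∃ (V : X.Opens) (_ : x ∈ V) (_ : V ≤ U) (ℓ : Γ(P, V)), IsBasis P ℓ := by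
  intro x hx
  obtain ⟨V, hxV, ℓ, hℓ⟩ := hL ⟨x, hx⟩
  refine ⟨U.ι ''ᵁ V, ⟨⟨x, hx⟩, hxV, rfl⟩, ι_image_le U V, e.inv.app V ℓ, fun W hW => ?_⟩
  obtain ⟨W', rfl⟩ : ∃ W' : (U : Scheme).Opens, U.ι ''ᵁ W' = W := ⟨U.ι ⁻¹ᵁ W, by
    rw [Scheme.Hom.image_preimage_eq_opensRange_inf, Scheme.Opens.opensRange_ι, inf_eq_right]
    exact hW.trans (ι_image_le U V)⟩
  have hW' : W' ≤ V := (U.ι.image_le_image_iff _ _).mp hW
  have hbij : Function.Bijective (e.inv.app W') := ConcreteCategory.bijective_of_isIso _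
  have key : ∀ r : Γ((U : Scheme), W'),
      (show Γ(X, U.ι ''ᵁ W') from r) • (P.presheaf.map (homOfLE hW).op (e.inv.app V ℓ) : Γ(P, U.ι ''ᵁ W')) =
        e.inv.app W' (r • L.presheaf.map (homOfLE hW').op ℓ) := by
    intro r
    refine Eq.trans ?_ (Scheme.Modules.Hom.app_smul e.inv r _).symm
    refine Eq.trans ?_ (restrict_smul_eq P U W' r _).symm
    exact congrArg ((show Γ(X, U.ι ''ᵁ W') from r) • ·) (Groth.Agent.QCohLib.app_map e.inv hW' ℓ).symm
  exact (funext key : (fun r : Γ(X, U.ι ''ᵁ W') => r •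
    (P.presheaf.map (homOfLE hW).op (e.inv.app V ℓ) : Γ(P, U.ι ''ᵁ W'))) = _) ▸
      hbij.comp (hℓ W' hW')


/-- On a locally Noetherian scheme, an invertible module on an open U extends to an invertible module on
X provided the local rings at the points outside U are unique factorisation domains. -/
theorem result (X : Scheme.{u}) [IsLocallyNoetherian X] (U : X.Opens)
    (L : (U : Scheme.{u}).Modules) (hL : PicF.IsInvertible L)
    (hufd : ∀ x : X, x ∉ U → UniqueFactorizationMonoid (X.presheaf.stalk x)) :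
    ∃ L' : X.Modules, PicF.IsInvertible L' ∧ Nonempty (L'.restrict U.ι ≅ L) := by
  classical
  let V : X.Opens := ⟨(closure (U : Set X))ᶜ, isClosed_closure.isOpen_compl⟩
  let U' : X.Opens := U ⊔ V
  have hUV : ∀ z ∈ U, z ∉ V := fun z hz h => h (subset_closure hz)
  have hdense : Dense (U' : Set X) := by
    rw [dense_iff_inter_open]
    intro O hO ⟨z, hz⟩
    by_cases hzc : z ∈ closure (U : Set X)
    · obtain ⟨w, hwO, hwU⟩ := mem_closure_iff.mp hzc O hO hz
      exact ⟨w, hwO, Or.inl hwU⟩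
    · exact ⟨z, hz, Or.inr hzc⟩
  let OV := Coh.structureModule (V : Scheme.{u})
  let A := (Scheme.Modules.pushforward U.ι).obj L
  let B := (Scheme.Modules.pushforward V.ι).obj OV
  let P : X.Modules := A ⊞ B
  have htot : ∀ (W : X.Opens) (σ : Γ(P, W)),
      σ = (biprod.inl : A ⟶ P).app W ((biprod.fst : P ⟶ A).app W σ) +
        (biprod.inr : B ⟶ P).app W ((biprod.snd : P ⟶ B).app W σ) := fun W σ =>
    (congrArg (fun φ : P ⟶ P => φ.app W σ) (biprod.total (X := A) (Y := B))).symm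
  have hlf : ∀ (W : X.Opens) a, (biprod.fst : P ⟶ A).app W ((biprod.inl : A ⟶ P).app W a) = a := fun W a =>
    congrArg (fun φ : A ⟶ A => φ.app W a) (biprod.inl_fst (X := A) (Y := B))
  have hrs : ∀ (W : X.Opens) a, (biprod.snd : P ⟶ B).app W ((biprod.inr : B ⟶ P).app W a) = a := fun W a =>
    congrArg (fun φ : B ⟶ B => φ.app W a) (biprod.inr_snd (X := A) (Y := B))
  have hfst : ∀ W : X.Opens, W ≤ U → Function.Bijective ((biprod.fst : P ⟶ A).app W) := by
    intro W hW
    haveI := push_subsingleton V OV W fun z hz => hUV z (hW hz)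
    refine ⟨fun σ τ h => ?_, fun a => ⟨_, hlf W a⟩⟩
    rw [htot W σ, htot W τ, h, Subsingleton.elim ((biprod.snd : P ⟶ B).app W σ) ((biprod.snd : P ⟶ B).app W τ)]
  have hsnd : ∀ W : X.Opens, W ≤ V → Function.Bijective ((biprod.snd : P ⟶ B).app W) := by
    intro W hW
    haveI := push_subsingleton U L W fun z hz hzU => hUV z hzU (hW hz)
    refine ⟨fun σ τ h => ?_, fun a => ⟨_, hrs W a⟩⟩
    rw [htot W σ, htot W τ, h, Subsingleton.elim ((biprod.fst : P ⟶ A).app W σ) ((biprod.fst : P ⟶ A).app W τ)]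
  haveI := isIso_restrict_map _ U hfst
  haveI := isIso_restrict_map _ V hsnd
  let eU : P.restrict U.ι ≅ L := asIso ((Scheme.Modules.restrictFunctor U.ι).map (biprod.fst : P ⟶ A)) ≪≫
    (Scheme.Modules.restrictFunctorAdjCounitIso U.ι).app L
  let eV : P.restrict V.ι ≅ OV := asIso ((Scheme.Modules.restrictFunctor V.ι).map (biprod.snd : P ⟶ B)) ≪≫
    (Scheme.Modules.restrictFunctorAdjCounitIso V.ι).app OV
  have hbasis : ∀ x ∈ U', ∃ (W : X.Opens) (_ : x ∈ W) (_ : W ≤ U') (ℓ : Γ(P, W)), IsBasis P ℓ := by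
    rintro x (hx | hx)
    · obtain ⟨W, h1, h2, h3⟩ := bases_of_restrict_iso P U L (exists_isBasis hL) eU x hx
      exact ⟨W, h1, h2.trans le_sup_left, h3⟩
    · obtain ⟨W, h1, h2, h3⟩ := bases_of_restrict_iso P V OV (fun z => ⟨⊤, trivial,
        (show Γ(OV, ⊤) from (1 : Γ((V : Scheme.{u}), ⊤))), fun W hW => by
          have h1 : (OV.presheaf.map (homOfLE hW).op (show Γ(OV, ⊤) from (1 : Γ((V : Scheme.{u}), ⊤))) : Γ(OV, W)) =
              (show Γ(OV, W) from (1 : Γ((V : Scheme.{u}), W))) :=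
            map_one ((V : Scheme.{u}).presheaf.map (homOfLE hW).op).hom
          rw [h1]
          refine Function.Involutive.bijective fun r => ?_
          change ((r : Γ((V : Scheme.{u}), W)) * 1) * 1 = r
          rw [mul_one, mul_one]⟩) eV x hx
      exact ⟨W, h1, h2.trans le_sup_right, h3⟩
  have hbij : ∀ W : X.Opens, Function.Bijective (P.presheaf.map (homOfLE (inf_le_left : W ⊓ U' ≤ W)).op) := by
    intro W
    have hA := push_map_bijective U U' le_sup_left L W
    have hB := push_map_bijective V U' le_sup_right OV W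
    constructor
    · intro σ τ h
      have h1 := congrArg ((biprod.fst : P ⟶ A).app (W ⊓ U')) h
      have h2 := congrArg ((biprod.snd : P ⟶ B).app (W ⊓ U')) h
      rw [Groth.Agent.QCohLib.app_map, Groth.Agent.QCohLib.app_map] at h1 h2
      rw [htot W σ, htot W τ, hA.1 h1, hB.1 h2]
    · intro σ
      obtain ⟨a, ha⟩ := hA.2 ((biprod.fst : P ⟶ A).app (W ⊓ U') σ)
      obtain ⟨b, hb⟩ := hB.2 ((biprod.snd : P ⟶ B).app (W ⊓ U') σ)
      refine ⟨(biprod.inl : A ⟶ P).app W a + (biprod.inr : B ⟶ P).app W b, ?_⟩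
      rw [map_add, ← Groth.Agent.QCohLib.app_map, ← Groth.Agent.QCohLib.app_map, ha, hb]
      exact (htot (W ⊓ U') σ).symm
  choose Wb hxW hWU ℓ hℓ using hbasis
  let s : ∀ y : X, y ∈ U' → P.presheaf.stalk y := fun y hy =>
    P.presheaf.germ (Wb y hy) y (hxW y hy) (ℓ y hy)
  refine ⟨cutOut P U' s, isInvertible_cutOut P U' s (fun W => (hbij W).1) (fun W => (hbij W).2)
    (fun x hx => ⟨Wb x hx, hxW x hx, hWU x hx, ℓ x hx, hℓ x hx⟩)
    (fun y hy => (hℓ y hy).stalk_bijective (hxW y hy)) hdense (fun x hx => hufd x fun h => hx (Or.inl h)), ?_⟩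
  haveI := isIso_restrict_map (cutOutι P U' s) U fun W hW => cutOutι_bijective P U' s (hW.trans le_sup_left)
  exact ⟨asIso ((Scheme.Modules.restrictFunctor U.ι).map (cutOutι P U' s)) ≪≫ eU⟩

end Groth.Agent.S0234
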