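import Mathlib
import Groth.Statements.S0249
-- import your own Groth.Agent.* helpers here

set_option autoImplicit false
universe u
open Pi1

namespace Groth.Agent.S0249

open AlgebraicGeometry CategoryTheory CategoryTheory.Limits in
/-- Let A be a Noetherian local ring of dimension at least 1 and f an element of its maximal ideal. Then
some prime ideal of height exactly 1 contains f. -/
theorem result (A : Type u) [CommRing A] [IsNoetherianRing A] [IsLocalRing A]
    (h : (1 : WithBot ℕ∞) ≤ ringKrullDim A) (f : A) (hf : f ∈ IsLocalRing.maximalIdeal A) :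
    ∃ p : Ideal A, p.IsPrime ∧ f ∈ p ∧ p.height = 1 := by
  classical
  haveI : FiniteRingKrullDim A := inferInstance
  let m := IsLocalRing.maximalIdeal A
  have hm : 1 ≤ m.height := by
    rw [← IsLocalRing.maximalIdeal_height_eq_ringKrullDim] at h
    exact_mod_cast h
  have hex : ∃ n : ℕ, ∃ p : Ideal A, p.IsPrime ∧ f ∈ p ∧ 1 ≤ p.height ∧ p.height = n := by
    obtain ⟨n, hn⟩ := ENat.ne_top_iff_exists.1 (Ideal.height_ne_top (Ideal.IsMaximal.ne_top (IsLocalRing.maximalIdeal.isMaximal A)))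
    exact ⟨n, m, inferInstance, hf, hm, hn.symm⟩
  obtain ⟨p, hp, hfp, h1, hn⟩ := Nat.find_spec hex
  haveI := hp
  have hmin : ∀ q : Ideal A, q.IsPrime → q < p → f ∈ q → q.height = 0 := by
    intro q hq hqp hfq
    by_contra h0
    haveI := hq
    have hlt := Ideal.height_strict_mono_of_isPrime hqp
    obtain ⟨j, hj⟩ := ENat.ne_top_iff_exists.1 (ne_top_of_lt hlt)
    have : j < Nat.find hex := by rw [← hj, hn] at hlt; exact_mod_cast hlt
    exact Nat.find_min hex this ⟨q, hq, hfq, ENat.one_le_iff_ne_zero.2 h0, hj.symm⟩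
  refine ⟨p, hp, hfp, le_antisymm ?_ h1⟩
  rw [← Nat.cast_one, Ideal.height_le_iff]
  intro P₁ hP₁ hlt₁
  haveI := hP₁
  by_contra hcon
  push_cast at hcon
  have h1' : P₁.height ≠ 0 := fun h => hcon (by rw [h]; exact zero_lt_one)
  obtain ⟨P₀, hP₀, hlt₀⟩ : ∃ P₀ : Ideal A, P₀.IsPrime ∧ P₀ < P₁ := by
    by_contra hne
    push Not at hne
    apply h1'
    rw [Ideal.height_eq_zero_iff]
    refine ⟨⟨hP₁, bot_le⟩, fun q hq hle => ?_⟩
    rcases eq_or_lt_of_le hle with e | e
    · exact e.ge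
    · exact absurd e (hne q hq.1)
  have hf1 : f ∉ P₁ := fun h => h1' (hmin P₁ hP₁ hlt₁ h)
  haveI := hP₀
  let π := Ideal.Quotient.mk P₀
  have hker : RingHom.ker π = P₀ := Ideal.mk_ker
  have hprime : ∀ q : Ideal A, q.IsPrime → P₀ ≤ q → (q.map π).IsPrime := fun q hq hle =>
    Ideal.map_isPrime_of_surjective (H := hq) Ideal.Quotient.mk_surjective (hker.le.trans hle)
  have hcomap : ∀ q : Ideal A, P₀ ≤ q → (q.map π).comap π = q := fun q hle => by
    rw [Ideal.comap_map_of_surjective π Ideal.Quotient.mk_surjective]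
    simpa [π, ← RingHom.ker_eq_comap_bot, Ideal.mk_ker] using hle
  haveI := hprime P₁ hP₁ hlt₀.le
  haveI := hprime p hp (hlt₀.le.trans hlt₁.le)
  have hPmin : p.map π ∈ (Ideal.span {π f}).minimalPrimes := by
    refine ⟨⟨inferInstance, (Ideal.span_singleton_le_iff_mem _).2 (Ideal.mem_map_of_mem π hfp)⟩, fun Q hQ hQle => ?_⟩
    haveI := hQ.1
    have hP₀Q : P₀ ≤ Q.comap π := hker.ge.trans (Ideal.comap_mono bot_le)
    have hQp : Q.comap π ≤ p := (Ideal.comap_mono hQle).trans (hcomap p (hlt₀.le.trans hlt₁.le)).le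
    have hfQ : f ∈ Q.comap π := hQ.2 (Ideal.mem_span_singleton_self _)
    rcases eq_or_lt_of_le hQp with e | e
    · refine Ideal.map_le_iff_le_comap.2 e.ge
    · exfalso
      have h0 := hmin _ (Ideal.IsPrime.comap π) e hfQ
      rcases eq_or_lt_of_le hP₀Q with e' | e'
      · exact hf1 (hlt₀.le (e' ▸ hfQ))
      · haveI : (Q.comap π).IsPrime := Ideal.IsPrime.comap π
        have := Ideal.height_strict_mono_of_isPrime e'
        rw [h0] at this
        exact not_lt_bot this
  have hk := Ideal.height_le_one_of_isPrincipal_of_mem_minimalPrimes (Ideal.span {π f}) (p.map π) hPmin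
  have hb : (⊥ : Ideal (A ⧸ P₀)) < P₁.map π := bot_lt_iff_ne_bot.2 fun e => hlt₀.not_ge (by
    have := hcomap P₁ hlt₀.le
    rw [e, ← RingHom.ker_eq_comap_bot, hker] at this
    exact this.ge)
  have hc : P₁.map π < p.map π := lt_of_le_of_ne (Ideal.map_mono hlt₁.le) fun e => hlt₁.ne (by
    rw [← hcomap P₁ hlt₀.le, e, hcomap p (hlt₀.le.trans hlt₁.le)])
  have h2 := Ideal.height_strict_mono_of_isPrime hb
  have h3 := Ideal.height_strict_mono_of_isPrime hc
  have h4 := lt_of_lt_of_le h3 hk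
  rw [ENat.lt_one_iff_eq_zero] at h4
  rw [h4] at h2
  exact not_lt_bot h2

end Groth.Agent.S0249
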