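import Groth.Statements.S0253
import Groth.Agent.SepClosedNormal.Basic

set_option autoImplicit false
universe u
open Pi1

namespace Groth.Agent.S0253

open AlgebraicGeometry CategoryTheory CategoryTheory.Limits in
/-- Let A be an integrally closed domain whose fraction field is separably closed. Then the residue
field at any nonzero prime ideal of A is algebraically closed. -/
theorem result (A : Type u) [CommRing A] [IsDomain A] [IsIntegrallyClosed A] [IsSepClosed (FractionRing A)]
    (p : Ideal A) [p.IsPrime] (hp : p ≠ ⊥) : IsAlgClosed p.ResidueField := by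
  classical
  let B := Localization.AtPrime p
  let K := FractionRing A
  let : Algebra B K := IsLocalization.localizationAlgebraOfSubmonoidLe B K p.primeCompl
    (nonZeroDivisors A) p.primeCompl_le_nonZeroDivisors
  have : IsScalarTower A B K := IsLocalization.localization_isScalarTower_of_submonoid_le B K
    p.primeCompl (nonZeroDivisors A) p.primeCompl_le_nonZeroDivisors
  have : IsFractionRing B K :=
    IsFractionRing.isFractionRing_of_isDomain_of_isLocalization p.primeCompl B K
  have : IsIntegrallyClosed B :=
    isIntegrallyClosed_of_isLocalization (S := B) p.primeCompl p.primeCompl_le_nonZeroDivisors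
  have : IsSepClosed p.ResidueField :=
    Groth.Agent.SepClosedNormal.isSepClosed_residueField (A := B) K
  obtain ⟨q, hq⟩ := ExpChar.exists p.ResidueField
  cases hq with
  | zero => infer_instance
  | prime hqp =>
    have : ExpChar p.ResidueField q := .prime hqp
    suffices PerfectRing p.ResidueField q by
      have : PerfectField p.ResidueField := PerfectRing.toPerfectField p.ResidueField q
      infer_instance
    have : Fact q.Prime := ⟨hqp⟩
    refine PerfectRing.ofSurjective _ _ fun a ↦ ?_
    obtain ⟨b, rfl⟩ := IsLocalRing.residue_surjective (R := B) a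
    have hqm : ((q : ℕ) : B) ∈ IsLocalRing.maximalIdeal B := by
      rw [← IsLocalRing.residue_eq_zero_iff, map_natCast]
      exact CharP.cast_eq_zero p.ResidueField q
    suffices ∃ y : B, y ^ q - b ∈ IsLocalRing.maximalIdeal B by
      obtain ⟨y, hy⟩ := this
      refine ⟨IsLocalRing.residue B y, ?_⟩
      rw [frobenius_def, ← map_pow, ← sub_eq_zero, ← map_sub]
      exact (IsLocalRing.residue_eq_zero_iff _).mpr hy
    have hint : ∀ (x : K) (c : B), x ^ q + algebraMap B K c * x + algebraMap B K (-b) = 0 →
        ∃ y : B, y ^ q + c * y + -b = 0 := fun x c hx ↦ by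
      have hx' : IsIntegral B x := by
        refine ⟨Polynomial.X ^ q + (Polynomial.C c * Polynomial.X + Polynomial.C (-b)),
          Polynomial.monic_X_pow_add ?_, ?_⟩
        · exact Polynomial.degree_linear_le.trans_lt (by exact_mod_cast hqp.one_lt)
        · simpa [add_assoc] using hx
      obtain ⟨y, rfl⟩ := IsIntegrallyClosed.isIntegral_iff.mp hx'
      refine ⟨y, IsFractionRing.injective B K ?_⟩
      simpa using hx
    by_cases h0 : (q : K) = 0
    · have hne : IsLocalRing.maximalIdeal B ≠ ⊥ := by
        intro h
        apply hp
        rw [← IsLocalization.AtPrime.under_maximalIdeal B p, h, Ideal.under,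
          Ideal.comap_bot_of_injective]
        exact IsLocalization.injective B p.primeCompl_le_nonZeroDivisors
      obtain ⟨c, hc, hc0⟩ := Submodule.exists_mem_ne_zero_of_ne_bot hne
      obtain ⟨x, hx⟩ := IsSepClosed.exists_root_C_mul_X_pow_add_C_mul_X_add_C (n := q) (1 : K)
        (algebraMap B K c) (algebraMap B K (-b)) h0 hqp.two_le
        ((map_ne_zero_iff _ (IsFractionRing.injective B K)).mpr hc0)
      obtain ⟨y, hy⟩ := hint x c (by simpa using hx)
      refine ⟨y, ?_⟩
      have : y ^ q - b = -(c * y) := by linear_combination hy
      rw [this]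
      exact neg_mem (Ideal.mul_mem_right _ _ hc)
    · have : NeZero (q : K) := ⟨h0⟩
      obtain ⟨x, hx⟩ := IsSepClosed.exists_pow_nat_eq (algebraMap B K b) q
      obtain ⟨y, hy⟩ := hint x 0 (by rw [hx]; simp)
      refine ⟨y, ?_⟩
      have : y ^ q - b = 0 := by linear_combination hy
      rw [this]
      exact zero_mem _

end Groth.Agent.S0253
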