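import Groth.Statements.S0258
import Groth.Agent.DepthSections.FEt
import Mathlib
-- import your own Groth.Agent.* helpers here

set_option autoImplicit false
universe u
open Pi1

namespace Groth.Agent.S0258

open AlgebraicGeometry CategoryTheory CategoryTheory.Limits in
/-- For a Noetherian local ring A of depth at least 2, the functor restricting finite étale covers of
Spec A to the punctured spectrum is fully faithful (full and faithful). The published statement
assumes instead that the punctured spectrum of the strict henselization of A is connected; depth at
least 2 is a sufficient condition for this, and the result is stated here under that hypothesis. -/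
theorem result (A : Type u) [CommRing A] [IsNoetherianRing A] [IsLocalRing A] (hA : (2 : ℕ∞) ≤ LocCoh.depth A A) :
    (FEt.restrict (FEt.puncturedSpec A).ι).Full ∧ (FEt.restrict (FEt.puncturedSpec A).ι).Faithful := by
  haveI : IsNoetherianRing (CommRingCat.of A) := ‹IsNoetherianRing A›
  have h : ∀ x : Spec (CommRingCat.of A), x ∉ FEt.puncturedSpec A → (2 : ℕ∞) ≤
      LocCoh.depth ((Spec (CommRingCat.of A)).presheaf.stalk x) ((Spec (CommRingCat.of A)).presheaf.stalk x) := by
    intro (x : PrimeSpectrum A) hx
    have hx' : x = IsLocalRing.closedPoint A := not_not.mp hx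
    letI : Algebra A ((Spec (CommRingCat.of A)).presheaf.stalk x) := (StructureSheaf.toStalk A x).hom.toAlgebra
    haveI : IsLocalization.AtPrime ((Spec (CommRingCat.of A)).presheaf.stalk x) x.asIdeal :=
      StructureSheaf.IsLocalization.to_stalk A x
    haveI := IsLocalization.AtPrime.isLocalRing ((Spec (CommRingCat.of A)).presheaf.stalk x) x.asIdeal
    have hu : ∀ a : x.asIdeal.primeCompl, IsUnit (a : A) := fun a => by
      have h2 := a.2
      simp only [hx'] at h2
      exact not_not.mp h2
    haveI : IsLocalization x.asIdeal.primeCompl A := IsLocalization.self fun a ha => hu ⟨a, ha⟩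
    refine le_of_le_of_eq hA (Eq.symm ?_)
    exact Groth.Agent.FlatAscent.depth_eq_of_ringEquiv
      (IsLocalization.algEquiv x.asIdeal.primeCompl A ((Spec (CommRingCat.of A)).presheaf.stalk x)).toRingEquiv
  exact ⟨Groth.Agent.DepthSections.full_restrict _ h, Groth.Agent.DepthSections.faithful_restrict _ h⟩

end Groth.Agent.S0258
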