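import Groth.Statements.S0263
import Groth.Agent.DepthSections.Maps
import Groth.Agent.DepthSections.Punctured
import Mathlib
-- import your own Groth.Agent.* helpers here

set_option autoImplicit false
universe u
open Pi1

namespace Groth.Agent.S0263

open AlgebraicGeometry CategoryTheory in
theorem finite_etale_appTop {Z : Scheme.{u}} {R : CommRingCat.{u}} (p : Z ⟶ Spec R) [IsFinite p] [Etale p]
    {U : Scheme.{u}} (j : U ⟶ Z) (hj : Function.Bijective j.appTop) :
    ((Scheme.ΓSpecIso R).inv ≫ (j ≫ p).appTop).hom.Finite ∧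
      ((Scheme.ΓSpecIso R).inv ≫ (j ≫ p).appTop).hom.Etale := by
  haveI : IsAffine Z := isAffine_of_isAffineHom p
  haveI : IsIso j.appTop := (ConcreteCategory.isIso_iff_bijective _).mpr hj
  rw [Scheme.Hom.comp_appTop, ← Category.assoc]
  constructor
  · exact RingHom.Finite.comp (RingHom.Finite.of_surjective _ hj.2)
      (RingHom.Finite.comp (IsFinite.finite_app p ⊤ (isAffineOpen_top _))
        (RingHom.Finite.of_surjective _ (ConcreteCategory.bijective_of_isIso (Scheme.ΓSpecIso R).inv).2))
  · have h0 : p.appTop.hom.Etale :=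
      HasRingHomProperty.appTop (P := @Etale) p inferInstance
    rw [CommRingCat.hom_comp, RingHom.Etale.respectsIso.cancel_right_isIso, CommRingCat.hom_comp,
      RingHom.Etale.respectsIso.cancel_left_isIso]
    exact h0


open AlgebraicGeometry CategoryTheory CategoryTheory.Limits in
/-- Let A be a Noetherian local ring of depth at least 2 and V a finite étale cover of the punctured
spectrum of A which is isomorphic to the restriction of some finite étale cover of Spec A. Then the
ring of global sections Γ(V, O_V) is finite and étale over A, via the ring map A → Γ(V, O_V) induced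
by the composite V → Spec A. (Only this implication of the published statement is asserted here; its
converse is not.) -/
theorem result (A : Type u) [CommRing A] [IsNoetherianRing A] [IsLocalRing A] (hA : (2 : ℕ∞) ≤ LocCoh.depth A A)
    (V : FEt.Cat (FEt.puncturedSpec A : Scheme.{u}))
    (hV : ∃ Y : FEt.Cat (Spec (CommRingCat.of A)),
      Nonempty ((FEt.restrict (FEt.puncturedSpec A).ι).obj Y ≅ V)) :
    ((Scheme.ΓSpecIso (CommRingCat.of A)).inv ≫ (V.hom ≫ (FEt.puncturedSpec A).ι).appTop).hom.Finite ∧
    ((Scheme.ΓSpecIso (CommRingCat.of A)).inv ≫ (V.hom ≫ (FEt.puncturedSpec A).ι).appTop).hom.Etale := by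
  obtain ⟨Y, ⟨e⟩⟩ := hV
  haveI : IsFinite Y.hom := Y.prop.1
  haveI : Etale Y.hom := Y.prop.2
  haveI : IsNoetherianRing (CommRingCat.of A) := ‹IsNoetherianRing A›
  haveI : IsLocallyNoetherian ((Functor.fromPUnit (Spec (CommRingCat.of A))).obj Y.right) :=
    inferInstanceAs (IsLocallyNoetherian (Spec (CommRingCat.of A)))
  haveI : IsLocallyNoetherian ((𝟭 Scheme.{u}).obj Y.left) := LocallyOfFiniteType.isLocallyNoetherian Y.hom
  haveI : IsLocallyNoetherian Y.left := inferInstanceAs (IsLocallyNoetherian ((𝟭 Scheme.{u}).obj Y.left))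
  let j : pullback Y.hom (FEt.puncturedSpec A).ι ⟶ Y.left := pullback.fst _ _
  let el : V.left ⟶ pullback Y.hom (FEt.puncturedSpec A).ι := e.inv.left
  have hw : el ≫ pullback.snd Y.hom (FEt.puncturedSpec A).ι = V.hom := Over.w e.inv.hom
  have h : ∀ x : Spec (CommRingCat.of A), x ∉ FEt.puncturedSpec A → (2 : ℕ∞) ≤
      LocCoh.depth ((Spec (CommRingCat.of A)).presheaf.stalk x) ((Spec (CommRingCat.of A)).presheaf.stalk x) := by
    intro x hx
    have hx' : x = IsLocalRing.closedPoint A := not_not.mp hx
    rw [Groth.Agent.DepthSections.depth_stalk_spec A x (IsLocalRing.closedPoint A) hx']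
    haveI : IsLocalization (IsLocalRing.closedPoint A).asIdeal.primeCompl A :=
      IsLocalization.self fun a ha => not_not.mp ha
    exact le_of_le_of_eq hA (Groth.Agent.FlatAscent.depth_eq_of_ringEquiv
      (IsLocalization.algEquiv (IsLocalRing.closedPoint A).asIdeal.primeCompl A
        (Localization.AtPrime (IsLocalRing.closedPoint A).asIdeal)).toRingEquiv).symm
  have hj : Function.Bijective j.appTop := by
    refine Groth.Agent.DepthSections.bijective_appTop_of_depth j fun z hz => ?_
    refine (h (Y.hom z) fun hmem => hz ?_).trans (Groth.Agent.DepthSections.depth_stalk_le_of_flat Y.hom z)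
    show z ∈ Set.range (pullback.fst Y.hom (FEt.puncturedSpec A).ι)
    rw [Scheme.Pullback.range_fst, Scheme.Opens.range_ι]
    exact hmem
  haveI hel : IsIso el := by
    let er : pullback Y.hom (FEt.puncturedSpec A).ι ⟶ V.left := e.hom.left
    refine ⟨er, ?_, ?_⟩
    · exact congrArg (fun m : V ⟶ V => m.left) e.inv_hom_id
    · exact congrArg (fun m : (FEt.restrict (FEt.puncturedSpec A).ι).obj Y ⟶ (FEt.restrict (FEt.puncturedSpec A).ι).obj Y => m.left) e.hom_inv_id
  have hcomp : V.hom ≫ (FEt.puncturedSpec A).ι = (el ≫ j) ≫ Y.hom := by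
    rw [← hw, Category.assoc, Category.assoc, pullback.condition]
  rw [hcomp]
  haveI : IsIso el.appTop := inferInstanceAs (IsIso (Scheme.Γ.map el.op))
  refine finite_etale_appTop Y.hom (el ≫ j) ?_
  rw [Scheme.Hom.comp_appTop]
  exact (ConcreteCategory.bijective_of_isIso el.appTop).comp hj

end Groth.Agent.S0263
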