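import Groth.Statements.S0264
import Groth.Agent.FullyFaithBC.Main
import Groth.Agent.TrivSec.Local

set_option autoImplicit false
universe u
open Pi1

namespace Groth.Agent.S0264

open AlgebraicGeometry CategoryTheory CategoryTheory.Limits in
/-- Functor form of the surjectivity part of the homotopy exact sequence: Let f : X -> S be flat, proper
and locally of finite presentation with S connected, such that for every algebraically closed field
Ω and every geometric point Spec Ω -> S the fibre X ×_S Spec Ω is connected and reduced. Then the
restriction functor FEt.restrict f, pulling back finite etale covers along f, is full and faithful. -/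
theorem result {X S : Scheme.{u}} (f : X ⟶ S) [IsProper f] [Flat f] [LocallyOfFinitePresentation f]
    [ConnectedSpace S]
    (hfib : ∀ (Ω : Type u) [Field Ω] [IsAlgClosed Ω] (s : Spec (CommRingCat.of Ω) ⟶ S),
      ConnectedSpace ↥(pullback f s) ∧ IsReduced (pullback f s)) :
    (FEt.restrict f).Full ∧ (FEt.restrict f).Faithful := by
  have key : ∀ (E : Type u) [Field E] (y : Spec (CommRingCat.of E) ⟶ S),
      IsReduced (pullback f y) ∧ ConnectedSpace ↥(pullback f y) := by
    intro E _ y
    let Ω := AlgebraicClosure E
    let c : Spec (CommRingCat.of Ω) ⟶ Spec (CommRingCat.of E) :=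
      Spec.map (CommRingCat.ofHom (algebraMap E Ω))
    haveI : Surjective c := ⟨fun p => ⟨IsLocalRing.closedPoint Ω, Subsingleton.elim _ _⟩⟩
    obtain ⟨hc, hr⟩ := hfib Ω (c ≫ y)
    let v : pullback f (c ≫ y) ⟶ pullback f y :=
      pullback.lift (pullback.fst f (c ≫ y)) (pullback.snd f (c ≫ y) ≫ c) (by rw [pullback.condition, Category.assoc])
    have hv : IsPullback v (pullback.snd f (c ≫ y)) (pullback.snd f y) c := by
      refine IsPullback.of_right (h₁₂ := pullback.fst f y) (h₂₂ := y) (v₁₃ := f) ?_ (pullback.lift_snd _ _ _)
        (IsPullback.of_hasPullback f y)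
      rw [show v ≫ pullback.fst f y = pullback.fst f (c ≫ y) from pullback.lift_fst _ _ _]
      exact IsPullback.of_hasPullback f (c ≫ y)
    haveI : Surjective v := MorphismProperty.of_isPullback (P := @Surjective) hv.flip inferInstance
    haveI : Flat v := MorphismProperty.of_isPullback (P := @Flat) hv.flip inferInstance
    refine ⟨?_, v.surjective.connectedSpace v.continuous⟩
    have : ∀ p, _root_.IsReduced ((pullback f y).presheaf.stalk p) := fun p => by
      obtain ⟨q, rfl⟩ := v.surjective p
      exact isReduced_of_injective (v.stalkMap q).hom (Groth.Agent.TrivSec.stalkMap_injective_of_flat v q)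
    exact isReduced_of_isReduced_stalk _
  haveI : GeometricallyConnected f :=
    ⟨geometrically_iff_of_isClosedUnderIsomorphisms.mpr fun E _ y => (key E y).2⟩
  haveI : GeometricallyReduced f :=
    ⟨geometrically_iff_of_isClosedUnderIsomorphisms.mpr fun E _ y => (key E y).1⟩
  exact Groth.Agent.FullyFaithBC.fullyFaithful f

end Groth.Agent.S0264
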