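import Groth.Statements.S0268
import Groth.Agent.FullyFaithBC.GeomConn
import Groth.Agent.FieldExtConn.Conn

set_option autoImplicit false
universe u
open Pi1

namespace Groth.Agent.S0268

open AlgebraicGeometry CategoryTheory CategoryTheory.Limits in
/-- Functor form of the surjectivity of pi_1(X) -> pi_1(Spec k): Let X be quasi-compact and
quasi-separated over a field k with X_{kbar} connected. Then the functor pulling back finite etale
k-schemes to X is full and faithful. -/
theorem result (k : Type u) [Field k] {X : Scheme.{u}} (f : X ⟶ Spec (CommRingCat.of k)) [CompactSpace X]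
    [QuasiSeparatedSpace X]
    [ConnectedSpace ↥(pullback f (Spec.map (CommRingCat.ofHom (algebraMap k (AlgebraicClosure k)))))] :
    (FEt.restrict f).Full ∧ (FEt.restrict f).Faithful := by
  haveI hκ : ConnectedSpace (pullback f (Groth.Agent.FieldExtConn.ext k (AlgebraicClosure k)) : Scheme.{u}) :=
    ‹ConnectedSpace ↥(pullback f (Spec.map (CommRingCat.ofHom (algebraMap k (AlgebraicClosure k)))))›
  let i : separableClosure k (AlgebraicClosure k) →ₐ[k] AlgebraicClosure k :=
    IsScalarTower.toAlgHom k _ (AlgebraicClosure k)
  haveI : ConnectedSpace (pullback f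
      (Groth.Agent.FieldExtConn.ext k (separableClosure k (AlgebraicClosure k))) : Scheme.{u}) :=
    (Groth.Agent.FieldExtConn.baseMap f i).surjective.connectedSpace
      (Groth.Agent.FieldExtConn.baseMap f i).continuous
  haveI := Groth.Agent.FieldExtConn.geometricallyConnected_of_sepClosure f
  haveI : QuasiCompact f := inferInstance
  exact Groth.Agent.FullyFaithBC.fullyFaithful_of_geometricallyConnected f

end Groth.Agent.S0268
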