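import Groth.Prelude.Def_Pi1
import Mathlib.AlgebraicGeometry.Morphisms.Integral
import Mathlib.AlgebraicGeometry.Morphisms.UniversallyInjective
import Mathlib.AlgebraicGeometry.Morphisms.UnderlyingMap
import Groth.Agent.EtSite.TopInv
-- import your own Groth.Agent.* helpers here

set_option autoImplicit false
universe u

namespace Groth.Agent.S0283

open AlgebraicGeometry CategoryTheory CategoryTheory.Limits in
/-- Let f : X → Y be a morphism of schemes which is integral, universally injective and surjective (that
is, a universal homeomorphism). Then base change along f, from finite étale covers of Y to finite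
étale covers of X, is a full and faithful functor. -/
theorem result {X Y : Scheme.{u}} (f : X ⟶ Y) [IsIntegralHom f] [UniversallyInjective f] [Surjective f] :
    (FEt.restrict f).Full ∧ (FEt.restrict f).Faithful := by
  have key : ∀ A B : FEt.Cat Y, Function.Bijective
      (fun φ : A ⟶ B => ((FEt.restrict f).map φ)) := by
    intro A B
    have : Etale (Over.mk B.hom).hom := B.prop.2
    have h := EtSite.bijective_pullback_map_of_universalHomeomorph f (Over.mk B.hom) (Over.mk A.hom)
    refine ⟨fun φ φ' e => MorphismProperty.Over.Hom.ext ?_, fun ψ => ?_⟩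
    · exact congrArg CommaMorphism.left (h.1 (a₁ := (Over.homMk φ.left (MorphismProperty.Over.w φ) : Over.mk A.hom ⟶ Over.mk B.hom))
        (a₂ := Over.homMk φ'.left (MorphismProperty.Over.w φ')) (Over.OverMorphism.ext (congrArg (fun m => m.left) e)))
    · obtain ⟨χ, hχ⟩ := h.2 (Over.homMk ψ.left (MorphismProperty.Over.w ψ))
      exact ⟨MorphismProperty.Over.homMk χ.left (Over.w χ),
        MorphismProperty.Over.Hom.ext (congrArg (fun m => m.left) hχ)⟩
  exact ⟨⟨fun {A B} => (key A B).2⟩, ⟨fun {A B} => fun _ _ h => (key A B).1 h⟩⟩

end Groth.Agent.S0283
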