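import Groth.Statements.S0286
import Groth.Agent.EtSite.IntegralLift
import Groth.Agent.InsepLength.Scheme
-- import your own Groth.Agent.* helpers here

set_option autoImplicit false
universe u
open Pi1

namespace Groth.Agent.S0286

open AlgebraicGeometry CategoryTheory CategoryTheory.Limits in
/-- For a scheme X over a field k of characteristic p (p a prime), pulling back finite étale covers
along the projection X ×_{Spec k} Spec(k^perf) → X, where k^perf is the perfect closure of k, is an
equivalence of categories. -/
theorem result (k : Type u) [Field k] (p : ℕ) [Fact p.Prime] [CharP k p] {X : Scheme.{u}}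
    (f : X ⟶ Spec (CommRingCat.of k)) :
    (FEt.restrict (pullback.fst f
      (Spec.map (CommRingCat.ofHom (PerfectClosure.of k p))))).IsEquivalence := by
  let _ : Algebra k (PerfectClosure k p) := (PerfectClosure.of k p).toAlgebra
  have : ExpChar k p := ExpChar.prime (Fact.out : p.Prime)
  have : IsPRadical (algebraMap k (PerfectClosure k p)) p := PerfectClosure.isPRadical k p
  have : IsPurelyInseparable k (PerfectClosure k p) := IsPRadical.isPurelyInseparable k _ p
  have hu : UniversallyInjective (Spec.map (CommRingCat.ofHom (PerfectClosure.of k p))) :=
    Groth.Agent.InsepLength.universallyInjective_specMap (k := k) (P := PerfectClosure k p)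
  have hi : IsIntegralHom (Spec.map (CommRingCat.ofHom (PerfectClosure.of k p))) :=
    IsIntegralHom.SpecMap_iff.mpr (algebraMap_isIntegral_iff.mpr inferInstance :
      (algebraMap k (PerfectClosure k p)).IsIntegral)
  generalize Spec.map (CommRingCat.ofHom (PerfectClosure.of k p)) = v at hu hi
  have : Surjective v :=
    ⟨fun a => ⟨IsLocalRing.closedPoint (PerfectClosure k p), @Subsingleton.elim (PrimeSpectrum k) _ _ _⟩⟩
  have : UniversallyInjective (pullback.fst f v) :=
    MorphismProperty.pullback_fst (P := @UniversallyInjective) f v hu
  exact Groth.Agent.EtSite.isEquivalence_restrict (pullback.fst f v) fun qh h x => by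
    haveI := h; exact Groth.Agent.EtSite.exists_lift_integral (pullback.fst f v) qh x

end Groth.Agent.S0286
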