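import Groth.Statements.S0288
import Groth.Agent.UnibFib.EtaleConn
import Groth.Agent.S9812
import Mathlib.AlgebraicGeometry.Normalization
import Mathlib.AlgebraicGeometry.Morphisms.Integral
import Mathlib.AlgebraicGeometry.Morphisms.Finite
import Mathlib.AlgebraicGeometry.FunctionField
-- import your own Groth.Agent.* helpers here

set_option autoImplicit false
set_option linter.style.haveILetI false
set_option backward.isDefEq.respectTransparency false
universe u
open Pi1

namespace Groth.Agent.S0288

open AlgebraicGeometry CategoryTheory CategoryTheory.Limits in
/-- Let X be a normal integral scheme with function field K, L a finite field extension of K and Y -> X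
the normalization of X in Spec L. If Y -> X is unramified (formally unramified and locally of finite
type), then it is etale, and finite. -/
theorem result {X : Scheme.{u}} [IsIntegral X] (hX : Pi1.IsNormalScheme X) (L : Type u) [Field L]
    [Algebra X.functionField L] [FiniteDimensional X.functionField L]
    [QuasiCompact (Spec.map (CommRingCat.ofHom (algebraMap X.functionField L)) ≫ X.fromSpecStalk (genericPoint X))]
    [QuasiSeparated (Spec.map (CommRingCat.ofHom (algebraMap X.functionField L)) ≫ X.fromSpecStalk (genericPoint X))]
    [FormallyUnramified (Spec.map (CommRingCat.ofHom (algebraMap X.functionField L)) ≫ X.fromSpecStalk (genericPoint X)).fromNormalization]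
    [LocallyOfFiniteType (Spec.map (CommRingCat.ofHom (algebraMap X.functionField L)) ≫ X.fromSpecStalk (genericPoint X)).fromNormalization] :
    Etale (Spec.map (CommRingCat.ofHom (algebraMap X.functionField L)) ≫ X.fromSpecStalk (genericPoint X)).fromNormalization ∧
    IsFinite (Spec.map (CommRingCat.ofHom (algebraMap X.functionField L)) ≫ X.fromSpecStalk (genericPoint X)).fromNormalization := by
  haveI : IsIntegral (Spec (CommRingCat.of L)) := inferInstance
  let f := Spec.map (CommRingCat.ofHom (algebraMap X.functionField L)) ≫ X.fromSpecStalk (genericPoint X)
  refine ⟨(UnibFib.etale_of_connected f.fromNormalization (fun y => ?_) ⟨f.toNormalization default, ?_⟩).1,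
    (IsFinite.iff_isIntegralHom_and_locallyOfFiniteType _).2 ⟨inferInstance, inferInstance⟩⟩
  · haveI := (hX y).1
    haveI := (hX y).2
    exact S9812.result _
  · rw [← Scheme.Hom.comp_apply, Scheme.Hom.toNormalization_fromNormalization, Scheme.Hom.comp_apply]
    have h : (X.fromSpecStalk (genericPoint X)) ((Spec.map (CommRingCat.ofHom (algebraMap X.functionField L))) default) ∈ {y | y ⤳ genericPoint X} :=
      Scheme.range_fromSpecStalk (X := X) (x := genericPoint X) ▸ Set.mem_range_self _
    exact (Specializes.antisymm h (genericPoint_specializes _)).eq
end Groth.Agent.S0288
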