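import Groth.Statements.S0289
import Groth.Agent.EtSite.IntegralLift
-- import your own Groth.Agent.* helpers here

set_option autoImplicit false
universe u
open Pi1

namespace Groth.Agent.S0289

open AlgebraicGeometry CategoryTheory CategoryTheory.Limits in
/-- A morphism of schemes which is integral, universally injective and surjective (equivalently, a
universal homeomorphism) induces by base change an equivalence between the categories of finite
étale covers. -/
theorem result {X Y : Scheme.{u}} (f : X ⟶ Y) [IsIntegralHom f] [UniversallyInjective f] [Surjective f] :
    (FEt.restrict f).IsEquivalence := by
  exact Groth.Agent.EtSite.isEquivalence_restrict f fun qh h x => by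
    haveI := h; exact Groth.Agent.EtSite.exists_lift_integral f qh x

end Groth.Agent.S0289
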