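import Groth.Statements.S0291
import Groth.Agent.DepthSections.Apps
import Mathlib
-- import your own Groth.Agent.* helpers here

set_option autoImplicit false
universe u
open Pi1

namespace Groth.Agent.S0291

open AlgebraicGeometry CategoryTheory CategoryTheory.Limits in
/-- Let A be a Noetherian local ring and B a finite A-algebra such that the local rings of Spec B at all
closed points have depth at least 2. Then restriction from global sections of Spec B to sections
over the preimage of the punctured spectrum of A is an isomorphism. -/
theorem result (A B : Type u) [CommRing A] [IsNoetherianRing A] [IsLocalRing A] [CommRing B] [Algebra A B]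
    [Module.Finite A B]
    (h : ∀ (m : Ideal B) (_ : m.IsMaximal), (2 : ℕ∞) ≤ LocCoh.depth (Localization.AtPrime m) (Localization.AtPrime m)) :
    IsIso ((Spec (CommRingCat.of B)).presheaf.map (homOfLE (le_top :
      Spec.map (CommRingCat.ofHom (algebraMap A B)) ⁻¹ᵁ FEt.puncturedSpec A ≤ ⊤)).op) := by
  haveI : IsNoetherianRing (CommRingCat.of B) := IsNoetherianRing.of_finite A B
  have hb := Groth.Agent.DepthSections.bijective_restrict_ring (X := Spec (CommRingCat.of B))
    (Spec.map (CommRingCat.ofHom (algebraMap A B)) ⁻¹ᵁ FEt.puncturedSpec A) (fun (x : PrimeSpectrum B) hx => ?_) ⊤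
  · rw [ConcreteCategory.isIso_iff_bijective]
    let W := Spec.map (CommRingCat.ofHom (algebraMap A B)) ⁻¹ᵁ FEt.puncturedSpec A
    have he : W = ⊤ ⊓ W := (top_inf_eq W).symm
    have h2 := ConcreteCategory.bijective_of_isIso
      ((Spec (CommRingCat.of B)).presheaf.map (eqToHom he).op)
    refine cast ?_ (h2.comp hb)
    congr 1
  · have hx' : PrimeSpectrum.comap (algebraMap A B) x = IsLocalRing.closedPoint A := not_not.mp hx
    have hmax : x.asIdeal.IsMaximal := by
      refine Ideal.isMaximal_of_isIntegral_of_isMaximal_comap (R := A) x.asIdeal ?_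
      rw [show x.asIdeal.comap (algebraMap A B) = IsLocalRing.maximalIdeal A from
        congrArg PrimeSpectrum.asIdeal hx']
      infer_instance
    have h1 := h x.asIdeal hmax
    letI : Algebra B ((Spec (CommRingCat.of B)).presheaf.stalk x) :=
      (StructureSheaf.toStalk B x).hom.toAlgebra
    haveI : IsLocalization.AtPrime ((Spec (CommRingCat.of B)).presheaf.stalk x) x.asIdeal :=
      StructureSheaf.IsLocalization.to_stalk B x
    haveI := IsLocalization.AtPrime.isLocalRing ((Spec (CommRingCat.of B)).presheaf.stalk x) x.asIdeal
    refine le_of_le_of_eq h1 (Eq.symm ?_)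
    exact Groth.Agent.FlatAscent.depth_eq_of_ringEquiv (IsLocalization.algEquiv x.asIdeal.primeCompl
      (Localization.AtPrime x.asIdeal) ((Spec (CommRingCat.of B)).presheaf.stalk x)).toRingEquiv

end Groth.Agent.S0291
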