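import Groth.Statements.S0293
import Groth.Agent.DepthSections.EtaleDepth
import Groth.Agent.FlatAscent.AtPrime
import Mathlib


set_option autoImplicit false
universe u
open Pi1

namespace Groth.Agent.S0293

open AlgebraicGeometry CategoryTheory CategoryTheory.Limits in
theorem etale_app {X : Scheme.{u}} [IsLocallyNoetherian X] (U : X.Opens)
    (hU : ∀ x : X, x ∉ U → (2 : ℕ∞) ≤ LocCoh.depth (X.presheaf.stalk x) (X.presheaf.stalk x)) {Y : Scheme.{u}} (π : Y ⟶ X)
    [IsFinite π] [Flat π] [Etale (pullback.snd π U.ι)] {W : X.Opens} (hW : IsAffineOpen W) :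
    (π.app W).hom.Etale := by
  letI : Algebra Γ(X, W) Γ(Y, π ⁻¹ᵁ W) := (π.app W).hom.toAlgebra
  haveI : IsNoetherianRing Γ(X, W) := IsLocallyNoetherian.component_noetherian ⟨W, hW⟩
  haveI : Module.Finite Γ(X, W) Γ(Y, π ⁻¹ᵁ W) := IsFinite.finite_app π W hW
  haveI : Module.Flat Γ(X, W) Γ(Y, π ⁻¹ᵁ W) := by
    have h := Flat.flat_appLE π hW (hW.preimage π) le_rfl
    rw [← Scheme.Hom.app_eq_appLE] at h
    exact h
  suffices Algebra.Etale Γ(X, W) Γ(Y, π ⁻¹ᵁ W) from RingHom.etale_algebraMap.mpr this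
  refine Groth.Agent.DepthSections.etale_of_fibres_or_depth fun q _ => ?_
  let x : X := hW.fromSpec ⟨q, ‹_›⟩
  have hxW : x ∈ W := by
    rw [← SetLike.mem_coe, ← hW.range_fromSpec]; exact Set.mem_range_self _
  by_cases hxU : x ∈ U
  · left
    obtain ⟨g, hgU, hxg⟩ := hW.exists_basicOpen_le ⟨x, hxU⟩ hxW
    have hgq : g ∉ q := by
      have h1 : (⟨q, ‹_›⟩ : PrimeSpectrum Γ(X, W)) ∈ hW.fromSpec ⁻¹ᵁ X.basicOpen g := hxg
      rwa [hW.fromSpec_preimage_basicOpen] at h1
    have hg : IsAffineOpen (X.basicOpen g) := hW.basicOpen g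
    have e' : Y.basicOpen (π.app W g) = π ⁻¹ᵁ X.basicOpen g := (π.preimage_basicOpen g).symm
    have eW : Y.basicOpen (π.app W g) ≤ π ⁻¹ᵁ W := Y.basicOpen_le _
    have eg : Y.basicOpen (π.app W g) ≤ π ⁻¹ᵁ X.basicOpen g := e'.le
    haveI : Etale (π ∣_ U) := by
      delta morphismRestrict
      infer_instance
    have eU : π ⁻¹ᵁ X.basicOpen g ≤ π ⁻¹ᵁ U := π.preimage_mono hgU
    haveI : Etale (π.resLE (X.basicOpen g) (Y.basicOpen (π.app W g)) eg ≫ (X.basicOpen g).ι) := by
      rw [Scheme.Hom.resLE_comp_ι, ← Scheme.homOfLE_ι Y (eg.trans eU), Category.assoc, ← morphismRestrict_ι]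
      infer_instance
    haveI : Etale (π.resLE (X.basicOpen g) (Y.basicOpen (π.app W g)) eg) := Etale.of_comp _ (X.basicOpen g).ι
    haveI : IsAffine (X.basicOpen g).toScheme := hg
    haveI : IsAffine (Y.basicOpen (π.app W g)).toScheme := (hW.preimage π).basicOpen _
    have h1 : (π.appLE (X.basicOpen g) (Y.basicOpen (π.app W g)) eg).hom.FormallyUnramified := by
      have h := (HasRingHomProperty.iff_of_isAffine (P := @FormallyUnramified)).mp
        (inferInstance : FormallyUnramified (π.resLE (X.basicOpen g) (Y.basicOpen (π.app W g)) eg))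
      rwa [Scheme.Hom.appTop, Scheme.Hom.resLE_app_top, CommRingCat.hom_comp,
        RingHom.FormallyUnramified.respectsIso.cancel_left_isIso, CommRingCat.hom_comp,
        RingHom.FormallyUnramified.respectsIso.cancel_right_isIso] at h
    have h2 : (π.appLE W (Y.basicOpen (π.app W g)) eW).hom.FormallyUnramified := by
      rw [← π.map_appLE eg (homOfLE (X.basicOpen_le g)).op]
      haveI : IsLocalization.Away g Γ(X, X.basicOpen g) := hW.isLocalization_basicOpen g
      haveI := Algebra.FormallyEtale.of_isLocalization (Rₘ := Γ(X, X.basicOpen g)) (Submonoid.powers g)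
      exact RingHom.FormallyUnramified.stableUnderComposition _ _
        (RingHom.formallyUnramified_algebraMap.mpr inferInstance) h1
    letI : Algebra Γ(X, W) Γ(Y, Y.basicOpen (π.app W g)) :=
      (π.appLE W (Y.basicOpen (π.app W g)) eW).hom.toAlgebra
    haveI : IsScalarTower Γ(X, W) Γ(Y, π ⁻¹ᵁ W) Γ(Y, Y.basicOpen (π.app W g)) :=
      IsScalarTower.of_algebraMap_eq' rfl
    haveI : IsLocalization.Away (algebraMap Γ(X, W) Γ(Y, π ⁻¹ᵁ W) g) Γ(Y, Y.basicOpen (π.app W g)) :=
      (hW.preimage π).isLocalization_basicOpen _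
    haveI : Algebra.FormallyUnramified Γ(X, W) Γ(Y, Y.basicOpen (π.app W g)) :=
      RingHom.formallyUnramified_algebraMap.mp h2
    exact Groth.Agent.DepthSections.fibre_formallyUnramified_of_away g Γ(Y, Y.basicOpen (π.app W g)) q hgq
  · right
    letI : Algebra Γ(X, W) (X.presheaf.stalk x) := TopCat.Presheaf.algebra_section_stalk X.presheaf (⟨x, hxW⟩ : W)
    haveI : IsLocalization.AtPrime (X.presheaf.stalk x) q := hW.isLocalization_stalk' ⟨q, ‹_›⟩ hxW
    rw [← Groth.Agent.FlatAscent.depth_eq_of_ringEquiv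
      (IsLocalization.algEquiv q.primeCompl (Localization.AtPrime q) (X.presheaf.stalk x)).toRingEquiv]
    exact hU x hxU

open AlgebraicGeometry CategoryTheory CategoryTheory.Limits in
/-- Let X be a locally Noetherian scheme, U ⊆ X an open subset such that the local rings of X at points
outside U have depth at least 2, and π : Y → X a finite morphism which is étale over U and such that
the local rings of Y at points outside the preimage of U have depth at least 2. Then π is étale if
and only if it is flat. -/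
theorem result {X : Scheme.{u}} [IsLocallyNoetherian X] (U : X.Opens)
    (hU : ∀ x : X, x ∉ U → (2 : ℕ∞) ≤ LocCoh.depth (X.presheaf.stalk x) (X.presheaf.stalk x)) {Y : Scheme.{u}} (π : Y ⟶ X)
    [IsFinite π] [Etale (pullback.snd π U.ι)]
    (hY : ∀ y : Y, π.base y ∉ U → (2 : ℕ∞) ≤ LocCoh.depth (Y.presheaf.stalk y) (Y.presheaf.stalk y)) :
    Etale π ↔ Flat π := by
  refine ⟨fun _ => inferInstance, fun _ => ?_⟩
  rw [AlgebraicGeometry.HasRingHomProperty.iff_exists_appLE (P := @AlgebraicGeometry.Etale)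
    (RingHom.Etale.stableUnderComposition.stableUnderCompositionWithLocalizationAway (fun R S _ _ _ r _ => RingHom.etale_algebraMap.mpr (Algebra.Etale.of_isLocalizationAway r))).left]
  intro y
  obtain ⟨_, ⟨W, hW, rfl⟩, hyW, -⟩ := X.isBasis_affineOpens.exists_subset_of_mem_open (Set.mem_univ (π y)) isOpen_univ
  refine ⟨⟨_, hW⟩, ⟨_, hW.preimage π⟩, hyW, le_rfl, ?_⟩
  rw [← AlgebraicGeometry.Scheme.Hom.app_eq_appLE]
  exact etale_app U hU π hW

end Groth.Agent.S0293
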