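import Groth.Statements.S0294
import Mathlib
-- import your own Groth.Agent.* helpers here

set_option autoImplicit false
universe u
open Pi1

namespace Groth.Agent.S0294

open AlgebraicGeometry CategoryTheory Limits in
theorem finite_sections {Ω : Type u} [Field Ω] {P : Scheme.{u}} (p : P ⟶ Spec (CommRingCat.of Ω)) [IsFinite p] :
    Finite {s : Spec (CommRingCat.of Ω) ⟶ P // s ≫ p = 𝟙 _} := by
  haveI : IsAffine P := isAffine_of_isAffineHom p
  let B := Γ(P, ⊤)
  let ψ : CommRingCat.of Ω ⟶ B := (Scheme.ΓSpecIso _).inv ≫ p.appTop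
  letI : Algebra Ω B := ψ.hom.toAlgebra
  haveI : Module.Finite Ω B :=
    RingHom.Finite.comp (IsFinite.finite_app p ⊤ (isAffineOpen_top _))
      (RingHom.Finite.of_surjective _ (ConcreteCategory.bijective_of_isIso (Scheme.ΓSpecIso (CommRingCat.of Ω)).inv).2)
  haveI : IsArtinianRing B := IsArtinianRing.of_finite Ω B
  have hfin : Finite {f : B →+* Ω // f.comp ψ.hom = RingHom.id Ω} := by
    refine Finite.of_injective (β := PrimeSpectrum B) (fun f => ⟨RingHom.ker f.1, RingHom.ker_isPrime _⟩) ?_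
    intro f g hfg
    refine Subtype.ext (RingHom.ext fun b => ?_)
    have hk : b - ψ (f.1 b) ∈ RingHom.ker f.1 := by
      rw [RingHom.mem_ker, map_sub, sub_eq_zero]
      exact (RingHom.congr_fun f.2 (f.1 b)).symm
    rw [show RingHom.ker f.1 = RingHom.ker g.1 from congrArg PrimeSpectrum.asIdeal hfg, RingHom.mem_ker,
      map_sub, sub_eq_zero] at hk
    exact (hk.trans (RingHom.congr_fun g.2 (f.1 b))).symm
  have hw : ∀ s : {s : Spec (CommRingCat.of Ω) ⟶ P // s ≫ p = 𝟙 _},
      (s.1.appTop ≫ (Scheme.ΓSpecIso _).hom).hom.comp ψ.hom = RingHom.id Ω := by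
    intro s
    have : ψ ≫ s.1.appTop ≫ (Scheme.ΓSpecIso _).hom = 𝟙 _ := by
      simp only [ψ, Category.assoc, ← Scheme.Hom.comp_appTop_assoc, s.2, Scheme.Hom.id_appTop,
        Category.id_comp, Iso.inv_hom_id]
    exact congrArg CommRingCat.Hom.hom this
  refine Finite.of_injective (fun s => (⟨_, hw s⟩ : {f : B →+* Ω // f.comp ψ.hom = RingHom.id Ω})) ?_
  intro s t hst
  refine Subtype.ext (ext_of_isAffine ?_)
  have := CommRingCat.hom_ext (congrArg Subtype.val hst)
  exact (cancel_mono _).mp this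


open AlgebraicGeometry CategoryTheory CategoryTheory.Limits in
/-- For a finite étale cover Y of a scheme X and a point ξ : Spec Ω → X with values in a field Ω, the
fibre of Y over ξ (the set of Ω-valued points of Y lying over ξ) is finite. -/
theorem result {X : Scheme.{u}} {Ω : Type u} [Field Ω] (ξ : Spec (CommRingCat.of Ω) ⟶ X) (Y : FEt.Cat X) :
    Finite (FEt.fiberObj ξ Y) := by
  haveI : IsFinite Y.hom := Y.prop.1
  haveI := finite_sections (pullback.snd Y.hom ξ)
  refine Finite.of_injective (fun s => (⟨pullback.lift s.1 (𝟙 _) (s.2.trans (Category.id_comp ξ).symm),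
    pullback.lift_snd _ _ _⟩ : {t : Spec (CommRingCat.of Ω) ⟶ pullback Y.hom ξ // t ≫ pullback.snd Y.hom ξ = 𝟙 _})) ?_
  intro s t hst
  have := congrArg (fun r => r.1 ≫ pullback.fst Y.hom ξ) hst
  exact Subtype.ext ((pullback.lift_fst _ _ _).symm.trans (this.trans (pullback.lift_fst _ _ _)))

end Groth.Agent.S0294
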