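import Groth.Statements.S0297
import Groth.Agent.FEtGalois.Galois
import Groth.Agent.FiberUnique.Basic
-- import your own Groth.Agent.* helpers here

set_option autoImplicit false
universe u
open Pi1

namespace Groth.Agent.S0297

open AlgebraicGeometry CategoryTheory CategoryTheory.Limits in
/-- For a connected scheme X and geometric points ξ : Spec Ω → X and ξ' : Spec Ω' → X (Ω, Ω'
algebraically closed fields), every morphism of functors from the fibre functor at ξ to the fibre
functor at ξ' on finite étale covers of X is an isomorphism. -/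
theorem result {X : Scheme.{u}} [ConnectedSpace X] {Ω Ω' : Type u} [Field Ω]
    [IsAlgClosed Ω] [Field Ω'] [IsAlgClosed Ω'] (ξ : Spec (CommRingCat.of Ω) ⟶ X)
    (ξ' : Spec (CommRingCat.of Ω') ⟶ X) (φ : FEt.fiber ξ ⟶ FEt.fiber ξ') : IsIso φ := by
  haveI := Groth.Agent.FEtGalois.galoisCategory ξ
  haveI := Groth.Agent.FEtGalois.fiberFunctor ξ
  haveI := Groth.Agent.FEtGalois.fiberFunctor ξ'
  let F := Groth.Agent.FEtGalois.fiberFin ξ
  let F' := Groth.Agent.FEtGalois.fiberFin ξ'
  obtain ⟨e⟩ := Groth.Agent.FiberUnique.main F' F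
  let φ' : F ⟶ F' :=
    { app := fun W => FintypeCat.homMk (φ.app W)
      naturality := fun {W W'} a => by ext x; exact congr($(φ.naturality a) x) }
  have h : IsIso φ' := by
    haveI := PreGaloisCategory.FibreFunctor.end_isIso F' (e.inv ≫ φ')
    exact IsIso.of_isIso_comp_left e.inv φ'
  haveI : ∀ W, IsIso (φ.app W) := fun W => by
    rw [isIso_iff_bijective]
    haveI := h
    exact (ConcreteCategory.isIso_iff_bijective (φ'.app W)).1 (NatIso.isIso_app_of_isIso φ' W)
  exact NatIso.isIso_of_isIso_app φ

end Groth.Agent.S0297
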