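import Groth.Statements.S0300


set_option autoImplicit false
universe u v
open InjHull

namespace Groth.Agent.S0300

/-- Over a Noetherian ring, injectivity of modules is preserved under arbitrary direct sums. -/
theorem result (R : Type u) [CommRing R] [IsNoetherianRing R] {ι : Type u} (E : ι → Type u) [∀ i, AddCommGroup (E i)] [∀ i, Module R (E i)] (hE : ∀ i, Module.Injective R (E i)) : Module.Injective R (DirectSum ι E) := by
  classical
  refine Module.Baer.injective fun I g => ?_
  obtain ⟨s, hs⟩ : I.FG := IsNoetherian.noetherian I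
  let T : Finset ι := s.attach.biUnion fun a =>
    DFinsupp.support (g ⟨a.1, hs ▸ Submodule.subset_span a.2⟩)
  have hT : ∀ x : I, ∀ i ∉ T, g x i = 0 := by
    rintro ⟨x, hx⟩ i hi
    have hx' : x ∈ Submodule.span R (s : Set R) := by rw [show Submodule.span R (s : Set R) = I from hs]; exact hx
    induction hx' using Submodule.span_induction with
    | mem a ha =>
      by_contra h
      exact hi (Finset.mem_biUnion.mpr ⟨⟨a, ha⟩, Finset.mem_attach _ _, DFinsupp.mem_support_iff.mpr h⟩)
    | zero =>
      rw [show (⟨0, hx⟩ : I) = 0 from rfl, map_zero]; rfl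
    | add a b ha hb iha ihb =>
      rw [show (⟨a + b, hx⟩ : I) = ⟨a, hs ▸ ha⟩ + ⟨b, hs ▸ hb⟩ from rfl, map_add,
        DirectSum.add_apply, iha, ihb, add_zero]
    | smul r a ha iha =>
      rw [show (⟨r • a, hx⟩ : I) = r • ⟨a, hs ▸ ha⟩ from rfl, map_smul, DirectSum.smul_apply,
        iha, smul_zero]
  have hext : ∀ i, ∃ h : R →ₗ[R] E i, ∀ x (hx : x ∈ I), h x = g ⟨x, hx⟩ i := fun i =>
    Module.Baer.of_injective (hE i) I (DirectSum.component R ι E i ∘ₗ g)
  choose h hh using hext
  refine ⟨∑ i ∈ T, DirectSum.lof R ι E i ∘ₗ h i, fun x hx => ?_⟩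
  apply DirectSum.ext_component R
  intro j
  simp only [LinearMap.coe_sum, Finset.sum_apply, map_sum, LinearMap.comp_apply]
  by_cases hj : j ∈ T
  · rw [Finset.sum_eq_single_of_mem j hj (fun i _ hij => by
      rw [DirectSum.component.of, dif_neg hij]), DirectSum.component.lof_self, hh]
    rfl
  · rw [Finset.sum_eq_zero (fun i hi => by
      rw [DirectSum.component.of, dif_neg (show i ≠ j from fun hij => hj (hij ▸ hi))])]
    exact (hT ⟨x, hx⟩ j hj).symm

end Groth.Agent.S0300
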