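import Groth.Statements.S5168
import Groth.Agent.MatlisLib.Local
import Mathlib.RingTheory.Filtration

set_option autoImplicit false
universe u
open InjHull

namespace Groth.Agent.S5168

/-- Let A be a Noetherian ring, J an ideal and H a J-power torsion A-module. Then H is injective if and
only if Hom_A(−, H) is exact on finite A-modules killed by a power of J, i.e. every linear map to H
from a submodule of such a module M extends to M. -/
theorem result (A : Type u) [CommRing A] [IsNoetherianRing A] (J : Ideal A) (H : Type u) [AddCommGroup H] [Module A H] (hH : LocCoh.IsPowerTorsion J H) : Module.Injective A H ↔ ∀ (M : Type u) [AddCommGroup M] [Module A M], Module.Finite A M → (∃ k : ℕ, (J ^ k) • (⊤ : Submodule A M) = ⊥) → ∀ (N : Submodule A M) (g : N →ₗ[A] H), ∃ g' : M →ₗ[A] H, g'.comp N.subtype = g := by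
  constructor
  · intro hH M _ _ _ _ N g
    obtain ⟨g', hg'⟩ := InjHullBasic.exists_extend hH N.injective_subtype g
    exact ⟨g', hg'⟩
  · intro hP
    refine Module.Baer.injective fun 𝔞 g => ?_
    classical
    obtain ⟨s, hs⟩ := IsNoetherian.noetherian (⊤ : Submodule A 𝔞)
    choose k hk using hH
    let n := s.sup fun x => k (g x)
    have hn : ∀ a ∈ J ^ n, ∀ x : 𝔞, g (a • x) = 0 := fun a ha => by
      have : g.comp (a • LinearMap.id) = 0 := LinearMap.ext_on hs fun x hx => by
        rw [LinearMap.comp_apply, LinearMap.smul_apply, LinearMap.id_apply, map_smul,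
          LinearMap.zero_apply]
        exact hk _ a (Ideal.pow_le_pow_right (Finset.le_sup (f := fun x => k (g x)) hx) ha)
      exact fun x => LinearMap.congr_fun this x
    obtain ⟨c, hc⟩ := Ideal.exists_pow_inf_eq_pow_smul (I := J) (M := A) 𝔞
    have hAR : ∀ x : 𝔞, (x : A) ∈ J ^ (c + n) → g x = 0 := by
      intro x hx
      have hx' : (x : A) ∈ (J ^ n) • (𝔞 : Submodule A A) := by
        have h1 : (x : A) ∈ J ^ (c + n) • (⊤ : Submodule A A) ⊓ 𝔞 :=
          ⟨by rw [smul_eq_mul, Ideal.mul_top]; exact hx, x.2⟩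
        rw [hc (c + n) (Nat.le_add_right c n), Nat.add_sub_cancel_left] at h1
        exact Submodule.smul_mono le_rfl inf_le_right h1
      have key : ∀ y ∈ (J ^ n) • (𝔞 : Submodule A A), ∃ hy : y ∈ 𝔞, g ⟨y, hy⟩ = 0 := by
        intro y hy
        refine Submodule.smul_induction_on hy (fun a ha z hz => ⟨𝔞.smul_mem a hz, hn a ha ⟨z, hz⟩⟩)
          fun u v hu hv => ?_
        obtain ⟨hu', hu0⟩ := hu
        obtain ⟨hv', hv0⟩ := hv
        refine ⟨𝔞.add_mem hu' hv', ?_⟩
        rw [show (⟨u + v, _⟩ : 𝔞) = ⟨u, hu'⟩ + ⟨v, hv'⟩ from rfl, map_add, hu0, hv0, add_zero]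
      obtain ⟨_, h0⟩ := key _ hx'
      exact h0
    let π := (J ^ (c + n)).mkQ
    let p : 𝔞 →ₗ[A] (Submodule.map π 𝔞) := π.submoduleMap 𝔞
    have hker : LinearMap.ker p ≤ LinearMap.ker g := fun x hx =>
      hAR x ((Submodule.Quotient.mk_eq_zero _).1 (congrArg Subtype.val hx))
    let e := p.quotKerEquivOfSurjective (π.submoduleMap_surjective 𝔞)
    obtain ⟨g', hg'⟩ := hP (A ⧸ J ^ (c + n)) inferInstance ⟨c + n, (Submodule.eq_bot_iff _).2 fun z hz => by
      refine Submodule.smul_induction_on hz (fun a ha w _ => ?_) fun u v hu hv => by rw [hu, hv, add_zero]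
      obtain ⟨w, rfl⟩ := Submodule.mkQ_surjective _ w
      rw [← map_smul]
      exact (Submodule.Quotient.mk_eq_zero _).2 (Ideal.mul_mem_right w _ ha)⟩
      (Submodule.map π 𝔞) (((LinearMap.ker p).liftQ g hker).comp e.symm.toLinearMap)
    refine ⟨g'.comp π, fun x hx => ?_⟩
    have h2 := LinearMap.congr_fun hg' (p ⟨x, hx⟩)
    have he : e (Submodule.Quotient.mk ⟨x, hx⟩) = p ⟨x, hx⟩ := rfl
    rw [LinearMap.comp_apply, LinearMap.comp_apply, LinearEquiv.coe_coe, ← he, e.symm_apply_apply,
      Submodule.liftQ_apply, he] at h2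
    exact h2

end Groth.Agent.S5168
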