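import Groth.Statements.S0301
import Groth.Agent.S5168

set_option autoImplicit false
universe u v
open InjHull

namespace Groth.Agent.S0301

/-- Over a Noetherian ring, the submodule of an injective module consisting of the elements killed by
some power of a given ideal is again injective. -/
theorem result (R : Type u) [CommRing R] [IsNoetherianRing R] (I : Type u) [AddCommGroup I] [Module R I] (hI : Module.Injective R I) (J : Ideal R) : Module.Injective R ↥(⨆ n : ℕ, Submodule.torsionBySet R I ((J ^ n : Ideal R) : Set R)) := by
  classical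
  have hdir : Directed (· ≤ ·) fun n : ℕ => Submodule.torsionBySet R I ((J ^ n : Ideal R) : Set R) :=
    Monotone.directed_le fun a b hab =>
      Submodule.torsionBySet_le_torsionBySet_of_subset (Ideal.pow_le_pow_right hab)
  refine (S5168.result R J _ fun x => ?_).2 fun M _ _ _ hM N g => ?_
  · obtain ⟨n, hn⟩ := (Submodule.mem_iSup_of_directed _ hdir).1 x.2
    exact ⟨n, fun a ha => Subtype.ext ((Submodule.mem_torsionBySet_iff _ _).1 hn ⟨a, ha⟩)⟩
  · obtain ⟨g', hg'⟩ := InjHullBasic.exists_extend hI N.injective_subtype
      ((Submodule.subtype _).comp g)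
    obtain ⟨k, hk⟩ := hM
    refine ⟨g'.codRestrict _ fun x => Submodule.mem_iSup_of_mem k
      ((Submodule.mem_torsionBySet_iff _ _).2 fun a => ?_),
      LinearMap.ext fun x => Subtype.ext (LinearMap.congr_fun hg' x)⟩
    show (a : R) • g' x = 0
    have h1 : (a : R) • x ∈ (J ^ k) • (⊤ : Submodule R M) :=
      Submodule.smul_mem_smul a.2 Submodule.mem_top
    rw [hk] at h1
    rw [← map_smul, (Submodule.mem_bot R).1 h1, map_zero]

end Groth.Agent.S0301
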