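import Groth.Statements.S0305
import Groth.Agent.MatlisLib.Local

set_option autoImplicit false
universe u v
open InjHull

namespace Groth.Agent.S0305

/-- Let R be a commutative ring, p a prime ideal, and E an injective hull of R/p. Then E is
indecomposable, and E is also an injective hull of the residue field κ(p). -/
theorem result (R : Type u) [CommRing R] (p : Ideal R) [p.IsPrime] (E : Type u) [AddCommGroup E] [Module R E] (f : (R ⧸ p) →ₗ[R] E) (hf : InjHull.IsInjectiveHull f) : InjHull.IsIndecomposable R E ∧ ∃ g : p.ResidueField →ₗ[R] E, InjHull.IsInjectiveHull g := by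
  haveI := hf.isInjective
  have hne : f 1 ≠ 0 := fun h => (inferInstance : p.IsPrime).ne_top ((Ideal.eq_top_iff_one p).2
    (Ideal.Quotient.eq_zero_iff_mem.1 (hf.injective (h.trans (map_zero f).symm))))
  constructor
  · refine ⟨⟨f 1, 0, hne⟩, fun N N' hNN' => ?_⟩
    by_contra h
    push Not at h
    obtain ⟨x, ⟨hxN, a, rfl⟩, hx0⟩ := Submodule.exists_mem_ne_zero_of_ne_bot (hf.essential N h.1)
    obtain ⟨y, ⟨hyN, b, rfl⟩, hy0⟩ := Submodule.exists_mem_ne_zero_of_ne_bot (hf.essential N' h.2)
    obtain ⟨r, rfl⟩ := Ideal.Quotient.mk_surjective a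
    obtain ⟨s, rfl⟩ := Ideal.Quotient.mk_surjective b
    have e1 : s • f (Ideal.Quotient.mk p r) = f (Ideal.Quotient.mk p (s * r)) := by
      rw [← map_smul]; rfl
    have e2 : r • f (Ideal.Quotient.mk p s) = f (Ideal.Quotient.mk p (s * r)) := by
      rw [← map_smul, mul_comm]; rfl
    have h0 : f (Ideal.Quotient.mk p (s * r)) = 0 :=
      (Submodule.disjoint_def.1 hNN'.disjoint _ (e1 ▸ N.smul_mem s hxN) (e2 ▸ N'.smul_mem r hyN))
    rw [map_eq_zero_iff f hf.injective, map_mul] at h0
    rcases mul_eq_zero.1 h0 with h' | h'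
    · exact hy0 (by rw [h', map_zero])
    · exact hx0 (by rw [h', map_zero])
  · let ι : (R ⧸ p) →ₗ[R] p.ResidueField :=
      (IsScalarTower.toAlgHom R (R ⧸ p) p.ResidueField).toLinearMap
    have hι : Function.Injective ι := IsFractionRing.injective (R ⧸ p) p.ResidueField
    have hιess : InjHull.IsEssentialInj ι := MatlisLib.essential_of_exists_smul hι fun z hz => by
      obtain ⟨a, b, hb, rfl⟩ := IsFractionRing.div_surjective (R ⧸ p) z
      obtain ⟨s, rfl⟩ := Ideal.Quotient.mk_surjective b
      have hb0 : algebraMap (R ⧸ p) p.ResidueField (Ideal.Quotient.mk p s) ≠ 0 :=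
        IsFractionRing.to_map_ne_zero_of_mem_nonZeroDivisors hb
      have e : algebraMap (R ⧸ p) p.ResidueField (Ideal.Quotient.mk p s) =
          algebraMap R p.ResidueField s :=
        (IsScalarTower.algebraMap_apply R (R ⧸ p) p.ResidueField s).symm
      refine ⟨s, ?_, a, ?_⟩
      · rw [Algebra.smul_def, ← e]
        exact mul_ne_zero hb0 hz
      · rw [Algebra.smul_def, ← e, mul_div_cancel₀ _ hb0]
        rfl
    obtain ⟨g, hg⟩ := InjHullBasic.exists_extend hf.isInjective hι f
    have hginj : Function.Injective g := InjHullBasic.injective_of_comp_injective hιess g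
      (by rw [hg]; exact hf.injective)
    refine ⟨g, ⟨⟨hginj, fun N hN => ?_⟩, hf.isInjective⟩⟩
    obtain ⟨x, ⟨hx, a, ha⟩, hx0⟩ := Submodule.exists_mem_ne_zero_of_ne_bot (hf.essential N hN)
    exact (Submodule.ne_bot_iff _).2 ⟨x, ⟨hx, ι a, (LinearMap.congr_fun hg a).trans ha⟩, hx0⟩

end Groth.Agent.S0305
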