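import Groth.Statements.S0306
import Groth.Agent.S0304
import Groth.Agent.S0305

set_option autoImplicit false
universe u v
open InjHull

namespace Groth.Agent.S0306

/-- Over a Noetherian ring every indecomposable injective module is an injective hull of the residue
field of some prime. -/
theorem result (R : Type u) [CommRing R] [IsNoetherianRing R] (E : Type u) [AddCommGroup E] [Module R E] (hE : InjHull.IsIndecomposable R E) (hinj : Module.Injective R E) : ∃ (p : Ideal R) (_ : p.IsPrime) (g : p.ResidueField →ₗ[R] E), InjHull.IsInjectiveHull g := by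
  haveI := hE.1
  obtain ⟨p, hp⟩ := associatedPrimes.nonempty R E
  obtain ⟨hprime, f, hf⟩ := (isAssociatedPrime_iff_exists_injective_linearMap p E).1 hp
  haveI := hprime
  have hne : LinearMap.range f ≠ ⊥ := fun h => hprime.ne_top ((Ideal.eq_top_iff_one p).2
    (Ideal.Quotient.eq_zero_iff_mem.1 (hf (((Submodule.mem_bot R).1
      (h ▸ LinearMap.mem_range_self f 1)).trans (map_zero f).symm))))
  obtain ⟨-, g, hg⟩ := S0305.result R p E f
    ⟨⟨hf, fun N hN => (S0304.result R E hE hinj).1 N _ hN hne⟩, hinj⟩
  exact ⟨p, hprime, g, hg⟩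

end Groth.Agent.S0306
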