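import Groth.Statements.S0307
import Groth.Agent.MatlisLib.Local
import Groth.Agent.S0300
import Groth.Agent.S0305

set_option autoImplicit false
universe u v
open InjHull

namespace Groth.Agent.S0307

open Classical in
/-- Over a Noetherian ring every injective module is an internal direct sum of indecomposable injective
submodules. -/
theorem result (R : Type u) [CommRing R] [IsNoetherianRing R] (I : Type u) [AddCommGroup I] [Module R I] (hI : Module.Injective R I) : ∃ (ι : Type u) (E : ι → Submodule R I), DirectSum.IsInternal E ∧ ∀ i, InjHull.IsIndecomposable R ↥(E i) ∧ Module.Injective R ↥(E i) := by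
  classical
  let P : Set (Set (Submodule R I)) := {s | sSupIndep s ∧
    ∀ E ∈ s, InjHull.IsIndecomposable R E ∧ Module.Injective R E}
  obtain ⟨s, hs⟩ := zorn_subset P fun c hc hchain => ⟨⋃₀ c,
    ⟨iSupIndep_sUnion_of_directed hchain.directedOn fun a ha => (hc ha).1,
      fun E hE => by
        obtain ⟨a, ha, hEa⟩ := hE
        exact (hc ha).2 E hEa⟩, fun a ha => Set.subset_sUnion_of_mem ha⟩
  have hind : iSupIndep fun i : s => (i : Submodule R I) := (sSupIndep_iff s).1 hs.prop.1
  refine ⟨s, fun i => (i : Submodule R I), ?_, fun i => hs.prop.2 i i.2⟩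
  suffices htop' : ⨆ i : s, (i : Submodule R I) = ⊤ by
    convert DirectSum.isInternal_submodule_of_iSupIndep_of_iSup_eq_top hind htop'
  haveI := hI
  let L : DirectSum s (fun i => ↥(i : Submodule R I)) →ₗ[R] I :=
    DirectSum.coeLinearMap (fun i : s => (i : Submodule R I))
  have hL : Function.Injective L := hind.dfinsupp_lsum_injective
  have hDS : Module.Injective R (DirectSum s fun i => ↥(i : Submodule R I)) :=
    S0300.result R _ fun i => (hs.prop.2 i i.2).2
  obtain ⟨C, hC⟩ := InjHullBasic.exists_isCompl_range hDS hL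
  have hrange : LinearMap.range L = ⨆ i : s, (i : Submodule R I) :=
    DirectSum.range_coeLinearMap
  rw [hrange] at hC
  by_contra htop
  have hC0 : C ≠ ⊥ := fun h => htop (by
    have := hC.sup_eq_top
    rwa [h, sup_bot_eq] at this)
  haveI : Nontrivial C := Submodule.nontrivial_iff_ne_bot.2 hC0
  haveI hCinj : Module.Injective R C := InjHullBasic.injective_of_retraction hI C.subtype
    (Submodule.linearProjOfIsCompl C _ hC.symm) fun e => Submodule.linearProjOfIsCompl_apply_left _ e
  obtain ⟨p, hp⟩ := associatedPrimes.nonempty R C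
  obtain ⟨hprime, f, hf⟩ := (isAssociatedPrime_iff_exists_injective_linearMap p C).1 hp
  haveI := hprime
  obtain ⟨E₁, hle, hE₁inj, hess⟩ := MatlisLib.exists_injective_essential_le (LinearMap.range f)
  let F : Submodule R I := E₁.map C.subtype
  let e : E₁ ≃ₗ[R] F := Submodule.equivMapOfInjective _ C.injective_subtype E₁
  let g : (R ⧸ p) →ₗ[R] F := e.toLinearMap.comp (f.codRestrict E₁ fun x => hle ⟨x, rfl⟩)
  have hFinj : Module.Injective R F :=
    InjHullBasic.injective_of_retraction hE₁inj e.symm.toLinearMap e.toLinearMap e.apply_symm_apply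
  have hghull : InjHull.IsInjectiveHull g := ⟨MatlisLib.essential_of_exists_smul
    (fun a b h => hf (congrArg Subtype.val (e.injective h))) fun x hx => by
      obtain ⟨r, hr0, y, hy⟩ := hess (e.symm x) (e.symm x).2 fun h => hx (by
        rw [← e.apply_symm_apply x, show e.symm x = 0 from Subtype.ext h, map_zero])
      refine ⟨r, fun h => hr0 ?_, y, ?_⟩
      · rw [← Submodule.coe_smul, ← map_smul, h, map_zero]; rfl
      · show e (f.codRestrict E₁ _ y) = r • x
        rw [show f.codRestrict E₁ (fun z => hle ⟨z, rfl⟩) y = r • e.symm x from Subtype.ext hy,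
          map_smul, e.apply_symm_apply], hFinj⟩
  have hFindec := (S0305.result R p F g hghull).1
  have hFC : F ≤ C := Submodule.map_subtype_le C E₁
  have hFbot : F ≠ ⊥ := Submodule.nontrivial_iff_ne_bot.1 hFindec.1
  have hF : F ∉ s := fun h => hFbot (le_bot_iff.1
    ((le_inf (le_iSup (fun i : s => (i : Submodule R I)) ⟨F, h⟩) hFC).trans hC.disjoint.le_bot))
  refine hF (hs.le_of_ge (y := insert F s) ⟨?_, fun E hE => ?_⟩ (Set.subset_insert F s) (Set.mem_insert F s))
  · intro a ha
    have hS : sSup s = ⨆ i : s, (i : Submodule R I) := sSup_eq_iSup' s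
    rcases ha with rfl | ha
    · refine hC.disjoint.symm.mono hFC ?_
      rw [← hS]
      exact sSup_le_sSup fun b hb => hb.1.resolve_left hb.2
    · rw [Submodule.disjoint_def]
      intro x hxa hx
      have hsub : sSup (insert F s \ {a}) ≤ sSup (s \ {a}) ⊔ F := sSup_le fun b hb => by
        rcases hb.1 with rfl | hb'
        · exact le_sup_right
        · exact le_sup_of_le_left (le_sSup ⟨hb', hb.2⟩)
      obtain ⟨y, hy, z, hz, rfl⟩ := Submodule.mem_sup.1 (hsub hx)
      have hz0 : z = 0 := Submodule.disjoint_def.1 hC.disjoint z (by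
        rw [← hS, ← add_sub_cancel_left y z]
        exact Submodule.sub_mem _ (le_sSup ha hxa) ((sSup_le_sSup (Set.diff_subset : s \ {a} ⊆ s) : sSup (s \ {a}) ≤ sSup s) hy)) (hFC hz)
      rw [hz0, add_zero] at hxa ⊢
      exact Submodule.disjoint_def.1 (hs.prop.1 ha) y hxa hy
  · rcases hE with rfl | hE
    · exact ⟨hFindec, hFinj⟩
    · exact hs.prop.2 E hE

end Groth.Agent.S0307
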