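import Groth.Statements.S11174
import Groth.Agent.MatlisLib.Local

set_option autoImplicit false
universe u
open CategoryTheory
open InjHull

namespace Groth.Agent.S11174

/-- Fix a Noetherian local ring A, write m for its maximal ideal and k for its residue field, and let I
be an A-module such that (a) every element of I is killed by some power of m, (b) the A-module
Hom_A(k, I) is isomorphic to k, and (c) there is a decreasing sequence of ideals a_1 ⊇ a_2 ⊇ … of A,
cofinal with the powers of m in both directions (each a_n contains a power of m and each power of m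
contains some a_n), with length_A(A/a_n) = length_A(Hom_A(A/a_n, I)) for every n. Then I is an
injective hull of k: some A-linear map k → I is an essential injection into an injective module. -/
theorem result (A : Type u) [CommRing A] [IsLocalRing A] [IsNoetherianRing A] (I : Type u) [AddCommGroup I] [Module A I] (ha : LocCoh.IsPowerTorsion (IsLocalRing.maximalIdeal A) I) (hb : Nonempty ((IsLocalRing.ResidueField A →ₗ[A] I) ≃ₗ[A] IsLocalRing.ResidueField A)) (a : ℕ → Ideal A) (hanti : Antitone a) (hcof : ∀ n : ℕ, ∃ N : ℕ, IsLocalRing.maximalIdeal A ^ N ≤ a n) (hcof' : ∀ N : ℕ, ∃ n : ℕ, a n ≤ IsLocalRing.maximalIdeal A ^ N) (hlen : ∀ n : ℕ, Module.length A (A ⧸ a n) = Module.length A ((A ⧸ a n) →ₗ[A] I)) : ∃ f : IsLocalRing.ResidueField A →ₗ[A] I, InjHull.IsInjectiveHull f := by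
  obtain ⟨E, _, _, f₀, hf₀⟩ := MatlisLib.exists_hull (R := A) (IsLocalRing.ResidueField A)
  obtain ⟨σ⟩ := hb
  haveI hk : IsSimpleModule A (IsLocalRing.ResidueField A) :=
    (isSimpleModule_iff_isCoatom (m := IsLocalRing.maximalIdeal A)).2
      (Ideal.isMaximal_def.1 inferInstance)
  haveI : IsSimpleModule A (IsLocalRing.ResidueField A →ₗ[A] I) := IsSimpleModule.congr σ
  let φ := σ.symm 1
  have hφ : φ ≠ 0 := fun h => one_ne_zero (α := IsLocalRing.ResidueField A)
    (σ.symm.injective (h.trans (map_zero σ.symm).symm))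
  have hφinj : Function.Injective φ := (LinearMap.injective_or_eq_zero φ).resolve_right hφ
  obtain ⟨g, hg⟩ := InjHullBasic.exists_extend hf₀.isInjective hφinj f₀
  have hginj : Function.Injective g := (injective_iff_map_eq_zero g).2 fun x hx => by
    by_contra h0
    obtain ⟨r, hr0, hr⟩ := MatlisLib.exists_socle_multiple ha h0
    let ψ : IsLocalRing.ResidueField A →ₗ[A] I :=
      Submodule.liftQ (IsLocalRing.maximalIdeal A) (LinearMap.toSpanSingleton A I (r • x))
        fun a ha => hr a ha
    obtain ⟨c, hc⟩ := IsSimpleModule.toSpanSingleton_surjective A hφ ψ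
    have h1 : φ (c • 1) = r • x := by
      rw [map_smul, ← LinearMap.smul_apply, show c • φ = ψ from hc]
      exact one_smul A _
    refine hr0 ?_
    rw [← h1]
    refine (congrArg φ (hf₀.injective ?_)).trans (map_zero φ)
    rw [map_zero, ← hg, LinearMap.comp_apply, h1, map_smul, hx, smul_zero]
  have hgsurj : Function.Surjective g := fun e => by
    obtain ⟨N, hN⟩ := MatlisLib.isPowerTorsion hf₀ e
    obtain ⟨n, hn⟩ := hcof' N
    obtain ⟨M, hM⟩ := hcof n
    have hfl : IsFiniteLength A (A ⧸ a n) := by
      refine Module.length_ne_top_iff.1 (ne_top_of_le_ne_top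
        (Module.length_ne_top_iff.2 (MatlisLib.isFiniteLength_quotient_pow (IsLocalRing.maximalIdeal A) M))
        (Module.length_le_of_surjective (Submodule.factor hM) (Submodule.factor_surjective hM)))
    have hT := MatlisLib.isPowerTorsion_of_isFiniteLength hfl
    have hlenE : Module.length A ((A ⧸ a n) →ₗ[A] E) = Module.length A (A ⧸ a n) :=
      MatlisLib.length_dual hf₀ hfl hT
    have hbij := MatlisLib.bijective_of_injective_of_length_eq
      (LinearMap.compRight A g : ((A ⧸ a n) →ₗ[A] I) →ₗ[A] ((A ⧸ a n) →ₗ[A] E))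
      (fun u v h => LinearMap.ext fun q => hginj (LinearMap.congr_fun h q))
      (by rw [hlenE, ← hlen n]) (by rw [hlenE]; exact Module.length_ne_top_iff.2 hfl)
    obtain ⟨u, hu⟩ := hbij.2 (Submodule.liftQ (a n) (LinearMap.toSpanSingleton A E e)
      fun b hb => hN b (hn hb))
    exact ⟨u (Submodule.Quotient.mk 1), (LinearMap.congr_fun hu _).trans (one_smul A e)⟩
  let eI := LinearEquiv.ofBijective g ⟨hginj, hgsurj⟩
  refine ⟨φ, MatlisLib.isInjectiveHull_iff.2 ⟨hφinj,
    InjHullBasic.injective_of_retraction hf₀.isInjective eI.toLinearMap eI.symm.toLinearMap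
      eI.symm_apply_apply, fun x hx => ?_⟩⟩
  obtain ⟨r, hr0, c, hc⟩ := MatlisLib.exists_smul_mem_range hf₀.toIsEssentialInj
    (x := g x) (fun h => hx (hginj (h.trans (map_zero g).symm)))
  refine ⟨r, fun h => hr0 (by rw [← map_smul, h, map_zero]), c, hginj ?_⟩
  rw [map_smul, ← hc, ← hg, LinearMap.comp_apply]

end Groth.Agent.S11174
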