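import Groth.Statements.S0312
import Groth.Agent.MatlisLib.Local
import Groth.Agent.S11174
import Mathlib.LinearAlgebra.TensorProduct.Quotient
import Mathlib.LinearAlgebra.TensorProduct.Pi
import Mathlib.RingTheory.Flat.Basic
open scoped TensorProduct

set_option autoImplicit false
universe u v
open Matlis

namespace Groth.Agent.S0312

/-- For a flat local homomorphism A → B of Noetherian local rings with m_A B equal to the maximal ideal
of B, tensoring an injective hull of the residue field of A with B gives an injective hull of the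
residue field of B. -/
theorem result (A : Type u) [CommRing A] [IsLocalRing A] [IsNoetherianRing A] (B : Type u) [CommRing B] [IsLocalRing B] [IsNoetherianRing B] [Algebra A B] [IsLocalHom (algebraMap A B)] [Module.Flat A B] (hm : (IsLocalRing.maximalIdeal A).map (algebraMap A B) = IsLocalRing.maximalIdeal B) (E : Type u) [AddCommGroup E] [Module A E] (f : IsLocalRing.ResidueField A →ₗ[A] E) (hf : InjHull.IsInjectiveHull f) : ∃ g : IsLocalRing.ResidueField B →ₗ[B] TensorProduct A B E, InjHull.IsInjectiveHull g := by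
  let mA := IsLocalRing.maximalIdeal A
  let mB := IsLocalRing.maximalIdeal B
  have hkill : ∀ {n : ℕ} {e : E}, (∀ a ∈ mA ^ n, a • e = 0) → ∀ b : B, ∀ c ∈ mB ^ n,
      c • (b ⊗ₜ[A] e) = 0 := by
    intro n e he b c hc
    rw [show mB ^ n = (mA ^ n).map (algebraMap A B) by rw [Ideal.map_pow, hm]] at hc
    induction hc using Submodule.span_induction with
    | mem y hy =>
      obtain ⟨a, ha, rfl⟩ := hy
      rw [algebraMap_smul, ← TensorProduct.tmul_smul, he a ha, TensorProduct.tmul_zero]
    | zero => exact zero_smul _ _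
    | add u v _ _ hu hv => rw [add_smul, hu, hv, add_zero]
    | smul d u _ hu => rw [smul_eq_mul, mul_smul, hu, smul_zero]
  have hT : LocCoh.IsPowerTorsion mB (B ⊗[A] E) := by
    intro t
    induction t using TensorProduct.induction_on with
    | zero => exact ⟨0, fun a _ => smul_zero a⟩
    | tmul b e =>
      obtain ⟨n, hn⟩ := MatlisLib.isPowerTorsion hf e
      exact ⟨n, hkill hn b⟩
    | add x y hx hy =>
      obtain ⟨i, hi⟩ := hx
      obtain ⟨j, hj⟩ := hy
      exact ⟨max i j, fun a ha => by
        rw [smul_add, hi a (Ideal.pow_le_pow_right (le_max_left i j) ha),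
          hj a (Ideal.pow_le_pow_right (le_max_right i j) ha), add_zero]⟩
  have hk : Module.length B (B ⊗[A] (A ⧸ mA)) = 1 := by
    let φ : B →ₗ[B] B ⊗[A] (A ⧸ mA) :=
      LinearMap.toSpanSingleton B _ ((1 : B) ⊗ₜ[A] (1 : A ⧸ mA))
    have hφ : mB ≤ LinearMap.ker φ := by
      rw [show mB = mA.map (algebraMap A B) from hm.symm]
      refine Ideal.map_le_iff_le_comap.2 fun a ha => ?_
      show algebraMap A B a • ((1 : B) ⊗ₜ[A] (1 : A ⧸ mA)) = 0
      rw [algebraMap_smul, ← TensorProduct.tmul_smul, show a • (1 : A ⧸ mA) = 0 from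
        (Ideal.Quotient.eq_zero_iff_mem.2 (mA.mul_mem_right 1 ha) :
          Ideal.Quotient.mk mA (a * 1) = 0), TensorProduct.tmul_zero]
    haveI : IsSimpleModule B (B ⧸ mB) := isSimpleModule_iff_isCoatom.2 (Ideal.isMaximal_def.1 inferInstance)
    have hsurj : Function.Surjective (Submodule.liftQ mB φ hφ) := by
      rw [← LinearMap.range_eq_top, Submodule.range_liftQ, LinearMap.range_eq_top]
      intro t
      induction t using TensorProduct.induction_on with
      | zero => exact ⟨0, map_zero φ⟩
      | tmul b q =>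
        obtain ⟨a, rfl⟩ := Ideal.Quotient.mk_surjective q
        refine ⟨a • b, ?_⟩
        show (a • b) • ((1 : B) ⊗ₜ[A] (1 : A ⧸ mA)) = _
        rw [TensorProduct.smul_tmul', smul_eq_mul, mul_one, TensorProduct.smul_tmul]
        congr 1
        show Ideal.Quotient.mk mA (a * 1) = _
        rw [mul_one]
      | add x y hx hy =>
        obtain ⟨u, rfl⟩ := hx
        obtain ⟨v, rfl⟩ := hy
        exact ⟨u + v, map_add φ u v⟩
    have hne : Submodule.liftQ mB φ hφ ≠ 0 := by
      intro h0
      have h1 : ((1 : B) ⊗ₜ[A] (1 : A ⧸ mA)) = 0 := by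
        have h3 : φ 1 = 0 := LinearMap.congr_fun h0 (Submodule.Quotient.mk 1)
        rw [← h3]
        exact (one_smul B _).symm
      have h2 := congrArg (TensorProduct.tensorQuotEquivQuotSMul B mA) h1
      rw [map_zero, ← map_one (Ideal.Quotient.mk mA), TensorProduct.tensorQuotEquivQuotSMul,
        LinearEquiv.trans_apply, TensorProduct.comm_tmul, TensorProduct.quotTensorEquivQuotSMul_mk_tmul,
        one_smul, Submodule.Quotient.mk_eq_zero, Ideal.smul_top_eq_map, Submodule.restrictScalars_mem,
        hm] at h2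
      exact (IsLocalRing.maximalIdeal.isMaximal B).ne_top ((Ideal.eq_top_iff_one _).2 h2)
    rw [← (LinearEquiv.ofBijective _
      ⟨(LinearMap.injective_or_eq_zero _).resolve_right hne, hsurj⟩).length_eq, Module.length_eq_one]
  have hbc : ∀ {X : Type u} [AddCommGroup X] [Module A X], IsFiniteLength A X →
      LocCoh.IsPowerTorsion mA X → Module.length B (B ⊗[A] X) = Module.length A X := by
    intro X _ _ hX
    induction hX with
    | @of_subsingleton X _ _ _ =>
      intro _
      haveI : Subsingleton (B ⊗[A] X) := subsingleton_of_forall_eq 0 fun t => by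
        induction t using TensorProduct.induction_on with
        | zero => rfl
        | tmul b x => rw [Subsingleton.elim x 0, TensorProduct.tmul_zero]
        | add x y hx hy => rw [hx, hy, add_zero]
      rw [Module.length_eq_zero, Module.length_eq_zero]
    | @of_simple_quotient X _ _ N _ hN ih =>
      intro hX
      obtain ⟨e⟩ := MatlisLib.nonempty_equiv_of_isSimple
        (MatlisLib.isPowerTorsion_of_surjective N.mkQ N.mkQ_surjective hX)
      rw [Module.length_eq_add_of_exact N.subtype N.mkQ N.injective_subtype N.mkQ_surjective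
        (LinearMap.exact_subtype_mkQ N), Module.length_eq_add_of_exact
        (N.subtype.baseChange B) (N.mkQ.baseChange B)
        (Module.Flat.lTensor_preserves_injective_linearMap (M := B) _ N.injective_subtype)
        (LinearMap.lTensor_surjective B N.mkQ_surjective)
        (Module.Flat.lTensor_exact B (LinearMap.exact_subtype_mkQ N)),
        ih (MatlisLib.isPowerTorsion_of_injective N.subtype N.injective_subtype hX),
        ← e.length_eq, ← (e.baseChange A B).length_eq, hk, Module.length_eq_one_iff.2
          ((isSimpleModule_iff_isCoatom (m := mA)).2 (Ideal.isMaximal_def.1 inferInstance))]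
  have hHom : ∀ n : ℕ, Module.length B ((B ⧸ mB ^ n) →ₗ[B] B ⊗[A] E) =
      Module.length A (A ⧸ mA ^ n) := by
    intro n
    classical
    obtain ⟨S, hS⟩ := IsNoetherian.noetherian (mA ^ n)
    let μ : E →ₗ[A] (S → E) := LinearMap.pi fun a => LinearMap.lsmul A E (a : A)
    have hμ : LinearMap.ker μ = LocCoh.torsionBy (mA ^ n) E := by
      ext e
      rw [LinearMap.mem_ker, Submodule.mem_torsionBySet_iff]
      refine ⟨fun h a => ?_, fun h => funext fun a => h ⟨(a : A), hS ▸ Submodule.subset_span a.2⟩⟩
      have hle : mA ^ n ≤ LinearMap.ker (LinearMap.toSpanSingleton A E e) := by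
        rw [← hS]
        exact Submodule.span_le.2 fun a ha => congrFun h ⟨a, ha⟩
      exact hle a.2
    let W : Submodule A E := LinearMap.ker μ
    have hW : Module.length A W = Module.length A (A ⧸ mA ^ n) := by
      rw [← MatlisLib.length_dual hf (MatlisLib.isFiniteLength_quotient_pow mA n)
        (MatlisLib.isPowerTorsion_quotient_pow n)]
      have hmem : ∀ φ : (A ⧸ mA ^ n) →ₗ[A] E, φ 1 ∈ W := fun φ => by
        show φ 1 ∈ LinearMap.ker μ
        rw [hμ, Submodule.mem_torsionBySet_iff]
        intro a
        show (a : A) • φ 1 = 0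
        rw [← map_smul, show (a : A) • (1 : A ⧸ mA ^ n) = 0 from
          (Ideal.Quotient.eq_zero_iff_mem.2 ((mA ^ n).mul_mem_right 1 a.2) :
            Ideal.Quotient.mk (mA ^ n) ((a : A) * 1) = 0), map_zero]
      let ev : ((A ⧸ mA ^ n) →ₗ[A] E) →ₗ[A] W := (LinearMap.applyₗ (1 : A ⧸ mA ^ n)).codRestrict W hmem
      refine (LinearEquiv.ofBijective ev ⟨fun φ ψ h => ?_, fun w => ?_⟩).length_eq.symm
      · refine Submodule.linearMap_qext _ (LinearMap.ext_ring ?_)
        exact congrArg Subtype.val h
      · refine ⟨Submodule.liftQ _ (LinearMap.toSpanSingleton A E (w : E)) fun a ha => ?_,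
          Subtype.ext (one_smul A (w : E))⟩
        exact (Submodule.mem_torsionBySet_iff _ _).1 (hμ.le w.2) ⟨a, ha⟩
    have hWfl : IsFiniteLength A W := Module.length_ne_top_iff.1
      (hW ▸ Module.length_ne_top_iff.2 (MatlisLib.isFiniteLength_quotient_pow mA n))
    rw [← hW, ← hbc hWfl (MatlisLib.isPowerTorsion_of_injective W.subtype W.injective_subtype
      (MatlisLib.isPowerTorsion hf))]
    let ι : B ⊗[A] W →ₗ[B] B ⊗[A] E := W.subtype.baseChange B
    have hι : Function.Injective ι :=
      Module.Flat.lTensor_preserves_injective_linearMap (M := B) _ W.injective_subtype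
    have hrange : ∀ t : B ⊗[A] E, (∀ c ∈ mB ^ n, c • t = 0) ↔ t ∈ LinearMap.range ι := by
      intro t
      constructor
      · intro ht
        refine (Module.Flat.lTensor_exact B (LinearMap.exact_subtype_ker_map μ) t).1 ?_
        apply (TensorProduct.piRight A A B fun _ : S => E).injective
        rw [map_zero]
        funext a
        have key : ∀ u : B ⊗[A] E,
            TensorProduct.piRight A A B (fun _ : S => E) (μ.lTensor B u) a = (a : A) • u := fun u => by
          induction u using TensorProduct.induction_on with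
          | zero => rw [map_zero, map_zero, smul_zero]; rfl
          | tmul b e => simp [μ, TensorProduct.tmul_smul]
          | add x y hx hy => rw [map_add, map_add, Pi.add_apply, hx, hy, smul_add]
        rw [key, ← algebraMap_smul B (a : A) t]
        refine ht _ ?_
        rw [show mB ^ n = (mA ^ n).map (algebraMap A B) by rw [Ideal.map_pow, hm]]
        exact Ideal.mem_map_of_mem _ (hS ▸ Submodule.subset_span a.2)
      · rintro ⟨w, rfl⟩ c hc
        induction w using TensorProduct.induction_on with
        | zero => rw [map_zero, smul_zero]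
        | tmul b w => exact hkill (fun a ha => (Submodule.mem_torsionBySet_iff _ _).1 (hμ.le w.2) ⟨a, ha⟩) b c hc
        | add x y hx hy => rw [map_add, smul_add, hx, hy, add_zero]
    let ev : ((B ⧸ mB ^ n) →ₗ[B] B ⊗[A] E) →ₗ[B] LinearMap.range ι :=
      (LinearMap.applyₗ (1 : B ⧸ mB ^ n)).codRestrict _ fun φ => (hrange _).1 fun c hc => by
        show c • φ 1 = 0
        rw [← map_smul, show c • (1 : B ⧸ mB ^ n) = 0 from
          (Ideal.Quotient.eq_zero_iff_mem.2 ((mB ^ n).mul_mem_right 1 hc) :
            Ideal.Quotient.mk (mB ^ n) (c * 1) = 0), map_zero]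
    let ι' : B ⊗[A] W ≃ₗ[B] LinearMap.range ι := LinearEquiv.ofBijective ι.rangeRestrict
      ⟨fun a b h => hι (congrArg Subtype.val h), ι.surjective_rangeRestrict⟩
    refine (LinearEquiv.ofBijective ev ⟨fun φ ψ h => ?_, fun w => ?_⟩).length_eq.trans
      (LinearEquiv.length_eq (R := B) (N := LinearMap.range ι) ι').symm
    · refine Submodule.linearMap_qext _ (LinearMap.ext_ring ?_)
      exact congrArg Subtype.val h
    · exact ⟨Submodule.liftQ _ (LinearMap.toSpanSingleton B _ (w : B ⊗[A] E))
        fun c hc => (hrange w).2 w.2 c hc, Subtype.ext (one_smul B (w : B ⊗[A] E))⟩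
  have hquot : ∀ n : ℕ, Module.length B (B ⧸ mB ^ n) = Module.length A (A ⧸ mA ^ n) := by
    intro n
    rw [← hbc (MatlisLib.isFiniteLength_quotient_pow mA n) (MatlisLib.isPowerTorsion_quotient_pow n)]
    let φ : B →ₗ[B] B ⊗[A] (A ⧸ mA ^ n) :=
      LinearMap.toSpanSingleton B _ ((1 : B) ⊗ₜ[A] (1 : A ⧸ mA ^ n))
    have hker : LinearMap.ker φ = mB ^ n := by
      ext b
      rw [LinearMap.mem_ker, show φ b = b ⊗ₜ[A] (1 : A ⧸ mA ^ n) by
          simp [φ, TensorProduct.smul_tmul'],
        ← (TensorProduct.tensorQuotEquivQuotSMul B (mA ^ n)).map_eq_zero_iff,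
        ← map_one (Ideal.Quotient.mk (mA ^ n)), TensorProduct.tensorQuotEquivQuotSMul,
        LinearEquiv.trans_apply, TensorProduct.comm_tmul, TensorProduct.quotTensorEquivQuotSMul_mk_tmul,
        one_smul, Submodule.Quotient.mk_eq_zero, Ideal.smul_top_eq_map, Submodule.restrictScalars_mem,
        Ideal.map_pow, hm]
    have hsurj : Function.Surjective φ := by
      intro t
      induction t using TensorProduct.induction_on with
      | zero => exact ⟨0, map_zero φ⟩
      | tmul b q =>
        obtain ⟨a, rfl⟩ := Ideal.Quotient.mk_surjective q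
        refine ⟨a • b, ?_⟩
        show (a • b) • ((1 : B) ⊗ₜ[A] (1 : A ⧸ mA ^ n)) = _
        rw [TensorProduct.smul_tmul', smul_eq_mul, mul_one, TensorProduct.smul_tmul]
        congr 1
        show Ideal.Quotient.mk (mA ^ n) (a * 1) = _
        rw [mul_one]
      | add x y hx hy =>
        obtain ⟨u, rfl⟩ := hx
        obtain ⟨v, rfl⟩ := hy
        exact ⟨u + v, map_add φ u v⟩
    exact ((Submodule.quotEquivOfEq _ _ hker.symm).trans
      (φ.quotKerEquivOfSurjective hsurj)).length_eq
  have h1B : Module.length B ((B ⧸ mB) →ₗ[B] B ⊗[A] E) = 1 := by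
    have h := hHom 1
    rw [pow_one, pow_one] at h
    rw [h]
    exact Module.length_eq_one_iff.2 (isSimpleModule_iff_isCoatom.2 (Ideal.isMaximal_def.1 inferInstance))
  haveI : IsSimpleModule B ((B ⧸ mB) →ₗ[B] B ⊗[A] E) := Module.length_eq_one_iff.1 h1B
  obtain ⟨σ⟩ := MatlisLib.nonempty_equiv_of_isSimple (m := mB) (M := (B ⧸ mB) →ₗ[B] B ⊗[A] E)
    fun φ => ⟨1, fun a ha => LinearMap.ext fun x => by
      obtain ⟨x, rfl⟩ := Ideal.Quotient.mk_surjective x
      rw [LinearMap.smul_apply, ← map_smul, show a • Ideal.Quotient.mk mB x = 0 from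
        (Ideal.Quotient.eq_zero_iff_mem.2 (mB.mul_mem_right x (by rwa [pow_one] at ha)) :
          Ideal.Quotient.mk mB (a * x) = 0), map_zero, LinearMap.zero_apply]⟩
  exact S11174.result B (B ⊗[A] E) hT ⟨σ.symm⟩ (fun n => mB ^ n)
    (fun i j h => Ideal.pow_le_pow_right h) (fun n => ⟨n, le_rfl⟩) (fun n => ⟨n, le_rfl⟩)
    fun n => by rw [hquot n, hHom n]

end Groth.Agent.S0312
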