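import Groth.Statements.S0315
import Groth.Agent.MatlisLib.Local

set_option autoImplicit false
universe u v
open Matlis

namespace Groth.Agent.S0315

/-- Over a Noetherian local ring a module has the descending chain condition exactly when it is killed
elementwise by powers of the maximal ideal and its socle is finite-dimensional over the residue
field. -/
theorem result (R : Type u) [CommRing R] [IsLocalRing R] [IsNoetherianRing R] (M : Type u) [AddCommGroup M] [Module R M] : IsArtinian R M ↔ (LocCoh.IsPowerTorsion (IsLocalRing.maximalIdeal R) M ∧ Module.Finite (R ⧸ IsLocalRing.maximalIdeal R) ↥(LocCoh.torsionBy (IsLocalRing.maximalIdeal R) M)) := by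
  constructor
  · intro hM
    refine ⟨MatlisLib.isPowerTorsion_of_isArtinian, ?_⟩
    haveI : IsArtinian (R ⧸ IsLocalRing.maximalIdeal R)
        ↥(LocCoh.torsionBy (IsLocalRing.maximalIdeal R) M) := isArtinian_of_tower R inferInstance
    haveI : IsArtinianRing (R ⧸ IsLocalRing.maximalIdeal R) :=
      letI := Ideal.Quotient.field (IsLocalRing.maximalIdeal R); inferInstance
    haveI := (IsSemiprimaryRing.isNoetherian_iff_isArtinian
      (R := R ⧸ IsLocalRing.maximalIdeal R)
      (M := ↥(LocCoh.torsionBy (IsLocalRing.maximalIdeal R) M))).2 inferInstance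
    infer_instance
  · rintro ⟨hT, hfin⟩
    obtain ⟨E, _, _, f, hf⟩ := MatlisLib.exists_hull (R := R) (R ⧸ IsLocalRing.maximalIdeal R)
    obtain ⟨g, hg⟩ := MatlisLib.exists_injective_pi hf hT rfl
    haveI := MatlisLib.isArtinian hf
    exact isArtinian_of_injective g hg

end Groth.Agent.S0315
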