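import Groth.Statements.S0318
import Groth.Agent.LocCohLib.ExtVanishing

set_option autoImplicit false
universe u v
open LocCoh

namespace Groth.Agent.S0318

/-- Part (1): =(3): for a finite module M over a Noetherian ring and an ideal I with IM ≠ M, the I-depth
of M is the least degree in which the local cohomology of M with support in I is nonzero. -/
theorem result (R : Type u) [CommRing R] [IsNoetherianRing R] (I : Ideal R) (M : Type u) [AddCommGroup M] [Module R M] [Module.Finite R M] (hIM : I • (⊤ : Submodule R M) ≠ ⊤) (n : ℕ) : LocCoh.idealDepth I M = n ↔ ((∀ i : ℕ, i < n → Subsingleton (LocCoh.H I i M)) ∧ Nontrivial (LocCoh.H I n M)) := by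
  have key : ∀ k : ℕ, (k : ℕ∞) ≤ LocCoh.idealDepth I M ↔ ∀ i, i < k → Subsingleton (LocCoh.H I i M) :=
    Groth.Agent.LocCohLib.natCast_le_idealDepth_iff_vanishing I M
  constructor
  · intro h
    refine ⟨(key n).1 h.ge, not_subsingleton_iff_nontrivial.1 fun hn => ?_⟩
    have h1 := (key (n + 1)).2 fun i hi => by
      rcases Nat.lt_succ_iff_lt_or_eq.1 hi with hi | rfl
      exacts [(key n).1 h.ge i hi, hn]
    rw [h, Nat.cast_le] at h1
    omega
  · rintro ⟨h1, h2⟩
    refine le_antisymm (ENat.forall_natCast_le_iff_le.1 fun k hk => ?_) ((key n).2 h1)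
    by_contra hlt
    rw [Nat.cast_le, not_le] at hlt
    exact (not_subsingleton_iff_nontrivial.2 h2) ((key k).1 hk n hlt)

end Groth.Agent.S0318
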