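import Groth.Statements.S0323
import Groth.Agent.LocCohLib.Torsion

set_option autoImplicit false
universe u v
open LocCoh

namespace Groth.Agent.S0323

/-- Noetherian case, torsion part: let R be a Noetherian ring, I an ideal and N an R-module every
element of which is killed by a power of I. Then the local cohomology of N with support in I is N in
degree 0 (there is an R-linear isomorphism H⁰_I(N) ≅ N) and vanishes in positive degrees. (The
comparison between a module M and M modulo its I-power torsion is not stated; Noetherian rings
only.) -/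
theorem result (R : Type u) [CommRing R] [IsNoetherianRing R] (I : Ideal R) (N : Type u) [AddCommGroup N] [Module R N] (hN : LocCoh.IsPowerTorsion I N) : Nonempty (LocCoh.H I 0 N ≃ₗ[R] N) ∧ ∀ p : ℕ, 0 < p → Subsingleton (LocCoh.H I p N) := by
  refine ⟨⟨LocCohLib.h0Equiv I (ModuleCat.of R N) ≪≫ₗ LinearEquiv.ofTop _ ?_⟩, fun p hp => ?_⟩
  · exact eq_top_iff.2 fun x _ => hN x
  · obtain ⟨k, rfl⟩ : ∃ k, p = k + 1 := ⟨p - 1, by omega⟩
    exact LocCohLib.subsingleton_of_isPowerTorsion k (ModuleCat.of R N) hN

end Groth.Agent.S0323
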