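import Groth.Statements.S0331
import Groth.Agent.FiniteH1.LocFree
import Groth.Agent.LocCohLib.FiniteAnn
-- import your own Groth.Agent.* helpers here

set_option autoImplicit false
universe u v
open LocCoh

namespace Groth.Agent.S0331

/-- Over a Noetherian ring, if H^i_I(R) is finitely generated for i ≤ n, then so is H^i_I(M) for i ≤ n
for every finite module M that becomes finite projective after inverting any single element of I. -/
theorem result (R : Type u) [CommRing R] [IsNoetherianRing R] (I : Ideal R) (n : ℕ) (hR : ∀ i : ℕ, i ≤ n → Module.Finite R (LocCoh.H I i R)) (M : Type u) [AddCommGroup M] [Module R M] [Module.Finite R M] (hM : ∀ f ∈ I, Module.Projective (Localization.Away f) (LocalizedModule (Submonoid.powers f) M)) (i : ℕ) (hi : i ≤ n) : Module.Finite R (LocCoh.H I i M) := by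
  obtain ⟨J, hJ, hk⟩ := (Groth.Agent.LocCohLib.finite_iff_annihilated I (ModuleCat.of R R) n).mp hR
  let T : Ideal R :=
    { carrier := {a | ∀ j : ℕ, j ≤ n → ∀ x : LocCoh.H I j M, a • x = 0}
      zero_mem' := fun j _ x => zero_smul R x
      add_mem' := fun {a b} ha hb j hj x => by rw [add_smul, ha j hj, hb j hj, add_zero]
      smul_mem' := fun c a ha j hj x => by rw [smul_eq_mul, mul_smul, ha j hj, smul_zero] }
  refine (Groth.Agent.LocCohLib.finite_iff_annihilated I (ModuleCat.of R M) n).mpr ⟨T, fun a ha => ?_, fun j hj b hb x => hb j hj x⟩ i hi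
  obtain ⟨e, he⟩ := hJ ha
  haveI := hM a ha
  choose k hk' using fun j : Finset.range (n + 1) => Groth.Agent.FiniteH1.exists_pow_mul_killed I j.1 M a (a ^ e)
    (fun x => hk j.1 (Nat.lt_succ_iff.mp (Finset.mem_range.mp j.2)) _ he x)
  refine ⟨(∑ j, k j) + e, fun j hj x => ?_⟩
  let j' : Finset.range (n + 1) := ⟨j, Finset.mem_range.mpr (Nat.lt_succ_of_le hj)⟩
  obtain ⟨d, hd⟩ := Nat.le.dest (Finset.single_le_sum (fun l _ => Nat.zero_le (k l)) (Finset.mem_univ j') : k j' ≤ ∑ l, k l)
  rw [← hd, show k j' + d + e = d + (k j' + e) by omega, pow_add, mul_smul, pow_add, hk' j' x, smul_zero]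

end Groth.Agent.S0331
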