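import Groth.Statements.S0335
import Groth.Agent.DepthSections.Punctured
import Mathlib
-- import your own Groth.Agent.* helpers here

set_option autoImplicit false
universe u v
open LocCoh

namespace Groth.Agent.S0335

/-- For the ring itself; Hartshorne's connectedness: if a Noetherian local ring has depth at least 2
then its punctured spectrum is connected. -/
theorem result (R : Type u) [CommRing R] [IsLocalRing R] [IsNoetherianRing R] (h : 2 ≤ LocCoh.depth R R) : IsConnected {x : PrimeSpectrum R | x.asIdeal ≠ IsLocalRing.maximalIdeal R} := by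
  classical
  have hcl : ∀ x : PrimeSpectrum R, IsLocalRing.closedPoint R ∈ closure {x} := fun x =>
    specializes_iff_mem_closure.mp (IsLocalRing.specializes_closedPoint x)
  haveI : ConnectedSpace (PrimeSpectrum R) :=
    { isPreconnected_univ := isPreconnected_of_forall (IsLocalRing.closedPoint R) fun x _ =>
        ⟨closure {x}, Set.subset_univ _, hcl x, subset_closure rfl, isPreconnected_singleton.closure⟩
      toNonempty := ⟨IsLocalRing.closedPoint R⟩ }
  let W : (AlgebraicGeometry.Spec (CommRingCat.of R)).Opens :=
    ⟨({IsLocalRing.closedPoint R}ᶜ : Set (PrimeSpectrum R)),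
      (IsLocalRing.isClosed_singleton_closedPoint (R := R)).isOpen_compl⟩
  have hset : {x : PrimeSpectrum R | x.asIdeal ≠ IsLocalRing.maximalIdeal R} =
      ({IsLocalRing.closedPoint R}ᶜ : Set (PrimeSpectrum R)) := by
    ext x
    simp [PrimeSpectrum.ext_iff, IsLocalRing.closedPoint]
  have hd : ∀ p : PrimeSpectrum R, (∀ x : AlgebraicGeometry.Spec (CommRingCat.of R), x = p → x ∉ W) →
      (2 : ℕ∞) ≤ LocCoh.depth (Localization.AtPrime p.asIdeal) (Localization.AtPrime p.asIdeal) := by
    intro p hp
    obtain rfl : p = IsLocalRing.closedPoint R := not_not.mp (hp p rfl :)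
    haveI : IsLocalization (IsLocalRing.closedPoint R).asIdeal.primeCompl R :=
      IsLocalization.self fun a ha => not_not.mp ha
    exact le_of_le_of_eq h (Groth.Agent.FlatAscent.depth_eq_of_ringEquiv
      (IsLocalization.algEquiv (IsLocalRing.closedPoint R).asIdeal.primeCompl R
        (Localization.AtPrime (IsLocalRing.closedPoint R).asIdeal)).toRingEquiv).symm
  rw [hset]
  exact ⟨Groth.Agent.DepthSections.nonempty_open_spec R W hd,
    Groth.Agent.DepthSections.isPreconnected_open_spec R W hd⟩

end Groth.Agent.S0335
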