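import Groth.Statements.S0336
import Groth.Agent.KunzRegular.Main
import Groth.Agent.WildQuot.Purity
-- import your own Groth.Agent.* helpers here

set_option autoImplicit false
universe u v
open LocCoh

namespace Groth.Agent.S0336

theorem comap_frobenius (p : ℕ) [Fact p.Prime] {R : Type u} [CommRing R] [CharP R p] (q : Ideal R) [q.IsPrime] :
    q = Ideal.comap (frobenius R p) q := by
  ext x
  rw [Ideal.mem_comap, frobenius_def]
  exact ⟨fun h => Ideal.pow_mem_of_mem _ h _ (Fact.out : p.Prime).pos,
    fun h => Ideal.IsPrime.mem_of_pow_mem ‹_› _ h⟩

theorem charP_localization (p : ℕ) [Fact p.Prime] {R : Type u} [CommRing R] [CharP R p] (q : Ideal R) [q.IsPrime] :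
    CharP (Localization.AtPrime q) p :=
  (CharP.charP_iff_prime_eq_zero (Fact.out : p.Prime)).2 (by
    rw [← map_natCast (algebraMap R (Localization.AtPrime q)), CharP.cast_eq_zero, map_zero])

theorem localRingHom_frobenius (p : ℕ) [Fact p.Prime] {R : Type u} [CommRing R] [CharP R p] (q : Ideal R) [q.IsPrime]
    (h : q = Ideal.comap (frobenius R p) q) [CharP (Localization.AtPrime q) p] :
    Localization.localRingHom q q (frobenius R p) h = frobenius (Localization.AtPrime q) p := by
  refine Localization.localRingHom_unique _ _ _ h fun x => ?_
  simp [frobenius_def]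


/-- A Noetherian ring of prime characteristic p is regular exactly when its Frobenius endomorphism is
flat. -/
theorem result (p : ℕ) [Fact p.Prime] (R : Type u) [CommRing R] [IsNoetherianRing R] [CharP R p] : IsRegularRing R ↔ (frobenius R p).Flat := by
  constructor
  · intro hR
    refine RingHom.Flat.ofLocalizationPrime _ fun q _ => ?_
    have key : ∀ (q' : Ideal R) [q'.IsPrime] (h : q' = Ideal.comap (frobenius R p) q), q' = q →
        (Localization.localRingHom q' q (frobenius R p) h).Flat := by
      intro q' _ h e
      subst e
      haveI := charP_localization p q'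
      rw [localRingHom_frobenius p q' h]
      exact WildQuot.frobenius_flat_of_regular p
    exact key _ rfl (comap_frobenius p q).symm
  · intro hF
    refine ⟨fun q _ => ?_⟩
    haveI := charP_localization p q
    have h := hF.localRingHom q q (comap_frobenius p q)
    rw [localRingHom_frobenius p q] at h
    exact KunzRegular.isRegularLocalRing_of_flat p _ h

end Groth.Agent.S0336
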