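import Groth.Statements.S0337
import Mathlib.Algebra.Category.ModuleCat.ChangeOfRings
import Mathlib.LinearAlgebra.StdBasis
import Mathlib.RingTheory.OrzechProperty
import Mathlib.RingTheory.Finiteness.Nakayama

set_option autoImplicit false
universe u v
open CategoryTheory
open LocCoh

namespace Groth.Agent.S0337

/-- Over a Noetherian local ring of prime characteristic p, a finite module isomorphic to its own base
change along Frobenius is free. -/
theorem result (p : ℕ) [Fact p.Prime] (R : Type u) [CommRing R] [IsLocalRing R] [IsNoetherianRing R] [CharP R p] (M : Type u) [AddCommGroup M] [Module R M] [Module.Finite R M] (h : Nonempty ((ModuleCat.extendScalars (frobenius R p)).obj (ModuleCat.of R M) ≅ ModuleCat.of R M)) : Module.Free R M := by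
  classical
  obtain ⟨e⟩ := h
  let F := frobenius R p
  obtain ⟨n, ⟨π, hπ⟩, hmin⟩ : ∃ n, (∃ π : (Fin n → R) →ₗ[R] M, Function.Surjective π) ∧
      ∀ m < n, ¬ ∃ π : (Fin m → R) →ₗ[R] M, Function.Surjective π :=
    ⟨Nat.find (Module.Finite.exists_fin' R M), Nat.find_spec (Module.Finite.exists_fin' R M),
      fun m hm => Nat.find_min _ hm⟩
  set m := IsLocalRing.maximalIdeal R
  have hKm : ∀ r, π r = 0 → ∀ i, r i ∈ m := by
    intro r hr i
    by_contra hu
    obtain ⟨k, rfl⟩ : ∃ k, n = k + 1 := ⟨n - 1, by have := i.isLt; omega⟩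
    obtain ⟨u, hu'⟩ := IsLocalRing.notMem_maximalIdeal.mp hu
    refine hmin k (Nat.lt_succ_self k) ⟨Fintype.linearCombination R fun j => π (Pi.single (i.succAbove j) 1), ?_⟩
    intro y
    obtain ⟨v, rfl⟩ := hπ y
    refine ⟨fun j => v (i.succAbove j) - v i * ↑u⁻¹ * r (i.succAbove j), ?_⟩
    rw [Fintype.linearCombination_apply]
    simp only [← map_smul, ← map_sum]
    rw [← sub_zero (π v), ← smul_zero (v i * ↑u⁻¹ : R), ← hr, ← map_smul, ← map_sub]
    congr 1
    ext l
    rcases Fin.eq_self_or_eq_succAbove i l with rfl | ⟨j, rfl⟩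
    · simp [Finset.sum_apply, Pi.single_apply, ← hu', mul_assoc]
    · simp [Finset.sum_apply, Pi.single_apply]
  let I : Ideal R := Ideal.span {a | ∃ r, π r = 0 ∧ ∃ i, r i = a}
  have hI : ∀ r, π r = 0 → ∀ i, r i ∈ I := fun r hr i => Ideal.subset_span ⟨r, hr, i, rfl⟩
  have hIm : I ≤ m := Ideal.span_le.mpr (by rintro _ ⟨r, hr, i, rfl⟩; exact hKm r hr i)
  let J : Ideal R := I.map F
  have hJ : J ≤ m * I := by
    refine Ideal.map_le_iff_le_comap.mpr fun a ha => ?_
    rw [Ideal.mem_comap, frobenius_def]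
    have hp2 := (Fact.out : p.Prime).two_le
    rw [show p = p - 1 + 1 by omega, pow_succ]
    exact Ideal.mul_mem_mul (Ideal.pow_mem_of_mem _ (hIm ha) _ (by omega)) ha
  -- coordinates modulo `J`, Frobenius-semilinearly
  have hwd : ∀ r r', π r = π r' → ∀ i, Ideal.Quotient.mk J (F (r i)) = Ideal.Quotient.mk J (F (r' i)) :=
    fun r r' hrr i => by
      rw [Ideal.Quotient.eq, ← map_sub]
      exact Ideal.mem_map_of_mem F (hI (r - r') (by rw [map_sub, hrr, sub_self]) i)
  let σ := Function.surjInv hπ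
  have hσ : ∀ y, π (σ y) = y := Function.surjInv_eq hπ
  let T := ModuleCat.of R (Fin n → R ⧸ J)
  let g : ModuleCat.of R M ⟶ (ModuleCat.restrictScalars F).obj T := ModuleCat.ofHom
    (Y := (ModuleCat.restrictScalars F).obj T)
    { toFun := fun y => (fun i => Ideal.Quotient.mk J (F (σ y i)) : Fin n → R ⧸ J)
      map_add' := fun y z => funext fun i => by
        show Ideal.Quotient.mk J (F (σ (y + z) i)) = Ideal.Quotient.mk J (F (σ y i)) + Ideal.Quotient.mk J (F (σ z i))
        rw [← map_add, ← map_add]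
        exact hwd _ (σ y + σ z) (by rw [map_add, hσ, hσ, hσ]) i
      map_smul' := fun c y => funext fun i => by
        show Ideal.Quotient.mk J (F (σ (c • y) i)) = F c • Ideal.Quotient.mk J (F (σ y i))
        rw [Algebra.smul_def, Ideal.Quotient.algebraMap_eq, ← map_mul, ← map_mul]
        exact hwd _ (c • σ y) (by rw [map_smul, hσ, hσ]) i }
  obtain ⟨X, e', η, hlift, hgen⟩ : ∃ (X : ModuleCat.{u} R) (_ : X ≅ ModuleCat.of R M) (η : M → X),
      (∀ (Q : ModuleCat.{u} R) (g : ModuleCat.of R M ⟶ (ModuleCat.restrictScalars F).obj Q),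
        ∃ gs : X ⟶ Q, ∀ y, gs.hom (η y) = g.hom y) ∧
      (∀ (Q : ModuleCat.{u} R) (q : X ⟶ Q), (∀ i, q.hom (η (π (Pi.single i 1))) = 0) → q = 0) := by
    let adj := ModuleCat.extendRestrictScalarsAdj.{u, u, u} F
    let ηm := adj.unit.app (ModuleCat.of R M)
    refine ⟨_, e, fun y => ηm.hom y, fun Q g => ⟨(adj.homEquiv _ Q).symm g, fun y => ?_⟩, fun Q q hq => ?_⟩
    · have h1 := adj.homEquiv_unit (ModuleCat.of R M) Q ((adj.homEquiv _ Q).symm g)
      rw [Equiv.apply_symm_apply] at h1
      exact (LinearMap.congr_fun (congrArg ModuleCat.Hom.hom h1) y).symm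
    · apply (adj.homEquiv _ _).injective
      rw [adj.homEquiv_unit, adj.homEquiv_unit]
      apply ModuleCat.hom_ext
      refine LinearMap.ext_on (s := Set.range fun i => π (Pi.single i 1)) ?_ ?_
      · rw [show (fun i => π (Pi.single i 1)) = π ∘ (Pi.basisFun R (Fin n)) from funext fun i => by simp,
          Set.range_comp, ← Submodule.map_span, (Pi.basisFun R (Fin n)).span_eq, Submodule.map_top,
          LinearMap.range_eq_top.mpr hπ]
      · rintro _ ⟨i, rfl⟩
        exact (hq i).trans rfl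
  obtain ⟨gs, hgs⟩ := hlift T g
  replace hgs : ∀ y : M, gs.hom (η y) = (fun i => Ideal.Quotient.mk J (F (σ y i)) : Fin n → R ⧸ J) := hgs
  let ev : (Fin n → R) →ₗ[R] X := Fintype.linearCombination R fun i => η (π (Pi.single i 1))
  have hev : Function.Surjective ev := by
    rw [← LinearMap.range_eq_top, ← (LinearMap.range ev).ker_mkQ, LinearMap.ker_eq_top]
    exact congrArg ModuleCat.Hom.hom (hgen (ModuleCat.of R (X ⧸ LinearMap.range ev))
      (ModuleCat.ofHom (LinearMap.range ev).mkQ) fun i =>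
        (Submodule.Quotient.mk_eq_zero _).mpr ⟨Pi.single i 1, by simp [ev]⟩)
  let πy : (Fin n → R) →ₗ[R] M := e'.hom.hom ∘ₗ ev
  have hπy : Function.Surjective πy := e'.toLinearEquiv.surjective.comp hev
  have hKy : ∀ r, πy r = 0 → ∀ i, r i ∈ J := by
    intro r hr i
    have h0 : ev r = 0 := e'.toLinearEquiv.injective (hr.trans (map_zero _).symm)
    have h1 : gs.hom (ev r) i = 0 := by rw [h0, map_zero]; rfl
    simp only [ev] at h1
    rw [Fintype.linearCombination_apply, map_sum, Finset.sum_apply] at h1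
    rw [← Ideal.Quotient.eq_zero_iff_mem, ← h1, Finset.sum_eq_single i]
    · rw [map_smul, hgs, Pi.smul_apply, Algebra.smul_def, Ideal.Quotient.algebraMap_eq,
        hwd _ _ (hσ (π (Pi.single i 1))) i, Pi.single_eq_same, map_one, map_one, mul_one]
    · intro l _ hl
      rw [map_smul, hgs, Pi.smul_apply, hwd _ _ (hσ (π (Pi.single l 1))) i, Pi.single_eq_of_ne (Ne.symm hl),
        map_zero, map_zero, smul_zero]
    · simp
  obtain ⟨f, hf⟩ := Module.projective_lifting_property πy π hπy
  have hJm : J ≤ m := hJ.trans Ideal.mul_le_right |>.trans hIm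
  have hfsur : Function.Surjective f := by
    rw [← LinearMap.range_eq_top, eq_top_iff]
    refine Submodule.le_of_le_smul_of_le_jacobson_bot (I := m) Module.Finite.fg_top
      (IsLocalRing.maximalIdeal_le_jacobson _) fun r _ => ?_
    obtain ⟨r', hr'⟩ := hπ (πy r)
    have hd : ∀ i, (r - f r') i ∈ m := fun i => hJm (hKy _ (by
      rw [map_sub, ← LinearMap.comp_apply, hf, hr', sub_self]) i)
    rw [← add_sub_cancel (f r') r]
    refine Submodule.add_mem_sup ⟨r', rfl⟩ ?_
    rw [← (Pi.basisFun R (Fin n)).sum_repr (r - f r')]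
    refine Submodule.sum_mem _ fun i _ => Submodule.smul_mem_smul ?_ trivial
    rw [Pi.basisFun_repr]
    exact hd i
  let fe := LinearEquiv.ofBijective f ⟨OrzechProperty.injective_of_surjective_endomorphism f hfsur, hfsur⟩
  have hIJ : I ≤ J := by
    refine Ideal.span_le.mpr ?_
    rintro _ ⟨r, hr, i, rfl⟩
    have hv : ∀ l, f r l ∈ J := hKy _ (by rw [← LinearMap.comp_apply, hf, hr])
    rw [show r = fe.symm (f r) from (fe.symm_apply_apply r).symm, ← (Pi.basisFun R (Fin n)).sum_repr (f r),
      map_sum, Finset.sum_apply]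
    refine Ideal.sum_mem _ fun l _ => ?_
    rw [map_smul, Pi.smul_apply, smul_eq_mul, Pi.basisFun_repr]
    exact Ideal.mul_mem_right _ _ (hv l)
  have hI0 : I = ⊥ := Submodule.eq_bot_of_le_smul_of_le_jacobson_bot m I (IsNoetherian.noetherian I)
    (hIJ.trans hJ) (IsLocalRing.maximalIdeal_le_jacobson _)
  refine Module.Free.of_equiv (LinearEquiv.ofBijective π ⟨?_, hπ⟩)
  rw [injective_iff_map_eq_zero]
  intro r hr
  funext i
  simpa [hI0] using hI r hr i

end Groth.Agent.S0337
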