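import Groth.Statements.S0342
import Groth.Agent.GorLib.Criterion
import Groth.Agent.ProjDim.Regular


set_option autoImplicit false
universe u v
open Goren

open CategoryTheory

namespace Groth.Agent.S0342

/-- Regular local rings have finite injective dimension over themselves, i.e. are Gorenstein. -/
theorem result (A : Type u) [CommRing A] [IsRegularLocalRing A] : LocCoh.IsGorensteinLocalRing A := by
  have hd : ringKrullDim A = ((IsLocalRing.maximalIdeal A).spanFinrank : WithBot ℕ∞) :=
    ((isRegularLocalRing_iff A).1 ‹_›).symm
  refine GorLib.isGorensteinLocalRing_iff.2 ⟨(IsLocalRing.maximalIdeal A).spanFinrank + 1, fun i hi => ?_⟩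
  have := ProjDim.gldim_le_of_regularLocal A _ hd (ModuleCat.of A (IsLocalRing.ResidueField A))
  exact HasProjectiveDimensionLT.subsingleton _ _ i hi _

end Groth.Agent.S0342
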