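import Groth.Statements.S0346
import Groth.Agent.GrpSchField.Shear

set_option autoImplicit false
universe u v
open CategoryTheory MonoidalCategory CartesianMonoidalCategory MonObj GrpObj AlgebraicGeometry
open GrpSch

namespace Groth.Agent.S0346

/-- A group scheme over any base scheme is separated over the base exactly when its unit section is a
closed immersion, and quasi-separated exactly when the unit section is quasi-compact. -/
theorem result (S : Scheme.{u}) (G : Over S) [GrpObj G] : (IsSeparated G.hom ↔ IsClosedImmersion η[G].left) ∧ (QuasiSeparated G.hom ↔ QuasiCompact η[G].left) := by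
  have : MorphismProperty.IsStableUnderComposition @IsClosedImmersion :=
    MorphismProperty.IsMultiplicative.toIsStableUnderComposition
  have : MorphismProperty.ContainsIdentities @QuasiCompact := ⟨fun X => by
    show QuasiCompact (𝟙 X)
    infer_instance⟩
  have : MorphismProperty.ContainsIdentities @IsClosedImmersion :=
    ⟨fun X => inferInstanceAs (IsClosedImmersion (𝟙 X))⟩
  refine ⟨⟨fun h => ?_, fun h => ?_⟩, ⟨fun h => ?_, fun h => ?_⟩⟩
  · have : IsClosedImmersion (η[G].left ≫ G.hom) := by
      rw [Over.w η[G]]
      show IsClosedImmersion (𝟙 S)
      infer_instance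
    exact IsClosedImmersion.of_comp η[G].left G.hom
  · exact ⟨Groth.Agent.GrpSchField.diagonal_of_unit @IsClosedImmersion h⟩
  · have : QuasiCompact (η[G].left ≫ G.hom) := by
      rw [Over.w η[G]]
      show QuasiCompact (𝟙 S)
      infer_instance
    exact QuasiCompact.of_comp η[G].left G.hom
  · exact ⟨Groth.Agent.GrpSchField.diagonal_of_unit @QuasiCompact h⟩

end Groth.Agent.S0346
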