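import Groth.Statements.S0347
import Groth.Agent.GrpSchField.Shear
import Groth.Agent.GrpSchField.Points

set_option autoImplicit false
universe u v
open CategoryTheory MonoidalCategory CartesianMonoidalCategory MonObj GrpObj AlgebraicGeometry
open GrpSch

namespace Groth.Agent.S0347

/-- The multiplication map of a group scheme over a field is an open map of topological spaces. -/
theorem result (K : Type u) [Field K] (G : Over (Spec (CommRingCat.of K))) [GrpObj G] : IsOpenMap (μ[G].left : (G ⊗ G).left ⟶ G.left) := by
  have h : (Groth.Agent.GrpSchField.shearL (𝟙 G)).hom ≫ snd G G = μ[G] := by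
    rw [Groth.Agent.GrpSchField.shearL_snd, id_whiskerRight, Category.id_comp]
  rw [← h, Over.comp_left]
  have := Groth.Agent.GrpSchField.isIso_left (Groth.Agent.GrpSchField.shearL (𝟙 G))
  exact ((Groth.Agent.GrpSchField.shearL (𝟙 G)).hom.left ≫ (snd G G).left).isOpenMap

end Groth.Agent.S0347
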