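import Groth.Statements.S0354
import Groth.Agent.GrpSchField.Dim

set_option autoImplicit false
universe u v
open CategoryTheory MonoidalCategory CartesianMonoidalCategory MonObj GrpObj AlgebraicGeometry
open GrpSch

namespace Groth.Agent.S0354

/-- In a group scheme locally of finite type over a field, the local ring at every closed point has
Krull dimension equal to the dimension of the whole scheme. -/
theorem result (K : Type u) [Field K] (G : Over (Spec (CommRingCat.of K))) [GrpObj G] [LocallyOfFiniteType G.hom] (g : G.left) (hg : IsClosed ({g} : Set G.left)) : ringKrullDim (G.left.presheaf.stalk g) = topologicalKrullDim G.left := by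
  have : JacobsonSpace G.left := LocallyOfFiniteType.jacobsonSpace G.hom
  have key : ∀ x : G.left, Order.coheight x ≤ Order.coheight g := by
    intro x
    obtain ⟨c, hcx, hc⟩ := nonempty_inter_closedPoints (Z := closure ({x} : Set G.left))
      ((Set.singleton_nonempty x).mono subset_closure) isClosed_closure.isLocallyClosed
    refine le_trans (Order.coheight_anti (a := c) (b := x) ?_)
      (Groth.Agent.GrpSchField.coheight_closed_eq G hc hg).le
    exact specializes_iff_mem_closure.mpr hcx
  have hdim : topologicalKrullDim G.left = Order.krullDim G.left := by
    let _ := specializationOrder G.left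
    exact Order.krullDim_eq_of_orderIso irreducibleSetEquivPoints
  rw [hdim, ringKrullDim_stalk_eq_coheight, Order.krullDim_eq_iSup_coheight]
  exact le_antisymm (le_iSup (fun a => (Order.coheight a : WithBot ℕ∞)) g)
    (iSup_le fun x => by exact_mod_cast key x)

end Groth.Agent.S0354
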