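import Groth.Statements.S0368
import Groth.Agent.DualCx.Setup
-- import your own Groth.Agent.* helpers here

set_option autoImplicit false
universe u v
open CategoryTheory
attribute [local instance] HasDerivedCategory.standard
open Dual

namespace Groth.Agent.S0368

/-- (1)⇔(3): for a Noetherian local ring with normalized dualizing complex ω, a nonzero finite module M
with support of dimension d is Cohen–Macaulay exactly when Hom(M, ω[−i]) vanishes in D(A) for every
i ≠ d. -/
theorem result (A : Type u) [CommRing A] [IsLocalRing A] [IsNoetherianRing A] (ω : Dual.D A) (hω : Dual.IsDualizing A ω) (hn : Dual.IsNormalized A ω) (M : Type u) [AddCommGroup M] [Module A M] [Module.Finite A M] [Nontrivial M] (d : ℕ) (hd : Module.supportDim A M = d) : LocCoh.IsCohenMacaulayModule A M ↔ ∀ i : ℤ, i ≠ d → Subsingleton (Dual.inD A M ⟶ ω⟦(-i)⟧) := by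
  obtain ⟨W, a, b, hW, hres, hzero, ⟨e⟩⟩ := Groth.Agent.DualCx.exists_residual hω hn
  haveI := hW
  have g : ∀ i, (Dual.inD A M ⟶ ω⟦i⟧) ≃ₗ[A] Groth.Agent.DualCx.EH W M i := fun i =>
    Groth.Agent.DualCx.homIso W e (ModuleCat.of A M) i
  obtain ⟨k, hk⟩ := Groth.Agent.DepthLib.exists_nat_depth (R := A) M
  obtain ⟨h1, h2⟩ := hres.depth_spec k M hk
  have htop := hres.nontrivial_top M d hd
  rw [LocCoh.IsCohenMacaulayModule, hd, hk]
  constructor
  · intro h i hi
    obtain rfl : d = k := by exact_mod_cast h
    refine (g _).toEquiv.subsingleton_congr.2 ?_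
    rcases lt_or_gt_of_ne hi with h | h
    · exact h1 _ (by omega)
    · exact hres.lower M d hd.le _ (by omega)
  · intro h
    by_contra hne
    have hkd : (k : ℤ) ≠ d := fun he => hne (by
      obtain rfl : k = d := by exact_mod_cast he
      rfl)
    haveI : Subsingleton (Groth.Agent.DualCx.EH W M (-(k : ℤ))) := (g _).toEquiv.subsingleton_congr.1 (h k hkd)
    rw [zero_sub] at h2
    exact not_nontrivial (Groth.Agent.DualCx.EH W M (-(k : ℤ))) inferInstance

end Groth.Agent.S0368
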