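import Groth.Statements.S0370
import Groth.Agent.DualCx.Primes
-- import your own Groth.Agent.* helpers here

set_option autoImplicit false
universe u v
open CategoryTheory
attribute [local instance] HasDerivedCategory.standard
open Dual

namespace Groth.Agent.S0370

/-- A Noetherian ring admitting a finite module which, placed in degree 0, is a dualizing complex, is
Cohen–Macaulay. -/
theorem result (A : Type u) [CommRing A] [IsNoetherianRing A] (W : Type u) [AddCommGroup W] [Module A W] [Module.Finite A W] (h : Dual.IsDualizing A (Dual.inD A W)) : LocCoh.IsCohenMacaulayRing A := by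
  obtain ⟨V, a, b, hV, hinj, hzero, ⟨e⟩⟩ := Groth.Agent.DualCx.exists_model h.finite_injective_dimension
  haveI := hV
  haveI := hinj
  refine Groth.Agent.DualCx.isCohenMacaulay_of_single_homology a b h hzero e 0 fun i hi => ?_
  have h0 : Limits.IsZero ((DerivedCategory.homologyFunctor (ModuleCat.{u} A) i).obj (Dual.inD A W)) := by
    rcases lt_or_gt_of_ne hi with hi | hi
    · exact DerivedCategory.isZero_of_isGE _ 0 i hi
    · exact DerivedCategory.isZero_of_isLE _ 0 i hi
  exact h0.of_iso (((DerivedCategory.homologyFunctorFactors (ModuleCat.{u} A) i).app V).symm ≪≫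
    (DerivedCategory.homologyFunctor (ModuleCat.{u} A) i).mapIso e)

end Groth.Agent.S0370
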