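import Groth.Statements.S0371
import Groth.Agent.DualCx.Primes
-- import your own Groth.Agent.* helpers here

set_option autoImplicit false
universe u v
open CategoryTheory
attribute [local instance] HasDerivedCategory.standard
open Dual

namespace Groth.Agent.S0371

/-- A Noetherian ring with a dualizing complex has finite Krull dimension. (Universal catenarity is not
stated.) -/
theorem result (A : Type u) [CommRing A] [IsNoetherianRing A] (ω : Dual.D A) (hω : Dual.IsDualizing A ω) : ringKrullDim A < ⊤ := by
  obtain ⟨W, a, b, hW, hinj, hzero, ⟨e⟩⟩ := Groth.Agent.DualCx.exists_model hω.finite_injective_dimension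
  haveI := hW
  haveI := hinj
  refine lt_of_le_of_lt ((ringKrullDim_le_iff_height_le (((b - a).toNat : ℕ) : WithBot ℕ∞)).2 fun I hI => ?_)
    (WithBot.coe_lt_coe.2 (ENat.natCast_lt_top _))
  rw [← IsLocalization.AtPrime.ringKrullDim_eq_height I (Localization.AtPrime I)]
  exact Groth.Agent.DualCx.ringKrullDim_localization_le a b hω hzero e I

end Groth.Agent.S0371
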