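import Groth.Statements.S0372
import Groth.Agent.DualCx.CMLocus
-- import your own Groth.Agent.* helpers here

set_option autoImplicit false
universe u v
open CategoryTheory
attribute [local instance] HasDerivedCategory.standard
open Dual

namespace Groth.Agent.S0372

/-- If a Noetherian ring has a dualizing complex then the set of primes at which the localization is
Cohen–Macaulay is open and dense in the prime spectrum. -/
theorem result (A : Type u) [CommRing A] [IsNoetherianRing A] (ω : Dual.D A) (hω : Dual.IsDualizing A ω) : IsOpen {p : PrimeSpectrum A | LocCoh.IsCohenMacaulayLocalRing (Localization.AtPrime p.asIdeal)} ∧ Dense {p : PrimeSpectrum A | LocCoh.IsCohenMacaulayLocalRing (Localization.AtPrime p.asIdeal)} := by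
  obtain ⟨W, a, b, hW, hinj, hzero, ⟨e⟩⟩ := Groth.Agent.DualCx.exists_model hω.finite_injective_dimension
  haveI := hW
  haveI := hinj
  have hns : ∀ p : PrimeSpectrum A, ¬ Subsingleton (LocalizedModule p.asIdeal.primeCompl A) := fun p h =>
    Module.notMem_support_iff.2 h (Module.mem_support_iff_of_finite.2 fun x hx => by
      have h1 : x • (1 : A) = 0 := Module.mem_annihilator.1 hx 1
      rw [smul_eq_mul, mul_one] at h1
      exact h1 ▸ p.asIdeal.zero_mem)
  have hset : {p : PrimeSpectrum A | LocCoh.IsCohenMacaulayLocalRing (Localization.AtPrime p.asIdeal)} =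
      {p : PrimeSpectrum A | Subsingleton (LocalizedModule p.asIdeal.primeCompl A) ∨
        LocCoh.IsCohenMacaulayModule (Localization.AtPrime p.asIdeal) (LocalizedModule p.asIdeal.primeCompl A)} :=
    Set.ext fun p => (Groth.Agent.DualCx.cm_ring_iff p).trans (or_iff_right (hns p)).symm
  refine ⟨hset ▸ Groth.Agent.DualCx.isOpen_cm a b hω hzero e A, fun p => ?_⟩
  refine closure_mono ?_ (Groth.Agent.DualCx.support_subset_closure_cm A (Module.mem_support_iff.2
    (not_subsingleton_iff_nontrivial.1 (hns p))))
  exact fun q hq => (Groth.Agent.DualCx.cm_ring_iff q).2 hq.1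

end Groth.Agent.S0372
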