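import Groth.Statements.S0375
import Groth.Agent.DualCx.Normalized
-- import your own Groth.Agent.* helpers here

set_option autoImplicit false
universe u v
open CategoryTheory
attribute [local instance] HasDerivedCategory.standard
open Dual

namespace Groth.Agent.S0375

/-- Over a Noetherian local ring of dimension 0, a normalized dualizing complex is isomorphic in D(A) to
an injective hull of the residue field placed in degree 0. -/
theorem result (A : Type u) [CommRing A] [IsLocalRing A] [IsNoetherianRing A] (h0 : ringKrullDim A = 0) (ω : Dual.D A) (hω : Dual.IsDualizing A ω) (hn : Dual.IsNormalized A ω) (E : Type u) [AddCommGroup E] [Module A E] (f : IsLocalRing.ResidueField A →ₗ[A] E) (hf : InjHull.IsInjectiveHull f) : Nonempty (ω ≅ Dual.inD A E) := by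
  obtain ⟨W, a, b, hW, hres, hzero, ⟨e⟩, hk⟩ := Groth.Agent.DualCx.exists_residual' hω hn
  haveI := hW
  haveI : Ring.KrullDimLE 0 A := by
    rw [Ring.krullDimLE_iff]
    exact h0.le
  haveI : IsArtinianRing A := isArtinianRing_iff_isNoetherianRing_krullDimLE_zero.2 ⟨inferInstance, inferInstance⟩
  obtain ⟨n, hnil⟩ := IsArtinianRing.isNilpotent_jacobson_bot (R := A)
  rw [IsLocalRing.jacobson_eq_maximalIdeal ⊥ bot_ne_top] at hnil
  haveI : ∀ i, IsIso ((Groth.Agent.RGamma.gammaInc (IsLocalRing.maximalIdeal A) W).f i) := fun i =>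
    (ConcreteCategory.isIso_iff_bijective _).2 ⟨Subtype.val_injective, fun v => ⟨⟨v, n, fun c hc => by
      rw [hnil] at hc
      rw [(Submodule.mem_bot A).1 hc, zero_smul]⟩, rfl⟩⟩
  haveI : IsIso (Groth.Agent.RGamma.gammaInc (IsLocalRing.maximalIdeal A) W) :=
    HomologicalComplex.Hom.isIso_of_components _
  let g : ∀ i, Dual.HD A ω i ≃ₗ[A] ((Groth.Agent.RGamma.gammaCx (IsLocalRing.maximalIdeal A)).obj W).homology i := fun i =>
    ((DerivedCategory.homologyFunctor (ModuleCat.{u} A) i).mapIso e.symm ≪≫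
      (DerivedCategory.homologyFunctorFactors (ModuleCat.{u} A) i).app W ≪≫
      ((HomologicalComplex.homologyFunctor (ModuleCat.{u} A) (ComplexShape.up ℤ) i).mapIso
        (asIso (Groth.Agent.RGamma.gammaInc (IsLocalRing.maximalIdeal A) W)).symm)).toLinearEquiv
  have hz : ∀ i : ℤ, i ≠ 0 → Limits.IsZero ((DerivedCategory.homologyFunctor (ModuleCat.{u} A) i).obj ω) := fun i hi =>
    @ModuleCat.isZero_of_subsingleton _ _ _ ((g i).toEquiv.subsingleton_congr.2 (hres.homology_gamma i hi))
  haveI : ω.IsGE 0 := (DerivedCategory.isGE_iff ω 0).2 fun i hi => hz i (by omega)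
  haveI : ω.IsLE 0 := (DerivedCategory.isLE_iff ω 0).2 fun i hi => hz i (by omega)
  obtain ⟨Y, ⟨eY⟩⟩ := ω.exists_iso_singleFunctor_obj_of_isGE_of_isLE 0
  obtain ⟨g'⟩ := hres.exists_hull hk f hf
  let h : Y ≅ ModuleCat.of A E :=
    ((DerivedCategory.singleFunctorCompHomologyFunctorIso (ModuleCat.{u} A) 0).app Y).symm ≪≫
      (DerivedCategory.homologyFunctor (ModuleCat.{u} A) 0).mapIso eY.symm ≪≫ (g 0 ≪≫ₗ g').toModuleIso
  exact ⟨eY ≪≫ (DerivedCategory.singleFunctor (ModuleCat.{u} A) 0).mapIso h⟩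

end Groth.Agent.S0375
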