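import Groth.Statements.S0376
import Groth.Agent.DualCx.Complete
-- import your own Groth.Agent.* helpers here

set_option autoImplicit false
universe u v
open CategoryTheory
attribute [local instance] HasDerivedCategory.standard
open Dual

namespace Groth.Agent.S0376

/-- A complete Noetherian local ring has a dualizing complex. -/
theorem result (A : Type u) [CommRing A] [IsLocalRing A] [IsNoetherianRing A] [IsAdicComplete (IsLocalRing.maximalIdeal A) A] : ∃ ω : Dual.D A, Dual.IsDualizing A ω := by
  obtain ⟨R, _, _, f, hf⟩ := Groth.Agent.DualCx.exists_regular_surjection A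
  haveI : IsLocalHom f := IsLocalHom.of_surjective f hf
  obtain ⟨ω, hω, -⟩ := Groth.Agent.DualCx.exists_dualizing_of_gorenstein f (RingHom.Finite.of_surjective f hf)
    (Groth.Agent.DualCx.gorenstein_of_regular R)
  exact ⟨ω, hω⟩

end Groth.Agent.S0376
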