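import Groth.Statements.S0382
import Groth.Agent.FibrewiseCrit.PowEtale

set_option autoImplicit false
universe u v
open CategoryTheory MonoidalCategory CartesianMonoidalCategory MonObj GrpObj AlgebraicGeometry
open GrpSch

namespace Groth.Agent.S0382

set_option linter.style.haveILetI false
set_option backward.isDefEq.respectTransparency false

theorem map_maximalIdeal {R S : Type u} [CommRing R] [CommRing S] [IsLocalRing R] [IsLocalRing S]
    (φ : R →+* S) [IsLocalHom φ] (h : φ.FormallyUnramified) (h' : φ.EssFiniteType) :
    (IsLocalRing.maximalIdeal R).map φ = IsLocalRing.maximalIdeal S := by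
  algebraize [φ]
  haveI : IsLocalHom (algebraMap R S) := ‹IsLocalHom φ›
  exact Algebra.FormallyUnramified.map_maximalIdeal

/-- If `m = 0` in `K` then the `m`-th power map is not etale. -/
theorem not_etale_pow {K : Type u} [Field K] (A : Over (Spec (CommRingCat.of K))) [GrpObj A]
    [IsProper A.hom] [GeometricallyIntegral A.hom] (hA : 0 < topologicalKrullDim A.left) (m : ℕ)
    (hm : (m : K) = 0) : ¬ Etale ((𝟙 A : A ⟶ A) ^ m).left := by
  intro het
  haveI : IsIntegral A.left := GeometricallyIntegral.isIntegral_of_subsingleton A.hom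
  haveI : IsLocallyNoetherian A.left := LocallyOfFiniteType.isLocallyNoetherian A.hom
  let u : Spec (CommRingCat.of K) ⟶ A.left := η[A].left
  let e : A.left := u (IsLocalRing.closedPoint K)
  let R := A.left.presheaf.stalk e
  obtain ⟨φ, hloc, heft, -, hfu, -, h1⟩ := Groth.FibrewiseCrit.exists_stalk_pow (G := A) m
  have hfu' : φ.hom.FormallyUnramified :=
    hfu.mpr ((Groth.FibrewiseCrit.formallyUnramified_iff_forall_mem_fuLocus _).mp inferInstance _)
  have hmR : (m : R) = 0 := by
    rw [← map_natCast (Spec.preimage (A.left.fromSpecStalk e ≫ A.hom)).hom, hm, map_zero]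
  have hmap : (IsLocalRing.maximalIdeal R).map φ.hom = IsLocalRing.maximalIdeal R :=
    map_maximalIdeal φ.hom hfu' heft
  have hle : IsLocalRing.maximalIdeal R ≤ IsLocalRing.maximalIdeal R • IsLocalRing.maximalIdeal R := by
    conv_lhs => rw [← hmap]
    rw [Ideal.map_le_iff_le_comap]
    intro a ha
    have h2 := h1 a ha
    rw [hmR, MulZeroClass.zero_mul, sub_zero, pow_two] at h2
    exact h2
  have hbot : IsLocalRing.maximalIdeal R = ⊥ :=
    Submodule.eq_bot_of_le_smul_of_le_jacobson_bot _ _ (IsNoetherian.noetherian _) hle
      (IsLocalRing.maximalIdeal_le_jacobson ⊥)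
  have hgen : ∀ y : A.left, y = e := by
    intro y
    have hclosed : IsClosed ({e} : Set A.left) := by
      haveI : IsClosedImmersion u := by
        have : IsClosedImmersion (u ≫ A.hom) := by rw [show u ≫ A.hom = 𝟙 _ from Over.w η[A]]; infer_instance
        exact IsClosedImmersion.of_comp u A.hom
      have := u.isClosedEmbedding.isClosed_range
      rwa [show Set.range u = {e} from Set.eq_singleton_iff_unique_mem.mpr
        ⟨⟨_, rfl⟩, fun y ⟨p, hp⟩ => hp ▸ congrArg u (Subsingleton.elim (α := PrimeSpectrum K) p _)⟩] at this
    have hspec : genericPoint A.left ∈ Set.range (A.left.fromSpecStalk e) := by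
      rw [Scheme.range_fromSpecStalk]
      exact genericPoint_specializes _
    obtain ⟨p, hp⟩ := hspec
    have : p = IsLocalRing.closedPoint R := by
      apply PrimeSpectrum.ext
      refine le_antisymm (IsLocalRing.le_maximalIdeal p.isPrime.ne_top) ?_
      show IsLocalRing.maximalIdeal R ≤ _
      rw [hbot]; exact bot_le
    rw [this, Scheme.fromSpecStalk_closedPoint] at hp
    have : y ∈ closure ({e} : Set A.left) := by
      rw [show closure ({e} : Set A.left) = Set.univ by rw [hp]; exact genericPoint_spec A.left]
      trivial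
    rwa [hclosed.closure_eq] at this
  haveI : Subsingleton A.left := ⟨fun a b => (hgen a).trans (hgen b).symm⟩
  haveI : Nonempty A.left := ⟨e⟩
  exact absurd (topologicalKrullDim_zero_of_discreteTopology A.left) (not_le.mpr hA)

/-- On an abelian variety of positive dimension over a field K (a proper, geometrically integral group
scheme over K), multiplication by an integer d is étale exactly when d is nonzero in K.
Multiplication by d is written as the d-th power of the identity morphism in the group Hom(A, A),
whose multiplication is pointwise, induced by the group structure of A. -/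
theorem result (K : Type u) [Field K] (A : Over (Spec (CommRingCat.of K))) [GrpObj A] [IsProper A.hom] [GeometricallyIntegral A.hom] (hA : 0 < topologicalKrullDim A.left) (d : ℤ) : Etale ((𝟙 A ^ d).left) ↔ ((d : K) ≠ 0) := by
  haveI := isCommMonObj_of_isProper_of_geometricallyIntegral A
  haveI : IsIso ι[A].left := ((Over.forget _).mapIso (asIso ι[A])).isIso_hom
  have key : ∀ m : ℕ, Etale ((𝟙 A : A ⟶ A) ^ m).left ↔ (m : K) ≠ 0 := fun m =>
    ⟨fun h h0 => not_etale_pow A hA m h0 h, fun h => Groth.FibrewiseCrit.etale_pow_of_field m h⟩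
  obtain ⟨m, rfl | rfl⟩ := d.eq_nat_or_neg
  · rw [zpow_natCast, key]; simp
  · rw [zpow_neg, zpow_natCast, show ((𝟙 A : A ⟶ A) ^ m)⁻¹ = ((𝟙 A : A ⟶ A) ^ m) ≫ ι[A] from
      Hom.inv_def _, Over.comp_left, MorphismProperty.cancel_right_of_respectsIso @Etale, key]
    simp

end Groth.Agent.S0382
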