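import Groth.Statements.S0389
import Groth.Agent.GenFree.Package

set_option autoImplicit false
universe u
open FlatMor

namespace Groth.Agent.S0389

open TensorProduct in
/-- Generic freeness: over a domain, for a finite type algebra and a finite module over it, after
inverting one nonzero element of the base the algebra and the module become free over the base, the
algebra becomes finitely presented over the base and the module finitely presented over the algebra. -/
theorem result {R S M : Type u} [CommRing R] [IsDomain R] [CommRing S] [Algebra R S] [Algebra.FiniteType R S] [AddCommGroup M] [Module S M] [Module R M] [IsScalarTower R S M] [Module.Finite S M] :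
    ∃ f : R, f ≠ 0 ∧ Module.Free (Localization.Away f) (Localization.Away f ⊗[R] M) ∧
      Module.Free (Localization.Away f) (Localization.Away f ⊗[R] S) ∧
      Algebra.FinitePresentation (Localization.Away f) (Localization.Away f ⊗[R] S) ∧
      Module.FinitePresentation (Localization.Away (algebraMap R S f)) (LocalizedModule (Submonoid.powers (algebraMap R S f)) M) := by
  obtain ⟨a₁, ha₁, hS, hfp⟩ := Groth.GenFree.exists_algebra_freeAt R S
  obtain ⟨a₂, ha₂, hM, hfpM⟩ := Groth.GenFree.finitePresentation_localizedModule (R := R) (S := S) M
  exact ⟨a₁ * a₂, mul_ne_zero ha₁ ha₂, Groth.GenFree.free_tensor (Dvd.intro_left a₁ rfl) hM,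
    Groth.GenFree.free_tensor (Dvd.intro a₂ rfl) hS, hfp _ (Dvd.intro a₂ rfl), hfpM _ (Dvd.intro_left a₁ rfl)⟩

end Groth.Agent.S0389
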