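import Groth.Statements.S0392
import Groth.Agent.FlatDescent.Local

set_option autoImplicit false
universe u
open FlatMor

namespace Groth.Agent.S0392

open TensorProduct in
/-- Fibrewise criterion of flatness, Noetherian local form: for local homomorphisms R → S → S' of
Noetherian local rings and a nonzero finite S'-module M that is flat over R and whose reduction
modulo the maximal ideal of R is flat over the corresponding fibre ring of S, the ring S is flat
over R and M is flat over S. -/
theorem result {R S S' M : Type u} [CommRing R] [CommRing S] [CommRing S'] [IsLocalRing R] [IsLocalRing S] [IsLocalRing S']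
    [IsNoetherianRing R] [IsNoetherianRing S] [IsNoetherianRing S'] [Algebra R S] [Algebra S S'] [Algebra R S'] [IsScalarTower R S S']
    [IsLocalHom (algebraMap R S)] [IsLocalHom (algebraMap S S')]
    [AddCommGroup M] [Module S' M] [Module S M] [Module R M] [IsScalarTower S S' M] [IsScalarTower R S M]
    [Module.Finite S' M] [Nontrivial M] [Module.Flat R M]
    (h : Module.Flat (S ⧸ ((IsLocalRing.maximalIdeal R).map (algebraMap R S))) ((S ⧸ ((IsLocalRing.maximalIdeal R).map (algebraMap R S))) ⊗[S] M)) :
    Module.Flat R S ∧ Module.Flat S M := by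
  haveI := h
  have hloc : ∀ {A B : Type u} [CommRing A] [CommRing B] [IsLocalRing A] [IsLocalRing B] (f : A →+* B) [IsLocalHom f],
      (IsLocalRing.maximalIdeal A).map f ≤ IsLocalRing.maximalIdeal B := fun {A B} _ _ _ _ f _ =>
    ((IsLocalRing.local_hom_TFAE f).out 0 2).mp ‹_›
  haveI hflat : Module.Flat S M := by
    refine Groth.FlatDescent.flat_of_flat_fibre (S' := S') (IsLocalRing.maximalIdeal R) ?_
    rw [IsLocalRing.jacobson_eq_maximalIdeal _ bot_ne_top]
    exact (Ideal.map_mono (hloc (algebraMap R S))).trans (hloc (algebraMap S S'))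
  haveI : Module.FaithfullyFlat S M := by
    refine Module.FaithfullyFlat.iff_flat_and_proper_ideal S M |>.mpr ⟨hflat, fun I hI h => ?_⟩
    have h1 : ((I.map (algebraMap S S')) • (⊤ : Submodule S' M)).restrictScalars S = ⊤ := by
      rw [Ideal.smul_restrictScalars, Submodule.restrictScalars_top, h]
    rw [Submodule.restrictScalars_eq_top_iff] at h1
    exact absurd (Submodule.eq_bot_of_le_smul_of_le_jacobson_bot _ ⊤ Module.Finite.fg_top h1.ge
      (by
        rw [IsLocalRing.jacobson_eq_maximalIdeal _ bot_ne_top]
        exact (Ideal.map_mono (IsLocalRing.le_maximalIdeal hI)).trans (hloc (algebraMap S S')))) top_ne_bot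
  exact ⟨Groth.FlatDescent.flat_of_faithfullyFlat_of_flat (M := M), hflat⟩

end Groth.Agent.S0392
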