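import Groth.Statements.S0393
import Groth.Agent.PP16Lib.ConormalKer
import Mathlib.RingTheory.Flat.EquationalCriterion
import Mathlib.RingTheory.Filtration
import Mathlib.RingTheory.LocalRing.ResidueField.Basic

set_option autoImplicit false
universe u
open FlatMor

namespace Groth.Agent.S0393

section helper

open TensorProduct

variable {R S M N : Type u} [CommRing R] [CommRing S] [IsLocalRing R] [IsLocalRing S] [IsNoetherianRing S] [Algebra R S]
  [IsLocalHom (algebraMap R S)] [AddCommGroup M] [Module R M] [Module.Flat R M]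
  [AddCommGroup N] [Module R N] [Module S N] [IsScalarTower R S N] [Module.Finite S N]

omit [IsLocalHom (algebraMap R S)] [IsNoetherianRing S] [IsLocalRing S] [Module S N] [IsScalarTower R S N]
  [Module.Finite S N] [Algebra R S] in
theorem step (u : N →ₗ[R] M)
    (hkey : ∀ y, u y ∈ (IsLocalRing.maximalIdeal R • ⊤ : Submodule R M) → y ∈ (IsLocalRing.maximalIdeal R • ⊤ : Submodule R N))
    (J0 J1 : Ideal R) (hJ : IsLocalRing.maximalIdeal R * J0 ≤ J1) (x : N) (hx : x ∈ (J0 • ⊤ : Submodule R N))
    (hux : u x ∈ (J1 • ⊤ : Submodule R M)) : x ∈ (J1 • ⊤ : Submodule R N) := by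
  classical
  obtain ⟨l, a, y, ha, hxy⟩ : ∃ (l : ℕ) (a : Fin l → R) (y : Fin l → N), (∀ i, a i ∈ J0) ∧
      x - ∑ i, a i • y i ∈ (J1 • ⊤ : Submodule R N) := by
    refine Submodule.smul_induction_on hx (fun r hr v _ => ⟨1, fun _ => r, fun _ => v, fun _ => hr, by simp⟩) ?_
    rintro p q ⟨l, a, y, ha, hp⟩ ⟨l', a', y', ha', hq⟩
    refine ⟨l + l', Fin.append a a', Fin.append y y',
      fun i => Fin.addCases (fun i => by simpa using ha i) (fun i => by simpa using ha' i) i, ?_⟩
    rw [Fin.sum_univ_add]
    simp only [Fin.append_left, Fin.append_right]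
    rw [add_sub_add_comm]
    exact add_mem hp hq
  clear hx
  induction l with
  | zero => simpa using hxy
  | succ l ih =>
    have hu : u (∑ i, a i • y i) ∈ (J1 • ⊤ : Submodule R M) := by
      have h1 : u (x - ∑ i, a i • y i) ∈ (J1 • ⊤ : Submodule R M) :=
        Submodule.smul_mono le_rfl le_top ((Submodule.map_smul'' J1 ⊤ u).le (Submodule.mem_map_of_mem hxy))
      have h2 := sub_mem hux h1
      rwa [← map_sub, sub_sub_cancel] at h2
    obtain ⟨q, c, v, hc, hv⟩ : ∃ (q : ℕ) (c : Fin q → R) (v : Fin q → M), (∀ i, c i ∈ J1) ∧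
        u (∑ i, a i • y i) = ∑ i, c i • v i := by
      refine Submodule.smul_induction_on hu (fun r hr v _ => ⟨1, fun _ => r, fun _ => v, fun _ => hr, by simp⟩) ?_
      rintro p p' ⟨l, c, v, hc, rfl⟩ ⟨l', c', v', hc', rfl⟩
      exact ⟨l + l', Fin.append c c', Fin.append v v',
        fun i => Fin.addCases (fun i => by simpa using hc i) (fun i => by simpa using hc' i) i,
        by simp [Fin.sum_univ_add]⟩
    have hrel : ∑ i, Sum.elim a (fun j => -c j) i • Sum.elim (fun i => u (y i)) v i = 0 := by
      rw [Fintype.sum_sum_type]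
      simp only [Sum.elim_inl, Sum.elim_inr, neg_smul, Finset.sum_neg_distrib]
      rw [← hv, map_sum, add_neg_eq_zero]
      simp only [map_smul]
    obtain ⟨k, B, z, hz, hB⟩ := Module.Flat.isTrivialRelation_of_sum_smul_eq_zero hrel
    by_cases hall : ∀ i j, B (Sum.inl i) j ∈ IsLocalRing.maximalIdeal R
    · have h1 : ∑ i, a i • y i ∈ (J1 • ⊤ : Submodule R N) := sum_mem fun i _ => by
        have huy : u (y i) ∈ (IsLocalRing.maximalIdeal R • ⊤ : Submodule R M) := by
          rw [show u (y i) = ∑ j, B (Sum.inl i) j • z j from hz (Sum.inl i)]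
          exact sum_mem fun j _ => Submodule.smul_mem_smul (hall i j) trivial
        refine Submodule.smul_induction_on (p := fun w => a i • w ∈ (J1 • ⊤ : Submodule R N)) (hkey _ huy) (fun r hr w _ => ?_)
          fun p p' hp hp' => by rw [smul_add]; exact add_mem hp hp'
        rw [smul_smul, mul_comm]
        exact Submodule.smul_mem_smul (hJ (Ideal.mul_mem_mul hr (ha i))) trivial
      have := add_mem hxy h1
      rwa [sub_add_cancel] at this
    · push Not at hall
      obtain ⟨i₀, j₀, hij⟩ := hall
      obtain ⟨b, hb⟩ := (IsLocalRing.notMem_maximalIdeal.mp hij).exists_right_inv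
      have h0 := hB j₀
      rw [Fintype.sum_sum_type] at h0
      simp only [Sum.elim_inl, Sum.elim_inr] at h0
      rw [Fin.sum_univ_succAbove _ i₀] at h0
      let e := -(b * ∑ j, -c j * B (Sum.inr j) j₀)
      have he : e ∈ J1 := neg_mem (J1.mul_mem_left _ (sum_mem fun j _ => J1.mul_mem_right _ (neg_mem (hc j))))
      have ha0 : a i₀ = e - ∑ i, (b * B (Sum.inl (i₀.succAbove i)) j₀) * a (i₀.succAbove i) := by
        have : ∑ i, (b * B (Sum.inl (i₀.succAbove i)) j₀) * a (i₀.succAbove i) =
            b * ∑ i, a (i₀.succAbove i) * B (Sum.inl (i₀.succAbove i)) j₀ := by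
          rw [Finset.mul_sum]
          exact Finset.sum_congr rfl fun i _ => by ring
        rw [this]
        linear_combination b * h0 - a i₀ * hb
      refine ih (fun i => a (i₀.succAbove i))
        (fun i => y (i₀.succAbove i) - (b * B (Sum.inl (i₀.succAbove i)) j₀) • y i₀) (fun i => ha _) ?_
      have h2 : e • y i₀ ∈ (J1 • ⊤ : Submodule R N) := Submodule.smul_mem_smul he trivial
      have h3 := add_mem hxy h2
      convert h3 using 1
      rw [Fin.sum_univ_succAbove (fun i => a i • y i) i₀, ha0, sub_smul, Finset.sum_smul]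
      simp only [smul_sub, smul_smul, Finset.sum_sub_distrib, mul_comm (a _)]
      abel

include S in
theorem mem_smul_of_map_mem (u : N →ₗ[R] M)
    (hkey : ∀ y, u y ∈ (IsLocalRing.maximalIdeal R • ⊤ : Submodule R M) → y ∈ (IsLocalRing.maximalIdeal R • ⊤ : Submodule R N))
    (K : Ideal R) (x : N) (hx : u x ∈ (K • ⊤ : Submodule R M)) : x ∈ (K • ⊤ : Submodule R N) := by
  let m := IsLocalRing.maximalIdeal R
  have hall : ∀ n, x ∈ ((m ^ n ⊔ K) • ⊤ : Submodule R N) := fun n => by
    induction n with
    | zero => rw [pow_zero, Ideal.one_eq_top, top_sup_eq, Submodule.top_smul]; trivial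
    | succ n ih =>
      refine step u hkey _ _ ?_ x ih (Submodule.smul_mono le_sup_right le_rfl hx)
      rw [Ideal.mul_sup, ← pow_succ']
      exact sup_le_sup le_rfl Ideal.mul_le_right
  let P : Submodule S N := K.map (algebraMap R S) • ⊤
  have hP : x ∈ P := by
    have h0 : P.mkQ x ∈ (⨅ i : ℕ, (m.map (algebraMap R S)) ^ i • ⊤ : Submodule S (N ⧸ P)) := by
      rw [Submodule.mem_iInf]
      intro n
      have h1 : x ∈ ((m ^ n ⊔ K).map (algebraMap R S) • (⊤ : Submodule S N)).restrictScalars R := by
        rw [Ideal.smul_restrictScalars, Submodule.restrictScalars_top]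
        exact hall n
      rw [Submodule.restrictScalars_mem, Ideal.map_sup, Submodule.sup_smul] at h1
      obtain ⟨p, hp, p', hp', hpp⟩ := Submodule.mem_sup.mp h1
      rw [← hpp, map_add, show P.mkQ p' = 0 from (Submodule.Quotient.mk_eq_zero _).mpr hp', add_zero, ← Ideal.map_pow]
      exact Submodule.smul_mono le_rfl le_top ((Submodule.map_smul'' _ ⊤ P.mkQ).le (Submodule.mem_map_of_mem hp))
    rw [Ideal.iInf_pow_smul_eq_bot_of_le_jacobson (M := N ⧸ P) _ (by
      rw [IsLocalRing.jacobson_eq_maximalIdeal _ bot_ne_top]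
      exact ((IsLocalRing.local_hom_TFAE (algebraMap R S)).out 0 2).mp ‹_›), Submodule.mem_bot, Submodule.mkQ_apply,
      Submodule.Quotient.mk_eq_zero] at h0
    exact h0
  have h1 : x ∈ P.restrictScalars R := hP
  rwa [Ideal.smul_restrictScalars, Submodule.restrictScalars_top] at h1

end helper

open TensorProduct in
/-- For a local homomorphism of local rings R → S with S Noetherian, an R-linear map u from a finite
S-module N to a flat R-module M whose reduction modulo the maximal ideal of R is injective is itself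
injective, and its cokernel is flat over R. -/
theorem result {R S M N : Type u} [CommRing R] [CommRing S] [IsLocalRing R] [IsLocalRing S] [IsNoetherianRing S] [Algebra R S] [IsLocalHom (algebraMap R S)]
    [AddCommGroup M] [Module R M] [Module.Flat R M]
    [AddCommGroup N] [Module R N] [Module S N] [IsScalarTower R S N] [Module.Finite S N]
    (u : N →ₗ[R] M) (h : Function.Injective (LinearMap.lTensor (IsLocalRing.ResidueField R) u)) :
    Function.Injective u ∧ Module.Flat R (M ⧸ LinearMap.range u) := by
  let m := IsLocalRing.maximalIdeal R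
  have hkey : ∀ y, u y ∈ (m • ⊤ : Submodule R M) → y ∈ (m • ⊤ : Submodule R N) := fun y hy => by
    have h0 : (1 : IsLocalRing.ResidueField R) ⊗ₜ[R] u y = 0 := by
      refine Submodule.smul_induction_on (p := fun w => (1 : IsLocalRing.ResidueField R) ⊗ₜ[R] w = 0) hy
        (fun a ha w _ => ?_) fun a b ha hb => by rw [TensorProduct.tmul_add, ha, hb, add_zero]
      rw [TensorProduct.tmul_smul, ← algebraMap_smul (IsLocalRing.ResidueField R),
        show algebraMap R (IsLocalRing.ResidueField R) a = 0 from (IsLocalRing.residue_eq_zero_iff a).mpr ha, zero_smul]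
    have h1 : (1 : IsLocalRing.ResidueField R) ⊗ₜ[R] y = 0 := h (by rw [map_zero, LinearMap.lTensor_tmul, h0])
    have h2 := PP16Lib.mem_smul_of_one_tmul_eq_zero (C := IsLocalRing.ResidueField R) IsLocalRing.residue_surjective h1
    rwa [show RingHom.ker (algebraMap R (IsLocalRing.ResidueField R)) = m from IsLocalRing.ker_residue] at h2
  have hK : ∀ (K : Ideal R) x, u x ∈ (K • ⊤ : Submodule R M) → x ∈ (K • ⊤ : Submodule R N) := fun K x hx =>
    mem_smul_of_map_mem (S := S) u hkey K x hx
  refine ⟨(injective_iff_map_eq_zero u).mpr fun x hx => ?_, ?_⟩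
  · have := hK ⊥ x (by rw [hx]; exact zero_mem _)
    simpa using this
  rw [Module.Flat.iff_lTensor_injective']
  intro K
  let q := (LinearMap.range u).mkQ
  refine (injective_iff_map_eq_zero _).mpr fun z hz => ?_
  obtain ⟨w, rfl⟩ := LinearMap.rTensor_surjective K (Submodule.mkQ_surjective (LinearMap.range u)) z
  have h1 : q (TensorProduct.rid R M (K.subtype.lTensor M w)) = 0 := by
    have h2 := congrArg (TensorProduct.rid R (M ⧸ LinearMap.range u)) hz
    rw [map_zero] at h2
    rw [← h2]
    clear hz h2
    induction w using TensorProduct.induction_on with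
    | zero => simp
    | add a b ha hb => simp only [map_add, ha, hb]
    | tmul v k => simp [q]
  obtain ⟨x, hx⟩ := (Submodule.Quotient.mk_eq_zero _).mp h1
  have hxK : x ∈ (K • ⊤ : Submodule R N) := hK K x (by
    rw [hx]
    clear hz h1 hx
    induction w using TensorProduct.induction_on with
    | zero => simp
    | add a b ha hb => simp only [map_add]; exact add_mem ha hb
    | tmul v k => simp only [LinearMap.lTensor_tmul, TensorProduct.rid_tmul]; exact Submodule.smul_mem_smul k.2 trivial)
  obtain ⟨w', hw'⟩ : ∃ w' : N ⊗[R] K, TensorProduct.rid R N (K.subtype.lTensor N w') = x := by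
    refine Submodule.smul_induction_on hxK (fun a ha v _ => ⟨v ⊗ₜ ⟨a, ha⟩, by simp⟩) ?_
    rintro a b ⟨wa, ha⟩ ⟨wb, hb⟩
    exact ⟨wa + wb, by simp only [map_add, ha, hb]⟩
  have hww : w = u.rTensor K w' := by
    refine Module.Flat.lTensor_preserves_injective_linearMap (M := M) K.subtype Subtype.val_injective
      ((TensorProduct.rid R M).injective ?_)
    rw [← hx, ← hw']
    clear hw'
    induction w' using TensorProduct.induction_on with
    | zero => simp
    | add a b ha hb => simp only [map_add, ha, hb]
    | tmul v k => simp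
  rw [hww, ← LinearMap.rTensor_comp_apply, show q.comp u = 0 from LinearMap.range_mkQ_comp u, LinearMap.rTensor_zero,
    LinearMap.zero_apply]

end Groth.Agent.S0393
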