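import Groth.Statements.S0395
import Groth.Agent.S0393
import Mathlib.RingTheory.LocalRing.ResidueField.Basic

set_option autoImplicit false
universe u
open FlatMor

namespace Groth.Agent.S0395

open TensorProduct nonZeroDivisors in
/-- For a flat local homomorphism R → S of Noetherian local rings and an element f of S that is regular
on the fibre ring S/mS, the quotient of S by f is again R-flat and f is regular on S. -/
theorem result {R S : Type u} [CommRing R] [CommRing S] [IsLocalRing R] [IsLocalRing S] [IsNoetherianRing R] [IsNoetherianRing S] [Algebra R S] [IsLocalHom (algebraMap R S)] [Module.Flat R S]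
    (f : S) (hf : Ideal.Quotient.mk ((IsLocalRing.maximalIdeal R).map (algebraMap R S)) f ∈ nonZeroDivisors (S ⧸ ((IsLocalRing.maximalIdeal R).map (algebraMap R S)))) :
    Module.Flat R (S ⧸ Ideal.span {f}) ∧ f ∈ nonZeroDivisors S := by
  let u : S →ₗ[R] S := LinearMap.mulLeft R f
  have hinj : Function.Injective (u.lTensor (IsLocalRing.ResidueField R)) := by
    refine (injective_iff_map_eq_zero _).mpr fun z hz => ?_
    obtain ⟨s, rfl⟩ := TensorProduct.mk_surjective R S (IsLocalRing.ResidueField R) IsLocalRing.residue_surjective z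
    let mS := (IsLocalRing.maximalIdeal R).map (algebraMap R S)
    let q : IsLocalRing.ResidueField R →ₗ[R] S ⧸ mS :=
      Submodule.liftQ (IsLocalRing.maximalIdeal R) (Algebra.linearMap R (S ⧸ mS)) fun a ha => by
        rw [LinearMap.mem_ker]
        exact Ideal.Quotient.eq_zero_iff_mem.mpr (Ideal.mem_map_of_mem (algebraMap R S) ha)
    let Φ : IsLocalRing.ResidueField R ⊗[R] S →ₗ[R] S ⧸ mS :=
      TensorProduct.lift ((LinearMap.mul R (S ⧸ mS)).compl₁₂ q (Ideal.Quotient.mkₐ R mS).toLinearMap)
    have hΦ : ∀ t, Φ ((1 : IsLocalRing.ResidueField R) ⊗ₜ[R] t) = Ideal.Quotient.mk mS t := fun t => by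
      show q (Submodule.Quotient.mk 1) * Ideal.Quotient.mk mS t = _
      show algebraMap R (S ⧸ mS) 1 * _ = _
      rw [map_one, one_mul]
    have h1 : Ideal.Quotient.mk mS (f * s) = 0 := by
      rw [← hΦ]
      show Φ ((1 : IsLocalRing.ResidueField R) ⊗ₜ[R] u s) = 0
      rw [← LinearMap.lTensor_tmul]
      exact (congrArg Φ hz).trans (map_zero Φ)
    rw [map_mul] at h1
    have h2 : s ∈ mS := by
      rw [← Ideal.Quotient.eq_zero_iff_mem]
      exact hf.1 _ h1
    show (1 : IsLocalRing.ResidueField R) ⊗ₜ[R] s = 0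
    refine Submodule.span_induction (p := fun s _ => ∀ t : S, (1 : IsLocalRing.ResidueField R) ⊗ₜ[R] (t * s) = 0) ?_ ?_ ?_ ?_ h2 1
      |> (one_mul s ▸ ·)
    · rintro _ ⟨a, ha, rfl⟩ t
      rw [mul_comm, ← Algebra.smul_def, TensorProduct.tmul_smul, ← algebraMap_smul (IsLocalRing.ResidueField R),
        show algebraMap R (IsLocalRing.ResidueField R) a = 0 from (IsLocalRing.residue_eq_zero_iff a).mpr ha, zero_smul]
    · intro t; simp
    · intro a b _ _ ha hb t; rw [mul_add, TensorProduct.tmul_add, ha, hb, add_zero]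
    · intro c a _ ha t; rw [smul_eq_mul, ← mul_assoc]; exact ha _
  obtain ⟨h1, h2⟩ := S0393.result (R := R) (S := S) u hinj
  refine ⟨?_, ?_⟩
  · haveI := h2
    refine Module.Flat.of_linearEquiv ((Submodule.quotEquivOfEq (LinearMap.range u)
      ((Ideal.span {f} : Ideal S).restrictScalars R) ?_).trans
      (Submodule.Quotient.restrictScalarsEquiv R (Ideal.span {f}))).symm
    ext x
    rw [Submodule.restrictScalars_mem, Ideal.mem_span_singleton']
    exact ⟨fun ⟨y, hy⟩ => ⟨y, by rw [← hy]; exact mul_comm _ _⟩, fun ⟨y, hy⟩ => ⟨y, by rw [← hy]; exact mul_comm _ _⟩⟩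
  · exact mem_nonZeroDivisors_iff_left.mpr fun x hx => h1 (by
      show f * x = f * 0
      rw [mul_zero]
      exact hx)

end Groth.Agent.S0395
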