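import Groth.Statements.S0396
import Groth.Agent.MLMod.NilFlat
import Mathlib

set_option autoImplicit false
universe u
open FlatMor

namespace Groth.Agent.S0396

open TensorProduct in
/-- For a map of Noetherian rings R → S, an ideal I of R and a finite S-module M such that M/IⁿM is flat
over R/Iⁿ for every n ≥ 1, the localization of M at any prime of S containing IS is flat over R. -/
theorem result {R S M : Type u} [CommRing R] [CommRing S] [IsNoetherianRing R] [IsNoetherianRing S] [Algebra R S]
    [AddCommGroup M] [Module R M] [Module S M] [IsScalarTower R S M] [Module.Finite S M] (I : Ideal R)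
    (h : ∀ n : ℕ, 0 < n → Module.Flat (R ⧸ I ^ n) ((R ⧸ I ^ n) ⊗[R] M))
    (q : Ideal S) [q.IsPrime] (hq : I.map (algebraMap R S) ≤ q) :
    Module.Flat R (LocalizedModule q.primeCompl M) := by
  rw [Module.Flat.iff_lTensor_injective']
  intro J
  haveI : Module.Finite S (M ⊗[R] J) := by
    obtain ⟨t, ht⟩ := (Module.Finite.fg_top : (⊤ : Submodule R J).FG)
    obtain ⟨s, hs⟩ := (Module.Finite.fg_top : (⊤ : Submodule S M).FG)
    classical
    refine ⟨⟨(s ×ˢ t).image fun p => p.1 ⊗ₜ p.2, top_le_iff.mp fun z hz => ?_⟩⟩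
    clear hz
    let G : Submodule S (M ⊗[R] J) := Submodule.span S ((s ×ˢ t).image fun p => p.1 ⊗ₜ[R] p.2)
    show z ∈ G
    induction z with
    | zero => exact zero_mem _
    | add a b ha hb => exact add_mem ha hb
    | tmul m j =>
      have hm : m ∈ Submodule.span S (s : Set M) := by rw [hs]; trivial
      induction hm using Submodule.span_induction with
      | zero => rw [zero_tmul]; exact zero_mem _
      | add a b _ _ ha hb => rw [add_tmul]; exact add_mem ha hb
      | smul c a _ ha => rw [← smul_tmul']; exact G.smul_mem c ha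
      | mem m hm =>
        have hj : j ∈ Submodule.span R (t : Set J) := by rw [ht]; trivial
        induction hj using Submodule.span_induction with
        | zero => rw [tmul_zero]; exact zero_mem _
        | add a b _ _ ha hb => rw [tmul_add]; exact add_mem ha hb
        | smul c a _ ha => rw [tmul_smul]; exact G.smul_of_tower_mem c ha
        | mem j hj =>
          exact Submodule.subset_span (Finset.mem_coe.mpr (Finset.mem_image.mpr ⟨(m, j), Finset.mem_product.mpr ⟨hm, hj⟩, rfl⟩))
  obtain ⟨k, hk⟩ := I.exists_pow_inf_eq_pow_smul (M := R) J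
  have key : ∀ w : M ⊗[R] J, J.subtype.lTensor M w = 0 →
      ∀ n, w ∈ (I.map (algebraMap R S) ^ n • ⊤ : Submodule S (M ⊗[R] J)) := by
    intro w hw n
    haveI : Module.Flat (R ⧸ I ^ (n + k + 1)) ((R ⧸ I ^ (n + k + 1)) ⊗[R] M) := h _ (by omega)
    let φ : J →ₗ[R] R ⧸ I ^ (n + k + 1) := (Submodule.mkQ (I ^ (n + k + 1))).comp J.subtype
    let L : Submodule (R ⧸ I ^ (n + k + 1)) (R ⧸ I ^ (n + k + 1)) := J.map (Ideal.Quotient.mk (I ^ (n + k + 1)))
    let ψ : J →ₗ[R] L :=
      { toFun := fun j => ⟨φ j, Ideal.mem_map_of_mem _ j.2⟩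
        map_add' := fun a b => Subtype.ext (φ.map_add a b)
        map_smul' := fun a b => Subtype.ext (φ.map_smul a b) }
    have hψ : Function.Surjective ψ := fun ⟨l, hl⟩ => by
      obtain ⟨j, hj, rfl⟩ := (Ideal.mem_map_iff_of_surjective _ Ideal.Quotient.mk_surjective).mp hl
      exact ⟨⟨j, hj⟩, Subtype.ext rfl⟩
    have hinj := MLMod.rTensor_injective_of_flat_quotient (M := M) (I ^ (n + k + 1)) L.subtype Subtype.val_injective
    have hzero : ψ.rTensor M (TensorProduct.comm R M J w) = 0 := by
      refine hinj ?_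
      rw [map_zero, ← LinearMap.rTensor_comp_apply]
      have h2 : (L.subtype.restrictScalars R).comp ψ = (Submodule.mkQ (I ^ (n + k + 1))).comp J.subtype := rfl
      rw [h2, LinearMap.rTensor_comp_apply]
      have h3 : J.subtype.rTensor M (TensorProduct.comm R M J w) = TensorProduct.comm R M R (J.subtype.lTensor M w) :=
        (TensorProduct.map_comm J.subtype LinearMap.id w)
      rw [h3, hw, map_zero, map_zero]
    obtain ⟨y, hy⟩ := (rTensor_exact M (LinearMap.exact_subtype_ker_map ψ) hψ _).mp hzero
    suffices ∀ z : LinearMap.ker ψ ⊗[R] M, (TensorProduct.comm R M J).symm ((LinearMap.ker ψ).subtype.rTensor M z) ∈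
        (I.map (algebraMap R S) ^ n • ⊤ : Submodule S (M ⊗[R] J)) by
      have h := this y
      rwa [hy, LinearEquiv.symm_apply_apply] at h
    intro z
    induction z with
    | zero => simp
    | add a b ha hb => rw [map_add, map_add]; exact add_mem ha hb
    | tmul j m =>
      show m ⊗ₜ[R] (j : J) ∈ _
      have hj : ((j : J) : R) ∈ (I ^ (n + k + 1) • ⊤ ⊓ J : Submodule R R) := by
        refine ⟨?_, (j : J).2⟩
        have h0 := congrArg Subtype.val (LinearMap.mem_ker.mp j.2)
        rw [smul_eq_mul, Ideal.mul_top]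
        exact Ideal.Quotient.eq_zero_iff_mem.mp h0
      rw [hk (n + k + 1) (by omega)] at hj
      have hj' : (j : J) ∈ (I ^ n • ⊤ : Submodule R J) := by
        have h1 : ((j : J) : R) ∈ (I ^ n • ⊤ : Submodule R J).map J.subtype := by
          rw [Submodule.map_smul'', Submodule.map_top, Submodule.range_subtype]
          exact Submodule.smul_mono (Ideal.pow_le_pow_right (by omega)) inf_le_right hj
        obtain ⟨j', hj', he⟩ := h1
        rwa [← Subtype.ext he]
      generalize (j : J) = j₀ at hj' ⊢
      induction hj' using Submodule.smul_induction_on' with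
      | smul r hr a _ =>
        rw [tmul_smul, smul_tmul', ← algebraMap_smul S r m, ← smul_tmul']
        refine Submodule.smul_mem_smul ?_ trivial
        rw [← Ideal.map_pow]
        exact Ideal.mem_map_of_mem _ hr
      | add a _ b _ ha hb => rw [tmul_add]; exact add_mem ha hb
  let Mq := LocalizedModule q.primeCompl M
  let F : M →ₗ[S] Mq := LocalizedModule.mkLinearMap q.primeCompl M
  let G : M ⊗[R] J →ₗ[S] Mq ⊗[R] J := AlgebraTensorModule.map F (LinearMap.id : J →ₗ[R] J)
  let Φ : M ⊗[R] J →ₗ[S] M :=
    (AlgebraTensorModule.rid R S M).toLinearMap.comp (AlgebraTensorModule.map LinearMap.id J.subtype)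
  let Φq : Mq ⊗[R] J →ₗ[S] Mq :=
    (AlgebraTensorModule.rid R S Mq).toLinearMap.comp (AlgebraTensorModule.map LinearMap.id J.subtype)
  have hnat : ∀ w, Φq (G w) = F (Φ w) := by
    intro w
    induction w using TensorProduct.induction_on with
    | zero => simp
    | add a b ha hb => simp only [map_add, ha, hb]
    | tmul m j => simp [Φ, Φq, G, F.map_smul_of_tower]
  have hG : ∀ z : Mq ⊗[R] J, ∃ s : q.primeCompl, ∃ w, (s : S) • z = G w := by
    intro z
    induction z using TensorProduct.induction_on with
    | zero => exact ⟨1, 0, by simp⟩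
    | add a b ha hb =>
      obtain ⟨s, w, hw⟩ := ha
      obtain ⟨t, v, hv⟩ := hb
      refine ⟨s * t, (t : S) • w + (s : S) • v, ?_⟩
      rw [map_add, map_smul, map_smul, ← hw, ← hv, smul_add, Submonoid.coe_mul, smul_smul, smul_smul,
        mul_comm (t : S)]
    | tmul m j =>
      induction m using LocalizedModule.induction_on with
      | h v s =>
        refine ⟨s, v ⊗ₜ j, ?_⟩
        rw [smul_tmul', LocalizedModule.smul'_mk, ← Submonoid.smul_def, LocalizedModule.mk_cancel]
        rfl
  refine (injective_iff_map_eq_zero _).mpr fun x hx => ?_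
  obtain ⟨s, w, hw⟩ := hG x
  have hx' : Φq x = 0 := by
    show AlgebraTensorModule.rid R S Mq (J.subtype.lTensor Mq x) = 0
    rw [hx, map_zero]
  have h1 : F (Φ w) = 0 := by rw [← hnat, ← hw, map_smul, hx', smul_zero]
  obtain ⟨t, ht⟩ := (IsLocalizedModule.eq_zero_iff q.primeCompl F).mp h1
  have h2 : J.subtype.lTensor M ((t : S) • w) = 0 := by
    refine (AlgebraTensorModule.rid R S M).injective ?_
    rw [map_zero]
    show Φ ((t : S) • w) = 0
    rw [map_smul]
    exact ht
  obtain ⟨r, hr⟩ := ((I.map (algebraMap R S)).mem_iInf_smul_pow_eq_bot_iff ((t : S) • w)).mp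
    (by rw [Submodule.mem_iInf]; exact key _ h2)
  have hne : (1 - (r : S)) * ((t : S) * (s : S)) ∈ q.primeCompl := by
    refine q.primeCompl.mul_mem (fun hmem => ?_) (q.primeCompl.mul_mem t.2 s.2)
    exact (Ideal.IsPrime.ne_top ‹_›) ((Ideal.eq_top_iff_one q).mpr (by
      have := q.add_mem hmem (hq r.2)
      rwa [sub_add_cancel] at this))
  have h3 : ((1 - (r : S)) * ((t : S) * (s : S))) • x = 0 := by
    rw [mul_smul, mul_smul, hw, ← map_smul G, ← map_smul G, sub_smul, one_smul, hr, sub_self, map_zero]
  have hu : Function.Injective fun z : Mq ⊗[R] J => ((1 - (r : S)) * ((t : S) * (s : S))) • z := by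
    let e : Mq →ₗ[S] Mq := LinearMap.lsmul S Mq ((1 - (r : S)) * ((t : S) * (s : S)))
    have he : Function.Bijective e := by
      have := IsLocalizedModule.map_units F ⟨_, hne⟩
      rw [Module.End.isUnit_iff] at this
      exact this
    let E : Mq ⊗[R] J ≃ₗ[R] Mq ⊗[R] J :=
      TensorProduct.congr ((LinearEquiv.ofBijective e he).restrictScalars R) (LinearEquiv.refl R J)
    have hE : ∀ z, E z = ((1 - (r : S)) * ((t : S) * (s : S))) • z := by
      intro z
      induction z using TensorProduct.induction_on with
      | zero => simp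
      | add a b ha hb => simp only [map_add, ha, hb, smul_add]
      | tmul m j => rfl
    intro a b hab
    exact E.injective (by rw [hE, hE]; exact hab)
  exact hu (by simpa using h3)

end Groth.Agent.S0396
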