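import Groth.Statements.S0397
import Mathlib.RingTheory.LocalRing.Module
import Mathlib.RingTheory.Noetherian.Basic
import Mathlib.RingTheory.LocalRing.ResidueField.Basic
import Mathlib.Order.CompactlyGenerated.Basic

set_option autoImplicit false
universe u
open FlatMor

namespace Groth.Agent.S0397

/-- Over a local ring whose maximal ideal is nilpotent, every flat module (not necessarily finitely
generated) is free. -/
theorem result {R M : Type u} [CommRing R] [IsLocalRing R] (hR : IsNilpotent (IsLocalRing.maximalIdeal R))
    [AddCommGroup M] [Module R M] [Module.Flat R M] : Module.Free R M := by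
  classical
  let k := IsLocalRing.ResidueField R
  let b := Module.Free.chooseBasis k (TensorProduct R k M)
  have hsurj : Function.Surjective (TensorProduct.mk R k M 1) :=
    TensorProduct.mk_surjective R M k IsLocalRing.residue_surjective
  choose v hv using fun i => hsurj (b i)
  have hli : LinearIndependent R v := Module.IsLocalRing.linearIndependent_of_flat v (by
    rw [show (TensorProduct.mk R k M 1 ∘ v) = b from funext hv]
    exact b.linearIndependent)
  set P := Submodule.span R (Set.range v) with hP
  have h1 : (⊤ : Submodule R M) ≤ P ⊔ IsLocalRing.maximalIdeal R • ⊤ := by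
    intro m _
    obtain ⟨c, hc⟩ := (Finsupp.mem_span_range_iff_exists_finsupp).1
      (b.span_eq ▸ Submodule.mem_top : TensorProduct.mk R k M 1 m ∈ Submodule.span k (Set.range b))
    choose r hr using fun i => IsLocalRing.residue_surjective (R := R) (c i)
    let p := c.sum fun i _ => r i • v i
    have hp : p ∈ P := Submodule.sum_mem _ fun i _ =>
      P.smul_mem _ (Submodule.subset_span ⟨i, rfl⟩)
    have hk : m - p ∈ LinearMap.ker (TensorProduct.mk R k M 1) := by
      rw [LinearMap.mem_ker, map_sub, sub_eq_zero, ← hc, map_finsuppSum]
      refine Finset.sum_congr rfl fun i _ => ?_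
      simp only [map_smul, hv, ← hr i, ← IsLocalRing.ResidueField.algebraMap_eq]
      rw [algebraMap_smul]
    replace hk : m - p ∈ LinearMap.ker (TensorProduct.mk R (R ⧸ IsLocalRing.maximalIdeal R) M 1) := hk
    rw [LinearMap.ker_tensorProductMk] at hk
    exact Submodule.mem_sup.2 ⟨p, hp, m - p, hk, add_sub_cancel _ _⟩
  have hn : ∀ n : ℕ, (⊤ : Submodule R M) ≤ P ⊔ IsLocalRing.maximalIdeal R ^ n • ⊤ := by
    intro n
    induction n with
    | zero => simp
    | succ n ih =>
      refine ih.trans (sup_le le_sup_left ?_)
      calc IsLocalRing.maximalIdeal R ^ n • (⊤ : Submodule R M)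
          ≤ IsLocalRing.maximalIdeal R ^ n • (P ⊔ IsLocalRing.maximalIdeal R • ⊤) :=
            Submodule.smul_mono le_rfl h1
        _ ≤ P ⊔ IsLocalRing.maximalIdeal R ^ (n + 1) • ⊤ := by
            rw [Submodule.smul_sup, ← Submodule.mul_smul, ← pow_succ]
            exact sup_le_sup_right Submodule.smul_le_right _
  obtain ⟨n, hn0⟩ := hR
  exact Module.Free.of_basis (Module.Basis.mk hli (by simpa [hn0] using hn n))

end Groth.Agent.S0397
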