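import Groth.Statements.S0398
import Mathlib.RingTheory.Flat.Localization
import Mathlib.RingTheory.Flat.EquationalCriterion
import Mathlib.RingTheory.Flat.Stability
import Mathlib.RingTheory.Artinian.Ring
import Mathlib.RingTheory.LocalRing.Module
import Mathlib.RingTheory.LocalRing.ResidueField.Basic

set_option autoImplicit false
universe u
open FlatMor

namespace Groth.Agent.S0398

open scoped TensorProduct

/-- For a submodule with flat quotient, `K ∩ J N ⊆ J K`. -/
theorem ker_inf_smul_top_le {S N Q : Type u} [CommRing S] [AddCommGroup N] [Module S N]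
    [AddCommGroup Q] [Module S Q] [Module.Flat S Q] (q : N →ₗ[S] Q) (hq : Function.Surjective q)
    (J : Ideal S) : LinearMap.ker q ⊓ J • ⊤ ≤ J • LinearMap.ker q := by
  rintro x ⟨hx, hxJ⟩
  have hx' : x ∈ J • Submodule.span S (Set.range (id : N → N)) := by
    rw [Set.range_id, Submodule.span_univ]; exact hxJ
  obtain ⟨a, ha, rfl⟩ := (Submodule.mem_ideal_smul_span_iff_exists_sum J (id : N → N) x).mp hx'
  have h0 : ∑ i : a.support, a i • q (i : N) = 0 := by
    rw [Finset.sum_coe_sort a.support fun i => a i • q i]
    simpa [Finsupp.sum, map_sum] using hx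
  obtain ⟨k, c, y, hy, hc⟩ := Module.Flat.isTrivialRelation_of_sum_smul_eq_zero h0
  choose Y hY using fun j => hq (y j)
  have hsum : (a.sum fun i c => c • id i) =
      ∑ i : a.support, a i • ((i : N) - ∑ j, c i j • Y j) := by
    simp only [smul_sub, Finset.sum_sub_distrib, Finset.smul_sum, smul_smul]
    rw [Finset.sum_comm (f := fun (i : a.support) j => (a i * c i j) • Y j)]
    simp only [← Finset.sum_smul, hc, zero_smul, Finset.sum_const_zero, sub_zero]
    exact (Finset.sum_coe_sort a.support fun i => a i • i).symm
  rw [hsum]
  refine Submodule.sum_mem _ fun i _ => Submodule.smul_mem_smul (ha _) ?_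
  simp [map_sum, hY, hy]

/-- A surjection from a flat module with kernel inside `I F`, `I` nilpotent, is injective as soon as
its target becomes flat after an injective base change. -/
theorem injective_of_flat_baseChange {R S M F : Type u} [CommRing R] [CommRing S] [Algebra R S]
    [AddCommGroup M] [Module R M] [Module.Flat S (S ⊗[R] M)]
    [AddCommGroup F] [Module R F] [Module.Flat R F]
    (hinj : Function.Injective (algebraMap R S)) {I : Ideal R} (hI : IsNilpotent I)
    (g : F →ₗ[R] M) (hgs : Function.Surjective g) (hker : LinearMap.ker g ≤ I • ⊤) :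
    Function.Injective g := by
  obtain ⟨n, hn⟩ := hI
  let gS := g.baseChange S
  have hgSs : Function.Surjective gS := LinearMap.lTensor_surjective S hgs
  set J : Ideal S := I.map (algebraMap R S)
  have hKle : LinearMap.ker gS ≤ J • ⊤ := by
    intro x hx
    obtain ⟨u, rfl⟩ := (lTensor_exact S g.exact_subtype_ker_map hgs x).mp hx
    clear hx
    induction u with
    | zero => simp
    | add p q hp hq => rw [map_add]; exact add_mem hp hq
    | tmul a c =>
      rw [LinearMap.lTensor_tmul, Submodule.subtype_apply]
      refine Submodule.smul_induction_on (hker c.2) (fun r hr f _ => ?_) (fun p q hp hq => ?_)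
      · rw [TensorProduct.tmul_smul, ← algebraMap_smul S r]
        exact Submodule.smul_mem_smul (Ideal.mem_map_of_mem _ hr) Submodule.mem_top
      · rw [TensorProduct.tmul_add]; exact add_mem hp hq
  have hK : ∀ j : ℕ, LinearMap.ker gS ≤ J ^ j • LinearMap.ker gS := by
    intro j
    induction j with
    | zero => simp
    | succ j ih =>
      refine ih.trans ?_
      rw [pow_succ, Submodule.mul_smul]
      exact Submodule.smul_mono le_rfl
        ((le_inf le_rfl hKle).trans (ker_inf_smul_top_le gS hgSs J))
  have hgSi : Function.Injective gS := by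
    rw [← LinearMap.ker_eq_bot, eq_bot_iff]
    refine (hK n).trans ?_
    rw [show J ^ n = ⊥ by rw [← Ideal.map_pow, hn]; exact Ideal.map_bot, Submodule.bot_smul]
  rw [injective_iff_map_eq_zero]
  intro c hc
  have h0 : (1 : S) ⊗ₜ[R] c = 0 := by
    apply hgSi
    rw [map_zero, LinearMap.baseChange_tmul, hc, TensorProduct.tmul_zero]
  have h2 : LinearMap.rTensor F (Algebra.linearMap R S) ((1 : R) ⊗ₜ[R] c) = 0 := by
    rw [LinearMap.rTensor_tmul, Algebra.linearMap_apply, map_one, h0]
  have h3 := congrArg (TensorProduct.lid R F)
    (Module.Flat.rTensor_preserves_injective_linearMap (M := F) (Algebra.linearMap R S) hinj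
      (h2.trans (map_zero _).symm))
  simpa using h3

theorem local_case {R S M : Type u} [CommRing R] [IsLocalRing R] [CommRing S] [Algebra R S]
    (hR : IsNilpotent (IsLocalRing.maximalIdeal R)) (hinj : Function.Injective (algebraMap R S))
    [AddCommGroup M] [Module R M] [Module.Flat S (S ⊗[R] M)] : Module.Flat R M := by
  classical
  let k := IsLocalRing.ResidueField R
  let b := Module.Free.chooseBasis k (k ⊗[R] M)
  have hsurj : Function.Surjective (TensorProduct.mk R k M 1) :=
    TensorProduct.mk_surjective R M k IsLocalRing.residue_surjective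
  choose v hv using fun i => hsurj (b i)
  set m := IsLocalRing.maximalIdeal R
  let g : (_ →₀ R) →ₗ[R] M := Finsupp.linearCombination R v
  obtain ⟨n, hn⟩ := hR
  -- `g` is surjective
  have h1 : (⊤ : Submodule R M) ≤ LinearMap.range g ⊔ m • ⊤ := by
    intro x _
    obtain ⟨c, hc⟩ := (Finsupp.mem_span_range_iff_exists_finsupp).1
      (b.span_eq ▸ Submodule.mem_top : TensorProduct.mk R k M 1 x ∈ Submodule.span k (Set.range b))
    choose r hr using fun i => IsLocalRing.residue_surjective (R := R) (c i)
    let p := c.sum fun i _ => r i • v i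
    have hp : p ∈ LinearMap.range g := Submodule.sum_mem _ fun i _ =>
      Submodule.smul_mem _ _ ⟨Finsupp.single i 1, by simp [g]⟩
    have hk : x - p ∈ LinearMap.ker (TensorProduct.mk R k M 1) := by
      rw [LinearMap.mem_ker, map_sub, sub_eq_zero, ← hc, map_finsuppSum]
      refine Finset.sum_congr rfl fun i _ => ?_
      simp only [map_smul, hv, ← hr i, ← IsLocalRing.ResidueField.algebraMap_eq]
      rw [algebraMap_smul]
    replace hk : x - p ∈ LinearMap.ker (TensorProduct.mk R (R ⧸ m) M 1) := hk
    rw [LinearMap.ker_tensorProductMk] at hk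
    exact Submodule.mem_sup.2 ⟨p, hp, x - p, hk, add_sub_cancel _ _⟩
  have hgs : Function.Surjective g := by
    have hn' : ∀ j : ℕ, (⊤ : Submodule R M) ≤ LinearMap.range g ⊔ m ^ j • ⊤ := by
      intro j
      induction j with
      | zero => simp
      | succ j ih =>
        refine ih.trans (sup_le le_sup_left ((Submodule.smul_mono le_rfl h1).trans ?_))
        rw [Submodule.smul_sup, ← Submodule.mul_smul, ← pow_succ]
        exact sup_le_sup_right Submodule.smul_le_right _
    rw [← LinearMap.range_eq_top, eq_top_iff]
    simpa [hn] using hn' n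
  -- coefficients of a relation lie in the maximal ideal
  have hcoef : ∀ c ∈ LinearMap.ker g, ∀ i, c i ∈ m := by
    intro c hc i
    have hc0 : (Finsupp.mapRange (IsLocalRing.residue R) (map_zero _) c) = 0 := by
      apply b.linearIndependent
      rw [map_zero, Finsupp.linearCombination_apply, Finsupp.sum_mapRange_index (by simp)]
      have := congrArg (TensorProduct.mk R k M 1) (LinearMap.mem_ker.mp hc)
      rw [map_zero] at this
      rw [← this]
      simp only [g, Finsupp.linearCombination_apply, map_finsuppSum, map_smul, hv]
      refine Finset.sum_congr rfl fun i _ => ?_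
      show IsLocalRing.residue R (c i) • b i = c i • b i
      rw [← IsLocalRing.ResidueField.algebraMap_eq, algebraMap_smul]
    exact (IsLocalRing.residue_eq_zero_iff _).mp (by simpa using DFunLike.congr_fun hc0 i)
  have hkerle : LinearMap.ker g ≤ m • ⊤ := fun c hc => by
    rw [← Finsupp.sum_single c, Finsupp.sum]
    refine Submodule.sum_mem _ fun i _ => ?_
    rw [← mul_one (c i), ← smul_eq_mul, ← Finsupp.smul_single]
    exact Submodule.smul_mem_smul (hcoef c hc i) Submodule.mem_top
  have hgi := injective_of_flat_baseChange (S := S) hinj ⟨n, hn⟩ g hgs hkerle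
  exact Module.Flat.of_linearEquiv (LinearEquiv.ofBijective g ⟨hgi, hgs⟩).symm

open TensorProduct in
/-- For an injective ring map R → S with R Artinian and an R-module M, if S ⊗ M is flat over S then M is
flat over R. -/
theorem result {R S M : Type u} [CommRing R] [CommRing S] [IsArtinianRing R] [Algebra R S] (hinj : Function.Injective (algebraMap R S))
    [AddCommGroup M] [Module R M] [Module.Flat S (S ⊗[R] M)] : Module.Flat R M := by
  refine Module.flat_of_isLocalized_maximal R M
    (fun P _ => Localization.AtPrime P ⊗[R] M)
    (fun P _ => TensorProduct.mk R (Localization.AtPrime P) M 1) fun P _ => ?_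
  let SP := Localization (Algebra.algebraMapSubmonoid S P.primeCompl)
  let _ : Algebra (Localization.AtPrime P) SP := localizationAlgebra P.primeCompl S
  have : IsScalarTower R (Localization.AtPrime P) SP :=
    isScalarTower_localizationAlgebra P.primeCompl S
  have : Module.Flat SP (SP ⊗[Localization.AtPrime P] (Localization.AtPrime P ⊗[R] M)) :=
    Module.Flat.of_linearEquiv ((AlgebraTensorModule.cancelBaseChange R (Localization.AtPrime P) SP SP M).trans
      (AlgebraTensorModule.cancelBaseChange R S SP SP M).symm)
  have : Module.Flat (Localization.AtPrime P) (Localization.AtPrime P ⊗[R] M) :=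
    local_case (IsLocalRing.jacobson_eq_maximalIdeal (⊥ : Ideal (Localization.AtPrime P)) bot_ne_top ▸
      IsArtinianRing.isNilpotent_jacobson_bot)
      (localizationAlgebra_injective (M := P.primeCompl) (Localization.AtPrime P) SP hinj)
  exact Module.Flat.trans R (Localization.AtPrime P) _

end Groth.Agent.S0398
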