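import Groth.Statements.S0399
import Groth.Agent.MLMod.NilFlat
import Mathlib

set_option autoImplicit false
universe u
open FlatMor

namespace Groth.Agent.S0399

open TensorProduct in
/-- For a ring A, a module M and an element f that is a nonzerodivisor on A and on M, if M_f is flat
over A_f and M/fM is flat over A/fA then M is flat over A (the source's companion statement for
faithful flatness is not stated). -/
theorem result {A M : Type u} [CommRing A] [AddCommGroup M] [Module A M] (f : A) (hA : f ∈ nonZeroDivisors A) (hM : IsSMulRegular M f)
    [Module.Flat (Localization.Away f) (LocalizedModule (Submonoid.powers f) M)]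
    [Module.Flat (A ⧸ Ideal.span {f}) ((A ⧸ Ideal.span {f}) ⊗[A] M)] : Module.Flat A M := by
  let F : M →ₗ[A] LocalizedModule (Submonoid.powers f) M := LocalizedModule.mkLinearMap (Submonoid.powers f) M
  haveI : Module.Flat A (Localization.Away f) := IsLocalization.flat _ (Submonoid.powers f)
  haveI : Module.Flat A (LocalizedModule (Submonoid.powers f) M) := Module.Flat.trans A (Localization.Away f) _
  let e : A →ₗ[A] (Ideal.span {f} : Ideal A) := LinearMap.toSpanSingleton A _ ⟨f, Ideal.mem_span_singleton_self f⟩
  have he : Function.Surjective e := fun ⟨a, ha⟩ => by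
    obtain ⟨b, rfl⟩ := Ideal.mem_span_singleton'.mp ha
    exact ⟨b, Subtype.ext rfl⟩
  have htor : Function.Injective ((Ideal.span {f} : Ideal A).subtype.rTensor M) := by
    refine (injective_iff_map_eq_zero _).mpr fun z hz => ?_
    obtain ⟨w, rfl⟩ := LinearMap.rTensor_surjective M he z
    obtain ⟨m, rfl⟩ := TensorProduct.mk_surjective A M A Function.surjective_id w
    have h1 := congrArg (TensorProduct.lid A M) hz
    simp [e] at h1
    have hm : m = 0 := hM (by simpa using h1)
    simp [hm]
  rw [Module.Flat.iff_lTensor_injective']
  intro I
  have hreg : ∀ n, ∀ z : M ⊗[A] I, f ^ n • z = 0 → z = 0 := by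
    have hinj1 : Function.Injective (LinearMap.lsmul A I f) := fun a b hab =>
      Subtype.ext ((mul_cancel_left_mem_nonZeroDivisors hA).mp (congrArg Subtype.val hab))
    have htz := MLMod.torZero_of_killed (M := M) (Ideal.span {f}) htor (I ⧸ LinearMap.range (LinearMap.lsmul A I f))
      (fun r hr x => by
        obtain ⟨x, rfl⟩ := Submodule.Quotient.mk_surjective _ x
        obtain ⟨b, rfl⟩ := Ideal.mem_span_singleton'.mp hr
        rw [← Submodule.Quotient.mk_smul, Submodule.Quotient.mk_eq_zero]
        exact ⟨b • x, by simp [smul_smul, mul_comm]⟩)
    have hinj := htz I I (LinearMap.lsmul A I f) (Submodule.mkQ _) hinj1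
      (LinearMap.exact_map_mkQ_range _) (Submodule.mkQ_surjective _)
    intro n
    induction n with
    | zero => intro z hz; simpa using hz
    | succ n ih =>
      intro z hz
      refine ih z ?_
      have h2 : ∀ w : I ⊗[A] M, (LinearMap.lsmul A I f).rTensor M w = f • w := by
        intro w
        induction w using TensorProduct.induction_on with
        | zero => simp
        | add a b ha hb => simp only [map_add, ha, hb, smul_add]
        | tmul a b => rfl
      apply (TensorProduct.comm A M I).injective
      rw [map_zero]
      apply hinj
      rw [map_zero, h2, ← map_smul, smul_smul, ← pow_succ', hz, map_zero]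
  refine (injective_iff_map_eq_zero _).mpr fun z hz => ?_
  let G := AlgebraTensorModule.rTensor A I F
  have h1 : G z = 0 := by
    refine Module.Flat.lTensor_preserves_injective_linearMap (M := LocalizedModule (Submonoid.powers f) M)
      I.subtype Subtype.val_injective ?_
    have h3 : ∀ w, I.subtype.lTensor (LocalizedModule (Submonoid.powers f) M) (G w) = F.rTensor A (I.subtype.lTensor M w) := by
      intro w
      induction w using TensorProduct.induction_on with
      | zero => simp
      | add a b ha hb => simp only [map_add, ha, hb]
      | tmul a b => rfl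
    rw [h3, hz, map_zero, map_zero]
  obtain ⟨⟨_, n, rfl⟩, hn⟩ := (IsLocalizedModule.eq_zero_iff (Submonoid.powers f) G).mp h1
  exact hreg n z hn

end Groth.Agent.S0399
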