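import Groth.Statements.S0411
import Mathlib.AlgebraicGeometry.ZariskisMainTheorem

set_option autoImplicit false
universe u
open FlatMor

namespace Groth.Agent.S0411

open AlgebraicGeometry CategoryTheory Limits in
/-- For a separated, locally quasi-finite morphism (locally of finite type with discrete fibres) to an
affine scheme, every finite set of points of the source lies in an affine open. -/
theorem result {X Y : Scheme.{u}} (f : X ⟶ Y) [IsAffine Y] [IsSeparated f] [LocallyQuasiFinite f] [LocallyOfFiniteType f] (T : Finset ↑X) :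
    ∃ U : X.Opens, IsAffineOpen U ∧ ∀ x ∈ T, x ∈ U := by
  classical
  have hcov : ∀ x : X, ∃ O : X.Opens, IsAffineOpen O ∧ x ∈ O := fun x => by
    obtain ⟨O, hO, hxO, -⟩ := exists_isAffineOpen_mem_and_subset (U := (⊤ : X.Opens)) (x := x) trivial
    exact ⟨O, hO, hxO⟩
  choose O hO hxO using hcov
  let W : X.Opens := T.sup O
  have hW : IsCompact (W : Set X) := by
    simp only [W, Finset.sup_eq_iSup, TopologicalSpace.Opens.coe_iSup]
    exact T.finite_toSet.isCompact_biUnion fun x _ => (hO x).isCompact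
  have hTW : ∀ x ∈ T, x ∈ W := fun x hx => (Finset.le_sup (f := O) hx) (hxO x)
  haveI : CompactSpace (W : Scheme.{u}) := isCompact_iff_compactSpace.mp hW
  let g := W.ι ≫ f
  haveI : QuasiCompact g := (quasiCompact_iff_compactSpace g).mpr inferInstance
  haveI : IsAffine g.normalization := isAffine_of_isAffineHom g.fromNormalization
  let j : (W : Scheme.{u}) ⟶ Spec Γ(g.normalization, ⊤) :=
    g.toNormalization ≫ g.normalization.isoSpec.hom
  -- prime avoidance in the affine scheme
  let s : Finset (Spec Γ(g.normalization, ⊤)) := T.attach.image fun x => j ⟨x.1, hTW _ x.2⟩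
  obtain ⟨I, hI⟩ := (PrimeSpectrum.isClosed_iff_zeroLocus_ideal _).mp j.opensRange.isOpen.isClosed_compl
  have hnot : ¬ (I : Set Γ(g.normalization, ⊤)) ⊆
      ⋃ p ∈ (s : Set (Spec Γ(g.normalization, ⊤))), (p.asIdeal : Set Γ(g.normalization, ⊤)) := by
    intro h
    obtain ⟨p₀, -⟩ := Set.mem_iUnion.mp (h I.zero_mem)
    obtain ⟨p, hp, hIp⟩ := (Ideal.subset_union_prime (s := s) (f := fun p => p.asIdeal) (I := I) p₀ p₀
      (fun p _ _ _ => p.isPrime)).mp h
    have hp' : p ∈ ((j.opensRange : Set _))ᶜ := hI.symm ▸ (show p ∈ PrimeSpectrum.zeroLocus (I : Set _) from hIp)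
    obtain ⟨x, -, rfl⟩ := Finset.mem_image.mp hp
    exact hp' (Set.mem_range_self _)
  obtain ⟨r, hrI, hr⟩ := Set.not_subset.mp hnot
  have hle : (PrimeSpectrum.basicOpen r : (Spec Γ(g.normalization, ⊤)).Opens) ≤ j.opensRange := by
    intro p hp
    by_contra h
    have : p ∈ PrimeSpectrum.zeroLocus (I : Set _) := hI ▸ h
    exact hp (this hrI)
  let D : (W : Scheme.{u}).Opens := j ⁻¹ᵁ PrimeSpectrum.basicOpen r
  have hD : IsAffineOpen D := by
    rw [← Scheme.Hom.isAffineOpen_iff_of_isOpenImmersion j]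
    have : j ''ᵁ D = PrimeSpectrum.basicOpen r := by
      rw [Scheme.Hom.image_preimage_eq_opensRange_inf]
      exact le_antisymm inf_le_right (le_inf hle le_rfl)
    rw [this]
    exact IsAffineOpen.Spec_basicOpen r
  refine ⟨W.ι ''ᵁ D, hD.image_of_isOpenImmersion W.ι, fun x hx => ⟨⟨x, hTW x hx⟩, ?_, rfl⟩⟩
  intro hmem
  exact hr (Set.mem_biUnion (Finset.mem_image.mpr ⟨⟨x, hx⟩, Finset.mem_attach _ _, rfl⟩) hmem)

end Groth.Agent.S0411
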