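import Groth.Statements.S0413
import Groth.Agent.EtSlice.Basic
import Groth.Agent.AlgSpLib.LocP
-- import your own Groth.Agent.* helpers here

set_option autoImplicit false
universe u
open FlatMor

namespace Groth.Agent.S0413

open AlgebraicGeometry CategoryTheory Limits in
/-- For a smooth morphism and a point that is closed in its fibre with separable residue field
extension, there is a locally closed subscheme through the point which is étale over the base and
meets the fibre only in that point. -/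
theorem result {X S : Scheme.{u}} (f : X ⟶ S) [Smooth f] (x : X)
    (hcl : IsClosed ({f.asFiber x} : Set ↑(f.fiber (f x))))
    (hsep : @Algebra.IsSeparable (S.residueField (f x)) (X.residueField x) _ _ (f.residueFieldMap x).hom.toAlgebra) :
    ∃ (Z : Scheme.{u}) (i : Z ⟶ X) (z : Z), IsImmersion i ∧ Etale (i ≫ f) ∧ i z = x ∧
      ∀ z' : ↑Z, f (i z') = f x → z' = z := by
  obtain ⟨_, ⟨U, hU, rfl⟩, hxU, -⟩ :=
    S.isBasis_affineOpens.exists_subset_of_mem_open (Set.mem_univ (f x)) isOpen_univ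
  obtain ⟨_, ⟨V, hV, rfl⟩, hxV, hVU⟩ :=
    X.isBasis_affineOpens.exists_subset_of_mem_open (show x ∈ f ⁻¹ᵁ U from hxU) (f ⁻¹ᵁ U).isOpen
  have e : V ≤ f ⁻¹ᵁ U := hVU
  have hsm : (f.appLE U V e).hom.Smooth := HasRingHomProperty.appLE @Smooth f ‹_› ⟨U, hU⟩ ⟨V, hV⟩ e
  algebraize [(f.appLE U V e).hom]
  haveI : Algebra.Smooth Γ(S, U) Γ(X, V) := hsm
  let P := hU.primeIdealOf ⟨f x, hxU⟩
  let Qx := hV.primeIdealOf ⟨x, hxV⟩
  haveI hlo : Qx.asIdeal.LiesOver P.asIdeal :=
    ⟨congr($(IsAffineOpen.comap_primeIdealOf_appLE (f := f) U hU V hV e hxV).1).symm⟩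
  letI := Localization.AtPrime.algebraOfLiesOver P.asIdeal Qx.asIdeal
  letI : Algebra Γ(S, U) (S.presheaf.stalk (f x)) := (S.presheaf.germ U (f x) hxU).hom.toAlgebra
  letI : Algebra Γ(X, V) (X.presheaf.stalk x) := (X.presheaf.germ V x hxV).hom.toAlgebra
  haveI : IsLocalization.AtPrime (S.presheaf.stalk (f x)) P.asIdeal := hU.isLocalization_stalk ⟨f x, hxU⟩
  haveI : IsLocalization.AtPrime (X.presheaf.stalk x) Qx.asIdeal := hV.isLocalization_stalk ⟨x, hxV⟩
  let eA : S.residueField (f x) ≃+* P.asIdeal.ResidueField :=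
    IsLocalRing.ResidueField.mapEquiv
      (IsLocalization.algEquiv P.asIdeal.primeCompl (S.presheaf.stalk (f x)) (Localization.AtPrime P.asIdeal)).toRingEquiv
  let eB : X.residueField x ≃+* Qx.asIdeal.ResidueField :=
    IsLocalRing.ResidueField.mapEquiv
      (IsLocalization.algEquiv Qx.asIdeal.primeCompl (X.presheaf.stalk x) (Localization.AtPrime Qx.asIdeal)).toRingEquiv
  letI := (f.residueFieldMap x).hom.toAlgebra
  have hsep' : Algebra.IsSeparable P.asIdeal.ResidueField Qx.asIdeal.ResidueField := by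
    haveI := hsep
    refine Algebra.IsSeparable.of_equiv_equiv eA eB ?_
    ext z
    obtain ⟨z, rfl⟩ := IsLocalRing.residue_surjective z
    have key : ∀ c : Γ(S, U), algebraMap P.asIdeal.ResidueField Qx.asIdeal.ResidueField
        (eA (IsLocalRing.residue _ (algebraMap Γ(S, U) (S.presheaf.stalk (f x)) c))) =
        eB ((f.residueFieldMap x).hom (IsLocalRing.residue _ (algebraMap Γ(S, U) (S.presheaf.stalk (f x)) c))) := by
      intro c
      have hc : (f.stalkMap x).hom (algebraMap Γ(S, U) (S.presheaf.stalk (f x)) c) =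
          algebraMap Γ(X, V) (X.presheaf.stalk x) (algebraMap Γ(S, U) Γ(X, V) c) := by
        show (f.stalkMap x).hom ((S.presheaf.germ U (f x) hxU).hom c) =
          (X.presheaf.germ V x hxV).hom ((f.appLE U V e).hom c)
        have h1 : f.appLE U V e ≫ X.presheaf.germ V x hxV = S.presheaf.germ U (f x) hxU ≫ f.stalkMap x := by
          rw [Scheme.Hom.germ_stalkMap, Scheme.Hom.appLE, Category.assoc, TopCat.Presheaf.germ_res]
        exact (congrArg (fun g => g.hom c) h1).symm
      show algebraMap P.asIdeal.ResidueField Qx.asIdeal.ResidueField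
        (IsLocalRing.residue _ ((IsLocalization.algEquiv P.asIdeal.primeCompl (S.presheaf.stalk (f x))
          (Localization.AtPrime P.asIdeal)) (algebraMap Γ(S, U) (S.presheaf.stalk (f x)) c))) =
        IsLocalRing.residue _ ((IsLocalization.algEquiv Qx.asIdeal.primeCompl (X.presheaf.stalk x)
          (Localization.AtPrime Qx.asIdeal)) ((f.stalkMap x).hom (algebraMap Γ(S, U) (S.presheaf.stalk (f x)) c)))
      rw [hc, AlgEquiv.commutes, AlgEquiv.commutes]
      show algebraMap P.asIdeal.ResidueField Qx.asIdeal.ResidueField (algebraMap Γ(S, U) P.asIdeal.ResidueField c) =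
        algebraMap Γ(X, V) Qx.asIdeal.ResidueField (algebraMap Γ(S, U) Γ(X, V) c)
      rw [← IsScalarTower.algebraMap_apply, ← IsScalarTower.algebraMap_apply]
    let F₁ : S.presheaf.stalk (f x) →+* Qx.asIdeal.ResidueField :=
      (algebraMap P.asIdeal.ResidueField Qx.asIdeal.ResidueField).comp
        (eA.toRingHom.comp (IsLocalRing.residue (S.presheaf.stalk (f x))))
    let F₂ : S.presheaf.stalk (f x) →+* Qx.asIdeal.ResidueField :=
      eB.toRingHom.comp ((f.residueFieldMap x).hom.comp (IsLocalRing.residue (S.presheaf.stalk (f x))))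
    have hF : F₁ = F₂ := IsLocalization.ringHom_ext P.asIdeal.primeCompl (RingHom.ext key)
    exact RingHom.congr_fun hF z
  obtain ⟨g, hg, C, _, _, φ, hφ, het, Q, hQ, hQq⟩ :=
    Groth.Agent.EtSlice.exists_etale_slice Γ(S, U) Γ(X, V) P.asIdeal Qx.asIdeal
  let α : CommRingCat.of (Localization.Away g) ⟶ CommRingCat.of C := CommRingCat.ofHom φ.toRingHom
  let β : Γ(X, V) ⟶ CommRingCat.of (Localization.Away g) :=
    CommRingCat.ofHom (algebraMap Γ(X, V) (Localization.Away g))
  haveI : IsClosedImmersion (Spec.map α) := IsClosedImmersion.spec_of_surjective _ hφ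
  haveI : IsOpenImmersion (Spec.map β) := IsOpenImmersion.of_isLocalization g
  haveI : IsOpenImmersion hV.fromSpec := hV.isOpenImmersion_fromSpec
  let i₀ : Spec (CommRingCat.of C) ⟶ X := (Spec.map α ≫ Spec.map β) ≫ hV.fromSpec
  haveI : IsImmersion i₀ := inferInstance
  have hcomp : i₀ ≫ f = Spec.map (CommRingCat.ofHom (algebraMap Γ(S, U) C)) ≫ hU.fromSpec := by
    simp only [i₀, Category.assoc]
    rw [← IsAffineOpen.SpecMap_appLE_fromSpec f hU hV e, ← Spec.map_comp_assoc, ← Spec.map_comp_assoc]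
    congr 2
    refine CommRingCat.hom_ext (RingHom.ext fun c => ?_)
    show φ (algebraMap Γ(X, V) (Localization.Away g) (algebraMap Γ(S, U) Γ(X, V) c)) = _
    rw [← IsScalarTower.algebraMap_apply, φ.commutes]
    rfl
  haveI : IsOpenImmersion hU.fromSpec := hU.isOpenImmersion_fromSpec
  haveI : Etale (i₀ ≫ f) := by
    rw [hcomp]
    haveI : Etale (Spec.map (CommRingCat.ofHom (algebraMap Γ(S, U) C))) :=
      (HasRingHomProperty.Spec_iff (P := @Etale)).2 (RingHom.etale_algebraMap.2 het)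
    infer_instance
  let z₀ : ↥(Spec (CommRingCat.of C)) := (⟨Q, hQ⟩ : PrimeSpectrum C)
  have hz₀ : i₀ z₀ = x := by
    have h1 : i₀ z₀ = hV.fromSpec Qx := by
      show hV.fromSpec _ = _
      exact congrArg hV.fromSpec (PrimeSpectrum.ext hQq)
    exact h1.trans (hV.fromSpec_primeIdealOf ⟨x, hxV⟩)
  haveI : LocallyQuasiFinite (i₀ ≫ f) := Groth.Agent.AlgSpLib.locallyQuasiFinite_of_formallyUnramified _
  have hdisc : _root_.IsDiscrete ((i₀ ≫ f) ⁻¹' {f x}) := (i₀ ≫ f).isDiscrete_preimage (Set.subsingleton_singleton.isDiscrete)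
  obtain ⟨O, hO, hOz⟩ : ∃ O : Set ↥(Spec (CommRingCat.of C)), IsOpen O ∧ O ∩ (i₀ ≫ f) ⁻¹' {f x} = {z₀} := by
    have hz : z₀ ∈ (i₀ ≫ f) ⁻¹' {f x} := by
      show (i₀ ≫ f) z₀ = f x
      rw [Scheme.Hom.comp_apply, hz₀]
    haveI := hdisc.to_subtype
    obtain ⟨O, hO, hO'⟩ := isOpen_induced_iff.1 (isOpen_discrete ({⟨z₀, hz⟩} : Set ((i₀ ≫ f) ⁻¹' {f x})))
    refine ⟨O, hO, Set.ext fun w => ⟨fun ⟨hw, hw'⟩ => ?_, fun hw => ?_⟩⟩
    · have := Set.ext_iff.1 hO' ⟨w, hw'⟩
      exact congrArg Subtype.val (this.1 hw)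
    · have hw' : w = z₀ := hw
      subst hw'
      exact ⟨(Set.ext_iff.1 hO' ⟨z₀, hz⟩).2 rfl, hz⟩
  let W : (Spec (CommRingCat.of C)).Opens := ⟨O, hO⟩
  have hzW : z₀ ∈ W := ((Set.ext_iff.1 hOz z₀).2 rfl).1
  refine ⟨W, W.ι ≫ i₀, ⟨z₀, hzW⟩, inferInstance, by rw [Category.assoc]; infer_instance, ?_, fun z' hz' => ?_⟩
  · exact (Scheme.Hom.comp_apply W.ι i₀ _).trans hz₀
  · refine Subtype.ext ?_
    refine (Set.ext_iff.1 hOz z'.1).1 ⟨z'.2, ?_⟩
    show (i₀ ≫ f) z'.1 = f x
    rw [Scheme.Hom.comp_apply]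
    rw [Scheme.Hom.comp_apply] at hz'
    exact hz'

end Groth.Agent.S0413
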