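import Groth.Statements.S0416
import Mathlib
-- import your own Groth.Agent.* helpers here

set_option autoImplicit false
universe u
open FlatMor

namespace Groth.Agent.S0416

open AlgebraicGeometry CategoryTheory Limits

theorem isHomeomorph_of_comp {A B C : Type*} [TopologicalSpace A] [TopologicalSpace B]
    [TopologicalSpace C] {f : A → B} {g : B → C} (hf : IsHomeomorph f)
    (hgf : IsHomeomorph (g ∘ f)) : IsHomeomorph g := by
  obtain ⟨e, rfl⟩ := isHomeomorph_iff_exists_homeomorph.mp hf
  have : g = (g ∘ e) ∘ e.symm := funext fun x => by simp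
  rw [this]
  exact hgf.comp e.symm.isHomeomorph

theorem cancel_left {X Y Z : Scheme.{u}} (g : X ⟶ Y) (h : Y ⟶ Z)
    (hgh : FlatMor.IsUnivHomeo (g ≫ h)) (hg : FlatMor.IsUnivHomeo g) : FlatMor.IsUnivHomeo h := by
  intro Y' Z' i₁ i₂ h' H
  have hA := IsPullback.of_hasPullback g i₁
  have h1 : IsHomeomorph (pullback.snd g i₁).base := hg _ _ _ hA.flip
  have h2 : IsHomeomorph (pullback.snd g i₁ ≫ h').base := hgh _ _ _ (hA.paste_vert H.flip).flip
  exact isHomeomorph_of_comp h1 h2

theorem cancel_right {X Y Z : Scheme.{u}} (g : X ⟶ Y) (h : Y ⟶ Z)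
    (hgh : FlatMor.IsUnivHomeo (g ≫ h)) (hh : FlatMor.IsUnivHomeo h) : FlatMor.IsUnivHomeo g := by
  intro X' Y' i₁ i₂ g' H
  haveI : UniversallyInjective h :=
    ⟨fun A B a b c hc => (hh a b c hc).injective⟩
  haveI hs : Surjective (pullback.diagonal h) := (UniversallyInjective.iff_diagonal h).mp ‹_›
  haveI : Surjective (pullback.mapDesc g i₂ h) :=
    MorphismProperty.of_isPullback (pullback_map_diagonal_isPullback g i₂ h) hs
  have h1 : IsHomeomorph (pullback.mapDesc g i₂ h).base :=
    isHomeomorph_iff_isEmbedding_surjective.mpr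
      ⟨(pullback.mapDesc g i₂ h).isEmbedding, (pullback.mapDesc g i₂ h).surjective⟩
  have h2 : IsHomeomorph (pullback.snd (g ≫ h) (i₂ ≫ h)).base :=
    hgh _ _ _ (IsPullback.of_hasPullback _ _).flip
  have h3 : g' = H.flip.isoPullback.hom ≫ pullback.mapDesc g i₂ h ≫ pullback.snd (g ≫ h) (i₂ ≫ h) := by
    rw [show pullback.mapDesc g i₂ h ≫ pullback.snd (g ≫ h) (i₂ ≫ h) = pullback.snd g i₂ from
      (pullback.lift_snd _ _ _).trans (Category.comp_id _), IsPullback.isoPullback_hom_snd]
  show IsHomeomorph g'.base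
  rw [h3]
  exact (h2.comp h1).comp H.flip.isoPullback.hom.homeomorph.isHomeomorph


open AlgebraicGeometry CategoryTheory Limits in
/-- When a composite of two morphisms is a universal homeomorphism and so is either factor, the
remaining factor is a universal homeomorphism as well. -/
theorem result {X Y Z : Scheme.{u}} (g : X ⟶ Y) (h : Y ⟶ Z) :
    (FlatMor.IsUnivHomeo (g ≫ h) → FlatMor.IsUnivHomeo g → FlatMor.IsUnivHomeo h) ∧
    (FlatMor.IsUnivHomeo (g ≫ h) → FlatMor.IsUnivHomeo h → FlatMor.IsUnivHomeo g) := by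
  exact ⟨fun h1 h2 => cancel_left g h h1 h2, fun h1 h2 => cancel_right g h h1 h2⟩

end Groth.Agent.S0416
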