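import Groth.Statements.S0418
import Groth.Agent.UHTower.PPower
-- import your own Groth.Agent.* helpers here

set_option autoImplicit false
universe u
open FlatMor

open Groth.Agent.UHTower

namespace Groth.Agent.S0418

open AlgebraicGeometry in
/-- For a prime number p and a ring map A → B that becomes an isomorphism after inverting p, Spec B →
Spec A is a universal homeomorphism if and only if the kernel consists of nilpotents and every
element of B has some p-power multiple and p-power power in the image. -/
theorem result {A B : Type u} [CommRing A] [CommRing B] (φ : A →+* B) (p : ℕ) (hp : p.Prime)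
    (h : Function.Bijective (Localization.awayMap φ (p : A))) :
    FlatMor.IsUnivHomeo (Spec.map (CommRingCat.ofHom φ)) ↔
      (∀ a ∈ RingHom.ker φ, IsNilpotent a) ∧ ∀ b : B, ∃ n : ℕ, (p ^ n : B) * b ∈ φ.range ∧ b ^ (p ^ n) ∈ φ.range := by
    letI : Algebra A B := φ.toAlgebra
    haveI : Fact p.Prime := ⟨hp⟩
    constructor
    · intro hU
      refine ⟨fun a ha => (of_univHomeo (A := A) (B := B) hU).2.2 ha, pPow_of_univHomeo p (A := A) (B := B) hU fun b => ?_⟩
      obtain ⟨a, m, ha⟩ := Localization.awayMap_surjective_iff.mp h.2 b
      exact ⟨m, a, by rw [← map_natCast φ p]; exact ha⟩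
    · rintro ⟨hnil, hb⟩
      exact univHomeo_of_pPow p (A := A) (B := B) (fun a ha => mem_nilradical.mpr (hnil a ha)) hb

end Groth.Agent.S0418
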