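import Groth.Statements.S0419
import Groth.Agent.GeomComp.Fin
-- import your own Groth.Agent.* helpers here

set_option autoImplicit false
universe u
open FlatMor

namespace Groth.Agent.S0419

open AlgebraicGeometry CategoryTheory Limits in
/-- For a morphism of finite type to an irreducible scheme whose generic fibre is geometrically
irreducible, all fibres over some nonempty open of the target are geometrically irreducible. -/
theorem result {X Y : Scheme.{u}} (f : X ⟶ Y) [IrreducibleSpace ↑Y] [LocallyOfFiniteType f] [QuasiCompact f]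
    (h : GeometricallyIrreducible (f.fiberToSpecResidueField (genericPoint ↑Y))) :
    ∃ V : Y.Opens, (V : Set ↑Y).Nonempty ∧ GeometricallyIrreducible (f ∣_ V) := by
  obtain ⟨V, -, hη, hV, hc⟩ := GeomComp.exists_const_closure f (genericPoint ↑Y)
  haveI hsp : IrreducibleSpace ↥(MoreMor.geomFiber f (genericPoint ↑Y)) :=
    h.geometrically_irreducibleSpace _ _ _ (IsPullback.of_hasPullback _ _)
  have h1 : MoreMor.nGeomIrredComp f (genericPoint ↑Y) = 1 := by
    have huniv : irreducibleComponents ↥(MoreMor.geomFiber f (genericPoint ↑Y)) = {Set.univ} := by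
      refine Set.eq_singleton_iff_unique_mem.2 ⟨⟨(irreducibleSpace_def _).1 hsp, fun T _ _ => Set.subset_univ T⟩, ?_⟩
      exact fun T hT => (Set.subset_univ T).antisymm (hT.2 ((irreducibleSpace_def _).1 hsp) (Set.subset_univ T))
    rw [MoreMor.nGeomIrredComp, huniv, Set.encard_singleton]
  have hopen : IsOpen V := by
    obtain ⟨W, hW, hWe⟩ := isOpen_induced_iff.1 hV
    have : V = W := by
      ext z
      have hz : z ∈ closure ({genericPoint ↑Y} : Set ↑Y) := by rw [genericPoint_closure]; trivial
      exact (Set.ext_iff.1 hWe ⟨z, hz⟩).symm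
    exact this ▸ hW
  exact ⟨⟨V, hopen⟩, ⟨_, hη⟩,
    GeomComp.geometricallyIrreducible_restrict f ⟨V, hopen⟩ fun y hy => (hc y hy).1.trans h1⟩

end Groth.Agent.S0419
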