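import Groth.Statements.S0421
import Mathlib
-- import your own Groth.Agent.* helpers here

set_option autoImplicit false
universe u
open FlatMor

namespace Groth.Agent.S0421

section Aux
open AlgebraicGeometry CategoryTheory Limits TopologicalSpace TensorProduct

theorem exists_idem_lift {A B : Type*} [CommRing A] [CommRing B] [Algebra A B] (g : A)
    [IsLocalization.Away g B] (hg : g ∈ nonZeroDivisors A) (hred : _root_.IsReduced (A ⧸ Ideal.span {g}))
    (e : B) (he : IsIdempotentElem e) : ∃ a : A, IsIdempotentElem a ∧ algebraMap A B a = e := by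
  have hinj : Function.Injective (algebraMap A B) :=
    IsLocalization.injective B (Submonoid.powers_le.mpr hg)
  obtain ⟨n, a, hna⟩ : ∃ (n : ℕ) (a : A), e * algebraMap A B g ^ n = algebraMap A B a := by
    obtain ⟨⟨a, ⟨_, n, rfl⟩⟩, h⟩ := IsLocalization.surj (Submonoid.powers g) e
    exact ⟨n, a, by rw [← map_pow]; exact h⟩
  have key : ∀ (n : ℕ) (a : A), e * algebraMap A B g ^ n = algebraMap A B a → a * a = g ^ n * a :=
    fun n a h => hinj (by
      rw [map_mul, map_mul, map_pow, ← h]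
      linear_combination (algebraMap A B g ^ n * algebraMap A B g ^ n) * he.eq)
  induction n generalizing a with
  | zero =>
    refine ⟨a, ?_, by rw [← hna, pow_zero, mul_one]⟩
    have := key 0 a hna
    rwa [pow_zero, one_mul] at this
  | succ n ih =>
    have h2 : Ideal.Quotient.mk (Ideal.span {g}) a = 0 := by
      refine hred.eq_zero _ ⟨2, ?_⟩
      rw [pow_two, ← map_mul, key _ _ hna, Ideal.Quotient.eq_zero_iff_mem, Ideal.mem_span_singleton]
      exact ⟨g ^ n * a, by ring⟩
    obtain ⟨b, rfl⟩ := Ideal.mem_span_singleton.mp (Ideal.Quotient.eq_zero_iff_mem.mp h2)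
    refine ih b ?_
    have hu : IsUnit (algebraMap A B g) := IsLocalization.Away.algebraMap_isUnit g
    refine hu.mul_left_cancel ?_
    rw [map_mul] at hna
    rw [← hna, pow_succ]; ring

variable {R : Type u} [CommRing R] [IsDomain R] [IsDiscreteValuationRing R]

theorem isReduced_quotient {X : Scheme.{u}} (f : X ⟶ Spec (CommRingCat.of R))
    (hred : IsReduced (f.fiber (IsLocalRing.closedPoint R))) {U : X.Opens} (hU : IsAffineOpen U)
    (ψ : CommRingCat.of R ⟶ Γ(X, U)) (hψ : Spec.map ψ = hU.fromSpec ≫ f) (ϖ : R)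
    (hϖ : Irreducible ϖ) : _root_.IsReduced (Γ(X, U) ⧸ Ideal.span {ψ.hom ϖ}) := by
  let k := IsLocalRing.ResidueField R
  let r : Spec (CommRingCat.of k) ⟶ Spec (CommRingCat.of R) :=
    Spec.map (CommRingCat.ofHom (algebraMap R k))
  obtain ⟨⟨x, φ⟩, hφ⟩ : ∃ xf, (Scheme.SpecToEquivOfField k (Spec (CommRingCat.of R))).symm xf = r :=
    ⟨_, Equiv.symm_apply_apply _ r⟩
  change Spec.map φ ≫ (Spec (CommRingCat.of R)).fromSpecResidueField x = r at hφ
  have hx : x = IsLocalRing.closedPoint R := by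
    have h1 := congrArg (fun m : Spec (CommRingCat.of k) ⟶ Spec (CommRingCat.of R) =>
      m (IsLocalRing.closedPoint k)) hφ
    simp only [Scheme.Hom.comp_apply, Scheme.fromSpecResidueField_apply] at h1
    rw [h1]
    exact IsLocalRing.comap_closedPoint (IsLocalRing.residue R)
  subst hx
  have : IsClosedImmersion (Spec.map φ ≫
      (Spec (CommRingCat.of R)).fromSpecResidueField (IsLocalRing.closedPoint R)) := by
    rw [hφ]; exact IsClosedImmersion.spec_of_surjective _ IsLocalRing.residue_surjective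
  have : IsClosedImmersion (Spec.map φ) := IsClosedImmersion.of_comp (Spec.map φ)
    ((Spec (CommRingCat.of R)).fromSpecResidueField (IsLocalRing.closedPoint R))
  have : Surjective (Spec.map φ) := ⟨fun y => ⟨IsLocalRing.closedPoint k, Subsingleton.elim _ _⟩⟩
  have : IsIso (Spec.map φ) := isIso_of_isClosedImmersion_of_surjective _
  let m : pullback (Spec.map ψ) r ⟶ f.fiber (IsLocalRing.closedPoint R) :=
    pullback.map _ _ _ _ hU.fromSpec (Spec.map φ) (𝟙 _) (by rw [Category.comp_id, hψ]) (by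
      rw [Category.comp_id, hφ])
  have : IsOpenImmersion m := inferInstanceAs (IsOpenImmersion (pullback.map _ _ _ _ _ _ _ _ _))
  have hP : IsReduced (pullback (Spec.map ψ) r) := isReduced_of_isOpenImmersion m
  algebraize [ψ.hom]
  have hT : IsReduced (Spec (CommRingCat.of (Γ(X, U) ⊗[R] k))) :=
    isReduced_of_isOpenImmersion (pullbackSpecIso R Γ(X, U) k).inv
  have hT' : _root_.IsReduced (Γ(X, U) ⊗[R] k) := (affine_isReduced_iff _).mp hT
  have e := Algebra.TensorProduct.quotIdealMapEquivTensorQuot Γ(X, U) (IsLocalRing.maximalIdeal R)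
  have he : (IsLocalRing.maximalIdeal R).map (algebraMap R Γ(X, U)) = Ideal.span {ψ.hom ϖ} := by
    rw [hϖ.maximalIdeal_eq, Ideal.map_span, Set.image_singleton]; rfl
  let e' := (Ideal.quotEquivOfEq he.symm).trans e.toRingEquiv
  have : _root_.IsReduced (Γ(X, U) ⊗[R] (R ⧸ IsLocalRing.maximalIdeal R)) := hT'
  exact isReduced_of_injective e'.toRingHom e'.injective

theorem main_thm {X : Scheme.{u}} (f : X ⟶ Spec (CommRingCat.of R)) [Flat f] [ConnectedSpace X]
    (hred : IsReduced (f.fiber (IsLocalRing.closedPoint R))) :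
    ConnectedSpace (f.fiber (⟨⊥, Ideal.isPrime_bot⟩ : PrimeSpectrum R)) := by
  let η : Spec (CommRingCat.of R) := (⟨⊥, Ideal.isPrime_bot⟩ : PrimeSpectrum R)
  obtain ⟨ϖ, hϖ⟩ := IsDiscreteValuationRing.exists_irreducible R
  let W : X.Opens := f ⁻¹ᵁ PrimeSpectrum.basicOpen ϖ
  have hW : (W : Set X) = f ⁻¹' {η} := by
    have h : (PrimeSpectrum.basicOpen ϖ : Set (PrimeSpectrum R)) = {η} := by
      refine Set.ext fun p => ⟨fun hp => ?_, fun hp => ?_⟩
      · refine PrimeSpectrum.ext (by_contra fun hne => hp ?_)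
        have : p.asIdeal = IsLocalRing.maximalIdeal R :=
          IsLocalRing.eq_maximalIdeal (p.isPrime.isMaximal hne)
        rw [this]; exact hϖ.not_isUnit
      · obtain rfl : p = η := hp
        exact fun h => hϖ.ne_zero h
    exact congrArg (f ⁻¹' ·) h
  suffices ConnectedSpace (f ⁻¹' {η} : Set X) from
    (f.fiberHomeo η).connectedSpace_iff.mpr this
  rw [← isConnected_iff_connectedSpace, ← hW]
  have key : ∀ U : X.affineOpens, ∃ ψ : CommRingCat.of R ⟶ Γ(X, U.1),
      Spec.map ψ = U.2.fromSpec ≫ f ∧ ψ.hom ϖ ∈ nonZeroDivisors Γ(X, U.1) ∧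
      U.2.fromSpec ⁻¹' (W : Set X) = (PrimeSpectrum.basicOpen (ψ.hom ϖ) : Set (PrimeSpectrum Γ(X, U.1))) := by
    intro U
    refine ⟨Spec.preimage (U.2.fromSpec ≫ f), Spec.map_preimage _, ?_, ?_⟩
    · set ψ := Spec.preimage (U.2.fromSpec ≫ f)
      have hflat : ψ.hom.Flat := (HasRingHomProperty.Spec_iff (P := @Flat)).mp (by
        rw [Spec.map_preimage]; infer_instance)
      algebraize [ψ.hom]
      refine mem_nonZeroDivisors_iff_right.mpr fun a ha => ?_
      have hreg : IsSMulRegular R ϖ := fun _ _ h => mul_left_cancel₀ hϖ.ne_zero h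
      refine hreg.of_flat_of_isBaseChange (IsBaseChange.linearMap R Γ(X, U.1)) ?_
      change ϖ • a = ϖ • 0
      rw [smul_zero, Algebra.smul_def, mul_comm]; exact ha
    · have hψ := Spec.map_preimage (U.2.fromSpec ≫ f)
      set ψ := Spec.preimage (U.2.fromSpec ≫ f)
      ext q
      change f (U.2.fromSpec q) ∈ PrimeSpectrum.basicOpen ϖ ↔ _
      rw [← Scheme.Hom.comp_apply, ← hψ]
      rfl
  have hdense : ∀ O : X.Opens, ((O : Set X) ∩ W = ∅) → (O : Set X) = ∅ := by
    intro O hO
    by_contra hne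
    obtain ⟨x, hx⟩ := Set.nonempty_iff_ne_empty.mpr hne
    obtain ⟨_, ⟨U, hU, rfl⟩, hxU, hUO⟩ :=
      X.isBasis_affineOpens.exists_subset_of_mem_open hx O.isOpen
    obtain ⟨ψ, -, hnzd, hpre⟩ := key ⟨U, hU⟩
    have : Nontrivial Γ(X, U) := PrimeSpectrum.nontrivial (hU.primeIdealOf ⟨x, hxU⟩)
    have h1 : PrimeSpectrum.basicOpen (ψ.hom ϖ) = ⊥ := by
      ext q
      refine ⟨fun hq => ?_, False.elim⟩
      have : hU.fromSpec q ∈ (O : Set X) ∩ W :=
        ⟨hUO (hU.range_fromSpec.le ⟨q, rfl⟩), hpre.ge hq⟩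
      rw [hO] at this; exact this
    obtain ⟨n, hn⟩ := PrimeSpectrum.basicOpen_eq_bot_iff _ |>.mp h1
    exact one_ne_zero ((mem_nonZeroDivisors_iff_right.mp (pow_mem hnzd n)) 1 (by rw [hn, mul_zero]))
  refine ⟨?_, ?_⟩
  · by_contra hne
    rw [Set.not_nonempty_iff_eq_empty] at hne
    have := hdense ⊤ (by rw [Opens.coe_top, Set.univ_inter, hne])
    rw [Opens.coe_top, Set.univ_eq_empty_iff] at this
    exact this.false (Classical.arbitrary X)
  rw [isPreconnected_iff_subset_of_disjoint]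
  intro u v hu hv huv hdisj
  let V : Set X → X.Opens := fun s => ⟨interior (s ∪ (W : Set X)ᶜ), isOpen_interior⟩
  have hVu : ∀ s, (V s : Set X) ∩ W ⊆ s := fun s x hx =>
    (interior_subset hx.1).resolve_right (not_not.mpr hx.2)
  have hcov : ∀ x : X, x ∈ V u ∨ x ∈ V v := by
    intro x
    obtain ⟨_, ⟨U, hU, rfl⟩, hxU, -⟩ :=
      X.isBasis_affineOpens.exists_subset_of_mem_open (Set.mem_univ x) isOpen_univ
    obtain ⟨ψ, hψ, hnzd, hpre⟩ := key ⟨U, hU⟩
    let g := ψ.hom ϖ
    let B := Localization.Away g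
    let c : PrimeSpectrum B → X := fun q => hU.fromSpec (PrimeSpectrum.comap (algebraMap Γ(X, U) B) q)
    have hc : Continuous c := hU.fromSpec.continuous.comp (PrimeSpectrum.continuous_comap _)
    have hcW : ∀ q, c q ∈ W := fun q => hpre.ge
      ((PrimeSpectrum.localization_away_comap_range B g).le ⟨q, rfl⟩)
    have hclopen : IsClopen (c ⁻¹' u) := by
      refine ⟨?_, hu.preimage hc⟩
      have : c ⁻¹' u = (c ⁻¹' v)ᶜ := by
        ext q
        refine ⟨fun hq hq' => ?_, fun hq => (huv (hcW q)).resolve_right hq⟩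
        have : c q ∈ (W : Set X) ∩ (u ∩ v) := ⟨hcW q, hq, hq'⟩
        rw [hdisj] at this; exact this
      rw [this]
      exact (hv.preimage hc).isClosed_compl
    obtain ⟨e, he, hs⟩ := PrimeSpectrum.isClopen_iff.mp hclopen
    obtain ⟨a, ha, rfl⟩ := exists_idem_lift g hnzd
      (isReduced_quotient f hred hU ψ hψ ϖ hϖ) e he
    obtain ⟨q, hq⟩ := hU.range_fromSpec.ge hxU
    have hside : ∀ (b : Γ(X, U)) (s : Set X), q ∈ PrimeSpectrum.basicOpen b →
        (∀ q' : PrimeSpectrum B, algebraMap Γ(X, U) B b ∉ q'.asIdeal → c q' ∈ s) → x ∈ V s := by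
      intro b s hqb hbs
      refine mem_interior.mpr ⟨hU.fromSpec '' (PrimeSpectrum.basicOpen b : Set (PrimeSpectrum Γ(X, U))),
        ?_, hU.fromSpec.isOpenEmbedding.isOpenMap _ (PrimeSpectrum.basicOpen b).2, ⟨q, hqb, hq⟩⟩
      rintro _ ⟨p, hp, rfl⟩
      by_cases hpW : hU.fromSpec p ∈ W
      · obtain ⟨q', rfl⟩ := (PrimeSpectrum.localization_away_comap_range B g).ge (hpre.le hpW)
        exact Or.inl (hbs q' hp)
      · exact Or.inr hpW
    by_cases hqa : a ∈ q.asIdeal
    · right
      refine hside (1 - a) v (fun h => q.isPrime.ne_top ((Ideal.eq_top_iff_one _).mpr (by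
        simpa using add_mem h hqa))) fun q' hq' => (huv (hcW q')).resolve_left fun hu' => ?_
      have h1 : algebraMap Γ(X, U) B a ∉ q'.asIdeal := hs.le hu'
      have h2 : algebraMap Γ(X, U) B a * algebraMap Γ(X, U) B (1 - a) = 0 := by
        rw [← map_mul, mul_sub, mul_one, ha.eq, sub_self, map_zero]
      exact (q'.isPrime.mem_or_mem (h2 ▸ zero_mem _)).elim h1 hq'
    · exact Or.inl (hside a u hqa fun q' hq' => hs.ge hq')
  have hdis : (V u : Set X) ∩ V v = ∅ := hdense (V u ⊓ V v) (Set.eq_empty_of_forall_notMem fun x hx => by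
    have : x ∈ (W : Set X) ∩ (u ∩ v) := ⟨hx.2, hVu u ⟨hx.1.1, hx.2⟩, hVu v ⟨hx.1.2, hx.2⟩⟩
    rw [hdisj] at this; exact this)
  have hclopen : IsClopen (V u : Set X) := by
    refine ⟨?_, (V u).isOpen⟩
    have : (V u : Set X) = (V v : Set X)ᶜ := Set.ext fun x =>
      ⟨fun h h' => (hdis ▸ (⟨h, h'⟩ : x ∈ (V u : Set X) ∩ V v) : x ∈ (∅ : Set X)).elim,
        fun h => (hcov x).resolve_right h⟩
    rw [this]; exact (V v).isOpen.isClosed_compl
  rcases isClopen_iff.mp hclopen with h | h
  · exact Or.inr fun x hx => hVu v ⟨(hcov x).resolve_left (fun h' => (h ▸ h' : x ∈ (∅ : Set X))), hx⟩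
  · exact Or.inl fun x hx => hVu u ⟨h.ge trivial, hx⟩

end Aux

open AlgebraicGeometry CategoryTheory Limits in
/-- For a flat morphism from a connected scheme to the spectrum of a discrete valuation ring with
reduced closed fibre, the generic fibre is connected. -/
theorem result {R : Type u} [CommRing R] [IsDomain R] [IsDiscreteValuationRing R] {X : Scheme.{u}}
    (f : X ⟶ Spec (CommRingCat.of R)) [Flat f] [ConnectedSpace ↑X]
    (hred : IsReduced (f.fiber (IsLocalRing.closedPoint R))) :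
    ConnectedSpace ↑(f.fiber (⟨⊥, Ideal.isPrime_bot⟩ : PrimeSpectrum R)) := by
  exact main_thm f hred

end Groth.Agent.S0421
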