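import Groth.Statements.S0422
import Groth.Agent.FlatDescent.Criterion
import Groth.Agent.FlatDescent.Global
import Groth.Agent.MLMod.NilFlat

set_option autoImplicit false
universe u
open FlatMor

namespace Groth.Agent.S0422

open TensorProduct in
theorem flat_fibre_localized {S S' M : Type u} [CommRing S] [CommRing S'] [Algebra S S'] [AddCommGroup M]
    [Module S M] [Module S' M] [IsScalarTower S S' M] (J : Ideal S) [Module.Flat (S ⧸ J) ((S ⧸ J) ⊗[S] M)]
    (T : Submonoid S') :
    Module.Flat (S ⧸ J) ((S ⧸ J) ⊗[S] LocalizedModule T M) := by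
  rw [Module.Flat.iff_rTensor_injective']
  intro K
  let L := LocalizedModule T M
  let j : K →ₗ[S] (S ⧸ J) := K.subtype.restrictScalars S
  have h1 : Function.Injective (j.rTensor M) :=
    Groth.MLMod.rTensor_injective_of_flat_quotient (M := M) J K.subtype Subtype.val_injective
  have h2 : Function.Injective (AlgebraTensorModule.lTensor S' M j) := by
    intro a b hab
    refine (TensorProduct.comm S M K).injective (h1 ?_)
    have hc : ∀ z, j.rTensor M (TensorProduct.comm S M K z) = TensorProduct.comm S M (S ⧸ J) (j.lTensor M z) :=
      fun z => TensorProduct.map_comm j LinearMap.id z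
    rw [hc, hc]
    exact congrArg _ hab
  let f := LocalizedModule.mkLinearMap T M
  have h3 := IsLocalizedModule.map_injective T (AlgebraTensorModule.rTensor S K f)
    (AlgebraTensorModule.rTensor S (S ⧸ J) f) _ h2
  have h4 : Function.Injective (j.lTensor L) := by simpa [IsLocalizedModule.map_lTensor] using h3
  let eK := AlgebraTensorModule.cancelBaseChange S (S ⧸ J) (S ⧸ J) K L
  let eR := AlgebraTensorModule.cancelBaseChange S (S ⧸ J) (S ⧸ J) (S ⧸ J) L
  have key : ∀ w, eR (K.subtype.rTensor ((S ⧸ J) ⊗[S] L) w) = j.rTensor L (eK w) := by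
    intro w
    induction w with
    | zero => simp
    | add a b ha hb => simp [map_add, ha, hb]
    | tmul k y =>
      induction y with
      | zero => simp
      | add u v hu hv =>
        simp only [LinearMap.rTensor_tmul] at hu hv
        simp only [tmul_add, map_add, LinearMap.rTensor_tmul, hu, hv]
      | tmul s l => simp [eK, eR, j]
  intro a b hab
  refine eK.injective ((TensorProduct.comm S K L).injective (h4 ?_))
  have hc : ∀ z, j.lTensor L (TensorProduct.comm S K L z) = TensorProduct.comm S (S ⧸ J) L (j.rTensor L z) :=
    fun z => TensorProduct.map_comm LinearMap.id j z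
  rw [hc, hc, ← key, ← key, hab]

open TensorProduct in
/-- Fibrewise criterion of flatness modulo a locally nilpotent ideal: let R → S be of finite type, S' an
S-algebra which is of finite presentation over R, I an ideal of R all of whose elements are
nilpotent, and M a finitely presented S'-module which is flat over R and such that M/IM is flat over
S/IS. Then M is flat over S. (The published statement also asserts flatness over R of suitable
localizations of S; that part is not stated here.) -/
theorem result {R S S' M : Type u} [CommRing R] [CommRing S] [CommRing S'] [Algebra R S] [Algebra S S'] [Algebra R S'] [IsScalarTower R S S']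
    [Algebra.FiniteType R S] [Algebra.FinitePresentation R S'] (I : Ideal R) (hI : ∀ a ∈ I, IsNilpotent a)
    [AddCommGroup M] [Module S' M] [Module S M] [Module R M] [IsScalarTower S S' M] [IsScalarTower R S M]
    [Module.FinitePresentation S' M] [Module.Flat R M]
    (h : Module.Flat (S ⧸ I.map (algebraMap R S)) ((S ⧸ I.map (algebraMap R S)) ⊗[S] M)) : Module.Flat S M := by
  haveI : IsScalarTower R S' M := IsScalarTower.of_algebraMap_smul fun r m => by
    rw [IsScalarTower.algebraMap_apply R S S', algebraMap_smul, algebraMap_smul]
  refine Groth.FlatDescent.flat_of_flatAt (P := S') fun Q _ => ?_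
  refine Groth.FlatDescent.flat_fibre_criterion_ft R S Q (Groth.FlatDescent.flatAt_of_flat Q) ?_
  let p := Q.comap (algebraMap R S')
  have hIp : I ≤ p := fun a ha => nilradical_le_prime p (hI a ha)
  let IS := I.map (algebraMap R S)
  let J := p.map (algebraMap R S)
  letI : Algebra (S ⧸ IS) (S ⧸ J) := (Ideal.Quotient.factor (Ideal.map_mono hIp : IS ≤ J)).toAlgebra
  haveI : IsScalarTower S (S ⧸ IS) (S ⧸ J) := IsScalarTower.of_algebraMap_eq fun _ => rfl
  haveI : Module.Flat (S ⧸ IS) ((S ⧸ IS) ⊗[S] M) := h
  haveI : Module.Flat (S ⧸ J) ((S ⧸ J) ⊗[S] M) :=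
    Module.Flat.of_linearEquiv (AlgebraTensorModule.cancelBaseChange S (S ⧸ IS) (S ⧸ J) (S ⧸ J) M).symm
  haveI := flat_fibre_localized (M := M) J Q.primeCompl
  exact Module.Flat.of_linearEquiv (LinearEquiv.extendScalarsOfSurjective (R := S) (S := S ⧸ J) Ideal.Quotient.mk_surjective
    (TensorProduct.quotTensorEquivQuotSMul (LocalizedModule Q.primeCompl M) J)).symm

end Groth.Agent.S0422
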