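import Groth.Statements.S0423
import Mathlib
-- import your own Groth.Agent.* helpers here

set_option autoImplicit false
universe u
open FlatMor

namespace Groth.Agent.S0423

open AlgebraicGeometry CategoryTheory Limits in
/-- A weakly étale morphism of schemes (flat with flat diagonal) is formally unramified. -/
theorem result {X Y : Scheme.{u}} (f : X ⟶ Y) [WeaklyEtale f] : FormallyUnramified f := by
  refine FormallyUnramified.of_hom_ext f fun R S φ hφ hker g₁ g₂ hg hgf => ?_
  let q := pullback.snd (pullback.diagonal f) (pullback.lift g₁ g₂ hgf)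
  haveI : IsImmersion q := MorphismProperty.pullback_snd _ _ (inferInstanceAs (IsImmersion (pullback.diagonal f)))
  haveI : Flat q := MorphismProperty.pullback_snd _ _ (inferInstanceAs (Flat (pullback.diagonal f)))
  let r : Spec S ⟶ pullback (pullback.diagonal f) (pullback.lift g₁ g₂ hgf) := pullback.lift (Spec.map φ ≫ g₁) (Spec.map φ) (by
    apply pullback.hom_ext
    · rw [Category.assoc, pullback.diagonal_fst, Category.comp_id, Category.assoc, pullback.lift_fst]
    · rw [Category.assoc, pullback.diagonal_snd, Category.comp_id, Category.assoc, pullback.lift_snd, hg])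
  have hrange : Set.range q = Set.univ := by
    refine Set.eq_univ_of_forall fun p => ?_
    obtain ⟨s, hs⟩ : p ∈ Set.range (PrimeSpectrum.comap φ.hom) := by
      rw [range_comap_of_surjective _ _ hφ]
      intro a ha
      refine p.2.mem_of_pow_mem 2 ?_
      have h2 : a ^ 2 ∈ RingHom.ker φ.hom ^ 2 := Ideal.pow_mem_pow ha 2
      rw [hker, Ideal.mem_bot] at h2
      rw [h2]; exact Ideal.zero_mem _
    refine ⟨r s, ?_⟩
    show (r ≫ q) s = p
    rw [pullback.lift_snd]; exact hs
  haveI : IsClosedImmersion q := IsClosedImmersion.of_isPreimmersion q (hrange ▸ isClosed_univ)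
  haveI : Surjective q := ⟨Set.range_eq_univ.mp hrange⟩
  haveI := Flat.isIso_of_surjective_of_mono q
  have hc := pullback.condition (f := pullback.diagonal f) (g := pullback.lift g₁ g₂ hgf)
  have h1 := congr($hc ≫ pullback.fst f f)
  have h2 := congr($hc ≫ pullback.snd f f)
  rw [Category.assoc, pullback.diagonal_fst, Category.comp_id, Category.assoc, pullback.lift_fst] at h1
  rw [Category.assoc, pullback.diagonal_snd, Category.comp_id, Category.assoc, pullback.lift_snd] at h2
  exact (cancel_epi q).mp (h1.symm.trans h2)

end Groth.Agent.S0423
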