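import Groth.Statements.S0425
import Groth.Agent.AWN.Normal
-- import your own Groth.Agent.* helpers here

set_option autoImplicit false
universe u
open FlatMor

open Groth.Agent.AWN

namespace Groth.Agent.S0425

open AlgebraicGeometry CategoryTheory Limits in
/-- A weakly étale universal homeomorphism is an isomorphism. -/
theorem result {X Y : Scheme.{u}} (f : X ⟶ Y) [WeaklyEtale f] (h : FlatMor.IsUnivHomeo f) : IsIso f := by
    obtain ⟨hint, hinj, hsurj⟩ := (isUnivHomeo_iff f).mp h
    have : IsIso (pullback.diagonal f) := by
      haveI : Surjective (pullback.diagonal f) := (UniversallyInjective.iff_diagonal f).mp hinj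
      haveI : Flat (pullback.diagonal f) := inferInstance
      have hd : IsIso (pullback.fst (pullback.diagonal f) (pullback.diagonal f)) :=
        ⟨pullback.diagonal (pullback.diagonal f), by
          rw [← cancel_mono (pullback.fst (pullback.diagonal f) (pullback.diagonal f))]; simp, pullback.diagonal_fst _⟩
      exact MorphismProperty.of_pullback_fst_of_descendsAlong (P := MorphismProperty.isomorphisms Scheme.{u})
        (Q := @Surjective ⊓ @Flat ⊓ @QuasiCompact) (f := pullback.diagonal f) (g := pullback.diagonal f)
        ⟨⟨‹_›, ‹_›⟩, inferInstance⟩ hd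
    haveI : Mono f := (pullback.isIso_diagonal_iff f).mp this
    haveI : Flat f := inferInstance
    have hd : IsIso (pullback.fst f f) := inferInstance
    exact MorphismProperty.of_pullback_fst_of_descendsAlong (P := MorphismProperty.isomorphisms Scheme.{u})
      (Q := @Surjective ⊓ @Flat ⊓ @QuasiCompact) (f := f) (g := f) ⟨⟨hsurj, ‹_›⟩, inferInstance⟩ hd

end Groth.Agent.S0425
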