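import Groth.Statements.S0426
import Mathlib
-- import your own Groth.Agent.* helpers here

set_option autoImplicit false
universe u
open FlatMor

namespace Groth.Agent.S0426

section Aux
open TensorProduct

variable {K L : Type u} [Field K] [Field L] [Algebra K L]

theorem idem_of_flat {T F M : Type u} [CommRing T] [Algebra K T] [Field F] [Algebra K F] [Field M]
    [Algebra K M] (m : T →ₐ[K] F) (i : F →ₐ[K] M) (n : T →ₐ[K] M) (he : ∀ t, i (m t) = n t)
    (hs : Function.Surjective m) (h : n.Flat) : IsIdempotentElem (RingHom.ker m) := by
  let _ : Algebra T F := m.toRingHom.toAlgebra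
  let _ : Algebra T M := n.toRingHom.toAlgebra
  let _ : Algebra F M := i.toRingHom.toAlgebra
  have : IsScalarTower T F M := IsScalarTower.of_algebraMap_eq fun t => (he t).symm
  have : Module.Flat T M := h
  obtain ⟨r, hr⟩ := (Algebra.linearMap F M).exists_leftInverse_of_injective
    (LinearMap.ker_eq_bot.mpr (algebraMap F M).injective)
  have : Module.Flat T F :=
    Module.Flat.of_retract ((Algebra.linearMap F M).restrictScalars T) (r.restrictScalars T)
      (LinearMap.ext fun x => LinearMap.congr_fun hr x)
  have e := Ideal.quotientKerAlgEquivOfSurjective (R₁ := T) (f := Algebra.ofId T F) hs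
  have : (RingHom.ker m).Pure := Module.Flat.of_linearEquiv e.toLinearEquiv
  exact Ideal.isIdempotentElem_of_pure _

set_option maxHeartbeats 300000 in
theorem isSeparable_sub [Algebra.WeaklyEtale K L] (E : IntermediateField K L)
    [Algebra.EssFiniteType K E] : Algebra.IsSeparable K E := by
  suffices Algebra.FormallyUnramified K E from Algebra.FormallyUnramified.isSeparable K E
  rw [Algebra.formallyUnramified_iff, KaehlerDifferential, Ideal.cotangent_subsingleton_iff]
  have hval : (E.val : E →ₐ[K] L).Flat := by
    have : Module.Flat E L := inferInstance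
    exact RingHom.flat_algebraMap_iff.mpr this
  have hf : (Algebra.TensorProduct.map E.val E.val).Flat :=
    RingHom.Flat.tensorProductMap (f := E.val) (g := E.val) hval hval
  have hmL : (Algebra.TensorProduct.lmul' K (S := L)).Flat := Algebra.WeaklyEtale.flat_lmul' K L
  refine idem_of_flat (Algebra.TensorProduct.lmul' K (S := E)) E.val
    ((Algebra.TensorProduct.lmul' K (S := L)).comp (Algebra.TensorProduct.map E.val E.val))
    (fun t => ?_) (fun e => ⟨e ⊗ₜ 1, by simp⟩) (RingHom.Flat.comp hf hmL)
  exact AlgHom.congr_fun (show E.val.comp (Algebra.TensorProduct.lmul' K (S := E)) =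
    (Algebra.TensorProduct.lmul' K (S := L)).comp (Algebra.TensorProduct.map E.val E.val) by
      ext x <;> simp) t

theorem main_thm [Algebra.WeaklyEtale K L] : Algebra.IsSeparable K L := by
  refine ⟨fun x => ?_⟩
  let E : IntermediateField K L := IntermediateField.adjoin K {x}
  have : Algebra.EssFiniteType K E :=
    IntermediateField.essFiniteType_iff.mpr (IntermediateField.fg_adjoin_finset {x} |> fun h => by
      simpa [E] using h)
  have := isSeparable_sub E
  have h := Algebra.IsSeparable.isSeparable K (⟨x, IntermediateField.mem_adjoin_simple_self K x⟩ : E)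
  rwa [IsSeparable, ← minpoly.algebraMap_eq (algebraMap E L).injective] at h

end Aux

/-- A field extension L/K such that L is weakly étale over K (equivalently the multiplication map of L
⊗_K L is flat) is algebraic and separable. -/
theorem result {K L : Type u} [Field K] [Field L] [Algebra K L] [Algebra.WeaklyEtale K L] : Algebra.IsSeparable K L := by
  exact main_thm

end Groth.Agent.S0426
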