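import Groth.Statements.S0433
import Groth.Agent.FerrandPushout.Main
import Mathlib.Algebra.Category.Ring.Constructions
-- import your own Groth.Agent.* helpers here

set_option autoImplicit false
universe u
open FlatMor

namespace Groth.Agent.S0433

open AlgebraicGeometry CategoryTheory Limits in
/-- For a surjective ring map A' → A and any ring map B → A, the spectra of A, A', B and of the fibre
product ring B ×_A A' form a pushout square of schemes. -/
theorem result {A A' B : Type u} [CommRing A] [CommRing A'] [CommRing B] (p : A' →+* A) (hp : Function.Surjective p) (q : B →+* A) :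
    IsPushout (Spec.map (CommRingCat.ofHom p)) (Spec.map (CommRingCat.ofHom q))
      (Spec.map (pullback.snd (CommRingCat.ofHom q) (CommRingCat.ofHom p)))
      (Spec.map (pullback.fst (CommRingCat.ofHom q) (CommRingCat.ofHom p))) := by
  have c : FerrandPushout.Cart p q (pullback.fst (CommRingCat.ofHom q) (CommRingCat.ofHom p)).hom
      (pullback.snd (CommRingCat.ofHom q) (CommRingCat.ofHom p)).hom := by
    refine ⟨hp, fun x => RingHom.congr_fun (congrArg CommRingCat.Hom.hom (pullback.condition (f := CommRingCat.ofHom q) (g := CommRingCat.ofHom p))) x,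
      fun x h1 h2 => ?_, fun b a h => ?_⟩
    · obtain ⟨b, a, e, rfl⟩ := Concrete.pullbackMk_surjective _ _ x
      rw [Concrete.pullbackMk_fst] at h1
      rw [Concrete.pullbackMk_snd] at h2
      subst h1 h2
      obtain ⟨b0, a0, e0, h0⟩ := Concrete.pullbackMk_surjective (CommRingCat.ofHom q) (CommRingCat.ofHom p)
        (0 : ↥(pullback (CommRingCat.ofHom q) (CommRingCat.ofHom p)))
      have hb := congrArg (pullback.fst (CommRingCat.ofHom q) (CommRingCat.ofHom p)).hom h0
      have ha := congrArg (pullback.snd (CommRingCat.ofHom q) (CommRingCat.ofHom p)).hom h0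
      rw [map_zero, Concrete.pullbackMk_fst] at hb
      rw [map_zero, Concrete.pullbackMk_snd] at ha
      subst hb ha
      exact h0.symm
    · exact ⟨Concrete.pullbackMk _ _ b a h, Concrete.pullbackMk_fst _ _ _ _ _, Concrete.pullbackMk_snd _ _ _ _ _⟩
  have w : Spec.map (CommRingCat.ofHom p) ≫ Spec.map (pullback.snd (CommRingCat.ofHom q) (CommRingCat.ofHom p)) =
      Spec.map (CommRingCat.ofHom q) ≫ Spec.map (pullback.fst (CommRingCat.ofHom q) (CommRingCat.ofHom p)) := by
    rw [← Spec.map_comp, ← Spec.map_comp, pullback.condition]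
  choose d hd1 hd2 using fun s : PushoutCocone (Spec.map (CommRingCat.ofHom p)) (Spec.map (CommRingCat.ofHom q)) =>
    FerrandPushout.exists_desc s.inr s.inl c s.condition
  exact ⟨⟨w⟩, ⟨PushoutCocone.IsColimit.mk w d hd2 hd1
    fun s m hm1 hm2 => FerrandPushout.hom_ext c (hm2.trans (hd1 s).symm) (hm1.trans (hd2 s).symm)⟩⟩

end Groth.Agent.S0433
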