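import Groth.Statements.S0436
import Mathlib
import Groth.Agent.FlatDescent.Scheme
-- import your own Groth.Agent.* helpers here

set_option autoImplicit false
universe u
open FlatMor

namespace Groth.Agent.S0436

section Aux
open AlgebraicGeometry CategoryTheory Limits TopologicalSpace

theorem isReduced_of_mod {A : Type*} [CommRing A] [IsNoetherianRing A] [IsLocalRing A] (p : A)
    (hp : p ∈ IsLocalRing.maximalIdeal A) (hreg : IsSMulRegular A p)
    (hred : _root_.IsReduced (A ⧸ Ideal.span {p})) : _root_.IsReduced A := by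
  rw [← nilradical_eq_bot_iff]
  refine Submodule.eq_bot_of_le_smul_of_le_jacobson_bot (Ideal.span {p}) (nilradical A)
    (IsNoetherian.noetherian _) (fun x hx => ?_) ?_
  · have hx' : IsNilpotent x := mem_nilradical.mp hx
    have h0 : Ideal.Quotient.mk (Ideal.span {p}) x = 0 := hred.eq_zero _ (hx'.map _)
    obtain ⟨y, rfl⟩ := Ideal.mem_span_singleton.mp (Ideal.Quotient.eq_zero_iff_mem.mp h0)
    obtain ⟨n, hn⟩ := hx'
    have hy : IsNilpotent y := ⟨n, (hreg.pow n) (by
      simp only [smul_eq_mul, mul_zero]; rw [← mul_pow]; exact hn)⟩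
    exact Submodule.smul_mem_smul (Ideal.mem_span_singleton_self p) (mem_nilradical.mpr hy)
  · rw [IsLocalRing.jacobson_eq_maximalIdeal ⊥ bot_ne_top]
    exact (Ideal.span_singleton_le_iff_mem _).mpr hp

variable {R : Type u} [CommRing R] [IsDomain R] [IsDiscreteValuationRing R] {X : Scheme.{u}}
  (f : X ⟶ Spec (CommRingCat.of R))

theorem isReduced_stalk_special [Flat f] [IsLocallyNoetherian X]
    (hred : IsReduced (f.fiber (IsLocalRing.closedPoint R))) (x : X)
    (hx : f x = IsLocalRing.closedPoint R) : _root_.IsReduced (X.presheaf.stalk x) := by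
  obtain ⟨z, rfl⟩ := (f.range_fiberι (IsLocalRing.closedPoint R)).ge hx
  obtain ⟨ϖ, hϖ⟩ := IsDiscreteValuationRing.exists_irreducible R
  let y := f.fiberι (IsLocalRing.closedPoint R) z
  let Os := (Spec (CommRingCat.of R)).presheaf.stalk (f y)
  let _ : Algebra R Os := StructureSheaf.stalkAlgebra R (f y)
  have hloc : IsLocalization.AtPrime Os (f y).asIdeal :=
    StructureSheaf.IsLocalization.to_stalk R (f y)
  have hmax : IsLocalRing.maximalIdeal Os = Ideal.span {algebraMap R Os ϖ} := by
    rw [← IsLocalization.AtPrime.map_eq_maximalIdeal (f y).asIdeal Os, ← Set.image_singleton,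
      ← Ideal.map_span]
    congr 1
    rw [show (f y).asIdeal = IsLocalRing.maximalIdeal R from congrArg PrimeSpectrum.asIdeal hx]
    exact hϖ.maximalIdeal_eq
  have hinj : Function.Injective (algebraMap R Os) :=
    IsLocalization.injective Os (Ideal.primeCompl_le_nonZeroDivisors (f y).asIdeal)
  have : IsDomain Os := IsLocalization.isDomain_of_le_nonZeroDivisors (R := R) _
    (Ideal.primeCompl_le_nonZeroDivisors (f y).asIdeal)
  have hreg0 : IsSMulRegular Os (algebraMap R Os ϖ) := fun a b hab =>
    mul_left_cancel₀ ((map_ne_zero_iff _ hinj).mpr hϖ.ne_zero) hab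
  let φ : Os →+* X.presheaf.stalk y := (f.stalkMap y).hom
  have hflat : φ.Flat := Flat.stalkMap f y
  algebraize [φ]
  have hreg : IsSMulRegular (X.presheaf.stalk y) (φ (algebraMap R Os ϖ)) := fun a b hab =>
    hreg0.of_flat_of_isBaseChange (IsBaseChange.linearMap Os (X.presheaf.stalk y)) (by
      simpa [Algebra.smul_def, RingHom.algebraMap_toAlgebra] using hab)
  refine isReduced_of_mod (φ (algebraMap R Os ϖ)) (map_nonunit φ _ ?_) hreg ?_
  · rw [hmax]; exact Ideal.mem_span_singleton_self _
  · let ψ := ((f.fiberι (IsLocalRing.closedPoint R)).stalkMap z).hom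
    have hk : RingHom.ker ψ = Ideal.span {φ (algebraMap R Os ϖ)} := by
      refine (Groth.FlatDescent.ker_stalkMap_fiberι f _ z).trans ?_
      change Ideal.map φ (IsLocalRing.maximalIdeal Os) = _
      rw [hmax, Ideal.map_span, Set.image_singleton]
    have hsurj : Function.Surjective ψ := (f.fiberι (IsLocalRing.closedPoint R)).stalkMap_surjective z
    have e := (Ideal.quotEquivOfEq hk.symm).trans (RingHom.quotientKerEquivOfSurjective hsurj)
    exact isReduced_of_injective e.toRingHom e.injective

theorem isReduced_stalk_of_specializes {x c : X} (h : x ⤳ c) [_root_.IsReduced (X.presheaf.stalk c)] :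
    _root_.IsReduced (X.presheaf.stalk x) := by
  obtain ⟨_, ⟨V, hV, rfl⟩, hcV, -⟩ :=
    X.isBasis_affineOpens.exists_subset_of_mem_open (Set.mem_univ c) isOpen_univ
  have hxV : x ∈ V := h.mem_open V.isOpen hcV
  let := TopCat.Presheaf.algebra_section_stalk X.presheaf (⟨x, hxV⟩ : V)
  have := hV.isLocalization_stalk ⟨x, hxV⟩
  refine ⟨fun a ha => ?_⟩
  obtain ⟨n, hn⟩ := ha
  obtain ⟨⟨s, t⟩, hst⟩ := IsLocalization.surj (hV.primeIdealOf ⟨x, hxV⟩).asIdeal.primeCompl a
  have h0 : algebraMap Γ(X, V) (X.presheaf.stalk x) (s ^ n) = 0 := by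
    rw [map_pow, ← hst, mul_pow, hn, zero_mul]
  obtain ⟨u, hu⟩ := (IsLocalization.map_eq_zero_iff (hV.primeIdealOf ⟨x, hxV⟩).asIdeal.primeCompl _ _).mp h0
  have h1 : IsNilpotent (X.presheaf.germ V c hcV ((u : Γ(X, V)) * s)) := by
    refine ⟨n + 1, ?_⟩
    rw [← map_pow, mul_pow, pow_succ (u : Γ(X, V)), pow_succ s, show (u : Γ(X, V)) ^ n * u * (s ^ n * s) =
      (u : Γ(X, V)) ^ n * s * ((u : Γ(X, V)) * s ^ n) by ring, hu, mul_zero, map_zero]
  have h2 := congrArg (X.presheaf.stalkSpecializes h).hom h1.eq_zero
  rw [map_zero] at h2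
  change (X.presheaf.germ V c hcV ≫ X.presheaf.stalkSpecializes h) ((u : Γ(X, V)) * s) = 0 at h2
  rw [TopCat.Presheaf.germ_stalkSpecializes, map_mul] at h2
  change algebraMap Γ(X, V) (X.presheaf.stalk x) u * algebraMap Γ(X, V) (X.presheaf.stalk x) s = 0 at h2
  rw [(IsLocalization.map_units (X.presheaf.stalk x) u).mul_right_eq_zero, ← hst,
    (IsLocalization.map_units (X.presheaf.stalk x) t).mul_left_eq_zero] at h2
  exact h2

theorem main_thm [IsProper f] [Flat f] (hred : IsReduced (f.fiber (IsLocalRing.closedPoint R))) :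
    IsReduced X ∧ IsReduced (f.fiber (⟨⊥, Ideal.isPrime_bot⟩ : PrimeSpectrum R)) := by
  have : IsLocallyNoetherian X := LocallyOfFiniteType.isLocallyNoetherian f
  have : CompactSpace X := QuasiCompact.compactSpace_of_compactSpace f
  have hst : ∀ x : X, _root_.IsReduced (X.presheaf.stalk x) := fun x => by
    obtain ⟨c, hc, hcc⟩ := (isClosed_closure (s := {x})).exists_closed_singleton
      (Set.singleton_nonempty x).closure
    have hfc : f c = IsLocalRing.closedPoint R := by
      have h1 : IsClosed {f c} := by rw [← Set.image_singleton]; exact f.isClosedMap _ hcc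
      exact PrimeSpectrum.ext (IsLocalRing.eq_maximalIdeal
        ((f c).isClosed_singleton_iff_isMaximal.mp h1))
    have := isReduced_stalk_special f hred c hfc
    exact isReduced_stalk_of_specializes (specializes_iff_mem_closure.mpr hc)
  have hX : IsReduced X := isReduced_of_isReduced_stalk X
  refine ⟨hX, ?_⟩
  let η : Spec (CommRingCat.of R) := (⟨⊥, Ideal.isPrime_bot⟩ : PrimeSpectrum R)
  have hF : ∀ z : f.fiber η, _root_.IsReduced ((f.fiber η).presheaf.stalk z) := fun z => by
    let y := f.fiberι η z
    let ψ := ((f.fiberι η).stalkMap z).hom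
    have hy : f y = η := (f.range_fiberι η).le ⟨z, rfl⟩
    have hk : RingHom.ker ψ = ⊥ := by
      refine (Groth.FlatDescent.ker_stalkMap_fiberι f η z).trans ?_
      change Ideal.map (f.stalkMap y).hom (IsLocalRing.maximalIdeal _) = ⊥
      have : IsLocalRing.maximalIdeal ((Spec (CommRingCat.of R)).presheaf.stalk (f y)) = ⊥ := by
        let _ : Algebra R ((Spec (CommRingCat.of R)).presheaf.stalk (f y)) := StructureSheaf.stalkAlgebra R (f y)
        have hloc : IsLocalization.AtPrime ((Spec (CommRingCat.of R)).presheaf.stalk (f y)) (f y).asIdeal :=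
          StructureSheaf.IsLocalization.to_stalk R (f y)
        have hb : (f y).asIdeal = ⊥ := by rw [hy]
        rw [← IsLocalization.AtPrime.map_eq_maximalIdeal (f y).asIdeal, hb]
        exact Ideal.map_bot
      rw [this, Ideal.map_bot]
    have e := RingHom.quotientKerEquivOfSurjective (f := ψ) ((f.fiberι η).stalkMap_surjective z)
    have : _root_.IsReduced (X.presheaf.stalk y) := hst y
    have e' := ((RingEquiv.quotientBot _).symm.trans ((Ideal.quotEquivOfEq hk.symm).trans e)).symm
    exact isReduced_of_injective e'.toRingHom e'.injective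
  exact isReduced_of_isReduced_stalk (f.fiber η)

end Aux

open AlgebraicGeometry CategoryTheory Limits in
/-- For a proper flat morphism to the spectrum of a discrete valuation ring whose special fibre is
reduced, both the total space and the generic fibre are reduced. (The published statement is
stronger: instead of flatness it only needs every irreducible component of the total space to
dominate the base.) -/
theorem result {R : Type u} [CommRing R] [IsDomain R] [IsDiscreteValuationRing R] {X : Scheme.{u}}
    (f : X ⟶ Spec (CommRingCat.of R)) [IsProper f] [Flat f]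
    (hred : IsReduced (f.fiber (IsLocalRing.closedPoint R))) :
    IsReduced X ∧ IsReduced (f.fiber (⟨⊥, Ideal.isPrime_bot⟩ : PrimeSpectrum R)) := by
  exact main_thm f hred

end Groth.Agent.S0436
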