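import Groth.Statements.S0445
import Mathlib
-- import your own Groth.Agent.* helpers here

set_option autoImplicit false
universe u
open FlatMor

namespace Groth.Agent.S0445

open AlgebraicGeometry CategoryTheory Limits in
/-- Two morphisms over S into an S-scheme unramified over S which agree at a point and induce the same
map on residue fields there agree on an open neighbourhood of that point. -/
theorem result {X Y S : Scheme.{u}} (p : Y ⟶ S) [FormallyUnramified p] [LocallyOfFiniteType p] (f g : X ⟶ Y) (hfg : f ≫ p = g ≫ p)
    (x : X) (h1 : f x = g x) (h2 : f.residueFieldMap x = (Y.residueFieldCongr h1).hom ≫ g.residueFieldMap x) :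
    ∃ U : X.Opens, x ∈ U ∧ U.ι ≫ f = U.ι ≫ g := by
  let E := pullback.diagonal p
  let φ : X ⟶ pullback p p := pullback.lift f g hfg
  let T : X.Opens := φ ⁻¹ᵁ E.opensRange
  have hT : T.ι ≫ f = T.ι ≫ g := by
    have hr : Set.range (T.ι ≫ φ) ⊆ Set.range E := by
      rintro _ ⟨t, rfl⟩; exact t.2
    have hl := IsOpenImmersion.lift_fac E (T.ι ≫ φ) hr
    have e1 := congr($hl ≫ pullback.fst p p)
    have e2 := congr($hl ≫ pullback.snd p p)
    rw [Category.assoc, pullback.diagonal_fst, Category.comp_id, Category.assoc, pullback.lift_fst] at e1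
    rw [Category.assoc, pullback.diagonal_snd, Category.comp_id, Category.assoc, pullback.lift_snd] at e2
    exact e1.symm.trans e2
  refine ⟨T, ?_, hT⟩
  let j := X.fromSpecResidueField x
  have hj : j ≫ f = j ≫ g := by
    rw [← f.SpecMap_residueFieldMap_fromSpecResidueField x, ← g.SpecMap_residueFieldMap_fromSpecResidueField x, h2,
      Spec.map_comp, Category.assoc, Scheme.residueFieldCongr_fromSpecResidueField h1]
  have hk : (j ≫ f) ≫ E = j ≫ φ := by
    apply pullback.hom_ext
    · rw [Category.assoc, pullback.diagonal_fst, Category.comp_id, Category.assoc, pullback.lift_fst]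
    · rw [Category.assoc, pullback.diagonal_snd, Category.comp_id, Category.assoc, pullback.lift_snd, hj]
  refine ⟨(j ≫ f) (IsLocalRing.closedPoint (X.residueField x)), ?_⟩
  have := congrArg (fun m : Spec (X.residueField x) ⟶ pullback p p => m (IsLocalRing.closedPoint (X.residueField x))) hk
  exact this.trans (congrArg φ (Scheme.fromSpecResidueField_apply x _))

end Groth.Agent.S0445
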