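import Groth.Statements.S0448
import Mathlib

set_option autoImplicit false
universe u
open FlatMor

namespace Groth.Agent.S0448

open TensorProduct IsLocalRing

/-- Elements of a flat module independent modulo the maximal ideal have no relations in any tensor product. -/
theorem eq_zero_of_sum_tmul {R N Q : Type u} [CommRing R] [IsLocalRing R] [AddCommGroup N] [Module R N]
    [Module.Flat R N] [AddCommGroup Q] [Module R Q] {ι : Type*} [Fintype ι] [DecidableEq ι] (y : ι → N)
    (hy : ∀ c : ι → ResidueField R, ∑ i, c i ⊗ₜ[R] y i = 0 → c = 0)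
    (q : ι → Q) (h : ∑ i, y i ⊗ₜ[R] q i = 0) : q = 0 := by
  let φ : (ι → R) →ₗ[R] Q := Fintype.linearCombination R q
  have h0 : φ.lTensor N (∑ i, y i ⊗ₜ[R] Pi.single i 1) = 0 := by
    rw [map_sum, ← h]
    simp [φ, Fintype.linearCombination_apply_single]
  obtain ⟨w, hw⟩ := (Module.Flat.lTensor_exact N (LinearMap.exact_subtype_ker_map φ) _).1 h0
  obtain ⟨s, rfl⟩ := TensorProduct.exists_finset w
  have hyi : ∀ i, y i = ∑ p ∈ s, (p.2 : ι → R) i • p.1 := fun i => by
    have := congrArg (fun z => TensorProduct.rid R N ((LinearMap.proj (R := R) (φ := fun _ : ι => R) i).lTensor N z)) hw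
    simp only [map_sum, LinearMap.lTensor_tmul, LinearMap.proj_apply, Submodule.subtype_apply,
      TensorProduct.rid_tmul] at this
    rw [this]
    simp [Pi.single_apply]
  let W : Submodule (ResidueField R) (ι → ResidueField R) :=
    Submodule.span _ (Set.range fun κ : LinearMap.ker φ => fun i => residue R ((κ : ι → R) i))
  have hW : W = ⊤ := by
    by_contra hW
    obtain ⟨f, hf0, hf⟩ := Submodule.exists_le_ker_of_lt_top W (lt_top_iff_ne_top.2 hW)
    refine hf0 (LinearMap.pi_ext' fun i => LinearMap.ext_ring ?_)
    suffices hc : (fun i => f (Pi.single i 1)) = 0 from by simpa using congrFun hc i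
    refine hy _ ?_
    simp_rw [hyi, TensorProduct.tmul_sum, TensorProduct.tmul_smul, TensorProduct.smul_tmul']
    rw [Finset.sum_comm]
    refine Finset.sum_eq_zero fun p _ => ?_
    rw [← TensorProduct.sum_tmul]
    suffices hz : ∑ i, (p.2 : ι → R) i • f (Pi.single i 1) = 0 by rw [hz, zero_tmul]
    have h1 : f (fun i => residue R ((p.2 : ι → R) i)) = 0 := hf (Submodule.subset_span ⟨p.2, rfl⟩)
    rw [← (Pi.basisFun (ResidueField R) ι).sum_repr (fun i => residue R ((p.2 : ι → R) i)), map_sum] at h1
    simp only [map_smul, Pi.basisFun_apply, Pi.basisFun_repr, smul_eq_mul] at h1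
    simpa only [Algebra.smul_def, ResidueField.algebraMap_eq] using h1
  have hle : (⊤ : Submodule R (ι → R)) ≤ LinearMap.ker φ ⊔ maximalIdeal R • (⊤ : Submodule R (ι → R)) := by
    intro v _
    have hv : (fun i => residue R (v i)) ∈ W := hW ▸ Submodule.mem_top
    have key : ∀ x ∈ W, ∀ v : ι → R, (fun i => residue R (v i)) = x →
        v ∈ LinearMap.ker φ ⊔ maximalIdeal R • (⊤ : Submodule R (ι → R)) := by
      have hm : ∀ v : ι → R, (∀ i, residue R (v i) = 0) → v ∈ maximalIdeal R • (⊤ : Submodule R (ι → R)) := by
        intro v hv
        rw [← (Pi.basisFun R ι).sum_repr v]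
        exact sum_mem fun i _ => Submodule.smul_mem_smul
          (Ideal.Quotient.eq_zero_iff_mem.1 (hv i)) Submodule.mem_top
      intro x hx
      induction hx using Submodule.span_induction with
      | mem x hx =>
        obtain ⟨κ, rfl⟩ := hx
        intro v hv
        rw [← add_sub_cancel (κ : ι → R) v]
        exact add_mem (Submodule.mem_sup_left κ.2) (Submodule.mem_sup_right (hm _ fun i => by
          simp [congrFun hv i]))
      | zero => exact fun v hv => Submodule.mem_sup_right (hm _ (congrFun hv))
      | add x x' _ _ hx hx' =>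
        intro v hv
        choose l hl using fun i => residue_surjective (x i)
        rw [← add_sub_cancel l v]
        refine add_mem (hx l (funext hl)) (hx' _ (funext fun i => ?_))
        simp [congrFun hv i, hl i]
      | smul a x _ hx =>
        intro v hv
        obtain ⟨a, rfl⟩ := residue_surjective a
        choose l hl using fun i => residue_surjective (x i)
        rw [← add_sub_cancel (a • l) v]
        refine add_mem (Submodule.smul_mem _ a (hx l (funext hl))) (Submodule.mem_sup_right (hm _ fun i => ?_))
        simp [congrFun hv i, hl i]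
    exact key _ hv v rfl
  have htop : LinearMap.ker φ = ⊤ := top_le_iff.1
    (Submodule.le_of_le_smul_of_le_jacobson_bot Module.Finite.fg_top
      (IsLocalRing.jacobson_eq_maximalIdeal ⊥ bot_ne_top).ge hle)
  funext i
  have : φ (Pi.single i 1) = 0 := (htop ▸ Submodule.mem_top : Pi.single i 1 ∈ LinearMap.ker φ)
  simpa [φ, Fintype.linearCombination_apply_single] using this

open TensorProduct in
/-- Over a local ring, a linear map from a projective module to a flat module which is injective modulo
the maximal ideal is universally injective (injective after tensoring with any module). -/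
theorem result {R M N : Type u} [CommRing R] [IsLocalRing R] [AddCommGroup M] [Module R M] [Module.Projective R M]
    [AddCommGroup N] [Module R N] [Module.Flat R N] (u : M →ₗ[R] N)
    (h : Function.Injective (LinearMap.lTensor (IsLocalRing.ResidueField R) u)) :
    ∀ (Q : Type u) [AddCommGroup Q] [Module R Q], Function.Injective (LinearMap.rTensor Q u) := by
  classical
  intro Q _ _
  obtain ⟨p, hp⟩ := Module.projective_lifting_property (Finsupp.linearCombination R (id : M → M)) LinearMap.id
    (fun m => ⟨Finsupp.single m 1, by simp⟩)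
  let π := Finsupp.linearCombination R (id : M → M)
  let v : (M →₀ R) →ₗ[R] N × (M →₀ R) := (u ∘ₗ π).prod (LinearMap.id - p ∘ₗ π)
  have hvp : v ∘ₗ p = LinearMap.inl R N (M →₀ R) ∘ₗ u := by
    refine LinearMap.ext fun m => ?_
    have := LinearMap.congr_fun hp m
    simp only [LinearMap.comp_apply, LinearMap.id_apply] at this
    simp [v, π, this]
  have hvk : Function.Injective (v.lTensor (ResidueField R)) := by
    rw [injective_iff_map_eq_zero]
    intro z hz
    have h1 : (u ∘ₗ π).lTensor (ResidueField R) z = 0 := by
      rw [show u ∘ₗ π = LinearMap.fst R N (M →₀ R) ∘ₗ v by simp [v], LinearMap.lTensor_comp,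
        LinearMap.comp_apply, hz, map_zero]
    have h2 : (LinearMap.id - p ∘ₗ π).lTensor (ResidueField R) z = 0 := by
      rw [show LinearMap.id - p ∘ₗ π = LinearMap.snd R N (M →₀ R) ∘ₗ v by simp [v], LinearMap.lTensor_comp,
        LinearMap.comp_apply, hz, map_zero]
    have h3 : π.lTensor (ResidueField R) z = 0 := h (by rw [← LinearMap.comp_apply, ← LinearMap.lTensor_comp, h1, map_zero])
    rw [LinearMap.lTensor_sub, LinearMap.sub_apply, LinearMap.lTensor_id, LinearMap.id_apply,
      LinearMap.lTensor_comp, LinearMap.comp_apply, h3, map_zero, sub_zero] at h2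
    exact h2
  suffices hv : Function.Injective (v.rTensor Q) by
    refine Function.Injective.of_comp (f := (LinearMap.inl R N (M →₀ R)).rTensor Q) ?_
    rw [← LinearMap.coe_comp, ← LinearMap.rTensor_comp, ← hvp, LinearMap.rTensor_comp, LinearMap.coe_comp]
    refine hv.comp (Function.HasLeftInverse.injective ⟨π.rTensor Q, fun x => ?_⟩)
    rw [← LinearMap.comp_apply, ← LinearMap.rTensor_comp, hp, LinearMap.rTensor_id, LinearMap.id_apply]
  haveI : Module.Flat R (N × (M →₀ R)) := Module.Flat.iff_rTensor_injective.2 fun I hI => by
    refine Function.Injective.of_comp (f := (TensorProduct.prodRight R R R N (M →₀ R))) ?_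
    have h1 := Module.Flat.rTensor_preserves_injective_linearMap (M := N) I.subtype I.injective_subtype
    have h2 := Module.Flat.rTensor_preserves_injective_linearMap (M := M →₀ R) I.subtype I.injective_subtype
    intro a b hab
    refine (TensorProduct.prodRight R R I N (M →₀ R)).injective ?_
    have key : ∀ z, TensorProduct.prodRight R R R N (M →₀ R) (I.subtype.rTensor _ z) =
        Prod.map (I.subtype.rTensor N) (I.subtype.rTensor (M →₀ R)) (TensorProduct.prodRight R R I N (M →₀ R) z) := fun z => by
      induction z using TensorProduct.induction_on with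
      | zero => simp only [map_zero]; exact (Prod.ext (map_zero _) (map_zero _)).symm
      | tmul a b => simp
      | add a b ha hb => simp [ha, hb, Prod.map]
    simp only [Function.comp_apply, key] at hab
    exact Prod.map_injective.2 ⟨h1, h2⟩ hab
  rw [injective_iff_map_eq_zero]
  intro x hx
  rw [← (TensorProduct.finsuppScalarLeft R Q M).symm_apply_apply x] at hx ⊢
  set g := TensorProduct.finsuppScalarLeft R Q M x
  have hg : (TensorProduct.finsuppScalarLeft R Q M).symm g = ∑ i : g.support, Finsupp.single (i : M) (1 : R) ⊗ₜ[R] g i := by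
    conv_lhs => rw [← g.sum_single, Finsupp.sum]
    rw [map_sum, ← Finset.sum_coe_sort]
    simp [TensorProduct.finsuppScalarLeft_symm_apply_single]
  rw [hg] at hx ⊢
  rw [map_sum] at hx
  simp only [LinearMap.rTensor_tmul] at hx
  have := eq_zero_of_sum_tmul (fun i : g.support => v (Finsupp.single (i : M) 1)) (fun c hc => ?_) _ hx
  · exact Finset.sum_eq_zero fun i _ => by rw [congrFun this i, Pi.zero_apply, tmul_zero]
  · have h0 : (∑ i : g.support, c i ⊗ₜ[R] Finsupp.single (i : M) (1 : R)) = 0 :=
      hvk (by simpa using hc)
    funext j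
    have := congrArg (fun z => TensorProduct.finsuppScalarRight R R (ResidueField R) M z (j : M)) h0
    simpa [Finset.sum_apply', TensorProduct.finsuppScalarRight_apply_tmul_apply, Finsupp.single_apply, ← Subtype.ext_iff] using this

end Groth.Agent.S0448
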