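import Groth.Statements.S18734
import Mathlib
-- import your own Groth.Agent.* helpers here

set_option autoImplicit false
universe u
open CategoryTheory CategoryTheory.Limits AlgebraicGeometry TopologicalSpace
open ModPair

namespace Groth.Agent.S18734

open scoped TensorProduct

theorem exists_dvd_all {R : Type u} [CommRing R] [IsDomain R] [ValuationRing R] (c : ℕ → R) :
    ∀ s : Finset ℕ, s.Nonempty → ∃ i ∈ s, ∀ j ∈ s, c i ∣ c j := by
  intro s hs
  induction hs using Finset.Nonempty.cons_induction with
  | singleton a => exact ⟨a, by simp⟩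
  | cons a t ha ht ih =>
    obtain ⟨i, hi, h⟩ := ih
    rcases ValuationRing.dvd_total (c a) (c i) with h' | h'
    · refine ⟨a, Finset.mem_cons_self _ _, fun j hj => ?_⟩
      rcases Finset.mem_cons.mp hj with rfl | hj
      · exact dvd_rfl
      · exact h'.trans (h j hj)
    · refine ⟨i, Finset.mem_cons_of_mem hi, fun j hj => ?_⟩
      rcases Finset.mem_cons.mp hj with rfl | hj
      · exact h'
      · exact h j hj

/-- An element integral over the generic fibre is killed by a polynomial with a coefficient equal to one. -/
theorem exists_poly {R : Type u} [CommRing R] [IsDomain R] [ValuationRing R] {A : Type u} [CommRing A] [Algebra R A]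
    [Module.Flat R A] (a : A)
    (ha : (Algebra.TensorProduct.includeRight : FractionRing R →ₐ[R] A ⊗[R] FractionRing R).toRingHom.IsIntegralElem (a ⊗ₜ 1)) :
    ∃ g : Polynomial R, Polynomial.aeval a g = 0 ∧ ∃ i, g.coeff i = 1 := by
  classical
  obtain ⟨q, hq, hq'⟩ := ha
  obtain ⟨b, hb⟩ := IsLocalization.integerNormalization_map_to_map (nonZeroDivisors R) q
  let g0 := IsLocalization.integerNormalization (nonZeroDivisors R) q
  have hg0 : g0 ≠ 0 := fun h => by
    change g0.map _ = _ at hb
    rw [h, Polynomial.map_zero] at hb
    have h1 := congrArg (fun p => Polynomial.coeff p q.natDegree) hb.symm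
    simp [hq.coeff_natDegree, Algebra.smul_def] at h1
  have hinj : Function.Injective (Algebra.TensorProduct.includeLeft : A →ₐ[R] A ⊗[R] FractionRing R) := by
    intro x y hxy
    have h := Module.Flat.lTensor_preserves_injective_linearMap (M := A) (Algebra.linearMap R (FractionRing R))
      (IsFractionRing.injective R (FractionRing R))
    apply (TensorProduct.rid R A).symm.injective
    apply h
    simpa using hxy
  have h0 : Polynomial.aeval a g0 = 0 := by
    apply hinj
    rw [map_zero, ← Polynomial.aeval_algHom_apply, Polynomial.aeval_def,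
      show algebraMap R (A ⊗[R] FractionRing R) = (Algebra.TensorProduct.includeRight :
        FractionRing R →ₐ[R] A ⊗[R] FractionRing R).toRingHom.comp (algebraMap R (FractionRing R)) from
        ((Algebra.TensorProduct.includeRight : FractionRing R →ₐ[R] A ⊗[R] FractionRing R).comp_algebraMap).symm,
      ← Polynomial.eval₂_map]
    change g0.map _ = _ at hb
    rw [hb, Algebra.smul_def, Polynomial.eval₂_mul]
    exact mul_eq_zero_of_right _ hq'
  obtain ⟨i, hi, hdvd⟩ := exists_dvd_all g0.coeff g0.support (Polynomial.support_nonempty.mpr hg0)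
  have hci : g0.coeff i ≠ 0 := Polynomial.mem_support_iff.mp hi
  obtain ⟨g, hg⟩ : Polynomial.C (g0.coeff i) ∣ g0 := Polynomial.C_dvd_iff_dvd_coeff _ _ |>.mpr fun j => by
    by_cases hj : j ∈ g0.support
    · exact hdvd j hj
    · rw [Polynomial.notMem_support_iff.mp hj]; exact dvd_zero _
  refine ⟨g, ?_, i, ?_⟩
  · rw [hg, map_mul, Polynomial.aeval_C] at h0
    have h := Module.Flat.lTensor_preserves_injective_linearMap (M := A) (LinearMap.mulLeft R (g0.coeff i))
      (mul_right_injective₀ hci)
    apply (TensorProduct.rid R A).symm.injective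
    apply h
    apply (TensorProduct.rid R A).injective
    simpa [Algebra.smul_def] using h0
  · have h := congrArg (fun p => Polynomial.coeff p i) hg
    simp only [Polynomial.coeff_C_mul] at h
    exact mul_left_cancel₀ hci (h.symm.trans (mul_one _).symm)

theorem quasiFinite {R : Type u} [CommRing R] [IsDomain R] [ValuationRing R] {A : Type u} [CommRing A] [Algebra R A]
    [Module.Flat R A] [Algebra.FiniteType R A]
    (h : ∀ a : A, (Algebra.TensorProduct.includeRight : FractionRing R →ₐ[R] A ⊗[R] FractionRing R).toRingHom.IsIntegralElem (a ⊗ₜ 1)) :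
    Algebra.QuasiFinite R A := by
  refine ⟨fun P _ => ?_⟩
  haveI : Algebra.IsIntegral P.ResidueField (P.Fiber A) := by
    refine ⟨fun x => ?_⟩
    induction x using TensorProduct.induction_on with
    | zero => exact isIntegral_zero
    | add x y hx hy => exact hx.add hy
    | tmul c a =>
      obtain ⟨g, hg, i, hi⟩ := exists_poly a (h a)
      have h1 : IsAlgebraic P.ResidueField ((1 : P.ResidueField) ⊗ₜ[R] a : P.Fiber A) := by
        refine ⟨g.map (algebraMap R P.ResidueField), fun h0 => ?_, ?_⟩
        · have := congrArg (fun p => Polynomial.coeff p i) h0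
          simp [hi] at this
        · rw [Polynomial.aeval_map_algebraMap]
          show Polynomial.aeval ((Algebra.TensorProduct.includeRight : A →ₐ[R] P.Fiber A) a) g = 0
          rw [Polynomial.aeval_algHom_apply, hg, map_zero]
      have h2 := (isIntegral_algebraMap (R := P.ResidueField) (A := P.Fiber A) (x := c)).mul
        (isAlgebraic_iff_isIntegral.mp h1)
      rwa [Algebra.TensorProduct.algebraMap_apply, Algebra.TensorProduct.tmul_mul_tmul, one_mul, mul_one] at h2
  exact Algebra.IsIntegral.finite

/-- Let R be a valuation ring with fraction field K and f : Y ⟶ Spec R a morphism of schemes which is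
flat, proper and generically finite (the generic fibre Y ×_{Spec R} Spec K ⟶ Spec K is a finite
morphism). Then f is finite. No finite-presentation hypothesis is assumed. -/
theorem result {R : Type u} [CommRing R]
    [IsDomain R] [ValuationRing R] {Y : Scheme.{u}} (f : Y ⟶ Spec (CommRingCat.of R)) [Flat f] [IsProper f]
    (hgen : IsFinite (pullback.snd f
      (Spec.map (CommRingCat.ofHom (algebraMap R (FractionRing R)))))) :
    IsFinite f := by
  suffices LocallyQuasiFinite f from IsFinite.of_isProper_of_locallyQuasiFinite f
  let K := Spec.map (CommRingCat.ofHom (algebraMap R (FractionRing R)))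
  have key : ∀ {A : CommRingCat.{u}} (φ : CommRingCat.of R ⟶ A), φ.hom.Flat → φ.hom.FiniteType →
      LocallyQuasiFinite (pullback.snd (Spec.map φ) K) → LocallyQuasiFinite (Spec.map φ) := by
    intro A φ hflat hft hsnd
    refine (HasRingHomProperty.Spec_iff (P := @LocallyQuasiFinite)).mpr ?_
    algebraize [φ.hom]
    have h := MorphismProperty.cancel_left_of_respectsIso @LocallyQuasiFinite (pullbackSpecIso R A (FractionRing R)).inv
      (pullback.snd (Spec.map (CommRingCat.ofHom (algebraMap R A))) K)
    rw [pullbackSpecIso_inv_snd] at h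
    have h2 := (HasRingHomProperty.Spec_iff (P := @LocallyQuasiFinite)).mp (h.mpr hsnd)
    refine quasiFinite fun a => ?_
    let _ : Algebra (FractionRing R) (A ⊗[R] FractionRing R) := Algebra.TensorProduct.rightAlgebra
    haveI : Algebra.QuasiFinite (FractionRing R) (A ⊗[R] FractionRing R) := h2
    haveI := Module.Finite.of_quasiFinite (R := FractionRing R) (S := A ⊗[R] FractionRing R)
    exact Algebra.IsIntegral.isIntegral (R := FractionRing R) _
  refine (IsZariskiLocalAtSource.iff_of_openCover (P := @LocallyQuasiFinite) Y.affineCover).mpr fun i => ?_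
  let g := Y.affineCover.f i ≫ f
  have hsnd : LocallyQuasiFinite (pullback.snd g K) := by
    rw [← pullbackRightPullbackFstIso_inv_snd_snd f K (Y.affineCover.f i)]
    haveI : LocallyQuasiFinite (pullback.snd f K) := inferInstance
    infer_instance
  obtain ⟨φ, hφ⟩ : ∃ φ, Spec.map φ = g := ⟨_, Spec.map_preimage g⟩
  show LocallyQuasiFinite g
  rw [← hφ] at hsnd ⊢
  refine key φ ?_ ?_ hsnd
  · refine (HasRingHomProperty.Spec_iff (P := @Flat)).mp ?_
    rw [hφ]; show Flat (Y.affineCover.f i ≫ f); infer_instance
  · refine (HasRingHomProperty.Spec_iff (P := @LocallyOfFiniteType)).mp ?_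
    rw [hφ]; show LocallyOfFiniteType (Y.affineCover.f i ≫ f); infer_instance

end Groth.Agent.S18734
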