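import Groth.Statements.S0450
import Groth.Agent.DimZeroFin.Basic
import Groth.Agent.VTop.Basic
import Groth.Agent.FibConstr.Dim
import Groth.Agent.S18734
-- import your own Groth.Agent.* helpers here

set_option autoImplicit false
universe u
open FlatMor

namespace Groth.Agent.S0450

open AlgebraicGeometry CategoryTheory Limits in
/-- A flat proper morphism locally of finite presentation that is finite over a dense open subset of the
target is finite (the source alternatively allows the open to be retrocompact instead of assuming
finite presentation; only this alternative is stated). -/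
theorem result {X S : Scheme.{u}} (f : X ⟶ S) [Flat f] [IsProper f] [LocallyOfFinitePresentation f] (U : S.Opens)
    (hU : Dense (U : Set ↑S)) [IsFinite (f ∣_ U)] : IsFinite f := by
    have hqf : ∀ y, (f.base ⁻¹' {y}).Finite ↔ ¬ ((1 : ℕ) : WithBot ℕ∞) ≤ topologicalKrullDim ↥(f.fiber y) := by
      intro y
      haveI : LocallyOfFiniteType (f.fiberToSpecResidueField y) :=
        MorphismProperty.of_isPullback (IsPullback.of_hasPullback f (S.fromSpecResidueField y)) (inferInstanceAs (LocallyOfFiniteType f))
      haveI : QuasiCompact (f.fiberToSpecResidueField y) :=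
        MorphismProperty.of_isPullback (IsPullback.of_hasPullback f (S.fromSpecResidueField y)) (inferInstanceAs (QuasiCompact f))
      haveI : IsLocallyNoetherian (f.fiber y) := LocallyOfFiniteType.isLocallyNoetherian (f.fiberToSpecResidueField y)
      haveI : CompactSpace (f.fiber y) := QuasiCompact.compactSpace_of_compactSpace (f.fiberToSpecResidueField y)
      haveI : IsNoetherian (f.fiber y) := { }
      constructor
      · intro hfin hle
        haveI : Finite (f.fiber y) := (f.fiberHomeo y).finite_iff.mpr hfin
        have h0 : topologicalKrullDim ↥(f.fiber y) ≤ 0 := by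
          refine Order.krullDim_nonpos_iff_forall_isMax.2 fun a b hab => ?_
          obtain ⟨p, hp⟩ := a.isIrreducible.nonempty
          intro q hq
          have hs : (b : Set ↥(f.fiber y)).Subsingleton :=
            isPreirreducible_iff_subsingleton.1 b.isIrreducible.isPreirreducible
          rw [hs hq (hab hp)]
          exact hp
        exact absurd (hle.trans h0) (by norm_num)
      · intro hn
        have h0 : topologicalKrullDim ↥(f.fiber y) ≤ 0 := by
          generalize topologicalKrullDim ↥(f.fiber y) = d at hn
          induction d with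
          | bot => exact bot_le
          | coe d =>
            induction d using ENat.recTopCoe with
            | top => exact absurd (WithBot.coe_le_coe.2 le_top) hn
            | coe k =>
              rcases Nat.eq_zero_or_pos k with rfl | hk
              · exact le_rfl
              · exact absurd (WithBot.coe_le_coe.2 (Nat.cast_le.2 hk)) hn
        haveI : DiscreteTopology (f.fiber y) := DimZeroFin.discreteTopology_of_forall_specializes
          fun a b hab => DimZeroFin.eq_of_specializes_of_dim_le_zero h0 hab
        haveI : Finite (f.fiber y) := finite_of_compact_of_discrete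
        exact Set.finite_coe_iff.1 (Finite.of_equiv _ (f.fiberHomeo y).toEquiv)
    let N : Set S := {y | ((1 : ℕ) : WithBot ℕ∞) ≤ topologicalKrullDim ↥(f.fiber y)}
    have hgen : StableUnderGeneralization N := by
      intro y y' hyy hy
      by_contra hy'
      obtain ⟨V, hV, hfinV⟩ := exists_isFinite_morphismRestrict_of_finite_preimage_singleton f y' ((hqf y').2 hy')
      obtain ⟨W, _, _, g, hg₁, hg₂⟩ := VTop.exists_valuationRing hyy
      let K := Spec.map (CommRingCat.ofHom (algebraMap W (FractionRing W)))
      have hfK : IsFinite (pullback.snd (pullback.snd f g) K) := by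
        have hr : Set.range (K ≫ g) ⊆ Set.range V.ι := by
          rintro _ ⟨z, rfl⟩
          rw [Scheme.Opens.range_ι]
          have : K z = ⟨⊥, Ideal.isPrime_bot⟩ := by
            apply PrimeSpectrum.ext
            show Ideal.comap (algebraMap W (FractionRing W)) z.asIdeal = ⊥
            rw [(Ideal.eq_bot_or_top z.asIdeal).resolve_right z.2.ne_top, ← RingHom.ker_eq_comap_bot]
            exact (RingHom.injective_iff_ker_eq_bot _).1 (IsFractionRing.injective W (FractionRing W))
          rw [Scheme.Hom.comp_apply, this, hg₁]
          exact hV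
        have h1 := (IsPullback.of_hasPullback (pullback.snd f g) K).paste_horiz (IsPullback.of_hasPullback f g)
        have hr' : Set.range (pullback.fst (pullback.snd f g) K ≫ pullback.fst f g) ⊆ Set.range (f ⁻¹ᵁ V).ι := by
              rintro _ ⟨z, rfl⟩
              rw [Scheme.Opens.range_ι]
              show f _ ∈ V
              rw [← Scheme.Hom.comp_apply, h1.w, Scheme.Hom.comp_apply]
              have := hr ⟨pullback.snd (pullback.snd f g) K z, rfl⟩
              rwa [Scheme.Opens.range_ι] at this
        obtain ⟨l, hl⟩ : ∃ l, l ≫ (f ⁻¹ᵁ V).ι = pullback.fst (pullback.snd f g) K ≫ pullback.fst f g :=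
          ⟨_, IsOpenImmersion.lift_fac _ _ hr'⟩
        obtain ⟨m, hm⟩ : ∃ m, m ≫ V.ι = K ≫ g := ⟨_, IsOpenImmersion.lift_fac _ _ hr⟩
        have h2 : IsPullback l (pullback.snd (pullback.snd f g) K) (f ∣_ V) m := by
          refine IsPullback.of_right ?_ ?_ (isPullback_morphismRestrict f V).flip
          · rw [hl, hm]; exact h1
          · rw [← cancel_mono V.ι, Category.assoc, morphismRestrict_ι, reassoc_of% hl, Category.assoc, hm]
            exact h1.w
        exact MorphismProperty.of_isPullback h2 hfinV
      haveI : IsFinite (pullback.snd f g) := S18734.result (pullback.snd f g) hfK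
      refine (hqf y).1 ?_ hy
      refine ((IsFinite.finite_preimage_singleton (pullback.snd f g) (IsLocalRing.closedPoint W)).image (pullback.fst f g)).subset ?_
      intro x hx
      obtain ⟨z, hz1, hz2⟩ := Scheme.Pullback.exists_preimage_pullback (f := f) (g := g) x (IsLocalRing.closedPoint W)
        ((show f x = y from hx).trans hg₂.symm)
      exact ⟨z, hz2, hz1⟩
    have hopen : IsOpen N := by
      rw [isOpen_iff_forall_mem_open]
      intro y hy
      obtain ⟨A, hA, hyA, -⟩ := exists_isAffineOpen_mem_and_subset (X := S) (x := y) (U := ⊤) trivial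
      have hc : Topology.IsLocallyConstructible (hA.fromSpec ⁻¹' N) :=
        (FibConstr.isLocallyConstructible_le_dim f 1).preimage_of_isOpenEmbedding hA.fromSpec.isOpenEmbedding
      have ho : IsOpen (hA.fromSpec ⁻¹' N) := PrimeSpectrum.isOpen_of_stableUnderGeneralization_of_isConstructible
        (fun a b hab hb => hgen (hab.map hA.fromSpec.continuous) hb) hc.isConstructible
      refine ⟨hA.fromSpec '' (hA.fromSpec ⁻¹' N), Set.image_preimage_subset _ _,
        hA.fromSpec.isOpenEmbedding.isOpenMap _ ho, ?_⟩
      rw [Set.image_preimage_eq_inter_range, hA.range_fromSpec]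
      exact ⟨hy, hyA⟩
    have hN : N = ∅ := by
      by_contra hne
      obtain ⟨y, hy, hyU⟩ := hU.inter_open_nonempty N hopen (Set.nonempty_iff_ne_empty.2 hne)
      refine (hqf y).1 ?_ hy
      refine ((IsFinite.finite_preimage_singleton (f ∣_ U) ⟨y, hyU⟩).image (f ⁻¹ᵁ U).ι).subset ?_
      intro x hx
      have hxU : x ∈ f ⁻¹ᵁ U := show f x ∈ U from (show f x = y from hx).symm ▸ hyU
      refine ⟨⟨x, hxU⟩, ?_, rfl⟩
      apply U.ι.isOpenEmbedding.injective
      show ((f ∣_ U) ≫ U.ι) ⟨x, hxU⟩ = y
      rw [morphismRestrict_ι]
      exact hx
    haveI : LocallyQuasiFinite f := by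
      rw [← Scheme.Hom.quasiFiniteLocus_eq_top_iff]
      ext x
      simp only [TopologicalSpace.Opens.coe_top, Set.mem_univ, iff_true]
      have hfin := (hqf (f x)).2 fun h => (Set.eq_empty_iff_forall_notMem.1 hN (f x)) h
      haveI : Finite (f.fiber (f x)) := (f.fiberHomeo (f x)).finite_iff.mpr hfin
      exact Scheme.Hom.quasiFiniteAt_iff_isOpen_singleton_asFiber.mpr (isOpen_discrete _)
    exact IsFinite.of_isProper_of_locallyQuasiFinite f

end Groth.Agent.S0450
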