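import Groth.Statements.S0457
import Groth.Agent.CohVanish.Global
-- import your own Groth.Agent.* helpers here

set_option autoImplicit false
universe u
open CategoryTheory
open CohTop

namespace Groth.Agent.S0457

theorem isFlasque_const {X : TopCat.{u}} [IrreducibleSpace X] (A : Type u) [AddCommGroup A] :
    TopCat.Sheaf.IsFlasque (CohTop.const X A) := by
  classical
  let J := Opens.grothendieckTopology X
  let P : (TopologicalSpace.Opens X)ᵒᵖ ⥤ AddCommGrpCat.{u} := (Functor.const _).obj (AddCommGrpCat.of A)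
  let η : P ⟶ (CohTop.const X A).obj := toSheafify J P
  haveI : Presheaf.IsLocallySurjective J η := inferInstanceAs (Presheaf.IsLocallySurjective J (toSheafify J P))
  haveI : Presheaf.IsLocallyInjective J η := inferInstanceAs (Presheaf.IsLocallyInjective J (toSheafify J P))
  have hinj : ∀ (W : TopologicalSpace.Opens X) (a b : A), (W : Set X).Nonempty →
      η.app (Opposite.op W) a = η.app (Opposite.op W) b → a = b := by
    rintro W a b ⟨x, hx⟩ h
    obtain ⟨V, g, hg, -⟩ := Presheaf.equalizerSieve_mem J η a b h x hx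
    exact hg
  refine ⟨fun {U V} i => (AddCommGrpCat.epi_iff_surjective _).2 fun t => ?_⟩
  have hloc : ∀ x ∈ V.unop, ∃ (W : TopologicalSpace.Opens X) (g : W ⟶ V.unop) (a : A), x ∈ W ∧
      η.app (Opposite.op W) a = (CohTop.const X A).obj.map g.op t := fun x hx => by
    obtain ⟨W, g, ⟨a, ha⟩, hxW⟩ := Presheaf.imageSieve_mem J η t x hx
    exact ⟨W, g, a, hxW, ha⟩
  by_cases hV : (V.unop : Set X).Nonempty
  · obtain ⟨x, hx⟩ := hV
    obtain ⟨W, g, a, hxW, ha⟩ := hloc x hx
    refine ⟨η.app U a, ?_⟩
    refine TopCat.Presheaf.section_ext (CohTop.const X A) V.unop _ _ fun y hy => ?_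
    obtain ⟨W', g', a', hyW', ha'⟩ := hloc y hy
    obtain ⟨z, hz, hz'⟩ := nonempty_preirreducible_inter W.2 W'.2 ⟨x, hxW⟩ ⟨y, hyW'⟩
    have e : a = a' := hinj (W ⊓ W') a a' ⟨z, hz, hz'⟩ (by
      have h1 := congr($(η.naturality (homOfLE (inf_le_left : W ⊓ W' ≤ W)).op) a)
      have h2 := congr($(η.naturality (homOfLE (inf_le_right : W ⊓ W' ≤ W')).op) a')
      refine h1.trans (Eq.trans ?_ h2.symm)
      show (CohTop.const X A).obj.map _ (η.app _ a) = (CohTop.const X A).obj.map _ (η.app _ a')
      rw [ha, ha', ← ConcreteCategory.comp_apply, ← ConcreteCategory.comp_apply, ← Functor.map_comp,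
        ← Functor.map_comp]
      rfl)
    rw [← TopCat.Presheaf.germ_res_apply _ g' y hyW' ((CohTop.const X A).obj.map i (η.app U a)),
      ← TopCat.Presheaf.germ_res_apply _ g' y hyW' t]
    congr 1
    refine Eq.trans ?_ ha'
    rw [← e, ← ConcreteCategory.comp_apply, ← Functor.map_comp]
    exact congr($((η.naturality (i ≫ g'.op)).symm) a)
  · refine ⟨0, ?_⟩
    refine TopCat.Presheaf.section_ext (CohTop.const X A) V.unop _ _ fun y hy => ?_
    exact (hV ⟨y, hy⟩).elim

/-- If X is an irreducible topological space and A an abelian group, then H^(p+1)(X, A) = 0 for the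
constant sheaf with value A. -/
theorem result {X : TopCat.{u}} [IrreducibleSpace X]
    (A : Type u) [AddCommGroup A] (p : ℕ) : Subsingleton (CohTop.H (CohTop.const X A) (p + 1)) := by
  haveI := isFlasque_const (X := X) A
  haveI := CohVanish.subsingleton_of_flasque (CohTop.const X A) ⊤ p
  exact (CohVanish.hEquiv (CohTop.const X A) (p + 1)).toEquiv.subsingleton

end Groth.Agent.S0457
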