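import Groth.Statements.S0466
import Groth.Agent.CechCmp.MathlibCech
import Groth.Agent.CohVanish.LES
import Mathlib

set_option autoImplicit false
universe u
open CategoryTheory
open CohTop

namespace Groth.Agent.S0466

open TopologicalSpace Opposite Groth.Agent.CechCmp Groth.Agent.CohVanish
open scoped Groth.Agent.CohVanish

section aux

variable {X : TopCat.{u}}

lemma map_map (F : CohTop.Ab X) {a b c : Opens X} (h₁ : a ≤ b) (h₂ : b ≤ c) (x : F.obj.obj (op c)) :
    F.obj.map (homOfLE h₁).op (F.obj.map (homOfLE h₂).op x) = F.obj.map (homOfLE (h₁.trans h₂)).op x := by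
  rw [← ConcreteCategory.comp_apply, ← Functor.map_comp, ← op_comp, homOfLE_comp]

lemma app_map {F G : CohTop.Ab X} (φ : F ⟶ G) {a b : Opens X} (h : a ≤ b) (x : F.obj.obj (op b)) :
    φ.hom.app (op a) (F.obj.map (homOfLE h).op x) = G.obj.map (homOfLE h).op (φ.hom.app (op b) x) :=
  ConcreteCategory.congr_hom (φ.hom.naturality (homOfLE h).op) x

variable {S : ShortComplex (CohTop.Ab X)} (hS : S.ShortExact)
include hS

lemma f_app_injective (W : Opens X) : Function.Injective (S.f.hom.app (op W)) := by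
  have := hS.mono_f
  have h1 : Mono S.f.hom := inferInstanceAs (Mono ((sheafToPresheaf _ _).map S.f))
  have h2 : Mono (S.f.hom.app (op W)) := inferInstance
  exact (AddCommGrpCat.mono_iff_injective _).1 h2

lemma exists_preimage (W : Opens X) (t : S.X₂.obj.obj (op W)) (ht : S.g.hom.app (op W) t = 0) :
    ∃ a, S.f.hom.app (op W) a = t := by
  obtain ⟨y, hy⟩ := (eMap_g_eq_zero_iff hS W 0 ((eu0 W S.X₂).symm t)).1 ((eu0 W S.X₃).injective (by
    rw [eu0_eMap, AddEquiv.apply_symm_apply, ht, map_zero]))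
  exact ⟨eu0 W S.X₁ y, by rw [← eu0_eMap, hy, AddEquiv.apply_symm_apply]⟩


open Opposite in
lemma core {R : Type u} [CommRing R] (act : R →+* End S.X₁) (U : Opens X)
    (h : ∀ (ι : Type u) (V : ι → Opens X), iSup V = U →
      ∃ (κ : Type u) (W : κ → Opens X) (r : κ → ι), iSup W = U ∧ (∀ k, W k ≤ V (r k)) ∧
        CategoryTheory.Limits.IsZero (CohTop.cechH S.X₁.obj W 1)) :
    Function.Surjective (S.g.hom.app (op U)) := by
  classical
  intro q
  choose V hVU hxV t ht using fun x : U => exists_lift_near hS U q x.1 x.2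
  obtain ⟨κ, W, r, hW, hWr, hzero⟩ := h U V (le_antisymm (iSup_le hVU) fun x hx =>
    Opens.mem_iSup.2 ⟨⟨x, hx⟩, hxV _⟩)
  have hWU : ∀ k, W k ≤ U := fun k => (le_iSup W k).trans hW.le
  have hT0 : ∀ k, ∃ T : S.X₂.obj.obj (op (W k)),
      S.g.hom.app (op (W k)) T = S.X₃.obj.map (homOfLE (hWU k)).op q := fun k =>
    ⟨S.X₂.obj.map (homOfLE (hWr k)).op (t (r k)), by rw [app_map, ht, map_map]⟩
  choose T hT using hT0
  let F : RSh R X := ⟨S.X₁, act⟩
  let M : Finset κ → Opens X := fun s => RSh.meetOpen W s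
  have hM : ∀ {n : ℕ} (σ : Fin n → κ) (j : Fin n), M (img σ) ≤ W (σ j) := fun σ j =>
    iInf₂_le (σ j) (mem_img σ j)
  have hD : ∀ σ : Fin 2 → κ, ∃ a, S.f.hom.app (op (M (img σ))) a =
      S.X₂.obj.map (homOfLE (hM σ 1)).op (T (σ 1)) -
        S.X₂.obj.map (homOfLE (hM σ 0)).op (T (σ 0)) := fun σ => by
    refine exists_preimage hS _ _ ?_
    rw [map_sub, app_map, app_map, hT, hT, map_map, map_map, sub_self]
  choose a ha using hD
  have hcocycle : (F.sys W).d 2 a = 0 := by
    funext σ
    apply f_app_injective hS (M (img σ))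
    rw [Pi.zero_apply, Sys.d_apply, Fin.sum_univ_three]
    rw [Fin.val_zero, Fin.val_one, Fin.val_two, pow_zero, pow_one, neg_one_sq]
    simp only [one_smul, neg_smul]
    obtain ⟨x, hx⟩ : ∃ x : Fin 3 → S.X₂.obj.obj (op (M (img σ))),
        ∀ i, S.X₂.obj.map (homOfLE (hM σ i)).op (T (σ i)) = x i := ⟨_, fun i => rfl⟩
    have key : ∀ k : Fin 3, S.f.hom.app (op (M (img σ)))
        ((F.sys W).res (img_comp_subset σ k.succAbove) (a (σ ∘ k.succAbove))) =
        x (k.succAbove 1) - x (k.succAbove 0) := fun k => by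
      change S.f.hom.app _ (S.X₁.obj.map _ _) = _
      rw [app_map, ha, map_sub, map_map, map_map, ← hx, ← hx]
      rfl
    erw [map_add, map_add, map_neg, key, key, key, map_zero]
    simp only [show Fin.succAbove (0 : Fin 3) (0 : Fin 2) = 1 from rfl,
      show Fin.succAbove (0 : Fin 3) (1 : Fin 2) = 2 from rfl,
      show Fin.succAbove (1 : Fin 3) (0 : Fin 2) = 0 from rfl,
      show Fin.succAbove (1 : Fin 3) (1 : Fin 2) = 2 from rfl,
      show Fin.succAbove (2 : Fin 3) (0 : Fin 2) = 0 from rfl,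
      show Fin.succAbove (2 : Fin 3) (1 : Fin 2) = 1 from rfl]
    abel
  obtain ⟨e⟩ := nonempty_cechH_equiv W F 1
  have : Subsingleton ((F.sys W).H 1) := by
    have : Subsingleton ↑(CohB1.cechHTop W F.F.obj 1) :=
      AddCommGrpCat.subsingleton_of_isZero hzero
    exact e.symm.injective.subsingleton
  obtain ⟨b, hb⟩ : ∃ b, (F.sys W).d 1 b = a := by
    have h0 := (Submodule.Quotient.mk_eq_zero _).1
      (Subsingleton.elim ((F.sys W).cls 1 ⟨a, hcocycle⟩) 0)
    exact h0
  have hself : ∀ k, W k ≤ M (img (fun _ : Fin 1 => k)) := fun k => le_iInf₂ fun i hi => by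
    obtain ⟨j, -, rfl⟩ := Finset.mem_image.1 hi
    exact le_rfl
  let s : ∀ k, S.X₂.obj.obj (op (W k)) := fun k =>
    T k - S.f.hom.app _ (S.X₁.obj.map (homOfLE (hself k)).op (b fun _ => k))
  have hs : TopCat.Presheaf.IsCompatible S.X₂.obj W s := by
    intro i j
    let σ : Fin 2 → κ := ![i, j]
    have hle : W i ⊓ W j ≤ M (img σ) := le_iInf₂ fun l hl => by
      obtain ⟨m, -, rfl⟩ := Finset.mem_image.1 hl
      fin_cases m
      exacts [inf_le_left, inf_le_right]
    have hbσ : a σ = (F.sys W).res (img_comp_subset σ (0 : Fin 2).succAbove) (b (σ ∘ (0 : Fin 2).succAbove)) -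
        (F.sys W).res (img_comp_subset σ (1 : Fin 2).succAbove) (b (σ ∘ (1 : Fin 2).succAbove)) := by
      rw [← hb, Sys.d_apply, Fin.sum_univ_two, Fin.val_zero, Fin.val_one, pow_zero, pow_one,
        one_smul, neg_one_smul, sub_eq_add_neg]
    have h2 := congrArg (S.X₂.obj.map (homOfLE hle).op) (ha σ)
    rw [hbσ, map_sub] at h2
    change S.X₂.obj.map _ (T i - _) = S.X₂.obj.map _ (T j - _)
    have e0 : (σ ∘ (0 : Fin 2).succAbove) = fun _ : Fin 1 => j := funext fun x => by
      fin_cases x; rfl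
    have e1 : (σ ∘ (1 : Fin 2).succAbove) = fun _ : Fin 1 => i := funext fun x => by
      fin_cases x; rfl
    have h3 : ∀ (τ : Fin 1 → κ) (hτ : img τ ⊆ img σ) (l : κ) (hl : τ = fun _ : Fin 1 => l)
        (hl' : W i ⊓ W j ≤ W l),
        S.X₂.obj.map (homOfLE hle).op (S.f.hom.app (op (M (img σ)))
          ((F.sys W).res hτ (b τ))) =
        S.X₂.obj.map (homOfLE hl').op (S.f.hom.app (op (W l))
          (S.X₁.obj.map (homOfLE (hself l)).op (b fun _ => l))) := by
      intro τ hτ l hl hl'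
      subst hl
      change S.X₂.obj.map _ (S.f.hom.app _ (S.X₁.obj.map _ _)) = _
      rw [app_map, app_map, map_map, map_map]
    rw [map_sub, h3 _ _ j e0 inf_le_right, h3 _ _ i e1 inf_le_left, map_sub, map_map, map_map] at h2
    rw [sub_eq_sub_iff_add_eq_add] at h2
    rw [map_sub, map_sub, sub_eq_sub_iff_add_eq_add, add_comm]
    exact h2
  obtain ⟨gl, hgl, -⟩ := TopCat.Sheaf.existsUnique_gluing' S.X₂ W U (fun k => homOfLE (hWU k))
    hW.ge s hs
  refine ⟨gl, TopCat.Sheaf.eq_of_locally_eq' S.X₃ W U (fun k => homOfLE (hWU k)) hW.ge _ _ fun k => ?_⟩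
  rw [← app_map, hgl]
  show S.g.hom.app _ (T k - _) = _
  rw [map_sub, hT, ← ConcreteCategory.comp_apply, ← NatTrans.comp_app]
  rw [show S.f.hom ≫ S.g.hom = 0 from congrArg (fun φ => φ.hom) S.zero]
  simp

end aux

open TopologicalSpace Opposite in
/-- Consider a short exact sequence of abelian sheaves with kernel F, middle term G and quotient H, and
an open U. If every open covering of U admits a refinement on which the first Cech cohomology of F
vanishes, then sections of G over U map onto sections of H over U. -/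
theorem result {X : TopCat.{u}}
    (S : CategoryTheory.ShortComplex (CohTop.Ab X)) (hS : S.ShortExact) (U : Opens X)
    (h : ∀ (ι : Type u) (V : ι → Opens X), iSup V = U →
      ∃ (κ : Type u) (W : κ → Opens X) (r : κ → ι), iSup W = U ∧ (∀ k, W k ≤ V (r k)) ∧
        CategoryTheory.Limits.IsZero (CohTop.cechH S.X₁.obj W 1)) :
    Function.Surjective (S.g.hom.app (op U)) := by
  exact core hS ((Int.castRingHom (End S.X₁)).comp ULift.ringEquiv.toRingHom) U h

end Groth.Agent.S0466
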