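import Groth.Statements.S0471
import Groth.Agent.CechTrivialCover.Disjoint
import Groth.Agent.CohSiteLib.Slice
-- import your own Groth.Agent.* helpers here

set_option autoImplicit false
universe u
open CategoryTheory
open CohTop

namespace Groth.Agent.S0471

/-- If X is profinite (compact, Hausdorff, totally disconnected), then H^(p+1)(X, F) = 0 for every
abelian sheaf F. -/
theorem result {X : TopCat.{u}} [CompactSpace X] [T2Space X] [TotallyDisconnectedSpace X]
    (F : CohTop.Ab X) (p : ℕ) : Subsingleton (CohTop.H F (p + 1)) := by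
  have h := Groth.Agent.CechTrivialCover.subsingleton_H_profinite F p
  let J := Opens.grothendieckTopology X
  let e : Groth.Agent.CohSiteLib.free J (⊤ : TopologicalSpace.Opens X) ≅ Groth.Agent.CohSiteLib.constZ J :=
    (Groth.Agent.CohSiteLib.freeCorep J ⊤).uniqueUpToIso
      (Groth.Agent.CohSiteLib.constCorep J (T := (⊤ : TopologicalSpace.Opens X)) Limits.isTerminalTop)
  refine subsingleton_of_forall_eq 0 fun x => ?_
  have hx := @Subsingleton.elim _ h ((Abelian.Ext.mk₀ e.hom).comp x (zero_add (p + 1))) 0
  have := congrArg (fun y => (Abelian.Ext.mk₀ e.inv).comp y (zero_add (p + 1))) hx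
  simp only [Abelian.Ext.mk₀_comp_mk₀_assoc, Iso.inv_hom_id, Abelian.Ext.mk₀_id_comp] at this
  exact this.trans (Abelian.Ext.comp_zero _ _ _ _ _)

end Groth.Agent.S0471
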