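import Groth.Statements.S0483
import Groth.Agent.SSExist.CohPre
import Mathlib.CategoryTheory.Sites.EpiMono
-- import your own Groth.Agent.* helpers here

set_option autoImplicit false
universe u
open CategoryTheory
open CohSite

namespace Groth.Agent.S0483

/-- For an abelian sheaf F on a small site, an object U and a class ξ in H^(n+1)(U, F), there is a
covering sieve of U such that ξ pulls back to zero along every arrow of the sieve. -/
theorem result {C : Type u} [SmallCategory C] (J : GrothendieckTopology C)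
    (F : Sheaf J AddCommGrpCat.{u}) (U : C) (n : ℕ) (ξ : CohSite.HU F (n + 1) U) :
    ∃ (S : J.Cover U), ∀ (a : S.Arrow), CohSite.res F (n + 1) a.f ξ = 0 := by
  open Opposite CategoryTheory.Limits CategoryTheory.Abelian Groth.Agent.SSExist in
  let R : InjectiveResolution F := injectiveResolution F
  obtain ⟨f, hf, rfl⟩ := R.extMk_surjective ξ (n + 2) rfl
  let S := ShortComplex.mk (R.cocomplex.d n (n + 1)) (R.cocomplex.d (n + 1) (n + 2)) (R.cocomplex.d_comp_d _ _ _)
  have hS : S.Exact := R.exact_succ n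
  let l : R.cocomplex.X n ⟶ Limits.kernel (R.cocomplex.d (n + 1) (n + 2)) := Limits.kernel.lift _ _ S.zero
  haveI : Epi l := hS.epi_kernelLift
  haveI : Sheaf.IsLocallySurjective l := (Sheaf.isLocallySurjective_iff_epi' _ l).2 inferInstance
  let g := Limits.kernel.lift (R.cocomplex.d (n + 1) (n + 2)) f hf
  let zK := SSExist.evalGen J U _ g
  refine ⟨(show J.Cover U from ⟨Presheaf.imageSieve l.hom zK, Presheaf.imageSieve_mem J l.hom zK⟩), fun a => ?_⟩
  obtain ⟨w, hw⟩ := a.hf
  refine (R.mk₀_comp_extMk f (n + 2) rfl hf (SSExist.freeMap a.f)).trans ?_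
  refine (R.extMk_eq_zero_iff _ _ _ _ n rfl).2 ?_
  refine ⟨SSExist.ofSec a.Y _ w, ?_⟩
  have h1 : SSExist.freeMap a.f ≫ g = SSExist.ofSec a.Y _ w ≫ l := by
    rw [SSExist.ofSec_comp, hw]
    exact (((SSExist.ofSec_eq_iff _ _).2 (SSExist.evalGen_freeMap a.f _ g).symm)).symm
  calc SSExist.ofSec a.Y _ w ≫ R.cocomplex.d n (n + 1)
      = SSExist.ofSec a.Y _ w ≫ l ≫ Limits.kernel.ι _ := by rw [Limits.kernel.lift_ι]
    _ = SSExist.freeMap a.f ≫ g ≫ Limits.kernel.ι _ := by rw [← Category.assoc, ← h1, Category.assoc]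
    _ = SSExist.freeMap a.f ≫ f := by rw [Limits.kernel.lift_ι]

end Groth.Agent.S0483

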