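import Groth.Statements.S0488
import Groth.Agent.SSExist.OverKInj
import Mathlib

set_option autoImplicit false
universe u
open CohTop

open CategoryTheory

namespace Groth.Agent.S0488

open TopologicalSpace in
/-- For an open U of X, restriction to U sends K-injective complexes of abelian sheaves on X to
K-injective complexes on U. -/
theorem result {X : TopCat.{u}} (U : Opens X) (I : CochainComplex (CohTop.Ab X) ℤ)
    (h : I.IsKInjective) :
    CochainComplex.IsKInjective (((CohTop.restrFunctor U).mapHomologicalComplex (ComplexShape.up ℤ)).obj I) := by
  haveI := h
  let J := Opens.grothendieckTopology X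
  let R := (Over.forget U).sheafPushforwardContinuous AddCommGrpCat.{u} (J.over U) J
  let e := U.sheafEquivOver (A := AddCommGrpCat.{u})
  haveI := Groth.Agent.SSExist.isKInjective_restrictOver J U I
  haveI : e.functor.Additive := Functor.additive_of_preserves_binary_products _
  haveI : e.inverse.Additive := Functor.additive_of_preserves_binary_products _
  have h2 := Groth.Agent.SSExist.isKInjective_map_rightAdjoint (L := e.inverse) (R := e.functor) (e.symm.toAdjunction)
    ((R.mapHomologicalComplex (ComplexShape.up ℤ)).obj I)
  exact h2

end Groth.Agent.S0488
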