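import Groth.Statements.S0492
import Mathlib.CategoryTheory.Sites.EpiMono
import Mathlib.CategoryTheory.Limits.Types.Products
import Mathlib.Algebra.Homology.ShortComplex.ExactFunctor
import Mathlib.Algebra.Category.Grp.Limits

set_option autoImplicit false
universe u
open CategoryTheory
open CohSite

namespace Groth.Agent.S0492

open CategoryTheory.Limits in
/-- Part (4), for sheaves of abelian groups: let B be a set of weakly contractible objects of a small
site such that every object admits a covering family by members of B. Then products in the category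
of abelian sheaves are exact (Grothendieck's AB4*). -/
theorem result {C : Type u} [SmallCategory C] (J : GrothendieckTopology C)
    (B : Set C) (hB : ∀ U ∈ B, CohSite.IsWeaklyContractible J U)
    (hcov : ∀ V : C, ∃ (ι : Type u) (U : ι → C) (f : ∀ i, U i ⟶ V), (∀ i, U i ∈ B) ∧ Sieve.ofArrows U f ∈ J V) :
    AB4Star (Sheaf J AddCommGrpCat.{u}) := by
  open Opposite CategoryTheory.Limits in
  have hsurj : ∀ {U : C}, U ∈ B → ∀ {F G : Sheaf J AddCommGrpCat.{u}} (φ : F ⟶ G), Epi φ →
      Function.Surjective (φ.hom.app (op U)) := fun {U} hU {F G} φ hφ => by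
    have : Sheaf.IsLocallySurjective φ := (Sheaf.isLocallySurjective_iff_epi' _ φ).2 hφ
    have h2 : Sheaf.IsLocallySurjective ((sheafCompose J (forget AddCommGrpCat.{u})).map φ) :=
      ⟨fun {V} s => Presheaf.imageSieve_mem J φ.hom s⟩
    exact hB U hU _ _ ((sheafCompose J (forget AddCommGrpCat.{u})).map φ)
      ((Sheaf.isLocallySurjective_iff_epi' (A := Type u) _).1 h2)
  refine ⟨fun α => ⟨?_⟩⟩
  let L := (lim : (Discrete α ⥤ Sheaf J AddCommGrpCat.{u}) ⥤ _)
  have : PreservesLimitsOfSize.{0, 0} L := constLimAdj.rightAdjoint_preservesLimits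
  have : PreservesFiniteLimits L := PreservesLimitsOfSize.preservesFiniteLimits _
  have : L.Additive := Functor.additive_of_preserves_binary_products L
  show PreservesFiniteColimits L
  rw [Functor.preservesFiniteColimits_iff_forall_exact_map_and_epi]
  intro S hS
  have := hS.mono_f
  refine ⟨((Functor.preservesFiniteLimits_iff_forall_exact_map_and_mono L).1 inferInstance S hS).1, ?_⟩
  refine (Sheaf.isLocallySurjective_iff_epi' _ _).1 ⟨fun {V} s => ?_⟩
  obtain ⟨ι, U, f, hUB, hcv⟩ := hcov V
  refine J.superset_covering (fun W k hk => ?_) hcv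
  obtain ⟨i⟩ : Nonempty {i // ∃ a : W ⟶ U i, a ≫ f i = k} := by
    obtain ⟨_, a, _, ⟨i⟩, e⟩ := hk
    exact ⟨⟨i, a, e⟩⟩
  obtain ⟨i, a, rfl⟩ := i
  refine Sieve.downward_closed _ ?_ a
  let E := sheafToPresheaf J AddCommGrpCat.{u} ⋙ (evaluation Cᵒᵖ AddCommGrpCat.{u}).obj (op (U i)) ⋙
    forget AddCommGrpCat.{u}
  let hP (F : Discrete α ⥤ Sheaf J AddCommGrpCat.{u}) : IsLimit (E.mapCone (limit.cone F)) :=
    isLimitOfPreserves E (limit.isLimit F)
  let t := (L.obj S.X₃).obj.map (f i).op s
  have hS' : Epi S.g := hS.epi_g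
  have hcomp : ∀ j : Discrete α, ∃ z, (S.g.app j).hom.app (op (U i)) z =
      (limit.π S.X₃ j).hom.app (op (U i)) t := fun j =>
    hsurj (hUB i) (S.g.app j) inferInstance _
  choose z hz using hcomp
  let σ : (S.X₂ ⋙ E).sections := ⟨z, fun {j j'} m => by
    obtain rfl : j = j' := Discrete.ext (Discrete.eq_of_hom m)
    rw [Subsingleton.elim m (𝟙 j), CategoryTheory.Functor.map_id]
    rfl⟩
  let w := (Types.isLimitEquivSections (hP S.X₂)).symm σ
  have hw : ∀ j, (limit.π S.X₂ j).hom.app (op (U i)) w = z j := fun j =>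
    Types.isLimitEquivSections_symm_apply (hP S.X₂) σ j
  refine ⟨w, (Types.isLimitEquivSections (hP S.X₃)).injective (Subtype.ext (funext fun j => ?_))⟩
  show (limit.π S.X₃ j).hom.app (op (U i)) ((L.map S.g).hom.app (op (U i)) w) = _
  refine Eq.trans ?_ ((congrArg ((S.g.app j).hom.app (op (U i))) (hw j)).trans (hz j))
  exact ConcreteCategory.congr_hom (congrArg (fun m : L.obj S.X₂ ⟶ S.X₃.obj j => m.hom.app (op (U i)))
    (limMap_π S.g j)) w

end Groth.Agent.S0492
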