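import Groth.Statements.S0494
import Groth.Agent.KerDerived.Push
-- import your own Groth.Agent.* helpers here

set_option autoImplicit false
universe u
open CohTop

namespace Groth.Agent.S0494

open Opposite in
/-- If H^p(Y, R^q f_* F) = 0 for all q and all p > 0, then H^q(X, F) ≅ Γ(Y, R^q f_* F) for every q
(existence of a group isomorphism). -/
theorem result {X Y : TopCat.{u}} (f : X ⟶ Y) (F : CohTop.Ab X)
    (h : ∀ p q : ℕ, Subsingleton (CohTop.H ((CohTop.Rpush f q).obj F) (p + 1))) (q : ℕ) :
    Nonempty (CohTop.H F q ≃+ ((CohTop.Rpush f q).obj F).obj.obj (op ⊤)) := by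
  obtain ⟨e⟩ := Groth.Agent.KerDerived.nonempty_H_sections_Rpush f q F fun p r => by
    haveI := h p r
    exact (Groth.Agent.CohVanish.hEquiv ((CohTop.Rpush f r).obj F) (p + 1)).symm.toEquiv.subsingleton
  exact ⟨(Groth.Agent.CohVanish.hEquiv F q).trans e⟩

end Groth.Agent.S0494
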