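import Groth.Statements.S0496
import Mathlib

set_option autoImplicit false
universe u
open Hensel

namespace Groth.Agent.S0496

/-- If every factorization of the reduction of a monic polynomial into two coprime factors over the
residue field lifts to a factorization over the local ring, then the local ring is henselian. -/
theorem result (R : Type u) [CommRing R] [IsLocalRing R]
    (h : ∀ f : Polynomial R, f.Monic →
      ∀ g₀ h₀ : Polynomial (IsLocalRing.ResidueField R), IsCoprime g₀ h₀ →
      Polynomial.map (IsLocalRing.residue R) f = g₀ * h₀ →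
      ∃ g h : Polynomial R, f = g * h ∧ Polynomial.map (IsLocalRing.residue R) g = g₀ ∧
        Polynomial.map (IsLocalRing.residue R) h = h₀) :
    HenselianLocalRing R := by
  refine ⟨fun f hf a₀ ha₀ hu => ?_⟩
  let π := IsLocalRing.residue R
  let fb := f.map π
  have hroot : fb.IsRoot (π a₀) := by
    rw [Polynomial.IsRoot, Polynomial.eval_map_apply]
    exact Ideal.Quotient.eq_zero_iff_mem.mpr ha₀
  obtain ⟨h₀, hh₀⟩ := Polynomial.dvd_iff_isRoot.mpr hroot
  have hd : h₀.eval (π a₀) ≠ 0 := by
    intro h0
    have hd0 : π (f.derivative.eval a₀) = 0 := by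
      have : fb.derivative.eval (π a₀) = 0 := by
        rw [hh₀]
        simp [Polynomial.derivative_mul, h0]
      rwa [Polynomial.derivative_map, Polynomial.eval_map_apply] at this
    exact (hu.map π).ne_zero hd0
  have hcop : IsCoprime (Polynomial.X - Polynomial.C (π a₀)) h₀ := by
    refine ((Polynomial.irreducible_X_sub_C _).coprime_iff_not_dvd).mpr ?_
    rw [Polynomial.dvd_iff_isRoot]
    exact hd
  obtain ⟨g, k, hgk, hg, hk⟩ := h f hf _ h₀ hcop hh₀
  have hfb : fb.Monic := hf.map π
  have hk0 : h₀ ≠ 0 := fun h0 => hfb.ne_zero (by rw [hh₀, h0, mul_zero])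
  have hn : f.natDegree = 1 + h₀.natDegree := by
    rw [← hf.natDegree_map π]
    change fb.natDegree = _
    rw [hh₀, Polynomial.natDegree_mul (Polynomial.X_sub_C_ne_zero _) hk0,
      Polynomial.natDegree_X_sub_C]
  have hnil : ∀ n, 2 ≤ n → IsNilpotent (g.coeff n) := by
    intro n hn2
    rw [← mem_nilradical, nilradical_eq_sInf, Ideal.mem_sInf]
    intro P hP
    change P.IsPrime at hP
    let φ := Ideal.Quotient.mk P
    have hPm : P ≤ IsLocalRing.maximalIdeal R := IsLocalRing.le_maximalIdeal hP.ne_top
    let ψ : R ⧸ P →+* IsLocalRing.ResidueField R := Ideal.Quotient.factor hPm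
    have hψ : ψ.comp φ = π := Ideal.Quotient.factor_comp_mk hPm
    have hfP : (f.map φ).natDegree = f.natDegree := hf.natDegree_map φ
    have hk' : k.map φ ≠ 0 ∧ g.map φ ≠ 0 := by
      have := (hf.map φ).ne_zero
      rw [hgk, Polynomial.map_mul] at this
      exact ⟨right_ne_zero_of_mul this, left_ne_zero_of_mul this⟩
    rw [hgk, Polynomial.map_mul, Polynomial.natDegree_mul hk'.2 hk'.1, ← hgk, hn] at hfP
    have hk1 : h₀.natDegree ≤ (k.map φ).natDegree := by
      rw [← hk]
      change (k.map π).natDegree ≤ _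
      rw [← hψ, ← Polynomial.map_map]
      exact Polynomial.natDegree_map_le
    have : (g.map φ).natDegree < n := by omega
    have h0 := Polynomial.coeff_eq_zero_of_natDegree_lt this
    rw [Polynomial.coeff_map] at h0
    exact Ideal.Quotient.eq_zero_iff_mem.mp h0
  have hc : ∀ n, π (g.coeff n) = (Polynomial.X - Polynomial.C (π a₀)).coeff n := fun n => by
    rw [← hg, Polynomial.coeff_map]
  have hc1 : IsUnit (g.coeff 1) :=
    (IsLocalRing.residue_ne_zero_iff_isUnit _).mp (by
      change π _ ≠ 0
      rw [hc]; simp [Polynomial.coeff_X, Polynomial.coeff_C])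
  let ν := Ideal.Quotient.mk (nilradical R)
  let x : R := -(g.coeff 0 * (hc1.unit⁻¹ : Rˣ))
  have hgν : g.map ν = Polynomial.C (ν (g.coeff 1)) * Polynomial.X + Polynomial.C (ν (g.coeff 0)) := by
    ext n
    match n with
    | 0 => simp
    | 1 => simp
    | n + 2 =>
      simp [Polynomial.coeff_X, Polynomial.coeff_C, ν,
        Ideal.Quotient.eq_zero_iff_mem.mpr (mem_nilradical.mpr (hnil (n + 2) (by omega)))]
  have hx0 : g.coeff 1 * x + g.coeff 0 = 0 := by
    have : g.coeff 1 * (hc1.unit⁻¹ : Rˣ) = 1 := hc1.mul_val_inv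
    linear_combination (-g.coeff 0) * this
  have hgx : IsNilpotent (Polynomial.aeval x g) := by
    rw [← mem_nilradical, ← Ideal.Quotient.eq_zero_iff_mem, Polynomial.coe_aeval_eq_eval]
    change ν _ = 0
    rw [← Polynomial.eval_map_apply, hgν]
    simp only [Polynomial.eval_add, Polynomial.eval_mul, Polynomial.eval_C, Polynomial.eval_X]
    rw [← map_mul, ← map_add, hx0, map_zero]
  have hgd : IsUnit (Polynomial.aeval x g.derivative) := by
    refine (IsLocalRing.residue_ne_zero_iff_isUnit _).mp ?_
    rw [Polynomial.coe_aeval_eq_eval]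
    change π _ ≠ 0
    rw [← Polynomial.eval_map_apply, ← Polynomial.derivative_map, hg]
    simp
  obtain ⟨r, ⟨hxr, hr⟩, -⟩ := Polynomial.existsUnique_nilpotent_sub_and_aeval_eq_zero hgx hgd
  rw [Polynomial.coe_aeval_eq_eval] at hr
  refine ⟨r, ?_, ?_⟩
  · rw [Polynomial.IsRoot, hgk, Polynomial.eval_mul, hr, zero_mul]
  · refine Ideal.Quotient.eq_zero_iff_mem.mp ?_
    change π _ = 0
    have h1 : (g.map π).eval (π r) = 0 := by rw [Polynomial.eval_map_apply, hr, map_zero]
    rw [hg] at h1
    simpa using h1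

end Groth.Agent.S0496
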