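import Groth.Statements.S0498
import Groth.Agent.HenselLib.FactorLift

set_option autoImplicit false
universe u
open Hensel

namespace Groth.Agent.S0498

/-- Over a henselian local ring, a simple root in the residue field of the reduction of an arbitrary
polynomial (monic or not) lifts to a root in the ring. -/
theorem result (R : Type u) [CommRing R] [HenselianLocalRing R]
    (f : Polynomial R) (a₀ : IsLocalRing.ResidueField R)
    (h₁ : Polynomial.eval₂ (IsLocalRing.residue R) a₀ f = 0)
    (h₂ : Polynomial.eval₂ (IsLocalRing.residue R) a₀ (Polynomial.derivative f) ≠ 0) :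
    ∃ a : R, Polynomial.IsRoot f a ∧ IsLocalRing.residue R a = a₀ := by
  have hdvd : Polynomial.X - Polynomial.C a₀ ∣ f.map (IsLocalRing.residue R) :=
    Polynomial.dvd_iff_isRoot.mpr (by rwa [Polynomial.IsRoot, Polynomial.eval_map])
  obtain ⟨h₀, hh₀⟩ := hdvd
  have hne : h₀.eval a₀ ≠ 0 := by
    intro hz
    apply h₂
    rw [← Polynomial.eval_map, ← Polynomial.derivative_map, hh₀]
    simp [Polynomial.derivative_mul, hz]
  obtain ⟨g, h, hgh, hgm, hg, -⟩ := HenselLib.exists_factor_lift f (Polynomial.X - Polynomial.C a₀) h₀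
    (Polynomial.monic_X_sub_C a₀)
    ((Polynomial.irreducible_X_sub_C a₀).coprime_iff_not_dvd.mpr fun hd =>
      hne (Polynomial.dvd_iff_isRoot.mp hd)) hh₀
  have hdeg : g.natDegree = 1 := by
    rw [← hgm.natDegree_map (IsLocalRing.residue R), hg, Polynomial.natDegree_X_sub_C]
  have hform := hgm.eq_X_add_C hdeg
  refine ⟨-g.coeff 0, ?_, ?_⟩
  · rw [hgh, Polynomial.IsRoot, Polynomial.eval_mul]
    conv_lhs => arg 1; rw [hform]
    simp
  · have := congrArg (fun q => Polynomial.coeff q 0) hg
    simp only [Polynomial.coeff_map, Polynomial.coeff_sub, Polynomial.coeff_X_zero,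
      Polynomial.coeff_C_zero, zero_sub] at this
    rw [map_neg, this, neg_neg]

end Groth.Agent.S0498
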