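import Groth.Statements.S0501
import Groth.Agent.HenselLib.Unique

set_option autoImplicit false
universe u
open Hensel

namespace Groth.Agent.S0501

/-- Let `S` be a henselian local ring over a ring `R`, let `A` be an étale `R`-algebra with a prime `q`,
and let `τ` be a ring map from the residue field of `q` to the residue field of `S` compatible with
the two structure maps from `R`. Then there is exactly one `R`-algebra map from `A` to `S` pulling
the maximal ideal back to `q` and inducing `τ`. -/
theorem result (R : Type u) [CommRing R]
    (S : Type u) [CommRing S] [HenselianLocalRing S] [Algebra R S]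
    (A : Type u) [CommRing A] [Algebra R A] [Algebra.Etale R A] (q : Ideal A) [q.IsPrime]
    (τ : q.ResidueField →+* IsLocalRing.ResidueField S)
    (hτ : τ.comp (algebraMap R q.ResidueField) = (IsLocalRing.residue S).comp (algebraMap R S)) :
    ∃! f : A →ₐ[R] S, Ideal.comap f.toRingHom (IsLocalRing.maximalIdeal S) = q ∧
      ∀ a : A, IsLocalRing.residue S (f a) = τ (algebraMap A q.ResidueField a) := by
  letI : Algebra R (IsLocalRing.ResidueField S) := inferInstance
  let σ : A →ₐ[R] S ⧸ IsLocalRing.maximalIdeal S :=
    { toRingHom := τ.comp (algebraMap A q.ResidueField)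
      commutes' := fun r => by
        show τ (algebraMap A q.ResidueField (algebraMap R A r)) = _
        rw [← IsScalarTower.algebraMap_apply R A q.ResidueField]
        exact RingHom.congr_fun hτ r }
  obtain ⟨f, hf, huniq⟩ := HenselLib.existsUnique_lift (IsLocalRing.maximalIdeal S) σ
  have hres : ∀ a, IsLocalRing.residue S (f a) = τ (algebraMap A q.ResidueField a) := fun a =>
    AlgHom.congr_fun hf a
  refine ⟨f, ⟨?_, hres⟩, fun g hg => huniq g (AlgHom.ext hg.2)⟩
  ext a
  rw [Ideal.mem_comap]
  show f a ∈ _ ↔ _
  rw [← IsLocalRing.residue_eq_zero_iff, hres, map_eq_zero, Ideal.algebraMap_residueField_eq_zero]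

end Groth.Agent.S0501
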