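import Groth.Statements.S0502
import Groth.Agent.HenselLib.Ops
import Mathlib.RingTheory.Etale.QuasiFinite
import Mathlib.RingTheory.LocalRing.ResidueField.Ideal

set_option autoImplicit false
universe u
open Hensel

namespace Groth.Agent.S0502

/-- A local ring `R` is henselian as soon as every étale `R`-algebra having a prime over the maximal
ideal with trivial residue field extension admits an `R`-algebra retraction to `R`. -/
theorem result (R : Type u) [CommRing R] [IsLocalRing R]
    (h : ∀ (S : Type u) [CommRing S] [Algebra R S] [Algebra.Etale R S] (q : Ideal S) [q.IsPrime],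
      q.LiesOver (IsLocalRing.maximalIdeal R) → Function.Surjective (algebraMap R q.ResidueField) →
      Nonempty (S →ₐ[R] R)) :
    HenselianLocalRing R := by
  classical
  letI := Ideal.Quotient.field (IsLocalRing.maximalIdeal R)
  haveI : HenselianRing R (IsLocalRing.maximalIdeal R) := by
    refine HenselLib.henselianRing_of_liftsEtale fun A' _ _ _ σ => ?_
    let kr : ∀ {E : Type u} [CommRing E] [Algebra R E], (E →ₐ[R] R ⧸ IsLocalRing.maximalIdeal R) → Ideal E :=
      fun φ => RingHom.ker φ.toRingHom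
    have hover : ∀ {E : Type u} [CommRing E] [Algebra R E] (φ : E →ₐ[R] R ⧸ IsLocalRing.maximalIdeal R),
        (kr φ).LiesOver (IsLocalRing.maximalIdeal R) := fun φ => ⟨by
      ext a
      show a ∈ _ ↔ φ (algebraMap R _ a) = 0
      rw [φ.commutes, Ideal.Quotient.algebraMap_eq, Ideal.Quotient.eq_zero_iff_mem]⟩
    have hres : ∀ {E : Type u} [CommRing E] [Algebra R E] (φ : E →ₐ[R] R ⧸ IsLocalRing.maximalIdeal R) (x : E),
        ∃ a : R, φ x = Ideal.Quotient.mk _ a ∧ x - algebraMap R E a ∈ kr φ := fun φ x => by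
      obtain ⟨a, ha⟩ := Ideal.Quotient.mk_surjective (φ x)
      refine ⟨a, ha.symm, ?_⟩
      show φ (x - _) = 0
      rw [map_sub, φ.commutes, Ideal.Quotient.algebraMap_eq, ha, sub_self]
    set q : Ideal A' := kr σ with hq
    haveI : q.IsPrime := RingHom.ker_isPrime _
    have hfin := Algebra.QuasiFinite.finite_primesOver (R := R) (S := A') (IsLocalRing.maximalIdeal R)
    have hpick : ∀ Q ∈ hfin.toFinset.erase q, ∃ z ∈ Q, z ∉ q := by
      intro Q hQ
      obtain ⟨hne, hQ⟩ := Finset.mem_erase.mp hQ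
      rw [Set.Finite.mem_toFinset] at hQ
      haveI := hQ.1
      by_contra hc
      push_neg at hc
      exact hne (Algebra.QuasiFinite.eq_of_le_of_under_eq (R := R) Q q hc
        (hQ.2.over.symm.trans (hover σ).over))
    choose z hzQ hzq using hpick
    set g : A' := ∏ Q ∈ (hfin.toFinset.erase q).attach, z Q.1 Q.2 with hg
    have hgq : g ∉ q := by
      rw [hg, Ideal.IsPrime.prod_mem_iff]
      rintro ⟨Q, -, hQ⟩
      exact hzq _ _ hQ
    have hgu : IsUnit (σ g) := isUnit_iff_ne_zero.mpr hgq
    set S := Localization.Away g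
    haveI : Algebra.Etale A' S := Algebra.Etale.of_isLocalizationAway g
    haveI : Algebra.Etale R S := Algebra.Etale.comp R A' S
    let σ' : S →ₐ[R] R ⧸ IsLocalRing.maximalIdeal R :=
      IsLocalization.Away.liftAlgHom g (f := σ) hgu
    set q' : Ideal S := kr σ'
    haveI : q'.IsPrime := RingHom.ker_isPrime _
    haveI : q'.IsMaximal := RingHom.ker_isMaximal_of_surjective σ'.toRingHom fun y => by
      obtain ⟨a, rfl⟩ := Ideal.Quotient.mk_surjective y
      exact ⟨algebraMap R S a, σ'.commutes a⟩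
    obtain ⟨τ⟩ := h S q' (hover σ') fun y => by
      obtain ⟨x, rfl⟩ := q'.bijective_algebraMap_quotient_residueField.2 y
      obtain ⟨x, rfl⟩ := Ideal.Quotient.mk_surjective x
      obtain ⟨a, -, ha⟩ := hres σ' x
      refine ⟨a, ?_⟩
      rw [Ideal.Quotient.eq.mpr ha]
      rfl
    let ψ : A' →ₐ[R] R := τ.comp (IsScalarTower.toAlgHom R A' S)
    let Q : Ideal A' := kr ((Ideal.Quotient.mkₐ R _).comp ψ)
    haveI : Q.IsPrime := RingHom.ker_isPrime _
    have hgQ : g ∉ Q := fun hc => by
      have hu : IsUnit ((Ideal.Quotient.mk (IsLocalRing.maximalIdeal R)) (ψ g)) :=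
        ((IsLocalization.Away.algebraMap_isUnit (S := S) g).map τ).map _
      exact hu.ne_zero hc
    have hQq : Q = q := by
      by_contra hne
      have hQ : Q ∈ hfin.toFinset.erase q :=
        Finset.mem_erase.mpr ⟨hne, hfin.mem_toFinset.mpr ⟨inferInstance, hover _⟩⟩
      have hmem : z Q hQ ∈ Q := hzQ Q hQ
      refine hgQ (Q.mem_of_dvd ?_ hmem)
      rw [hg]
      exact Finset.dvd_prod_of_mem (fun Q' : {Q' // Q' ∈ hfin.toFinset.erase q} => z Q'.1 Q'.2)
        (Finset.mem_attach _ ⟨Q, hQ⟩)
    refine ⟨ψ, AlgHom.ext fun x => ?_⟩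
    obtain ⟨a, ha, hxa⟩ := hres σ x
    have hxQ : x - algebraMap R A' a ∈ Q := hQq ▸ hxa
    rw [ha]
    show Ideal.Quotient.mk _ (ψ x) = _
    have h0 : Ideal.Quotient.mk (IsLocalRing.maximalIdeal R) (ψ (x - algebraMap R A' a)) = 0 := hxQ
    rw [map_sub, ψ.commutes, map_sub, sub_eq_zero] at h0
    exact h0
  exact HenselLib.henselianLocalRing_of_henselianRing

end Groth.Agent.S0502
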