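import Groth.Statements.S0505
import Groth.Agent.HenselLib.Local

set_option autoImplicit false
universe u
open Hensel

namespace Groth.Agent.S0505

/-- A local ring which is finitely generated as a module over a henselian local ring is itself
henselian. -/
theorem result (R : Type u) [CommRing R] [HenselianLocalRing R]
    (S : Type u) [CommRing S] [IsLocalRing S] [Algebra R S] [Module.Finite R S] :
    HenselianLocalRing S := by
  haveI := HenselLib.henselianRing_of_isIntegral (IsLocalRing.maximalIdeal R) S
  haveI := HenselLib.henselianRing_radical ((IsLocalRing.maximalIdeal R).map (algebraMap R S))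
  haveI : HenselianRing S (IsLocalRing.maximalIdeal S) := by
    have hrad : ((IsLocalRing.maximalIdeal R).map (algebraMap R S)).radical =
        IsLocalRing.maximalIdeal S := by
      refine le_antisymm ((IsLocalRing.maximalIdeal.isMaximal S).isPrime.radical_le_iff.mpr
        (HenselLib.map_maximalIdeal_le _)) ?_
      rw [Ideal.radical_eq_sInf]
      refine le_sInf fun P hP => ?_
      haveI : P.IsPrime := hP.2
      haveI : P.IsMaximal := Ideal.isMaximal_of_isIntegral_of_isMaximal_comap P (by
        have hle : IsLocalRing.maximalIdeal R ≤ P.comap (algebraMap R S) :=
          Ideal.map_le_iff_le_comap.mp hP.1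
        rw [← (IsLocalRing.maximalIdeal.isMaximal R).eq_of_le (Ideal.comap_ne_top _ hP.2.ne_top) hle]
        infer_instance)
      exact (IsLocalRing.eq_maximalIdeal (I := P) inferInstance).ge
    rw [← hrad]
    infer_instance
  exact HenselLib.henselianLocalRing_of_henselianRing

end Groth.Agent.S0505
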