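import Groth.Statements.S0508
import Groth.Agent.HenselLib.HenselizationLocal

set_option autoImplicit false
universe u
open Hensel

namespace Groth.Agent.S0508

/-- The henselization of a local ring induces an isomorphism on residue fields. -/
theorem result (R : Type u) [CommRing R] [IsLocalRing R] (S : Type u) [CommRing S] [IsLocalRing S]
    [Algebra R S] [IsLocalHom (algebraMap R S)] [Hensel.IsHenselization R S] :
    Function.Bijective (IsLocalRing.ResidueField.map (algebraMap R S)) := by
  obtain ⟨ρ, h⟩ := HenselLib.exists_colim_of_isHenselization R S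
  refine ⟨RingHom.injective _, fun y => ?_⟩
  obtain ⟨x, rfl⟩ := IsLocalRing.residue_surjective y
  obtain ⟨r, hr⟩ := IsLocalRing.residue_surjective (ρ x)
  refine ⟨IsLocalRing.residue R r, ?_⟩
  rw [IsLocalRing.ResidueField.map_residue]
  refine Ideal.Quotient.eq.mpr ((h.mem_maximal_iff _).mpr ?_)
  rw [map_sub, ρ.commutes]
  exact sub_eq_zero.mpr hr

end Groth.Agent.S0508
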