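import Groth.Statements.S0511
import Groth.Agent.HenselLib.HenselizationAlg
import Groth.Agent.HenselLib.HenselizationLocal
import Groth.Agent.HenselLib.FaithfulDescent

set_option autoImplicit false
universe u
open Hensel

namespace Groth.Agent.S0511

/-- A local ring is Noetherian exactly when its henselization is Noetherian. -/
theorem result (R : Type u) [CommRing R] [IsLocalRing R] (S : Type u) [CommRing S] [IsLocalRing S]
    [Algebra R S] [IsLocalHom (algebraMap R S)] [Hensel.IsHenselization R S] :
    IsNoetherianRing R ↔ IsNoetherianRing S := by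
  obtain ⟨ρ, h⟩ := Groth.Agent.HenselLib.exists_colim_of_isHenselization R S
  have hm : ∀ r ∈ IsLocalRing.maximalIdeal R, algebraMap R (IsLocalRing.ResidueField R) r = 0 :=
    fun r hr => Groth.Agent.HenselLib.algebraMap_residueField_eq_zero hr
  have := h.faithfullyFlat hm
  exact ⟨fun _ => h.isNoetherianRing hm,
    fun _ => Groth.Agent.HenselLib.isNoetherianRing_of_faithfullyFlat R S⟩

end Groth.Agent.S0511
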