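import Groth.Statements.S0513
import Groth.Agent.HenselLib.HenselizationAlg
import Groth.Agent.HenselLib.HenselizationLocal
import Groth.Agent.HenselLib.FaithfulDescent
import Groth.Agent.HenselLib.HenselizationDim
import Groth.Agent.EtStalk.Basic

set_option autoImplicit false
universe u
open Hensel

namespace Groth.Agent.S0513

/-- A Noetherian local ring is regular exactly when its henselization is a regular local ring. -/
theorem result (R : Type u) [CommRing R] [IsLocalRing R] (S : Type u) [CommRing S] [IsLocalRing S]
    [Algebra R S] [IsLocalHom (algebraMap R S)] [Hensel.IsHenselization R S] [IsNoetherianRing R] :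
    IsRegularLocalRing R ↔ IsRegularLocalRing S := by
  obtain ⟨ρ, h⟩ := Groth.Agent.HenselLib.exists_colim_of_isHenselization R S
  have hm : ∀ r ∈ IsLocalRing.maximalIdeal R, algebraMap R (IsLocalRing.ResidueField R) r = 0 :=
    fun r hr => Groth.Agent.HenselLib.algebraMap_residueField_eq_zero hr
  have := h.faithfullyFlat hm
  have := h.isNoetherianRing hm
  have := h.flat
  rw [isRegularLocalRing_iff, isRegularLocalRing_iff, h.ringKrullDim_eq hm,
    Groth.Agent.EtStalk.spanFinrank_eq R S (h.map_maximalIdeal hm)]

end Groth.Agent.S0513
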