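import Groth.Statements.S0517
import Groth.Agent.HenselLib.Strict

set_option autoImplicit false
universe u
open Hensel
open scoped TensorProduct

namespace Groth.Agent.S0517

/-- Given strictly henselian local rings `R` and `S`, a local ring map `φ` between them, and a square
system of `n` polynomial equations in `n` unknowns over `R` whose quotient algebra is étale over
`R`, applying `φ` coordinatewise matches the solutions of the system in `Rⁿ` bijectively with the
solutions of the transported system in `Sⁿ`. -/
theorem result (R : Type u) [CommRing R]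
    [HenselianLocalRing R] [IsSepClosed (IsLocalRing.ResidueField R)] (S : Type u) [CommRing S]
    [HenselianLocalRing S] [IsSepClosed (IsLocalRing.ResidueField S)] (φ : R →+* S) [IsLocalHom φ] (n : ℕ)
    (P : Fin n → MvPolynomial (Fin n) R)
    [Algebra.Etale R (MvPolynomial (Fin n) R ⧸ Ideal.span (Set.range P))] :
    Set.BijOn (fun r : Fin n → R => φ ∘ r)
      {r : Fin n → R | ∀ i, MvPolynomial.eval r (P i) = 0}
      {s : Fin n → S | ∀ i, MvPolynomial.eval s (MvPolynomial.map φ (P i)) = 0} := by
  letI : Algebra R S := φ.toAlgebra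
  haveI : IsLocalHom (algebraMap R S) := ‹IsLocalHom φ›
  set J : Ideal (MvPolynomial (Fin n) R) := Ideal.span (Set.range P) with hJ
  have hφeval : ∀ (r : Fin n → R) (p : MvPolynomial (Fin n) R),
      MvPolynomial.eval (φ ∘ r) (MvPolynomial.map φ p) = φ (MvPolynomial.eval r p) := fun r p => by
    rw [MvPolynomial.eval_map]
    exact (MvPolynomial.eval₂_comp φ r p).symm
  -- points from solutions
  have point : ∀ (T : Type u) [CommRing T] [Algebra R T] (r : Fin n → T),
      (∀ i, MvPolynomial.aeval r (P i) = 0) → ∃ τ : MvPolynomial (Fin n) R ⧸ J →ₐ[R] T,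
        ∀ j, τ (Ideal.Quotient.mk J (MvPolynomial.X j)) = r j := fun T _ _ r hr =>
    ⟨Ideal.Quotient.liftₐ J (MvPolynomial.aeval r) (fun p hp => by
      refine (Ideal.span_le.mpr ?_ : J ≤ RingHom.ker (MvPolynomial.aeval r)) hp
      rintro _ ⟨i, rfl⟩
      exact hr i), fun j => MvPolynomial.aeval_X r j⟩
  refine ⟨fun r hr i => ?_, fun r hr r' hr' heq => ?_, fun s hs => ?_⟩
  · show MvPolynomial.eval (φ ∘ r) (MvPolynomial.map φ (P i)) = 0
    rw [hφeval, hr i, map_zero]
  · obtain ⟨τ, hτ⟩ := point R r fun i => hr i
    obtain ⟨τ', hτ'⟩ := point R r' fun i => hr' i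
    have h1 : (Algebra.ofId R S).comp τ = (Algebra.ofId R S).comp τ' :=
      Ideal.Quotient.algHom_ext _ (MvPolynomial.algHom_ext fun j => by
        show φ (τ (Ideal.Quotient.mk J (MvPolynomial.X j))) = φ (τ' (Ideal.Quotient.mk J (MvPolynomial.X j)))
        rw [hτ, hτ']
        exact congrFun heq j)
    have h2 : τ = τ' := HenselLib.algHom_ext_of_jacobson (J := IsLocalRing.maximalIdeal R)
      (IsLocalRing.maximalIdeal_le_jacobson _) fun x => by
        have h3 : φ (τ x - τ' x) = 0 := by
          rw [map_sub, sub_eq_zero]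
          exact AlgHom.congr_fun h1 x
        exact fun hu => by
          have := hu.map φ
          rw [h3] at this
          exact not_isUnit_zero this
    funext j
    rw [← hτ, ← hτ', h2]
  · obtain ⟨ρ, hρ⟩ := point S s fun i => by
      rw [MvPolynomial.aeval_def, ← MvPolynomial.eval_map]
      exact hs i
    let ρκ : TensorProduct R (IsLocalRing.ResidueField R) (MvPolynomial (Fin n) R ⧸ J) →ₐ[IsLocalRing.ResidueField R]
        IsLocalRing.ResidueField S :=
      Algebra.TensorProduct.lift (Algebra.ofId _ _)
        ((IsScalarTower.toAlgHom R S (IsLocalRing.ResidueField S)).comp ρ) fun _ _ => Commute.all _ _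
    obtain ⟨σ₀, hσ₀⟩ := HenselLib.exists_point_of_isSepClosed (k := IsLocalRing.ResidueField R)
      (E := TensorProduct R (IsLocalRing.ResidueField R) (MvPolynomial (Fin n) R ⧸ J)) ρκ
    obtain ⟨τ, hτ, -⟩ := HenselLib.existsUnique_lift (IsLocalRing.maximalIdeal R)
      ((σ₀.restrictScalars R).comp Algebra.TensorProduct.includeRight :
        MvPolynomial (Fin n) R ⧸ J →ₐ[R] R ⧸ IsLocalRing.maximalIdeal R)
    have h1 : (Algebra.ofId R S).comp τ = ρ := HenselLib.algHom_ext_of_jacobson
      (J := IsLocalRing.maximalIdeal S) (IsLocalRing.maximalIdeal_le_jacobson _) fun x => by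
        rw [← Ideal.Quotient.eq]
        show IsLocalRing.residue S (algebraMap R S (τ x)) = IsLocalRing.residue S (ρ x)
        rw [← IsLocalRing.ResidueField.map_residue (algebraMap R S)]
        have e1 : IsLocalRing.residue R (τ x) = σ₀ (1 ⊗ₜ x) := AlgHom.congr_fun hτ x
        rw [e1]
        have e2 := AlgHom.congr_fun hσ₀ (1 ⊗ₜ x)
        simp only [ρκ, AlgHom.comp_apply, Algebra.TensorProduct.lift_tmul, map_one, one_mul] at e2
        exact e2
    let f := τ.comp (Ideal.Quotient.mkₐ R J)
    refine ⟨fun j => f (MvPolynomial.X j), fun i => ?_, funext fun j => ?_⟩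
    · rw [← MvPolynomial.coe_aeval_eq_eval,
        show MvPolynomial.aeval (fun j => f (MvPolynomial.X j)) = f from
          MvPolynomial.algHom_ext fun j => MvPolynomial.aeval_X _ j]
      show τ (Ideal.Quotient.mk J (P i)) = 0
      rw [Ideal.Quotient.eq_zero_iff_mem.mpr (show P i ∈ J from Ideal.subset_span (Set.mem_range_self i)), map_zero]
    · show φ (τ (Ideal.Quotient.mk J (MvPolynomial.X j))) = s j
      rw [← hρ j, ← h1]
      rfl

end Groth.Agent.S0517
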