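import Groth.Statements.S0533
import Groth.Agent.HenselLib.Unique

set_option autoImplicit false
universe u
open Hensel
open scoped TensorProduct

namespace Groth.Agent.S0533

/-- If `A` is Henselian at `I`, base change to `A/I` gives a bijection between `A`-algebra maps of two
finite étale `A`-algebras and `A/I`-algebra maps of their reductions. -/
theorem result (A : Type u) [CommRing A] (I : Ideal A) [HenselianRing A I]
    (B₁ B₂ : Type u) [CommRing B₁] [CommRing B₂] [Algebra A B₁] [Algebra A B₂]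
    [Module.Finite A B₁] [Algebra.Etale A B₁] [Module.Finite A B₂] [Algebra.Etale A B₂] :
    Function.Bijective (fun φ : B₁ →ₐ[A] B₂ =>
      Algebra.TensorProduct.map (AlgHom.id (A ⧸ I) (A ⧸ I)) φ) := by
  haveI := HenselLib.henselianRing_of_isIntegral I B₂
  let q : B₂ →ₐ[A] TensorProduct A (A ⧸ I) B₂ := Algebra.TensorProduct.includeRight
  have hsurj : Function.Surjective q := TensorProduct.mk_surjective A B₂ (A ⧸ I)
    Ideal.Quotient.mk_surjective
  have hker : ∀ x, q x = 0 ↔ x ∈ I.map (algebraMap A B₂) := fun x => by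
    have h := SetLike.ext_iff.mp (LinearMap.ker_tensorProductMk (R := A) (Q := B₂) (I := I)) x
    rw [Ideal.smul_top_eq_map] at h
    exact h
  refine ⟨fun φ ψ h => HenselLib.algHom_ext_of_jacobson
    (HenselianRing.jac (I := I.map (algebraMap A B₂))) fun x => ?_, fun Φ => ?_⟩
  · rw [← hker, map_sub, sub_eq_zero]
    have := AlgHom.congr_fun h (1 ⊗ₜ x)
    simpa [q] using this
  · let ρ : (B₂ ⧸ RingHom.ker q) ≃ₐ[A] TensorProduct A (A ⧸ I) B₂ :=
      Ideal.quotientKerAlgEquivOfSurjective hsurj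
    let ρ' : (B₂ ⧸ I.map (algebraMap A B₂)) ≃ₐ[A] TensorProduct A (A ⧸ I) B₂ :=
      (Ideal.quotientEquivAlgOfEq A (show I.map (algebraMap A B₂) = RingHom.ker q from
        Ideal.ext fun x => (hker x).symm)).trans ρ
    obtain ⟨φ, hφ, -⟩ := HenselLib.existsUnique_lift (I.map (algebraMap A B₂))
      (ρ'.symm.toAlgHom.comp ((Φ.restrictScalars A).comp Algebra.TensorProduct.includeRight))
    refine ⟨φ, Algebra.TensorProduct.ext (Subsingleton.elim _ _) (AlgHom.ext fun x => ?_)⟩
    have h1 : ρ'.symm (Φ (1 ⊗ₜ x)) = Ideal.Quotient.mk _ (φ x) := (AlgHom.congr_fun hφ x).symm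
    have h2 := congrArg ρ' h1
    rw [AlgEquiv.apply_symm_apply] at h2
    show (1 : A ⧸ I) ⊗ₜ[A] φ x = Φ (1 ⊗ₜ x)
    rw [h2]
    rfl

end Groth.Agent.S0533
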