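import Groth.Statements.S0520
import Groth.Agent.HenselLib.TFAE

set_option autoImplicit false
universe u
open Hensel Polynomial

namespace Groth.Agent.S0520

/-- A ring `A` is Henselian at an ideal `I` in Mathlib's sense (simple roots lift) exactly when `I` lies
in the Jacobson radical and every factorization of the reduction of a monic polynomial into two
comaximal monic factors over `A/I` lifts to a factorization into monic polynomials over `A`. -/
theorem result (A : Type u) [CommRing A] (I : Ideal A) :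
    HenselianRing A I ↔ (I ≤ Ideal.jacobson ⊥ ∧
      ∀ f : Polynomial A, f.Monic → ∀ g₀ h₀ : Polynomial (A ⧸ I), g₀.Monic → h₀.Monic →
        IsCoprime g₀ h₀ → Polynomial.map (Ideal.Quotient.mk I) f = g₀ * h₀ →
        ∃ g h : Polynomial A, g.Monic ∧ h.Monic ∧ f = g * h ∧
          Polynomial.map (Ideal.Quotient.mk I) g = g₀ ∧ Polynomial.map (Ideal.Quotient.mk I) h = h₀) := by
  constructor
  · intro H
    refine ⟨H.jac, fun f hf g₀ h₀ hg hh hc heq => ?_⟩
    obtain ⟨g, h, h1, h2, h3, -, h5, h6⟩ := HenselLib.liftsFactor I f hf g₀ h₀ hg hh hc heq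
    exact ⟨g, h, h1, h2, h3, h5, h6⟩
  · rintro ⟨hI, hfac⟩
    refine HenselLib.henselianRing_of_gabber hI fun N χ hm hχ => ?_
    rcases subsingleton_or_nontrivial (A ⧸ I) with hs | hs
    · have hI' : I = ⊤ := Ideal.Quotient.subsingleton_iff.mp hs
      haveI : Subsingleton A := subsingleton_of_zero_eq_one
        (isUnit_zero_iff.mp (HenselLib.isUnit_of_sub_one_mem hI (hI' ▸ Submodule.mem_top)))
      exact ⟨0, Subsingleton.elim _ _, hI' ▸ Submodule.mem_top⟩
    obtain ⟨g, h, hgm, hhm, hgh, -, hh⟩ := hfac χ hm ((X : (A ⧸ I)[X]) ^ N) (X - C 1)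
      (monic_X_pow N) (monic_X_sub_C 1)
      (IsCoprime.pow_left ⟨1, -1, by rw [map_one]; ring⟩)
      (by rw [hχ]; simp)
    have hdeg : h.natDegree = 1 := by
      rw [← hhm.natDegree_map (Ideal.Quotient.mk I), hh, natDegree_X_sub_C]
    have hform := hhm.eq_X_add_C hdeg
    refine ⟨-h.coeff 0, ?_, ?_⟩
    · rw [hgh, IsRoot, eval_mul]
      conv_lhs => arg 2; rw [hform]
      simp
    · have := congrArg (fun q => Polynomial.coeff q 0) hh
      simp only [coeff_map, coeff_sub, coeff_X_zero, coeff_C_zero, zero_sub] at this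
      rw [show -h.coeff 0 - 1 = -(h.coeff 0 + 1) by ring, neg_mem_iff,
        ← Ideal.Quotient.eq_zero_iff_mem, map_add, map_one, this]
      ring

end Groth.Agent.S0520
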