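import Groth.Statements.S0524
import Groth.Agent.HenselLib.Local

set_option autoImplicit false
universe u
open Hensel

namespace Groth.Agent.S0524

/-- (1) iff (5) with the uniqueness complement: `A` is Henselian at `I` exactly when `I` lies in the
Jacobson radical and, for every `n ≥ 1` and every polynomial `p` of degree at most `n` with all
coefficients in `I`, the polynomial `Tⁿ(T-1) + p` has exactly one root congruent to `1` modulo `I`. -/
theorem result (A : Type u) [CommRing A] (I : Ideal A) :
    HenselianRing A I ↔ (I ≤ Ideal.jacobson ⊥ ∧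
      ∀ (n : ℕ), 0 < n → ∀ p : Polynomial A, p.natDegree ≤ n → (∀ i, p.coeff i ∈ I) →
        ∃! α : A, α - 1 ∈ I ∧
          Polynomial.IsRoot (Polynomial.X ^ n * (Polynomial.X - 1) + p) α) := by
  constructor
  · intro H
    refine ⟨H.jac, fun n hn p hdeg hp => ?_⟩
    set f := Polynomial.X ^ n * (Polynomial.X - 1) + p with hf
    have hmon : f.Monic := by
      rcases subsingleton_or_nontrivial A with hA | hA
      · exact Subsingleton.elim _ _
      · have h1 : (Polynomial.X - 1 : Polynomial A).Monic := by
          simpa using Polynomial.monic_X_sub_C (1 : A)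
        refine Polynomial.Monic.add_of_left ((Polynomial.monic_X_pow n).mul h1) ?_
        refine Polynomial.degree_lt_degree (hdeg.trans_lt ?_)
        rw [(Polynomial.monic_X_pow n).natDegree_mul h1, Polynomial.natDegree_X_pow,
          show (Polynomial.X - 1 : Polynomial A) = Polynomial.X - Polynomial.C 1 by simp,
          Polynomial.natDegree_X_sub_C]
        exact Nat.lt_succ_self n
    have hmap : f.map (Ideal.Quotient.mk I) =
        ((Polynomial.X : Polynomial A) ^ n * (Polynomial.X - 1)).map (Ideal.Quotient.mk I) := by
      rw [hf, Polynomial.map_add, add_eq_left]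
      exact Polynomial.ext fun i => by
        rw [Polynomial.coeff_map, Polynomial.coeff_zero, Ideal.Quotient.eq_zero_iff_mem]
        exact hp i
    obtain ⟨r, hr, hr1⟩ := HenselLib.GabberHensel.of_henselian n f hmon hmap
    refine ⟨r, ⟨hr1, hr⟩, fun r' ⟨hr1', hr'⟩ => ?_⟩
    obtain ⟨k, hk⟩ := f.binomExpansion r (r' - r)
    rw [add_sub_cancel, hr', hr] at hk
    have hd : f.derivative.eval r - 1 ∈ I := by
      have h2 := HenselLib.eval_sub_eval_mem (I := I) (B := A)
        (show f.derivative.map (Ideal.Quotient.mk I) =
          (Polynomial.derivative ((Polynomial.X : Polynomial A) ^ n * (Polynomial.X - 1))).map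
            (Ideal.Quotient.mk I) by rw [← Polynomial.derivative_map, ← Polynomial.derivative_map, hmap]) r
      simp only [Polynomial.coe_aeval_eq_eval, Algebra.algebraMap_self, Ideal.map_id,
        Polynomial.derivative_mul, Polynomial.derivative_sub, Polynomial.derivative_one,
        Polynomial.derivative_X, sub_zero, mul_one, Polynomial.eval_add, Polynomial.eval_mul,
        Polynomial.eval_sub, Polynomial.eval_pow, Polynomial.eval_X, Polynomial.eval_one] at h2
      have h3 : r ^ n - 1 ∈ I := Ideal.mem_of_dvd I (sub_one_dvd_pow_sub_one r n) hr1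
      set c := (Polynomial.derivative (Polynomial.X ^ n : Polynomial A)).eval r
      rw [show f.derivative.eval r - 1 = (f.derivative.eval r - (c * (r - 1) + r ^ n)) + c * (r - 1)
        + (r ^ n - 1) by ring]
      exact I.add_mem (I.add_mem h2 (I.mul_mem_left _ hr1)) h3
    have hu : IsUnit (f.derivative.eval r + k * (r' - r)) := by
      refine HenselLib.isUnit_of_sub_one_mem H.jac ?_
      rw [show f.derivative.eval r + k * (r' - r) - 1 = (f.derivative.eval r - 1) +
        k * ((r' - 1) - (r - 1)) by ring]
      exact I.add_mem hd (I.mul_mem_left _ (I.sub_mem hr1' hr1))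
    exact sub_eq_zero.mp (hu.mul_right_eq_zero.mp (by linear_combination -hk))
  · rintro ⟨hI, h⟩
    refine HenselLib.henselianRing_of_gabber hI fun N χ hm hχ => ?_
    rcases subsingleton_or_nontrivial (A ⧸ I) with hs | hs
    · have hI' : I = ⊤ := Ideal.Quotient.subsingleton_iff.mp hs
      haveI : Subsingleton A := subsingleton_of_zero_eq_one
        (isUnit_zero_iff.mp (HenselLib.isUnit_of_sub_one_mem hI (hI' ▸ Submodule.mem_top)))
      exact ⟨0, Subsingleton.elim _ _, hI' ▸ Submodule.mem_top⟩
    haveI : Nontrivial A := (Ideal.Quotient.mk I).domain_nontrivial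
    set q := χ * Polynomial.X - Polynomial.X ^ (N + 1) * (Polynomial.X - 1) with hq
    have h1 : (Polynomial.X - 1 : Polynomial A).Monic := by
      simpa using Polynomial.monic_X_sub_C (1 : A)
    have hdegX : (Polynomial.X - 1 : Polynomial A).natDegree = 1 := by
      rw [← Polynomial.C_1, Polynomial.natDegree_X_sub_C]
    have hχN : χ.natDegree = N + 1 := by
      rw [← hm.natDegree_map (Ideal.Quotient.mk I), hχ,
        ((Polynomial.monic_X_pow N).mul h1).natDegree_map,
        (Polynomial.monic_X_pow N).natDegree_mul h1, Polynomial.natDegree_X_pow, hdegX]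
    have hqdeg : q.natDegree ≤ N + 1 := by
      rw [Polynomial.natDegree_le_iff_coeff_eq_zero]
      intro i hi
      have hA : (χ * Polynomial.X).natDegree = N + 2 := by
        rw [hm.natDegree_mul Polynomial.monic_X, hχN, Polynomial.natDegree_X]
      have hB : (Polynomial.X ^ (N + 1) * (Polynomial.X - 1) : Polynomial A).natDegree = N + 2 := by
        rw [(Polynomial.monic_X_pow _).natDegree_mul h1, Polynomial.natDegree_X_pow, hdegX]
      rcases eq_or_lt_of_le (Nat.succ_le_of_lt hi) with hi' | hi'
      · have e1 := (hm.mul Polynomial.monic_X).coeff_natDegree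
        have e2 := ((Polynomial.monic_X_pow (N + 1)).mul h1).coeff_natDegree
        rw [hA] at e1; rw [hB] at e2
        rw [hq, Polynomial.coeff_sub, ← hi', e1, e2, sub_self]
      · rw [hq, Polynomial.coeff_sub, Polynomial.coeff_eq_zero_of_natDegree_lt (by omega),
          Polynomial.coeff_eq_zero_of_natDegree_lt (by omega), sub_zero]
    have hqI : ∀ i, q.coeff i ∈ I := fun i => by
      rw [← Ideal.Quotient.eq_zero_iff_mem, ← Polynomial.coeff_map, hq, Polynomial.map_sub,
        Polynomial.map_mul, hχ, ← Polynomial.map_mul, ← Polynomial.map_sub]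
      simp [pow_succ, mul_assoc, mul_comm Polynomial.X]
    obtain ⟨r, ⟨hr1, hr⟩, -⟩ := h (N + 1) (Nat.succ_pos N) q hqdeg hqI
    refine ⟨r, ?_, hr1⟩
    rw [Polynomial.IsRoot, hq, add_sub_cancel, Polynomial.eval_mul, Polynomial.eval_X] at hr
    exact (HenselLib.isUnit_of_sub_one_mem hI hr1).mul_left_eq_zero.mp hr

end Groth.Agent.S0524
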