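import Groth.Statements.S0529
import Groth.Agent.HenselLib.Ops
import Mathlib.Algebra.Group.Pi.Units

set_option autoImplicit false
universe u
open Hensel

namespace Groth.Agent.S0529

/-- A product of rings, with the product ideal, is Henselian exactly when every factor is Henselian at
its ideal. -/
theorem result (J : Type u) (A : J → Type u) [∀ j, CommRing (A j)]
    (I : ∀ j, Ideal (A j)) :
    HenselianRing (∀ j, A j) (⨅ j, Ideal.comap (Pi.evalRingHom A j) (I j)) ↔
      ∀ j, HenselianRing (A j) (I j) := by
  classical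
  constructor
  · intro H j
    letI : Algebra (∀ j, A j) (A j) := (Pi.evalRingHom A j).toAlgebra
    haveI : Algebra.IsIntegral (∀ j, A j) (A j) := ⟨fun x => by
      have := isIntegral_algebraMap (R := ∀ j, A j) (A := A j) (x := Pi.single j x)
      rwa [RingHom.algebraMap_toAlgebra, Pi.evalRingHom_apply, Pi.single_eq_same] at this⟩
    have h := HenselLib.henselianRing_of_isIntegral (⨅ j, Ideal.comap (Pi.evalRingHom A j) (I j)) (A j)
    convert h
    refine le_antisymm (fun x hx => ?_) (Ideal.map_le_iff_le_comap.mpr (iInf_le _ j))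
    have : Pi.evalRingHom A j (Pi.single j x) = x := Pi.single_eq_same j x
    rw [← this]
    refine Ideal.mem_map_of_mem _ (Ideal.mem_iInf.mpr fun k => ?_)
    rw [Ideal.mem_comap, Pi.evalRingHom_apply]
    rcases eq_or_ne k j with rfl | hk
    · rwa [Pi.single_eq_same]
    · rw [Pi.single_eq_of_ne hk]
      exact zero_mem _
  · intro H
    have hjac : (⨅ j, Ideal.comap (Pi.evalRingHom A j) (I j)) ≤ Ideal.jacobson ⊥ := by
      intro x hx
      rw [Ideal.mem_jacobson_bot]
      exact fun y => Pi.isUnit_iff.mpr fun j =>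
        Ideal.mem_jacobson_bot.mp ((H j).jac (Ideal.mem_iInf.mp hx j)) (y j)
    refine ⟨hjac, fun f hf a₀ h₁ h₂ => ?_⟩
    haveI := isLocalHom_of_le_jacobson_bot _ hjac
    have hu : IsUnit (f.derivative.eval a₀) := IsUnit.of_map _ _ h₂
    have : ∀ j, ∃ a : A j, (f.map (Pi.evalRingHom A j)).IsRoot a ∧ a - a₀ j ∈ I j := fun j => by
      refine (H j).is_henselian _ (hf.map _) (a₀ j) ?_ ?_
      · rw [← Pi.evalRingHom_apply A j a₀, Polynomial.eval_map_apply]
        exact Ideal.mem_iInf.mp h₁ j
      · rw [← Pi.evalRingHom_apply A j a₀, Polynomial.derivative_map, Polynomial.eval_map_apply]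
        exact (hu.map _).map _
    choose a ha₁ ha₂ using this
    refine ⟨a, funext fun j => ?_, Ideal.mem_iInf.mpr fun j => ?_⟩
    · have := ha₁ j
      rwa [Polynomial.IsRoot, ← Pi.evalRingHom_apply A j a, Polynomial.eval_map_apply] at this
    · exact ha₂ j

end Groth.Agent.S0529
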