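import Groth.Statements.S0530
import Groth.Agent.HenselLib.Ops

set_option autoImplicit false
universe u
open Hensel

namespace Groth.Agent.S0530

/-- If `A` is Henselian at `I` and `p` is a prime ideal of `A`, then the spectrum of `A/(p + I)` is
connected. -/
theorem result (A : Type u) [CommRing A] (I : Ideal A) [HenselianRing A I]
    (p : Ideal A) [p.IsPrime] : ConnectedSpace (PrimeSpectrum (A ⧸ p ⊔ I)) := by
  have hne : p ⊔ I ≠ ⊤ := fun htop => by
    refine ‹p.IsPrime›.ne_top ((Ideal.eq_top_iff_one _).mpr ?_)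
    obtain ⟨x, hx, i, hi, hxi⟩ := Submodule.mem_sup.mp ((Ideal.eq_top_iff_one _).mp htop)
    have hu : IsUnit x := HenselLib.isUnit_of_sub_one_mem HenselianRing.jac
      (by rw [show x - 1 = -i by linear_combination hxi]; exact neg_mem hi)
    exact absurd (Ideal.eq_top_of_isUnit_mem p hx hu) ‹p.IsPrime›.ne_top
  haveI : Nontrivial (A ⧸ p ⊔ I) := Ideal.Quotient.nontrivial_iff.mpr hne
  have hid : ∀ e : A ⧸ p ⊔ I, IsIdempotentElem e → e = 0 ∨ e = 1 := by
    intro e he
    obtain ⟨e', rfl⟩ := (DoubleQuot.quotQuotEquivQuotSup p I).surjective e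
    have he' : IsIdempotentElem e' := (DoubleQuot.quotQuotEquivQuotSup p I).injective
      (by rw [map_mul]; exact he)
    obtain ⟨b, hb, rfl⟩ := (HenselLib.bijOn_idem I (A ⧸ p)).surjOn he'
    rcases IsIdempotentElem.iff_eq_zero_or_one.mp hb with rfl | rfl
    · exact .inl (by rw [map_zero]; exact map_zero _)
    · exact .inr (by rw [map_one]; exact map_one _)
  refine @ConnectedSpace.mk _ _ (preconnectedSpace_iff_clopen.mpr fun s hs => ?_) inferInstance
  obtain ⟨e, he, rfl⟩ := PrimeSpectrum.isClopen_iff.mp hs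
  rcases hid e he with rfl | rfl <;> simp

end Groth.Agent.S0530
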