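import Groth.Statements.S0531
import Groth.Agent.HenselLib.Ops

set_option autoImplicit false
universe u
open Hensel

namespace Groth.Agent.S0531

/-- Every ring has a largest ideal at which it is Henselian. -/
theorem result (A : Type u) [CommRing A] :
    ∃ I : Ideal A, HenselianRing A I ∧ ∀ J : Ideal A, HenselianRing A J → J ≤ I := by
  set S : Set (Ideal A) := {J | HenselianRing A J} with hS
  have hne : S.Nonempty := ⟨⊥, HenselLib.henselianRing_of_nil fun x hx => by
    rw [Ideal.mem_bot.mp hx]
    exact IsNilpotent.zero⟩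
  have hdir : DirectedOn (· ≤ ·) S := by
    intro I hI J hJ
    haveI : HenselianRing A I := hI
    haveI : HenselianRing A J := hJ
    haveI : HenselianRing (A ⧸ I) ((I ⊔ J).map (Ideal.Quotient.mk I)) := by
      rw [Ideal.map_sup, Ideal.map_quotient_self, bot_sup_eq]
      exact HenselLib.henselianRing_quotient I J
    exact ⟨I ⊔ J, HenselLib.henselianRing_of_quotient le_sup_left, le_sup_left, le_sup_right⟩
  refine ⟨sSup S, ⟨sSup_le fun J hJ => HenselianRing.jac (self := hJ), fun f hf a₀ h₁ h₂ => ?_⟩,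
    fun J hJ => le_sSup hJ⟩
  obtain ⟨J, hJ, hJa⟩ := (Submodule.mem_sSup_of_directed hne hdir).mp h₁
  haveI := isLocalHom_of_le_jacobson_bot (sSup S) (sSup_le fun J hJ => HenselianRing.jac (self := hJ))
  obtain ⟨a, ha, haJ⟩ := HenselianRing.is_henselian (self := hJ) f hf a₀ hJa
    ((IsUnit.of_map _ _ h₂).map _)
  exact ⟨a, ha, le_sSup (a := J) hJ haJ⟩

end Groth.Agent.S0531
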