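import Groth.Statements.S0534
import Groth.Agent.HenselLib.ProjLift

set_option autoImplicit false
universe u
open Hensel
open scoped TensorProduct

namespace Groth.Agent.S0534

/-- If `R` is Henselian at `I`, every finitely generated projective `R/I`-module is the base change of a
finitely generated projective `R`-module. -/
theorem result (R : Type u) [CommRing R] (I : Ideal R)
    [HenselianRing R I] (Q : Type u) [AddCommGroup Q] [Module (R ⧸ I) Q] [Module.Finite (R ⧸ I) Q]
    [Module.Projective (R ⧸ I) Q] :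
    ∃ (P : Type u) (_ : AddCommGroup P) (_ : Module R P), Module.Finite R P ∧ Module.Projective R P ∧
      Nonempty (TensorProduct R (R ⧸ I) P ≃ₗ[R ⧸ I] Q) := by
  letI : Module R Q := Module.compHom Q (Ideal.Quotient.mk I)
  haveI : IsScalarTower R (R ⧸ I) Q := ⟨fun r x q => by
    rw [Algebra.smul_def, mul_smul]; rfl⟩
  obtain ⟨n, P, π, hfin, hproj, hsurj, hker⟩ := HenselLib.exists_proj_lift I Q
  refine ⟨P, inferInstance, inferInstance, hfin, hproj, ⟨LinearEquiv.ofBijective (π.liftBaseChange (R ⧸ I)) ⟨?_, ?_⟩⟩⟩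
  · rw [← LinearMap.ker_eq_bot, eq_bot_iff]
    intro z hz
    obtain ⟨x, rfl⟩ := TensorProduct.mk_surjective R P (R ⧸ I) Ideal.Quotient.mk_surjective z
    have hx : x ∈ LinearMap.ker π := by simpa using hz
    rw [hker, ← LinearMap.ker_tensorProductMk] at hx
    simpa using hx
  · intro q
    obtain ⟨x, rfl⟩ := hsurj q
    exact ⟨(1 : R ⧸ I) ⊗ₜ[R] x, by simp⟩

end Groth.Agent.S0534
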