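import Groth.Statements.S0544
import Groth.Agent.AdicLim.Filt

set_option autoImplicit false
universe u
open CAlg

namespace Groth.Agent.S0544

/-- Let `R` be complete with respect to an ideal `I` and `M` an `R`-module which is `I`-adically
separated and such that `M/IM` is finitely generated. Then `M` is a finitely generated `R`-module. -/
theorem result (R : Type u) [CommRing R]
    (I : Ideal R) [IsAdicComplete I R] (M : Type u) [AddCommGroup M] [Module R M] [IsHausdorff I M]
    (h : Module.Finite R (M ⧸ (I • ⊤ : Submodule R M))) : Module.Finite R M := by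
  obtain ⟨s, g, hg⟩ := Groth.Agent.AdicLim.exists_range_sup_ker h (I • ⊤ : Submodule R M).mkQ
    (Submodule.mkQ_surjective _)
  haveI := Groth.Agent.AdicLim.isPrecomplete_pi (I := I) (ι := Fin s) R
  refine Module.Finite.of_surjective g fun x => ?_
  obtain ⟨c, -, hc⟩ := Groth.Agent.AdicLim.exists_eq_map
    (fun k => (I ^ k • (⊤ : Submodule R (Fin s → R))).toAddSubgroup)
    (fun k => (I ^ k • (⊤ : Submodule R M)).toAddSubgroup) g.toAddMonoidHom
    (fun k => Submodule.pow_smul_top_le I _ (Nat.le_succ k))
    (fun t ht => Groth.Agent.AdicLim.exists_limit (I := I) _ t ht)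
    (fun y hy => IsHausdorff.haus (I := I) inferInstance y fun k => SModEq.zero.2 (hy k))
    (fun k c hc => by
      have h1 : g c ∈ (I ^ k • (⊤ : Submodule R (Fin s → R))).map g := Submodule.mem_map_of_mem hc
      rw [Submodule.map_smul''] at h1
      exact Submodule.smul_mono le_rfl le_top h1)
    (fun k y hy => by
      have : y ∈ (I ^ k • (⊤ : Submodule R (Fin s → R))).map g ⊔ I ^ (k + 1) • ⊤ := by
        refine (show I ^ k • (⊤ : Submodule R M) ≤ _ from ?_) hy
        rw [Submodule.map_smul'', Submodule.map_top, pow_succ, Submodule.mul_smul,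
          ← Submodule.smul_sup]
        rw [Submodule.ker_mkQ] at hg
        rw [hg]
      obtain ⟨_, ⟨d, hd, rfl⟩, z, hz, rfl⟩ := Submodule.mem_sup.1 this
      exact ⟨d, hd, by simpa using hz⟩) (x := x) (by simp)
  exact ⟨c, hc⟩

end Groth.Agent.S0544
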