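import Groth.Statements.S0546
import Mathlib
-- import your own Groth.Agent.* helpers here

set_option autoImplicit false
universe u
open CAlg

namespace Groth.Agent.S0546

open Finset

theorem precomplete_of_le {A : Type u} [CommRing A] (I J : Ideal A) (hIJ : I ≤ J)
    (hI : I.FG) (M : Type u) [AddCommGroup M] [Module A M] [IsAdicComplete J M] :
    IsPrecomplete I M := by
  refine ⟨fun f hf => ?_⟩
  have step : ∀ k, f (k + 1) - f k ∈ (I ^ k • ⊤ : Submodule A M) := fun k =>
    SModEq.sub_mem.mp (hf (Nat.le_succ k)).symm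
  obtain ⟨L, hL⟩ := IsPrecomplete.prec (inferInstance : IsPrecomplete J M) (f := f) fun {m n} h =>
    (hf h).mono (Submodule.smul_mono_left (Ideal.pow_right_mono hIJ m))
  refine ⟨L, fun n => ?_⟩
  obtain ⟨t, ht⟩ : (I ^ n).FG := Submodule.FG.pow hI n
  -- decompose the differences along the generators of `I ^ n`
  have dec : ∀ j, ∃ y : A → M, (∀ a, y a ∈ (I ^ j • ⊤ : Submodule A M)) ∧
      f (n + j + 1) - f (n + j) = ∑ a ∈ t, a • y a := by
    intro j
    have h := step (n + j)
    rw [pow_add, ← smul_eq_mul, Submodule.smul_assoc, ← ht] at h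
    refine Submodule.smul_induction_on h (fun r hr m hm => ?_) ?_
    · obtain ⟨c, -, hc⟩ := Submodule.mem_span_finset.mp hr
      refine ⟨fun a => c a • m, fun a => Submodule.smul_mem _ _ hm, ?_⟩
      conv_lhs => rw [← hc]
      rw [Finset.sum_smul]
      exact Finset.sum_congr rfl fun a _ => by rw [smul_eq_mul, mul_comm, mul_smul]
    · rintro x y ⟨u, hu, rfl⟩ ⟨v, hv, rfl⟩
      exact ⟨u + v, fun a => Submodule.add_mem _ (hu a) (hv a), by simp [Finset.sum_add_distrib]⟩
  choose y hy hys using dec
  let S : A → ℕ → M := fun a p => ∑ j ∈ range p, y j a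
  have hS : ∀ a {p q}, p ≤ q → S a p ≡ S a q [SMOD (J ^ p • ⊤ : Submodule A M)] := by
    intro a p q hpq
    rw [SModEq.sub_mem, ← neg_sub, neg_mem_iff, ← sum_Ico_eq_sub _ hpq]
    refine Submodule.sum_mem _ fun j hj => ?_
    exact Submodule.smul_mono_left ((Ideal.pow_right_mono hIJ j).trans
      (Ideal.pow_le_pow_right (mem_Ico.mp hj).1)) (hy j a)
  choose Y hY using fun a => IsPrecomplete.prec (inferInstance : IsPrecomplete J M) (f := S a) (hS a)
  have key : L - f n = ∑ a ∈ t, a • Y a := by
    refine sub_eq_zero.mp (IsHausdorff.haus (inferInstance : IsHausdorff J M) _ fun p => ?_)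
    rw [SModEq.sub_mem, sub_zero]
    have hsum : ∀ q, f (n + q) - f n = ∑ a ∈ t, a • S a q := by
      intro q
      induction q with
      | zero => simp [S]
      | succ q ih =>
        simp only [S, sum_range_succ, smul_add, sum_add_distrib]
        rw [← hys, ← ih, ← add_assoc]
        abel
    have e : L - f n - ∑ a ∈ t, a • Y a =
        -(f (n + p) - L) + ∑ a ∈ t, a • (S a p - Y a) := by
      simp only [smul_sub, sum_sub_distrib, ← hsum]
      abel
    rw [e]
    refine Submodule.add_mem _ (neg_mem ?_) (Submodule.sum_mem _ fun a _ => ?_)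
    · exact Submodule.smul_mono_left (Ideal.pow_le_pow_right (Nat.le_add_left p n))
        (SModEq.sub_mem.mp (hL (n + p)))
    · exact Submodule.smul_mem _ _ (SModEq.sub_mem.mp (hY a p))
  refine (SModEq.sub_mem.mpr ?_).symm
  rw [key]
  exact Submodule.sum_mem _ fun a ha => Submodule.smul_mem_smul (ht ▸ Submodule.subset_span ha)
    Submodule.mem_top


/-- If `I ≤ J` are ideals with `I` finitely generated and `M` is `J`-adically complete, then `M` is
`I`-adically complete. -/
theorem result (A : Type u) [CommRing A] (I J : Ideal A) (hIJ : I ≤ J)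
    (hI : I.FG) (M : Type u) [AddCommGroup M] [Module A M] [IsAdicComplete J M] :
    IsAdicComplete I M := by
  haveI := precomplete_of_le I J hIJ hI M
  haveI : IsHausdorff I M := ⟨fun x hx => IsHausdorff.haus (inferInstance : IsHausdorff J M) x fun n =>
    (hx n).mono (Submodule.smul_mono_left (Ideal.pow_right_mono hIJ n))⟩
  exact {}

end Groth.Agent.S0546
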