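import Groth.Statements.S0550
import Groth.Agent.CplFlat.Noetherian
import Mathlib.RingTheory.AdicCompletion.AsTensorProduct

set_option autoImplicit false
universe u
open CAlg

namespace Groth.Agent.S0550

/-- Over a Noetherian ring `R` with an ideal `I`, the `I`-adic completion of a free module (on any index
set) is a flat `R`-module. -/
theorem result (R : Type u) [CommRing R] [IsNoetherianRing R]
    (I : Ideal R) (α : Type u) : Module.Flat R (AdicCompletion I (α →₀ R)) := by
  haveI : IsNoetherianRing (R ⧸ I) :=
    isNoetherianRing_of_surjective R (R ⧸ I) (Ideal.Quotient.mk I) Ideal.Quotient.mk_surjective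
  haveI := Groth.Agent.CplFlat.isNoetherianRing_completion_of_fg I I.fg_of_isNoetherianRing
  haveI : Module.Flat R (AdicCompletion I R) := AdicCompletion.flat_of_isNoetherian I
  haveI := Groth.Agent.CplFlat.flat_completion I (α →₀ R) I.fg_of_isNoetherianRing
    Groth.Agent.CplFlat.levelFlat_of_flat
  exact Module.Flat.trans R (AdicCompletion I R) (AdicCompletion I (α →₀ R))

end Groth.Agent.S0550
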