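import Groth.Statements.S0551
import Groth.Agent.CplFlat.Noetherian
import Groth.Agent.MLMod.NilFlat

set_option autoImplicit false
universe u
open CAlg

namespace Groth.Agent.S0551

/-- Let `R` be a ring, `I` a finitely generated ideal with `R/I` Noetherian, and `M` an `R`-module such
that `M/IM` is flat over `R/I` and the multiplication map `I ⊗ M → M` is injective (the vanishing of
the first Tor of `M` against `R/I`). Then the `I`-adic completion of `M` is flat over the `I`-adic
completion of `R`. (The published statement also records that the completed ring is Noetherian; that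
is stated separately.) -/
theorem result (R : Type u) [CommRing R] (I : Ideal R) (hI : I.FG)
    [IsNoetherianRing (R ⧸ I)] (M : Type u) [AddCommGroup M] [Module R M]
    [Module.Flat (R ⧸ I) (M ⧸ (I • ⊤ : Submodule R M))]
    (hT : Function.Injective (TensorProduct.lift ((LinearMap.lsmul R M).comp (Submodule.subtype I)))) :
    Module.Flat (AdicCompletion I R) (AdicCompletion I M) := by
  haveI := Groth.Agent.CplFlat.isNoetherianRing_completion_of_fg I hI
  haveI : Module.Flat (R ⧸ I) (TensorProduct R (R ⧸ I) M) :=
    Module.Flat.of_linearEquiv (LinearEquiv.extendScalarsOfSurjective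
      (R := R) (S := R ⧸ I) Ideal.Quotient.mk_surjective (TensorProduct.quotTensorEquivQuotSMul M I))
  have htor : Function.Injective (I.subtype.rTensor M) := by
    have e : TensorProduct.lift ((LinearMap.lsmul R M).comp (Submodule.subtype I)) =
        (TensorProduct.lid R M).toLinearMap ∘ₗ I.subtype.rTensor M := TensorProduct.ext' fun x m => by simp
    rw [e, LinearMap.coe_comp] at hT
    exact hT.of_comp
  exact Groth.Agent.CplFlat.flat_completion I M hI
    (Groth.Agent.CplFlat.levelFlat_of_flat_tensor fun n => Groth.MLMod.flat_quotient_pow_of_torZero I htor n)

end Groth.Agent.S0551
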