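import Groth.Statements.S0553
import Groth.Agent.CatSpace.Basic
import Groth.Agent.S0552
import Groth.Agent.S9126
-- import your own Groth.Agent.* helpers here

set_option autoImplicit false
universe u
open CAlg

namespace Groth.Agent.S0553

/-- A Noetherian ring is universally catenary exactly when its localization at every maximal ideal is
universally catenary. -/
theorem result (R : Type u) [CommRing R]
    [IsNoetherianRing R] :
    CAlg.IsUniversallyCatenary R ↔
      ∀ (m : Ideal R) [m.IsMaximal], CAlg.IsUniversallyCatenary (Localization.AtPrime m) := by
    refine ⟨fun h m hm => S9126.result R _ h, fun h => ⟨inferInstance, fun T _ _ hT => ?_⟩⟩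
    rw [S0552.result]
    intro n hn
    obtain ⟨m, hm, hle⟩ := Ideal.exists_le_maximal (n.under R) Ideal.IsPrime.ne_top'
    have hu : ∀ r : m.primeCompl, IsUnit (algebraMap R (Localization.AtPrime n) r) := fun r => by
      rw [IsScalarTower.algebraMap_apply R T (Localization.AtPrime n)]
      exact IsLocalization.map_units (M := n.primeCompl) (Localization.AtPrime n) ⟨algebraMap R T r, fun hr => r.2 (hle hr)⟩
    letI : Algebra (Localization.AtPrime m) (Localization.AtPrime n) :=
      (IsLocalization.lift (M := m.primeCompl) hu).toAlgebra
    haveI : IsScalarTower R (Localization.AtPrime m) (Localization.AtPrime n) :=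
      IsScalarTower.of_algebraMap_eq fun r => (IsLocalization.lift_eq (M := m.primeCompl) hu r).symm
    haveI : Algebra.EssFiniteType R (Localization.AtPrime n) := Algebra.EssFiniteType.comp R T (Localization.AtPrime n)
    haveI : Algebra.EssFiniteType (Localization.AtPrime m) (Localization.AtPrime n) := Algebra.EssFiniteType.of_comp R _ _
    exact (S9126.result (Localization.AtPrime m) (Localization.AtPrime n) (h m)).2 _ inferInstance

end Groth.Agent.S0553
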