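import Groth.Statements.S0555
import Groth.Agent.DimInequality.Basic
-- import your own Groth.Agent.* helpers here

set_option autoImplicit false
universe u
open CAlg

namespace Groth.Agent.S0555

/-- In the situation of the dimension formula, if the Noetherian base ring is universally catenary then
equality holds. -/
theorem result (R : Type u) [CommRing R] [IsDomain R]
    (hR : CAlg.IsUniversallyCatenary R) (S : Type u) [CommRing S] [IsDomain S] [Algebra R S]
    [FaithfulSMul R S] [Algebra.FiniteType R S] (p : Ideal R) [p.IsPrime] (q : Ideal S) [q.IsPrime]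
    [q.LiesOver p] :
    (q.height : Cardinal.{u}) + Algebra.trdeg (R ⧸ p) (S ⧸ q) =
      (p.height : Cardinal.{u}) + Algebra.trdeg R S := by
    have hp : p = q.under R := Ideal.LiesOver.over
    subst hp
    haveI := hR.1
    let A := Localization.AtPrime (q.under R)
    have hA : CAlg.IsUniversallyCatenary A := by
      refine ⟨IsLocalization.isNoetherianRing (q.under R).primeCompl A inferInstance, fun T _ _ hT => ?_⟩
      obtain ⟨n, ψ, hψ⟩ := Algebra.FiniteType.iff_quotient_mvPolynomial''.1 hT
      letI := (MvPolynomial.map (σ := Fin n) (algebraMap R A)).toAlgebra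
      haveI : IsLocalization ((q.under R).primeCompl.map (MvPolynomial.C (σ := Fin n))) (MvPolynomial (Fin n) A) :=
        MvPolynomial.isLocalization (q.under R).primeCompl A
      exact Catenary.isCatenary_of_surjective ψ.toRingHom hψ
        (Catenary.isCatenary_of_isLocalization ((q.under R).primeCompl.map (MvPolynomial.C (σ := Fin n)))
          (hR.2 (MvPolynomial (Fin n) R) inferInstance))
    obtain ⟨hq, hp, b, e, h1, h2, h3, h4, h5⟩ := GeomUnib.height_formula (R := R) q hA
    rw [h1, h2, h3, h4]
    simp only [Cardinal.ofENat_nat]
    exact_mod_cast h5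

end Groth.Agent.S0555
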