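import Groth.Statements.S0559
import Groth.Agent.DepthLib.CMModule
import Groth.Agent.DepthLib.Generators

set_option autoImplicit false
universe u
open CAlg

namespace Groth.Agent.S0559

/-- In a regular local ring of dimension `d`, any `d` elements generating the maximal ideal form a
regular sequence. -/
theorem result (R : Type u) [CommRing R]
    [IsRegularLocalRing R] (d : ℕ) (hd : ringKrullDim R = d) (x : Fin d → R)
    (hx : Ideal.span (Set.range x) = IsLocalRing.maximalIdeal R) :
    RingTheory.Sequence.IsRegular R (List.ofFn x) := by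
  haveI := DepthLib.isCohenMacaulayLocalRing_of_isRegularLocalRing R
  have hmax : ∀ r ∈ List.ofFn x, r ∈ IsLocalRing.maximalIdeal R := fun r hr => by
    obtain ⟨i, rfl⟩ := List.mem_ofFn.mp hr
    exact hx ▸ Ideal.subset_span ⟨i, rfl⟩
  have hof : Ideal.ofList (List.ofFn x) = IsLocalRing.maximalIdeal R := by
    rw [← hx, Ideal.ofList]
    congr 1
    ext r
    exact List.mem_ofFn
  refine (IsLocalRing.isRegular_iff_isWeaklyRegular_of_subset_maximalIdeal hmax).mpr
    (DepthLib.isWeaklyRegular_of_supportDim_drop _ R DepthLib.isCohenMacaulayModule_self hmax ?_)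
  rw [hof, smul_eq_mul, Ideal.mul_top, Module.supportDim_quotient_eq_ringKrullDim,
    ringKrullDim_eq_zero_of_isField ((Ideal.Quotient.maximal_ideal_iff_isField_quotient _).mp
      (IsLocalRing.maximalIdeal.isMaximal R)), Module.supportDim_self_eq_ringKrullDim, hd, List.length_ofFn]
  simp

end Groth.Agent.S0559
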