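import Groth.Statements.S0561
import Groth.Agent.DepthLib.RegularQuotient

set_option autoImplicit false
universe u
open CAlg

namespace Groth.Agent.S0561

/-- Let `R` be a regular local ring of dimension `d` and `I` an ideal with `R/I` a regular local ring.
Then there are elements `x₁, …, x_d` generating the maximal ideal such that `I` is generated by `x₁,
…, x_c` for some `c ≤ d`. -/
theorem result (R : Type u) [CommRing R]
    [IsRegularLocalRing R] (d : ℕ) (hd : ringKrullDim R = d) (I : Ideal R)
    [IsRegularLocalRing (R ⧸ I)] :
    ∃ (x : Fin d → R) (c : ℕ) (hc : c ≤ d), Ideal.span (Set.range x) = IsLocalRing.maximalIdeal R ∧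
      I = Ideal.span (Set.range (fun i : Fin c => x (Fin.castLE hc i))) := by
  have hn : (IsLocalRing.maximalIdeal R).spanFinrank = d := by
    have := IsRegularLocalRing.spanFinrank_maximalIdeal (R := R)
    rw [hd] at this
    exact_mod_cast this
  obtain ⟨xs, hlen, hxs, c, hc, hI⟩ :=
    DepthLib.exists_regular_system_of_regular_quotient d R I hn inferInstance
  subst hlen
  refine ⟨fun i => xs[i], c, hc, ?_, ?_⟩
  · rw [← hxs, Ideal.ofList]
    congr 1
    ext r
    simp [List.mem_iff_getElem, Fin.exists_iff]
  · rw [hI, Ideal.ofList]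
    congr 1
    ext r
    simp only [Set.mem_setOf_eq, List.mem_iff_getElem, Set.mem_range, Fin.exists_iff]
    constructor
    · rintro ⟨i, hi, rfl⟩
      exact ⟨i, by simp at hi; omega, by simp⟩
    · rintro ⟨i, hi, rfl⟩
      exact ⟨i, by simp; omega, by simp⟩

end Groth.Agent.S0561
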