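import Groth.Statements.S0571
import Groth.Agent.CohenStruct.Local

set_option autoImplicit false
universe u
open CAlg

namespace Groth.Agent.S0571

/-- A Noetherian domain `R` is N-1 exactly when (a) `R_f` is integrally closed for some nonzero `f`, and
(b) the localization of `R` at every maximal ideal is N-1. -/
theorem result (R : Type u) [CommRing R] [IsDomain R]
    [IsNoetherianRing R] :
    CAlg.IsN1 R ↔ ((∃ f : R, f ≠ 0 ∧ IsIntegrallyClosed (Localization.Away f)) ∧
      ∀ (m : Ideal R) [m.IsMaximal], CAlg.IsN1 (Localization.AtPrime m)) := by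
  let K := FractionRing R
  constructor
  · intro h
    refine ⟨?_, fun m _ => Groth.Agent.NagataLib.isN1_of_isLocalization m.primeCompl _ h⟩
    classical
    have hfin : Module.Finite R (integralClosure R K) :=
      (Groth.Agent.NagataLib.isN1_iff K).1 h
    obtain ⟨n, v, hv⟩ := Module.Finite.exists_fin (R := R) (M := integralClosure R K)
    obtain ⟨d, hd⟩ := IsLocalization.exist_integer_multiples (nonZeroDivisors R) Finset.univ
      fun i => (v i : K)
    have hM : Submonoid.powers (d : R) ≤ nonZeroDivisors R :=
      powers_le_nonZeroDivisors_of_noZeroDivisors (nonZeroDivisors.coe_ne_zero d)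
    haveI : IsDomain (Localization.Away (d : R)) := IsLocalization.isDomain_localization hM
    refine ⟨d, nonZeroDivisors.coe_ne_zero d,
      (Groth.Agent.CohenStruct.isIntegrallyClosed_localization_iff _ hM _ K).mpr fun z hz => ?_⟩
    obtain ⟨c, hc⟩ := (Submodule.mem_span_range_iff_exists_fun R).mp
      (hv.symm ▸ Submodule.mem_top : (⟨z, hz⟩ : integralClosure R K) ∈
        Submodule.span R (Set.range v))
    refine ⟨d, Submonoid.mem_powers _, ?_⟩
    have hz' : z = ∑ i, c i • (v i : K) := by simpa using (congrArg Subtype.val hc).symm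
    rw [hz', Finset.smul_sum]
    refine sum_mem fun i hi => ?_
    obtain ⟨e, he⟩ := hd i hi
    rw [smul_comm, ← he]
    exact Submodule.smul_mem _ _ (Submodule.mem_one.mpr ⟨e, rfl⟩)
  · rintro ⟨⟨f, hf, hn⟩, hloc⟩
    rw [Groth.Agent.NagataLib.isN1_iff K]
    have hM : Submonoid.powers f ≤ nonZeroDivisors R :=
      powers_le_nonZeroDivisors_of_noZeroDivisors hf
    haveI : IsDomain (Localization.Away f) := IsLocalization.isDomain_localization hM
    haveI : Module.Finite R (⊥ : Subalgebra R K) := Subalgebra.finite_bot
    refine Groth.Agent.CohenStruct.finite_integralClosure_of_local ⊥ (algebraMap R _ f)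
      ((map_ne_zero_iff _ (IsFractionRing.injective R K)).mpr hf) (fun z hz => ?_) fun m _ => ?_
    · obtain ⟨_, ⟨k, rfl⟩, hk⟩ := (Groth.Agent.CohenStruct.isIntegrallyClosed_localization_iff
        _ hM (Localization.Away f) K).mp hn z hz
      obtain ⟨b, hb⟩ := Submodule.mem_one.mp hk
      refine ⟨k, Algebra.mem_bot.mpr ⟨b, ?_⟩⟩
      rw [hb, Algebra.smul_def, map_pow]
      rfl
    · let S := Localization.AtPrime m
      have hMm : m.primeCompl ≤ nonZeroDivisors R := m.primeCompl_le_nonZeroDivisors
      let : Algebra S K := (IsLocalization.lift (M := m.primeCompl)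
        (fun y => IsLocalization.map_units K (⟨y, hMm y.2⟩ : nonZeroDivisors R))).toAlgebra
      haveI : IsScalarTower R S K := .of_algebraMap_eq fun r => (IsLocalization.lift_eq _ r).symm
      haveI : IsFractionRing S K :=
        IsFractionRing.isFractionRing_of_isDomain_of_isLocalization m.primeCompl S K
      haveI : Module.Finite S (integralClosure S K) :=
        (Groth.Agent.NagataLib.isN1_iff K).1 (hloc m)
      exact Groth.Agent.CohenStruct.exists_generators_localization m.primeCompl S

end Groth.Agent.S0571
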