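import Groth.Statements.S0572
import Groth.Agent.CohenStruct.Local

set_option autoImplicit false
universe u
open CAlg

namespace Groth.Agent.S0572

/-- Let `R` be a Noetherian domain such that `R_f` is integrally closed for some nonzero `f`. Then the
set of primes `p` with `R_p` integrally closed is open in `Spec R`. -/
theorem result (R : Type u) [CommRing R] [IsDomain R] [IsNoetherianRing R] (f : R)
    (hf : f ≠ 0) (hn : IsIntegrallyClosed (Localization.Away f)) :
    IsOpen {p : PrimeSpectrum R | IsIntegrallyClosed (Localization.AtPrime p.asIdeal)} := by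
  let K := FractionRing R
  have hf0 : algebraMap R K f ≠ 0 := (map_ne_zero_iff _ (IsFractionRing.injective R K)).mpr hf
  have hM : Submonoid.powers f ≤ nonZeroDivisors R :=
    powers_le_nonZeroDivisors_of_noZeroDivisors hf
  haveI : IsDomain (Localization.Away f) := IsLocalization.isDomain_localization hM
  obtain ⟨J, hJ, -⟩ := Groth.Agent.CohenStruct.exists_badIdeal f hf0 (fun z hz => by
    obtain ⟨_, ⟨k, rfl⟩, hk⟩ := (Groth.Agent.CohenStruct.isIntegrallyClosed_localization_iff
      (Submonoid.powers f) hM (Localization.Away f) K).mp hn z hz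
    exact ⟨k, hk⟩)
  have hset : {p : PrimeSpectrum R | IsIntegrallyClosed (Localization.AtPrime p.asIdeal)} =
      (PrimeSpectrum.zeroLocus (J : Set R))ᶜ := by
    ext p
    rw [Set.mem_setOf_eq, Set.mem_compl_iff, PrimeSpectrum.mem_zeroLocus,
      Groth.Agent.CohenStruct.isIntegrallyClosed_localization_iff p.asIdeal.primeCompl
        p.asIdeal.primeCompl_le_nonZeroDivisors (Localization.AtPrime p.asIdeal) K]
    exact (hJ p.asIdeal)
  rw [hset]
  exact (PrimeSpectrum.isClosed_zeroLocus _).isOpen_compl

end Groth.Agent.S0572
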