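import Groth.Statements.S0577
import Groth.Agent.NagataUJ.Local
-- import your own Groth.Agent.* helpers here

set_option autoImplicit false
universe u
open CAlg

namespace Groth.Agent.S0577

/-- Let `A` be a Noetherian local domain of prime characteristic `p` which is a Nagata ring. If `a ∈ A`
has a `p`-th root in the completion of `A`, then it has a `p`-th root in `A`. -/
theorem result (A : Type u) [CommRing A] [IsDomain A]
    [IsLocalRing A] (hA : CAlg.IsNagata A) (p : ℕ) [Fact p.Prime] [CharP A p] (a : A)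
    (h : ∃ α : AdicCompletion (IsLocalRing.maximalIdeal A) A,
      α ^ p = algebraMap A (AdicCompletion (IsLocalRing.maximalIdeal A) A) a) :
    ∃ b : A, b ^ p = a := by
  classical
  obtain ⟨α, hα⟩ := h
  have := hA.1
  let K := FractionRing A
  let L := AlgebraicClosure K
  have hinj : Function.Injective (algebraMap A L) := by
    rw [IsScalarTower.algebraMap_eq A K L]
    exact (algebraMap K L).injective.comp (IsFractionRing.injective A K)
  obtain ⟨θ, hθ⟩ := IsAlgClosed.exists_pow_nat_eq (algebraMap A L a) (Fact.out : p.Prime).pos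
  let B := Algebra.adjoin A ({θ} : Set L)
  have hint : IsIntegral A θ :=
    ⟨Polynomial.X ^ p - Polynomial.C a, Polynomial.monic_X_pow_sub_C a (Fact.out : p.Prime).ne_zero,
      by simp [hθ]⟩
  have : Module.Finite A B := Module.Finite.iff_fg.mpr hint.fg_adjoin_singleton
  have : IsNoetherianRing B := IsNoetherianRing.of_finite A B
  have hinjB : Function.Injective (algebraMap A B) := fun u v e => hinj (congrArg Subtype.val e)
  have : CharP L p := charP_of_injective_algebraMap hinj p
  have : CharP B p := charP_of_injective_algebraMap hinjB p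
  have hpow : ∀ x : B, ∃ c : A, algebraMap A B c = x ^ p := by
    rintro ⟨x, hx⟩
    suffices h : ∃ c : A, algebraMap A L c = x ^ p by
      obtain ⟨c, hc⟩ := h
      exact ⟨c, Subtype.ext (by simpa using hc)⟩
    induction hx using Algebra.adjoin_induction with
    | mem y hy => rw [Set.mem_singleton_iff] at hy; exact ⟨a, by rw [hy, hθ]⟩
    | algebraMap r => exact ⟨r ^ p, map_pow _ _ _⟩
    | add u v _ _ hu hv =>
      obtain ⟨c, hc⟩ := hu
      obtain ⟨d, hd⟩ := hv
      exact ⟨c + d, by rw [map_add, hc, hd, add_pow_char]⟩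
    | mul u v _ _ hu hv =>
      obtain ⟨c, hc⟩ := hu
      obtain ⟨d, hd⟩ := hv
      exact ⟨c * d, by rw [map_mul, hc, hd, mul_pow]⟩
  -- `B` is local, with maximal ideal the radical of `m B`
  let m := IsLocalRing.maximalIdeal A
  have hmax : ∀ M : Ideal B, M.IsMaximal → M.comap (algebraMap A B) = m := fun M hM =>
    IsLocalRing.eq_maximalIdeal (Ideal.isMaximal_comap_of_isIntegral_of_isMaximal M)
  have hrad : ∀ M : Ideal B, M.IsMaximal → M = (m.map (algebraMap A B)).radical := by
    intro M hM
    refine le_antisymm (fun x hx => ⟨p, ?_⟩)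
      (hM.isPrime.radical_le_iff.mpr (Ideal.map_le_iff_le_comap.mpr (hmax M hM).ge))
    obtain ⟨c, hc⟩ := hpow x
    rw [← hc]
    refine Ideal.mem_map_of_mem _ ?_
    rw [← hmax M hM]
    change algebraMap A B c ∈ M
    rw [hc]
    exact Ideal.pow_mem_of_mem M hx p (Fact.out : p.Prime).pos
  have : IsLocalRing B := by
    obtain ⟨M, hM⟩ := Ideal.exists_maximal B
    exact .of_unique_max_ideal ⟨M, hM, fun N hN => (hrad N hN).trans (hrad M hM).symm⟩
  let mB := IsLocalRing.maximalIdeal B
  have hred := NagataUJ.isReduced_completion_of_isNagata (R := B) (NagataUJ.isNagata_of_finite hA)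
  obtain ⟨ψ, hψ⟩ := NagataUJ.exists_completionMap (algebraMap A B)
    (Ideal.map_le_iff_le_comap.mpr (hmax mB (IsLocalRing.maximalIdeal.isMaximal B)).ge)
  let t : B := ⟨θ, Algebra.self_mem_adjoin_singleton A θ⟩
  let ι := algebraMap B (AdicCompletion mB B)
  have ht : t ^ p = algebraMap A B a := Subtype.ext (by simpa [t] using hθ)
  have hψa : ψ (algebraMap A _ a) = ι (algebraMap A B a) := AdicCompletion.ext_evalₐ fun n => by
    rw [hψ n _ a ((AdicCompletion.evalₐ m n).commutes a)]
    exact ((AdicCompletion.evalₐ mB n).commutes _).symm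
  have h0 : ψ α = ι t := by
    rw [← sub_eq_zero]
    refine hred.eq_zero _ ⟨p, ?_⟩
    have hzero : (p : AdicCompletion mB B) = 0 := by
      rw [← map_natCast ι p, CharP.cast_eq_zero, map_zero]
    obtain ⟨r, hr⟩ := exists_add_pow_prime_eq (Fact.out : p.Prime) (ψ α - ι t) (ι t)
    rw [sub_add_cancel, hzero, zero_mul, zero_mul, zero_mul, add_zero] at hr
    rw [← map_pow, hα, hψa, ← ht, map_pow] at hr
    exact (add_eq_right.mp hr.symm)
  obtain ⟨N, hN⟩ := Ideal.exists_pow_le_of_le_radical_of_fg
    (hrad mB (IsLocalRing.maximalIdeal.isMaximal B)).le (IsNoetherian.noetherian mB)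
  obtain ⟨s, hs, -⟩ := NagataUJ.exists_seq α
  let Q := B ⧸ LinearMap.range (Algebra.linearMap A B)
  have hkey : (Submodule.Quotient.mk t : Q) ∈ (⨅ n : ℕ, m ^ n • ⊤ : Submodule A Q) := by
    rw [Submodule.mem_iInf]
    intro n
    have h1 := hψ (N * n) α _ (hs (N * n))
    rw [h0, show AdicCompletion.evalₐ mB (N * n) (ι t) = Ideal.Quotient.mk _ t from
      (AdicCompletion.evalₐ mB _).commutes t, Ideal.Quotient.eq] at h1
    have h2 : t - algebraMap A B (s (N * n)) ∈ (m ^ n).map (algebraMap A B) := by
      rw [Ideal.map_pow]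
      exact Ideal.pow_right_mono hN n (by rwa [← pow_mul])
    rw [← Submodule.restrictScalars_mem A, ← Ideal.smul_top_eq_map] at h2
    have h3 := Submodule.mem_map_of_mem (f := (LinearMap.range (Algebra.linearMap A B)).mkQ) h2
    rw [Submodule.map_smul'', Submodule.map_top, Submodule.range_mkQ, map_sub] at h3
    rw [(Submodule.Quotient.mk_eq_zero _).mpr (LinearMap.mem_range_self (Algebra.linearMap A B) (s (N * n))) |>.trans rfl |> fun e => show (LinearMap.range (Algebra.linearMap A B)).mkQ (algebraMap A B (s (N * n))) = 0 from e, sub_zero] at h3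
    exact h3
  rw [Ideal.iInf_pow_smul_eq_bot_of_isLocalRing m (IsLocalRing.maximalIdeal.isMaximal A).ne_top,
    Submodule.mem_bot, Submodule.Quotient.mk_eq_zero] at hkey
  obtain ⟨b, hb⟩ := hkey
  refine ⟨b, hinjB ?_⟩
  rw [map_pow, ← ht, ← hb]
  rfl

end Groth.Agent.S0577
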