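import Groth.Statements.S0579
import Groth.Agent.CohenStruct.Lift

set_option autoImplicit false
universe u
open CAlg

namespace Groth.Agent.S0579

/-- A local ring which is complete with respect to its maximal ideal and whose residue field has
characteristic zero admits a coefficient field: there is a ring homomorphism from the residue field
to the ring which is a section of the residue map. -/
theorem result (R : Type u) [CommRing R] [IsLocalRing R]
    [IsAdicComplete (IsLocalRing.maximalIdeal R) R] [CharZero (IsLocalRing.ResidueField R)] :
    ∃ s : IsLocalRing.ResidueField R →+* R, (IsLocalRing.residue R).comp s = RingHom.id _ := by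
  have hunit : ∀ z : ℤ, z ≠ 0 → IsUnit (z : R) := fun z hz => by
    rw [← IsLocalRing.residue_ne_zero_iff_isUnit, map_intCast]
    exact Int.cast_ne_zero.mpr hz
  exact Groth.Agent.CohenStruct.exists_lift_of_charZero (IsLocalRing.ResidueField R)
    (IsLocalRing.maximalIdeal R) hunit (RingHom.id _)

end Groth.Agent.S0579
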