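import Groth.Statements.S0583
import Groth.Agent.MLMod.Projective
import Mathlib.LinearAlgebra.Projection

set_option autoImplicit false
universe u
open scoped Classical
open CAlg

namespace Groth.Agent.S0583

/-- If a module is an internal direct sum of countably generated submodules, then any direct summand of
it is again an internal direct sum of countably generated submodules. -/
theorem result (R : Type u) [CommRing R] (M : Type u)
    [AddCommGroup M] [Module R M] (ι : Type u) (N : ι → Submodule R M) (hN : DirectSum.IsInternal N)
    (hc : ∀ i, CAlg.IsCountablyGenerated R (N i)) (P Q : Submodule R M) (hPQ : IsCompl P Q) :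
    ∃ (κ : Type u) (L : κ → Submodule R P), DirectSum.IsInternal L ∧
      ∀ k, CAlg.IsCountablyGenerated R (L k) := by
  classical
  let e : M →ₗ[R] M := Submodule.projection P Q hPQ
  obtain ⟨L, hind, hsup, hcg⟩ := Groth.MLMod.kaplansky hN.submodule_iSupIndep
    hN.submodule_iSup_eq_top (fun i => Groth.MLMod.subCG_iff.2 (hc i)) e
    (fun x => Submodule.projection_apply_left hPQ ⟨e x, Submodule.projection_apply_mem hPQ x⟩)
  have hrange : LinearMap.range e = P := le_antisymm
    (by rintro _ ⟨x, rfl⟩; exact Submodule.projection_apply_mem hPQ x)
    (fun x hx => ⟨x, Submodule.projection_apply_left hPQ ⟨x, hx⟩⟩)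
  rw [hrange] at hsup
  exact ⟨L, fun l => l.1.comap P.subtype, by convert Groth.MLMod.isInternal_comap hind hsup,
    fun l => Groth.MLMod.isCountablyGenerated_comap (hsup ▸ le_sSup l.2) (hcg l.1 l.2)⟩

end Groth.Agent.S0583
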