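import Groth.Statements.S0584
import Groth.Agent.MLMod.Projective
import Groth.Agent.MLMod.Tower
import Mathlib.RingTheory.Flat.Basic

set_option autoImplicit false
universe u
open scoped Classical
open CAlg

namespace Groth.Agent.S0584

/-- Projectivity of a module is equivalent to the conjunction of three conditions — flatness, the
Mittag-Leffler property, and being an internal direct sum of countably generated submodules. -/
theorem result (R : Type u) [CommRing R] (M : Type u)
    [AddCommGroup M] [Module R M] :
    Module.Projective R M ↔ (Module.Flat R M ∧ CAlg.IsMittagLeffler R M ∧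
      ∃ (ι : Type u) (N : ι → Submodule R M), DirectSum.IsInternal N ∧
        ∀ i, CAlg.IsCountablyGenerated R (N i)) := by
  classical
  constructor
  · intro h
    obtain ⟨L, hind, htop, hcg⟩ := Groth.MLMod.exists_decomposition_of_projective (R := R) (M := M)
    exact ⟨inferInstance, Groth.MLMod.ml_of_projective, L, fun l => l.1,
      by convert Groth.MLMod.isInternal_of_sSupIndep hind htop, fun l => Groth.MLMod.subCG_iff.1 (hcg l.1 l.2)⟩
  · rintro ⟨hflat, hML, ι, N, hint, hc⟩
    let e := LinearEquiv.ofBijective (DirectSum.coeLinearMap N) hint
    have hsub : ∀ i, (DirectSum.component R ι (fun i => N i) i ∘ₗ e.symm.toLinearMap) ∘ₗ (N i).subtype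
        = LinearMap.id := by
      refine fun i => LinearMap.ext fun z => ?_
      have : e.symm z.1 = DirectSum.lof R ι (fun i => N i) i z := by
        rw [LinearEquiv.symm_apply_eq]
        exact (DirectSum.coeLinearMap_of N i z).symm
      simp [this]
    haveI : ∀ i, Module.Projective R (N i) := fun i => by
      haveI : Module.Flat R (N i) := Module.Flat.of_retract (N i).subtype
        (DirectSum.component R ι (fun i => N i) i ∘ₗ e.symm.toLinearMap) (hsub i)
      exact Groth.MLMod.projective_of_flat_ml
        (Groth.MLMod.ml_of_ui (Groth.MLMod.ui_of_leftInverse _ (hsub i)) hML) (hc i)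
    exact Module.Projective.of_equiv e

end Groth.Agent.S0584
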