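import Groth.Statements.S0587
import Mathlib

set_option autoImplicit false
universe u
open CAlg

namespace Groth.Agent.S0587

/-- A module `M` is finitely generated exactly when for every family of modules `(Qᵢ)` the natural map
from `M ⊗ ∏ Qᵢ` to `∏ (M ⊗ Qᵢ)` is surjective. -/
theorem result (R : Type u) [CommRing R] (M : Type u)
    [AddCommGroup M] [Module R M] :
    Module.Finite R M ↔ ∀ (ι : Type u) (Q : ι → Type u) [∀ i, AddCommGroup (Q i)]
      [∀ i, Module R (Q i)], Function.Surjective (TensorProduct.piRightHom R R M Q) := by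
  classical
  constructor
  · intro hfin ι Q _ _ y
    obtain ⟨n, s, hs⟩ := Module.Finite.exists_fin (R := R) (M := M)
    have hform : ∀ i, ∀ t : TensorProduct R M (Q i), ∃ q : Fin n → Q i, t = ∑ k, s k ⊗ₜ[R] q k := by
      intro i t
      induction t using TensorProduct.induction_on with
      | zero => exact ⟨0, by simp⟩
      | tmul m q =>
        obtain ⟨c, rfl⟩ := (Submodule.mem_span_range_iff_exists_fun R).1
          (hs ▸ Submodule.mem_top : m ∈ Submodule.span R (Set.range s))
        exact ⟨fun k => c k • q, by simp [TensorProduct.sum_tmul, TensorProduct.smul_tmul]⟩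
      | add a b ha hb =>
        obtain ⟨p, rfl⟩ := ha
        obtain ⟨q, rfl⟩ := hb
        exact ⟨p + q, by simp [TensorProduct.tmul_add, Finset.sum_add_distrib]⟩
    choose q hq using fun i => hform i (y i)
    refine ⟨∑ k, s k ⊗ₜ[R] (fun i => q i k), funext fun i => ?_⟩
    simp [hq, Finset.sum_apply]
  · intro h
    obtain ⟨t, ht⟩ := h M (fun _ => R) (fun m => m ⊗ₜ[R] (1 : R))
    obtain ⟨S, rfl⟩ := TensorProduct.exists_finset t
    refine ⟨⟨S.image Prod.fst, eq_top_iff.2 fun m _ => ?_⟩⟩
    have := congrArg (TensorProduct.rid R M) (congrFun ht m)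
    simp only [map_sum, Finset.sum_apply, TensorProduct.piRightHom_tmul, TensorProduct.rid_tmul,
      one_smul] at this
    rw [← this]
    exact Submodule.sum_mem _ fun x hx => Submodule.smul_mem _ _
      (Submodule.subset_span (Finset.mem_image_of_mem _ hx))

end Groth.Agent.S0587
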