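import Groth.Statements.S0588
import Mathlib
import Groth.Agent.S0587
-- import your own Groth.Agent.* helpers here

set_option autoImplicit false
universe u
open CAlg

namespace Groth.Agent.S0588

section Aux
open TensorProduct

variable {R : Type u} [CommRing R]

private lemma nat_proj {A B : Type u} [AddCommGroup A] [Module R A] [AddCommGroup B] [Module R B]
    (g : A →ₗ[R] B) {ι : Type u} (Q : ι → Type u) [∀ i, AddCommGroup (Q i)] [∀ i, Module R (Q i)]
    (z : A ⊗[R] (∀ i, Q i)) (i : ι) :
    piRightHom R R B Q (g.rTensor _ z) i = g.rTensor (Q i) (piRightHom R R A Q z i) := by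
  induction z using TensorProduct.induction_on with
  | zero => simp
  | tmul a q => simp
  | add a b ha hb => simp [ha, hb]

private lemma form {n : ℕ} {X : Type u} [AddCommGroup X] [Module R X] (t : (Fin n → R) ⊗[R] X) :
    ∃ q : Fin n → X, t = ∑ k, (Pi.single k 1 : Fin n → R) ⊗ₜ[R] q k := by
  classical
  induction t using TensorProduct.induction_on with
  | zero => exact ⟨0, by simp⟩
  | tmul m x =>
    refine ⟨fun k => m k • x, ?_⟩
    conv_lhs => rw [pi_eq_sum_univ' m]
    simp [TensorProduct.sum_tmul, TensorProduct.smul_tmul]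
  | add a b ha hb =>
    obtain ⟨p, rfl⟩ := ha
    obtain ⟨q, rfl⟩ := hb
    exact ⟨p + q, by simp [TensorProduct.tmul_add, Finset.sum_add_distrib]⟩

private lemma free_injective {n : ℕ} {ι : Type u} (Q : ι → Type u) [∀ i, AddCommGroup (Q i)]
    [∀ i, Module R (Q i)] : Function.Injective (piRightHom R R (Fin n → R) Q) := by
  classical
  rw [injective_iff_map_eq_zero]
  intro y hy
  obtain ⟨q, rfl⟩ := form y
  have hq : q = 0 := by
    funext k i
    have := congrArg (fun t => (TensorProduct.lid R (Q i))
      ((LinearMap.proj (R := R) (φ := fun _ : Fin n => R) k).rTensor (Q i) t)) (congrFun hy i)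
    simpa [Pi.single_apply] using this
  simp [hq]

end Aux

/-- A module `M` is finitely presented exactly when for every family of modules `(Qᵢ)` the natural map
from `M ⊗ ∏ Qᵢ` to `∏ (M ⊗ Qᵢ)` is bijective. -/
theorem result (R : Type u) [CommRing R] (M : Type u)
    [AddCommGroup M] [Module R M] :
    Module.FinitePresentation R M ↔ ∀ (ι : Type u) (Q : ι → Type u) [∀ i, AddCommGroup (Q i)]
      [∀ i, Module R (Q i)], Function.Bijective (TensorProduct.piRightHom R R M Q) := by
  classical
  open TensorProduct in
  constructor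
  · intro hfp ι Q _ _
    refine ⟨?_, (Groth.Agent.S0587.result R M).mp inferInstance ι Q⟩
    obtain ⟨n, π, hπ⟩ := Module.Finite.exists_fin' R M
    haveI : Module.Finite R (LinearMap.ker π) :=
      Module.Finite.iff_fg.mpr (Module.FinitePresentation.fg_ker π hπ)
    have hex : Function.Exact (LinearMap.ker π).subtype π := LinearMap.exact_subtype_ker_map π
    rw [injective_iff_map_eq_zero]
    intro x hx
    obtain ⟨y, rfl⟩ := LinearMap.rTensor_surjective (∀ i, Q i) hπ x
    have hy : ∀ i, piRightHom R R _ Q y i ∈ LinearMap.range ((LinearMap.ker π).subtype.rTensor (Q i)) := by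
      intro i
      refine ((rTensor_exact (Q i) hex hπ) _).mp ?_
      rw [← nat_proj, hx]; rfl
    choose k hk using hy
    obtain ⟨z, hz⟩ := (Groth.Agent.S0587.result R _).mp inferInstance ι Q k
    have : y = (LinearMap.ker π).subtype.rTensor _ z := by
      apply free_injective Q
      funext i
      rw [nat_proj, hz, hk]
    rw [this]
    exact (rTensor_exact (∀ i, Q i) hex hπ).apply_apply_eq_zero z
  · intro h
    haveI : Module.Finite R M := (Groth.Agent.S0587.result R M).mpr (fun ι Q _ _ => (h ι Q).2)
    obtain ⟨n, π, hπ⟩ := Module.Finite.exists_fin' R M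
    refine Module.finitePresentation_of_surjective π hπ ?_
    have hex : Function.Exact (LinearMap.ker π).subtype π := LinearMap.exact_subtype_ker_map π
    obtain ⟨y, hy⟩ := (Groth.Agent.S0587.result R (Fin n → R)).mp inferInstance
      (LinearMap.ker π : Submodule R _) (fun _ => R) (fun k => (k : Fin n → R) ⊗ₜ[R] (1 : R))
    have hy0 : π.rTensor _ y = 0 := by
      apply (h _ _).1
      rw [map_zero]
      funext k
      rw [nat_proj, hy]
      show π (k : Fin n → R) ⊗ₜ[R] (1 : R) = _
      rw [LinearMap.mem_ker.mp k.2, TensorProduct.zero_tmul]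
      rfl
    obtain ⟨z, rfl⟩ := (rTensor_exact _ hex hπ y).mp hy0
    obtain ⟨s, rfl⟩ := TensorProduct.exists_finset z
    refine ⟨s.image fun p => (p.1 : Fin n → R), le_antisymm ?_ fun v hv => ?_⟩
    · rw [Submodule.span_le]
      intro v hv
      obtain ⟨p, -, rfl⟩ := Finset.mem_image.mp hv
      exact p.1.2
    · have := congrArg (TensorProduct.rid R (Fin n → R)) (congrFun hy ⟨v, hv⟩)
      simp only [map_sum, Finset.sum_apply, LinearMap.rTensor_tmul, TensorProduct.piRightHom_tmul,
        TensorProduct.rid_tmul, one_smul, Submodule.subtype_apply] at this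
      rw [← this]
      exact Submodule.sum_mem _ fun x hx => Submodule.smul_mem _ _
        (Submodule.subset_span (Finset.mem_image_of_mem _ hx))

end Groth.Agent.S0588
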