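import Groth.Statements.S0594
import Groth.Agent.LimLib.EventualBase

set_option autoImplicit false
set_option backward.isDefEq.respectTransparency false
set_option backward.defeqAttrib.useBackward true
universe u
open CategoryTheory AlgebraicGeometry
open Lim

namespace Groth.Agent.S0594

/-- Over a quasi-compact quasi-separated base `S`, let `X` be the limit of a cofiltered system of
quasi-compact quasi-separated `S`-schemes, locally of finite type over `S`, whose transition
morphisms are closed immersions. If `X → S` is a closed immersion then so is `Xᵢ → S` for some index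
`i`. -/
theorem result {I : Type u} [SmallCategory I] [IsCofiltered I]
    (S : Scheme.{u}) [CompactSpace S] [QuasiSeparatedSpace S]
    (D : I ⥤ Scheme.{u}) (t : D ⟶ (Functor.const I).obj S) (c : Limits.Cone D)
    (hc : Limits.IsLimit c) [∀ (i j : I) (f : i ⟶ j), IsClosedImmersion (D.map f)]
    [∀ i, CompactSpace (D.obj i)] [∀ i, QuasiSeparatedSpace (D.obj i)]
    [∀ i, LocallyOfFiniteType (t.app i)] (i₀ : I) [IsClosedImmersion (c.π.app i₀ ≫ t.app i₀)] :
    ∃ i : I, IsClosedImmersion (t.app i) := by
  classical
  obtain ⟨s, -, hs⟩ := Groth.Agent.LimLib.exists_affine_image_cover (𝟙 S) ⊤ fun _ => trivial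
  let T : ∀ i, D.obj i ⟶ S := fun i => t.app i
  have hX : IsClosedImmersion (c.π.app i₀ ≫ T i₀) := ‹_›
  haveI : ∀ i, LocallyOfFiniteType (T i) := fun i => (inferInstance : LocallyOfFiniteType (t.app i))
  haveI : ∀ {i j : I} (f : i ⟶ j), IsAffineHom (D.map f) := fun f => inferInstance
  obtain ⟨j, φ, hj⟩ := Groth.Agent.LimLib.exists_isClosedImmersion_restrict T
    (fun i j φ => (t.naturality φ).trans (Category.comp_id _)) hc (fun f => inferInstance) s
    (i := i₀) (fun U _ => U.2.preimage _) (fun U _ => Scheme.Hom.app_surjective _ _ U.2)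
  refine ⟨j, ?_⟩
  change IsClosedImmersion (T j)
  refine IsZariskiLocalAtTarget.of_iSup_eq_top (fun a : s => (a.1.1 : S.Opens)) ?_ fun a => hj a j (𝟙 j)
  refine eq_top_iff.2 fun x _ => ?_
  obtain ⟨U, hU, hx⟩ := hs x
  exact TopologicalSpace.Opens.mem_iSup.2 ⟨⟨U, hU⟩, hx⟩

end Groth.Agent.S0594
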