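import Groth.Statements.S0604
import Groth.Agent.FreeCx.Resolution
import Groth.Agent.DepthLib.Localization


set_option autoImplicit false
universe u
open CategoryTheory
open CAlg

namespace Groth.Agent.S0604

/-- Over a Noetherian local ring `R`, a nonzero finitely generated module `M` of finite projective
dimension satisfies depth R = pd M + depth M. -/
theorem result (R : Type u) [CommRing R] [IsLocalRing R] [IsNoetherianRing R]
    (M : Type u) [AddCommGroup M] [Module R M] [Module.Finite R M] [Nontrivial M] (e : ℕ)
    (he : projectiveDimension (ModuleCat.of R M) = e) :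
    LocCoh.depth R R = e + LocCoh.depth R M := by
  have hh : HasProjectiveDimensionLE (ModuleCat.of R M) e := (projectiveDimension_le_iff _ e).1 he.le
  obtain ⟨d, hd⟩ : ∃ d : ℕ, LocCoh.depth R R = d := WithTop.ne_top_iff_exists.1 (DepthLib.depth_ne_top (R := R) R) |>.imp fun _ h => h.symm
  obtain ⟨e', h1, h2, h3, h4⟩ := FreeCx.exists_depth_add_eq hd e M hh
  have h5 : e = e' := by
    refine le_antisymm ?_ h1
    have h : HasProjectiveDimensionLE (ModuleCat.of R M) e' := h4
    have h' := (projectiveDimension_le_iff _ e').2 h
    rw [he] at h'
    exact_mod_cast h'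
  subst h5
  rw [hd, h3, ← ENat.natCast_add, show e + (d - e) = d by omega]

end Groth.Agent.S0604
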