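import Groth.Statements.S0608
import Groth.Agent.RegSeq.LinearType

set_option autoImplicit false
universe u
open RRAlg

namespace Groth.Agent.S0608

/-- Let a_1, …, a_n be a weakly regular sequence in a commutative ring A (each a_i is a non-zero-divisor
modulo (a_1, …, a_(i−1)); the a_i are allowed to generate the unit ideal). Then the kernel of the
A-algebra map A[X_1, …, X_n] → A[T] sending X_i to a_i·T, whose image is the Rees algebra of the
ideal (a_1, …, a_n), is the ideal generated by the elements a_i X_j − a_j X_i. (The published
statement assumes a regular sequence; only weak regularity is assumed here.) -/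
theorem result {A : Type u} [CommRing A] {n : ℕ} (a : Fin n → A)
    (ha : RingTheory.Sequence.IsWeaklyRegular A (List.ofFn a)) :
    RingHom.ker (MvPolynomial.aeval (R := A)
      (fun i : Fin n => Polynomial.C (a i) * (Polynomial.X : Polynomial A))) =
      Ideal.span {q : MvPolynomial (Fin n) A | ∃ i j : Fin n,
        q = MvPolynomial.C (a i) * MvPolynomial.X j - MvPolynomial.C (a j) * MvPolynomial.X i} := by
  apply le_antisymm
  · intro P hP
    rw [RingHom.mem_ker] at hP
    rw [← MvPolynomial.sum_homogeneousComponent P]
    refine Ideal.sum_mem _ fun k hk => ?_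
    refine RegSeq.mem_koszul n a (RegSeq.w_of_isWeaklyRegular a ha) k _
      (MvPolynomial.homogeneousComponent_isHomogeneous k P) ?_
    have key : ∀ j, MvPolynomial.aeval (fun i : Fin n => Polynomial.C (a i) * (Polynomial.X : Polynomial A))
        (MvPolynomial.homogeneousComponent j P) =
          Polynomial.C (MvPolynomial.eval a (MvPolynomial.homogeneousComponent j P)) * Polynomial.X ^ j := by
      intro j
      have h := RegSeq.aeval_mul_of_isHomogeneous (MvPolynomial.homogeneousComponent_isHomogeneous j P)
        (Polynomial.X : Polynomial A) (fun i => Polynomial.C (a i))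
      simp only [mul_comm Polynomial.X] at h
      rw [h, mul_comm]
      congr 1
      exact (MvPolynomial.aeval_algebraMap_apply (B := Polynomial A) a _).trans (by rw [MvPolynomial.aeval_eq_eval]; rfl)
    rw [← MvPolynomial.sum_homogeneousComponent P, map_sum, Finset.sum_congr rfl fun j _ => key j] at hP
    have := congrArg (fun q => Polynomial.coeff q k) hP
    simpa [Polynomial.finsetSum_coeff, Polynomial.coeff_C_mul_X_pow, Finset.sum_ite_eq, Finset.mem_range.mp hk] using this
  · rw [Ideal.span_le]
    rintro _ ⟨i, j, rfl⟩
    simp only [SetLike.mem_coe, RingHom.mem_ker, map_sub, map_mul, MvPolynomial.aeval_C, MvPolynomial.aeval_X,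
      Polynomial.algebraMap_eq]
    ring

end Groth.Agent.S0608
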