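import Groth.Statements.S0615
import Groth.Agent.RegSeq.LinearType

set_option autoImplicit false
universe u
open RRAlg

namespace Groth.Agent.S0615

/-- Let A be a commutative ring and a_0, a_1, …, a_n a weakly regular sequence in A (for each i, a_i is
a non-zero-divisor on A/(a_0, …, a_{i−1}); the sequence is indexed here by Fin (n+1)). Then the
kernel of the A-algebra homomorphism A[T_1, …, T_n] → A[1/a_0] sending T_i to a_i/a_0 is the ideal
generated by the elements a_0 T_i − a_i for 1 ≤ i ≤ n (a presentation of the affine blow-up algebra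
A[a_1/a_0, …, a_n/a_0]). -/
theorem result {A : Type u} [CommRing A] {n : ℕ}
    (a : Fin (n + 1) → A) (ha : RingTheory.Sequence.IsWeaklyRegular A (List.ofFn a)) :
    RingHom.ker (MvPolynomial.aeval (R := A) (S₁ := Localization.Away (a 0))
      (fun i : Fin n => IsLocalization.mk' (Localization.Away (a 0)) (a i.succ)
        (⟨a 0, Submonoid.mem_powers (a 0)⟩ : Submonoid.powers (a 0)))) =
      Ideal.span (Set.range fun i : Fin n =>
        MvPolynomial.C (a 0) * MvPolynomial.X i - MvPolynomial.C (a i.succ)) := by
  classical
  apply le_antisymm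
  · intro P hP
    rw [RingHom.mem_ker] at hP
    set g : Fin n → Localization.Away (a 0) := fun i => IsLocalization.mk' (Localization.Away (a 0)) (a i.succ)
        (⟨a 0, Submonoid.mem_powers (a 0)⟩ : Submonoid.powers (a 0))
    let J : Ideal (MvPolynomial (Fin n) A) := Ideal.span (Set.range fun i : Fin n =>
        MvPolynomial.C (a 0) * MvPolynomial.X i - MvPolynomial.C (a i.succ))
    let D := P.totalDegree
    let Ph : MvPolynomial (Fin (n + 1)) A := ∑ d ∈ P.support,
      MvPolynomial.monomial (Finsupp.cons (D - d.degree) d) (MvPolynomial.coeff d P)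
    let ψ : MvPolynomial (Fin (n + 1)) A →ₐ[A] MvPolynomial (Fin n) A :=
      MvPolynomial.aeval (Fin.cons 1 MvPolynomial.X)
    have hψ : ψ Ph = P := by
      conv_rhs => rw [MvPolynomial.as_sum P]
      simp only [Ph, map_sum]
      refine Finset.sum_congr rfl fun d _ => ?_
      rw [MvPolynomial.aeval_monomial, MvPolynomial.monomial_eq, Finsupp.prod_fintype _ _ (by simp),
        Finsupp.prod_fintype _ _ (by simp), Fin.prod_univ_succ]
      simp [Finsupp.cons_succ]
    have hPh : Ph.IsHomogeneous D := by
      refine MvPolynomial.IsHomogeneous.sum _ _ _ fun d hd => MvPolynomial.isHomogeneous_monomial _ ?_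
      have h1 : d.degree ≤ D := MvPolynomial.le_totalDegree hd
      rw [Finsupp.degree_eq_sum, Fin.sum_univ_succ, Finsupp.cons_zero]
      simp only [Finsupp.cons_succ, ← Finsupp.degree_eq_sum]
      omega
    have hev : MvPolynomial.eval a Ph = 0 := by
      have h1 : MvPolynomial.aeval (Fin.cons 1 g : Fin (n + 1) → Localization.Away (a 0)) Ph = 0 := by
        rw [show MvPolynomial.aeval (Fin.cons 1 g : Fin (n + 1) → Localization.Away (a 0)) =
          (MvPolynomial.aeval g).comp ψ from MvPolynomial.algHom_ext fun i => by
            induction i using Fin.cases <;> simp [ψ], AlgHom.comp_apply, hψ]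
        exact hP
      have h2 := RegSeq.aeval_mul_of_isHomogeneous hPh (algebraMap A (Localization.Away (a 0)) (a 0))
        (Fin.cons 1 g)
      rw [h1, mul_zero, show (fun i => algebraMap A (Localization.Away (a 0)) (a 0) *
          (Fin.cons 1 g : Fin (n + 1) → Localization.Away (a 0)) i) = algebraMap A (Localization.Away (a 0)) ∘ a by
        funext i
        induction i using Fin.cases with
        | zero => simp
        | succ i => exact IsLocalization.mk'_spec' (Localization.Away (a 0)) (a i.succ) (⟨a 0, Submonoid.mem_powers (a 0)⟩ : Submonoid.powers (a 0)),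
        MvPolynomial.aeval_algebraMap_apply, MvPolynomial.aeval_eq_eval,
        IsLocalization.map_eq_zero_iff (Submonoid.powers (a 0)) (Localization.Away (a 0))] at h2
      obtain ⟨⟨_, k, rfl⟩, hk⟩ := h2
      have hW := RegSeq.w_of_isWeaklyRegular a ha 0
      induction k with
      | zero => simpa using hk
      | succ k ih =>
        apply ih
        have := hW (a 0 ^ k * MvPolynomial.eval a Ph)
          (by rw [← mul_assoc, ← pow_succ']; simp at hk ⊢; exact hk)
        simpa using this
    have hK := RegSeq.mem_koszul (n + 1) a (RegSeq.w_of_isWeaklyRegular a ha) D Ph hPh hev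
    have hle : RegSeq.koszul a ≤ J.comap ψ.toRingHom := by
      refine Ideal.span_le.mpr ?_
      rintro _ ⟨i, j, rfl⟩
      have e : ∀ k : Fin n, MvPolynomial.C (a 0) * MvPolynomial.X k - MvPolynomial.C (a k.succ) ∈ J :=
        fun k => Ideal.subset_span ⟨k, rfl⟩
      show ψ _ ∈ J
      induction i using Fin.cases with
      | zero =>
        induction j using Fin.cases with
        | zero => simp
        | succ j => simpa [ψ] using e j
      | succ i =>
        induction j using Fin.cases with
        | zero => simpa [ψ] using J.neg_mem (e i)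
        | succ j =>
          convert J.sub_mem (J.mul_mem_left (MvPolynomial.X i) (e j)) (J.mul_mem_left (MvPolynomial.X j) (e i)) using 1
          simp [ψ]
          ring
    have := hle hK
    rwa [Ideal.mem_comap, AlgHom.toRingHom_eq_coe, RingHom.coe_coe, hψ] at this
  · rw [Ideal.span_le]
    rintro _ ⟨i, rfl⟩
    simp only [SetLike.mem_coe, RingHom.mem_ker, map_sub, map_mul, MvPolynomial.aeval_C, MvPolynomial.aeval_X]
    exact sub_eq_zero.mpr (IsLocalization.mk'_spec' (Localization.Away (a 0)) (a i.succ) (⟨a 0, Submonoid.mem_powers (a 0)⟩ : Submonoid.powers (a 0)))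

end Groth.Agent.S0615
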