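import Groth.Prelude.Def_EtBase
import Mathlib.RingTheory.IntegralClosure.IntegrallyClosed
import Groth.Agent.EtSite.NormalConst
-- import your own Groth.Agent.* helpers here

set_option autoImplicit false
open CategoryTheory CategoryTheory.Limits AlgebraicGeometry Opposite
universe u

namespace Groth.Agent.S0627

/-- Let X be an integral normal scheme (every local ring integrally closed), U a nonempty open subscheme
with inclusion j : U → X, and M an abelian group. Then the adjunction unit from the constant étale
sheaf with value M on X to j_* of its pullback to U is an isomorphism. -/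
theorem result (X : Scheme.{u}) [IsIntegral X]
    (hN : ∀ x : X, IsIntegrallyClosed (X.presheaf.stalk x)) (U : X.Opens) (hU : (U : Set X).Nonempty)
    (M : Type) [AddCommGroup M] :
    IsIso ((EtCoh.pullPushAdj U.ι).unit.app (EtCoh.const X M)) := by
  have hmem : ∀ V : X.Opens, (V : Set X).Nonempty → genericPoint X ∈ V := fun V hV =>
    ((genericPoint_spec X).mem_open_set_iff V.isOpen).2 (by simpa using hV)
  exact Groth.Agent.EtSite.NormalConst.isIso_unit
    (Groth.Agent.EtSite.NormalConst.constLC _) (Groth.Agent.EtSite.uniBase_of_normal hN)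
    U.ι (fun P hP => by
      obtain ⟨y, hy, hyg⟩ := hmem (U.ι ''ᵁ P) (by
        obtain ⟨y, hy⟩ := hP
        exact ⟨U.ι y, y, hy, rfl⟩)
      exact ⟨y, hy, hyg⟩)
    ⟨⟨genericPoint X, hmem U hU⟩, rfl⟩

end Groth.Agent.S0627
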