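import Groth.Prelude.Def_EtBase
import Mathlib.FieldTheory.IsSepClosed
import Mathlib.AlgebraicGeometry.FunctionField
import Mathlib.RingTheory.IntegralClosure.IntegrallyClosed
import Groth.Agent.EtSite.FlasqueLocalIso
-- import your own Groth.Agent.* helpers here

set_option autoImplicit false
open CategoryTheory CategoryTheory.Limits AlgebraicGeometry Opposite
universe u

namespace Groth.Agent.S0628

/-- Let f : X -> Y be a morphism of schemes with X integral and normal and with separably closed
function field. Then the higher direct images R^q f_* of a constant sheaf vanish for q > 0. -/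
theorem result {X Y : Scheme.{u}} (f : X ⟶ Y) [IsIntegral X]
    (hN : ∀ x : X, IsIntegrallyClosed (X.presheaf.stalk x)) [IsSepClosed X.functionField]
    (M : Type) [AddCommGroup M] (q : ℕ) (hq : 1 ≤ q) :
    IsZero ((EtCoh.Rpush f q).obj (EtCoh.const X M)) := by
  obtain ⟨n, rfl⟩ : ∃ n, q = n + 1 := ⟨q - 1, by omega⟩
  have hX : Groth.Agent.EtSite.LocIso.LocIsoBase X := fun U u =>
    haveI : AlgebraicGeometry.Etale U.hom := U.prop
    Groth.Agent.EtSite.NormalSepClosed.exists_isOpenImmersion_nhd hN U.hom u
  exact Groth.Agent.EtSite.LocIso.isZero_Rpush_of_flasque hX f n _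
    (Groth.Agent.EtSite.LocIso.flasque_constant hX _)

end Groth.Agent.S0628
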