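import Groth.Prelude.Def_BigSite
import Mathlib.AlgebraicGeometry.Morphisms.Integral
import Groth.Agent.EtSite.IntegralSplit
-- import your own Groth.Agent.* helpers here

set_option autoImplicit false
open CategoryTheory CategoryTheory.Limits AlgebraicGeometry Opposite
universe u

namespace Groth.Agent.S6630

/-- An integral morphism of schemes satisfies condition (B): for every etale V ⟶ Y and every etale
covering of X ×_Y V there is an etale covering of V by schemes V_j such that each X ×_Y V_j is a
disjoint union of open subschemes each mapping into X ×_Y V through a member of the given covering. -/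
theorem result {X Y : Scheme.{u}} (f : X ⟶ Y) [IsIntegralHom f] : BigSite.PropB f := by
  intro V v _ ι U g hg hcov
  choose V' v' hv' γ' hγ' hsp using fun y : V =>
    EtSite.exists_integral_split (pullback.snd f v) (Weighting.geoPt V y) g hg hcov
  refine ⟨V, V', v', hv', fun y => ⟨y, Weighting.pt (γ' y), ?_⟩, fun y => ?_⟩
  · rw [← Weighting.pt_comp, hγ', Weighting.pt_geoPt]
  · have h := (hsp y).precomp (pullbackLeftPullbackSndIso f v (v' y)).inv
    have e : (pullbackLeftPullbackSndIso f v (v' y)).inv ≫ pullback.fst (pullback.snd f v) (v' y) =
        pullback.map f (v' y ≫ v) f v (𝟙 X) (v' y) (𝟙 Y) (by simp) (by simp) := by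
      apply pullback.hom_ext
      · simp only [Category.assoc, pullbackLeftPullbackSndIso_inv_fst]
        exact ((pullback.lift_fst _ _ _).trans (Category.comp_id _)).symm
      · simp only [Category.assoc, pullbackLeftPullbackSndIso_inv_fst_snd]
        exact (pullback.lift_snd _ _ _).symm
    rw [e] at h
    exact h

end Groth.Agent.S6630
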