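import Groth.Prelude.Def_SGA4b
import Mathlib.AlgebraicGeometry.Morphisms.Integral
import Mathlib.CategoryTheory.Functor.EpiMono
import Groth.Agent.EtSite.PushEpi
import Groth.Agent.EtSite.IntegralSplit
import Groth.Agent.S6630
-- import your own Groth.Agent.* helpers here

set_option autoImplicit false
open CategoryTheory CategoryTheory.Limits AlgebraicGeometry Opposite
universe u

namespace Groth.Agent.S6634

/-- For an integral morphism of schemes f : X ⟶ Y the direct image along f of abelian sheaves on the
small etale sites sends epimorphisms to epimorphisms. (The published statement also covers sheaves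
of sets; this row treats abelian sheaves only.) -/
theorem result {X Y : Scheme.{u}} (f : X ⟶ Y) [IsIntegralHom f] :
    (EtCoh.push f).PreservesEpimorphisms := by
  refine ⟨fun {A B} a _ => ?_⟩
  have : Sheaf.IsLocallySurjective a := (Sheaf.isLocallySurjective_iff_epi' _ a).2 inferInstance
  have : Presheaf.IsLocallySurjective X.smallEtaleTopology
      (Functor.whiskerRight a.hom (forget AddCommGrpCat.{u + 1})) :=
    (Presheaf.isLocallySurjective_iff_whisker_forget _ a.hom).1 this
  have h := @EtSite.isLocallySurjective_push_of_propB X Y f (S6630.result f) _ _
    ((isSheaf_iff_isSheaf_of_type _ _).1 ((sheafCompose _ (forget AddCommGrpCat.{u + 1})).obj A).property)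
    ((isSheaf_iff_isSheaf_of_type _ _).1 ((sheafCompose _ (forget AddCommGrpCat.{u + 1})).obj B).property)
    (Functor.whiskerRight a.hom (forget AddCommGrpCat.{u + 1})) this
  have : Sheaf.IsLocallySurjective ((EtCoh.push f).map a) :=
    (Presheaf.isLocallySurjective_iff_whisker_forget _ _).2 h
  infer_instance

end Groth.Agent.S6634
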