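import Groth.Prelude.Def_EtBase
import Mathlib.AlgebraicGeometry.Morphisms.ClosedImmersion
import Groth.Agent.EtSite.ClosedImm
-- import your own Groth.Agent.* helpers here

set_option autoImplicit false
open CategoryTheory CategoryTheory.Limits AlgebraicGeometry Opposite
universe u

namespace Groth.Agent.S0632

/-- Let X -> Y be a closed immersion and U_i -> X (i in ι) a jointly surjective family of etale
morphisms. Then one can find a jointly surjective family of etale Y-schemes V_j each of which either
has empty preimage over X or, after base change to X, maps into one of the U_i over X. -/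
theorem result {X Y : Scheme.{u}} (f : X ⟶ Y) [IsClosedImmersion f]
    {ι : Type u} (U : ι → X.Etale) (hU : EtCoh.Covers U) :
    ∃ (κ : Type u) (V : κ → Y.Etale), EtCoh.Covers V ∧
      ∀ j, IsEmpty ↥(pullback (V j).hom f) ∨
        ∃ (i : ι) (h : pullback (V j).hom f ⟶ (U i).left), h ≫ (U i).hom = pullback.snd (V j).hom f := by
  choose idx pt hpt using hU
  choose V π hπ φ hφ hop hmem using fun x : X => EtSite.exists_etale_extension f (U (idx x)).hom (pt x)
  let O : Y.Opens := ⟨(Set.range f.base)ᶜ, f.isClosedEmbedding.isClosed_range.isOpen_compl⟩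
  let Vo : X ⊕ PUnit.{u + 1} → Y.Etale := Sum.elim (fun x => @Scheme.Etale.mk Y (V x) (π x) (hπ x))
    (fun _ => Scheme.Etale.mk O.ι)
  refine ⟨X ⊕ PUnit.{u + 1}, Vo, ?_, ?_⟩
  · intro y
    by_cases hy : y ∈ Set.range f.base
    · obtain ⟨x, rfl⟩ := hy
      obtain ⟨p, hp⟩ := hmem x
      refine ⟨Sum.inl x, (pullback.fst (π x) f).base p, ?_⟩
      have e1 : (pullback.snd (π x) f).base p = x :=
        ((congrArg (fun m => m.base p) (hφ x)).symm.trans
          ((Scheme.Hom.comp_apply _ _ _).trans (congrArg (U (idx x)).hom.base hp))).trans (hpt x)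
      exact (Scheme.Hom.comp_apply _ _ _).symm.trans
        ((congrArg (fun m : pullback (π x) f ⟶ Y => m.base p) pullback.condition).trans
          ((Scheme.Hom.comp_apply _ _ _).trans (congrArg f.base e1)))
    · obtain ⟨w, hw⟩ := (Set.ext_iff.1 (Scheme.Opens.range_ι O) y).2 hy
      exact ⟨Sum.inr PUnit.unit, w, hw⟩
  · rintro (x | u)
    · exact Or.inr ⟨idx x, φ x, hφ x⟩
    · refine Or.inl (EtSite.isEmpty_bc_of_disjoint f (Vo (Sum.inr u)) ?_)
      rw [Set.disjoint_left]
      rintro _ ⟨w, rfl⟩
      exact (Set.ext_iff.1 (Scheme.Opens.range_ι O) _).1 ⟨w, rfl⟩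

end Groth.Agent.S0632
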