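import Groth.Prelude.Def_EtBase
import Groth.Prelude.Def_EtCore
import Mathlib.AlgebraicGeometry.Morphisms.Integral
import Mathlib.AlgebraicGeometry.Morphisms.UniversallyInjective
import Groth.Agent.EtSite.PushIntegral
import Mathlib.Algebra.Homology.DerivedCategory.Ext.MapBijective
-- import your own Groth.Agent.* helpers here

set_option autoImplicit false
open CategoryTheory CategoryTheory.Limits AlgebraicGeometry Opposite
universe u

namespace Groth.Agent.S0642

/-- Let X_0 -> X be integral, universally injective and surjective (a universal homeomorphism). Then for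
every abelian sheaf F on the small etale site of X and every q the pullback map from H^q(X, F) to
H^q(X_0, F|_{X_0}) is bijective. (Exactness of pullback of abelian sheaves, which always holds, is
carried as an instance hypothesis.) -/
theorem result {X₀ X : Scheme.{u}} (i : X₀ ⟶ X) [IsIntegralHom i]
    [UniversallyInjective i] [Surjective i] [PreservesFiniteLimits (EtCoh.pull i)] (F : EtCoh.Ab X) (q : ℕ) :
    Function.Bijective (EtCore.Hpull i F q) := by
  let adj := EtCoh.pullPushAdj i
  have hu : ∀ G, IsIso (adj.unit.app G) := fun G => EtSite.isIso_of_exists_stalk _ fun y => by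
    obtain ⟨η, hη⟩ := EtSite.exists_algClosed_pt (Y := X) y
    refine ⟨_, inferInstance, inferInstance, η, hη, ?_⟩
    obtain ⟨ξ, hξ⟩ := EtSite.exists_lift_of_mem_range i η (i.surjective _)
    subst hξ
    exact EtSite.isIso_stalk_unit_of_univInj i ξ G
  have hc := EtSite.isIso_counit_of_univInj i
  have : IsIso adj.unit := NatIso.isIso_of_isIso_app _
  have : IsIso adj.counit := NatIso.isIso_of_isIso_app _
  have : (EtCoh.pull i).IsEquivalence := adj.toEquivalence.isEquivalence_functor
  have : (EtCoh.pull i).PreservesInjectiveObjects :=
    ⟨fun {I} hI => (adj.toEquivalence.map_injective_iff I).2 hI⟩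
  let e := EtCore.pullConst i ℤ
  have h1 : Function.Bijective (fun x : EtCoh.H X F q => (EtCoh.pull i).mapExtAddHom _ _ q x) :=
    (EtCoh.pull i).mapExt_bijective_of_preservesInjectiveObjects _ _ q
  refine Function.Bijective.comp (g := fun x => (Abelian.Ext.mk₀ e.inv).comp x (zero_add q)) ?_ h1
  refine Function.bijective_iff_has_inverse.2
    ⟨fun x => (Abelian.Ext.mk₀ e.hom).comp x (zero_add q), fun x => ?_, fun x => ?_⟩
  · simp
  · simp

end Groth.Agent.S0642
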