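import Groth.Statements.S0643
-- import your own Groth.Agent.* helpers here

set_option autoImplicit false
universe u
open EtCore

namespace Groth.Agent.S0643

open Polynomial in
/-- Let A be a ring, assumed nonzero here (the published statement does not say so; over the zero ring
no polynomial has positive degree in Lean's sense), and a, b elements generating the unit ideal such
that some positive power of a is congruent to 1 modulo b. Then there is a monic polynomial P of
positive degree over A such that in B = A[y]/(P) the element a - b y is a unit. -/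
theorem result (A : Type u) [CommRing A] [Nontrivial A] (a b : A) (hab : IsCoprime a b)
    (hroot : ∃ n : ℕ, 0 < n ∧ a ^ n - 1 ∈ Ideal.span ({b} : Set A)) :
    ∃ P : A[X], P.Monic ∧ 0 < P.natDegree ∧
      IsUnit (algebraMap A (AdjoinRoot P) a - algebraMap A (AdjoinRoot P) b * AdjoinRoot.root P) := by
  obtain ⟨n, hn, hmem⟩ := hroot
  obtain ⟨e, he⟩ := Ideal.mem_span_singleton.mp hmem
  obtain ⟨u, v, huv⟩ := hab
  let c : ℕ → A := fun i => e * ((n - 1).choose i : A) * u ^ i * v ^ (n - 1 - i)
  have hc : ∑ i ∈ Finset.range n, c i * a ^ i * b ^ (n - i) = b * e := by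
    have h1 : (u * a + v * b) ^ (n - 1) = 1 := by rw [huv, one_pow]
    rw [add_pow, Nat.sub_add_cancel hn] at h1
    calc ∑ i ∈ Finset.range n, c i * a ^ i * b ^ (n - i)
        = (b * e) * ∑ i ∈ Finset.range n,
            (u * a) ^ i * (v * b) ^ (n - 1 - i) * ((n - 1).choose i : A) := by
          rw [Finset.mul_sum]
          refine Finset.sum_congr rfl fun i hi => ?_
          have hi' : n - i = (n - 1 - i) + 1 := by
            have := Finset.mem_range.mp hi
            omega
          simp only [c, hi', pow_succ, mul_pow]
          ring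
      _ = b * e := by rw [h1, mul_one]
  let q : A[X] := ∑ i ∈ Finset.range n, C (c i) * X ^ i
  have hq : q.degree < (n : WithBot ℕ) := by
    refine lt_of_le_of_lt (degree_sum_le _ _) ?_
    refine (Finset.sup_lt_iff (WithBot.bot_lt_coe n)).mpr fun i hi => ?_
    exact lt_of_le_of_lt (degree_C_mul_X_pow_le i _) (WithBot.coe_lt_coe.mpr (Finset.mem_range.mp hi))
  have hmon : (X ^ n - q).Monic := monic_X_pow_sub hq
  refine ⟨X ^ n - q, hmon, ?_, ?_⟩
  · have hdeg : (X ^ n - q).natDegree = n := by
      rw [natDegree_sub_eq_left_of_natDegree_lt, natDegree_X_pow]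
      rw [natDegree_X_pow]
      by_cases h0 : q = 0
      · rw [h0, natDegree_zero]; exact hn
      · exact (natDegree_lt_iff_degree_lt h0).mpr hq
    omega
  · let B := AdjoinRoot (X ^ n - q)
    let f : A →+* B := algebraMap A B
    let y : B := AdjoinRoot.root (X ^ n - q)
    have hy : y ^ n = ∑ i ∈ Finset.range n, f (c i) * y ^ i := by
      have h := AdjoinRoot.eval₂_root (X ^ n - q)
      simp only [q, eval₂_sub, eval₂_X_pow, eval₂_finsetSum, eval₂_mul, eval₂_C] at h
      rw [sub_eq_zero] at h
      exact h
    let Q : B[X] := X ^ n - ∑ i ∈ Finset.range n, C (f (c i) * f b ^ (n - i)) * X ^ i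
    have hQa : Q.eval (f a) = 1 := by
      have h2 : (a ^ n - ∑ i ∈ Finset.range n, c i * a ^ i * b ^ (n - i)) = 1 := by
        rw [hc, ← he]; ring
      have h3 := congrArg f h2
      simp only [map_sub, map_pow, map_sum, map_mul, map_one] at h3
      simp only [Q, eval_sub, eval_pow, eval_X, eval_finsetSum, eval_mul, eval_C]
      rw [← h3]
      refine congrArg _ (Finset.sum_congr rfl fun i _ => ?_)
      ring
    have hQy : Q.eval (f b * y) = 0 := by
      simp only [Q, eval_sub, eval_pow, eval_X, eval_finsetSum, eval_mul, eval_C]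
      rw [sub_eq_zero, mul_pow, hy, Finset.mul_sum]
      refine Finset.sum_congr rfl fun i hi => ?_
      have hi' : n = (n - i) + i := by
        have := Finset.mem_range.mp hi
        omega
      calc f b ^ n * (f (c i) * y ^ i)
          = f b ^ ((n - i) + i) * (f (c i) * y ^ i) := by rw [← hi']
        _ = f (c i) * f b ^ (n - i) * (f b * y) ^ i := by ring
    have hdvd : f a - f b * y ∣ Q.eval (f a) - Q.eval (f b * y) := sub_dvd_eval_sub _ _ _
    rw [hQa, hQy, sub_zero] at hdvd
    exact isUnit_of_dvd_one hdvd

end Groth.Agent.S0643
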