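import Groth.Statements.S0644
import Mathlib

set_option autoImplicit false
open CategoryTheory CategoryTheory.Limits AlgebraicGeometry Opposite
universe u
open EtCore
set_option backward.isDefEq.respectTransparency.types false

namespace Groth.Agent.S0644

/-- Let F be a sheaf of sets on the small etale site of S which is a subsheaf of the final sheaf, i.e.
every set of sections has at most one element. Then there is exactly one open W of S such that F is
isomorphic to the sheaf represented by W (viewed as a scheme etale over S). -/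
theorem result (S : Scheme.{u}) (F : Sheaf S.smallEtaleTopology (Type u))
    (hF : ∀ U : S.Etale, Subsingleton (F.obj.obj (op U))) :
    ∃! W : S.Opens, Nonempty (F.obj ≅ yoneda.obj (Scheme.Etale.mk W.ι)) := by
  classical
  let W : S.Opens := ⨆ (U : S.Etale) (_ : Nonempty (F.obj.obj (op U))),
    ⟨Set.range U.hom, U.hom.isOpenMap.isOpen_range⟩
  have hW : ∀ U : S.Etale, Nonempty (F.obj.obj (op U)) ↔ Set.range U.hom ⊆ (W : Set S) := by
    intro U
    refine ⟨fun h ↦ le_iSup₂ (f := fun (U : S.Etale) (_ : Nonempty (F.obj.obj (op U))) ↦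
      (⟨Set.range U.hom, U.hom.isOpenMap.isOpen_range⟩ : S.Opens)) U h, fun hU ↦ ?_⟩
    let R : Sieve U :=
      { arrows := fun Z _ ↦ Nonempty (F.obj.obj (op Z))
        downward_closed := fun {_ _ _} h g ↦ h.map (F.obj.map g.op) }
    let ι := {V : S.Etale // Nonempty (F.obj.obj (op V))}
    let Z : ι → S.Etale := fun V ↦ Scheme.Etale.mk (pullback.fst U.hom V.1.hom ≫ U.hom)
    let p₁ : ∀ V, Z V ⟶ U := fun V ↦
      MorphismProperty.Over.homMk (pullback.fst U.hom V.1.hom) rfl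
    let p₂ : ∀ V : ι, Z V ⟶ V.1 := fun V ↦
      MorphismProperty.Over.homMk (pullback.snd U.hom V.1.hom) pullback.condition.symm
    have hR : R ∈ S.smallEtaleTopology U := by
      refine GrothendieckTopology.superset_covering _ ?_
        ((Scheme.ofArrows_mem_smallEtaleTopology_iff p₁).mpr ?_)
      · rintro Y g ⟨_, a, _, ⟨V⟩, rfl⟩
        exact V.2.map fun s ↦ F.obj.map (a ≫ p₂ V).op s
      · refine Set.eq_univ_of_forall fun u ↦ ?_
        have := hU ⟨u, rfl⟩
        simp only [W, TopologicalSpace.Opens.coe_iSup, Set.mem_iUnion] at this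
        obtain ⟨V, hV, v, hv⟩ := this
        obtain ⟨w, hw, -⟩ := Scheme.Pullback.exists_preimage_pullback (f := U.hom) (g := V.hom)
          u v hv.symm
        exact Set.mem_iUnion.mpr ⟨⟨V, hV⟩, w, hw⟩
    have hsh := (isSheaf_iff_isSheaf_of_type _ _).mp F.property R hR
    exact ⟨hsh.amalgamate (fun Y g hg ↦ hg.some)
      fun Y₁ Y₂ T g₁ g₂ f₁ f₂ _ _ _ ↦ (hF T).elim _ _⟩
  have hsub : ∀ (W' : S.Opens) (U : S.Etale), Subsingleton (U ⟶ Scheme.Etale.mk W'.ι) :=
    fun W' U ↦ ⟨fun a b ↦ MorphismProperty.Over.Hom.ext ((cancel_mono W'.ι).mp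
      ((MorphismProperty.Over.w a).trans (MorphismProperty.Over.w b).symm))⟩
  have hne : ∀ (W' : S.Opens) (U : S.Etale), Set.range U.hom ⊆ (W' : Set S) →
      Nonempty (U ⟶ Scheme.Etale.mk W'.ι) := fun W' U h ↦
    have hι : IsOpenImmersion (W'.ι : (W' : Scheme.{u}) ⟶ S) := Scheme.Opens.instIsOpenImmersionι W'
    ⟨MorphismProperty.Over.homMk
      (@IsOpenImmersion.lift _ _ S W'.ι U.hom hι (h.trans (Scheme.Opens.range_ι W').ge))
      (@IsOpenImmersion.lift_fac _ _ S W'.ι U.hom hι _)⟩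
  have hrange : ∀ (W' : S.Opens) (U : S.Etale), Nonempty (U ⟶ Scheme.Etale.mk W'.ι) →
      Set.range U.hom ⊆ (W' : Set S) := by
    rintro W' U ⟨a⟩ _ ⟨u, rfl⟩
    rw [← MorphismProperty.Over.w a]
    exact (a.left u).2
  refine ⟨W, ⟨NatIso.ofComponents (fun U ↦ ?_) ?_⟩, fun W' ⟨e⟩ ↦ ?_⟩
  · have := hsub W U.unop
    have := hF U.unop
    exact Equiv.toIso
      { toFun := fun s ↦ (hne W U.unop ((hW U.unop).mp ⟨s⟩)).some
        invFun := fun a ↦ ((hW U.unop).mpr (hrange W U.unop ⟨a⟩)).some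
        left_inv := fun _ ↦ (hF U.unop).elim _ _
        right_inv := fun _ ↦ (hsub W U.unop).elim _ _ }
  · intro U V g
    ext s
    exact (hsub W V.unop).elim _ _
  · refine le_antisymm ?_ ?_
    · intro x hx
      exact (hW (Scheme.Etale.mk W'.ι)).mp ⟨(e.app (op _)).inv (𝟙 _)⟩ ⟨⟨x, hx⟩, rfl⟩
    · intro x hx
      obtain ⟨s⟩ := (hW (Scheme.Etale.mk W.ι)).mpr (fun _ ⟨w, hw⟩ ↦ hw ▸ w.2)
      exact hrange W' (Scheme.Etale.mk W.ι) ⟨(e.app (op _)).hom s⟩ ⟨⟨x, hx⟩, rfl⟩

end Groth.Agent.S0644
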