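import Groth.Statements.S0653
import Groth.Agent.EtMV.OpenFF
import Groth.Agent.EtSite.PushFinite
import Groth.Agent.EtSite.ExtZeroStalk
-- import your own Groth.Agent.* helpers here

set_option autoImplicit false
set_option linter.style.haveILetI false
open CategoryTheory CategoryTheory.Limits AlgebraicGeometry Opposite
universe u
open EtCore

namespace Groth.Agent.S0653

open EtShriek in
/-- Base change commutes with extension along the open immersions. -/
noncomputable def compBcIso {U X V Y : Scheme.{u}} (f : X ⟶ Y) (j : V ⟶ Y) [Etale j] (j' : U ⟶ X) [Etale j']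
    (g : U ⟶ V) (h : IsPullback j' g f j) :
    compEtale j ⋙ EtCoh.bc f ≅ EtCoh.bc g ⋙ compEtale j' :=
  Iso.symm (NatIso.ofComponents (F := EtCoh.bc g ⋙ compEtale j') (G := compEtale j ⋙ EtCoh.bc f) (fun W =>
    have hsq : IsPullback (pullback.fst W.hom g) (pullback.snd W.hom g ≫ j') (W.hom ≫ j) f :=
      (IsPullback.of_hasPullback W.hom g).paste_vert h.flip
    MorphismProperty.Over.isoMk hsq.isoPullback (by exact hsq.isoPullback_hom_snd))
    (fun {W W'} k => by
      apply MorphismProperty.Over.Hom.ext
      have e1 : ((EtCoh.bc g).map k).left ≫ pullback.fst W'.hom g = pullback.fst W.hom g ≫ k.left :=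
        pullback.lift_fst _ _ _
      have e2 : ((EtCoh.bc g).map k).left ≫ pullback.snd W'.hom g = pullback.snd W.hom g :=
        pullback.lift_snd _ _ _
      have f1 : ((EtCoh.bc f).map ((compEtale j).map k)).left ≫ pullback.fst (W'.hom ≫ j) f =
          pullback.fst (W.hom ≫ j) f ≫ k.left := pullback.lift_fst _ _ _
      have f2 : ((EtCoh.bc f).map ((compEtale j).map k)).left ≫ pullback.snd (W'.hom ≫ j) f =
          pullback.snd (W.hom ≫ j) f := pullback.lift_snd _ _ _
      have hs : ∀ W : V.Etale, IsPullback (pullback.fst W.hom g) (pullback.snd W.hom g ≫ j') (W.hom ≫ j) f :=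
        fun W => (IsPullback.of_hasPullback W.hom g).paste_vert h.flip
      apply pullback.hom_ext
      · refine (Category.assoc _ _ _).trans (((congrArg (_ ≫ ·) (hs W').isoPullback_hom_fst).trans e1).trans ?_)
        refine Eq.symm ((Category.assoc _ _ _).trans ((congrArg (_ ≫ ·) f1).trans ((Category.assoc _ _ _).symm.trans ?_)))
        exact congrArg (· ≫ k.left) (hs W).isoPullback_hom_fst
      · refine (Category.assoc _ _ _).trans (((congrArg (_ ≫ ·) (hs W').isoPullback_hom_snd).trans
          ((Category.assoc _ _ _).symm.trans (congrArg (· ≫ j') e2))).trans ?_)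
        exact ((Category.assoc _ _ _).trans ((congrArg (_ ≫ ·) f2).trans (hs W).isoPullback_hom_snd)).symm))

/-- Consider a cartesian square U = X x_Y V with f : X -> Y finite, j : V -> Y an open immersion, j' : U
-> X and g : U -> V the projections. Then for every abelian sheaf F on the small etale site of U,
f_* j'_! F is isomorphic to j_! g_* F. (The source also asserts functoriality in F; only the
objectwise isomorphism is stated.) (Continuity of the composition functor of etale sites, which
always holds, is carried as an instance hypothesis.) -/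
theorem result {U X V Y : Scheme.{u}} (f : X ⟶ Y) [IsFinite f] (j : V ⟶ Y)
    [IsOpenImmersion j] [AlgebraicGeometry.Etale j] [EtShriek.JCont j] (j' : U ⟶ X) [IsOpenImmersion j']
    [AlgebraicGeometry.Etale j'] [EtShriek.JCont j'] (g : U ⟶ V) (h : IsPullback j' g f j) (F : EtCoh.Ab U) :
    Nonempty ((EtCoh.push f).obj ((EtShriek.extZero j').obj F) ≅ (EtShriek.extZero j).obj ((EtCoh.push g).obj F)) := by
  let A := (EtShriek.extZero j').obj F
  let G := (EtCoh.push f).obj A
  let e₁ : (EtShriek.restrAlong j).obj G ≅ (EtCoh.push g).obj ((EtShriek.restrAlong j').obj A) :=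
    (fullyFaithfulSheafToPresheaf _ _).preimageIso
      (Functor.isoWhiskerRight (NatIso.op (compBcIso f j j' g h).symm) A.obj)
  haveI := EtMV.isIso_extZeroAdj_unit j'
  let e : (EtShriek.restrAlong j).obj G ≅ (EtCoh.push g).obj F :=
    e₁ ≪≫ (EtCoh.push g).mapIso ((asIso (EtShriek.extZeroAdj j').unit).app F).symm
  haveI : Epi (EtMV.kS j G) := EtSite.epi_of_exists_stalk _ fun y => by
    obtain ⟨η, hη⟩ := EtSite.exists_algClosed_pt (Y := Y) y
    refine ⟨_, inferInstance, inferInstance, η, hη, ?_⟩
    by_cases hy : y ∈ Set.range j.base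
    · exact EtMV.stalk_kS_surjective j G η (hη.symm ▸ hy)
    · intro z
      refine ⟨0, (map_zero _).trans (EtSite.germMap_jointly_injective f η A z fun ξ hξ => ?_).symm⟩
      have hid : 𝟙 ((EtCoh.stalk ξ).obj A) = 0 := EtSite.stalkExtZeroMap_hom_ext j' ξ F _ _ fun u => by
        exfalso
        apply hy
        refine ⟨g.base (u.1.base default), ?_⟩
        have e : u.1 ≫ g ≫ j = η := by rw [← h.w, ← Category.assoc, u.2, hξ]
        exact (congrArg (fun m : _ ⟶ Y => m.base default) e).trans hη
      exact ConcreteCategory.congr_hom hid _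
  haveI : IsIso (EtMV.kS j G) := isIso_of_mono_of_epi _
  exact ⟨(asIso (EtMV.kS j G)).symm ≪≫ (EtMV.shriek j).mapIso e ≪≫
    ((EtShriek.extZeroAdj j).leftAdjointUniq (EtMV.shriekRestrAdj j)).symm.app _⟩

end Groth.Agent.S0653
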