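import Groth.Prelude.Def_EtBase
import Mathlib.FieldTheory.SeparableDegree
import Mathlib.AlgebraicGeometry.Limits
import Mathlib.RingTheory.Unramified.Field
import Mathlib.RingTheory.Etale.Field
import Mathlib.AlgebraicGeometry.Limits
import Mathlib.AlgebraicGeometry.Morphisms.QuasiFinite
import Mathlib.AlgebraicGeometry.Artinian
import Groth.Agent.EtSite.ZeroDim
-- import your own Groth.Agent.* helpers here

set_option autoImplicit false
open CategoryTheory CategoryTheory.Limits AlgebraicGeometry Opposite
universe u

namespace Groth.Agent.S0658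

/-- Let k be a field and φ : U → Spec k a morphism of schemes. Then φ is étale if and only if U is
isomorphic over k to a disjoint union ∐ Spec K_i with each K_i a finite separable field extension of
k. -/
theorem result (k : Type u) [Field k] (U : Scheme.{u}) (φ : U ⟶ Spec (CommRingCat.of k)) :
    AlgebraicGeometry.Etale φ ↔
      ∃ (ι : Type u) (K : ι → Type u) (_ : ∀ i, Field (K i)) (_ : ∀ i, Algebra k (K i))
        (_ : ∀ i, FiniteDimensional k (K i)) (_ : ∀ i, Algebra.IsSeparable k (K i))
        (e : (∐ fun i => Spec (CommRingCat.of (K i))) ≅ U),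
        ∀ i, Sigma.ι (fun i => Spec (CommRingCat.of (K i))) i ≫ e.hom ≫ φ =
          Spec.map (CommRingCat.ofHom (algebraMap k (K i))) := by
  constructor
  · intro hφ
    have hd : DiscreteTopology U := by
      refine discreteTopology_iff_isOpen_singleton.2 fun u => ?_
      obtain ⟨W, hW, huW, -⟩ := exists_isAffineOpen_mem_and_subset (U := (⊤ : U.Opens)) (x := u) trivial
      have hfin : (W : Set U).Finite := by
        have : IsAffine W := hW
        have h1 := (W.ι ≫ φ).finite_preimage_singleton default
        have h2 : ((W.ι ≫ φ) ⁻¹' {default}) = Set.univ := Set.eq_univ_of_forall fun x => Subsingleton.elim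
          (α := PrimeSpectrum k) _ _
        rw [h2] at h1
        have : Finite (W : Scheme.{u}) := Set.finite_univ_iff.1 h1
        rw [← Scheme.Opens.range_ι W]
        exact Set.finite_range _
      have hdisc : _root_.IsDiscrete (φ ⁻¹' {default}) := φ.isDiscrete_preimage_singleton _
      have h2 : (φ ⁻¹' {default}) = Set.univ := Set.eq_univ_of_forall fun x => Subsingleton.elim
          (α := PrimeSpectrum k) _ _
      rw [h2] at hdisc
      obtain ⟨O, hO, hOu⟩ := isDiscrete_iff_forall_exists_isOpen.1 hdisc u trivial
      rw [Set.inter_univ] at hOu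
      exact hOu ▸ hO
    let O : U → U.Opens := fun u => ⟨{u}, isOpen_discrete _⟩
    have hsub : ∀ u, Subsingleton (O u : Scheme.{u}) := fun u =>
      ⟨fun a b => Subtype.ext (a.2.trans b.2.symm)⟩
    have haff : ∀ u, IsAffine (O u : Scheme.{u}) := fun u => have := hsub u; inferInstance
    let R : U → CommRingCat.{u} := fun u => Γ((O u : Scheme.{u}), ⊤)
    let ψ : ∀ u, CommRingCat.of k ⟶ R u := fun u =>
      Spec.preimage ((O u : Scheme.{u}).isoSpec.inv ≫ (O u).ι ≫ φ)
    have hψ : ∀ u, Spec.map (ψ u) = (O u : Scheme.{u}).isoSpec.inv ≫ (O u).ι ≫ φ :=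
      fun u => Spec.map_preimage _
    let _ : ∀ u, Algebra k (R u) := fun u => (ψ u).hom.toAlgebra
    have hE : ∀ u, Algebra.Etale k (R u) := fun u => by
      have : Etale (Spec.map (ψ u)) := by rw [hψ]; infer_instance
      exact RingHom.etale_algebraMap.1 ((HasRingHomProperty.Spec_iff (P := @Etale)).1 this)
    have hfield : ∀ u, IsField (R u) := fun u => by
      have := hE u
      have : IsReduced (R u) := Algebra.FormallyUnramified.isReduced_of_field k (R u)
      have hs : Subsingleton (PrimeSpectrum (R u)) := by
        have := hsub u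
        exact (Scheme.homeoOfIso (O u : Scheme.{u}).isoSpec).symm.toEquiv.subsingleton
      have : Nontrivial (R u) := by
        have : Nonempty (PrimeSpectrum (R u)) :=
          ⟨(O u : Scheme.{u}).isoSpec.hom ⟨u, rfl⟩⟩
        exact PrimeSpectrum.nonempty_iff_nontrivial.1 this
      exact (PrimeSpectrum.subsingleton_iff_isField_of_isReduced (R := R u)).1 hs
    let inst : ∀ u, Field (R u) := fun u => (hfield u).toField
    have hfin : ∀ u, @FiniteDimensional k (R u) _ _ _ := fun u => by
      have := hE u
      exact Algebra.FormallyUnramified.finite_of_free k (R u)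
    have hsep : ∀ u, @Algebra.IsSeparable k (R u) _ _ _ := fun u => by
      have := hE u
      exact Algebra.FormallyUnramified.isSeparable k (R u)
    let c : ∀ u, Spec (R u) ⟶ U := fun u => (O u : Scheme.{u}).isoSpec.inv ≫ (O u).ι
    have hr : ∀ u, Set.range (c u).base = {u} := fun u => by
      refine (Set.ext fun x => ?_).trans (Scheme.Opens.range_ι (O u))
      constructor
      · rintro ⟨z, rfl⟩
        exact ⟨_, (Scheme.Hom.comp_apply _ _ _).symm⟩
      · rintro ⟨z, rfl⟩
        exact ⟨(O u : Scheme.{u}).isoSpec.hom z, (Scheme.Hom.comp_apply _ _ _).symm.trans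
          (congrArg (fun m : (O u : Scheme.{u}) ⟶ U => m z)
            (Iso.hom_inv_id_assoc (O u : Scheme.{u}).isoSpec (O u).ι))⟩
    obtain ⟨hc⟩ := nonempty_isColimit_cofanMk_of (fun u => c u)
      (top_unique fun x _ => TopologicalSpace.Opens.mem_iSup.2 ⟨x, (Set.ext_iff.1 (hr x) x).2 rfl⟩)
      (fun a b hab => disjoint_iff_inf_le.2 fun x hx => hab
        (((Set.ext_iff.1 (hr a) x).1 hx.1).symm.trans ((Set.ext_iff.1 (hr b) x).1 hx.2)))
    refine ⟨U, fun u => R u, inst, inferInstance, hfin, hsep,
      IsColimit.coconePointUniqueUpToIso (colimit.isColimit _) hc, fun u => ?_⟩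
    have h1 := IsColimit.comp_coconePointUniqueUpToIso_hom (colimit.isColimit
      (Discrete.functor fun u => Spec (R u))) hc ⟨u⟩
    refine (Category.assoc _ _ _).symm.trans ((congrArg (· ≫ φ) h1).trans ?_)
    exact ((Category.assoc _ _ _).trans (hψ u).symm :)
  · rintro ⟨ι, K, _, _, hfin, hsep, e, he⟩
    have h1 : e.hom ≫ φ = Sigma.desc fun i => Spec.map (CommRingCat.ofHom (algebraMap k (K i))) :=
      Sigma.hom_ext _ _ fun i => by rw [he, Sigma.ι_desc]
    have h2 : Etale (e.hom ≫ φ) := h1 ▸ IsZariskiLocalAtSource.sigmaDesc (P := @Etale) fun i => by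
      have : Algebra.Etale k (K i) :=
        { formallyEtale := Algebra.FormallyEtale.of_isSeparable k (K i)
          finitePresentation := Algebra.FinitePresentation.of_finiteType.1 inferInstance }
      exact (HasRingHomProperty.Spec_iff (P := @Etale)).2 (RingHom.etale_algebraMap.2 this)
    exact (MorphismProperty.cancel_left_of_respectsIso (P := @Etale) e.hom φ).1 h2

end Groth.Agent.S0658
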