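import Groth.Statements.S0659
import Groth.Agent.EtMV.Cohomology

set_option autoImplicit false
set_option linter.style.haveILetI false
open CategoryTheory CategoryTheory.Limits AlgebraicGeometry Opposite
universe u
open EtCore

namespace Groth.Agent.S0659

open Groth.Agent.EtMV Abelian Opposite

set_option backward.isDefEq.respectTransparency.types false in
theorem lands_ι (X : Scheme.{u}) (U : X.Opens) (E : X.Etale) :
    Lands U.ι E ↔ Set.range E.hom.base ⊆ (U : Set X) := by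
  rw [lands_iff, Scheme.Opens.range_ι]

set_option backward.isDefEq.respectTransparency.types false in
theorem lands_both (X : Scheme.{u}) (U V : X.Opens) (E : X.Etale) :
    Lands (U ⊓ V).ι E ↔ Lands U.ι E ∧ Lands V.ι E := by
  simp only [lands_ι]
  exact Set.subset_inter_iff

set_option backward.isDefEq.respectTransparency.types false in
theorem lands_cover (X : Scheme.{u}) (U V : X.Opens) (hUV : U ⊔ V = ⊤) (E : X.Etale) :
    ∃ S : Sieve E, S ∈ X.smallEtaleTopology E ∧ ∀ ⦃E' : X.Etale⦄ (φ : E' ⟶ E), S φ → Lands U.ι E' ∨ Lands V.ι E' := by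
  refine ⟨⟨fun E' _ => Lands U.ι E' ∨ Lands V.ι E', fun h g =>
    h.imp (lands_of_hom _ g) (lands_of_hom _ g)⟩, ?_, fun E' φ h => h⟩
  have eX : X.smallEtaleTopology =
      (X.smallPretopology (P := EtCoh.etaleMP) (Q := EtCoh.etaleMP)).toGrothendieck :=
    Scheme.smallGrothendieckTopology_eq_toGrothendieck_smallPretopology X le_rfl
  rw [eX]
  refine (Scheme.mem_toGrothendieck_smallPretopology E _).2 fun x => ?_
  obtain ⟨W, hW, hx⟩ : ∃ W : X.Opens, (W = U ∨ W = V) ∧ E.hom.base x ∈ W := by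
    have h : E.hom.base x ∈ U ⊔ V := hUV ▸ trivial
    rcases h with h | h
    exacts [⟨U, Or.inl rfl, h⟩, ⟨V, Or.inr rfl, h⟩]
  haveI : Etale E.hom := E.prop
  let O : E.left.Opens := E.hom ⁻¹ᵁ W
  let E' : X.Etale := MorphismProperty.Over.mk ⊤ (O.ι ≫ E.hom) (by show Etale _; infer_instance)
  have hE' : Lands W.ι E' := ⟨E.hom ∣_ W, morphismRestrict_ι _ _⟩
  refine ⟨E', MorphismProperty.Over.homMk O.ι rfl, ⟨x, hx⟩, ?_, ?_, ?_⟩
  · show Lands U.ι E' ∨ Lands V.ι E'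
    rcases hW with rfl | rfl
    exacts [Or.inl hE', Or.inr hE']
  · show Etale O.ι
    infer_instance
  · rfl

/-- Let X = U ∪ V be a union of two open subschemes and F an abelian sheaf on the small etale site of X.
Writing r_U, r_V for the pullback maps H^n(X, F) -> H^n(U, F|_U), H^n(V, F|_V) and d for the
difference of the two further pullbacks to H^n(U ∩ V, F|_{U ∩ V}), there are connecting
homomorphisms δ_n : H^n(U ∩ V) -> H^{n+1}(X) making the Mayer-Vietoris sequence exact: (r_U, r_V) is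
injective in degree 0 and has kernel the image of δ in positive degrees, d has kernel the image of
(r_U, r_V), and δ has kernel the image of d. (Functoriality in F is not stated.) (Exactness of
pullback of abelian sheaves, which always holds, is carried as an instance hypothesis.) -/
theorem result (X : Scheme.{u}) (U V : X.Opens) (hUV : U ⊔ V = ⊤) (F : EtCoh.Ab X)
    [PreservesFiniteLimits (EtCoh.pull U.ι)] [PreservesFiniteLimits (EtCoh.pull V.ι)]
    [PreservesFiniteLimits (EtCoh.pull (X.homOfLE (inf_le_left : U ⊓ V ≤ U)))]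
    [PreservesFiniteLimits (EtCoh.pull (X.homOfLE (inf_le_right : U ⊓ V ≤ V)))] :
    ∃ δ : ∀ n : ℕ, EtCoh.H ↑(U ⊓ V) ((EtCoh.pull (U ⊓ V).ι).obj F) n →+ EtCoh.H X F (n + 1),
      (AddMonoidHom.prod (EtCore.Hpull U.ι F 0) (EtCore.Hpull V.ι F 0)).ker = ⊥ ∧
      (∀ n : ℕ, (AddMonoidHom.prod (EtCore.Hpull U.ι F (n + 1)) (EtCore.Hpull V.ι F (n + 1))).ker = (δ n).range) ∧
      (∀ n : ℕ, (((EtCore.HpullVia (X.homOfLE (inf_le_left : U ⊓ V ≤ U)) U.ι (U ⊓ V).ι (X.homOfLE_ι inf_le_left) F n)).comp (AddMonoidHom.fst _ _) - ((EtCore.HpullVia (X.homOfLE (inf_le_right : U ⊓ V ≤ V)) V.ι (U ⊓ V).ι (X.homOfLE_ι inf_le_right) F n)).comp (AddMonoidHom.snd _ _)).ker =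
        (AddMonoidHom.prod (EtCore.Hpull U.ι F n) (EtCore.Hpull V.ι F n)).range) ∧
      (∀ n : ℕ, (δ n).ker = (((EtCore.HpullVia (X.homOfLE (inf_le_left : U ⊓ V ≤ U)) U.ι (U ⊓ V).ι (X.homOfLE_ι inf_le_left) F n)).comp (AddMonoidHom.fst _ _) - ((EtCore.HpullVia (X.homOfLE (inf_le_right : U ⊓ V ≤ V)) V.ι (U ⊓ V).ι (X.homOfLE_ι inf_le_right) F n)).comp (AddMonoidHom.snd _ _)).range) := by
  haveI := preservesFiniteLimits_pull (U ⊓ V).ι
  let hU : ↑(U ⊓ V) ⟶ (U : Scheme.{u}) := X.homOfLE inf_le_left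
  let hV : ↑(U ⊓ V) ⟶ (V : Scheme.{u}) := X.homOfLE inf_le_right
  have wU : hU ≫ U.ι = (U ⊓ V).ι := X.homOfLE_ι inf_le_left
  have wV : hV ≫ V.ι = (U ⊓ V).ι := X.homOfLE_ι inf_le_right
  let a := cc U.ι hU (U ⊓ V).ι wU
  let b := cc V.ι hV (U ⊓ V).ι wV
  have sq : IsPullback a b (cz U.ι) (cz V.ι) := by
    obtain ⟨a₀, b₀, h₀, ha, hb⟩ := exists_isPullback_kS U.ι V.ι (U ⊓ V).ι (lands_both X U V) (zs X)
    refine h₀.of_iso (ez (U ⊓ V).ι).symm (ez U.ι).symm (ez V.ι).symm (Iso.refl _) ?_ ?_ ?_ ?_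
    · rw [← cancel_mono (cz U.ι), Category.assoc, Category.assoc, cc_comp_cz, cz_eq U.ι, cz_eq (U ⊓ V).ι]
      erw [Iso.inv_hom_id_assoc, Iso.inv_hom_id_assoc]
      exact ha
    · rw [← cancel_mono (cz V.ι), Category.assoc, Category.assoc, cc_comp_cz, cz_eq V.ι, cz_eq (U ⊓ V).ι]
      erw [Iso.inv_hom_id_assoc, Iso.inv_hom_id_assoc]
      exact hb
    · rw [cz_eq U.ι]
      erw [Iso.inv_hom_id_assoc, Category.comp_id]
    · rw [cz_eq V.ι]
      erw [Iso.inv_hom_id_assoc, Category.comp_id]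
  have hS : (mvComplex sq).ShortExact := mvComplex_shortExact sq fun x h₁ h₂ => by
    rw [cz_eq, Category.assoc, ← comp_zero (X := (shriek U.ι).obj (zs _)) (f := (ez U.ι).hom)] at h₁
    rw [cz_eq, Category.assoc, ← comp_zero (X := (shriek V.ι).obj (zs _)) (f := (ez V.ι).hom)] at h₂
    exact eq_zero_of_kS U.ι V.ι (lands_cover X U V hUV) _ _ x ((cancel_epi _).1 h₁) ((cancel_epi _).1 h₂)
  let eU : ∀ n, _ ≃+ _ := fun n => AddEquiv.ofBijective (Ψ U.ι F n) (Ψ_bijective U.ι F n)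
  let eV : ∀ n, _ ≃+ _ := fun n => AddEquiv.ofBijective (Ψ V.ι F n) (Ψ_bijective V.ι F n)
  let eW : ∀ n, _ ≃+ _ := fun n => AddEquiv.ofBijective (Ψ (U ⊓ V).ι F n) (Ψ_bijective (U ⊓ V).ι F n)
  have zU : ∀ n (x : EtCoh.H X F n), (Ext.mk₀ (cz U.ι)).comp x (zero_add n) = 0 ↔ EtCore.Hpull U.ι F n x = 0 := by
    intro n x
    rw [← Ψ_cz]
    exact ⟨fun h => by rw [h, map_zero], fun h => (Ψ_bijective U.ι F n).1 (h.trans (map_zero _).symm)⟩
  have zV : ∀ n (x : EtCoh.H X F n), (Ext.mk₀ (cz V.ι)).comp x (zero_add n) = 0 ↔ EtCore.Hpull V.ι F n x = 0 := by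
    intro n x
    rw [← Ψ_cz]
    exact ⟨fun h => by rw [h, map_zero], fun h => (Ψ_bijective V.ι F n).1 (h.trans (map_zero _).symm)⟩
  refine ⟨fun n => (hS.extClass.precomp F (add_comm 1 n)).comp (eW n).symm.toAddMonoidHom, ?_, ?_, ?_, ?_⟩
  · rw [eq_bot_iff]
    intro x hx
    exact mv_ker hS F x ((zU 0 x).2 (congrArg Prod.fst hx)) ((zV 0 x).2 (congrArg Prod.snd hx))
  · intro n
    ext x
    refine ⟨fun hx => ?_, ?_⟩
    · obtain ⟨z, hz⟩ := (mv_range_δ hS F x).1 ⟨(zU _ x).2 (congrArg Prod.fst hx), (zV _ x).2 (congrArg Prod.snd hx)⟩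
      exact ⟨eW n z, by rw [← hz]; exact congrArg (fun z => hS.extClass.comp z (add_comm 1 n)) ((eW n).symm_apply_apply z)⟩
    · rintro ⟨z, rfl⟩
      obtain ⟨h₁, h₂⟩ := (mv_range_δ hS F _).2 ⟨(eW n).symm z, rfl⟩
      exact Prod.ext ((zU _ _).1 h₁) ((zV _ _).1 h₂)
  · intro n
    ext ⟨y, y'⟩
    obtain ⟨y, rfl⟩ := (Ψ_bijective U.ι F n).2 y
    obtain ⟨y', rfl⟩ := (Ψ_bijective V.ι F n).2 y'
    rw [AddMonoidHom.mem_ker, AddMonoidHom.mem_range]
    simp only [AddMonoidHom.sub_apply, AddMonoidHom.comp_apply, AddMonoidHom.coe_fst, AddMonoidHom.coe_snd,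
      sub_eq_zero, AddMonoidHom.prod_apply, Prod.ext_iff]
    rw [← Ψ_cc (w := wU), ← Ψ_cc (w := wV), (Ψ_bijective _ F n).1.eq_iff, mv_range_r hS]
    refine exists_congr fun x => ?_
    rw [← Ψ_cz, ← Ψ_cz, (Ψ_bijective _ F n).1.eq_iff, (Ψ_bijective _ F n).1.eq_iff]
  · intro n
    ext z
    obtain ⟨z, rfl⟩ := (Ψ_bijective (U ⊓ V).ι F n).2 z
    rw [AddMonoidHom.mem_ker, AddMonoidHom.mem_range]
    have e : (eW n).symm (Ψ (U ⊓ V).ι F n z) = z := (eW n).symm_apply_apply z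
    show hS.extClass.comp ((eW n).symm (Ψ (U ⊓ V).ι F n z)) (add_comm 1 n) = 0 ↔ _
    rw [e, mv_ker_δ hS]
    constructor
    · rintro ⟨y, y', rfl⟩
      refine ⟨(Ψ U.ι F n y, Ψ V.ι F n y'), ?_⟩
      simp only [AddMonoidHom.sub_apply, AddMonoidHom.comp_apply, AddMonoidHom.coe_fst, AddMonoidHom.coe_snd]
      rw [← Ψ_cc (w := wU), ← Ψ_cc (w := wV), map_sub]
    · rintro ⟨⟨y, y'⟩, hy⟩
      obtain ⟨y, rfl⟩ := (Ψ_bijective U.ι F n).2 y
      obtain ⟨y', rfl⟩ := (Ψ_bijective V.ι F n).2 y'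
      simp only [AddMonoidHom.sub_apply, AddMonoidHom.comp_apply, AddMonoidHom.coe_fst, AddMonoidHom.coe_snd] at hy
      rw [← Ψ_cc (w := wU), ← Ψ_cc (w := wV), ← map_sub] at hy
      exact ⟨y, y', (Ψ_bijective _ F n).1 hy⟩

end Groth.Agent.S0659
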