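import Groth.Statements.S0660
import Groth.Agent.EtShriekLib.Supp
import Mathlib.AlgebraicGeometry.Morphisms.FlatMono

set_option autoImplicit false
open CategoryTheory CategoryTheory.Limits AlgebraicGeometry Opposite
universe u
open EtCore

set_option backward.isDefEq.respectTransparency.types false
set_option linter.style.haveILetI false

namespace Groth.Agent.S0660

/-- A section of a morphism in the small étale site is an open immersion on schemes. -/
lemma isOpenImmersion_of_section {Z : Scheme.{u}} {A B : Z.Etale} (s : A ⟶ B) (p : B ⟶ A)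
    (h : s ≫ p = 𝟙 A) : IsOpenImmersion s.left := by
  have := Groth.Agent.EtShriekLib.etale_left s
  have hl : s.left ≫ p.left = 𝟙 A.left := congrArg (fun m : A ⟶ A => m.left) h
  haveI : IsSplitMono s.left := IsSplitMono.mk' ⟨p.left, hl⟩
  exact IsOpenImmersion.of_flat_of_mono s.left

/-- Let i : Z -> X be a closed immersion, U and U' schemes etale over X, and h a Z-morphism from U x_X Z
to U' x_X Z. Then there are an etale X-scheme W and X-morphisms a : W -> U, b : W -> U' such that
the base change of a to Z is an isomorphism and h is the base change of b composed with the inverse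
of the base change of a. -/
theorem result {Z X : Scheme.{u}} (i : Z ⟶ X) [IsClosedImmersion i] (U U' : X.Etale)
    (h : (EtCoh.bc i).obj U ⟶ (EtCoh.bc i).obj U') :
    ∃ (W : X.Etale) (a : W ⟶ U) (b : W ⟶ U'), IsIso ((EtCoh.bc i).map a) ∧ (EtCoh.bc i).map a ≫ h = (EtCoh.bc i).map b := by
  let P : X.Etale := MorphismProperty.Over.mk ⊤ (pullback.fst U.hom U'.hom ≫ U.hom)
    (by
      haveI : Etale U.hom := U.prop
      haveI : Etale U'.hom := U'.prop
      exact (inferInstance : Etale (pullback.fst U.hom U'.hom ≫ U.hom)))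
  let pa : P ⟶ U := MorphismProperty.Over.homMk (pullback.fst U.hom U'.hom) rfl
  let pb : P ⟶ U' := MorphismProperty.Over.homMk (pullback.snd U.hom U'.hom) pullback.condition.symm
  -- the graph of `h`
  have hw : h.left ≫ pullback.snd U'.hom i = pullback.snd U.hom i := Over.w h.hom
  let g : ((EtCoh.bc i).obj U).left ⟶ P.left :=
    pullback.lift (pullback.fst U.hom i) (h.left ≫ pullback.fst U'.hom i) (by
      refine Eq.trans ?_ (Category.assoc _ _ _).symm
      refine pullback.condition.trans ?_
      refine Eq.trans ?_ (congrArg (fun m => h.left ≫ m) pullback.condition).symm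
      exact (congrArg (fun m => m ≫ i) hw).symm.trans (Category.assoc _ _ _))
  have hg1 : g ≫ pullback.fst U.hom U'.hom = pullback.fst U.hom i := pullback.lift_fst _ _ _
  have hg2 : g ≫ pullback.snd U.hom U'.hom = h.left ≫ pullback.fst U'.hom i := pullback.lift_snd _ _ _
  have hgP : g ≫ P.hom = pullback.snd U.hom i ≫ i := by
    change g ≫ pullback.fst U.hom U'.hom ≫ U.hom = _
    exact ((Category.assoc _ _ _).symm.trans (congrArg (fun m => m ≫ U.hom) hg1)).trans
      pullback.condition
  let s : (EtCoh.bc i).obj U ⟶ (EtCoh.bc i).obj P :=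
    MorphismProperty.Over.homMk (pullback.lift g (pullback.snd U.hom i) hgP) (pullback.lift_snd _ _ _)
  have hs1 : s.left ≫ pullback.fst P.hom i = g := pullback.lift_fst _ _ _
  have hsa : s ≫ (EtCoh.bc i).map pa = 𝟙 _ := by
    apply MorphismProperty.Over.Hom.ext
    apply pullback.hom_ext
    · change (s.left ≫ ((EtCoh.bc i).map pa).left) ≫ _ = 𝟙 _ ≫ _
      refine (Category.assoc _ _ _).trans ?_
      refine (congrArg (fun m => s.left ≫ m) (EtCoh.isPullback_bc_map i pa).w).trans ?_
      refine ((Category.assoc _ _ _).symm.trans (congrArg (fun m => m ≫ pa.left) hs1)).trans ?_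
      exact hg1.trans (Category.id_comp _).symm
    · exact (Over.w (s ≫ (EtCoh.bc i).map pa).hom).trans (Category.id_comp _).symm
  have hsb : s ≫ (EtCoh.bc i).map pb = h := by
    apply MorphismProperty.Over.Hom.ext
    apply pullback.hom_ext
    · change (s.left ≫ ((EtCoh.bc i).map pb).left) ≫ _ = _
      refine (Category.assoc _ _ _).trans ?_
      refine (congrArg (fun m => s.left ≫ m) (EtCoh.isPullback_bc_map i pb).w).trans ?_
      refine ((Category.assoc _ _ _).symm.trans (congrArg (fun m => m ≫ pb.left) hs1)).trans ?_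
      exact hg2
    · exact (Over.w (s ≫ (EtCoh.bc i).map pb).hom).trans (Over.w h.hom).symm
  haveI : IsOpenImmersion s.left := isOpenImmersion_of_section s _ hsa
  -- the open subscheme of `P` avoiding the rest of the fibre
  let iP : ((EtCoh.bc i).obj P).left ⟶ P.left := pullback.fst P.hom i
  haveI : IsClosedImmersion iP :=
    MorphismProperty.pullback_fst (P := @IsClosedImmersion) P.hom i inferInstance
  let O : P.left.Opens :=
    ⟨(iP '' (Set.range s.left)ᶜ)ᶜ,
      (iP.isClosedEmbedding.isClosedMap _
        s.left.isOpenEmbedding.isOpen_range.isClosed_compl).isOpen_compl⟩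
  let W : X.Etale := Groth.Agent.EtShriekLib.openObj P O
  let ι : W ⟶ P := Groth.Agent.EtShriekLib.openHom P O
  let j : (EtCoh.bc i).obj W ⟶ (EtCoh.bc i).obj P := (EtCoh.bc i).map ι
  have hj : j.left ≫ pullback.fst P.hom i = pullback.fst W.hom i ≫ O.ι :=
    (EtCoh.isPullback_bc_map i ι).w
  haveI : IsOpenImmersion j.left :=
    MorphismProperty.of_isPullback (P := @IsOpenImmersion) (EtCoh.isPullback_bc_map i ι).flip
      (inferInstanceAs (IsOpenImmersion O.ι))
  have hjrange : Set.range j.left ⊆ Set.range s.left := by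
    rintro _ ⟨z, rfl⟩
    by_contra hz
    have hO : (j.left ≫ pullback.fst P.hom i).base z ∈ O := by
      rw [hj]
      exact ((pullback.fst W.hom i).base z).2
    exact hO ⟨_, hz, rfl⟩
  let t : ((EtCoh.bc i).obj W).left ⟶ ((EtCoh.bc i).obj U).left :=
    IsOpenImmersion.lift s.left j.left hjrange
  have ht : t ≫ s.left = j.left := IsOpenImmersion.lift_fac _ _ _
  let a : W ⟶ U := ι ≫ pa
  have hjs : j = (EtCoh.bc i).map a ≫ s := by
    apply MorphismProperty.Over.Hom.ext
    have e1 : s.left ≫ ((EtCoh.bc i).map pa).left = 𝟙 _ :=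
      congrArg (fun m : (EtCoh.bc i).obj U ⟶ _ => m.left) hsa
    have e2 : ((EtCoh.bc i).map a).left = t := by
      rw [Functor.map_comp]
      change j.left ≫ _ = t
      rw [← ht]
      exact ((Category.assoc _ _ _).trans (congrArg (fun m => t ≫ m) e1)).trans (Category.comp_id _)
    change j.left = _ ≫ s.left
    rw [e2, ht]
  refine ⟨W, a, ι ≫ pb, ?_, ?_⟩
  · -- the inverse: lift the graph into `W`
    have hgO : Set.range g ⊆ Set.range O.ι := by
      rw [Scheme.Opens.range_ι]
      rintro _ ⟨z, rfl⟩ ⟨y, hy, hyz⟩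
      apply hy
      refine ⟨z, iP.isClosedEmbedding.injective ?_⟩
      rw [hyz, ← hs1]
      rfl
    haveI hOι : IsOpenImmersion O.ι := inferInstance
    let l : ((EtCoh.bc i).obj U).left ⟶ W.left := @IsOpenImmersion.lift _ _ _ O.ι g hOι hgO
    have hl : l ≫ O.ι = g := @IsOpenImmersion.lift_fac _ _ _ O.ι g hOι hgO
    let s' : (EtCoh.bc i).obj U ⟶ (EtCoh.bc i).obj W :=
      MorphismProperty.Over.homMk (pullback.lift l (pullback.snd U.hom i)
        (((Category.assoc _ _ _).symm.trans (congrArg (fun m => m ≫ P.hom) hl)).trans hgP))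
        (pullback.lift_snd _ _ _)
    have hs' : s' ≫ j = s := by
      apply MorphismProperty.Over.Hom.ext
      apply pullback.hom_ext
      · refine Eq.trans ?_ hs1.symm
        change (s'.left ≫ j.left) ≫ _ = g
        refine (Category.assoc _ _ _).trans ((congrArg (fun m => s'.left ≫ m) hj).trans ?_)
        refine ((Category.assoc _ _ _).symm.trans (congrArg (fun m => m ≫ O.ι) (pullback.lift_fst _ _ _))).trans ?_
        exact hl
      · exact (Over.w (s' ≫ j).hom).trans (Over.w s.hom).symm
    haveI : Mono s := ⟨fun u v e => by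
      simpa [hsa] using congrArg (· ≫ (EtCoh.bc i).map pa) e⟩
    have h1 : s' ≫ (EtCoh.bc i).map a = 𝟙 _ := by
      rw [← cancel_mono s, Category.assoc, ← hjs, hs', Category.id_comp]
    refine ⟨s', ?_, h1⟩
    apply MorphismProperty.Over.Hom.ext
    have e : ((EtCoh.bc i).map a ≫ s') ≫ j = 𝟙 _ ≫ j :=
      ((Category.assoc _ _ _).trans ((congrArg (fun m => (EtCoh.bc i).map a ≫ m) hs').trans
        hjs.symm)).trans (Category.id_comp _).symm
    exact (cancel_mono j.left).1 (congrArg (fun m : (EtCoh.bc i).obj W ⟶ _ => m.left) e)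
  · rw [Functor.map_comp (EtCoh.bc i) ι pb]
    change _ = j ≫ _
    rw [hjs, Category.assoc, hsb]

end Groth.Agent.S0660
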