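import Groth.Prelude.Def_EtBase
import Groth.Prelude.Def_EtCore
import Mathlib.RingTheory.Localization.AtPrime.Basic
import Groth.Agent.EtSite.GabberH1
-- import your own Groth.Agent.* helpers here

set_option autoImplicit false
open CategoryTheory CategoryTheory.Limits AlgebraicGeometry Opposite
universe u

namespace Groth.Agent.S0661

/-- Let R be a ring such that the localization at every prime is strictly henselian, and F an abelian
sheaf on the small etale site of X = Spec R. Suppose that for all global functions f, g on X the map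
from H^1 of the basic open D(f+g) (with coefficients in the restriction of F) to the product of H^1
of D(f(f+g)) and H^1 of D(g(f+g)) has zero kernel. Then H^q(X, F) vanishes for all q > 0. (Global
functions on Spec R are used in place of elements of R; the two rings are canonically isomorphic.)
(Exactness of pullback of abelian sheaves, which always holds, is carried as an instance
hypothesis.) -/
theorem result (R : Type u) [CommRing R]
    (hR : ∀ p : PrimeSpectrum R, EtCoh.IsStrictlyHenselianLocalRing (Localization.AtPrime p.asIdeal))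
    (F : EtCoh.Ab (Spec (CommRingCat.of R)))
    (hker : ∀ (f g : Γ((Spec (CommRingCat.of R)), ⊤))
      [PreservesFiniteLimits (EtCoh.pull ((Spec (CommRingCat.of R)).homOfLE (((Spec (CommRingCat.of R)).basicOpen_mul f (f + g)).trans_le inf_le_right)))]
      [PreservesFiniteLimits (EtCoh.pull ((Spec (CommRingCat.of R)).homOfLE (((Spec (CommRingCat.of R)).basicOpen_mul g (f + g)).trans_le inf_le_right)))]
      (ξ : EtCoh.H ↑((Spec (CommRingCat.of R)).basicOpen (f + g)) ((EtCoh.pull ((Spec (CommRingCat.of R)).basicOpen (f + g)).ι).obj F) 1),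
      EtCore.HpullVia ((Spec (CommRingCat.of R)).homOfLE (((Spec (CommRingCat.of R)).basicOpen_mul f (f + g)).trans_le inf_le_right)) ((Spec (CommRingCat.of R)).basicOpen (f + g)).ι ((Spec (CommRingCat.of R)).basicOpen (f * (f + g))).ι ((Spec (CommRingCat.of R)).homOfLE_ι (((Spec (CommRingCat.of R)).basicOpen_mul f (f + g)).trans_le inf_le_right)) F 1 ξ = 0 →
      EtCore.HpullVia ((Spec (CommRingCat.of R)).homOfLE (((Spec (CommRingCat.of R)).basicOpen_mul g (f + g)).trans_le inf_le_right)) ((Spec (CommRingCat.of R)).basicOpen (f + g)).ι ((Spec (CommRingCat.of R)).basicOpen (g * (f + g))).ι ((Spec (CommRingCat.of R)).homOfLE_ι (((Spec (CommRingCat.of R)).basicOpen_mul g (f + g)).trans_le inf_le_right)) F 1 ξ = 0 →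
      ξ = 0)
    (q : ℕ) (hq : 1 ≤ q) : Subsingleton (EtCoh.H (Spec (CommRingCat.of R)) F q) := by
  obtain ⟨n, rfl⟩ : ∃ n, q = n + 1 := ⟨q - 1, by omega⟩
  let X := Spec (CommRingCat.of R)
  have hX := Groth.Agent.EtSite.GabberH1.hasLocalSections_spec R hR
  have hv := Groth.Agent.EtSite.GabberH1.vanish hX F (fun f g α hf hg => by
    refine (Groth.Agent.EtMV.Ψ_bijective _ F 1).1 ((hker f g _ ?_ ?_).trans (map_zero _).symm)
    · rw [← Groth.Agent.EtMV.Ψ_cc]
      exact (congrArg _ hf).trans (map_zero _)
    · rw [← Groth.Agent.EtMV.Ψ_cc]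
      exact (congrArg _ hg).trans (map_zero _)) n 1
  refine subsingleton_of_forall_eq 0 fun x => ?_
  let D := X.basicOpen (1 : Γ(X, ⊤))
  have : Epi (Groth.Agent.EtMV.cz D.ι) :=
    Groth.Agent.EtSite.GabberH1.epi_cz D (X.basicOpen_of_isUnit isUnit_one)
  have : IsIso (Groth.Agent.EtMV.cz D.ι) := isIso_of_mono_of_epi _
  let x' : Abelian.Ext (Groth.Agent.EtMV.zs X) F (n + 1) := x
  have h0 : (Abelian.Ext.mk₀ (Groth.Agent.EtMV.cz D.ι)).comp x' (zero_add (n + 1)) = 0 := hv _
  have h1 : x' = 0 := by
    rw [← Abelian.Ext.mk₀_id_comp x', ← IsIso.inv_hom_id (Groth.Agent.EtMV.cz D.ι),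
      ← Abelian.Ext.mk₀_comp_mk₀_assoc, h0]
    exact Abelian.Ext.comp_zero ..
  exact h1

end Groth.Agent.S0661
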