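import Groth.Statements.S0671
import Groth.Agent.EtShriekLib.Supp
-- import your own Groth.Agent.* helpers here

set_option autoImplicit false
set_option linter.style.haveILetI false
open CategoryTheory CategoryTheory.Limits AlgebraicGeometry Opposite
universe u
open EtCore

namespace Groth.Agent.S0671

/-- For an abelian sheaf F on the small etale site of S and a section σ over an etale S-scheme U, the
support of σ is a closed subset of U; and a point of S has a nonzero geometric stalk exactly when it
is the image of a point lying in the support of some section over some etale S-scheme. -/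
theorem result {S : Scheme.{u}} (F : EtCoh.Ab S) :
    (∀ (U : S.Etale) (σ : EtCoh.sect F U), IsClosed (EtShriek.sectSupp F U σ)) ∧
    EtPBC.supp F = ⋃ (U : S.Etale) (σ : EtCoh.sect F U), U.hom.base '' EtShriek.sectSupp F U σ := by
  refine ⟨EtShriekLib.isClosed_supp F, Set.ext fun p => ⟨?_, ?_⟩⟩
  · rintro ⟨Ω, _, _, ξ, hξ, hne⟩
    let Φ := Scheme.pointSmallEtale ξ
    obtain ⟨z, hz⟩ : ∃ z : (EtCoh.stalk ξ).obj F, z ≠ 0 := by
      by_contra h
      push Not at h
      haveI : Subsingleton ((EtCoh.stalk ξ).obj F) := ⟨fun a b => (h a).trans (h b).symm⟩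
      exact hne (AddCommGrpCat.isZero_of_subsingleton _)
    obtain ⟨U, w, σ, rfl⟩ := Φ.toPresheafFiber_jointly_surjective z
    have hw : w.left ≫ U.hom = ξ := Over.w w
    refine Set.mem_iUnion₂.2 ⟨U, σ, w.left.base (default : Spec (CommRingCat.of Ω)), ?_, ?_⟩
    · intro W g hW h0
      haveI := EtShriekLib.etale_left g
      obtain ⟨x, hx⟩ := hW
      obtain ⟨l, hl, -⟩ := Scheme.exists_fac_of_etale_of_isSepClosed g.left w.left x hx
      apply hz
      let w' : Φ.fiber.obj W := Over.homMk l (by
        show l ≫ W.hom = ξ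
        rw [← MorphismProperty.Over.w g, ← Category.assoc, hl]
        exact hw)
      have hg : Φ.fiber.map g w' = w := Over.OverMorphism.ext hl
      rw [← hg]
      exact (Φ.toPresheafFiber_w_apply g w' F.obj σ).symm.trans ((congrArg _ h0).trans (map_zero _))
    · have : ξ.base (default : Spec (CommRingCat.of Ω)) ∈ ({p} : Set S) := hξ ▸ Set.mem_range_self _
      exact (Scheme.Hom.comp_apply _ _ _).symm.trans ((congrArg (fun m : _ ⟶ S => m.base _) hw).trans this)
  · intro hp
    obtain ⟨U, σ, x, hx, rfl⟩ := Set.mem_iUnion₂.1 hp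
    let Φ := Scheme.pointSmallEtale (EtSite.gpt x ≫ U.hom)
    refine ⟨_, inferInstance, inferInstance, EtSite.gpt x ≫ U.hom, ?_, fun h0 => ?_⟩
    · ext y
      constructor
      · rintro ⟨q, rfl⟩
        simp
      · rintro rfl
        exact ⟨default, by rw [Scheme.Hom.comp_apply, EtSite.gpt_apply]⟩
    · haveI := AddCommGrpCat.subsingleton_of_isZero h0
      obtain ⟨V, g, v, hv, hg⟩ := (Φ.toPresheafFiber_eq_iff' U (EtSite.tautPt U x) σ 0).1
        (@Subsingleton.elim ((EtCoh.stalk (EtSite.gpt x ≫ U.hom)).obj F) _ _ _)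
      refine hx V g ⟨v.left.base (default : Spec (CommRingCat.of (SeparableClosure (U.left.residueField x)))), ?_⟩ (hg.trans (map_zero _))
      have hl : v.left ≫ g.left = EtSite.gpt x := congrArg CommaMorphism.left hv
      exact (Scheme.Hom.comp_apply _ _ _).symm.trans
        ((congrArg (fun m : _ ⟶ U.left => m.base _) hl).trans (EtSite.gpt_apply x _))

end Groth.Agent.S0671
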