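import Groth.Statements.S0676
import Groth.Agent.HenselLib.LiftEtalePair
import Mathlib.RingTheory.Spectrum.Prime.Chevalley
import Mathlib.RingTheory.Etale.Pi
import Mathlib.RingTheory.Flat.FaithfullyFlat.Algebra

set_option autoImplicit false
open CategoryTheory CategoryTheory.Limits AlgebraicGeometry Opposite Topology
universe u
open ProEtW

namespace Groth.Agent.S0676

/-- If every faithfully flat etale A-algebra has an A-algebra retraction, then the same holds for the
quotient ring A/I for every ideal I. -/
theorem result (A : Type u) [CommRing A]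
    (h : ProEtW.HasEtaleRetractions A) (I : Ideal A) :
    ProEtW.HasEtaleRetractions (A ⧸ I) := by
  classical
  intro C _ algC hff het
  let _ : Algebra A C := ((algebraMap (A ⧸ I) C).comp (Ideal.Quotient.mk I)).toAlgebra
  have : IsScalarTower A (A ⧸ I) C := IsScalarTower.of_algebraMap_eq' rfl
  obtain ⟨B, _, _, π, hB, hπ, hker⟩ := HenselLib.exists_etale_lift_quotient I C
  have : Algebra.FinitePresentation A B := inferInstance
  have : Module.Flat A B := inferInstance
  let U := Set.range (PrimeSpectrum.comap (algebraMap A B))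
  have hU : IsOpen U :=
    (PrimeSpectrum.isOpenMap_comap_of_hasGoingDown_of_finitePresentation (R := A) (S := B)).isOpen_range
  have hVI : PrimeSpectrum.zeroLocus (I : Set A) ⊆ U := by
    intro x hx
    rw [← Ideal.mk_ker (I := I), ← range_comap_of_surjective _ _ Ideal.Quotient.mk_surjective] at hx
    obtain ⟨y, rfl⟩ := hx
    obtain ⟨z, rfl⟩ := PrimeSpectrum.comap_surjective_of_faithfullyFlat (A := A ⧸ I) (B := C) y
    refine ⟨PrimeSpectrum.comap π.toRingHom z, ?_⟩
    rw [← PrimeSpectrum.comap_comp_apply, ← PrimeSpectrum.comap_comp_apply, AlgHom.toRingHom_eq_coe,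
      π.comp_algebraMap]
    rfl
  obtain ⟨t, ht⟩ := hU.isClosed_compl.isCompact.elim_finite_subcover
    (fun f : I => (PrimeSpectrum.basicOpen (f : A) : Set (PrimeSpectrum A)))
    (fun f => (PrimeSpectrum.basicOpen (f : A)).2) (fun x hx => by
      have hxI : x ∉ PrimeSpectrum.zeroLocus (I : Set A) := fun h => hx (hVI h)
      rw [PrimeSpectrum.mem_zeroLocus, Set.not_subset] at hxI
      obtain ⟨f, hf, hfx⟩ := hxI
      exact Set.mem_iUnion.mpr ⟨⟨f, hf⟩, hfx⟩)
  let E : Option t → Type u := fun o => match o with
    | none => B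
    | some f => Localization.Away ((f : I) : A)
  let iR : ∀ o, CommRing (E o) := fun o => match o with
    | none => inferInstanceAs (CommRing B)
    | some f => inferInstanceAs (CommRing (Localization.Away ((f : I) : A)))
  let iA : ∀ o, Algebra A (E o) := fun o => match o with
    | none => inferInstanceAs (Algebra A B)
    | some f => inferInstanceAs (Algebra A (Localization.Away ((f : I) : A)))
  have hE : ∀ o, Algebra.Etale A (E o) := fun o => match o with
    | none => hB
    | some f => Algebra.Etale.of_isLocalizationAway ((f : I) : A)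
  have : Algebra.Etale A (∀ o, E o) := inferInstance
  have hffE : Module.FaithfullyFlat A (∀ o, E o) := by
    have : Module.Flat A (∀ o, E o) := inferInstance
    refine Module.FaithfullyFlat.of_comap_surjective fun x => ?_
    by_cases hx : x ∈ U
    · obtain ⟨y, rfl⟩ := hx
      refine ⟨PrimeSpectrum.comap (Pi.evalRingHom E none) y, ?_⟩
      rw [← PrimeSpectrum.comap_comp_apply]
      rfl
    · obtain ⟨f, hf, hfx⟩ := Set.mem_iUnion₂.mp (ht hx)
      rw [← PrimeSpectrum.localization_away_comap_range (Localization.Away (f : A)) (f : A)] at hfx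
      obtain ⟨y, rfl⟩ := hfx
      refine ⟨PrimeSpectrum.comap (Pi.evalRingHom E (some ⟨f, hf⟩)) y, ?_⟩
      rw [← PrimeSpectrum.comap_comp_apply]
      rfl
  obtain ⟨r⟩ := h (∀ o, E o) hffE inferInstance
  let q : (∀ o, E o) →ₐ[A] A ⧸ I := (Ideal.Quotient.mkₐ A I).comp r
  have hzero : ∀ f : t, q (Pi.single (some f) 1) = 0 := by
    intro f
    obtain ⟨v, hv⟩ := (IsLocalization.Away.algebraMap_isUnit (S := Localization.Away ((f : I) : A)) ((f : I) : A)).exists_left_inv
    have e : (Pi.single (some f) 1 : ∀ o, E o) = algebraMap A (∀ o, E o) ((f : I) : A) * Pi.single (some f) v := by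
      funext o
      rcases eq_or_ne o (some f) with rfl | hne
      · rw [Pi.mul_apply, Pi.single_eq_same, Pi.single_eq_same, mul_comm]
        exact hv.symm
      · rw [Pi.mul_apply, Pi.single_eq_of_ne hne, Pi.single_eq_of_ne hne, mul_zero]
    rw [e, map_mul, AlgHom.commutes, Ideal.Quotient.algebraMap_eq,
      Ideal.Quotient.eq_zero_iff_mem.mpr (f : I).2, zero_mul]
  have hone : q (Pi.single none 1) = 1 := by
    have e : (1 : ∀ o, E o) = Pi.single none 1 + ∑ f : t, Pi.single (some f) 1 := by
      rw [← Finset.univ_sum_single (1 : ∀ o, E o), Fintype.sum_option]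
      rfl
    have := congrArg q e
    rw [map_one, map_add, map_sum, Finset.sum_eq_zero (fun f _ => hzero f), add_zero] at this
    exact this.symm
  let g : B →ₐ[A] A ⧸ I :=
    { toFun := fun b => q (Pi.single none b)
      map_one' := hone
      map_mul' := fun a b => by rw [← map_mul, ← Pi.single_mul]
      map_zero' := by rw [Pi.single_zero, map_zero]
      map_add' := fun a b => by rw [← map_add, ← Pi.single_add]
      commutes' := fun a => by
        have e : (Pi.single none (algebraMap A B a) : ∀ o, E o) =
            algebraMap A (∀ o, E o) a * Pi.single none 1 := by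
          funext o
          rcases eq_or_ne o none with rfl | hne
          · rw [Pi.mul_apply, Pi.single_eq_same, Pi.single_eq_same, mul_one]
            rfl
          · rw [Pi.mul_apply, Pi.single_eq_of_ne hne, Pi.single_eq_of_ne hne, mul_zero]
        show q _ = _
        rw [e, map_mul, hone, mul_one, AlgHom.commutes] }
  have hgker : ∀ x, π x = 0 → g x = 0 := by
    intro x hx
    have hle : I.map (algebraMap A B) ≤ RingHom.ker g.toRingHom := by
      rw [Ideal.map_le_iff_le_comap]
      intro a ha
      show g (algebraMap A B a) = 0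
      rw [AlgHom.commutes, Ideal.Quotient.algebraMap_eq, Ideal.Quotient.eq_zero_iff_mem.mpr ha]
    exact hle (hker x hx)
  let σ : C →ₐ[A] A ⧸ I :=
    AlgHom.liftOfSurjective π hπ g (fun x hx => hgker x hx)
  exact ⟨AlgHom.extendScalarsOfSurjective (R := A) (S := A ⧸ I) Ideal.Quotient.mk_surjective σ⟩

end Groth.Agent.S0676
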