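import Groth.Statements.S0698
import Groth.Agent.S7566
import Mathlib.RingTheory.Localization.Away.Lemmas

set_option autoImplicit false
open CategoryTheory CategoryTheory.Limits AlgebraicGeometry Opposite Topology
universe u
open ProEtW

namespace Groth.Agent.S0698

/-- Let A be a ring, X = Spec A and T a closed subset of pi_0(X). Then A has an ind-Zariski quotient
ring B (the map A -> B is surjective) whose spectrum maps homeomorphically onto the preimage of T in
X. -/
theorem result (A : Type u) [CommRing A]
    (T : Set (_root_.ConnectedComponents (PrimeSpectrum A))) (hT : IsClosed T) :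
    ∃ (B : Type u) (_ : CommRing B) (_ : Algebra A B),
      EtPBC.IsIndZariski A B ∧ Function.Surjective (algebraMap A B) ∧
      Topology.IsEmbedding (PrimeSpectrum.comap (algebraMap A B)) ∧
      Set.range (PrimeSpectrum.comap (algebraMap A B)) = _root_.ConnectedComponents.mk ⁻¹' T := by
  classical
  set T' : Set (PrimeSpectrum A) := _root_.ConnectedComponents.mk ⁻¹' T with hT'
  let J := {e : A // IsIdempotentElem e ∧ T' ⊆ PrimeSpectrum.basicOpen e}
  let K : J → Ideal A := fun e => Ideal.span {1 - e.1}
  let _ : Preorder J := Preorder.lift K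
  let I : Ideal A := ⨆ e : J, K e
  have hne : Nonempty J := ⟨⟨1, IsIdempotentElem.one, by simp⟩⟩
  have hdir : IsDirectedOrder J := ⟨fun e e' => by
    refine ⟨⟨e.1 * e'.1, e.2.1.mul e'.2.1, ?_⟩, ?_, ?_⟩
    · rw [PrimeSpectrum.basicOpen_mul]
      exact Set.subset_inter e.2.2 e'.2.2
    · refine (Ideal.span_singleton_le_iff_mem _).mpr (Ideal.mem_span_singleton'.mpr ⟨1 - e.1, ?_⟩)
      linear_combination e'.1 * e.2.1.eq
    · refine (Ideal.span_singleton_le_iff_mem _).mpr (Ideal.mem_span_singleton'.mpr ⟨1 - e'.1, ?_⟩)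
      linear_combination e.1 * e'.2.1.eq⟩
  have hrange : PrimeSpectrum.zeroLocus (I : Set A) = T' := by
    ext x
    rw [PrimeSpectrum.mem_zeroLocus, SetLike.coe_subset_coe, iSup_le_iff]
    simp only [K, Ideal.span_singleton_le_iff_mem]
    constructor
    · intro h
      by_contra hx
      have hC : connectedComponent x = ⋂₀ {Z | IsClopen Z ∧ x ∈ Z} := S7566.result x
      have hdisj : T' ∩ ⋂ Z : {Z : Set (PrimeSpectrum A) // IsClopen Z ∧ x ∈ Z}, Z.1 = ∅ := by
        rw [Set.eq_empty_iff_forall_notMem]
        rintro y ⟨hy, hy'⟩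
        refine hx ?_
        have hyx : y ∈ connectedComponent x := by
          rw [hC]; exact Set.mem_sInter.mpr fun Z hZ => Set.mem_iInter.mp hy' ⟨Z, hZ⟩
        show _root_.ConnectedComponents.mk x ∈ T
        rwa [← ConnectedComponents.coe_eq_coe'.mpr hyx]
      have : Nonempty {Z : Set (PrimeSpectrum A) // IsClopen Z ∧ x ∈ Z} :=
        ⟨⟨Set.univ, isClopen_univ, Set.mem_univ x⟩⟩
      obtain ⟨⟨Z, hZ, hxZ⟩, hZT⟩ :=
        ((hT.preimage ConnectedComponents.continuous_coe).isCompact).elim_directed_family_closed
          (fun Z : {Z : Set (PrimeSpectrum A) // IsClopen Z ∧ x ∈ Z} => Z.1) (fun Z => Z.2.1.1) hdisj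
          (fun Z Z' => ⟨⟨Z.1 ∩ Z'.1, Z.2.1.inter Z'.2.1, Z.2.2, Z'.2.2⟩, Set.inter_subset_left,
            Set.inter_subset_right⟩)
      obtain ⟨e, he, heq⟩ := PrimeSpectrum.exists_idempotent_basicOpen_eq_of_isClopen hZ.compl
      have hsub : T' ⊆ PrimeSpectrum.basicOpen e := by
        rw [← heq]
        exact fun y hy hyZ => Set.eq_empty_iff_forall_notMem.mp hZT y ⟨hy, hyZ⟩
      have hxe : x ∉ (PrimeSpectrum.basicOpen e : Set (PrimeSpectrum A)) := by
        rw [← heq]; exact fun hc => hc hxZ
      rw [SetLike.mem_coe, PrimeSpectrum.mem_basicOpen, not_not] at hxe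
      have := h ⟨e, he, hsub⟩
      exact x.isPrime.ne_top ((Ideal.eq_top_iff_one _).mpr (by simpa using add_mem this hxe))
    · intro hx e
      have := e.2.2 hx
      rw [SetLike.mem_coe, PrimeSpectrum.mem_basicOpen] at this
      refine (x.isPrime.mem_or_mem (x := (1 - e.1)) (y := e.1) ?_).resolve_right this
      rw [sub_mul, one_mul, e.2.1.eq, sub_self]; exact zero_mem _
  refine ⟨A ⧸ I, inferInstance, inferInstance, ?_, Ideal.Quotient.mk_surjective,
    (PrimeSpectrum.isClosedEmbedding_comap_of_surjective _ _ Ideal.Quotient.mk_surjective).1, ?_⟩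
  · let D : J ⥤ Under (CommRingCat.of A) :=
      { obj := fun e => Under.mk (CommRingCat.ofHom (Ideal.Quotient.mk (K e)))
        map := fun {e e'} h => Under.homMk (CommRingCat.ofHom (Ideal.Quotient.factor (leOfHom h)))
          (CommRingCat.hom_ext (RingHom.ext fun _ => rfl))
        map_id := fun e => by
          ext x
          obtain ⟨x, rfl⟩ := Ideal.Quotient.mk_surjective x
          rfl
        map_comp := fun f g => by
          ext x
          obtain ⟨x, rfl⟩ := Ideal.Quotient.mk_surjective x
          rfl }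
    let c : Cocone D :=
      { pt := Under.mk (CommRingCat.ofHom (Ideal.Quotient.mk I))
        ι :=
          { app := fun e => Under.homMk (CommRingCat.ofHom (Ideal.Quotient.factor (le_iSup K e)))
              (CommRingCat.hom_ext (RingHom.ext fun _ => rfl))
            naturality := fun e e' f => by
              ext x
              obtain ⟨x, rfl⟩ := Ideal.Quotient.mk_surjective x
              rfl } }
    have hkill : ∀ (s : Cocone D), ∀ a ∈ I, s.pt.hom.hom a = 0 := by
      intro s a ha
      have hle : I ≤ RingHom.ker s.pt.hom.hom := iSup_le fun e y hy => by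
        rw [RingHom.mem_ker]
        have hw : CommRingCat.ofHom (Ideal.Quotient.mk (K e)) ≫ (s.ι.app e).right = s.pt.hom :=
          Under.w (s.ι.app e)
        rw [← hw, CommRingCat.hom_comp, RingHom.comp_apply]
        show (s.ι.app e).right.hom (Ideal.Quotient.mk (K e) y) = 0
        rw [Ideal.Quotient.eq_zero_iff_mem.mpr hy, map_zero]
      exact hle ha
    refine ⟨J, inferInstance, inferInstance, D, c,
      { desc := fun s => Under.homMk (CommRingCat.ofHom (Ideal.Quotient.lift I s.pt.hom.hom (hkill s)))
          (CommRingCat.hom_ext (RingHom.ext fun _ => rfl))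
        fac := fun s e => by
          ext x
          obtain ⟨x, rfl⟩ := Ideal.Quotient.mk_surjective x
          have hw : CommRingCat.ofHom (Ideal.Quotient.mk (K e)) ≫ (s.ι.app e).right = s.pt.hom :=
            Under.w (s.ι.app e)
          exact (congrArg (fun φ => φ.hom x) hw).symm
        uniq := fun s m hm => by
          ext x
          obtain ⟨x, rfl⟩ := Ideal.Quotient.mk_surjective x
          have hw : CommRingCat.ofHom (Ideal.Quotient.mk I) ≫ m.right = s.pt.hom := Under.w m
          exact congrArg (fun φ => φ.hom x) hw },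
      fun e => ?_, ⟨Iso.refl _⟩⟩
    have : IsLocalization.Away e.1 (A ⧸ K e) := IsLocalization.Away.quotient_of_isIdempotentElem e.2.1
    show Algebra.IsLocalIso A (A ⧸ K e)
    have : Algebra.IsStandardOpenImmersion A (A ⧸ K e) := ⟨⟨e.1, this⟩⟩
    exact inferInstance
  · rw [Ideal.Quotient.algebraMap_eq, range_comap_of_surjective _ _ Ideal.Quotient.mk_surjective,
      Ideal.mk_ker, hrange]

end Groth.Agent.S0698
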