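import Groth.Statements.S0702
import Mathlib
-- import your own Groth.Agent.* helpers here

set_option autoImplicit false
open CategoryTheory CategoryTheory.Limits AlgebraicGeometry Opposite Topology
universe u
open ProEtW

namespace Groth.Agent.S0702

/-- Let Spec A be profinite and A -> B induce algebraic extensions of residue fields at all primes. Then
Spec B is profinite. -/
theorem result (A B : Type u) [CommRing A] [CommRing B]
    [Algebra A B] [T2Space (PrimeSpectrum A)] [TotallyDisconnectedSpace (PrimeSpectrum A)]
    (h : ProEtW.AlgebraicResidueExtensions A B) :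
    ProEtW.IsProfinite (PrimeSpectrum B) := by
  have hmax : ∀ q : PrimeSpectrum B, q.asIdeal.IsMaximal := by
    intro q
    have hp : (q.asIdeal.comap (algebraMap A B)).IsMaximal :=
      (PrimeSpectrum.isClosed_singleton_iff_isMaximal (PrimeSpectrum.comap (algebraMap A B) q)).1 isClosed_singleton
    haveI := h q.asIdeal
    letI := Ideal.Quotient.field (q.asIdeal.comap (algebraMap A B))
    haveI : Algebra.IsIntegral (A ⧸ q.asIdeal.comap (algebraMap A B)) (B ⧸ q.asIdeal) :=
      Algebra.IsAlgebraic.isIntegral
    exact Ideal.Quotient.maximal_of_isField _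
      (isField_of_isIntegral_of_isField' (Field.toIsField (A ⧸ q.asIdeal.comap (algebraMap A B))))
  haveI : T2Space (PrimeSpectrum B) := by
    refine ⟨fun x y hxy => ?_⟩
    obtain ⟨a, hay, hax⟩ : ∃ a ∈ y.asIdeal, a ∉ x.asIdeal := SetLike.not_le_iff_exists.1 fun hle =>
      hxy (PrimeSpectrum.ext ((hmax y).eq_of_le x.isPrime.ne_top hle).symm)
    have hn : IsNilpotent (algebraMap B (Localization.AtPrime y.asIdeal) a) := by
      rw [nilpotent_iff_mem_prime]
      intro Q hQ
      have hd : Disjoint (y.asIdeal.primeCompl : Set B) (Q.comap (algebraMap B (Localization.AtPrime y.asIdeal)) : Set B) :=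
        ((IsLocalization.isPrime_iff_isPrime_disjoint y.asIdeal.primeCompl _ Q).1 hQ).2
      have hle : Q.comap (algebraMap B (Localization.AtPrime y.asIdeal)) ≤ y.asIdeal :=
        fun z hz => by_contra fun hzy => Set.disjoint_left.1 hd hzy hz
      haveI := hQ
      have := (hmax ⟨_, Ideal.IsPrime.comap (algebraMap B (Localization.AtPrime y.asIdeal))⟩).eq_of_le
        y.isPrime.ne_top hle
      exact (this.ge hay :)
    obtain ⟨n, hn⟩ := hn
    rw [← map_pow, IsLocalization.map_eq_zero_iff y.asIdeal.primeCompl] at hn
    obtain ⟨⟨s, hs⟩, hsa⟩ := hn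
    refine ⟨PrimeSpectrum.basicOpen a, PrimeSpectrum.basicOpen s, PrimeSpectrum.isOpen_basicOpen,
      PrimeSpectrum.isOpen_basicOpen, hax, hs, Set.disjoint_left.2 fun z hza hzs => ?_⟩
    have : s * a ^ n ∈ z.asIdeal := by rw [show s * a ^ n = 0 from hsa]; exact zero_mem _
    exact (z.isPrime.mem_or_mem this).elim hzs fun h' => hza (z.isPrime.mem_of_pow_mem _ h')
  exact ⟨inferInstance, inferInstance, inferInstance⟩

end Groth.Agent.S0702
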