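import Groth.Statements.S7584
open Set Filter Topology

set_option autoImplicit false
universe u
open PtTop

namespace Groth.Agent.S7584

/-- Let X be a quasi-compact topological space in which each connected component equals the intersection
of all clopen sets that contain it. Then π₀(X), the set of connected components with the quotient
topology, is Hausdorff. The published statement concludes that π₀(X) is profinite; this row records
the Hausdorff property, quasi-compactness and total disconnectedness of the quotient being
automatic. -/
theorem result (X : Type u) [TopologicalSpace X] [CompactSpace X]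
    (h : ∀ x : X, connectedComponent x = ⋂₀ {Z : Set X | IsClopen Z ∧ x ∈ Z}) :
    T2Space (ConnectedComponents X) := by
  refine ⟨ConnectedComponents.surjective_coe.forall₂.2 fun a b ne => ?_⟩
  rw [ConnectedComponents.coe_ne_coe] at ne
  have hb : b ∉ connectedComponent a := fun hb => ne (connectedComponent_eq hb)
  rw [h a, mem_sInter] at hb
  push Not at hb
  obtain ⟨Z, ⟨hZ, ha⟩, hbZ⟩ := hb
  let V : Set (ConnectedComponents X) := (↑) '' Z
  have hV : (↑) ⁻¹' V = Z := (connectedComponents_preimage_image Z).trans hZ.biUnion_connectedComponent_eq
  have hVc : IsClopen V := ConnectedComponents.isQuotientMap_coe.isClopen_preimage.1 (hV.symm ▸ hZ)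
  exact ⟨V, Vᶜ, hVc.isOpen, hVc.compl.isOpen, mem_image_of_mem _ ha,
    fun hbV => hbZ (hV.le hbV), disjoint_compl_right⟩

end Groth.Agent.S7584
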