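import Mathlib
import Groth.Statements.S0706
-- import your own Groth.Agent.* helpers here

set_option autoImplicit false
open CategoryTheory CategoryTheory.Limits AlgebraicGeometry Opposite Topology
universe u
open ProEtW

namespace Groth.Agent.S0706

/-- Let f be an element and I an ideal of A, and Z the intersection of D(f) and V(I) in Spec A. There is
a multiplicative subset S of A for which the image of Spec(S^{-1}A) in Spec A consists precisely of
the points having a specialization in Z. -/
theorem result (A : Type u) [CommRing A] (f : A) (I : Ideal A) :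
    ∃ S : Submonoid A,
      Set.range (PrimeSpectrum.comap (algebraMap A (Localization S))) =
        {x | ∃ z : PrimeSpectrum A,
          z ∈ (PrimeSpectrum.basicOpen f : Set (PrimeSpectrum A)) ∩ PrimeSpectrum.zeroLocus I ∧ x ⤳ z} := by
  classical
  let S : Submonoid A := (Submonoid.powers (Ideal.Quotient.mk I f)).comap (Ideal.Quotient.mk I)
  refine ⟨S, ?_⟩
  rw [PrimeSpectrum.localization_comap_range (Localization S) S]
  ext x
  constructor
  · intro hx
    have hd : Disjoint ((x.asIdeal ⊔ I : Ideal A) : Set A) (Submonoid.powers f : Set A) := by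
      rw [Set.disjoint_left]
      intro a ha haf
      obtain ⟨n, rfl⟩ := haf
      obtain ⟨y, hy, z, hz, hyz⟩ := Submodule.mem_sup.1 ha
      refine Set.disjoint_left.1 hx (show y ∈ S from ⟨n, ?_⟩) hy
      show Ideal.Quotient.mk I f ^ n = Ideal.Quotient.mk I y
      rw [← map_pow, show (f ^ n) = y + z from hyz.symm, map_add, Ideal.Quotient.eq_zero_iff_mem.2 hz, add_zero]
    obtain ⟨q, hq, hle, hqd⟩ := Ideal.exists_le_prime_disjoint _ _ hd
    refine ⟨⟨q, hq⟩, ⟨fun hf => Set.disjoint_left.1 hqd hf (Submonoid.mem_powers f), le_sup_right.trans hle⟩, ?_⟩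
    exact (PrimeSpectrum.le_iff_specializes x ⟨q, hq⟩).1 (le_sup_left.trans hle)
  · rintro ⟨z, ⟨hzf, hzI⟩, hxz⟩
    have hle : x.asIdeal ≤ z.asIdeal := (PrimeSpectrum.le_iff_specializes x z).2 hxz
    refine Set.disjoint_left.2 fun y hy hyx => ?_
    obtain ⟨n, hn⟩ := hy
    have hn' : f ^ n - y ∈ I := by
      rw [← Ideal.Quotient.eq, map_pow]; exact hn
    apply hzf
    refine z.isPrime.mem_of_pow_mem n ?_
    have := z.asIdeal.add_mem (hzI hn') (hle hyx)
    rwa [sub_add_cancel] at this

end Groth.Agent.S0706
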