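import Groth.Statements.S0728
import Groth.Agent.EtShriekLib.Supp
-- import your own Groth.Agent.* helpers here

set_option autoImplicit false
set_option linter.style.haveILetI false
open CategoryTheory CategoryTheory.Limits AlgebraicGeometry Opposite
universe u
open EtShriek

namespace Groth.Agent.S0728

theorem mem_range_diagonal {A B : Scheme.{u}} (f : A ⟶ B) (y : ↥(pullback f f))
    (h : (pullback.snd f f).base y = (pullback.fst f f).base y)
    (hres : Function.Bijective (f.residueFieldMap ((pullback.fst f f).base y))) :
    y ∈ Set.range (pullback.diagonal f).base := by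
  let P := pullback f f
  let z := (pullback.fst f f).base y
  obtain ⟨α, hα⟩ : ∃ α, Spec.map α ≫ A.fromSpecResidueField z = P.fromSpecResidueField y ≫ pullback.fst f f :=
    ⟨_, (pullback.fst f f).SpecMap_residueFieldMap_fromSpecResidueField y⟩
  obtain ⟨β, hβ⟩ : ∃ β, Spec.map β ≫ A.fromSpecResidueField z = P.fromSpecResidueField y ≫ pullback.snd f f :=
    ⟨(A.residueFieldCongr h.symm).hom ≫ (pullback.snd f f).residueFieldMap y, by
      rw [Spec.map_comp, Category.assoc, Scheme.residueFieldCongr_fromSpecResidueField]
      exact (pullback.snd f f).SpecMap_residueFieldMap_fromSpecResidueField y⟩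
  haveI : IsIso (f.residueFieldMap z) := (ConcreteCategory.isIso_iff_bijective _).2 hres
  have hab : α = β := by
    rw [← cancel_epi (f.residueFieldMap z), ← Spec.map_inj, ← cancel_mono (B.fromSpecResidueField _),
      Spec.map_comp, Spec.map_comp, Category.assoc, Category.assoc,
      Scheme.Hom.SpecMap_residueFieldMap_fromSpecResidueField, ← Category.assoc, hα, ← Category.assoc, hβ,
      Category.assoc, Category.assoc, pullback.condition]
  have he : (Spec.map α ≫ A.fromSpecResidueField z) ≫ pullback.diagonal f = P.fromSpecResidueField y := by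
    apply pullback.hom_ext
    · rw [Category.assoc, pullback.diagonal_fst, Category.comp_id, hα]
    · rw [Category.assoc, pullback.diagonal_snd, Category.comp_id, hab, hβ]
  refine ⟨(Spec.map α ≫ A.fromSpecResidueField z).base default, ?_⟩
  rw [← Scheme.Hom.comp_apply, he]
  exact Scheme.fromSpecResidueField_apply y _

/-- In the case where the inverse image of Z is Z' (so that the bijection is restriction): let phi : U'
-> U be a morphism of the small etale site of X and Z a closed subset of U such that phi restricted
to the inverse image Z' of Z is a bijection onto Z inducing isomorphisms of residue fields (so Z' ->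
U is a closed immersion with image Z, for the reduced structures). Then restriction along phi is a
bijection from the sections of F over U supported in Z to the sections of F over U' supported in Z'. -/
theorem result {X : Scheme.{u}} (F : EtCoh.Ab X) {U U' : X.Etale}
    (φ : U' ⟶ U) (Z : Set ↥U.left) (hZ : IsClosed Z)
    (hbij : Set.BijOn φ.left.base (φ.left.base ⁻¹' Z) Z)
    (hres : ∀ x ∈ φ.left.base ⁻¹' Z, Function.Bijective (φ.left.residueFieldMap x)) :
    Set.BijOn (F.obj.map φ.op) {s | EtShriek.sectSupp F U s ⊆ Z}
      {s' | EtShriek.sectSupp F U' s' ⊆ φ.left.base ⁻¹' Z} := by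
  have hsurj : ∀ z ∈ Z, ∃ z' ∈ φ.left.base ⁻¹' Z, φ.left.base z' = z := fun z hz => hbij.surjOn hz
  refine ⟨fun t ht => ?_, fun t₁ h₁ t₂ h₂ he => ?_, fun t' ht' => ?_⟩
  · show EtShriek.sectSupp F U' (F.obj.map φ.op t) ⊆ _
    rw [EtShriekLib.supp_map]
    exact Set.preimage_mono ht
  · rw [← sub_eq_zero]
    refine EtShriekLib.eq_zero_of_supp_empty F U _ (Set.eq_empty_of_forall_notMem fun x hx => ?_)
    have hxZ : x ∈ Z := by
      rcases EtShriekLib.supp_add F U t₁ (-t₂) (by rwa [← sub_eq_add_neg]) with h | h
      · exact h₁ h
      · rw [EtShriekLib.supp_neg] at h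
        exact h₂ h
    obtain ⟨z', -, rfl⟩ := hsurj x hxZ
    have : z' ∈ EtShriek.sectSupp F U' (F.obj.map φ.op (t₁ - t₂)) := by
      rw [EtShriekLib.supp_map]; exact hx
    rw [map_sub, sub_eq_zero.2 he, EtShriekLib.supp_zero] at this
    exact this
  · let O : U.left.Opens := ⟨Zᶜ, hZ.isOpen_compl⟩
    haveI : Etale φ.left := EtShriekLib.etale_left φ
    let I : Bool → X.Etale := fun b => bif b then U' else EtShriekLib.openObj U O
    let π : ∀ b, I b ⟶ U := fun b => match b with
      | true => φ
      | false => EtShriekLib.openHom U O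
    let x : ∀ b, F.obj.obj (op (I b)) := fun b => match b with
      | true => t'
      | false => 0
    have hzero : ∀ (T : X.Etale) (a : T ⟶ U') (b : T ⟶ EtShriekLib.openObj U O),
        a ≫ φ = b ≫ EtShriekLib.openHom U O → F.obj.map a.op t' = 0 := fun T a b hab => by
      refine EtShriekLib.map_eq_zero_of_disjoint F a t' (Set.disjoint_left.2 ?_)
      rintro _ ⟨w, rfl⟩ hw
      have hl : a.left ≫ φ.left = b.left ≫ O.ι := congrArg (fun m => m.left) hab
      have e : φ.left.base (a.left.base w) = O.ι.base (b.left.base w) := congrArg (fun m => m.base w) hl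
      have : (O.ι).base (b.left.base w) ∈ Z := e ▸ ht' hw
      exact (b.left.base w).2 this
    have hself : ∀ (T : X.Etale) (a b : T ⟶ U'), a ≫ φ = b ≫ φ → F.obj.map a.op t' = F.obj.map b.op t' := by
      intro T a b hab
      rw [← sub_eq_zero]
      refine EtShriekLib.eq_zero_of_supp_empty F T _ (Set.eq_empty_of_forall_notMem fun w hw => ?_)
      have hl : a.left ≫ φ.left = b.left ≫ φ.left := congrArg (fun m => m.left) hab
      have hwb : φ.left.base (a.left.base w) = φ.left.base (b.left.base w) := by
        rw [← Scheme.Hom.comp_apply, hl, Scheme.Hom.comp_apply]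
      have hmem : a.left.base w ∈ φ.left.base ⁻¹' Z ∧ b.left.base w ∈ φ.left.base ⁻¹' Z := by
        rcases EtShriekLib.supp_add F T (F.obj.map a.op t') (-F.obj.map b.op t')
          (by rwa [← sub_eq_add_neg]) with h | h
        · rw [EtShriekLib.supp_map] at h
          exact ⟨ht' h, show φ.left.base _ ∈ Z from hwb ▸ ht' h⟩
        · rw [EtShriekLib.supp_neg, EtShriekLib.supp_map] at h
          exact ⟨show φ.left.base _ ∈ Z from hwb ▸ ht' h, ht' h⟩
      let m := pullback.lift a.left b.left hl
      have hm₁ : (pullback.fst φ.left φ.left).base (m.base w) = a.left.base w := by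
        rw [← Scheme.Hom.comp_apply, pullback.lift_fst]
      have hm₂ : (pullback.snd φ.left φ.left).base (m.base w) = b.left.base w := by
        rw [← Scheme.Hom.comp_apply, pullback.lift_snd]
      have hd : m.base w ∈ Set.range (pullback.diagonal φ.left).base := by
        refine mem_range_diagonal φ.left _ ?_ ?_
        · rw [hm₁, hm₂]
          exact hbij.injOn hmem.2 hmem.1 hwb.symm
        · rw [hm₁]
          exact hres _ hmem.1
      let V : T.left.Opens := m ⁻¹ᵁ (pullback.diagonal φ.left).opensRange
      refine hw (EtShriekLib.openObj T V) (EtShriekLib.openHom T V) ⟨⟨w, hd⟩, rfl⟩ ?_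
      have hr : Set.range (V.ι ≫ m).base ⊆ Set.range (pullback.diagonal φ.left).base := by
        rintro _ ⟨v, rfl⟩
        exact v.2
      have hdl := IsOpenImmersion.lift_fac (pullback.diagonal φ.left) (V.ι ≫ m) hr
      have hVab : EtShriekLib.openHom T V ≫ a = EtShriekLib.openHom T V ≫ b := by
        apply MorphismProperty.Over.Hom.ext
        show V.ι ≫ a.left = V.ι ≫ b.left
        rw [← pullback.lift_fst a.left b.left hl, ← Category.assoc, ← hdl, Category.assoc, pullback.diagonal_fst]
        conv_rhs => rw [← pullback.lift_snd a.left b.left hl, ← Category.assoc, ← hdl, Category.assoc,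
          pullback.diagonal_snd]
      rw [map_sub, ← Functor.map_comp_apply, ← Functor.map_comp_apply, ← op_comp, ← op_comp, hVab, sub_self]
    have hcov : Sieve.ofArrows I π ∈ X.smallEtaleTopology U :=
      EtSite.mem_smallEtaleTopology_of_points U _ fun z => by
        by_cases hz : z ∈ Z
        · obtain ⟨z', -, rfl⟩ := hsurj z hz
          exact ⟨U', φ, z', Sieve.ofArrows_mk I π true, rfl⟩
        · exact ⟨_, EtShriekLib.openHom U O, ⟨z, hz⟩, Sieve.ofArrows_mk I π false, rfl⟩
    have hsh := (Presieve.isSheafFor_iff_generate _).2 (((isSheaf_iff_isSheaf_of_type _ _).1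
      ((Presheaf.isSheaf_iff_isSheaf_forget _ _ (forget AddCommGrpCat)).1 F.property)) _ hcov)
    rw [Presieve.isSheafFor_arrows_iff] at hsh
    obtain ⟨t, ht, -⟩ := hsh x (by
      intro b b' T a a' haa
      show F.obj.map a.op (x b) = F.obj.map a'.op (x b')
      cases b <;> cases b'
      · simp [x]
      · exact (map_zero _).trans (hzero T a' a haa.symm).symm
      · exact (hzero T a a' haa).trans (map_zero _).symm
      · exact hself T a a' haa)
    refine ⟨t, fun z hz => ?_, ht true⟩
    by_contra hzZ
    exact hz _ (EtShriekLib.openHom U O) ⟨⟨z, hzZ⟩, rfl⟩ (ht false)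

end Groth.Agent.S0728
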