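import Groth.Statements.S0729
import Mathlib
-- import your own Groth.Agent.* helpers here

set_option autoImplicit false
open CategoryTheory CategoryTheory.Limits AlgebraicGeometry Opposite
universe u
open ProEtS

namespace Groth.Agent.S0729

set_option backward.isDefEq.respectTransparency.types false

/-- Every étale covering of a scheme X is a pro-étale covering, in the form used to define the
comparison morphism of sites ε : X_proét → X_ét: the inclusion functor from the small étale site of
X to the small pro-étale site of X is continuous. -/
theorem result (X : Scheme.{u}) : ProEtS.EpsCont X := by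
  haveI : MorphismProperty.IsStableUnderBaseChange (@WeaklyEtale : MorphismProperty Scheme.{u}) := inferInstance
  haveI : PreservesFiniteLimits (eps X ⋙ Scheme.ProEt.forget X) :=
    preservesFiniteLimits_of_natIso
      (F := MorphismProperty.Over.forget EtCoh.etaleMP.{u} ⊤ X) (Iso.refl _)
  haveI : PreservesFiniteLimits (eps X) :=
    preservesFiniteLimits_of_reflects_of_preserves (eps X) (Scheme.ProEt.forget X)
  haveI : RepresentablyFlat (eps X) := flat_of_preservesFiniteLimits _
  refine Functor.isContinuous_of_coverPreserving (compatiblePreservingOfFlat _ _) ⟨fun {U S} hS => ?_⟩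
  obtain ⟨𝒰, _, h, hle⟩ := (Scheme.mem_smallGrothendieckTopology _ _).1 hS
  let R : Presieve ((eps X).obj U) := Presieve.ofArrows
    (fun i => (eps X).obj ((𝒰.X i).asOverProp X (h i)))
    (fun i => (eps X).map ((𝒰.f i).asOverProp X))
  have hR : R ∈ Scheme.ProEt.precoverage X ((eps X).obj U) := by
    rw [Scheme.ProEt.precoverage, Precoverage.mem_comap_iff, Presieve.map_ofArrows]
    exact Scheme.etalePrecoverage_le_proetalePrecoverage _ 𝒰.mem₀
  refine GrothendieckTopology.superset_covering _ ?_ (Precoverage.generate_mem_toGrothendieck hR)
  rw [Sieve.generate_le_iff]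
  rintro _ _ ⟨i⟩
  exact ⟨_, (𝒰.f i).asOverProp X, 𝟙 _, hle _ _ ⟨i⟩, by simp⟩

end Groth.Agent.S0729
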