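import Groth.Statements.S0730
import Mathlib
-- import your own Groth.Agent.* helpers here

set_option autoImplicit false
open CategoryTheory CategoryTheory.Limits AlgebraicGeometry Opposite
universe u
open ProEtS

namespace Groth.Agent.S0730

set_option backward.isDefEq.respectTransparency.types false

/-- Base changes of pro-étale coverings are pro-étale coverings, in the form used to define the morphism
of sites f_proét : X_proét → Y_proét for a morphism of schemes f : X → Y: the base change functor
from the small pro-étale site of Y to that of X is continuous. -/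
theorem result {X Y : Scheme.{u}} (f : X ⟶ Y) : ProEtS.PCont f := by
  haveI : PreservesFiniteLimits (bcP f) :=
    inferInstanceAs (PreservesFiniteLimits (MorphismProperty.Over.pullback @WeaklyEtale ⊤ f))
  haveI hpb : ∀ Z : Scheme.{u}, PreservesLimitsOfShape WalkingCospan (Scheme.ProEt.forget Z ⋙ Over.forget Z) :=
    fun Z => inferInstance
  haveI : ∀ Z : Scheme.{u}, (Scheme.ProEt.precoverage Z).IsStableUnderBaseChange := fun Z => by
    delta Scheme.ProEt.precoverage; infer_instance
  refine Functor.isContinuous_toGrothendieck_of_pullbacksPreservedBy (bcP f) _ _ fun U R hR => ?_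
  obtain ⟨ι, Z, g, rfl⟩ := R.exists_eq_ofArrows
  rw [Precoverage.mem_comap_iff, Presieve.map_ofArrows]
  rw [Scheme.ProEt.precoverage, Precoverage.mem_comap_iff, Presieve.map_ofArrows] at hR ⊢
  refine Precoverage.mem_coverings_of_isPullback _ hR (pullback.fst U.hom f) _
    (fun i => pullback.fst (Z i).hom f) fun i => ?_
  have hw : (g i).left ≫ U.hom = (Z i).hom := MorphismProperty.Over.w (g i)
  refine (IsPullback.of_bot ?_ ?_ (IsPullback.of_hasPullback U.hom f)).flip
  · show IsPullback _ (_ ≫ _) ((g i).left ≫ U.hom) f
    erw [hw]
    have e : ((bcP f).map (g i)).left ≫ pullback.snd U.hom f = pullback.snd (Z i).hom f :=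
      pullback.lift_snd _ _ _
    show IsPullback _ (((bcP f).map (g i)).left ≫ _) _ f
    rw [e]
    exact IsPullback.of_hasPullback (Z i).hom f
  · exact (pullback.lift_fst _ _ _).symm

end Groth.Agent.S0730
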