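import Groth.Statements.S0734
import Groth.Agent.IndEtaleOps.Basic
-- import your own Groth.Agent.* helpers here

set_option autoImplicit false
open CategoryTheory CategoryTheory.Limits AlgebraicGeometry Opposite Topology
universe u
open ProEtW

namespace Groth.Agent.S0734

/-- A composite of two ind-etale ring maps is ind-etale. -/
theorem result (A B C : Type u) [CommRing A] [CommRing B] [CommRing C] [Algebra A B]
    [Algebra B C] [Algebra A C] [IsScalarTower A B C] (hAB : EtPBC.IsIndEtale A B)
    (hBC : EtPBC.IsIndEtale B C) : EtPBC.IsIndEtale A C := by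
  rw [Groth.Agent.IndEtaleOps.isIndEtale_iff] at hAB hBC ⊢
  have h := Groth.Agent.IndEtaleOps.ind_comp _ _ hAB hBC
  rwa [← CommRingCat.ofHom_comp, ← IsScalarTower.algebraMap_eq] at h

end Groth.Agent.S0734
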