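import Groth.Statements.S0736
import Mathlib.RingTheory.Flat.EquationalCriterion
import Mathlib.CategoryTheory.Limits.Preserves.Over

set_option autoImplicit false
open CategoryTheory CategoryTheory.Limits AlgebraicGeometry Opposite Topology
universe u
open ProEtW

namespace Groth.Agent.S0736

open scoped TensorProduct

/-- The algebra structure on the target of an object under `A`, over `A` itself. -/
local instance algebraUnder {A : Type u} [CommRing A] (X : Under (CommRingCat.of A)) :
    Algebra A X.right :=
  X.hom.hom.toAlgebra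

/-- An ind-etale ring map A -> B is weakly etale (A -> B and B (x)_A B -> B flat), in Mathlib's sense
Algebra.WeaklyEtale. -/
theorem result (A B : Type u) [CommRing A] [CommRing B] [Algebra A B]
    (h : EtPBC.IsIndEtale A B) : Algebra.WeaklyEtale A B := by
  classical
  obtain ⟨J, _, _, D, c, hc, hD, ⟨e⟩⟩ := h
  let hc' := isColimitOfPreserves (Under.forget (CommRingCat.of A)) hc
  have hnon : Nonempty J := IsFiltered.nonempty
  let τ : ∀ j, (D.obj j).right →ₐ[A] B := fun j =>
    { ((c.ι.app j ≫ e.hom).right).hom with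
      commutes' := fun r => RingHom.congr_fun (congrArg CommRingCat.Hom.hom (Under.w (c.ι.app j ≫ e.hom))) r }
  let tr : ∀ {i j : J}, (i ⟶ j) → ((D.obj i).right →ₐ[A] (D.obj j).right) := fun {i j} f =>
    { ((D.map f).right).hom with
      commutes' := fun r => RingHom.congr_fun (congrArg CommRingCat.Hom.hom (Under.w (D.map f))) r }
  have hτ : ∀ {i j : J} (f : i ⟶ j) (x : (D.obj i).right), τ j (tr f x) = τ i x := fun {i j} f x => by
    show e.hom.right.hom ((c.ι.app j).right.hom ((D.map f).right.hom x)) =
      e.hom.right.hom ((c.ι.app i).right.hom x)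
    rw [← c.w f]
    rfl
  have hinj : Function.Injective e.hom.right.hom := fun x y h => by
    have h1 : e.inv.right.hom (e.hom.right.hom x) = e.inv.right.hom (e.hom.right.hom y) := congrArg _ h
    have h2 : ∀ z, e.inv.right.hom (e.hom.right.hom z) = z := fun z =>
      RingHom.congr_fun (congrArg (fun m => m.right.hom) e.hom_inv_id) z
    rwa [h2, h2] at h1
  have hrep : ∀ b : B, ∃ (j : J) (x : (D.obj j).right), τ j x = b := fun b => by
    obtain ⟨j, x, hx⟩ := Concrete.isColimit_exists_rep (D ⋙ Under.forget _) hc' (e.inv.right.hom b)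
    refine ⟨j, x, ?_⟩
    show e.hom.right.hom ((c.ι.app j).right.hom x) = b
    rw [show (c.ι.app j).right.hom x = e.inv.right.hom b from hx]
    exact RingHom.congr_fun (congrArg (fun m => m.right.hom) e.inv_hom_id) b
  have hkill : ∀ {i : J} (x y : (D.obj i).right), τ i x = τ i y →
      ∃ (j : J) (f : i ⟶ j), tr f x = tr f y := by
    intro i x y hxy
    obtain ⟨k, f, g, hk⟩ := Concrete.isColimit_exists_of_rep_eq (D ⋙ Under.forget _) hc' x y (hinj hxy)
    refine ⟨IsFiltered.coeq f g, f ≫ IsFiltered.coeqHom f g, ?_⟩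
    have hk' : tr f x = tr g y := hk
    have hcomp : ∀ {a b d : J} (p : a ⟶ b) (q : b ⟶ d) (z : (D.obj a).right), tr (p ≫ q) z = tr q (tr p z) :=
      fun p q z => RingHom.congr_fun (congrArg (fun m => m.right.hom) (D.map_comp p q)) z
    conv_rhs => rw [IsFiltered.coeq_condition f g]
    rw [hcomp, hcomp, hk']
  have hcommon : ∀ {l : ℕ} (b : Fin l → B), ∃ j, ∀ i, ∃ x : (D.obj j).right, τ j x = b i := by
    intro l b
    choose j x hx using fun i => hrep (b i)
    obtain ⟨k, hk⟩ := IsFiltered.sup_objs_exists (Finset.univ.image j)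
    exact ⟨k, fun i => ⟨tr (hk (Finset.mem_image_of_mem j (Finset.mem_univ i))).some (x i),
      (hτ _ _).trans (hx i)⟩⟩
  refine { flat := ?_, flat_lmul' := ?_ }
  · refine Module.Flat.of_forall_isTrivialRelation fun {l f x} hfx => ?_
    obtain ⟨j, hj⟩ := hcommon x
    choose a ha using hj
    obtain ⟨k, g, hg⟩ := hkill (∑ i, f i • a i) 0 (by
      rw [map_sum, map_zero, ← hfx]
      exact Finset.sum_congr rfl fun i _ => by rw [map_smul, ha])
    rw [map_sum, map_zero] at hg
    have : Algebra.Etale A (D.obj k).right := hD k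
    obtain ⟨m, b, y, hy, hb⟩ := Module.Flat.isTrivialRelation_of_sum_smul_eq_zero
      (R := A) (M := (D.obj k).right) (f := f) (x := fun i => tr g (a i)) (by simpa only [map_smul] using hg)
    refine ⟨m, b, fun i => τ k (y i), fun i => ?_, hb⟩
    rw [← ha i, ← hτ g]
    show τ k (tr g (a i)) = _
    rw [show tr g (a i) = ∑ j, b i j • y j from hy i, map_sum]
    simp only [map_smul]
  · let μ := Algebra.TensorProduct.lmul' A (S := B)
    let M : ∀ j, (D.obj j).right ⊗[A] (D.obj j).right →ₐ[A] B ⊗[A] B := fun j =>
      Algebra.TensorProduct.map (τ j) (τ j)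
    let T : ∀ {i j : J}, (i ⟶ j) → ((D.obj i).right ⊗[A] (D.obj i).right →ₐ[A]
        (D.obj j).right ⊗[A] (D.obj j).right) := fun f => Algebra.TensorProduct.map (tr f) (tr f)
    have hT : ∀ {i j : J} (f : i ⟶ j) z, M j (T f z) = M i z := fun {i j} f z => by
      induction z with
      | zero => simp
      | tmul x y => simp [M, T, hτ]
      | add x y hx hy => simp [map_add, hx, hy]
    have hμ : ∀ j z, τ j (Algebra.TensorProduct.lmul' A z) = μ (M j z) := fun j z => by
      induction z with
      | zero => simp
      | tmul x y => simp [M, μ]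
      | add x y hx hy => simp [map_add, hx, hy]
    have hμT : ∀ {i j : J} (f : i ⟶ j) z, tr f (Algebra.TensorProduct.lmul' A z) =
        Algebra.TensorProduct.lmul' A (T f z) := fun {i j} f z => by
      induction z with
      | zero => simp
      | tmul x y => simp [T]
      | add x y hx hy => simp [map_add, hx, hy]
    have hrep2 : ∀ z : B ⊗[A] B, ∃ (j : J) (w : (D.obj j).right ⊗[A] (D.obj j).right), M j w = z := by
      intro z
      induction z with
      | zero => exact ⟨hnon.some, 0, map_zero _⟩
      | tmul x y =>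
        obtain ⟨i, a, rfl⟩ := hrep x
        obtain ⟨j, b, rfl⟩ := hrep y
        exact ⟨IsFiltered.max i j, tr (IsFiltered.leftToMax i j) a ⊗ₜ tr (IsFiltered.rightToMax i j) b,
          by simp [M, hτ]⟩
      | add x y hx hy =>
        obtain ⟨i, a, rfl⟩ := hx
        obtain ⟨j, b, rfl⟩ := hy
        exact ⟨IsFiltered.max i j, T (IsFiltered.leftToMax i j) a + T (IsFiltered.rightToMax i j) b,
          by rw [map_add, hT, hT]⟩
    show μ.toRingHom.Flat
    let _ : Algebra (B ⊗[A] B) B := μ.toRingHom.toAlgebra
    refine (show Module.Flat (B ⊗[A] B) B from ?_)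
    refine Module.Flat.of_forall_isTrivialRelation fun {l f x} hfx => ?_
    obtain ⟨j, hj⟩ := hcommon x
    choose a ha using hj
    choose jf wf hwf using fun i => hrep2 (f i)
    obtain ⟨k, hk⟩ := IsFiltered.sup_objs_exists (insert j (Finset.univ.image jf))
    let gj : j ⟶ k := (hk (Finset.mem_insert_self j _)).some
    let gf : ∀ i, jf i ⟶ k := fun i =>
      (hk (Finset.mem_insert_of_mem (Finset.mem_image_of_mem jf (Finset.mem_univ i)))).some
    obtain ⟨k', g, hg⟩ := hkill
      (∑ i, Algebra.TensorProduct.lmul' A (T (gf i) (wf i)) * tr gj (a i)) 0 (by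
      rw [map_sum, map_zero, ← hfx]
      refine Finset.sum_congr rfl fun i _ => ?_
      rw [map_mul, hμ, hT, hwf, hτ, ha]
      rfl)
    rw [map_sum, map_zero] at hg
    have : Algebra.Etale A (D.obj k').right := hD k'
    let μk := Algebra.TensorProduct.lmul' A (S := (D.obj k').right)
    let _ : Algebra ((D.obj k').right ⊗[A] (D.obj k').right) (D.obj k').right := μk.toRingHom.toAlgebra
    have : Module.Flat ((D.obj k').right ⊗[A] (D.obj k').right) (D.obj k').right :=
      Algebra.WeaklyEtale.flat_lmul' A (D.obj k').right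
    obtain ⟨m, b, y, hy, hb⟩ := Module.Flat.isTrivialRelation_of_sum_smul_eq_zero
      (R := (D.obj k').right ⊗[A] (D.obj k').right) (M := (D.obj k').right)
      (f := fun i => T g (T (gf i) (wf i))) (x := fun i => tr g (tr gj (a i))) (by
        rw [← hg]
        refine Finset.sum_congr rfl fun i _ => ?_
        rw [map_mul, hμT]
        rfl)
    refine ⟨m, fun i q => M k' (b i q), fun q => τ k' (y q), fun i => ?_, fun q => ?_⟩
    · rw [← ha i, ← hτ gj, ← hτ g, show tr g (tr gj (a i)) = ∑ q, b i q • y q from hy i, map_sum]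
      refine Finset.sum_congr rfl fun q _ => ?_
      show τ k' (μk (b i q) * y q) = μ (M k' (b i q)) * τ k' (y q)
      rw [map_mul, hμ]
    · have := congrArg (M k') (hb q)
      rw [map_sum, map_zero] at this
      rw [← this]
      refine Finset.sum_congr rfl fun i _ => ?_
      rw [map_mul, hT, hT, hwf]

end Groth.Agent.S0736
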