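import Mathlib
import Groth.Statements.S0738
-- import your own Groth.Agent.* helpers here

set_option autoImplicit false
open Topology
universe u
open ProEtW

namespace Groth.Agent.S0738

/-- A closed subset of a w-local spectral space is w-local (with the subspace topology). -/
theorem result (X : Type u) [TopologicalSpace X] (hX : ProEtW.IsWLocal X)
    (Y : Set X) (hY : IsClosed Y) : ProEtW.IsWLocal ↥Y := by
  obtain ⟨hsp, hcl, huniq⟩ := hX
  have he : IsClosedEmbedding (Subtype.val : Y → X) := hY.isClosedEmbedding_subtypeVal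
  have hcy : ∀ y : Y, IsClosed ({y} : Set Y) ↔ IsClosed ({(y : X)} : Set X) := by
    intro y
    rw [he.isClosed_iff_image_isClosed, Set.image_singleton]
  refine ⟨?_, ?_, ?_⟩
  · have h1 : T0Space Y := inferInstance
    have h2 : CompactSpace Y := isCompact_iff_compactSpace.1 hY.isCompact
    have h3 : QuasiSober Y := he.quasiSober
    have h4 : PrespectralSpace Y := PrespectralSpace.of_isClosedEmbedding _ he
    have h5 : QuasiSeparatedSpace Y := by
      refine ⟨fun U V hU hU' hV hV' => ?_⟩
      have hbasis : ∀ W : Set Y, IsOpen W → IsCompact W → ∃ W' : Set X, IsOpen W' ∧ IsCompact W' ∧ Subtype.val ⁻¹' W' = W := by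
        intro W hW hW'
        obtain ⟨W₀, hW₀, rfl⟩ := isOpen_induced_iff.1 hW
        obtain ⟨W', hc, hW'o, h1, h2⟩ := PrespectralSpace.exists_isCompact_and_isOpen_between (hW'.image continuous_subtype_val) hW₀ (Set.image_preimage_subset _ _)
        refine ⟨W', hW'o, hc, Set.Subset.antisymm (Set.preimage_mono h2) ?_⟩
        exact Set.image_subset_iff.1 h1
      obtain ⟨U', hU'o, hU'c, rfl⟩ := hbasis U hU hU'
      obtain ⟨V', hV'o, hV'c, rfl⟩ := hbasis V hV hV'
      rw [← Set.preimage_inter]
      exact he.isCompact_preimage (QuasiSeparatedSpace.inter_isCompact U' V' hU'o hU'c hV'o hV'c)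
    exact {}
  · have : {y : Y | IsClosed ({y} : Set Y)} = Subtype.val ⁻¹' {x : X | IsClosed ({x} : Set X)} := by
      ext y; exact hcy y
    rw [this]
    exact hcl.preimage continuous_subtype_val
  · intro y
    obtain ⟨z, ⟨hz1, hz2⟩, hz3⟩ := huniq (y : X)
    have hzY : z ∈ Y := hz2.mem_closed hY y.2
    refine ⟨⟨z, hzY⟩, ⟨(hcy _).2 hz1, he.isInducing.specializes_iff.1 hz2⟩, ?_⟩
    rintro w ⟨hw1, hw2⟩
    exact Subtype.ext (hz3 _ ⟨(hcy w).1 hw1, hw2.map continuous_subtype_val⟩)

end Groth.Agent.S0738
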