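import Groth.Statements.S0754
import Groth.Agent.S0736
import Groth.Agent.S1412
import Groth.Agent.HenselLib.IndEtale
import Groth.Agent.HenselLib.HenselizationLocal

set_option autoImplicit false
set_option linter.style.haveILetI false
open CategoryTheory CategoryTheory.Limits AlgebraicGeometry Opposite
universe u
open ProEtS

namespace Groth.Agent.S0754

open AlgebraicGeometry CategoryTheory Limits in
theorem weaklyEtale_SpecMap_algebraMap (A B : Type u) [CommRing A] [CommRing B] [Algebra A B]
    [Algebra.WeaklyEtale A B] :
    WeaklyEtale (Spec.map (CommRingCat.ofHom (algebraMap A B))) := by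
  rw [weaklyEtale_iff, HasRingHomProperty.Spec_iff (P := @Flat), diagonal_SpecMap A B,
    MorphismProperty.cancel_right_of_respectsIso @Flat, HasRingHomProperty.Spec_iff (P := @Flat)]
  exact ⟨RingHom.flat_algebraMap_iff.2 inferInstance, Algebra.WeaklyEtale.flat_lmul' A B⟩

/-- For a point x of a scheme X and a strict henselization R of the local ring of X at x, the canonical
morphism Spec R -> X is weakly etale, so that Spec R is an object of the small pro-etale site of X. -/
theorem result (X : Scheme.{u}) (x : ↥X) (R : Type u) [CommRing R]
    [IsLocalRing R] [Algebra (X.presheaf.stalk x) R] [IsLocalHom (algebraMap (X.presheaf.stalk x) R)]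
    [Hensel.IsStrictHenselization (X.presheaf.stalk x) R] :
    WeaklyEtale (Hens2.specOf X x R) := by
  haveI := ‹Hensel.IsStrictHenselization (X.presheaf.stalk x) R›
  have hc := Groth.Agent.HenselLib.exists_colim_of_isStrictHenselization (X.presheaf.stalk x) R
  have hwe : Algebra.WeaklyEtale (X.presheaf.stalk x) R := Groth.Agent.S0736.result _ _ hc.isIndEtale
  haveI := hwe
  haveI := weaklyEtale_SpecMap_algebraMap (X.presheaf.stalk x) R
  haveI := Groth.Agent.S1412.weaklyEtale_fromSpecStalk X x
  unfold Hens2.specOf
  infer_instance

end Groth.Agent.S0754
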