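import Groth.Statements.S0781
import Mathlib.AlgebraicGeometry.Morphisms.Etale
import Mathlib.AlgebraicGeometry.Morphisms.UnderlyingMap


set_option autoImplicit false
open CategoryTheory CategoryTheory.Limits AlgebraicGeometry Opposite
universe u
open Desc

namespace Groth.Agent.S0781

/-- If p : X → S is a surjective morphism of schemes, then for schemes U₁, U₂ étale over S, two
S-morphisms U₁ → U₂ whose base changes to X agree, as morphisms of canonical descent data relative
to p, are equal; that is, the canonical-descent-datum functor is faithful on schemes étale over S.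
(Descent data are taken in functor-of-points form, equivalent by the Yoneda lemma to an isomorphism
over X ×_S X satisfying the cocycle condition.) -/
theorem result {X S : Scheme.{u}} (p : X ⟶ S) [Surjective p] (U₁ U₂ : Over S)
    [Etale U₁.hom] [Etale U₂.hom] : Function.Injective ((Desc.toDD p).map : (U₁ ⟶ U₂) → _) := by
  intro a b hab
  have hP : pullback.snd p U₁.hom ≫ a.left = pullback.snd p U₁.hom ≫ b.left := by
    have h := congrArg (fun k => (k.hom : _).left ≫ pullback.snd p U₂.hom) hab
    have h' : pullback.map p U₁.hom p U₂.hom (𝟙 X) a.left (𝟙 S) (by simp) (by simp) ≫ pullback.snd p U₂.hom =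
        pullback.map p U₁.hom p U₂.hom (𝟙 X) b.left (𝟙 S) (by simp) (by simp) ≫ pullback.snd p U₂.hom := h
    simp only [pullback.map, pullback.lift_snd] at h'; exact h'
  let h : U₁.left ⟶ pullback U₂.hom U₂.hom := pullback.lift a.left b.left (by simp)
  haveI : IsOpenImmersion (pullback.diagonal U₂.hom) := inferInstance
  let j := pullback.snd (pullback.diagonal U₂.hom) h
  let l : pullback p U₁.hom ⟶ pullback (pullback.diagonal U₂.hom) h :=
    pullback.lift (pullback.snd p U₁.hom ≫ a.left) (pullback.snd p U₁.hom) (by
      apply pullback.hom_ext
      · simp only [h, Category.assoc, pullback.diagonal_fst, pullback.lift_fst, Category.comp_id]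
      · simp only [h, Category.assoc, pullback.diagonal_snd, pullback.lift_snd, Category.comp_id, hP])
  haveI : Surjective j := ⟨fun y => by
    obtain ⟨z, hz⟩ := (pullback.snd p U₁.hom).surjective y
    exact ⟨l z, by rw [← Scheme.Hom.comp_apply, pullback.lift_snd]; exact hz⟩⟩
  haveI : IsOpenImmersion j := inferInstance
  haveI : IsIso j := (isIso_iff_isOpenImmersion_and_epi_base j).2 ⟨inferInstance, (TopCat.epi_iff_surjective _).2 j.surjective⟩
  apply Over.OverMorphism.ext
  rw [← cancel_epi j]
  have c := pullback.condition (f := pullback.diagonal U₂.hom) (g := h)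
  have c1 := congrArg (· ≫ pullback.fst U₂.hom U₂.hom) c
  have c2 := congrArg (· ≫ pullback.snd U₂.hom U₂.hom) c
  rw [Category.assoc, Category.assoc, pullback.diagonal_fst, Category.comp_id, pullback.lift_fst] at c1
  rw [Category.assoc, Category.assoc, pullback.diagonal_snd, Category.comp_id, pullback.lift_snd] at c2
  exact c1.symm.trans c2

end Groth.Agent.S0781
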