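import Groth.Statements.S0782
import Groth.Agent.SubmDescent.Basic

set_option autoImplicit false
open CategoryTheory CategoryTheory.Limits AlgebraicGeometry Opposite
universe u
open Desc

namespace Groth.Agent.S0782

/-- Let p : X ⟶ S be a morphism such that for every scheme U étale over S the projection X ×_S U ⟶ U is
a quotient map of topological spaces (submersive; U = S is allowed). Then for U₁, U₂ étale over S,
every morphism between their canonical descent data relative to p comes from an S-morphism U₁ ⟶ U₂:
the canonical-descent-datum functor is full on schemes étale over S (injectivity of this assignment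
is a companion statement). (Descent data are taken in functor-of-points form, equivalent by the
Yoneda lemma to the usual form of an isomorphism over X ×_S X satisfying the cocycle condition.) -/
theorem result {X S : Scheme.{u}} (p : X ⟶ S)
    (hp : ∀ U : Over S, Etale U.hom → Topology.IsQuotientMap (pullback.snd p U.hom).base) (U₁ U₂ : Over S)
    [Etale U₁.hom] [Etale U₂.hom] : Function.Surjective ((Desc.toDD p).map : (U₁ ⟶ U₂) → _) := by
  intro η
  let g := pullback.snd p U₁.hom
  let π : pullback U₁.hom U₂.hom ⟶ U₁.left := pullback.fst _ _
  have : Etale π := MorphismProperty.pullback_fst _ _ inferInstance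
  have : Surjective g := ⟨(hp U₁ inferInstance).surjective⟩
  have hq : Topology.IsQuotientMap (pullback.fst π g).base := by
    have sq : IsPullback (pullback.snd π g ≫ pullback.fst p U₁.hom) (pullback.fst π g) p (π ≫ U₁.hom) :=
      (IsPullback.of_hasPullback π g).flip.paste_horiz (IsPullback.of_hasPullback p U₁.hom) |> fun h => by
        first | exact h | exact h.flip
    have h1 : sq.isoPullback.hom ≫ pullback.snd p (π ≫ U₁.hom) = pullback.fst π g := sq.isoPullback_hom_snd
    rw [← h1]
    have h2 := hp (Over.mk (π ≫ U₁.hom)) (MorphismProperty.comp_mem @Etale π U₁.hom inferInstance inferInstance)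
    exact h2.comp sq.isoPullback.hom.homeomorph.isQuotientMap
  have hηw : η.hom.left ≫ pullback.fst p U₂.hom = pullback.fst p U₁.hom := Over.w η.hom
  let s : pullback p U₁.hom ⟶ pullback U₁.hom U₂.hom :=
    pullback.lift g (η.hom.left ≫ pullback.snd p U₂.hom) (by
      calc g ≫ U₁.hom = pullback.fst p U₁.hom ≫ p := pullback.condition.symm
        _ = (η.hom.left ≫ pullback.fst p U₂.hom) ≫ p := (congrArg (· ≫ p) hηw).symm
        _ = _ := (Category.assoc _ _ _).trans ((congrArg (η.hom.left ≫ ·) pullback.condition).trans (Category.assoc _ _ _).symm))
  have hs : s ≫ π = g := pullback.lift_fst _ _ _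
  have hc : pullback.fst g g ≫ s = pullback.snd g g ≫ s := by
    apply pullback.hom_ext
    · rw [Category.assoc, Category.assoc]
      show pullback.fst g g ≫ s ≫ π = pullback.snd g g ≫ s ≫ π
      rw [hs, pullback.condition]
    · simp only [Category.assoc, s, pullback.lift_snd]
      have h0 : (pullback.fst g g ≫ pullback.fst p U₁.hom) ≫ p = (pullback.snd g g ≫ pullback.fst p U₁.hom) ≫ p := by
        simp only [Category.assoc, pullback.condition]
        rw [← Category.assoc, ← Category.assoc, show pullback.fst g g ≫ pullback.snd p U₁.hom =
          pullback.snd g g ≫ pullback.snd p U₁.hom from pullback.condition]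
      have h1 := η.comm (pullback.fst g g ≫ pullback.fst p U₁.hom) (pullback.snd g g ≫ pullback.fst p U₁.hom) h0
        ⟨pullback.fst g g, rfl⟩ ⟨pullback.fst g g ≫ η.hom.left, by
          show (pullback.fst g g ≫ η.hom.left) ≫ pullback.fst p U₂.hom = _
          exact (Category.assoc _ _ _).trans (congrArg (pullback.fst g g ≫ ·) hηw)⟩ rfl
      have h2 := congrArg (· ≫ pullback.snd p U₂.hom) h1
      have hcan : pullback.lift (pullback.snd g g ≫ pullback.fst p U₁.hom)
          (pullback.fst g g ≫ pullback.snd p U₁.hom)
          ((Category.assoc _ _ _).trans ((congrArg (pullback.snd g g ≫ ·) pullback.condition).trans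
            (((Category.assoc _ _ _).symm.trans (congrArg (· ≫ U₁.hom) (pullback.condition (f := g) (g := g)).symm))))) =
          pullback.snd g g := by
        apply pullback.hom_ext
        · exact pullback.lift_fst _ _ _
        · exact (pullback.lift_snd _ _ _).trans pullback.condition
      exact (Category.assoc _ _ _).symm.trans ((pullback.lift_snd _ _ _).symm.trans
        (h2.trans ((congrArg (fun k => (k ≫ η.hom.left) ≫ pullback.snd p U₂.hom) hcan).trans (Category.assoc _ _ _))))
  obtain ⟨t, ⟨ht1, ht2⟩, -⟩ := Groth.Agent.SubmDescent.existsUnique_descent g π hq s hs hc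
  refine ⟨Over.homMk (t ≫ pullback.snd U₁.hom U₂.hom) ?_, ?_⟩
  · rw [Category.assoc, ← pullback.condition, ← Category.assoc]
    show (t ≫ π) ≫ U₁.hom = _
    rw [ht1, Category.id_comp]
  · ext
    apply pullback.hom_ext
    · exact ((pullback.lift_fst _ _ _).trans (Category.comp_id _)).trans hηw.symm
    · exact (pullback.lift_snd _ _ _).trans ((Category.assoc _ _ _).symm.trans
        ((congrArg (· ≫ pullback.snd U₁.hom U₂.hom) ht2).trans (pullback.lift_snd _ _ _)))

end Groth.Agent.S0782
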