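import Groth.Statements.S0792
import Groth.Agent.CohFinite.AnnIdeal
import Groth.Agent.ProperOver.Basic
import Groth.Agent.QCohLib.Cover

set_option autoImplicit false
universe u
open Coherent

namespace Groth.Agent.S0792

open CategoryTheory AlgebraicGeometry in
/-- Let f : X → S be locally of finite type and F a quasi-coherent O_X-module of finite type. The
support of F is proper over S if and only if there are a closed subscheme i : Z → X with Z proper
over S and a quasi-coherent O_Z-module G of finite type with i_* G isomorphic to F. (The published
statement also gives a further equivalent condition, that the scheme-theoretic support of F is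
proper over S; it is not used here.) -/
theorem result {X S : Scheme.{u}} (f : X ⟶ S) [LocallyOfFiniteType f]
    (F : X.Modules) (hq : Coh.IsQCoh F) (hft : CohB1.IsFT F) :
    ClSub.IsProperOver f (CohB1.support F) ↔
      ∃ (Z : Scheme.{u}) (i : Z ⟶ X), IsClosedImmersion i ∧ IsProper (i ≫ f) ∧
        ∃ G : Z.Modules, Coh.IsQCoh G ∧ CohB1.IsFT G ∧
          Nonempty ((Scheme.Modules.pushforward i).obj G ≅ F) := by
  have : F.IsQuasicoherent := hq
  constructor
  · intro h
    let J := CohFinite.annIdeal F hft
    have hr : Set.range J.subschemeι = CohB1.support F :=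
      J.range_subschemeι.trans (CohFinite.support_annIdeal F hft)
    have hk : ClSub.KilledByIdeal J.subschemeι.ker F := by
      rw [J.ker_subschemeι]; exact CohFinite.killedByIdeal_annIdeal F hft
    obtain ⟨G, hG, he⟩ := CohFinite.isCoh_pullback_and_iso J.subschemeι ⟨hq, hft⟩ hk
    exact ⟨_, J.subschemeι, inferInstance, ProperOver.isProper_comp h _ hr.le, G, hG.1, hG.2, he⟩
  · rintro ⟨Z, i, hi, hp, G, hGq, hGf, ⟨e⟩⟩
    refine ProperOver.mono (ProperOver.of_range (f := f) i) (QCohLib.isClosed_support hft) fun x hx => ?_
    by_contra hc
    have := CohFinite.subsingleton_stalk_pushforward_of_notMem_range i G x hc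
    exact hx (((QCohLib.isIso_iff_stalk_bijective e.hom).mp inferInstance x).2.subsingleton)

end Groth.Agent.S0792
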