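import Groth.Statements.S0794
import Groth.Agent.S0793
import Groth.Agent.QCohLib.Pullback
import Groth.Agent.QCohLib.StalkRestrict

set_option autoImplicit false
universe u
open Coherent

namespace Groth.Agent.S0794

open CategoryTheory AlgebraicGeometry in
/-- Consider a cartesian square with X' = X ×_S S', projections g' : X' → X and f' : X' → S', where f :
X → S is locally of finite type. If F is a quasi-coherent O_X-module of finite type whose support is
proper over S, then the support of the pullback (g')^* F is proper over S'. -/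
theorem result {X S X' S' : Scheme.{u}} (f : X ⟶ S) [LocallyOfFiniteType f]
    (g : S' ⟶ S) (g' : X' ⟶ X) (f' : X' ⟶ S') (sq : IsPullback g' f' f g)
    (F : X.Modules) (hq : Coh.IsQCoh F) (hft : CohB1.IsFT F)
    (hF : ClSub.IsProperOver f (CohB1.support F)) :
    ClSub.IsProperOver f' (CohB1.support ((Scheme.Modules.pullback g').obj F)) := by
  have : LocallyOfFiniteType f' :=
    MorphismProperty.of_isPullback (P := @LocallyOfFiniteType) sq inferInstance
  refine ProperOver.mono (Groth.Agent.S0793.result f g g' f' sq _ hF)
    (QCohLib.isClosed_support (QCohLib.isFiniteType_pullback g' F hft)) ?_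
  intro x hx
  by_contra hc
  obtain ⟨V, hxV, hV⟩ := QCohLib.exists_nhds_subsingleton_stalk hft (g' x) (not_not.mp hc)
  have hz : Limits.IsZero (((Scheme.Modules.pullback g').obj F).restrict (g' ⁻¹ᵁ V).ι) :=
    ((Scheme.Modules.pullback (g' ∣_ V)).map_isZero
      (QCohLib.isZero_restrict_of_subsingleton_stalk V.ι fun y => hV _ y.2)).of_iso
      (QCohLib.pullbackRestrictIso g' F (g' ∣_ V) _ _ (morphismRestrict_ι g' V)).symm
  exact hx ((QCohLib.subsingleton_restrict_stalk_iff (g' ⁻¹ᵁ V).ι _ ⟨x, hxV⟩).mp
    (QCohLib.subsingleton_stalk_of_isZero hz _))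

end Groth.Agent.S0794
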