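import Groth.Statements.S0797
import Mathlib
-- import your own Groth.Agent.* helpers here

set_option autoImplicit false
universe u
open Formal2

namespace Groth.Agent.S0797

section Aux
variable {A : Type u} [CommRing A] (I : Ideal A) (M : ℕ → Type u) [∀ n, AddCommGroup (M n)]
  [∀ n, Module A (M n)]

theorem sub_mem_pow {k : ℕ} (b : ℕ → (Fin k → A)) (hb : ∀ m i, b (m + 1) i - b m i ∈ I ^ m) :
    ∀ {m m' : ℕ}, m ≤ m' → ∀ i, b m' i - b m i ∈ I ^ m := fun {m m'} h => by
  induction h with
  | refl => intro i; simp
  | step h ih =>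
    intro i
    have := add_mem (Ideal.pow_le_pow_right h (hb _ i)) (ih i)
    simpa using this

theorem main_thm [IsNoetherianRing A] [IsAdicComplete I A]
    [∀ n, Module.Finite A (M n)] (f : ∀ n, M (n + 1) →ₗ[A] M n) (hf : ∀ n, Function.Surjective (f n))
    (hk : ∀ n, I ^ (n + 1) • (⊤ : Submodule A (M n)) = ⊥)
    (hker : ∀ n, LinearMap.ker (f n) = I ^ (n + 1) • (⊤ : Submodule A (M (n + 1))))
    (L : Submodule A (∀ n, M n)) (hL : ∀ x : ∀ n, M n, x ∈ L ↔ ∀ n, f n (x (n + 1)) = x n) :
    Module.Finite A L ∧ ∀ n, Function.Surjective ((LinearMap.proj n).comp L.subtype : L →ₗ[A] M n) ∧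
      LinearMap.ker ((LinearMap.proj n).comp L.subtype : L →ₗ[A] M n) = I ^ (n + 1) • (⊤ : Submodule A L) := by
  classical
  let π : ∀ n, L →ₗ[A] M n := fun n => (LinearMap.proj n).comp L.subtype
  have hπf : ∀ n x, f n (π (n + 1) x) = π n x := fun n x => (hL x.1).mp x.2 n
  -- lifting from stage zero
  have hs0 : Function.Surjective (π 0) := fun y => by
    choose g hg using hf
    let x : ∀ n, M n := fun n => Nat.rec (motive := M) y (fun m z => g m z) n
    exact ⟨⟨x, (hL x).mpr fun n => hg n _⟩, rfl⟩
  obtain ⟨k, s, hs⟩ := Module.Finite.exists_fin (R := A) (M := M 0)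
  choose e he using fun i => hs0 (s i)
  let φ : (Fin k → A) →ₗ[A] L := Fintype.linearCombination A e
  have hsurj : ∀ n, Function.Surjective ((π n).comp φ) := by
    intro n
    induction n with
    | zero =>
      rw [← LinearMap.range_eq_top]
      refine top_unique ?_
      rw [← hs, Submodule.span_le]
      rintro _ ⟨i, rfl⟩
      exact ⟨Pi.single i 1, by simp [φ, Fintype.linearCombination_apply_single, he]⟩
    | succ n ih =>
      rw [← LinearMap.range_eq_top]
      set N := LinearMap.range ((π (n + 1)).comp φ)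
      have h1 : ⊤ ≤ N ⊔ I • (⊤ : Submodule A (M (n + 1))) := fun y _ => by
        obtain ⟨a, ha⟩ := ih (f n y)
        have h2 : y - π (n + 1) (φ a) ∈ LinearMap.ker (f n) := by
          rw [LinearMap.mem_ker, map_sub, hπf, sub_eq_zero]; exact ha.symm
        rw [hker] at h2
        exact Submodule.mem_sup.mpr ⟨_, ⟨a, rfl⟩, _,
          Submodule.smul_mono_left (Ideal.pow_le_self n.succ_ne_zero) h2, add_sub_cancel _ _⟩
      have h3 : ∀ j : ℕ, ⊤ ≤ N ⊔ I ^ j • (⊤ : Submodule A (M (n + 1))) := by
        intro j
        induction j with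
        | zero => simp
        | succ j ihj =>
          refine ihj.trans (sup_le le_sup_left ?_)
          refine (Submodule.smul_mono le_rfl h1).trans ?_
          rw [Submodule.smul_sup, ← Submodule.mul_smul, ← pow_succ]
          exact sup_le_sup Submodule.smul_le_right le_rfl
      have := h3 (n + 2)
      rw [hk, sup_bot_eq] at this
      exact top_unique this
  have hzero : ∀ (m : ℕ) (a : Fin k → A), (∀ i, a i ∈ I ^ (m + 1)) → π m (φ a) = 0 := fun m a ha => by
    rw [Fintype.linearCombination_apply, map_sum]
    refine Finset.sum_eq_zero fun i _ => ?_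
    rw [map_smul]
    have := hk m
    rw [Submodule.eq_bot_iff] at this
    exact this _ (Submodule.smul_mem_smul (ha i) Submodule.mem_top)
  have key : ∀ (n : ℕ) (x : L), π n x = 0 → ∃ a : Fin k → A, (∀ i, a i ∈ I ^ (n + 1)) ∧ φ a = x := by
    intro n x hx
    have step : ∀ (m : ℕ) (z : L), π m z = 0 →
        ∃ a : Fin k → A, (∀ i, a i ∈ I ^ (m + 1)) ∧ π (m + 1) (z - φ a) = 0 := by
      intro m z hz
      have h1 : π (m + 1) z ∈ I ^ (m + 1) • (⊤ : Submodule A (M (m + 1))) := by
        rw [← hker, LinearMap.mem_ker, hπf, hz]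
      rw [← LinearMap.range_eq_top.mpr (hsurj (m + 1)), LinearMap.range_eq_map,
        ← Submodule.map_smul''] at h1
      obtain ⟨a, ha, hae⟩ := h1
      refine ⟨a, fun i => ?_, by rw [map_sub, sub_eq_zero]; exact hae.symm⟩
      have : I ^ (m + 1) • (⊤ : Submodule A (Fin k → A)) ≤
          Submodule.comap (LinearMap.proj i : (Fin k → A) →ₗ[A] A) (I ^ (m + 1)) :=
        Submodule.smul_le.mpr fun r hr b _ => by
          simp only [Submodule.mem_comap, LinearMap.proj_apply, Pi.smul_apply, smul_eq_mul]
          exact Ideal.mul_mem_right _ _ hr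
      exact this ha
    choose c hc hc' using step
    let st : ∀ j, {p : (Fin k → A) // π (n + j) (x - φ p) = 0} := fun j =>
      Nat.rec (motive := fun j => {p : (Fin k → A) // π (n + j) (x - φ p) = 0})
        ⟨0, by rw [map_zero, sub_zero]; exact hx⟩
        (fun j p => ⟨p.1 + c (n + j) (x - φ p.1) p.2, by
          rw [map_add, ← sub_sub]; exact hc' (n + j) (x - φ p.1) p.2⟩) j
    let b : ℕ → (Fin k → A) := fun j => (st j).1
    have hb : ∀ j i, b (j + 1) i - b j i ∈ I ^ (n + j + 1) := fun j i => by
      show (b j + c (n + j) (x - φ (b j)) (st j).2) i - b j i ∈ _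
      rw [Pi.add_apply, add_sub_cancel_left]; exact hc _ _ _ i
    have hbn : ∀ j i, b j i ∈ I ^ (n + 1) := by
      intro j i
      induction j with
      | zero => exact Ideal.zero_mem _
      | succ j ih =>
        have := add_mem (Ideal.pow_le_pow_right (by omega) (hb j i)) ih
        simpa using this
    have hlim : ∀ i, ∃ l : A, ∀ j, b j i - l ∈ I ^ j := fun i => by
      obtain ⟨l, hl⟩ := IsPrecomplete.prec (IsAdicComplete.toIsPrecomplete (I := I) (M := A))
        (f := fun j => b j i) (fun {j j'} h => by
          rw [SModEq.sub_mem, smul_eq_mul, Ideal.mul_top]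
          have := sub_mem_pow I b (fun m i => Ideal.pow_le_pow_right (by omega) (hb m i)) h i
          simpa using neg_mem this)
      refine ⟨l, fun j => ?_⟩
      have := hl j
      rwa [SModEq.sub_mem, smul_eq_mul, Ideal.mul_top] at this
    choose l hl using hlim
    refine ⟨l, fun i => ?_, ?_⟩
    · have := sub_mem (hbn (n + 1) i) (hl i (n + 1))
      simpa using this
    · refine Subtype.ext (funext fun m => ?_)
      change π m (φ l) = π m x
      have h1 : π (n + (m + 1)) (x - φ (b (m + 1))) = 0 := (st (m + 1)).2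
      have hdown : ∀ d, ∀ z : L, π (m + d) z = 0 → π m z = 0 := by
        intro d
        induction d with
        | zero => exact fun z hz => hz
        | succ d ihd => exact fun z hz => ihd z (by
            rw [← hπf]; change f (m + d) (π (m + d + 1) z) = 0
            rw [show π (m + d + 1) z = 0 from hz, map_zero])
      have h2 : π m (x - φ (b (m + 1))) = 0 := hdown (n + 1) _ (by
        rw [show m + (n + 1) = n + (m + 1) by omega]; exact h1)
      have h3 : π m (φ (b (m + 1) - l)) = 0 := hzero m _ fun i => hl i (m + 1)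
      rw [map_sub, sub_eq_zero] at h2
      rw [map_sub, map_sub, sub_eq_zero] at h3
      rw [h2, ← h3]
  have hφ : Function.Surjective φ := fun x => by
    obtain ⟨a, ha⟩ := hsurj 0 (π 0 x)
    obtain ⟨c, -, hc⟩ := key 0 (x - φ a) (by rw [map_sub, sub_eq_zero]; exact ha.symm)
    exact ⟨c + a, by rw [map_add, hc, sub_add_cancel]⟩
  refine ⟨Module.Finite.of_surjective φ hφ, fun n => ⟨Function.Surjective.of_comp
    (g := (φ : (Fin k → A) → L)) (hsurj n), le_antisymm (fun x hx => ?_) ?_⟩⟩
  · obtain ⟨a, ha, rfl⟩ := key n x hx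
    rw [Fintype.linearCombination_apply]
    exact Submodule.sum_mem _ fun i _ => Submodule.smul_mem_smul (ha i) Submodule.mem_top
  · refine Submodule.smul_le.mpr fun r hr z _ => ?_
    rw [LinearMap.mem_ker, map_smul]
    exact (Submodule.eq_bot_iff _).mp (hk n) _ (Submodule.smul_mem_smul hr Submodule.mem_top)

end Aux

/-- The module-theoretic heart, over a base that is already complete (so that the completion of A is A).
Let A be Noetherian and I-adically complete, and let (M_n, f_n : M_{n+1} → M_n) be an inverse system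
of finite A-modules with M_n annihilated by I^(n+1) and f_n surjective with kernel I^(n+1) M_{n+1}
(indices shifted by one). Then the A-module of compatible sequences is finitely generated, each
projection to M_n is surjective, and its kernel is I^(n+1) times the module of compatible sequences. -/
theorem result (A : Type u) [CommRing A] [IsNoetherianRing A] (I : Ideal A)
    [IsAdicComplete I A] (M : ℕ → Type u) [∀ n, AddCommGroup (M n)] [∀ n, Module A (M n)]
    [∀ n, Module.Finite A (M n)] (f : ∀ n, M (n + 1) →ₗ[A] M n) (hf : ∀ n, Function.Surjective (f n))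
    (hk : ∀ n, I ^ (n + 1) • (⊤ : Submodule A (M n)) = ⊥)
    (hker : ∀ n, LinearMap.ker (f n) = I ^ (n + 1) • (⊤ : Submodule A (M (n + 1))))
    (L : Submodule A (∀ n, M n)) (hL : ∀ x : ∀ n, M n, x ∈ L ↔ ∀ n, f n (x (n + 1)) = x n) :
    Module.Finite A L ∧ ∀ n, Function.Surjective ((LinearMap.proj n).comp L.subtype : L →ₗ[A] M n) ∧
      LinearMap.ker ((LinearMap.proj n).comp L.subtype : L →ₗ[A] M n) = I ^ (n + 1) • (⊤ : Submodule A L) := by
  exact main_thm I M f hf hk hker L hL

end Groth.Agent.S0797
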