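import Groth.Statements.S1802
import Groth.Agent.PuncturedU.Basic
import Groth.Agent.CohVanish.QuasiAffine

set_option autoImplicit false
universe u
open AlgebraicGeometry
open LocCoh

namespace Groth.Agent.S1802

/-- For a Noetherian ring. Let I be an ideal of a Noetherian ring A with cd(A, I) = 1, i.e. H^i_I(M) = 0
for all modules M and all i ≥ 2 but H^1_I(M) ≠ 0 for some M. Then the open subscheme Spec A minus
V(I) is nonempty and affine. -/
theorem result (A : Type u) [CommRing A] [IsNoetherianRing A] (I : Ideal A) (h1 : LocCoh.CdLE A I 1) (h0 : ¬ LocCoh.CdLE A I 0) : Nonempty (↑(LocCoh.puncturedOpen A I) : Scheme.{u}) ∧ IsAffine (↑(LocCoh.puncturedOpen A I) : Scheme.{u}) := by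
  have hne : Nonempty (↑(LocCoh.puncturedOpen A I) : Scheme.{u}) := by
    by_contra hc
    refine h0 fun M _ _ i hi => ?_
    obtain ⟨s, hs⟩ := (IsNoetherian.noetherian I : I.FG)
    have hI : I = Ideal.span {a | a ∈ s.toList} := by rw [← hs]; congr 1; ext x; simp
    have ht : ∀ g ∈ s.toList, ∀ x : (ModuleCat.of A M : ModuleCat.{u} A), ∃ k : ℕ, g ^ k • x = 0 := by
      intro g hg x
      have hgI : g ∈ I := hI ▸ Ideal.subset_span hg
      have hn : IsNilpotent g := by
        rw [nilpotent_iff_mem_prime]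
        intro q hq
        by_contra hgq
        exact hc ⟨⟨⟨q, hq⟩, fun hz => hgq (hz hgI)⟩⟩
      obtain ⟨k, hk⟩ := hn
      exact ⟨k, by rw [hk, zero_smul]⟩
    haveI := Groth.Agent.CechKoszul.subsingleton_lim_of_torsion (ModuleCat.of A M) s.toList ht
      ((i : ℤ) - s.toList.length) (by omega)
    obtain ⟨e⟩ := Groth.Agent.KoszulCone.nonempty_localCohomology_equiv s.toList i (ModuleCat.of A M)
    subst hI
    exact e.toEquiv.subsingleton
  refine ⟨hne, ?_⟩
  haveI : IsNoetherianRing (CommRingCat.of A) := ‹IsNoetherianRing A›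
  haveI : CompactSpace (↑(LocCoh.puncturedOpen A I) : Scheme.{u}) :=
    isCompact_iff_compactSpace.1
      (@TopologicalSpace.NoetherianSpace.isCompact (PrimeSpectrum A) _ inferInstance
        ((LocCoh.puncturedOpen A I).1 : Set (PrimeSpectrum A)))
  haveI : (↑(LocCoh.puncturedOpen A I) : Scheme.{u}).IsQuasiAffine :=
    Scheme.IsQuasiAffine.of_isImmersion (LocCoh.puncturedOpen A I).ι
  refine Groth.Agent.CohVanish.isAffine_of_isQuasiAffine_of_acyclic fun p hp => ?_
  obtain ⟨e⟩ := Groth.Agent.PuncturedU.nonempty_HHon_equiv I A p hp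
  haveI : Subsingleton (LocCoh.H I (p + 1) A) := h1 A (p + 1) (by omega)
  haveI := e.toEquiv.subsingleton
  let i : Groth.Agent.CohVanish.oMod (↑(LocCoh.puncturedOpen A I) : Scheme.{u}) ≅
      (AlgebraicGeometry.tilde (R := CommRingCat.of A) (ModuleCat.of A A)).restrict (LocCoh.puncturedOpen A I).ι :=
    (Scheme.Modules.restrictUnitIso (LocCoh.puncturedOpen A I).ι).symm
  exact @Equiv.subsingleton _ _ ((CategoryTheory.Sheaf.functorH _ p).mapIso ((SheafOfModules.toSheaf _).mapIso i)).addCommGroupIsoToAddEquiv.toEquiv (by assumption)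

end Groth.Agent.S1802
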