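import Groth.Statements.S0825
import Groth.Agent.S1802
import Groth.Agent.PuncturedU.Tilde

set_option autoImplicit false
universe u
open scoped BigOperators
open LocCoh

namespace Groth.Agent.S0825

open AlgebraicGeometry CategoryTheory TopologicalSpace Opposite

/-- Let A be a Noetherian ring and I the ideal generated by f_1, …, f_r, with cohomological dimension
exactly 1. Then there are c ≥ 1 and A-linear maps φ_j : I^c → A such that x = Σ_j f_j φ_j(x) for
every x ∈ I^c. -/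
theorem result (A : Type u) [CommRing A] [IsNoetherianRing A] (r : ℕ) (f : Fin r → A)
    (h₁ : LocCoh.CdLE A (Ideal.span (Set.range f)) 1) (h₀ : ¬ LocCoh.CdLE A (Ideal.span (Set.range f)) 0) :
    ∃ (c : ℕ) (φ : Fin r → (↥(Ideal.span (Set.range f) ^ (c + 1)) →ₗ[A] A)),
      ∀ x : ↥(Ideal.span (Set.range f) ^ (c + 1)), (x : A) = ∑ j, f j * φ j x := by
  classical
  set I : Ideal A := Ideal.span (Set.range f) with hIdef
  haveI : IsAffine (↑(LocCoh.puncturedOpen A I) : Scheme.{u}) := (Groth.Agent.S1802.result A I h₁ h₀).2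
  have hUaff : IsAffineOpen (LocCoh.puncturedOpen A I) := ‹_›
  let φ : A →+* Γ(Spec (CommRingCat.of A), LocCoh.puncturedOpen A I) :=
    ((Scheme.ΓSpecIso (CommRingCat.of A)).inv ≫
      (Spec (CommRingCat.of A)).presheaf.map (homOfLE (le_top : LocCoh.puncturedOpen A I ≤ ⊤)).op).hom
  let T := (tilde.toOpen (R := CommRingCat.of A) (ModuleCat.of A A) (LocCoh.puncturedOpen A I)).hom
  let U' := Groth.Agent.PuncturedU.sec (ModuleCat.of A A) (LocCoh.puncturedOpen A I)
  let j : Γ(Spec (CommRingCat.of A), LocCoh.puncturedOpen A I) → U' := fun s => s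
  have hT : ∀ x : A, T x = j (φ x) := fun x => rfl
  have hsm : ∀ (x : A) (s), x • j s = j (φ x * s) := fun x s => rfl
  have hspan : Ideal.span (Set.range fun k => φ (f k)) = ⊤ := by
    refine hUaff.self_le_iSup_basicOpen_iff.1 fun x hx => ?_
    obtain ⟨k, hk⟩ : ∃ k, x ∈ Groth.Agent.PuncturedU.bas (f k) := by
      by_contra h
      refine hx ?_
      change (I : Set A) ⊆ _
      rw [SetLike.coe_subset_coe, hIdef, Ideal.span_le]
      rintro _ ⟨k, rfl⟩
      by_contra hk
      exact h ⟨k, hk⟩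
    refine Opens.mem_iSup.2 ⟨⟨φ (f k), k, rfl⟩, ?_⟩
    change x ∈ (Spec (CommRingCat.of A)).basicOpen ((Spec (CommRingCat.of A)).presheaf.map _
      ((Scheme.ΓSpecIso (CommRingCat.of A)).inv (f k)))
    rw [Scheme.basicOpen_res, basicOpen_eq_of_affine]
    exact ⟨hx, hk⟩
  obtain ⟨g, hg⟩ := Ideal.mem_span_range_iff_exists_fun.1 (hspan ▸ Submodule.mem_top :
    (1 : Γ(Spec (CommRingCat.of A), LocCoh.puncturedOpen A I)) ∈ Ideal.span (Set.range fun k => φ (f k)))
  have hn : ∀ k, ∃ n : ℕ, ∀ z ∈ I ^ n, ∃ w : A, φ w = φ z * g k := fun k => by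
    obtain ⟨n, hn⟩ := Groth.Agent.PuncturedU.exists_pow_smul_mem_range (ModuleCat.of A A) I (j (g k))
    refine ⟨n, fun z hz => ?_⟩
    obtain ⟨w, hw⟩ := hn z hz
    exact ⟨w, ((hT w).symm.trans hw).trans (hsm z (g k))⟩
  choose n hn using hn
  let N := Finset.univ.sup n
  obtain ⟨a₀, ha₀⟩ := Groth.Agent.PuncturedU.exists_pow_le (R := A) I
  have hinj : ∀ w ∈ I ^ a₀, φ w = 0 → w = 0 := fun w hw h0 =>
    ha₀ w hw ((Groth.Agent.PuncturedU.rs_eq_zero_iff (ModuleCat.of A A) I (le_top : _ ≤ ⊤)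
      ((tilde.toOpen (R := CommRingCat.of A) (ModuleCat.of A A) ⊤).hom w)).1
        ((Groth.Agent.PuncturedU.toOpen_rs (ModuleCat.of A A) le_top w).trans ((hT w).trans h0)) |>.imp
      fun _ h r hr => (tilde.isoTop (R := CommRingCat.of A) (ModuleCat.of A A)).toLinearEquiv.injective
        (((map_smul _ r w).trans (h r hr)).trans (map_zero _).symm))
  have key : ∀ k, ∀ x ∈ I ^ (a₀ + N + 1), ∃ w, w ∈ I ^ a₀ ∧ φ w = φ x * g k := fun k x hx => by
    rw [add_assoc, pow_add] at hx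
    induction hx using Submodule.mul_induction_on' with
    | mem_mul_mem y hy z hz =>
      obtain ⟨w, hw⟩ := hn k z (Ideal.pow_le_pow_right ((Finset.le_sup (Finset.mem_univ k)).trans
        (Nat.le_succ N)) hz)
      exact ⟨y * w, Ideal.mul_mem_right _ _ hy, by rw [map_mul, map_mul, hw, mul_assoc]⟩
    | add a _ b _ ha hb =>
      obtain ⟨wa, h1, h2⟩ := ha
      obtain ⟨wb, h3, h4⟩ := hb
      exact ⟨wa + wb, add_mem h1 h3, by rw [map_add, map_add, h2, h4, add_mul]⟩
  choose ψ hψm hψ using key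
  have uniq : ∀ {a b : A}, a ∈ I ^ a₀ → b ∈ I ^ a₀ → φ a = φ b → a = b := fun ha hb h =>
    sub_eq_zero.1 (hinj _ (sub_mem ha hb) (by rw [map_sub, h, sub_self]))
  refine ⟨a₀ + N, fun k =>
    { toFun := fun x => ψ k x.1 x.2
      map_add' := fun x y => uniq (hψm _ _ _) (add_mem (hψm _ _ _) (hψm _ _ _))
        (by rw [map_add, hψ, hψ, hψ, Submodule.coe_add, map_add, add_mul])
      map_smul' := fun r x => uniq (hψm _ _ _) (Ideal.mul_mem_left _ r (hψm _ _ _))
        (by rw [RingHom.id_apply, smul_eq_mul, map_mul, hψ, hψ, Submodule.coe_smul, smul_eq_mul, map_mul, mul_assoc]) },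
    fun x => uniq (Ideal.pow_le_pow_right (by omega) x.2)
      (Submodule.sum_mem _ fun k _ => Ideal.mul_mem_left _ _ (hψm k x.1 x.2)) ?_⟩
  rw [map_sum]
  refine (mul_one (φ x.1)).symm.trans ?_
  rw [← hg, Finset.mul_sum]
  refine Finset.sum_congr rfl fun k _ => ?_
  change _ = φ (f k * ψ k x.1 x.2)
  rw [map_mul, hψ]
  ring

end Groth.Agent.S0825
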