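import Groth.Statements.S0828
import Groth.Agent.MiracleMod.Finite
import Groth.Agent.DCohPerf.FlatFP
import Groth.Agent.DCohPerf.FreeLocus
import Groth.Agent.QCohLib.StalkRestrict
import Groth.Agent.QCohLib.FiniteType
import Groth.Agent.QCohLib.StalkLoc
import Groth.Agent.CohFinite.DevissageGen
import Groth.Agent.DepthLib.RegularLocal

set_option autoImplicit false
universe u
open Coherent

namespace Groth.Agent.S0828

open Groth.Agent CategoryTheory CategoryTheory.Limits AlgebraicGeometry

theorem nontrivial_unit_stalk {Y : Scheme.{u}} (y : Y) :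
    ¬ Subsingleton ((Coh.structureModule Y).presheaf.stalk y) := fun hs => by
  obtain ⟨W, hW, iW, iW', e⟩ := (Coh.structureModule Y).presheaf.germ_eq (U := (⊤ : Y.Opens)) (V := (⊤ : Y.Opens))
    y trivial trivial (show Γ(Y, ⊤) from 1) 0 (hs.elim _ _)
  rw [map_zero] at e
  have h2 : (1 : Γ(Y, W)) = 0 := (map_one (Y.presheaf.map iW.op).hom).symm.trans e
  have h3 := congrArg (Y.presheaf.germ W y hW) h2
  rw [map_one, map_zero] at h3
  exact one_ne_zero h3

theorem subsingleton_of_iso {X : Scheme.{u}} {F : X.Modules} (U : X.Opens) {x : X} (hx : x ∈ U)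
    (e : F.restrict U.ι ≅ FlatMod.freeMod (↑U) 0) : Subsingleton (F.presheaf.stalk x) := by
  let G := Scheme.Modules.toPresheaf (U : Scheme.{u}) ⋙ TopCat.Presheaf.stalkFunctor _ (⟨x, hx⟩ : U)
  have hz : IsZero (FlatMod.freeMod (U : Scheme.{u}) 0) :=
    (IsZero.iff_id_eq_zero _).2 (Sigma.hom_ext _ _ fun i => i.elim0)
  have hz2 : IsZero (G.obj (F.restrict U.ι)) := G.map_isZero (hz.of_iso e)
  haveI : Subsingleton (((Scheme.Modules.restrictFunctor U.ι).obj F).presheaf.stalk (⟨x, hx⟩ : U)) :=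
    AddCommGrpCat.subsingleton_of_isZero hz2
  exact (QCohLib.restrictStalkIso_bijective U.ι F ⟨x, hx⟩).2.subsingleton

theorem not_subsingleton_of_iso {X : Scheme.{u}} {F : X.Modules} (U : X.Opens) {x : X} (hx : x ∈ U) {n : ℕ}
    (hn : 0 < n) (e : F.restrict U.ι ≅ FlatMod.freeMod (↑U) n) : ¬ Subsingleton (F.presheaf.stalk x) := fun hs => by
  let G := Scheme.Modules.toPresheaf (U : Scheme.{u}) ⋙ TopCat.Presheaf.stalkFunctor _ (⟨x, hx⟩ : U)
  haveI hsub : Subsingleton (G.obj (F.restrict U.ι)) :=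
    ⟨fun a b => (QCohLib.restrictStalkIso_bijective U.ι F ⟨x, hx⟩).1 (hs.elim _ _)⟩
  have hz : IsZero (G.obj (F.restrict U.ι)) := AddCommGrpCat.isZero_of_subsingleton _
  have hz' : IsZero (G.obj (FlatMod.freeMod (U : Scheme.{u}) n)) := hz.of_iso (G.mapIso e.symm)
  classical
  let ι₀ := Sigma.ι (fun _ : Fin n => Coh.structureModule (U : Scheme.{u})) ⟨0, hn⟩
  let π₀ : FlatMod.freeMod (U : Scheme.{u}) n ⟶ Coh.structureModule (U : Scheme.{u}) := Sigma.desc fun _ => 𝟙 _
  have h1 : 𝟙 (G.obj (Coh.structureModule (U : Scheme.{u}))) = 0 := by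
    rw [← G.map_id, show 𝟙 (Coh.structureModule (U : Scheme.{u})) = ι₀ ≫ π₀ from
      (Sigma.ι_desc (fun _ : Fin n => 𝟙 (Coh.structureModule (U : Scheme.{u}))) ⟨0, hn⟩).symm,
      G.map_comp, hz'.eq_of_tgt (G.map ι₀) 0, zero_comp]
  exact nontrivial_unit_stalk (Y := (U : Scheme.{u})) (⟨x, hx⟩ : U)
    (AddCommGrpCat.subsingleton_of_isZero ((IsZero.iff_id_eq_zero (G.obj (Coh.structureModule (U : Scheme.{u})))).2 h1))

theorem supportDim_eq {X : Scheme.{u}} [IsLocallyNoetherian X] [∀ x : X, IsRegularLocalRing (X.presheaf.stalk x)]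
    (F : X.Modules) (hF : Coh.IsCoh F) (hne : ∀ y : X, ¬ Subsingleton (F.presheaf.stalk y)) (x : X) :
    Module.supportDim (X.presheaf.stalk x) (F.presheaf.stalk x) = ringKrullDim (X.presheaf.stalk x) := by
  haveI := hF.1
  haveI := CohFinite.finite_stalk hF x
  haveI := DepthLib.isDomain_of_isRegularLocalRing (X.presheaf.stalk x)
  suffices h : Module.annihilator (X.presheaf.stalk x) (F.presheaf.stalk x) = ⊥ by
    rw [Module.supportDim_eq_ringKrullDim_quotient_annihilator, h]
    exact ringKrullDim_eq_of_ringEquiv (RingEquiv.quotientBot _)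
  obtain ⟨U, hU, hx, -⟩ := exists_isAffineOpen_mem_and_subset (X := X) (U := ⊤) (x := x) trivial
  haveI := QCohLib.finite_sections F hF.2 hU
  let p := (hU.primeIdealOf ⟨x, hx⟩).asIdeal
  letI := TopCat.Presheaf.algebra_section_stalk X.presheaf ⟨x, hx⟩
  haveI : IsLocalization.AtPrime (X.presheaf.stalk x) p := hU.isLocalization_stalk ⟨x, hx⟩
  letI := QCohLib.germModule F x hx
  haveI : IsScalarTower Γ(X, U) (X.presheaf.stalk x) (F.presheaf.stalk x) :=
    IsScalarTower.of_algebraMap_smul fun _ _ => rfl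
  haveI := QCohLib.isLocalizedModule_germ (M := F) hU x hx
  refine (Submodule.eq_bot_iff _).2 fun a ha => ?_
  obtain ⟨⟨r, s⟩, hrs⟩ := IsLocalization.surj p.primeCompl a
  have hkill : ∀ m : Γ(F, U), ∃ t : p.primeCompl, t • (r • m) = 0 := fun m => by
    refine (IsLocalizedModule.eq_zero_iff p.primeCompl (QCohLib.germLinearMap F x hx)).1 ?_
    rw [map_smul, ← algebraMap_smul (X.presheaf.stalk x) r, ← hrs, mul_comm, mul_smul,
      Module.mem_annihilator.1 ha, smul_zero]
  obtain ⟨G, hG⟩ := (Module.Finite.fg_top : (⊤ : Submodule Γ(X, U) Γ(F, U)).FG)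
  classical
  choose t ht using hkill
  let T : Γ(X, U) := ∏ m ∈ G, (t m : Γ(X, U))
  have hT : T ∉ p := fun h => by
    obtain ⟨m, -, hm⟩ := (Ideal.IsPrime.prod_mem_iff (p := p)).1 h
    exact (t m).2 hm
  have hkillall : ∀ m : Γ(F, U), (T * r) • m = 0 := fun m => by
    have hm : m ∈ Submodule.span Γ(X, U) (G : Set Γ(F, U)) := hG.ge trivial
    induction hm using Submodule.span_induction with
    | mem m hm =>
      rw [show T = (∏ k ∈ G.erase m, (t k : Γ(X, U))) * t m from (Finset.prod_erase_mul G _ hm).symm,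
        mul_smul, mul_smul, show (t m : Γ(X, U)) • r • m = 0 from ht m, smul_zero]
    | zero => rw [smul_zero]
    | add a b _ _ ha hb => rw [smul_add, ha, hb, add_zero]
    | smul c a _ ha => rw [smul_comm, ha, smul_zero]
  have hnil : IsNilpotent (T * r) := by
    refine nilpotent_iff_mem_prime.2 fun P hP => ?_
    by_contra hmem
    let q : PrimeSpectrum Γ(X, U) := ⟨P, hP⟩
    let y := hU.fromSpec q
    have hy : y ∈ U := hU.range_fromSpec.le ⟨_, rfl⟩
    have hqy : hU.primeIdealOf ⟨y, hy⟩ = q :=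
      hU.fromSpec.isOpenEmbedding.injective (hU.fromSpec_primeIdealOf ⟨y, hy⟩)
    letI := QCohLib.germModule F y hy
    haveI := QCohLib.isLocalizedModule_germ (M := F) hU y hy
    refine hne y ⟨fun a b => ?_⟩
    have hz : ∀ c : F.presheaf.stalk y, c = 0 := fun c => by
      obtain ⟨⟨m, u⟩, hmu⟩ := IsLocalizedModule.surj (hU.primeIdealOf ⟨y, hy⟩).asIdeal.primeCompl
        (QCohLib.germLinearMap F y hy) c
      have h0 : QCohLib.germLinearMap F y hy m = 0 :=
        (IsLocalizedModule.eq_zero_iff (hU.primeIdealOf ⟨y, hy⟩).asIdeal.primeCompl _).2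
          ⟨⟨T * r, by rw [hqy]; exact hmem⟩, hkillall m⟩
      exact ((Module.End.isUnit_iff _).1 (IsLocalizedModule.map_units (QCohLib.germLinearMap F y hy) u)).1
        ((hmu.trans h0).trans (map_zero _).symm)
    rw [hz a, hz b]
  have h1 := hnil.map (algebraMap Γ(X, U) (X.presheaf.stalk x))
  rw [map_mul] at h1
  have h2 := eq_zero_of_pow_eq_zero h1.choose_spec
  rw [(IsLocalization.map_units (X.presheaf.stalk x) (⟨T, hT⟩ : p.primeCompl)).mul_right_eq_zero, ← hrs,
    (IsLocalization.map_units (X.presheaf.stalk x) s).mul_left_eq_zero] at h2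
  exact h2

open CategoryTheory AlgebraicGeometry in
/-- Let X be a regular scheme (locally Noetherian with regular local rings) and F a coherent O_X-module.
Then F has support all of X and Cohen–Macaulay stalks if and only if F is finite locally free of
positive rank near every point. -/
theorem result (X : Scheme.{u}) [IsLocallyNoetherian X]
    (hreg : ∀ x : X, IsRegularLocalRing (X.presheaf.stalk x)) (F : X.Modules) (hF : Coh.IsCoh F) :
    (CohB1.support F = Set.univ ∧
        ∀ x : X, LocCoh.IsCohenMacaulayModule (X.presheaf.stalk x) ↑(F.presheaf.stalk x)) ↔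
      ∀ x : X, ∃ (U : X.Opens) (n : ℕ), x ∈ U ∧ 0 < n ∧
        Nonempty (F.restrict U.ι ≅ FlatMod.freeMod (↑U) n) := by
  haveI := hF.1
  haveI : ∀ x : X, IsRegularLocalRing (X.presheaf.stalk x) := hreg
  haveI : ∀ x : X, Module.Finite (X.presheaf.stalk x) (F.presheaf.stalk x) := fun x => CohFinite.finite_stalk hF x
  constructor
  · rintro ⟨hsupp, hCM⟩
    have hne : ∀ y : X, ¬ Subsingleton (F.presheaf.stalk y) := fun y => hsupp.ge (Set.mem_univ y)
    have hfree : ∀ x : X, Module.Free (X.presheaf.stalk x) (F.presheaf.stalk x) := fun x =>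
      MiracleMod.free_of_cohenMacaulay (A := X.presheaf.stalk x) _ (hCM x)
        (supportDim_eq F hF hne x)
    have hlf : FlatMod.IsFinLocFree F := DCohPerf.isFinLocFree_of_isFP_flat (QCohLib.isCoh_iff_isFP.mp hF)
      fun x => by
        haveI := hfree x
        exact (inferInstance : Module.Flat (X.presheaf.stalk x) (F.presheaf.stalk x))
    intro x
    obtain ⟨U, n, hxU, ⟨e⟩⟩ := hlf x
    refine ⟨U, n, hxU, Nat.pos_of_ne_zero fun hn => hne x ?_, ⟨e⟩⟩
    subst hn
    exact subsingleton_of_iso U hxU e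
  · intro h
    have hlf : FlatMod.IsFinLocFree F := fun x => by
      obtain ⟨U, n, hxU, -, he⟩ := h x
      exact ⟨U, n, hxU, he⟩
    have hne : ∀ y : X, ¬ Subsingleton (F.presheaf.stalk y) := fun y => by
      obtain ⟨U, n, hyU, hn, ⟨e⟩⟩ := h y
      exact not_subsingleton_of_iso U hyU hn e
    refine ⟨Set.eq_univ_of_forall hne, fun x => ?_⟩
    haveI := (DCohPerf.free_stalk_of_finLocFree (DCohPerf.isFinLocFree_restrict hlf (⊤ : X.Opens).ι)
      (x := x) trivial).1
    haveI : Nontrivial (F.presheaf.stalk x) := not_subsingleton_iff_nontrivial.mp (hne x)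
    refine le_antisymm ?_ (DepthLib.depth_le_supportDim (R := X.presheaf.stalk x) (F.presheaf.stalk x))
    haveI := DepthLib.isCohenMacaulayLocalRing_of_isRegularLocalRing (X.presheaf.stalk x)
    obtain ⟨d, hd⟩ := DepthLib.exists_nat_depth (R := X.presheaf.stalk x) (X.presheaf.stalk x)
    obtain ⟨rs, hlen, hrs, hrsI⟩ := DepthLib.natCast_le_depth_iff.mp hd.ge
    calc Module.supportDim (X.presheaf.stalk x) (F.presheaf.stalk x) ≤ ringKrullDim (X.presheaf.stalk x) := by
          rw [Module.supportDim_eq_ringKrullDim_quotient_annihilator]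
          exact ringKrullDim_quotient_le _
      _ = _ := DepthLib.ringKrullDim_eq_depth (R := X.presheaf.stalk x)
      _ ≤ _ := by
          rw [hd]
          exact WithBot.coe_le_coe.mpr (DepthLib.natCast_le_depth_iff.mpr ⟨rs, hlen,
            ((TensorProduct.lid (X.presheaf.stalk x) (F.presheaf.stalk x)).isWeaklyRegular_congr rs).mp
              (hrs.isWeaklyRegular_rTensor), hrsI⟩)

end Groth.Agent.S0828
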