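import Groth.Statements.S0854
import Groth.Agent.KerDerived.PostComp
import Groth.Agent.KerDerived.LocCohSeq
-- import your own Groth.Agent.* helpers here

set_option autoImplicit false
universe u
open CategoryTheory
open CohTop

namespace Groth.Agent.S0854

open CategoryTheory CategoryTheory.Limits TopologicalSpace
set_option backward.isDefEq.respectTransparency false
set_option backward.isDefEq.respectTransparency.types false

theorem exists_square {X Y : TopCat.{u}} (f : X ⟶ Y) (V : Opens Y) :
    Nonempty (CohTop.push f ⋙ CohTop.restrFunctor V ≅ CohTop.restrFunctor ((Opens.map f).obj V) ⋙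
      CohTop.push (TopCat.ofHom ⟨(V : Set Y).restrictPreimage f, f.hom.continuous.restrictPreimage⟩ :
        TopCat.of ((Opens.map f).obj V) ⟶ TopCat.of V)) := by
  let g : TopCat.of ((Opens.map f).obj V) ⟶ TopCat.of V :=
    TopCat.ofHom ⟨(V : Set Y).restrictPreimage f, f.hom.continuous.restrictPreimage⟩
  have h : ∀ W : Opens (TopCat.of V), (Opens.map f).obj (V.isOpenEmbedding.isOpenMap.functor.obj W) =
      ((Opens.map f).obj V).isOpenEmbedding.isOpenMap.functor.obj ((Opens.map g).obj W) := fun W => by
    apply Opens.ext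
    apply Set.ext
    intro x
    constructor
    · rintro ⟨⟨y, hy⟩, hyW, he⟩
      have he' : y = f x := he
      subst he'
      exact ⟨⟨x, hy⟩, hyW, rfl⟩
    · rintro ⟨⟨y, hy⟩, hyW, rfl⟩
      exact ⟨⟨f y, hy⟩, hyW, rfl⟩
  exact ⟨NatIso.ofComponents (fun F => (fullyFaithfulSheafToPresheaf _ _).preimageIso
    (NatIso.ofComponents (fun W => F.obj.mapIso (eqToIso (congrArg Opposite.op (h W.unop))))
      (fun {W W'} i => by
        change F.obj.map _ ≫ F.obj.map _ = F.obj.map _ ≫ F.obj.map _
        rw [← F.obj.map_comp, ← F.obj.map_comp]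
        rfl)))
    (fun {F G} φ => by
      apply Sheaf.hom_ext
      apply NatTrans.ext
      funext W
      exact (φ.hom.naturality _).symm)⟩


open TopologicalSpace in
/-- For abelian sheaves, one degree at a time: for a continuous map f : X -> Y, an abelian sheaf F on X,
an open V of Y and g : f^{-1}(V) -> V the restriction of f, the restriction of R^p f_* F to V is
isomorphic to R^p g_* (F|_{f^{-1} V}). -/
theorem result {X Y : TopCat.{u}} (f : X ⟶ Y) (F : CohTop.Ab X)
    (V : Opens Y) (p : ℕ) :
    Nonempty (CohTop.restr ((CohTop.Rpush f p).obj F) V ≅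
      (CohTop.Rpush (TopCat.ofHom ⟨(V : Set Y).restrictPreimage f, f.hom.continuous.restrictPreimage⟩ :
          TopCat.of ((Opens.map f).obj V) ⟶ TopCat.of V) p).obj
        (CohTop.restr F ((Opens.map f).obj V))) := by
  let U := (Opens.map f).obj V
  let g : TopCat.of U ⟶ TopCat.of V :=
    TopCat.ofHom ⟨(V : Set Y).restrictPreimage f, f.hom.continuous.restrictPreimage⟩
  haveI hl : ∀ {T : TopCat.{u}} (W : Opens T), PreservesFiniteLimits (CohTop.restrFunctor W) := fun W =>
    inferInstanceAs (PreservesFiniteLimits (Groth.Agent.CohVanish.restrictSh W.isOpenEmbedding))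
  haveI hr : ∀ {T : TopCat.{u}} (W : Opens T), PreservesFiniteColimits (CohTop.restrFunctor W) := fun W => by
    haveI := Groth.Agent.KerDerived.pull_rightExact (CohCx.incl W)
    exact preservesFiniteColimits_of_natIso
      (G := CohTop.restrFunctor W) (Groth.Agent.KerDerived.pullIsoRestr W)
  haveI := Groth.Agent.KerDerived.push_additive f
  haveI := Groth.Agent.KerDerived.preservesFiniteLimits_push f
  haveI := Groth.Agent.KerDerived.push_additive g
  haveI := Groth.Agent.KerDerived.preservesFiniteLimits_push g
  obtain ⟨e₁⟩ := Groth.Agent.KerDerived.nonempty_postcomp_iso (CohTop.push f) (CohTop.restrFunctor V) p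
  obtain ⟨e₂⟩ := Groth.Agent.KerDerived.nonempty_comp_iso (CohTop.restrFunctor U) (CohTop.push g)
    (fun I _ m => by
      haveI := Groth.Agent.CohVanish.isFlasque_of_injective I
      haveI : TopCat.Sheaf.IsFlasque ((CohTop.restrFunctor U).obj I) :=
        Groth.Agent.CohVanish.isFlasque_restrictSh U.isOpenEmbedding I
      exact Groth.Agent.KerDerived.isZero_Rpush_of_flasque g m _) p
  obtain ⟨sq⟩ := exists_square f V
  let α := ((InjectiveResolution.of F).isoRightDerivedObj (CohTop.push f ⋙ CohTop.restrFunctor V) p) ≪≫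
    (HomologicalComplex.homologyFunctor _ _ p).mapIso ((NatIso.mapHomologicalComplex sq _).app _) ≪≫
    ((InjectiveResolution.of F).isoRightDerivedObj (CohTop.restrFunctor U ⋙ CohTop.push g) p).symm
  exact ⟨(e₁.app F).symm ≪≫ α ≪≫ e₂.app F⟩

end Groth.Agent.S0854
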