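import Groth.Statements.S0856
import Mathlib.Algebra.Category.ModuleCat.Presheaf.Generator
import Mathlib.Algebra.Category.ModuleCat.Presheaf.Sheafification
import Mathlib.Algebra.Category.ModuleCat.Sheaf.Abelian
-- import your own Groth.Agent.* helpers here

set_option autoImplicit false
universe u
open CategoryTheory
open CohSite

namespace Groth.Agent.S0856

open Opposite in
/-- Let (C, O) be a ringed site, a : U' -> U a monomorphism of C and I an injective sheaf of O-modules.
Then the restriction map I(U) -> I(U') is surjective. -/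
theorem result {C : Type u} [SmallCategory C]
    {J : GrothendieckTopology C} (O : Sheaf J RingCat.{u}) (I : SheafOfModules.{u} O) [Injective I]
    {U U' : C} (a : U' ⟶ U) [Mono a] : Function.Surjective (I.val.map a.op) := by
  let P := PresheafOfModules.free.{u} O.obj
  let a0 : P.obj (yoneda.obj U') ⟶ P.obj (yoneda.obj U) := P.map (yoneda.map a)
  haveI : ∀ X : Cᵒᵖ, Mono (a0.app X) := fun X => by
    rw [ModuleCat.mono_iff_injective]
    intro x y h
    refine Finsupp.mapDomain_injective (f := ((yoneda.map a).app X)) (fun p q hpq => (cancel_mono a).1 hpq) ?_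
    exact h
  haveI : Mono a0 := by
    haveI : Mono ((PresheafOfModules.toPresheaf O.obj).map a0) := by
      haveI : ∀ X, Mono (((PresheafOfModules.toPresheaf O.obj).map a0).app X) := fun X =>
        (forget₂ (ModuleCat (O.obj.obj X)) AddCommGrpCat).map_mono (a0.app X)
      exact NatTrans.mono_of_mono_app _
    exact Functor.mono_of_mono_map (PresheafOfModules.toPresheaf O.obj) this
  let G := PresheafOfModules.sheafificationAdjunction (R := O) (𝟙 O.obj)
  haveI : Mono ((PresheafOfModules.sheafification (R := O) (𝟙 O.obj)).map a0) := inferInstance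
  intro s
  let k' : P.obj (yoneda.obj U') ⟶ (PresheafOfModules.restrictScalars (𝟙 O.obj)).obj I.val :=
    PresheafOfModules.freeYonedaEquiv.symm s
  let g := Injective.factorThru ((G.homEquiv (P.obj (yoneda.obj U')) I).symm k')
    ((PresheafOfModules.sheafification (R := O) (𝟙 O.obj)).map a0)
  let k := G.homEquiv (P.obj (yoneda.obj U)) I g
  have hk : a0 ≫ k = k' := by
    refine (G.homEquiv_naturality_left a0 g).symm.trans ?_
    rw [Injective.comp_factorThru]
    exact Equiv.apply_symm_apply _ _
  refine ⟨PresheafOfModules.freeYonedaEquiv k, ?_⟩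
  have h1 : PresheafOfModules.freeYonedaEquiv (a0 ≫ k) =
      ((PresheafOfModules.restrictScalars (𝟙 O.obj)).obj I.val).map a.op (PresheafOfModules.freeYonedaEquiv k) := by
    have e : ∀ (V : C) (m : P.obj (yoneda.obj V) ⟶ (PresheafOfModules.restrictScalars (𝟙 O.obj)).obj I.val),
        PresheafOfModules.freeYonedaEquiv m = m.app (op V) (ModuleCat.freeMk (𝟙 V)) := fun V m => by
      obtain ⟨x, rfl⟩ := PresheafOfModules.freeYonedaEquiv.symm.surjective m
      rw [Equiv.apply_symm_apply]
      exact (PresheafOfModules.freeYonedaEquiv_symm_app _ V x).symm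
    refine (e U' (a0 ≫ k)).trans (Eq.trans ?_ (congrArg (((PresheafOfModules.restrictScalars (𝟙 O.obj)).obj I.val).map a.op) (e U k)).symm)
    refine Eq.trans ?_ (PresheafOfModules.naturality_apply k a.op (ModuleCat.freeMk (𝟙 U)))
    show k.app (op U') (a0.app (op U') (ModuleCat.freeMk (𝟙 U'))) = _
    refine congrArg (k.app (op U')) ?_
    refine Eq.trans (ModuleCat.free_map_apply _ _) ?_
    let φ : (yoneda.obj U).obj (op U) ⟶ ((ModuleCat.free (O.obj.obj (op U'))).obj ((yoneda.obj U).obj (op U')) : Type u) :=
      ↾fun x => ModuleCat.freeMk (R := O.obj.obj (op U')) ((yoneda.obj U).map a.op x)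
    refine Eq.trans ?_ (ModuleCat.freeDesc_apply (R := O.obj.obj (op U))
      (M := (ModuleCat.restrictScalars (O.obj.map a.op).hom).obj
        ((ModuleCat.free (O.obj.obj (op U'))).obj ((yoneda.obj U).obj (op U')))) φ (𝟙 U)).symm
    simp [φ]
    exact (congrArg ModuleCat.freeMk (Category.comp_id a)).symm
  exact h1.symm.trans (((congrArg PresheafOfModules.freeYonedaEquiv hk)).trans
    (Equiv.apply_symm_apply _ s))

end Groth.Agent.S0856
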