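import Groth.Statements.S0857
import Groth.Agent.SSExist.TotAcOps
-- import your own Groth.Agent.* helpers here

set_option autoImplicit false
universe u
open CategoryTheory
open CohSite

namespace Groth.Agent.S0857

open Opposite CategoryTheory.Limits in
/-- For a family of abelian sheaves F_i on a site and an object U, the map H^1(U, ∏ F_i) -> ∏ H^1(U,
F_i) induced by the projections is injective. (The degree-zero part of the published statement, that
sections of a product are the product of sections, is not restated.) -/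
theorem result {C : Type u} [SmallCategory C] {J : GrothendieckTopology C}
    {I : Type u} (F : I → Sheaf J AddCommGrpCat.{u}) (U : C) :
    Function.Injective (fun (x : CohSite.HU (∏ᶜ F) 1 U) (i : I) =>
      (((Sheaf.cohomologyPresheafFunctor J 1).map (Pi.π F i)).app (op U)).hom x) := by
    classical
    intro a b hab
    let A : Sheaf J AddCommGrpCat.{u} := (presheafToSheaf J _).obj (yoneda.obj U ⋙ AddCommGrpCat.free.{u})
    rw [← sub_eq_zero]
    set x : Abelian.Ext.{u} A (∏ᶜ F) 1 := a - b with hxdef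
    have hx : ∀ i, x.comp (Abelian.Ext.mk₀ (Pi.π F i)) (add_zero 1) = 0 := fun i => by
      have h : a.comp (Abelian.Ext.mk₀ (Pi.π F i)) (add_zero 1) = (show Abelian.Ext.{u} A (∏ᶜ F) 1 from b).comp (Abelian.Ext.mk₀ (Pi.π F i)) (add_zero 1) :=
        congrFun hab i
      refine (map_sub ((Abelian.Ext.mk₀ (Pi.π F i)).postcomp A (add_zero 1)) a b).trans (sub_eq_zero.2 h)
    let I : _ → Sheaf J AddCommGrpCat.{u} := fun t => Injective.under (F t)
    let Q : _ → Sheaf J AddCommGrpCat.{u} := fun t => cokernel (Injective.ι (F t))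
    let f : ∏ᶜ F ⟶ ∏ᶜ I := Limits.Pi.map fun t => Injective.ι (F t)
    let g : ∏ᶜ I ⟶ ∏ᶜ Q := Limits.Pi.map fun t => cokernel.π (Injective.ι (F t))
    have hfg : f ≫ g = 0 := Limits.Pi.hom_ext _ _ fun t => by simp [f, g, I, Q]
    haveI hm : Mono f := inferInstanceAs (Mono (Limits.Pi.map fun t => Injective.ι (F t)))
    have hker : IsLimit (KernelFork.ofι f hfg) := KernelFork.IsLimit.ofι' f hfg (fun {W} k hk => by
      have hk' : ∀ t, (k ≫ Limits.Pi.π _ t) ≫ cokernel.π (Injective.ι (F t)) = 0 := fun t => by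
        have := hk =≫ Limits.Pi.π Q t
        simpa [g, I, Q] using this
      refine ⟨Limits.Pi.lift fun t => Abelian.monoLift (Injective.ι (F t)) _ (hk' t), Limits.Pi.hom_ext _ _ fun t => ?_⟩
      simp [f, I])
    haveI : Mono (cokernel.desc f g hfg) := ((ShortComplex.mk f g hfg).exact_of_f_is_kernel hker).mono_cokernelDesc
    let S := ShortComplex.mk f (cokernel.π f) (cokernel.condition f)
    have hS : S.ShortExact := { exact := S.exact_of_g_is_cokernel (cokernelIsCokernel f), mono_f := hm }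
    haveI : Injective S.X₂ := inferInstanceAs (Injective (∏ᶜ I))
    obtain ⟨y, hy⟩ := Abelian.Ext.covariant_sequence_exact₁ A hS x (Abelian.Ext.eq_zero_of_injective _) (n₀ := 0) rfl
    obtain ⟨φ, rfl⟩ := (Abelian.Ext.mk₀_bijective _ _).2 y
    let τ : ∀ t, S ⟶ ShortComplex.mk (Injective.ι (F t)) (cokernel.π (Injective.ι (F t))) (cokernel.condition _) := fun t =>
      { τ₁ := Pi.π F t, τ₂ := Pi.π I t, τ₃ := cokernel.desc f g hfg ≫ Pi.π Q t,
        comm₁₂ := (Limits.Pi.map_π (fun t => Injective.ι (F t)) t).symm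
        comm₂₃ := ((cokernel.π_desc_assoc f g hfg _).trans (Limits.Pi.map_π (fun t => cokernel.π (Injective.ι (F t))) t)).symm }
    have hl : ∀ t, ∃ ψ : A ⟶ I t, ψ ≫ cokernel.π (Injective.ι (F t)) = φ ≫ (τ t).τ₃ := fun t => by
      have hT := Groth.Agent.SSExist.injSES_shortExact' (F t)
      have h0 : (Abelian.Ext.mk₀ (φ ≫ (τ t).τ₃)).comp hT.extClass (zero_add 1) = 0 := by
        rw [← Abelian.Ext.mk₀_comp_mk₀, Abelian.Ext.comp_assoc_of_second_deg_zero,
          ← ShortComplex.ShortExact.extClass_naturality hS hT (τ t), ← Abelian.Ext.comp_assoc_of_third_deg_zero, hy]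
        exact hx t
      obtain ⟨w, hw⟩ := Abelian.Ext.covariant_sequence_exact₃ A hT (Abelian.Ext.mk₀ (φ ≫ (τ t).τ₃)) (n₁ := 1) rfl h0
      obtain ⟨ψ, rfl⟩ := (Abelian.Ext.mk₀_bijective _ _).2 w
      rw [Abelian.Ext.mk₀_comp_mk₀] at hw
      exact ⟨ψ, (Abelian.Ext.mk₀_bijective _ _).1 hw⟩
    choose ψ hψ using hl
    have hφ : Limits.Pi.lift ψ ≫ S.g = φ := by
      rw [← cancel_mono (cokernel.desc f g hfg)]
      refine Limits.Pi.hom_ext _ _ fun t => ?_
      simpa [S, g, τ, I, Q] using hψ t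
    show x = 0
    rw [← hy, ← hφ, ← Abelian.Ext.mk₀_comp_mk₀, Abelian.Ext.comp_assoc_of_second_deg_zero,
      ShortComplex.ShortExact.comp_extClass, Abelian.Ext.comp_zero]

end Groth.Agent.S0857
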