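import Groth.Statements.S0871
import Groth.Agent.RlimLib.KInjHom
import Groth.Agent.RlimLib.SheafGen
import Groth.Agent.S0488
-- import your own Groth.Agent.* helpers here

set_option autoImplicit false
universe u
open CategoryTheory
open CohTop

namespace Groth.Agent.S0871

open TopologicalSpace CategoryTheory.Limits in
/-- For an object K of the derived category of abelian sheaves on X and an open U, H^p(U, K) is
isomorphic to H^p(U, K|_U), where K|_U is the image of K under the functor on derived categories
induced by the (exact) restriction to U. Exactness of restriction is assumed through instance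
arguments (true, but not recorded by Mathlib in this generality). -/
theorem result {X : TopCat.{u}} (U : Opens X)
    [HasDerivedCategory.{u} (CohTop.Ab X)] [HasDerivedCategory.{u} (CohTop.Ab (TopCat.of U))]
    [PreservesFiniteLimits (CohTop.restrFunctor U)] [PreservesFiniteColimits (CohTop.restrFunctor U)]
    (K : DerivedCategory (CohTop.Ab X)) (p : ℤ) :
    Nonempty (CohCx.HDU K p U ≃+ CohCx.HDU ((CohTop.restrFunctor U).mapDerivedCategory.obj K) p ⊤) := by
  let F := CohTop.restrFunctor U
  have hfr : U.isOpenEmbedding.functor.obj ⊤ = U := Opens.ext (by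
    change Subtype.val '' (Set.univ : Set U) = (U : Set X)
    simp)
  let Z := CohCx.freeSheaf (Opens.grothendieckTopology X) U
  let res : ∀ M : CohTop.Ab X, M.obj.obj (Opposite.op U) ⟶ (F.obj M).obj.obj (Opposite.op ⊤) := fun M =>
    M.obj.map (eqToHom hfr).op
  let a : CohCx.freeSheaf (Opens.grothendieckTopology (TopCat.of U)) ⊤ ⟶ F.obj Z :=
    Groth.Agent.SSExist.ofSec ⊤ (F.obj Z)
      (res Z (Groth.Agent.SSExist.evalGen (Opens.grothendieckTopology X) U Z (𝟙 Z)))
  have hkey : ∀ (M : CohTop.Ab X) (z : Z ⟶ M),
      Groth.Agent.SSExist.evalGen (Opens.grothendieckTopology (TopCat.of U)) ⊤ (F.obj M) (a ≫ F.map z) =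
        res M (Groth.Agent.SSExist.evalGen (Opens.grothendieckTopology X) U M z) := by
    intro M z
    refine (congrArg (Groth.Agent.SSExist.evalGen _ ⊤ _) (Groth.Agent.SSExist.ofSec_comp _ (F.map z))).trans ?_
    refine (Groth.Agent.SSExist.evalGen_ofSec ⊤ (F.obj M) _).trans ?_
    refine (NatTrans.naturality_apply z.hom (eqToHom hfr).op _).trans ?_
    exact congrArg (fun w => res M (Groth.Agent.SSExist.evalGen (Opens.grothendieckTopology X) U M w)) (Category.id_comp z)
  have hbij : ∀ M : CohTop.Ab X, Function.Bijective fun z : Z ⟶ M => a ≫ F.map z := by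
    intro M
    have hres : Function.Bijective (res M) := by
      haveI : IsIso (res M) := inferInstanceAs (IsIso (M.obj.map (eqToHom hfr).op))
      exact (ConcreteCategory.isIso_iff_bijective (res M)).1 inferInstance
    have h1 := hres.comp (Groth.Agent.SSExist.evalGen_bijective (Opens.grothendieckTopology X) U M)
    refine ⟨fun z z' h => h1.1 ?_, fun y => ?_⟩
    · exact ((hkey M z).symm.trans (congrArg _ h)).trans (hkey M z')
    · obtain ⟨z, hz⟩ := h1.2 (Groth.Agent.SSExist.evalGen (Opens.grothendieckTopology (TopCat.of U)) ⊤ (F.obj M) y)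
      exact ⟨z, (Groth.Agent.SSExist.evalGen_bijective _ ⊤ _).1 ((hkey M z).trans hz)⟩
  exact Groth.Agent.RlimLib.nonempty_addEquiv_single F a hbij
    (fun I hI => Groth.Agent.S0488.result U I hI)
    (fun M => (Groth.Agent.TriH.exists_kInjective_resolution M).imp fun I ⟨f, h1, h2, _⟩ => ⟨f, h1, h2⟩) K p

end Groth.Agent.S0871
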