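import Groth.Statements.S0874
import Groth.Agent.RlimLib.AbSheaf
-- import your own Groth.Agent.* helpers here

set_option autoImplicit false
universe u
open CategoryTheory
open CohTop

namespace Groth.Agent.S0874

open TopologicalSpace CategoryTheory.Limits in
/-- Let (K_n) be an inverse system in D(Ab X), the derived category of sheaves of abelian groups on X,
with derived limit L (through maps a_n : L -> K_n), x a point and m an integer. Suppose there are an
index n(x) and a fundamental system of open neighbourhoods U of x such that (1) the inverse system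
H^{m-1}(U, K_n) has vanishing R^1 lim and (2) for every n >= n(x), the transition map from H^m(U,
K_n) to H^m(U, K_{n(x)}) is one-to-one. Then a_{n(x)} induces an injection of stalks at x, from
H^m(L) into H^m(K_{n(x)}). -/
theorem result {X : TopCat.{u}} [HasDerivedCategory.{u} (CohTop.Ab X)]
    (K : ℕ → DerivedCategory (CohTop.Ab X)) (t : ∀ n, K (n + 1) ⟶ K n) [HasProduct K]
    (L : DerivedCategory (CohTop.Ab X)) (a : ∀ n, L ⟶ K n) (hL : CohCx.IsRlimVia K t L a)
    (x : X) (m : ℤ) (nx : ℕ)
    (h : ∀ V : Opens X, x ∈ V → ∃ U : Opens X, x ∈ U ∧ U ≤ V ∧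
      CohCx.LimOneIsZero (fun n => CohCx.HDU (K n) (m - 1) U)
        (fun n => Preadditive.rightComp _ ((shiftFunctor _ (m - 1)).map (t n))) ∧
      ∀ k : ℕ, Function.Injective
        (Preadditive.rightComp _ ((shiftFunctor _ m).map (CohCx.transition K t nx k)) :
          CohCx.HDU (K (nx + k)) m U → CohCx.HDU (K nx) m U)) :
    Function.Injective ((TopCat.Presheaf.stalkFunctor AddCommGrpCat.{u} x).map
      ((DerivedCategory.homologyFunctor (CohTop.Ab X) m).map (a nx)).hom) := by
  let φ := (DerivedCategory.homologyFunctor (CohTop.Ab X) m).map (a nx)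
  refine (injective_iff_map_eq_zero ((TopCat.Presheaf.stalkFunctor AddCommGrpCat.{u} x).map φ.hom).hom).2
    fun z hz => ?_
  obtain ⟨U, hxU, s, rfl⟩ := TopCat.Presheaf.exists_germ_eq _ z
  rw [TopCat.Presheaf.stalkFunctor_map_germ_apply] at hz
  obtain ⟨V, hxV, iU, iU', hV⟩ := TopCat.Presheaf.germ_eq _ x hxU hxU _ 0 (hz.trans (map_zero _).symm)
  rw [map_zero, ← NatTrans.naturality_apply] at hV
  let G := Groth.Agent.RlimLib.sheafGen (Opens.grothendieckTopology X)
  let σ := Groth.Agent.SSExist.ofSec V (CohCx.HD L m) ((CohCx.HD L m).obj.map iU.op s)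
  have hσ : σ ≫ φ = 0 :=
    (Groth.Agent.SSExist.ofSec_comp _ φ).trans ((congrArg (Groth.Agent.SSExist.ofSec V _) hV).trans (map_zero _))
  have hmem := G.liftSieve_mem ((shiftFunctor _ m).map (a nx))
    (σ ≫ (Groth.Agent.RlimLib.Gen.hIso (CohTop.Ab X) m).inv.app L) (by
      have := (Groth.Agent.RlimLib.Gen.hIso (CohTop.Ab X) m).inv.naturality (a nx)
      simp only [Functor.comp_map] at this
      rw [Category.assoc, ← this, ← Category.assoc]
      exact (congrArg (· ≫ _) hσ).trans zero_comp)
  obtain ⟨W, i, ⟨y, hy1, hy2⟩, hxW⟩ := hmem x hxV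
  obtain ⟨W', hxW', hW'W, h1, h2⟩ := h W hxW
  have h0 : G.res (homOfLE hW'W) ≫ y = 0 :=
    Groth.Agent.RlimLib.injAt_of_transition hL m nx W' h1 h2 _
      ((Category.assoc _ _ _).trans ((congrArg (_ ≫ ·) hy2).trans comp_zero))
  have h3 : G.P.map (homOfLE hW'W ≫ i) ≫ σ = 0 := by
    rw [← cancel_mono ((Groth.Agent.RlimLib.Gen.hIso (CohTop.Ab X) m).inv.app L), zero_comp, Functor.map_comp,
      Category.assoc, Category.assoc]
    refine (congrArg (G.P.map (homOfLE hW'W) ≫ ·) hy1.symm).trans ?_
    exact (G.η_res (homOfLE hW'W) y).symm.trans ((congrArg G.η h0).trans G.η_zero)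
  have h4 := congrArg (Groth.Agent.SSExist.evalGen (Opens.grothendieckTopology X) W' (CohCx.HD L m))
    ((Groth.Agent.SSExist.ofSec_map (homOfLE hW'W ≫ i) _).symm.trans h3)
  rw [Groth.Agent.SSExist.evalGen_ofSec] at h4
  replace h4 := h4.trans (map_zero _)
  rw [← CategoryTheory.comp_apply, ← Functor.map_comp, ← op_comp] at h4
  rw [← TopCat.Presheaf.germ_res_apply _ ((homOfLE hW'W ≫ i) ≫ iU) x hxW' s]
  exact (congrArg _ h4).trans (map_zero _)

end Groth.Agent.S0874
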