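import Groth.Statements.S0875
import Groth.Agent.RlimLib.Loc
-- import your own Groth.Agent.* helpers here

set_option autoImplicit false
universe u
open CategoryTheory
open CohTop

namespace Groth.Agent.S0875

open TopologicalSpace CategoryTheory.Limits in
/-- Let E be an object of the derived category of abelian sheaves on X. Assume every point x has a
function p(x, -) and a fundamental system of open neighbourhoods U with H^p(U, H^{m-p}(E)) = 0 for
all m and all p > p(x, m). Then E is a derived limit of the tower of its truncations τ_{≥ -n} E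
through the canonical maps E -> τ_{≥ -n} E (equivalently, E -> R lim τ_{≥ -n} E is an isomorphism).
The existence of the countable product of the truncations is assumed. -/
theorem result {X : TopCat.{u}}
    [HasDerivedCategory.{u} (CohTop.Ab X)] (E : DerivedCategory (CohTop.Ab X))
    [HasProduct (CohCx.truncTower E)]
    (h : ∀ x : X, ∃ p : ℤ → ℤ, ∀ V : Opens X, x ∈ V → ∃ U : Opens X, x ∈ U ∧ U ≤ V ∧
      ∀ (m : ℤ) (k : ℕ), p m < k → Subsingleton (CohTop.HU (CohCx.HD E (m - k)) k U)) :
    CohCx.IsRlimVia (CohCx.truncTower E) (CohCx.truncTowerMap E) E (CohCx.toTruncTower E) := by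
  let G := Groth.Agent.RlimLib.sheafGen (Opens.grothendieckTopology X)
  refine G.isRlimVia_truncTower E fun m U T hT => ?_
  let Good : ℕ → Opens X → Prop := fun N W => ∀ n : ℕ, N ≤ n → ∀ k : ℕ, (k : ℤ) = m + (n : ℤ) + 1 →
        Subsingleton (Abelian.Ext.{u} (G.P.obj W) ((DerivedCategory.homologyFunctor _ (-((n : ℤ) + 1))).obj E) k)
  refine ⟨Groth.Agent.RlimLib.goodSieve Good (-m).toNat T, fun x hx => ?_, fun _ _ hf => hf⟩
  obtain ⟨p, hd⟩ := h x
  let N := max (-m).toNat (p m - m).toNat
  obtain ⟨V₀, f₀, hf₀, hx₀⟩ := hT N (le_max_left _ _) x hx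
  obtain ⟨W, hxW, hWV, hvan⟩ := hd V₀ hx₀
  refine ⟨W, homOfLE hWV ≫ f₀, ⟨W, 𝟙 _, homOfLE hWV ≫ f₀, Category.id_comp _, N, le_max_left _ _,
    (T N).downward_closed hf₀ _, fun n hn k hk => ?_⟩, hxW⟩
  have h1 := le_max_right (-m).toNat (p m - m).toNat
  have h' := hvan m k (by omega)
  rw [show m - (k : ℤ) = -((n : ℤ) + 1) by omega] at h'
  exact h'

end Groth.Agent.S0875
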