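import Groth.Statements.S0876
import Mathlib.CategoryTheory.Sites.MayerVietorisSquare
import Mathlib.Algebra.Homology.DerivedCategory.SingleTriangle

set_option autoImplicit false
universe u
open CategoryTheory
open CohSite

namespace Groth.Agent.S0876

universe v' u'

open CategoryTheory CategoryTheory.Limits CategoryTheory.Pretriangulated in
theorem long_exact {A : Type u'} [Category.{v'} A] [Preadditive A] [HasZeroObject A] [HasShift A ℤ]
    [∀ n : ℤ, (shiftFunctor A n).Additive] [Pretriangulated A]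
    (T : Triangle A) (hT : T ∈ distTriang A) (K : A) {B C : A}
    (i : B ⟶ T.obj₂) (j : C ⟶ T.obj₂) (p : T.obj₂ ⟶ B) (q : T.obj₂ ⟶ C)
    (hip : i ≫ p = 𝟙 B) (hiq : i ≫ q = 0) (hjp : j ≫ p = 0) (hjq : j ≫ q = 𝟙 C)
    (htot : p ≫ i + q ≫ j = 𝟙 T.obj₂) (n : ℤ) :
    let d : (T.obj₁ ⟶ (shiftFunctor A n).obj K) → (T.obj₃ ⟶ (shiftFunctor A (n + 1)).obj K) :=
      fun φ => T.mor₃ ≫ φ⟦1⟧' ≫ ((shiftFunctorAdd' A n 1 (n + 1) rfl).inv.app K)
    (∀ (u : B ⟶ (shiftFunctor A n).obj K) (v : C ⟶ (shiftFunctor A n).obj K),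
      ((T.mor₁ ≫ p) ≫ u + (T.mor₁ ≫ q) ≫ v = 0) ↔ ∃ x, (i ≫ T.mor₂) ≫ x = u ∧ (j ≫ T.mor₂) ≫ x = v) ∧
    (∀ φ, d φ = 0 ↔ ∃ u v, (T.mor₁ ≫ p) ≫ u + (T.mor₁ ≫ q) ≫ v = φ) ∧
    (∀ x, ((i ≫ T.mor₂) ≫ x = 0 ∧ (j ≫ T.mor₂) ≫ x = 0) ↔ ∃ φ, d φ = x) := by
  intro d
  refine ⟨fun u v => ⟨fun h => ?_, ?_⟩, fun φ => ⟨fun h => ?_, ?_⟩, fun x => ⟨fun h => ?_, ?_⟩⟩
  · obtain ⟨x, hx⟩ := T.yoneda_exact₂ hT (p ≫ u + q ≫ v) (by simpa using h)
    exact ⟨x, by rw [Category.assoc, ← hx]; simp [reassoc_of% hip, reassoc_of% hiq],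
      by rw [Category.assoc, ← hx]; simp [reassoc_of% hjp, reassoc_of% hjq]⟩
  · rintro ⟨x, rfl, rfl⟩
    calc _ = T.mor₁ ≫ (p ≫ i + q ≫ j) ≫ T.mor₂ ≫ x := by simp
      _ = 0 := by rw [htot, Category.id_comp, ← Category.assoc, comp_distTriang_mor_zero₁₂ _ hT, zero_comp]
  · obtain ⟨g, hg⟩ := T.rotate.yoneda_exact₃ (rot_of_distTriang _ hT) (φ⟦1⟧') (by
      have h' : (T.mor₃ ≫ φ⟦1⟧') ≫ ((shiftFunctorAdd' A n 1 (n + 1) rfl).inv.app K) = 0 := by
        rw [Category.assoc]; exact h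
      exact (Preadditive.IsIso.comp_right_eq_zero _ _).1 h')
    obtain ⟨g, rfl⟩ := (shiftFunctor A (1 : ℤ)).map_surjective g
    have e : φ = -(T.mor₁ ≫ g) := (shiftFunctor A (1 : ℤ)).map_injective (by
      rw [hg, Functor.map_neg, Functor.map_comp]; exact Preadditive.neg_comp _ _)
    refine ⟨-(i ≫ g), -(j ≫ g), ?_⟩
    rw [e]
    calc _ = -(T.mor₁ ≫ (p ≫ i + q ≫ j) ≫ g) := by simp [add_comm]
      _ = _ := by rw [htot, Category.id_comp]
  · rintro ⟨u, v, rfl⟩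
    have e : (T.mor₁ ≫ p) ≫ u + (T.mor₁ ≫ q) ≫ v = T.mor₁ ≫ (p ≫ u + q ≫ v) := by simp
    rw [e]
    simp only [d, Functor.map_comp, Category.assoc]
    rw [← Category.assoc T.mor₃, comp_distTriang_mor_zero₃₁ _ hT, zero_comp]
  · obtain ⟨g, hg⟩ := T.yoneda_exact₃ hT x (by
      calc T.mor₂ ≫ x = (p ≫ i + q ≫ j) ≫ T.mor₂ ≫ x := by rw [htot, Category.id_comp]
        _ = 0 := by
          rw [Preadditive.add_comp, Category.assoc, Category.assoc, ← Category.assoc i, h.1,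
            ← Category.assoc j, h.2, comp_zero, comp_zero, add_zero])
    obtain ⟨φ, hφ⟩ := (shiftFunctor A (1 : ℤ)).map_surjective
      (g ≫ (shiftFunctorAdd' A n 1 (n + 1) rfl).hom.app K)
    refine ⟨φ, ?_⟩
    simp only [d, hφ, Category.assoc, Iso.hom_inv_id_app, hg]
    exact congrArg (T.mor₃ ≫ ·) (Category.comp_id g)
  · rintro ⟨φ, rfl⟩
    constructor <;> simp only [d, Category.assoc] <;>
      rw [← Category.assoc T.mor₂, comp_distTriang_mor_zero₂₃ _ hT, zero_comp, comp_zero]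

open CategoryTheory.Limits in
open CategoryTheory CategoryTheory.Limits CategoryTheory.Pretriangulated in
theorem exists_delta {A : Type u'} [Category.{v'} A] [Preadditive A] [HasZeroObject A] [HasShift A ℤ]
    [∀ n : ℤ, (shiftFunctor A n).Additive] [Pretriangulated A]
    (T : Triangle A) (hT : T ∈ distTriang A) (K : A) {B C : A}
    (i : B ⟶ T.obj₂) (j : C ⟶ T.obj₂) (p : T.obj₂ ⟶ B) (q : T.obj₂ ⟶ C)
    (hip : i ≫ p = 𝟙 B) (hiq : i ≫ q = 0) (hjp : j ≫ p = 0) (hjq : j ≫ q = 𝟙 C)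
    (htot : p ≫ i + q ≫ j = 𝟙 T.obj₂) {a : T.obj₁ ⟶ B} {b : T.obj₁ ⟶ C} {f : B ⟶ T.obj₃} {g : C ⟶ T.obj₃}
    (ha : T.mor₁ ≫ p = a) (hb : T.mor₁ ≫ q = -b) (hf : i ≫ T.mor₂ = f) (hg : j ≫ T.mor₂ = g) (n : ℤ) :
    ∃ δ : (T.obj₁ ⟶ (shiftFunctor A n).obj K) →+ (T.obj₃ ⟶ (shiftFunctor A (n + 1)).obj K),
      (∀ (u : B ⟶ (shiftFunctor A n).obj K) (v : C ⟶ (shiftFunctor A n).obj K),
        a ≫ u + -(b ≫ v) = 0 ↔ ∃ x, f ≫ x = u ∧ g ≫ x = v) ∧
      (∀ φ, δ φ = 0 ↔ ∃ u v, a ≫ u + -(b ≫ v) = φ) ∧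
      (∀ x, (f ≫ x = 0 ∧ g ≫ x = 0) ↔ ∃ φ, δ φ = x) := by
  refine ⟨AddMonoidHom.mk' (fun φ => T.mor₃ ≫ φ⟦1⟧' ≫ ((shiftFunctorAdd' A n 1 (n + 1) rfl).inv.app K))
    (fun _ _ => by simp), ?_⟩
  obtain ⟨e₁, e₂, e₃⟩ := long_exact T hT K i j p q hip hiq hjp hjq htot n
  simp only [ha, hb, hf, hg, Preadditive.neg_comp] at e₁ e₂ e₃
  exact ⟨e₁, e₂, e₃⟩

open CategoryTheory CategoryTheory.Limits CategoryTheory.Pretriangulated in
theorem exists_delta_exact {A : Type u'} [Category.{v'} A] [Preadditive A] [HasZeroObject A] [HasShift A ℤ]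
    [∀ n : ℤ, (shiftFunctor A n).Additive] [Pretriangulated A]
    (T : Triangle A) (hT : T ∈ distTriang A) (K : A) {B C : A}
    (i : B ⟶ T.obj₂) (j : C ⟶ T.obj₂) (p : T.obj₂ ⟶ B) (q : T.obj₂ ⟶ C)
    (hip : i ≫ p = 𝟙 B) (hiq : i ≫ q = 0) (hjp : j ≫ p = 0) (hjq : j ≫ q = 𝟙 C)
    (htot : p ≫ i + q ≫ j = 𝟙 T.obj₂) {a : T.obj₁ ⟶ B} {b : T.obj₁ ⟶ C} {f : B ⟶ T.obj₃} {g : C ⟶ T.obj₃}
    (ha : T.mor₁ ≫ p = a) (hb : T.mor₁ ≫ q = -b) (hf : i ≫ T.mor₂ = f) (hg : j ≫ T.mor₂ = g) :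
    ∃ δ : ∀ n : ℤ, (T.obj₁ ⟶ (shiftFunctor A n).obj K) →+ (T.obj₃ ⟶ (shiftFunctor A (n + 1)).obj K),
      ∀ n : ℤ,
        (ComposableArrows.mk₂
          (AddCommGrpCat.ofHom ((Preadditive.leftComp ((shiftFunctor A n).obj K) f).prod
            (Preadditive.leftComp ((shiftFunctor A n).obj K) g)))
          (AddCommGrpCat.ofHom ((Preadditive.leftComp ((shiftFunctor A n).obj K) a).coprod
            (-(Preadditive.leftComp ((shiftFunctor A n).obj K) b))))).Exact ∧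
        (ComposableArrows.mk₂
          (AddCommGrpCat.ofHom ((Preadditive.leftComp ((shiftFunctor A n).obj K) a).coprod
            (-(Preadditive.leftComp ((shiftFunctor A n).obj K) b))))
          (AddCommGrpCat.ofHom (δ n))).Exact ∧
        (ComposableArrows.mk₂ (AddCommGrpCat.ofHom (δ n))
          (AddCommGrpCat.ofHom ((Preadditive.leftComp ((shiftFunctor A (n + 1)).obj K) f).prod
            (Preadditive.leftComp ((shiftFunctor A (n + 1)).obj K) g)))).Exact := by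
  choose δ hδ using fun n => exists_delta T hT K i j p q hip hiq hjp hjq htot ha hb hf hg n
  refine ⟨δ, fun n => ?_⟩
  obtain ⟨e₁, e₂, e₃⟩ := hδ n
  refine ⟨?_, ?_, ?_⟩
  · refine ShortComplex.Exact.exact_toComposableArrows
      (S := ShortComplex.mk _ _ (AddCommGrpCat.hom_ext (AddMonoidHom.ext fun x => (e₁ _ _).2 ⟨x, rfl, rfl⟩))) ?_
    rw [ShortComplex.ab_exact_iff]
    rintro ⟨u, v⟩ h
    obtain ⟨x, hx₁, hx₂⟩ := (e₁ u v).1 h
    exact ⟨x, Prod.ext hx₁ hx₂⟩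
  · refine ShortComplex.Exact.exact_toComposableArrows (S := ShortComplex.mk _ _
      (AddCommGrpCat.hom_ext (AddMonoidHom.ext fun uv => (e₂ _).2 ⟨Prod.fst uv, Prod.snd uv, rfl⟩))) ?_
    rw [ShortComplex.ab_exact_iff]
    intro φ h
    obtain ⟨u, v, huv⟩ := (e₂ φ).1 h
    exact ⟨(u, v), huv⟩
  · refine ShortComplex.Exact.exact_toComposableArrows (S := ShortComplex.mk _ _
      (AddCommGrpCat.hom_ext (AddMonoidHom.ext fun φ => Prod.ext ((e₃ _).2 ⟨φ, rfl⟩).1 ((e₃ _).2 ⟨φ, rfl⟩).2))) ?_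
    rw [ShortComplex.ab_exact_iff]
    intro x h
    obtain ⟨φ, hφ⟩ := (e₃ x).1 ⟨congrArg Prod.fst h, congrArg Prod.snd h⟩
    exact ⟨φ, hφ⟩

/-- As a long exact sequence of cohomology groups rather than a triangle of complexes: let S be a
Mayer-Vietoris square of a site, with corners X₁ (playing the role of the intersection), X₂, X₃ and
X₄ (the union). For every object K of the derived category of abelian sheaves there are connecting
homomorphisms H^n(X₁, K) -> H^{n+1}(X₄, K) which together with the restriction maps (sum into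
H^n(X₂, K) ⊕ H^n(X₃, K), difference out of it) form a long exact sequence ... -> H^n(X₄, K) ->
H^n(X₂, K) ⊕ H^n(X₃, K) -> H^n(X₁, K) -> H^{n+1}(X₄, K) -> .... Here H^n(U, K) is the group of maps
from the free abelian sheaf on U to K[n]. -/
theorem result {C : Type u} [SmallCategory C] {J : GrothendieckTopology C}
    [HasWeakSheafify J (Type u)] [HasDerivedCategory.{u} (Sheaf J AddCommGrpCat.{u})]
    (S : J.MayerVietorisSquare) (K : DerivedCategory (Sheaf J AddCommGrpCat.{u})) :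
    ∃ δ : ∀ n : ℤ, CohCx.HDU K n S.X₁ →+ CohCx.HDU K (n + 1) S.X₄,
      ∀ n : ℤ,
        (ComposableArrows.mk₂
          (AddCommGrpCat.ofHom ((CohCx.HDUres K n S.f₂₄).prod (CohCx.HDUres K n S.f₃₄)))
          (AddCommGrpCat.ofHom ((CohCx.HDUres K n S.f₁₂).coprod (-(CohCx.HDUres K n S.f₁₃))))).Exact ∧
        (ComposableArrows.mk₂
          (AddCommGrpCat.ofHom ((CohCx.HDUres K n S.f₁₂).coprod (-(CohCx.HDUres K n S.f₁₃))))
          (AddCommGrpCat.ofHom (δ n))).Exact ∧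
        (ComposableArrows.mk₂ (AddCommGrpCat.ofHom (δ n))
          (AddCommGrpCat.ofHom ((CohCx.HDUres K (n + 1) S.f₂₄).prod (CohCx.HDUres K (n + 1) S.f₃₄)))).Exact := by
  let T := S.shortComplex_shortExact.singleTriangle
  have hT := S.shortComplex_shortExact.singleTriangle_distinguished
  let L := DerivedCategory.singleFunctor (Sheaf J AddCommGrpCat.{u}) 0
  let fr := CohCx.freeSheaf J
  have ha : T.mor₁ ≫ L.map (Limits.biprod.fst : fr S.X₂ ⊞ fr S.X₃ ⟶ fr S.X₂) = L.map (CohCx.freeSheafMap J S.f₁₂) :=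
    (L.map_comp S.shortComplex.f Limits.biprod.fst).symm.trans (congrArg L.map (Limits.biprod.lift_fst _ _))
  have hb : T.mor₁ ≫ L.map (Limits.biprod.snd : fr S.X₂ ⊞ fr S.X₃ ⟶ fr S.X₃) = -L.map (CohCx.freeSheafMap J S.f₁₃) :=
    (L.map_comp S.shortComplex.f Limits.biprod.snd).symm.trans
      ((congrArg L.map (Limits.biprod.lift_snd _ _)).trans L.map_neg)
  have hf : L.map (Limits.biprod.inl : fr S.X₂ ⟶ fr S.X₂ ⊞ fr S.X₃) ≫ T.mor₂ = L.map (CohCx.freeSheafMap J S.f₂₄) :=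
    (L.map_comp Limits.biprod.inl S.shortComplex.g).symm.trans (congrArg L.map (Limits.biprod.inl_desc _ _))
  have hg : L.map (Limits.biprod.inr : fr S.X₃ ⟶ fr S.X₂ ⊞ fr S.X₃) ≫ T.mor₂ = L.map (CohCx.freeSheafMap J S.f₃₄) :=
    (L.map_comp Limits.biprod.inr S.shortComplex.g).symm.trans (congrArg L.map (Limits.biprod.inr_desc _ _))
  exact exists_delta_exact T hT K _ _ _ _
    ((L.map_comp _ _).symm.trans ((congrArg L.map Limits.biprod.inl_fst).trans (L.map_id _)))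
    ((L.map_comp _ _).symm.trans ((congrArg L.map Limits.biprod.inl_snd).trans (L.map_zero _ _)))
    ((L.map_comp _ _).symm.trans ((congrArg L.map Limits.biprod.inr_fst).trans (L.map_zero _ _)))
    ((L.map_comp _ _).symm.trans ((congrArg L.map Limits.biprod.inr_snd).trans (L.map_id _)))
    (((congrArg₂ (· + ·) (L.map_comp _ _).symm (L.map_comp _ _).symm).trans L.map_add.symm).trans
      ((congrArg L.map Limits.biprod.total).trans (L.map_id _))) ha hb hf hg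

end Groth.Agent.S0876
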