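import Groth.Statements.S0883
import Mathlib
import Groth.Agent.DerAdj.Basic
import Groth.Agent.TriH.KInjExist
import Groth.Agent.CohVanish.Free
-- import your own Groth.Agent.* helpers here

set_option autoImplicit false
universe u
open CategoryTheory
open CohTop

namespace Groth.Agent.S0883

open Groth.Agent CategoryTheory.Limits Opposite

section General

variable {A : Type*} [Category A] [Abelian A] [HasDerivedCategory A]

open DerivedCategory DerivedCategory.TStructure in
lemma exists_heart (G : DerivedCategory A) [G.IsGE 0] :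
    ∃ (B : A) (ι : (singleFunctor A 0).obj B ⟶ G), ∀ X : A,
      Function.Bijective (fun a : X ⟶ B => (singleFunctor A 0).map a ≫ ι) := by
  obtain ⟨B, ⟨e⟩⟩ := exists_iso_singleFunctor_obj_of_isGE_of_isLE ((t.truncLE 0).obj G) 0
  refine ⟨B, e.inv ≫ (t.truncLEι 0).app G, fun X => ⟨fun a b h => ?_, fun g => ?_⟩⟩
  · simp only [← Category.assoc] at h
    have h' := t.to_truncLE_obj_ext h
    exact (singleFunctor A 0).map_injective ((cancel_mono e.inv).1 h')
  · obtain ⟨a, ha⟩ := (singleFunctor A 0).map_surjective (t.liftTruncLE g 0 ≫ e.hom)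
    exact ⟨a, by simp [ha]⟩

open DerivedCategory DerivedCategory.TStructure in
lemma hom_shift_eq_zero (G : DerivedCategory A) [G.IsGE 0] (X : A) (i : ℤ) (hi : i < 0)
    (g : (singleFunctor A 0).obj X ⟶ (shiftFunctor (DerivedCategory A) i).obj G) : g = 0 := by
  haveI : t.IsGE ((shiftFunctor (DerivedCategory A) i).obj G) (-i) := t.isGE_shift G 0 i (-i) (by omega)
  exact t.zero g 0 (-i) (by omega)

open DerivedCategory in
/-- cycles of degree `j < 0` die in homology -/
lemma comp_homologyπ_eq_zero (C : CochainComplex A ℤ) (j : ℤ) (X : A)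
    (h : ∀ g : (singleFunctor A 0).obj X ⟶ (shiftFunctor (DerivedCategory A) j).obj (Q.obj C), g = 0)
    (s : X ⟶ C.cycles j) : s ≫ C.homologyπ j = 0 := by
  let φ : (HomologicalComplex.single A (ComplexShape.up ℤ) j).obj X ⟶ C :=
    HomologicalComplex.mkHomFromSingle (s ≫ C.iCycles j) (fun k _ => by simp)
  have hQ : Q.map φ = 0 := by
    let e : (singleFunctor A j).obj X ≅ Q.obj ((HomologicalComplex.single A (ComplexShape.up ℤ) j).obj X) :=
      (singleFunctorIsoCompQ A j).app X
    rw [← cancel_epi e.hom, comp_zero]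
    apply (shiftFunctor (DerivedCategory A) j).map_injective
    rw [Functor.map_zero]
    rw [← cancel_epi (((singleFunctors A).shiftIso j 0 j (add_zero j)).inv.app X), comp_zero]
    exact h _
  have h2 : HomologicalComplex.homologyMap φ j = 0 := by
    have := NatIso.naturality_1 (homologyFunctorFactors A j) φ
    simp only [Functor.comp_map, HomologicalComplex.homologyFunctor_map] at this
    rw [← this, hQ, Functor.map_zero, zero_comp, comp_zero]
    rfl
  have h3 : HomologicalComplex.cyclesMap φ j =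
      (HomologicalComplex.singleObjCyclesSelfIso (ComplexShape.up ℤ) j X).hom ≫ s := by
    rw [← cancel_mono (C.iCycles j)]
    simp [φ, HomologicalComplex.singleObjCyclesSelfIso_hom]
  have h4 := HomologicalComplex.homologyπ_naturality φ j
  rw [h2, comp_zero, h3, Category.assoc] at h4
  rw [← cancel_epi (HomologicalComplex.singleObjCyclesSelfIso (ComplexShape.up ℤ) j X).hom, comp_zero]
  exact h4.symm

end General

open CohVanish in
lemma eq_zero_of_sec {Y : TopCat.{u}} {B : Set (TopologicalSpace.Opens Y)}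
    (hB : TopologicalSpace.Opens.IsBasis B) {Z H : AbSh Y} (π : Z ⟶ H)
    (h : ∀ W ∈ B, ∀ s : freeSh W ⟶ Z, s ≫ π = 0) : π = 0 := by
  ext V z
  apply TopCat.Sheaf.eq_of_locally_eq' ⟨H.obj, H.property⟩
    (fun W : {W : TopologicalSpace.Opens Y // W ∈ B ∧ W ≤ V.unop} => W.1) V.unop
    (fun W => homOfLE W.2.2) ?_ _ _ fun W => ?_
  · intro x hx
    obtain ⟨W, hW, hxW, hWV⟩ := TopologicalSpace.Opens.isBasis_iff_nbhd.1 hB hx
    exact TopologicalSpace.Opens.mem_iSup.2 ⟨⟨W, hW, hWV⟩, hxW⟩
  · obtain ⟨s, hs⟩ := (sec_bijective W.1 Z).2 (Z.obj.map (homOfLE W.2.2).op z)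
    have h1 := h W.1 W.2.1 s
    have h2 := congrArg sec h1
    rw [sec_comp, hs, map_zero] at h2
    have h3 := congr($(π.hom.naturality (homOfLE W.2.2).op) z)
    simp only [AddCommGrpCat.hom_comp, AddMonoidHom.comp_apply] at h3
    exact (h3.symm.trans h2).trans (map_zero _).symm

open DerivedCategory CohVanish in
lemma isGE_zero {Y : TopCat.{u}} [HasDerivedCategory (AbSh Y)]
    {B : Set (TopologicalSpace.Opens Y)} (hB : TopologicalSpace.Opens.IsBasis B)
    (G : DerivedCategory (AbSh Y))
    (h : ∀ W ∈ B, ∀ i : ℤ, i < 0 → ∀ g : (singleFunctor (AbSh Y) 0).obj (freeSh W) ⟶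
      (shiftFunctor (DerivedCategory (AbSh Y)) i).obj G, g = 0) : G.IsGE 0 := by
  obtain ⟨C, ⟨e⟩⟩ : ∃ C, Nonempty (Q.obj C ≅ G) := ⟨_, ⟨Q.objObjPreimageIso G⟩⟩
  haveI : C.IsGE 0 := by
    rw [CochainComplex.isGE_iff]
    intro j hj
    rw [HomologicalComplex.exactAt_iff_isZero_homology, IsZero.iff_id_eq_zero,
      ← cancel_epi (C.homologyπ j), comp_zero, Category.comp_id]
    refine eq_zero_of_sec hB _ fun W hW s => comp_homologyπ_eq_zero C j _ (fun g => ?_) s
    rw [← cancel_mono ((shiftFunctor (DerivedCategory (AbSh Y)) j).map e.hom), zero_comp]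
    exact h W hW j hj _
  exact TStructure.t.isGE_of_iso e 0

set_option synthInstance.maxHeartbeats 800000 in
set_option maxHeartbeats 2000000 in
theorem preservesFiniteLimits_pull {X Y : TopCat.{u}} (f : X ⟶ Y) :
    PreservesFiniteLimits (CohTop.pull f) := by
  change PreservesFiniteLimits ((TopologicalSpace.Opens.map f).sheafPullback AddCommGrpCat.{u}
    (Opens.grothendieckTopology Y) (Opens.grothendieckTopology X))
  have : PreservesFiniteLimits ((TopologicalSpace.Opens.map f).op.lan :
      ((TopologicalSpace.Opens Y)ᵒᵖ ⥤ AddCommGrpCat.{u}) ⥤ _) := by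
    apply lan_preservesFiniteLimits_of_flat
  exact Functor.sheafPullbackConstruction.preservesFiniteLimits (TopologicalSpace.Opens.map f) _ _ _

open CohVanish in
/-- `f⁻¹` of the free sheaf on `V` is free on the preimage of `V`. -/
lemma exists_pull_free {X Y : TopCat.{u}} (f : X ⟶ Y) :
    ∃ e : ∀ V : TopologicalSpace.Opens Y,
        (CohTop.pull f).obj (freeSh V) ≅ freeSh ((TopologicalSpace.Opens.map f).obj V),
      ∀ {V W : TopologicalSpace.Opens Y} (i : V ⟶ W),
        (CohTop.pull f).map (freeMap i) ≫ (e W).hom =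
          (e V).hom ≫ freeMap ((TopologicalSpace.Opens.map f).map i) := by
  let adj : CohTop.pull f ⊣ CohTop.push f :=
    TopCat.Sheaf.pullbackPushforwardAdjunction AddCommGrpCat.{u} f
  let σ : ∀ {V : TopologicalSpace.Opens Y} {F : AbSh X}, ((CohTop.pull f).obj (freeSh V) ⟶ F) →
      F.obj.obj (op ((TopologicalSpace.Opens.map f).obj V)) :=
    fun {V F} φ => sec (U := V) (F := (CohTop.push f).obj F) (adj.homEquiv _ _ φ)
  have hσ : ∀ {V : TopologicalSpace.Opens Y} {F : AbSh X},
      Function.Bijective (σ : ((CohTop.pull f).obj (freeSh V) ⟶ F) → _) := fun {V F} =>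
    (sec_bijective V ((CohTop.push f).obj F)).comp (adj.homEquiv _ _).bijective
  have hcomp : ∀ {V : TopologicalSpace.Opens Y} {F F' : AbSh X}
      (φ : (CohTop.pull f).obj (freeSh V) ⟶ F) (g : F ⟶ F'),
      σ (φ ≫ g) = g.hom.app _ (σ φ) := fun {V F F'} φ g => by
    show sec (adj.homEquiv _ _ (φ ≫ g)) = _
    rw [Adjunction.homEquiv_naturality_right, sec_comp]
    rfl
  choose a ha using fun V : TopologicalSpace.Opens Y =>
    (hσ (V := V) (F := freeSh ((TopologicalSpace.Opens.map f).obj V))).2 (gen _)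
  have hg : ∀ (V : TopologicalSpace.Opens Y) {F : AbSh X}
      (g : freeSh ((TopologicalSpace.Opens.map f).obj V) ⟶ F), σ (a V ≫ g) = sec g := fun V F g => by
    rw [hcomp, ha]; rfl
  choose b hb using fun V : TopologicalSpace.Opens Y =>
    (sec_bijective ((TopologicalSpace.Opens.map f).obj V) ((CohTop.pull f).obj (freeSh V))).2 (σ (𝟙 _))
  refine ⟨fun V => ⟨a V, b V, hσ.1 (by rw [hg, hb]), (sec_bijective _ _).1 ?_⟩, fun {V W} i => ?_⟩
  · rw [sec_comp, hb, ← hcomp, Category.id_comp, ha]; rfl
  · apply hσ.1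
    show σ ((CohTop.pull f).map (freeMap i) ≫ a W) = σ (a V ≫ _)
    rw [hg]
    show sec (adj.homEquiv _ _ ((CohTop.pull f).map (freeMap i) ≫ a W)) = _
    rw [Adjunction.homEquiv_naturality_left, sec_freeMap]
    show (freeSh ((TopologicalSpace.Opens.map f).obj W)).obj.map _ (σ (a W)) = _
    rw [ha]
    exact (freeMap_gen _).symm


set_option maxHeartbeats 2000000 in
open TopologicalSpace in
/-- Part (1) (abelian sheaves; the assertion about Rf_* K is not included): given a continuous map f : X
-> Y, a basis B of opens of Y and an object K of the derived category of abelian sheaves on X such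
that H^i(f^{-1}V, K) = 0 for all i < 0 and V in B. Then H^i(f^{-1}V, K) = 0 for i < 0 and every open
V of Y, and the presheaf V ↦ H^0(f^{-1}V, K) is a sheaf on Y. -/
theorem result {X Y : TopCat.{u}} (f : X ⟶ Y)
    [HasDerivedCategory.{u} (CohTop.Ab X)] (B : Set (Opens Y)) (hB : Opens.IsBasis B)
    (K : DerivedCategory (CohTop.Ab X))
    (h : ∀ V ∈ B, ∀ i : ℤ, i < 0 → Subsingleton (CohCx.HDU K i ((Opens.map f).obj V))) :
    (∀ (V : Opens Y) (i : ℤ), i < 0 → Subsingleton (CohCx.HDU K i ((Opens.map f).obj V))) ∧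
    Presheaf.IsSheaf (Opens.grothendieckTopology Y) ((Opens.map f).op ⋙ CohCx.HDUPresheaf K 0) := by
  classical
  letI : HasDerivedCategory (CohTop.Ab Y) := HasDerivedCategory.standard _
  have hKinj : ∀ C : CochainComplex (CohTop.Ab X) ℤ, ∃ (I : CochainComplex (CohTop.Ab X) ℤ)
      (φ : C ⟶ I), I.IsKInjective ∧ QuasiIso φ := fun C => by
    obtain ⟨I, φ, h1, h2, -⟩ := TriH.exists_kInjective_resolution C
    exact ⟨I, φ, h1, h2⟩
  haveI : ((CohTop.push f).mapHomotopyCategory (ComplexShape.up ℤ) ⋙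
      DerivedCategory.Qh).HasPointwiseRightDerivedFunctor
      (HomotopyCategory.quasiIso (CohTop.Ab X) (ComplexShape.up ℤ)) :=
    TriH.hasPointwiseRightDerivedFunctor_of_bijective (L := DerivedCategory.Qh)
      (TriH.exists_kInjective_homotopy hKinj) _
  let adj : CohTop.pull f ⊣ CohTop.push f :=
    TopCat.Sheaf.pullbackPushforwardAdjunction AddCommGrpCat.{u} f
  haveI : (CohTop.pull f).Additive := adj.left_adjoint_additive
  haveI : PreservesFiniteColimits (CohTop.pull f) :=
    have := adj.leftAdjoint_preservesColimits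
    inferInstance
  haveI : PreservesFiniteLimits (CohTop.pull f) := preservesFiniteLimits_pull f
  obtain ⟨dadj⟩ := DerAdj.nonempty_derived_adjunction adj hKinj
  obtain ⟨e, he⟩ := exists_pull_free f
  let L := (CohTop.pull f).mapDerivedCategory
  let SY := DerivedCategory.singleFunctor (CohTop.Ab Y) 0
  let SX := DerivedCategory.singleFunctor (CohTop.Ab X) 0
  let ε : ∀ V : TopologicalSpace.Opens Y,
      L.obj (SY.obj (CohVanish.freeSh V)) ≅ SX.obj (CohVanish.freeSh ((TopologicalSpace.Opens.map f).obj V)) :=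
    fun V => ((CohTop.pull f).mapDerivedCategorySingleFunctor 0).app _ ≪≫ SX.mapIso (e V)
  let RF := ((CohTop.push f).mapHomotopyCategory (ComplexShape.up ℤ) ⋙
    DerivedCategory.Qh).totalRightDerived DerivedCategory.Qh
      (HomotopyCategory.quasiIso (CohTop.Ab X) (ComplexShape.up ℤ))
  let G := RF.obj K
  haveI hL : L.Additive := inferInstanceAs ((CohTop.pull f).mapDerivedCategory.Additive)
  have hzero : ∀ (V : TopologicalSpace.Opens Y) (i : ℤ),
      Subsingleton (CohCx.HDU K i ((TopologicalSpace.Opens.map f).obj V)) ↔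
        ∀ g : SY.obj (CohVanish.freeSh V) ⟶ (shiftFunctor (DerivedCategory (CohTop.Ab Y)) i).obj G, g = 0 := by
    intro V i
    let E : (SY.obj (CohVanish.freeSh V) ⟶ (shiftFunctor (DerivedCategory (CohTop.Ab Y)) i).obj G) ≃
        CohCx.HDU K i ((TopologicalSpace.Opens.map f).obj V) :=
      ((((shiftEquiv (DerivedCategory (CohTop.Ab Y)) i).symm.toAdjunction.homEquiv _ _).symm.trans
        (dadj.homEquiv _ K).symm).trans
        (((L.commShiftIso (-i)).app _).homFromEquiv.trans
          ((shiftEquiv (DerivedCategory (CohTop.Ab X)) i).symm.toAdjunction.homEquiv _ _))).trans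
        (ε V).homFromEquiv
    constructor
    · intro hs g
      exact E.injective (Subsingleton.elim _ _)
    · intro hg
      haveI : Subsingleton (SY.obj (CohVanish.freeSh V) ⟶
          (shiftFunctor (DerivedCategory (CohTop.Ab Y)) i).obj G) :=
        ⟨fun a b => (hg a).trans (hg b).symm⟩
      exact E.symm.subsingleton
  haveI : G.IsGE 0 := isGE_zero hB G fun W hW i hi => (hzero W i).1 (h W hW i hi)
  refine ⟨fun V i hi => (hzero V i).2 fun g => hom_shift_eq_zero G _ i hi g, ?_⟩
  obtain ⟨H, ι, hι⟩ := exists_heart G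
  let z : K ⟶ (shiftFunctor (DerivedCategory (CohTop.Ab X)) (0 : ℤ)).obj K :=
    (shiftFunctorZero (DerivedCategory (CohTop.Ab X)) ℤ).inv.app K
  let Ψ : ∀ V : TopologicalSpace.Opens Y, (CohVanish.freeSh V ⟶ H) →+
      CohCx.HDU K 0 ((TopologicalSpace.Opens.map f).obj V) := fun V =>
    AddMonoidHom.mk' (fun a => (ε V).inv ≫ L.map (SY.map a) ≫ L.map ι ≫ dadj.counit.app K ≫ z)
      (fun a b => by simp only [Functor.map_add, Preadditive.add_comp]; exact Preadditive.comp_add _ _ _ _ _ _)
  have hΨ : ∀ V, Function.Bijective (Ψ V) := by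
    intro V
    have : (Ψ V : _ → _) = fun a => ((ε V).homFromEquiv
        (((shiftFunctorZero (DerivedCategory (CohTop.Ab X)) ℤ).symm.app K).homToEquiv
          ((dadj.homEquiv _ K).symm (SY.map a ≫ ι)))) := by
      funext a
      simp [Ψ, z, Adjunction.homEquiv_counit, Category.assoc]
      rfl
    rw [this]
    exact (Equiv.bijective _).comp ((Equiv.bijective _).comp ((Equiv.bijective _).comp (hι _)))
  let S : ∀ V : TopologicalSpace.Opens Y, H.obj.obj (op V) ≃+
      CohCx.HDU K 0 ((TopologicalSpace.Opens.map f).obj V) := fun V =>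
    (AddEquiv.ofBijective (CohVanish.sec (U := V) (F := H)) (CohVanish.sec_bijective V H)).symm.trans
      (AddEquiv.ofBijective (Ψ V) (hΨ V))
  refine (Presheaf.isSheaf_of_iso_iff (NatIso.ofComponents
    (fun V => AddEquiv.toAddCommGrpIso (X := H.obj.obj V)
      (Y := ((TopologicalSpace.Opens.map f).op ⋙ CohCx.HDUPresheaf K 0).obj V) (S V.unop)) ?_)).1
    H.property
  intro V W i
  ext x
  obtain ⟨a, rfl⟩ := (CohVanish.sec_bijective V.unop H).2 x
  show S W.unop (H.obj.map i (CohVanish.sec a)) = _ ≫ S V.unop (CohVanish.sec a)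
  have h1 : H.obj.map i (CohVanish.sec a) = CohVanish.sec (CohVanish.freeMap i.unop ≫ a) :=
    (CohVanish.sec_freeMap i.unop a).symm
  rw [h1]
  have h2 : ∀ (U : TopologicalSpace.Opens Y) (c : CohVanish.freeSh U ⟶ H),
      S U (CohVanish.sec c) = Ψ U c := fun U c =>
    congrArg (Ψ U) ((AddEquiv.ofBijective (CohVanish.sec (U := U) (F := H))
      (CohVanish.sec_bijective U H)).symm_apply_apply c)
  rw [h2, h2]
  show (ε W.unop).inv ≫ L.map (SY.map (CohVanish.freeMap i.unop ≫ a)) ≫ _ = _ ≫ (ε V.unop).inv ≫ _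
  have h3 : L.map (SY.map (CohVanish.freeMap i.unop)) ≫ (ε V.unop).hom =
      (ε W.unop).hom ≫ SX.map (CohVanish.freeMap ((TopologicalSpace.Opens.map f).map i.unop)) := by
    have hn := ((CohTop.pull f).mapDerivedCategorySingleFunctor 0).hom.naturality (CohVanish.freeMap i.unop)
    simp only [ε, Iso.trans_hom, Functor.mapIso_hom, Category.assoc, Iso.app_hom]
    refine (reassoc_of% hn) _ |>.trans ?_
    congr 1
    exact ((SX.map_comp _ _).symm.trans (congrArg SX.map (he i.unop))).trans (SX.map_comp _ _)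
  have h4 : (ε W.unop).inv ≫ L.map (SY.map (CohVanish.freeMap i.unop)) =
      SX.map (CohVanish.freeMap ((TopologicalSpace.Opens.map f).map i.unop)) ≫ (ε V.unop).inv := by
    rw [Iso.inv_comp_eq, ← Category.assoc, ← h3, Category.assoc, Iso.hom_inv_id, Category.comp_id]
  rw [Functor.map_comp, Functor.map_comp, Category.assoc]
  exact ((reassoc_of% h4) _).trans rfl

end Groth.Agent.S0883
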