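import Groth.Statements.S0892
import Groth.Agent.DCohPerf.FreeLocus
-- import your own Groth.Agent.* helpers here

set_option autoImplicit false
universe u
open CategoryTheory
attribute [local instance] HasDerivedCategory.standard
open DCoh

namespace Groth.Agent.S0892

open AlgebraicGeometry in
/-- Let X be a scheme and E a perfect object of D(O_X). Then the set U of points x such that for every i
the stalk H^i(E)_x is a finite free O_{X,x}-module is open, all cohomology sheaves H^i(E) are finite
locally free over U, and every open W over which all H^i(E) are finite locally free is contained in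
U. (Stated for schemes; the published statement is for ringed spaces all of whose stalks of the
structure sheaf are local rings.) -/
theorem result {X : Scheme.{u}} (E : DCoh.D X) (hE : DCoh.IsPerfect E) :
    ∃ U : X.Opens,
      (U : Set X) = {x : X | ∀ i : ℤ, Module.Free (X.presheaf.stalk x) ((DCoh.HD E i).presheaf.stalk x) ∧
        Module.Finite (X.presheaf.stalk x) ((DCoh.HD E i).presheaf.stalk x)} ∧
      (∀ i : ℤ, FlatMod.IsFinLocFree ((DCoh.HD E i).restrict U.ι)) ∧
      ∀ W : X.Opens, (∀ i : ℤ, FlatMod.IsFinLocFree ((DCoh.HD E i).restrict W.ι)) → W ≤ U := by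
  let S : Set X.Opens := {W | ∀ i : ℤ, FlatMod.IsFinLocFree ((DCoh.HD E i).restrict W.ι)}
  refine ⟨sSup S, Set.ext fun x => ⟨fun hx i => ?_, fun hx => ?_⟩, fun i => ?_, fun W hW => le_sSup hW⟩
  · obtain ⟨W, hW, hxW⟩ := TopologicalSpace.Opens.mem_sSup.1 hx
    have := DCohPerf.isQCoh_HD_of_isPerfect hE i
    exact DCohPerf.free_stalk_of_finLocFree (hW i) hxW
  · obtain ⟨W, hxW, hW⟩ := DCohPerf.exists_nhd_free hE x hx
    exact TopologicalSpace.Opens.mem_sSup.2 ⟨W, hW, hxW⟩
  · refine LocFree.isFinLocFree_of_openImmersion fun ⟨x, hx⟩ => ?_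
    obtain ⟨W, hW, hxW⟩ := TopologicalSpace.Opens.mem_sSup.1 hx
    obtain ⟨V, g, hg, v, hv, n, ⟨e⟩⟩ := DCohPerf.exists_free (hW i) ⟨x, hxW⟩
    refine ⟨V, g ≫ X.homOfLE (le_sSup hW), inferInstance, v, ?_, n, ⟨?_⟩⟩
    · rw [Scheme.Hom.comp_apply, hv]
      exact X.homOfLE_apply' (le_sSup hW) x hxW
    · exact (Scheme.Modules.restrictFunctorComp g (X.homOfLE (le_sSup hW))).app _ ≪≫
        (DCohPerf.rF g).mapIso ((Scheme.Modules.restrictFunctorComp (X.homOfLE (le_sSup hW)) (sSup S).ι).symm.app _ ≪≫
          (Scheme.Modules.restrictFunctorCongr (X.homOfLE_ι (le_sSup hW))).app _) ≪≫ e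

end Groth.Agent.S0892
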