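import Groth.Statements.S0898
import Mathlib

set_option autoImplicit false
universe u
open CategoryTheory
open Hyper

namespace Groth.Agent.S0898

open CategoryTheory.Limits in
/-- Parts (1) and (2), about covering morphisms between semi-representable objects (formal coproducts)
of a site: (1) the composite of two covering morphisms is a covering, and (2) for a site with fibre
products, the base change of a covering K -> L along any L' -> L (which exists) is a covering L' x_L
K -> L'. -/
theorem result {C : Type u} [SmallCategory C] (J : GrothendieckTopology C) :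
    (∀ {K L M : FormalCoproduct.{u} C} (f : K ⟶ L) (g : L ⟶ M),
      Hyper.IsSRCovering J f → Hyper.IsSRCovering J g → Hyper.IsSRCovering J (f ≫ g)) ∧
    (∀ [HasPullbacks C] {K L L' : FormalCoproduct.{u} C} (f : K ⟶ L) (g : L' ⟶ L),
      Hyper.IsSRCovering J f → HasPullback g f ∧ ∀ [HasPullback g f], Hyper.IsSRCovering J (pullback.fst g f)) := by
  constructor
  · intro K L M f g hf hg l
    refine J.transitive (hg l) _ ?_
    rintro W h ⟨_, u, _, ⟨⟨j, hj⟩⟩, rfl⟩
    rw [Sieve.pullback_comp]
    refine J.pullback_stable u (J.superset_covering ?_ (hf j))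
    rintro V k ⟨_, v, _, ⟨⟨i, hi⟩⟩, rfl⟩
    refine ⟨_, v, _, Presieve.ofArrows.mk (⟨i, show g.f (f.f i) = l by rw [hi, hj]⟩ : {i : K.I // (f ≫ g).f i = l}), ?_⟩
    subst hi hj
    simp
  · intro _ K L L' f g hf
    refine ⟨inferInstance, fun {_} l' => ?_⟩
    refine J.superset_covering ?_ (J.pullback_stable (g.φ l') (hf (g.f l')))
    rintro W a ⟨_, u, _, ⟨⟨i, hi⟩⟩, ha⟩
    let aL : (FormalCoproduct.incl C).obj W ⟶ L' := FormalCoproduct.Hom.fromIncl l' a
    let aK : (FormalCoproduct.incl C).obj W ⟶ K := FormalCoproduct.Hom.fromIncl i u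
    have w : aL ≫ g = aK ≫ f := by
      refine (FormalCoproduct.hom_ext_iff' _ _).2 fun _ => ⟨hi.symm, ?_⟩
      change (a ≫ g.φ l') ≫ eqToHom (congrArg L.obj hi.symm) = u ≫ f.φ i
      rw [← ha]
      simp
    obtain ⟨h1, h2⟩ := (FormalCoproduct.hom_ext_iff' _ _).1
      (pullback.lift_fst aL aK w) PUnit.unit
    refine ⟨_, (pullback.lift aL aK w).φ PUnit.unit, _, Presieve.ofArrows.mk (⟨(pullback.lift aL aK w).f PUnit.unit, h1⟩ : {p : (pullback g f).I // (pullback.fst g f).f p = l'}), ?_⟩
    exact (Category.assoc _ _ _).symm.trans h2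

end Groth.Agent.S0898
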