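import Groth.Statements.S0905
import Groth.Agent.SSExist.CohPre
import Mathlib.CategoryTheory.Sites.EpiMono
import Mathlib.Algebra.Homology.ShortComplex.ExactFunctor

set_option autoImplicit false
universe u
open CategoryTheory
open CohSite

namespace Groth.Agent.S0905

open Opposite CategoryTheory.Limits in
/-- Parts (1) and (2), for a weakly contractible object U of a site (one over which every epimorphism of
sheaves of sets is surjective on sections): (1) the functor F ↦ F(U) from abelian sheaves to abelian
groups preserves finite colimits (it is exact, finite limits being automatic), and (2) H^p(U, F) = 0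
for every abelian sheaf F and every p > 0. (Part (3) about torsors is not included.) -/
theorem result {C : Type u} [SmallCategory C] (J : GrothendieckTopology C)
    (U : C) (hU : CohSite.IsWeaklyContractible J U) :
    PreservesFiniteColimits (sheafToPresheaf J AddCommGrpCat.{u} ⋙ (evaluation Cᵒᵖ AddCommGrpCat.{u}).obj (op U)) ∧
    ∀ (F : Sheaf J AddCommGrpCat.{u}) (p : ℕ), Subsingleton (CohSite.HU F (p + 1) U) := by
  open Opposite CategoryTheory.Limits CategoryTheory.Abelian Groth.Agent.SSExist in
  have hsurj : ∀ {F G : Sheaf J AddCommGrpCat.{u}} (φ : F ⟶ G), Epi φ →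
      Function.Surjective (φ.hom.app (op U)) := fun {F G} φ hφ => by
    have : Sheaf.IsLocallySurjective φ := (Sheaf.isLocallySurjective_iff_epi' _ φ).2 hφ
    have h2 : Sheaf.IsLocallySurjective ((sheafCompose J (forget AddCommGrpCat.{u})).map φ) :=
      ⟨fun {V} s => Presheaf.imageSieve_mem J φ.hom s⟩
    exact hU _ _ ((sheafCompose J (forget AddCommGrpCat.{u})).map φ)
      ((Sheaf.isLocallySurjective_iff_epi' (A := Type u) _).1 h2)
  refine ⟨?_, fun F p => ⟨fun a b => ?_⟩⟩
  · let E := sheafToPresheaf J AddCommGrpCat.{u} ⋙ (evaluation Cᵒᵖ AddCommGrpCat.{u}).obj (op U)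
    have : E.Additive := { }
    show PreservesFiniteColimits E
    rw [Functor.preservesFiniteColimits_iff_forall_exact_map_and_epi]
    intro S hS
    have := hS.mono_f
    have : PreservesFiniteLimits E := inferInstance
    exact ⟨((Functor.preservesFiniteLimits_iff_forall_exact_map_and_mono E).1 inferInstance S hS).1,
      (AddCommGrpCat.epi_iff_surjective _).2 (hsurj S.g hS.epi_g)⟩
  · suffices key : ∀ ξ : CohSite.HU F (p + 1) U, ξ = 0 by rw [key a, key b]
    intro ξ
    let R : InjectiveResolution F := injectiveResolution F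
    obtain ⟨f, hf, rfl⟩ := R.extMk_surjective ξ (p + 2) rfl
    let S := ShortComplex.mk (R.cocomplex.d p (p + 1)) (R.cocomplex.d (p + 1) (p + 2)) (R.cocomplex.d_comp_d _ _ _)
    have hS : S.Exact := R.exact_succ p
    let l : R.cocomplex.X p ⟶ kernel (R.cocomplex.d (p + 1) (p + 2)) := kernel.lift _ _ S.zero
    let g := kernel.lift (R.cocomplex.d (p + 1) (p + 2)) f hf
    obtain ⟨w, hw⟩ := hsurj l hS.epi_kernelLift (SSExist.evalGen J U _ g)
    refine (R.extMk_eq_zero_iff _ _ _ _ p rfl).2 ⟨SSExist.ofSec U _ w, ?_⟩
    have h1 : SSExist.ofSec U _ w ≫ l = g := by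
      rw [SSExist.ofSec_comp, hw]
      exact (SSExist.ofSec_eq_iff _ _).2 rfl
    calc SSExist.ofSec U _ w ≫ R.cocomplex.d p (p + 1)
        = SSExist.ofSec U _ w ≫ l ≫ kernel.ι _ := by rw [kernel.lift_ι]
      _ = f := by rw [← Category.assoc, h1, kernel.lift_ι]

end Groth.Agent.S0905
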