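import Groth.Statements.S6161
import Mathlib

set_option autoImplicit false
set_option linter.style.haveILetI false
set_option backward.isDefEq.respectTransparency.types false
universe u
open CategoryTheory
open CohSite

namespace Groth.Agent.S6161

open CategoryTheory CategoryTheory.Limits Opposite AlgebraicTopology
open Simplicial

/-- The augmentation of the alternating face map complex is compatible with additive functors. -/
theorem quasiIso_ε_map {A B : Type*} [Category* A] [Category* B] [Abelian A] [Abelian B]
    (F : A ⥤ B) [F.Additive] (X : SimplicialObject.Augmented A) :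
    QuasiIso (AlternatingFaceMapComplex.ε.app (((SimplicialObject.Augmented.whiskering _ _).obj F).obj X)) ↔
      QuasiIso ((F.mapHomologicalComplex _).map (AlternatingFaceMapComplex.ε.app X)) := by
  let e₁ : (F.mapHomologicalComplex _).obj ((alternatingFaceMapComplex A).obj (SimplicialObject.Augmented.drop.obj X))
      ≅ (alternatingFaceMapComplex B).obj
        (SimplicialObject.Augmented.drop.obj (((SimplicialObject.Augmented.whiskering _ _).obj F).obj X)) :=
    HomologicalComplex.Hom.isoOfComponents (fun _ => Iso.refl _) (by
      rintro i j (rfl : j + 1 = i)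
      simp [alternatingFaceMapComplex, AlternatingFaceMapComplex.obj, AlternatingFaceMapComplex.objD,
        Functor.map_sum, SimplicialObject.δ]
      exact (Category.id_comp _).trans (Category.comp_id _).symm)
  let e₂ : (F.mapHomologicalComplex _).obj ((ChainComplex.single₀ A).obj (SimplicialObject.Augmented.point.obj X))
      ≅ (ChainComplex.single₀ B).obj
        (SimplicialObject.Augmented.point.obj (((SimplicialObject.Augmented.whiskering _ _).obj F).obj X)) :=
    (HomologicalComplex.singleMapHomologicalComplex F _ 0).app _
  refine quasiIso_iff_of_arrow_mk_iso _ _ (Arrow.isoMk e₁ e₂ ?_).symm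
  apply HomologicalComplex.to_single_hom_ext
  simp [e₁, e₂, HomologicalComplex.singleMapHomologicalComplex, ChainComplex.single₀]
  refine (Category.id_comp _).trans ?_
  erw [eqToHom_refl, Category.comp_id]
  exact Category.comp_id _

section Types

variable (Y : SimplicialObject.Augmented (Type u)) {A : Type u} (h : A ⟶ Y.right)
  (m : Y.left.obj (op ⦋0⦌) ⟶ A)

/-- The `i`-th vertex of a simplex. -/
def vertex {n : SimplexCategoryᵒᵖ} (i : Fin (n.unop.len + 1)) (y : Y.left.obj n) : A :=
  m (Y.left.map (SimplexCategory.const _ n.unop i).op y)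

/-- An augmented simplicial set which is the Čech nerve of a surjection has an extra degeneracy. -/
theorem nonempty_extraDegeneracy (hm : m ≫ h = Y.hom.app _)
    (hh : Function.Surjective h)
    (hinj : ∀ (n : SimplexCategoryᵒᵖ) (y y' : Y.left.obj n),
      (∀ i, vertex Y m i y = vertex Y m i y') → y = y')
    (hsurj : ∀ (n : SimplexCategoryᵒᵖ) (x : Fin (n.unop.len + 1) → A),
      (∀ i j, h (x i) = h (x j)) → ∃ y : Y.left.obj n, ∀ i, vertex Y m i y = x i) :
    Nonempty (SimplicialObject.Augmented.ExtraDegeneracy Y) := by
  let t : SimplicialObject.Augmented.toArrow.obj Y ⟶ Arrow.mk h :=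
    Arrow.homMk m (𝟙 _) (hm.trans (Category.comp_id _).symm)
  let φ : Y ⟶ (Arrow.mk h).augmentedCechNerve := SimplicialObject.equivalenceLeftToRight Y _ t
  have hπ : ∀ (n : SimplexCategoryᵒᵖ) (i : Fin (n.unop.len + 1)) (y : Y.left.obj n),
      WidePullback.π (fun _ : Fin (n.unop.len + 1) => h) i (φ.left.app n y) = vertex Y m i y := by
    intro n i y
    change (φ.left.app n ≫ WidePullback.π (fun _ : Fin (n.unop.len + 1) => h) i) y = _
    simp only [φ, SimplicialObject.equivalenceLeftToRight_left_app]
    erw [WidePullback.lift_π]
    rfl
  have hb : ∀ n : SimplexCategoryᵒᵖ, Function.Bijective (φ.left.app n) := by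
    refine fun n => ⟨fun y y' e => hinj n y y' fun i => (hπ n i y).symm.trans
      ((congrArg _ e).trans (hπ n i y')), fun z => ?_⟩
    have hc : ∀ i, h (WidePullback.π (fun _ : Fin (n.unop.len + 1) => h) i z) =
        WidePullback.base (fun _ : Fin (n.unop.len + 1) => h) z := fun i => by
      exact ConcreteCategory.congr_hom (WidePullback.π_arrow (fun _ : Fin (n.unop.len + 1) => h) i) z
    obtain ⟨y, hy⟩ := hsurj n (fun i => WidePullback.π (fun _ : Fin (n.unop.len + 1) => h) i z)
      fun i j => by rw [hc, hc]
    exact ⟨y, Concrete.widePullback_ext' (fun _ : Fin (n.unop.len + 1) => h) _ _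
      fun i => (hπ n i y).trans (hy i)⟩
  haveI : IsIso φ.left := by
    haveI : ∀ n, IsIso (φ.left.app n) := fun n => (isIso_iff_bijective _).mpr (hb n)
    exact NatIso.isIso_of_isIso_app _
  haveI : IsIso φ.right := inferInstanceAs (IsIso (𝟙 _))
  let φi : Y ≅ (Arrow.mk h).augmentedCechNerve := Comma.isoMk (asIso φ.left) (asIso φ.right) φ.w
  exact ⟨SimplicialObject.Augmented.ExtraDegeneracy.ofIso φi.symm
    (Arrow.AugmentedCechNerve.extraDegeneracy (Arrow.mk h)
      { section_ := TypeCat.ofHom (Function.surjInv hh)
        id := by ext a; exact Function.surjInv_eq hh a })⟩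

end Types

theorem quasiIso_map_comp {A B : Type*} [Category* A] [Category* B] [Abelian A] [Abelian B]
    (F : A ⥤ B) [F.Additive] {K₁ K₂ K₃ : ChainComplex A ℕ} (a : K₁ ⟶ K₂) (b : K₂ ⟶ K₃)
    (ha : QuasiIso ((F.mapHomologicalComplex _).map a))
    (hb : IsIso ((F.mapHomologicalComplex (ComplexShape.down ℕ)).map b)) :
    QuasiIso ((F.mapHomologicalComplex _).map (a ≫ b)) := by
  rw [Functor.map_comp]
  infer_instance

theorem main {C : Type u} [SmallCategory C] (J : GrothendieckTopology C)
    {K' K : Sheaf J (Type u)} (f : K' ⟶ K) [Epi f] :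
    QuasiIso ((AlgebraicTopology.AlternatingFaceMapComplex.ε (C := Sheaf J AddCommGrpCat.{u})).app
      (((SimplicialObject.Augmented.whiskering _ _).obj (Sheaf.composeAndSheafify J AddCommGrpCat.free.{u})).obj
        (Arrow.mk f).augmentedCechNerve)) := by
  let P := Cᵒᵖ ⥤ Type u
  let g : K'.obj ⟶ K.obj := f.hom
  let X := (Arrow.mk f).augmentedCechNerve
  let Z := (Functor.whiskeringRight Cᵒᵖ (Type u) AddCommGrpCat.{u}).obj AddCommGrpCat.free.{u}
  let L := presheafToSheaf J AddCommGrpCat.{u}
  let XP : SimplicialObject.Augmented P :=
    ((SimplicialObject.Augmented.whiskering _ _).obj (sheafToPresheaf J (Type u))).obj X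
  let Q : SimplicialObject.Augmented (Cᵒᵖ ⥤ AddCommGrpCat.{u}) :=
    ((SimplicialObject.Augmented.whiskering _ _).obj Z).obj XP
  suffices H : QuasiIso ((L.mapHomologicalComplex _).map (AlternatingFaceMapComplex.ε.app Q)) from
    (quasiIso_ε_map L Q).mpr H
  -- the augmentation factors through the image presheaf
  have hfac : ∀ n : SimplexCategoryᵒᵖ, Subfunctor.range (XP.hom.app n) ≤ Subfunctor.range g := by
    rintro n U _ ⟨y, rfl⟩
    refine ⟨((WidePullback.π (fun _ : Fin (n.unop.len + 1) => f) 0).hom.app U y), ?_⟩
    change (((WidePullback.π (fun _ : Fin (n.unop.len + 1) => f) 0) ≫ f).hom.app U) y = _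
    rw [WidePullback.π_arrow]
    rfl
  let Y : SimplicialObject.Augmented P :=
    { left := XP.left
      right := (Subfunctor.range g).toFunctor
      hom :=
        { app := fun n => Subfunctor.lift (XP.hom.app n) (hfac n)
          naturality := fun n n' θ => by
            ext U y
            exact Subtype.ext (ConcreteCategory.congr_hom (NatTrans.congr_app (XP.hom.naturality θ) U) _) } }
  let QY := ((SimplicialObject.Augmented.whiskering _ _).obj Z).obj Y
  let ι' : SimplicialObject.Augmented.point.obj QY ⟶ SimplicialObject.Augmented.point.obj Q := Z.map (Subfunctor.range g).ι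
  have hε : AlternatingFaceMapComplex.ε.app Q = AlternatingFaceMapComplex.ε.app QY ≫
      (ChainComplex.single₀ _).map ι' := by
    apply HomologicalComplex.to_single_hom_ext
    erw [HomologicalComplex.comp_f, ChainComplex.single₀_map_f_zero,
      AlternatingFaceMapComplex.ε_app_f_zero, AlternatingFaceMapComplex.ε_app_f_zero]
    exact Z.map_comp (Subfunctor.lift (XP.hom.app (op ⦋0⦌)) (hfac _)) (Subfunctor.range g).ι
  haveI : IsIso (L.map (Z.map (Subfunctor.range g).ι)) := by
    rw [← GrothendieckTopology.W_iff]
    refine J.W_of_preservesSheafification _ _ ?_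
    haveI : Presheaf.IsLocallySurjective J g := (Sheaf.isLocallySurjective_iff_epi f).mpr inferInstance
    haveI : Presheaf.IsLocallySurjective J (Subfunctor.range g).ι :=
      Presheaf.isLocallySurjective_of_isLocallySurjective_fac J (Subfunctor.toRange_ι g)
    haveI : Presheaf.IsLocallyInjective J (Subfunctor.range g).ι :=
      Presheaf.isLocallyInjective_of_injective J _ fun U => Subtype.val_injective
    exact J.W_of_isLocallyBijective _
  haveI : IsIso ((L.mapHomologicalComplex (ComplexShape.down ℕ)).map
      ((ChainComplex.single₀ (Cᵒᵖ ⥤ AddCommGrpCat.{u})).map ι')) :=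
    ((MorphismProperty.isomorphisms _).arrow_mk_iso_iff
      (((Functor.mapArrowFunctor _ _).mapIso (HomologicalComplex.singleMapHomologicalComplex L _ 0)).app
        (Arrow.mk (Z.map (Subfunctor.range g).ι)))).mpr
      (inferInstanceAs (IsIso ((ChainComplex.single₀ _).map (L.map (Z.map (Subfunctor.range g).ι)))))
  have hQY : QuasiIso (AlternatingFaceMapComplex.ε.app QY) := by
    rw [HomologicalComplex.quasiIso_iff_evaluation]
    intro U
    refine (quasiIso_ε_map ((evaluation Cᵒᵖ AddCommGrpCat.{u}).obj U) QY).mp ?_
    let YU := ((SimplicialObject.Augmented.whiskering _ _).obj ((evaluation Cᵒᵖ (Type u)).obj U)).obj Y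
    let G : Sheaf J (Type u) ⥤ Type u := sheafToPresheaf J (Type u) ⋙ (evaluation Cᵒᵖ (Type u)).obj U
    have hlim : ∀ n : SimplexCategoryᵒᵖ,
        IsLimit (G.mapCone (limit.cone (WidePullbackShape.wideCospan K
          (fun _ : Fin (n.unop.len + 1) => K') fun _ => f))) :=
      fun n => isLimitOfPreserves G (limit.isLimit _)
    have hv : ∀ (n : SimplexCategoryᵒᵖ) (i : Fin (n.unop.len + 1)) (y : YU.left.obj n),
        vertex YU (G.map (WidePullback.π (fun _ : Fin 1 => f) 0)) i y =
          G.map (WidePullback.π (fun _ : Fin (n.unop.len + 1) => f) i) y := by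
      intro n i y
      change (G.map (X.left.map (SimplexCategory.const _ n.unop i).op) ≫ G.map (WidePullback.π (fun _ : Fin 1 => f) 0)) y = _
      erw [← Functor.map_comp, WidePullback.lift_π]
      rfl
    obtain ⟨ed⟩ := nonempty_extraDegeneracy YU ((Subfunctor.toRange g).app U)
      (G.map (WidePullback.π (fun _ : Fin 1 => f) 0)) (by
        ext y
        apply Subtype.ext
        change (G.map (WidePullback.π (fun _ : Fin 1 => f) 0) ≫ G.map f) y = _
        rw [← Functor.map_comp, WidePullback.π_arrow]
        rfl)
      (by rintro ⟨_, a, rfl⟩; exact ⟨a, rfl⟩)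
      (fun n y y' e => by
        refine Concrete.isLimit_ext _ (hlim n) y y' ?_
        have e' : ∀ i, G.map (WidePullback.π (fun _ : Fin (n.unop.len + 1) => f) i) y =
            G.map (WidePullback.π (fun _ : Fin (n.unop.len + 1) => f) i) y' := fun i => by
          rw [← hv, ← hv, e]
        rintro (_ | i)
        · have hb : G.map (WidePullback.base (fun _ : Fin (n.unop.len + 1) => f)) =
              G.map (WidePullback.π (fun _ : Fin (n.unop.len + 1) => f) 0) ≫ G.map f :=
            (G.congr_map (WidePullback.π_arrow _ 0)).symm.trans (G.map_comp _ _)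
          exact (ConcreteCategory.congr_hom hb y).trans ((congrArg (G.map f) (e' 0)).trans
            (ConcreteCategory.congr_hom hb y').symm)
        · exact e' i)
      (fun n x hx => by
        let c : Cone (WidePullbackShape.wideCospan K (fun _ : Fin (n.unop.len + 1) => K') (fun _ => f) ⋙ G) :=
          { pt := PUnit
            π :=
              { app := fun j => match j with
                  | none => TypeCat.ofHom fun _ => G.map f (x 0)
                  | some i => TypeCat.ofHom fun _ => x i
                naturality := by
                  rintro _ _ (_ | i)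
                  · simp only [WidePullbackShape.hom_id, CategoryTheory.Functor.map_id]
                    exact (Category.id_comp _).trans (Category.comp_id _).symm
                  · ext
                    exact (congrArg Subtype.val (hx i 0)).symm } }
        refine ⟨(hlim n).lift c PUnit.unit, fun i => (hv n i _).trans ?_⟩
        exact ConcreteCategory.congr_hom ((hlim n).fac c (some i)) PUnit.unit)
    exact (ed.map AddCommGrpCat.free.{u}).homotopyEquiv.quasiIso_hom
  haveI : Limits.PreservesFiniteLimits L := inferInstanceAs (Limits.PreservesFiniteLimits (presheafToSheaf _ _))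
  haveI : Limits.PreservesFiniteColimits L := inferInstanceAs (Limits.PreservesFiniteColimits (presheafToSheaf _ _))
  rw [hε]
  exact quasiIso_map_comp L _ ((ChainComplex.single₀ _).map ι')
    (HomologicalComplex.quasiIso_map_of_preservesHomology (hφ := hQY) _ L) (by assumption)

open CategoryTheory.Limits in
/-- Case A = Z; topos of sheaves of sets on a small site: for an epimorphism K' -> K of sheaves of sets,
the chain complex of free abelian sheaves ... -> Z[K' x_K K'] -> Z[K'] (alternating sums of the face
maps of the Cech nerve), augmented to Z[K], is a resolution of Z[K]: the augmentation is a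
quasi-isomorphism to Z[K] placed in degree 0. (An epimorphic family (U_i -> X) is replaced here by
the single epimorphism from its coproduct, which gives the same complex.) -/
theorem result {C : Type u} [SmallCategory C] (J : GrothendieckTopology C)
    {K' K : Sheaf J (Type u)} (f : K' ⟶ K) [Epi f] :
    QuasiIso ((AlgebraicTopology.AlternatingFaceMapComplex.ε (C := Sheaf J AddCommGrpCat.{u})).app
      (((SimplicialObject.Augmented.whiskering _ _).obj (Sheaf.composeAndSheafify J AddCommGrpCat.free.{u})).obj
        (Arrow.mk f).augmentedCechNerve)) := by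
  exact main J f

end Groth.Agent.S6161
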