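import Groth.Statements.S0914
import Groth.Agent.DCohPerf.PerfAmp
-- import your own Groth.Agent.* helpers here

set_option autoImplicit false
universe u
open CategoryTheory
attribute [local instance] HasDerivedCategory.standard
open DCoh

namespace Groth.Agent.S0914

open AlgebraicGeometry in
/-- An object E of D(O_X) is perfect if and only if it is m-pseudo-coherent for every m and locally has
finite tor dimension. -/
theorem result {X : Scheme.{u}} (E : DCoh.D X) :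
    DCoh.IsPerfect E ↔ (∀ m : ℤ, DCoh.IsPseudoCoherentD m E) ∧ DCoh.LocHasFiniteTorDim E := by
  refine ⟨fun h => ⟨fun m => Groth.Agent.DCohPerf.isPC_of_isPerfect h, fun x => ?_⟩, fun h => ?_⟩
  · obtain ⟨V, hx, hV⟩ := h x
    obtain ⟨P, hP, ⟨e⟩⟩ := hV (DerivedCategory.Q.objPreimage E) ⟨DerivedCategory.Q.objObjPreimageIso E⟩
    obtain ⟨⟨a, b, hz⟩, hl⟩ := hP
    refine ⟨V, a, b, hx, fun F ⟨d⟩ => ?_⟩
    exact Groth.Agent.DCohPerf.flatAmp_iso
      (e.symm ≪≫ (Groth.Agent.DCohPerf.RQ V.ι _).symm ≪≫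
        (Groth.Agent.DCohPerf.RD V.ι).mapIso (DerivedCategory.Q.objObjPreimageIso E ≪≫ d.symm) ≪≫
          Groth.Agent.DCohPerf.RQ V.ι F)
      ⟨P, hz, fun i => Groth.Agent.ModGroth.Perf.isFlat_of_isFinLocFree (hl i), ⟨CategoryTheory.Iso.refl _⟩⟩
  · refine Groth.Agent.DCohPerf.isPerfect_of_locally fun x => ?_
    obtain ⟨V, a, b, hx, hV⟩ := h.2 x
    have hamp := Groth.Agent.DCohPerf.flatAmp_iso
      ((Groth.Agent.DCohPerf.RQ V.ι _).symm ≪≫ (Groth.Agent.DCohPerf.RD V.ι).mapIso (DerivedCategory.Q.objObjPreimageIso E))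
      (hV (DerivedCategory.Q.objPreimage E) ⟨DerivedCategory.Q.objObjPreimageIso E⟩)
    exact ⟨V, V.ι, inferInstance, ⟨x, hx⟩, rfl,
      Groth.Agent.DCohPerf.isPerfect_of_flatAmp (Groth.Agent.DCohPerf.isPC_restrict (h.1 (a - 1)) V.ι) hamp⟩

end Groth.Agent.S0914
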