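import Groth.Statements.S0915
import Groth.Agent.ModGroth.Amplitude
-- import your own Groth.Agent.* helpers here

set_option autoImplicit false
universe u
open CategoryTheory
attribute [local instance] HasDerivedCategory.standard
open DCoh

namespace Groth.Agent.S0915

open AlgebraicGeometry CategoryTheory.Limits in
/-- On a scheme X, let K and L be objects of D(𝒪_X). If K ⊕ L has tor-amplitude in [a, b] then K and L
each have tor-amplitude in [a, b]. (The hypothesis is taken in the flat-representative form and the
conclusion in the derived-tensor form.) -/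
theorem result {X : Scheme.{u}} (K L : DCoh.D X) [HasBinaryBiproduct K L] (a b : ℤ)
    (h : DCoh.HasFlatAmplitudeIn a b (K ⊞ L)) : DCoh.HasTorAmplitudeIn a b K ∧ DCoh.HasTorAmplitudeIn a b L := by
  have h' := Groth.Agent.ModGroth.Amp.tor_of_flatAmp h
  have key : ∀ (M : DCoh.D X) (s : M ⟶ K ⊞ L) (r : K ⊞ L ⟶ M), s ≫ r = 𝟙 M →
      DCoh.HasTorAmplitudeIn a b M := fun M s r hsr F _ i hi => by
    rw [IsZero.iff_id_eq_zero]
    let G := DCoh.LTensorMod F ⋙ DerivedCategory.homologyFunctor X.Modules i
    have hz : IsZero (G.obj (K ⊞ L)) := h' F i hi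
    calc 𝟙 (G.obj M) = G.map s ≫ G.map r := by rw [← G.map_comp, hsr, G.map_id]
      _ = 0 := by rw [hz.eq_zero_of_tgt (G.map s), zero_comp]
  exact ⟨key K biprod.inl biprod.fst biprod.inl_fst, key L biprod.inr biprod.snd biprod.inr_snd⟩

end Groth.Agent.S0915
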