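import Groth.Statements.S0919
import Mathlib

set_option autoImplicit false
universe v u
open CategoryTheory
open CohDer

namespace Groth.Agent.S0919

open CategoryTheory.Limits in
/-- Let A be a Grothendieck abelian category and F a contravariant functor from A to sets (a functor on
the opposite category). Then F is representable if and only if F turns all small colimits of A into
limits, i.e. preserves small limits as a functor on the opposite category. -/
theorem result {A : Type u} [Category.{v} A] [Abelian A]
    [IsGrothendieckAbelian.{v} A] (F : Aᵒᵖ ⥤ Type v) :
    F.IsRepresentable ↔ PreservesLimitsOfSize.{v, v} F := by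
  constructor
  · intro hF
    haveI := hF
    exact preservesLimits_of_natIso F.reprW
  · intro hF
    haveI := hF
    haveI : HasLimitsOfSize.{v, v} Aᵒᵖ := inferInstance
    haveI : F.IsRightAdjoint :=
      isRightAdjoint_of_preservesLimits_of_isCoseparating.{v}
        ((isCoseparator_op_iff _).2 (isSeparator_separator A)) F
    let adj := Adjunction.ofIsRightAdjoint F
    exact (show F.RepresentableBy (F.leftAdjoint.obj PUnit).unop from
      { homEquiv := fun {X} =>
          ((opEquiv (F.leftAdjoint.obj PUnit) (Opposite.op X)).symm).trans
            ((adj.homEquiv PUnit (Opposite.op X)).trans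
              ⟨fun f => (f : PUnit → _) PUnit.unit, fun x => TypeCat.ofHom (fun _ => x), fun f => by ext ⟨⟩; rfl, fun x => rfl⟩)
        homEquiv_comp := fun f g => by
          change (adj.homEquiv PUnit _ (g.op ≫ f.op) : PUnit → _) PUnit.unit = _
          rw [adj.homEquiv_naturality_right]
          rfl }).isRepresentable

end Groth.Agent.S0919
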