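import Groth.Statements.S0923
import Groth.Agent.DCohPerf.Summand
import Mathlib.Data.Int.Interval
-- import your own Groth.Agent.* helpers here

set_option autoImplicit false
universe u
open CategoryTheory
attribute [local instance] HasDerivedCategory.standard
open DCoh

namespace Groth.Agent.S0923

open AlgebraicGeometry CategoryTheory.Limits in
/-- On a scheme X, an object E of D(𝒪_X) is perfect if and only if every point has an open neighbourhood
V such that the restriction to V of any complex representing E is isomorphic in D(𝒪_V) to a bounded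
complex each of whose terms is isomorphic to a finite free 𝒪_V-module. (The published statement is
for ringed spaces whose stalks are local rings and lists further equivalent conditions; here X is a
scheme and only this equivalence is stated.) -/
theorem result {X : Scheme.{u}} (E : DCoh.D X) :
    DCoh.IsPerfect E ↔ ∀ x : X, ∃ V : X.Opens, x ∈ V ∧
      ∀ F : CochainComplex X.Modules ℤ, Nonempty (DCoh.toD X F ≅ E) →
        ∃ (P : CochainComplex (V : Scheme.{u}).Modules ℤ) (a b : ℤ), DCoh.VanishesOutside P a b ∧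
          (∀ i : ℤ, ∃ n : ℕ, Nonempty (P.X i ≅ FlatMod.freeMod (V : Scheme.{u}) n)) ∧
          Nonempty (DerivedCategory.Q.obj ((DCoh.restrictCx V).obj F) ≅ DerivedCategory.Q.obj P) := by
  constructor
  · intro hE x
    obtain ⟨W, j, hj, w, hw, P, hP, ⟨e⟩⟩ := (DCohPerf.isPerfect_iff E).1 hE x
    obtain ⟨a, b, hz⟩ := hP.1
    obtain ⟨W₁, g, hg, w₁, hw₁, hfree⟩ := DCohPerf.exists_free_finset P.X hP.2 (Finset.Icc a b) w
    have hx : (g ≫ j) w₁ = x := by rw [Scheme.Hom.comp_apply, hw₁, hw]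
    obtain ⟨hm, i, hi, hij⟩ := DCohPerf.exists_opens (g ≫ j) w₁
    refine ⟨(g ≫ j).opensRange, hx ▸ hm, fun F ⟨eF⟩ => ⟨(DCohPerf.rC i).obj ((DCohPerf.rC g).obj P), a, b,
      fun k hk => (DCohPerf.rF i).map_isZero ((DCohPerf.rF g).map_isZero (hz k hk)), fun k => ?_, ⟨?_⟩⟩⟩
    · by_cases hk : a ≤ k ∧ k ≤ b
      · obtain ⟨n, ⟨d⟩⟩ := hfree k (Finset.mem_Icc.2 hk)
        exact ⟨n, ⟨(DCohPerf.rF i).mapIso d ≪≫ LocFree.restrictFreeIso i n⟩⟩
      · refine ⟨0, ⟨IsZero.iso ((DCohPerf.rF i).map_isZero ((DCohPerf.rF g).map_isZero (hz k (by omega)))) ?_⟩⟩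
        exact (IsZero.iff_id_eq_zero _).2 (Sigma.hom_ext _ _ fun i => i.elim0)
    · exact (DCohPerf.RQ _ F).symm ≪≫ (DCohPerf.RD _).mapIso eF ≪≫ (DCohPerf.RDCongr hij.symm).app E ≪≫
        (DCohPerf.RDComp i (g ≫ j)).app E ≪≫ (DCohPerf.RD i).mapIso ((DCohPerf.RDComp g j).app E ≪≫
          (DCohPerf.RD g).mapIso e.symm ≪≫ DCohPerf.RQ g P) ≪≫ DCohPerf.RQ i _
  · intro h x
    obtain ⟨V, hx, hV⟩ := h x
    refine ⟨V, hx, fun F hF => ?_⟩
    obtain ⟨P, a, b, hz, hfree, hiso⟩ := hV F hF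
    exact ⟨P, ⟨⟨a, b, hz⟩, fun k => by
      obtain ⟨n, ⟨d⟩⟩ := hfree k
      exact LocFree.IsFinLocFree.of_iso d.symm (DCohPerf.isFinLocFree_free n)⟩, hiso⟩

end Groth.Agent.S0923
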