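import Groth.Statements.S0924
import Groth.Agent.DCohPerf.Summand
-- import your own Groth.Agent.* helpers here

set_option autoImplicit false
universe u
open CategoryTheory
attribute [local instance] HasDerivedCategory.standard
open DCoh

namespace Groth.Agent.S0924

open AlgebraicGeometry CategoryTheory.Limits in
/-- Perfectness of objects of D(O_X) passes to direct summands: K and L are perfect as soon as K ⊕ L is. -/
theorem result {X : Scheme.{u}} (K L : DCoh.D X) [HasBinaryBiproduct K L]
    (h : DCoh.IsPerfect (K ⊞ L)) : DCoh.IsPerfect K ∧ DCoh.IsPerfect L := by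
  exact ⟨DCohPerf.isPerfect_summand K L h,
    DCohPerf.isPerfect_summand L K (DCohPerf.isPerfect_of_iso h (Limits.biprod.braiding K L))⟩

end Groth.Agent.S0924
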