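import Groth.Statements.S0926
import Groth.Agent.CohColim.Cyclic
import Groth.Agent.CohVanish.Global
import Groth.Agent.SpecColim.Basic
import Mathlib.GroupTheory.Archimedean
import Mathlib.Topology.Irreducible

set_option autoImplicit false
universe u
open CategoryTheory
open CohTop

set_option linter.style.haveILetI false
set_option backward.isDefEq.respectTransparency false
set_option backward.isDefEq.respectTransparency.types false

namespace Groth.Agent.S0926

open TopologicalSpace CategoryTheory.Limits Opposite Groth.Agent.CohVanish Groth.Agent.CompactPull Groth.Agent.CohColim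
open scoped Groth.Agent.CohVanish

/-- Subobjects compared locally on sections. -/
lemma imageSubobject_le_of_local {Y : TopCat.{u}} {A B C : AbSh Y} (f : A ⟶ C) (g : B ⟶ C)
    (h : ∀ (V : Opens Y) (t : A.obj.obj (op V)), ∀ y ∈ V, ∃ (W : Opens Y) (hW : W ≤ V), y ∈ W ∧
      ∃ b, g.hom.app (op W) b = f.hom.app (op W) (A.obj.map (homOfLE hW).op t)) :
    imageSubobject f ≤ imageSubobject g := by
  have h0 : f ≫ cokernel.π (imageSubobject g).arrow = 0 := by
    apply Sheaf.hom_ext
    ext V t
    refine eq_of_gm _ _ _ fun y hy => ?_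
    obtain ⟨W, hW, hyW, b, hb⟩ := h V.unop t y hy
    refine ((gm_res _ hW _ y hyW).symm.trans (congrArg (gm _ W y hyW) ?_)).trans ((map_zero _).trans (map_zero _).symm)
    rw [← SpecColim.app_res]
    change (cokernel.π (imageSubobject g).arrow).hom.app (op W) (f.hom.app (op W) _) = 0
    rw [← hb, ← SpecColim.app_comp g (cokernel.π (imageSubobject g).arrow) W b,
      show g ≫ cokernel.π (imageSubobject g).arrow = 0 by
        refine (congrArg (fun t => t ≫ cokernel.π (imageSubobject g).arrow) (imageSubobject_arrow_comp g).symm).trans ?_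
        rw [Category.assoc, cokernel.condition, comp_zero]]
    rfl
  exact imageSubobject_le f (Abelian.monoLift _ f h0) (Abelian.monoLift_comp _ _ _)

open TopologicalSpace CategoryTheory.Limits in
/-- Let X be an irreducible topological space and H an abelian subsheaf of the constant sheaf Z (given
by a monomorphism ι). Then there are a nonempty open U and an integer d such that over U the
subsheaf H coincides with the image of multiplication by d on the constant sheaf: the images of ι|_U
and of (d · id)|_U agree as subobjects of the constant sheaf on U. -/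
theorem result {X : TopCat.{u}} [IrreducibleSpace X]
    (H : CohTop.Ab X) (ι : H ⟶ CohTop.const X (ULift.{u} ℤ)) [Mono ι] :
    ∃ (U : Opens X) (d : ℤ), U ≠ ⊥ ∧
      imageSubobject ((CohTop.restrFunctor U).map ι) =
        imageSubobject ((CohTop.restrFunctor U).map (d • 𝟙 (CohTop.const X (ULift.{u} ℤ)))) := by
  let Z : AbSh X := CohTop.const X (ULift.{u} ℤ)
  let e : freeSh (⊤ : Opens X) ⟶ Z := (Groth.Agent.CohVanish.zIso X).hom
  haveI : Epi e := inferInstanceAs (Epi (Groth.Agent.CohVanish.zIso X).hom)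
  let c : Z.obj.obj (op ⊤) := e.hom.app (op ⊤) (Groth.Agent.CohVanish.gen ⊤)
  let cV : ∀ V : Opens X, Z.obj.obj (op V) := fun V => Z.obj.map (homOfLE le_top).op c
  have cres : ∀ {V W : Opens X} (h : W ≤ V), Z.obj.map (homOfLE h).op (cV V) = cV W :=
    fun {V W} h => SpecColim.res_res Z h le_top c
  have hloc : ∀ (V : Opens X) (t : Z.obj.obj (op V)), ∀ x ∈ V, ∃ (W : Opens X) (hW : W ≤ V), x ∈ W ∧
      ∃ n : ℤ, Z.obj.map (homOfLE hW).op t = n • cV W := fun V t x hx => by
    obtain ⟨n, hn⟩ := (isCyc_freeSh ⊤).gen_of_epi e (show x ∈ (⊤ : Opens X) from trivial) (gm Z V x hx t)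
    obtain ⟨W, hxW, i, j, he⟩ := TopCat.Presheaf.germ_eq Z.obj x hx (show x ∈ (⊤ : Opens X) from trivial) t (n • c)
      (hn.trans (map_zsmul _ n _).symm)
    exact ⟨W, i.le, hxW, n, he.trans (map_zsmul _ n c)⟩
  let A : AddSubgroup ℤ :=
    { carrier := {n | ∃ (V : Opens X), (V : Set X).Nonempty ∧ ∃ h : H.obj.obj (op V), ι.hom.app (op V) h = n • cV V}
      zero_mem' := ⟨⊤, Set.univ_nonempty, 0, (map_zero _).trans (zero_smul ℤ _).symm⟩
      add_mem' := by
        rintro a b ⟨V, hV, s, hs⟩ ⟨V', hV', s', hs'⟩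
        refine ⟨V ⊓ V', nonempty_preirreducible_inter V.2 V'.2 hV hV',
          H.obj.map (homOfLE inf_le_left).op s + H.obj.map (homOfLE inf_le_right).op s', ?_⟩
        rw [map_add, SpecColim.app_res, SpecColim.app_res, hs, hs', map_zsmul, map_zsmul, cres, cres, add_zsmul]
      neg_mem' := by
        rintro a ⟨V, hV, s, hs⟩
        exact ⟨V, hV, -s, by rw [map_neg, hs, neg_zsmul]⟩ }
  obtain ⟨d, hd⟩ := Int.subgroup_cyclic A
  have hdA : d ∈ A := hd ▸ AddSubgroup.subset_closure rfl
  obtain ⟨U, ⟨x₀, hx₀⟩, h₀, hh₀⟩ := hdA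
  refine ⟨U, d, fun e => ?_, le_antisymm (imageSubobject_le_of_local _ _ ?_) (imageSubobject_le_of_local _ _ ?_)⟩
  · rw [e] at hx₀
    exact hx₀
  · intro V t y hy
    obtain ⟨W, hW, hyW, n, hn⟩ := hloc _ (ι.hom.app (op _) t) (y : X) ⟨y, hy, rfl⟩
    have hnA : n ∈ A := ⟨W, ⟨_, hyW⟩, H.obj.map (homOfLE hW).op t, (SpecColim.app_res ι hW t).trans hn⟩
    obtain ⟨k, hk⟩ := AddSubgroup.mem_closure_singleton.1 (hd ▸ hnA)
    let W' : Opens (TopCat.of U) := (Opens.map (CohCx.incl U)).obj W ⊓ V
    have hle : U.isOpenEmbedding.isOpenMap.functor.obj W' ≤ W := by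
      rintro _ ⟨z, hz, rfl⟩
      exact hz.1
    refine ⟨W', inf_le_right, ⟨hyW, hy⟩, k • cV (U.isOpenEmbedding.isOpenMap.functor.obj W'), ?_⟩
    show (d • 𝟙 Z).hom.app (op _) (k • cV _) = ι.hom.app (op _) _
    refine Eq.trans ?_ (SpecColim.app_res ι (U.isOpenEmbedding.isOpenMap.functor.monotone (inf_le_right : W' ≤ V)) t).symm
    rw [← SpecColim.res_res Z hle hW, hn]
    refine Eq.trans ?_ ((map_zsmul _ n _).trans (congrArg (n • ·) (cres hle))).symm
    show d • (k • cV _) = n • cV _
    rw [← mul_zsmul, ← hk, smul_eq_mul, mul_comm d k]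
  · intro V t y hy
    obtain ⟨W, hW, hyW, n, hn⟩ := hloc _ t (y : X) ⟨y, hy, rfl⟩
    let W' : Opens (TopCat.of U) := (Opens.map (CohCx.incl U)).obj W ⊓ V
    have hle : U.isOpenEmbedding.isOpenMap.functor.obj W' ≤ W := by
      rintro _ ⟨z, hz, rfl⟩
      exact hz.1
    have hleU : U.isOpenEmbedding.isOpenMap.functor.obj W' ≤ U := by
      rintro _ ⟨z, -, rfl⟩
      exact z.2
    refine ⟨W', inf_le_right, ⟨hyW, hy⟩, n • H.obj.map (homOfLE hleU).op h₀, ?_⟩
    show ι.hom.app (op _) (n • H.obj.map (homOfLE hleU).op h₀) = d • Z.obj.map _ t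
    rw [map_zsmul, SpecColim.app_res, hh₀, map_zsmul, cres]
    have e2 : Z.obj.map (homOfLE (U.isOpenEmbedding.isOpenMap.functor.monotone (inf_le_right : W' ≤ V))).op t =
        n • cV (U.isOpenEmbedding.isOpenMap.functor.obj W') := by
      rw [← SpecColim.res_res Z hle hW, hn, map_zsmul, cres]
    refine Eq.trans ?_ (congrArg (d • ·) e2.symm)
    rw [← mul_zsmul, ← mul_zsmul, mul_comm]

end Groth.Agent.S0926
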