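import Groth.Statements.S0930
import Groth.Agent.DerAdj.Basic
import Groth.Agent.KerDerived.LocCohSeq
import Groth.Agent.SSExist.PullTop
-- import your own Groth.Agent.* helpers here

set_option autoImplicit false
universe u
open CategoryTheory
attribute [local instance] HasDerivedCategory.standard
open CohTop

namespace Groth.Agent.S0930

theorem nonempty_comp_rightDerivedFunctorPlus {A B C : Type*} [Category* A] [Category* B] [Category* C]
    [Abelian A] [Abelian B] [Abelian C] [HasDerivedCategory A] [HasDerivedCategory B] [HasDerivedCategory C]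
    [EnoughInjectives A] [EnoughInjectives B] (F : A ⥤ B) (G : B ⥤ C) [F.Additive] [G.Additive]
    (hF : ∀ I : A, Injective I → Injective (F.obj I)) :
    Nonempty (F.rightDerivedFunctorPlus ⋙ G.rightDerivedFunctorPlus ≅ (F ⋙ G).rightDerivedFunctorPlus) := by
  let W := HomotopyCategory.Plus.quasiIso A
  let γ : (F ⋙ G).mapHomotopyCategoryPlus ⋙ DerivedCategory.Plus.Qh ⟶
      F.mapHomotopyCategoryPlus ⋙ G.mapHomotopyCategoryPlus ⋙ DerivedCategory.Plus.Qh :=
    { app := fun X => 𝟙 (DerivedCategory.Plus.Qh.obj (G.mapHomotopyCategoryPlus.obj (F.mapHomotopyCategoryPlus.obj X)))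
      naturality := fun X Y f => by
        refine (Category.comp_id _).trans (Eq.trans ?_ (Category.id_comp _).symm)
        refine congrArg DerivedCategory.Plus.Qh.map (ObjectProperty.hom_ext _ ?_)
        obtain ⟨⟨K⟩, hK⟩ := X
        obtain ⟨⟨L⟩, hL⟩ := Y
        obtain ⟨⟨f'⟩⟩ := f
        rfl }
  let β := γ ≫ Functor.whiskerLeft F.mapHomotopyCategoryPlus G.rightDerivedFunctorPlusUnit ≫
    (Functor.associator _ _ _).inv ≫ Functor.whiskerRight F.rightDerivedFunctorPlusUnit G.rightDerivedFunctorPlus ≫
      (Functor.associator _ _ _).hom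
  let F' : InjectiveObject A ⥤ InjectiveObject B :=
    ObjectProperty.lift _ (InjectiveObject.ι A ⋙ F) (fun I => hF _ I.property)
  haveI : F'.Additive := ⟨fun {X Y f g} => by
    apply (InjectiveObject.ι B).map_injective
    exact ((InjectiveObject.ι A ⋙ F).map_add)⟩
  let P := (F ⋙ G).rightDerivedFunctorPlus
  let u := (F ⋙ G).rightDerivedFunctorPlusUnit
  let τ := P.rightDerivedDesc u W (F.rightDerivedFunctorPlus ⋙ G.rightDerivedFunctorPlus) β
  haveI := Localization.essSurj DerivedCategory.Plus.Qh W
  haveI : ∀ Y : DerivedCategory.Plus A, IsIso (τ.app Y) := fun Y => by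
    obtain ⟨K, hK⟩ := HomotopyCategory.Plus.quotient_obj_surjective (DerivedCategory.Plus.Qh.objPreimage Y)
    obtain ⟨n, hn⟩ := K.property
    haveI := hn
    obtain ⟨L, -, i, hi⟩ := CochainComplex.Plus.exists_quasiIso_injective K n
    let I := (HomotopyCategory.Plus.quotient A).obj ((InjectiveObject.ι A).mapCochainComplexPlus.obj L)
    haveI : IsIso (u.app I) := inferInstance
    haveI h1 : IsIso (F.rightDerivedFunctorPlusUnit.app I) := inferInstance
    haveI h2 : IsIso (G.rightDerivedFunctorPlusUnit.app (F.mapHomotopyCategoryPlus.obj I)) :=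
      inferInstanceAs (IsIso (G.rightDerivedFunctorPlusUnit.app
        ((HomotopyCategory.Plus.quotient B).obj
          ((InjectiveObject.ι B).mapCochainComplexPlus.obj (F'.mapCochainComplexPlus.obj L)))))
    haveI : IsIso (γ.app I) := inferInstanceAs (IsIso (𝟙 (DerivedCategory.Plus.Qh.obj
      (G.mapHomotopyCategoryPlus.obj (F.mapHomotopyCategoryPlus.obj I)))))
    haveI : IsIso (β.app I) := by
      show IsIso (γ.app I ≫ G.rightDerivedFunctorPlusUnit.app (F.mapHomotopyCategoryPlus.obj I) ≫ 𝟙 _ ≫
        G.rightDerivedFunctorPlus.map (F.rightDerivedFunctorPlusUnit.app I) ≫ 𝟙 _)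
      infer_instance
    haveI : IsIso (τ.app (DerivedCategory.Plus.Qh.obj I)) :=
      @IsIso.of_isIso_fac_left _ _ _ _ _ (u.app I) _ _ _ ‹_› (P.rightDerived_fac_app u W _ β I)
    let s : (DerivedCategory.Plus.Qh.objPreimage Y) ⟶ I :=
      eqToHom hK.symm ≫ (HomotopyCategory.Plus.quotient A).map i
    haveI : IsIso (DerivedCategory.Plus.Qh.map s) := by
      haveI : IsIso (DerivedCategory.Plus.Qh.map ((HomotopyCategory.Plus.quotient A).map i)) :=
        Localization.inverts DerivedCategory.Plus.Qh W _
          ((HomotopyCategory.quotient_map_mem_quasiIso_iff i.hom).2 hi)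
      rw [Functor.map_comp]; infer_instance
    exact (NatTrans.isIso_app_iff_of_iso τ
      ((DerivedCategory.Plus.Qh.objObjPreimageIso Y).symm ≪≫ asIso (DerivedCategory.Plus.Qh.map s))).mpr inferInstance
  haveI : IsIso τ := NatIso.isIso_of_isIso_app τ
  exact ⟨(asIso τ).symm⟩

/-- For continuous maps f : X -> Y and g : Y -> Z, the composite of the right derived functors Rf_* :
D^+(X) -> D^+(Y) and Rg_* : D^+(Y) -> D^+(Z) is isomorphic to R(g ∘ f)_* (existence of an
isomorphism of functors between bounded below derived categories). -/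
theorem result {X Y Z : TopCat.{u}} (f : X ⟶ Y) (g : Y ⟶ Z) :
    Nonempty ((CohTop.push f).rightDerivedFunctorPlus ⋙ (CohTop.push g).rightDerivedFunctorPlus ≅
      (CohTop.push (f ≫ g)).rightDerivedFunctorPlus) := by
  haveI := Groth.Agent.KerDerived.push_additive f
  haveI := Groth.Agent.KerDerived.push_additive g
  exact nonempty_comp_rightDerivedFunctorPlus (CohTop.push f) (CohTop.push g) fun I hI => by
    haveI := Groth.Agent.SSExist.preservesFiniteLimits_pullTop f
    haveI : (TopCat.Sheaf.pullback AddCommGrpCat.{u} f).PreservesMonomorphisms :=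
      inferInstanceAs ((CohTop.pull f).PreservesMonomorphisms)
    exact (TopCat.Sheaf.pullbackPushforwardAdjunction AddCommGrpCat.{u} f).map_injective I hI

end Groth.Agent.S0930
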