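import Groth.Statements.S0934
import Groth.Agent.DCohPerf.Local

set_option autoImplicit false
universe u
open CategoryTheory
open Coh

namespace Groth.Agent.S0934

open AlgebraicGeometry in
/-- Schemes; E finite locally free, which on a scheme is locally the same as a direct summand of a
finite free module: let p : G -> F be an epimorphism of O_X-modules and φ : E -> F a morphism with E
finite locally free. Then every point has an open neighbourhood V and a morphism ψ : E|_V -> G|_V
with ψ ≫ p|_V = φ|_V. -/
theorem result {X : Scheme.{u}} {E F G : X.Modules} (p : G ⟶ F) [Epi p] (φ : E ⟶ F)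
    (hE : FlatMod.IsFinLocFree E) (x : X) :
    ∃ (V : X.Opens) (ψ : E.restrict V.ι ⟶ G.restrict V.ι), x ∈ V ∧
      ψ ≫ (Scheme.Modules.restrictFunctor V.ι).map p = (Scheme.Modules.restrictFunctor V.ι).map φ := by
  obtain ⟨W, j, hj, w, hjw, l, hl⟩ := Groth.Agent.DCohPerf.exists_local_lift p hE φ x
  obtain ⟨hmem, i, hi, hij⟩ := Groth.Agent.DCohPerf.exists_opens j w
  let c : Scheme.Modules.restrictFunctor j.opensRange.ι ≅
      Groth.Agent.DCohPerf.rF j ⋙ Groth.Agent.DCohPerf.rF i :=
    Scheme.Modules.restrictFunctorCongr hij.symm ≪≫ Groth.Agent.DCohPerf.rFComp i j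
  refine ⟨j.opensRange, c.hom.app E ≫ (Groth.Agent.DCohPerf.rF i).map l ≫ c.inv.app G, hjw ▸ hmem, ?_⟩
  have hn : c.inv.app G ≫ (Scheme.Modules.restrictFunctor j.opensRange.ι).map p =
      (Groth.Agent.DCohPerf.rF i).map ((Groth.Agent.DCohPerf.rF j).map p) ≫ c.inv.app F := (c.inv.naturality p).symm
  rw [Category.assoc, Category.assoc, hn, ← Functor.map_comp_assoc, hl]
  exact (congrArg (fun t => c.hom.app E ≫ t) (c.inv.naturality φ)).trans (Iso.hom_inv_id_app_assoc c E _)

end Groth.Agent.S0934
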