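import Groth.Statements.S0966
import Groth.Agent.ModGroth.PushTensor
import Groth.Agent.ModGroth.LTensorCx
import Mathlib.Algebra.Homology.DerivedCategory.ExactFunctor
-- import your own Groth.Agent.* helpers here

set_option autoImplicit false
universe u
open CategoryTheory
attribute [local instance] HasDerivedCategory.standard
open DCoh

namespace Groth.Agent.S0966

open AlgebraicGeometry in
/-- Schemes, f a closed immersion; K given by a K-flat complex P so that Lf^*K is f^*P: for E in D(O_X)
there is an isomorphism Rf_* E ⊗^L P ≅ Rf_*(E ⊗^L f^* P), with no perfectness assumption on P. The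
derived functors are taken under their existence binders. -/
theorem result {X Y : Scheme.{u}} (f : X ⟶ Y) [IsClosedImmersion f] [DCoh.HasRpush f]
    (P : CochainComplex Y.Modules ℤ) (hP : DCoh.IsKFlat P)
    [DCoh.HasLTensorCx P] [DCoh.HasLTensorCx (((Scheme.Modules.pullback f).mapHomologicalComplex (ComplexShape.up ℤ)).obj P)] (E : DCoh.D X) :
    Nonempty ((DCoh.LTensorCx P).obj ((DCoh.Rpush f).obj E) ≅
      (DCoh.Rpush f).obj ((DCoh.LTensorCx (((Scheme.Modules.pullback f).mapHomologicalComplex (ComplexShape.up ℤ)).obj P)).obj E)) := by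
  haveI := ModGroth.PushStalk.preservesHomology_push f
  haveI : Limits.PreservesFiniteLimits (AlgebraicGeometry.Scheme.Modules.pushforward f) :=
    (AlgebraicGeometry.Scheme.Modules.pushforward f).preservesFiniteLimits_of_preservesHomology
  haveI : Limits.PreservesFiniteColimits (AlgebraicGeometry.Scheme.Modules.pushforward f) :=
    (AlgebraicGeometry.Scheme.Modules.pushforward f).preservesFiniteColimits_of_preservesHomology
  let F := AlgebraicGeometry.Scheme.Modules.pushforward f
  haveI h1 : (F.mapDerivedCategory).IsRightDerivedFunctor F.mapDerivedCategoryFactorsh.inv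
      (HomotopyCategory.quasiIso X.Modules (ComplexShape.up ℤ)) :=
    Functor.isRightDerivedFunctor_of_inverts _ F.mapDerivedCategory F.mapDerivedCategoryFactorsh
  let e : DCoh.Rpush f ≅ F.mapDerivedCategory :=
    Functor.rightDerivedUnique (DCoh.Rpush f) F.mapDerivedCategory
      ((DCoh.pushKh f).totalRightDerivedUnit DerivedCategory.Qh
        (HomotopyCategory.quasiIso X.Modules (ComplexShape.up ℤ)))
      F.mapDerivedCategoryFactorsh.inv (HomotopyCategory.quasiIso X.Modules (ComplexShape.up ℤ))
  let v : ∀ L : CochainComplex X.Modules ℤ, (DCoh.Rpush f).obj (DCoh.toD X L) ≅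
      DCoh.toD Y ((F.mapHomologicalComplex (ComplexShape.up ℤ)).obj L) := fun L =>
    e.app _ ≪≫ F.mapDerivedCategoryFactors.app L
  obtain ⟨K, ⟨i⟩⟩ : ∃ K : CochainComplex X.Modules ℤ, Nonempty (DCoh.toD X K ≅ E) :=
    ⟨DerivedCategory.Q.objPreimage E, ⟨DerivedCategory.Q.objObjPreimageIso E⟩⟩
  exact ⟨(DCoh.LTensorCx P).mapIso ((DCoh.Rpush f).mapIso i.symm ≪≫ v K) ≪≫
    ModGroth.ltenValueIso' P hP _ ≪≫
    DerivedCategory.Q.mapIso (ModGroth.PushStalk.projTotIso f K P) ≪≫
    (v _).symm ≪≫
    (DCoh.Rpush f).mapIso ((ModGroth.ltenValueIso' _ (ModGroth.Stalk.isKFlat_pullback f P hP) K).symm ≪≫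
      (DCoh.LTensorCx _).mapIso i)⟩

end Groth.Agent.S0966
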