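import Groth.Statements.S0973
import Groth.Agent.TriH.TruncMap
-- import your own Groth.Agent.* helpers here

set_option autoImplicit false
universe w v u
open CategoryTheory CategoryTheory.Limits
open CohDer

namespace Groth.Agent.S0973

set_option linter.style.haveILetI false
open CategoryTheory.Pretriangulated DerivedCategory

section

variable {A : Type u} [Category.{v} A] [Abelian A] [HasDerivedCategory.{w} A]

lemma zero_single {M N : A} (i j : ℤ) (p : ℕ) (hp : i + 1 = (p : ℤ) + j)
    (h : ∀ f : (singleFunctor A 0).obj M ⟶ ((singleFunctor A 0).obj N)⟦(p : ℤ)⟧, f = 0)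
    (f : (singleFunctor A i).obj M ⟶ ((singleFunctor A j).obj N)⟦(1 : ℤ)⟧) : f = 0 := by
  let eM : ((singleFunctor A i).obj M)⟦i⟧ ≅ (singleFunctor A 0).obj M :=
    ((DerivedCategory.singleFunctors A).shiftIso i 0 i (add_zero i)).app M
  let eN : ((singleFunctor A j).obj N)⟦j⟧ ≅ (singleFunctor A 0).obj N :=
    ((DerivedCategory.singleFunctors A).shiftIso j 0 j (add_zero j)).app N
  let e : (((singleFunctor A j).obj N)⟦(1 : ℤ)⟧)⟦i⟧ ≅ ((singleFunctor A 0).obj N)⟦(p : ℤ)⟧ :=
    ((shiftFunctorAdd' (DerivedCategory A) 1 i ((p : ℤ) + j) (by omega)).app _).symm ≪≫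
      (shiftFunctorAdd' (DerivedCategory A) j (p : ℤ) ((p : ℤ) + j) (by omega)).app _ ≪≫
      (shiftFunctor _ (p : ℤ)).mapIso eN
  apply (shiftFunctor (DerivedCategory A) i).map_injective
  rw [Functor.map_zero, ← cancel_epi eM.inv, ← cancel_mono e.hom, comp_zero, zero_comp, Category.assoc]
  exact h _

variable (K : DerivedCategory A) (a : ℤ)
  (hExt : ∀ (i j : ℤ) (p : ℕ), j < i → 2 ≤ p →
      ∀ f : (DerivedCategory.singleFunctor A 0).obj ((DerivedCategory.homologyFunctor A i).obj K) ⟶
        ((DerivedCategory.singleFunctor A 0).obj ((DerivedCategory.homologyFunctor A j).obj K))⟦(p : ℤ)⟧, f = 0)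

include hExt in
lemma vanish : ∀ (k : ℕ) (Z : DerivedCategory A) [Z.IsGE a] [Z.IsLE (a + (k : ℤ) - 1)],
    (∀ j, j ≤ a + (k : ℤ) - 1 → Nonempty ((homologyFunctor A j).obj Z ≅ (homologyFunctor A j).obj K)) →
    ∀ (i : ℤ), a + (k : ℤ) ≤ i → ∀ f : (singleFunctor A i).obj ((homologyFunctor A i).obj K) ⟶ Z⟦(1 : ℤ)⟧,
      f = 0 := by
  intro k
  induction k with
  | zero =>
    intro Z _ _ _ i _ f
    have hZ : IsZero Z := TStructure.t.isZero Z (a + ((0 : ℕ) : ℤ) - 1) a (by omega)
    exact ((shiftFunctor _ (1 : ℤ)).map_isZero hZ).eq_of_tgt _ _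
  | succ k ih =>
    intro Z _ hZle hH i hi f
    obtain ⟨m, rfl⟩ : ∃ m, m = a + (k : ℤ) := ⟨_, rfl⟩
    have hT := (TStructure.t (C := A)).triangleLTGE_distinguished (a + (k : ℤ)) Z
    let W := (TStructure.t.truncLT (a + (k : ℤ))).obj Z
    haveI : W.IsGE a := inferInstanceAs (TStructure.t.IsGE _ _)
    haveI : W.IsLE (a + (k : ℤ) - 1) := inferInstanceAs (TStructure.t.IsLE _ _)
    let P := (TStructure.t.truncGE (a + (k : ℤ))).obj Z
    haveI : P.IsLE (a + (k : ℤ)) := by
      haveI : Z.IsLE (a + (k : ℤ)) := by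
        have e : a + ((k + 1 : ℕ) : ℤ) - 1 = a + (k : ℤ) := by omega
        exact e ▸ hZle
      exact inferInstanceAs (TStructure.t.IsLE _ _)
    obtain ⟨M, ⟨e⟩⟩ := P.exists_iso_singleFunctor_obj_of_isGE_of_isLE (a + (k : ℤ))
    haveI := Groth.Agent.TriH.TruncMap.isIso_homology_truncGEπ Z (a + (k : ℤ)) (a + (k : ℤ)) le_rfl
    obtain ⟨eH⟩ := hH (a + (k : ℤ)) (by omega)
    let eM : M ≅ (homologyFunctor A (a + (k : ℤ))).obj K :=
      ((singleFunctorCompHomologyFunctorIso A (a + (k : ℤ))).app M).symm ≪≫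
        (homologyFunctor A _).mapIso e.symm ≪≫
        (asIso ((homologyFunctor A (a + (k : ℤ))).map ((TStructure.t.truncGEπ (a + (k : ℤ))).app Z))).symm ≪≫ eH
    have h1 : f ≫ ((TStructure.t.truncGEπ (a + (k : ℤ))).app Z)⟦(1 : ℤ)⟧' = 0 := by
      let e' : P⟦(1 : ℤ)⟧ ≅ ((singleFunctor A (a + (k : ℤ))).obj ((homologyFunctor A (a + (k : ℤ))).obj K))⟦(1 : ℤ)⟧ :=
        (shiftFunctor _ (1 : ℤ)).mapIso (e ≪≫ (singleFunctor A _).mapIso eM)
      rw [← cancel_mono e'.hom, zero_comp]
      exact zero_single i (a + (k : ℤ)) (i - (a + (k : ℤ)) + 1).toNat (by omega)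
        (hExt i (a + (k : ℤ)) _ (by omega) (by omega)) _
    obtain ⟨g, hg⟩ := Triangle.coyoneda_exact₃ _ (rot_of_distTriang _ (rot_of_distTriang _ hT)) f (by
      show f ≫ (-((TStructure.t.truncGEπ (a + (k : ℤ))).app Z)⟦(1 : ℤ)⟧') = 0
      rw [Preadditive.comp_neg, h1, neg_zero])
    rw [hg, ih W (fun j hj => by
      haveI := Groth.Agent.TriH.TruncMap.isIso_homology_truncLTι Z (a + (k : ℤ)) j (by omega)
      obtain ⟨ej⟩ := hH j (by omega)
      exact ⟨asIso ((homologyFunctor A j).map ((TStructure.t.truncLTι (a + (k : ℤ))).app Z)) ≪≫ ej⟩)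
      i (by omega) g]
    exact zero_comp

include hExt in
lemma exists_section [K.IsGE a] (i : ℤ) (hi : a ≤ i) :
    ∃ s : (singleFunctor A i).obj ((homologyFunctor A i).obj K) ⟶ K,
      IsIso ((homologyFunctor A i).map s) := by
  let Z := (TStructure.t.truncLT (i + 1)).obj K
  haveI : Z.IsLE i := inferInstanceAs (TStructure.t.IsLE _ _)
  haveI : Z.IsGE a := inferInstanceAs (TStructure.t.IsGE _ _)
  haveI := Groth.Agent.TriH.TruncMap.isIso_homology_truncLTι K (i + 1) i (by omega)
  have hT := (TStructure.t (C := A)).triangleLTGE_distinguished i Z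
  let W := (TStructure.t.truncLT i).obj Z
  let P := (TStructure.t.truncGE i).obj Z
  haveI : W.IsGE a := inferInstanceAs (TStructure.t.IsGE _ _)
  haveI : W.IsLE (a + ((i - a).toNat : ℤ) - 1) := by
    have e : a + ((i - a).toNat : ℤ) - 1 = i - 1 := by omega
    rw [e]
    exact inferInstanceAs (TStructure.t.IsLE _ _)
  haveI : P.IsLE i := inferInstanceAs (TStructure.t.IsLE _ _)
  obtain ⟨M, ⟨e⟩⟩ := P.exists_iso_singleFunctor_obj_of_isGE_of_isLE i
  haveI := Groth.Agent.TriH.TruncMap.isIso_homology_truncGEπ Z i i le_rfl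
  let eM : M ≅ (homologyFunctor A i).obj K :=
    ((singleFunctorCompHomologyFunctorIso A i).app M).symm ≪≫
      (homologyFunctor A _).mapIso e.symm ≪≫
      (asIso ((homologyFunctor A i).map ((TStructure.t.truncGEπ i).app Z))).symm ≪≫
      asIso ((homologyFunctor A i).map ((TStructure.t.truncLTι (i + 1)).app K))
  let e' : (singleFunctor A i).obj ((homologyFunctor A i).obj K) ≅ P :=
    (singleFunctor A i).mapIso eM.symm ≪≫ e.symm
  have h0 : e'.hom ≫ (TStructure.t.truncGEδLT i).app Z = 0 :=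
    vanish K a hExt (i - a).toNat W (fun j hj => by
      haveI := Groth.Agent.TriH.TruncMap.isIso_homology_truncLTι Z i j (by omega)
      haveI := Groth.Agent.TriH.TruncMap.isIso_homology_truncLTι K (i + 1) j (by omega)
      exact ⟨asIso ((homologyFunctor A j).map ((TStructure.t.truncLTι i).app Z)) ≪≫
        asIso ((homologyFunctor A j).map ((TStructure.t.truncLTι (i + 1)).app K))⟩) i (by omega) _
  obtain ⟨σ, hσ⟩ : ∃ σ, e'.hom = σ ≫ (TStructure.t.truncGEπ i).app Z :=
    Triangle.coyoneda_exact₃ _ hT e'.hom h0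
  haveI : IsIso ((homologyFunctor A i).map σ) := by
    haveI : IsIso ((homologyFunctor A i).map σ ≫ (homologyFunctor A i).map ((TStructure.t.truncGEπ i).app Z)) := by
      rw [← Functor.map_comp, ← hσ]; infer_instance
    exact IsIso.of_isIso_comp_right _ ((homologyFunctor A i).map ((TStructure.t.truncGEπ i).app Z))
  exact ⟨σ ≫ (TStructure.t.truncLTι (i + 1)).app K, by rw [Functor.map_comp]; infer_instance⟩

end


/-- Let K be an object of the derived category of an abelian category with cohomology concentrated in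
degrees a, …, b. Suppose that for all i > j and p ≥ 2 every morphism H^i(K) ⟶ H^j(K)[p] in the
derived category (an element of Ext^p) vanishes. Then K splits: it is isomorphic to ⨁_{a ≤ i ≤ b}
Hⁱ(K)[-i]. -/
theorem result {A : Type u} [Category.{v} A] [Abelian A] [HasDerivedCategory.{w} A]
    (K : DerivedCategory A) (a b : ℤ) [K.IsGE a] [K.IsLE b]
    (hExt : ∀ (i j : ℤ) (p : ℕ), j < i → 2 ≤ p →
      ∀ f : (DerivedCategory.singleFunctor A 0).obj ((DerivedCategory.homologyFunctor A i).obj K) ⟶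
        ((DerivedCategory.singleFunctor A 0).obj ((DerivedCategory.homologyFunctor A j).obj K))⟦(p : ℤ)⟧, f = 0)
    [HasBiproduct (fun i : Finset.Icc a b => (DerivedCategory.singleFunctor A (i : ℤ)).obj ((DerivedCategory.homologyFunctor A (i : ℤ)).obj K))] :
    Nonempty (K ≅ ⨁ (fun i : Finset.Icc a b => (DerivedCategory.singleFunctor A (i : ℤ)).obj ((DerivedCategory.homologyFunctor A (i : ℤ)).obj K))) := by
  choose s hs using fun i : Finset.Icc a b => exists_section K a hExt (i : ℤ) (Finset.mem_Icc.1 i.2).1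
  let F := fun i : Finset.Icc a b => (DerivedCategory.singleFunctor A (i : ℤ)).obj ((DerivedCategory.homologyFunctor A (i : ℤ)).obj K)
  haveI : HasBiproduct F := inferInstance
  have hz : ∀ (k : ℤ) (i : Finset.Icc a b), (i : ℤ) ≠ k → IsZero ((homologyFunctor A k).obj (F i)) :=
    fun k i hik => by
      rcases lt_or_gt_of_ne hik with h | h
      · exact DerivedCategory.isZero_of_isLE _ (i : ℤ) k h
      · exact DerivedCategory.isZero_of_isGE _ (i : ℤ) k h
  suffices IsIso (biproduct.desc (f := F) s) from ⟨(asIso (biproduct.desc (f := F) s)).symm⟩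
  rw [DerivedCategory.isIso_iff]
  intro k
  have htot := congrArg ((homologyFunctor A k).map) (biproduct.total (f := F))
  rw [Functor.map_sum, CategoryTheory.Functor.map_id] at htot
  by_cases hk : k ∈ Finset.Icc a b
  · let j : Finset.Icc a b := ⟨k, hk⟩
    rw [Finset.sum_eq_single j (fun i _ hij => by
      rw [Functor.map_comp, (hz k i (fun h => hij (Subtype.ext h))).eq_of_tgt ((homologyFunctor A k).map (biproduct.π F i)) 0, zero_comp]) (by simp), Functor.map_comp] at htot
    have hι : (homologyFunctor A k).map (biproduct.ι F j) ≫ (homologyFunctor A k).map (biproduct.π F j) = 𝟙 _ := by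
      rw [← Functor.map_comp, biproduct.ι_π_self, CategoryTheory.Functor.map_id]
    haveI : IsIso ((homologyFunctor A k).map (biproduct.π F j)) := ⟨_, htot, hι⟩
    haveI : IsIso ((homologyFunctor A k).map (s j)) := hs j
    have : (homologyFunctor A k).map (biproduct.desc (f := F) s) =
        (homologyFunctor A k).map (biproduct.π F j) ≫ (homologyFunctor A k).map (s j) := by
      rw [← biproduct.ι_desc s j, Functor.map_comp, reassoc_of% htot]
    rw [this]
    infer_instance
  · have hzero : IsZero ((homologyFunctor A k).obj (⨁ F)) := by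
      rw [IsZero.iff_id_eq_zero, ← htot]
      refine Finset.sum_eq_zero fun i _ => ?_
      rw [Functor.map_comp, (hz k i (fun h => hk (h ▸ i.2))).eq_of_tgt ((homologyFunctor A k).map (biproduct.π F i)) 0, zero_comp]
    have hK : IsZero ((homologyFunctor A k).obj K) := by
      rcases (show k < a ∨ b < k by rw [Finset.mem_Icc] at hk; omega) with h | h
      · exact K.isZero_of_isGE a k h
      · exact K.isZero_of_isLE b k h
    exact ⟨0, hzero.eq_of_src _ _, hK.eq_of_src _ _⟩

end Groth.Agent.S0973
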