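import Groth.Statements.S0984
import Groth.Agent.Compact.Basic

set_option autoImplicit false
universe v u
open CategoryTheory
open DerLim

namespace Groth.Agent.S0984

section Aux

open CategoryTheory.Limits CategoryTheory.Pretriangulated

variable {D : Type u} [Category.{v} D] [Preadditive D] [Limits.HasZeroObject D] [HasShift D ℤ]
  [∀ n : ℤ, (shiftFunctor D n).Additive] [Pretriangulated D] [HasCoproducts.{v} D]

omit [Limits.HasZeroObject D] [HasShift D ℤ] [∀ n : ℤ, (shiftFunctor D n).Additive] [Pretriangulated D] in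
lemma hom_induction_nat {C : D} (hC : CohDer.IsCompactObject C) (K : ℕ → D) [HasCoproduct K]
    (p : (C ⟶ ∐ K) → Prop) (h0 : p 0) (hadd : ∀ a b, p a → p b → p (a + b))
    (hι : ∀ (n : ℕ) (g : C ⟶ K n), p (g ≫ Sigma.ι K n)) (g : C ⟶ ∐ K) : p g := by
  let e : (∐ fun n : ULift.{v} ℕ => K n.down) ≅ ∐ K := Sigma.reindex Equiv.ulift K
  have h := Compact.hom_induction hC (fun n : ULift.{v} ℕ => K n.down) (fun a => p (a ≫ e.hom))
    (by simpa using h0) (fun a b ha hb => by simpa [Preadditive.add_comp] using hadd _ _ ha hb)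
    (fun n g => by
      simp only [e, Category.assoc]
      rw [show Sigma.ι (fun n : ULift.{v} ℕ => K n.down) n ≫ (Sigma.reindex Equiv.ulift K).hom = Sigma.ι K n.down from Sigma.ι_reindex_hom Equiv.ulift K n]
      exact hι _ g) (g ≫ e.inv)
  simpa using h

open Classical in
/-- The projections of a coproduct. -/
noncomputable def proj (K : ℕ → D) [HasCoproduct K] (j : ℕ) : (∐ K) ⟶ K j :=
  Sigma.desc fun n => if h : n = j then eqToHom (congrArg K h) else 0

omit [Limits.HasZeroObject D] [HasShift D ℤ] [∀ n : ℤ, (shiftFunctor D n).Additive] [Pretriangulated D] in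
lemma eq_zero_of_proj {C : D} (hC : CohDer.IsCompactObject C) (K : ℕ → D) [HasCoproduct K]
    (t : C ⟶ ∐ K) (ht : ∀ j, t ≫ proj K j = 0) : t = 0 := by
  classical
  suffices H : ∀ t : C ⟶ ∐ K, ∃ N, t = ∑ j ∈ Finset.range N, (t ≫ proj K j) ≫ Sigma.ι K j by
    obtain ⟨N, hN⟩ := H t
    rw [hN]
    simp [ht]
  let P : (C ⟶ ∐ K) → Prop := fun t =>
    ∃ N, ∀ M ≥ N, t = ∑ j ∈ Finset.range M, (t ≫ proj K j) ≫ Sigma.ι K j
  intro t
  suffices h : P t by
    obtain ⟨N, hN⟩ := h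
    exact ⟨N, hN N le_rfl⟩
  refine hom_induction_nat hC K P ⟨0, fun M _ => by simp⟩ ?_ ?_ t
  · rintro a b ⟨N, hN⟩ ⟨N', hN'⟩
    refine ⟨max N N', fun M hM => ?_⟩
    conv_lhs => rw [hN M (le_trans (le_max_left _ _) hM), hN' M (le_trans (le_max_right _ _) hM)]
    simp [Preadditive.add_comp, Finset.sum_add_distrib]
  · intro n g
    refine ⟨n + 1, fun M hM => ?_⟩
    rw [Finset.sum_eq_single n]
    · simp [proj]
    · intro j _ hj
      simp [proj, Ne.symm hj]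
    · intro h
      exact absurd (Finset.mem_range.2 (by omega)) h

variable (K : ℕ → D) (f : ∀ n, K n ⟶ K (n + 1)) [HasCoproduct K]

omit [Limits.HasZeroObject D] [HasShift D ℤ] [∀ n : ℤ, (shiftFunctor D n).Additive] [Pretriangulated D] in
lemma eq_zero_of_comp_one_sub_shift {C : D} (hC : CohDer.IsCompactObject C) (t : C ⟶ ∐ K)
    (ht : t ≫ (𝟙 (∐ K) - DerLim.shiftMap K f) = 0) : t = 0 := by
  classical
  rw [Preadditive.comp_sub, Category.comp_id, sub_eq_zero] at ht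
  refine eq_zero_of_proj hC K t fun j => ?_
  induction j with
  | zero =>
    have h : DerLim.shiftMap K f ≫ proj K 0 = 0 := Sigma.hom_ext _ _ fun n => by
      simp [DerLim.shiftMap, proj]
    rw [ht, Category.assoc, h, comp_zero]
  | succ j ih =>
    have h : DerLim.shiftMap K f ≫ proj K (j + 1) = proj K j ≫ f j := Sigma.hom_ext _ _ fun n => by
      rcases eq_or_ne n j with rfl | hn
      · simp [DerLim.shiftMap, proj]
      · simp [DerLim.shiftMap, proj, hn]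
    rw [ht, Category.assoc, h, reassoc_of% ih, zero_comp]

variable {K f}

lemma exists_factor_hocolim {C : D} (hC : CohDer.IsCompactObject C) {L : D} {j : ∀ n, K n ⟶ L}
    {δ : L ⟶ (shiftFunctor D (1 : ℤ)).obj (∐ K)}
    (hT : Triangle.mk (𝟙 (∐ K) - DerLim.shiftMap K f) (Sigma.desc j) δ ∈ distinguishedTriangles)
    (g : C ⟶ L) : ∃ (n : ℕ) (g' : C ⟶ K n), g' ≫ j n = g := by
  classical
  have hw : ∀ n, f n ≫ j (n + 1) = j n := fun n => by
    have h12 : (𝟙 (∐ K) - DerLim.shiftMap K f) ≫ Sigma.desc j = 0 := comp_distTriang_mor_zero₁₂ _ hT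
    have h' := congrArg (fun x => Sigma.ι K n ≫ x) h12
    simp [Preadditive.sub_comp, Preadditive.comp_sub, DerLim.shiftMap, sub_eq_zero] at h'
    exact h'.symm
  have hδ : g ≫ δ = 0 := by
    let e : (C⟦(-1 : ℤ)⟧)⟦(1 : ℤ)⟧ ≅ C := shiftNegShift C 1
    have h31 : δ ≫ (𝟙 (∐ K) - DerLim.shiftMap K f)⟦(1 : ℤ)⟧' = 0 := comp_distTriang_mor_zero₃₁ _ hT
    obtain ⟨t, ht⟩ := (shiftFunctor D (1 : ℤ)).map_surjective (e.hom ≫ g ≫ δ)
    have : t = 0 := eq_zero_of_comp_one_sub_shift K f (Compact.isCompact_shift hC (-1)) t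
      ((shiftFunctor D (1 : ℤ)).map_injective (by
        rw [Functor.map_comp, ht, Category.assoc, Category.assoc, h31, Functor.map_zero]; simp))
    rw [this, Functor.map_zero] at ht
    rw [← cancel_epi e.hom, comp_zero]
    exact ht.symm
  obtain ⟨s, hs⟩ : ∃ s : C ⟶ ∐ K, g = s ≫ Sigma.desc j := Triangle.coyoneda_exact₃ _ hT g hδ
  subst hs
  let P : (C ⟶ ∐ K) → Prop := fun s => ∃ N, ∀ n ≥ N, ∃ g' : C ⟶ K n, g' ≫ j n = s ≫ Sigma.desc j
  suffices h : P s by
    obtain ⟨N, hN⟩ := h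
    exact ⟨N, hN N le_rfl⟩
  refine hom_induction_nat hC K P ⟨0, fun n _ => ⟨0, by simp⟩⟩ ?_ ?_ s
  · rintro a b ⟨N, hN⟩ ⟨N', hN'⟩
    refine ⟨max N N', fun M hM => ?_⟩
    obtain ⟨ga, hga⟩ := hN M (le_trans (le_max_left _ _) hM)
    obtain ⟨gb, hgb⟩ := hN' M (le_trans (le_max_right _ _) hM)
    exact ⟨ga + gb, by simp [Preadditive.add_comp, hga, hgb]⟩
  · intro n g
    refine ⟨n, fun M hM => ?_⟩
    induction M, hM using Nat.le_induction with
    | base => exact ⟨g, by simp⟩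
    | succ M hM ih =>
      obtain ⟨g', hg'⟩ := ih
      exact ⟨g' ≫ f M, by rw [Category.assoc, hw, hg']⟩

variable {ι : Type v} (E : ι → D)

/-- The test objects. -/
def IsTest (C : D) : Prop := ∃ (i : ι) (m : ℤ), Nonempty (C ≅ (shiftFunctor D m).obj (E i))

omit [Preadditive D] [Limits.HasZeroObject D] [∀ n : ℤ, (shiftFunctor D n).Additive] [Pretriangulated D] [HasCoproducts.{v} D] in
lemma IsTest.shift {C : D} (h : IsTest E C) (n : ℤ) : IsTest E (C⟦n⟧) := by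
  obtain ⟨i, m, ⟨e⟩⟩ := h
  exact ⟨i, m + n, ⟨(shiftFunctor D n).mapIso e ≪≫ ((shiftFunctorAdd D m n).app (E i)).symm⟩⟩

/-- An object over `X`. -/
structure Stage (X : D) where
  /-- The object. -/
  Y : D
  /-- The map to `X`. -/
  p : Y ⟶ X

lemma exists_step {X : D} (S : Stage X) : ∃ (T : Stage X) (f : S.Y ⟶ T.Y), f ≫ T.p = S.p ∧
    (∀ C, IsTest E C → ∀ g : C ⟶ S.Y, g ≫ S.p = 0 → g ≫ f = 0) ∧
    ∃ (κ : Type v) (a : κ → ι) (m : κ → ℤ) (y : (∐ fun k => (shiftFunctor D (m k)).obj (E (a k))) ⟶ S.Y)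
      (z : T.Y ⟶ (shiftFunctor D (1 : ℤ)).obj (∐ fun k => (shiftFunctor D (m k)).obj (E (a k)))),
      Triangle.mk y f z ∈ distinguishedTriangles := by
  let κ := Σ (i : ι) (m : ℤ), {g : (shiftFunctor D m).obj (E i) ⟶ S.Y // g ≫ S.p = 0}
  let y : (∐ fun k : κ => (shiftFunctor D k.2.1).obj (E k.1)) ⟶ S.Y := Sigma.desc fun k => k.2.2.1
  have hy : y ≫ S.p = 0 := Sigma.hom_ext _ _ fun k => by simp [y, k.2.2.2]
  obtain ⟨T, f, z, hT⟩ := distinguished_cocone_triangle y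
  obtain ⟨q, hq⟩ : ∃ q : T ⟶ X, S.p = f ≫ q := Triangle.yoneda_exact₂ _ hT S.p hy
  refine ⟨⟨T, q⟩, f, hq.symm, ?_, κ, fun k => k.1, fun k => k.2.1, y, z, hT⟩
  rintro C ⟨i, m, ⟨e⟩⟩ g hg
  have h0 : y ≫ f = 0 := comp_distTriang_mor_zero₁₂ _ hT
  let k : κ := ⟨i, m, e.inv ≫ g, by rw [Category.assoc, hg, comp_zero]⟩
  have hk : Sigma.ι (fun k : κ => (shiftFunctor D k.2.1).obj (E k.1)) k ≫ y = e.inv ≫ g :=
    Sigma.ι_desc _ k
  rw [← cancel_epi e.inv, comp_zero, ← Category.assoc, ← hk, Category.assoc, h0, comp_zero]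

variable {X : D}

/-- The tower. -/
noncomputable def tower (S₀ : Stage X) : ℕ → Stage X
  | 0 => S₀
  | n + 1 => (exists_step E (tower S₀ n)).choose

end Aux

open CategoryTheory.Limits CategoryTheory.Pretriangulated in
/-- Let D be a triangulated category with all small direct sums and E a small family of compact objects
which generates D. Every object X of D is a homotopy colimit of a sequential system X₀ → X₁ → X₂ → …
in which X₀ is a direct sum of shifts of members of E and each transition map Xₙ → Xₙ₊₁ sits in a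
distinguished triangle Yₙ → Xₙ → Xₙ₊₁ → Yₙ[1] with Yₙ a direct sum of shifts of members of E. -/
theorem result {D : Type u} [Category.{v} D] [Preadditive D] [Limits.HasZeroObject D] [HasShift D ℤ]
    [∀ n : ℤ, (shiftFunctor D n).Additive] [Pretriangulated D] [IsTriangulated D] [HasCoproducts.{v} D]
    [HasColimitsOfShape (Discrete ℕ) D]
    {ι : Type v} (E : ι → D) (hc : ∀ i, CohDer.IsCompactObject (E i)) (hg : CohDer.Generates E) (X : D) :
    ∃ (K : ℕ → D) (f : ∀ n, K n ⟶ K (n + 1)) (i : ∀ n, K n ⟶ X),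
      DerLim.IsHocolim K f X i ∧
      (∃ (κ : Type v) (a : κ → ι) (m : κ → ℤ), Nonempty (K 0 ≅ ∐ (fun k => (shiftFunctor D (m k)).obj (E (a k))))) ∧
      ∀ n, ∃ (κ : Type v) (a : κ → ι) (m : κ → ℤ) (y : (∐ fun k => (shiftFunctor D (m k)).obj (E (a k))) ⟶ K n)
        (z : K (n + 1) ⟶ (shiftFunctor D (1 : ℤ)).obj (∐ fun k => (shiftFunctor D (m k)).obj (E (a k)))),
        Triangle.mk y (f n) z ∈ distinguishedTriangles := by
  classical
  let κ₀ := Σ (i : ι) (m : ℤ), ((shiftFunctor D m).obj (E i) ⟶ X)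
  let S₀ : Stage X := ⟨∐ fun k : κ₀ => (shiftFunctor D k.2.1).obj (E k.1), Sigma.desc fun k => k.2.2⟩
  let K : ℕ → D := fun n => (tower E S₀ n).Y
  let p : ∀ n, K n ⟶ X := fun n => (tower E S₀ n).p
  let f : ∀ n, K n ⟶ K (n + 1) := fun n => (exists_step E (tower E S₀ n)).choose_spec.choose
  have hf : ∀ n, f n ≫ p (n + 1) = p n := fun n =>
    (exists_step E (tower E S₀ n)).choose_spec.choose_spec.1
  have hkill : ∀ n C, IsTest E C → ∀ g : C ⟶ K n, g ≫ p n = 0 → g ≫ f n = 0 := fun n =>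
    (exists_step E (tower E S₀ n)).choose_spec.choose_spec.2.1
  refine ⟨K, f, p, ?_, ⟨κ₀, fun k => k.1, fun k => k.2.1, ⟨Iso.refl _⟩⟩,
    fun n => (exists_step E (tower E S₀ n)).choose_spec.choose_spec.2.2⟩
  obtain ⟨L, jj, δ, hT⟩ := distinguished_cocone_triangle (𝟙 (∐ K) - DerLim.shiftMap K f)
  let j : ∀ n, K n ⟶ L := fun n => Sigma.ι K n ≫ jj
  have hjj : jj = Sigma.desc j := Sigma.hom_ext _ _ fun n => by simp [j]
  rw [hjj] at hT
  have h12 : (𝟙 (∐ K) - DerLim.shiftMap K f) ≫ Sigma.desc j = 0 := comp_distTriang_mor_zero₁₂ _ hT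
  have hp : (𝟙 (∐ K) - DerLim.shiftMap K f) ≫ Sigma.desc p = 0 := Sigma.hom_ext _ _ fun n => by
    simp [Preadditive.sub_comp, Preadditive.comp_sub, DerLim.shiftMap, hf]
  obtain ⟨c, hc'⟩ : ∃ c : L ⟶ X, Sigma.desc p = Sigma.desc j ≫ c :=
    Triangle.yoneda_exact₂ _ hT _ hp
  have hjc : ∀ n, j n ≫ c = p n := fun n => by
    have := congrArg (fun x => Sigma.ι K n ≫ x) hc'
    simp at this
    simp [j, this]
  have hjw : ∀ n, f n ≫ j (n + 1) = j n := fun n => by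
    have h' := congrArg (fun x => Sigma.ι K n ≫ x) h12
    simp [Preadditive.sub_comp, Preadditive.comp_sub, DerLim.shiftMap, sub_eq_zero] at h'
    simpa [j] using h'.symm
  have hcpt : ∀ C, IsTest E C → CohDer.IsCompactObject C := by
    rintro C ⟨i, m, ⟨e⟩⟩
    exact Compact.isCompact_of_retract (Retract.ofIso e) (Compact.isCompact_shift (hc i) m)
  have hinj : ∀ C, IsTest E C → ∀ g : C ⟶ L, g ≫ c = 0 → g = 0 := by
    intro C hC g hg
    obtain ⟨n, g', rfl⟩ := exists_factor_hocolim (hcpt C hC) hT g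
    rw [Category.assoc, hjc] at hg
    rw [← hjw, reassoc_of% hkill n C hC g' hg, zero_comp]
  have hsurj : ∀ C, IsTest E C → ∀ φ : C ⟶ X, ∃ g : C ⟶ L, g ≫ c = φ := by
    rintro C ⟨i, m, ⟨e⟩⟩ φ
    let k : κ₀ := ⟨i, m, e.inv ≫ φ⟩
    let g₁ : C ⟶ ∐ fun k : κ₀ => (shiftFunctor D k.2.1).obj (E k.1) :=
      e.hom ≫ Sigma.ι (fun k : κ₀ => (shiftFunctor D k.2.1).obj (E k.1)) k
    let g₀ : C ⟶ K 0 := g₁
    refine ⟨g₀ ≫ j 0, ?_⟩
    rw [Category.assoc, hjc]
    have h0 : g₁ ≫ Sigma.desc (fun k : κ₀ => k.2.2) = φ := by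
      simp only [g₁, Category.assoc, Sigma.ι_desc]
      exact e.hom_inv_id_assoc φ
    exact h0
  obtain ⟨Z, q, r, hTc⟩ := distinguished_cocone_triangle c
  have hZ : IsZero Z := by
    refine hg Z fun i n h => ?_
    let h' : (E i)⟦-n⟧ ⟶ Z := h⟦-n⟧' ≫ (shiftShiftNeg Z n).hom
    have hC : IsTest E ((E i)⟦-n⟧) := ⟨i, -n, ⟨Iso.refl _⟩⟩
    suffices hh : h' = 0 by
      apply (shiftFunctor D (-n)).map_injective
      rw [Functor.map_zero, ← cancel_mono (shiftShiftNeg Z n).hom, zero_comp]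
      exact hh
    have hr : h' ≫ r = 0 := by
      obtain ⟨t, ht⟩ := (shiftFunctor D (1 : ℤ)).map_surjective
        ((shiftNegShift ((E i)⟦-n⟧) (1 : ℤ)).hom ≫ h' ≫ r)
      have h31 : r ≫ c⟦(1 : ℤ)⟧' = 0 := comp_distTriang_mor_zero₃₁ _ hTc
      have : t = 0 := hinj _ (hC.shift E (-1)) t ((shiftFunctor D (1 : ℤ)).map_injective (by
        rw [Functor.map_comp, ht, Category.assoc, Category.assoc, h31, comp_zero, comp_zero, Functor.map_zero]))
      rw [this, Functor.map_zero] at ht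
      rw [← cancel_epi (shiftNegShift ((E i)⟦-n⟧) (1 : ℤ)).hom, comp_zero]
      exact ht.symm
    obtain ⟨φ, hφ⟩ : ∃ φ : (E i)⟦-n⟧ ⟶ X, h' = φ ≫ q := Triangle.coyoneda_exact₃ _ hTc h' hr
    obtain ⟨g, rfl⟩ := hsurj _ hC φ
    have h12c : c ≫ q = 0 := comp_distTriang_mor_zero₁₂ _ hTc
    rw [hφ, Category.assoc, h12c, comp_zero]
  have hiso : IsIso c := (Triangle.isZero₃_iff_isIso₁ _ hTc).1 hZ
  refine ⟨inv c ≫ δ, isomorphic_distinguished _ hT _
    (Triangle.isoMk _ _ (Iso.refl _) (Iso.refl _) (asIso c).symm ?_ ?_ ?_)⟩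
  · exact (Category.comp_id _).trans (Category.id_comp _).symm
  · change Sigma.desc p ≫ inv c = 𝟙 _ ≫ Sigma.desc j
    simp [hc']
  · change (inv c ≫ δ) ≫ (shiftFunctor D (1 : ℤ)).map (𝟙 _) = inv c ≫ δ
    simp

end Groth.Agent.S0984
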