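import Groth.Statements.S1076
import Groth.Agent.Compact.Basic

set_option autoImplicit false
universe v u
open CategoryTheory
open DerLim

namespace Groth.Agent.S1076

section Aux

open CategoryTheory.Limits CategoryTheory.Pretriangulated

variable {D : Type u} [Category.{v} D] [Preadditive D] [Limits.HasZeroObject D] [HasShift D ℤ]
  [∀ n : ℤ, (shiftFunctor D n).Additive] [Pretriangulated D] [IsTriangulated D]
  {ι : Type v} (E : ι → D)

/-- The members of `E` indexed by `s`. -/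
def fam (s : Finset ι) : ObjectProperty D := fun Y : D => ∃ i ∈ s, Y = E i

omit [Preadditive D] [Limits.HasZeroObject D] [HasShift D ℤ]
  [∀ n : ℤ, (shiftFunctor D n).Additive] [Pretriangulated D] [IsTriangulated D] in
lemma fam_nonempty {s : Finset ι} (hs : s.Nonempty) : (fam E s).Nonempty := by
  obtain ⟨i, hi⟩ := hs
  exact ObjectProperty.nonempty_of_prop (show fam E s (E i) from ⟨i, hi, rfl⟩)

omit [IsTriangulated D] in
lemma env_mono {s t : Finset ι} (h : s ⊆ t) {X : D} (hX : (fam E s).triangEnvelope X) :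
    (fam E t).triangEnvelope X :=
  ObjectProperty.monotone_triangEnvelope (fun Y ⟨i, hi, e⟩ => ⟨i, h hi, e⟩) X hX

/-- `φ` factors through the triangulated envelope of finitely many members of `E`. -/
def Fac {X Y : D} (φ : X ⟶ Y) : Prop :=
  ∃ (s : Finset ι) (E' : D) (g : X ⟶ E') (h : E' ⟶ Y),
    s.Nonempty ∧ (fam E s).triangEnvelope E' ∧ g ≫ h = φ

lemma fac_zero [Nonempty ι] {X Y : D} : Fac E (0 : X ⟶ Y) := by
  let i := Classical.arbitrary ι
  exact ⟨{i}, E i, 0, 0, Finset.singleton_nonempty i,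
    ObjectProperty.le_triangEnvelope _ _ ⟨i, Finset.mem_singleton_self i, rfl⟩, zero_comp⟩

lemma fac_add {X Y : D} {φ ψ : X ⟶ Y} (hφ : Fac E φ) (hψ : Fac E ψ) : Fac E (φ + ψ) := by
  classical
  obtain ⟨s, A, g, h, hs, hA, rfl⟩ := hφ
  obtain ⟨t, B, g', h', -, hB, rfl⟩ := hψ
  have := fam_nonempty E (hs.mono (Finset.subset_union_left (s₂ := t)))
  have hAB := ObjectProperty.ext_of_isTriangulatedClosed₂ (fam E (s ∪ t)).triangEnvelope _
    (binaryBiproductTriangle_distinguished A B)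
    (env_mono E Finset.subset_union_left hA) (env_mono E Finset.subset_union_right hB)
  exact ⟨s ∪ t, A ⊞ B, biprod.lift g g', biprod.desc h h', hs.mono Finset.subset_union_left, hAB,
    biprod.lift_desc⟩

variable [Nonempty ι] [HasCoproducts.{v} D]

lemma fac_sigma {C : D} (hC : CohDer.IsCompactObject C) {κ : Type v} (a : κ → ι) (m : κ → ℤ)
    (φ : C ⟶ ∐ fun k => (shiftFunctor D (m k)).obj (E (a k))) : Fac E φ := by
  refine Compact.hom_induction hC _ (Fac E) (fac_zero E) (fun _ _ => fac_add E) ?_ φ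
  intro k g
  exact ⟨{a k}, _, g, _, Finset.singleton_nonempty _,
    (fam E {a k}).triangEnvelope.le_shift (m k) _ (ObjectProperty.le_triangEnvelope _ _
      ⟨a k, Finset.mem_singleton_self _, rfl⟩), rfl⟩

lemma fac_shift_sigma {C : D} (hC : CohDer.IsCompactObject C) {κ : Type v} (a : κ → ι) (m : κ → ℤ)
    (φ : C ⟶ (shiftFunctor D (1 : ℤ)).obj (∐ fun k => (shiftFunctor D (m k)).obj (E (a k)))) :
    Fac E φ := by
  let e : (C⟦(-1 : ℤ)⟧)⟦(1 : ℤ)⟧ ≅ C := shiftNegShift C 1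
  obtain ⟨s, A, g, h, hs, hA, hgh⟩ :=
    fac_sigma E (Compact.isCompact_shift hC (-1)) a m ((shiftFunctor D (1 : ℤ)).preimage (e.hom ≫ φ))
  refine ⟨s, A⟦(1 : ℤ)⟧, e.inv ≫ g⟦1⟧', h⟦1⟧', hs,
    (fam E s).triangEnvelope.le_shift 1 _ hA, ?_⟩
  rw [Category.assoc, ← Functor.map_comp, hgh, Functor.map_preimage, Iso.inv_hom_id_assoc]

lemma envelope_compact (hc : ∀ i, CohDer.IsCompactObject (E i)) {s : Finset ι} {X : D}
    (hX : (fam E s).triangEnvelope X) : CohDer.IsCompactObject X :=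
  ((fam E s).triangEnvelope_le_iff (Q := fun K : D => CohDer.IsCompactObject K)).2
    (fun _ ⟨i, _, e⟩ => e ▸ hc i) X hX

lemma fac_step (hc : ∀ i, CohDer.IsCompactObject (E i)) {Y K K' : D} {κ : Type v} (a : κ → ι)
    (m : κ → ℤ) (y : (∐ fun k => (shiftFunctor D (m k)).obj (E (a k))) ⟶ K) (f : K ⟶ K')
    (z : K' ⟶ (shiftFunctor D (1 : ℤ)).obj (∐ fun k => (shiftFunctor D (m k)).obj (E (a k))))
    (hT : Triangle.mk y f z ∈ distinguishedTriangles)
    (ih : ∀ C, CohDer.IsCompactObject C → ∀ φ : C ⟶ K, Fac E φ)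
    (hC : CohDer.IsCompactObject Y) (φ : Y ⟶ K') : Fac E φ := by
  classical
  obtain ⟨s, A, g, e, hs, hA, hge⟩ := fac_shift_sigma E hC a m (φ ≫ z)
  obtain ⟨C', α, δ, hT₁⟩ := distinguished_cocone_triangle₁ g
  have hC' : CohDer.IsCompactObject C' := ObjectProperty.ext_of_isTriangulatedClosed₁
    (fun K : D => CohDer.IsCompactObject K) _ hT₁ hC (envelope_compact E hc hA)
  have hR := rot_of_distTriang _ hT
  obtain ⟨b, hb₁, hb₂⟩ : ∃ b : C' ⟶ K, α ≫ φ = b ≫ f ∧ δ ≫ b⟦(1 : ℤ)⟧' = e ≫ (Triangle.mk y f z).rotate.mor₃ := complete_distinguished_triangle_morphism₁ _ _ hT₁ hR φ e hge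
  obtain ⟨t, B, g₂, h₂, -, hB, hb⟩ := ih C' hC' b
  obtain ⟨M, α₂, p, hT₂⟩ := distinguished_cocone_triangle₂ (δ ≫ g₂⟦(1 : ℤ)⟧')
  obtain ⟨q, hq₁, hq₂⟩ : ∃ q : Y ⟶ M, α ≫ q = g₂ ≫ α₂ ∧ g ≫ 𝟙 A = q ≫ p := complete_distinguished_triangle_morphism₂ _ _ hT₁ hT₂ g₂ (𝟙 A)
    (Category.id_comp _).symm
  have hcomm : (δ ≫ g₂⟦(1 : ℤ)⟧') ≫ h₂⟦(1 : ℤ)⟧' = e ≫ (Triangle.mk y f z).rotate.mor₃ := by
    rw [Category.assoc, ← Functor.map_comp, hb]
    exact hb₂
  obtain ⟨h, hh₁, hh₂⟩ : ∃ h : M ⟶ K', α₂ ≫ h = h₂ ≫ f ∧ p ≫ e = h ≫ z := complete_distinguished_triangle_morphism₂ _ _ hT₂ hR h₂ e hcomm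
  rw [Category.comp_id] at hq₂
  obtain ⟨ε, hε⟩ : ∃ ε : A ⟶ K', φ - q ≫ h = g ≫ ε :=
    Triangle.yoneda_exact₂ _ hT₁ (φ - q ≫ h) (show α ≫ (φ - q ≫ h) = 0 by
    rw [Preadditive.comp_sub, reassoc_of% hq₁, hh₁, hb₁, ← hb, Category.assoc, sub_self])
  have := fam_nonempty E (hs.mono (Finset.subset_union_left (s₂ := t)))
  have hM := ObjectProperty.ext_of_isTriangulatedClosed₂ (fam E (s ∪ t)).triangEnvelope _ hT₂
    (env_mono E Finset.subset_union_right hB) (env_mono E Finset.subset_union_left hA)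
  refine ⟨s ∪ t, M, q, h + p ≫ ε, hs.mono Finset.subset_union_left, hM, ?_⟩
  rw [Preadditive.comp_add, ← Category.assoc, ← hq₂, ← hε, add_sub_cancel]

end Aux

open CategoryTheory.Limits CategoryTheory.Pretriangulated in
/-- Let D be a triangulated category with all small direct sums and E a small nonempty family of compact
objects (nonempty so that the envelope of a finite subfamily can contain a zero object). Let X₀ → X₁
→ … be a sequential system in which X₀ is a direct sum of shifts of members of E and each Xₙ → Xₙ₊₁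
sits in a distinguished triangle Yₙ → Xₙ → Xₙ₊₁ → Yₙ[1] with Yₙ a direct sum of shifts of members of
E. Then every morphism from a compact object C to some Xₙ factors through an object of the
triangulated envelope (closure under shifts, finite sums, summands and extensions) of finitely many
members of E. -/
theorem result {D : Type u} [Category.{v} D] [Preadditive D] [Limits.HasZeroObject D] [HasShift D ℤ]
    [∀ n : ℤ, (shiftFunctor D n).Additive] [Pretriangulated D] [IsTriangulated D] [HasCoproducts.{v} D]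
    {ι : Type v} [Nonempty ι] (E : ι → D) (hc : ∀ i, CohDer.IsCompactObject (E i))
    (K : ℕ → D) (f : ∀ n, K n ⟶ K (n + 1))
    (h0 : ∃ (κ : Type v) (a : κ → ι) (m : κ → ℤ), Nonempty (K 0 ≅ ∐ (fun k => (shiftFunctor D (m k)).obj (E (a k)))))
    (hstep : ∀ n, ∃ (κ : Type v) (a : κ → ι) (m : κ → ℤ) (y : (∐ fun k => (shiftFunctor D (m k)).obj (E (a k))) ⟶ K n)
      (z : K (n + 1) ⟶ (shiftFunctor D (1 : ℤ)).obj (∐ fun k => (shiftFunctor D (m k)).obj (E (a k)))),
      Triangle.mk y (f n) z ∈ distinguishedTriangles)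
    (C : D) (hC : CohDer.IsCompactObject C) (n : ℕ) (φ : C ⟶ K n) :
    ∃ (s : Finset ι) (E' : D) (g : C ⟶ E') (h : E' ⟶ K n),
      ObjectProperty.triangEnvelope (fun Y : D => ∃ i ∈ s, Y = E i) E' ∧ g ≫ h = φ := by
  suffices H : Fac E φ by
    obtain ⟨s, E', g, h, -, hE, hgh⟩ := H
    exact ⟨s, E', g, h, hE, hgh⟩
  induction n generalizing C with
  | zero =>
    obtain ⟨κ, a, m, ⟨e⟩⟩ := h0
    obtain ⟨s, A, g, h, hs, hA, hgh⟩ := fac_sigma E hC a m (φ ≫ e.hom)
    exact ⟨s, A, g, h ≫ e.inv, hs, hA, by rw [reassoc_of% hgh, e.hom_inv_id, Category.comp_id]⟩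
  | succ n ih =>
    obtain ⟨κ, a, m, y, z, hT⟩ := hstep n
    exact fac_step E hc a m y (f n) z hT ih hC φ

end Groth.Agent.S1076
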