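import Groth.Statements.S0978
import Groth.Agent.S1076
import Groth.Agent.S0984

set_option autoImplicit false
universe v u
open CategoryTheory
open CohDer

namespace Groth.Agent.S0978

section Aux

open CategoryTheory.Limits CategoryTheory.Pretriangulated ZeroObject

variable {D : Type u} [Category.{v} D] [Preadditive D] [Limits.HasZeroObject D] [HasShift D ℤ]
  [∀ n : ℤ, (shiftFunctor D n).Additive] [Pretriangulated D]

/-- The objects receiving only zero maps to all shifts of `K`. -/
def leftOrth (K : D) : ObjectProperty D :=
  fun Y => ∀ (n : ℤ) (f : Y ⟶ (shiftFunctor D n).obj K), f = 0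

instance (K : D) : (leftOrth K).IsStableUnderRetracts where
  of_retract := fun {X Y} r hY n f => by
    have := hY n (r.r ≫ f)
    rw [← cancel_epi r.r, this, comp_zero]

instance (K : D) : (leftOrth K).IsTriangulated where
  exists_zero := ⟨0, isZero_zero D, fun n f => (isZero_zero D).eq_of_src _ _⟩
  isStableUnderShiftBy a := ⟨fun Y hY => by
    show leftOrth K _
    intro n f
    apply (shiftFunctor D (-a)).map_injective
    rw [Functor.map_zero, ← cancel_epi ((shiftShiftNeg Y a).inv),
      ← cancel_mono (((shiftFunctorAdd' D n (-a) (n - a) (by omega)).app K).inv)]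
    simp only [zero_comp, comp_zero, Category.assoc]
    exact hY _ _⟩
  toIsTriangulatedClosed₂ := .mk' fun T hT h₁ h₃ n f => by
    obtain ⟨g, rfl⟩ := Triangle.yoneda_exact₂ _ hT f (h₁ n _)
    rw [h₃ n g, comp_zero]

end Aux

open CategoryTheory.Limits in
/-- Let D be a triangulated category with all small direct sums and E a compact object. Then E generates
D (an object admitting only zero maps from all shifts of E is zero) if and only if D is compactly
generated and every compact object lies in the triangulated envelope of E (objects reachable from E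
by shifts, finite sums, direct summands and extensions). -/
theorem result {D : Type u} [Category.{v} D] [Preadditive D] [Limits.HasZeroObject D] [HasShift D ℤ]
    [∀ n : ℤ, (shiftFunctor D n).Additive] [Pretriangulated D] [IsTriangulated D] [HasCoproducts.{v} D]
    [HasColimitsOfShape (Discrete ℕ) D]
    (E : D) (hE : CohDer.IsCompactObject E) :
    CohDer.Generates (fun _ : Unit => E) ↔
      (CohDer.IsCompactlyGenerated D ∧ ∀ X : D, CohDer.IsCompactObject X → ObjectProperty.triangEnvelope (fun Y : D => Y = E) X) := by
  constructor
  · intro hg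
    have hg' : CohDer.Generates (fun _ : PUnit.{v + 1} => E) :=
      fun K hK => hg K (fun _ n f => hK PUnit.unit n f)
    refine ⟨⟨PUnit.{v + 1}, fun _ => E, fun _ => hE, hg'⟩, fun X hX => ?_⟩
    obtain ⟨K, f, i, ⟨c, hc⟩, h0, hstep⟩ :=
      Groth.Agent.S0984.result (fun _ : PUnit.{v + 1} => E) (fun _ => hE) hg' X
    obtain ⟨n, g, hgi⟩ := Groth.Agent.S0984.exists_factor_hocolim hX hc (𝟙 X)
    obtain ⟨s, E', a, b, hE', hab⟩ :=
      Groth.Agent.S1076.result (fun _ : PUnit.{v + 1} => E) (fun _ => hE) K f h0 hstep X hX n g
    have hE'' : ObjectProperty.triangEnvelope (fun Y : D => Y = E) E' :=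
      ObjectProperty.monotone_triangEnvelope (fun Y ⟨_, _, e⟩ => e) E' hE'
    exact ObjectProperty.prop_of_retract _
      { i := a, r := b ≫ i n, retract := by rw [reassoc_of% hab, hgi] } hE''
  · rintro ⟨⟨ι, S, hS, hgen⟩, henv⟩ K hK
    refine hgen K fun j n f => ?_
    have h : ObjectProperty.triangEnvelope (fun Y : D => Y = E) ≤ leftOrth K :=
      (ObjectProperty.triangEnvelope_le_iff _).2 (by
        rintro Y rfl
        exact fun n f => hK () n f)
    exact h _ (henv _ (hS j)) n f

end Groth.Agent.S0978
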