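import Groth.Statements.S0981
import Groth.Agent.TrivSec.Global
import Groth.Agent.TrivSec.Local

set_option autoImplicit false
universe u
open CategoryTheory AlgebraicGeometry
open Perf

namespace Groth.Agent.S0981

open CategoryTheory.Limits in
/-- Let f : X ⟶ S be proper, flat and of finite presentation, and assume that for every algebraically
closed field K and every point Spec K ⟶ S the fibre X ×_S Spec K is a reduced, connected (in
particular nonempty) scheme. Then O_S ⟶ f_*O_X is an isomorphism: for every open V of S the map
O_S(V) ⟶ O_X(f⁻¹V) is an isomorphism. (The source adds that this persists after any base change.) -/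
theorem result {X S : Scheme.{u}} (f : X ⟶ S)
    [IsProper f] [Flat f] [LocallyOfFinitePresentation f]
    (h : ∀ (K : Type u) [Field K] [IsAlgClosed K] (g : Spec (CommRingCat.of K) ⟶ S),
      IsReduced (pullback f g) ∧ ConnectedSpace ↥(pullback f g))
    (V : S.Opens) : IsIso (f.app V) := by
  have key : ∀ (E : Type u) [Field E] (y : Spec (CommRingCat.of E) ⟶ S),
      IsReduced (pullback f y) ∧ ConnectedSpace ↥(pullback f y) := by
    intro E _ y
    let Ω := AlgebraicClosure E
    let c : Spec (CommRingCat.of Ω) ⟶ Spec (CommRingCat.of E) :=
      Spec.map (CommRingCat.ofHom (algebraMap E Ω))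
    haveI : Surjective c := ⟨fun p => ⟨IsLocalRing.closedPoint Ω, Subsingleton.elim _ _⟩⟩
    obtain ⟨hr, hc⟩ := h Ω (c ≫ y)
    let v : pullback f (c ≫ y) ⟶ pullback f y :=
      pullback.lift (pullback.fst f (c ≫ y)) (pullback.snd f (c ≫ y) ≫ c) (by rw [pullback.condition, Category.assoc])
    have hv : IsPullback v (pullback.snd f (c ≫ y)) (pullback.snd f y) c := by
      refine IsPullback.of_right (h₁₂ := pullback.fst f y) (h₂₂ := y) (v₁₃ := f) ?_ (pullback.lift_snd _ _ _)
        (IsPullback.of_hasPullback f y)
      rw [show v ≫ pullback.fst f y = pullback.fst f (c ≫ y) from pullback.lift_fst _ _ _]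
      exact IsPullback.of_hasPullback f (c ≫ y)
    haveI : Surjective v := MorphismProperty.of_isPullback (P := @Surjective) hv.flip inferInstance
    haveI : Flat v := MorphismProperty.of_isPullback (P := @Flat) hv.flip inferInstance
    refine ⟨?_, v.surjective.connectedSpace v.continuous⟩
    have : ∀ p, _root_.IsReduced ((pullback f y).presheaf.stalk p) := fun p => by
      obtain ⟨q, rfl⟩ := v.surjective p
      exact isReduced_of_injective (v.stalkMap q).hom (Groth.Agent.TrivSec.stalkMap_injective_of_flat v q)
    exact isReduced_of_isReduced_stalk _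
  haveI : GeometricallyConnected f :=
    ⟨geometrically_iff_of_isClosedUnderIsomorphisms.mpr fun E _ y => (key E y).2⟩
  haveI : GeometricallyReduced f :=
    ⟨geometrically_iff_of_isClosedUnderIsomorphisms.mpr fun E _ y => (key E y).1⟩
  rw [ConcreteCategory.isIso_iff_bijective]
  exact Groth.Agent.TrivSec.bijective_app f V

end Groth.Agent.S0981
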