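import Groth.Statements.S0985
import Groth.Agent.Compact.SeqMap

set_option autoImplicit false
universe w v u
open CategoryTheory CategoryTheory.Limits
open DerLim

namespace Groth.Agent.S0985

/-- Let A be an abelian category in which colimits of sequences ℕ ⥤ A exist and are exact, and let L : ℕ
⥤ CochainComplex A ℤ be a sequence of complexes. Then the image in the derived category of the
termwise colimit of L, with the canonical maps from the Lₙ, is a homotopy colimit of the images of
the Lₙ — assuming the termwise direct sum of the Lₙ exists and is preserved by the localization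
functor to D(A) (a known result, carried here as a hypothesis rather than proved), and that the
direct sum of the images exists in D(A). -/
theorem result {A : Type u} [Category.{v} A] [Abelian A] [HasDerivedCategory.{w} A]
    [HasColimitsOfShape ℕ A] [HasExactColimitsOfShape ℕ A]
    (L : ℕ ⥤ CochainComplex A ℤ) [HasCoproduct L.obj] [PreservesColimit (Discrete.functor L.obj) (DerivedCategory.Q (C := A))]
    [HasCoproduct (fun n => DerivedCategory.Q.obj (L.obj n))] :
    DerLim.IsHocolim (fun n => DerivedCategory.Q.obj (L.obj n)) (fun n => DerivedCategory.Q.map (L.map (homOfLE (Nat.le_succ n))))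
      (DerivedCategory.Q.obj (colimit L)) (fun n => DerivedCategory.Q.map (colimit.ι L n)) := by
  classical
  have hse := SeqColim.shortExact L
  have hT := DerivedCategory.triangleOfSES_distinguished hse
  let σ := sigmaComparison (DerivedCategory.Q (C := A)) L.obj
  have hcomm := SeqColim.one_sub_shift_comparison (DerivedCategory.Q (C := A)) L.obj
    (fun n => L.map (homOfLE (Nat.le_succ n)))
  haveI : IsIso σ := inferInstanceAs (IsIso (sigmaComparison (DerivedCategory.Q (C := A)) L.obj))
  let e := asIso σ
  refine ⟨DerivedCategory.triangleOfSESδ hse ≫ (inv σ)⟦(1 : ℤ)⟧', ?_⟩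
  have h2 : Sigma.desc (fun n => DerivedCategory.Q.map (colimit.ι L n)) =
      σ ≫ DerivedCategory.Q.map (Sigma.desc fun n => colimit.ι L n) := by
    apply Sigma.hom_ext
    intro n
    simp [σ, ← Functor.map_comp]
  have h3 : (DerivedCategory.triangleOfSESδ hse ≫ (inv σ)⟦(1 : ℤ)⟧') ≫ σ⟦(1 : ℤ)⟧' =
      DerivedCategory.triangleOfSESδ hse := by
    rw [Category.assoc, ← Functor.map_comp, IsIso.inv_hom_id, CategoryTheory.Functor.map_id]
    exact Category.comp_id _
  exact Pretriangulated.isomorphic_distinguished _ hT _
    (Pretriangulated.Triangle.isoMk _ _ e e (Iso.refl _) hcomm ((Category.comp_id _).trans h2)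
      (h3.trans (Category.id_comp _).symm))

end Groth.Agent.S0985
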