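import Groth.Statements.S0987
import Groth.Agent.KGrp.Euler

set_option autoImplicit false
universe w v u
open CategoryTheory CategoryTheory.Limits
open KZero

namespace Groth.Agent.S0987

open Groth.Agent.KGrp in
/-- `K₀ A` is the `K₀` of the full subcategory of all objects. -/
noncomputable def topEquiv (A : Type u) [Category.{v} A] [Abelian A] :
    KZero.K0 A ≃+ KZero.K0sub (⊤ : ObjectProperty A) where
  toFun := QuotientAddGroup.lift _ (FreeAbelianGroup.lift fun X : A => KZero.clSub (⊤ : ObjectProperty A) X) (by
    rw [KZero.relAb, AddSubgroup.closure_le]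
    rintro x ⟨S, hS, rfl⟩
    simp [clSub_add (P := (⊤ : ObjectProperty A)) (S := S) trivial trivial trivial hS])
  invFun := liftSub (⊤ : ObjectProperty A) KZero.cl fun S hS _ _ _ => cl_add hS
  left_inv x := by
    induction x using QuotientAddGroup.induction_on with
    | _ z =>
      induction z using FreeAbelianGroup.induction_on with
      | zero => simp
      | of X =>
        rw [QuotientAddGroup.lift_mk, FreeAbelianGroup.lift_apply_of, liftSub_clSub _ _ (P := ⊤) trivial]
        rfl
      | neg X h => simp only [QuotientAddGroup.mk_neg, map_neg] at h ⊢; rw [h]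
      | add a b ha hb => simp only [QuotientAddGroup.mk_add, map_add] at ha hb ⊢; rw [ha, hb]
  right_inv x := by
    induction x using induction_sub with
    | h0 => simp
    | hcl X hX =>
      rw [liftSub_clSub _ _ hX]
      show FreeAbelianGroup.lift _ (FreeAbelianGroup.of X) = _
      rw [FreeAbelianGroup.lift_apply_of]
    | hneg y hy => simp only [map_neg] at hy ⊢; rw [hy]
    | hadd y z hy hz => simp only [map_add] at hy hz ⊢; rw [hy, hz]
  map_add' := map_add _

/-- For an abelian category A there is an isomorphism between K₀(A) and K₀ of the bounded derived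
category D^b(A) (objects of D(A) with bounded cohomology, with the distinguished triangles of D(A))
which sends the class of an object X to the class of X placed in degree 0. -/
theorem result (A : Type u) [Category.{v} A] [Abelian A] [HasDerivedCategory.{w} A] :
    ∃ φ : KZero.K0 A ≃+ KZero.K0tr (fun X : DerivedCategory A => ∃ a b : ℤ, X.IsGE a ∧ X.IsLE b),
      ∀ X : A, φ (KZero.cl X) =
        KZero.clTr (fun X : DerivedCategory A => ∃ a b : ℤ, X.IsGE a ∧ X.IsLE b) ((DerivedCategory.singleFunctor A 0).obj X) := by
  have : (⊤ : ObjectProperty A).ContainsZero := ⟨⟨_, isZero_zero A, trivial⟩⟩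
  have : (⊤ : ObjectProperty A).IsClosedUnderKernels := ⟨fun _ _ => trivial⟩
  have hQ : (fun X : DerivedCategory A => ∃ a b : ℤ, X.IsGE a ∧ X.IsLE b) =
      Groth.Agent.KGrp.DbP (⊤ : ObjectProperty A) :=
    funext fun K => propext ⟨fun h => ⟨fun _ => trivial, h⟩, fun h => h.2⟩
  rw [hQ]
  exact ⟨(topEquiv A).trans (Groth.Agent.KGrp.dbEquiv (⊤ : ObjectProperty A)),
    fun X => by
      rw [AddEquiv.trans_apply,
        show topEquiv A (cl X) = clSub (⊤ : ObjectProperty A) X from FreeAbelianGroup.lift_apply_of _ _]
      exact Groth.Agent.KGrp.dbEquiv_clSub (⊤ : ObjectProperty A) (X := X) trivial⟩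

end Groth.Agent.S0987
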