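import Groth.Statements.S0989
import Mathlib

set_option autoImplicit false
universe w v u
open ZeroObject
open CategoryTheory CategoryTheory.Limits
open CohDer

namespace Groth.Agent.S0989

/-- Let P be a weak Serre class in an abelian category A: P is closed under isomorphisms, holds for a
zero object, and whenever X₀ → X₁ → X₂ → X₃ → X₄ is exact with P holding for X₀, X₁, X₃, X₄ it holds
for X₂. Then the class of objects of the derived category all of whose cohomology objects satisfy P
is a triangulated subcategory (contains zero, stable under shifts, closed under extensions) which is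
moreover closed under retracts (saturated). -/
theorem result {A : Type u} [Category.{v} A] [Abelian A] [HasDerivedCategory.{w} A]
    (P : ObjectProperty A) [P.IsClosedUnderIsomorphisms] (h0 : ∃ Z : A, IsZero Z ∧ P Z)
    (hP : ∀ S : ComposableArrows A 4, S.Exact → P (S.obj 0) → P (S.obj 1) → P (S.obj 3) → P (S.obj 4) → P (S.obj 2)) :
    ObjectProperty.IsTriangulated (fun X : DerivedCategory A => ∀ n : ℤ, P ((DerivedCategory.homologyFunctor A n).obj X)) ∧
    ObjectProperty.IsStableUnderRetracts (fun X : DerivedCategory A => ∀ n : ℤ, P ((DerivedCategory.homologyFunctor A n).obj X)) := by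
  haveI : P.ContainsZero := ⟨h0⟩
  have hz : ∀ {Z : A}, IsZero Z → P Z := fun hZ => P.prop_of_isZero hZ
  have hshift : ∀ (X : DerivedCategory A) (a n : ℤ),
      P ((DerivedCategory.homologyFunctor A (a + n)).obj X) →
        P ((DerivedCategory.homologyFunctor A n).obj (X⟦a⟧)) := fun X a n h =>
    P.prop_of_iso ((((DerivedCategory.homologyFunctor A 0).shiftIso a n (a + n) rfl).app X).symm) h
  refine ⟨{ exists_zero := ⟨0, isZero_zero _, fun n =>
              hz ((DerivedCategory.homologyFunctor A n).map_isZero (isZero_zero _))⟩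
            isStableUnderShiftBy := fun a => ⟨fun X hX n => hshift X a n (hX _)⟩
            ext₂' := fun T hT h₁ h₃ => ObjectProperty.le_isoClosure _ _ fun n => ?_ }, ⟨?_⟩⟩
  · let T' := T.invRotate
    have hT' : T' ∈ Pretriangulated.distinguishedTriangles := Pretriangulated.inv_rot_of_distTriang _ hT
    have h := ((DerivedCategory.homologyFunctor A 0).homologySequenceComposableArrows₅_exact T' hT' n (n + 1) rfl).δlast
    exact hP _ h (hshift T.obj₃ (-1) n (h₃ _)) (h₁ n) (hshift T.obj₃ (-1) (n + 1) (h₃ _)) (h₁ (n + 1))
  · intro X Y r hY n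
    let r' := r.map (DerivedCategory.homologyFunctor A n)
    obtain ⟨Z, hZ, hPZ⟩ := h0
    refine hP (ComposableArrows.mk₄ (0 : Z ⟶ Z) (0 : Z ⟶ (DerivedCategory.homologyFunctor A n).obj X)
      r'.i (𝟙 _ - r'.r ≫ r'.i)) ?_ hPZ hPZ (hY n) (hY n)
    have w : r'.i ≫ (𝟙 _ - r'.r ≫ r'.i) = 0 := by
      rw [Preadditive.comp_sub, Category.comp_id, r'.retract_assoc, sub_self]
    have e1 : (ShortComplex.mk (0 : Z ⟶ Z) (0 : Z ⟶ (DerivedCategory.homologyFunctor A n).obj X) zero_comp).Exact :=
      ShortComplex.exact_of_isZero_X₂ _ hZ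
    have e2 : (ShortComplex.mk (0 : Z ⟶ (DerivedCategory.homologyFunctor A n).obj X) r'.i zero_comp).Exact := by
      rw [ShortComplex.exact_iff_mono _ rfl]
      exact inferInstanceAs (Mono r'.i)
    have e3 : (ShortComplex.mk r'.i (𝟙 _ - r'.r ≫ r'.i) w).Exact :=
      ShortComplex.exact_of_f_is_kernel _ (KernelFork.IsLimit.ofι r'.i w (fun k _ => k ≫ r'.r)
        (fun k hk => by
          rw [Preadditive.comp_sub, Category.comp_id, sub_eq_zero] at hk
          rw [Category.assoc]; exact hk.symm)
        (fun k hk m hm => by rw [← hm, Category.assoc, r'.retract, Category.comp_id]))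
    exact ComposableArrows.exact_of_δ₀ e1.exact_toComposableArrows
      (ComposableArrows.exact_of_δ₀ e2.exact_toComposableArrows e3.exact_toComposableArrows)


end Groth.Agent.S0989
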