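import Groth.Statements.S0992
import Mathlib.Algebra.Homology.ShortComplex.Ab
import Mathlib.CategoryTheory.Limits.Types.Limits
-- import your own Groth.Agent.* helpers here

set_option autoImplicit false
universe w
open CategoryTheory CategoryTheory.Limits Opposite
open CohDer

namespace Groth.Agent.S0992

section
variable {I : Type w} [LinearOrder I] [WellFoundedLT I]
    (K : Iᵒᵖ ⥤ CochainComplex AddCommGrpCat.{w} ℤ)

abbrev X (β : I) (i : ℤ) : AddCommGrpCat.{w} := (K.obj (op β)).X i

abbrev r {γ β : I} (h : γ ≤ β) (i : ℤ) : X K β i ⟶ X K γ i := (K.map (homOfLE h).op).f i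

theorem r_r {δ γ β : I} (h : δ ≤ γ) (h' : γ ≤ β) (i : ℤ) (z : X K β i) :
    r K h i (r K h' i z) = r K (h.trans h') i z := by
  have e : K.map (homOfLE h').op ≫ K.map (homOfLE h).op = K.map (homOfLE (h.trans h')).op :=
    (K.map_comp _ _).symm
  exact congr($(congrArg (fun f => HomologicalComplex.Hom.f f i) e) z)

theorem r_self {β : I} (h : β ≤ β) (i : ℤ) (z : X K β i) : r K h i z = z := by
  have e : K.map (homOfLE h).op = 𝟙 _ := K.map_id (op β)
  exact congr($(congrArg (fun f => HomologicalComplex.Hom.f f i) e) z)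

theorem r_d {γ β : I} (h : γ ≤ β) (i j : ℤ) (z : X K β i) :
    r K h j ((K.obj (op β)).d i j z) = (K.obj (op γ)).d i j (r K h i z) :=
  congr($((K.map (homOfLE h).op).comm i j) z).symm

theorem d_d {β : I} (i j k : ℤ) (z : X K β i) :
    (K.obj (op β)).d j k ((K.obj (op β)).d i j z) = 0 :=
  congr($((K.obj (op β)).d_comp_d i j k) z)

/-- A compatible family of primitives below `β` extends to `β`. -/
def Ext (β : I) : Prop :=
  ∀ (i j : ℤ), i + 1 = j → ∀ (y : ∀ γ, X K γ i) (x : X K β j),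
    (∀ k, (K.obj (op β)).d j k x = 0) →
    (∀ γ δ (h : γ ≤ δ), δ < β → r K h i (y δ) = y γ) →
    (∀ γ (h : γ < β), (K.obj (op γ)).d i j (y γ) = r K h.le j x) →
    ∃ z : X K β i, (∀ γ (h : γ < β), r K h.le i z = y γ) ∧ (K.obj (op β)).d i j z = x

/-- Primitives of a compatible family of cocycles exist on every initial segment where extension
is possible. -/
theorem build (P : I → Prop) (hP : ∀ γ δ, γ ≤ δ → P δ → P γ) (hext : ∀ β, P β → Ext K β)
    (i j : ℤ) (hij : i + 1 = j) (x : ∀ β, X K β j)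
    (hx : ∀ β k, P β → (K.obj (op β)).d j k (x β) = 0)
    (hc : ∀ γ δ (h : γ ≤ δ), P δ → r K h j (x δ) = x γ) :
    ∃ y : ∀ β, X K β i, (∀ γ δ (h : γ ≤ δ), P δ → r K h i (y δ) = y γ) ∧
      ∀ β, P β → (K.obj (op β)).d i j (y β) = x β := by
  classical
  let F : ∀ β, (∀ γ, γ < β → X K γ i) → X K β i := fun β prev =>
    if h : ∃ z : X K β i, (∀ γ (hγ : γ < β), r K hγ.le i z = prev γ hγ) ∧
        (K.obj (op β)).d i j z = x β then h.choose else 0
  let y : ∀ β, X K β i := fun β => IsWellFounded.fix (· < ·) F β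
  have hy : ∀ β, y β = F β fun γ _ => y γ := fun β =>
    IsWellFounded.fix_eq (· < ·) F β
  have key : ∀ β, P β → (∀ γ (hγ : γ < β), r K hγ.le i (y β) = y γ) ∧
      (K.obj (op β)).d i j (y β) = x β := by
    intro β
    induction β using WellFoundedLT.induction with
    | ind β ih =>
      intro hβ
      have h : ∃ z : X K β i, (∀ γ (hγ : γ < β), r K hγ.le i z = y γ) ∧
          (K.obj (op β)).d i j z = x β := by
        refine hext β hβ i j hij y (x β) (fun k => hx β k hβ) (fun γ δ h hδ => ?_) fun γ h => ?_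
        · rcases h.lt_or_eq with h' | rfl
          · exact (ih δ hδ (hP _ _ hδ.le hβ)).1 γ h'
          · exact r_self K h i _
        · rw [(ih γ h (hP _ _ h.le hβ)).2, hc γ β h.le hβ]
      rw [hy β]
      simp only [F, dif_pos h]
      exact h.choose_spec
  refine ⟨y, fun γ δ h hδ => ?_, fun β hβ => (key β hβ).2⟩
  rcases h.lt_or_eq with h' | rfl
  · exact (key δ hδ).1 γ h'
  · exact r_self K h i _

theorem ext (hac : ∀ (β : I) (n : ℤ), (K.obj (op β)).ExactAt n)
    (hsurj : ∀ (β : I) (n : ℤ) (x : ∀ γ : {γ : I // γ < β}, (K.obj (op γ.1)).X n),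
      (∀ (γ γ' : {γ : I // γ < β}) (h : γ.1 ≤ γ'.1), ((K.map (homOfLE h).op).f n).hom (x γ') = x γ) →
      ∃ y : (K.obj (op β)).X n, ∀ γ : {γ : I // γ < β}, ((K.map (homOfLE γ.2.le).op).f n).hom y = x γ)
    (β : I) : Ext K β := by
  induction β using WellFoundedLT.induction with
  | ind β ih =>
    intro i j hij y x hx hyc hyd
    obtain ⟨y₀, hy₀⟩ := hsurj β i (fun γ => y γ.1) fun γ γ' h => hyc γ.1 γ'.1 h γ'.2
    obtain ⟨w, hw⟩ : ∃ w, (K.obj (op β)).d i j w = x - (K.obj (op β)).d i j y₀ := by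
      have he : (K.obj (op β)).d j (j + 1) (x - (K.obj (op β)).d i j y₀) = 0 := by
        rw [map_sub, hx, d_d, sub_self]
      have := hac β j
      rw [HomologicalComplex.exactAt_iff' _ i j (j + 1) (by simp; omega) (by simp),
        ShortComplex.ab_exact_iff] at this
      exact this _ he
    let u : ∀ γ, X K γ i := fun γ => if h : γ < β then r K h.le i w else 0
    have hucyc : ∀ γ k, γ < β → (K.obj (op γ)).d i k (u γ) = 0 := by
      intro γ k h
      by_cases hk : k = j
      · subst hk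
        simp only [u, dif_pos h]
        rw [← r_d, hw, map_sub, r_d]
        erw [hy₀ ⟨γ, h⟩]
        rw [hyd γ h]
        exact sub_self _
      · rw [(K.obj (op γ)).shape i k (by simp; omega)]
        rfl
    have huc : ∀ γ δ (h : γ ≤ δ), δ < β → r K h i (u δ) = u γ := by
      intro γ δ h hδ
      simp only [u, dif_pos hδ, dif_pos (h.trans_lt hδ), r_r]
    obtain ⟨v, hvc, hvd⟩ := build K (· < β) (fun γ δ h h' => h.trans_lt h') (fun γ h => ih γ h)
      (i - 1) i (by omega) u hucyc huc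
    obtain ⟨v₀, hv₀⟩ := hsurj β (i - 1) (fun γ => v γ.1) fun γ γ' h => hvc γ.1 γ'.1 h γ'.2
    refine ⟨y₀ + (w - (K.obj (op β)).d (i - 1) i v₀), fun γ h => ?_, ?_⟩
    · rw [map_add, map_sub, r_d]
      erw [hy₀ ⟨γ, h⟩, hv₀ ⟨γ, h⟩]
      rw [hvd γ h]
      simp only [u, dif_pos h]
      erw [sub_self, add_zero]
    · rw [map_add, map_sub, d_d, hw, sub_zero, add_sub_cancel]

end

/-- Let I be a well-ordered type and K : Iᵒᵖ ⥤ CochainComplex Ab an inverse system of acyclic complexes
of abelian groups such that for every β and every degree n, each family of elements of the Kⁿ_γ (γ <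
β) compatible under the transition maps lifts to an element of Kⁿ_β (i.e. Kⁿ_β → lim_{γ<β} Kⁿ_γ is
surjective). Then the limit complex lim K is acyclic. -/
theorem result {I : Type w} [LinearOrder I] [WellFoundedLT I]
    (K : Iᵒᵖ ⥤ CochainComplex AddCommGrpCat.{w} ℤ)
    (hac : ∀ (β : I) (n : ℤ), (K.obj (op β)).ExactAt n)
    (hsurj : ∀ (β : I) (n : ℤ) (x : ∀ γ : {γ : I // γ < β}, (K.obj (op γ.1)).X n),
      (∀ (γ γ' : {γ : I // γ < β}) (h : γ.1 ≤ γ'.1), ((K.map (homOfLE h).op).f n).hom (x γ') = x γ) →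
      ∃ y : (K.obj (op β)).X n, ∀ γ : {γ : I // γ < β}, ((K.map (homOfLE γ.2.le).op).f n).hom y = x γ)
    (n : ℤ) : (limit K).ExactAt n := by
  rw [HomologicalComplex.exactAt_iff' _ (n - 1) n (n + 1) (by simp) (by simp),
    ShortComplex.ab_exact_iff]
  intro x hx
  let π : ∀ β, limit K ⟶ K.obj (op β) := fun β => limit.π K (op β)
  have hπr : ∀ γ δ (h : γ ≤ δ) (i : ℤ) z, r K h i ((π δ).f i z) = (π γ).f i z := fun γ δ h i z =>
    congr($(congrArg (fun f => HomologicalComplex.Hom.f f i) (limit.w K (homOfLE h).op)) z)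
  have hπd : ∀ β (i j : ℤ) z, (K.obj (op β)).d i j ((π β).f i z) = (π β).f j ((limit K).d i j z) :=
    fun β i j z => congr($((π β).comm i j) z)
  have hL := fun i : ℤ => isLimitOfPreserves (HomologicalComplex.eval AddCommGrpCat.{w} _ i ⋙
    forget AddCommGrpCat.{w}) (limit.isLimit K)
  obtain ⟨y, hyc, hyd⟩ := build K (fun _ => True) (fun _ _ _ _ => trivial)
    (fun β _ => ext K hac hsurj β) (n - 1) n (by omega) (fun β => (π β).f n x)
    (fun β k _ => by
      by_cases hk : k = n + 1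
      · subst hk
        rw [hπd]
        erw [hx]
        exact map_zero _
      · rw [(K.obj (op β)).shape n k (by simp; omega)]
        rfl)
    (fun γ δ h _ => hπr γ δ h n x)
  let s : (K ⋙ HomologicalComplex.eval AddCommGrpCat.{w} _ (n - 1) ⋙
      forget AddCommGrpCat.{w}).sections :=
    ⟨fun b => y b.unop, fun {a b} f => hyc b.unop a.unop f.unop.le trivial⟩
  obtain ⟨z, hz⟩ := ((Types.isLimitEquivSections (hL (n - 1))).surjective s)
  refine ⟨z, Concrete.isLimit_ext _ (isLimitOfPreserves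
    (HomologicalComplex.eval AddCommGrpCat.{w} _ n) (limit.isLimit K)) _ _ fun b => ?_⟩
  have hb : (π b.unop).f (n - 1) z = y b.unop := congrArg (fun t => t.1 b) hz
  show (π b.unop).f n ((limit K).d (n - 1) n z) = (π b.unop).f n x
  rw [← hπd, hb]
  exact hyd b.unop trivial

end Groth.Agent.S0992
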