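import Groth.Statements.S10005
import Groth.Agent.AlgSpLimDesc.SepStage
-- import your own Groth.Agent.* helpers here

set_option autoImplicit false
universe u
open CategoryTheory CategoryTheory.Limits AlgebraicGeometry
open AlgSp

namespace Groth.Agent.S10005

/-- Let `S` be a quasi-separated scheme and `X` the limit, in fppf sheaves over `S`, of a cofiltered
system `(X_i)` of quasi-compact algebraic spaces over `S`, each quasi-separated over `S`, whose
transition maps are affine. If `X` is separated over `S`, then `X_i` is separated over `S` for some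
`i`. (The published statement uses absolute separatedness and quasi-separatedness and puts no
condition on `S`; this row assumes `S` quasi-separated and takes both notions over `S`, which gives
the same quasi-separatedness and, when `S` is separated, the same separatedness.) -/
theorem result (S : Scheme.{u}) [QuasiSeparatedSpace S] {I : Type u} [SmallCategory I] [IsCofiltered I]
    (D : I ⥤ AlgSp.Sp S) (hD : ∀ i, AlgSp.IsAlgSpace (D.obj i))
    (hDa : ∀ (i j : I) (φ : i ⟶ j), AlgSp.IsAffineMor (D.map φ))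
    (hqc : ∀ i, AlgSp.IsQuasiCompactSp (D.obj i)) (hqs : ∀ i, AlgSp.IsQuasiSeparatedSp (D.obj i))
    (c : Cone D) (hc : IsLimit c)
    (hX : AlgSp.IsSeparatedSp c.pt) : ∃ i, AlgSp.IsSeparatedSp (D.obj i) := by
  have hYqs : AlgSp.IsQuasiSeparatedSp ((AlgSp.yon S).obj (Over.mk (𝟙 S))) := by
    refine (Groth.Agent.AlgSpPts.repWith_diag_iff_toBase _).1 (?_ : AlgSp.IsQuasiSeparatedMor _)
    have e := Groth.Agent.AlgSpPts.toBase_eq ((AlgSp.yon S).map (𝟙 (Over.mk (𝟙 S))))
      (Groth.Agent.AlgSpPts.toBase ((AlgSp.yon S).obj (Over.mk (𝟙 S))))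
    exact e ▸ (AlgSp.isQuasiSeparatedMor_yon_map_iff _).2 (inferInstanceAs (QuasiSeparated (𝟙 S)))
  obtain ⟨i, hi⟩ := Groth.Agent.AlgSpLimDesc.exists_stage_isSeparatedMor hD hDa hc (AlgSp.IsAlgSpace.yon_obj _) hYqs
    (fun i => Groth.Agent.AlgSpPts.toBase (D.obj i)) (fun φ => Groth.Agent.AlgSpPts.toBase_eq _ _)
    (Groth.Agent.AlgSpPts.toBase c.pt) (fun i => Groth.Agent.AlgSpPts.toBase_eq _ _) hqc hqs
    ((Groth.Agent.AlgSpPts.repWith_diag_iff_toBase c.pt).2 hX)
  exact ⟨i, (Groth.Agent.AlgSpPts.repWith_diag_iff_toBase (D.obj i)).1 (hi i (𝟙 i))⟩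

end Groth.Agent.S10005
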