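import Groth.Statements.S10021
import Groth.Agent.AlgSpLimDesc.DiagStmt
-- import your own Groth.Agent.* helpers here

set_option autoImplicit false
set_option backward.isDefEq.respectTransparency.types false
universe u
open CategoryTheory CategoryTheory.Limits AlgebraicGeometry
open AlgSp

namespace Groth.Agent.S10021

/-- Let `S` be a quasi-separated scheme and `B` the limit, in fppf sheaves over `S`, of a cofiltered
system `(B_i)` of algebraic spaces over `S` whose transition maps are affine; fix an index `i₀` such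
that `B_{i₀}` is quasi-compact and quasi-separated over `S`, and a morphism `f₀ : X₀ ⟶ Y₀` of
algebraic spaces over `B_{i₀}` whose source and target are quasi-compact and quasi-separated over
`S`. Write `f_i` (for `i` mapping to `i₀`) and `f` for the base changes of `f₀` to `B_i` and to `B`,
given by pullback squares. If `f` is an isomorphism and `f₀` locally of finite presentation, then
for some `i` mapping to `i₀` every such base change `f_i` is an isomorphism. (The published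
statement allows any base scheme and uses absolute quasi-separatedness; this row assumes the base
quasi-separated, over which quasi-separatedness relative to the base is the absolute notion.) -/
theorem result (S : Scheme.{u}) [QuasiSeparatedSpace S] {I : Type u} [SmallCategory I] [IsCofiltered I]
    (D : I ⥤ AlgSp.Sp S) (hD : ∀ i, AlgSp.IsAlgSpace (D.obj i))
    (hDa : ∀ (i j : I) (φ : i ⟶ j), AlgSp.IsAffineMor (D.map φ))
    (c : Cone D) (hc : IsLimit c) (i₀ : I)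
    (hBqc : AlgSp.IsQuasiCompactSp (D.obj i₀)) (hBqs : AlgSp.IsQuasiSeparatedSp (D.obj i₀))
    (X₀ Y₀ : AlgSp.Space S) (f₀ : X₀.obj ⟶ Y₀.obj) (b₀ : Y₀.obj ⟶ D.obj i₀)
    (hXqc : AlgSp.IsQuasiCompactSp X₀.obj) (hXqs : AlgSp.IsQuasiSeparatedSp X₀.obj)
    (hYqc : AlgSp.IsQuasiCompactSp Y₀.obj) (hYqs : AlgSp.IsQuasiSeparatedSp Y₀.obj)
    (X Y : AlgSp.Sp S) (f : X ⟶ Y) (pY : Y ⟶ Y₀.obj) (qY : Y ⟶ c.pt)
    (hY : IsPullback pY qY b₀ (c.π.app i₀)) (pX : X ⟶ X₀.obj) (hX : IsPullback pX f f₀ pY)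
    [IsIso f] (hf₀ : AlgSp.LocP @LocallyOfFinitePresentation f₀) :
    ∃ (i : I) (φ : i ⟶ i₀), ∀ (Xi Yi : AlgSp.Sp S) (fi : Xi ⟶ Yi) (pYi : Yi ⟶ Y₀.obj) (qYi : Yi ⟶ D.obj i)
      (_ : IsPullback pYi qYi b₀ (D.map φ)) (pXi : Xi ⟶ X₀.obj) (_ : IsPullback pXi fi f₀ pYi),
      IsIso fi := by
  have hm : Mono f := inferInstance
  have hfs : AlgSp.IsSurjectiveMor f := fun y => ⟨AlgSp.Points.map (inv f) y, by
    rw [← AlgSp.Points.map_comp, IsIso.inv_hom_id, AlgSp.Points.map_id]⟩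
  obtain ⟨i₁, φ₁, h₁⟩ := Groth.Agent.AlgSpLimDesc.exists_stage_charts hDa hc X₀.2 Y₀.2 hXqc hYqc hYqs hY hX hf₀
    @Etale.{u} (fun hc' _ _ _ h hh hl => Groth.Agent.AlgSpLimDesc.core_of_local @Etale.{u} (fun f _ => inferInstance)
      Groth.Agent.FibConstr.affineDescends_etale hc' h hh hl)
    (fun U V a b q ha hb _ comm _ => Groth.Agent.AlgSpLib.etale_of_comp_chart
      ((MorphismProperty.cancel_right_of_respectsIso (AlgSp.RepWith (S := S) @Etale.{u}) a f).2 ha) hb q comm.symm)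
  obtain ⟨i₂, φ₂, h₂⟩ := Groth.Agent.AlgSpLimDesc.exists_stage_charts hDa hc X₀.2 Y₀.2 hXqc hYqc hYqs hY hX hf₀
    @Surjective.{u} (fun hc' _ _ _ h hh hl => Groth.Agent.AlgSpLimDesc.exists_stage_surjective_of_isAffine hc' h hh hl)
    (fun U V a b q _ _ _ _ hpt => ⟨fun v => by
      obtain ⟨x, hx⟩ := hfs (AlgSp.Points.map b (AlgSp.Points.ofPt (𝟙 _) v))
      obtain ⟨z, -, hz⟩ := hpt x _ hx
      obtain ⟨t, rfl⟩ := Groth.Agent.AlgSpLib.exists_ofScheme z
      refine ⟨t, (AlgSp.Points.schemeEquiv V).injective ?_⟩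
      change AlgSp.Points.ofPt (𝟙 _) (q.left t) = AlgSp.Points.ofPt (𝟙 _) v
      rw [← hz, AlgSp.Points.map_ofPt, Category.id_comp, ← Groth.Agent.AlgSpLib.ofPt_comp, Category.comp_id]⟩)
  have hlft : AlgSp.LocP @LocallyOfFiniteType f₀ := fun U V a b q ha hb w => by
    have : LocallyOfFinitePresentation q.left := hf₀ a b q ha hb w
    show LocallyOfFiniteType q.left
    infer_instance
  obtain ⟨i, φ, hi⟩ := Groth.Agent.AlgSpLimDesc.exists_stage_and hD X₀.2 Y₀.2
    (MorphismProperty.monomorphisms (AlgSp.Sp S)) ((AlgSp.LocP @Etale) ⊓ AlgSp.IsSurjectiveMor)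
    (fun _ _ _ _ _ _ _ sq h => MorphismProperty.of_isPullback sq h)
    (fun hA hB hB' _ _ _ _ sq h => ⟨Groth.Agent.AlgSpLib.locP_baseChange hA hB hB' sq h.1,
      Groth.Agent.AlgSpLimDesc.isSurjectiveMor_baseChange sq h.2⟩)
    (Groth.Agent.AlgSpLimDesc.exists_stage_mono hD hDa hc X₀.2 Y₀.2 hXqc hXqs hYqs hY hX hlft)
    (Groth.Agent.AlgSpLimDesc.exists_stage_and hD X₀.2 Y₀.2 (AlgSp.LocP @Etale) AlgSp.IsSurjectiveMor
      (fun hA hB hB' _ _ _ _ sq h => Groth.Agent.AlgSpLib.locP_baseChange hA hB hB' sq h)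
      (fun _ _ _ _ _ _ _ sq h => Groth.Agent.AlgSpLimDesc.isSurjectiveMor_baseChange sq h)
      ⟨i₁, φ₁, fun Xi Yi fi pYi qYi hYi pXi hXi => by
        obtain ⟨U, V, a, b, q, ha, has, hb, -, comm, hq⟩ := h₁ Xi Yi fi pYi qYi hYi pXi hXi
        exact Groth.Agent.AlgSpLib.locP_of_chart ha has hb comm hq⟩
      ⟨i₂, φ₂, fun Xi Yi fi pYi qYi hYi pXi hXi y => by
        obtain ⟨U, V, a, b, q, -, -, -, hbs, comm, hq⟩ := h₂ Xi Yi fi pYi qYi hYi pXi hXi
        obtain ⟨v, rfl⟩ := Groth.Agent.AlgSpLib.surjective_ofPt hbs y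
        obtain ⟨t, rfl⟩ := hq.surj v
        exact ⟨AlgSp.Points.ofPt a t, by rw [AlgSp.Points.map_ofPt, comm, Groth.Agent.AlgSpLib.ofPt_comp]⟩⟩)
  refine ⟨i, φ, fun Xi Yi fi pYi qYi hYi pXi hXi => ?_⟩
  obtain ⟨h₃, h₄, h₅⟩ := hi Xi Yi fi pYi qYi hYi pXi hXi
  have : Mono fi := h₃
  have hYi' := Groth.Agent.AlgSpLib.isAlgSpace_of_isPullback hYi Y₀.2 (hD i) (hD i₀)
  exact Groth.Agent.AlgSpLib.isIso_of_etale_mono_surjective
    (Groth.Agent.AlgSpLib.isAlgSpace_of_isPullback hXi X₀.2 hYi' Y₀.2) hYi' fi h₄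
    fun _ _ _ _ _ _ sq => Groth.Agent.AlgSpLimDesc.isSurjectiveMor_baseChange sq h₅

end Groth.Agent.S10021
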