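import Groth.Statements.S10053
import Groth.Agent.AlgSpUnivClosed.Main
-- import your own Groth.Agent.* helpers here

set_option autoImplicit false
set_option backward.isDefEq.respectTransparency.types false
universe u
open CategoryTheory CategoryTheory.Limits AlgebraicGeometry
open AlgSp

namespace Groth.Agent.S10053

/-- For a quasi-compact morphism `f : X ⟶ Y` of algebraic spaces over `S` these conditions are
equivalent: (1) `f` is universally closed; (2) for every `Z ⟶ Y` locally of finite presentation,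
with `Z` an algebraic space, the map `|X ×_Y Z| → |Z|` is closed; (3) for some scheme `V` with a
surjective etale morphism `V ⟶ Y`, the maps `|X ×_Y 𝐀^n_V| → |𝐀^n_V|` are closed for all `n`. Stated
as (1) ↔ (2) and (1) ↔ (3). -/
theorem result (S : Scheme.{u}) {X Y : AlgSp.Space S} (f : X ⟶ Y)
    (hqc : AlgSp.IsQuasiCompactMor f.hom) :
    (AlgSp.IsUnivClosedMor f.hom ↔
      ∀ (Z : AlgSp.Space S) (g : Z ⟶ Y), AlgSp.LocP @LocallyOfFinitePresentation g.hom →
        ∀ (P : AlgSp.Sp S) (fst : P ⟶ X.obj) (snd : P ⟶ Z.obj), IsPullback fst snd f.hom g.hom →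
          IsClosedMap (AlgSp.Points.map snd)) ∧
    (AlgSp.IsUnivClosedMor f.hom ↔
      ∃ (V : Over S) (p : (AlgSp.yon S).obj V ⟶ Y.obj), AlgSp.RepWith @Etale p ∧ AlgSp.RepWith @Surjective p ∧
        ∀ (n : ℕ) (P : AlgSp.Sp S) (fst : P ⟶ X.obj)
          (snd : P ⟶ (AlgSp.yon S).obj (Over.mk ((𝔸(ULift.{u} (Fin n); V.left) ↘ V.left) ≫ V.hom))),
          IsPullback fst snd f.hom ((AlgSp.yon S).map (Over.homMk (𝔸(ULift.{u} (Fin n); V.left) ↘ V.left)) ≫ p) →
            IsClosedMap (AlgSp.Points.map snd)) := by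
  obtain ⟨V, p, hp, hps⟩ := Y.property.atlas
  have crit := fun (W : Over S) (q : (AlgSp.yon S).obj W ⟶ Y.obj) (hq : AlgSp.RepWith @Etale q)
      (hqs : AlgSp.RepWith @Surjective q)
      (H : ∀ (n : ℕ) (P : AlgSp.Sp S) (fst : P ⟶ X.obj) (snd : P ⟶ (AlgSp.yon S).obj (Groth.Agent.AlgSpUnivClosed.affObj n W)),
        IsPullback fst snd f.hom ((AlgSp.yon S).map (Groth.Agent.AlgSpUnivClosed.affProj n W) ≫ q) →
          IsClosedMap (AlgSp.Points.map snd)) =>
    Groth.Agent.AlgSpUnivClosed.isUnivClosedMor_of_affineSpace X.property Y.property hqc hq hqs fun n =>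
      Groth.Agent.AlgSpUnivClosed.sndClosed_of_isPullback (IsPullback.of_hasPullback _ _)
        (H n _ _ _ (IsPullback.of_hasPullback _ _))
  refine ⟨⟨fun h Z g _ P fst snd sq => h Z.property g.hom fst snd sq, fun h => crit V p hp hps fun n P fst snd sq => ?_⟩,
    ⟨fun h => ⟨V, p, hp, hps, fun n P fst snd sq => h (IsAlgSpace.yon_obj _) _ fst snd sq⟩, ?_⟩⟩
  · refine h ⟨_, IsAlgSpace.yon_obj _⟩ (ObjectProperty.homMk
      ((AlgSp.yon S).map (Groth.Agent.AlgSpUnivClosed.affProj n V) ≫ p)) ?_ P fst snd sq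
    refine Groth.Agent.AlgSpLib.locP_comp (IsAlgSpace.yon_obj _) (IsAlgSpace.yon_obj _) Y.property
      ((Groth.Agent.AlgSpLib.locP_yon_map_iff _).2 ?_)
      ((Groth.Agent.AlgSpLib.locP_iff_repWith Y.property hp.1).2
        (Groth.Agent.AlgSpLib.repWith_mono (fun _ _ k hk => Groth.Agent.AlgSpLib.EtLocal.of_etale k hk) hp))
    exact inferInstanceAs (LocallyOfFinitePresentation (𝔸(ULift.{u} (Fin n); V.left) ↘ V.left))
  · rintro ⟨W, q, hq, hqs, H⟩
    exact crit W q hq hqs fun n P fst snd sq => H n P fst snd sq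

end Groth.Agent.S10053
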