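import Groth.Statements.S10290
import Groth.Agent.AlgSpLib.Basic
import Mathlib


set_option autoImplicit false
universe u
open CategoryTheory CategoryTheory.Limits AlgebraicGeometry
open AlgSp

namespace Groth.Agent.S10290

/-- A separated morphism of algebraic spaces satisfies the uniqueness part of the valuative criterion. -/
theorem result {S : Scheme.{u}} {X Y : AlgSp.Space S} (f : X ⟶ Y)
    (hf : AlgSp.IsSeparatedMor f.hom) : AlgSp.UniqVC f.hom := by

  intro sq l l' h₁ h₂ h₁' h₂'
  let m := pullback.lift l l' (h₂.trans h₂'.symm)
  obtain ⟨E, e, k, sqE⟩ := hf.1 m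
  have : IsClosedImmersion e.left := hf.2 _ k e sqE
  obtain ⟨g, hg⟩ := (AlgSp.yon S).map_surjective (sqE.lift sq.top ((AlgSp.yon S).map sq.j) (by
    apply pullback.hom_ext
    · simp only [m, Category.assoc, pullback.diagonal_fst, pullback.lift_fst, Category.comp_id]
      exact h₁.symm
    · simp only [m, Category.assoc, pullback.diagonal_snd, pullback.lift_snd, Category.comp_id]
      exact h₁'.symm))
  have he : g ≫ e = sq.j := (AlgSp.yon S).map_injective (by rw [Functor.map_comp, hg, IsPullback.lift_snd])
  have hker : (Spec.map (CommRingCat.ofHom (algebraMap sq.A sq.K))).ker = ⊥ := by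
    rw [Scheme.ker_of_isAffine]
    have hinj : Function.Injective (Spec.map (CommRingCat.ofHom (algebraMap sq.A sq.K))).appTop.hom := by
      have e₁ := Scheme.ΓSpecIso_inv_naturality (CommRingCat.ofHom (algebraMap sq.A sq.K))
      intro a b hab
      apply (Scheme.ΓSpecIso (CommRingCat.of sq.A)).commRingCatIsoToRingEquiv.injective
      apply IsFractionRing.injective sq.A sq.K
      have n := Scheme.ΓSpecIso_naturality (CommRingCat.ofHom (algebraMap sq.A sq.K))
      have ha := congrArg (fun t => t.hom a) n
      have hb := congrArg (fun t => t.hom b) n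
      simp only [CommRingCat.hom_comp, RingHom.comp_apply] at ha hb
      rw [hab] at ha
      exact ha.symm.trans hb
    rw [(RingHom.injective_iff_ker_eq_bot _).1 hinj]
    exact Scheme.IdealSheafData.ext_of_isAffine (by simp [Scheme.IdealSheafData.ofIdealTop_ideal])
  have hb : e.left.ker = ⊥ := le_bot_iff.mp ((Scheme.Hom.le_ker_comp g.left e.left).trans (by
    rw [← Over.comp_left, he]; exact hker.le))
  have : IsIso e.left := IsClosedImmersion.isIso_iff_ker_eq_bot.mpr hb
  have : IsIso ((Over.forget S).map e) := this
  have : IsIso e := isIso_of_reflects_iso e (Over.forget S)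
  have a := congrArg (· ≫ pullback.fst f.hom f.hom) sqE.w
  have b := congrArg (· ≫ pullback.snd f.hom f.hom) sqE.w
  simp only [m, Category.assoc, pullback.lift_fst, pullback.lift_snd, pullback.diagonal_fst,
    pullback.diagonal_snd, Category.comp_id] at a b
  exact (cancel_epi ((AlgSp.yon S).map e)).1 (a.symm.trans b)

end Groth.Agent.S10290
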