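import Groth.Statements.S1010
import Groth.Agent.DQC.CompactQC
import Groth.Agent.DCohPerf.Single
-- import your own Groth.Agent.* helpers here

set_option autoImplicit false
universe u
open CategoryTheory CategoryTheory.Limits AlgebraicGeometry
attribute [local instance] HasDerivedCategory.standard
open Perf

namespace Groth.Agent.S1010

/-- Let the scheme X be quasi-compact and quasi-separated and E a bounded object of D(O_X) with
quasi-coherent cohomology sheaves. There is an integer n₀ > 0 such that for every finite locally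
free O_X-module F and every n ≥ n₀, every morphism F ⟶ E[n] in D(O_X) (an element of Extⁿ(F, E)) is
zero. -/
theorem result (X : Scheme.{u}) [CompactSpace ↥X] [QuasiSeparatedSpace ↥X]
    (E : DCoh.D X) (hE : DCoh.IsQCohD E) (a b : ℤ) [E.IsGE a] [E.IsLE b] :
    ∃ n₀ : ℤ, 0 < n₀ ∧ ∀ (F : X.Modules), FlatMod.IsFinLocFree F → ∀ n : ℤ, n₀ ≤ n →
      ∀ φ : DCoh.inD X F ⟶ E⟦n⟧, φ = 0 := by
  obtain ⟨N, hN⟩ := DQC.exists_hom_unit_eq_zero (X := X)
  refine ⟨max 1 (b - N), by omega, fun F hF n hn φ => ?_⟩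
  let P : CochainComplex X.Modules ℤ := (HomologicalComplex.single X.Modules (ComplexShape.up ℤ) 0).obj F
  have hP : DCoh.IsKFlat P := ModGroth.Perf.isKFlat_of_isStrictlyPerfect (DQC.isStrictlyPerfect_single hF 0)
  let e : DCoh.toD X P ≅ DCoh.inD X F := ((DerivedCategory.singleFunctorIsoCompQ X.Modules 0).app F).symm
  haveI := ModGroth.hasLTensorCx P
  haveI := DQC.hasRSheafHom P
  haveI : (DCoh.LTensorCx P).Additive := DQC.additive_of_adj (DCoh.RSheafHomAdj P)
  have hKP : DCoh.IsPerfect (DCoh.toD X P) :=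
    DCohPerf.isPerfect_of_iso (DCohPerf.isPerfect_inD_of_finLocFree hF) e.symm
  have hL : DQC.HighZero (b - n) (E⟦n⟧) :=
    DQC.HighZero.shift (N := b) (fun i hi => DerivedCategory.isZero_of_isLE E b i hi) n
  have h0 := hN _ ((DQC.homQC_of_isPerfect P hKP).qcoh _ (DQC.isQCohD_shift hE n))
    (fun i hi => (DQC.homLE_finLocFree hF 0).le _ _ hL i (by omega))
    ((DCoh.RSheafHomAdj P).homAddEquiv _ _ ((DQC.unitLTenIso P hP).hom ≫ e.hom ≫ φ))
  rw [AddEquiv.map_eq_zero_iff, Preadditive.IsIso.comp_left_eq_zero, Preadditive.IsIso.comp_left_eq_zero] at h0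
  exact h0

end Groth.Agent.S1010
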