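import Groth.Statements.S10113
import Groth.Agent.FunFld.RR
import Mathlib.CategoryTheory.Sites.LeftExact
import Mathlib.CategoryTheory.Sites.RegularEpi
-- import your own Groth.Agent.* helpers here

set_option autoImplicit false
set_option backward.isDefEq.respectTransparency.types false
universe u
open CategoryTheory CategoryTheory.Limits AlgebraicGeometry
open AlgSp

namespace Groth.Agent.S10113

/-- Let `s, t : R ⟶ U` be a pre-relation of algebraic spaces, `M` an algebraic space and `U ⟶ M` a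
morphism which coequalizes `s, t`, is a surjection of sheaves, and for which `(t, s) : R ⟶ U ×_M U`
is a surjection of sheaves. Then the induced map `U/R ⟶ M` is an isomorphism: `M` represents the
quotient sheaf. -/
theorem result (S : Scheme.{u}) (R U M : AlgSp.Sp S)
    (hR : AlgSp.IsAlgSpace R) (hU : AlgSp.IsAlgSpace U) (hM : AlgSp.IsAlgSpace M) (s t : R ⟶ U)
    (q : U ⟶ M) (w : s ≫ q = t ≫ q) [Epi q] [Epi (pullback.lift t s w.symm : R ⟶ pullback q q)] :
    IsIso (AlgSp.quotSpDesc q w) := by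
  have := IsRegularEpiCategory.regularEpiOfEpi q
  have hq : EffectiveEpi q := inferInstance
  have hπ : pullback.fst q q ≫ AlgSp.quotSpπ s t = pullback.snd q q ≫ AlgSp.quotSpπ s t := by
    rw [← cancel_epi (pullback.lift t s w.symm : R ⟶ pullback q q), pullback.lift_fst_assoc,
      pullback.lift_snd_assoc, AlgSp.quotSp_condition]
  have hd : ∀ {Z : AlgSp.Sp S} (g₁ g₂ : Z ⟶ U), g₁ ≫ q = g₂ ≫ q →
      g₁ ≫ AlgSp.quotSpπ s t = g₂ ≫ AlgSp.quotSpπ s t := by
    intro Z g₁ g₂ h
    have := pullback.lift g₁ g₂ h ≫= hπ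
    rwa [pullback.lift_fst_assoc, pullback.lift_snd_assoc] at this
  refine ⟨EffectiveEpi.desc q (AlgSp.quotSpπ s t) hd, ?_, ?_⟩
  · apply (Cofork.IsColimit.hom_ext (AlgSp.quotSpIsCoequalizer s t))
    show AlgSp.quotSpπ s t ≫ _ = AlgSp.quotSpπ s t ≫ _
    rw [AlgSp.quotSpπ_desc_assoc, EffectiveEpi.fac, Category.comp_id]
  · rw [← cancel_epi q, EffectiveEpi.fac_assoc, AlgSp.quotSpπ_desc, Category.comp_id]

end Groth.Agent.S10113
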