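import Groth.Statements.S10115
import Mathlib.CategoryTheory.Sites.LeftExact
import Groth.Agent.QuotKernelPair.Main
-- import your own Groth.Agent.* helpers here

set_option autoImplicit false
set_option backward.isDefEq.respectTransparency.types false
universe u
open CategoryTheory CategoryTheory.Limits AlgebraicGeometry
open AlgSp AlgSp.GroupoidSp

namespace Groth.Agent.S10115

/-- For a groupoid `(U, R, s, t, c)` in algebraic spaces over `B`, let `(U', R', s', t', c')` be its
restriction along a morphism `g : U' ⟶ U` over `B`. Then `U'/R' ⟶ U/R` is injective; if the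
composite `h : U' ×_{g, U, t} R ⟶ R ⟶ U` of the projection with `s` is a surjection of fppf sheaves
(for instance if `g` is), then it is bijective. -/
theorem result (S : Scheme.{u}) (B : AlgSp.Sp S) (hB : AlgSp.IsAlgSpace B)
    (G G' : AlgSp.GroupoidSp B) (hU : AlgSp.IsAlgSpace G.U) (hR : AlgSp.IsAlgSpace G.R)
    (hU' : AlgSp.IsAlgSpace G'.U) (hR' : AlgSp.IsAlgSpace G'.R) (φ : AlgSp.GroupoidSp.Hom G' G)
    (hφ : φ.IsRestriction) (ψ : G'.quot ⟶ G.quot) (hψ : G'.quotπ ≫ ψ = φ.fU ≫ G.quotπ) :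
    Mono ψ ∧ (Epi (pullback.snd φ.fU G.t ≫ G.s) → IsIso ψ) := by
  have hpre : AlgSp.IsPreEqvRelSp G.s G.t := fun T => by
    refine ⟨fun a => ⟨a ≫ G.e, ?_, ?_⟩, ?_, ?_⟩
    · rw [Category.assoc, G.e_t, Category.comp_id]
    · rw [Category.assoc, G.e_s, Category.comp_id]
    · rintro a b ⟨r, h1, h2⟩
      exact ⟨r ≫ G.i, by rw [Category.assoc, G.i_t, h2], by rw [Category.assoc, G.i_s, h1]⟩
    · rintro a b c ⟨r, h1, h2⟩ ⟨r', h3, h4⟩
      exact ⟨pullback.lift r r' (h2.trans h3.symm) ≫ G.c, by rw [G.comp_t, h1], by rw [G.comp_s, h4]⟩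
  have hm : Mono ψ := Groth.Agent.QuotKernelPair.mono_restrict G.s G.t hpre φ.fU G'.s G'.t φ.fR
    (fun x y ρ h1 h2 => by
      have hB : x ≫ G'.pU = y ≫ G'.pU := by
        rw [← φ.fU_over, ← Category.assoc, ← Category.assoc, ← h1, ← h2, Category.assoc, Category.assoc,
          G.t_over, G.s_over]
      have e : ρ ≫ G.j = pullback.lift x y hB ≫ φ.prodMap := by
        apply pullback.hom_ext
        · rw [Category.assoc, G.j_fst, Category.assoc (pullback.lift x y hB)]
          exact h1.trans ((pullback.lift_fst_assoc _ _ _ _).symm.trans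
            (congrArg (pullback.lift x y hB ≫ ·) (pullback.lift_fst _ _ _).symm))
        · rw [Category.assoc, G.j_snd, Category.assoc (pullback.lift x y hB)]
          exact h2.trans ((pullback.lift_snd_assoc _ _ _ _).symm.trans
            (congrArg (pullback.lift x y hB ≫ ·) (pullback.lift_snd _ _ _).symm))
      exact ⟨hφ.lift ρ _ e, by rw [← G'.j_fst, hφ.lift_snd_assoc, pullback.lift_fst],
        by rw [← G'.j_snd, hφ.lift_snd_assoc, pullback.lift_snd]⟩) ψ hψ
  refine ⟨hm, fun he => ?_⟩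
  have hπ : Epi (AlgSp.quotSpπ G.s G.t) := inferInstanceAs (Epi (coequalizer.π G.s G.t))
  have e : (pullback.snd φ.fU G.t ≫ G.s) ≫ AlgSp.quotSpπ G.s G.t =
      (pullback.fst φ.fU G.t ≫ G'.quotπ) ≫ ψ := by
    rw [Category.assoc, Category.assoc, AlgSp.quotSp_condition, hψ, pullback.condition_assoc]
    rfl
  have : Epi ((pullback.fst φ.fU G.t ≫ G'.quotπ) ≫ ψ) := e ▸ @epi_comp _ _ _ _ _ (pullback.snd φ.fU G.t ≫ G.s) he (AlgSp.quotSpπ G.s G.t) hπ
  have : Epi ψ := epi_of_epi (pullback.fst φ.fU G.t ≫ G'.quotπ) ψ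
  exact isIso_of_mono_of_epi ψ

end Groth.Agent.S10115
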