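import Groth.Statements.S10117
import Mathlib
-- import your own Groth.Agent.* helpers here

set_option autoImplicit false
universe u
open CategoryTheory CategoryTheory.Limits AlgebraicGeometry MonoidalCategory MonObj
open AlgSp AlgSp.GAction

namespace Groth.Agent.S10117

open CategoryTheory MonoidalCategory CartesianMonoidalCategory MonObj

/-- If a group algebraic space `G` over `B` acts freely on an algebraic space `X` over `B`, then `G ×_B
X ⟶ X ×_B X`, `(g, x) ↦ (g x, x)`, is a monomorphism. (The published statement is an equivalence;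
this row states only the direction from free to monomorphism.) -/
theorem result (S : Scheme.{u}) (B : AlgSp.Sp S) (hB : AlgSp.IsAlgSpace B)
    (G X : Over B) [GrpObj G] (hG : AlgSp.IsAlgSpace G.left) (hX : AlgSp.IsAlgSpace X.left)
    (a : AlgSp.GAction G X) (ha : a.IsFree) :
    Mono (CartesianMonoidalCategory.lift a.act (CartesianMonoidalCategory.snd G X)).left := by
  constructor
  intro Z u v huv
  refine ObjectProperty.hom_ext _ (NatTrans.ext (funext fun T => ConcreteCategory.hom_ext _ _ fun z => ?_))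
  let e : (AlgSp.yon S).obj T.unop ⟶ Z := ⟨uliftYonedaEquiv.{u + 1}.symm z⟩
  suffices h : e ≫ u = e ≫ v by
    have h' := congrArg (fun q => uliftYonedaEquiv.{u + 1} q.hom) h
    have h2 : u.hom.app T (uliftYonedaEquiv.{u + 1} (uliftYonedaEquiv.{u + 1}.symm z)) = v.hom.app T (uliftYonedaEquiv.{u + 1} (uliftYonedaEquiv.{u + 1}.symm z)) := h'
    simpa only [Equiv.apply_symm_apply] using h2
  obtain ⟨β, hβ⟩ : ∃ β, β = e ≫ u ≫ (G ⊗ X).hom := ⟨_, rfl⟩
  have hw : v ≫ (G ⊗ X).hom = u ≫ (G ⊗ X).hom := by
    have := congrArg (fun q => q ≫ (X ⊗ X).hom) huv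
    simp only [Category.assoc, Over.w] at this
    exact this.symm
  let U : Over.mk β ⟶ G ⊗ X := Over.homMk (e ≫ u) (by show (e ≫ u) ≫ (G ⊗ X).hom = β; rw [hβ, Category.assoc])
  let V : Over.mk β ⟶ G ⊗ X := Over.homMk (e ≫ v) (by show (e ≫ v) ≫ (G ⊗ X).hom = β; rw [hβ, Category.assoc, hw])
  have hUV : U ≫ CartesianMonoidalCategory.lift a.act (CartesianMonoidalCategory.snd G X) =
      V ≫ CartesianMonoidalCategory.lift a.act (CartesianMonoidalCategory.snd G X) := by
    refine Over.OverMorphism.ext ?_
    exact (Category.assoc _ _ _).trans ((congrArg (e ≫ ·) huv).trans (Category.assoc _ _ _).symm)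
  suffices h : U = V from congrArg CommaMorphism.left h
  have h1 := congrArg (fun f => f ≫ fst _ _) hUV
  have h2 := congrArg (fun f => f ≫ snd _ _) hUV
  simp only [Category.assoc, lift_fst, lift_snd] at h1 h2
  have hmul : ∀ (g h : Over.mk β ⟶ G) (x : Over.mk β ⟶ X),
      lift (g * h) x ≫ a.act = lift g (lift h x ≫ a.act) ≫ a.act := by
    intro g h x
    have := congrArg (fun f => lift (lift g h) x ≫ f) a.mul_act
    simp only [lift_whiskerRight_assoc, lift_lift_associator_hom_assoc, lift_whiskerLeft_assoc] at this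
    rw [Hom.mul_def]
    exact this
  have hone : ∀ (x : Over.mk β ⟶ X), lift (1 : Over.mk β ⟶ G) x ≫ a.act = x := by
    intro x
    have := congrArg (fun f => lift (toUnit _) x ≫ f) a.one_act
    simp only [lift_whiskerRight_assoc, lift_leftUnitor_hom] at this
    rw [Hom.one_def]
    exact this
  refine CartesianMonoidalCategory.hom_ext _ _ ?_ h2
  have hU : lift (U ≫ fst G X) (U ≫ snd G X) = U := by rw [← comp_lift, lift_fst_snd, Category.comp_id]
  have hV : lift (V ≫ fst G X) (U ≫ snd G X) = V := by rw [h2, ← comp_lift, lift_fst_snd, Category.comp_id]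
  have he : lift (U ≫ fst G X) (U ≫ snd G X) ≫ a.act = lift (V ≫ fst G X) (U ≫ snd G X) ≫ a.act := by
    rw [hU, hV]; exact h1
  have := ha β ((V ≫ fst G X)⁻¹ * (U ≫ fst G X)) (U ≫ snd G X) (by
    rw [hmul, he, ← hmul, inv_mul_cancel, hone])
  rw [← Hom.one_def, inv_mul_eq_one] at this
  exact this.symm

end Groth.Agent.S10117
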