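import Groth.Statements.S10121
import Groth.Agent.AlgSpLib.Points
-- import your own Groth.Agent.* helpers here

set_option autoImplicit false
universe u
open CategoryTheory CategoryTheory.Limits AlgebraicGeometry
open AlgSp
set_option backward.isDefEq.respectTransparency.types false

namespace Groth.Agent.S10121

/-- For a pre-equivalence relation `s, t : R ⟶ U` of algebraic spaces, the relation on points of `U`
given by `x ∼ y` when some point `r` of `R` has `t(r) = x` and `s(r) = y` is an equivalence relation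
on `|U|`. -/
theorem result (S : Scheme.{u}) (R U : AlgSp.Sp S)
    (hR : AlgSp.IsAlgSpace R) (hU : AlgSp.IsAlgSpace U) (s t : R ⟶ U) (h : AlgSp.IsPreEqvRelSp s t) :
    _root_.Equivalence (fun x y : AlgSp.Points U =>
      ∃ r : AlgSp.Points R, AlgSp.Points.map t r = x ∧ AlgSp.Points.map s r = y) := by
  have key : ∀ (p : FieldPt R) (f : R ⟶ U), AlgSp.Points.map f (AlgSp.Points.mk p) = AlgSp.Points.mk (p.map f) := fun _ _ => rfl
  refine ⟨?_, ?_, ?_⟩
  · intro x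
    obtain ⟨p, hp⟩ := Groth.Agent.AlgSpLib.exists_ofPt x
    obtain ⟨r, h1, h2⟩ := (h p.pt).refl p.toHom
    refine ⟨AlgSp.Points.ofPt r (IsLocalRing.closedPoint p.K), ?_, ?_⟩
    · rw [AlgSp.Points.map_ofPt, h1, hp]
    · rw [AlgSp.Points.map_ofPt, h2, hp]
  · rintro x y ⟨r, rfl, rfl⟩
    obtain ⟨p, hp⟩ := Groth.Agent.AlgSpLib.exists_ofPt r
    obtain ⟨r', h1, h2⟩ := (h p.pt).symm (x := p.toHom ≫ t) (y := p.toHom ≫ s) ⟨p.toHom, rfl, rfl⟩
    refine ⟨AlgSp.Points.ofPt r' (IsLocalRing.closedPoint p.K), ?_, ?_⟩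
    · rw [AlgSp.Points.map_ofPt, h1, ← hp (IsLocalRing.closedPoint p.K), AlgSp.Points.map_ofPt]
    · rw [AlgSp.Points.map_ofPt, h2, ← hp (IsLocalRing.closedPoint p.K), AlgSp.Points.map_ofPt]
  · rintro x y z ⟨r₁, rfl, hy⟩ ⟨r₂, hy', rfl⟩
    obtain ⟨p, rfl⟩ := AlgSp.Points.mk_surjective r₁
    obtain ⟨q, rfl⟩ := AlgSp.Points.mk_surjective r₂
    have e := hy.trans hy'.symm
    rw [AlgSp.Points.map_mk, AlgSp.Points.map_mk, AlgSp.Points.mk_eq_mk_iff,
      Groth.Agent.AlgSpLib.rel_iff_toHom] at e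
    obtain ⟨Ω, hΩ, w, a, b, hab⟩ := e
    rw [FieldPt.toHom_map, FieldPt.toHom_map] at hab
    let a' : Over.mk w ⟶ p.pt := a
    let b' : Over.mk w ⟶ q.pt := b
    have hab' : ((yon S).map a' ≫ p.toHom) ≫ s = ((yon S).map b' ≫ q.toHom) ≫ t := by
      rw [Category.assoc, Category.assoc]; exact hab
    obtain ⟨r, h1, h2⟩ := (h (Over.mk w)).trans
      (x := ((yon S).map a' ≫ p.toHom) ≫ t) (y := ((yon S).map a' ≫ p.toHom) ≫ s)
      (z := ((yon S).map b' ≫ q.toHom) ≫ s) ⟨_, rfl, rfl⟩ ⟨_, hab'.symm, rfl⟩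
    refine ⟨AlgSp.Points.ofPt r (IsLocalRing.closedPoint Ω), ?_, ?_⟩
    · rw [AlgSp.Points.map_ofPt, h1, Category.assoc, Groth.Agent.AlgSpLib.ofPt_comp,
        ← AlgSp.Points.map_ofPt, AlgSp.Points.ofPt_toHom]
    · rw [AlgSp.Points.map_ofPt, h2, Category.assoc, Groth.Agent.AlgSpLib.ofPt_comp,
        ← AlgSp.Points.map_ofPt, AlgSp.Points.ofPt_toHom]

end Groth.Agent.S10121
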