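import Groth.Statements.S10124
import Groth.Agent.FunFld.RR
-- import your own Groth.Agent.* helpers here

set_option autoImplicit false
set_option backward.isDefEq.respectTransparency.types false
universe u
open CategoryTheory CategoryTheory.Limits AlgebraicGeometry
open AlgSp AlgSp.GroupoidSp

namespace Groth.Agent.S10124

/-- Let `(U, R, s, t, c)` be a groupoid in algebraic spaces over `B`, `K` a field and `r, r' : Spec K ⟶
R` with `t ∘ r = t ∘ r'`; put `u = s ∘ r`, `u' = s ∘ r'`. Then the fibres `Spec K ×_{u, U, s} R` and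
`Spec K ×_{u', U, s} R` are isomorphic as spaces over `Spec K` (existence of an isomorphism over
`Spec K`). -/
theorem result (S : Scheme.{u}) (B : AlgSp.Sp S) (hB : AlgSp.IsAlgSpace B)
    (G : AlgSp.GroupoidSp B) (hU : AlgSp.IsAlgSpace G.U) (hR : AlgSp.IsAlgSpace G.R)
    (K : Type u) [Field K] (σ : Spec (CommRingCat.of K) ⟶ S)
    (r r' : (AlgSp.yon S).obj (Over.mk σ) ⟶ G.R) (h : r ≫ G.t = r' ≫ G.t) :
    Nonempty (Over.mk (pullback.fst (r ≫ G.s) G.s) ≅ Over.mk (pullback.fst (r' ≫ G.s) G.s)) := by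
  have ext2 : ∀ {T : AlgSp.Sp S} {x y x' y' : T ⟶ G.R} (h : x ≫ G.s = y ≫ G.t) (h' : x' ≫ G.s = y' ≫ G.t),
      x = x' → y = y' → pullback.lift x y h ≫ G.c = pullback.lift x' y' h' ≫ G.c := by
    rintro T x y _ _ h h' rfl rfl; rfl
  have nat : ∀ {T T' : AlgSp.Sp S} (k : T' ⟶ T) {x y : T ⟶ G.R} (h : x ≫ G.s = y ≫ G.t),
      k ≫ pullback.lift x y h ≫ G.c = pullback.lift (k ≫ x) (k ≫ y) (by rw [Category.assoc, Category.assoc, h]) ≫ G.c := by
    intro T T' k x y h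
    rw [← Category.assoc]; congr 1
    apply pullback.hom_ext
    · rw [Category.assoc, pullback.lift_fst, pullback.lift_fst]
    · rw [Category.assoc, pullback.lift_snd, pullback.lift_snd]
  have build : ∀ (r r' : (AlgSp.yon S).obj (Over.mk σ) ⟶ G.R) (h : r ≫ G.t = r' ≫ G.t),
      ∃ δ : (AlgSp.yon S).obj (Over.mk σ) ⟶ G.R, δ ≫ G.t = r ≫ G.s ∧ δ ≫ G.s = r' ≫ G.s ∧
        ∀ hi : (r ≫ G.i) ≫ G.s = r' ≫ G.t, δ = pullback.lift (r ≫ G.i) r' hi ≫ G.c := fun r r' h =>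
    ⟨pullback.lift (r ≫ G.i) r' (by rw [Category.assoc, G.i_s, h]) ≫ G.c,
      by rw [G.comp_t, Category.assoc, G.i_t], by rw [G.comp_s], fun _ => rfl⟩
  obtain ⟨δ, δt, δs, hδ⟩ := build r r' h
  obtain ⟨ε, εt, εs, hε⟩ := build r' r h.symm
  let P := pullback (r ≫ G.s) G.s
  let P' := pullback (r' ≫ G.s) G.s
  have c1 : pullback.snd (r ≫ G.s) G.s ≫ G.s = (pullback.fst (r ≫ G.s) G.s ≫ δ) ≫ G.t := by
    rw [Category.assoc, δt, pullback.condition]
  have c2 : pullback.snd (r' ≫ G.s) G.s ≫ G.s = (pullback.fst (r' ≫ G.s) G.s ≫ ε) ≫ G.t := by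
    rw [Category.assoc, εt, pullback.condition]
  let F : P ⟶ P' := pullback.lift (pullback.fst _ _) (pullback.lift _ _ c1 ≫ G.c)
    (by rw [G.comp_s, Category.assoc, δs])
  let F' : P' ⟶ P := pullback.lift (pullback.fst _ _) (pullback.lift _ _ c2 ≫ G.c)
    (by rw [G.comp_s, Category.assoc, εs])
  have cancel : ∀ (r r' : (AlgSp.yon S).obj (Over.mk σ) ⟶ G.R) (h : r ≫ G.t = r' ≫ G.t)
      (δ ε : (AlgSp.yon S).obj (Over.mk σ) ⟶ G.R),
      (∀ hi : (r ≫ G.i) ≫ G.s = r' ≫ G.t, δ = pullback.lift (r ≫ G.i) r' hi ≫ G.c) →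
      (∀ hi : (r' ≫ G.i) ≫ G.s = r ≫ G.t, ε = pullback.lift (r' ≫ G.i) r hi ≫ G.c) →
      ∀ hc : δ ≫ G.s = ε ≫ G.t, pullback.lift δ ε hc ≫ G.c = r ≫ G.s ≫ G.e := by
    intro r r' h δ ε hδ hε hc
    have i1 : (r ≫ G.i) ≫ G.s = r' ≫ G.t := by rw [Category.assoc, G.i_s, h]
    have i2 : (r' ≫ G.i) ≫ G.s = r ≫ G.t := by rw [Category.assoc, G.i_s, h]
    have i3 : r' ≫ G.s = (r' ≫ G.i) ≫ G.t := by rw [Category.assoc, G.i_t]
    obtain rfl := hδ i1
    obtain rfl := hε i2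
    rw [G.assoc (r ≫ G.i) r' _ i1 (by rw [G.comp_t, i3])]
    refine (ext2 _ (show (r ≫ G.i) ≫ G.s = r ≫ G.t by rw [Category.assoc, G.i_s]) rfl ?_).trans (G.i_comp r)
    rw [← G.assoc r' (r' ≫ G.i) r i3 i2]
    refine (ext2 _ (by rw [Category.assoc, Category.assoc, G.e_s, Category.comp_id]) ?_ rfl).trans (G.e_comp r)
    rw [G.comp_i, ← Category.assoc, ← Category.assoc, h]
  refine ⟨Over.isoMk ⟨F, F', ?_, ?_⟩ (pullback.lift_fst _ _ _)⟩
  · apply pullback.hom_ext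
    · show (_ ≫ _) ≫ _ = _
      rw [Category.assoc, pullback.lift_fst, pullback.lift_fst, Category.id_comp]
    · simp only [F, F', Category.assoc, pullback.lift_snd, Category.id_comp]
      rw [nat]
      have d : (pullback.fst (r ≫ G.s) G.s ≫ δ) ≫ G.s = (pullback.fst (r ≫ G.s) G.s ≫ ε) ≫ G.t := by
        rw [Category.assoc, Category.assoc, δs, εt]
      refine (ext2 _ (show (pullback.lift _ _ c1 ≫ G.c) ≫ G.s = (pullback.fst (r ≫ G.s) G.s ≫ ε) ≫ G.t by
        rw [G.comp_s, d]) (pullback.lift_snd _ _ _) (by rw [pullback.lift_fst_assoc])).trans ?_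
      rw [G.assoc _ _ _ c1 d]
      refine (ext2 _ (by rw [Category.assoc, Category.assoc, G.e_t, Category.comp_id]) rfl ?_).trans
        (G.comp_e (pullback.snd (r ≫ G.s) G.s))
      rw [← nat _ (show δ ≫ G.s = ε ≫ G.t by rw [δs, εt]), cancel r r' h δ ε hδ hε, ← Category.assoc r,
        pullback.condition_assoc]
  · apply pullback.hom_ext
    · show (_ ≫ _) ≫ _ = _
      rw [Category.assoc, pullback.lift_fst, pullback.lift_fst, Category.id_comp]
    · simp only [F, F', Category.assoc, pullback.lift_snd, Category.id_comp]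
      rw [nat]
      have d : (pullback.fst (r' ≫ G.s) G.s ≫ ε) ≫ G.s = (pullback.fst (r' ≫ G.s) G.s ≫ δ) ≫ G.t := by
        rw [Category.assoc, Category.assoc, εs, δt]
      refine (ext2 _ (show (pullback.lift _ _ c2 ≫ G.c) ≫ G.s = (pullback.fst (r' ≫ G.s) G.s ≫ δ) ≫ G.t by
        rw [G.comp_s, d]) (pullback.lift_snd _ _ _) (by rw [pullback.lift_fst_assoc])).trans ?_
      rw [G.assoc _ _ _ c2 d]
      refine (ext2 _ (by rw [Category.assoc, Category.assoc, G.e_t, Category.comp_id]) rfl ?_).trans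
        (G.comp_e (pullback.snd (r' ≫ G.s) G.s))
      rw [← nat _ (show ε ≫ G.s = δ ≫ G.t by rw [εs, δt]), cancel r' r h.symm ε δ hε hδ, ← Category.assoc r',
        pullback.condition_assoc]

end Groth.Agent.S10124
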