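import Groth.Statements.S10125
import Groth.Agent.AlgSpFin.Misc4
import Groth.Agent.AlgSpFin.GrpDiag

set_option autoImplicit false
universe u
open CategoryTheory CategoryTheory.Limits AlgebraicGeometry MonoidalCategory MonObj
open AlgSp

namespace Groth.Agent.S10125

/-- For a group algebraic space `G` over a field `k`, the multiplication `m` of `G`, a morphism `G ×_k G
⟶ G`, is both flat and universally open. (The published situation allows any base scheme `S` with
`k` a field over `S`; this row takes `S = Spec k`.) -/
theorem result (k : Type u) [Field k]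
    (G : Over ((AlgSp.yon (Spec (CommRingCat.of k))).obj (Over.mk (𝟙 _)))) [GrpObj G]
    (hG : AlgSp.IsAlgSpace G.left) :
    AlgSp.LocP @Flat (μ[G]).left ∧ AlgSp.IsUnivOpenMor (μ[G]).left := by
  let e : G ⊗ G ≅ G ⊗ G :=
    { hom := CartesianMonoidalCategory.lift (CartesianMonoidalCategory.fst G G) μ[G]
      inv := CartesianMonoidalCategory.lift (CartesianMonoidalCategory.fst G G)
        ((CartesianMonoidalCategory.fst G G)⁻¹ * CartesianMonoidalCategory.snd G G)
      hom_inv_id := by
        apply CartesianMonoidalCategory.hom_ext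
        · simp
        · rw [MonObj.mul_eq_mul]
          simp [MonObj.comp_mul, GrpObj.comp_inv]
      inv_hom_id := by
        apply CartesianMonoidalCategory.hom_ext
        · simp
        · rw [MonObj.mul_eq_mul]
          simp [MonObj.comp_mul, GrpObj.comp_inv] }
  have base : IsPullback (CartesianMonoidalCategory.fst G G).left (CartesianMonoidalCategory.snd G G).left G.hom G.hom :=
    IsPullback.of_hasPullback G.hom G.hom
  let e' : (G ⊗ G).left ≅ (G ⊗ G).left := (Over.forget _).mapIso e
  have sq : IsPullback (CartesianMonoidalCategory.fst G G).left (μ[G]).left G.hom G.hom :=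
    base.of_iso e'.symm (Iso.refl _) (Iso.refl _) (Iso.refl _)
      (by
        simp only [Iso.refl_hom, Category.comp_id]
        exact (congrArg CommaMorphism.left (CartesianMonoidalCategory.lift_fst (CartesianMonoidalCategory.fst G G) _)).symm)
      (by
        simp only [Iso.refl_hom, Category.comp_id]
        show (CartesianMonoidalCategory.snd G G).left = (e.inv ≫ μ[G]).left
        refine congrArg CommaMorphism.left ?_
        have h := congrArg (· ≫ CartesianMonoidalCategory.snd G G) e.inv_hom_id
        simp [e] at h
        exact h.symm)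
      (by simp) (by simp)
  have hB : AlgSp.IsAlgSpace ((AlgSp.yon (Spec (CommRingCat.of k))).obj (Over.mk (𝟙 _))) := AlgSp.IsAlgSpace.yon_obj _
  refine ⟨Groth.Agent.AlgSpLib.locP_baseChange hG hB hG sq ?_, fun W W' hW g fst snd s => ?_⟩
  · obtain ⟨U, a, ha, has⟩ := hG.atlas
    obtain ⟨h, hh⟩ := (AlgSp.yon (Spec (CommRingCat.of k))).map_surjective (a ≫ G.hom)
    refine Groth.Agent.AlgSpLib.locP_of_chart (h := h) ha has (b := (AlgSp.yon _).map (𝟙 (Over.mk (𝟙 (Spec (CommRingCat.of k)))))) ((AlgSp.repWith_yon_map_iff (P := @Etale) _).2 (inferInstanceAs (Etale (𝟙 (Spec (CommRingCat.of k))))))  ?_ ?_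
    · rw [CategoryTheory.Functor.map_id, Category.comp_id]; exact hh.symm
    · exact inferInstanceAs (Flat (show U.left ⟶ Spec (CommRingCat.of k) from h.left))
  · exact Groth.Agent.AlgSpFin.isUnivOpenMor_to_field hG G.hom hW (g ≫ G.hom)
      (fst ≫ (CartesianMonoidalCategory.fst G G).left) snd (s.paste_horiz sq)

end Groth.Agent.S10125
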