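import Groth.Statements.S10126
import Groth.Agent.AlgSpFin.Misc4
import Groth.Agent.AlgSpLib.LocPCover

set_option autoImplicit false
universe u
open CategoryTheory CategoryTheory.Limits AlgebraicGeometry
open AlgSp AlgSp.GroupoidSp

namespace Groth.Agent.S10126

/-- Let `(U, R, s, t, c)` be a groupoid in algebraic spaces over `B` whose object space is `U = Spec k`,
with `k` a field. Then the composition `c : R ×_{s, U, t} R ⟶ R` is flat and universally open. -/
theorem result (S : Scheme.{u}) (B : AlgSp.Sp S) (hB : AlgSp.IsAlgSpace B)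
    (G : AlgSp.GroupoidSp B) (hR : AlgSp.IsAlgSpace G.R) (k : Type u) [Field k]
    (σ : Spec (CommRingCat.of k) ⟶ S) (eU : G.U ≅ (AlgSp.yon S).obj (Over.mk σ)) :
    AlgSp.LocP @Flat G.c ∧ AlgSp.IsUnivOpenMor G.c := by
  have hY : AlgSp.IsAlgSpace ((AlgSp.yon S).obj (Over.mk σ)) := AlgSp.IsAlgSpace.yon_obj _
  let p : G.R ⟶ (AlgSp.yon S).obj (Over.mk σ) := G.s ≫ eU.hom
  have e : pullback.lift (pullback.fst G.s G.t) (pullback.snd G.s G.t) pullback.condition = 𝟙 _ := by
    apply pullback.hom_ext <;> simp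
  have cs : G.c ≫ G.s = pullback.snd G.s G.t ≫ G.s := by
    have := G.comp_s _ _ (pullback.condition (f := G.s) (g := G.t))
    rwa [e, Category.id_comp] at this
  have ext2 : ∀ {T : AlgSp.Sp S} {x y x' y' : T ⟶ G.R} (h : x ≫ G.s = y ≫ G.t) (h' : x' ≫ G.s = y' ≫ G.t),
      x = x' → y = y' → pullback.lift x y h ≫ G.c = pullback.lift x' y' h' ≫ G.c := by
    rintro T x y _ _ h h' rfl rfl; rfl
  have sq : IsPullback (pullback.snd G.s G.t) G.c p p := by
    have wit : ∀ {T : AlgSp.Sp S} (y x : T ⟶ G.R) (hxy : y ≫ p = x ≫ p),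
        ∃! m : T ⟶ pullback G.s G.t, m ≫ pullback.snd G.s G.t = y ∧ m ≫ G.c = x := by
      intro T y x hxy
      have h : x ≫ G.s = y ≫ G.s := by
        rw [← cancel_mono eU.hom, Category.assoc, Category.assoc]; exact hxy.symm
      have h1 : x ≫ G.s = (y ≫ G.i) ≫ G.t := by rw [Category.assoc, G.i_t, h]
      have h2 : (y ≫ G.i) ≫ G.s = y ≫ G.t := by rw [Category.assoc, G.i_s]
      refine ⟨pullback.lift (pullback.lift x (y ≫ G.i) h1 ≫ G.c) y (by rw [G.comp_s, h2]),
        ⟨pullback.lift_snd _ _ _, ?_⟩, ?_⟩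
      · rw [G.assoc x (y ≫ G.i) y h1 h2]
        refine (ext2 _ (by rw [Category.assoc, Category.assoc, G.e_t, Category.comp_id]) rfl ?_).trans (G.comp_e x)
        exact (G.i_comp y).trans (by rw [← Category.assoc, ← h, Category.assoc])
      · rintro m ⟨hm1, hm2⟩
        have hm : (m ≫ pullback.fst G.s G.t) ≫ G.s = y ≫ G.t := by
          rw [Category.assoc, pullback.condition, ← Category.assoc, hm1]
        have hx : pullback.lift (m ≫ pullback.fst G.s G.t) y hm ≫ G.c = x := by
          rw [← hm2]; congr 1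
          exact pullback.hom_ext (pullback.lift_fst _ _ _) ((pullback.lift_snd _ _ _).trans hm1.symm)
        apply pullback.hom_ext
        · rw [pullback.lift_fst]
          have h3 : y ≫ G.s = (y ≫ G.i) ≫ G.t := by rw [Category.assoc, G.i_t]
          symm
          refine (ext2 _ (by rw [G.comp_s]; exact h3) hx.symm rfl).trans ?_
          rw [G.assoc _ y _ hm h3]
          refine (ext2 _ (by simp only [Category.assoc, G.e_t, Category.comp_id]) rfl ?_).trans
            (G.comp_e (m ≫ pullback.fst G.s G.t))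
          exact (G.comp_i y).trans (by rw [← Category.assoc (m ≫ pullback.fst G.s G.t), hm, Category.assoc])
        · rw [pullback.lift_snd, hm1]
    have w : pullback.snd G.s G.t ≫ p = G.c ≫ p := by
      simp only [p, ← Category.assoc, cs]
    choose l hl hu using fun (c : PullbackCone p p) => wit c.fst c.snd c.condition
    exact ⟨⟨w⟩, ⟨PullbackCone.IsLimit.mk w l (fun c => (hl c).1) (fun c => (hl c).2)
      fun c m a b => hu c m ⟨a, b⟩⟩⟩
  have hflat : AlgSp.LocP @Flat p := by
    intro U V a b h ha hb _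
    obtain ⟨g, hg⟩ := (AlgSp.yon S).map_surjective b
    rw [← hg] at hb
    have hge : Etale g.left := (AlgSp.repWith_yon_map_iff (P := @Etale) g).1 hb
    have hco : Flat (h.left ≫ g.left) :=
      inferInstanceAs (Flat (show U.left ⟶ Spec (CommRingCat.of k) from h.left ≫ g.left))
    let Γ : U.left ⟶ pullback (h.left ≫ g.left) g.left := pullback.lift (𝟙 _) h.left (Category.id_comp _)
    have e1 : Γ ≫ pullback.fst _ _ = 𝟙 _ := pullback.lift_fst _ _ _
    have : Etale (pullback.fst (h.left ≫ g.left) g.left) := inferInstance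
    have : Etale (Γ ≫ pullback.fst (h.left ≫ g.left) g.left) := by rw [e1]; infer_instance
    have : Etale Γ := Etale.of_comp Γ (pullback.fst _ _)
    have : Flat (pullback.snd (h.left ≫ g.left) g.left) := inferInstance
    have : Flat Γ := inferInstance
    rw [← pullback.lift_snd (f := h.left ≫ g.left) (g := g.left) (𝟙 _) h.left (Category.id_comp _)]
    exact MorphismProperty.comp_mem _ Γ _ ‹Flat Γ› ‹_›
  have hopen : AlgSp.IsUnivOpenMor p := Groth.Agent.AlgSpFin.isUnivOpenMor_to_field hR p
  exact ⟨Groth.Agent.AlgSpLib.locP_baseChange hR hY hR sq hflat,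
    fun W W' hW h fst snd sq' => hopen hW _ _ _ (sq'.paste_horiz sq)⟩

end Groth.Agent.S10126
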