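import Groth.Statements.S10130
import Groth.Agent.AlgSpLib.Points
import Groth.Agent.AlgSpFin.FinitePiece
-- import your own Groth.Agent.* helpers here

set_option autoImplicit false
set_option backward.isDefEq.respectTransparency.types false
universe u
open CategoryTheory CategoryTheory.Limits AlgebraicGeometry
open AlgSp AlgSp.GroupoidSp

namespace Groth.Agent.S10130

/-- Let `(U, R, s, t, c)` be a groupoid in algebraic spaces over `B` with `s, t` open. For every open
subspace `W ⊂ U`, the open subspace `s(t⁻¹(W))` of `U` is `R`-invariant. -/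
theorem result (S : Scheme.{u}) (B : AlgSp.Sp S) (hB : AlgSp.IsAlgSpace B)
    (G : AlgSp.GroupoidSp B) (hU : AlgSp.IsAlgSpace G.U) (hR : AlgSp.IsAlgSpace G.R)
    (hs : AlgSp.IsOpenMor G.s) (ht : AlgSp.IsOpenMor G.t)
    (W W' : AlgSp.Sp S) (w : W ⟶ G.U) (w' : W' ⟶ G.U)
    (hw : AlgSp.RepWith @IsOpenImmersion w) (hw' : AlgSp.RepWith @IsOpenImmersion w')
    (himg : Set.range (AlgSp.Points.map w') =
      AlgSp.Points.map G.s '' (AlgSp.Points.map G.t ⁻¹' Set.range (AlgSp.Points.map w))) :
    G.IsInvariant w' := by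
  let A : Set (AlgSp.Points G.U) :=
    AlgSp.Points.map G.s '' (AlgSp.Points.map G.t ⁻¹' Set.range (AlgSp.Points.map w))
  have nat : ∀ ρ : AlgSp.Points G.R, AlgSp.Points.map G.t ρ ∈ A ↔ AlgSp.Points.map G.s ρ ∈ A := by
    have one : ∀ ρ : AlgSp.Points G.R, AlgSp.Points.map G.t ρ ∈ A → AlgSp.Points.map G.s ρ ∈ A := by
      rintro ρ ⟨α, hα, hαs⟩
      obtain ⟨z, hz₁, hz₂⟩ := Groth.Agent.AlgSpLib.exists_point_of_isPullback
        (IsPullback.of_hasPullback G.s G.t) α ρ hαs
      have e : pullback.lift (pullback.fst G.s G.t) (pullback.snd G.s G.t) pullback.condition = 𝟙 _ := by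
        apply pullback.hom_ext <;> simp
      have ct : G.c ≫ G.t = pullback.fst G.s G.t ≫ G.t := by
        have := G.comp_t _ _ (pullback.condition (f := G.s) (g := G.t))
        rwa [e, Category.id_comp] at this
      have cs : G.c ≫ G.s = pullback.snd G.s G.t ≫ G.s := by
        have := G.comp_s _ _ (pullback.condition (f := G.s) (g := G.t))
        rwa [e, Category.id_comp] at this
      refine ⟨AlgSp.Points.map G.c z, ?_, ?_⟩
      · rw [Set.mem_preimage, ← AlgSp.Points.map_comp, ct, AlgSp.Points.map_comp, hz₁]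
        exact hα
      · rw [← AlgSp.Points.map_comp, cs, AlgSp.Points.map_comp, hz₂]
    refine fun ρ => ⟨one ρ, fun h => ?_⟩
    have := one (AlgSp.Points.map G.i ρ)
    rw [← AlgSp.Points.map_comp, ← AlgSp.Points.map_comp, G.i_t, G.i_s] at this
    exact this h
  have key : ∀ {T : Over S} (g : (AlgSp.yon S).obj T ⟶ G.U),
      (∃ a : (AlgSp.yon S).obj T ⟶ W', a ≫ w' = g) ↔ ∀ x, AlgSp.Points.ofPt g x ∈ A := by
    intro T g
    refine ⟨?_, fun h => Groth.Agent.AlgSpFin.exists_factor_of_range hw' g (by rw [himg]; exact h)⟩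
    rintro ⟨a, rfl⟩ x
    show _ ∈ A
    exact himg.le ⟨AlgSp.Points.ofPt a x, AlgSp.Points.map_ofPt _ _ _⟩
  intro T r
  rw [key, key]
  exact forall_congr' fun x => by
    rw [← AlgSp.Points.map_ofPt, ← AlgSp.Points.map_ofPt]
    exact nat _

end Groth.Agent.S10130
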