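import Groth.Statements.S10131
import Groth.Agent.AlgStLib.SpDiagProps
import Groth.Agent.AlgSpLib.Compact
import Groth.Agent.AlgSpFin.ImmersionTop
import Groth.Agent.AlgSpFin.FinitePiece
import Groth.Agent.AlgSpFin.OpenSubspace
-- import your own Groth.Agent.* helpers here

set_option autoImplicit false
set_option backward.isDefEq.respectTransparency.types false
universe u
open CategoryTheory CategoryTheory.Limits AlgebraicGeometry
open AlgSp AlgSp.GroupoidSp

namespace Groth.Agent.S10131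

/-- Let `(U, R, s, t, c)` be a groupoid in algebraic spaces over `B` with `s, t` open and quasi-compact.
Then `U` has an open covering by `R`-invariant quasi-compact open subspaces. -/
theorem result (S : Scheme.{u}) (B : AlgSp.Sp S) (hB : AlgSp.IsAlgSpace B)
    (G : AlgSp.GroupoidSp B) (hU : AlgSp.IsAlgSpace G.U) (hR : AlgSp.IsAlgSpace G.R)
    (hs : AlgSp.IsOpenMor G.s ∧ AlgSp.IsQuasiCompactMor G.s) (ht : AlgSp.IsOpenMor G.t ∧ AlgSp.IsQuasiCompactMor G.t)
    (x : AlgSp.Points G.U) :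
    ∃ (W : AlgSp.Sp S) (w : W ⟶ G.U), AlgSp.RepWith @IsOpenImmersion w ∧ G.IsInvariant w ∧
      AlgSp.IsQuasiCompactSp W ∧ x ∈ Set.range (AlgSp.Points.map w) := by
  obtain ⟨V₀, hV₀, hc₀, hx₀, -⟩ := Groth.Agent.AlgSpLib.exists_compact_nhd hU x Set.univ isOpen_univ trivial
  obtain ⟨W₀, j₀, hj₀, hr₀⟩ := Groth.Agent.AlgSpFin.exists_open_subspace ⟨G.U, hU⟩ V₀ hV₀
  have emb : ∀ {Z : AlgSp.Sp S} {j : Z ⟶ G.U}, AlgSp.IsAlgSpace Z → AlgSp.RepWith @IsOpenImmersion j →
      IsCompact (Set.range (AlgSp.Points.map j)) → CompactSpace (AlgSp.Points Z) := by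
    intro Z j hZ hj hc
    have : Mono j := Groth.Agent.AlgSpLib.mono_of_repWith hj fun _ _ k hk => by
      have : IsOpenImmersion k := hk
      infer_instance
    have het : IsOpenMap (AlgSp.Points.map j) := Groth.Agent.AlgSpLib.isOpenMap_map_of_isEtaleMor hZ
      (Groth.Agent.AlgSpLib.isEtaleMor_of_repWith (Groth.Agent.AlgSpLib.repWith_mono (fun _ _ k hk => by
        have : IsOpenImmersion k := hk
        infer_instance) hj))
    have he : Topology.IsOpenEmbedding (AlgSp.Points.map j) := .of_continuous_injective_isOpenMap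
      (AlgSp.Points.continuous_map _) (Groth.Agent.AlgSpFin.injective_map_of_mono j) het
    exact ⟨by rw [he.isEmbedding.isCompact_iff, Set.image_univ]; exact hc⟩
  have hW₀c : AlgSp.IsQuasiCompactSp W₀.obj :=
    (Groth.Agent.AlgSpLib.isQuasiCompactSp_iff_compactSpace W₀.property).2 (emb W₀.property hj₀ (hr₀ ▸ hc₀))
  have sq : IsPullback (pullback.snd j₀.hom G.t) (pullback.fst j₀.hom G.t) G.t j₀.hom :=
    (IsPullback.of_hasPullback j₀.hom G.t).flip
  have : CompactSpace (AlgSp.Points (pullback j₀.hom G.t)) :=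
    Groth.Agent.AlgSpLib.compactSpace_points_of_isQuasiCompactSp (ht.2 W₀.property hW₀c _ _ _ sq)
  let A : Set (AlgSp.Points G.U) := AlgSp.Points.map G.s '' (AlgSp.Points.map G.t ⁻¹' V₀)
  have hpre : AlgSp.Points.map G.t ⁻¹' V₀ = Set.range (AlgSp.Points.map (pullback.snd j₀.hom G.t)) := by
    ext ρ
    constructor
    · intro hρ
      obtain ⟨w, hw⟩ := hr₀.ge hρ
      obtain ⟨z, -, hz⟩ := Groth.Agent.AlgSpLib.exists_point_of_isPullback
        (IsPullback.of_hasPullback j₀.hom G.t) w ρ hw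
      exact ⟨z, hz⟩
    · rintro ⟨z, rfl⟩
      rw [Set.mem_preimage, ← AlgSp.Points.map_comp, ← pullback.condition, AlgSp.Points.map_comp]
      exact hr₀.le ⟨_, rfl⟩
  have hAc : IsCompact A := by
    refine IsCompact.image ?_ (AlgSp.Points.continuous_map _)
    rw [hpre]
    exact isCompact_range (AlgSp.Points.continuous_map _)
  have hAo : IsOpen A := hs.1 _ (hV₀.preimage (AlgSp.Points.continuous_map _))
  obtain ⟨W', w', hw', hr'⟩ := Groth.Agent.AlgSpFin.exists_open_subspace ⟨G.U, hU⟩ A hAo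
  refine ⟨W'.obj, w'.hom, hw', ?_, (Groth.Agent.AlgSpLib.isQuasiCompactSp_iff_compactSpace W'.property).2
    (emb W'.property hw' (hr' ▸ hAc)), hr'.ge ⟨AlgSp.Points.map G.e x, ?_, ?_⟩⟩
  · have nat : ∀ ρ : AlgSp.Points G.R, AlgSp.Points.map G.t ρ ∈ A ↔ AlgSp.Points.map G.s ρ ∈ A := by
      have one : ∀ ρ : AlgSp.Points G.R, AlgSp.Points.map G.t ρ ∈ A → AlgSp.Points.map G.s ρ ∈ A := by
        rintro ρ ⟨α, hα, hαs⟩
        obtain ⟨z, hz₁, hz₂⟩ := Groth.Agent.AlgSpLib.exists_point_of_isPullback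
          (IsPullback.of_hasPullback G.s G.t) α ρ hαs
        have e : pullback.lift (pullback.fst G.s G.t) (pullback.snd G.s G.t) pullback.condition = 𝟙 _ := by
          apply pullback.hom_ext <;> simp
        have ct : G.c ≫ G.t = pullback.fst G.s G.t ≫ G.t := by
          have := G.comp_t _ _ (pullback.condition (f := G.s) (g := G.t))
          rwa [e, Category.id_comp] at this
        have cs : G.c ≫ G.s = pullback.snd G.s G.t ≫ G.s := by
          have := G.comp_s _ _ (pullback.condition (f := G.s) (g := G.t))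
          rwa [e, Category.id_comp] at this
        refine ⟨AlgSp.Points.map G.c z, ?_, ?_⟩
        · rw [Set.mem_preimage, ← AlgSp.Points.map_comp, ct, AlgSp.Points.map_comp, hz₁]
          exact hα
        · rw [← AlgSp.Points.map_comp, cs, AlgSp.Points.map_comp, hz₂]
      refine fun ρ => ⟨one ρ, fun h => ?_⟩
      have := one (AlgSp.Points.map G.i ρ)
      rw [← AlgSp.Points.map_comp, ← AlgSp.Points.map_comp, G.i_t, G.i_s] at this
      exact this h
    have key : ∀ {T : Over S} (g : (AlgSp.yon S).obj T ⟶ G.U),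
        (∃ a : (AlgSp.yon S).obj T ⟶ W'.obj, a ≫ w'.hom = g) ↔ ∀ y, AlgSp.Points.ofPt g y ∈ A := by
      intro T g
      refine ⟨?_, fun h => Groth.Agent.AlgSpFin.exists_factor_of_range hw' g (fun y => hr'.ge (h y))⟩
      rintro ⟨a, rfl⟩ y
      exact hr'.le ⟨AlgSp.Points.ofPt a y, AlgSp.Points.map_ofPt _ _ _⟩
    intro T r
    rw [key, key]
    exact forall_congr' fun y => by
      rw [← AlgSp.Points.map_ofPt, ← AlgSp.Points.map_ofPt]
      exact nat _
  · rw [Set.mem_preimage, ← AlgSp.Points.map_comp, G.e_t, AlgSp.Points.map_id]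
    exact hx₀
  · rw [← AlgSp.Points.map_comp, G.e_s, AlgSp.Points.map_id]

end Groth.Agent.S10131
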