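import Groth.Statements.S10142
-- import your own Groth.Agent.* helpers here

set_option autoImplicit false
universe u
open CategoryTheory CategoryTheory.Limits AlgebraicGeometry
open AlgSp AlgSp.GroupoidSp

namespace Groth.Agent.S10142

section Aux
variable {S : Scheme.{u}} {B : AlgSp.Sp S} (G : AlgSp.GroupoidSp B) {T T' : AlgSp.Sp S}

noncomputable def mul (α β : T ⟶ G.R) (h : α ≫ G.s = β ≫ G.t) : T ⟶ G.R := pullback.lift α β h ≫ G.c

theorem mul_s (α β : T ⟶ G.R) (h : α ≫ G.s = β ≫ G.t) : mul G α β h ≫ G.s = β ≫ G.s := G.comp_s α β h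

theorem mul_t (α β : T ⟶ G.R) (h : α ≫ G.s = β ≫ G.t) : mul G α β h ≫ G.t = α ≫ G.t := G.comp_t α β h

theorem mul_congr {α α' β β' : T ⟶ G.R} (e₁ : α = α') (e₂ : β = β') (h : α ≫ G.s = β ≫ G.t) :
    mul G α β h = mul G α' β' (by rw [← e₁, ← e₂, h]) := by
  subst e₁; subst e₂; rfl

theorem comp_mul (f : T' ⟶ T) (α β : T ⟶ G.R) (h : α ≫ G.s = β ≫ G.t) :
    f ≫ mul G α β h = mul G (f ≫ α) (f ≫ β) (by rw [Category.assoc, Category.assoc, h]) := by
  rw [mul, mul, ← Category.assoc]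
  congr 1
  refine pullback.hom_ext ?_ ?_ <;> simp only [Category.assoc, pullback.lift_fst, pullback.lift_snd]

theorem c_eq : G.c = mul G (pullback.fst G.s G.t) (pullback.snd G.s G.t) pullback.condition := by
  rw [mul, show pullback.lift _ _ pullback.condition = 𝟙 (pullback G.s G.t) from
    pullback.hom_ext (by simp) (by simp), Category.id_comp]

theorem ai_t (α : T ⟶ G.R) : (α ≫ G.i) ≫ G.t = α ≫ G.s :=
  (Category.assoc _ _ _).trans (congrArg (α ≫ ·) G.i_t)

theorem ai_s (α : T ⟶ G.R) : (α ≫ G.i) ≫ G.s = α ≫ G.t :=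
  (Category.assoc _ _ _).trans (congrArg (α ≫ ·) G.i_s)

theorem mul_assoc' (α β γ : T ⟶ G.R) (h₁ : α ≫ G.s = β ≫ G.t) (h₂ : β ≫ G.s = γ ≫ G.t) :
    mul G (mul G α β h₁) γ ((mul_s G α β h₁).trans h₂) =
      mul G α (mul G β γ h₂) (h₁.trans (mul_t G β γ h₂).symm) :=
  G.assoc α β γ h₁ h₂

theorem mul_one' (α β : T ⟶ G.R) (hβ : β = α ≫ G.s ≫ G.e) (h : α ≫ G.s = β ≫ G.t) : mul G α β h = α := by
  subst hβ; exact G.comp_e α

theorem one_mul' (α β : T ⟶ G.R) (hβ : β = α ≫ G.t ≫ G.e) (h : β ≫ G.s = α ≫ G.t) : mul G β α h = α := by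
  subst hβ; exact G.e_comp α

theorem cancel₁ (α γ : T ⟶ G.R) (h : α ≫ G.s = γ ≫ G.t) :
    mul G (mul G α γ h) (γ ≫ G.i) ((mul_s G α γ h).trans (ai_t G γ).symm) = α :=
  (mul_assoc' G α γ _ h (ai_t G γ).symm).trans (mul_one' G α _
    ((G.comp_i γ).trans (by rw [reassoc_of% h])) _)

theorem cancel₂ (α γ : T ⟶ G.R) (h : α ≫ G.s = γ ≫ G.s) :
    mul G (mul G α (γ ≫ G.i) (h.trans (ai_t G γ).symm)) γ ((mul_s G _ _ _).trans (ai_s G γ)) = α :=
  (mul_assoc' G α _ γ _ (ai_s G γ)).trans (mul_one' G α _ ((G.i_comp γ).trans (by rw [reassoc_of% h])) _)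

theorem cancel₃ (α γ : T ⟶ G.R) (h : α ≫ G.t = γ ≫ G.t) :
    mul G α (mul G (α ≫ G.i) γ ((ai_s G α).trans h)) ((ai_t G α).symm.trans (mul_t G _ _ _).symm) = γ :=
  (mul_assoc' G α _ γ (ai_t G α).symm ((ai_s G α).trans h)).symm.trans
    (one_mul' G γ _ ((G.comp_i α).trans (by rw [reassoc_of% h])) _)

theorem cancel₄ (α γ : T ⟶ G.R) (h : α ≫ G.s = γ ≫ G.t) :
    mul G (α ≫ G.i) (mul G α γ h) ((ai_s G α).trans (mul_t G α γ h).symm) = γ :=
  (mul_assoc' G _ α γ (ai_s G α) h).symm.trans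
    (one_mul' G γ _ ((G.i_comp α).trans (by rw [reassoc_of% h])) _)

theorem isPullback_c : IsPullback G.c (pullback.snd G.s G.t) G.s G.s := by
  have w : G.c ≫ G.s = pullback.snd G.s G.t ≫ G.s := by rw [c_eq]; exact mul_s G _ _ _
  refine IsPullback.of_isLimit (c := PullbackCone.mk G.c (pullback.snd G.s G.t) w)
    (PullbackCone.IsLimit.mk _
      (fun q => pullback.lift (mul G q.fst (q.snd ≫ G.i) (q.condition.trans (ai_t G q.snd).symm))
        q.snd ((mul_s G _ _ _).trans (ai_s G q.snd)))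
      (fun q => cancel₂ G q.fst q.snd q.condition) (fun q => pullback.lift_snd _ _ _)
      fun q m h₁ h₂ => ?_)
  refine pullback.hom_ext ?_ (h₂.trans (pullback.lift_snd _ _ _).symm)
  rw [pullback.lift_fst]
  have hh : (m ≫ pullback.fst G.s G.t) ≫ G.s = (m ≫ pullback.snd G.s G.t) ≫ G.t := by
    rw [Category.assoc, Category.assoc, pullback.condition]
  rw [← cancel₁ G (m ≫ pullback.fst G.s G.t) (m ≫ pullback.snd G.s G.t) hh]
  refine mul_congr G ?_ (by rw [h₂]) _
  rw [← h₁]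
  conv_rhs => rw [c_eq]
  rw [comp_mul]

theorem shear (φ : pullback G.t G.t ⟶ pullback G.s G.t)
    (h1 : φ ≫ pullback.fst G.s G.t = pullback.fst G.t G.t)
    (h2 : φ ≫ pullback.snd G.s G.t = mul G (pullback.fst G.t G.t ≫ G.i) (pullback.snd G.t G.t)
      ((ai_s G _).trans pullback.condition)) :
    IsIso φ ∧ φ ≫ G.c = pullback.snd G.t G.t := by
  have hc : φ ≫ G.c = pullback.snd G.t G.t := by
    rw [c_eq, comp_mul]
    exact (mul_congr G h1 h2 _).trans (cancel₃ G _ _ pullback.condition)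
  let ψ : pullback G.s G.t ⟶ pullback G.t G.t :=
    pullback.lift (pullback.fst G.s G.t) G.c (by rw [c_eq]; exact (mul_t G _ _ _).symm)
  refine ⟨⟨ψ, pullback.hom_ext ?_ ?_, pullback.hom_ext ?_ ?_⟩, hc⟩
  · rw [Category.assoc, pullback.lift_fst, Category.id_comp, h1]
  · rw [Category.assoc, pullback.lift_snd, Category.id_comp, hc]
  · rw [Category.assoc, h1, Category.id_comp, pullback.lift_fst]
  · rw [Category.assoc, h2, comp_mul, Category.id_comp]
    refine (mul_congr G (α' := pullback.fst G.s G.t ≫ G.i) (by rw [← Category.assoc, pullback.lift_fst])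
      ((pullback.lift_snd _ _ _).trans (c_eq G)) _).trans (cancel₄ G _ _ pullback.condition)

end Aux

/-- For a groupoid in algebraic spaces `(U, R, s, t, c, e, i)` over `B`: the square with sides `c : R
×_{s,U,t} R ⟶ R`, `pr_1 : R ×_{s,U,t} R ⟶ R`, `s` and `s` is cartesian, and the morphism `R
×_{t,U,t} R ⟶ R ×_{s,U,t} R`, `(α, β) ↦ (α, i(α) ∘ β)`, is an isomorphism whose composite with `c`
is the second projection `pr_1 : R ×_{t,U,t} R ⟶ R`. (The published statement also lists the square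
formed by `pr_0`, `pr_1`, `s`, `t`, which is cartesian by definition of the fibre product.) -/
theorem result (S : Scheme.{u}) (B : AlgSp.Sp S) (hB : AlgSp.IsAlgSpace B)
    (G : AlgSp.GroupoidSp B) (hU : AlgSp.IsAlgSpace G.U) (hR : AlgSp.IsAlgSpace G.R) :
    IsPullback G.c (pullback.snd G.s G.t) G.s G.s ∧
      ∀ φ : pullback G.t G.t ⟶ pullback G.s G.t,
        φ ≫ pullback.fst G.s G.t = pullback.fst G.t G.t →
        φ ≫ pullback.snd G.s G.t =
          pullback.lift (pullback.fst G.t G.t ≫ G.i) (pullback.snd G.t G.t)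
            ((Category.assoc _ _ _).trans ((congrArg (pullback.fst G.t G.t ≫ ·) G.i_s).trans pullback.condition)) ≫ G.c →
        IsIso φ ∧ φ ≫ G.c = pullback.snd G.t G.t := by
  exact ⟨isPullback_c G, fun φ h1 h2 => shear G φ h1 h2⟩

end Groth.Agent.S10142
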