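import Groth.Statements.S10145
import Groth.Agent.FunFld.RR
-- import your own Groth.Agent.* helpers here

set_option autoImplicit false
set_option backward.isDefEq.respectTransparency.types false
universe u
open CategoryTheory CategoryTheory.Limits AlgebraicGeometry
open AlgSp AlgSp.GroupoidSp

namespace Groth.Agent.S10145

/-- Let `(U, R, s, t, c)` be a groupoid in algebraic spaces over `B` whose object space is `U = Spec k`,
and let `r : Spec k ⟶ R` be such that `s ∘ r` and `t ∘ r` are automorphisms of `Spec k`; write `a =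
r ∘ (s ∘ r)⁻¹`, so that `s ∘ a = id` and `t ∘ a` is an automorphism. Then `R ⟶ R`, `f ↦ c(a ∘ t ∘ f,
f)`, is an automorphism of `R` mapping `e` to `a` (the point `r`). -/
theorem result (S : Scheme.{u}) (B : AlgSp.Sp S) (hB : AlgSp.IsAlgSpace B)
    (G : AlgSp.GroupoidSp B) (hR : AlgSp.IsAlgSpace G.R) (k : Type u) [Field k]
    (σ : Spec (CommRingCat.of k) ⟶ S) (eU : G.U ≅ (AlgSp.yon S).obj (Over.mk σ))
    (a : G.U ⟶ G.R) (ha : a ≫ G.s = 𝟙 G.U) [IsIso (a ≫ G.t)] :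
    IsIso (pullback.lift (G.t ≫ a) (𝟙 G.R) (((Category.assoc _ _ _).trans (congrArg (G.t ≫ ·) ha)).trans ((Category.comp_id _).trans (Category.id_comp _).symm)) ≫ G.c) ∧
      G.e ≫ (pullback.lift (G.t ≫ a) (𝟙 G.R) (((Category.assoc _ _ _).trans (congrArg (G.t ≫ ·) ha)).trans ((Category.comp_id _).trans (Category.id_comp _).symm)) ≫ G.c) = a := by
  obtain ⟨Φ, hΦ⟩ : ∃ Φ : G.R ⟶ G.R, Φ = pullback.lift (G.t ≫ a) (𝟙 G.R)
      (((Category.assoc _ _ _).trans (congrArg (G.t ≫ ·) ha)).trans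
        ((Category.comp_id _).trans (Category.id_comp _).symm)) ≫ G.c := ⟨_, rfl⟩
  rw [← hΦ]
  have ext2 : ∀ {T : AlgSp.Sp S} {x y x' y' : T ⟶ G.R} (h : x ≫ G.s = y ≫ G.t) (h' : x' ≫ G.s = y' ≫ G.t),
      x = x' → y = y' → pullback.lift x y h ≫ G.c = pullback.lift x' y' h' ≫ G.c := by
    rintro T x y _ _ h h' rfl rfl; rfl
  have nat : ∀ {T T' : AlgSp.Sp S} (k : T' ⟶ T) {x y : T ⟶ G.R} (h : x ≫ G.s = y ≫ G.t),
      k ≫ pullback.lift x y h ≫ G.c = pullback.lift (k ≫ x) (k ≫ y) (by rw [Category.assoc, Category.assoc, h]) ≫ G.c := by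
    intro T T' k x y h
    rw [← Category.assoc]; congr 1
    apply pullback.hom_ext
    · rw [Category.assoc, pullback.lift_fst, pullback.lift_fst]
    · rw [Category.assoc, pullback.lift_snd, pullback.lift_snd]
  let θ := a ≫ G.t
  have hΦt : Φ ≫ G.t = G.t ≫ θ := by rw [hΦ, G.comp_t, Category.assoc]
  let b : G.R ⟶ G.R := G.t ≫ inv θ ≫ a
  have hb : (b ≫ G.i) ≫ G.s = 𝟙 G.R ≫ G.t := by
    rw [Category.assoc, G.i_s, Category.id_comp]
    simp only [b, Category.assoc]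
    rw [IsIso.inv_hom_id, Category.comp_id]
  refine ⟨⟨pullback.lift (b ≫ G.i) (𝟙 G.R) hb ≫ G.c, ?_, ?_⟩, ?_⟩
  · rw [nat]
    have e1 : Φ ≫ b = G.t ≫ a := by
      simp only [b]; rw [reassoc_of% hΦt, IsIso.hom_inv_id_assoc]
    have h1 : (G.t ≫ a ≫ G.i) ≫ G.s = (G.t ≫ a) ≫ G.t := by simp [G.i_s]
    have h2 : (G.t ≫ a) ≫ G.s = 𝟙 G.R ≫ G.t := by rw [Category.assoc, ha, Category.comp_id, Category.id_comp]
    refine (ext2 _ (show (G.t ≫ a ≫ G.i) ≫ G.s = (pullback.lift (G.t ≫ a) (𝟙 G.R) h2 ≫ G.c) ≫ G.t by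
      rw [h1, G.comp_t]) (by rw [reassoc_of% e1]) (by rw [Category.comp_id, hΦ])).trans ?_
    rw [← G.assoc (G.t ≫ a ≫ G.i) (G.t ≫ a) (𝟙 G.R) h1 h2]
    refine (ext2 _ (by rw [Category.assoc, Category.assoc, G.e_s, Category.comp_id]) ?_ rfl).trans (G.e_comp (𝟙 G.R))
    refine (ext2 _ (by rw [Category.assoc, G.i_s]) (by rw [Category.assoc]) rfl).trans ((G.i_comp (G.t ≫ a)).trans ?_)
    simp [reassoc_of% ha]
  · obtain ⟨Ψ, hΨ⟩ : ∃ Ψ, Ψ = pullback.lift (b ≫ G.i) (𝟙 G.R) hb ≫ G.c := ⟨_, rfl⟩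
    rw [← hΨ, hΦ, nat]
    have hΨt : Ψ ≫ G.t = G.t ≫ inv θ := by
      rw [hΨ, G.comp_t, Category.assoc, G.i_t]
      simp [b, ha]
    have e1 : Ψ ≫ G.t ≫ a = b := by rw [reassoc_of% hΨt]
    have h1 : b ≫ G.s = (b ≫ G.i) ≫ G.t := by simp only [b, Category.assoc, G.i_t]
    refine (ext2 _ (show b ≫ G.s = (pullback.lift (b ≫ G.i) (𝟙 G.R) hb ≫ G.c) ≫ G.t by
      rw [G.comp_t, h1]) e1 (by rw [Category.comp_id, hΨ])).trans ?_
    rw [← G.assoc b (b ≫ G.i) (𝟙 G.R) h1 hb]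
    refine (ext2 _ (by rw [Category.assoc, Category.assoc, G.e_s, Category.comp_id]) ?_ rfl).trans (G.e_comp (𝟙 G.R))
    rw [G.comp_i]
    simp only [b, θ, Category.assoc]
    rw [← Category.assoc a G.t, IsIso.inv_hom_id_assoc, Category.id_comp]
  · rw [hΦ, nat]
    refine (ext2 _ (show a ≫ G.s = (a ≫ G.s ≫ G.e) ≫ G.t by
      rw [Category.assoc, Category.assoc, G.e_t, Category.comp_id]) ?_ ?_).trans (G.comp_e a)
    · rw [← Category.assoc, G.e_t, Category.id_comp]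
    · rw [Category.comp_id, reassoc_of% ha]

end Groth.Agent.S10145
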