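import Groth.Statements.S10147
import Mathlib

set_option autoImplicit false
universe u v w
open LinTop

namespace Groth.Agent.S10147

/-- Let M be a topological module over a ring R whose additive group is a topological group, and let
(M_i) be a family of submodules of M forming a fundamental system of neighbourhoods of 0. For every
submodule N of M, the closure of N is the intersection over i of the submodules N + M_i. -/
theorem result
    {R : Type u} [Ring R] {M : Type v} [AddCommGroup M] [Module R M] [TopologicalSpace M]
    [IsTopologicalAddGroup M] {ι : Type w} (B : ι → Submodule R M)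
    (hB : (nhds (0 : M)).HasBasis (fun _ => True) (fun i => (B i : Set M)))
    (N : Submodule R M) :
    closure (N : Set M) = ⋂ i, ((N ⊔ B i : Submodule R M) : Set M) := by
  ext x
  have hx : (nhds x).HasBasis (fun _ => True) (fun i => {y | y - x ∈ B i}) := by
    have h := hB.comap (fun y => y - x)
    rwa [show Filter.comap (fun y => y - x) (nhds (0 : M)) = nhds x by
      simpa [sub_eq_add_neg, Function.comp_def, Homeomorph.addRight_symm] using (Homeomorph.addRight (-x)).comap_nhds_eq 0] at h
  rw [mem_closure_iff_nhds_basis hx, Set.mem_iInter]
  refine forall_congr' fun i => ?_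
  simp only [forall_const, SetLike.mem_coe, Set.mem_setOf_eq]
  constructor
  · rintro ⟨y, hy, hyx⟩
    exact Submodule.mem_sup.2 ⟨y, hy, -(y - x), neg_mem hyx, by abel⟩
  · intro h
    obtain ⟨y, hy, z, hz, rfl⟩ := Submodule.mem_sup.1 h
    exact ⟨y, hy, by simpa using hz⟩

end Groth.Agent.S10147
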