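import Groth.Statements.S10148
import Groth.Agent.LinTopLib.Defs
-- import your own Groth.Agent.* helpers here

set_option autoImplicit false
universe u
open LinTop

namespace Groth.Agent.S10148

/-- Let A be a weakly admissible topological ring (linearly topologized, Hausdorff and complete, having
a weak ideal of definition) and let I be a weak ideal of definition of A, that is, an open ideal
consisting of topologically nilpotent elements. Then (A, I) is a henselian pair. -/
theorem result
    (A : Type u) [CommRing A] [UniformSpace A] [IsUniformAddGroup A] [IsTopologicalRing A]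
    (hA : LinTop.IsWeaklyAdmissible A) (I : Ideal A) (hI : LinTop.IsWeakIdealOfDefinition A I) :
    HenselianRing A I := by
  obtain ⟨⟨hlin, -⟩, ht, hc⟩ := hA
  refine ⟨LinTopLib.le_jacobson_bot hI.2, fun f hf a₀ h₁ h₂ => ?_⟩
  have hjac : I ≤ (⊥ : Ideal A).jacobson := LinTopLib.le_jacobson_bot hI.2
  have hu : IsUnit (f.derivative.eval a₀) := by
    obtain ⟨v, hv⟩ := h₂.exists_right_inv
    obtain ⟨g, rfl⟩ := Ideal.Quotient.mk_surjective v
    rw [← map_mul, ← map_one (Ideal.Quotient.mk I), Ideal.Quotient.eq] at hv
    exact isUnit_of_mul_isUnit_left (Ideal.isUnit_of_sub_one_mem_jacobson_bot _ (hjac hv))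
  have hle : Ideal.span {f.eval a₀} ≤ I := (Ideal.span_singleton_le_iff_mem _).2 h₁
  have := LinTopLib.isAdicComplete_of_small (I := Ideal.span {f.eval a₀}) ⟨{f.eval a₀}, by simp⟩
    (LinTopLib.small_of_fg ⟨{f.eval a₀}, by simp⟩ fun x hx => hI.2 x (hle hx))
  obtain ⟨a, ha, ha'⟩ := HenselianRing.is_henselian (I := Ideal.span {f.eval a₀}) f hf a₀
    (Ideal.mem_span_singleton_self _) (hu.map _)
  exact ⟨a, ha, hle ha'⟩

end Groth.Agent.S10148
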