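import Groth.Statements.S1015
import Groth.Agent.DQCPush.MVTri
import Groth.Agent.DQCPush.QCohD
-- import your own Groth.Agent.* helpers here

set_option autoImplicit false
universe u
open CategoryTheory CategoryTheory.Limits AlgebraicGeometry
attribute [local instance] HasDerivedCategory.standard
open Perf

namespace Groth.Agent.S1015

/-- Let U ⊆ X be an open subscheme whose inclusion is quasi-compact. Every object F of D(O_U) with
quasi-coherent cohomology sheaves is the restriction of such an object on X: there is a complex G of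
O_X-modules with quasi-coherent cohomology sheaves whose termwise restriction to U is isomorphic to
F in D(O_U). -/
theorem result (X : Scheme.{u}) (U : X.Opens) [QuasiCompact U.ι]
    (F : DCoh.D (U : Scheme.{u})) (hF : DCoh.IsQCohD F) :
    ∃ G : CochainComplex X.Modules ℤ, DCoh.IsQCohD (DCoh.toD X G) ∧
      Nonempty (DerivedCategory.Q.obj ((DCoh.restrictCx U).obj G) ≅ F) := by
  haveI := Groth.Agent.DQCPush.hasRpush U.ι
  haveI := Groth.Agent.DQCPush.preservesFiniteColimits_restrict U.ι
  haveI : Limits.PreservesFiniteLimits (Scheme.Modules.restrictFunctor U.ι) :=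
    CxOX.preservesFiniteLimits_restrictFunctor _
  obtain ⟨I, hI, -, ⟨e⟩⟩ := Groth.Agent.DQCPush.exists_injective_rep F
  obtain ⟨e₀⟩ := Groth.Agent.DerAdj.nonempty_RF_iso (Scheme.Modules.pushforward U.ι)
    (Groth.Agent.DerAdj.modules_hKinj _) I
  refine ⟨((Scheme.Modules.pushforward U.ι).mapHomologicalComplex (ComplexShape.up ℤ)).obj I, fun i => ?_, ⟨?_⟩⟩
  · exact @Groth.Agent.QCohLib.isQuasicoherent_of_iso _ _ _
      ((DerivedCategory.homologyFunctor X.Modules i).mapIso
        (((DCoh.Rpush U.ι).mapIso e).symm ≪≫ e₀))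
      (Groth.Agent.DQCPush.isQCohD_Rpush U.ι F hF i)
  · exact DerivedCategory.Q.mapIso ((NatIso.mapHomologicalComplex
      (asIso (Scheme.Modules.restrictAdjunction U.ι).counit) (ComplexShape.up ℤ)).app I) ≪≫ e

end Groth.Agent.S1015
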