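import Groth.Statements.S10150
import Groth.Agent.LinTopLib.Defs
-- import your own Groth.Agent.* helpers here

set_option autoImplicit false
universe u v
open LinTop

namespace Groth.Agent.S10150

/-- Let φ : A → B be a continuous ring homomorphism between weakly pre-admissible linearly topologized
rings. Then φ is taut if and only if, for each weak ideal of definition I of A, the closure of the
ideal generated by φ(I) is again a weak ideal of definition, now of B, and every neighbourhood of 0
in B contains one of these closures. (The published statement takes A and B weakly admissible, that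
is, moreover Hausdorff and complete; completeness plays no role and this row omits it.) -/
theorem result
    (A : Type u) [CommRing A] [TopologicalSpace A] [IsTopologicalRing A] [IsLinearTopology A A]
    (B : Type v) [CommRing B] [TopologicalSpace B] [IsTopologicalRing B] [IsLinearTopology B B]
    (hA : LinTop.IsWeaklyPreadmissible A) (hB : LinTop.IsWeaklyPreadmissible B)
    (φ : A →+* B) (hφ : Continuous φ) :
    LinTop.IsTaut φ ↔
      ((∀ I : Ideal A, LinTop.IsWeakIdealOfDefinition A I →
          LinTop.IsWeakIdealOfDefinition B (I.map φ).closure) ∧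
        ∀ U ∈ nhds (0 : B), ∃ I : Ideal A, LinTop.IsWeakIdealOfDefinition A I ∧
          ((I.map φ).closure : Set B) ⊆ U) := by
  obtain ⟨-, W, hW⟩ := hA
  have hnil : ∀ I : Ideal A, (∀ f ∈ I, IsTopologicallyNilpotent f) →
      ∀ g ∈ (I.map φ).closure, IsTopologicallyNilpotent g := fun I hI g hg =>
    IsTopologicallyNilpotent.mem_topologicalNilradical_iff.1
      (LinTopLib.closure_le_of_isClosed LinTopLib.isClosed_topologicalNilradical
        (Ideal.map_le_iff_le_comap.2 fun x hx =>
          IsTopologicallyNilpotent.mem_topologicalNilradical_iff.2 ((hI x hx).map hφ)) hg)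
  have hinf : ∀ I : Ideal A, IsOpen (I : Set A) → LinTop.IsWeakIdealOfDefinition A (I ⊓ W) :=
    fun I hI => ⟨LinTopLib.isOpen_inf hI hW.1, fun f hf => hW.2 f hf.2⟩
  refine ⟨fun h => ⟨fun I hI => ⟨h.2.1 I hI.1, hnil I hI.2⟩, fun U hU => ?_⟩, fun h => ?_⟩
  · obtain ⟨I, hI, hIU⟩ := h.2.2 U hU
    exact ⟨I ⊓ W, hinf I hI, fun x hx =>
      hIU (LinTopLib.closure_mono (Ideal.map_mono inf_le_left) hx)⟩
  · exact LinTopLib.isTaut_mk hφ fun I hI => LinTopLib.isOpen_of_le (h.1 _ (hinf I hI)).1
      (LinTopLib.closure_mono (Ideal.map_mono inf_le_left))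

end Groth.Agent.S10150
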