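import Groth.Statements.S10152
import Groth.Agent.LinTopLib.Defs
-- import your own Groth.Agent.* helpers here

set_option autoImplicit false
universe u v
open LinTop

namespace Groth.Agent.S10152

/-- Let φ : A → B be a taut homomorphism of linearly topologized rings. If A has a countable fundamental
system of open ideals, then so does B (equivalently, the neighbourhood filters of 0 are countably
generated). -/
theorem result
    (A : Type u) [CommRing A] [TopologicalSpace A] [IsTopologicalRing A] [IsLinearTopology A A]
    (B : Type v) [CommRing B] [TopologicalSpace B] [IsTopologicalRing B] [IsLinearTopology B B]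
    (φ : A →+* B) (hφ : LinTop.IsTaut φ) (hA : (nhds (0 : A)).IsCountablyGenerated) :
    (nhds (0 : B)).IsCountablyGenerated := by
  obtain ⟨u, hu⟩ := Filter.exists_antitone_basis (nhds (0 : A))
  choose I hI hIu using fun n => IsLinearTopology.hasBasis_open_ideal.mem_iff.1 (hu.1.mem_of_mem (i := n) trivial)
  refine Filter.HasCountableBasis.isCountablyGenerated
    (p := fun _ : ℕ => True) (s := fun n => (((I n).map φ).closure : Set B)) ⟨⟨fun V => ⟨fun hV => ?_,
      fun ⟨n, _, hn⟩ => Filter.mem_of_superset ((hφ.2.1 _ (hI n)).mem_nhds (subset_closure (zero_mem _))) hn⟩⟩,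
      Set.to_countable _⟩
  obtain ⟨J, hJ, hJV⟩ := hφ.2.2 V hV
  obtain ⟨n, -, hn⟩ := hu.1.mem_iff.1 (hJ.mem_nhds J.zero_mem)
  exact ⟨n, trivial, fun x hx => hJV (LinTopLib.closure_mono
    (Ideal.map_mono fun a ha => hn (hIu n ha)) hx)⟩

end Groth.Agent.S10152
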