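import Groth.Statements.S10155
import Groth.Agent.LinTopLib.GroupCompl
-- import your own Groth.Agent.* helpers here

set_option autoImplicit false
universe u v
open LinTop

namespace Groth.Agent.S10155

/-- Let φ : A → B be a taut homomorphism of linearly topologized rings with dense image. Assume A is
Hausdorff and complete with a countable fundamental system of open ideals and B is Hausdorff. Then φ
is surjective and open, so that B is the quotient of A by the closed ideal ker φ with the quotient
topology, and B is complete. -/
theorem result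
    (A : Type u) [CommRing A] [UniformSpace A] [IsUniformAddGroup A] [IsTopologicalRing A]
    [IsLinearTopology A A] [T2Space A] [CompleteSpace A] (hA : (nhds (0 : A)).IsCountablyGenerated)
    (B : Type v) [CommRing B] [UniformSpace B] [IsUniformAddGroup B] [IsTopologicalRing B]
    [IsLinearTopology B B] [T2Space B]
    (φ : A →+* B) (hφ : LinTop.IsTaut φ) (hd : DenseRange φ) :
    Function.Surjective φ ∧ IsOpenQuotientMap φ ∧ CompleteSpace B := by
  have := LinTopLib.nonarchimedean A (M := A)
  have hct : Continuous φ := hφ.1
  obtain ⟨I, hI, hb⟩ := (IsLinearTopology.hasBasis_open_ideal (R := A)).exists_antitone_subbasis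
  have hcl : ∀ n, closure (φ '' (I n : Set A)) ∈ nhds (0 : B) := by
    intro n
    refine Filter.mem_of_superset ((hφ.2.1 _ (hI n)).mem_nhds (subset_closure (zero_mem _))) ?_
    refine closure_minimal ?_ isClosed_closure
    let K : Ideal B :=
    { carrier := closure (φ '' (I n : Set A))
      zero_mem' := subset_closure ⟨0, zero_mem _, map_zero φ⟩
      add_mem' := fun ha hb => map_mem_closure₂ continuous_add ha hb (by
        rintro _ ⟨a, ha, rfl⟩ _ ⟨b, hb, rfl⟩
        exact ⟨a + b, (I n).add_mem ha hb, map_add φ a b⟩)
      smul_mem' := fun c x hx => map_mem_closure₂ continuous_mul (hd c) hx (by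
        rintro _ ⟨a, rfl⟩ _ ⟨b, hb, rfl⟩
        exact ⟨a * b, (I n).mul_mem_left a hb, map_mul φ a b⟩) }
    exact (Ideal.map_le_iff_le_comap (f := φ) (K := K)).2 fun a ha =>
      (subset_closure ⟨a, ha, rfl⟩ : φ a ∈ closure (φ '' (I n : Set A)))
  have hopen : IsOpenMap φ := by
    refine LinTopLib.isOpenMap_of_nhds φ.toAddMonoidHom fun V hV => ?_
    obtain ⟨n, -, hn⟩ := hb.1.mem_iff.1 hV
    refine Filter.mem_of_superset ?_ (Set.image_mono hn)
    have := LinTopLib.image_eq_closure_image φ.toAddMonoidHom hct (fun m => (I m).toAddSubgroup)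
      (fun i j hij => hb.2 hij) (fun m => AddSubgroup.isClosed_of_isOpen _ (hI m))
      (fun s hs => by simpa using hb.1.mem_iff.1 hs) hcl n
    exact this ▸ hcl n
  have hsurj : Function.Surjective φ :=
    LinTopLib.surjective_of_denseRange_of_isOpenMap φ.toAddMonoidHom hd hopen
  exact ⟨hsurj, ⟨hsurj, hct, hopen⟩, LinTopLib.completeSpace_of_surjective φ.toAddMonoidHom hct hopen
    hsurj (fun m => (I m).toAddSubgroup) hI hb⟩

end Groth.Agent.S10155
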