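import Groth.Statements.S10156
import Groth.Agent.LinTopLib.Defs
-- import your own Groth.Agent.* helpers here

set_option autoImplicit false
universe u v w
open LinTop

namespace Groth.Agent.S10156

/-- Given pre-adic rings A, B, C and continuous ring maps ψ : B → C and φ : A → B, adicness of the
composite A → C implies that ψ is adic. -/
theorem result
    (A : Type u) [CommRing A] [TopologicalSpace A] [IsTopologicalRing A] (hA : LinTop.IsPreadic A)
    (B : Type v) [CommRing B] [TopologicalSpace B] [IsTopologicalRing B] (hB : LinTop.IsPreadic B)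
    (C : Type w) [CommRing C] [TopologicalSpace C] [IsTopologicalRing C] (hC : LinTop.IsPreadic C)
    (φ : A →+* B) (ψ : B →+* C) (hφ : Continuous φ) (hψ : Continuous ψ)
    (h : LinTop.IsAdicHom (ψ.comp φ)) : LinTop.IsAdicHom ψ := by
  obtain ⟨I, hI, hC'⟩ := h
  obtain ⟨J, hJ⟩ := hB
  have := LinTopLib.isLinearTopology_of_isAdic hJ
  have hIB : LinTopLib.Small (I.map φ) := (LinTopLib.small_of_isIdealOfDefinition hI).map hφ
  obtain ⟨n, hn⟩ := hIB J (LinTopLib.isOpen_of_isAdic hJ)
  have hK := LinTopLib.isIdealOfDefinition_sup (LinTopLib.isIdealOfDefinition_of_isAdic hJ) hn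
  refine ⟨_, hK, ?_⟩
  have := LinTopLib.isLinearTopology_of_isAdic hC'
  have hC'' := isAdic_iff.1 hC'
  refine isAdic_iff.2 ⟨fun m => LinTopLib.isOpen_of_le (hC''.1 m) (Ideal.pow_right_mono ?_ m),
    fun s hs => ?_⟩
  · rw [← Ideal.map_map]
    exact Ideal.map_mono le_sup_right
  · obtain ⟨m, hm⟩ := hC''.2 s hs
    obtain ⟨k, hk⟩ := (LinTopLib.small_of_isIdealOfDefinition hK).map hψ _ (hC''.1 m)
    exact ⟨k, fun x hx => hm (hk hx)⟩

end Groth.Agent.S10156
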