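import Groth.Statements.S10159
import Groth.Agent.LinTopLib.Defs
-- import your own Groth.Agent.* helpers here

set_option autoImplicit false
universe u
open LinTop

namespace Groth.Agent.S10159

theorem continuous_of_tendsto_nhds_zero_aux {A : Type*} [AddCommGroup A] (t₁ t₂ : TopologicalSpace A)
    (h₁ : @IsTopologicalAddGroup A t₁ _) (h₂ : @IsTopologicalAddGroup A t₂ _)
    (h : Filter.Tendsto (id : A → A) (@nhds A t₁ 0) (@nhds A t₂ 0)) :
    @Continuous A A t₁ t₂ id := by
  rw [continuous_id_iff_le]
  refine (@le_iff_nhds A t₁ t₂).2 fun x => ?_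
  rw [← @map_add_left_nhds_zero A t₁ _ _ x, ← @map_add_left_nhds_zero A t₂ _ _ x]
  exact Filter.map_mono h

/-- For a ring A carrying a linear topology, the following four conditions are equivalent: (1) A is
weakly pre-adic; (2) there exist a pre-adic topological ring A' and a taut continuous ring
homomorphism A' → A (A' is taken in the universe of A, which suffices since A with an adic topology
serves); (3) A has an ideal of definition, and for at least one ideal of definition I every closure
cl(I^n) with n ≥ 1 is open; (4) A has an ideal of definition, and for each of its ideals of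
definition I every closure cl(I^n) with n ≥ 1 is open. -/
theorem result
    (A : Type u) [CommRing A] [TopologicalSpace A] [IsTopologicalRing A] [IsLinearTopology A A] :
    List.TFAE [LinTop.IsWeaklyPreadic A,
      ∃ (A' : Type u) (_ : CommRing A') (_ : TopologicalSpace A') (_ : IsTopologicalRing A')
        (φ : A' →+* A), LinTop.IsPreadic A' ∧ LinTop.IsTaut φ,
      LinTop.IsPreadmissible A ∧ ∃ I : Ideal A, LinTop.IsIdealOfDefinition A I ∧
        ∀ n : ℕ, 0 < n → IsOpen (closure ((I ^ n : Ideal A) : Set A)),
      LinTop.IsPreadmissible A ∧ ∀ I : Ideal A, LinTop.IsIdealOfDefinition A I →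
        ∀ n : ℕ, 0 < n → IsOpen (closure ((I ^ n : Ideal A) : Set A))] := by
  tfae_have 1 → 2 := fun h => by
    obtain ⟨I, ho, hs⟩ := LinTopLib.exists_of_isWeaklyPreadic h
    refine ⟨A, inferInstance, I.adicTopology, ?_, RingHom.id A, @Exists.intro _ _ I rfl, ?_⟩
    · exact @NonarchimedeanRing.toIsTopologicalRing A _ I.adicTopology I.nonarchimedean
    let tA : TopologicalSpace A := inferInstance
    refine @LinTopLib.isTaut_mk A _ I.adicTopology
      (@NonarchimedeanRing.toIsTopologicalRing A _ I.adicTopology I.nonarchimedean) A _ tA _ _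
      (RingHom.id A) ?_ ?_
    · have hz : Filter.Tendsto (id : A → A) (@nhds A I.adicTopology 0) (@nhds A tA 0) := ?_
      · exact @continuous_of_tendsto_nhds_zero_aux A _ I.adicTopology tA
          (@IsTopologicalRing.to_topologicalAddGroup A _ I.adicTopology
            (@NonarchimedeanRing.toIsTopologicalRing A _ I.adicTopology I.nonarchimedean))
          inferInstance hz
      refine (I.hasBasis_nhds_zero_adic.tendsto_iff IsLinearTopology.hasBasis_open_ideal).2
        fun U hU => ?_
      obtain ⟨n, hn⟩ := hs U hU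
      exact ⟨n, trivial, fun x hx => hn hx⟩
    · intro U hU
      obtain ⟨n, -, hn⟩ := I.hasBasis_nhds_zero_adic.mem_iff.1
        (@IsOpen.mem_nhds A I.adicTopology _ _ hU U.zero_mem)
      exact LinTopLib.isOpen_of_le (ho n) (LinTopLib.closure_mono (by
        rw [Ideal.map_id]
        exact fun x hx => hn hx))
  tfae_have 2 → 4 := fun ⟨A', _, _, _, φ, ⟨I', hI'⟩, hφ⟩ => by
    have := LinTopLib.isLinearTopology_of_isAdic hI'
    have hI'd := LinTopLib.isIdealOfDefinition_of_isAdic hI'
    have hw : LinTop.IsWeaklyPreadic A := LinTopLib.isWeaklyPreadic_map hφ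
      (LinTopLib.isWeaklyPreadic_of_small (fun n => LinTopLib.isOpen_of_le
        ((isAdic_iff.1 hI').1 n) (LinTopLib.le_closure _)) (LinTopLib.small_of_isAdic hI'))
    exact ⟨LinTopLib.isPreadmissible_of_isWeaklyPreadic hw,
      fun I hI n _ => LinTopLib.isOpen_closure_pow hw hI.1 n⟩
  tfae_have 4 → 3 := fun ⟨⟨h, I, hI⟩, h'⟩ => ⟨⟨h, I, hI⟩, I, hI, h' I hI⟩
  tfae_have 3 → 1 := fun ⟨_, I, hI, h'⟩ => by
    refine LinTopLib.isWeaklyPreadic_of_small (fun n => ?_) (LinTopLib.small_of_isIdealOfDefinition hI)
    rcases Nat.eq_zero_or_pos n with rfl | hn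
    · exact LinTopLib.isOpen_of_le LinTopLib.isOpen_top (by
        rw [pow_zero, Ideal.one_eq_top]
        exact LinTopLib.le_closure _)
    · exact h' n hn
  tfae_finish

end Groth.Agent.S10159
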