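import Groth.Statements.S10164
import Groth.Agent.LinTopLib.Defs
-- import your own Groth.Agent.* helpers here

set_option autoImplicit false
universe u
open LinTop

namespace Groth.Agent.S10164

/-- Let A be weakly adic and I an ideal of definition of A with I/I₂ finitely generated, where I₂
denotes the closure of I^2 (here: I maps onto a finitely generated ideal of A/I₂). Then A is adic,
and some finitely generated ideal of A is an ideal of definition. -/
theorem result
    (A : Type u) [CommRing A] [UniformSpace A] [IsUniformAddGroup A] [IsTopologicalRing A] (hA : LinTop.IsWeaklyAdic A)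
    (I : Ideal A) (hI : LinTop.IsIdealOfDefinition A I)
    (hfg : (I.map (Ideal.Quotient.mk ((I ^ 2).closure))).FG) :
    LinTop.IsAdicRing A ∧ ∃ J : Ideal A, LinTop.IsIdealOfDefinition A J ∧ J.FG := by
  obtain ⟨hw, ht, hc⟩ := hA
  have := hw.1
  have hs := LinTopLib.small_of_isIdealOfDefinition hI
  have ho := LinTopLib.isOpen_closure_pow hw hI.1
  classical
  obtain ⟨t, ht'⟩ := hfg
  have hsub : (t : Set (A ⧸ (I ^ 2).closure)) ⊆ Ideal.Quotient.mk ((I ^ 2).closure) '' (I : Set A) :=
    fun y hy => (Ideal.mem_map_iff_of_surjective _ Ideal.Quotient.mk_surjective).1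
      (show y ∈ I.map (Ideal.Quotient.mk ((I ^ 2).closure)) by rw [← ht']; exact Ideal.subset_span hy)
  obtain ⟨t', htI, htt⟩ := Finset.subset_set_image_iff.1 hsub
  have hJI : Ideal.span (t' : Set A) ≤ I := Ideal.span_le.2 htI
  have hIJ : I ≤ Ideal.span (t' : Set A) ⊔ (I ^ 2).closure := by
    intro x hx
    have h1 : Ideal.Quotient.mk ((I ^ 2).closure) x ∈
        (Ideal.span (t' : Set A)).map (Ideal.Quotient.mk ((I ^ 2).closure)) := by
      rw [Ideal.map_span, ← Finset.coe_image, htt]
      exact ht'.symm ▸ Ideal.mem_map_of_mem _ hx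
    exact Ideal.mem_quotient_iff_mem_sup.1 h1
  generalize hJ : Ideal.span (t' : Set A) = J at hJI hIJ
  have hcl : ∀ a b : ℕ, (I ^ a).closure * (I ^ b).closure ≤ (I ^ (a + b)).closure := fun a b => by
    rw [pow_add]
    exact LinTopLib.closure_mul_closure _ _
  have step : ∀ n, I ^ n ≤ J ^ n ⊔ (I ^ (n + 1)).closure := by
    intro n
    induction n with
    | zero => simp
    | succ n ih =>
      rw [pow_succ]
      refine (Ideal.mul_mono ih hIJ).trans ?_
      rw [Ideal.sup_mul, Ideal.mul_sup]
      refine sup_le (sup_le ?_ ?_) ?_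
      · exact le_sup_of_le_left (pow_succ J n).ge
      · refine le_sup_of_le_right ((Ideal.mul_mono ((Ideal.pow_right_mono hJI n).trans
          (LinTopLib.le_closure _)) le_rfl).trans ?_)
        exact hcl n 2
      · have hJ1 : J ⊔ (I ^ 2).closure ≤ (I ^ 1).closure := by
          refine sup_le ?_ (LinTopLib.closure_mono (Ideal.pow_le_pow_right (by norm_num)))
          rw [pow_one]
          exact hJI.trans (LinTopLib.le_closure I)
        exact le_sup_of_le_right ((Ideal.mul_mono le_rfl hJ1).trans (hcl (n + 1) 1))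
  have step2 : ∀ n k, I ^ n ≤ J ^ n ⊔ (I ^ (n + k)).closure := by
    intro n k
    induction k with
    | zero => exact le_sup_of_le_right (LinTopLib.le_closure _)
    | succ k ih =>
      refine ih.trans (sup_le le_sup_left ?_)
      refine (LinTopLib.closure_le_sup (ho (n + (k + 1)))).trans (sup_le ?_ le_sup_right)
      refine (step (n + k)).trans (sup_le ?_ le_sup_right)
      refine le_sup_of_le_left ?_
      rw [pow_add]
      exact Ideal.mul_le_left
  have hopen : ∀ n, IsOpen ((J ^ n).closure : Set A) := fun n => by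
    refine LinTopLib.isOpen_of_le (ho n)
      (LinTopLib.closure_le_of_isClosed isClosed_closure fun x hx => LinTopLib.mem_closure_iff.2 ?_)
    intro U hU
    obtain ⟨N, hN⟩ := hs U hU
    exact (sup_le_sup_left (LinTopLib.closure_le_of_isOpen hU
      ((Ideal.pow_le_pow_right (Nat.le_add_left N n)).trans hN)) _) (step2 n N hx)
  have hJa : IsAdic J := LinTopLib.isAdic_of_closure ⟨t', hJ⟩ hopen (hs.mono hJI)
  exact ⟨⟨⟨J, hJa⟩, ht, hc⟩, J, LinTopLib.isIdealOfDefinition_of_isAdic hJa, ⟨t', hJ⟩⟩

end Groth.Agent.S10164
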