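import Groth.Statements.S10166
import Groth.Agent.LinTopLib.Defs
-- import your own Groth.Agent.* helpers here

set_option autoImplicit false
universe u v
open LinTop

namespace Groth.Agent.S10166

/-- Let φ : A → B be a taut homomorphism of linearly topologized rings such that for every open ideal I
of A, with J the closure of φ(I)B, the induced map A/I → B/J is faithfully flat. If B has a
countable fundamental system of open ideals, then so does A. -/
theorem result
    (A : Type u) [CommRing A] [TopologicalSpace A] [IsTopologicalRing A] [IsLinearTopology A A]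
    (B : Type v) [CommRing B] [TopologicalSpace B] [IsTopologicalRing B] [IsLinearTopology B B]
    (φ : A →+* B) (hφ : LinTop.IsTautFFlat φ) (hB : (nhds (0 : B)).IsCountablyGenerated) :
    (nhds (0 : A)).IsCountablyGenerated := by
  obtain ⟨u, hu⟩ := Filter.exists_antitone_basis (nhds (0 : B))
  choose J hJ hJu using fun n => IsLinearTopology.hasBasis_open_ideal.mem_iff.1 (hu.1.mem_of_mem (i := n) trivial)
  refine Filter.HasCountableBasis.isCountablyGenerated
    (p := fun _ : ℕ => True) (s := fun n => ((J n).comap φ : Set A)) ⟨⟨fun V => ⟨fun hV => ?_,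
      fun ⟨n, _, hn⟩ => Filter.mem_of_superset
        ((LinTopLib.isOpen_comap hφ.1.1 (hJ n)).mem_nhds (zero_mem _)) hn⟩⟩,
      Set.to_countable _⟩
  obtain ⟨U, hU, hUV⟩ := IsLinearTopology.hasBasis_open_ideal.mem_iff.1 hV
  obtain ⟨n, -, hn⟩ := hu.1.mem_iff.1 ((hφ.1.2.1 U hU).mem_nhds (subset_closure (zero_mem _)))
  exact ⟨n, trivial, fun x hx => hUV (LinTopLib.comap_closure_map_le hφ hU (hn (hJu n hx)))⟩

end Groth.Agent.S10166
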