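import Groth.Statements.S10167
import Groth.Agent.LinTopLib.Defs
-- import your own Groth.Agent.* helpers here

set_option autoImplicit false
universe u v
open LinTop

namespace Groth.Agent.S10167

/-- Let φ : A → B be a taut homomorphism of linearly topologized rings such that for every open ideal I
of A the induced ring map A/I → B/J, where J denotes the closure of φ(I)B, is faithfully flat. If B
has a weak ideal of definition (B is weakly pre-admissible), then so does A. -/
theorem result
    (A : Type u) [CommRing A] [TopologicalSpace A] [IsTopologicalRing A] [IsLinearTopology A A]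
    (B : Type v) [CommRing B] [TopologicalSpace B] [IsTopologicalRing B] [IsLinearTopology B B]
    (φ : A →+* B) (hφ : LinTop.IsTautFFlat φ) (hB : LinTop.IsWeaklyPreadmissible B) :
    LinTop.IsWeaklyPreadmissible A := by
  obtain ⟨-, J, hJ⟩ := hB
  refine ⟨inferInstance, J.comap φ, LinTopLib.isOpen_comap hφ.1.1 hJ.1, fun f hf => ?_⟩
  refine LinTopLib.topNil_iff.2 fun U hU => ?_
  obtain ⟨n, hn⟩ := LinTopLib.topNil_iff.1 (hJ.2 _ hf) _ (LinTopLib.isOpen_closure_map hφ.1 hU)
  exact ⟨n, LinTopLib.comap_closure_map_le hφ hU (show φ (f ^ n) ∈ _ by rw [map_pow]; exact hn)⟩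

end Groth.Agent.S10167
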