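import Groth.Statements.S10168
import Groth.Agent.LinTopLib.Defs
-- import your own Groth.Agent.* helpers here

set_option autoImplicit false
universe u v
open LinTop

namespace Groth.Agent.S10168

/-- Let φ : A → B be a taut homomorphism of linearly topologized rings such that for every open ideal I
of A, with J the closure of φ(I)B, the induced map A/I → B/J is faithfully flat. If B is
pre-admissible, then A is pre-admissible. -/
theorem result
    (A : Type u) [CommRing A] [TopologicalSpace A] [IsTopologicalRing A] [IsLinearTopology A A]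
    (B : Type v) [CommRing B] [TopologicalSpace B] [IsTopologicalRing B] [IsLinearTopology B B]
    (φ : A →+* B) (hφ : LinTop.IsTautFFlat φ) (hB : LinTop.IsPreadmissible B) :
    LinTop.IsPreadmissible A := by
  obtain ⟨-, J, hJ⟩ := hB
  refine ⟨inferInstance, J.comap φ, LinTopLib.idealOfDef_iff.2
    ⟨LinTopLib.isOpen_comap hφ.1.1 hJ.1, fun U hU => ?_⟩⟩
  obtain ⟨n, hn⟩ := LinTopLib.small_of_isIdealOfDefinition hJ _ (LinTopLib.isOpen_closure_map hφ.1 hU)
  exact ⟨n, (Ideal.map_le_iff_le_comap.1 (by
    rw [Ideal.map_pow]
    exact (Ideal.pow_right_mono Ideal.map_comap_le n).trans hn)).trans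
      (LinTopLib.comap_closure_map_le hφ hU)⟩

end Groth.Agent.S10168
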