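import Groth.Statements.S10169
import Groth.Agent.LinTopLib.Defs
-- import your own Groth.Agent.* helpers here

set_option autoImplicit false
universe u v
open LinTop

namespace Groth.Agent.S10169

/-- Let φ : A → B be a taut homomorphism of linearly topologized rings such that for every open ideal I
of A the induced ring map A/I → B/J, where J denotes the closure of φ(I)B, is faithfully flat. Weak
pre-adicness then descends: when B is weakly pre-adic, A is as well. -/
theorem result
    (A : Type u) [CommRing A] [TopologicalSpace A] [IsTopologicalRing A] [IsLinearTopology A A]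
    (B : Type v) [CommRing B] [TopologicalSpace B] [IsTopologicalRing B] [IsLinearTopology B B]
    (φ : A →+* B) (hφ : LinTop.IsTautFFlat φ) (hB : LinTop.IsWeaklyPreadic B) :
    LinTop.IsWeaklyPreadic A := by
  obtain ⟨-, J, hJ⟩ := LinTopLib.isPreadmissible_of_isWeaklyPreadic hB
  have hI : LinTop.IsIdealOfDefinition A (J.comap φ) := LinTopLib.idealOfDef_iff.2
    ⟨LinTopLib.isOpen_comap hφ.1.1 hJ.1, fun U hU => by
      obtain ⟨n, hn⟩ := LinTopLib.small_of_isIdealOfDefinition hJ _ (LinTopLib.isOpen_closure_map hφ.1 hU)
      exact ⟨n, (Ideal.map_le_iff_le_comap.1 (by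
        rw [Ideal.map_pow]
        exact (Ideal.pow_right_mono Ideal.map_comap_le n).trans hn)).trans
          (LinTopLib.comap_closure_map_le hφ hU)⟩⟩
  refine LinTopLib.isWeaklyPreadic_of_small (fun n => LinTopLib.isOpen_closure_pow_of_descent hφ ?_)
    (LinTopLib.small_of_isIdealOfDefinition hI)
  refine LinTopLib.isOpen_of_le (LinTopLib.isOpen_closure_pow hB (LinTopLib.isOpen_closure_map hφ.1 hI.1) n) ?_
  exact LinTopLib.closure_le_of_isClosed isClosed_closure (LinTopLib.closure_pow_le _ _)

end Groth.Agent.S10169
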