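import Groth.Statements.S10170
import Groth.Agent.LinTopLib.Defs
-- import your own Groth.Agent.* helpers here

set_option autoImplicit false
universe u v
open LinTop

namespace Groth.Agent.S10170

/-- Let φ : A → B be a taut homomorphism of linearly topologized rings such that for every open ideal I
of A the induced ring map A/I → B/J, where J denotes the closure of φ(I)B, is faithfully flat.
Suppose A is Hausdorff and complete, and B is adic with some finitely generated ideal of definition.
Then A is adic, and some finitely generated ideal of A is an ideal of definition. -/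
theorem result
    (A : Type u) [CommRing A] [UniformSpace A] [IsUniformAddGroup A] [IsTopologicalRing A] [IsLinearTopology A A] [T2Space A] [CompleteSpace A]
    (B : Type v) [CommRing B] [UniformSpace B] [IsUniformAddGroup B] [IsTopologicalRing B] (hB : LinTop.IsAdicRing B)
    (hJ : ∃ J : Ideal B, LinTop.IsIdealOfDefinition B J ∧ J.FG)
    (φ : A →+* B) (hφ : LinTop.IsTautFFlat φ) :
    LinTop.IsAdicRing A ∧ ∃ I : Ideal A, LinTop.IsIdealOfDefinition A I ∧ I.FG := by
  obtain ⟨⟨J', hJ'⟩, ht, hc⟩ := hB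
  obtain ⟨J, hJ, hJfg⟩ := hJ
  have := LinTopLib.isLinearTopology_of_isAdic hJ'
  have hJa := LinTopLib.isAdic_of_idealOfDef hJ' hJ
  have hJo := (isAdic_iff.1 hJa).1
  have hjac : J ≤ (⊥ : Ideal B).jacobson := LinTopLib.le_jacobson_bot fun f hf =>
    LinTopLib.topNil_of_small (LinTopLib.small_of_isIdealOfDefinition hJ) hf
  have hI : LinTop.IsIdealOfDefinition A (J.comap φ) := LinTopLib.idealOfDef_iff.2
    ⟨LinTopLib.isOpen_comap hφ.1.1 hJ.1, fun U hU => by
      obtain ⟨n, hn⟩ := LinTopLib.small_of_isIdealOfDefinition hJ _ (LinTopLib.isOpen_closure_map hφ.1 hU)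
      exact ⟨n, (Ideal.map_le_iff_le_comap.1 (by
        rw [Ideal.map_pow]
        exact (Ideal.pow_right_mono Ideal.map_comap_le n).trans hn)).trans
          (LinTopLib.comap_closure_map_le hφ hU)⟩⟩
  obtain ⟨m, hm⟩ := LinTopLib.small_of_isAdic hJa _ (LinTopLib.isOpen_closure_map hφ.1 hI.1)
  obtain ⟨s, hs⟩ := Submodule.FG.pow hJfg m
  -- finitely many elements of `J.comap φ` generating `J ^ m` modulo `J ^ (m + 1)`
  have hs' : ∀ x ∈ s, ∃ t : Finset A, (t : Set A) ⊆ (J.comap φ : Set A) ∧
      x ∈ (Ideal.span (t : Set A)).map φ ⊔ J ^ (m + 1) := by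
    intro x hx
    have hx' : x ∈ (J.comap φ).map φ ⊔ J ^ (m + 1) :=
      LinTopLib.closure_le_sup (hJo (m + 1)) (hm (hs ▸ Submodule.subset_span hx))
    obtain ⟨y, hy, z, hz, rfl⟩ := Submodule.mem_sup.1 hx'
    obtain ⟨t, ht, hyt⟩ := Submodule.mem_span_finite_of_mem_span hy
    classical
    obtain ⟨t', ht', hft⟩ := Finset.subset_set_image_iff.1 ht
    refine ⟨t', ht', Submodule.mem_sup.2 ⟨y, ?_, z, hz, rfl⟩⟩
    rw [← hft, Finset.coe_image] at hyt
    exact Ideal.map_span φ (t' : Set A) ▸ hyt
  classical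
  choose! t ht ht' using hs'
  let I : Ideal A := Ideal.span ((s.biUnion t : Finset A) : Set A)
  have hIle : I ≤ J.comap φ := Ideal.span_le.2 fun a ha => by
    obtain ⟨x, hx, hax⟩ := Finset.mem_biUnion.1 ha
    exact ht x hx hax
  have hK : J ^ m ≤ I.map φ := by
    refine Submodule.le_of_le_smul_of_le_jacobson_bot (Submodule.FG.pow hJfg m) hjac ?_
    rw [smul_eq_mul, ← pow_succ']
    intro x hx
    rw [← hs] at hx
    refine Submodule.span_le.2 (fun x hx => ?_) hx
    have hle : (Ideal.span (t x : Set A)).map φ ⊔ J ^ (m + 1) ≤ I.map φ ⊔ J ^ (m + 1) :=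
      sup_le_sup_right (Ideal.map_mono (Ideal.span_mono (Finset.coe_subset.2
        (Finset.subset_biUnion_of_mem t hx)))) (J ^ (m + 1) : Ideal B)
    exact hle (ht' x hx)
  have hIs : LinTopLib.Small I := (LinTopLib.small_of_isIdealOfDefinition hI).mono hIle
  have hIa : IsAdic I := LinTopLib.isAdic_of_closure ⟨_, rfl⟩
    (fun n => LinTopLib.isOpen_closure_pow_of_descent hφ (LinTopLib.isOpen_of_le (hJo (m * n))
      ((pow_mul J m n).le.trans ((Ideal.pow_right_mono hK n).trans (LinTopLib.le_closure _))))) hIs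
  exact ⟨⟨⟨I, hIa⟩, inferInstance, inferInstance⟩, I, LinTopLib.isIdealOfDefinition_of_isAdic hIa,
    ⟨_, rfl⟩⟩

end Groth.Agent.S10170
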