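import Groth.Statements.S10173
import Groth.Agent.LinTopLib.GroupCompl
-- import your own Groth.Agent.* helpers here

set_option autoImplicit false
universe u v
open LinTop

namespace Groth.Agent.S10173

/-- Let R be a commutative ring, I a finitely generated ideal and M a topological R-module (additive
uniform structure, each scalar acting uniformly continuously) having an open submodule M' whose
topology is the I-adic one, i.e. the I^n M' are open in M and form a fundamental system of
neighbourhoods of 0. Then the separated completion M^ has an open submodule whose topology is I-adic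
in the same sense, and for every n ≥ 1 the map M → M^/I^n M^ is surjective with kernel I^n M,
identifying M^/I^n M^ with M/I^n M. -/
theorem result
    {R : Type u} [CommRing R] (I : Ideal R) (hI : I.FG)
    {M : Type v} [AddCommGroup M] [Module R M] [UniformSpace M] [IsUniformAddGroup M]
    [UniformContinuousConstSMul R M]
    (M' : Submodule R M) (hopen : ∀ n : ℕ, IsOpen ((I ^ n • M' : Submodule R M) : Set M))
    (hbasis : ∀ U ∈ nhds (0 : M), ∃ n : ℕ, ((I ^ n • M' : Submodule R M) : Set M) ⊆ U) :
    (∃ M'' : Submodule R (UniformSpace.Completion M),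
        (∀ n : ℕ, IsOpen ((I ^ n • M'' : Submodule R (UniformSpace.Completion M)) :
          Set (UniformSpace.Completion M))) ∧
        ∀ U ∈ nhds (0 : UniformSpace.Completion M), ∃ n : ℕ,
          ((I ^ n • M'' : Submodule R (UniformSpace.Completion M)) :
            Set (UniformSpace.Completion M)) ⊆ U) ∧
      ∀ n : ℕ, 0 < n →
        Function.Surjective ((QuotientAddGroup.mk' (I ^ n • ⊤ : Submodule R (UniformSpace.Completion M)).toAddSubgroup).comp
          (UniformSpace.Completion.toCompl : M →+ UniformSpace.Completion M)) ∧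
        ((QuotientAddGroup.mk' (I ^ n • ⊤ : Submodule R (UniformSpace.Completion M)).toAddSubgroup).comp
          (UniformSpace.Completion.toCompl : M →+ UniformSpace.Completion M)).ker = (I ^ n • ⊤ : Submodule R M).toAddSubgroup := by
  have hna : NonarchimedeanAddGroup M := ⟨fun U hU =>
    let ⟨n, hn⟩ := hbasis U hU
    ⟨⟨(I ^ n • M').toAddSubgroup, hopen n⟩, hn⟩⟩
  let ι : M →ₗ[R] UniformSpace.Completion M :=
  { toFun := fun m => (m : UniformSpace.Completion M)
    map_add' := UniformSpace.Completion.coe_add
    map_smul' := UniformSpace.Completion.coe_smul }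
  have hι : ∀ P : Submodule R M, ((P.map ι).topologicalClosure : Set (UniformSpace.Completion M)) =
      (LinTopLib.hatGroup P.toAddSubgroup : Set (UniformSpace.Completion M)) := fun P => rfl
  let W : ℕ → Submodule R (UniformSpace.Completion M) := fun k =>
    ((I ^ k • M').map ι).topologicalClosure
  have hW : Antitone W := fun i j hij =>
    Submodule.topologicalClosure_mono (Submodule.map_mono
      (Submodule.smul_mono (Ideal.pow_le_pow_right hij) le_rfl))
  have hbas : (nhds (0 : UniformSpace.Completion M)).HasBasis (fun _ : ℕ => True)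
      fun k => (W k : Set (UniformSpace.Completion M)) :=
    LinTopLib.hasBasis_hatGroup (fun k => (I ^ k • M').toAddSubgroup)
      ⟨fun s => ⟨fun hs => let ⟨n, hn⟩ := hbasis s hs; ⟨n, trivial, hn⟩,
        fun ⟨n, _, hn⟩ => Filter.mem_of_superset ((hopen n).mem_nhds (zero_mem _)) hn⟩⟩
  have hWo : ∀ k, IsOpen (W k : Set (UniformSpace.Completion M)) := fun k =>
    LinTopLib.isOpen_hatGroup (V := (I ^ k • M').toAddSubgroup) (hopen k)
  have hshr : ∀ n, LinTopLib.Shrinks fun k => (W (n + k) : Set (UniformSpace.Completion M)) :=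
    fun n => LinTopLib.shrinks_of_antitone (fun i j hij => hW (by omega)) fun V hV => by
      obtain ⟨m, -, hm⟩ := hbas.mem_iff.1 hV
      exact ⟨m, fun x hx => hm (hW (Nat.le_add_left m n) hx)⟩
  have hM'' : ∀ n, I ^ n • W 0 = W n := by
    intro n
    refine le_antisymm (Submodule.smul_le.2 fun r hr x hx => ?_) ?_
    · refine map_mem_closure (continuous_const_smul r) hx ?_
      rintro _ ⟨m, hm, rfl⟩
      refine ⟨r • m, Submodule.smul_mem_smul hr ?_, ι.map_smul r m⟩
      simpa using hm
    · refine LinTopLib.le_smul_of_approx (Submodule.FG.pow hI n) (fun k => W k)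
        (by simpa using hshr 0) (W 0) (Submodule.isClosed_topologicalClosure _)
        (fun k => hW (Nat.zero_le k)) (fun k => W (n + k)) (hshr n) fun k => ?_
      intro x hx
      have hx' : (fun y => x - y) ⁻¹' (W (n + (k + 1)) : Set (UniformSpace.Completion M)) ∈ nhds x :=
        (continuous_const.sub continuous_id).continuousAt.preimage_mem_nhds
          (by simpa using (hWo _).mem_nhds (zero_mem _))
      obtain ⟨y, hy, m, hm, rfl⟩ := mem_closure_iff_nhds.1 hx _ hx'
      refine Submodule.mem_sup.2 ⟨ι m, ?_, x - ι m, hy, by abel⟩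
      refine Submodule.smul_mono le_rfl (Submodule.le_topologicalClosure _) ?_
      rw [← Submodule.map_smul'', ← mul_smul, ← pow_add]
      exact Submodule.mem_map_of_mem hm
  refine ⟨⟨W 0, fun n => by rw [hM'']; exact hWo n, fun U hU => ?_⟩, fun n _ => ⟨?_, ?_⟩⟩
  · obtain ⟨m, -, hm⟩ := hbas.mem_iff.1 hU
    exact ⟨m, by rw [hM'']; exact hm⟩
  · intro y
    obtain ⟨x, rfl⟩ := QuotientAddGroup.mk'_surjective _ y
    obtain ⟨m, hm⟩ := LinTopLib.exists_coe_sub_mem (V := (I ^ n • M').toAddSubgroup) (hopen n) x
    refine ⟨m, (QuotientAddGroup.eq_iff_sub_mem).2 ?_⟩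
    have : x - (m : UniformSpace.Completion M) ∈ I ^ n • (⊤ : Submodule R (UniformSpace.Completion M)) :=
      Submodule.smul_mono le_rfl le_top ((hM'' n).ge hm)
    rw [Submodule.mem_toAddSubgroup, ← neg_sub]
    exact neg_mem this
  · have htop : (⊤ : Submodule R (UniformSpace.Completion M)) ≤ (⊤ : Submodule R M).map ι ⊔ W 0 := by
      intro x _
      obtain ⟨m, hm⟩ := LinTopLib.exists_coe_sub_mem (V := (I ^ 0 • M').toAddSubgroup) (hopen 0) x
      exact Submodule.mem_sup.2 ⟨ι m, ⟨m, trivial, rfl⟩, x - ι m, hm, by abel⟩
    ext m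
    simp only [AddMonoidHom.mem_ker, AddMonoidHom.coe_comp, Function.comp_apply,
      QuotientAddGroup.mk'_apply, QuotientAddGroup.eq_zero_iff, Submodule.mem_toAddSubgroup]
    refine ⟨fun h => ?_, fun h => ?_⟩
    · have h' := Submodule.smul_mono le_rfl htop h
      rw [Submodule.smul_sup, ← Submodule.map_smul'', hM'' n] at h'
      obtain ⟨_, ⟨y, hy, rfl⟩, w, hw, e⟩ := Submodule.mem_sup.1 h'
      have e' : ((m - y : M) : UniformSpace.Completion M) = w := by
        have e1 : ι y + w = ι m := e
        have : ι (m - y) = w := by rw [map_sub, ← e1]; abel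
        exact this
      have := LinTopLib.mem_of_coe_mem_hatGroup (V := (I ^ n • M').toAddSubgroup) (hopen n)
        (m := m - y) (by rw [e']; exact hw)
      have h2 : m - y ∈ I ^ n • (⊤ : Submodule R M) := Submodule.smul_mono le_rfl le_top this
      simpa using add_mem h2 hy
    · have h' : ι m ∈ (I ^ n • (⊤ : Submodule R M)).map ι := Submodule.mem_map_of_mem h
      rw [Submodule.map_smul''] at h'
      exact Submodule.smul_mono le_rfl le_top h'

end Groth.Agent.S10173
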