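import Groth.Statements.S10197
import Groth.Agent.AlgSpFin.SchemePoint
-- import your own Groth.Agent.* helpers here

set_option autoImplicit false
universe u
open CategoryTheory CategoryTheory.Limits AlgebraicGeometry Topology TopologicalSpace
open AlgSp

namespace Groth.Agent.S10197

/-- An algebraic space X over a scheme S has a largest open subspace which is a scheme: there is an open
subspace X' ⟶ X whose underlying sheaf is representable by a scheme over S, through which every open
subspace of X with representable underlying sheaf factors. -/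
theorem result {S : Scheme.{u}} (X : AlgSp.Space S) :
    ∃ (X' : AlgSp.Space S) (j : X' ⟶ X), AlgSp.RepWith @IsOpenImmersion j.hom ∧ X'.obj.obj.IsRepresentable ∧
      ∀ (X'' : AlgSp.Space S) (j'' : X'' ⟶ X), AlgSp.RepWith @IsOpenImmersion j''.hom →
        X''.obj.obj.IsRepresentable → ∃ k : X'' ⟶ X', k ≫ j = j'' := by
  obtain ⟨M, Φ, hΦ, hall⟩ := AlgSpFin.exists_largest_open_scheme X.property
  refine ⟨⟨(AlgSp.yon S).obj M, IsAlgSpace.yon_obj M⟩, ObjectProperty.homMk Φ, hΦ,
    AlgSpFin.isRepresentable_of_iso (Iso.refl _), fun X'' j'' hj hrep => ?_⟩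
  obtain ⟨N, ⟨eN⟩⟩ := hrep.has_representation
  let e := AlgSp.isoOfRepresentableBy eN
  have hψ : AlgSp.RepWith @IsOpenImmersion (e.hom ≫ j''.hom) :=
    AlgSpLib.repWith_comp (AlgSpLib.repWith_iso e.hom) hj
  obtain ⟨l, hl⟩ := AlgSpFin.exists_factor_of_range hΦ (e.hom ≫ j''.hom) fun t =>
    hall _ ⟨N, _, hψ, t, rfl⟩
  exact ⟨ObjectProperty.homMk (e.inv ≫ l), ObjectProperty.hom_ext _ (by
    show (e.inv ≫ l) ≫ Φ = j''.hom
    rw [Category.assoc, hl, e.inv_hom_id_assoc])⟩

end Groth.Agent.S10197
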