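import Groth.Statements.S10200
import Groth.Agent.AlgSpFin.SchemePoint
-- import your own Groth.Agent.* helpers here

set_option autoImplicit false
universe u
open CategoryTheory CategoryTheory.Limits AlgebraicGeometry Topology TopologicalSpace
open AlgSp

namespace Groth.Agent.S10200

/-- Let X be an algebraic space over a scheme S that is Zariski locally quasi-separated over S (for
example quasi-separated over S). Then there is a dense open subspace of X which is a scheme; more
precisely there is an open subspace X' ⟶ X with representable underlying sheaf such that |X'| is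
dense in |X| and contains every codimension 0 point of X (every point under which some etale chart
has a zero-dimensional local ring). -/
theorem result {S : Scheme.{u}} (X : AlgSp.Space S)
    (hX : ∃ (ι : Type u) (Xi : ι → AlgSp.Space S) (j : ∀ i, Xi i ⟶ X),
        AlgSp.IsZarCover (fun i => (Xi i).obj) (fun i => (j i).hom) ∧ ∀ i, AlgSp.IsQuasiSeparatedSp (Xi i).obj) :
    ∃ (X' : AlgSp.Space S) (j : X' ⟶ X), AlgSp.RepWith @IsOpenImmersion j.hom ∧ X'.obj.obj.IsRepresentable ∧
      Dense (Set.range (AlgSp.Points.map j.hom)) ∧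
      ∀ x : AlgSp.Points X.obj, AlgSp.HasAt (fun U u => ringKrullDim ↥(U.presheaf.stalk u) = 0) X.obj x →
        x ∈ Set.range (AlgSp.Points.map j.hom) := by
  obtain ⟨ι, Xi, j, ⟨hj, hcov⟩, hqs⟩ := hX
  obtain ⟨M, Φ, hΦ, hd, hall⟩ := AlgSpFin.exists_open_scheme_codimZero X.property fun x hx => by
    obtain ⟨i, y, rfl⟩ := hcov x
    exact AlgSpFin.inOpenScheme_map (hj i) (AlgSpFin.inOpenScheme_of_isQuasiSeparatedSp (Xi i).property (hqs i)
      ((AlgSpFin.hasAt_dim_zero_map_iff (Xi i).property (hj i) y).1 hx))
  exact ⟨⟨(AlgSp.yon S).obj M, IsAlgSpace.yon_obj M⟩, ObjectProperty.homMk Φ, hΦ,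
    AlgSpFin.isRepresentable_of_iso (Iso.refl _), hd, hall⟩

end Groth.Agent.S10200
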