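import Groth.Statements.S10212
import Groth.Agent.AlgSpLib.LocP
-- import your own Groth.Agent.* helpers here

set_option autoImplicit false
set_option backward.isDefEq.respectTransparency.types false
universe u
open CategoryTheory CategoryTheory.Limits AlgebraicGeometry Topology TopologicalSpace
open AlgSp

namespace Groth.Agent.S10212

/-- Let X be an algebraic space over a scheme S, χ : U ⟶ U' a surjective etale morphism of schemes over
S and φ' : h_{U'} ⟶ X a map such that the composite h_χ ≫ φ' : h_U ⟶ X is (representable and) etale.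
Then φ' is etale. -/
theorem result {S : Scheme.{u}} (X : AlgSp.Space S) {U U' : Over S}
    (χ : U ⟶ U') [Etale χ.left] [Surjective χ.left] (φ' : (AlgSp.yon S).obj U' ⟶ X.obj)
    (h : AlgSp.RepWith @Etale ((AlgSp.yon S).map χ ≫ φ')) :
    AlgSp.RepWith @Etale φ' := by
  refine (Groth.Agent.AlgSpLib.locP_iff_repWith (P := @Etale) X.property
    (X.property.representable_from_yon _)).1 ?_
  refine Groth.Agent.AlgSpLib.locP_of_source_chart (a := (AlgSp.yon S).map χ) X.property
    ((AlgSp.repWith_yon_map_iff _ χ).2 ‹_›) ((AlgSp.repWith_yon_map_iff _ χ).2 ‹_›) ?_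
  exact (Groth.Agent.AlgSpLib.locP_iff_repWith X.property h.1).2 h

end Groth.Agent.S10212
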