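import Groth.Statements.S1022
import Groth.Agent.DQC.PerfVanish
import Groth.Agent.DQC.RHomExact
-- import your own Groth.Agent.* helpers here

set_option autoImplicit false
universe u
open CategoryTheory CategoryTheory.Limits AlgebraicGeometry
attribute [local instance] HasDerivedCategory.standard
open Perf

namespace Groth.Agent.S1022

/-- Let the scheme X be quasi-compact and quasi-separated, P a perfect object of D(O_X), E ∈ D_QCoh(O_X)
and a ∈ ℤ. Then the morphisms P[-i] ⟶ E vanish for all large i if and only if the morphisms P[-i] ⟶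
τ_{≥ a}E vanish for all large i. -/
theorem result (X : Scheme.{u}) [CompactSpace ↥X] [QuasiSeparatedSpace ↥X]
    (P : DCoh.D X) (hP : DCoh.IsPerfect P) (E : DCoh.D X) (hE : DCoh.IsQCohD E) (a : ℤ) :
    (∃ N : ℤ, ∀ i : ℤ, N ≤ i → ∀ φ : P⟦-i⟧ ⟶ E, φ = 0) ↔
    (∃ N : ℤ, ∀ i : ℤ, N ≤ i → ∀ φ : P⟦-i⟧ ⟶ ((DerivedCategory.TStructure.t : CategoryTheory.Triangulated.TStructure (DCoh.D X)).truncGE a).obj E, φ = 0) := by
  obtain ⟨A, B, hAB, hlo, hhi⟩ := DQC.exists_range P hP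
  let t : Triangulated.TStructure (DCoh.D X) := DerivedCategory.TStructure.t
  have hT := t.triangleLEGE_distinguished (a - 1) a (by omega) E
  let T := (t.triangleLEGE (a - 1) a (by omega)).obj E
  have hq : DCoh.IsQCohD T.obj₁ := DQCPush.isQCohD_truncLE E hE (a - 1)
  have hvan : ∀ (i j : ℤ), a - A ≤ i + j → ∀ φ : P⟦-i⟧ ⟶ T.obj₁⟦j⟧, φ = 0 := fun i j hij φ => by
    apply ((shiftEquiv (DCoh.D X) (-i)).toAdjunction.homEquiv P (T.obj₁⟦j⟧)).injective
    haveI : t.IsLE T.obj₁ (a - 1) := inferInstanceAs (t.IsLE ((t.truncLE (a - 1)).obj E) (a - 1))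
    haveI : t.IsLE (T.obj₁⟦j⟧) (a - 1 - j) := t.isLE_shift T.obj₁ (a - 1) j (a - 1 - j) (by omega)
    haveI : ((T.obj₁⟦j⟧)⟦- -i⟧).IsLE (a - 1 - j - i) := t.isLE_shift (T.obj₁⟦j⟧) (a - 1 - j) (- -i) (a - 1 - j - i) (by omega)
    have z := hlo _ (DQC.isQCohD_shift (DQC.isQCohD_shift hq j) (- -i))
      ((DerivedCategory.isLE_iff _ _).2 fun k hk => DerivedCategory.isZero_of_isLE _ (a - 1 - j - i) k (by omega))
    exact (z _).trans (z _).symm
  constructor
  · rintro ⟨N, hN⟩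
    refine ⟨max N (a - A), fun i hi φ => ?_⟩
    obtain ⟨ψ, hψ⟩ := Pretriangulated.Triangle.coyoneda_exact₃ T hT φ (hvan i 1 (by omega) _)
    exact hψ.trans ((congrArg (fun t => t ≫ _) (hN i (by omega) ψ)).trans zero_comp)
  · rintro ⟨N, hN⟩
    refine ⟨max N (a - A), fun i hi φ => ?_⟩
    obtain ⟨ψ, hψ⟩ := Pretriangulated.Triangle.coyoneda_exact₂ T hT φ (hN i (by omega) _)
    have h0 : ψ ≫ (shiftFunctorZero (DCoh.D X) ℤ).inv.app T.obj₁ = 0 := hvan i 0 (by omega) _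
    exact hψ.trans ((congrArg (fun t => t ≫ _) ((Preadditive.IsIso.comp_right_eq_zero _ _).1 h0)).trans zero_comp)

end Groth.Agent.S1022
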