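import Groth.Statements.S10234
import Groth.Agent.AlgSpLib.Basic


set_option autoImplicit false
universe u
open CategoryTheory CategoryTheory.Limits AlgebraicGeometry Topology TopologicalSpace
open AlgSp

namespace Groth.Agent.S10234

/-- Suppose f : X ⟶ Y is a morphism of algebraic spaces over a scheme S that is etale. Then the functor
j : X_etale ⟶ Y_etale, (U ⟶ X) ↦ (U ⟶ X ⟶ Y), is continuous and cocontinuous for the etale
topologies. (The identification of the associated morphism of topoi with f_small, and the resulting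
formula for inverse images, are not part of this row.) -/
theorem result {S : Scheme.{u}} {X Y : AlgSp.Space S} (f : X ⟶ Y)
    (hf : AlgSp.IsEtaleMor f.hom) :
    (AlgSp.EtOver.postcomp f.hom hf).IsContinuous (AlgSp.etTop X.obj) (AlgSp.etTop Y.obj) ∧
      (AlgSp.EtOver.postcomp f.hom hf).IsCocontinuous (AlgSp.etTop X.obj) (AlgSp.etTop Y.obj) := by
  haveI : MorphismProperty.IsStableUnderComposition @Etale.{u} :=
    ⟨fun f g (_ : Etale f) (_ : Etale g) => inferInstanceAs (Etale (f ≫ g))⟩
  let P := AlgSp.EtOver.postcomp f.hom hf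
  haveI : PreservesLimitsOfShape WalkingCospan P := by
    constructor
    intro K
    haveI : PreservesLimit (cospan (K.map WalkingCospan.Hom.inl) (K.map WalkingCospan.Hom.inr)) P := by
      refine preservesLimit_of_preserves_limit_cone (AlgSp.EtOver.pullbackIsLimit _ _) ((isLimitMapConePullbackConeEquiv _ _).symm ?_)
      refine (IsPullback.of_map (AlgSp.EtOver.forget Y.obj) ?_ ?_).isLimit
      · rw [← CategoryTheory.Functor.map_comp, AlgSp.EtOver.pullback_condition, CategoryTheory.Functor.map_comp]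
      · exact (AlgSp.EtOver.isPullback _ _).map (AlgSp.EtOver.forget X.obj)
    exact preservesLimit_of_iso_diagram P (diagramIsoCospan K).symm
  refine ⟨?_, ⟨fun {E T} hT => ?_⟩⟩
  · refine Functor.isContinuous_toGrothendieck_of_pullbacksPreservedBy _ (AlgSp.etPre X.obj) (AlgSp.etPre Y.obj) ?_
    intro E R hR
    obtain ⟨ι, Z, g, rfl⟩ := R.exists_eq_ofArrows
    rw [Precoverage.mem_comap_iff, Presieve.map_ofArrows, AlgSp.ofArrows_mem_etPre_iff]
    exact (AlgSp.ofArrows_mem_etPre_iff Z g).1 hR
  · obtain ⟨R, hR, hle⟩ := (Precoverage.mem_toGrothendieck_iff_of_isStableUnderComposition).1 hT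
    obtain ⟨ι, Z, g, rfl⟩ := R.exists_eq_ofArrows
    have ha (i : ι) : AlgSp.RepWith @Etale ((AlgSp.yon S).map (g i).hom.left ≫ E.obj.hom) :=
      Groth.Agent.AlgSpLib.repWith_comp ((AlgSp.repWith_yon_map_iff @Etale _).2 (AlgSp.EtOver.etale_left (g i))) E.property
    let E' (i : ι) : AlgSp.EtOver X.obj := AlgSp.EtOver.mk _ (ha i)
    let g' (i : ι) : E' i ⟶ E := AlgSp.EtOver.homMk (g i).hom.left rfl
    refine GrothendieckTopology.superset_covering _ ?_
      (AlgSp.ofArrows_mem_etTop E' g' ((AlgSp.ofArrows_mem_etPre_iff Z g).1 hR))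
    rw [Sieve.generate_le_iff]
    rintro _ _ ⟨i⟩
    have w : (AlgSp.yon S).map (𝟙 _) ≫ (Z i).obj.hom = (P.obj (E' i)).obj.hom := by
      rw [CategoryTheory.Functor.map_id, Category.id_comp]
      show _ = ((AlgSp.yon S).map (g i).hom.left ≫ E.obj.hom) ≫ f.hom
      exact (AlgSp.EtOver.w (g i)).symm.trans (Category.assoc _ _ _).symm
    have e : P.map (g' i) = (AlgSp.EtOver.homMk (E := P.obj (E' i)) (E' := Z i) (𝟙 _) w : P.obj (E' i) ⟶ Z i) ≫ g i :=
      AlgSp.EtOver.hom_ext _ _ (show (g i).hom.left = 𝟙 _ ≫ (g i).hom.left from (Category.id_comp _).symm)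
    show T.arrows (P.map (g' i))
    rw [e]
    exact T.downward_closed (hle _ _ ⟨i⟩) _

end Groth.Agent.S10234
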