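import Groth.Statements.S10235
import Mathlib
import Groth.Agent.GrpdBasic.QuotFree
import Groth.Agent.GrpdBasic.QuotSheaf
-- import your own Groth.Agent.* helpers here

set_option autoImplicit false
universe u
open CategoryTheory CategoryTheory.Limits AlgebraicGeometry Topology TopologicalSpace
open AlgSp

namespace Groth.Agent.S10235

section Aux
theorem mono_j_of_isEqvRel {S : Scheme.{u}} (G : Grpd.GroupoidScheme S)
    (heq : AlgSp.IsEqvRel (Over.homMk G.s G.s_over : Over.mk G.pR ⟶ Over.mk G.pU) (Over.homMk G.t G.t_over : Over.mk G.pR ⟶ Over.mk G.pU)) :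
    Mono G.j := by
  refine ⟨fun {T} a b h => ?_⟩
  obtain ⟨ht, hs⟩ := (Groth.Agent.GrpdBasic.j_eq_iff G a b).1 h
  have hb : b ≫ G.pR = a ≫ G.pR := by rw [← G.t_over, reassoc_of% ht]
  exact congrArg CommaMorphism.left (heq.injective (Over.mk (a ≫ G.pR)) (Over.homMk a rfl) (Over.homMk b hb)
    (Over.OverMorphism.ext ht) (Over.OverMorphism.ext hs))

end Aux

/-- Let (U, R, s, t, c) be a groupoid scheme over a scheme S whose source and target maps s, t : R ⟶ U
are finite locally free and whose map j = (t, s) is an equivalence relation, and suppose that in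
each nonempty closed subset of U one can find a point u such that some affine open of U contains the
whole equivalence class t(s⁻¹{u}) of u. Then there are a scheme M over S and a finite locally free
morphism U ⟶ M over S such that the square with the two maps t, s : R ⟶ U over U ⟶ M is cartesian (R
= U ×_M U) and U ⟶ M exhibits h_M as the quotient of h_U by the pair h_R ⇉ h_U in the category of
fppf sheaves. -/
theorem result {S : Scheme.{u}} (G : Grpd.GroupoidScheme S)
    (hs : Mor2.IsFinLocFree G.s) (ht : Mor2.IsFinLocFree G.t)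
    (heq : AlgSp.IsEqvRel (Over.homMk G.s G.s_over : Over.mk G.pR ⟶ Over.mk G.pU) (Over.homMk G.t G.t_over : Over.mk G.pR ⟶ Over.mk G.pU))
    (h3 : ∀ Z : Set ↥G.U, IsClosed Z → Z.Nonempty →
      ∃ u ∈ Z, ∃ W : G.U.Opens, IsAffineOpen W ∧ ∀ r : ↥G.R, G.s r = u → G.t r ∈ W) :
    ∃ (M : Over S) (m : Over.mk G.pU ⟶ M), Mor2.IsFinLocFree m.left ∧ IsPullback G.t G.s m.left m.left ∧
      QuotSh.IsQuotient Scheme.fppfPrecoverage (Over.homMk G.s G.s_over : Over.mk G.pR ⟶ Over.mk G.pU) (Over.homMk G.t G.t_over : Over.mk G.pR ⟶ Over.mk G.pU) m := by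
  obtain ⟨_, _, _⟩ := hs
  have := mono_j_of_isEqvRel G heq
  obtain ⟨M, q, hq, h1, h2, h4, hpb⟩ :=
    Groth.Agent.GrpdBasic.exists_free_quotient G (Groth.Agent.GrpdBasic.affClasses_of_closed G h3)
  obtain ⟨m, hm⟩ := hq.exists_desc G.pU (by rw [G.s_over, G.t_over])
  have : Surjective q := ⟨hq.surj⟩
  refine ⟨Over.mk m, Over.homMk q hm, ⟨inferInstanceAs (IsFinite q), inferInstanceAs (Flat q),
    inferInstanceAs (LocallyOfFinitePresentation q)⟩, hpb, ?_⟩
  refine Groth.Agent.QuotShBasic.isQuotient_of_isPullback Scheme.fppfPrecoverage _ _ _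
    (IsPullback.of_map (Over.forget S) ((Over.forget S).map_injective hpb.w) hpb) ?_
  exact Groth.Agent.QuotShBasic.generate_singleton_mem _ _
    (Scheme.Hom.singleton_mem_fppfPrecoverage q)

end Groth.Agent.S10235
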