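import Groth.Statements.S10236
import Mathlib
import Groth.Agent.SepDescent.Basic
-- import your own Groth.Agent.* helpers here

set_option autoImplicit false
universe u
open CategoryTheory CategoryTheory.Limits AlgebraicGeometry Topology TopologicalSpace
open AlgSp

namespace Groth.Agent.S10236

section Aux
theorem surjective_of_isQuotient {S : Scheme.{u}} {R U M : Over S} (s t : R ⟶ U) (m : U ⟶ M)
    (h : QuotSh.IsQuotient Scheme.fppfPrecoverage s t m) : Surjective m.left := by
  obtain ⟨w, hiso⟩ := h
  have e : QuotSh.quotπ Scheme.fppfPrecoverage s t ≫ QuotSh.quotDesc Scheme.fppfPrecoverage m w =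
      QuotSh.repMap Scheme.fppfPrecoverage m := coequalizer.π_desc _ _
  have : Epi (QuotSh.repMap Scheme.fppfPrecoverage m) := by
    rw [← e]
    have : Epi (QuotSh.quotπ Scheme.fppfPrecoverage s t) := coequalizer.π_epi
    exact epi_comp _ _
  have hs : Sheaf.IsLocallySurjective (QuotSh.repMap Scheme.fppfPrecoverage m) :=
    (Sheaf.isLocallySurjective_iff_epi' _ _).2 this
  have hp := (Presheaf.isLocallySurjective_presheafToSheaf_map_iff (QuotSh.J Scheme.fppfPrecoverage S)
    (Functor.whiskerRight (yoneda.map m) uliftFunctor.{u + 1, u})).1 hs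
  have hcov := hp.imageSieve_mem (U := M) (ULift.up (𝟙 M) : ULift.{u + 1} (M ⟶ M))
  rw [GrothendieckTopology.mem_over_iff] at hcov
  let P : MorphismProperty Scheme.{u} := @Flat ⊓ @LocallyOfFinitePresentation
  have : P.IsMultiplicative :=
    { id_mem := fun _ => ⟨inferInstance, inferInstance⟩
      comp_mem := fun f g ⟨_, _⟩ ⟨_, _⟩ => ⟨inferInstance, inferInstance⟩ }
  have : P.IsStableUnderBaseChange := by
    refine ⟨fun {X Y Y' S} _ _ _ _ h hf => ⟨?_, ?_⟩⟩
    · exact MorphismProperty.of_isPullback h hf.1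
    · exact MorphismProperty.of_isPullback h hf.2
  obtain ⟨𝒰, hle⟩ := (Scheme.mem_grothendieckTopology_iff (P := P)).1 hcov
  refine ⟨fun y => ?_⟩
  obtain ⟨i, z, hz⟩ := 𝒰.exists_eq y
  obtain ⟨W, g, k, ⟨⟨a⟩, ha⟩, hk⟩ := hle _ _ ⟨i⟩
  refine ⟨a.left (k z), ?_⟩
  have e2 : a ≫ m = g := (congrArg ULift.down ha).trans (Category.comp_id g)
  have e3 : k ≫ g.left = 𝒰.f i := hk.symm
  rw [← hz, ← e3, ← e2]
  rfl

theorem quasiSeparatedSpace_of_finite_surjective {X Y : Scheme.{u}} (f : X ⟶ Y) [IsFinite f] [Surjective f]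
    [QuasiSeparatedSpace ↥X] : QuasiSeparatedSpace ↥Y := by
  haveI : QuasiSeparated (terminal.from X) := (quasiSeparatedSpace_iff_quasiSeparated _).1 inferInstance
  haveI : QuasiSeparated (f ≫ terminal.from Y) := by rw [terminal.comp_from]; infer_instance
  haveI := Groth.Agent.SepDescent.quasiSeparated_of_comp f (terminal.from Y)
  exact (quasiSeparatedSpace_iff_quasiSeparated _).2 inferInstance

theorem isSeparated_of_finite_surjective {X Y : Scheme.{u}} (f : X ⟶ Y) [IsFinite f] [Surjective f]
    [X.IsSeparated] : Y.IsSeparated := by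
  haveI : IsSeparated (f ≫ terminal.from Y) := by rw [terminal.comp_from]; infer_instance
  exact ⟨Groth.Agent.SepDescent.isSeparated_of_comp f (terminal.from Y)⟩

end Aux

/-- Let (U, R, s, t, c) be a groupoid scheme over a scheme S with s, t finite locally free and j = (t,
s) an equivalence relation, such that in each nonempty closed subset of U some point has its whole
equivalence class inside an affine open of U; let U ⟶ M be a finite locally free morphism over S
with R = U ×_M U (the square with t, s cartesian) such that h_M is the quotient of h_U by h_R ⇉ h_U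
in fppf sheaves. Then (1) if U ⟶ S is quasi-separated so is M ⟶ S; (2) if U is quasi-separated so is
M; (3) if U ⟶ S is separated so is M ⟶ S; (4) if U is separated so is M. -/
theorem result {S : Scheme.{u}} (G : Grpd.GroupoidScheme S)
    (hs : Mor2.IsFinLocFree G.s) (ht : Mor2.IsFinLocFree G.t)
    (heq : AlgSp.IsEqvRel (Over.homMk G.s G.s_over : Over.mk G.pR ⟶ Over.mk G.pU) (Over.homMk G.t G.t_over : Over.mk G.pR ⟶ Over.mk G.pU))
    (h3 : ∀ Z : Set ↥G.U, IsClosed Z → Z.Nonempty →
      ∃ u ∈ Z, ∃ W : G.U.Opens, IsAffineOpen W ∧ ∀ r : ↥G.R, G.s r = u → G.t r ∈ W)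
    (M : Over S) (m : Over.mk G.pU ⟶ M) (hm : Mor2.IsFinLocFree m.left) (hR : IsPullback G.t G.s m.left m.left)
    (hq : QuotSh.IsQuotient Scheme.fppfPrecoverage (Over.homMk G.s G.s_over : Over.mk G.pR ⟶ Over.mk G.pU) (Over.homMk G.t G.t_over : Over.mk G.pR ⟶ Over.mk G.pU) m) :
    (QuasiSeparated G.pU → QuasiSeparated M.hom) ∧ (QuasiSeparatedSpace ↥G.U → QuasiSeparatedSpace ↥M.left) ∧
      (IsSeparated G.pU → IsSeparated M.hom) ∧ (G.U.IsSeparated → M.left.IsSeparated) := by
  have : IsFinite m.left := hm.1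
  have : Surjective m.left := surjective_of_isQuotient _ _ m hq
  refine ⟨fun h => ?_, fun h => quasiSeparatedSpace_of_finite_surjective (X := G.U) m.left, fun h => ?_,
    fun h => isSeparated_of_finite_surjective (X := G.U) m.left⟩
  · have : QuasiSeparated (m.left ≫ M.hom) := by rw [Over.w m]; exact h
    exact Groth.Agent.SepDescent.quasiSeparated_of_comp m.left M.hom
  · have : IsSeparated (m.left ≫ M.hom) := by rw [Over.w m]; exact h
    exact Groth.Agent.SepDescent.isSeparated_of_comp m.left M.hom

end Groth.Agent.S10236
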