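import Groth.Statements.S1024
import Mathlib
-- import your own Groth.Agent.* helpers here

set_option autoImplicit false
universe v u u'
open CategoryTheory Opposite
open CohDer

namespace Groth.Agent.S1024

/-- Let u : A ⥤ B be a functor between abelian categories and P a family of objects of B such that each
object of B receives an epimorphism from some member of P, and such that for every member Pᵢ there
is an object Q of A with Hom_A(Q, -) ≅ Hom_B(Pᵢ, u(-)) naturally. Then u is a right adjoint (has a
left adjoint). -/
theorem result {A : Type u} [Category.{v} A] [Abelian A] {B : Type u'} [Category.{v} B] [Abelian B]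
    (u : A ⥤ B) {ι : Type*} (P : ι → B)
    (h1 : ∀ X : B, ∃ (i : ι) (π : P i ⟶ X), Epi π)
    (h2 : ∀ i : ι, ∃ Q : A, Nonempty (coyoneda.obj (op Q) ≅ u ⋙ coyoneda.obj (op (P i)))) :
    u.IsRightAdjoint := by
  refine Functor.isRightAdjoint_of_leftAdjointObjIsDefined_eq_top ?_
  ext X
  simp only [Pi.top_apply, Prop.top_eq_true, iff_true]
  have hP : ∀ i, u.leftAdjointObjIsDefined (P i) := fun i => by
    obtain ⟨Q, ⟨e⟩⟩ := h2 i
    exact ((Functor.corepresentableByEquiv (F := u ⋙ coyoneda.obj (op (P i))) (X := Q)).symm e).isCorepresentable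
  obtain ⟨i, π, hπ⟩ := h1 X
  obtain ⟨j, π', hπ'⟩ := h1 (Limits.kernel π)
  have hc : Limits.IsColimit (Limits.CokernelCofork.ofπ (f := π' ≫ Limits.kernel.ι π) π (by simp)) :=
    Limits.CokernelCofork.IsColimit.ofπ' π (by simp) fun {Z} k hk => by
      have hk' : Limits.kernel.ι π ≫ k = 0 := by
        rw [← cancel_epi π', ← Category.assoc, hk, Limits.comp_zero]
      let c := Abelian.epiIsCokernelOfKernel _ (Limits.kernelIsKernel π)
      exact ⟨c.desc (Limits.CokernelCofork.ofπ k hk'), c.fac _ Limits.WalkingParallelPair.one⟩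
  exact Functor.leftAdjointObjIsDefined_of_isColimit hc (fun
    | .zero => hP j
    | .one => hP i)

end Groth.Agent.S1024
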