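import Groth.Statements.S7494
import Mathlib
-- import your own Groth.Agent.* helpers here

set_option autoImplicit false
universe u
open CategoryTheory MonoidalCategory CartesianMonoidalCategory MonObj GrpObj AlgebraicGeometry
open AlgGrp

namespace Groth.Agent.S7494

/-- Let G be a group scheme over S acting on a scheme X over S by a. The action is free, meaning that
for every scheme T over S and all T-points g of G and x of X with g · x = x one has g = 1, if and
only if the morphism G x_S X -> X x_S X, (g, x) ↦ (a(g, x), x), is a monomorphism of schemes. -/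
theorem result {S : Scheme.{u}} (G X : Over S) [GrpObj G] (a : AlgGrp.Action G X) : (∀ (T : Over S) (g : T ⟶ G) (x : T ⟶ X), lift g x ≫ a.act = x → g = toUnit T ≫ η[G]) ↔ Mono (lift a.act (snd G X)).left := by
  have hmul : ∀ (T : Over S) (g h : T ⟶ G) (x : T ⟶ X),
      lift (g * h) x ≫ a.act = lift g (lift h x ≫ a.act) ≫ a.act := by
    intro T g h x
    have := congrArg (fun f => lift (lift g h) x ≫ f) a.mul_act
    simp only [lift_whiskerRight_assoc, lift_lift_associator_hom_assoc, lift_whiskerLeft_assoc] at this
    rw [Hom.mul_def]
    exact this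
  have hone : ∀ (T : Over S) (x : T ⟶ X), lift (1 : T ⟶ G) x ≫ a.act = x := by
    intro T x
    have := congrArg (fun f => lift (toUnit T) x ≫ f) a.one_act
    simp only [lift_whiskerRight_assoc, lift_leftUnitor_hom] at this
    rw [Hom.one_def]
    exact this
  constructor
  · intro hfree
    have : Mono (lift a.act (snd G X)) := by
      refine ⟨fun {T} u v huv => ?_⟩
      have h1 := congrArg (fun f => f ≫ fst _ _) huv
      have h2 := congrArg (fun f => f ≫ snd _ _) huv
      simp only [Category.assoc, lift_fst, lift_snd] at h1 h2
      refine CartesianMonoidalCategory.hom_ext _ _ ?_ h2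
      have hu : lift (u ≫ fst G X) (u ≫ snd G X) = u := by rw [← comp_lift, lift_fst_snd, Category.comp_id]
      have hv : lift (v ≫ fst G X) (u ≫ snd G X) = v := by rw [h2, ← comp_lift, lift_fst_snd, Category.comp_id]
      have e : lift (u ≫ fst G X) (u ≫ snd G X) ≫ a.act = lift (v ≫ fst G X) (u ≫ snd G X) ≫ a.act := by
        rw [hu, hv]; exact h1
      have := hfree T ((v ≫ fst G X)⁻¹ * (u ≫ fst G X)) (u ≫ snd G X) (by
        rw [hmul, e, ← hmul, inv_mul_cancel, hone])
      rw [← Hom.one_def, inv_mul_eq_one] at this
      exact this.symm
    exact inferInstance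
  · intro hm T g x hgx
    have : Mono (lift a.act (snd G X)) := Over.mono_of_mono_left _
    have e : lift g x = lift (1 : T ⟶ G) x := by
      rw [← cancel_mono (lift a.act (snd G X)), comp_lift, comp_lift, lift_snd, lift_snd, hgx, hone]
    have := congrArg (fun f => f ≫ fst _ _) e
    simpa [Hom.one_def] using this

end Groth.Agent.S7494
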