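import Groth.Statements.S10245
import Mathlib
import Groth.Agent.GrpdBasic.ActionGrpd
import Groth.Agent.GrpdBasic.QuotFree
import Groth.Agent.GrpdBasic.QuotSheaf
import Groth.Agent.S7494
-- import your own Groth.Agent.* helpers here

set_option autoImplicit false
universe u
open CategoryTheory CategoryTheory.Limits MonoidalCategory CartesianMonoidalCategory MonObj AlgebraicGeometry Topology TopologicalSpace
open AlgSp

set_option backward.isDefEq.respectTransparency false

namespace Groth.Agent.S10245

/-- Let G ⟶ S be a finite locally free group scheme over a scheme S acting on a scheme X over S by a : G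
×_S X ⟶ X, freely on T-valued points for every S-scheme T. Assume one of the following: the
structure morphism X ⟶ S is affine; X admits an open immersion into some affine scheme; G ⟶ S is
radicial (universally injective). Then the fppf quotient sheaf X/G is a scheme M: there is q : X ⟶ M
over S exhibiting h_M as the quotient of h_X by the projection and the action G ×_S X ⇉ X in fppf
sheaves; moreover the square formed by the action, the projection and q is cartesian (G ×_S X ≅ X
×_M X) and X ⟶ M has sections fppf locally on M, so that X ⟶ X/G is an fppf G-torsor. (The published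
statement also allows X ⟶ S quasi-affine, projective or quasi-projective, or X an open subscheme of
Proj of a graded ring; those cases are not covered by this row.) -/
theorem result {S : Scheme.{u}} (G X : Over S) [GrpObj G]
    (a : AlgGrp.Action G X) (hG : Mor2.IsFinLocFree G.hom)
    (hfree : ∀ (T : Over S) (g : T ⟶ G) (x : T ⟶ X), lift g x ≫ a.act = x → g = toUnit T ≫ η[G])
    (h3 : IsAffineHom X.hom ∨ (∃ (R : CommRingCat.{u}) (i : X.left ⟶ Spec R), IsOpenImmersion i) ∨
      UniversallyInjective G.hom) :
    ∃ (M : Over S) (q : X ⟶ M), QuotSh.IsQuotient Scheme.fppfPrecoverage (snd G X) a.act q ∧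
      IsPullback a.act.left (snd G X).left q.left q.left ∧
      NonAbH1.IsLocallyTrivialFor Scheme.fppfPrecoverage (Over.mk q.left) := by
  obtain ⟨_, _, _⟩ := hG
  let H := Groth.Agent.GrpdBasic.actionGrpd a
  have hsnd : IsPullback (fst G X).left (snd G X).left G.hom X.hom := by
    exact IsPullback.of_hasPullback G.hom X.hom
  haveI : IsFinite H.s := MorphismProperty.of_isPullback (P := @IsFinite) hsnd ‹_›
  haveI : Flat H.s := MorphismProperty.of_isPullback (P := @Flat) hsnd ‹_›
  haveI : LocallyOfFinitePresentation H.s :=
    MorphismProperty.of_isPullback (P := @LocallyOfFinitePresentation) hsnd ‹_›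
  haveI : Mono H.j := by
    have hm := (Groth.Agent.S7494.result G X a).mp hfree
    have e : H.j = (lift a.act (snd G X)).left := by
      refine pullback.hom_ext ?_ ?_
      · refine (pullback.lift_fst _ _ _).trans ?_
        exact ((congrArg CommaMorphism.left (lift_fst a.act (snd G X))).symm.trans (Over.comp_left _ _ _ _ _))
      · refine (pullback.lift_snd _ _ _).trans ?_
        exact ((congrArg CommaMorphism.left (lift_snd a.act (snd G X))).symm.trans (Over.comp_left _ _ _ _ _))
    rw [e]; exact hm
  have haff : Groth.Agent.GrpdBasic.AffClasses H := by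
    intro x
    rcases h3 with h | ⟨R, i, hi⟩ | h
    · obtain ⟨A, hA, hxA, -⟩ :=
        exists_isAffineOpen_mem_and_subset (x := X.hom x) (U := ⊤) (by trivial)
      refine ⟨X.hom ⁻¹ᵁ A, hA.preimage X.hom, ?_⟩
      rintro _ ⟨r, hr, rfl⟩
      change X.hom (H.t r) ∈ A
      rw [← Scheme.Hom.comp_apply, show H.t ≫ X.hom = H.s ≫ X.hom from H.t_over.trans H.s_over.symm,
        Scheme.Hom.comp_apply, show H.s r = x from hr]
      exact hxA
    · classical
      have hfin : (H.s ⁻¹' {x}).Finite := H.s.finite_preimage_singleton x
      obtain ⟨f, hfW, hfT⟩ := Groth.Agent.GrpdBasic.exists_basicOpen_subset_of_finite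
        (V := Spec R) i.opensRange (hfin.toFinset.image fun r => i (H.t r)) (fun y hy => by
          obtain ⟨r, -, rfl⟩ := Finset.mem_image.mp hy
          exact ⟨H.t r, rfl⟩)
      refine ⟨i ⁻¹ᵁ (Spec R).basicOpen f,
        ((isAffineOpen_top (Spec R)).basicOpen f).preimage_of_isOpenImmersion i hfW, ?_⟩
      rintro _ ⟨r, hr, rfl⟩
      exact hfT _ (Finset.mem_image.mpr ⟨r, hfin.mem_toFinset.mpr hr, rfl⟩)
    · haveI : UniversallyInjective H.s :=
        MorphismProperty.of_isPullback (P := @UniversallyInjective) hsnd h
      obtain ⟨A, hA, hxA, -⟩ := exists_isAffineOpen_mem_and_subset (x := x) (U := ⊤) (by trivial)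
      refine ⟨A, hA, ?_⟩
      rintro _ ⟨r, hr, rfl⟩
      have he : r = H.e x := H.s.injective ((show H.s r = x from hr).trans
        (Groth.Agent.GrpdBasic.s_e H x).symm)
      change H.t r ∈ A
      rw [he, Groth.Agent.GrpdBasic.t_e]
      exact hxA
  obtain ⟨M, q, hq, h1, h2, h4, hpb⟩ := Groth.Agent.GrpdBasic.exists_free_quotient H haff
  obtain ⟨m, hm⟩ := hq.exists_desc X.hom (by
    show H.s ≫ X.hom = H.t ≫ X.hom
    rw [show H.t ≫ X.hom = H.s ≫ X.hom from H.t_over.trans H.s_over.symm])
  haveI : Surjective q := ⟨hq.surj⟩
  refine ⟨Over.mk m, Over.homMk q hm, ?_, hpb, ?_⟩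
  · refine Groth.Agent.QuotShBasic.isQuotient_of_isPullback Scheme.fppfPrecoverage _ _ _
      (IsPullback.of_map (Over.forget S) ((Over.forget S).map_injective hpb.w) hpb) ?_
    exact Groth.Agent.QuotShBasic.generate_singleton_mem _ _
      (Scheme.Hom.singleton_mem_fppfPrecoverage q)
  · refine ⟨Presieve.singleton q, Scheme.Hom.singleton_mem_fppfPrecoverage q, ?_⟩
    rintro S' f ⟨⟩
    exact ⟨𝟙 _, Category.id_comp _⟩

end Groth.Agent.S10245
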