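import Groth.Statements.S10247
import Groth.Agent.AlgSpLib.Basic


set_option autoImplicit false
universe u
open CategoryTheory CategoryTheory.Limits AlgebraicGeometry Topology TopologicalSpace
open AlgSp

namespace Groth.Agent.S10247

/-- Let X be an algebraic space over a scheme S. Together with its structure sheaf O_X, the small etale
site of X is a locally ringed site: for every scheme U etale over X and every global function f on U
there is a covering sieve of U in the small etale site along each of whose arrows f or 1 - f pulls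
back to a unit, and whenever 0 = 1 holds in the ring of global functions of U the empty sieve covers
U. -/
theorem result {S : Scheme.{u}} (X : AlgSp.Space S) :
    ModSite.IsLocallyRinged (AlgSp.etTop X.obj) (AlgSp.OEt X.obj) := by
  haveI : MorphismProperty.IsStableUnderComposition @Etale.{u} :=
    ⟨fun f g (_ : Etale f) (_ : Etale g) => inferInstanceAs (Etale (f ≫ g))⟩
  refine ⟨fun Ej f => ?_, fun Ej h => ?_⟩
  · let V := Ej.obj.left.left
    let a₀ : Γ(V, ⊤) := f.down
    let U : ULift.{u} Bool → V.Opens := fun b => bif b.down then V.basicOpen a₀ else V.basicOpen (1 - a₀)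
    let j (b : ULift.{u} Bool) : Over.mk ((U b).ι ≫ Ej.obj.left.hom) ⟶ Ej.obj.left := Over.homMk (U b).ι rfl
    have ha (b : ULift.{u} Bool) : AlgSp.RepWith @Etale ((AlgSp.yon S).map (j b) ≫ Ej.obj.hom) :=
      Groth.Agent.AlgSpLib.repWith_comp ((AlgSp.repWith_yon_map_iff @Etale (j b)).2 (inferInstanceAs (Etale (U b).ι))) Ej.property
    let E' (b : ULift.{u} Bool) : AlgSp.EtOver X.obj := AlgSp.EtOver.mk _ (ha b)
    let g (b : ULift.{u} Bool) : E' b ⟶ Ej := AlgSp.EtOver.homMk (j b) rfl
    refine ⟨_, AlgSp.ofArrows_mem_etTop E' g fun x => ?_, fun W k hk => ?_⟩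
    · by_cases hx : IsUnit (V.presheaf.germ ⊤ x trivial a₀)
      · exact ⟨⟨true⟩, ⟨x, (V.mem_basicOpen_top a₀ x).2 hx⟩, rfl⟩
      · refine ⟨⟨false⟩, ⟨x, (V.mem_basicOpen_top (1 - a₀) x).2 ?_⟩, rfl⟩
        rw [map_sub, map_one]
        exact (IsLocalRing.isUnit_or_isUnit_one_sub_self _).resolve_left hx
    · obtain ⟨W', k', g', ⟨b⟩, rfl⟩ := hk
      have key : ∀ a : Γ(V, ⊤), U b ≤ V.basicOpen a → IsUnit ((U b).ι.appTop.hom a) := fun a ha =>
        RingedSpace.isUnit_of_isUnit_germ ((U b).toScheme.toLocallyRingedSpace.toRingedSpace) ⊤ _ fun z hz => by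
          have hmem : z ∈ (U b).ι ⁻¹ᵁ V.basicOpen a := ha z.2
          rw [Scheme.preimage_basicOpen_top, Scheme.mem_basicOpen_top] at hmem
          exact hmem
      rcases b with ⟨_ | _⟩
      · refine Or.inr ?_
        rw [op_comp, Functor.map_comp]
        refine IsUnit.map ((AlgSp.OEt X.obj).obj.map k'.op).hom ?_
        exact (key _ le_rfl).map (ULift.ringEquiv (R := Γ((U ⟨false⟩).toScheme, ⊤))).symm.toRingHom
      · refine Or.inl ?_
        rw [op_comp, Functor.map_comp]
        refine IsUnit.map ((AlgSp.OEt X.obj).obj.map k'.op).hom ?_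
        exact (key _ le_rfl).map (ULift.ringEquiv (R := Γ((U ⟨true⟩).toScheme, ⊤))).symm.toRingHom
  · have h0 : (0 : Γ(Ej.obj.left.left, ⊤)) = 1 := congrArg ULift.down h
    have : IsEmpty Ej.obj.left.left := ⟨fun x => by
      have := congrArg (Ej.obj.left.left.presheaf.germ ⊤ x trivial) h0
      rw [map_zero, map_one] at this
      exact zero_ne_one this⟩
    have hb := AlgSp.ofArrows_mem_etTop (E := Ej) (fun e : PEmpty.{1} => (e.elim : AlgSp.EtOver X.obj)) (fun e => e.elim)
      fun x => (this.false x).elim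
    refine GrothendieckTopology.superset_covering _ ?_ hb
    rw [Sieve.generate_le_iff]
    rintro _ _ ⟨e⟩
    exact e.elim

end Groth.Agent.S10247
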