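import Groth.Statements.S10262
import Groth.Agent.AlgSpLib.LocP
import Groth.Agent.AlgSpLib.DiagMor
import Groth.Agent.AlgSpLib.EtaleMono
import Groth.Agent.AlgSpLib.FibreProduct
import Groth.Agent.AlgSpPts.UnrDiag


set_option autoImplicit false
universe u
open CategoryTheory CategoryTheory.Limits AlgebraicGeometry
open AlgSp Groth.Agent.AlgSpLib

namespace Groth.Agent.S10262

/-- (1) an unramified morphism of algebraic spaces has diagonal an open immersion; (2) a morphism
locally of finite type whose diagonal is an open immersion is unramified. -/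
theorem result {S : Scheme.{u}} {X Y : AlgSp.Space S} (f : X ⟶ Y) :
    (AlgSp.LocP (@LocallyOfFiniteType ⊓ @FormallyUnramified) f.hom →
      AlgSp.RepWith @IsOpenImmersion (pullback.diagonal f.hom)) ∧
    (AlgSp.LocP @LocallyOfFiniteType f.hom → AlgSp.RepWith @IsOpenImmersion (pullback.diagonal f.hom) →
      AlgSp.LocP (@LocallyOfFiniteType ⊓ @FormallyUnramified) f.hom) := by
  refine ⟨fun hf => ?_, fun hft hd U V a b h ha hb w => ⟨hft a b h ha hb w, ?_⟩⟩
  · have hX := X.property
    have hP := isAlgSpace_pullback f.hom f.hom hX hX Y.property
    have hfst : LocP (@LocallyOfFiniteType ⊓ @FormallyUnramified) (pullback.fst f.hom f.hom) :=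
      locP_baseChange hX Y.property hX (IsPullback.of_hasPullback f.hom f.hom).flip hf
    have he : LocP @Etale (pullback.diagonal f.hom) := by
      refine locP_of_comp (Q := @Etale) hX hP hX ?_ hfst fun A B C k m hk hm => ?_
      · rw [pullback.diagonal_fst]
        exact (isEtaleMor_iff_locP hX).1 (isEtaleMor_id _)
      · have : Etale (k ≫ m) := hk
        have : LocallyOfFiniteType m := hm.1
        have : FormallyUnramified m := hm.2
        exact Groth.Agent.AlgSpPts.etale_of_unramified k m
    exact repWith_isOpenImmersion_of_etale_mono hX hP _ he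
  · have hda : RepWith @IsOpenImmersion (pullback.diagonal a) := (repWith_diagonal_iff ha.1).2
      fun T W g fst snd sq => by
        have : Etale snd.left := ha.2 g fst snd sq
        infer_instance
    have hg : RepWith @IsOpenImmersion (pullback.diagonal (a ≫ f.hom)) :=
      MorphismProperty.comp_mem (MorphismProperty.diagonal (RepWith @IsOpenImmersion)) a f.hom hda hd
    have hg' : RepWith @IsOpenImmersion (pullback.diagonal ((yon S).map h ≫ b)) :=
      show MorphismProperty.diagonal (RepWith @IsOpenImmersion) ((yon S).map h ≫ b) from w ▸ hg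
    rw [pullback.diagonal_comp] at hg'
    have hh : RepWith @IsOpenImmersion (pullback.diagonal ((yon S).map h)) :=
      repWith_of_comp_mono _ _ hg'
    have sq : IsPullback (𝟙 _) ((yon S).map h) ((yon S).map h) (𝟙 _) := isPullback_id _
    have hrep : Representable ((yon S).map h) := Functor.relativelyRepresentable.map (F := yon S) h
    have := (repWith_diagonal_iff hrep).1 hh (𝟙 _) (𝟙 _) h sq
    infer_instance

end Groth.Agent.S10262
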