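import Groth.Statements.S10264
import Groth.Agent.AlgSpLib.ChartMor
-- import your own Groth.Agent.* helpers here

set_option autoImplicit false
universe u
open CategoryTheory CategoryTheory.Limits AlgebraicGeometry
open AlgSp

namespace Groth.Agent.S10264

/-- An immersion of algebraic spaces is unramified. -/
theorem result {S : Scheme.{u}} {X Y : AlgSp.Space S} (i : X ⟶ Y)
    (hi : AlgSp.RepWith @IsImmersion i.hom) :
    AlgSp.LocP (@LocallyOfFiniteType ⊓ @FormallyUnramified) i.hom := by
  exact Groth.Agent.AlgSpLib.locP_of_repWith hi fun A B C k m hk hm => by
    have : IsImmersion m := hm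
    have : Etale k := hk
    have : IsIso (pullback.diagonal m) := (pullback.isIso_diagonal_iff m).mpr inferInstance
    have h1 : FormallyUnramified m := inferInstance
    have h2 : FormallyUnramified k := inferInstance
    exact ⟨inferInstanceAs (LocallyOfFiniteType (k ≫ m)),
      MorphismProperty.comp_mem (W := @FormallyUnramified) k m h2 h1⟩

end Groth.Agent.S10264
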