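import Groth.Statements.S10272
import Groth.Agent.AlgSpLib.LocP


set_option autoImplicit false
universe u
open CategoryTheory CategoryTheory.Limits AlgebraicGeometry
open AlgSp

namespace Groth.Agent.S10272

/-- If g is separated and the composite of f and g is finite (resp. integral) then f is finite (resp.
integral). -/
theorem result {S : Scheme.{u}} {X Y Z : AlgSp.Space S} (f : X ⟶ Y) (g : Y ⟶ Z)
    (hg : AlgSp.IsSeparatedMor g.hom) :
    (AlgSp.IsFiniteMor (f ≫ g).hom → AlgSp.IsFiniteMor f.hom) ∧
    (AlgSp.IsIntegralMor (f ≫ g).hom → AlgSp.IsIntegralMor f.hom) := by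

  have key : ∀ ⦃T' : Over S⦄ (k : (yon S).obj T' ⟶ Y.obj) ⦃W : Over S⦄ (i : W ⟶ T') (fst : (yon S).obj W ⟶ X.obj),
      IsPullback fst ((yon S).map i) (f ≫ g).hom (k ≫ g.hom) →
      ∃ (W' : Over S) (j : W' ⟶ W), IsClosedImmersion j.left ∧
        IsPullback ((yon S).map j ≫ fst) ((yon S).map (j ≫ i)) f.hom k := by
    intro T' k W i fst sq
    have w : (fst ≫ f.hom) ≫ g.hom = ((yon S).map i ≫ k) ≫ g.hom := by
      rw [Category.assoc, Category.assoc, ← sq.w]; rfl
    obtain ⟨W', j, p, sD⟩ := hg.1 (pullback.lift (fst ≫ f.hom) ((yon S).map i ≫ k) w)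
    have hj := hg.2 _ p j sD
    have h1 := congrArg (· ≫ pullback.fst g.hom g.hom) sD.w
    have h2 := congrArg (· ≫ pullback.snd g.hom g.hom) sD.w
    simp only [Category.assoc, pullback.diagonal_fst, pullback.diagonal_snd, pullback.lift_fst,
      pullback.lift_snd, Category.comp_id] at h1 h2
    refine ⟨W', j, hj, IsPullback.of_isLimit' ⟨?_⟩ ?_⟩
    · rw [Category.assoc, ← h1, h2, Functor.map_comp, Category.assoc]
    · refine PullbackCone.IsLimit.mk _ (fun c => sD.lift (c.fst ≫ f.hom)
        (sq.lift c.fst c.snd ?_) ?_) ?_ ?_ ?_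
      · show c.fst ≫ f.hom ≫ g.hom = c.snd ≫ k ≫ g.hom
        rw [← Category.assoc, c.condition, Category.assoc]
      · apply pullback.hom_ext
        · simp only [Category.assoc, pullback.diagonal_fst, pullback.lift_fst, Category.comp_id]
          rw [sq.lift_fst_assoc]
        · simp only [Category.assoc, pullback.diagonal_snd, pullback.lift_snd, Category.comp_id]
          rw [sq.lift_snd_assoc, c.condition]
      · intro c; rw [← Category.assoc, sD.lift_snd, sq.lift_fst]
      · intro c; rw [Functor.map_comp, ← Category.assoc, sD.lift_snd, sq.lift_snd]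
      · intro c m hm1 hm2
        rw [Functor.map_comp] at hm2
        apply sD.hom_ext
        · rw [sD.lift_fst, h1, ← hm1]; simp only [Category.assoc]
        · rw [sD.lift_snd]
          apply sq.hom_ext
          · rw [sq.lift_fst, Category.assoc, hm1]
          · rw [sq.lift_snd, Category.assoc, hm2]
  refine ⟨fun h T' hT k => ?_, fun h T' hT k => ?_⟩
  · obtain ⟨W, i, fst, sq, hW, hi⟩ := h hT (k ≫ g.hom)
    obtain ⟨W', j, hj, s⟩ := key k i fst sq
    haveI := hj
    haveI : IsAffine W.left := hW
    exact ⟨W', j ≫ i, _, s, isAffine_of_isAffineHom j.left, by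
      have : IsFinite (j.left ≫ i.left) := inferInstance
      exact this⟩
  · obtain ⟨W, i, fst, sq, hW, hi⟩ := h hT (k ≫ g.hom)
    obtain ⟨W', j, hj, s⟩ := key k i fst sq
    haveI := hj
    haveI : IsAffine W.left := hW
    exact ⟨W', j ≫ i, _, s, isAffine_of_isAffineHom j.left, by
      have : IsIntegralHom (j.left ≫ i.left) := inferInstance
      exact this⟩

end Groth.Agent.S10272
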