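import Groth.Statements.S10273
import Groth.Agent.AlgSpLib.Compact
import Groth.Agent.AlgSpLib.FpqcLocalRep
import Groth.Agent.AlgSpFin.MorCalc
import Groth.Agent.AlgSpLib.FibreProduct
import Groth.Agent.AlgSpUnivClosed.ProperLocal
import Groth.Agent.S9923
import Groth.Agent.S9917
import Groth.Agent.S9903
-- import your own Groth.Agent.* helpers here

set_option autoImplicit false
universe u
open CategoryTheory CategoryTheory.Limits AlgebraicGeometry
open AlgSp

namespace Groth.Agent.S10273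

/-- (1) ⇔ (3): properness of a morphism of algebraic spaces can be tested after base change to affine
schemes over the target. -/
theorem result {S : Scheme.{u}} {X Y : AlgSp.Space S} (f : X ⟶ Y) :
    AlgSp.IsProperMor f.hom ↔
      ∀ (Z : Over S), IsAffine Z.left → ∀ (g : (AlgSp.yon S).obj Z ⟶ Y.obj) (P : AlgSp.Sp S) (fst : P ⟶ X.obj)
        (snd : P ⟶ (AlgSp.yon S).obj Z), IsPullback fst snd f.hom g → AlgSp.IsProperMor snd := by
  refine ⟨fun h Z _ g P fst snd sq => ⟨?_, ⟨?_, ?_⟩, ?_⟩, fun H => ⟨?_, ⟨?_, ?_⟩, ?_⟩⟩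
  · exact Groth.Agent.AlgSpLib.repWith_diagonal_baseChange sq h.1
  · exact Groth.Agent.AlgSpLib.locP_baseChange X.property Y.property (AlgSp.IsAlgSpace.yon_obj _) sq h.2.1.1
  · exact Groth.Agent.AlgSpFin.isQuasiCompactMor_baseChange sq h.2.1.2
  · intro Z' P' hZ' g' fst' snd' sq'
    exact h.2.2 hZ' (g' ≫ g) _ _ (sq'.paste_horiz sq)
  · exact (Groth.Agent.S9903.result f).1.2 fun Z hZ g P fst snd sq => (H Z hZ g P fst snd sq).1
  · exact Groth.Agent.AlgSpUnivClosed.locP_lft_of_affine Y.property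
      fun Z hZ g P fst snd sq => (H Z hZ g P fst snd sq).2.1.1
  · refine (Groth.Agent.S9917.result f).2 fun Z hZ g P fst snd sq => ?_
    exact (H Z hZ g P fst snd sq).2.1.2 (AlgSp.IsAlgSpace.yon_obj _)
      ((Groth.Agent.AlgSpLib.isQuasiCompactSp_iff_affine (AlgSp.IsAlgSpace.yon_obj _)).2
        ⟨Z, 𝟙 _, hZ, AlgSp.repWith_id _ _, AlgSp.repWith_id _ _⟩) (𝟙 _) (𝟙 _) snd (IsPullback.of_horiz_isIso ⟨by simp⟩)
  · refine (Groth.Agent.S9923.result f).2 fun Z hZ g P fst snd sq => ?_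
    exact (H Z hZ g P fst snd sq).2.2 (AlgSp.IsAlgSpace.yon_obj _) (𝟙 _) (𝟙 _) snd (IsPullback.of_horiz_isIso ⟨by simp⟩)

end Groth.Agent.S10273
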