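import Groth.Statements.S10274
import Groth.Agent.S10536
import Groth.Agent.AlgSpFin.FiniteCrit

open Groth.Agent.AlgSpLib

set_option autoImplicit false
universe u
open CategoryTheory CategoryTheory.Limits AlgebraicGeometry
open AlgSp

namespace Groth.Agent.S10274

/-- (4) ⇒ (1): properness of a morphism of algebraic spaces descends along a surjective etale base
change from a scheme. -/
theorem result {S : Scheme.{u}} {X Y : AlgSp.Space S} (f : X ⟶ Y) (V : Over S)
    (p : (AlgSp.yon S).obj V ⟶ Y.obj) (hp : AlgSp.RepWith @Etale p) (hps : AlgSp.RepWith @Surjective p)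
    {P : AlgSp.Sp S} (fst : P ⟶ X.obj) (snd : P ⟶ (AlgSp.yon S).obj V) (sq : IsPullback fst snd f.hom p)
    (h : AlgSp.IsProperMor snd) : AlgSp.IsProperMor f.hom := by
  exact ((S10536.result S (fun _ : PUnit.{u + 1} => (AlgSp.yon S).obj V) (fun _ => p) Y.property
      (fun _ => AlgSp.IsAlgSpace.yon_obj V)
      (isFpqcCover_of_isFppfCover S Y.property (fun _ => AlgSp.IsAlgSpace.yon_obj V)
        ⟨fun _ => ⟨locP_of_repWith hp fun _ _ _ k m hk hm => EtLocal.comp_etale k m hk (EtLocal.of_etale (P := @Flat) m hm),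
          locP_of_repWith hp fun _ _ _ k m hk hm => EtLocal.comp_etale k m hk
            (EtLocal.of_etale (P := @LocallyOfFinitePresentation) m hm)⟩, fun y => ⟨⟨⟩, by
          obtain ⟨t, rfl⟩ := surjective_ofPt hps y
          exact ⟨AlgSp.Points.ofPt (𝟙 _) t, by rw [AlgSp.Points.map_ofPt, Category.id_comp]⟩⟩⟩)
      f.hom X.property (fun _ => P) (fun _ => snd) (fun _ => fst)
      (fun _ => isAlgSpace_of_isPullback sq X.property (AlgSp.IsAlgSpace.yon_obj V) Y.property) fun _ => sq).2 fun _ => h)

end Groth.Agent.S10274
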