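import Groth.Statements.S10275
import Groth.Agent.AlgStLib.SpMorCalc
import Groth.Agent.AlgSpLib.FpqcLocalUniv
import Groth.Agent.AlgSpLib.FpqcLocalRep
import Groth.Agent.AlgSpLib.LocP
-- import your own Groth.Agent.* helpers here

set_option autoImplicit false
universe u
open CategoryTheory CategoryTheory.Limits AlgebraicGeometry
open AlgSp

namespace Groth.Agent.S10275

/-- A base change of a proper morphism of algebraic spaces is proper. -/
theorem result {S : Scheme.{u}} {X Y Y' X' : AlgSp.Space S} (f : X ⟶ Y) (g : Y' ⟶ Y)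
    (fst : X' ⟶ X) (f' : X' ⟶ Y') (sq : IsPullback fst.hom f'.hom f.hom g.hom) (hf : AlgSp.IsProperMor f.hom) :
    AlgSp.IsProperMor f'.hom := by
  exact ⟨Groth.Agent.AlgSpLib.repWith_diagonal_baseChange sq hf.1,
    ⟨Groth.Agent.AlgSpLib.locP_baseChange X.property Y.property Y'.property sq hf.2.1.1,
      fun _ _ hZ hq k a b sP => hf.2.1.2 hZ hq (k ≫ g.hom) (a ≫ fst.hom) b (sP.paste_horiz sq)⟩,
    Groth.Agent.AlgSpLib.univSp_baseChange hf.2.2 sq⟩

end Groth.Agent.S10275
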