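import Groth.Statements.S10285
import Groth.Agent.AlgSpUnivClosed.SepSquare
-- import your own Groth.Agent.* helpers here

set_option autoImplicit false
universe u
open CategoryTheory CategoryTheory.Limits AlgebraicGeometry
open AlgSp

namespace Groth.Agent.S10285

/-- For a separated morphism of algebraic spaces the two forms of the existence part of the valuative
criterion (with and without extensions) agree. -/
theorem result {S : Scheme.{u}} {X Y : AlgSp.Space S} (f : X ⟶ Y)
    (hf : AlgSp.IsSeparatedMor f.hom) : AlgSp.ExistVC f.hom ↔ AlgSp.ExistVCStrict f.hom := by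
  refine ⟨fun h sq => ?_, fun h sq => ?_⟩
  · obtain ⟨e, he⟩ := h sq
    exact Groth.Agent.AlgSpUnivClosed.hasLift_of_domExt X.property Y.property hf sq e he
  · exact Groth.Agent.AlgSpUnivClosed.hasLiftExt_of_hasLift sq (h sq)

end Groth.Agent.S10285
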