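import Groth.Statements.S10286
import Groth.Agent.AlgSpLib.Basic


set_option autoImplicit false
set_option backward.isDefEq.respectTransparency.types false
universe u
open CategoryTheory CategoryTheory.Limits AlgebraicGeometry
open AlgSp

namespace Groth.Agent.S10286

/-- The existence and uniqueness parts of the valuative criterion are stable under base change. -/
theorem result {S : Scheme.{u}} {X Y Z X' : AlgSp.Space S} (f : X ⟶ Y) (g : Z ⟶ Y)
    (fst : X' ⟶ X) (f' : X' ⟶ Z) (sq : IsPullback fst.hom f'.hom f.hom g.hom) :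
    (AlgSp.ExistVC f.hom → AlgSp.ExistVC f'.hom) ∧ (AlgSp.UniqVC f.hom → AlgSp.UniqVC f'.hom) := by
  refine ⟨fun h q => ?_, fun h q l l' h₁ h₂ h₁' h₂' => ?_⟩
  · let q₀ : AlgSp.ValSq f.hom :=
      { A := q.A, K := q.K, str := q.str, top := q.top ≫ fst.hom, bot := q.bot ≫ g.hom,
        comm := by
          rw [Category.assoc, sq.w, ← Category.assoc, q.comm, Category.assoc] }
    obtain ⟨e, l, hl₁, hl₂⟩ := h q₀
    let e' : q.DomExt := { A' := e.A', K' := e.K', φ := e.φ, ψ := e.ψ, comm := e.comm, isLocalHom := e.isLocalHom }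
    refine ⟨e', sq.lift l ((AlgSp.yon S).map (Over.homMk (Spec.map (CommRingCat.ofHom e'.φ)) rfl : e'.ptA' ⟶ q.ptA) ≫ q.bot) ?_, ?_, ?_⟩
    · rw [Category.assoc]; exact hl₂
    · refine sq.hom_ext ?_ ?_
      · rw [Category.assoc, IsPullback.lift_fst, Category.assoc]; exact hl₁
      · rw [Category.assoc, IsPullback.lift_snd, Category.assoc, q.comm, ← Category.assoc, ← Category.assoc,
          ← Functor.map_comp, ← Functor.map_comp]
        congr 2
        apply Over.OverMorphism.ext
        show Spec.map _ ≫ Spec.map _ = Spec.map _ ≫ Spec.map _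
        rw [← Spec.map_comp, ← Spec.map_comp, ← CommRingCat.ofHom_comp, ← CommRingCat.ofHom_comp, e'.comm]
    · exact IsPullback.lift_snd _ _ _ _
  · let q₀ : AlgSp.ValSq f.hom :=
      { A := q.A, K := q.K, str := q.str, top := q.top ≫ fst.hom, bot := q.bot ≫ g.hom,
        comm := by
          rw [Category.assoc, sq.w, ← Category.assoc, q.comm, Category.assoc] }
    refine sq.hom_ext (h q₀ (l ≫ fst.hom) (l' ≫ fst.hom) ?_ ?_ ?_ ?_) (h₂.trans h₂'.symm)
    · exact (Category.assoc _ _ _).symm.trans (congrArg (· ≫ fst.hom) h₁)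
    · exact (Category.assoc _ _ _).trans ((congrArg (l ≫ ·) sq.w).trans ((Category.assoc _ _ _).symm.trans (congrArg (· ≫ g.hom) h₂)))
    · exact (Category.assoc _ _ _).symm.trans (congrArg (· ≫ fst.hom) h₁')
    · exact (Category.assoc _ _ _).trans ((congrArg (l' ≫ ·) sq.w).trans ((Category.assoc _ _ _).symm.trans (congrArg (· ≫ g.hom) h₂')))

end Groth.Agent.S10286
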