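import Groth.Statements.S10287
import Groth.Agent.AlgSpLib.Basic


set_option autoImplicit false
set_option backward.isDefEq.respectTransparency.types false
universe u
open CategoryTheory CategoryTheory.Limits AlgebraicGeometry
open AlgSp

namespace Groth.Agent.S10287

theorem spec_comp {A B C : Type u} [CommRing A] [CommRing B] [CommRing C] (a : A →+* B) (b : B →+* C) :
    Spec.map (CommRingCat.ofHom b) ≫ Spec.map (CommRingCat.ofHom a) = Spec.map (CommRingCat.ofHom (b.comp a)) := by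
  rw [← Spec.map_comp]; rfl

theorem uniq_aux {S : Scheme.{u}} {X Y : AlgSp.Sp S} {f : X ⟶ Y} (hf : AlgSp.UniqVC f) {A K : Type u} [CommRing A]
    [IsDomain A] [ValuationRing A] [Field K] [Algebra A K] [IsFractionRing A K] (str : Spec (CommRingCat.of A) ⟶ S)
    (l l' : (AlgSp.yon S).obj (Over.mk str) ⟶ X)
    (h : (AlgSp.yon S).map (Over.homMk (Spec.map (CommRingCat.ofHom (algebraMap A K))) rfl :
        Over.mk (Spec.map (CommRingCat.ofHom (algebraMap A K)) ≫ str) ⟶ Over.mk str) ≫ l =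
      (AlgSp.yon S).map (Over.homMk (Spec.map (CommRingCat.ofHom (algebraMap A K))) rfl :
        Over.mk (Spec.map (CommRingCat.ofHom (algebraMap A K)) ≫ str) ⟶ Over.mk str) ≫ l')
    (e : l ≫ f = l' ≫ f) : l = l' := by
  refine hf ⟨A, K, str, _, l ≫ f, (Category.assoc _ l f)⟩ l l' ?_ ?_ ?_ ?_
  · rfl
  · rfl
  · exact h.symm
  · exact e.symm

theorem vc_comp {S : Scheme.{u}} {X Y Z : AlgSp.Sp S} (f : X ⟶ Y) (g : Y ⟶ Z) :
    (AlgSp.ExistVC f → AlgSp.ExistVC g → AlgSp.ExistVC (f ≫ g)) ∧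
    (AlgSp.UniqVC f → AlgSp.UniqVC g → AlgSp.UniqVC (f ≫ g)) := by
  refine ⟨fun hf hg q => ?_, fun hf hg q l l' h₁ h₂ h₁' h₂' => ?_⟩
  · let q₀ : AlgSp.ValSq g :=
      { A := q.A, K := q.K, str := q.str, top := q.top ≫ f, bot := q.bot,
        comm := (Category.assoc q.top f g).trans q.comm }
    obtain ⟨e₁, l₁, a₁, b₁⟩ := hg q₀
    have hψ : Spec.map (CommRingCat.ofHom e₁.ψ) ≫ Spec.map (CommRingCat.ofHom (algebraMap q.A q.K)) ≫ q.str =
        Spec.map (CommRingCat.ofHom (algebraMap e₁.A' e₁.K')) ≫ Spec.map (CommRingCat.ofHom e₁.φ) ≫ q.str := by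
      rw [← Spec.map_comp_assoc, ← Spec.map_comp_assoc, ← CommRingCat.ofHom_comp, ← CommRingCat.ofHom_comp, e₁.comm]
    let p₁ : Over.mk (Spec.map (CommRingCat.ofHom (algebraMap e₁.A' e₁.K')) ≫ Spec.map (CommRingCat.ofHom e₁.φ) ≫ q.str) ⟶ q.ptK :=
      Over.homMk (Spec.map (CommRingCat.ofHom e₁.ψ)) hψ
    let q₁ : AlgSp.ValSq f :=
      { A := e₁.A', K := e₁.K', str := Spec.map (CommRingCat.ofHom e₁.φ) ≫ q.str,
        top := (AlgSp.yon S).map p₁ ≫ q.top, bot := l₁,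
        comm := (Category.assoc ((AlgSp.yon S).map p₁) q.top f).trans a₁.symm }
    obtain ⟨e₂, l₂, a₂, b₂⟩ := hf q₁
    have hcomm : (algebraMap e₂.A' e₂.K').comp (e₂.φ.comp e₁.φ) = (e₂.ψ.comp e₁.ψ).comp (algebraMap q.A q.K) := by
      rw [← RingHom.comp_assoc, e₂.comm]
      ext x
      exact congrArg e₂.ψ (RingHom.congr_fun e₁.comm x)
    have hloc : IsLocalHom (e₂.φ.comp e₁.φ) := @RingHom.isLocalHom_comp _ _ _ _ _ _ e₂.φ e₁.φ e₂.isLocalHom e₁.isLocalHom
    let e : q.DomExt :=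
      { A' := e₂.A', K' := e₂.K', φ := e₂.φ.comp e₁.φ, ψ := e₂.ψ.comp e₁.ψ, comm := hcomm, isLocalHom := hloc }
    let iA : e.ptA' ⟶ e₂.ptA' := Over.homMk (𝟙 _) (by
      refine (Category.id_comp _).trans ?_
      exact (Category.assoc _ _ _).symm.trans (congrArg (· ≫ q.str) (spec_comp e₁.φ e₂.φ)))
    refine ⟨e, (AlgSp.yon S).map iA ≫ l₂, ?_, ?_⟩
    · have hK : 𝟙 _ ≫ Spec.map (CommRingCat.ofHom (algebraMap e₂.A' e₂.K')) ≫ Spec.map (CommRingCat.ofHom e₂.φ) ≫
          Spec.map (CommRingCat.ofHom e₁.φ) ≫ q.str =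
          Spec.map (CommRingCat.ofHom (algebraMap e₂.A' e₂.K')) ≫
            Spec.map (CommRingCat.ofHom (e₂.φ.comp e₁.φ)) ≫ q.str := by
        rw [Category.id_comp, ← spec_comp, Category.assoc]
      let iK : e.ptK' ⟶ e₂.ptK' := Over.homMk (𝟙 _) hK
      have c₁ : (Over.homMk (Spec.map (CommRingCat.ofHom (algebraMap e.A' e.K'))) rfl : e.ptK' ⟶ e.ptA') ≫ iA =
          iK ≫ (Over.homMk (Spec.map (CommRingCat.ofHom (algebraMap e₂.A' e₂.K'))) rfl : e₂.ptK' ⟶ e₂.ptA') := by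
        apply Over.OverMorphism.ext
        simp only [Over.comp_left, Over.homMk_left, iA, iK, e]
        erw [Category.comp_id]
      rw [← Category.assoc, ← Functor.map_comp, c₁, Functor.map_comp, Category.assoc, a₂]
      show _ ≫ _ ≫ (AlgSp.yon S).map p₁ ≫ q.top = _
      rw [← Category.assoc, ← Category.assoc, ← Functor.map_comp, ← Functor.map_comp]
      congr 2
      apply Over.OverMorphism.ext
      show (𝟙 _ ≫ Spec.map (CommRingCat.ofHom e₂.ψ)) ≫ Spec.map (CommRingCat.ofHom e₁.ψ) =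
        Spec.map (CommRingCat.ofHom (e₂.ψ.comp e₁.ψ))
      rw [Category.id_comp]
      exact spec_comp e₁.ψ e₂.ψ
    · show ((AlgSp.yon S).map iA ≫ l₂) ≫ f ≫ g = _
      rw [← Category.assoc, Category.assoc _ l₂, b₂, Category.assoc, Category.assoc]
      rw [show l₁ ≫ g = _ from b₁, ← Category.assoc, ← Category.assoc, ← Functor.map_comp, ← Functor.map_comp]
      congr 2
      apply Over.OverMorphism.ext
      show (𝟙 _ ≫ Spec.map (CommRingCat.ofHom e₂.φ)) ≫ Spec.map (CommRingCat.ofHom e₁.φ) =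
        Spec.map (CommRingCat.ofHom (e₂.φ.comp e₁.φ))
      rw [Category.id_comp]
      exact spec_comp e₁.φ e₂.φ
  · let q₀ : AlgSp.ValSq g :=
      { A := q.A, K := q.K, str := q.str, top := q.top ≫ f, bot := q.bot,
        comm := (Category.assoc q.top f g).trans q.comm }
    have e := hg q₀ (l ≫ f) (l' ≫ f)
      ((Category.assoc ((AlgSp.yon S).map q.j) l f).symm.trans (congrArg (fun t : (AlgSp.yon S).obj q.ptK ⟶ X => t ≫ f) h₁))
      ((Category.assoc l f g).trans h₂)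
      ((Category.assoc ((AlgSp.yon S).map q.j) l' f).symm.trans (congrArg (fun t : (AlgSp.yon S).obj q.ptK ⟶ X => t ≫ f) h₁'))
      ((Category.assoc l' f g).trans h₂')
    exact uniq_aux hf q.str l l' (h₁.trans h₁'.symm) e

/-- The existence and uniqueness parts of the valuative criterion are stable under composition. -/
theorem result {S : Scheme.{u}} {X Y Z : AlgSp.Space S} (f : X ⟶ Y) (g : Y ⟶ Z) :
    (AlgSp.ExistVC f.hom → AlgSp.ExistVC g.hom → AlgSp.ExistVC (f ≫ g).hom) ∧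
    (AlgSp.UniqVC f.hom → AlgSp.UniqVC g.hom → AlgSp.UniqVC (f ≫ g).hom) := by
  exact vc_comp f.hom g.hom

end Groth.Agent.S10287
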