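import Groth.Statements.S10291
import Groth.Agent.S9900
import Mathlib


set_option autoImplicit false
universe u
open CategoryTheory CategoryTheory.Limits AlgebraicGeometry
open AlgSp

namespace Groth.Agent.S10291

/-- A quasi-separated morphism of algebraic spaces satisfying the uniqueness part of the valuative
criterion is separated. -/
theorem result {S : Scheme.{u}} {X Y : AlgSp.Space S} (f : X ⟶ Y)
    (hqs : AlgSp.IsQuasiSeparatedMor f.hom) (hu : AlgSp.UniqVC f.hom) : AlgSp.IsSeparatedMor f.hom := by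

  obtain ⟨hrep, hlft, hmono, -, -⟩ := Groth.Agent.S9900.result f
  refine Groth.Agent.AlgSpLib.repWith_of_rep hrep fun T E g fst snd sq => ?_
  have : QuasiCompact snd.left := hqs.2 g fst snd sq
  have : LocallyOfFiniteType snd.left := hlft.2 g fst snd sq
  have : Mono snd.left := hmono.2 g fst snd sq
  suffices UniversallyClosed snd.left by
    rw [IsClosedImmersion.iff_isProper_and_mono]
    exact ⟨⟨⟩, inferInstance⟩
  refine UniversallyClosed.of_valuativeCriterion snd.left fun V => ?_
  let str : Spec (CommRingCat.of V.R) ⟶ S := V.i₂ ≫ T.hom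
  let j : Over.mk (Spec.map (CommRingCat.ofHom (algebraMap V.R V.K)) ≫ str) ⟶ Over.mk str :=
    Over.homMk (Spec.map (CommRingCat.ofHom (algebraMap V.R V.K))) rfl
  let b : Over.mk str ⟶ T := Over.homMk V.i₂ rfl
  let e : Over.mk (Spec.map (CommRingCat.ofHom (algebraMap V.R V.K)) ≫ str) ⟶ E := Over.homMk V.i₁ (by
    show V.i₁ ≫ E.hom = _ ≫ V.i₂ ≫ T.hom
    rw [← Over.w snd, ← Category.assoc, V.commSq.w, Category.assoc])
  have he : e ≫ snd = j ≫ b := Over.OverMorphism.ext V.commSq.w
  let m : (AlgSp.yon S).obj (Over.mk str) ⟶ pullback f.hom f.hom := (AlgSp.yon S).map b ≫ g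
  have hK : ((AlgSp.yon S).map e ≫ fst) ≫ pullback.diagonal f.hom = (AlgSp.yon S).map j ≫ m := by
    have h := congrArg (fun k => (AlgSp.yon S).map k ≫ g) he
    simp only [Functor.map_comp, Category.assoc] at h
    exact (Category.assoc _ _ _).trans ((congrArg _ sq.w).trans h)
  have h₁ := congrArg (· ≫ pullback.fst f.hom f.hom) hK
  have h₂ := congrArg (· ≫ pullback.snd f.hom f.hom) hK
  simp only [Category.assoc, pullback.diagonal_fst, pullback.diagonal_snd, Category.comp_id] at h₁ h₂
  let Q : AlgSp.ValSq f.hom := {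
    A := V.R, K := V.K, str := str, top := (AlgSp.yon S).map e ≫ fst,
    bot := (m ≫ pullback.fst f.hom f.hom) ≫ f.hom,
    comm := by rw [h₁]; simp only [Category.assoc]; rfl }
  have hm : m ≫ pullback.fst f.hom f.hom = m ≫ pullback.snd f.hom f.hom :=
    hu Q _ _ h₁.symm rfl h₂.symm (by
      show (m ≫ pullback.snd f.hom f.hom) ≫ f.hom = (m ≫ pullback.fst f.hom f.hom) ≫ f.hom
      simp only [Category.assoc, pullback.condition])
  obtain ⟨l, hl⟩ := (AlgSp.yon S).map_surjective (sq.lift (m ≫ pullback.fst f.hom f.hom) ((AlgSp.yon S).map b) (by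
    apply pullback.hom_ext
    · simp [m]
    · simp only [Category.assoc, pullback.diagonal_snd, Category.comp_id]; exact hm))
  have hl₂ : l ≫ snd = b := (AlgSp.yon S).map_injective (by rw [Functor.map_comp, hl, sq.lift_snd])
  have hls : l.left ≫ snd.left = V.i₂ := congrArg (fun k => k.left) hl₂
  refine ⟨⟨⟨l.left, ?_, hls⟩⟩⟩
  rw [← cancel_mono snd.left, Category.assoc, hls, V.commSq.w]

end Groth.Agent.S10291
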