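import Groth.Statements.S1031
import Mathlib
-- import your own Groth.Agent.* helpers here

set_option autoImplicit false
universe v u
open CategoryTheory
open CohDer

namespace Groth.Agent.S1031

section Aux
variable {C : Type u} [Category.{v} C] [Preadditive C] [Limits.HasZeroObject C] [HasShift C ℤ]
    [∀ n : ℤ, (shiftFunctor C n).Additive] [Pretriangulated C]

open Limits Pretriangulated

theorem ext_closed (P Q : ObjectProperty C)
    (hP : ∀ f : WalkingPair → C, (∀ j, P (f j)) → P (∏ᶜ f))
    (hQ : ∀ f : WalkingPair → C, (∀ j, Q (f j)) → Q (∏ᶜ f))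
    (f : WalkingPair → C) (hf : ∀ j, ObjectProperty.extensionProduct P Q (f j)) :
    ObjectProperty.extensionProduct P Q (∏ᶜ f) := by
  choose A B a b c hT hA hB using hf
  exact ⟨_, _, _, _, _, productTriangle_distinguished (fun j => Triangle.mk (a j) (b j) (c j)) hT, hP _ hA, hQ _ hB⟩

theorem retract_closed (P : ObjectProperty C) (hP : ∀ f : WalkingPair → C, (∀ j, P (f j)) → P (∏ᶜ f))
    (f : WalkingPair → C) (hf : ∀ j, P.retractClosure (f j)) : P.retractClosure (∏ᶜ f) := by
  choose g hg r using hf
  have r' := fun j => (r j).some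
  exact ⟨_, hP _ hg, ⟨⟨Limits.Pi.map fun j => (r' j).i, Limits.Pi.map fun j => (r' j).r, by ext j; simp⟩⟩⟩

theorem base_closed (P : ObjectProperty C) (f : WalkingPair → C)
    (hf : ∀ j, P.binaryProductsClosure (f j)) : P.binaryProductsClosure (∏ᶜ f) :=
  ObjectProperty.prop_of_isLimit _ (limit.isLimit (Discrete.functor f)) fun j => hf j.as

theorem iter_closed (E : ObjectProperty C) (n : ℕ) (f : WalkingPair → C)
    (hf : ∀ j, E.triangEnvelopeIter n (f j)) : E.triangEnvelopeIter n (∏ᶜ f) := by
  refine retract_closed _ ?_ f hf
  clear hf f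
  induction n with
  | zero => exact fun f hf => retract_closed _ (base_closed _) f hf
  | succ n ih =>
    rw [ObjectProperty.extensionProductIter_succ]
    exact fun f hf => ext_closed _ _ (fun g hg => retract_closed _ (base_closed _) g hg) ih f hf

theorem envelope_le [IsTriangulated C] (G E : ObjectProperty C) (m : ℕ) (h : G ≤ E.triangEnvelopeIter m) :
    ∀ n, ∃ N, G.triangEnvelopeIter n ≤ E.triangEnvelopeIter N := by
  haveI : (E.triangEnvelopeIter m).IsClosedUnderBinaryProducts :=
    ObjectProperty.IsClosedUnderLimitsOfShape.mk' (by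
      rintro _ ⟨F, hF⟩
      exact ObjectProperty.prop_of_iso _ (HasLimit.isoOfNatIso (Discrete.natIsoFunctor (F := F))).symm
        (iter_closed E m _ fun j => hF ⟨j⟩))
  have hB : (G.shiftClosure ℤ).binaryProductsClosure.retractClosure ≤ E.triangEnvelopeIter m := by
    rw [ObjectProperty.retractClosure_le_iff]
    exact ObjectProperty.limitsClosure_le ((ObjectProperty.shiftClosure_le_iff _ _).mpr h)
  intro n
  induction n with
  | zero => exact ⟨m, by rw [ObjectProperty.triangEnvelopeIter_zero]; exact hB⟩
  | succ n ih =>
    obtain ⟨N, hN⟩ := ih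
    refine ⟨m + (N + 1), ?_⟩
    rw [ObjectProperty.triangEnvelopeIter_succ, E.triangEnvelopeIter_add' rfl]
    exact ObjectProperty.monotone_retractClosure fun X ⟨A, B, a, b, c, hT, hA, hB'⟩ =>
      ⟨A, B, a, b, c, hT, hB _ hA, hN _ hB'⟩

end Aux

/-- Let D be a triangulated category admitting a strong generator G (every object is reached from G by
shifts, finite sums, summands and a uniformly bounded number of extensions). Then every classical
generator E of D (every object reached from E with some finite number of extensions) is itself a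
strong generator. -/
theorem result {D : Type u} [Category.{v} D] [Preadditive D] [Limits.HasZeroObject D] [HasShift D ℤ]
    [∀ n : ℤ, (shiftFunctor D n).Additive] [Pretriangulated D] [IsTriangulated D]
    (G E : D) (hG : ObjectProperty.IsStrongTriangulatedGenerator (fun X : D => X = G))
    (hE : ObjectProperty.IsClassicalTriangulatedGenerator (fun X : D => X = E)) :
    ObjectProperty.IsStrongTriangulatedGenerator (fun X : D => X = E) := by
  obtain ⟨n, hn⟩ := hG
  obtain ⟨m, hm⟩ := (ObjectProperty.prop_triangEnvelope_iff _ G).mp (by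
    rw [(ObjectProperty.isClassicalTriangulatedGenerator_iff _).mp hE]; trivial)
  obtain ⟨N, hN⟩ := envelope_le (fun X : D => X = G) (fun X : D => X = E) m (fun X hX => hX ▸ hm) n
  exact ⟨N, top_le_iff.mp (hn ▸ hN)⟩

end Groth.Agent.S1031
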