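import Groth.Statements.S10322
import Groth.Agent.AlgSpFin.AtMor
-- import your own Groth.Agent.* helpers here

set_option autoImplicit false
universe u
open CategoryTheory CategoryTheory.Limits AlgebraicGeometry
open AlgSp

namespace Groth.Agent.S10322

/-- Unramified at a point implies quasi-finite at that point; an unramified morphism of algebraic spaces
is locally quasi-finite. -/
theorem result {S : Scheme.{u}} {X Y : AlgSp.Space S} (f : X ⟶ Y) :
    (∀ x : AlgSp.Points X.obj, AlgSp.HasAtMor (fun U _ h u => ∃ W : U.Opens, u ∈ W ∧ LocallyOfFiniteType (W.ι ≫ h) ∧ FormallyUnramified (W.ι ≫ h)) f.hom x → AlgSp.HasAtMor (fun U _ h u => ∃ W : U.Opens, u ∈ W ∧ LocallyQuasiFinite (W.ι ≫ h) ∧ LocallyOfFiniteType (W.ι ≫ h)) f.hom x) ∧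
    (AlgSp.LocP (@LocallyOfFiniteType ⊓ @FormallyUnramified) f.hom →
      AlgSp.LocP (@LocallyQuasiFinite ⊓ @LocallyOfFiniteType) f.hom) := by
  refine ⟨fun x ⟨U, V, a, b, h, u, ha, hb, w, e, W, hu, hl, hun⟩ =>
    ⟨U, V, a, b, h, u, ha, hb, w, e, W, hu, ?_, hl⟩, fun h U V a b g ha hb w => ?_⟩
  · have := hl; have := hun
    exact AlgSpLib.locallyQuasiFinite_of_formallyUnramified _
  · obtain ⟨hl, hun⟩ := h a b g ha hb w
    have : LocallyOfFiniteType g.left := hl
    have : FormallyUnramified g.left := hun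
    exact ⟨AlgSpLib.locallyQuasiFinite_of_formallyUnramified _, hl⟩

end Groth.Agent.S10322
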