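import Groth.Statements.S1034
import Groth.Agent.Compact.SeqMap

set_option autoImplicit false
universe v v' u u'
open CategoryTheory CategoryTheory.Limits
open DerLim

namespace Groth.Agent.S1034

open CategoryTheory.Pretriangulated in
/-- Let D be a pretriangulated category with countable direct sums, A an abelian category with exact
colimits of shape ℕ, and H : D ⥤ A a homological functor that preserves countable direct sums. If L
(with maps iₙ : Kₙ ⟶ L) is a homotopy colimit of a system (Kₙ, fₙ), then H(L) is the colimit of the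
H(Kₙ): there is an isomorphism colimₙ H(Kₙ) ≅ H(L) compatible with the maps H(iₙ). -/
theorem result {D : Type u} [Category.{v} D] [Preadditive D] [Limits.HasZeroObject D] [HasShift D ℤ]
    [∀ n : ℤ, (shiftFunctor D n).Additive] [Pretriangulated D] [IsTriangulated D] [HasColimitsOfShape (Discrete ℕ) D]
    {A : Type u'} [Category.{v'} A] [Abelian A] [HasColimitsOfShape ℕ A] [HasExactColimitsOfShape ℕ A]
    (H : D ⥤ A) [H.IsHomological] [PreservesColimitsOfShape (Discrete ℕ) H]
    (K : ℕ → D) (f : ∀ n, K n ⟶ K (n + 1)) (L : D) (i : ∀ n, K n ⟶ L) (hL : DerLim.IsHocolim K f L i) :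
    ∃ e : colimit (Functor.ofSequence (fun n => H.map (f n))) ≅ H.obj L,
      ∀ n : ℕ, colimit.ι (Functor.ofSequence (fun n => H.map (f n))) n ≫ e.hom = H.map (i n) := by
  classical
  obtain ⟨c, hT⟩ := hL
  haveI : H.Additive := inferInstance
  haveI hcp : HasCoproduct fun n => H.obj (K n) :=
    ⟨⟨⟨_, isColimitCofanMkObjOfIsColimit H _ _ (coproductIsCoproduct K)⟩⟩⟩
  let F := Functor.ofSequence (fun n => H.map (f n))
  let σ := sigmaComparison H K
  -- the third map dies
  haveI : PreservesColimit (Discrete.functor K) (shiftFunctor D (1 : ℤ) ⋙ H) := inferInstance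
  haveI hmono : Mono (H.map ((𝟙 (∐ K) - DerLim.shiftMap K f)⟦(1 : ℤ)⟧')) :=
    SeqColim.mono_map_one_sub_shift (shiftFunctor D (1 : ℤ) ⋙ H) K f
  have hc : H.map c = 0 := by
    rw [← cancel_mono (H.map ((𝟙 (∐ K) - DerLim.shiftMap K f)⟦(1 : ℤ)⟧')), zero_comp, ← H.map_comp]
    have h31 : c ≫ (𝟙 (∐ K) - DerLim.shiftMap K f)⟦(1 : ℤ)⟧' = 0 := comp_distTriang_mor_zero₃₁ _ hT
    rw [h31, H.map_zero]
  haveI hepi : Epi (H.map (Sigma.desc i)) :=
    (H.map_distinguished_exact _ (rot_of_distTriang _ hT)).epi_f hc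
  have hex := H.map_distinguished_exact _ hT
  haveI : Epi ((shortComplexOfDistTriangle _ hT).map H).g := hepi
  have hcolim := hex.gIsCokernel
  have hnat : ∀ n, H.map (f n) ≫ H.map (i (n + 1)) = H.map (i n) := by
    intro n
    have h12 : (𝟙 (∐ K) - DerLim.shiftMap K f) ≫ Sigma.desc i = 0 := comp_distTriang_mor_zero₁₂ _ hT
    have h' := congrArg (fun x => Sigma.ι K n ≫ x) h12
    simp only [Preadditive.sub_comp, Preadditive.comp_sub, Category.id_comp, DerLim.shiftMap,
      Sigma.ι_desc, Sigma.ι_desc_assoc, Category.assoc, comp_zero, sub_eq_zero] at h'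
    rw [← H.map_comp, ← h']
  let φ : colimit F ⟶ H.obj L := colimit.desc F (Cocone.mk _
    (NatTrans.ofSequence (G := (Functor.const ℕ).obj (H.obj L)) (fun n => H.map (i n))
      (fun n => by
        simp only [F, Functor.ofSequence_map_homOfLE_succ]
        exact (hnat n).trans (Category.comp_id _).symm)))
  let ιF : ∀ n, H.obj (K n) ⟶ colimit F := fun n => colimit.ι F n
  have hφ : ∀ n, ιF n ≫ φ = H.map (i n) := fun n => colimit.ι_desc _ n
  haveI : IsIso σ := inferInstanceAs (IsIso (sigmaComparison H K))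
  let q : (∐ fun n => H.obj (K n)) ⟶ colimit F := Sigma.desc ιF
  have hzero : H.map (𝟙 (∐ K) - DerLim.shiftMap K f) ≫ inv σ ≫ q = 0 := by
    have h := SeqColim.one_sub_shift_comparison H K f
    have h2 : inv σ ≫ (𝟙 (∐ fun n => H.obj (K n)) -
        DerLim.shiftMap (fun n => H.obj (K n)) (fun n => H.map (f n))) =
        H.map (𝟙 (∐ K) - DerLim.shiftMap K f) ≫ inv σ := by
      rw [IsIso.inv_comp_eq, ← Category.assoc, IsIso.eq_comp_inv]
      exact h
    have h3 : (𝟙 (∐ fun n => H.obj (K n)) -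
        DerLim.shiftMap (fun n => H.obj (K n)) (fun n => H.map (f n))) ≫ q = 0 := by
      apply Sigma.hom_ext
      intro n
      have hw : H.map (f n) ≫ ιF (n + 1) = ιF n := by
        have := colimit.w F (homOfLE (Nat.le_add_right n 1))
        simp only [F, Functor.ofSequence_map_homOfLE_succ] at this
        exact this
      simp [DerLim.shiftMap, q, Preadditive.sub_comp, Preadditive.comp_sub, hw]
    rw [← Category.assoc, ← h2, Category.assoc, h3, comp_zero]
  let q' : H.obj (∐ K) ⟶ colimit F := inv σ ≫ q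
  let ψ : H.obj L ⟶ colimit F := hcolim.desc (CokernelCofork.ofπ q' hzero)
  have hψ : H.map (Sigma.desc i) ≫ ψ = inv σ ≫ q :=
    hcolim.fac (CokernelCofork.ofπ q' hzero) WalkingParallelPair.one
  have hιψ : ∀ n, H.map (i n) ≫ ψ = ιF n := by
    intro n
    have h1 : H.map (i n) = H.map (Sigma.ι K n) ≫ H.map (Sigma.desc i) := by
      rw [← H.map_comp, Sigma.ι_desc]
    have h2 : H.map (Sigma.ι K n) ≫ inv σ = Sigma.ι (fun n => H.obj (K n)) n := by
      rw [IsIso.comp_inv_eq, ι_comp_sigmaComparison]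
    rw [h1, Category.assoc, hψ, reassoc_of% h2, Sigma.ι_desc]
  refine ⟨{ hom := φ, inv := ψ, hom_inv_id := ?_, inv_hom_id := ?_ }, hφ⟩
  · apply colimit.hom_ext
    intro n
    exact (by rw [reassoc_of% (hφ n), hιψ, Category.comp_id] : ιF n ≫ φ ≫ ψ = ιF n ≫ 𝟙 _)
  · rw [← cancel_epi (H.map (Sigma.desc i)), reassoc_of% hψ, Category.comp_id, IsIso.inv_comp_eq]
    apply Sigma.hom_ext
    intro n
    simp [q, σ, hφ, ← Functor.map_comp]

end Groth.Agent.S1034
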