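import Groth.Statements.S10353
import Groth.Agent.AlgSpFin.DenseScheme
import Groth.Agent.AlgSpFin.DecentDescent
import Groth.Agent.AlgSpFin.Decent
import Groth.Agent.AlgStLib.SpDiagProps
-- import your own Groth.Agent.* helpers here

set_option autoImplicit false
universe u
open CategoryTheory CategoryTheory.Limits AlgebraicGeometry Topology TopologicalSpace
open AlgSp

namespace Groth.Agent.S10353

/-- Let X be an algebraic space over a scheme S and suppose there is a finite, etale, surjective map h_U
⟶ X from a scheme U. Then some dense open subspace of X is a scheme: an open subspace X' ⟶ X with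
representable underlying sheaf and |X'| dense in |X|. -/
theorem result {S : Scheme.{u}} (X : AlgSp.Space S)
    {U : Over S} (a : (AlgSp.yon S).obj U ⟶ X.obj) (hf : AlgSp.RepWith @IsFinite a) (he : AlgSp.RepWith @Etale a)
    (hs : AlgSp.RepWith @Surjective a) :
    ∃ (X' : AlgSp.Space S) (j : X' ⟶ X), AlgSp.RepWith @IsOpenImmersion j.hom ∧ X'.obj.obj.IsRepresentable ∧
      Dense (Set.range (AlgSp.Points.map j.hom)) := by
  have hd : AlgSp.IsDecent X.obj := AlgSpFin.isDecent_of_qc_surjective (IsAlgSpace.yon_obj U) X.property a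
    (AlgStLib.isQuasiCompactMor_of_repWith (IsAlgSpace.yon_obj U) X.property
      (AlgSpLib.repWith_mono (fun _ _ k hk => by
        have : IsFinite k := hk
        infer_instance) hf))
    (fun x => (AlgSpLib.surjective_ofPt hs x).elim fun u hu => ⟨AlgSp.Points.ofPt (𝟙 _) u, by
      rw [AlgSp.Points.map_ofPt, Category.id_comp, hu]⟩) (AlgSpFin.isDecent_yon U)
  obtain ⟨M, Φ, hΦ, hd⟩ := AlgSpFin.exists_dense_open_scheme X.property hd
  exact ⟨⟨(AlgSp.yon S).obj M, IsAlgSpace.yon_obj M⟩, ObjectProperty.homMk Φ, hΦ,
    AlgSpFin.isRepresentable_of_iso (Iso.refl _), hd⟩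

end Groth.Agent.S10353
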