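import Groth.Statements.S17307
import Groth.Agent.GorLib.SchemeFibre
import Mathlib
-- import your own Groth.Agent.* helpers here

set_option autoImplicit false
universe u
open CurvSt

namespace Groth.Agent.S17307

open CategoryTheory AlgebraicGeometry

theorem isField_stalk_field (K : Type u) [Field K] (s : Spec (CommRingCat.of K)) :
    IsField ((Spec (CommRingCat.of K)).presheaf.stalk s) := by
  let e := (Spec.stalkIso (CommRingCat.of K) s).commRingCatIsoToRingEquiv
  refine MulEquiv.isField ?_ e.toMulEquiv
  rw [IsLocalRing.isField_iff_maximalIdeal_eq, ← Localization.AtPrime.map_eq_maximalIdeal]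
  exact (Ideal.map_eq_bot_iff_le_ker _).mpr ((Ideal.eq_bot_of_prime (K := K) s.asIdeal).le.trans bot_le)

theorem etale_fibre {A B : Scheme.{u}} (f : A ⟶ B) [Etale f] (x : A) :
    IsField (↑(A.presheaf.stalk x) ⧸ Groth.FlatDescent.maxExt f x) := by
  algebraize [(f.stalkMap x).hom]
  haveI : IsLocalHom (algebraMap (B.presheaf.stalk (f x)) (A.presheaf.stalk x)) :=
    inferInstanceAs <| IsLocalHom (f.stalkMap x).hom
  haveI : Algebra.EssFiniteType (B.presheaf.stalk (f x)) (A.presheaf.stalk x) := by
    rw [← RingHom.essFiniteType_algebraMap, RingHom.algebraMap_toAlgebra]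
    exact LocallyOfFiniteType.stalkMap f x
  haveI : Algebra.FormallyUnramified (B.presheaf.stalk (f x)) (A.presheaf.stalk x) := by
    rw [← RingHom.formallyUnramified_algebraMap, RingHom.algebraMap_toAlgebra]
    exact AlgebraicGeometry.FormallyUnramified.stalkMap f x
  exact Algebra.FormallyUnramified.isField_quotient_map_maximalIdeal

theorem gor_of_etale {A B : Scheme.{u}} [IsLocallyNoetherian B] (f : A ⟶ B) [Etale f] (x : A)
    (h : LocCoh.IsGorensteinLocalRing (B.presheaf.stalk (f x))) :
    LocCoh.IsGorensteinLocalRing (A.presheaf.stalk x) := by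
  haveI : IsLocallyNoetherian A := LocallyOfFiniteType.isLocallyNoetherian f
  have hF := etale_fibre f x
  algebraize [(f.stalkMap x).hom]
  haveI : Module.Flat (B.presheaf.stalk (f x)) (A.presheaf.stalk x) := Flat.stalkMap f x
  haveI : IsLocalHom (algebraMap (B.presheaf.stalk (f x)) (A.presheaf.stalk x)) :=
    inferInstanceAs <| IsLocalHom (f.stalkMap x).hom
  refine (GorLib.gorenstein_iff_of_flat (B.presheaf.stalk (f x)) (A.presheaf.stalk x)).2 ⟨h, ?_⟩
  letI : Field (FlatAscent.Fib (B.presheaf.stalk (f x)) (A.presheaf.stalk x)) := hF.toField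
  haveI := FlatAscent.isLocalRing_fibre (B.presheaf.stalk (f x)) (A.presheaf.stalk x)
  haveI : IsRegularLocalRing (FlatAscent.Fib (B.presheaf.stalk (f x)) (A.presheaf.stalk x)) :=
    DepthLib.isRegularLocalRing_of_isField hF
  exact SemiGor.isGorensteinLocalRing_of_isRegularLocalRing _

theorem isField_stalk_of_etale {K : Type u} [Field K] {A : Scheme.{u}} (f : A ⟶ Spec (CommRingCat.of K)) [Etale f] (x : A) :
    IsField (A.presheaf.stalk x) ∧ IsField ((Spec (CommRingCat.of K)).presheaf.stalk (f x)) := by
  let B := Spec (CommRingCat.of K)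
  have hB : IsField (B.presheaf.stalk (f x)) := by
    exact isField_stalk_field K (f x)
  refine ⟨?_, hB⟩
  have hb : Groth.FlatDescent.maxExt f x = ⊥ := by
    rw [Groth.FlatDescent.maxExt, (IsLocalRing.isField_iff_maximalIdeal_eq).1 hB, Ideal.map_bot]
  have := etale_fibre f x
  exact MulEquiv.isField this ((Ideal.quotEquivOfEq hb).trans (RingEquiv.quotientBot _)).symm.toMulEquiv

theorem maxExt_eq_bot {A B : Scheme.{u}} (f : A ⟶ B) (x : A) (hB : IsField (B.presheaf.stalk (f x))) :
    Groth.FlatDescent.maxExt f x = ⊥ := by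
  rw [Groth.FlatDescent.maxExt, (IsLocalRing.isField_iff_maximalIdeal_eq).1 hB, Ideal.map_bot]

theorem fibre_equiv {A B : Scheme.{u}} (f : A ⟶ B) (x : A) (hB : IsField (B.presheaf.stalk (f x))) :
    LocCoh.IsGorensteinLocalRing ((f.fiber (f x)).presheaf.stalk (f.asFiber x)) ↔
      LocCoh.IsGorensteinLocalRing (A.presheaf.stalk x) := by
  have key : ∀ y : A, y = f.fiberι (f x) (f.asFiber x) → IsField (B.presheaf.stalk (f y)) →
      (LocCoh.IsGorensteinLocalRing ((f.fiber (f x)).presheaf.stalk (f.asFiber x)) ↔
        LocCoh.IsGorensteinLocalRing (A.presheaf.stalk y)) := by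
    rintro y rfl hy
    exact (GorLib.gorenstein_iff_of_ringEquiv ((RingEquiv.quotientBot _).symm.trans
      ((Ideal.quotEquivOfEq ((maxExt_eq_bot f _ hy).symm.trans (Groth.FlatDescent.ker_stalkMap_fiberι f (f x) (f.asFiber x)).symm)).trans
        (RingHom.quotientKerEquivOfSurjective ((f.fiberι (f x)).stalkMap_surjective (f.asFiber x)))))).symm
  exact key x (f.fiberι_asFiber x).symm hB


open CategoryTheory AlgebraicGeometry in
/-- Let X be a proper scheme of dimension at most 1 over a field k, and Spec k → S a point of the base.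
The classifying object of X in the stack of curves over S lies in the Gorenstein open substack — by
definition: the morphism of sheaves h_X → h_{Spec k} induced by X → Spec k is, in every etale chart
diagram, at every point flat with Gorenstein fibre local ring — if and only if X is Gorenstein, i.e.
all local rings of X are Gorenstein local rings. -/
theorem result (S : Scheme.{u}) (k : Type u) [Field k] (t : Spec (CommRingCat.of k) ⟶ S)
    (X : Scheme.{u}) (p : X ⟶ Spec (CommRingCat.of k)) [IsProper p] (hdim : topologicalKrullDim ↥X ≤ 1) :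
    AlgSp.LocP (fun _ _ g => ∀ x, (g.stalkMap x).hom.Flat ∧
        LocCoh.IsGorensteinLocalRing ((g.fiber (g x)).presheaf.stalk (g.asFiber x))) ((AlgSp.yon S).map (Over.homMk p rfl : Over.mk (p ≫ t) ⟶ Over.mk t)) ↔
      ∀ x : ↥X, LocCoh.IsGorensteinLocalRing (X.presheaf.stalk x) := by
  haveI : IsLocallyNoetherian X := LocallyOfFiniteType.isLocallyNoetherian p
  constructor
  · intro h x
    exact (fibre_equiv p x (isField_stalk_field k _)).1 ((AlgSp.locP_yon_map h) x).2
  · intro hX U V a b h ha hb heq u
    obtain ⟨a, rfl⟩ := (AlgSp.yon S).map_surjective a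
    obtain ⟨b, rfl⟩ := (AlgSp.yon S).map_surjective b
    rw [AlgSp.repWith_yon_map_iff] at ha hb
    haveI : Etale a.left := ha
    haveI : Etale b.left := hb
    have hfld : IsField (V.left.presheaf.stalk (h.left u)) := (isField_stalk_of_etale (K := k) b.left _).1
    refine ⟨?_, (fibre_equiv h.left u hfld).2 (gor_of_etale (B := X) a.left u (hX _))⟩
    algebraize [(h.left.stalkMap u).hom]
    letI := hfld.toField
    show Module.Flat (V.left.presheaf.stalk (h.left u)) (U.left.presheaf.stalk u)
    infer_instance

end Groth.Agent.S17307
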