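import Groth.Statements.S10365
import Groth.Agent.AlgSpLib.Points
import Groth.Agent.S17307
-- import your own Groth.Agent.* helpers here

set_option autoImplicit false
set_option backward.isDefEq.respectTransparency.types false
universe u
open CategoryTheory CategoryTheory.Limits AlgebraicGeometry Topology TopologicalSpace
open AlgSp

namespace Groth.Agent.S10365

/-- Let Z be an algebraic space over a scheme S admitting a surjective flat morphism Spec k ⟶ Z from the
spectrum of a field. Then every morphism Spec k' ⟶ Z from the spectrum of a field is surjective and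
flat. -/
theorem result {S : Scheme.{u}} (Z : AlgSp.Space S)
    (k : Type u) [Field k] (str : Spec (CommRingCat.of k) ⟶ S) (p : (AlgSp.yon S).obj (Over.mk str) ⟶ Z.obj)
    (hpf : AlgSp.LocP @Flat p) (hps : AlgSp.IsSurjectiveMor p)
    (k' : Type u) [Field k'] (str' : Spec (CommRingCat.of k') ⟶ S) (q : (AlgSp.yon S).obj (Over.mk str') ⟶ Z.obj) :
    AlgSp.LocP @Flat q ∧ AlgSp.IsSurjectiveMor q := by
  have hfield : ∀ {V : Over S} (b : (AlgSp.yon S).obj V ⟶ Z.obj), AlgSp.RepWith @Etale b →
      ∀ v : ↥V.left, IsField (V.left.presheaf.stalk v) := by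
    intro V b hb v
    obtain ⟨W, fst, snd, sq⟩ := Groth.Agent.AlgSpLib.exists_isPullback hb.1 p
    have hes : Etale snd.left := Groth.Agent.AlgSpLib.prop_snd sq hb
    let sk : W.left ⟶ Spec (CommRingCat.of k) := snd.left
    have : Etale sk := hes
    have : Flat fst.left := hpf ((AlgSp.yon S).map snd) b fst
      ((AlgSp.repWith_yon_map_iff @Etale snd).2 hes) hb sq.w.symm
    obtain ⟨x, hx⟩ := hps (AlgSp.Points.ofPt b v)
    obtain ⟨x', rfl⟩ := Groth.Agent.AlgSpLib.exists_ofScheme x
    obtain ⟨w, hw, -⟩ := (Groth.Agent.AlgSpLib.ofPt_eq_iff sq v x').1 (by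
      rw [← hx, AlgSp.Points.map_ofPt, Category.id_comp])
    subst hw
    have hW := (Groth.Agent.S17307.isField_stalk_of_etale sk w).1
    let φ := (fst.left.stalkMap w).hom
    algebraize [(fst.left.stalkMap w).hom]
    have hflat : φ.Flat := AlgebraicGeometry.Flat.stalkMap fst.left w
    have : Module.Flat (V.left.presheaf.stalk (fst.left w)) (W.left.presheaf.stalk w) := hflat
    have : IsLocalHom (algebraMap (V.left.presheaf.stalk (fst.left w)) (W.left.presheaf.stalk w)) :=
      inferInstanceAs (IsLocalHom (fst.left.stalkMap w).hom)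
    have : Module.FaithfullyFlat (V.left.presheaf.stalk (fst.left w)) (W.left.presheaf.stalk w) :=
      Module.FaithfullyFlat.of_flat_of_isLocalHom
    have hinj : Function.Injective φ := FaithfulSMul.algebraMap_injective _ _
    rw [IsLocalRing.isField_iff_maximalIdeal_eq, eq_bot_iff]
    intro y hy
    refine hinj ?_
    rw [map_zero]
    by_contra hne
    refine hy (?_ : IsUnit y)
    exact isUnit_of_map_unit φ y (hW.mul_inv_cancel hne |> fun ⟨z, hz⟩ => IsUnit.of_mul_eq_one z hz)
  refine ⟨fun U V a b h _ hb _ => ?_, fun z => ?_⟩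
  · rw [Flat.iff_flat_stalkMap]
    intro u
    let φ := (h.left.stalkMap u).hom
    letI : Field (V.left.presheaf.stalk (h.left u)) := (hfield b hb (h.left u)).toField
    algebraize [(h.left.stalkMap u).hom]
    exact (inferInstance : Module.Flat (V.left.presheaf.stalk (h.left u)) (U.left.presheaf.stalk u))
  · obtain ⟨x, rfl⟩ := hps z
    refine ⟨AlgSp.Points.ofPt (𝟙 _) (IsLocalRing.closedPoint k' : PrimeSpectrum k'), ?_⟩
    obtain ⟨y, hy⟩ := hps (AlgSp.Points.map q (AlgSp.Points.ofPt (𝟙 _) (IsLocalRing.closedPoint k' : PrimeSpectrum k')))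
    rw [← hy]
    obtain ⟨x', rfl⟩ := Groth.Agent.AlgSpLib.exists_ofScheme x
    obtain ⟨y', rfl⟩ := Groth.Agent.AlgSpLib.exists_ofScheme y
    rw [show y' = x' from @Subsingleton.elim (PrimeSpectrum k) inferInstance _ _]

end Groth.Agent.S10365
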