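import Groth.Statements.S10366
import Groth.Agent.AlgSpPts.Descend
import Groth.Agent.AlgSpLib.Points
import Groth.Agent.AlgSpLib.LocP
import Mathlib


set_option autoImplicit false
universe u
open CategoryTheory CategoryTheory.Limits AlgebraicGeometry Topology TopologicalSpace
open AlgSp

namespace Groth.Agent.S10366

/-- (1) ⇔ (2): an algebraic space Z over a scheme S is reduced with |Z| a single point if and only if
there is a surjective flat morphism Spec k ⟶ Z from the spectrum of a field. -/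
theorem result {S : Scheme.{u}} (Z : AlgSp.Space S) :
    (AlgSp.EtaleLocally (fun U => IsReduced U) Z.obj ∧ Nonempty (AlgSp.Points Z.obj) ∧ Subsingleton (AlgSp.Points Z.obj)) ↔
      ∃ (k : Type u) (_ : Field k) (str : Spec (CommRingCat.of k) ⟶ S) (p : (AlgSp.yon S).obj (Over.mk str) ⟶ Z.obj),
        AlgSp.LocP @Flat p ∧ AlgSp.IsSurjectiveMor p := by

  constructor
  · rintro ⟨⟨U, a, ha, has, hU⟩, ⟨z⟩, hsub⟩
    obtain ⟨t, -⟩ := AlgSpLib.surjective_ofPt has z
    obtain ⟨A, hA, htA, -⟩ := exists_isAffineOpen_mem_and_subset (X := U.left) (x := t) (U := ⊤) trivial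
    have : AlgebraicGeometry.IsReduced U.left := hU
    have : Nonempty A := ⟨⟨t, htA⟩⟩
    have : Nonempty A.toScheme := ⟨⟨t, htA⟩⟩
    obtain ⟨p, hp, -⟩ := Ideal.exists_minimalPrimes_le (I := (⊥ : Ideal Γ(U.left, A)))
      (J := ((hA.primeIdealOf ⟨t, htA⟩).asIdeal)) bot_le
    have : p.IsPrime := hp.1.1
    let L := Localization.AtPrime p
    have hL : IsField L := by
      rw [IsLocalRing.isField_iff_maximalIdeal_eq, ← Localization.AtPrime.map_eq_maximalIdeal,
        ← IsLocalization.AtPrime.radical_map_of_mem_minimalPrimes L p ⊥ hp, Ideal.map_bot]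
      exact nilradical_eq_zero L
    let := hL.toField
    let φ : CommRingCat.of Γ(U.left, A) ⟶ CommRingCat.of L := CommRingCat.ofHom (algebraMap Γ(U.left, A) L)
    have hφ : Flat (Spec.map φ) := by
      rw [HasRingHomProperty.Spec_iff (P := @Flat)]
      exact RingHom.flat_algebraMap_iff.mpr (IsLocalization.flat L p.primeCompl)
    let g : Spec (CommRingCat.of L) ⟶ U.left := Spec.map φ ≫ hA.fromSpec
    let j : Over.mk (g ≫ U.hom) ⟶ U := Over.homMk g rfl
    refine ⟨L, inferInstance, g ≫ U.hom, (AlgSp.yon S).map j ≫ a, ?_, ?_⟩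
    · have : Flat j.left := inferInstanceAs (Flat g)
      exact AlgSpLib.locP_comp (IsAlgSpace.yon_obj _) (IsAlgSpace.yon_obj _) Z.property
        (AlgSpLib.locP_of_repWith ((AlgSp.repWith_yon_map_iff @Flat j).2 this)
          fun A B C k m hk hm => AlgSpLib.EtLocal.comp_etale k m hk hm)
        (AlgSpLib.locP_of_repWith (AlgSpLib.repWith_mono (fun _ _ k hk => by
            have : Etale k := hk
            exact (inferInstance : Flat k)) ha)
          fun A B C k m hk hm => AlgSpLib.EtLocal.comp_etale k m hk hm)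
    · exact fun y => ⟨Points.ofPt (𝟙 _) (Classical.arbitrary ↥(Spec (CommRingCat.of L))), Subsingleton.elim _ _⟩
  · rintro ⟨k, hk, str, p, hf, hs⟩
    refine ⟨AlgSpPts.isReducedSp_of_flat_surjective Z.property hf hs
      ⟨Over.mk str, 𝟙 _, AlgSp.repWith_id _ _, AlgSp.repWith_id _ _, inferInstanceAs (AlgebraicGeometry.IsReduced (Spec (CommRingCat.of k)))⟩,
      ⟨Points.map p (Points.ofPt (𝟙 _) (Classical.arbitrary ↥(Spec (CommRingCat.of k))))⟩, ⟨fun x y => ?_⟩⟩
    obtain ⟨x, rfl⟩ := hs x
    obtain ⟨y, rfl⟩ := hs y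
    obtain ⟨x, rfl⟩ := AlgSpLib.exists_ofScheme x
    obtain ⟨y, rfl⟩ := AlgSpLib.exists_ofScheme y
    rw [@Subsingleton.elim ↥(Spec (CommRingCat.of k)) inferInstance x y]

end Groth.Agent.S10366
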