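import Groth.Statements.S10367
import Groth.Agent.AlgSpLib.Points
import Groth.Agent.AlgSpLib.ChartMor
import Groth.Agent.S10365
-- import your own Groth.Agent.* helpers here

set_option autoImplicit false
set_option backward.isDefEq.respectTransparency.types false
universe u
open CategoryTheory CategoryTheory.Limits AlgebraicGeometry Topology TopologicalSpace
open AlgSp

namespace Groth.Agent.S10367

/-- (2) ⇒ (3): if an algebraic space Z over a scheme S admits a surjective flat morphism Spec k ⟶ Z with
k a field, then it also admits such a morphism which is moreover locally of finite type. -/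
theorem result {S : Scheme.{u}} (Z : AlgSp.Space S)
    (k : Type u) [Field k] (str : Spec (CommRingCat.of k) ⟶ S) (p : (AlgSp.yon S).obj (Over.mk str) ⟶ Z.obj)
    (hpf : AlgSp.LocP @Flat p) (hps : AlgSp.IsSurjectiveMor p) :
    ∃ (k' : Type u) (_ : Field k') (str' : Spec (CommRingCat.of k') ⟶ S) (q : (AlgSp.yon S).obj (Over.mk str') ⟶ Z.obj),
      AlgSp.LocP @LocallyOfFiniteType q ∧ AlgSp.LocP @Flat q ∧ AlgSp.IsSurjectiveMor q := by
  obtain ⟨U, a, ha, has⟩ := Z.property.atlas
  obtain ⟨x, -⟩ := Groth.Agent.AlgSpLib.surjective_ofPt has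
    (AlgSp.Points.ofPt p (IsLocalRing.closedPoint k : PrimeSpectrum k))
  obtain ⟨W, hW, hxW, -⟩ := exists_isAffineOpen_mem_and_subset (X := U.left) (x := x) (U := ⊤) trivial
  have : IsAffine W.toScheme := hW
  obtain ⟨m, -, hm⟩ := IsClosed.exists_closed_singleton (S := (Set.univ : Set W.toScheme)) isClosed_univ
    ⟨⟨x, hxW⟩, trivial⟩
  have : IsClosedImmersion (W.toScheme.fromSpecResidueField m) :=
    isClosed_singleton_iff_isClosedImmersion.1 hm
  let i : Spec (CommRingCat.of (W.toScheme.residueField m)) ⟶ U.left := W.toScheme.fromSpecResidueField m ≫ W.ι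
  have hi : LocallyOfFiniteType i := inferInstanceAs (LocallyOfFiniteType (W.toScheme.fromSpecResidueField m ≫ W.ι))
  let str' : Spec (CommRingCat.of (W.toScheme.residueField m)) ⟶ S := i ≫ U.hom
  let iS : Over.mk str' ⟶ U := Over.homMk i rfl
  let q := (AlgSp.yon S).map iS ≫ a
  have hq : AlgSp.RepWith @LocallyOfFiniteType q :=
    Groth.Agent.AlgSpLib.repWith_yon_comp iS hi (Groth.Agent.AlgSpLib.repWith_mono (fun _ _ k hk => by
      have : Etale k := hk
      infer_instance) ha)
  refine ⟨W.toScheme.residueField m, inferInstance, str', q, ?_, ?_⟩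
  · exact Groth.Agent.AlgSpLib.locP_of_repWith hq fun _ _ _ k g hk hg => by
      have : Etale k := hk
      have : LocallyOfFiniteType g := hg
      infer_instance
  · exact Groth.Agent.S10365.result Z k str p hpf hps _ str' q

end Groth.Agent.S10367
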