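import Groth.Statements.S10369
import Groth.Agent.AlgSpPts.MonoPoint
import Groth.Agent.S9885
import Groth.Agent.AlgSpLib.Points
import Groth.Agent.AlgSpLib.LocP


set_option autoImplicit false
universe u
open CategoryTheory CategoryTheory.Limits AlgebraicGeometry Topology TopologicalSpace
open AlgSp

namespace Groth.Agent.S10369

/-- Let S be a scheme, Z' and Z algebraic spaces over S, and Z' ⟶ Z a monomorphism, and suppose there is
a locally finitely presented, flat, surjective morphism Spec k ⟶ Z from the spectrum of a field.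
Then Z' is empty or Z' ⟶ Z is an isomorphism. -/
theorem result {S : Scheme.{u}} {Z' Z : AlgSp.Space S} (f : Z' ⟶ Z)
    [Mono f.hom]
    (hZ : ∃ (k : Type u) (_ : Field k) (str : Spec (CommRingCat.of k) ⟶ S) (p : (AlgSp.yon S).obj (Over.mk str) ⟶ Z.obj),
        AlgSp.LocP @LocallyOfFinitePresentation p ∧ AlgSp.LocP @Flat p ∧ AlgSp.IsSurjectiveMor p) :
    IsEmpty (AlgSp.Points Z'.obj) ∨ IsIso f := by

  open Groth.Agent.AlgSpLib in
  obtain ⟨k, hk, str, p, hpp, hpf, hps⟩ := hZ
  have hrep : Representable p := Z.property.representable_from_yon p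
  have hl := S9885.result S _ _ p ((locP_iff_repWith Z.property hrep).1 hpf) ((locP_iff_repWith Z.property hrep).1 hpp)
    (repWith_surjective_of_map hrep hps)
  have sq := IsPullback.of_hasPullback f.hom p
  have hP := isAlgSpace_of_isPullback sq Z'.property (IsAlgSpace.yon_obj _) Z.property
  rcases AlgSpPts.isEmpty_or_isIso_of_mono str hP (pullback.snd f.hom p) with h | h
  · refine Or.inl ⟨fun z => ?_⟩
    obtain ⟨w, -⟩ := surjective_snd sq.flip hps z
    exact h.false w
  · refine Or.inr ?_
    have : Epi p := by infer_instance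
    have e : (inv (pullback.snd f.hom p) ≫ pullback.fst f.hom p) ≫ f.hom = p := by
      rw [Category.assoc, pullback.condition, IsIso.inv_hom_id_assoc]
    have : Epi f.hom := epi_of_epi_fac e
    have : IsIso f.hom := isIso_of_mono_of_epi f.hom
    exact @isIso_of_reflects_iso _ _ _ _ _ _ f (ObjectProperty.ι _) this _

end Groth.Agent.S10369
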