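import Groth.Statements.S10422
import Mathlib.LinearAlgebra.TensorProduct.Finiteness
import Mathlib.Order.Filter.Ultrafilter.Basic
import Mathlib.RingTheory.Flat.Basic
-- import your own Groth.Agent.* helpers here

set_option autoImplicit false
universe u
open Topology TopologicalSpace TensorProduct
open AlgSp

namespace Groth.Agent.S10422

theorem exists_common (k : Type u) [Field k] : ∀ (N : ℕ) (K : Fin N → Type u) [∀ i, Field (K i)] [∀ i, Algebra k (K i)],
    ∃ (Ω : Type u) (_ : Field Ω) (_ : Algebra k Ω), Nonempty (∀ i, K i →ₐ[k] Ω)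
  | 0, _, _, _ => ⟨k, inferInstance, inferInstance, ⟨fun i => i.elim0⟩⟩
  | N + 1, K, _, _ => by
    obtain ⟨Ω, _, _, ⟨σ⟩⟩ := exists_common k N (fun i => K i.castSucc)
    have : Nontrivial (Ω ⊗[k] K (Fin.last N)) :=
      Algebra.TensorProduct.nontrivial_of_algebraMap_injective_of_flat_left k Ω _ (algebraMap k (K (Fin.last N))).injective
    obtain ⟨M, hM⟩ := Ideal.exists_maximal (Ω ⊗[k] K (Fin.last N))
    refine ⟨(Ω ⊗[k] K (Fin.last N)) ⧸ M, Ideal.Quotient.field M, inferInstance, ⟨?_⟩⟩
    exact Fin.lastCases ((Ideal.Quotient.mkₐ k M).comp Algebra.TensorProduct.includeRight)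
      (fun i => ((Ideal.Quotient.mkₐ k M).comp (Algebra.TensorProduct.includeLeft (S := k))).comp (σ i))


/-- Let A be a ring, k a field, (p_n) a sequence of primes of A which are pairwise distinct, and k →
κ(p_n) field embeddings. Then the closure in Spec(A ⊗ A) of the image of ∐_{n ≠ m} Spec(κ(p_n) ⊗_k
κ(p_m)) meets the diagonal. Here κ(p_n) is any A-algebra K_n which is a field whose structure map
has kernel p_n and whose elements are quotients of images of elements of A. -/
theorem result (A : Type u) [CommRing A] (k : Type u) [Field k]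
    (p : ℕ → PrimeSpectrum A) (hp : Function.Injective p) (K : ℕ → Type u) [∀ n, Field (K n)]
    [∀ n, Algebra A (K n)] [∀ n, Algebra k (K n)]
    (hker : ∀ n, RingHom.ker (algebraMap A (K n)) = (p n).asIdeal)
    (hfrac : ∀ n (x : K n), ∃ a b : A, algebraMap A (K n) b ≠ 0 ∧ x * algebraMap A (K n) b = algebraMap A (K n) a) :
    (closure (⋃ (n : ℕ) (m : ℕ) (_ : n ≠ m),
        Set.range (PrimeSpectrum.comap
          (Algebra.TensorProduct.lift
            ((Algebra.TensorProduct.includeLeft (R := k) (S := ℤ) (A := K n) (B := K m)).toRingHom.toIntAlgHom.comp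
              (Algebra.ofId A (K n)).toRingHom.toIntAlgHom)
            ((Algebra.TensorProduct.includeRight (R := k) (A := K n) (B := K m)).toRingHom.toIntAlgHom.comp
              (Algebra.ofId A (K m)).toRingHom.toIntAlgHom)
            (fun _ _ => Commute.all _ _)).toRingHom)) ∩
      Set.range (PrimeSpectrum.comap (Algebra.TensorProduct.lmul' (S := A) ℤ).toRingHom)).Nonempty := by
  classical
  let U : Ultrafilter ℕ := Filter.hyperfilter ℕ
  let P : Ideal A :=
    { carrier := {a | ∀ᶠ n in (U : Filter ℕ), a ∈ (p n).asIdeal}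
      add_mem' := fun ha hb => (Filter.Eventually.and ha hb).mono fun n h => add_mem h.1 h.2
      zero_mem' := Filter.Eventually.of_forall fun n => zero_mem _
      smul_mem' := fun c a ha => Filter.Eventually.mono ha fun n h => Ideal.mul_mem_left _ c h }
  have hP : P.IsPrime := by
    constructor
    · intro h
      obtain ⟨n, hn⟩ := Filter.Eventually.exists ((Ideal.eq_top_iff_one P).1 h)
      exact (p n).isPrime.ne_top ((Ideal.eq_top_iff_one _).2 hn)
    · intro a b hab
      exact (Ultrafilter.eventually_or.1 (Filter.Eventually.mono hab fun n h => (p n).isPrime.mem_or_mem h))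
  refine ⟨PrimeSpectrum.comap (Algebra.TensorProduct.lmul' (S := A) ℤ).toRingHom ⟨P, hP⟩, ?_, ⟨_, rfl⟩⟩
  rw [PrimeSpectrum.isTopologicalBasis_basic_opens.mem_closure_iff]
  rintro o ⟨g, rfl⟩ hg
  obtain ⟨S, hS⟩ := TensorProduct.exists_finset g
  have hμ : ∀ᶠ n in (U : Filter ℕ), (Algebra.TensorProduct.lmul' (S := A) ℤ) g ∉ (p n).asIdeal :=
    Ultrafilter.eventually_not.2 hg
  have hinf : {n | (Algebra.TensorProduct.lmul' (S := A) ℤ) g ∉ (p n).asIdeal}.Infinite := fun hfin =>
    Filter.notMem_hyperfilter_of_finite hfin hμ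
  let e : Fin (S.card + 1) → ℕ := fun i => hinf.natEmbedding _ i.val
  have he : Function.Injective e := Subtype.val_injective.comp ((hinf.natEmbedding _).injective.comp Fin.val_injective)
  obtain ⟨Ω, _, _, ⟨σ⟩⟩ := exists_common k (S.card + 1) (fun i => K (e i))
  let v : Fin (S.card + 1) → S → Ω := fun i s => σ i (algebraMap A (K (e i)) s.1.2)
  let w : Fin (S.card + 1) → S → Ω := fun i s => σ i (algebraMap A (K (e i)) s.1.1)
  have hdiag : ∀ i, (∑ s, w i s * v i s) ≠ 0 := by
    intro i h
    have hmem : (Algebra.TensorProduct.lmul' (S := A) ℤ) g ∉ (p (e i)).asIdeal := (hinf.natEmbedding _ i.val).2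
    rw [← hker, RingHom.mem_ker, hS, map_sum, map_sum] at hmem
    refine hmem ((σ i).injective ?_)
    rw [map_sum, map_zero, ← h, ← Finset.sum_coe_sort]
    simp [v, w]
  have hex : ∃ i j, i ≠ j ∧ (∑ s, w i s * v j s) ≠ 0 := by
    by_contra h
    push Not at h
    have hli : LinearIndependent Ω v := by
      refine Fintype.linearIndependent_iff.2 fun c hc i => ?_
      have h0 : ∑ s, w i s * (∑ j, c j • v j) s = 0 := by rw [hc]; simp
      simp only [Finset.sum_apply, Pi.smul_apply, smul_eq_mul, Finset.mul_sum] at h0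
      rw [Finset.sum_comm, Finset.sum_eq_single i (fun j _ hj => by
        have := h i j hj.symm
        calc ∑ s, w i s * (c j * v j s) = c j * ∑ s, w i s * v j s := by
              rw [Finset.mul_sum]; exact Finset.sum_congr rfl fun s _ => by ring
          _ = 0 := by rw [this, mul_zero]) (by simp)] at h0
      have h1 : c i * ∑ s, w i s * v i s = 0 := by
        rw [← h0, Finset.mul_sum]; exact Finset.sum_congr rfl fun s _ => by ring
      exact (mul_eq_zero.1 h1).resolve_right (hdiag i)
    have hcard := hli.fintype_card_le_finrank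
    simp at hcard
  obtain ⟨i, j, hij, hne⟩ := hex
  let ψ : K (e i) ⊗[k] K (e j) →ₐ[k] Ω := Algebra.TensorProduct.lift (σ i) (σ j) (fun _ _ => Commute.all _ _)
  refine ⟨_, ?_, Set.mem_iUnion.2 ⟨e i, Set.mem_iUnion.2 ⟨e j, Set.mem_iUnion.2
    ⟨fun h => hij (he h), ⟨⟨RingHom.ker ψ.toRingHom, RingHom.ker_isPrime _⟩, rfl⟩⟩⟩⟩⟩
  rw [SetLike.mem_coe, PrimeSpectrum.mem_basicOpen]
  intro h0
  refine hne ?_
  rw [PrimeSpectrum.comap_asIdeal, Ideal.mem_comap, RingHom.mem_ker, hS, map_sum, map_sum,
    ← Finset.sum_coe_sort] at h0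
  rw [← h0]
  simp [ψ, v, w]

end Groth.Agent.S10422
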