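import Groth.Statements.S10426
import Groth.Agent.AlgSpFin.BddFibres

open Groth.Agent.AlgSpLib Groth.Agent.AlgSpFin

set_option autoImplicit false
universe u
open CategoryTheory CategoryTheory.Limits AlgebraicGeometry Topology TopologicalSpace
open AlgSp

namespace Groth.Agent.S10426

/-- Let S be a scheme, X and Y algebraic spaces over S, and g : Y ⟶ X a representable morphism; let U be
a scheme, f : U ⟶ X a morphism, and f′ : U ×_X Y ⟶ Y its base change. Assume the image of |U| → |X|
is contained in the image of |Y| → |X| and that f′ has universally bounded fibres. Then the morphism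
f also has universally bounded fibres. -/
theorem result {S : Scheme.{u}} {X Y : AlgSp.Space S} (g : Y ⟶ X)
    (hg : AlgSp.Representable g.hom) {U V : Over S} (f : (AlgSp.yon S).obj U ⟶ X.obj)
    (fst : (AlgSp.yon S).obj V ⟶ (AlgSp.yon S).obj U) (f' : (AlgSp.yon S).obj V ⟶ Y.obj) (h : IsPullback fst f' f g.hom)
    (him : Set.range (AlgSp.Points.ofPt f) ⊆ Set.range (AlgSp.Points.map g.hom)) (hf' : W4dec.HasUnivBddFibres f') :
    W4dec.HasUnivBddFibres f := by
  obtain ⟨n, hn⟩ := hf'
  obtain ⟨V₀, b, hb, hbs⟩ := Y.property.atlas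
  obtain ⟨W, w₁, w₂, sW⟩ := exists_isPullback (Y.property.representable_from_yon f') b
  obtain ⟨k, rfl⟩ := (AlgSp.yon S).map_surjective fst
  refine ⟨n, degFibresLE_of_fibreDegLE X.property (b := b ≫ g.hom) (fst := w₁ ≫ k) (snd := w₂) ?_
    (fibreDegLE_of_degFibresLE sW hn) fun x hx => ?_⟩
  · rw [Functor.map_comp]
    exact (sW.flip.paste_vert h.flip).flip
  · obtain ⟨y, rfl⟩ := him hx
    obtain ⟨v, rfl⟩ := surjective_ofPt hbs y
    exact ⟨v, (AlgSp.Points.map_ofPt b g.hom v).symm⟩

end Groth.Agent.S10426
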