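import Groth.Statements.S10427
import Groth.Agent.AlgSpFin.BddFibres

open Groth.Agent.AlgSpLib Groth.Agent.AlgSpFin

set_option autoImplicit false
universe u
open CategoryTheory CategoryTheory.Limits AlgebraicGeometry Topology TopologicalSpace
open AlgSp

namespace Groth.Agent.S10427

/-- Let X be an algebraic space over a scheme S and U ⟶ V ⟶ X with U, V schemes, U ⟶ V surjective and
flat. If U ⟶ X has universally bounded fibres, then so does V ⟶ X. -/
theorem result {S : Scheme.{u}} (X : AlgSp.Space S) {U V : Over S} (f : U ⟶ V)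
    [Surjective f.left] [Flat f.left] (h : (AlgSp.yon S).obj V ⟶ X.obj) (hg : W4dec.HasUnivBddFibres ((AlgSp.yon S).map f ≫ h)) :
    W4dec.HasUnivBddFibres h := by
  obtain ⟨n, hn⟩ := hg
  obtain ⟨V₀, b, hb, hbs⟩ := X.property.atlas
  obtain ⟨W, w₁, w₂, sW⟩ := exists_isPullback (X.property.representable_from_yon h) b
  obtain ⟨U', u₁, u₂, sU⟩ : ∃ (U' : Over S) (u₁ : U' ⟶ U) (u₂ : U' ⟶ W), IsPullback u₁ u₂ f w₁ :=
    ⟨_, _, _, IsPullback.of_hasPullback f w₁⟩
  have : Flat u₂.left := MorphismProperty.of_isPullback (P := @Flat) (left_isPullback sU) ‹_›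
  have : Surjective u₂.left := MorphismProperty.of_isPullback (P := @Surjective) (left_isPullback sU) ‹_›
  refine ⟨n, degFibresLE_of_fibreDegLE X.property sW (BddFibLib.fibreDegLE_of_flat_surjective u₂.left w₂.left
    (fibreDegLE_of_degFibresLE (fst := u₁) (snd := u₂ ≫ w₂) (b := b) ?_ hn)) fun x _ => surjective_ofPt hbs x⟩
  rw [Functor.map_comp]
  exact (yon_isPullback sU).paste_vert sW

end Groth.Agent.S10427
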