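import Groth.Statements.S10428
import Groth.Agent.AlgSpFin.BddFibres

open Groth.Agent.AlgSpLib Groth.Agent.AlgSpFin

set_option autoImplicit false
universe u
open CategoryTheory CategoryTheory.Limits AlgebraicGeometry Topology TopologicalSpace
open AlgSp

namespace Groth.Agent.S10428

/-- Let X be an algebraic space over a scheme S and φ : U ⟶ X a morphism from a scheme with universally
bounded fibres. Then for some integer n, every fibre of |U| → |X| contains at most n elements. -/
theorem result {S : Scheme.{u}} (X : AlgSp.Space S) {U : Over S}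
    (φ : (AlgSp.yon S).obj U ⟶ X.obj) (hφ : W4dec.HasUnivBddFibres φ) :
    ∃ n : ℕ, ∀ x : AlgSp.Points X.obj, (AlgSp.Points.ofPt φ ⁻¹' {x}).encard ≤ n := by
  obtain ⟨n, hn⟩ := hφ
  refine ⟨n, fun x => ?_⟩
  obtain ⟨q, rfl⟩ := AlgSp.Points.mk_surjective x
  let t₀ : q.pt.left := (IsLocalRing.closedPoint q.K : PrimeSpectrum q.K)
  obtain ⟨T, d, e, sT⟩ := exists_isPullback (X.property.representable_from_yon q.toHom) φ
  obtain ⟨hfin, hcard⟩ := BddFibLib.card_le (k := q.K) d.left (n := n) (hn q T d _ sT)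
  have hsub : AlgSp.Points.ofPt φ ⁻¹' {AlgSp.Points.mk q} ⊆ Set.range e.left := fun u hu => by
    obtain ⟨w, -, hw⟩ := (ofPt_eq_iff sT t₀ u).1 ((AlgSp.Points.ofPt_toHom q t₀).trans (Set.mem_singleton_iff.1 hu).symm)
    exact ⟨w, hw⟩
  refine (Set.encard_le_encard hsub).trans ?_
  rw [← Set.image_univ]
  refine (Set.encard_image_le _ _).trans ?_
  rw [Set.encard_univ, ENat.card_eq_coe_natCard]
  exact_mod_cast hcard

end Groth.Agent.S10428
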