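import Groth.Statements.S10431
import Groth.Agent.AlgSpFin.BddFibres

open Groth.Agent.AlgSpLib Groth.Agent.AlgSpFin

set_option autoImplicit false
set_option backward.isDefEq.respectTransparency.types false
universe u
open CategoryTheory CategoryTheory.Limits AlgebraicGeometry Topology TopologicalSpace
open AlgSp

namespace Groth.Agent.S10431

/-- Let S be a scheme, X and Y algebraic spaces over S, and X ⟶ Y a representable morphism. If every
etale morphism from an affine scheme to Y has universally bounded fibres, then so does every etale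
morphism from an affine scheme to X. -/
theorem result {S : Scheme.{u}} {X Y : AlgSp.Space S} (f : X ⟶ Y)
    (hf : AlgSp.Representable f.hom)
    (hY : ∀ (V : Over S) (ψ : (AlgSp.yon S).obj V ⟶ Y.obj), IsAffine V.left → AlgSp.RepWith @Etale ψ → W4dec.HasUnivBddFibres ψ)
    (U : Over S) (φ : (AlgSp.yon S).obj U ⟶ X.obj) (hU : IsAffine U.left) (hφ : AlgSp.RepWith @Etale φ) :
    W4dec.HasUnivBddFibres φ := by
  obtain ⟨V₀, b, hb, hbs⟩ := Y.property.atlas
  obtain ⟨P, p, π, sP⟩ : ∃ (P : Over S) (p : (AlgSp.yon S).obj P ⟶ X.obj) (π : P ⟶ V₀),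
      IsPullback p ((AlgSp.yon S).map π) f.hom b := ⟨hf.pullback b, hf.fst b, hf.snd b, hf.isPullback b⟩
  choose A hA hxA _ using fun x : P.left => exists_isAffineOpen_mem_and_subset (X := V₀.left) (x := π.left x) (U := ⊤) trivial
  let V : P.left → Over S := fun x => Over.mk ((A x).ι ≫ V₀.hom)
  let j : ∀ x, V x ⟶ V₀ := fun x => Over.homMk (A x).ι rfl
  choose W w₁ w₂ sW using fun x => (⟨_, _, _, IsPullback.of_hasPullback π (j x)⟩ :
    ∃ (W : Over S) (w₁ : W ⟶ P) (w₂ : W ⟶ V x), IsPullback w₁ w₂ π (j x))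
  have hp : AlgSp.RepWith @Etale p := repWith_baseChange sP.flip hb
  have hj : ∀ x, AlgSp.RepWith @Etale ((AlgSp.yon S).map (j x) ≫ b) := fun x =>
    repWith_yon_comp (P := @Etale) (j x) (inferInstanceAs (Etale (A x).ι)) hb
  refine hasUnivBddFibres_of_etale_cover X.property W (fun x => (AlgSp.yon S).map (w₁ x) ≫ p)
    (fun x => repWith_yon_comp (P := @Etale) (w₁ x)
      (MorphismProperty.of_isPullback (P := @Etale) (left_isPullback (sW x)).flip
        (inferInstanceAs (Etale (A x).ι))) hp)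
    (fun z => ?_) (fun x => ?_) φ hφ
  · obtain ⟨v, hv⟩ := surjective_ofPt hbs (AlgSp.Points.map f.hom z)
    obtain ⟨r, hr, -⟩ := exists_point_of_isPullback sP z (AlgSp.Points.ofPt (𝟙 _) v)
      (by rw [AlgSp.Points.map_ofPt, Category.id_comp, hv])
    obtain ⟨y, rfl⟩ := exists_ofScheme r
    obtain ⟨w, hw, -⟩ := Scheme.exists_preimage_of_isPullback (left_isPullback (sW y)) y (⟨π.left y, hxA y⟩ : (A y).toScheme) rfl
    exact ⟨y, w, by rw [ofPt_comp, hw, ← hr, AlgSp.Points.map_ofPt, Category.id_comp]⟩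
  · obtain ⟨n, hn⟩ := hY (V x) _ (hA x) (hj x)
    have sq : IsPullback ((AlgSp.yon S).map (w₁ x) ≫ p) ((AlgSp.yon S).map (w₂ x)) f.hom
        ((AlgSp.yon S).map (j x) ≫ b) := (yon_isPullback (sW x)).paste_horiz sP
    refine ⟨n, fun q T c s sT => hn (q.map f.hom) T c (s ≫ (AlgSp.yon S).map (w₂ x)) ?_⟩
    rw [AlgSp.FieldPt.toHom_map]
    exact sT.paste_vert sq

end Groth.Agent.S10431
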