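import Groth.Statements.S10432
import Groth.Agent.AlgSpFin.BddFibres

open Groth.Agent.AlgSpLib Groth.Agent.AlgSpFin

set_option autoImplicit false
set_option backward.isDefEq.respectTransparency.types false
universe u
open CategoryTheory CategoryTheory.Limits AlgebraicGeometry Topology TopologicalSpace
open AlgSp

namespace Groth.Agent.S10432

/-- Let X be an algebraic space over a scheme S with a Zariski covering by open subspaces X_i ⟶ X such
that every etale morphism from an affine scheme to X_i has universally bounded fibres. Then every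
etale morphism from an affine scheme to X has universally bounded fibres. -/
theorem result {S : Scheme.{u}} (X : AlgSp.Space S) {ι : Type u}
    (Xi : ι → AlgSp.Space S) (j : ∀ i, Xi i ⟶ X) (hj : AlgSp.IsZarCover (fun i => (Xi i).obj) (fun i => (j i).hom))
    (h : ∀ (i : ι) (V : Over S) (ψ : (AlgSp.yon S).obj V ⟶ (Xi i).obj), IsAffine V.left → AlgSp.RepWith @Etale ψ → W4dec.HasUnivBddFibres ψ)
    (U : Over S) (φ : (AlgSp.yon S).obj U ⟶ X.obj) (hU : IsAffine U.left) (hφ : AlgSp.RepWith @Etale φ) :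
    W4dec.HasUnivBddFibres φ := by
  choose V₀ a ha has using fun i => (Xi i).property.atlas
  choose A hA hxA _ using fun x : Σ i, ↥(V₀ i).left =>
    exists_isAffineOpen_mem_and_subset (X := (V₀ x.1).left) (x := x.2) (U := ⊤) trivial
  let V : (Σ i, ↥(V₀ i).left) → Over S := fun x => Over.mk ((A x).ι ≫ (V₀ x.1).hom)
  let c : ∀ x, (AlgSp.yon S).obj (V x) ⟶ (Xi x.1).obj := fun x =>
    (AlgSp.yon S).map (Over.homMk (A x).ι rfl : V x ⟶ V₀ x.1) ≫ a x.1
  have hc : ∀ x, AlgSp.RepWith @Etale (c x) := fun x =>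
    repWith_yon_comp (P := @Etale) _ (inferInstanceAs (Etale (A x).ι)) (ha x.1)
  refine hasUnivBddFibres_of_etale_cover X.property V (fun x => c x ≫ (j x.1).hom)
    (fun x => repWith_comp (hc x) (repWith_mono (fun _ _ k hk => by
      have : IsOpenImmersion k := hk
      exact inferInstanceAs (Etale k)) (hj.1 x.1))) (fun z => ?_) (fun x => ?_) φ hφ
  · obtain ⟨i, y, rfl⟩ := hj.2 z
    obtain ⟨v, rfl⟩ := surjective_ofPt (has i) y
    refine ⟨⟨i, v⟩, ⟨v, hxA ⟨i, v⟩⟩, ?_⟩
    rw [AlgSp.Points.map_ofPt]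
    exact (congrArg (AlgSp.Points.ofPt · _) (Category.assoc _ _ _)).trans (ofPt_comp _ _ _)
  · obtain ⟨n, hn⟩ := h x.1 (V x) (c x) (hA x) (hc x)
    refine ⟨n, degFibresLE_comp_openImm X.property (Xi x.1).property (c x) hn (j x.1).hom (hj.1 x.1)⟩

end Groth.Agent.S10432
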