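import Groth.Statements.S10498
import Groth.Agent.HenselLib.HenselizationDVR
import Groth.Agent.HenselLib.HenselizationLocal

set_option autoImplicit false
universe u
open TensorProduct
open Hensel

namespace Groth.Agent.S10498

/-- (1) ⇔ (2): let k be a field, A a local k-algebra and R a strict henselization of A. Then A is
geometrically reduced over k (K ⊗_k A reduced for every field extension K of k) if and only if R is
geometrically reduced over k. -/
theorem result (k : Type u) [Field k]
    (A : Type u) [CommRing A] [IsLocalRing A] [Algebra k A]
    (R : Type u) [CommRing R] [IsLocalRing R] [Algebra A R] [IsLocalHom (algebraMap A R)]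
    [Hensel.IsStrictHenselization A R] [Algebra k R] [IsScalarTower k A R] :
    (∀ (K : Type u) [Field K] [Algebra k K], IsReduced (TensorProduct k K A)) ↔
      ∀ (K : Type u) [Field K] [Algebra k K], IsReduced (TensorProduct k K R) := by
  have h := Groth.Agent.HenselLib.exists_colim_of_isStrictHenselization A R
  refine ⟨fun hA K _ _ => @Groth.Agent.HenselLib.IsNbhdColim.isReduced_baseChange A _ _ _ _ R _ _ _ h
    k K _ _ _ _ _ _ (hA K), fun hR K _ _ => ?_⟩
  have := hR K
  have := h.faithfullyFlat fun r hr => Groth.Agent.HenselLib.algebraMap_eq_zero_of_tower hr
  exact isReduced_of_injective (Algebra.TensorProduct.map (AlgHom.id k K) (IsScalarTower.toAlgHom k A R))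
    (Module.Flat.lTensor_preserves_injective_linearMap
      (IsScalarTower.toAlgHom k A R).toLinearMap (FaithfulSMul.algebraMap_injective A R))

end Groth.Agent.S10498
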