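import Groth.Statements.S10500
import Groth.Agent.AlgSpFin.GenericFinite

set_option autoImplicit false
universe u
open CategoryTheory CategoryTheory.Limits AlgebraicGeometry Topology TopologicalSpace
open AlgSp

namespace Groth.Agent.S10500

/-- Let X and Y be integral algebraic spaces over a scheme S with generic points x and y, and f : X ⟶ Y
a morphism which is proper and dominant. Then f is an alteration (finite over some nonempty open
subspace of Y) if and only if x is the only point of X mapping to y. -/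
theorem result {S : Scheme.{u}} {X Y : AlgSp.Space S}
    (hXi : AlgSp.IsIntegralSp X.obj) (hYi : AlgSp.IsIntegralSp Y.obj) (f : X ⟶ Y) (hp : AlgSp.IsProperMor f.hom)
    (hd : AlgSp.IsDominantMor f.hom)
    (x : AlgSp.Points X.obj) (hx : IsGenericPoint x (Set.univ : Set (AlgSp.Points X.obj)))
    (y : AlgSp.Points Y.obj) (hy : IsGenericPoint y (Set.univ : Set (AlgSp.Points Y.obj))) :
    (∃ (V : AlgSp.Space S) (j : V ⟶ Y), AlgSp.RepWith @IsOpenImmersion j.hom ∧ Nonempty (AlgSp.Points V.obj) ∧
      ∀ (P : AlgSp.Space S) (fst : P ⟶ V) (snd : P ⟶ X), IsPullback fst.hom snd.hom j.hom f.hom →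
        AlgSp.IsFiniteMor fst.hom) ↔ (∀ x' : AlgSp.Points X.obj, AlgSp.Points.map f.hom x' = y → x' = x) := by
  constructor
  · rintro ⟨V, j, hj, hne, hall⟩ x2 hx2
    have hP := Groth.Agent.AlgSpLib.isAlgSpace_of_isPullback (IsPullback.of_hasPullback j.hom f.hom) V.property X.property Y.property
    exact AlgSpFin.unique_of_open_finite hXi.2.1 hYi.2.1 f hp.2.1.1 hd hx hy
      (X' := ⟨_, hP⟩) j (ObjectProperty.homMk (pullback.fst j.hom f.hom)) (ObjectProperty.homMk (pullback.snd j.hom f.hom))
      hj hne (IsPullback.of_hasPullback _ _) (hall _ _ _ (IsPullback.of_hasPullback _ _)) x2 hx2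
  · intro h
    obtain ⟨W, X2, j, fst, snd, hj, hne, sq, hfin⟩ :=
      AlgSpFin.exists_open_finite_of_unique hXi.2.1 hYi.2.1 f hp.2.1.1 hd hx hy h (Or.inr hp.1)
    refine ⟨W, j, hj, hne, fun P p q sp => ?_⟩
    refine (AlgSpFin.isFiniteMor_iff_repWith _).2 ?_
    rw [← IsPullback.isoIsPullback_hom_fst _ _ sp sq]
    exact Groth.Agent.AlgSpLib.repWith_comp
      (Groth.Agent.AlgSpLib.repWith_iso (sp.isoIsPullback _ _ sq).hom) ((AlgSpFin.isFiniteMor_iff_repWith _).1 hfin)

end Groth.Agent.S10500
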