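import Groth.Statements.S10509
import Groth.Agent.AlgSpLib.LocP
import Groth.Agent.AlgSpLib.DiagMor
import Groth.Agent.AlgSpLib.FibreProduct
import Groth.Agent.S0412
import Groth.Agent.AlgSpLib.FpqcTest


set_option autoImplicit false
set_option backward.isDefEq.respectTransparency.types false
universe u
open CategoryTheory CategoryTheory.Limits AlgebraicGeometry
open AlgSp

namespace Groth.Agent.S10509

/-- A smooth covering of an algebraic space `X` over `S` by algebraic spaces can be refined by an etale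
covering of `X` by algebraic spaces: there is an etale covering `{U_j ⟶ X}` each member of which
factors through some member of the given smooth covering. -/
theorem result {S : Scheme.{u}} (X : AlgSp.Space S) {ι : Type u}
    (Xi : ι → AlgSp.Space S) (g : ∀ i, Xi i ⟶ X)
    (h : AlgSp.IsSmCover (fun i => (Xi i).obj) (fun i => (g i).hom)) :
    ∃ (κ : Type u) (U : κ → AlgSp.Space S) (c : ∀ j, U j ⟶ X),
      AlgSp.IsEtCover (fun j => (U j).obj) (fun j => (c j).hom) ∧
      ∀ j, ∃ (i : ι) (r : U j ⟶ Xi i), r ≫ g i = c j := by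
  obtain ⟨U, a, ha, has⟩ := X.property.atlas
  have key : ∀ x : ↥U.left, ∃ (T : Over S) (t : T ⟶ U) (i : ι) (l : (AlgSp.yon S).obj T ⟶ (Xi i).obj),
      Etale t.left ∧ x ∈ Set.range t.left ∧ l ≫ (g i).hom = (AlgSp.yon S).map t ≫ a := by
    intro x
    obtain ⟨i, y, hy⟩ := h.2 (AlgSp.Points.ofPt a x)
    have sq := IsPullback.of_hasPullback (g i).hom a
    obtain ⟨z, -, hz⟩ := Groth.Agent.AlgSpLib.exists_point_of_isPullback sq y (AlgSp.Points.ofPt (𝟙 _) x)
      (by rw [hy, Groth.Agent.AlgSpLib.map_ofPt_id])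
    obtain ⟨W, b, hb, hbs⟩ := (Groth.Agent.AlgSpLib.isAlgSpace_of_isPullback sq (Xi i).property (AlgSp.IsAlgSpace.yon_obj U) X.property).atlas
    obtain ⟨q, hq⟩ := (AlgSp.yon S).map_surjective (b ≫ pullback.snd (g i).hom a)
    obtain ⟨w, rfl⟩ := Groth.Agent.AlgSpLib.surjective_ofPt hbs z
    have hw : q.left w = x := by
      apply (AlgSp.Points.schemeHomeo U).injective
      change AlgSp.Points.ofPt (𝟙 _) (q.left w) = AlgSp.Points.ofPt (𝟙 _) x
      rw [← Groth.Agent.AlgSpLib.ofPt_comp, Category.comp_id, hq, ← hz, AlgSp.Points.map_ofPt]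
    have : Smooth q.left := h.1 i (b ≫ pullback.fst (g i).hom a) a q
      (MorphismProperty.comp_mem _ _ _ hb (MorphismProperty.of_isPullback sq.flip ha)) ha
      (by rw [Category.assoc, sq.w, hq, Category.assoc])
    obtain ⟨T, t, s, ht, hts, m, hm⟩ := Groth.Agent.S0412.result q.left x ⟨w, hw⟩
    let T' : Over S := Over.mk (t ≫ U.hom)
    let t' : T' ⟶ U := Over.homMk t
    let m' : T' ⟶ W := Over.homMk m (by
      show m ≫ W.hom = t ≫ U.hom
      rw [← Over.w q, ← Category.assoc, hm])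
    refine ⟨T', t', i, (AlgSp.yon S).map m' ≫ b ≫ pullback.fst (g i).hom a, ht, ⟨s, hts⟩, ?_⟩
    rw [Category.assoc, Category.assoc, sq.w, ← Category.assoc b, ← hq, ← Category.assoc, ← Functor.map_comp]
    congr 2
    exact Over.OverMorphism.ext hm
  choose T t i l het hx hl using key
  refine ⟨↥U.left, fun x => ⟨(AlgSp.yon S).obj (T x), AlgSp.IsAlgSpace.yon_obj (T x)⟩,
    fun x => ObjectProperty.homMk ((AlgSp.yon S).map (t x) ≫ a), ⟨fun x => ?_, fun p => ?_⟩,
    fun x => ⟨i x, ObjectProperty.homMk (l x), ObjectProperty.hom_ext _ (hl x)⟩⟩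
  · exact Groth.Agent.AlgSpLib.isEtaleMor_of_repWith (Groth.Agent.AlgSpLib.repWith_yon_comp (t x) (het x) ha)
  · obtain ⟨u, rfl⟩ := Groth.Agent.AlgSpLib.surjective_ofPt has p
    obtain ⟨s, hs⟩ := hx u
    refine ⟨u, AlgSp.Points.ofPt (𝟙 _) s, ?_⟩
    show AlgSp.Points.map ((AlgSp.yon S).map (t u) ≫ a) _ = _
    rw [Groth.Agent.AlgSpLib.map_ofPt_id, Groth.Agent.AlgSpLib.ofPt_comp, hs]

end Groth.Agent.S10509
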