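import Groth.Statements.S10510
import Groth.Agent.AlgSpLargestOpen.SourceLocalLocP
-- import your own Groth.Agent.* helpers here

set_option autoImplicit false
set_option backward.isDefEq.respectTransparency.types false
universe u
open CategoryTheory CategoryTheory.Limits AlgebraicGeometry
open AlgSp

namespace Groth.Agent.S10510

/-- An fppf covering `{X_i ⟶ X}` of an algebraic space `X` over `S` by algebraic spaces is jointly
surjective as a family of maps of fppf sheaves: every `h_T ⟶ X` from a scheme `T` over `S` lifts,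
locally for the fppf topology on `T`, through members of the family. -/
theorem result {S : Scheme.{u}} (X : AlgSp.Space S) {ι : Type u}
    (Xi : ι → AlgSp.Space S) (g : ∀ i, Xi i ⟶ X)
    (h : AlgSp.IsFppfCover (fun i => (Xi i).obj) (fun i => (g i).hom))
    (T : Over S) (t : (AlgSp.yon S).obj T ⟶ X.obj) :
    ∃ (κ : Type u) (Tk : κ → Over S) (c : ∀ k, Tk k ⟶ T),
      Sieve.ofArrows Tk c ∈ AlgSp.J S T ∧
      ∀ k, ∃ (i : ι) (l : (AlgSp.yon S).obj (Tk k) ⟶ (Xi i).obj), l ≫ (g i).hom = (AlgSp.yon S).map (c k) ≫ t := by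
  have key : ∀ i, ∃ (W : Over S) (w : (AlgSp.yon S).obj W ⟶ pullback (g i).hom t) (j : W ⟶ T),
      AlgSp.RepWith @Etale w ∧ AlgSp.RepWith @Surjective w ∧
      (AlgSp.yon S).map j = w ≫ pullback.snd (g i).hom t := fun i => by
    obtain ⟨W, w, hw, hws⟩ := (Groth.Agent.AlgSpLib.isAlgSpace_of_isPullback
      (IsPullback.of_hasPullback (g i).hom t) (Xi i).property (IsAlgSpace.yon_obj T) X.property).atlas
    obtain ⟨j, hj⟩ := (AlgSp.yon S).map_surjective (w ≫ pullback.snd (g i).hom t)
    exact ⟨W, w, j, hw, hws, hj⟩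
  choose W w j hw hws hj using key
  refine ⟨ι, W, j, ?_, fun i => ⟨i, w i ≫ pullback.fst (g i).hom t, by
    rw [hj, Category.assoc, Category.assoc, pullback.condition]⟩⟩
  have hQ : ∀ i, Flat (j i).left ∧ LocallyOfFinitePresentation (j i).left := fun i => by
    have e : w i ≫ pullback.snd (g i).hom t = (AlgSp.yon S).map (j i) ≫ 𝟙 _ := by
      rw [hj, Category.comp_id]
    have hf := Groth.Agent.AlgSpLib.locP_baseChange (Xi i).property X.property (IsAlgSpace.yon_obj T)
      (IsPullback.of_hasPullback (g i).hom t) (h.1 i).1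
    have hp := Groth.Agent.AlgSpLib.locP_baseChange (Xi i).property X.property (IsAlgSpace.yon_obj T)
      (IsPullback.of_hasPullback (g i).hom t) (h.1 i).2
    exact ⟨hf (w i) (𝟙 _) (j i) (hw i) (AlgSp.repWith_id _ T) e,
      hp (w i) (𝟙 _) (j i) (hw i) (AlgSp.repWith_id _ T) e⟩
  rw [GrothendieckTopology.mem_over_iff, Sieve.overEquiv_ofArrows]
  exact Precoverage.generate_mem_toGrothendieck ((Scheme.ofArrows_mem_precoverage_iff _).2
    ⟨fun z => Groth.Agent.AlgSpLargestOpen.exists_mem_range_of_cover h.2 hws hj z, fun i => hQ i⟩)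

end Groth.Agent.S10510
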