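import Groth.Statements.S10529
import Groth.Agent.AlgSpLib.FpqcLocalRep
-- import your own Groth.Agent.* helpers here

set_option autoImplicit false
set_option backward.isDefEq.respectTransparency.types false
universe u
open CategoryTheory CategoryTheory.Limits AlgebraicGeometry
open AlgSp

namespace Groth.Agent.S10529

/-- The property of morphisms of algebraic spaces over S given by f is of finite presentation (locally
of finite presentation on etale charts, quasi-compact and quasi-separated) is fpqc local on the
base: for an fpqc covering of an algebraic space Y by algebraic spaces Y_i, a morphism f : X ⟶ Y of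
algebraic spaces and cartesian squares X_i = Y_i ×_Y X, f has the property if and only if every X_i
⟶ Y_i has it. -/
theorem result (S : Scheme.{u}) :
    AlgSp.IsLocalOnBase (AlgSp.IsFpqcCover (S := S)) AlgSp.IsFinitePresentationMor := by
  have := Groth.Agent.FpqcDescent.quasiCompact_descendsAlong.{u}
  exact Groth.Agent.AlgSpLib.isLocalOnBase_and Groth.Agent.AlgSpLib.isLocalOnBase_locP
    (Groth.Agent.AlgSpLib.isLocalOnBase_and Groth.Agent.AlgSpLib.isLocalOnBase_isQuasiCompactMor
      Groth.Agent.AlgSpLib.isLocalOnBase_repWith_diagonal)

end Groth.Agent.S10529
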