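import Groth.Statements.S10533
import Groth.Agent.AlgSpLib.AffineRep
-- import your own Groth.Agent.* helpers here

set_option autoImplicit false
set_option backward.isDefEq.respectTransparency.types false
universe u
open CategoryTheory CategoryTheory.Limits AlgebraicGeometry
open AlgSp

namespace Groth.Agent.S10533

/-- The property of morphisms of algebraic spaces over S given by f is affine (every base change to an
affine scheme is an affine scheme) is fpqc local on the base: for an fpqc covering of an algebraic
space Y by algebraic spaces Y_i, a morphism f : X ⟶ Y of algebraic spaces and cartesian squares X_i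
= Y_i ×_Y X, f has the property if and only if every X_i ⟶ Y_i has it. -/
theorem result (S : Scheme.{u}) :
    AlgSp.IsLocalOnBase (AlgSp.IsFpqcCover (S := S)) AlgSp.IsAffineMor := by
  have e : ∀ {F G : AlgSp.Sp S} (f : F ⟶ G), AlgSp.IsAffineMor f ↔ Groth.Agent.AlgSpLib.AffRep ⊤ f := fun f => by
    constructor
    · intro h Z hZ g
      obtain ⟨W, i, fst, s, hW⟩ := h hZ g
      exact ⟨W, i, fst, s, hW, trivial⟩
    · intro h Z hZ g
      obtain ⟨W, i, fst, s, hW, -⟩ := h hZ g
      exact ⟨W, i, fst, s, hW⟩
  intro ι Y Yi g hY hYi hg X f hX Xi p q hXi sq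
  simp only [e]
  exact Groth.Agent.AlgSpLib.isLocalOnBase_affRep (P := ⊤) Yi g hY hYi hg f hX Xi p q hXi sq

end Groth.Agent.S10533
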