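import Groth.Statements.S10549
import Groth.Agent.AlgSpLib.LocPCover
import Groth.Agent.FppfSource.Etale

set_option autoImplicit false
universe u
open CategoryTheory CategoryTheory.Limits AlgebraicGeometry
open AlgSp

namespace Groth.Agent.S10549

/-- The property of morphisms of algebraic spaces over S given by f is locally of finite presentation
(on etale charts) is fppf local on the source: for a morphism f : X ⟶ Y of algebraic spaces and a
fppf covering of X by algebraic spaces X_i, f has the property if and only if every composite X_i ⟶
X ⟶ Y has it. -/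
theorem result (S : Scheme.{u}) :
    AlgSp.IsLocalOnSource (AlgSp.IsFppfCover (S := S)) (AlgSp.LocP @LocallyOfFinitePresentation) := by
  intro ι X Xi g hX hXi hg Y f hY
  refine ⟨fun h i => Groth.Agent.AlgSpLib.locP_comp (hXi i) hX hY ?_ h,
    fun h => Groth.Agent.AlgSpLib.locP_of_cover (M := @Flat ⊓ @LocallyOfFinitePresentation) hX hY hXi hg.2
      (fun i U V a b k ha hb w => ⟨(hg.1 i).1 a b k ha hb w, (hg.1 i).2 a b k ha hb w⟩) h
      fun _ _ _ k m hk hs hm => @FppfSource.locallyOfFinitePresentation_of_comp _ _ _ k m hk.1 hk.2 hs hm⟩
  exact (hg.1 i).2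

end Groth.Agent.S10549
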