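import Groth.Statements.S1055
import Groth.Agent.LBC.Basic
import Groth.Agent.ModGroth.LpullComp
import Groth.Agent.ModGroth.TildeStalk
import Groth.Agent.QCohLib.Pullback
import Groth.Agent.DCohPerf.Fibre

set_option autoImplicit false
universe u
open CategoryTheory CategoryTheory.Limits AlgebraicGeometry Opposite
attribute [local instance] HasDerivedCategory.standard
open Perf

namespace Groth.Agent.S1055

lemma aux {R S : CommRingCat.{u}} (ψ : R ⟶ S)
    [PreservesFiniteLimits (tilde.functor R)] [PreservesFiniteLimits (tilde.functor S)]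
    [DRing.HasLBaseChange ψ.hom] [DCoh.HasLpull (Spec.map ψ)] :
    Nonempty (DRing.LBaseChange ψ.hom ⋙ (tilde.functor S).mapDerivedCategory ≅
      (tilde.functor R).mapDerivedCategory ⋙ DCoh.Lpull (Spec.map ψ)) := by
  let W := HomologicalComplex.quasiIso (ModuleCat.{u} R) (ComplexShape.up ℤ)
  let QA : DRing.Cx R ⥤ Dual.D R := DerivedCategory.Q
  let QB : DRing.Cx S ⥤ Dual.D S := DerivedCategory.Q
  let QSA : CochainComplex (Spec R).Modules ℤ ⥤ DCoh.D (Spec R) := DerivedCategory.Q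
  let QSB : CochainComplex (Spec S).Modules ℤ ⥤ DCoh.D (Spec S) := DerivedCategory.Q
  let TA := ModGroth.Stalk.tcxS R
  let TB := ModGroth.Stalk.tcxS S
  have : QA.IsLocalization W :=
    inferInstanceAs ((DerivedCategory.Q : DRing.Cx R ⥤ Dual.D R).IsLocalization W)
  let c : QA ⋙ DRing.LBaseChange ψ.hom ⟶ LBC.ext ψ.hom ⋙ QB :=
    ModGroth.DerivedLeft.comparison (hK := ‹DRing.HasLBaseChange ψ.hom›)
      (ModuleCat.extendScalars.{u, u, u} ψ.hom)
  let cf : QSA ⋙ DCoh.Lpull (Spec.map ψ) ⟶ ModGroth.Stalk.pcx (Spec.map ψ) ⋙ QSB :=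
    ModGroth.DerivedLeft.comparison (hK := ‹DCoh.HasLpull (Spec.map ψ)›)
      (Scheme.Modules.pullback (Spec.map ψ))
  let eA : QA ⋙ (tilde.functor R).mapDerivedCategory ≅ TA ⋙ QSA := (tilde.functor R).mapDerivedCategoryFactors
  let eB : QB ⋙ (tilde.functor S).mapDerivedCategory ≅ TB ⋙ QSB := (tilde.functor S).mapDerivedCategoryFactors
  let e : TA ⋙ ModGroth.Stalk.pcx (Spec.map ψ) ≅ LBC.ext ψ.hom ⋙ TB :=
    Functor.mapHomologicalComplexCompIso (QCohLib.pullbackTildeIso ψ).symm (ComplexShape.up ℤ) ≪≫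
      (Functor.mapHomologicalComplexCompIso (Iso.refl _) (ComplexShape.up ℤ)).symm
  let Φ : DRing.Cx R ⥤ DCoh.D (Spec S) := LBC.ext ψ.hom ⋙ TB ⋙ QSB
  let α : QA ⋙ (DRing.LBaseChange ψ.hom ⋙ (tilde.functor S).mapDerivedCategory) ⟶ Φ :=
    Functor.whiskerRight c (tilde.functor S).mapDerivedCategory ≫ Functor.whiskerLeft (LBC.ext ψ.hom) eB.hom
  let β : QA ⋙ ((tilde.functor R).mapDerivedCategory ⋙ DCoh.Lpull (Spec.map ψ)) ⟶ Φ :=
    Functor.whiskerRight eA.hom (DCoh.Lpull (Spec.map ψ)) ≫ Functor.whiskerLeft TA cf ≫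
      Functor.whiskerRight e.hom QSB
  have hA : ModGroth.DerivedLeft.GoodInverts (ModuleCat.extendScalars.{u, u, u} ψ.hom) (KFlat.res R) :=
    fun X Y g hX hY hg => LBC.quasiIso_ext_of_kFlat ψ.hom hX hY g hg
  have hΦ : (KFlat.res R).Inverts Φ := fun X Y g hX hY hg => by
    have hi : IsIso (QB.map ((LBC.ext ψ.hom).map g)) := KFlat.isIso_Q_map _
      (LBC.quasiIso_ext_of_kFlat ψ.hom hX hY g ((HomologicalComplex.mem_quasiIso_iff _).1 hg))
    exact (NatIso.isIso_map_iff (Functor.isoWhiskerLeft (LBC.ext ψ.hom) eB) g).1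
      (inferInstanceAs (IsIso ((tilde.functor S).mapDerivedCategory.map (QB.map ((LBC.ext ψ.hom).map g)))))
  have hc : ∀ K, (KFlat.res R).good K → IsIso (c.app K) := fun K hK =>
    ModGroth.DerivedLeft.isIso_comparison (hK := ‹DRing.HasLBaseChange ψ.hom›) hA hK
  have h1 : (DRing.LBaseChange ψ.hom ⋙ (tilde.functor S).mapDerivedCategory).IsLeftDerivedFunctor α W :=
    (KFlat.res R).isLeftDerivedFunctor_of_isIso QA hΦ _ α fun K hK => by
      have := hc K hK
      exact IsIso.comp_isIso' (Functor.map_isIso (tilde.functor S).mapDerivedCategory (c.app K))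
        (inferInstanceAs (IsIso (eB.hom.app ((LBC.ext ψ.hom).obj K))))
  have h2 : ((tilde.functor R).mapDerivedCategory ⋙ DCoh.Lpull (Spec.map ψ)).IsLeftDerivedFunctor β W :=
    (KFlat.res R).isLeftDerivedFunctor_of_isIso QA hΦ _ β fun K hK => by
      have i2 : IsIso (cf.app (TA.obj K)) :=
        ModGroth.DerivedLeft.isIso_comparison (hK := ‹DCoh.HasLpull (Spec.map ψ)›)
          (ModGroth.Stalk.goodInverts_pullback (Spec.map ψ)) (ModGroth.Stalk.isKFlat_tilde hK)
      exact IsIso.comp_isIso' (Functor.map_isIso (DCoh.Lpull (Spec.map ψ)) (eA.hom.app K))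
        (IsIso.comp_isIso' i2 (Functor.map_isIso QSB (e.hom.app K)))
  exact ⟨Functor.leftDerivedUnique _ _ α β W⟩

/-- Let φ : A → B be a ring map and f : Spec B ⟶ Spec A the corresponding morphism. Assuming the derived
functors involved exist (and tilde is recorded as exact), derived base change - ⊗^L_A B : D(A) ⥤
D(B) followed by M ↦ M~ is isomorphic to M ↦ M~ followed by Lf^*. -/
theorem result {A B : Type u} [CommRing A] [CommRing B] (φ : A →+* B)
    [PreservesFiniteLimits (tilde.functor (CommRingCat.of A))] [PreservesFiniteLimits (tilde.functor (CommRingCat.of B))]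
    [DRing.HasLBaseChange φ] [DCoh.HasLpull (Spec.map (CommRingCat.ofHom φ))] :
    Nonempty (DRing.LBaseChange φ ⋙ DCoh.tildeD (CommRingCat.of B) ≅
      DCoh.tildeD (CommRingCat.of A) ⋙ DCoh.Lpull (Spec.map (CommRingCat.ofHom φ))) :=
  aux (CommRingCat.ofHom φ)

end Groth.Agent.S1055
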