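import Groth.Statements.S10552
import Groth.Agent.AlgSpLib.LocPCover
-- import your own Groth.Agent.* helpers here

set_option autoImplicit false
set_option backward.isDefEq.respectTransparency.types false
universe u
open CategoryTheory CategoryTheory.Limits AlgebraicGeometry
open AlgSp

namespace Groth.Agent.S10552

/-- The property of morphisms of algebraic spaces over S given by f is universally open (every base
change along a morphism from an algebraic space is open on points) is fppf local on the source: for
a morphism f : X ⟶ Y of algebraic spaces and a fppf covering of X by algebraic spaces X_i, f has the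
property if and only if every composite X_i ⟶ X ⟶ Y has it. -/
theorem result (S : Scheme.{u}) :
    AlgSp.IsLocalOnSource (AlgSp.IsFppfCover (S := S)) AlgSp.IsUnivOpenMor := by
  intro ι X Xi g hX hXi hg Y f hY
  exact Groth.Agent.AlgSpLib.isUnivOpenMor_iff_of_cover hX hY hXi hg.2
    (fun i => Groth.Agent.AlgSpLib.locP_inf (hg.1 i).1 (hg.1 i).2) f

end Groth.Agent.S10552
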