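import Groth.Statements.S10553
import Groth.Agent.AlgSpLib.LocPCover
-- import your own Groth.Agent.* helpers here

set_option autoImplicit false
set_option backward.isDefEq.respectTransparency.types false
universe u
open CategoryTheory CategoryTheory.Limits AlgebraicGeometry
open AlgSp

namespace Groth.Agent.S10553

/-- The property of morphisms of algebraic spaces over S given by f is smooth (on etale charts) is
smooth local on the source: for a morphism f : X ⟶ Y of algebraic spaces and a smooth covering of X
by algebraic spaces X_i, f has the property if and only if every composite X_i ⟶ X ⟶ Y has it. -/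
theorem result (S : Scheme.{u}) :
    AlgSp.IsLocalOnSource (AlgSp.IsSmCover (S := S)) (AlgSp.LocP @Smooth) := by
  intro ι X Xi g hX hXi hg Y f hY
  exact ⟨fun h i => Groth.Agent.AlgSpLib.locP_comp (hXi i) hX hY (hg.1 i) h,
    fun h => Groth.Agent.AlgSpLib.locP_of_cover hX hY hXi hg.2 hg.1 h
      fun _ _ _ k m hk hs hm => Groth.Agent.SourceDescent.smooth_of_comp k m⟩

end Groth.Agent.S10553
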