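import Groth.Statements.S10554
import Groth.Agent.AlgSpLib.LocPCover
-- import your own Groth.Agent.* helpers here

set_option autoImplicit false
set_option backward.isDefEq.respectTransparency.types false
universe u
open CategoryTheory CategoryTheory.Limits AlgebraicGeometry
open AlgSp

namespace Groth.Agent.S10554

/-- The property of morphisms of algebraic spaces over S given by f is etale (composition with every
representable etale map from a scheme is representable etale) is etale local on the source: for a
morphism f : X ⟶ Y of algebraic spaces and a etale covering of X by algebraic spaces X_i, f has the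
property if and only if every composite X_i ⟶ X ⟶ Y has it. -/
theorem result (S : Scheme.{u}) :
    AlgSp.IsLocalOnSource (AlgSp.IsEtCover (S := S)) AlgSp.IsEtaleMor := by
  intro ι X Xi g hX hXi hg Y f hY
  have hg' : ∀ i, LocP @Etale (g i) := fun i => (Groth.Agent.AlgSpLib.isEtaleMor_iff_locP hX).1 (hg.1 i)
  simp only [Groth.Agent.AlgSpLib.isEtaleMor_iff_locP hY]
  exact ⟨fun h i => Groth.Agent.AlgSpLib.locP_comp (hXi i) hX hY (hg' i) h,
    fun h => Groth.Agent.AlgSpLib.locP_of_cover hX hY hXi hg.2 hg' h
      fun _ _ _ k m hk hs hm => Groth.Agent.AlgSpLib.EtLocal.desc k m hk hs hm⟩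

end Groth.Agent.S10554
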