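import Groth.Statements.S10557
import Groth.Agent.AlgSpPts.LocSurj


set_option autoImplicit false
universe u
open CategoryTheory CategoryTheory.Limits AlgebraicGeometry
open AlgSp

namespace Groth.Agent.S10557

/-- Let g : X ⟶ Y and h : Y ⟶ Z be morphisms of algebraic spaces over S with g a surjection of fppf
sheaves (locally surjective for the fppf topology). For P one of flat, locally of finite type,
locally of finite presentation (checked on etale charts): if the composite X ⟶ Z has P then h has P. -/
theorem result {S : Scheme.{u}} {X Y Z : AlgSp.Space S} (g : X ⟶ Y) (h : Y ⟶ Z)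
    (hg : Sheaf.IsLocallySurjective g.hom) :
    (AlgSp.LocP @Flat (g ≫ h).hom → AlgSp.LocP @Flat h.hom) ∧
    (AlgSp.LocP @LocallyOfFiniteType (g ≫ h).hom → AlgSp.LocP @LocallyOfFiniteType h.hom) ∧
    (AlgSp.LocP @LocallyOfFinitePresentation (g ≫ h).hom →
      AlgSp.LocP @LocallyOfFinitePresentation h.hom) := by
  refine ⟨Groth.Agent.AlgSpPts.locP_of_locallySurjective_comp ?_ X.property Y.property Z.property hg,
    Groth.Agent.AlgSpPts.locP_of_locallySurjective_comp ?_ X.property Y.property Z.property hg,
    Groth.Agent.AlgSpPts.locP_of_locallySurjective_comp ?_ X.property Y.property Z.property hg⟩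
  · intro A B C D f m g l hgf hgp hgs e hfm
    exact Groth.Agent.SourceDescent.flat_of_comp_refined f m g l e
  · intro A B C D f m g l hgf hgp hgs e hfm
    have : LocallyOfFiniteType (l ≫ f) := by rw [e]; infer_instance
    have : LocallyOfFiniteType l := locallyOfFiniteType_of_comp l f
    have : LocallyOfFiniteType (g ≫ m) := by rw [← e, Category.assoc]; infer_instance
    exact Groth.Agent.FppfSource.locallyOfFiniteType_of_comp g m
  · intro A B C D f m g l hgf hgp hgs e hfm
    have : LocallyOfFiniteType f := locallyOfFiniteType_of_comp f m
    have : LocallyOfFinitePresentation (l ≫ f) := by rw [e]; infer_instance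
    have : LocallyOfFinitePresentation l := Groth.Agent.AlgSpLib.locallyOfFinitePresentation_of_comp l f inferInstance inferInstance
    have : LocallyOfFinitePresentation (g ≫ m) := by rw [← e, Category.assoc]; infer_instance
    exact Groth.Agent.FppfSource.locallyOfFinitePresentation_of_comp g m

end Groth.Agent.S10557
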