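import Groth.Statements.S10560
import Groth.Agent.AlgSpLib.LocPCover
import Groth.Agent.FppfSource.Etale

set_option autoImplicit false
universe u
open CategoryTheory CategoryTheory.Limits AlgebraicGeometry
open AlgSp

namespace Groth.Agent.S10560

/-- Let f : X ⟶ Y and q : Y ⟶ B be morphisms of algebraic spaces over S with f surjective, flat and
locally of finite presentation. If f ≫ q is smooth then q is smooth; if f ≫ q is etale then q is
etale. -/
theorem result {S : Scheme.{u}} {X Y B : AlgSp.Space S} (f : X ⟶ Y) (q : Y ⟶ B)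
    (hs : AlgSp.IsSurjectiveMor f.hom) (hfl : AlgSp.LocP @Flat f.hom)
    (hfp : AlgSp.LocP @LocallyOfFinitePresentation f.hom) :
    (AlgSp.LocP @Smooth (f ≫ q).hom → AlgSp.LocP @Smooth q.hom) ∧
    (AlgSp.IsEtaleMor (f ≫ q).hom → AlgSp.IsEtaleMor q.hom) := by
  refine ⟨fun hh => ?_, fun hh => ?_⟩
  · exact Groth.Agent.AlgSpLib.locP_of_cover (M := @Flat ⊓ @LocallyOfFinitePresentation) (ι := PUnit) (g := fun _ => f.hom)
      Y.property B.property (fun _ => X.property) (fun y => ⟨⟨⟩, hs y⟩)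
      (fun _ U V a b k ha hb w => ⟨hfl a b k ha hb w, hfp a b k ha hb w⟩) (fun _ => hh)
      fun _ _ _ k m hk hs hm => @FibrewiseCrit.smooth_of_fppf_comp _ _ _ k m hs hk.1 hk.2 hm
  · refine (Groth.Agent.AlgSpLib.isEtaleMor_iff_locP B.property).2 ?_
    exact Groth.Agent.AlgSpLib.locP_of_cover (M := @Flat ⊓ @LocallyOfFinitePresentation) (ι := PUnit) (g := fun _ => f.hom)
      Y.property B.property (fun _ => X.property) (fun y => ⟨⟨⟩, hs y⟩)
      (fun _ U V a b k ha hb w => ⟨hfl a b k ha hb w, hfp a b k ha hb w⟩) (fun _ => ((Groth.Agent.AlgSpLib.isEtaleMor_iff_locP B.property).1 hh))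
      fun _ _ _ k m hk hs hm => @FppfSource.etale_of_comp _ _ _ k m hk.1 hk.2 hs hm

end Groth.Agent.S10560
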