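import Groth.Statements.S10573
import Groth.Agent.AlgSpLib.LocPCover
import Groth.Agent.AlgSpLib.FpqcTest
-- import your own Groth.Agent.* helpers here

set_option autoImplicit false
universe u
open CategoryTheory CategoryTheory.Limits AlgebraicGeometry
open AlgSp

namespace Groth.Agent.S10573

/-- Let {g_i : T_i ⟶ T} be a family of algebraic spaces over S forming an fpqc covering, and let W_i ⊂
|T_i| be open subsets (open subspaces) such that for all i, j the two projections T_i ×_T T_j ⟶ T_i,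
T_j pull W_i and W_j back to the same subset of |T_i ×_T T_j|. Then there is a unique open subset W
⊂ |T| with g_i⁻¹(W) = W_i for every i. -/
theorem result {S : Scheme.{u}} {ι : Type u} {T : AlgSp.Space S}
    (Ti : ι → AlgSp.Space S) (g : ∀ i, Ti i ⟶ T)
    (hg : AlgSp.IsFpqcCover (fun i => (Ti i).obj) (fun i => (g i).hom))
    (Wi : ∀ i, Set (AlgSp.Points (Ti i).obj)) (hW : ∀ i, IsOpen (Wi i))
    (hc : ∀ i j, AlgSp.Points.map (pullback.fst (g i).hom (g j).hom) ⁻¹' Wi i =
      AlgSp.Points.map (pullback.snd (g i).hom (g j).hom) ⁻¹' Wi j) :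
    ∃! W : TopologicalSpace.Opens (AlgSp.Points T.obj), ∀ i, AlgSp.Points.map (g i).hom ⁻¹' (W : Set (AlgSp.Points T.obj)) = Wi i := by
  let O : Set (AlgSp.Points T.obj) := ⋃ i, AlgSp.Points.map (g i).hom '' Wi i
  have hpre : ∀ i, AlgSp.Points.map (g i).hom ⁻¹' O = Wi i := by
    intro i
    refine Set.Subset.antisymm (fun y hy => ?_) fun y hy => Set.mem_iUnion.2 ⟨i, y, hy, rfl⟩
    obtain ⟨j, z, hz, e⟩ := Set.mem_iUnion.1 hy
    obtain ⟨p, h₁, h₂⟩ := Groth.Agent.AlgSpLib.exists_point_of_isPullback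
      (IsPullback.of_hasPullback (g i).hom (g j).hom) y z e.symm
    have : p ∈ AlgSp.Points.map (pullback.snd (g i).hom (g j).hom) ⁻¹' Wi j := by
      rw [Set.mem_preimage, h₂]
      exact hz
    rw [← hc i j, Set.mem_preimage, h₁] at this
    exact this
  have hO : IsOpen O := by
    refine Groth.Agent.AlgSpLib.isOpen_of_tests hg T.property (𝟙 _) O fun W ψ hψ => ?_
    obtain ⟨-, i, l, hl⟩ := hψ
    rw [Category.comp_id] at hl
    have : AlgSp.Points.map ψ ⁻¹' O = AlgSp.Points.map l ⁻¹' Wi i := by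
      rw [← hl, ← hpre i]
      ext x
      simp only [Set.mem_preimage, AlgSp.Points.map_comp]
    rw [this]
    exact (hW i).preimage (AlgSp.Points.continuous_map l)
  refine ⟨⟨O, hO⟩, hpre, fun W hW' => TopologicalSpace.Opens.ext (Set.ext fun x => ?_)⟩
  obtain ⟨i, y, rfl⟩ := Groth.Agent.AlgSpLib.surjective_of_isFpqcCover hg x
  show y ∈ AlgSp.Points.map (g i).hom ⁻¹' (W : Set (AlgSp.Points T.obj)) ↔ y ∈ AlgSp.Points.map (g i).hom ⁻¹' O
  rw [hW' i, hpre i]

end Groth.Agent.S10573
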