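import Groth.Statements.S10580
import Groth.Agent.AlgSpLargestOpen.SourceLocalLocP
-- import your own Groth.Agent.* helpers here

set_option autoImplicit false
universe u
open CategoryTheory CategoryTheory.Limits AlgebraicGeometry
open AlgSp

namespace Groth.Agent.S10580

/-- Let P be a property of morphisms of schemes and P_spaces the induced property of morphisms of
algebraic spaces over S (P on every etale chart diagram). For τ one of fpqc, fppf, smooth, etale: if
P is τ local on the source for morphisms of schemes, then P_spaces is τ local on the source for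
morphisms of algebraic spaces. (The published statement assumes P etale local on the
source-and-target, which is what makes the chart-wise property the right notion; the implication
itself holds for every P and is stated that way. The syntomic case is not included. τ-locality on
the source for schemes is taken in the form that includes invariance of P under isomorphisms, which
the published definition requires implicitly.) -/
theorem result (S : Scheme.{u}) (P : MorphismProperty Scheme.{u}) :
    (P.IsLocalAtSource Scheme.fpqcPrecoverage → AlgSp.IsLocalOnSource (AlgSp.IsFpqcCover (S := S)) (AlgSp.LocP P)) ∧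
    (P.IsLocalAtSource Scheme.fppfPrecoverage → AlgSp.IsLocalOnSource (AlgSp.IsFppfCover (S := S)) (AlgSp.LocP P)) ∧
    (P.IsLocalAtSource (Scheme.precoverage @Smooth) → AlgSp.IsLocalOnSource (AlgSp.IsSmCover (S := S)) (AlgSp.LocP P)) ∧
    (P.IsLocalAtSource Scheme.etalePrecoverage → AlgSp.IsLocalOnSource (AlgSp.IsEtCover (S := S)) (AlgSp.LocP P)) := by
  refine ⟨fun h => ?_, fun h => ?_, fun h => ?_, fun h => ?_⟩
  · exact Groth.Agent.AlgSpLargestOpen.isLocalOnSource_locP_fpqc
  · haveI : P.IsLocalAtSource (Scheme.precoverage (@Flat ⊓ @LocallyOfFinitePresentation)) := h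
    exact Groth.Agent.AlgSpLargestOpen.isLocalOnSource_locP_of_precoverage (@Flat ⊓ @LocallyOfFinitePresentation)
      (fun _ _ g => AlgSp.LocP @Flat g ∧ AlgSp.LocP @LocallyOfFinitePresentation g)
      (fun _ _ _ _ hg U V a b j ha hb w => ⟨hg.1 a b j ha hb w, hg.2 a b j ha hb w⟩)
  · exact Groth.Agent.AlgSpLargestOpen.isLocalOnSource_locP_of_precoverage @Smooth (AlgSp.LocP @Smooth)
      (fun _ _ _ _ hg => hg)
  · haveI : P.IsLocalAtSource (Scheme.precoverage @Etale) := h
    exact Groth.Agent.AlgSpLargestOpen.isLocalOnSource_locP_of_precoverage @Etale AlgSp.IsEtaleMor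
      (fun _ _ _ hG hg => (Groth.Agent.AlgSpLib.isEtaleMor_iff_locP hG).1 hg)

end Groth.Agent.S10580
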