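import Groth.Statements.S10582
import Groth.Agent.AlgSpLib.EtaleMono
-- import your own Groth.Agent.* helpers here

set_option autoImplicit false
set_option backward.isDefEq.respectTransparency.types false
universe u
open CategoryTheory CategoryTheory.Limits AlgebraicGeometry
open AlgSp

namespace Groth.Agent.S10582

/-- A monomorphism of algebraic spaces that is quasi-compact, flat and surjective is an isomorphism. -/
theorem result {S : Scheme.{u}} {X Y : AlgSp.Space S} (f : X ⟶ Y)
    (hqc : AlgSp.IsQuasiCompactMor f.hom) (hflat : AlgSp.LocP @Flat f.hom) (hsurj : AlgSp.IsSurjectiveMor f.hom)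
    [Mono f.hom] : IsIso f.hom := by
  open AlgSp Groth.Agent.AlgSpLib in
  have hcov : IsFpqcCover (fun _ : PUnit.{u + 1} => X.obj) (fun _ => f.hom) := by
    refine ⟨fun _ => hflat, fun Z hZ h => ?_⟩
    have sq := IsPullback.of_hasPullback f.hom h
    have hP := isAlgSpace_of_isPullback sq X.property (IsAlgSpace.yon_obj Z) Y.property
    have hZq : IsQuasiCompactSp ((yon S).obj Z) := (isQuasiCompactSp_iff_affine (IsAlgSpace.yon_obj Z)).2
      ⟨Z, 𝟙 _, hZ, repWith_id _ Z, repWith_id _ Z⟩
    obtain ⟨U, a, hU, ha, has⟩ := (isQuasiCompactSp_iff_affine hP).1 (hqc (IsAlgSpace.yon_obj Z) hZq h _ _ sq)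
    obtain ⟨c, hc⟩ := (yon S).map_surjective (a ≫ pullback.snd f.hom h)
    refine ⟨1, fun _ => U, fun _ => c, fun _ => hU, fun _ => ?_, fun z => ?_, fun _ => ⟨⟨⟩, a ≫ pullback.fst f.hom h, ?_⟩⟩
    · exact locP_baseChange X.property Y.property (IsAlgSpace.yon_obj Z) sq hflat a (𝟙 _) c ha
        (repWith_id _ Z) (by simp [hc])
    · have hs : RepWith @Surjective ((yon S).map c) := repWith_surjective_of_map
        ((IsAlgSpace.yon_obj Z).representable_from_yon _) fun x => by
        obtain ⟨y, rfl⟩ := surjective_snd sq hsurj x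
        obtain ⟨t, rfl⟩ := surjective_map_of_repWith has y
        exact ⟨t, by rw [hc, Points.map_comp]⟩
      have : Surjective c.left := (repWith_yon_map_iff _ _).1 hs
      exact ⟨0, c.left.surjective z⟩
    · rw [hc, Category.assoc, Category.assoc, pullback.condition]
  have hiso : IsIso f.hom := (Groth.Agent.AlgSpLib.isLocalOnBase_isomorphisms S (fun _ : PUnit.{u + 1} => X.obj) (fun _ => f.hom) Y.property (fun _ => X.property) hcov f.hom X.property
    (fun _ => X.obj) (fun _ => 𝟙 _) (fun _ => 𝟙 _) (fun _ => X.property)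
    (fun _ => IsKernelPair.id_of_mono f.hom)).2 fun _ => inferInstanceAs (IsIso (𝟙 X.obj))
  exact hiso

end Groth.Agent.S10582
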