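import Groth.Statements.S10603
import Groth.Agent.FlatDescent.AlgSp
import Groth.Agent.SourceDescent.Basic

set_option autoImplicit false
universe u
open CategoryTheory CategoryTheory.Limits AlgebraicGeometry
open AlgSp

namespace Groth.Agent.S10603

/-- Let f : X ⟶ Y and h : Y ⟶ Z be morphisms of algebraic spaces over S. Suppose X is flat and locally
of finite presentation over Z, Y is locally of finite type over Z, and for every field K and every z
: Spec K ⟶ Z the base change X_z ⟶ Y_z of f is flat (fibres taken as pullback squares of fppf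
sheaves). Then f is flat; if moreover f is surjective, then h is flat. -/
theorem result {S : Scheme.{u}} {X Y Z : AlgSp.Space S} (f : X ⟶ Y) (h : Y ⟶ Z)
    (hfp : AlgSp.LocP @LocallyOfFinitePresentation (f ≫ h).hom) (hfl : AlgSp.LocP @Flat (f ≫ h).hom)
    (hft : AlgSp.LocP @LocallyOfFiniteType h.hom)
    (hfib : ∀ (K : Type u) [Field K] (sK : Spec (CommRingCat.of K) ⟶ S)
      (z : (AlgSp.yon S).obj (Over.mk sK) ⟶ Z.obj) (Xz Yz : AlgSp.Sp S)
      (pX : Xz ⟶ X.obj) (qX : Xz ⟶ (AlgSp.yon S).obj (Over.mk sK))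
      (pY : Yz ⟶ Y.obj) (qY : Yz ⟶ (AlgSp.yon S).obj (Over.mk sK)) (fz : Xz ⟶ Yz),
      IsPullback pX qX (f ≫ h).hom z → IsPullback pY qY h.hom z → fz ≫ pY = pX ≫ f.hom → fz ≫ qY = qX →
      AlgSp.LocP @Flat fz) :
    AlgSp.LocP @Flat f.hom ∧ (AlgSp.IsSurjectiveMor f.hom → AlgSp.LocP @Flat h.hom) := by
  open Groth.Agent.AlgSpLib in
  have hf : AlgSp.LocP @Flat f.hom := by
    obtain ⟨W, c, hc, hcs⟩ := Z.property.atlas
    obtain ⟨V, b, k, hb, hbs, wk⟩ := exists_chart_lift Y.property Z.property h.hom c hc hcs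
    obtain ⟨U, a, i, ha, has, wi⟩ := exists_chart_lift X.property Y.property f.hom b hb hbs
    have wik : a ≫ (f ≫ h).hom = (AlgSp.yon S).map (i ≫ k) ≫ c := by
      show a ≫ f.hom ≫ h.hom = _
      rw [← Category.assoc, wi, Category.assoc, wk, Functor.map_comp, Category.assoc]
    have h₁ : Flat (i.left ≫ k.left) := hfl a c (i ≫ k) ha hc wik
    have h₂ : LocallyOfFinitePresentation (i.left ≫ k.left) := hfp a c (i ≫ k) ha hc wik
    have h₃ : LocallyOfFiniteType k.left := hft b c k hb hc wk
    refine locP_of_chart ha has hb wi (Flat.of_stalkMap _ fun x => ?_)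
    exact (Groth.FlatDescent.flat_of_fibFlat i.left k.left x (Flat.stalkMap _ x)
      (Groth.FlatDescent.fibFlat_of_fibres f h hfib ha hb hc wi wk x)).2
  exact ⟨hf, fun hs => Groth.Agent.AlgSpLib.locP_of_comp_surjective X.property Y.property Z.property hs hf hfl
    fun A B C k m hk hks hkm => @SourceDescent.flat_of_comp _ _ _ k m hk hks hkm⟩

end Groth.Agent.S10603
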