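import Groth.Statements.S10604
import Groth.Agent.FlatDescent.AlgSp
import Groth.Agent.SourceDescent.Basic

set_option autoImplicit false
universe u
open CategoryTheory CategoryTheory.Limits AlgebraicGeometry
open AlgSp

namespace Groth.Agent.S10604

/-- Let f : X ⟶ Y and h : Y ⟶ Z be morphisms of algebraic spaces over S with X, Y and Z locally
Noetherian. Assume X is flat over Z and for every field K and every z : Spec K ⟶ Z the base change
X_z ⟶ Y_z of f is flat (fibres taken as pullback squares of fppf sheaves). Then f is flat; if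
moreover f is surjective, then h is flat. -/
theorem result {S : Scheme.{u}} {X Y Z : AlgSp.Space S} (f : X ⟶ Y) (h : Y ⟶ Z)
    (hX : AlgSp.IsLocNoethSp X.obj) (hYn : AlgSp.IsLocNoethSp Y.obj) (hZ : AlgSp.IsLocNoethSp Z.obj)
    (hfl : AlgSp.LocP @Flat (f ≫ h).hom)
    (hfib : ∀ (K : Type u) [Field K] (sK : Spec (CommRingCat.of K) ⟶ S)
      (z : (AlgSp.yon S).obj (Over.mk sK) ⟶ Z.obj) (Xz Yz : AlgSp.Sp S)
      (pX : Xz ⟶ X.obj) (qX : Xz ⟶ (AlgSp.yon S).obj (Over.mk sK))
      (pY : Yz ⟶ Y.obj) (qY : Yz ⟶ (AlgSp.yon S).obj (Over.mk sK)) (fz : Xz ⟶ Yz),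
      IsPullback pX qX (f ≫ h).hom z → IsPullback pY qY h.hom z → fz ≫ pY = pX ≫ f.hom → fz ≫ qY = qX →
      AlgSp.LocP @Flat fz) :
    AlgSp.LocP @Flat f.hom ∧ (AlgSp.IsSurjectiveMor f.hom → AlgSp.LocP @Flat h.hom) := by
  open Groth.Agent.AlgSpLib in
  have hf : AlgSp.LocP @Flat f.hom := by
    obtain ⟨W, c, hc, hcs⟩ := Z.property.atlas
    obtain ⟨V₀, q, hq, hqs, hV₀⟩ := hYn
    obtain ⟨U₀, p, hp, hps, hU₀⟩ := hX
    obtain ⟨V, b, k, β, hβ, hb, hbs, wk⟩ := Groth.FlatDescent.exists_chart_lift_of Z.property h.hom q hq hqs c hc hcs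
    haveI : IsLocallyNoetherian V.left := LocallyOfFiniteType.isLocallyNoetherian β.left
    obtain ⟨U, a, i, γ, hγ, ha, has, wi⟩ := Groth.FlatDescent.exists_chart_lift_of Y.property f.hom p hp hps b hb hbs
    haveI : IsLocallyNoetherian U.left := LocallyOfFiniteType.isLocallyNoetherian γ.left
    have h₁ : Flat (i.left ≫ k.left) := hfl a c (i ≫ k) ha hc (by
      show a ≫ f.hom ≫ h.hom = _
      rw [← Category.assoc, wi, Category.assoc, wk, Functor.map_comp, Category.assoc])
    refine locP_of_chart ha has hb wi (Flat.of_stalkMap _ fun x => ?_)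
    exact (Groth.FlatDescent.flat_of_fibFlat_noeth i.left k.left x (Flat.stalkMap _ x)
      (Groth.FlatDescent.fibFlat_of_fibres f h hfib ha hb hc wi wk x)).2
  exact ⟨hf, fun hs => Groth.Agent.AlgSpLib.locP_of_comp_surjective X.property Y.property Z.property hs hf hfl
    fun A B C k m hk hks hkm => @SourceDescent.flat_of_comp _ _ _ k m hk hks hkm⟩

end Groth.Agent.S10604
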