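import Groth.Statements.S10614
import Groth.Agent.AlgSpFin.FiniteCrit
import Groth.Agent.S10262
import Groth.Agent.S10264
import Groth.Agent.S10621

open Groth.Agent.AlgSpLib Groth.Agent.AlgSpFin Groth.Agent.AlgStLib

set_option autoImplicit false
universe u
open CategoryTheory CategoryTheory.Limits AlgebraicGeometry
open AlgSp

namespace Groth.Agent.S10614

/-- For a morphism f : X ⟶ Y of algebraic spaces over S, being a closed immersion (representable by
closed immersions) is equivalent to each of: (a) universally closed plus unramified plus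
monomorphism; (b) universally closed plus unramified plus universally injective; (c) a universally
closed monomorphism that is locally of finite type; (d) universally closed, universally injective,
locally of finite type and formally unramified (lifting sense). (Unramified is the etale-local
condition locally of finite type and formally unramified on charts; monomorphisms are taken in fppf
sheaves.) -/
theorem result {S : Scheme.{u}} {X Y : AlgSp.Space S} (f : X ⟶ Y) :
    (AlgSp.RepWith @IsClosedImmersion f.hom ↔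
      (AlgSp.IsUnivClosedMor f.hom ∧ AlgSp.LocP (@LocallyOfFiniteType ⊓ @FormallyUnramified) f.hom ∧ Mono f.hom)) ∧
    (AlgSp.RepWith @IsClosedImmersion f.hom ↔
      (AlgSp.IsUnivClosedMor f.hom ∧ AlgSp.LocP (@LocallyOfFiniteType ⊓ @FormallyUnramified) f.hom ∧ AlgSp.IsUnivInjectiveMor f.hom)) ∧
    (AlgSp.RepWith @IsClosedImmersion f.hom ↔
      (AlgSp.IsUnivClosedMor f.hom ∧ AlgSp.LocP @LocallyOfFiniteType f.hom ∧ Mono f.hom)) ∧
    (AlgSp.RepWith @IsClosedImmersion f.hom ↔
      (AlgSp.IsUnivClosedMor f.hom ∧ AlgSp.IsUnivInjectiveMor f.hom ∧ AlgSp.LocP @LocallyOfFiniteType f.hom ∧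
        AlgSp.IsFormallyUnramifiedMor f.hom)) := by
  have hc : AlgSp.IsUnivClosedMor f.hom ∧ AlgSp.LocP @LocallyOfFiniteType f.hom ∧ Mono f.hom →
      AlgSp.RepWith @IsClosedImmersion f.hom := fun ⟨hu, hl, _⟩ => by
    have hfin : IsFiniteMor f.hom := isFiniteMor_of_forall_qf f hl (isSeparatedMor_of_mono f.hom) hu
      (hasAtMor_qf_of_discrete_fibres f hl fun k Xk fst snd sq => by
        have : Mono snd := MorphismProperty.of_isPullback (P := MorphismProperty.monomorphisms (AlgSp.Sp S)) sq ‹_›
        have : Subsingleton k.pt.left := inferInstanceAs (Subsingleton (PrimeSpectrum k.K))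
        have : Subsingleton (AlgSp.Points ((AlgSp.yon S).obj k.pt)) := (AlgSp.Points.schemeHomeo k.pt).symm.injective.subsingleton
        have : Subsingleton (AlgSp.Points Xk) := (injective_map_of_mono snd).subsingleton
        infer_instance)
    have h := (isFiniteMor_iff_repWith f.hom).1 hfin
    refine ⟨h.1, fun T W g fst snd sq => ?_⟩
    have : Mono ((AlgSp.yon S).map snd) :=
      MorphismProperty.of_isPullback (P := MorphismProperty.monomorphisms (AlgSp.Sp S)) sq ‹_›
    have : Mono snd := (AlgSp.yon S).mono_of_mono_map this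
    have : Mono ((Over.forget S).map snd) := inferInstance
    exact (IsClosedImmersion.iff_isFinite_and_mono _).2 ⟨h.2 g fst snd sq, ‹_›⟩
  have hm : AlgSp.LocP (@LocallyOfFiniteType ⊓ @FormallyUnramified) f.hom → AlgSp.IsUnivInjectiveMor f.hom →
      Mono f.hom := fun hu hi => by
    have hX := X.property
    have hP := isAlgSpace_pullback f.hom f.hom hX hX Y.property
    have hd : AlgSp.LocP @Etale (pullback.diagonal f.hom) :=
      (isEtaleMor_iff_locP hP).1 (isEtaleMor_of_repWith (repWith_mono (fun _ _ k hk => by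
        have : IsOpenImmersion k := hk
        exact inferInstanceAs (Etale k)) ((S10262.result f).1 hu)))
    have hs : AlgSp.UnivSp AlgSp.IsSurjectiveMor (pullback.diagonal f.hom) := fun Z Z' _ g fst snd sq =>
      surjective_snd sq (AlgSpPts.surjective_diagonal_of_injective (AlgSpPts.injective_of_isUnivInjectiveMor hX hi))
    have : IsIso (pullback.diagonal f.hom) := isIso_of_etale_mono_surjective hX hP _ hd hs
    exact (pullback.isIso_diagonal_iff f.hom).1 this
  have fw : AlgSp.RepWith @IsClosedImmersion f.hom → AlgSp.IsUnivClosedMor f.hom ∧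
      AlgSp.LocP (@LocallyOfFiniteType ⊓ @FormallyUnramified) f.hom ∧ Mono f.hom ∧
      AlgSp.IsUnivInjectiveMor f.hom := fun h => by
    have : Mono f.hom := mono_of_repWith h fun _ _ k hk => by
      have : IsClosedImmersion k := hk
      infer_instance
    refine ⟨(isProperMor_of_closedImm X.property Y.property h).2.2, S10264.result f (repWith_mono (fun _ _ k hk => by
      have : IsClosedImmersion k := hk
      exact inferInstanceAs (IsImmersion k)) h), this, AlgSpPts.isUnivInjectiveMor_of_surjective_diagonal fun z => ?_⟩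
    exact ⟨AlgSp.Points.map (inv (pullback.diagonal f.hom)) z, by
      rw [← AlgSp.Points.map_comp, IsIso.inv_hom_id, AlgSp.Points.map_id]⟩
  have hl : AlgSp.LocP (@LocallyOfFiniteType ⊓ @FormallyUnramified) f.hom → AlgSp.LocP @LocallyOfFiniteType f.hom :=
    fun h U V a b j ha hb w => (h a b j ha hb w).1
  refine ⟨⟨fun h => ⟨(fw h).1, (fw h).2.1, (fw h).2.2.1⟩, fun h => hc ⟨h.1, hl h.2.1, h.2.2⟩⟩,
    ⟨fun h => ⟨(fw h).1, (fw h).2.1, (fw h).2.2.2⟩, fun h => hc ⟨h.1, hl h.2.1, hm h.2.1 h.2.2⟩⟩,
    ⟨fun h => ⟨(fw h).1, hl (fw h).2.1, (fw h).2.2.1⟩, hc⟩,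
    fun h => ⟨(fw h).1, (fw h).2.2.2, hl (fw h).2.1, (S10621.result f).1.2 fun U V a b j ha hb w =>
      ((fw h).2.1 a b j ha hb w).2⟩, fun h => ?_⟩
  have hu : AlgSp.LocP (@LocallyOfFiniteType ⊓ @FormallyUnramified) f.hom := fun U V a b j ha hb w =>
    ⟨h.2.2.1 a b j ha hb w, (S10621.result f).1.1 h.2.2.2 a b j ha hb w⟩
  exact hc ⟨h.1, h.2.2.1, hm hu h.2.1⟩

end Groth.Agent.S10614
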