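import Groth.Statements.S10615
import Groth.Agent.AlgSpLib.NilLift
import Groth.Agent.AlgSpLib.FibreProduct
import Groth.Agent.AlgSpLib.LocP
-- import your own Groth.Agent.* helpers here

set_option autoImplicit false
set_option backward.isDefEq.respectTransparency.types false
universe u
open CategoryTheory CategoryTheory.Limits AlgebraicGeometry
open AlgSp

namespace Groth.Agent.S10615

/-- Take a smooth morphism f : X ⟶ Y of algebraic spaces over S, let i : T ⟶ T' be a thickening of
algebraic spaces (representable, every base change to a scheme a surjective closed immersion) and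
let a : T ⟶ X, b : T' ⟶ Y satisfy a ≫ f = i ≫ b. Then there is an etale covering of T' on whose
members the dotted arrow exists: for every point t' of T' there are a scheme V, a representable
etale e : V ⟶ T' whose image contains t', and ℓ : V ⟶ X with ℓ ≫ f = e ≫ b whose restriction to T
×_{T'} V (any pullback square) is the restriction of a. -/
theorem result {S : Scheme.{u}} {X Y T T' : AlgSp.Space S} (f : X ⟶ Y)
    (hf : AlgSp.LocP @Smooth f.hom) (i : T ⟶ T')
    (hi : AlgSp.IsThickMor i.hom)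
    (a : T ⟶ X) (b : T' ⟶ Y) (w : a ≫ f = i ≫ b) (t' : AlgSp.Points T'.obj) :
    ∃ (V : Over S) (e : (AlgSp.yon S).obj V ⟶ T'.obj) (ℓ : (AlgSp.yon S).obj V ⟶ X.obj),
      AlgSp.RepWith @Etale e ∧ t' ∈ Set.range (AlgSp.Points.ofPt e) ∧ ℓ ≫ f.hom = e ≫ b.hom ∧
      ∀ (P : AlgSp.Sp S) (p₁ : P ⟶ T.obj) (p₂ : P ⟶ (AlgSp.yon S).obj V),
        IsPullback p₁ p₂ i.hom e → p₂ ≫ ℓ = p₁ ≫ a.hom := by
  open AlgSp Groth.Agent.AlgSpLib in
  obtain ⟨Vy, bY, hbY, hbYs⟩ := Y.property.atlas
  obtain ⟨Vt, p', hp', hp's⟩ := T'.property.atlas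
  obtain ⟨V, v₁, v₂, sqV⟩ := exists_isPullback hbY.1 (p' ≫ b.hom)
  let e₀ := (yon S).map v₂ ≫ p'
  have he₀ : RepWith @Etale e₀ := repWith_yon_comp v₂ (prop_snd sqV hbY) hp'
  have he₀s : RepWith @Surjective e₀ := repWith_yon_comp v₂ (prop_snd sqV hbYs) hp's
  obtain ⟨v, hv⟩ := surjective_ofPt he₀s t'
  obtain ⟨W, i', fW, sqW⟩ := hi.1 e₀
  have hi' : MoreMor.IsThickening i'.left := hi.2 e₀ fW i' sqW
  have sQ := IsPullback.of_hasPullback f.hom bY
  have hQ := isAlgSpace_of_isPullback sQ X.property (IsAlgSpace.yon_obj Vy) Y.property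
  obtain ⟨U, q, hq, hqs⟩ := hQ.atlas
  obtain ⟨g, hg⟩ := (yon S).map_surjective (q ≫ pullback.snd f.hom bY)
  have hgs : Smooth g.left := locP_baseChange X.property Y.property (IsAlgSpace.yon_obj Vy) sQ hf q (𝟙 _) g hq
    (repWith_id _ Vy) (by simp [hg])
  have w' : a.hom ≫ f.hom = i.hom ≫ b.hom := by simpa using congrArg (fun k => k.hom) w
  have hWQ : (fW ≫ a.hom) ≫ f.hom = (yon S).map (i' ≫ v₁) ≫ bY := by
    rw [Category.assoc, w', ← Category.assoc, sqW.w, Functor.map_comp, Category.assoc, Category.assoc,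
      Category.assoc, sqV.w]
  let wQ := sQ.lift _ _ hWQ
  obtain ⟨W', a', e, sqW'⟩ := exists_isPullback hq.1 wQ
  have := hi'.1
  have := hi'.2
  have : Smooth g.left := hgs
  have : Etale e.left := prop_snd sqW' hq
  have : Surjective e.left := prop_snd sqW' hqs
  have comm : a'.left ≫ g.left = e.left ≫ i'.left ≫ v₁.left := by
    simp only [← Over.comp_left]
    congr 1
    apply (yon S).map_injective
    rw [Functor.map_comp, Functor.map_comp, hg, ← Category.assoc, sqW'.w, Category.assoc]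
    exact congrArg ((yon S).map e ≫ ·) (sQ.lift_snd _ _ hWQ)
  obtain ⟨x, hx⟩ := i'.left.surjective v
  obtain ⟨x', hx'⟩ := e.left.surjective x
  obtain ⟨V', W₂, v', p, r, m, l, hv', sqp, hl, hm, hpm, ⟨z, hz⟩⟩ :=
    NilLift.exists_etale_lift i'.left g.left e.left a'.left v₁.left comm x'
  let Vo : Over S := Over.mk (v' ≫ V.hom)
  let vo : Vo ⟶ V := Over.homMk v' rfl
  let mo : Vo ⟶ U := Over.homMk m (show m ≫ U.hom = v' ≫ V.hom by
    rw [← Over.w g, ← Category.assoc, hm, Category.assoc, Over.w v₁])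
  let Wo : Over S := Over.mk (r ≫ W.hom)
  let ro : Wo ⟶ W := Over.homMk r rfl
  let po : Wo ⟶ Vo := Over.homMk p (show p ≫ v' ≫ V.hom = r ≫ W.hom by
    rw [← Category.assoc, sqp.w, Category.assoc, Over.w i'])
  let lo : Wo ⟶ W' := Over.homMk l (show l ≫ W'.hom = r ≫ W.hom by
    rw [← Over.w e, ← Category.assoc, hl])
  refine ⟨Vo, (yon S).map vo ≫ e₀, (yon S).map mo ≫ q ≫ pullback.fst f.hom bY,
    repWith_yon_comp vo hv' he₀, ⟨p z, ?_⟩, ?_, ?_⟩
  · have h₁ : v' (p z) = v := by
      rw [← Scheme.Hom.comp_apply, sqp.w, Scheme.Hom.comp_apply, ← hl, Scheme.Hom.comp_apply, hz, hx', hx]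
    rw [ofPt_comp]
    show Points.ofPt e₀ (v' (p z)) = t'
    rw [h₁, hv]
  · rw [Category.assoc, Category.assoc, pullback.condition, ← Category.assoc q, ← hg, ← Category.assoc,
      ← Functor.map_comp, show mo ≫ g = vo ≫ v₁ from Over.OverMorphism.ext hm, Functor.map_comp,
      Category.assoc, sqV.w, Category.assoc, Category.assoc]
  · intro P p₁ p₂ sP
    have s₂ : IsPullback ro po i' vo := (IsPullback.of_map (Over.forget S) (Over.OverMorphism.ext sqp.w.symm) sqp.flip)
    have s₃ : IsPullback ((yon S).map ro ≫ fW) ((yon S).map po) i.hom ((yon S).map vo ≫ e₀) :=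
      (yon_isPullback s₂).paste_horiz sqW
    rw [← s₃.lift_fst p₁ p₂ sP.w]
    conv_lhs => rw [← s₃.lift_snd p₁ p₂ sP.w]
    rw [Category.assoc, Category.assoc]
    congr 1
    rw [← Category.assoc ((yon S).map po), ← Functor.map_comp,
      show po ≫ mo = lo ≫ a' from Over.OverMorphism.ext hpm, Functor.map_comp, Category.assoc,
      ← Category.assoc ((yon S).map a') q, sqW'.w, Category.assoc, sQ.lift_fst, ← Category.assoc,
      ← Functor.map_comp, show lo ≫ e = ro from Over.OverMorphism.ext hl, Category.assoc]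

end Groth.Agent.S10615
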