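import Groth.Statements.S10620
import Mathlib
-- import your own Groth.Agent.* helpers here

set_option autoImplicit false
universe u
open CategoryTheory CategoryTheory.Limits AlgebraicGeometry
open AlgSp

namespace Groth.Agent.S10620

theorem et_iff {S : Scheme.{u}} {F G : AlgSp.Sp S} (f : F ⟶ G) :
    AlgSp.IsFormallyEtaleMor f ↔ AlgSp.IsFormallySmoothMor f ∧ AlgSp.IsFormallyUnramifiedMor f := by
  constructor
  · intro h
    exact ⟨fun sq => (h sq).exists, fun sq l l' a b a' b' => (h sq).unique ⟨a, b⟩ ⟨a', b'⟩⟩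
  · rintro ⟨hs, hu⟩ sq
    obtain ⟨l, hl⟩ := hs sq
    exact ⟨l, hl, fun l' hl' => hu sq l' l hl'.1 hl'.2 hl.1 hl.2⟩


/-- Let a : F ⟶ G and b : H ⟶ G be morphisms of fppf sheaves on (Sch/S) and let a' : P ⟶ H be the base
change of a along b (any pullback square). If a is formally smooth, resp. formally etale, resp.
formally unramified, then so is a'. (The published statement is for transformations of arbitrary
presheaves of sets on (Sch/S)_fppf; this row takes fppf sheaves, the case of algebraic spaces.) -/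
theorem result {S : Scheme.{u}} {F G H P : AlgSp.Sp S} (a : F ⟶ G) (b : H ⟶ G)
    (b' : P ⟶ F) (a' : P ⟶ H) (hP : IsPullback b' a' a b) :
    (AlgSp.IsFormallySmoothMor a → AlgSp.IsFormallySmoothMor a') ∧
    (AlgSp.IsFormallyEtaleMor a → AlgSp.IsFormallyEtaleMor a') ∧
    (AlgSp.IsFormallyUnramifiedMor a → AlgSp.IsFormallyUnramifiedMor a') := by
  have Sm : AlgSp.IsFormallySmoothMor a → AlgSp.IsFormallySmoothMor a' := by
    intro ha sq
    obtain ⟨l, hl1, hl2⟩ := ha { A := sq.A, I := sq.I, sq_zero := sq.sq_zero, str := sq.str, top := sq.top ≫ b', bot := sq.bot ≫ b, comm := by rw [Category.assoc, hP.w, ← Category.assoc, sq.comm, Category.assoc] }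
    refine ⟨hP.lift l sq.bot hl2, hP.hom_ext ?_ ?_, hP.lift_snd _ _ _⟩
    · rw [Category.assoc, hP.lift_fst]; exact hl1
    · rw [Category.assoc, hP.lift_snd]; exact sq.comm.symm
  have U : AlgSp.IsFormallyUnramifiedMor a → AlgSp.IsFormallyUnramifiedMor a' := by
    intro ha sq l l' h1 h2 h1' h2'
    refine hP.hom_ext ?_ (h2.trans h2'.symm)
    exact ha { A := sq.A, I := sq.I, sq_zero := sq.sq_zero, str := sq.str, top := sq.top ≫ b', bot := sq.bot ≫ b, comm := by rw [Category.assoc, hP.w, ← Category.assoc, sq.comm, Category.assoc] } (l ≫ b') (l' ≫ b')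
      ((Category.assoc _ _ _).symm.trans (congrArg (· ≫ b') h1)) ((Category.assoc _ _ _).trans ((congrArg (l ≫ ·) hP.w).trans ((Category.assoc _ _ _).symm.trans (congrArg (· ≫ b) h2))))
      ((Category.assoc _ _ _).symm.trans (congrArg (· ≫ b') h1')) ((Category.assoc _ _ _).trans ((congrArg (l' ≫ ·) hP.w).trans ((Category.assoc _ _ _).symm.trans (congrArg (· ≫ b) h2'))))
  refine ⟨Sm, ?_, U⟩
  rw [et_iff, et_iff]
  exact fun h => ⟨Sm h.1, U h.2⟩

end Groth.Agent.S10620
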