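import Groth.Statements.S9771
import Groth.Agent.FSmooth.Criterion

set_option autoImplicit false
universe u
open FlatMor

namespace Groth.Agent.S9771

theorem formallyEtale_of_flat (R S : Type u) [CommRing R] [CommRing S] [Algebra R S]
    [Module.Flat R S] [Algebra.FormallyUnramified R S] [Algebra.FiniteType R S] :
    Algebra.FormallyEtale R S := by
  rw [← Algebra.etaleLocus_eq_univ_iff, Set.eq_univ_iff_forall]
  intro Q
  obtain ⟨f, hfQ, P, φ, hφ⟩ :=
    Algebra.IsUnramifiedAt.exists_hasStandardEtaleSurjectionOn (R := R) Q.asIdeal
  refine (Algebra.basicOpen_subset_etaleLocus_iff (f := f)).2 ?_ hfQ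
  letI := φ.toRingHom.toAlgebra
  haveI : IsScalarTower R P.Ring (Localization.Away f) :=
    IsScalarTower.of_algebraMap_eq fun r => (φ.commutes r).symm
  haveI : Module.Flat R (Localization.Away f) := Module.Flat.trans R S (Localization.Away f)
  haveI : Module.Flat P.Ring (Localization.Away f) :=
    Algebra.FormallyUnramified.flat_of_restrictScalars R P.Ring (Localization.Away f)
  haveI : Algebra.FormallyEtale P.Ring (Localization.Away f) := by
    rw [Algebra.FormallyEtale.iff_of_surjective hφ]
    haveI : (RingHom.ker (algebraMap P.Ring (Localization.Away f))).Pure :=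
      Module.Flat.of_linearEquiv
        (Ideal.quotientKerAlgEquivOfSurjective (f := Algebra.ofId P.Ring (Localization.Away f)) hφ).toLinearEquiv
    exact Ideal.isIdempotentElem_of_pure _
  exact Algebra.FormallyEtale.comp R P.Ring (Localization.Away f)

open AlgebraicGeometry CategoryTheory Limits in
/-- An unramified (formally unramified and locally of finite type) flat morphism of schemes is formally
étale. (When the morphism is moreover locally of finite presentation this is the statement that flat
unramified morphisms are étale; the content here is the case without finite presentation.) -/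
theorem result {X S : Scheme.{u}} (f : X ⟶ S)
    [Flat f] [FormallyUnramified f] [LocallyOfFiniteType f] : MoreMor.IsFormallyEtaleHom f := by
  rw [Groth.FSmooth.isFormallyEtaleHom_iff]
  intro U V hU hV e
  letI := (f.appLE V U e).hom.toAlgebra
  haveI : Module.Flat Γ(S, V) Γ(X, U) := f.flat_appLE hV hU e
  haveI : Algebra.FormallyUnramified Γ(S, V) Γ(X, U) := f.formallyUnramified_appLE hV hU e
  haveI : Algebra.FiniteType Γ(S, V) Γ(X, U) := f.finiteType_appLE hV hU e
  exact formallyEtale_of_flat _ _

end Groth.Agent.S9771
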