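import Groth.Statements.S10627
import Groth.Agent.AlgSpPts.FormalCharts


set_option autoImplicit false
universe u
open CategoryTheory CategoryTheory.Limits AlgebraicGeometry
open AlgSp

namespace Groth.Agent.S10627

/-- A morphism f : X ⟶ Y of algebraic spaces over S is etale if and only if it is locally of finite
presentation and formally etale (lifting sense). -/
theorem result {S : Scheme.{u}} {X Y : AlgSp.Space S} (f : X ⟶ Y) :
    AlgSp.IsEtaleMor f.hom ↔ AlgSp.LocP @LocallyOfFinitePresentation f.hom ∧ AlgSp.IsFormallyEtaleMor f.hom := by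
  constructor
  · intro h
    refine ⟨fun U V a b g ha hb w => ?_, Groth.Agent.AlgSpPts.formallyEtale_of_isEtaleMor X.property h⟩
    have : Etale g.left := (Groth.Agent.AlgSpLib.isEtaleMor_iff_locP Y.property).1 h a b g ha hb w
    infer_instance
  · rintro ⟨hp, hf⟩
    exact (Groth.Agent.AlgSpLib.isEtaleMor_iff_locP Y.property).2 fun U V a b g ha hb w =>
      (Groth.FSmooth.etale_iff g.left).2 ⟨hp a b g ha hb w, Groth.Agent.AlgSpPts.chart_formallyEtale ha hb w hf⟩

end Groth.Agent.S10627
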