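import Groth.Statements.S10628
import Groth.Agent.AlgSpPts.FormalCharts


set_option autoImplicit false
universe u
open CategoryTheory CategoryTheory.Limits AlgebraicGeometry
open AlgSp

namespace Groth.Agent.S10628

/-- Take a formally smooth morphism f : X ⟶ Y of algebraic spaces over S, and let p : U ⟶ X and q : V ⟶
Y be etale morphisms of algebraic spaces with ψ : U ⟶ V such that ψ ≫ q = p ≫ f. Then ψ is formally
smooth. -/
theorem result {S : Scheme.{u}} {X Y U V : AlgSp.Space S} (f : X ⟶ Y)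
    (hf : AlgSp.IsFormallySmoothMor f.hom) (p : U ⟶ X) (q : V ⟶ Y) (hp : AlgSp.IsEtaleMor p.hom) (hq : AlgSp.IsEtaleMor q.hom)
    (ψ : U ⟶ V) (w : ψ ≫ q = p ≫ f) : AlgSp.IsFormallySmoothMor ψ.hom := by
  have hpe := Groth.Agent.AlgSpPts.formallyEtale_of_isEtaleMor U.property hp
  have hqu := Groth.Agent.AlgSpPts.formallyUnramified_of_formallyEtale (Groth.Agent.AlgSpPts.formallyEtale_of_isEtaleMor V.property hq)
  refine (Groth.Agent.S10618.result ψ.hom q.hom hqu).2.2 ?_
  have e : ψ.hom ≫ q.hom = p.hom ≫ f.hom := congrArg (fun t => t.hom) w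
  rw [e]
  exact (Groth.Agent.S10619.result p.hom f.hom).1 (fun sq => (hpe sq).exists) hf

end Groth.Agent.S10628
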