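import Groth.Statements.S10632
import Groth.Agent.AlgSpPts.FormalCharts
import Groth.Agent.AlgSpPts.FormalThick


set_option autoImplicit false
universe u
open CategoryTheory CategoryTheory.Limits AlgebraicGeometry
open AlgSp

namespace Groth.Agent.S10632

/-- Let e : Z ⟶ Y be an etale morphism of algebraic spaces over S, hY : Y ⟶ X, and let (iY : Y ⟶ Y', hY'
: Y' ⟶ X) be a universal first order thickening of Y over X. Let e' : Z' ⟶ Y' be etale with iZ : Z ⟶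
Z' making Z = Y ×_{Y'} Z' a pullback square. Then (iZ, e' ≫ hY') is a universal first order
thickening of Z over X. -/
theorem result {S : Scheme.{u}} {Z Y Y' Z' X : AlgSp.Space S} (e : Z ⟶ Y)
    (he : AlgSp.IsEtaleMor e.hom) (hY : Y ⟶ X) (iY : Y ⟶ Y') (hY' : Y' ⟶ X)
    (HU : AlgSp.IsUnivFOThick hY.hom iY.hom hY'.hom) (iZ : Z ⟶ Z') (e' : Z' ⟶ Y') (he' : AlgSp.IsEtaleMor e'.hom)
    (sq : IsPullback e.hom iZ.hom iY.hom e'.hom) :
    AlgSp.IsUnivFOThick (e ≫ hY).hom iZ.hom (e' ≫ hY').hom := by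
  have hiZ : AlgSp.IsFOThickMor iZ.hom := ⟨MorphismProperty.of_isPullback (P := AlgSp.RepWith AlgSp.thick) sq HU.1.1,
    fun V W b fst snd hV hb sW => HU.1.2 (b ≫ e'.hom) (fst ≫ e.hom) snd hV (he' b hb) (sW.paste_horiz sq)⟩
  refine ⟨hiZ, ?_, fun T T' hT hT' j a b hj w => ?_⟩
  · show iZ.hom ≫ e'.hom ≫ hY'.hom = e.hom ≫ hY.hom
    rw [← Category.assoc, ← sq.w, Category.assoc, HU.2.1]
  · obtain ⟨c, ⟨hc₁, hc₂⟩, hcu⟩ := HU.2.2 hT hT' j (a ≫ e.hom) b hj (w.trans (Category.assoc a e.hom hY.hom).symm)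
    obtain ⟨l, ⟨hl₁, hl₂⟩, hlu⟩ := Groth.Agent.AlgSpPts.existsUnique_lift_thick hT hT' (Groth.Agent.AlgSpPts.formallyEtale_of_isEtaleMor Z'.property he') hj
      (t := a ≫ iZ.hom) (b := c) (by rw [Category.assoc, ← sq.w, hc₁, Category.assoc])
    refine ⟨l, ⟨hl₁, ?_⟩, fun l' hl' => hlu l' ⟨hl'.1, hcu _ ⟨?_, ?_⟩⟩⟩
    · show l ≫ e'.hom ≫ hY'.hom = b
      rw [← Category.assoc, hl₂, hc₂]
    · rw [← Category.assoc, hl'.1, Category.assoc, ← sq.w, Category.assoc]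
    · rw [Category.assoc]
      exact hl'.2

end Groth.Agent.S10632
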