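import Groth.Statements.S10649
import Groth.Agent.AlgSpFin.FiniteCrit

open Groth.Agent.AlgSpLib Groth.Agent.AlgSpFin

set_option autoImplicit false
universe u
open CategoryTheory CategoryTheory.Limits AlgebraicGeometry
open AlgSp

namespace Groth.Agent.S10649

/-- The following conditions on a morphism f : X ⟶ Y of algebraic spaces over S are equivalent: (1)
finiteness of f; (2) f is locally quasi-finite as well as proper (locally quasi-finite and locally
of finite type etale locally); (3) f is proper and for every field k and every k-point Spec k ⟶ Y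
the fibre X_k (any pullback of f along it in fppf sheaves) has discrete space of points; (4) f is
universally closed, separated and locally of finite type, and every such fibre X_k has discrete
space of points. -/
theorem result {S : Scheme.{u}} {X Y : AlgSp.Space S} (f : X ⟶ Y) :
    [AlgSp.IsFiniteMor f.hom,
      AlgSp.IsProperMor f.hom ∧ AlgSp.LocP (@LocallyQuasiFinite ⊓ @LocallyOfFiniteType) f.hom,
      AlgSp.IsProperMor f.hom ∧
        ∀ (k : AlgSp.FieldPt Y.obj) (Xk : AlgSp.Sp S) (fst : Xk ⟶ X.obj) (snd : Xk ⟶ (AlgSp.yon S).obj k.pt),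
          IsPullback fst snd f.hom k.toHom → DiscreteTopology (AlgSp.Points Xk),
      AlgSp.IsUnivClosedMor f.hom ∧ AlgSp.IsSeparatedMor f.hom ∧ AlgSp.LocP @LocallyOfFiniteType f.hom ∧
        ∀ (k : AlgSp.FieldPt Y.obj) (Xk : AlgSp.Sp S) (fst : Xk ⟶ X.obj) (snd : Xk ⟶ (AlgSp.yon S).obj k.pt),
          IsPullback fst snd f.hom k.toHom → DiscreteTopology (AlgSp.Points Xk)].TFAE := by
  have := isZariskiLocalAtSource_of_seven (P := @LocallyQuasiFinite ⊓ @LocallyOfFiniteType)
    (.inr <| .inr <| .inr <| .inr <| .inr <| .inl fun _ _ _ => Iff.rfl)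
  tfae_have 1 → 2 := fun h => ⟨((isFiniteMor_iff X.property Y.property f.hom).1 h).2,
    (locP_iff_repWith Y.property ((isFiniteMor_iff_repWith f.hom).1 h).1).2
      (repWith_mono (fun _ _ k hk => by
        have : IsFinite k := hk
        exact ⟨inferInstance, inferInstance⟩) ((isFiniteMor_iff_repWith f.hom).1 h))⟩
  tfae_have 2 → 3 := fun h => ⟨h.1, fun k Xk fst snd sq => discreteTopology_iff_isOpen_singleton.2 fun x =>
    (isOpen_fibrePoint_iff_qf f h.1.2.1.1 k
      ⟨Xk, isAlgSpace_of_isPullback sq X.property (IsAlgSpace.yon_obj k.pt) Y.property⟩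
      (ObjectProperty.homMk fst) snd sq x).2 ((locP_iff_forall_hasAtMor _ f).1 h.2 _)⟩
  tfae_have 3 → 4 := fun h => ⟨h.1.2.2, h.1.1, h.1.2.1.1, h.2⟩
  tfae_have 4 → 1 := fun ⟨hc, hs, hl, hd⟩ =>
    isFiniteMor_of_forall_qf f hl hs hc (hasAtMor_qf_of_discrete_fibres f hl hd)
  tfae_finish

end Groth.Agent.S10649
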