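import Groth.Statements.S10659
import Groth.Agent.AlgSpLib.FibreProduct
import Groth.Agent.AlgSpLib.DiagMor

set_option autoImplicit false
universe u
open CategoryTheory CategoryTheory.Limits AlgebraicGeometry
open AlgSp

namespace Groth.Agent.S10659

/-- For a property P of morphisms of schemes that is etale local on the target (local for the etale
precoverage) and a representable morphism f : X ⟶ Y of algebraic spaces over S: if for one scheme V
with a representable etale surjective b : h_V ⟶ Y and one pullback square of f along b with corner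
h_W the projection W ⟶ V has P, then f has P etale locally on the target in the representable sense,
i.e. every such projection along every etale h_V ⟶ Y has P. (The published statement also asserts
the converse direction and that, for X and Y representable, the condition is equivalent to f having
P; this row states only that one surjective etale chart suffices.) -/
theorem result {S : Scheme.{u}} (P : MorphismProperty Scheme.{u}) [P.IsLocalAtTarget Scheme.etalePrecoverage]
    {X Y : AlgSp.Space S} (f : X ⟶ Y) (hf : AlgSp.Representable f.hom)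
    {V W : Over S} (b : (AlgSp.yon S).obj V ⟶ Y.obj) (hb1 : AlgSp.RepWith @Etale b) (hb2 : AlgSp.RepWith @Surjective b)
    (fst : (AlgSp.yon S).obj W ⟶ X.obj) (snd : W ⟶ V)
    (sq : IsPullback fst ((AlgSp.yon S).map snd) f.hom b) (hP : P snd.left) :
    AlgSp.RepLocT P f.hom := by
  refine ⟨hf, fun V' W' b' fst' snd' hb' sq' => ?_⟩
  obtain ⟨R, p₁, p₂, sR⟩ := Groth.Agent.AlgSpLib.exists_isPullback (hb1.1) b'
  have e₂ : Etale p₂.left := Groth.Agent.AlgSpLib.prop_snd sR hb1
  have s₂ : Surjective p₂.left := Groth.Agent.AlgSpLib.prop_snd sR hb2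
  have e₁ : Etale p₁.left := Groth.Agent.AlgSpLib.prop_snd sR.flip hb'
  obtain ⟨A, a₁, a₂, sA⟩ : ∃ (A : Over S) (a₁ : A ⟶ W) (a₂ : A ⟶ R), IsPullback a₁ a₂ snd p₁ :=
    ⟨_, _, _, IsPullback.of_hasPullback _ _⟩
  obtain ⟨B, b₁, b₂, sB⟩ : ∃ (B : Over S) (b₁ : B ⟶ W') (b₂ : B ⟶ R), IsPullback b₁ b₂ snd' p₂ :=
    ⟨_, _, _, IsPullback.of_hasPullback _ _⟩
  have s₁ := (Groth.Agent.AlgSpLib.yon_isPullback sA).paste_horiz sq
  have s₃ := (Groth.Agent.AlgSpLib.yon_isPullback sB).paste_horiz sq'
  rw [← sR.w] at s₃
  obtain ⟨e, he⟩ := (AlgSp.yon S).map_surjective (s₃.isoIsPullback _ _ s₁).hom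
  have : IsIso ((AlgSp.yon S).map e) := he ▸ inferInstance
  have : IsIso e := isIso_of_reflects_iso e (AlgSp.yon S)
  have ee : e ≫ a₂ = b₂ := (AlgSp.yon S).map_injective (by
    rw [Functor.map_comp, he, IsPullback.isoIsPullback_hom_snd])
  have : IsIso e.left := inferInstanceAs (IsIso ((Over.forget S).map e))
  have lA := Groth.Agent.AlgSpLib.left_isPullback sA
  have lB := Groth.Agent.AlgSpLib.left_isPullback sB
  have hA : P a₂.left := by
    have hc : Presieve.ofArrows (fun o : Option PUnit.{u + 1} => o.elim V.left fun _ => R.left)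
        (fun o => match o with | none => 𝟙 _ | some _ => p₁.left) ∈ Scheme.etalePrecoverage V.left :=
      (Scheme.ofArrows_mem_precoverage_iff _).2
        ⟨fun x => ⟨none, x, rfl⟩, fun o => match o with | none => inferInstanceAs (Etale (𝟙 V.left)) | some _ => e₁⟩
    have := MorphismProperty.IsLocalAtTarget.pullbackSnd (P := P) hc (Presieve.ofArrows.mk (some PUnit.unit)) hP
    rw [← lA.isoPullback_hom_snd]
    exact (P.cancel_left_of_respectsIso _ _).2 this
  have hB : P b₂.left := by
    rw [← ee, Over.comp_left]
    exact (P.cancel_left_of_respectsIso _ _).2 hA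
  refine MorphismProperty.IsLocalAtTarget.of_forall_pullbackSnd (P := P) (K := Scheme.etalePrecoverage)
    (R := Presieve.ofArrows (fun _ : PUnit.{u + 1} => R.left) fun _ => p₂.left) ?_ ?_
  · exact (Scheme.ofArrows_mem_precoverage_iff _).2 ⟨fun x => ⟨PUnit.unit, p₂.left.surjective x⟩, fun _ => e₂⟩
  · intro U g hh hg
    cases hg
    exact lB.isoPullback_inv_snd ▸ (P.cancel_left_of_respectsIso _ _).2 hB

end Groth.Agent.S10659
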