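import Groth.Statements.S10665
import Groth.Agent.AlgSpLib.LocP
import Groth.Agent.KRIdeal.Smooth
import Groth.Agent.S8661
import Groth.Agent.S9773
import Groth.Agent.KRIdeal.Koszul


set_option autoImplicit false
universe u
open CategoryTheory CategoryTheory.Limits AlgebraicGeometry
open AlgSp

namespace Groth.Agent.S10665

/-- A Koszul-regular immersion between algebraic spaces over S (representable, Koszul-regular immersion
on every etale scheme chart of the target) is a local complete intersection morphism (Koszul at
every point, etale locally on source and target). -/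
theorem result {S : Scheme.{u}} {X Y : AlgSp.Space S} (i : X ⟶ Y) (hi : AlgSp.IsRegImmMor RegImm.Kind.koszul i.hom) :
    AlgSp.IsLCIMor i.hom := by

  intro U V a b h ha hb w
  obtain ⟨W, snd, fst, sq⟩ := hi.1 b
  obtain ⟨l, hl, hl'⟩ := Groth.Agent.AlgSpLib.exists_lift sq a h w
  have hfst : AlgSp.RepWith @Etale fst := Groth.Agent.AlgSpLib.repWith_baseChange sq.flip hb
  obtain ⟨R, r1, r2, sR⟩ := Groth.Agent.AlgSpLib.exists_isPullback hfst.1 a
  have h2 : Etale r2.left := Groth.Agent.AlgSpLib.prop_snd sR hfst
  have h1 : Etale r1.left := Groth.Agent.AlgSpLib.prop_snd sR.flip ha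
  obtain ⟨s, hs1, hs2⟩ := Groth.Agent.AlgSpLib.exists_lift sR ((yon S).map l) (𝟙 U) (by rw [hl]; simp)
  have e1 : s ≫ r1 = l := (yon S).map_injective (by rw [Functor.map_comp]; exact hs1)
  haveI := h1
  haveI := h2
  haveI : Etale (s.left ≫ r2.left) := by
    rw [← Over.comp_left, hs2]; exact inferInstanceAs (Etale (𝟙 U.left))
  haveI : Etale s.left := Etale.of_comp s.left r2.left
  have hl₀ : Etale l.left := by rw [← e1, Over.comp_left]; infer_instance
  haveI := hl₀
  intro x
  have hx : ∀ y, Synt.IsKoszulAt (l.left ≫ snd.left) y :=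
    Groth.Agent.S8661.result l.left snd.left
      (fun y => Groth.Agent.KRIdeal.isKoszulAt_of_schLCI _ (Groth.Agent.KRIdeal.schLCI_of_smooth l.left) y)
      (fun y => Groth.Agent.S9773.result snd.left .koszul (Or.inr rfl) (hi.2 b fst snd hb sq) y)
  rw [← hl', Over.comp_left]
  exact hx x

end Groth.Agent.S10665
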