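import Groth.Statements.S10687
import Groth.Agent.GorPoint.Basic
-- import your own Groth.Agent.* helpers here

set_option autoImplicit false
universe u
open CategoryTheory CategoryTheory.Limits AlgebraicGeometry
open AlgSp

namespace Groth.Agent.S10687

/-- For morphisms f : X ⟶ Y and g : Y ⟶ Z between algebraic spaces over S whose fibres, and those of f ≫
g, are locally Noetherian, and a point x of |X|: (1) if g is Gorenstein at the image of x and f is
Gorenstein at x itself, then so is f ≫ g at x; (2) if f ≫ g is Gorenstein at x and f is flat there,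
then f is Gorenstein at x and g at the image of x. Here f is Gorenstein at x when in every etale
chart diagram through x the top arrow is Gorenstein at the point over x (flat there, with Gorenstein
local ring of its fibre), and the fibres of a morphism are locally Noetherian when every fibre over
a field point (pullback in fppf sheaves) is a locally Noetherian algebraic space. -/
theorem result {S : Scheme.{u}} {X Y Z : AlgSp.Space S} (f : X ⟶ Y) (g : Y ⟶ Z)
    (hf : ∀ (k : AlgSp.FieldPt Y.obj) (Xk : AlgSp.Sp S) (a : Xk ⟶ X.obj) (b : Xk ⟶ (AlgSp.yon S).obj k.pt),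
        IsPullback a b f.hom k.toHom → AlgSp.IsLocNoethSp Xk)
    (hg : ∀ (k : AlgSp.FieldPt Z.obj) (Xk : AlgSp.Sp S) (a : Xk ⟶ Y.obj) (b : Xk ⟶ (AlgSp.yon S).obj k.pt),
        IsPullback a b g.hom k.toHom → AlgSp.IsLocNoethSp Xk)
    (hfg : ∀ (k : AlgSp.FieldPt Z.obj) (Xk : AlgSp.Sp S) (a : Xk ⟶ X.obj) (b : Xk ⟶ (AlgSp.yon S).obj k.pt),
        IsPullback a b (f ≫ g).hom k.toHom → AlgSp.IsLocNoethSp Xk)
    (x : AlgSp.Points X.obj) :
    (AlgSp.LocPAt (fun h u => Dual3.IsGorensteinAt h u) f.hom x → AlgSp.LocPAt (fun h u => Dual3.IsGorensteinAt h u) g.hom (AlgSp.Points.map f.hom x) →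
        AlgSp.LocPAt (fun h u => Dual3.IsGorensteinAt h u) (f ≫ g).hom x) ∧
      (AlgSp.LocPAt (fun h u => Dual3.IsGorensteinAt h u) (f ≫ g).hom x → AlgSp.IsFlatAtMor f.hom x →
        AlgSp.LocPAt (fun h u => Dual3.IsGorensteinAt h u) f.hom x ∧ AlgSp.LocPAt (fun h u => Dual3.IsGorensteinAt h u) g.hom (AlgSp.Points.map f.hom x)) := by
  obtain ⟨W, c, hc, hcs⟩ := Z.property.atlas
  obtain ⟨V, b, k, hb, hbs, wk⟩ := AlgSpLib.exists_chart_lift Y.property Z.property g.hom c hc hcs
  obtain ⟨U, a, i, ha, has, wi⟩ := AlgSpLib.exists_chart_lift X.property Y.property f.hom b hb hbs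
  have wik : a ≫ (f ≫ g).hom = (AlgSp.yon S).map (i ≫ k) ≫ c := by
    show a ≫ f.hom ≫ g.hom = _
    rw [← Category.assoc, wi, Category.assoc, wk, Functor.map_comp, Category.assoc]
  obtain ⟨u, rfl⟩ := AlgSpLib.surjective_ofPt has x
  have e : AlgSp.Points.map f.hom (AlgSp.Points.ofPt a u) = AlgSp.Points.ofPt b (i.left u) := by
    rw [AlgSp.Points.map_ofPt, wi, AlgSpLib.ofPt_comp]
  rw [e, GorPoint.locPAt_iff ha hb wi, GorPoint.locPAt_iff hb hc wk, GorPoint.locPAt_iff ha hc wik,
    Groth.FlatDescent.isFlatAtMor_ofPt_iff ha hb wi, Over.comp_left]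
  simp only [S3627.isGorensteinAt_iff]
  have hN1 := GorPoint.isNoetherianRing_fibre_chart hg hb hc wk (i.left u)
  have hN2 := GorPoint.isNoetherianRing_fibre_chart hfg ha hc wik u
  rw [Over.comp_left] at hN2
  refine ⟨fun ⟨hf, hfG⟩ ⟨hg, hgG⟩ => ⟨(S4656.result i.left k.left u hf).2 hg,
    (S3627.gor_fibre_comp_iff i.left k.left u hf hN1 hN2).2 ⟨hgG, hfG⟩⟩, fun ⟨hc', hcG⟩ hf => ?_⟩
  obtain ⟨hgG, hfG⟩ := (S3627.gor_fibre_comp_iff i.left k.left u hf hN1 hN2).1 hcG
  exact ⟨⟨hf, hfG⟩, (S4656.result i.left k.left u hf).1 hc', hgG⟩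

end Groth.Agent.S10687
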