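import Groth.Statements.S3625
import Groth.Agent.GorLib.FieldExt
import Groth.Agent.GorLib.SchemeFibre
import Groth.Agent.GorLib.FlatLocal
import Groth.Agent.FlatDescent.FibreBC
import Groth.Agent.FlatDescent.Point
import Groth.Agent.FlatDescent.Scheme
-- import your own Groth.Agent.* helpers here

set_option autoImplicit false
universe u
open CategoryTheory CategoryTheory.Limits AlgebraicGeometry
attribute [local instance] HasDerivedCategory.standard
open Dual3

namespace Groth.Agent.S3625

section Lem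

open CategoryTheory CategoryTheory.Limits AlgebraicGeometry TensorProduct IntermediateField

theorem gor_asFiber_iff {X S : Scheme.{u}} (f : X ⟶ S) (x : X) {y : S} (p : f.fiber y) (hp : f.fiberι y p = x) :
    LocCoh.IsGorensteinLocalRing ((f.fiber (f x)).presheaf.stalk (f.asFiber x)) ↔
      LocCoh.IsGorensteinLocalRing ((f.fiber y).presheaf.stalk p) := by
  obtain rfl : f x = y := by
    have : x ∈ Set.range (f.fiberι y) := ⟨p, hp⟩
    rwa [Scheme.Hom.range_fiberι] at this
  rw [show p = f.asFiber x from (f.fiberι _).isEmbedding.injective (hp.trans (f.fiberι_asFiber x).symm)]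

theorem gor_spec_stalk (R : CommRingCat.{u}) [LocCoh.IsGorensteinRing R] (q : Spec R) :
    LocCoh.IsGorensteinLocalRing ((Spec R).presheaf.stalk q) :=
  (GorLib.gorenstein_iff_of_ringEquiv (StructureSheaf.stalkIso R q).toRingEquiv).1
    (LocCoh.IsGorensteinRing.isGorensteinLocalRing_localization q.asIdeal)

theorem gor_baseChange_iff {k k' : CommRingCat.{u}} (hk : IsField k) (hk' : IsField k') (ψ : k ⟶ k')
    {V W : Scheme.{u}} (a : V ⟶ Spec k) [IsLocallyNoetherian V] (hψ : ψ.hom.EssFiniteType) (h : W ⟶ V) (b : W ⟶ Spec k')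
    (sq : IsPullback h b a (Spec.map ψ)) (z : W) (hWN : IsNoetherianRing (W.presheaf.stalk z)) :
    LocCoh.IsGorensteinLocalRing (W.presheaf.stalk z) ↔ LocCoh.IsGorensteinLocalRing (V.presheaf.stalk (h z)) := by
  letI := hk.toField
  letI := hk'.toField
  letI := ψ.hom.toAlgebra
  haveI : Flat (Spec.map ψ) :=
    (HasRingHomProperty.Spec_iff (P := @Flat)).2 (RingHom.flat_algebraMap_iff.2 inferInstance)
  haveI : Flat h := MorphismProperty.of_isPullback (P := @Flat) sq.flip ‹_›
  let v := h z
  let φ : k ⟶ V.residueField v := Spec.preimage (V.fromSpecResidueField v ≫ a)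
  have hφ : V.fromSpecResidueField v ≫ a = Spec.map φ := (Spec.map_preimage _).symm
  letI : Algebra k (V.residueField v) := φ.hom.toAlgebra
  haveI : Algebra.EssFiniteType k k' := hψ
  haveI := GorLib.isGorensteinRing_field (V.residueField v : Type u)
  haveI hR : LocCoh.IsGorensteinRing ((k' : Type u) ⊗[k] (V.residueField v : Type u)) :=
    GorLib.isGorensteinRing_tensor_fg k k' (V.residueField v) (fg_top_iff.2 ‹_›)
  haveI : LocCoh.IsGorensteinRing ((V.residueField v : Type u) ⊗[k] k') :=
    SegreOne.isGorensteinRing_of_ringEquiv (Algebra.TensorProduct.comm k (k' : Type u) (V.residueField v : Type u)).toRingEquiv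
  have sq' : IsPullback (h.fiberToSpecResidueField v) (h.fiberι v ≫ b) (Spec.map φ) (Spec.map ψ) := by
    have := (IsPullback.of_hasPullback h (V.fromSpecResidueField v)).flip.paste_vert sq
    rwa [hφ] at this
  have hF : ∀ p : h.fiber v, LocCoh.IsGorensteinLocalRing ((h.fiber v).presheaf.stalk p) := fun p =>
    GorLib.gorenstein_stalk_of_iso (sq'.isoPullback ≪≫ pullbackSpecIso k (V.residueField v) k') p
      (gor_spec_stalk (CommRingCat.of ((V.residueField v : Type u) ⊗[k] k')) _)
  have key : ∀ (w : W) (v' : V) (p : h.fiber v'), h.fiberι v' p = w → IsNoetherianRing (W.presheaf.stalk w) →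
      LocCoh.IsGorensteinLocalRing ((h.fiber v').presheaf.stalk p) →
      (LocCoh.IsGorensteinLocalRing (W.presheaf.stalk w) ↔
        LocCoh.IsGorensteinLocalRing (V.presheaf.stalk (h w))) := by
    rintro _ v' p rfl hN hp
    set w := h.fiberι v' p
    algebraize [(h.stalkMap w).hom]
    haveI : Module.Flat (V.presheaf.stalk (h w)) (W.presheaf.stalk w) := Flat.stalkMap h w
    haveI : IsLocalHom (algebraMap (V.presheaf.stalk (h w)) (W.presheaf.stalk w)) :=
      inferInstanceAs (IsLocalHom (h.stalkMap w).hom)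
    have hfib : LocCoh.IsGorensteinLocalRing (FlatAscent.Fib (V.presheaf.stalk (h w)) (W.presheaf.stalk w)) :=
      (GorLib.gorenstein_iff_of_ringEquiv ((Ideal.quotEquivOfEq (Groth.FlatDescent.ker_stalkMap_fiberι h v' p).symm).trans
        (RingHom.quotientKerEquivOfSurjective ((h.fiberι v').stalkMap_surjective p)))).2 hp
    rw [GorLib.gorenstein_iff_of_flat (V.presheaf.stalk (h w)) (W.presheaf.stalk w)]
    exact ⟨fun h => h.1, fun h => ⟨h, hfib⟩⟩
  exact key z v (h.asFiber z) (h.fiberι_asFiber z) hWN (hF _)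

theorem gor_fibre_iff {X Y X' Y' : Scheme.{u}} (f : X ⟶ Y) (g : Y' ⟶ Y) [LocallyOfFiniteType g] (f' : X' ⟶ Y')
    (g' : X' ⟶ X) (hsq : IsPullback g' f' f g) (x' : X') [IsLocallyNoetherian (f.fiber (g (f' x')))] :
    LocCoh.IsGorensteinLocalRing ((f'.fiber (f' x')).presheaf.stalk (f'.asFiber x')) ↔
      LocCoh.IsGorensteinLocalRing ((f.fiber (f (g' x'))).presheaf.stalk (f.asFiber (g' x'))) := by
  let h : f'.fiber (f' x') ⟶ f.fiber (g (f' x')) := pullback.map f' (Y'.fromSpecResidueField (f' x')) f
    (Y.fromSpecResidueField (g (f' x'))) g' (Spec.map (g.residueFieldMap (f' x'))) g hsq.w.symm (by simp)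
  have sq : IsPullback h (f'.fiberToSpecResidueField (f' x')) (f.fiberToSpecResidueField (g (f' x')))
      (Spec.map (g.residueFieldMap (f' x'))) := isPullback_fiberToSpecResidueField_of_isPullback hsq (f' x')
  have hw : h ≫ f.fiberι (g (f' x')) = f'.fiberι (f' x') ≫ g' := pullback.lift_fst _ _ _
  have hz : f.fiberι (g (f' x')) (h (f'.asFiber x')) = g' x' :=
    congr($(hw) (f'.asFiber x')).trans (congrArg g' (f'.fiberι_asFiber x'))
  rw [gor_asFiber_iff f (g' x') _ hz]
  have hψ : (g.residueFieldMap (f' x')).hom.EssFiniteType := by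
    have h1 : ((g.stalkMap (f' x')) ≫ Y'.residue (f' x')).hom.EssFiniteType :=
      (LocallyOfFiniteType.stalkMap g (f' x')).comp
        (RingHom.FiniteType.of_surjective _ (Y'.residue_surjective (f' x'))).essFiniteType
    rw [← Scheme.residue_residueFieldMap] at h1
    exact h1.of_comp
  refine @gor_baseChange_iff _ _ (Field.toIsField _) (Field.toIsField _) _ _ _ _ ‹_› hψ h _ sq _ ?_
  haveI : LocallyOfFiniteType g' := MorphismProperty.of_isPullback (P := @LocallyOfFiniteType) hsq.flip ‹_›
  let j : f'.fiber (f' x') ⟶ pullback g' (f.fiberι (g (f' x'))) := pullback.lift (f'.fiberι (f' x')) h hw.symm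
  haveI : IsLocallyNoetherian (pullback g' (f.fiberι (g (f' x')))) :=
    LocallyOfFiniteType.isLocallyNoetherian (pullback.snd g' (f.fiberι (g (f' x'))))
  have hs : Function.Surjective ((j ≫ pullback.fst g' (f.fiberι (g (f' x')))).stalkMap (f'.asFiber x')).hom := by
    rw [pullback.lift_fst]
    exact (f'.fiberι (f' x')).stalkMap_surjective _
  rw [Scheme.Hom.stalkMap_comp] at hs
  exact isNoetherianRing_of_surjective _ _ (j.stalkMap (f'.asFiber x')).hom fun y =>
    let ⟨a, ha⟩ := hs y; ⟨_, ha⟩

end Lem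


/-- Let f : X → Y be a morphism of schemes all of whose fibres are locally Noetherian, g : Y' → Y
locally of finite type, and X' = Y' ×_Y X with projections f' : X' → Y', g' : X' → X. Let x' be a
point of X' with image x in X. Then: (1) Gorensteinness of f at x passes to f' at x'; (2)
conversely, f' being Gorenstein at x' forces f to be Gorenstein at x as long as f is flat at x; (3)
the same converse holds when instead g is flat at the point f'(x'). -/
theorem result (X Y X' Y' : Scheme.{u}) (f : X ⟶ Y) (g : Y' ⟶ Y) (f' : X' ⟶ Y') (g' : X' ⟶ X) (hsq : IsPullback g' f' f g) (hfibf : ∀ y, IsLocallyNoetherian (f.fiber y)) [LocallyOfFiniteType g] (x' : X') : (Dual3.IsGorensteinAt f (g' x') → Dual3.IsGorensteinAt f' x') ∧ ((f.stalkMap (g' x')).hom.Flat → Dual3.IsGorensteinAt f' x' → Dual3.IsGorensteinAt f (g' x')) ∧ ((g.stalkMap (f' x')).hom.Flat → Dual3.IsGorensteinAt f' x' → Dual3.IsGorensteinAt f (g' x')) := by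
  haveI := hfibf (g (f' x'))
  simp only [Dual3.IsGorensteinAt, gor_fibre_iff f g f' g' hsq x']
  refine ⟨fun ⟨hf, h⟩ => ⟨Groth.FlatDescent.flat_stalkMap_of_isPullback hsq x' hf, h⟩,
    fun hf ⟨_, h⟩ => ⟨hf, h⟩, fun hg ⟨hf', h⟩ => ⟨?_, h⟩⟩
  have hg' : (g'.stalkMap x').hom.Flat := Groth.FlatDescent.flat_stalkMap_of_isPullback hsq.flip x' hg
  refine Groth.FlatDescent.flat_stalkMap_of_comp g' f x' hg' ?_
  rw [Groth.FlatDescent.flat_stalkMap_congr hsq.w x']
  exact Groth.FlatDescent.flat_stalkMap_comp f' g x' hf' hg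

end Groth.Agent.S3625
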