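import Groth.Statements.S10688
import Groth.Agent.GorPoint.Basic
import Groth.Agent.S3625
-- import your own Groth.Agent.* helpers here

set_option autoImplicit false
universe u
open CategoryTheory CategoryTheory.Limits AlgebraicGeometry
open AlgSp

namespace Groth.Agent.S10688

/-- For a morphism f : X ⟶ Y between algebraic spaces over S with locally Noetherian fibres, g : Y' ⟶ Y
locally of finite type, f' : X' ⟶ Y' the base change (a pullback square of algebraic spaces) with
projection g' : X' ⟶ X, and x' a point of |X'| with image x: (1) if f is Gorenstein at x then so is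
f' at x'; (2) when f is flat at x, Gorensteinness of f' at x' implies that of f at x; (3) the same
conclusion holds if instead g is flat at the image of x' and f' is Gorenstein at x'. Here f is
Gorenstein at x when in every etale chart diagram through x the top arrow is Gorenstein at the point
over x (flat there, with Gorenstein local ring of its fibre), and the fibres of a morphism are
locally Noetherian when every fibre over a field point (pullback in fppf sheaves) is a locally
Noetherian algebraic space. -/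
theorem result {S : Scheme.{u}} {X Y X' Y' : AlgSp.Space S} (f : X ⟶ Y) (g : Y' ⟶ Y) (g' : X' ⟶ X) (f' : X' ⟶ Y')
    (hsq : IsPullback g'.hom f'.hom f.hom g.hom)
    (hf : ∀ (k : AlgSp.FieldPt Y.obj) (Xk : AlgSp.Sp S) (a : Xk ⟶ X.obj) (b : Xk ⟶ (AlgSp.yon S).obj k.pt),
        IsPullback a b f.hom k.toHom → AlgSp.IsLocNoethSp Xk)
    (hg : AlgSp.LocP @LocallyOfFiniteType g.hom) (x' : AlgSp.Points X'.obj) :
    (AlgSp.LocPAt (fun h u => Dual3.IsGorensteinAt h u) f.hom (AlgSp.Points.map g'.hom x') → AlgSp.LocPAt (fun h u => Dual3.IsGorensteinAt h u) f'.hom x') ∧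
      (AlgSp.IsFlatAtMor f.hom (AlgSp.Points.map g'.hom x') → AlgSp.LocPAt (fun h u => Dual3.IsGorensteinAt h u) f'.hom x' →
        AlgSp.LocPAt (fun h u => Dual3.IsGorensteinAt h u) f.hom (AlgSp.Points.map g'.hom x')) ∧
      (AlgSp.IsFlatAtMor g.hom (AlgSp.Points.map f'.hom x') → AlgSp.LocPAt (fun h u => Dual3.IsGorensteinAt h u) f'.hom x' →
        AlgSp.LocPAt (fun h u => Dual3.IsGorensteinAt h u) f.hom (AlgSp.Points.map g'.hom x')) := by
  obtain ⟨V, b, hb, hbs⟩ := Y.property.atlas
  obtain ⟨U, a, i, ha, has, wi⟩ := AlgSpLib.exists_chart_lift X.property Y.property f.hom b hb hbs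
  obtain ⟨W₀, c₀, hc₀, hc₀s⟩ := Y'.property.atlas
  obtain ⟨R, p, q, sqR⟩ := AlgSpLib.exists_isPullback hb.1 (c₀ ≫ g.hom)
  haveI hq : Etale q.left := AlgSpLib.prop_snd sqR hb
  obtain ⟨U', pU, q', sqy⟩ := AlgSpLib.exists_isPullback (AlgSp.representable_yon_map i) ((AlgSp.yon S).map p)
  have sqQ := AlgSpLib.isPullback_of_yon sqy
  obtain ⟨a', ha', has', ha₁, ha₂⟩ := Groth.FlatDescent.exists_baseChange_chart hsq sqR sqQ ha has hc₀ hc₀s wi
  let b' := (AlgSp.yon S).map q ≫ c₀
  have hb' : AlgSp.RepWith @Etale b' := AlgSpLib.repWith_yon_comp q hq hc₀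
  have wp : b' ≫ g.hom = (AlgSp.yon S).map p ≫ b := by rw [Category.assoc]; exact sqR.w.symm
  have wq : a' ≫ f'.hom = (AlgSp.yon S).map q' ≫ b' := by
    rw [ha₂, Functor.map_comp, Category.assoc]
  haveI : LocallyOfFiniteType p.left := hg b' b p hb' hb wp
  obtain ⟨u', rfl⟩ := AlgSpLib.surjective_ofPt has' x'
  have e₁ : AlgSp.Points.map g'.hom (AlgSp.Points.ofPt a' u') = AlgSp.Points.ofPt a (pU.left u') := by
    rw [AlgSp.Points.map_ofPt, ha₁, AlgSpLib.ofPt_comp]
  have e₂ : AlgSp.Points.map f'.hom (AlgSp.Points.ofPt a' u') = AlgSp.Points.ofPt b' (q'.left u') := by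
    rw [AlgSp.Points.map_ofPt, wq, AlgSpLib.ofPt_comp]
  rw [e₁, e₂, GorPoint.locPAt_iff ha hb wi, GorPoint.locPAt_iff ha' hb' wq,
    Groth.FlatDescent.isFlatAtMor_ofPt_iff ha hb wi, Groth.FlatDescent.isFlatAtMor_ofPt_iff hb' hb wp]
  exact S3625.result U.left V.left U'.left R.left i.left p.left q'.left pU.left (AlgSpLib.left_isPullback sqQ)
    (fun v => GorPoint.isLocallyNoetherian_fibre_chart hf ha hb wi v) u'

end Groth.Agent.S10688
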