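import Groth.Statements.S3624
import Groth.Agent.GorLib.FlatLocal
import Groth.Agent.FlatDescent.Scheme
import Mathlib
-- import your own Groth.Agent.* helpers here

set_option autoImplicit false
universe u
open CategoryTheory CategoryTheory.Limits AlgebraicGeometry
attribute [local instance] HasDerivedCategory.standard
open Dual3

namespace Groth.Agent.S3624

/-- Let f : X → Y be a flat morphism of locally Noetherian schemes with X Gorenstein. Then f is a
Gorenstein morphism (flat with Gorenstein local rings of fibres at every point) and the local ring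
O_{Y, f(x)} is Gorenstein for every point x of X. -/
theorem result (X Y : Scheme.{u}) [IsLocallyNoetherian Y] (f : X ⟶ Y) [Flat f] (hX : Dual3.IsGorenstein X) : Dual3.IsGorensteinMor f ∧ ∀ x : X, LocCoh.IsGorensteinLocalRing (Y.presheaf.stalk (f x)) := by
  haveI := hX.1
  have key : ∀ x : X, LocCoh.IsGorensteinLocalRing (Y.presheaf.stalk (f x)) ∧
      LocCoh.IsGorensteinLocalRing ((f.fiber (f x)).presheaf.stalk (f.asFiber x)) := by
    intro x
    have main : ∀ (s : Y) (z : f.fiber s),
        LocCoh.IsGorensteinLocalRing (Y.presheaf.stalk (f (f.fiberι s z))) ∧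
          LocCoh.IsGorensteinLocalRing ((f.fiber s).presheaf.stalk z) := by
      intro s z
      set y := f.fiberι s z
      algebraize [(f.stalkMap y).hom]
      haveI : Module.Flat (Y.presheaf.stalk (f y)) (X.presheaf.stalk y) := Flat.stalkMap f y
      haveI : IsLocalHom (algebraMap (Y.presheaf.stalk (f y)) (X.presheaf.stalk y)) :=
        inferInstanceAs (IsLocalHom (f.stalkMap y).hom)
      obtain ⟨h1, h2⟩ := (GorLib.gorenstein_iff_of_flat (Y.presheaf.stalk (f y)) (X.presheaf.stalk y)).1 (hX.2 y)
      refine ⟨h1, ?_⟩
      exact (GorLib.gorenstein_iff_of_ringEquiv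
        ((Ideal.quotEquivOfEq (Groth.FlatDescent.ker_stalkMap_fiberι f s z).symm).trans
          (RingHom.quotientKerEquivOfSurjective ((f.fiberι s).stalkMap_surjective z)))).1 h2
    obtain ⟨h1, h2⟩ := main (f x) (f.asFiber x)
    rw [f.fiberι_asFiber x] at h1
    exact ⟨h1, h2⟩
  exact ⟨fun x => ⟨Flat.stalkMap f x, (key x).2⟩, fun x => (key x).1⟩

end Groth.Agent.S3624
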