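import Groth.Statements.S10691
import Groth.Agent.GorPoint.Basic
import Groth.Agent.S3624
import Groth.Agent.HenselLib.HenselizationAlg
import Groth.Agent.HenselLib.HenselizationLocal
-- import your own Groth.Agent.* helpers here

set_option autoImplicit false
universe u
open CategoryTheory CategoryTheory.Limits AlgebraicGeometry
open AlgSp

namespace Groth.Agent.S10691

section Lem

open CategoryTheory CategoryTheory.Limits AlgebraicGeometry IsLocalRing AlgSpLib

theorem gor_of_flat_unramified {A B : Type u} [CommRing A] [CommRing B] [IsLocalRing A] [IsLocalRing B]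
    [IsNoetherianRing A] [IsNoetherianRing B] [Algebra A B] [IsLocalHom (algebraMap A B)] [Module.Flat A B]
    (hmax : (maximalIdeal A).map (algebraMap A B) = maximalIdeal B) :
    LocCoh.IsGorensteinLocalRing B ↔ LocCoh.IsGorensteinLocalRing A := by
  rw [GorLib.gorenstein_iff_of_flat A B]
  refine and_iff_left (GorPoint.gorenstein_of_isField ((Ideal.Quotient.maximal_ideal_iff_isField_quotient _).1 ?_))
  rw [hmax]
  exact maximalIdeal.isMaximal _

theorem gor_stalk_etale {X Y : Scheme.{u}} [IsLocallyNoetherian X] [IsLocallyNoetherian Y] (p : X ⟶ Y) [Etale p] (x : X) :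
    LocCoh.IsGorensteinLocalRing (X.presheaf.stalk x) ↔ LocCoh.IsGorensteinLocalRing (Y.presheaf.stalk (p x)) := by
  algebraize [(p.stalkMap x).hom]
  haveI : IsLocalHom (algebraMap (Y.presheaf.stalk (p x)) (X.presheaf.stalk x)) :=
    inferInstanceAs (IsLocalHom (p.stalkMap x).hom)
  haveI : Module.Flat (Y.presheaf.stalk (p x)) (X.presheaf.stalk x) := Flat.stalkMap p x
  exact gor_of_flat_unramified (GorPoint.map_maximalIdeal_stalkMap p x)

variable {S : Scheme.{u}}

theorem isGorenstein_chart {X : AlgSp.Sp S} (hN : AlgSp.IsLocNoethSp X) (hG : AlgSp.EtaleLocally Dual3.IsGorenstein X)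
    {U : Over S} {a : (AlgSp.yon S).obj U ⟶ X} (ha : AlgSp.RepWith @Etale a) : Dual3.IsGorenstein U.left := by
  haveI := AlgSpPts.isLocallyNoetherian_of_chart hN ha
  refine ⟨inferInstance, fun u => ?_⟩
  obtain ⟨U₀, a₀, ha₀, ha₀s, hU₀⟩ := hG
  haveI := hU₀.1
  obtain ⟨W, p, q, sq⟩ := exists_isPullback ha.1 a₀
  haveI : Etale p.left := prop_snd sq.flip ha₀
  haveI : Etale q.left := prop_snd sq ha
  haveI : IsLocallyNoetherian W.left := LocallyOfFiniteType.isLocallyNoetherian q.left
  obtain ⟨u₀, hu₀⟩ := surjective_ofPt ha₀s (AlgSp.Points.ofPt a u)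
  obtain ⟨t, ht, ht'⟩ := (ofPt_eq_iff sq u u₀).1 hu₀.symm
  rw [← ht, ← gor_stalk_etale p.left t, gor_stalk_etale q.left t]
  exact hU₀.2 _

end Lem


/-- For locally Noetherian algebraic spaces X, Y over S and a flat morphism f : X ⟶ Y, with X Gorenstein
(some etale surjective scheme chart is a Gorenstein scheme): f is Gorenstein at every point of |X|,
and for every point x of |X| the etale local ring of Y at a geometric point over f(x), presented as
a strict henselization R of the local ring of an etale scheme chart V of Y at a point v over f(x),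
is a Gorenstein local ring. Here f is Gorenstein at x when in every etale chart diagram through x
the top arrow is Gorenstein at the point over x (flat there, with Gorenstein local ring of its
fibre), and the fibres of a morphism are locally Noetherian when every fibre over a field point
(pullback in fppf sheaves) is a locally Noetherian algebraic space. -/
theorem result {S : Scheme.{u}} {X Y : AlgSp.Space S} (f : X ⟶ Y) (hf : AlgSp.LocP @Flat f.hom)
    (hX1 : AlgSp.IsLocNoethSp X.obj) (hY1 : AlgSp.IsLocNoethSp Y.obj)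
    (hX2 : AlgSp.EtaleLocally Dual3.IsGorenstein X.obj) :
    (∀ x : AlgSp.Points X.obj, AlgSp.LocPAt (fun h u => Dual3.IsGorensteinAt h u) f.hom x) ∧
      ∀ (x : AlgSp.Points X.obj) (V : Over S) (b : (AlgSp.yon S).obj V ⟶ Y.obj), AlgSp.RepWith @Etale b →
        ∀ (v : ↥V.left), AlgSp.Points.ofPt b v = AlgSp.Points.map f.hom x →
          ∀ (R : Type u) [CommRing R] [IsLocalRing R] [Algebra ↥(V.left.presheaf.stalk v) R]
            [IsLocalHom (algebraMap ↥(V.left.presheaf.stalk v) R)]
            [Hensel.IsStrictHenselization ↥(V.left.presheaf.stalk v) R],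
            LocCoh.IsGorensteinLocalRing R := by
  have key : ∀ {U V : Over S} {a : (AlgSp.yon S).obj U ⟶ X.obj} {b : (AlgSp.yon S).obj V ⟶ Y.obj} {i : U ⟶ V},
      AlgSp.RepWith @Etale a → AlgSp.RepWith @Etale b → a ≫ f.hom = (AlgSp.yon S).map i ≫ b → ∀ u : ↥U.left,
      Dual3.IsGorensteinAt i.left u ∧ LocCoh.IsGorensteinLocalRing (V.left.presheaf.stalk (i.left u)) := by
    intro U V a b i ha hb w u
    haveI := AlgSpPts.isLocallyNoetherian_of_chart hY1 hb
    haveI : Flat i.left := hf a b i ha hb w
    obtain ⟨h1, h2⟩ := S3624.result U.left V.left i.left (isGorenstein_chart hX1 hX2 ha)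
    exact ⟨h1 u, h2 u⟩
  refine ⟨fun x U V a b i u ha hb w _ => (key ha hb w u).1, ?_⟩
  intro x V b hb v hv R _ _ _ _ _
  obtain ⟨U₀, a₀, ha₀, ha₀s⟩ := X.property.atlas
  obtain ⟨Z, z₁, z₂, sq⟩ := AlgSpLib.exists_isPullback (Y.property.representable_from_yon b) (a₀ ≫ f.hom)
  haveI : Etale z₂.left := AlgSpLib.prop_snd sq hb
  obtain ⟨u₀, rfl⟩ := AlgSpLib.surjective_ofPt ha₀s x
  rw [AlgSp.Points.map_ofPt] at hv
  obtain ⟨t, ht, -⟩ := (AlgSpLib.ofPt_eq_iff sq v u₀).1 hv
  have ha : AlgSp.RepWith @Etale ((AlgSp.yon S).map z₂ ≫ a₀) :=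
    AlgSpLib.repWith_yon_comp z₂ ‹Etale z₂.left› ha₀
  have hG := (key ha hb (by rw [Category.assoc]; exact sq.w.symm) t).2
  rw [ht] at hG
  haveI := AlgSpPts.isLocallyNoetherian_of_chart hY1 hb
  have hc := HenselLib.exists_colim_of_isStrictHenselization (V.left.presheaf.stalk v) R
  have hm := fun r (hr : r ∈ IsLocalRing.maximalIdeal (V.left.presheaf.stalk v)) =>
    HenselLib.algebraMap_eq_zero_of_tower (K := IsLocalRing.ResidueField R) hr
  haveI : IsNoetherianRing R := hc.isNoetherianRing hm
  haveI : Module.Flat (V.left.presheaf.stalk v) R := hc.flat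
  exact (gor_of_flat_unramified (hc.map_maximalIdeal hm)).2 hG

end Groth.Agent.S10691
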