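import Groth.Statements.S3626
import Groth.Agent.GorLib.FieldExt
import Groth.Agent.GorLib.SchemeFibre
import Groth.Agent.GorLib.FlatLocal
import Groth.Agent.GeomRedAt.InsepScheme
import Groth.Agent.FlatDescent.Scheme
-- import your own Groth.Agent.* helpers here

set_option autoImplicit false
universe u
open CategoryTheory CategoryTheory.Limits AlgebraicGeometry
attribute [local instance] HasDerivedCategory.standard
open Dual3

namespace Groth.Agent.S3626

section Lem

open CategoryTheory CategoryTheory.Limits AlgebraicGeometry TensorProduct IntermediateField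

theorem gor_asFiber_iff {X S : Scheme.{u}} (f : X ⟶ S) (x : X) {y : S} (p : f.fiber y) (hp : f.fiberι y p = x) :
    LocCoh.IsGorensteinLocalRing ((f.fiber (f x)).presheaf.stalk (f.asFiber x)) ↔
      LocCoh.IsGorensteinLocalRing ((f.fiber y).presheaf.stalk p) := by
  obtain rfl : f x = y := by
    have : x ∈ Set.range (f.fiberι y) := ⟨p, hp⟩
    rwa [Scheme.Hom.range_fiberι] at this
  rw [show p = f.asFiber x from (f.fiberι _).isEmbedding.injective (hp.trans (f.fiberι_asFiber x).symm)]

theorem gor_spec_stalk (R : CommRingCat.{u}) [LocCoh.IsGorensteinRing R] (q : Spec R) :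
    LocCoh.IsGorensteinLocalRing ((Spec R).presheaf.stalk q) :=
  (GorLib.gorenstein_iff_of_ringEquiv (StructureSheaf.stalkIso R q).toRingEquiv).1
    (LocCoh.IsGorensteinRing.isGorensteinLocalRing_localization q.asIdeal)

theorem gor_baseChange_iff {k k' : CommRingCat.{u}} (hk : IsField k) (hk' : IsField k') (ψ : k ⟶ k')
    {V W : Scheme.{u}} (a : V ⟶ Spec k) [LocallyOfFiniteType a] (h : W ⟶ V) (b : W ⟶ Spec k')
    (sq : IsPullback h b a (Spec.map ψ)) (z : W) :
    LocCoh.IsGorensteinLocalRing (W.presheaf.stalk z) ↔ LocCoh.IsGorensteinLocalRing (V.presheaf.stalk (h z)) := by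
  letI := hk.toField
  letI := hk'.toField
  letI := ψ.hom.toAlgebra
  haveI : LocallyOfFiniteType b := MorphismProperty.of_isPullback (P := @LocallyOfFiniteType) sq ‹_›
  haveI : IsLocallyNoetherian V := LocallyOfFiniteType.isLocallyNoetherian a
  haveI : IsLocallyNoetherian W := LocallyOfFiniteType.isLocallyNoetherian b
  haveI : Flat (Spec.map ψ) :=
    (HasRingHomProperty.Spec_iff (P := @Flat)).2 (RingHom.flat_algebraMap_iff.2 inferInstance)
  haveI : Flat h := MorphismProperty.of_isPullback (P := @Flat) sq.flip ‹_›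
  let v := h z
  let φ : k ⟶ V.residueField v := Spec.preimage (V.fromSpecResidueField v ≫ a)
  have hφ : V.fromSpecResidueField v ≫ a = Spec.map φ := (Spec.map_preimage _).symm
  letI : Algebra k (V.residueField v) := φ.hom.toAlgebra
  haveI : Algebra.EssFiniteType k (V.residueField v) :=
    GeomRedAt.essFiniteType_residueField (k := (k : Type u)) a v φ hφ
  haveI := GorLib.isGorensteinRing_field (k' : Type u)
  haveI : LocCoh.IsGorensteinRing ((V.residueField v : Type u) ⊗[k] k') :=
    GorLib.isGorensteinRing_tensor_fg k (V.residueField v) k' (fg_top_iff.2 ‹_›)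
  have sq' : IsPullback (h.fiberToSpecResidueField v) (h.fiberι v ≫ b) (Spec.map φ) (Spec.map ψ) := by
    have := (IsPullback.of_hasPullback h (V.fromSpecResidueField v)).flip.paste_vert sq
    rwa [hφ] at this
  have hF : ∀ p : h.fiber v, LocCoh.IsGorensteinLocalRing ((h.fiber v).presheaf.stalk p) := fun p =>
    GorLib.gorenstein_stalk_of_iso (sq'.isoPullback ≪≫ pullbackSpecIso k (V.residueField v) k') p
      (gor_spec_stalk (CommRingCat.of ((V.residueField v : Type u) ⊗[k] k')) _)
  have key : ∀ (w : W) (v' : V) (p : h.fiber v'), h.fiberι v' p = w →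
      LocCoh.IsGorensteinLocalRing ((h.fiber v').presheaf.stalk p) →
      (LocCoh.IsGorensteinLocalRing (W.presheaf.stalk w) ↔
        LocCoh.IsGorensteinLocalRing (V.presheaf.stalk (h w))) := by
    rintro _ v' p rfl hp
    set w := h.fiberι v' p
    algebraize [(h.stalkMap w).hom]
    haveI : Module.Flat (V.presheaf.stalk (h w)) (W.presheaf.stalk w) := Flat.stalkMap h w
    haveI : IsLocalHom (algebraMap (V.presheaf.stalk (h w)) (W.presheaf.stalk w)) :=
      inferInstanceAs (IsLocalHom (h.stalkMap w).hom)
    have hfib : LocCoh.IsGorensteinLocalRing (FlatAscent.Fib (V.presheaf.stalk (h w)) (W.presheaf.stalk w)) :=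
      (GorLib.gorenstein_iff_of_ringEquiv ((Ideal.quotEquivOfEq (Groth.FlatDescent.ker_stalkMap_fiberι h v' p).symm).trans
        (RingHom.quotientKerEquivOfSurjective ((h.fiberι v').stalkMap_surjective p)))).2 hp
    rw [GorLib.gorenstein_iff_of_flat (V.presheaf.stalk (h w)) (W.presheaf.stalk w)]
    exact ⟨fun h => h.1, fun h => ⟨h, hfib⟩⟩
  exact key z v (h.asFiber z) (h.fiberι_asFiber z) (hF _)

end Lem


/-- Let f : X → Y be flat and locally of finite type, g : Y' → Y any morphism and X' = Y' ×_Y X with
projections f' : X' → Y', g' : X' → X. Then for every point x' of X', f' is Gorenstein at x' if and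
only if f is Gorenstein at g'(x'): formation of the Gorenstein locus commutes with base change. -/
theorem result (X Y X' Y' : Scheme.{u}) (f : X ⟶ Y) [Flat f] [LocallyOfFiniteType f] (g : Y' ⟶ Y) (f' : X' ⟶ Y') (g' : X' ⟶ X) (hsq : IsPullback g' f' f g) (x' : X') : Dual3.IsGorensteinAt f' x' ↔ Dual3.IsGorensteinAt f (g' x') := by
  haveI : Flat f' := MorphismProperty.of_isPullback (P := @Flat) hsq ‹_›
  simp only [Dual3.IsGorensteinAt, Flat.stalkMap f' x', Flat.stalkMap f (g' x'), true_and]
  let h : f'.fiber (f' x') ⟶ f.fiber (g (f' x')) := pullback.map f' (Y'.fromSpecResidueField (f' x')) f (Y.fromSpecResidueField (g (f' x')))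
    g' (Spec.map (g.residueFieldMap (f' x'))) g hsq.w.symm (by simp)
  have sq : IsPullback h (f'.fiberToSpecResidueField (f' x')) (f.fiberToSpecResidueField (g (f' x')))
      (Spec.map (g.residueFieldMap (f' x'))) := isPullback_fiberToSpecResidueField_of_isPullback hsq (f' x')
  haveI : LocallyOfFiniteType (f.fiberToSpecResidueField (g (f' x'))) :=
    MorphismProperty.pullback_snd (P := @LocallyOfFiniteType) _ _ ‹_›
  have hz : f.fiberι (g (f' x')) (h (f'.asFiber x')) = g' x' := by
    have : h ≫ f.fiberι (g (f' x')) = f'.fiberι (f' x') ≫ g' := pullback.lift_fst _ _ _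
    exact congr($(this) (f'.asFiber x')).trans (congrArg g' (f'.fiberι_asFiber x'))
  rw [gor_asFiber_iff f (g' x') _ hz]
  exact @gor_baseChange_iff _ _ (Field.toIsField _) (Field.toIsField _) _ _ _ _ ‹_› h _ sq _

end Groth.Agent.S3626
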