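import Groth.Statements.S10690
import Groth.Agent.GorPoint.Basic
import Groth.Agent.GorLib.SchemeFibre
import Groth.Agent.S3626
import Groth.Agent.S10691
-- import your own Groth.Agent.* helpers here

set_option autoImplicit false
universe u
open CategoryTheory CategoryTheory.Limits AlgebraicGeometry
open AlgSp

namespace Groth.Agent.S10690

section Lem

open CategoryTheory CategoryTheory.Limits AlgebraicGeometry AlgSpLib

variable {S : Scheme.{u}}

theorem gorenstein_fibre_scheme {U V : Scheme.{u}} (i : U ⟶ V) (v : V) [IsLocallyNoetherian (i.fiber v)]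
    (h : ∀ u : U, Dual3.IsGorensteinAt i u) : Dual3.IsGorenstein (i.fiber v) :=
  ⟨inferInstance, fun p => (S3626.gor_asFiber_iff i (i.fiberι v p) p rfl).1 (h (i.fiberι v p)).2⟩

theorem fibre_iso {U V : Over S} {T : Over S} {i : U ⟶ V} {ι : T ⟶ V} {UT : Over S} {fU : UT ⟶ U} {sT : UT ⟶ T}
    (sq : IsPullback fU sT i ι) :
    Nonempty (UT.left ≅ pullback i.left ι.left) := ⟨(left_isPullback sq).isoPullback⟩

theorem isGorenstein_of_iso {X Y : Scheme.{u}} (e : X ≅ Y) (h : Dual3.IsGorenstein Y) : Dual3.IsGorenstein X := by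
  haveI := h.1
  exact ⟨isLocallyNoetherian_of_isOpenImmersion e.hom, fun x => GorLib.gorenstein_stalk_of_iso e x (h.2 _)⟩

end Lem


/-- For a morphism f : X ⟶ Y between algebraic spaces over S whose fibres are locally Noetherian, the
following are equivalent: (1) f is Gorenstein at every point of |X|; (2) f is flat and for some
scheme V with a representable etale surjective b : h_V ⟶ Y every fibre of X ×_Y V ⟶ V over a point v
of V (pullback along the residue field point of v) is a Gorenstein algebraic space (some etale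
surjective scheme chart is a Gorenstein scheme); (3) f is flat and the same holds for every scheme V
with a representable etale b : h_V ⟶ Y. Here f is Gorenstein at x when in every etale chart diagram
through x the top arrow is Gorenstein at the point over x (flat there, with Gorenstein local ring of
its fibre), and the fibres of a morphism are locally Noetherian when every fibre over a field point
(pullback in fppf sheaves) is a locally Noetherian algebraic space. (The published statement also
characterises being Gorenstein at a single point through strict henselizations; that part is stated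
separately and not included here.) -/
theorem result {S : Scheme.{u}} {X Y : AlgSp.Space S} (f : X ⟶ Y)
    (hf : ∀ (k : AlgSp.FieldPt Y.obj) (Xk : AlgSp.Sp S) (a : Xk ⟶ X.obj) (b : Xk ⟶ (AlgSp.yon S).obj k.pt),
        IsPullback a b f.hom k.toHom → AlgSp.IsLocNoethSp Xk) :
    [∀ x : AlgSp.Points X.obj, AlgSp.LocPAt (fun h u => Dual3.IsGorensteinAt h u) f.hom x,
      AlgSp.LocP @Flat f.hom ∧ ∃ (V : Over S) (b : (AlgSp.yon S).obj V ⟶ Y.obj),
        AlgSp.RepWith @Etale b ∧ AlgSp.RepWith @Surjective b ∧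
          ∀ (v : ↥V.left) (Xv : AlgSp.Sp S) (a : Xv ⟶ X.obj)
            (c : Xv ⟶ (AlgSp.yon S).obj (Over.mk (V.left.fromSpecResidueField v ≫ V.hom))),
            IsPullback a c f.hom ((AlgSp.yon S).map (Over.homMk (V.left.fromSpecResidueField v) rfl :
              Over.mk (V.left.fromSpecResidueField v ≫ V.hom) ⟶ V) ≫ b) →
            AlgSp.EtaleLocally Dual3.IsGorenstein Xv,
      AlgSp.LocP @Flat f.hom ∧ ∀ (V : Over S) (b : (AlgSp.yon S).obj V ⟶ Y.obj), AlgSp.RepWith @Etale b →
          ∀ (v : ↥V.left) (Xv : AlgSp.Sp S) (a : Xv ⟶ X.obj)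
            (c : Xv ⟶ (AlgSp.yon S).obj (Over.mk (V.left.fromSpecResidueField v ≫ V.hom))),
            IsPullback a c f.hom ((AlgSp.yon S).map (Over.homMk (V.left.fromSpecResidueField v) rfl :
              Over.mk (V.left.fromSpecResidueField v ≫ V.hom) ⟶ V) ≫ b) →
            AlgSp.EtaleLocally Dual3.IsGorenstein Xv].TFAE := by
  tfae_have 1 → 3 := by
    intro h1
    refine ⟨fun U V a b i ha hb w => ?_, fun V b hb v Xv a c sqX => ?_⟩
    · exact (Flat.iff_flat_stalkMap _).2 fun u => (h1 (AlgSp.Points.ofPt a u) a b i u ha hb w rfl).1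
    obtain ⟨U₀, a₀, ha₀, ha₀s⟩ := X.property.atlas
    obtain ⟨Z, z₁, z₂, sq⟩ := AlgSpLib.exists_isPullback (Y.property.representable_from_yon b) (a₀ ≫ f.hom)
    haveI : Etale z₂.left := AlgSpLib.prop_snd sq hb
    have haZ : AlgSp.RepWith @Etale ((AlgSp.yon S).map z₂ ≫ a₀) :=
      AlgSpLib.repWith_yon_comp z₂ ‹Etale z₂.left› ha₀
    have wZ : ((AlgSp.yon S).map z₂ ≫ a₀) ≫ f.hom = (AlgSp.yon S).map z₁ ≫ b := by
      rw [Category.assoc]; exact sq.w.symm
    let ι : Over.mk (V.left.fromSpecResidueField v ≫ V.hom) ⟶ V := Over.homMk (V.left.fromSpecResidueField v) rfl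
    obtain ⟨UT, fU, sT, sqy⟩ := AlgSpLib.exists_isPullback (AlgSp.representable_yon_map z₁) ((AlgSp.yon S).map ι)
    have sqU := AlgSpLib.isPullback_of_yon sqy
    have sqT : IsPullback ((AlgSp.yon S).map (fU ≫ z₂)) ((AlgSp.yon S).map sT) (a₀ ≫ f.hom)
        ((AlgSp.yon S).map ι ≫ b) := by
      rw [Functor.map_comp]
      exact (sqy.flip.paste_vert sq).flip
    have wa : ((AlgSp.yon S).map (fU ≫ z₂) ≫ a₀) ≫ f.hom = (AlgSp.yon S).map sT ≫ (AlgSp.yon S).map ι ≫ b := by
      rw [Category.assoc]; exact sqT.w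
    let a' := sqX.lift _ _ wa
    have sqA : IsPullback ((AlgSp.yon S).map (fU ≫ z₂)) a' a₀ a := by
      refine IsPullback.of_bot ?_ (sqX.lift_fst _ _ wa).symm sqX
      rw [sqX.lift_snd]
      exact sqT
    refine ⟨UT, a', AlgSpLib.repWith_baseChange sqA ha₀, AlgSpLib.repWith_baseChange sqA ha₀s, ?_⟩
    obtain ⟨e⟩ := fibre_iso sqU
    haveI := GorPoint.isLocallyNoetherian_fibre_chart hf haZ hb wZ v
    exact isGorenstein_of_iso e
      (gorenstein_fibre_scheme z₁.left v fun u => h1 _ _ b z₁ u haZ hb wZ rfl)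
  tfae_have 3 → 2 := by
    rintro ⟨h, h3⟩
    obtain ⟨V, b, hb, hbs⟩ := Y.property.atlas
    exact ⟨h, V, b, hb, hbs, h3 V b hb⟩
  tfae_have 2 → 1 := by
    rintro ⟨hfl, V, b, hb, hbs, hG⟩ x
    obtain ⟨U, a, i, ha, has, wi⟩ := AlgSpLib.exists_chart_lift X.property Y.property f.hom b hb hbs
    obtain ⟨u, rfl⟩ := AlgSpLib.surjective_ofPt has x
    rw [GorPoint.locPAt_iff ha hb wi]
    haveI : Flat i.left := hfl a b i ha hb wi
    refine ⟨Flat.stalkMap i.left u, ?_⟩
    let v := i.left u
    let ι : Over.mk (V.left.fromSpecResidueField v ≫ V.hom) ⟶ V := Over.homMk (V.left.fromSpecResidueField v) rfl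
    have sqP := IsPullback.of_hasPullback f.hom ((AlgSp.yon S).map ι ≫ b)
    obtain ⟨UT, fU, sT, sqy⟩ := AlgSpLib.exists_isPullback (AlgSp.representable_yon_map i) ((AlgSp.yon S).map ι)
    have sqU := AlgSpLib.isPullback_of_yon sqy
    obtain ⟨a', ha', -, -⟩ := Groth.FlatDescent.exists_etale_fibre_chart Y.property f.hom a b i ι ha hb wi sqP sqU
    have hN : AlgSp.IsLocNoethSp (pullback f.hom ((AlgSp.yon S).map ι ≫ b)) := by
      refine hf (AlgSp.FieldPt.ofPt b v) _ (pullback.fst f.hom ((AlgSp.yon S).map ι ≫ b))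
        (pullback.snd f.hom ((AlgSp.yon S).map ι ≫ b)) ?_
      rw [AlgSp.FieldPt.toHom_ofPt]
      exact sqP
    obtain ⟨e⟩ := fibre_iso sqU
    exact (isGorenstein_of_iso e.symm
      (S10691.isGorenstein_chart hN (hG v _ _ _ sqP) ha')).2 (i.left.asFiber u)
  tfae_finish

end Groth.Agent.S10690
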