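import Groth.Statements.S7130
import Groth.Agent.EtAlgLib.Small
-- import your own Groth.Agent.* helpers here

set_option autoImplicit false
universe u
open EtAlg

namespace Groth.Agent.S7130

/-- (2) ⇔ (3) ⇔ (4): for a ring A the following are equivalent: every A-module is flat; A is reduced of
Krull dimension zero, in the sense that every prime ideal of A is maximal; the local ring A_p is a
field for every prime p. (The further equivalent condition 'A has weak dimension at most zero'
coincides with the first condition by definition and is not listed separately.) -/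
theorem result (A : Type u) [CommRing A] :
    List.TFAE [∀ (M : Type u) [AddCommGroup M] [Module A M], Module.Flat A M,
      IsReduced A ∧ ∀ p : Ideal A, p.IsPrime → p.IsMaximal,
      ∀ (p : Ideal A) [p.IsPrime], IsField (Localization.AtPrime p)] := by
  tfae_have 1 → 2 := by
    intro h
    have key : ∀ a : A, ∃ b, a = a * a * b := fun a => by
      haveI := h (A ⧸ Ideal.span {a})
      obtain ⟨k, hk, hak⟩ := Groth.Agent.EtAlgLib.exists_eq_mul_of_flat
        (A := A) (B := A ⧸ Ideal.span {a}) Ideal.Quotient.mk_surjective
        (Ideal.Quotient.eq_zero_iff_mem.2 (Ideal.mem_span_singleton_self a))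
      obtain ⟨c, rfl⟩ := Ideal.mem_span_singleton'.1 (Ideal.Quotient.eq_zero_iff_mem.1 hk)
      exact ⟨c, hak.trans (by ring)⟩
    refine ⟨isReduced_iff_pow_one_lt 2 one_lt_two |>.2 fun a ha => ?_, fun p hp => ?_⟩
    · obtain ⟨b, hb⟩ := key a
      rw [hb, ← pow_two, ha, zero_mul]
    · refine Ideal.isMaximal_iff.2 ⟨hp.one_notMem, fun J a hpJ ha haJ => ?_⟩
      obtain ⟨b, hb⟩ := key a
      have : a * (1 - a * b) ∈ p := by
        rw [show a * (1 - a * b) = 0 by linear_combination hb]
        exact p.zero_mem
      have h1 := J.add_mem (hpJ ((hp.mem_or_mem this).resolve_left ha)) (J.mul_mem_right b haJ)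
      rwa [sub_add_cancel] at h1
  tfae_have 2 → 3 := by
    rintro ⟨hred, hmax⟩ p hp
    rw [IsLocalRing.isField_iff_maximalIdeal_eq, eq_bot_iff]
    intro x hx
    have hnil : x ∈ nilradical (Localization.AtPrime p) := by
      rw [nilradical_eq_sInf]
      refine Ideal.mem_sInf.2 fun {Q} (hQ : Q.IsPrime) => ?_
      have h1 : (Q.comap (algebraMap A (Localization.AtPrime p))).IsMaximal := hmax _ inferInstance
      have h2 : Q.comap (algebraMap A (Localization.AtPrime p)) ≤ p :=
        (Ideal.comap_mono (IsLocalRing.le_maximalIdeal hQ.ne_top)).trans
          (le_of_eq (IsLocalization.AtPrime.comap_maximalIdeal (Localization.AtPrime p) p))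
      have h3 := h1.eq_of_le hp.ne_top h2
      have h4 : Q = IsLocalRing.maximalIdeal (Localization.AtPrime p) :=
        (IsLocalization.map_comap p.primeCompl (Localization.AtPrime p) Q).symm.trans
          ((congrArg (Ideal.map (algebraMap A (Localization.AtPrime p)))
            (h3.trans (IsLocalization.AtPrime.comap_maximalIdeal (Localization.AtPrime p) p).symm)).trans
            (IsLocalization.map_comap p.primeCompl (Localization.AtPrime p) _))
      exact h4 ▸ hx
    haveI : IsReduced (Localization.AtPrime p) :=
      isReduced_localizationPreserves p.primeCompl _ hred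
    exact (mem_nilradical.1 hnil).eq_zero
  tfae_have 3 → 1 := by
    intro h M _ _
    refine Module.flat_of_localized_maximal M fun P hP => ?_
    letI : Field (Localization.AtPrime P) := (h P).toField
    haveI : Module.Flat A (Localization.AtPrime P) := IsLocalization.flat _ P.primeCompl
    exact Module.Flat.trans A (Localization.AtPrime P) _
  tfae_finish

end Groth.Agent.S7130
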