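import Groth.Statements.S7128
import Groth.Agent.EtAlgLib.Weakly
import Groth.Agent.S7130
-- import your own Groth.Agent.* helpers here

set_option autoImplicit false
set_option linter.style.haveILetI false
universe u
open EtAlg

namespace Groth.Agent.S7128

open scoped TensorProduct

theorem aux {A B C : Type u} [CommRing A] [CommRing B] [CommRing C] [Algebra A B] [Algebra A C]
    [Algebra.WeaklyEtale A B] (hφ : Function.Injective (algebraMap A C))
    (hvn : ∀ x : C, ∃ c, x = c * x * x) : IsReduced B := by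
  have hC : ∀ (M : Type u) [AddCommGroup M] [Module C M], Module.Flat C M := by
    refine ((Groth.Agent.S7130.result C).out 1 0).1 (show IsReduced C ∧ ∀ P : Ideal C, P.IsPrime → P.IsMaximal from ⟨?_, fun P hP => ?_⟩)
    · refine (isReduced_iff_pow_one_lt 2 one_lt_two).2 fun x hx => ?_
      obtain ⟨c, hc⟩ := hvn x
      rw [hc, mul_assoc, ← pow_two, hx, mul_zero]
    · refine Ideal.isMaximal_iff.2 ⟨hP.one_notMem, fun J a hPJ ha haJ => ?_⟩
      obtain ⟨c, hc⟩ := hvn a
      have : a * (1 - c * a) ∈ P := by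
        rw [show a * (1 - c * a) = 0 by linear_combination hc]
        exact P.zero_mem
      have h1 := J.add_mem (hPJ ((hP.mem_or_mem this).resolve_left ha)) (J.mul_mem_left c haJ)
      rwa [sub_add_cancel] at h1
  have hred : IsReduced (C ⊗[A] B) := by
    refine (isReduced_iff_pow_one_lt 2 one_lt_two).2 fun x hx => ?_
    haveI := hC ((C ⊗[A] B) ⧸ Ideal.span {x})
    haveI := Groth.Agent.EtAlgLib.flat_of_flat_lmul C
      (Algebra.WeaklyEtale.flat_lmul' C (C ⊗[A] B)) ((C ⊗[A] B) ⧸ Ideal.span {x})
    obtain ⟨k, hk, hak⟩ := Groth.Agent.EtAlgLib.exists_eq_mul_of_flat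
      (A := C ⊗[A] B) (B := (C ⊗[A] B) ⧸ Ideal.span {x}) Ideal.Quotient.mk_surjective
      (Ideal.Quotient.eq_zero_iff_mem.2 (Ideal.mem_span_singleton_self x))
    obtain ⟨c, rfl⟩ := Ideal.mem_span_singleton'.1 (Ideal.Quotient.eq_zero_iff_mem.1 hk)
    rw [hak, mul_assoc, ← pow_two, hx, mul_zero]
  exact isReduced_of_injective (Algebra.TensorProduct.includeRight : B →ₐ[A] C ⊗[A] B)
    (Algebra.TensorProduct.includeRight_injective hφ)

/-- A weakly étale algebra over a reduced ring is itself reduced. -/
theorem result (A B : Type u) [CommRing A] [CommRing B] [Algebra A B] [IsReduced A]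
    [Algebra.WeaklyEtale A B] : IsReduced B := by
  let C := ∀ p : PrimeSpectrum A, p.asIdeal.ResidueField
  let φ : A →+* C := RingHom.pi fun p : PrimeSpectrum A => algebraMap A p.asIdeal.ResidueField
  letI : Algebra A C := φ.toAlgebra
  have hφ : Function.Injective φ := by
    refine (injective_iff_map_eq_zero φ).2 fun a ha => ?_
    have : a ∈ nilradical A := by
      rw [nilradical_eq_sInf]
      exact Ideal.mem_sInf.2 fun {P} (hP : P.IsPrime) =>
        (Ideal.algebraMap_residueField_eq_zero (I := P)).1 (congrFun ha ⟨P, hP⟩)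
    exact (mem_nilradical.1 this).eq_zero
  have hvn : ∀ x : C, ∃ c, x = c * x * x := fun x => ⟨fun p => (x p)⁻¹, funext fun p => by
    show x p = (x p)⁻¹ * x p * x p
    by_cases h : x p = 0
    · simp [h]
    · rw [inv_mul_cancel₀ h, one_mul]⟩
  exact aux hφ hvn

end Groth.Agent.S7128
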