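import Groth.Statements.S10693
import Groth.Agent.GorPoint.Basic
import Groth.Agent.SHensel17.GeomUnib
import Groth.Agent.HenselLib.HenselizationAlg
import Groth.Agent.HenselLib.HenselizationLocal
-- import your own Groth.Agent.* helpers here

set_option autoImplicit false
universe u
open CategoryTheory CategoryTheory.Limits AlgebraicGeometry
open AlgSp

namespace Groth.Agent.S10693

section Lem

open CategoryTheory CategoryTheory.Limits AlgebraicGeometry IsLocalRing Groth.FlatDescent

set_option linter.style.haveILetI false

theorem strict_hensel_iff {A B A' B' : Type u} [CommRing A] [CommRing B] [CommRing A'] [CommRing B']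
    [IsLocalRing A] [IsLocalRing B] [IsLocalRing A'] [IsLocalRing B'] [Algebra A A'] [Algebra B B']
    [IsLocalHom (algebraMap A A')] [IsLocalHom (algebraMap B B')] [Hensel.IsStrictHenselization A A']
    [Hensel.IsStrictHenselization B B'] (ψ : A →+* B) [IsLocalHom ψ] (φ : A' →+* B') [IsLocalHom φ]
    (hc : φ.comp (algebraMap A A') = (algebraMap B B').comp ψ)
    (hN : IsNoetherianRing (B ⧸ (maximalIdeal A).map ψ)) :
    ψ.Flat ∧ LocCoh.IsGorensteinLocalRing (B ⧸ (maximalIdeal A).map ψ) ↔
      φ.Flat ∧ LocCoh.IsGorensteinLocalRing (B' ⧸ (maximalIdeal A').map φ) := by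
  have hA := HenselLib.exists_colim_of_isStrictHenselization A A'
  have hB := HenselLib.exists_colim_of_isStrictHenselization B B'
  have hmA := fun r (hr : r ∈ maximalIdeal A) => HenselLib.algebraMap_eq_zero_of_tower (K := ResidueField A') hr
  have hmB := fun r (hr : r ∈ maximalIdeal B) => HenselLib.algebraMap_eq_zero_of_tower (K := ResidueField B') hr
  haveI : Module.Flat A A' := hA.flat
  haveI : Module.Flat B B' := hB.flat
  refine and_congr ?_ ?_
  · letI := φ.toAlgebra
    letI : Algebra A B' := (φ.comp (algebraMap A A')).toAlgebra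
    haveI : IsScalarTower A A' B' := IsScalarTower.of_algebraMap_eq fun _ => rfl
    constructor
    · intro h
      have h2 : ((algebraMap B B').comp ψ).Flat := RingHom.Flat.comp h (RingHom.flat_algebraMap_iff.2 inferInstance)
      rw [← hc] at h2
      haveI : Module.Flat A B' := h2
      exact hA.flat_tower
    · intro h
      haveI : Module.Flat A' B' := h
      have h2 : (φ.comp (algebraMap A A')).Flat := RingHom.Flat.comp (RingHom.flat_algebraMap_iff.2 inferInstance) h
      rw [hc] at h2
      exact S4656.flat_of_comp ψ (algebraMap B B') (RingHom.flat_algebraMap_iff.2 inferInstance) h2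
  · have hI : (maximalIdeal A').map φ = ((maximalIdeal A).map ψ).map (algebraMap B B') := by
      rw [← hA.map_maximalIdeal hmA, Ideal.map_map, Ideal.map_map, hc]
    rw [hI]
    let I := (maximalIdeal A).map ψ
    have hle : I ≤ maximalIdeal B := ((local_hom_TFAE ψ).out 0 2 rfl rfl).mp ‹_›
    refine (GorPoint.gor_quot_iff (algebraMap B B') (RingHom.flat_algebraMap_iff.2 inferInstance)
      (hB.map_maximalIdeal hmB) I hle fun _ => ?_).symm
    haveI : IsNoetherianRing (B ⧸ I) := hN
    haveI : Nontrivial (B ⧸ I) :=
      Ideal.Quotient.nontrivial_iff.mpr (ne_top_of_le_ne_top (maximalIdeal.isMaximal B).ne_top hle)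
    haveI : IsLocalRing (B ⧸ I) := IsLocalRing.of_surjective' (Ideal.Quotient.mk I) Ideal.Quotient.mk_surjective
    obtain ⟨_, _, hsh⟩ := SHensel17.exists_strictHenselization_quotient B B' I
      (ne_top_of_le_ne_top (maximalIdeal.isMaximal B).ne_top hle)
    haveI := hsh
    have hT := HenselLib.exists_colim_of_isStrictHenselization (B ⧸ I) (TensorProduct B (B ⧸ I) B')
    haveI : IsNoetherianRing (TensorProduct B (B ⧸ I) B') := hT.isNoetherianRing
      fun r (hr : r ∈ maximalIdeal (B ⧸ I)) =>
        HenselLib.algebraMap_eq_zero_of_tower (K := ResidueField (TensorProduct B (B ⧸ I) B')) hr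
    exact isNoetherianRing_of_ringEquiv _ (Algebra.TensorProduct.quotIdealMapEquivQuotTensor B' I).symm.toRingEquiv

end Lem


/-- (pointwise part) for a morphism f : X ⟶ Y between algebraic spaces over S with locally Noetherian
fibres and a point x of |X|, take an etale chart diagram through x: schemes U, V over S with
representable etale a : h_U ⟶ X, b : h_V ⟶ Y, a morphism h : U ⟶ V over S with a ≫ f = h_h ≫ b, and
a point u of U over x; let R be a strict henselization of the local ring of U at u, R' one of the
local ring of V at h u, and φ : R' ⟶ R a local homomorphism compatible with the map of local rings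
induced by h (these present the etale local rings of Y and X at compatible geometric points). Then f
is Gorenstein at x if and only if φ is flat and R / m_{R'} R is a Gorenstein local ring. Here f is
Gorenstein at x when in every etale chart diagram through x the top arrow is Gorenstein at the point
over x (flat there, with Gorenstein local ring of its fibre), and the fibres of a morphism are
locally Noetherian when every fibre over a field point (pullback in fppf sheaves) is a locally
Noetherian algebraic space. -/
theorem result {S : Scheme.{u}} {X Y : AlgSp.Space S} (f : X ⟶ Y)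
    (hf : ∀ (k : AlgSp.FieldPt Y.obj) (Xk : AlgSp.Sp S) (a : Xk ⟶ X.obj) (b : Xk ⟶ (AlgSp.yon S).obj k.pt),
        IsPullback a b f.hom k.toHom → AlgSp.IsLocNoethSp Xk)
    (x : AlgSp.Points X.obj) {U V : Over S} (a : (AlgSp.yon S).obj U ⟶ X.obj) (b : (AlgSp.yon S).obj V ⟶ Y.obj)
    (h : U ⟶ V) (ha : AlgSp.RepWith @Etale a) (hb : AlgSp.RepWith @Etale b) (hc : a ≫ f.hom = (AlgSp.yon S).map h ≫ b)
    (u : ↥U.left) (hu : AlgSp.Points.ofPt a u = x)
    (R : Type u) [CommRing R] [IsLocalRing R] [Algebra ↥(U.left.presheaf.stalk u) R]
    [IsLocalHom (algebraMap ↥(U.left.presheaf.stalk u) R)] [Hensel.IsStrictHenselization ↥(U.left.presheaf.stalk u) R]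
    (R' : Type u) [CommRing R'] [IsLocalRing R'] [Algebra ↥(V.left.presheaf.stalk (h.left u)) R']
    [IsLocalHom (algebraMap ↥(V.left.presheaf.stalk (h.left u)) R')]
    [Hensel.IsStrictHenselization ↥(V.left.presheaf.stalk (h.left u)) R']
    (φ : R' →+* R) [IsLocalHom φ]
    (hφ : φ.comp (algebraMap ↥(V.left.presheaf.stalk (h.left u)) R') =
      (algebraMap ↥(U.left.presheaf.stalk u) R).comp (h.left.stalkMap u).hom) :
    AlgSp.LocPAt (fun h u => Dual3.IsGorensteinAt h u) f.hom x ↔
      φ.Flat ∧ LocCoh.IsGorensteinLocalRing (R ⧸ (IsLocalRing.maximalIdeal R').map φ) := by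
  rw [← hu, GorPoint.locPAt_iff ha hb hc u, S3627.isGorensteinAt_iff]
  exact strict_hensel_iff (A := ↥(V.left.presheaf.stalk (h.left u))) (B := ↥(U.left.presheaf.stalk u))
    (h.left.stalkMap u).hom φ hφ (GorPoint.isNoetherianRing_fibre_chart hf ha hb hc u)

end Groth.Agent.S10693
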