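import Groth.Statements.S1072
import Mathlib.CategoryTheory.Abelian.SerreClass.Localization
import Mathlib.CategoryTheory.Localization.CalculusOfFractions.Preadditive
import Mathlib.CategoryTheory.Localization.Composition
-- import your own Groth.Agent.* helpers here

set_option autoImplicit false
universe v v' u u'
open CategoryTheory CategoryTheory.Limits
open CohDer

namespace Groth.Agent.S1072

section

variable {A : Type u} [Category.{v} A] [Abelian A]
  (W : MorphismProperty A) [W.HasLeftCalculusOfFractions] [W.HasRightCalculusOfFractions]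
  {D : Type u'} [Category.{v'} D] [Preadditive D] (L : A ⥤ D) [L.IsLocalization W] [L.Additive]

include W

lemma isIso_map {X Y : A} {s : X ⟶ Y} (hs : W s) : IsIso (L.map s) :=
  Localization.inverts L W s hs

lemma exists_pre {X Y : A} {f : X ⟶ Y} (h : L.map f = 0) :
    ∃ (X' : A) (s : X' ⟶ X) (_ : W s), s ≫ f = 0 := by
  rw [← L.map_zero, MorphismProperty.map_eq_iff_precomp L W] at h
  simpa using h

lemma exists_post {X Y : A} {f : X ⟶ Y} (h : L.map f = 0) :
    ∃ (Y' : A) (s : Y ⟶ Y') (_ : W s), f ≫ s = 0 := by
  rw [← L.map_zero, MorphismProperty.map_eq_iff_postcomp L W] at h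
  simpa using h

lemma mono_map {X Y : A} (f : X ⟶ Y) (h : ∀ ⦃Z : A⦄ (z : Z ⟶ X), L.map (z ≫ f) = 0 → L.map z = 0) :
    Mono (L.map f) := by
  rw [Preadditive.mono_iff_cancel_zero]
  intro P z hz
  haveI := Localization.essSurj L W
  obtain ⟨φ, hφ⟩ := Localization.exists_rightFraction L W ((L.objObjPreimageIso P).hom ≫ z)
  haveI := isIso_map W L φ.hs
  rw [← cancel_epi (L.objObjPreimageIso P).hom, ← cancel_epi (L.map φ.s), hφ,
    MorphismProperty.RightFraction.map_s_comp_map]
  simp only [comp_zero]
  refine h φ.f ?_
  have : L.map φ.f = L.map φ.s ≫ (L.objObjPreimageIso P).hom ≫ z := by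
    rw [hφ, MorphismProperty.RightFraction.map_s_comp_map]
  rw [L.map_comp, this, Category.assoc, Category.assoc, hz, comp_zero, comp_zero]

lemma epi_map {X Y : A} (f : X ⟶ Y) (h : ∀ ⦃Z : A⦄ (z : Y ⟶ Z), L.map (f ≫ z) = 0 → L.map z = 0) :
    Epi (L.map f) := by
  rw [Preadditive.epi_iff_cancel_zero]
  intro P z hz
  haveI := Localization.essSurj L W
  obtain ⟨φ, hφ⟩ := Localization.exists_leftFraction L W (z ≫ (L.objObjPreimageIso P).inv)
  haveI := isIso_map W L φ.hs
  rw [← cancel_mono (L.objObjPreimageIso P).inv, ← cancel_mono (L.map φ.s), hφ,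
    MorphismProperty.LeftFraction.map_comp_map_s]
  simp only [zero_comp]
  refine h φ.f ?_
  have : L.map φ.f = (z ≫ (L.objObjPreimageIso P).inv) ≫ L.map φ.s := by
    rw [hφ, MorphismProperty.LeftFraction.map_comp_map_s]
  rw [L.map_comp, this, Category.assoc, reassoc_of% hz, zero_comp]

lemma mono_map_of_mono {X Y : A} (f : X ⟶ Y) [Mono f] : Mono (L.map f) :=
  mono_map W L f fun Z z hz => by
    obtain ⟨Z', s, hs, e⟩ := exists_pre W L hz
    haveI := isIso_map W L hs
    rw [← Category.assoc] at e
    rw [← cancel_epi (L.map s), ← L.map_comp, zero_of_comp_mono f e, L.map_zero, comp_zero]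

lemma epi_map_of_epi {X Y : A} (f : X ⟶ Y) [Epi f] : Epi (L.map f) :=
  epi_map W L f fun Z z hz => by
    obtain ⟨Z', s, hs, e⟩ := exists_post W L hz
    haveI := isIso_map W L hs
    rw [Category.assoc] at e
    rw [← cancel_mono (L.map s), ← L.map_comp, zero_of_epi_comp f e, L.map_zero, zero_comp]

lemma isSerreClass : ObjectProperty.IsSerreClass (fun X => IsZero (L.obj X)) where
  exists_zero := ⟨_, isZero_zero A, L.map_isZero (isZero_zero A)⟩
  prop_of_mono f _ hY := haveI := mono_map_of_mono W L f; IsZero.of_mono (L.map f) hY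
  prop_of_epi f _ hX := haveI := epi_map_of_epi W L f; IsZero.of_epi (L.map f) hX
  prop_X₂_of_shortExact {S} hS h₁ h₃ := by
    obtain ⟨Z, s, hs, e⟩ := exists_pre W L (h₃.eq_of_tgt (L.map S.g) 0)
    haveI := isIso_map W L hs
    haveI := hS.mono_f
    haveI : IsIso (L.map (hS.exact.lift s e) ≫ L.map S.f) := by
      rw [← L.map_comp, hS.exact.lift_f]; infer_instance
    haveI : Epi (L.map S.f) := epi_of_epi (L.map (hS.exact.lift s e)) _
    exact IsZero.of_epi (L.map S.f) h₁

lemma isLocalization_isoModSerre :
    haveI := isSerreClass W L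
    L.IsLocalization (ObjectProperty.isoModSerre (fun X => IsZero (L.obj X))) := by
  haveI := isSerreClass W L
  have h₁ : W ≤ ObjectProperty.isoModSerre (fun X => IsZero (L.obj X)) := fun X Y s hs => by
    haveI := isIso_map W L hs
    refine (ObjectProperty.isoModSerre_iff _ _).2 ⟨?_, ?_⟩
    · haveI := mono_map_of_mono W L (kernel.ι s)
      exact IsZero.of_mono_eq_zero (L.map (kernel.ι s)) (by
        rw [← cancel_mono (L.map s), ← L.map_comp, kernel.condition, L.map_zero, zero_comp])
    · haveI := epi_map_of_epi W L (cokernel.π s)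
      exact IsZero.of_epi_eq_zero (L.map (cokernel.π s)) (by
        rw [← cancel_epi (L.map s), ← L.map_comp, cokernel.condition, L.map_zero, comp_zero])
  have hepi : ∀ {X Y : A} (f : X ⟶ Y) [Epi f], IsZero (L.obj (kernel f)) → IsIso (L.map f) :=
    fun {X Y} f _ hk => by
      obtain ⟨Z, t, ht, e⟩ := exists_post W L (hk.eq_of_src (L.map (kernel.ι f)) 0)
      haveI := isIso_map W L ht
      haveI := epi_map_of_epi W L f
      obtain ⟨l, hl⟩ := CokernelCofork.IsColimit.desc'
        (Abelian.epiIsCokernelOfKernel _ (kernelIsKernel f)) t e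
      change f ≫ l = t at hl
      haveI : Mono (L.map f ≫ L.map l) := by rw [← L.map_comp, hl]; infer_instance
      haveI : IsSplitMono (L.map f) := IsSplitMono.mk'
        { retraction := L.map l ≫ inv (L.map t)
          id := by rw [← Category.assoc, ← L.map_comp, hl, IsIso.hom_inv_id] }
      exact isIso_of_epi_of_isSplitMono _
  have hmono : ∀ {X Y : A} (f : X ⟶ Y) [Mono f], IsZero (L.obj (cokernel f)) → IsIso (L.map f) :=
    fun {X Y} f _ hk => by
      obtain ⟨Z, t, ht, e⟩ := exists_pre W L (hk.eq_of_tgt (L.map (cokernel.π f)) 0)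
      haveI := isIso_map W L ht
      haveI := mono_map_of_mono W L f
      obtain ⟨l, hl⟩ := KernelFork.IsLimit.lift'
        (Abelian.monoIsKernelOfCokernel _ (cokernelIsCokernel f)) t e
      change l ≫ f = t at hl
      haveI : IsSplitEpi (L.map f) := IsSplitEpi.mk'
        { section_ := inv (L.map t) ≫ L.map l
          id := by rw [Category.assoc, ← L.map_comp, hl, IsIso.inv_hom_id] }
      exact isIso_of_mono_of_isSplitEpi _
  have h₂ : (ObjectProperty.isoModSerre (fun X => IsZero (L.obj X))).IsInvertedBy L := fun X Y f hf => by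
    haveI := hepi (Abelian.factorThruImage f)
      ((ObjectProperty.isoModSerre_iff_of_epi _ _).1 hf.1.isoModSerre_factorThruImage)
    haveI := hmono (Abelian.image.ι f)
      ((ObjectProperty.isoModSerre_iff_of_mono _ _).1 hf.2.isoModSerre_image_ι)
    rw [← Abelian.image.fac f, L.map_comp]
    infer_instance
  haveI : (𝟭 D).IsLocalization (⊥ : MorphismProperty D) := Functor.IsLocalization.for_id _ bot_le
  exact Functor.IsLocalization.comp L (𝟭 D) W ⊥ _ h₂ h₁ bot_le

end


/-- Let A be an abelian category, W a class of morphisms admitting both left and right calculus of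
fractions, and L : A ⥤ D a localization functor for W. Then D admits the structure of an abelian
category and L is exact (preserves finite limits and finite colimits). -/
theorem result {A : Type u} [Category.{v} A] [Abelian A]
    (W : MorphismProperty A) [W.HasLeftCalculusOfFractions] [W.HasRightCalculusOfFractions]
    {D : Type u'} [Category.{v'} D] (L : A ⥤ D) [L.IsLocalization W] :
    Nonempty (Abelian D) ∧ PreservesFiniteLimits L ∧ PreservesFiniteColimits L := by
  haveI := Localization.essSurj L W
  letI : Preadditive D := Localization.preadditive L W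
  haveI : L.Additive := Localization.functor_additive L W
  haveI := isSerreClass W L
  haveI := isLocalization_isoModSerre W L
  exact ⟨⟨ObjectProperty.SerreClassLocalization.abelian L (fun X => IsZero (L.obj X))⟩,
    ObjectProperty.SerreClassLocalization.preservesFiniteLimits L (fun X => IsZero (L.obj X)),
    ObjectProperty.SerreClassLocalization.preservesFiniteColimits L (fun X => IsZero (L.obj X))⟩

end Groth.Agent.S1072
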