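import Groth.Statements.S1075
import Groth.Agent.TriH.DerivedProducts
import Groth.Agent.TriH.RightRes
-- import your own Groth.Agent.* helpers here

set_option autoImplicit false
universe w v u
open CategoryTheory CategoryTheory.Limits
open CohDer

namespace Groth.Agent.S1075

/-- In D(A), for A abelian with enough injectives and countable products, every sequence of
bounded-below objects has a product, so derived limits of such sequences exist. -/
theorem result {A : Type u} [Category.{v} A] [Abelian A] [HasDerivedCategory.{w} A]
    [HasLimitsOfShape (Discrete ℕ) A] [EnoughInjectives A]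
    (K : ℕ → DerivedCategory A) (hK : ∀ n, ∃ a : ℤ, (K n).IsGE a) : HasProduct K := by
  have h : ∀ n, ∃ L : CochainComplex A ℤ, L.IsKInjective ∧ Nonempty (DerivedCategory.Q.obj L ≅ K n) := fun n => by
    obtain ⟨a, ha⟩ := hK n
    haveI := ha
    obtain ⟨P, _, ⟨e⟩⟩ := (K n).exists_iso_Q_obj_of_isGE a
    obtain ⟨L, α, _, hI, -, hq⟩ := Groth.Agent.TriH.RightRes.exists_right_resolution
      (I := fun X : A => Injective X) ⟨_, isZero_zero A, Injective.zero_injective⟩
      (fun X => ⟨Injective.under X, Injective.ι X, inferInstance, inferInstance⟩) P a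
    haveI := hI
    haveI := hq
    exact ⟨L, CochainComplex.isKInjective_of_injective L a, ⟨(asIso (DerivedCategory.Q.map α)).symm ≪≫ e.symm⟩⟩
  choose L hL e using h
  haveI := Groth.Agent.TriH.hasProduct_Q_of_isKInjective L hL
  exact hasLimit_of_iso (Discrete.natIso fun n => (e n.as).some :
    Discrete.functor (fun n => DerivedCategory.Q.obj (L n)) ≅ Discrete.functor K)

end Groth.Agent.S1075
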