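import Groth.Statements.S10763
import Groth.Agent.AlgSpFin.ProperSupport

open Groth.Agent.AlgSpLib Groth.Agent.AlgSpFin Groth.Agent.AlgStLib

set_option autoImplicit false
universe u
open CategoryTheory CategoryTheory.Limits AlgebraicGeometry
open AlgSp

namespace Groth.Agent.S10763

/-- Let B be an algebraic space over S, let a : X ⟶ B and b : Y ⟶ B be locally of finite type, and let f
: X ⟶ Y be a universally closed morphism over B. If i : Z ⟶ X is a closed subspace with Z ⟶ B
proper, then the image of |Z| under |f| is a closed subset of |Y| which underlies a closed subspace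
Z' ⟶ Y with Z' ⟶ B proper. -/
theorem result {S : Scheme.{u}} {X Y B Z : AlgSp.Space S}
    (a : X ⟶ B) (b : Y ⟶ B) (f : X ⟶ Y) (hcomm : f ≫ b = a)
    (ha : AlgSp.LocP @LocallyOfFiniteType a.hom) (hb : AlgSp.LocP @LocallyOfFiniteType b.hom)
    (hfc : AlgSp.IsUnivClosedMor f.hom)
    (i : Z ⟶ X) (hi : AlgSp.RepWith @IsClosedImmersion i.hom) (hZ : AlgSp.IsProperMor (i ≫ a).hom) :
    IsClosed (AlgSp.Points.map f.hom '' Set.range (AlgSp.Points.map i.hom)) ∧
      ∃ (Z' : AlgSp.Space S) (i' : Z' ⟶ Y), AlgSp.RepWith @IsClosedImmersion i'.hom ∧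
        Set.range (AlgSp.Points.map i'.hom) = AlgSp.Points.map f.hom '' Set.range (AlgSp.Points.map i.hom) ∧
        AlgSp.IsProperMor (i' ≫ b).hom := by
  subst hcomm
  have hrng : AlgSp.Points.map f.hom '' Set.range (AlgSp.Points.map i.hom) =
      ⋃ _ : PUnit.{1}, Set.range (AlgSp.Points.map (i ≫ f).hom) := by
    rw [Set.iUnion_const, ← Set.range_comp]
    exact congrArg Set.range (funext fun x => (AlgSp.Points.map_comp i.hom f.hom x).symm)
  rw [hrng]
  refine exists_proper_union (fun _ : PUnit.{1} => Z) (fun _ => i ≫ f) b hb (fun _ =>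
    univSp_comp (fun _ _ _ a b => isClosedMor_comp a b) X.property Y.property
      (AlgSpPts.isUnivClosedMor_of_closedImmersion Z.property X.property hi) hfc) fun _ => ?_
  show AlgSp.IsProperMor ((i.hom ≫ f.hom) ≫ b.hom)
  rw [Category.assoc]
  exact hZ

end Groth.Agent.S10763
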