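import Groth.Statements.S1077
import Groth.Agent.SubobjQuot.Basic
-- import your own Groth.Agent.* helpers here

set_option autoImplicit false
universe v u
open CategoryTheory CategoryTheory.Limits
open CohDer

namespace Groth.Agent.S1077

/-- An object X of an abelian category is Artinian and Noetherian if and only if there is a finite chain
of subobjects ⊥ = F₀ ≤ F₁ ≤ … ≤ Fₙ = ⊤ of X whose successive quotients Fᵢ₊₁/Fᵢ are simple. -/
theorem result {A : Type u} [Category.{v} A] [Abelian A] (X : A) :
    (IsArtinianObject X ∧ IsNoetherianObject X) ↔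
      ∃ (n : ℕ) (F : Fin (n + 1) → Subobject X) (hF : Monotone F), F 0 = ⊥ ∧ F (Fin.last n) = ⊤ ∧
        ∀ i : Fin n, Simple (cokernel (Subobject.ofLE (F (Fin.castSucc i)) (F (Fin.succ i)) (hF (Fin.castSucc_lt_succ (i := i)).le))) := by
  constructor
  · rintro ⟨hA, hN⟩
    obtain ⟨a, ha0, n, han, hcov⟩ :=
      exists_covBy_seq_of_wellFoundedLT_wellFoundedGT_of_le (bot_le : (⊥ : Subobject X) ≤ ⊤)
    have hF : Monotone fun i : Fin (n + 1) => a i.1 :=
      Fin.monotone_iff_le_succ.mpr fun i => (hcov i.1 i.2).le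
    refine ⟨n, fun i => a i.1, hF, ha0, han, fun i => ?_⟩
    exact (Groth.Agent.SubobjQuot.covBy_iff_simple _).1 (hcov i.1 i.2)
  · rintro ⟨n, F, hF, h0, hn, hs⟩
    have key : ∀ i : Fin (n + 1),
        WellFoundedLT (Set.Iic (F i)) ∧ WellFoundedGT (Set.Iic (F i)) := by
      intro i
      induction i using Fin.induction with
      | zero =>
        have : Subsingleton (Set.Iic (F 0)) := ⟨fun a b => Subtype.ext (by
          have ha := a.2; have hb := b.2
          simp only [h0, Set.mem_Iic, le_bot_iff] at ha hb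
          rw [ha, hb])⟩
        have : Finite (Set.Iic (F 0)) := inferInstance
        exact ⟨inferInstance, inferInstance⟩
      | succ i ih =>
        have h := (Groth.Agent.SubobjQuot.covBy_iff_simple _).2 (hs i)
        have := ih.1
        have := ih.2
        have hm := Groth.Agent.SubobjQuot.strictMono_split h
        exact ⟨hm.wellFoundedLT, hm.wellFoundedGT⟩
    obtain ⟨h1, h2⟩ := key (Fin.last n)
    rw [hn] at h1 h2
    have hm : StrictMono fun z : Subobject X => (⟨z, Set.mem_Iic.2 le_top⟩ : Set.Iic (⊤ : Subobject X)) :=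
      fun a b h => h
    exact ⟨⟨hm.wellFoundedLT⟩, ⟨hm.wellFoundedGT⟩⟩

end Groth.Agent.S1077
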