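import Groth.Statements.S1078
import Groth.Agent.SubobjQuot.Basic
-- import your own Groth.Agent.* helpers here

set_option autoImplicit false
universe v u
open CategoryTheory CategoryTheory.Limits
open CohDer

namespace Groth.Agent.S1078

/-- Let X be an object of an abelian category with two finite chains of subobjects ⊥ = F₀ ≤ … ≤ Fₙ = ⊤
and ⊥ = G₀ ≤ … ≤ Gₘ = ⊤ whose successive quotients are simple. Then n = m, and after transporting
along this equality there is a permutation σ of the indices with Fᵢ₊₁/Fᵢ ≅ G_{σ(i)+1}/G_{σ(i)} for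
all i. -/
theorem result {A : Type u} [Category.{v} A] [Abelian A] (X : A)
    (n : ℕ) (F : Fin (n + 1) → Subobject X) (hF : Monotone F) (hF0 : F 0 = ⊥) (hFn : F (Fin.last n) = ⊤) (hFs : ∀ i : Fin n, Simple (cokernel (Subobject.ofLE (F (Fin.castSucc i)) (F (Fin.succ i)) (hF (Fin.castSucc_lt_succ (i := i)).le))))
    (m : ℕ) (G : Fin (m + 1) → Subobject X) (hG : Monotone G) (hG0 : G 0 = ⊥) (hGm : G (Fin.last m) = ⊤) (hGs : ∀ j : Fin m, Simple (cokernel (Subobject.ofLE (G (Fin.castSucc j)) (G (Fin.succ j)) (hG (Fin.castSucc_lt_succ (i := j)).le)))) :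
    ∃ (e : n = m) (σ : Equiv.Perm (Fin m)), ∀ i : Fin n,
      Nonempty (cokernel (Subobject.ofLE (F (Fin.castSucc i)) (F (Fin.succ i)) (hF (Fin.castSucc_lt_succ (i := i)).le)) ≅
        cokernel (Subobject.ofLE (G (Fin.castSucc (σ (Fin.cast e i)))) (G (Fin.succ (σ (Fin.cast e i)))) (hG (Fin.castSucc_lt_succ (i := σ (Fin.cast e i))).le))) := by
  classical
  open Groth.Agent.SubobjQuot in
  let s₁ : CompositionSeries (Subobject X) :=
    ⟨n, F, fun i => (covBy_iff_simple _).2 (hFs i)⟩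
  open Groth.Agent.SubobjQuot in
  let s₂ : CompositionSeries (Subobject X) :=
    ⟨m, G, fun i => (covBy_iff_simple _).2 (hGs i)⟩
  obtain ⟨f, hf⟩ := CompositionSeries.jordan_holder s₁ s₂ (hF0.trans hG0.symm) (hFn.trans hGm.symm)
  have e : n = m := by simpa [s₁, s₂] using Fintype.card_congr f
  subst e
  refine ⟨rfl, f, fun i => ?_⟩
  let Q : Subobject X × Subobject X → A := fun p =>
    if h : p.1 ≤ p.2 then cokernel (Subobject.ofLE p.1 p.2 h) else p.1
  have := (hf i).rel (fun p q => Nonempty (Q p ≅ Q q)) ⟨Iso.refl _⟩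
    (fun ⟨a⟩ => ⟨a.symm⟩) (fun ⟨a⟩ ⟨b⟩ => ⟨a ≪≫ b⟩) (fun {x y} _ => by
      obtain ⟨u⟩ := Groth.Agent.SubobjQuot.second_iso x y
      simp only [Q, dif_pos (le_sup_left : x ≤ x ⊔ y), dif_pos (inf_le_right : x ⊓ y ≤ y)]
      exact ⟨u⟩)
  have h1 : F i.castSucc ≤ F i.succ := hF i.castSucc_lt_succ.le
  have h2 : G (f i).castSucc ≤ G (f i).succ := hG (f i).castSucc_lt_succ.le
  have e1 : Q (s₁ i.castSucc, s₁ i.succ) = cokernel (Subobject.ofLE _ _ h1) := dif_pos h1
  have e2 : Q (s₂ (f i).castSucc, s₂ (f i).succ) = cokernel (Subobject.ofLE _ _ h2) := dif_pos h2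
  rw [e1, e2] at this
  exact this

end Groth.Agent.S1078
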