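import Groth.Statements.S1079
import Mathlib.CategoryTheory.Idempotents.Basic

set_option autoImplicit false
universe v u
open CategoryTheory CategoryTheory.Limits
open CohDer

namespace Groth.Agent.S1079

/-- A pretriangulated category which has countable coproducts, or countable products, is Karoubian
(idempotent complete). -/
theorem result {D : Type u} [Category.{v} D] [Preadditive D] [Limits.HasZeroObject D] [HasShift D ℤ]
    [∀ n : ℤ, (shiftFunctor D n).Additive] [Pretriangulated D]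
    (h : HasColimitsOfShape (Discrete ℕ) D ∨ HasLimitsOfShape (Discrete ℕ) D) : IsIdempotentComplete D := by
  rcases h with h | h
  · refine ⟨fun X e he => ?_⟩
    let u : ∐ (fun _ : ℕ => X) ⟶ ∐ (fun _ : ℕ => X) := Sigma.desc fun n => Sigma.ι (fun _ : ℕ => X) n - e ≫ Sigma.ι (fun _ : ℕ => X) (n + 1)
    let r : ∐ (fun _ : ℕ => X) ⟶ ∐ (fun _ : ℕ => X) := Sigma.desc fun n =>
      Sigma.ι (fun _ : ℕ => X) n - e ≫ Sigma.ι (fun _ : ℕ => X) n - e ≫ ∑ k ∈ Finset.range n, Sigma.ι (fun _ : ℕ => X) k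
    have hr : u ≫ r = 𝟙 _ := by
      apply Sigma.hom_ext
      intro n
      have he' : ∀ {Z : D} (f : X ⟶ Z), e ≫ e ≫ f = e ≫ f := fun f => by rw [← Category.assoc, he]
      simp only [u, r, Sigma.ι_desc_assoc, Sigma.ι_desc, Preadditive.sub_comp, Category.assoc,
        Category.comp_id, Preadditive.comp_sub, he', Finset.sum_range_succ, Preadditive.comp_add]
      abel
    haveI : IsSplitMono u := IsSplitMono.mk' ⟨r, hr⟩
    obtain ⟨Y, g, d, hT⟩ := Pretriangulated.distinguished_cocone_triangle u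
    have hd : d = 0 := by
      have h0 := Pretriangulated.comp_distTriang_mor_zero₃₁ _ hT
      haveI : Mono ((shiftFunctor D (1 : ℤ)).map u) := inferInstance
      exact zero_of_comp_mono ((shiftFunctor D (1 : ℤ)).map u) h0
    haveI : Epi g := (Pretriangulated.Triangle.mor₃_eq_zero_iff_epi₂ _ hT).1 hd
    have hg : ∀ n, Sigma.ι (fun _ : ℕ => X) n ≫ g = e ≫ Sigma.ι (fun _ : ℕ => X) (n + 1) ≫ g := by
      intro n
      have := congrArg (Sigma.ι (fun _ : ℕ => X) n ≫ ·) (Pretriangulated.comp_distTriang_mor_zero₁₂ _ hT)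
      have h' : (Sigma.ι (fun _ : ℕ => X) n - e ≫ Sigma.ι (fun _ : ℕ => X) (n + 1)) ≫ g = 0 :=
        ((Sigma.ι_desc_assoc (f := (fun _ : ℕ => X)) (fun n => Sigma.ι (fun _ : ℕ => X) n - e ≫ Sigma.ι (fun _ : ℕ => X) (n + 1)) n g).symm.trans this).trans comp_zero
      rwa [Preadditive.sub_comp, sub_eq_zero, Category.assoc] at h'
    have hg' : ∀ n, e ≫ Sigma.ι (fun _ : ℕ => X) n ≫ g = Sigma.ι (fun _ : ℕ => X) n ≫ g := by
      intro n
      rw [hg n, ← Category.assoc e e, he]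
    have hg0 : ∀ n, Sigma.ι (fun _ : ℕ => X) n ≫ g = Sigma.ι (fun _ : ℕ => X) 0 ≫ g := by
      intro n
      induction n with
      | zero => rfl
      | succ n ih => rw [← ih, hg n, hg']
    obtain ⟨i, hi⟩ := Pretriangulated.Triangle.yoneda_exact₂ _ hT
      (Sigma.desc fun _ => e : ∐ (fun _ : ℕ => X) ⟶ X) (by
        show u ≫ Sigma.desc (fun _ : ℕ => e) = 0
        apply Sigma.hom_ext
        intro n
        simp [u, he])
    refine ⟨Y, i, Sigma.ι (fun _ : ℕ => X) 0 ≫ g, ?_, ?_⟩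
    · rw [← cancel_epi g]
      apply Sigma.hom_ext
      intro n
      have : g ≫ i ≫ Sigma.ι (fun _ : ℕ => X) 0 ≫ g = Sigma.desc (fun _ => e) ≫ Sigma.ι (fun _ : ℕ => X) 0 ≫ g :=
        ((Category.assoc _ _ _).symm.trans (congrArg (· ≫ _) hi.symm))
      exact (congrArg (Sigma.ι (fun _ : ℕ => X) n ≫ ·) this).trans ((Sigma.ι_desc_assoc _ _ _).trans
        ((hg' 0).trans ((hg0 n).symm.trans (congrArg (Sigma.ι (fun _ : ℕ => X) n ≫ ·) (Category.comp_id g).symm))))
    · exact (Category.assoc _ _ _).trans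
        ((congrArg (Sigma.ι (fun _ : ℕ => X) 0 ≫ ·) hi.symm).trans (Sigma.ι_desc _ _))
  · refine ⟨fun X e he => ?_⟩
    let u : ∏ᶜ (fun _ : ℕ => X) ⟶ ∏ᶜ (fun _ : ℕ => X) := Pi.lift fun n => Pi.π (fun _ : ℕ => X) n - Pi.π (fun _ : ℕ => X) (n + 1) ≫ e
    let r : ∏ᶜ (fun _ : ℕ => X) ⟶ ∏ᶜ (fun _ : ℕ => X) := Pi.lift fun n =>
      Pi.π (fun _ : ℕ => X) n - Pi.π (fun _ : ℕ => X) n ≫ e - (∑ k ∈ Finset.range n, Pi.π (fun _ : ℕ => X) k) ≫ e
    have hr : r ≫ u = 𝟙 _ := by
      apply Pi.hom_ext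
      intro n
      simp only [u, r, limit.lift_π, Fan.mk_π_app, Preadditive.sub_comp, Category.assoc,
        Category.id_comp, Preadditive.comp_sub, limit.lift_π_assoc, he, Finset.sum_range_succ,
        Preadditive.add_comp]
      generalize Pi.π (fun _ : ℕ => X) n ≫ e = a₁
      generalize (∑ k ∈ Finset.range n, Pi.π (fun _ : ℕ => X) k) ≫ e = a₂
      generalize Pi.π (fun _ : ℕ => X) n = a₃ at *
      abel_nf
      exact add_sub_cancel_right _ _
    haveI : IsSplitEpi u := IsSplitEpi.mk' ⟨r, hr⟩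
    obtain ⟨Y, f, d, hT⟩ := Pretriangulated.distinguished_cocone_triangle₁ u
    have hd : d = 0 := by
      have := Pretriangulated.comp_distTriang_mor_zero₂₃ _ hT
      exact zero_of_epi_comp u this
    haveI : Mono f := (Pretriangulated.Triangle.mor₃_eq_zero_iff_mono₁ _ hT).1 hd
    have hf : ∀ n, f ≫ Pi.π (fun _ : ℕ => X) n = (f ≫ Pi.π (fun _ : ℕ => X) (n + 1)) ≫ e := by
      intro n
      have := congrArg (· ≫ Pi.π (fun _ : ℕ => X) n) (Pretriangulated.comp_distTriang_mor_zero₁₂ _ hT)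
      have h' : f ≫ (Pi.π (fun _ : ℕ => X) n - Pi.π (fun _ : ℕ => X) (n + 1) ≫ e) = 0 :=
        ((congrArg (f ≫ ·) (limit.lift_π (Fan.mk _ fun n => Pi.π (fun _ : ℕ => X) n - Pi.π (fun _ : ℕ => X) (n + 1) ≫ e) ⟨n⟩)).symm.trans
          ((Category.assoc _ _ _).symm.trans this)).trans zero_comp
      rwa [Preadditive.comp_sub, sub_eq_zero, ← Category.assoc] at h'
    have hf' : ∀ n, (f ≫ Pi.π (fun _ : ℕ => X) n) ≫ e = f ≫ Pi.π (fun _ : ℕ => X) n := by
      intro n
      rw [hf n, Category.assoc, he]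
    have hf0 : ∀ n, f ≫ Pi.π (fun _ : ℕ => X) n = f ≫ Pi.π (fun _ : ℕ => X) 0 := by
      intro n
      induction n with
      | zero => rfl
      | succ n ih => rw [← ih, hf n, hf']
    obtain ⟨s, hs⟩ := Pretriangulated.Triangle.coyoneda_exact₂ _ hT
      (Pi.lift fun _ => e : X ⟶ ∏ᶜ (fun _ : ℕ => X)) (by
        show Pi.lift (fun _ : ℕ => e) ≫ u = 0
        apply Pi.hom_ext
        intro n
        simp [u, he])
    refine ⟨Y, f ≫ Pi.π (fun _ : ℕ => X) 0, s, ?_, ?_⟩
    · rw [← cancel_mono f]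
      apply Pi.hom_ext
      intro n
      have : ((f ≫ Pi.π (fun _ : ℕ => X) 0) ≫ s) ≫ f = (f ≫ Pi.π (fun _ : ℕ => X) 0) ≫ Pi.lift (fun _ => e) :=
        (Category.assoc _ _ _).trans (congrArg _ hs.symm)
      refine (congrArg (· ≫ Pi.π (fun _ : ℕ => X) n) this).trans ?_
      rw [Category.assoc, Category.id_comp]
      refine (congrArg ((f ≫ Pi.π (fun _ : ℕ => X) 0) ≫ ·) (limit.lift_π _ _)).trans ?_
      exact (hf' 0).trans (hf0 n).symm
    · exact (Category.assoc _ _ _).symm.trans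
        ((congrArg (· ≫ Pi.π (fun _ : ℕ => X) 0) hs.symm).trans (limit.lift_π _ _))

end Groth.Agent.S1079
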