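import Groth.Statements.S10792
import Groth.Agent.AlgSpPts.CartierChart


set_option autoImplicit false
universe u
open CategoryTheory CategoryTheory.Limits AlgebraicGeometry Topology TopologicalSpace
open AlgSp

namespace Groth.Agent.S10792

/-- (2) ⇔ (4): let X be an algebraic space over a scheme S and D ⟶ X a closed subspace (representable by
closed immersions). Then D is an effective Cartier divisor in the one-chart sense if and only if for
every point x of |D| there are an affine scheme U over S, a representable etale h_U ⟶ X, a point u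
of U mapping to the image of x in |X|, and a nonzerodivisor f of the ring A of global functions of U
such that the inverse image of D in U is the closed subscheme Spec (A/(f)), that is, the closed
subscheme of the quasi-coherent ideal sheaf of U whose ideal of global sections is generated by f. -/
theorem result {S : Scheme.{u}} (X D : AlgSp.Space S) (i : D ⟶ X)
    (hi : AlgSp.RepWith @IsClosedImmersion i.hom) :
    AlgSp.IsEffCartierSub i.hom ↔
      ∀ x : AlgSp.Points D.obj,
        ∃ (U : Over S) (_ : IsAffine U.left) (a : (AlgSp.yon S).obj U ⟶ X.obj) (u : ↥U.left)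
          (f : Γ(U.left, ⊤)) (I : U.left.IdealSheafData)
          (fst : (AlgSp.yon S).obj (Over.mk (I.subschemeι ≫ U.hom)) ⟶ D.obj),
          AlgSp.RepWith @Etale a ∧ AlgSp.Points.ofPt a u = AlgSp.Points.map i.hom x ∧
            f ∈ nonZeroDivisors Γ(U.left, ⊤) ∧
            I.ideal ⟨⊤, isAffineOpen_top U.left⟩ = Ideal.span {f} ∧
            IsPullback fst ((AlgSp.yon S).map (Over.homMk I.subschemeι rfl : Over.mk (I.subschemeι ≫ U.hom) ⟶ U)) i.hom a := by

  constructor
  · rintro ⟨-, V, φ, I₀, fd₀, hφ, hφs, s₀, hI₀⟩ x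
    obtain ⟨v, hv⟩ := Groth.Agent.AlgSpLib.surjective_ofPt hφs (AlgSp.Points.map i.hom x)
    obtain ⟨W, hvW, b, hb, hWb⟩ := hI₀ v
    let U : Over S := Over.mk (W.1.ι ≫ V.hom)
    let q : U ⟶ V := Over.homMk W.1.ι rfl
    have : IsAffine (W.1 : Scheme.{u}) := W.2
    obtain ⟨k, -, t, -⟩ := Groth.Agent.AlgSpPts.ideal_comp s₀ q
    have e : (⊤ : (W.1 : Scheme.{u}).Opens) ≤ W.1.ι ⁻¹ᵁ W.1 := fun y _ => y.2
    letI := (W.1.ι.appLE W.1 ⊤ e).hom.toAlgebra
    haveI : Module.Flat Γ(V.left, W.1) Γ((W.1 : Scheme.{u}), ⊤) := W.1.ι.flat_appLE W.2 (isAffineOpen_top _) e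
    refine ⟨U, inferInstanceAs (IsAffine (W.1 : Scheme.{u})), (AlgSp.yon S).map q ≫ φ, ⟨v, hvW⟩,
      algebraMap Γ(V.left, W.1) Γ((W.1 : Scheme.{u}), ⊤) b, I₀.comap W.1.ι, _,
      Groth.Agent.AlgSpLib.repWith_yon_comp q (inferInstanceAs (Etale W.1.ι)) hφ, ?_, ?_, ?_, t⟩
    · rw [Groth.Agent.AlgSpLib.ofPt_comp]; exact hv
    · refine mem_nonZeroDivisors_iff_right.2 fun r hr => ?_
      exact Groth.FlatDescent.Dom.eq_zero_of_flat_of_mul (A := Γ(V.left, W.1)) (B := Γ((W.1 : Scheme.{u}), ⊤)) (fun _ : PUnit.{u + 1} => b)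
        (fun a ha => mem_nonZeroDivisors_iff_right.1 hb a (by rw [mul_comm]; exact ha PUnit.unit)) r
        (fun _ => by rw [mul_comm]; exact hr)
    · refine (Groth.Agent.IdealComap.ideal_comap I₀ W.1.ι ⟨⊤, isAffineOpen_top _⟩ W e).trans ?_
      rw [hWb, Ideal.map_span, Set.image_singleton]
      rfl
  · intro h
    obtain ⟨U, ψ, hψ, hψs⟩ := X.property.atlas
    obtain ⟨I, fd, s⟩ := Groth.Agent.AlgSpPts.exists_ideal_chart hi ψ
    refine ⟨hi, U, ψ, I, fd, hψ, hψs, s, fun u => ?_⟩
    by_cases hu : u ∈ I.support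
    · obtain ⟨x, hx⟩ := Groth.Agent.AlgSpPts.mem_range_of_mem_support s hu
      obtain ⟨U₁, hU₁, a, u₁, f, J, fst, ha, hau, hf, hJ, sJ⟩ := h x
      exact Groth.Agent.AlgSpPts.isECAt_transfer X.property ha hψ sJ s u₁ u (hau.trans hx)
        ⟨⟨⊤, isAffineOpen_top U₁.left⟩, trivial, f, hf, hJ⟩
    · exact Groth.Agent.AlgSpPts.isECAt_of_notMem_support I hu

end Groth.Agent.S10792
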