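import Groth.Statements.S1571
import Groth.Agent.ModPairBasic.Core
-- import your own Groth.Agent.* helpers here

set_option autoImplicit false
universe u
open CategoryTheory CategoryTheory.Limits AlgebraicGeometry
open Divisors

namespace Groth.Agent.S1571

/-- The open complement of an effective Cartier divisor is an affine open immersion and is
scheme-theoretically dense. -/
theorem result (S : Scheme.{u}) (D : S.IdealSheafData) (hD : BlowUp.IsEffCartierIdeal D) :
    IsAffineHom (Scheme.Opens.ι (X := S) D.support.compl) ∧ IsSchemeTheoreticallyDominant (Scheme.Opens.ι (X := S) D.support.compl) := by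
  exact ⟨Groth.Agent.ModPairBasic.isAffineHom_interior_ι (Groth.Agent.ModPairBasic.isLocPrincipal_of_ec hD),
    Groth.Agent.ModPairBasic.dense_of_ec hD⟩

end Groth.Agent.S1571
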