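import Groth.Statements.S10795
import Groth.Agent.AlgSpLib.DiagMor
import Groth.Agent.S10855


set_option autoImplicit false
universe u
open CategoryTheory CategoryTheory.Limits AlgebraicGeometry Topology TopologicalSpace
open AlgSp

namespace Groth.Agent.S10795

/-- For algebraic spaces X and Y over a scheme S, a flat morphism f : X ⟶ Y and an effective Cartier
divisor D ⟶ Y (one-chart sense), the inverse image of D under f is an effective Cartier divisor on
X: for every pullback square of D ⟶ Y along f, the projection to X is an effective Cartier divisor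
(one-chart sense). -/
theorem result {S : Scheme.{u}} (X Y D P : AlgSp.Space S) (f : X ⟶ Y)
    (hf : AlgSp.LocP @Flat f.hom) (i : D ⟶ Y) (hD : AlgSp.IsEffCartierSub i.hom)
    (fst : P ⟶ D) (snd : P ⟶ X) (hP : IsPullback fst.hom snd.hom i.hom f.hom) :
    AlgSp.IsEffCartierSub snd.hom := by
  obtain ⟨hi, V, φ, I, fd, hφ, hφs, s, hI⟩ := hD
  obtain ⟨U, a, q, ha, has, w⟩ := Groth.Agent.AlgSpLib.exists_chart_lift X.property Y.property f.hom φ hφ hφs
  have : Flat q.left := hf a φ q ha hφ w
  let J := I.comap q.left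
  let k₀ : J.subscheme ⟶ I.subscheme := (I.comapIso q.left).hom ≫ pullback.snd _ _
  have h₀ : IsPullback J.subschemeι k₀ q.left I.subschemeι :=
    (IsPullback.of_hasPullback q.left I.subschemeι).of_iso (I.comapIso q.left).symm (Iso.refl _) (Iso.refl _) (Iso.refl _)
      (by simp [J]) (by simp only [Iso.symm_hom, Iso.refl_hom, Category.comp_id, k₀, Iso.inv_hom_id_assoc]) (by simp) (by simp)
  let k : Over.mk (J.subschemeι ≫ U.hom) ⟶ Over.mk (I.subschemeι ≫ V.hom) := Over.homMk k₀ (by
    show k₀ ≫ I.subschemeι ≫ V.hom = J.subschemeι ≫ U.hom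
    rw [← Category.assoc, ← h₀.w, Category.assoc, Over.w q])
  let ιJ : Over.mk (J.subschemeι ≫ U.hom) ⟶ U := Over.homMk J.subschemeι rfl
  have hk : IsPullback k ιJ (Over.homMk I.subschemeι rfl : Over.mk (I.subschemeι ≫ V.hom) ⟶ V) q :=
    IsPullback.of_map (Over.forget S) (Over.OverMorphism.ext h₀.w.symm) h₀.flip
  have outer := (Groth.Agent.AlgSpLib.yon_isPullback hk).paste_horiz s
  have outer' : IsPullback ((AlgSp.yon S).map k ≫ fd) ((AlgSp.yon S).map ιJ) i.hom (a ≫ f.hom) := by
    rw [w]; exact outer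
  let t := hP.lift ((AlgSp.yon S).map k ≫ fd) ((AlgSp.yon S).map ιJ ≫ a) (by
    rw [Category.assoc ((AlgSp.yon S).map ιJ)]; exact outer'.w)
  refine ⟨MorphismProperty.of_isPullback hP hi, U, a, J, t, ha, has, ?_, Groth.Agent.S10855.result q.left I hI⟩
  exact IsPullback.of_right (by rw [IsPullback.lift_fst]; exact outer') (IsPullback.lift_snd _ _ _ _) hP

end Groth.Agent.S10795
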