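import Groth.Statements.S1662
import Mathlib
import Groth.Agent.IdealComap.Basic
import Groth.Agent.ModPairBasic.BlowUp

set_option autoImplicit false
universe u
open CategoryTheory CategoryTheory.Limits AlgebraicGeometry
open Divisors

namespace Groth.Agent.S1662

theorem nzd_tmul_of_flat {A B C : Type u} [CommRing A] [CommRing B] [CommRing C] [Algebra A B] [Algebra A C]
    (t : B) (ht : t ∈ nonZeroDivisors B) [Module.Flat A (B ⧸ Ideal.span {t})] :
    (t ⊗ₜ[A] (1 : C) : TensorProduct A B C) ∈ nonZeroDivisors (TensorProduct A B C) := by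
  let μ : B →ₗ[A] B := LinearMap.mulLeft A t
  have hinj : Function.Injective μ := fun a b h => (mul_cancel_left_mem_nonZeroDivisors ht).mp h
  have hex : Function.Exact μ (Ideal.Quotient.mkₐ A (Ideal.span {t})).toLinearMap := by
    intro b
    show Ideal.Quotient.mk _ b = 0 ↔ _
    rw [Ideal.Quotient.eq_zero_iff_mem, Ideal.mem_span_singleton']
    exact ⟨fun ⟨a, ha⟩ => ⟨a, (mul_comm t a).trans ha⟩, fun ⟨a, ha⟩ => ⟨a, (mul_comm a t).trans ha⟩⟩
  have h1 := LinearMap.lTensor_injective_of_exact_of_flat _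
    (Ideal.Quotient.mkₐ_surjective A (Ideal.span {t})) μ hinj hex C
  rw [LinearMap.lTensor_inj_iff_rTensor_inj] at h1
  have key : ∀ x : TensorProduct A B C, μ.rTensor C x = (t ⊗ₜ[A] (1 : C)) * x := by
    intro x
    induction x using TensorProduct.induction_on with
    | zero => simp
    | tmul b c => simp [μ]
    | add a b ha hb => simp [map_add, mul_add, ha, hb]
  rw [mem_nonZeroDivisors_iff_right]
  intro x hx
  refine h1 ?_
  rw [key, map_zero, mul_comm]
  exact hx


/-- Let f : X → S, D an effective Cartier divisor on X such that D → S is flat, and g : S' → S any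
morphism. Then the inverse image of D in X ×_S S' is an effective Cartier divisor. -/
theorem result {X S S' : Scheme.{u}} (f : X ⟶ S) (D : X.IdealSheafData) (hD : BlowUp.IsEffCartierIdeal D)
    [Flat (D.subschemeι ≫ f)] (g : S' ⟶ S) :
    BlowUp.IsEffCartierIdeal (D.comap (pullback.fst f g)) := by
  intro z
  obtain ⟨V₀, hxV₀, t₀, ht₀, hDV₀⟩ := hD (pullback.fst f g z)
  obtain ⟨_, ⟨W, hW, rfl⟩, hzW, -⟩ := S.isBasis_affineOpens.exists_subset_of_mem_open
    (Set.mem_univ (f (pullback.fst f g z))) isOpen_univ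
  obtain ⟨d, hd, hxd⟩ := V₀.2.exists_basicOpen_le (V := f ⁻¹ᵁ W) ⟨_, hzW⟩ hxV₀
  let V : X.affineOpens := X.affineBasicOpen d
  let t : Γ(X, V.1) := (X.presheaf.map (homOfLE (X.basicOpen_le d)).op).hom t₀
  have ht : t ∈ nonZeroDivisors Γ(X, V.1) := Groth.Agent.ModPairBasic.nzd_basicOpen ht₀ d
  have hDV : D.ideal V = Ideal.span {t} :=
    (D.map_ideal_basicOpen V₀ d).symm.trans (by rw [hDV₀, Ideal.map_span, Set.image_singleton]; rfl)
  have hVW : V.1 ≤ f ⁻¹ᵁ W := hd
  have hgw : g (pullback.snd f g z) ∈ W := by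
    have e : (pullback.fst f g ≫ f) z = (pullback.snd f g ≫ g) z := by rw [pullback.condition]
    rw [Scheme.Hom.comp_apply, Scheme.Hom.comp_apply] at e
    rw [← e]; exact hzW
  obtain ⟨_, ⟨T, hT, rfl⟩, hzT, hTW'⟩ := S'.isBasis_affineOpens.exists_subset_of_mem_open
    (show pullback.snd f g z ∈ g ⁻¹ᵁ W from hgw) (g ⁻¹ᵁ W).isOpen
  have hTW : T ≤ g ⁻¹ᵁ W := hTW'
  have H := IsPullback.of_hasPullback f g
  let UY := pullback.fst f g ⁻¹ᵁ V.1 ⊓ pullback.snd f g ⁻¹ᵁ T
  have hUY : IsAffineOpen UY := by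
    have : IsAffine _ := hW
    have : IsAffine _ := hT
    have : IsAffine _ := V.2
    exact .of_isIso (Scheme.Hom.isPullback_resLE H (UY := UY) hTW hVW rfl).isoPullback.hom
  have hpo := (isIso_pushoutSection_iff H hTW hVW (UY := UY) rfl).mp
    (isIso_pushoutSection_of_isAffineOpen H hTW hVW rfl hW hT V.2)
  refine ⟨⟨UY, hUY⟩, ⟨hxd, hzT⟩, (pullback.fst f g).appLE V.1 UY inf_le_left t, ?_, ?_⟩
  · have hfl : ((f.appLE W V.1 hVW) ≫ D.subschemeι.app V.1).hom.Flat := by
      have h := Scheme.Hom.flat_appLE (D.subschemeι ≫ f) hW (V.2.preimage D.subschemeι)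
        (show D.subschemeι ⁻¹ᵁ V.1 ≤ (D.subschemeι ≫ f) ⁻¹ᵁ W from fun y hy => hVW hy)
      rw [← Scheme.Hom.appLE_comp_appLE _ _ W V.1 _ hVW le_rfl] at h
      rwa [Scheme.Hom.app_eq_appLE]
    rw [Scheme.IdealSheafData.subschemeι_app] at hfl
    have hfl' : ((Ideal.Quotient.mk (D.ideal V)).comp (f.appLE W V.1 hVW).hom).Flat := by
      have h2 := RingHom.Flat.respectsIso.1 _ (D.subschemeObjIso V).commRingCatIsoToRingEquiv hfl
      have e2 : (D.subschemeObjIso V).commRingCatIsoToRingEquiv.toRingHom.comp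
          (f.appLE W V.1 hVW ≫ CommRingCat.ofHom (Ideal.Quotient.mk (D.ideal V)) ≫ (D.subschemeObjIso V).inv).hom
          = (Ideal.Quotient.mk (D.ideal V)).comp (f.appLE W V.1 hVW).hom :=
        RingHom.ext fun r => Iso.inv_hom_id_apply (D.subschemeObjIso V) _
      exact e2 ▸ h2
    letI := (f.appLE W V.1 hVW).hom.toAlgebra
    letI := (g.appLE W T hTW).hom.toAlgebra
    haveI : Module.Flat Γ(S, W) (Γ(X, V.1) ⧸ Ideal.span {t}) := by
      rw [← hDV]
      exact hfl'
    have hn := nzd_tmul_of_flat (A := Γ(S, W)) (C := Γ(S', T)) t ht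
    let e := (CommRingCat.isPushout_tensorProduct Γ(S, W) Γ(X, V.1) Γ(S', T)).isoIsPushout _ _ hpo
    have he : e.hom (t ⊗ₜ[Γ(S, W)] (1 : Γ(S', T))) = (pullback.fst f g).appLE V.1 UY inf_le_left t :=
      congr($((CommRingCat.isPushout_tensorProduct Γ(S, W) Γ(X, V.1) Γ(S', T)).inl_isoIsPushout_hom _ _ hpo).hom t)
    show (pullback.fst f g).appLE V.1 UY inf_le_left t ∈ nonZeroDivisors Γ(pullback f g, UY)
    rw [← he, mem_nonZeroDivisors_iff_right]
    intro x hx
    obtain ⟨y, rfl⟩ := e.commRingCatIsoToRingEquiv.surjective x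
    change e.commRingCatIsoToRingEquiv y * e.commRingCatIsoToRingEquiv _ = 0 at hx
    rw [← map_mul, EmbeddingLike.map_eq_zero_iff] at hx
    rw [mem_nonZeroDivisors_iff_right.mp hn y hx, map_zero]
  · rw [Groth.Agent.IdealComap.ideal_comap D (pullback.fst f g) ⟨UY, hUY⟩ V inf_le_left, hDV, Ideal.map_span,
      Set.image_singleton]

end Groth.Agent.S1662
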