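import Groth.Statements.S10797
import Groth.Agent.AlgSpPts.IdealChart
import Groth.Agent.AlgSpLib.FibreProduct
import Groth.Agent.S10855
import Groth.Agent.S1662
import Groth.Agent.AlgSpLib.LocP
import Mathlib.AlgebraicGeometry.Morphisms.Etale


set_option autoImplicit false
set_option backward.isDefEq.respectTransparency.types false
universe u
open CategoryTheory CategoryTheory.Limits AlgebraicGeometry Topology TopologicalSpace
open AlgSp

namespace Groth.Agent.S10797

/-- Let f : X ⟶ Y be a morphism of algebraic spaces over a scheme S and D ⟶ X an effective Cartier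
divisor (one-chart sense) such that the composite D ⟶ Y is flat. Then for every morphism g : Y' ⟶ Y
and every pullback square exhibiting X' as Y' ×_Y X with projection g' : X' ⟶ X, the inverse image
of D under g' (the projection to X' from any pullback of D ⟶ X along g') is an effective Cartier
divisor on X'. (The published statement takes g to be a morphism from a scheme Y'; this row allows
Y' to be an algebraic space, to which the same etale-local reduction to schemes applies.) -/
theorem result {S : Scheme.{u}} (X Y D Y' X' D' : AlgSp.Space S)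
    (f : X ⟶ Y) (i : D ⟶ X) (hD : AlgSp.IsEffCartierSub i.hom) (hflat : AlgSp.LocP @Flat (i ≫ f).hom)
    (g : Y' ⟶ Y) (g' : X' ⟶ X) (f' : X' ⟶ Y') (hX' : IsPullback g'.hom f'.hom f.hom g.hom)
    (k : D' ⟶ D) (i' : D' ⟶ X') (hD' : IsPullback k.hom i'.hom i.hom g'.hom) :
    AlgSp.IsEffCartierSub i'.hom := by
  obtain ⟨hi, V₁, φ₁, I₁, fd, hφ₁, hφ₁s, sD, hI₁⟩ := hD
  obtain ⟨V, ψ, hψ, hψs⟩ := Y.property.atlas
  obtain ⟨R, p, n, sR⟩ := Groth.Agent.AlgSpLib.exists_isPullback (Y.property.representable_from_yon (φ₁ ≫ f.hom)) ψ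
  have : Etale p.left := Groth.Agent.AlgSpLib.prop_snd sR.flip hψ
  obtain ⟨kR, -, sDR, -⟩ := Groth.Agent.AlgSpPts.ideal_comp sD p
  have hflatR : Flat ((I₁.comap p.left).subschemeι ≫ n.left) := by
    refine hflat ((AlgSp.yon S).map kR ≫ fd) ψ (Groth.Agent.AlgSpPts.idealι R (I₁.comap p.left) ≫ n)
      (MorphismProperty.of_isPullback sDR.flip (Groth.Agent.AlgSpLib.repWith_yon_comp (P := @Etale) p ‹_› hφ₁)) hψ ?_
    show ((AlgSp.yon S).map kR ≫ fd) ≫ i.hom ≫ f.hom = _
    rw [← Category.assoc, sDR.w, Functor.map_comp, Category.assoc, Category.assoc, Category.assoc, sR.w]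
  obtain ⟨V', b, m, hb, hbs, wb⟩ := Groth.Agent.AlgSpLib.exists_chart_lift Y'.property Y.property g.hom ψ hψ hψs
  have sT := IsPullback.of_hasPullback f'.hom b
  have sT' := sT.paste_horiz hX'
  let p₁ := pullback.fst n m
  let p₂ := pullback.snd n m
  have sR' := (Groth.Agent.AlgSpLib.yon_isPullback (IsPullback.of_hasPullback n m)).paste_horiz sR
  rw [← wb] at sR'
  let l := sT'.lift ((AlgSp.yon S).map p₁ ≫ (AlgSp.yon S).map p ≫ φ₁) ((AlgSp.yon S).map p₂) (by
    rw [Category.assoc, Category.assoc, ← sR'.w, Category.assoc])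
  have sl : IsPullback ((AlgSp.yon S).map p₁ ≫ (AlgSp.yon S).map p) l φ₁ (pullback.fst f'.hom b ≫ g'.hom) :=
    IsPullback.of_bot (by rw [IsPullback.lift_snd]; exact sR')
      (by rw [IsPullback.lift_fst, Category.assoc]) sT'
  let a' := l ≫ pullback.fst f'.hom b
  have ha' : AlgSp.RepWith @Etale a' :=
    MorphismProperty.comp_mem _ _ _ (MorphismProperty.of_isPullback sl hφ₁) (MorphismProperty.of_isPullback sT.flip hb)
  have ha's : AlgSp.RepWith @Surjective a' :=
    MorphismProperty.comp_mem _ _ _ (MorphismProperty.of_isPullback sl hφ₁s) (MorphismProperty.of_isPullback sT.flip hbs)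
  have ea : a' ≫ g'.hom = (AlgSp.yon S).map p₁ ≫ (AlgSp.yon S).map p ≫ φ₁ := by
    rw [Category.assoc]; exact sT'.lift_fst _ _ _
  obtain ⟨k₂, -, s₂, -⟩ := Groth.Agent.AlgSpPts.ideal_comp sDR p₁
  rw [← ea] at s₂
  let t := hD'.lift ((AlgSp.yon S).map k₂ ≫ (AlgSp.yon S).map kR ≫ fd) ((AlgSp.yon S).map (Groth.Agent.AlgSpPts.idealι _ ((I₁.comap p.left).comap p₁.left)) ≫ a') (s₂.w.trans (Category.assoc _ _ _).symm)
  refine ⟨MorphismProperty.of_isPullback hD' hi, pullback n m, a', (I₁.comap p.left).comap p₁.left, t, ha', ha's,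
    IsPullback.of_right (by rw [IsPullback.lift_fst]; exact s₂) (IsPullback.lift_snd _ _ _ _) hD', ?_⟩
  have : Flat ((I₁.comap p.left).subschemeι ≫ n.left) := hflatR
  have hc := Groth.Agent.S1662.result n.left (I₁.comap p.left) (Groth.Agent.S10855.result p.left I₁ hI₁) m.left
  have sL := Groth.Agent.AlgSpLib.left_isPullback (IsPullback.of_hasPullback n m)
  have e : p₁.left = sL.isoPullback.hom ≫ pullback.fst n.left m.left := sL.isoPullback_hom_fst.symm
  rw [e, Scheme.IdealSheafData.comap_comp]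
  exact Groth.Agent.S10855.result _ _ hc
end Groth.Agent.S10797
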