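import Groth.Statements.S10805
import Groth.Agent.AlgSpPts.Descend
import Groth.Agent.AlgSpLib.DiagMor
-- import your own Groth.Agent.* helpers here

set_option autoImplicit false
universe u
open CategoryTheory CategoryTheory.Limits AlgebraicGeometry Topology TopologicalSpace
open AlgSp

namespace Groth.Agent.S10805

section Lem

open CategoryTheory CategoryTheory.Limits AlgebraicGeometry Opposite AlgSp AlgSpLib

theorem minimalPrimes_of_weakAss {R : Type u} [CommRing R] [_root_.IsReduced R] (p : Ideal R) [p.IsPrime] (f : R)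
    (I : Ideal R) (hI : ∀ a, a ∈ I ↔ a * f = 0) (h : p ∈ I.minimalPrimes) : p ∈ minimalPrimes R := by
  have hf : f ∉ p := by
    intro hfp
    obtain ⟨s, hs, hsf⟩ : ∃ s ∉ p, ∃ n : ℕ, s * f ^ n ∈ I := by
      by_contra! hne
      let T : Submonoid R := p.primeCompl ⊔ Submonoid.powers f
      have hT : Disjoint (I : Set R) (T : Set R) := by
        refine Set.disjoint_left.2 fun x hx hxT => ?_
        obtain ⟨s, hs, _, ⟨n, rfl⟩, rfl⟩ := Submonoid.mem_sup.1 hxT
        exact hne s hs n hx
      obtain ⟨q, hq, hIq, hqT⟩ := Ideal.exists_le_prime_disjoint I T hT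
      have hqp : q ≤ p := fun x hx => by
        by_contra hxp
        exact Set.disjoint_left.1 hqT hx (Submonoid.mem_sup_left hxp)
      obtain rfl : q = p := le_antisymm hqp (h.2 ⟨hq, hIq⟩ hqp)
      exact Set.disjoint_left.1 hqT hfp (Submonoid.mem_sup_right (Submonoid.mem_powers f))
    obtain ⟨n, hn⟩ := hsf
    rw [hI] at hn
    have h0 : s * f = 0 := IsNilpotent.eq_zero ⟨n + 1, by
      rw [mul_pow, pow_succ, pow_succ, show s ^ n * s * (f ^ n * f) = s ^ n * (s * f ^ n * f) by ring, hn, mul_zero]⟩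
    exact hs (h.1.2 ((hI s).2 h0))
  refine ⟨⟨‹p.IsPrime›, bot_le⟩, fun q ⟨hq, _⟩ hqp => ?_⟩
  refine h.2 ⟨hq, fun a ha => ?_⟩ hqp
  have : a * f ∈ q := by rw [(hI a).1 ha]; exact q.zero_mem
  exact (hq.mem_or_mem this).resolve_right fun hf' => hf (hqp hf')

variable {S : Scheme.{u}} {X : AlgSp.Space S}

theorem isReduced_chart (hX : IsReducedSp X.obj) {U : Over S} {a : (yon S).obj U ⟶ X.obj} (ha : RepWith @Etale a) :
    AlgebraicGeometry.IsReduced U.left := by
  obtain ⟨U₀, a₀, ha₀, ha₀s, hU₀⟩ := hX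
  obtain ⟨W, p, q, sq⟩ := exists_isPullback ha.1 a₀
  haveI : Etale p.left := prop_snd sq.flip ha₀
  haveI : Etale q.left := prop_snd sq ha
  haveI : Surjective p.left := prop_snd sq.flip ha₀s
  haveI : AlgebraicGeometry.IsReduced U₀.left := hU₀
  haveI : AlgebraicGeometry.IsReduced W.left := EtSite.ReducedFLC.isReduced_of_etale q.left
  exact GeomFibre.isReduced_of_flat_surjective p.left

theorem isWeakAssOn_iff (hX : IsReducedSp X.obj) (E : EtOver X.obj) [IsAffine E.obj.left.left] (v : E.obj.left.left) :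
    IsWeakAssOn (unitModEt X.obj) E v ↔ ringKrullDim (E.obj.left.left.presheaf.stalk v) = 0 := by
  let T := E.obj.left.left
  haveI : AlgebraicGeometry.IsReduced T := isReduced_chart hX E.property
  letI := TopCat.Presheaf.algebra_section_stalk T.presheaf (⟨v, trivial⟩ : (⊤ : T.Opens))
  have hloc := (isAffineOpen_top T).isLocalization_stalk ⟨v, trivial⟩
  let p := ((isAffineOpen_top T).primeIdealOf ⟨v, trivial⟩).asIdeal
  haveI : IsLocalization.AtPrime (T.presheaf.stalk v) p := hloc
  have hp : primeAtPt T v = p := IsLocalization.AtPrime.under_maximalIdeal (T.presheaf.stalk v) p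
  rw [IsLocalization.AtPrime.ringKrullDim_eq_height p (T.presheaf.stalk v)]
  change (∃ s : sectModEt (unitModEt X.obj) E, primeAtPt T v ∈ (annSect s).minimalPrimes) ↔ _
  rw [hp, show ((p.height : WithBot ℕ∞) = 0) ↔ p.height = 0 from WithBot.coe_eq_zero, Ideal.height_eq_zero_iff]
  have hI : ∀ (s : sectModEt (unitModEt X.obj) E) (a : Γ(T, ⊤)), a ∈ annSect s ↔ a * (ULift.down s : Γ(T, ⊤)) = 0 :=
    fun s a => ⟨fun h => congrArg ULift.down h, fun h => ULift.ext _ _ h⟩
  constructor
  · rintro ⟨s, hs⟩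
    exact minimalPrimes_of_weakAss p _ _ (hI s) hs
  · intro h
    refine ⟨upΓ E 1, ?_⟩
    have : annSect (M := unitModEt X.obj) (E := E) (upΓ E 1) = ⊥ := by
      ext a
      rw [hI, Ideal.mem_bot]
      exact ⟨fun h => (mul_one a).symm.trans h, fun h => by rw [h]; exact zero_mul _⟩
    rw [this]
    exact h

end Lem


/-- Let X be a reduced algebraic space over a scheme S and x a point of |X|. Then x is a weakly
associated point of X (a weakly associated point of the structure sheaf O_X on the small etale site)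
if and only if x is a point of codimension 0 of X (for some scheme U with a representable etale h_U
⟶ X and some point u of U over x, the local ring of U at u has Krull dimension 0). -/
theorem result {S : Scheme.{u}} (X : AlgSp.Space S)
    (hX : AlgSp.IsReducedSp X.obj) [(AlgSp.unitModEt X.obj).IsQuasicoherent] (x : AlgSp.Points X.obj) :
    x ∈ AlgSp.WeakAssEt (AlgSp.unitModEt X.obj) ↔
      AlgSp.HasAt (fun U u => ringKrullDim ↥(U.presheaf.stalk u) = 0) X.obj x := by
  constructor
  · rintro ⟨E, hE, v, hv, h⟩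
    exact ⟨E.obj.left, E.obj.hom, v, E.property, hv, (isWeakAssOn_iff hX E v).1 h⟩
  · rintro ⟨U, a, v, ha, hv, h⟩
    obtain ⟨A, hA, hvA, -⟩ := exists_isAffineOpen_mem_and_subset (x := v) (U := ⊤) trivial
    let U' : Over S := Over.mk (A.ι ≫ U.hom)
    let k : U' ⟶ U := Over.homMk A.ι rfl
    let E : AlgSp.EtOver X.obj := AlgSp.EtOver.mk ((AlgSp.yon S).map k ≫ a)
      (AlgSpLib.repWith_yon_comp k (show Etale A.ι from inferInstance) ha)
    haveI : IsAffine E.obj.left.left := hA
    refine ⟨E, ‹_›, ⟨v, hvA⟩, ?_, (isWeakAssOn_iff hX E ⟨v, hvA⟩).2 ?_⟩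
    · exact (AlgSpLib.ofPt_comp k a ⟨v, hvA⟩).trans hv
    · exact (ringKrullDim_eq_of_ringEquiv (asIso (A.ι.stalkMap ⟨v, hvA⟩)).commRingCatIsoToRingEquiv).symm.trans h

end Groth.Agent.S10805
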