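import Groth.Statements.S10806
import Groth.Agent.AlgSpPts.SchDense
import Groth.Agent.AlgSpPts.Descents
import Groth.Agent.AlgSpFin.MorCalc
import Groth.Agent.S8853


set_option autoImplicit false
universe u
open CategoryTheory CategoryTheory.Limits AlgebraicGeometry Topology TopologicalSpace
open AlgSp

namespace Groth.Agent.S10806

/-- Let X be an algebraic space over a scheme S, Z ⟶ X a locally principal closed subspace (one-chart
sense: representable by closed immersions, and on some etale surjective scheme chart the inverse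
image of Z is cut out by a quasi-coherent ideal sheaf that is Zariski-locally generated by one
section) and U ⟶ X the complementary open subspace, that is, a morphism representable by open
immersions whose image in |X| is the complement of the image of |Z|. Then U ⟶ X is an affine
morphism. -/
theorem result {S : Scheme.{u}} (X Z U : AlgSp.Space S)
    (i : Z ⟶ X) (hZ : AlgSp.IsLocPrincipalSub i.hom) (j : U ⟶ X) (hj : AlgSp.RepWith @IsOpenImmersion j.hom)
    (hU : Set.range (AlgSp.Points.map j.hom) = (Set.range (AlgSp.Points.map i.hom))ᶜ) :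
    AlgSp.IsAffineMor j.hom := by
  obtain ⟨hi, V, φ, I, fd, hφ, hφs, sD, hI⟩ := hZ
  obtain ⟨W, c, hc⟩ := Groth.Agent.AlgSpPts.exists_open hj φ
  have hmem : ∀ {G : AlgSp.Sp S} {J : G ⟶ X.obj} {T : Over S} {t : T ⟶ V} {k : (AlgSp.yon S).obj T ⟶ G}
      (_ : IsPullback k ((AlgSp.yon S).map t) J φ) (x : ↥V.left),
      x ∈ Set.range t.left ↔ AlgSp.Points.ofPt φ x ∈ Set.range (AlgSp.Points.map J) := by
    intro G J T t k sq x
    constructor
    · rintro ⟨y, rfl⟩
      refine ⟨AlgSp.Points.ofPt k y, ?_⟩
      rw [AlgSp.Points.map_ofPt, sq.w, Groth.Agent.AlgSpLib.ofPt_comp]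
    · rintro ⟨g, hg⟩
      obtain ⟨z, -, hz⟩ := Groth.Agent.AlgSpLib.exists_point_of_isPullback sq g (AlgSp.Points.ofPt (𝟙 _) x)
        (by rw [hg, Groth.Agent.AlgSpLib.map_ofPt_id])
      obtain ⟨y, rfl⟩ := Groth.Agent.AlgSpLib.exists_ofScheme z
      refine ⟨y, (AlgSp.Points.schemeHomeo V).injective ?_⟩
      rw [Groth.Agent.AlgSpLib.map_ofPt_id, ← Category.comp_id ((AlgSp.yon S).map t), Groth.Agent.AlgSpLib.ofPt_comp] at hz
      exact hz
  have hW : W = I.support.compl := by
    ext x
    have h1 := hmem hc x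
    have h2 := hmem sD x
    show x ∈ W ↔ x ∉ I.support
    rw [show x ∈ W ↔ x ∈ Set.range W.ι by rw [Scheme.Opens.range_ι]; rfl, show (x ∈ I.support) ↔ x ∈ Set.range I.subschemeι by
      rw [Scheme.IdealSheafData.range_subschemeι]; rfl]
    refine h1.trans ?_
    rw [hU, Set.mem_compl_iff]
    exact not_congr h2.symm
  subst hW
  exact Groth.Agent.AlgSpPts.isAffineMor_of_chart U.property X.property j.hom φ hφ hφs hc
    (Groth.Agent.AlgSpFin.isAffineMor_of_repWith ((AlgSp.repWith_yon_map_iff @IsAffineHom _).2 (Groth.Agent.S8853.result I hI)))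

end Groth.Agent.S10806
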