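import Groth.Statements.S10820
import Groth.Agent.ConnDiv.Main
import Groth.Agent.ConnDiv.ProjDim

set_option autoImplicit false
set_option backward.isDefEq.respectTransparency false
universe u
open AlgebraicGeometry Topology TopologicalSpace
open Variety

namespace Groth.Agent.S10820

/-- For a field k, n ≥ 2 and a nonzero homogeneous polynomial f of degree d ≥ 1 in n + 1 variables, the
hypersurface V_+(f) in projective n-space over k (as a subspace of Proj of the polynomial ring
graded by degree) is connected and nonempty. -/
theorem result (k : Type u) [Field k] (n d : ℕ) (hn : 2 ≤ n)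
    (f : MvPolynomial (Fin (n + 1)) k) (hf : f.IsHomogeneous d) (hd : 0 < d) (hf0 : f ≠ 0) :
    IsConnected (ProjectiveSpectrum.zeroLocus (CohB1.polyGrading n k)
      ({f} : Set (MvPolynomial (Fin (n + 1)) k))) := by
  haveI : IsProper (CohB1.ProjSpace.toSpec n k) := Groth.Agent.InvPow.isProper_toSpec n k
  haveI := Groth.Agent.ProjCoh.isIntegral_proj (n := n) (K := k)
  haveI : IrreducibleSpace (CohB1.ProjSpace n k) := inferInstanceAs (IrreducibleSpace (Proj (CohB1.polyGrading n k)))
  have hdim : (2 : WithBot ℕ∞) ≤ topologicalKrullDim (CohB1.ProjSpace n k) :=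
    le_trans (by exact_mod_cast hn) (Groth.Agent.ConnDiv.le_topologicalKrullDim_proj k n)
  let W : (CohB1.ProjSpace n k).Opens := Proj.basicOpen (CohB1.polyGrading n k) f
  have heq : (W : Set (CohB1.ProjSpace n k))ᶜ =
      ProjectiveSpectrum.zeroLocus (CohB1.polyGrading n k) {f} := by
    ext x
    exact (not_not (a := f ∈ x.asHomogeneousIdeal)).trans (Set.singleton_subset_iff (a := f)).symm
  refine heq ▸ ?_
  by_cases hne : (W : Set (CohB1.ProjSpace n k)).Nonempty
  · exact Groth.Agent.ConnDiv.isConnected_compl_affineOpen (CohB1.ProjSpace.toSpec n k) hdim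
      (Proj.isAffineOpen_basicOpen (CohB1.polyGrading n k) f hf hd) hne
  · rw [Set.not_nonempty_iff_eq_empty.mp hne, Set.compl_empty]
    exact (isConnected_univ (α := (CohB1.ProjSpace n k : Scheme.{u})))
end Groth.Agent.S10820
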