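import Groth.Statements.S10821
import Mathlib
-- import your own Groth.Agent.* helpers here

set_option autoImplicit false
universe u
open AlgebraicGeometry Topology TopologicalSpace
open Variety

namespace Groth.Agent.S10821

open MvPolynomial TopologicalSpace

variable {k : Type u} [Field k] {n : ℕ}

/-- `a ↦ a(T X)`, recording the homogeneous components of `a` as coefficients. -/
noncomputable def scaleT : MvPolynomial (Fin (n + 1)) k →ₐ[k] Polynomial (MvPolynomial (Fin (n + 1)) k) :=
  aeval fun i => Polynomial.C (X i) * Polynomial.X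

theorem scaleT_coeff (a : MvPolynomial (Fin (n + 1)) k) (j : ℕ) :
    (scaleT a).coeff j = homogeneousComponent j a := by
  induction a using MvPolynomial.induction_on' with
  | monomial m c =>
    have h : scaleT (monomial m c) = Polynomial.C (monomial m c) * Polynomial.X ^ m.degree := by
      rw [scaleT, aeval_monomial]
      have e : (m.prod fun i e => (Polynomial.C (X i : MvPolynomial (Fin (n + 1)) k) * Polynomial.X) ^ e) =
          Polynomial.C (m.prod fun i e => (X i : MvPolynomial (Fin (n + 1)) k) ^ e) * Polynomial.X ^ m.degree := by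
        simp only [Finsupp.prod, mul_pow, Finset.prod_mul_distrib, map_prod, map_pow, Finset.prod_pow_eq_pow_sum]
        rfl
      rw [e, monomial_eq, map_mul, ← mul_assoc]
      rfl
    rw [h, Polynomial.coeff_C_mul_X_pow,
      homogeneousComponent_of_mem ((mem_homogeneousSubmodule _ _).mpr (isHomogeneous_monomial c rfl))]
  | add p q hp hq => rw [map_add, Polynomial.coeff_add, hp, hq, map_add]

theorem isHom_of_dvd {g h : MvPolynomial (Fin (n + 1)) k} {d : ℕ} (hg : g.IsHomogeneous d) (hg0 : g ≠ 0)
    (hdvd : h ∣ g) : ∃ e, h.IsHomogeneous e := by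
  obtain ⟨b, hb⟩ := hdvd
  have hinj : ∀ a : MvPolynomial (Fin (n + 1)) k, a ≠ 0 → scaleT a ≠ 0 := by
    intro a ha h0
    refine ha ?_
    rw [← sum_homogeneousComponent a]
    exact Finset.sum_eq_zero fun j _ => by rw [← scaleT_coeff, h0, Polynomial.coeff_zero]
  have hgX : scaleT g = Polynomial.C g * Polynomial.X ^ d := by
    ext1 j
    rw [scaleT_coeff, Polynomial.coeff_C_mul_X_pow, homogeneousComponent_of_mem ((mem_homogeneousSubmodule _ _).mpr hg)]
  have hh0 : h ≠ 0 := fun e => hg0 (by rw [hb, e, zero_mul])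
  have hb0 : b ≠ 0 := fun e => hg0 (by rw [hb, e, mul_zero])
  have h1 : (scaleT h).natDegree + (scaleT b).natDegree = d := by
    rw [← Polynomial.natDegree_mul (hinj h hh0) (hinj b hb0), ← map_mul, ← hb, hgX,
      Polynomial.natDegree_C_mul_X_pow d g hg0]
  have h2 : (scaleT h).natTrailingDegree + (scaleT b).natTrailingDegree = d := by
    rw [← Polynomial.natTrailingDegree_mul (hinj h hh0) (hinj b hb0), ← map_mul, ← hb, hgX,
      Polynomial.natTrailingDegree_mul_X_pow (Polynomial.C_ne_zero.mpr hg0), Polynomial.natTrailingDegree_C, zero_add]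
  have h3 := Polynomial.natTrailingDegree_le_natDegree (scaleT h)
  have h4 := Polynomial.natTrailingDegree_le_natDegree (scaleT b)
  refine ⟨(scaleT h).natDegree, ?_⟩
  suffices key : ∀ j, (homogeneousComponent j h).IsHomogeneous (scaleT h).natDegree by
    have := IsHomogeneous.sum (Finset.range (h.totalDegree + 1)) (fun j => homogeneousComponent j h) _ fun j _ => key j
    rwa [sum_homogeneousComponent] at this
  intro j
  by_cases hj : j = (scaleT h).natDegree
  · exact hj ▸ homogeneousComponent_isHomogeneous j h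
  · have : homogeneousComponent j h = 0 := by
      rw [← scaleT_coeff]
      rcases lt_or_gt_of_ne hj with h' | h'
      · exact Polynomial.coeff_eq_zero_of_lt_natTrailingDegree (by omega)
      · exact Polynomial.coeff_eq_zero_of_natDegree_lt h'
    rw [this]; exact isHomogeneous_zero _ _ _

abbrev Pn (k : Type u) [Field k] (n : ℕ) := ProjectiveSpectrum (CohB1.polyGrading n k)

theorem exists_irreducible_mem (p : Pn k n) (hp : p.asHomogeneousIdeal.toIdeal ≠ ⊥) :
    ∃ (e : ℕ) (h : MvPolynomial (Fin (n + 1)) k), h.IsHomogeneous e ∧ Irreducible h ∧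
      h ∈ p.asHomogeneousIdeal.toIdeal := by
  classical
  obtain ⟨a, ha, ha0⟩ := Submodule.exists_mem_ne_zero_of_ne_bot hp
  obtain ⟨j, hj⟩ : ∃ j, homogeneousComponent j a ≠ 0 := by
    by_contra hc
    push_neg at hc
    exact ha0 (by rw [← sum_homogeneousComponent a]; exact Finset.sum_eq_zero fun j _ => hc j)
  have hcomp : homogeneousComponent j a ∈ p.asHomogeneousIdeal.toIdeal := by
    have h1 := p.asHomogeneousIdeal.isHomogeneous j ha
    rwa [show ((DirectSum.decompose (CohB1.polyGrading n k) a) j : MvPolynomial (Fin (n + 1)) k) =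
      homogeneousComponent j a from decomposition.decompose'_apply a j] at h1
  obtain ⟨s, hs, u', hu'⟩ := WfDvdMonoid.exists_factors (homogeneousComponent j a) hj
  rw [← hu'] at hcomp
  have hps : s.prod ∈ p.asHomogeneousIdeal.toIdeal := (Ideal.mul_unit_mem_iff_mem _ u'.isUnit).mp hcomp
  obtain ⟨h, hhs, hh⟩ := p.isPrime.multiset_prod_mem_iff_exists_mem _ |>.mp hps
  obtain ⟨e, he⟩ := isHom_of_dvd (homogeneousComponent_isHomogeneous j a) hj
    (hu' ▸ (Multiset.dvd_prod hhs).mul_right _)
  exact ⟨e, h, he, hs h hhs, hh⟩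

/-- The point `(f)`, for `f` irreducible homogeneous contained in a relevant prime. -/
noncomputable def pt {e : ℕ} (f : MvPolynomial (Fin (n + 1)) k) (hf : f.IsHomogeneous e) (hirr : Irreducible f)
    (p : Pn k n) (hfp : f ∈ p.asHomogeneousIdeal.toIdeal) : Pn k n where
  asHomogeneousIdeal := ⟨Ideal.span {f}, Ideal.homogeneous_span _ _ (by
    rintro a rfl; exact ⟨e, (mem_homogeneousSubmodule _ _).mpr hf⟩)⟩
  isPrime := (Ideal.span_singleton_prime hirr.ne_zero).mpr (UniqueFactorizationMonoid.irreducible_iff_prime.mp hirr)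
  not_irrelevant_le h := p.not_irrelevant_le fun _ ha => (Ideal.span_singleton_le_iff_mem _).mpr hfp (h ha)

theorem ext_toIdeal {p q : Pn k n} (h : p.asHomogeneousIdeal.toIdeal = q.asHomogeneousIdeal.toIdeal) : p = q :=
  ProjectiveSpectrum.ext (HomogeneousIdeal.toIdeal_injective h)

noncomputable def cl (z : Pn k n) : IrreducibleCloseds (Pn k n) :=
  ⟨closure {z}, isIrreducible_singleton.closure, isClosed_closure⟩

theorem mem_cl {z t : Pn k n} : t ∈ closure ({z} : Set (Pn k n)) ↔ z ≤ t :=
  (ProjectiveSpectrum.le_iff_mem_closure _ z t).symm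

theorem cl_le {a b : Pn k n} : cl a ≤ cl b ↔ b ≤ a :=
  ⟨fun h => mem_cl.mp (h (subset_closure rfl)),
    fun h => closure_minimal (Set.singleton_subset_iff.mpr (mem_cl.mpr h)) isClosed_closure⟩

theorem cl_surj (W : IrreducibleCloseds (Pn k n)) : ∃ w, cl w = W := by
  haveI : QuasiSober (Pn k n) := inferInstanceAs (QuasiSober (AlgebraicGeometry.Proj (CohB1.polyGrading n k)))
  obtain ⟨w, hw⟩ := QuasiSober.sober W.isIrreducible W.isClosed
  exact ⟨w, IrreducibleCloseds.ext hw⟩

theorem isMax_iff (w : Pn k n) : IsMax (cl w) ↔ w.asHomogeneousIdeal.toIdeal = ⊥ := by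
  constructor
  · intro h
    let η : Pn k n :=
      { asHomogeneousIdeal := ⊥
        isPrime := Ideal.isPrime_bot
        not_irrelevant_le := fun hle => by
          have hX : (X 0 : MvPolynomial (Fin (n + 1)) k) ∈ (HomogeneousIdeal.irrelevant (CohB1.polyGrading n k)).toIdeal := by
            show GradedRing.proj (CohB1.polyGrading n k) 0 (X 0) = 0
            rw [GradedRing.proj_apply, DirectSum.decompose_of_mem_ne _
              ((mem_homogeneousSubmodule 1 _).mpr (isHomogeneous_X k 0)) one_ne_zero]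
          exact X_ne_zero 0 ((Ideal.mem_bot).mp (hle hX)) }
    have hle : cl w ≤ cl η := cl_le.mpr fun a ha => by
      rw [(Ideal.mem_bot).mp ha]; exact w.asHomogeneousIdeal.toIdeal.zero_mem
    have h2 : (w.asHomogeneousIdeal : HomogeneousIdeal _) ≤ η.asHomogeneousIdeal := cl_le.mp (h hle)
    exact le_bot_iff.mp (fun a ha => h2 ha)
  · intro h W hW
    obtain ⟨v, rfl⟩ := cl_surj W
    refine cl_le.mpr fun a ha => ?_
    have : a ∈ w.asHomogeneousIdeal.toIdeal := ha
    rw [h, Ideal.mem_bot] at this
    rw [this]; exact v.asHomogeneousIdeal.toIdeal.zero_mem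


/-- For a field k and an irreducible closed subset Z of projective n-space over k, Z has codimension 1
(the longest chain of irreducible closed subsets strictly above Z has length 1) if and only if Z is
the zero set V_+(f) of an irreducible homogeneous polynomial f in n + 1 variables. -/
theorem result (k : Type u) [Field k] (n : ℕ)
    (Z : TopologicalSpace.IrreducibleCloseds (ProjectiveSpectrum (CohB1.polyGrading n k))) :
    Order.coheight Z = 1 ↔
      ∃ (d : ℕ) (f : MvPolynomial (Fin (n + 1)) k), f.IsHomogeneous d ∧ Irreducible f ∧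
        (Z : Set (ProjectiveSpectrum (CohB1.polyGrading n k))) =
          ProjectiveSpectrum.zeroLocus (CohB1.polyGrading n k) ({f} : Set (MvPolynomial (Fin (n + 1)) k)) := by
  classical
  obtain ⟨z, rfl⟩ := cl_surj Z
  have hchar : Order.coheight (cl z) = 1 ↔ z.asHomogeneousIdeal.toIdeal ≠ ⊥ ∧
      ∀ w : Pn k n, w ≤ z → w ≠ z → w.asHomogeneousIdeal.toIdeal = ⊥ := by
    constructor
    · intro h
      refine ⟨fun hz => ?_, fun w hw hne => ?_⟩
      · rw [Order.coheight_eq_zero.mpr ((isMax_iff z).mpr hz)] at h; exact zero_ne_one h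
      · have hlt : cl z < cl w := lt_of_le_of_ne (cl_le.mpr hw) fun e =>
          hne (le_antisymm hw (cl_le.mp e.ge))
        obtain ⟨-, -, h3⟩ := Order.coheight_eq_coe_add_one_iff.mp (show Order.coheight (cl z) = ((0 : ℕ) : ℕ∞) + 1 by simpa using h)
        exact (isMax_iff w).mp (Order.coheight_eq_zero.mp (le_antisymm (h3 _ hlt) bot_le))
    · rintro ⟨h1, h2⟩
      have h3 : ∀ W > cl z, Order.coheight W = 0 := by
        intro W hW
        obtain ⟨w, rfl⟩ := cl_surj W
        refine Order.coheight_eq_zero.mpr ((isMax_iff w).mpr (h2 w (cl_le.mp hW.le) ?_))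
        rintro rfl; exact lt_irrefl _ hW
      refine le_antisymm ?_ (Order.one_le_iff_pos.mpr (Order.coheight_pos.mpr fun h => h1 ((isMax_iff z).mp h)))
      exact_mod_cast Order.coheight_le_coe_iff.mpr fun W hW => by simp [h3 W hW]
  rw [hchar]
  constructor
  · rintro ⟨h1, h2⟩
    obtain ⟨d, f, hf, hirr, hfz⟩ := exists_irreducible_mem z h1
    refine ⟨d, f, hf, hirr, ?_⟩
    have hzf : z.asHomogeneousIdeal.toIdeal = Ideal.span {f} := by
      by_contra hne
      have hle : pt f hf hirr z hfz ≤ z := fun a ha => (Ideal.span_singleton_le_iff_mem _).mpr hfz ha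
      have := h2 _ hle fun e => hne (by rw [← e]; rfl)
      exact hirr.ne_zero (Ideal.span_singleton_eq_bot.mp this)
    ext t
    show t ∈ closure ({z} : Set (Pn k n)) ↔ _
    rw [mem_cl, ProjectiveSpectrum.mem_zeroLocus, Set.singleton_subset_iff]
    exact ⟨fun h => h hfz, fun h a ha => (Ideal.span_singleton_le_iff_mem _).mpr h (hzf ▸ ha)⟩
  · rintro ⟨d, f, hf, hirr, hZ⟩
    have hzz : z ∈ ProjectiveSpectrum.zeroLocus (CohB1.polyGrading n k) ({f} : Set _) :=
      hZ ▸ subset_closure (Set.mem_singleton z)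
    have hfz : f ∈ z.asHomogeneousIdeal.toIdeal := hzz rfl
    let w0 := pt f hf hirr z hfz
    have hw0 : w0 ∈ closure ({z} : Set (Pn k n)) := by
      show w0 ∈ (cl z : Set (Pn k n))
      rw [hZ, ProjectiveSpectrum.mem_zeroLocus, Set.singleton_subset_iff]
      exact Ideal.mem_span_singleton_self f
    have hzf : z.asHomogeneousIdeal.toIdeal = Ideal.span {f} :=
      le_antisymm (fun a ha => (mem_cl.mp hw0) ha) ((Ideal.span_singleton_le_iff_mem _).mpr hfz)
    refine ⟨by rw [hzf]; simpa using hirr.ne_zero, fun w hw hne => ?_⟩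
    by_contra hwb
    obtain ⟨e, h, he, hhi, hhw⟩ := exists_irreducible_mem w hwb
    have hdvd : f ∣ h := Ideal.mem_span_singleton.mp (hzf ▸ (show h ∈ z.asHomogeneousIdeal.toIdeal from hw hhw))
    obtain ⟨c, hc⟩ := hirr.associated_of_dvd hhi hdvd
    refine hne (ext_toIdeal (le_antisymm (fun a ha => hw ha) ?_))
    rw [hzf, Ideal.span_singleton_le_iff_mem]
    exact (Ideal.mul_unit_mem_iff_mem _ c.isUnit).mp (hc ▸ hhw)

end Groth.Agent.S10821
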