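import Groth.Statements.S7675
import Groth.Agent.ConeDim.Algebra

set_option autoImplicit false
universe u
open CategoryTheory CategoryTheory.Limits AlgebraicGeometry
open Variety

namespace Groth.Agent.S7675

open Groth.Agent.ConeDim TopologicalSpace Order

variable {k : Type u} [Field k] {n : ℕ}

local notation "Poly" => MvPolynomial (Fin (n + 1)) k
local notation "M" => RingHom.ker (MvPolynomial.constantCoeff : MvPolynomial (Fin (n + 1)) k →+* k)
local notation "P" => ProjectiveSpectrum (CohB1.polyGrading n k)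

attribute [local instance] MvPolynomial.gradedAlgebra

theorem irrelevant_eq : (HomogeneousIdeal.irrelevant (CohB1.polyGrading n k)).toIdeal = (M) := by
  ext f
  show GradedRing.proj (CohB1.polyGrading n k) 0 f = 0 ↔ _
  erw [proj_zero]
  rw [RingHom.mem_ker]
  exact map_eq_zero_iff _ (MvPolynomial.C_injective _ _)

theorem lt_vertex (x : P) : x.asHomogeneousIdeal.toIdeal < (M) :=
  lt_of_le_of_ne (le_vertex_of_isHomogeneous x.asHomogeneousIdeal.isHomogeneous x.isPrime.ne_top)
    fun h => x.not_irrelevant_le fun _ hf => h.ge (irrelevant_eq.le hf)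

/-- A closed subset of dimension at least `r` gives a chain of `r + 2` cone primes. -/
theorem exists_chain (Z : Set P) [QuasiSober P] (hZ : IsClosed Z) (r : ℕ)
    (hr : (r : WithBot ℕ∞) ≤ topologicalKrullDim ↥Z) :
    ∃ x ∈ Z, ∃ l : LTSeries (PrimeSpectrum Poly), l.length = r + 1 ∧
      l.head.asIdeal = x.asHomogeneousIdeal.toIdeal ∧ l.last.asIdeal = (M) := by
  obtain ⟨l, hl⟩ := Order.le_krullDim_iff.1 hr
  let W : Fin (l.length + 1) → IrreducibleCloseds P := fun i =>
    IrreducibleCloseds.map Subtype.val continuous_subtype_val (l i.rev)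
  let x : Fin (l.length + 1) → P := fun i => (W i).2.genericPoint
  have hx : ∀ i, closure {x i} = (W i : Set P) := fun i => by
    rw [IsIrreducible.genericPoint_closure_eq]
    exact (W i).3.closure_eq
  have hW : ∀ i, (W i : Set P) ⊆ Z := fun i =>
    closure_minimal (by rintro _ ⟨z, -, rfl⟩; exact z.2) hZ
  let y : Fin (l.length + 1) → PrimeSpectrum Poly := fun i =>
    ⟨(x i).asHomogeneousIdeal.toIdeal, (x i).isPrime⟩
  have hy : StrictMono y := fun i j hij => by
    have h : W j < W i := IrreducibleCloseds.map_strictMono_of_isInducing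
      Topology.IsInducing.subtypeVal (l.strictMono (Fin.rev_lt_rev.2 hij))
    have hle : x i ≤ x j := (ProjectiveSpectrum.le_iff_mem_closure _ (x i) (x j)).2 (by
      rw [hx]
      exact h.le (by rw [← SetLike.mem_coe, ← hx]; exact subset_closure rfl))
    refine lt_of_le_of_ne hle fun e => h.ne' (IrreducibleCloseds.ext ?_)
    rw [← hx, ← hx, show x i = x j from ProjectiveSpectrum.ext (HomogeneousIdeal.toIdeal_injective
      (congrArg PrimeSpectrum.asIdeal e))]
  let l1 : LTSeries (PrimeSpectrum Poly) := LTSeries.mk l.length y hy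
  have hlast : l1.last < ⟨(M), vertex_isMaximal.isPrime⟩ := lt_vertex (x (Fin.last _))
  refine ⟨x 0, hW 0 (by rw [← hx]; exact subset_closure rfl), l1.snoc _ hlast, by simp [l1, hl], ?_, ?_⟩
  · rw [RelSeries.head_snoc]; rfl
  · rw [RelSeries.last_snoc]

theorem main (X Y : Set P) [QuasiSober P] (hX : IsClosed X) (hY : IsClosed Y) (r s : ℕ)
    (hXr : topologicalKrullDim ↥X = r) (hYs : topologicalKrullDim ↥Y = s) (hrs : n ≤ r + s) :
    (X ∩ Y).Nonempty ∧
      ((r + s : ℕ) : WithBot ℕ∞) ≤ topologicalKrullDim ↥(X ∩ Y) + (n : WithBot ℕ∞) := by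
  obtain ⟨a, ha, la, hla, hla0, hla1⟩ := exists_chain X hX r hXr.ge
  obtain ⟨b, hb, lb, hlb, hlb0, hlb1⟩ := exists_chain Y hY s hYs.ge
  obtain ⟨Q, hQp, hQh, haQ, hbQ, hQ⟩ := exists_prime_of_chains a.asHomogeneousIdeal.toIdeal
    b.asHomogeneousIdeal.toIdeal a.asHomogeneousIdeal.isHomogeneous
    b.asHomogeneousIdeal.isHomogeneous la lb hla0.ge hla1 hlb0.ge hlb1
  rw [hla, hlb, Nat.card_fin, show r + 1 + (s + 1) - (n + 1) = (r + s - n) + 1 by omega] at hQ
  obtain ⟨l, hl, hl0, hlP⟩ := exists_homogeneous_chain (r + s - n) Q hQh hQ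
  let z : Fin (l.length + 1) → P := fun i =>
    ⟨⟨(l i).asIdeal, (hlP i).1⟩, (l i).isPrime,
      fun h => (hlP i).2.not_ge (irrelevant_eq.ge.trans h)⟩
  have hz : StrictMono z := fun i j hij => by
    have h := l.strictMono hij
    exact h
  have hzZ : ∀ i, z i ∈ X ∩ Y := fun i => by
    have h0 : Q ≤ (l i).asIdeal := hl0.ge.trans (l.head_le i)
    exact ⟨closure_minimal (Set.singleton_subset_iff.2 ha) hX
        ((ProjectiveSpectrum.le_iff_mem_closure _ a (z i)).1 (haQ.trans h0)),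
      closure_minimal (Set.singleton_subset_iff.2 hb) hY
        ((ProjectiveSpectrum.le_iff_mem_closure _ b (z i)).1 (hbQ.trans h0))⟩
  refine ⟨⟨z 0, hzZ 0⟩, ?_⟩
  let V : Fin (l.length + 1) → IrreducibleCloseds ↥(X ∩ Y) := fun i =>
    ⟨closure {(⟨z i.rev, hzZ i.rev⟩ : ↥(X ∩ Y))}, isIrreducible_singleton.closure, isClosed_closure⟩
  have hV : StrictMono V := fun i j hij => by
    have h := hz (Fin.rev_lt_rev.2 hij)
    refine lt_of_le_of_ne (closure_minimal (Set.singleton_subset_iff.2 ?_) isClosed_closure) fun e => ?_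
    · show _ ∈ closure _
      rw [closure_subtype, Set.image_singleton]
      exact (ProjectiveSpectrum.le_iff_mem_closure _ (z j.rev) (z i.rev)).1 h.le
    · have h2 : (⟨z j.rev, hzZ j.rev⟩ : ↥(X ∩ Y)) ∈ closure {(⟨z i.rev, hzZ i.rev⟩ : ↥(X ∩ Y))} := by
        rw [show closure {(⟨z i.rev, hzZ i.rev⟩ : ↥(X ∩ Y))} =
          closure {(⟨z j.rev, hzZ j.rev⟩ : ↥(X ∩ Y))} from (congrArg (fun W : IrreducibleCloseds ↥(X ∩ Y) => (W : Set ↥(X ∩ Y))) e)]
        exact subset_closure rfl
      rw [closure_subtype, Set.image_singleton] at h2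
      exact h.not_ge ((ProjectiveSpectrum.le_iff_mem_closure _ (z i.rev) (z j.rev)).2 h2)
  have hd : ((r + s - n : ℕ) : WithBot ℕ∞) ≤ topologicalKrullDim ↥(X ∩ Y) :=
    Order.le_krullDim_iff.2 ⟨LTSeries.mk l.length V hV, hl⟩
  calc ((r + s : ℕ) : WithBot ℕ∞) = ((r + s - n : ℕ) : WithBot ℕ∞) + (n : WithBot ℕ∞) := by
        rw [← Nat.cast_add, Nat.sub_add_cancel hrs]
    _ ≤ _ := add_le_add_left hd _

/-- Let k be a field, n ≥ 0 and X, Y ⊆ P^n_k nonempty closed subsets of dimensions r and s with r + s ≥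
n. Then X ∩ Y is nonempty and dim(X ∩ Y) ≥ r + s − n. -/
theorem result (k : Type u) [Field k] (n r s : ℕ)
    (X Y : Set ↥(CohB1.ProjSpace n k)) (hX : IsClosed X) (hY : IsClosed Y)
    (hXne : X.Nonempty) (hYne : Y.Nonempty)
    (hXr : topologicalKrullDim X = r) (hYs : topologicalKrullDim Y = s) (hrs : n ≤ r + s) :
    (X ∩ Y).Nonempty ∧ ((r + s : ℕ) : WithBot ℕ∞) ≤ topologicalKrullDim ↥(X ∩ Y) + (n : WithBot ℕ∞) := by
  have : QuasiSober (ProjectiveSpectrum (CohB1.polyGrading n k)) :=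
    inferInstanceAs (QuasiSober ↥(CohB1.ProjSpace n k))
  exact main X Y hX hY r s hXr hYs hrs

end Groth.Agent.S7675
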