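import Groth.Statements.S9154
import Groth.Agent.LocalDim.Affine
import Groth.Agent.DepthLib.CMModule
import Mathlib
-- import your own Groth.Agent.* helpers here

set_option autoImplicit false
universe u
open CAlg

namespace Groth.Agent.S9154

theorem height_add_dim (k S : Type u) [Field k] [CommRing S] [Algebra k S] [Algebra.FiniteType k S] (d : ℕ)
    (heq : ∀ p ∈ minimalPrimes S, ringKrullDim (S ⧸ p) = d) (q : Ideal S) [q.IsPrime] :
    ∃ h e : ℕ, q.height = h ∧ ringKrullDim (S ⧸ q) = e ∧ h + e = d := by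
  obtain ⟨n, hn, ⟨P, -, hP, hPn⟩, -⟩ := Groth.Agent.LocalDim.exists_localDim_spec k (⟨q, inferInstance⟩ : PrimeSpectrum S)
  rw [heq _ hP, Nat.cast_inj] at hPn
  subst hPn
  have h := Groth.Agent.LocalDim.localDim_eq k q
  rw [hn] at h
  obtain ⟨r, -, hr⟩ := Groth.Agent.DimTrdeg.exists_trdeg_eq_ringKrullDim k (S ⧸ q)
  haveI : IsNoetherianRing S := Algebra.FiniteType.isNoetherianRing k S
  obtain ⟨t, ht⟩ := WithTop.ne_top_iff_exists.mp (Ideal.height_ne_top (I := q) (Ideal.IsPrime.ne_top inferInstance))
  refine ⟨t, r, ht.symm, hr, ?_⟩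
  rw [hr, ← ht] at h
  have h' : ((t + r : ℕ) : WithBot ℕ∞) = (d : WithBot ℕ∞) := by rw [Nat.cast_add]; exact h.symm
  exact Nat.cast_inj.mp h'

/-- Let S be a Cohen–Macaulay finite type algebra over a field k, equidimensional of dimension d, and
f_1, …, f_i elements (i ≤ d) generating a proper ideal whose zero locus has dimension at most d − i.
Then that dimension equals d − i and the f_j form a regular sequence in S_q for every prime q
containing them. (The published statement also allows the f_j to generate the unit ideal, where the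
zero locus is empty and the equality fails, e.g. f_1 = 1 in k[x]; this row assumes the ideal is
proper.) -/
theorem result (k S : Type u) [Field k] [CommRing S] [Algebra k S]
    [Algebra.FiniteType k S] [LocCoh.IsCohenMacaulayRing S] (d : ℕ)
    (heq : ∀ p ∈ minimalPrimes S, ringKrullDim (S ⧸ p) = d) (f : List S) (hi : f.length ≤ d)
    (hne : Ideal.ofList f ≠ ⊤)
    (hle : ringKrullDim (S ⧸ Ideal.ofList f) ≤ ((d - f.length : ℕ) : WithBot ℕ∞)) :
    ringKrullDim (S ⧸ Ideal.ofList f) = ((d - f.length : ℕ) : WithBot ℕ∞) ∧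
      ∀ (q : Ideal S) [q.IsPrime], Ideal.ofList f ≤ q →
        RingTheory.Sequence.IsRegular (Localization.AtPrime q)
          (f.map (algebraMap S (Localization.AtPrime q))) := by
  classical
  haveI : IsNoetherianRing S := Algebra.FiniteType.isNoetherianRing k S
  set J := Ideal.ofList f with hJ
  have hhd := height_add_dim k S d heq
  have hge : ((d - f.length : ℕ) : WithBot ℕ∞) ≤ ringKrullDim (S ⧸ J) := by
    obtain ⟨P, hP⟩ := Ideal.nonempty_minimalPrimes hne
    haveI := hP.1.1
    obtain ⟨h, e, hh, he, hsum⟩ := hhd P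
    have h1 : P.height ≤ (f.length : ℕ∞) := by
      refine (Ideal.height_le_spanRank_toENat_of_mem_minimal_primes _ _ hP).trans ?_
      have hspan : J = Ideal.span (f.toFinset : Set S) := by rw [hJ, Ideal.ofList]; congr 1; ext; simp
      rw [Submodule.fg_iff_spanRank_eq_spanFinrank.mpr (IsNoetherian.noetherian J)]
      rw [show Cardinal.toENat ((J.spanFinrank : ℕ) : Cardinal) = (J.spanFinrank : ℕ∞) from map_natCast Cardinal.toENat _, Nat.cast_le]
      rw [hspan]
      refine (Submodule.spanFinrank_span_le_ncard_of_finite f.toFinset.finite_toSet).trans ?_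
      rw [Set.ncard_coe_finset]
      exact f.toFinset_card_le
    rw [hh, Nat.cast_le] at h1
    refine le_trans ?_ (ringKrullDim_le_of_surjective (Ideal.Quotient.factor hP.1.2) (Ideal.Quotient.factor_surjective hP.1.2))
    rw [he, Nat.cast_le]
    omega
  refine ⟨le_antisymm hle hge, fun q hq hJq => ?_⟩
  let L := Localization.AtPrime q
  obtain ⟨h, e, hh, he, hsum⟩ := hhd q
  haveI hcm : LocCoh.IsCohenMacaulayLocalRing L := LocCoh.IsCohenMacaulayRing.isCohenMacaulayLocalRing_localization q
  have hmem : ∀ r ∈ f.map (algebraMap S L), r ∈ IsLocalRing.maximalIdeal L := by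
    intro r hr
    obtain ⟨a, ha, rfl⟩ := List.mem_map.mp hr
    exact (IsLocalization.AtPrime.to_map_mem_maximal_iff L q a).mpr (hJq (Ideal.subset_span ha))
  refine (IsLocalRing.isRegular_iff_isWeaklyRegular_of_subset_maximalIdeal hmem).mpr
    (Groth.Agent.DepthLib.isWeaklyRegular_of_supportDim_drop _ L Groth.Agent.DepthLib.isCohenMacaulayModule_self hmem ?_)
  rw [Module.supportDim_self_eq_ringKrullDim, IsLocalization.AtPrime.ringKrullDim_eq_height q L, hh, List.length_map]
  have hsd : Module.supportDim L (L ⧸ (Ideal.ofList (f.map (algebraMap S L)) • ⊤ : Submodule L L)) ≤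
      ((d - f.length - e : ℕ) : WithBot ℕ∞) := by
    rw [smul_eq_mul, Ideal.mul_top, Module.supportDim_quotient_eq_ringKrullDim, ← Ideal.map_ofList, ringKrullDim_quotient]
    refine iSup_le fun l => ?_
    have hcm : ∀ i, J ≤ ((l i).1.asIdeal.under S) := fun i =>
      Ideal.map_le_iff_le_comap.mp (l i).2
    let l' : LTSeries (PrimeSpectrum.zeroLocus (J : Set S)) :=
      l.map (fun P => ⟨⟨P.1.asIdeal.under S, inferInstance⟩, Ideal.map_le_iff_le_comap.mp P.2⟩)
        (fun P Q hPQ => (IsLocalization.orderEmbedding q.primeCompl L).strictMono (show P.1.asIdeal < Q.1.asIdeal from hPQ))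
    have hlast : l'.last.1.asIdeal ≤ q :=
      le_trans (le_of_eq rfl)
        ((Ideal.comap_mono (IsLocalRing.le_maximalIdeal l.last.1.isPrime.ne_top)).trans Localization.AtPrime.under_maximalIdeal.le)
    have h1 : ((l.length : ℕ∞) : WithBot ℕ∞) ≤ Order.height (⟨⟨q, hq⟩, hJq⟩ : PrimeSpectrum.zeroLocus (J : Set S)) :=
      WithBot.coe_le_coe.mpr (Order.length_le_height (p := l') (show l'.last ≤ _ from hlast))
    let a : PrimeSpectrum.zeroLocus (J : Set S) := ⟨⟨q, hq⟩, hJq⟩
    haveI : Nonempty (PrimeSpectrum.zeroLocus (J : Set S)) := ⟨a⟩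
    have h2 : (e : WithBot ℕ∞) ≤ Order.coheight a := by
      rw [← he, ringKrullDim_quotient, Order.coheight_eq_krullDim_Ici]
      exact Order.krullDim_le_of_strictMono
        (fun P => (⟨⟨P.1, show J ≤ P.1.asIdeal from hJq.trans P.2⟩, show a ≤ _ from P.2⟩ : Set.Ici a)) (fun _ _ hh => hh)
    have h3 : ((Order.height a + Order.coheight a : ℕ∞) : WithBot ℕ∞) ≤ ringKrullDim (S ⧸ J) := by
      rw [ringKrullDim_quotient, Order.krullDim_eq_iSup_height_add_coheight_of_nonempty, WithBot.coe_le_coe]
      exact le_iSup (fun a : PrimeSpectrum.zeroLocus (J : Set S) => Order.height a + Order.coheight a) a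
    rw [WithBot.coe_add] at h3
    have h4 := ((add_le_add h1 h2).trans h3).trans hle
    have h4' : ((l.length + e : ℕ) : WithBot ℕ∞) ≤ ((d - f.length : ℕ) : WithBot ℕ∞) := by push_cast; exact h4
    have h5 : l.length + e ≤ d - f.length := Nat.cast_le.mp h4'
    exact Nat.cast_le.mpr (show l.length ≤ d - f.length - e by omega)
  refine (add_le_add hsd le_rfl).trans ?_
  have hie : f.length + e ≤ d := by
    have h6 : (e : WithBot ℕ∞) ≤ ((d - f.length : ℕ) : WithBot ℕ∞) := he ▸
      (ringKrullDim_le_of_surjective (Ideal.Quotient.factor hJq) (Ideal.Quotient.factor_surjective hJq)).trans hle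
    rw [Nat.cast_le] at h6
    omega
  rw [← Nat.cast_add]
  exact (Nat.cast_le (α := WithBot ℕ∞)).mpr (show d - f.length - e + f.length ≤ h by omega)

end Groth.Agent.S9154
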