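import Groth.Statements.S10823
import Groth.Agent.ConeDim.Algebra
import Groth.Agent.S7675
import Groth.Agent.S9154
-- import your own Groth.Agent.* helpers here

set_option autoImplicit false
universe u
open AlgebraicGeometry Topology TopologicalSpace
open Variety

namespace Groth.Agent.S10823

open TopologicalSpace Groth.Agent.ConeDim Groth.Agent.S7675

variable {k : Type u} [Field k] {n : ℕ}

local notation "Poly" => MvPolynomial (Fin (n + 1)) k
local notation "M" => RingHom.ker (MvPolynomial.constantCoeff : MvPolynomial (Fin (n + 1)) k →+* k)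
local notation "PS" => ProjectiveSpectrum (CohB1.polyGrading n k)

theorem dim_ge {T : Type*} [TopologicalSpace T] (g : T → PS) (hg : Topology.IsInducing g) {l : ℕ}
    (t : Fin (l + 1) → T) (ht : StrictMono fun i => g (t i)) : (l : WithBot ℕ∞) ≤ topologicalKrullDim T := by
  let V : Fin (l + 1) → IrreducibleCloseds T := fun i =>
    ⟨closure {t i.rev}, isIrreducible_singleton.closure, isClosed_closure⟩
  have key : ∀ a b : Fin (l + 1), t b ∈ closure ({t a} : Set T) ↔ g (t a) ≤ g (t b) := fun a b => by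
    rw [← specializes_iff_mem_closure, ← hg.specializes_iff, specializes_iff_mem_closure,
      ← ProjectiveSpectrum.le_iff_mem_closure]
  have hV : StrictMono V := fun i j hij => by
    have h := ht (Fin.rev_lt_rev.2 hij)
    refine lt_of_le_of_ne (closure_minimal (Set.singleton_subset_iff.2 ((key _ _).2 h.le)) isClosed_closure) fun e => ?_
    refine h.not_ge ((key _ _).1 ?_)
    show t j.rev ∈ (V i : Set T)
    rw [e]; exact subset_closure rfl
  exact Order.le_krullDim_iff.2 ⟨LTSeries.mk l V hV, rfl⟩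

/-- In a finitely generated domain, the height of a maximal ideal is the dimension. -/
theorem height_eq_dim (S : Type u) [CommRing S] [IsDomain S] [Algebra k S] [Algebra.FiniteType k S]
    (m : Ideal S) [m.IsMaximal] : ∃ d : ℕ, m.height = d ∧ ringKrullDim S = d ∧
      ∀ q : Ideal S, q.IsPrime → ∃ h e : ℕ, q.height = h ∧ ringKrullDim (S ⧸ q) = e ∧ h + e = d := by
  obtain ⟨d, -, hd⟩ := Groth.Agent.DimTrdeg.exists_trdeg_eq_ringKrullDim k S
  have heq : ∀ p ∈ minimalPrimes S, ringKrullDim (S ⧸ p) = d := by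
    intro p hp
    rw [IsDomain.minimalPrimes_eq_singleton_bot, Set.mem_singleton_iff] at hp
    subst hp
    rw [← hd]; exact ringKrullDim_eq_of_ringEquiv (RingEquiv.quotientBot S)
  obtain ⟨h, e, hh, he, hhe⟩ := Groth.Agent.S9154.height_add_dim k S d heq m
  have he0 : e = 0 := by
    letI := Ideal.Quotient.field m
    rw [ringKrullDim_eq_zero_of_field] at he
    exact_mod_cast he.symm
  exact ⟨d, by rw [hh]; congr 1; omega, hd, fun q hq => by
    haveI := hq; exact Groth.Agent.S9154.height_add_dim k S d heq q⟩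

theorem mk_max (Q : Ideal Poly) (hQ : Q ≤ (M)) : ((M).map (Ideal.Quotient.mk Q)).IsMaximal :=
  haveI := vertex_isMaximal (k := k) (σ := Fin (n + 1))
  Ideal.IsMaximal.map_of_surjective_of_ker_le Ideal.Quotient.mk_surjective (by rw [Ideal.mk_ker]; exact hQ)

/-- Cutting a cone by `r` equations lowers the dimension at the vertex by at most `r`. -/
theorem height_vertex_le (p Q : Ideal Poly) [p.IsPrime] [Q.IsPrime] {r : ℕ} (f : Fin r → Poly)
    (hQ : Q ∈ (p ⊔ Ideal.span (Set.range f)).minimalPrimes) (hQM : Q ≤ (M)) :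
    ((M).map (Ideal.Quotient.mk p)).height ≤ ((M).map (Ideal.Quotient.mk Q)).height + r := by
  have hpQ : p ≤ Q := le_sup_left.trans hQ.1.2
  haveI := mk_max p (hpQ.trans hQM)
  haveI := mk_max Q hQM
  obtain ⟨d, hd1, -, hd⟩ := height_eq_dim (k := k) (Poly ⧸ p) ((M).map (Ideal.Quotient.mk p))
  obtain ⟨d', hd1', hd2', -⟩ := height_eq_dim (k := k) (Poly ⧸ Q) ((M).map (Ideal.Quotient.mk Q))
  haveI hQp : (Q.map (Ideal.Quotient.mk p)).IsPrime :=
    Ideal.map_isPrime_of_surjective Ideal.Quotient.mk_surjective (by rw [Ideal.mk_ker]; exact hpQ)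
  obtain ⟨h, e, hh, he, hhe⟩ := hd _ hQp
  have hed : e = d' := by
    have e0 : ((Poly ⧸ p) ⧸ Q.map (Ideal.Quotient.mk p)) ≃+* (Poly ⧸ Q) :=
      (DoubleQuot.quotQuotEquivQuotSup p Q).trans (Ideal.quotEquivOfEq (sup_eq_right.mpr hpQ))
    have e1 := ringKrullDim_eq_of_ringEquiv (R := (Poly ⧸ p) ⧸ Q.map (Ideal.Quotient.mk p)) (S := Poly ⧸ Q) e0
    rw [he, hd2'] at e1
    exact_mod_cast e1
  have hmin : Q.map (Ideal.Quotient.mk p) ∈
      (Ideal.span (Set.range fun i => Ideal.Quotient.mk p (f i))).minimalPrimes := by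
    refine ⟨⟨hQp, Ideal.span_le.2 ?_⟩, ?_⟩
    · rintro _ ⟨i, rfl⟩
      exact Ideal.mem_map_of_mem _ (hQ.1.2 (Submodule.mem_sup_right (Ideal.subset_span ⟨i, rfl⟩)))
    · rintro R ⟨hR, hRf⟩ hRQ
      haveI := hR
      rw [Ideal.map_le_iff_le_comap]
      refine hQ.2 ⟨inferInstance, sup_le ?_ (Ideal.span_le.2 ?_)⟩ ?_
      · intro a ha
        rw [Ideal.mem_comap, Ideal.Quotient.eq_zero_iff_mem.2 ha]; exact R.zero_mem
      · rintro _ ⟨i, rfl⟩
        exact hRf (Ideal.subset_span ⟨i, rfl⟩)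
      · refine (Ideal.comap_mono hRQ).trans (le_of_eq ?_)
        rw [Ideal.comap_map_of_surjective' _ Ideal.Quotient.mk_surjective, Ideal.mk_ker, sup_eq_left.2 hpQ]
  have hhr : (h : ℕ∞) ≤ r := by
    rw [← hh]
    refine (Ideal.height_le_card_of_mem_minimalPrimes_span (Set.finite_range _) hmin).trans ?_
    rw [← Set.image_univ]
    exact_mod_cast (Set.ncard_image_le (Set.toFinite _)).trans (by simp)
  rw [hd1, hd1']
  have hhr' : h ≤ r := by exact_mod_cast hhr
  exact_mod_cast (show d ≤ d' + r by omega)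


/-- Let k be a field, X an irreducible closed subset of projective n-space over k, and f_1, …, f_r
nonzero homogeneous polynomials of positive degrees in n + 1 variables. Then every irreducible
component C of X ∩ V_+(f_1, …, f_r) has codimension at most r in X, i.e. dim X ≤ dim C + r, and if
dim X ≥ r the intersection is nonempty. -/
theorem result (k : Type u) [Field k] (n r : ℕ)
    (X : Set (ProjectiveSpectrum (CohB1.polyGrading n k))) (hXc : IsClosed X) (hXi : IsIrreducible X)
    (f : Fin r → MvPolynomial (Fin (n + 1)) k) (d : Fin r → ℕ)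
    (hf : ∀ i, (f i).IsHomogeneous (d i)) (hd : ∀ i, 0 < d i) (hf0 : ∀ i, f i ≠ 0) :
    (∀ C ∈ irreducibleComponents ↥(X ∩ ProjectiveSpectrum.zeroLocus (CohB1.polyGrading n k) (Set.range f)),
        topologicalKrullDim ↥X ≤ topologicalKrullDim ↥C + (r : WithBot ℕ∞)) ∧
      ((r : WithBot ℕ∞) ≤ topologicalKrullDim ↥X →
        (X ∩ ProjectiveSpectrum.zeroLocus (CohB1.polyGrading n k) (Set.range f)).Nonempty) := by
  classical
  haveI : QuasiSober (ProjectiveSpectrum (CohB1.polyGrading n k)) :=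
    inferInstanceAs (QuasiSober (AlgebraicGeometry.Proj (CohB1.polyGrading n k)))
  set V := ProjectiveSpectrum.zeroLocus (CohB1.polyGrading n k) (Set.range f) with hVdef
  obtain ⟨gx, hgx⟩ := QuasiSober.sober hXi hXc
  have memX : ∀ t, t ∈ X ↔ gx ≤ t := fun t => by
    rw [← hgx.def, ProjectiveSpectrum.le_iff_mem_closure]
  set I := gx.asHomogeneousIdeal.toIdeal ⊔ Ideal.span (Set.range f) with hI
  have memW : ∀ t, t ∈ X ∩ V ↔ I ≤ t.asHomogeneousIdeal.toIdeal := fun t => by
    rw [Set.mem_inter_iff, memX, hI, sup_le_iff, Ideal.span_le]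
    exact Iff.rfl
  have hIhom : I.IsHomogeneous (CohB1.polyGrading n k) :=
    gx.asHomogeneousIdeal.isHomogeneous.sup (Ideal.homogeneous_span _ _ (by
      rintro _ ⟨i, rfl⟩
      exact ⟨d i, (MvPolynomial.mem_homogeneousSubmodule _ _).mpr (hf i)⟩))
  have hchain : ∀ D : ℕ, (D : WithBot ℕ∞) ≤ topologicalKrullDim ↥X →
      ((D + 1 : ℕ) : ℕ∞) ≤ ((RingHom.ker (MvPolynomial.constantCoeff : MvPolynomial (Fin (n + 1)) k →+* k)).map (Ideal.Quotient.mk gx.asHomogeneousIdeal.toIdeal)).height := by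
    intro D hD
    obtain ⟨x, hx, l, hl, hl0, hl1⟩ := exists_chain X hXc D hD
    rw [← hl]
    exact length_le_height l (hl0 ▸ (memX x).1 hx) hl1
  constructor
  · intro C hC
    haveI : QuasiSober ↥(X ∩ V) := (hXc.inter (ProjectiveSpectrum.isClosed_zeroLocus _ _)).isClosedEmbedding_subtypeVal.quasiSober
    obtain ⟨c, hc⟩ := QuasiSober.sober hC.1 (isClosed_of_mem_irreducibleComponents C hC)
    set Q := c.1.asHomogeneousIdeal.toIdeal with hQ
    haveI : Q.IsPrime := c.1.isPrime
    haveI : gx.asHomogeneousIdeal.toIdeal.IsPrime := gx.isPrime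
    have hQmin : Q ∈ I.minimalPrimes := by
      refine ⟨⟨inferInstance, (memW c.1).1 c.2⟩, fun R hR hRQ => ?_⟩
      haveI := hR.1
      obtain ⟨R', hR', hR'le⟩ := Ideal.exists_minimalPrimes_le hR.2
      haveI := hR'.1.1
      let c' : ProjectiveSpectrum (CohB1.polyGrading n k) :=
        ⟨⟨R', isHomogeneous_of_mem_minimalPrimes hIhom hR'⟩, hR'.1.1,
          fun h => c.1.not_irrelevant_le fun a ha => hRQ (hR'le (h ha))⟩
      have hc' : c' ∈ X ∩ V := (memW c').2 hR'.1.2
      have hle : c' ≤ c.1 := fun a ha => hRQ (hR'le ha)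
      have hsub : C ≤ closure ({⟨c', hc'⟩} : Set ↥(X ∩ V)) := by
        rw [← hc.def]
        refine closure_minimal (Set.singleton_subset_iff.2 ?_) isClosed_closure
        rw [← specializes_iff_mem_closure, ← Topology.IsInducing.subtypeVal.specializes_iff,
          specializes_iff_mem_closure]
        exact (ProjectiveSpectrum.le_iff_mem_closure _ _ _).1 hle
      have heq := hC.2 isIrreducible_singleton.closure hsub
      have hmem : (⟨c', hc'⟩ : ↥(X ∩ V)) ∈ closure ({c} : Set ↥(X ∩ V)) := by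
        rw [hc.def]; exact heq (subset_closure rfl)
      rw [← specializes_iff_mem_closure, ← Topology.IsInducing.subtypeVal.specializes_iff,
        specializes_iff_mem_closure, ← ProjectiveSpectrum.le_iff_mem_closure] at hmem
      exact fun a ha => hR'le (hmem ha)
    have hQM : Q < (RingHom.ker (MvPolynomial.constantCoeff : MvPolynomial (Fin (n + 1)) k →+* k)) := lt_vertex c.1
    have hlow : ∀ e : ℕ, ((e + 1 : ℕ) : ℕ∞) ≤ ((RingHom.ker (MvPolynomial.constantCoeff : MvPolynomial (Fin (n + 1)) k →+* k)).map (Ideal.Quotient.mk Q)).height →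
        (e : WithBot ℕ∞) ≤ topologicalKrullDim ↥C := by
      intro e he
      obtain ⟨l, hl, hl0, hlP⟩ := exists_homogeneous_chain e Q c.1.asHomogeneousIdeal.isHomogeneous he
      let z : Fin (l.length + 1) → ProjectiveSpectrum (CohB1.polyGrading n k) := fun i =>
        ⟨⟨(l i).asIdeal, (hlP i).1⟩, (l i).isPrime,
          fun h => (hlP i).2.not_ge (irrelevant_eq.ge.trans h)⟩
      have hcz : ∀ i, c.1 ≤ z i := fun i => hl0.ge.trans (l.head_le i)
      have hzW : ∀ i, z i ∈ X ∩ V := fun i => (memW (z i)).2 (((memW c.1).1 c.2).trans (hcz i))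
      have hzC : ∀ i, (⟨z i, hzW i⟩ : ↥(X ∩ V)) ∈ C := fun i => by
        rw [← hc.def, ← specializes_iff_mem_closure, ← Topology.IsInducing.subtypeVal.specializes_iff,
          specializes_iff_mem_closure, ← ProjectiveSpectrum.le_iff_mem_closure]
        exact hcz i
      rw [← hl]
      exact dim_ge (T := ↥C) (fun t => t.1.1) (Topology.IsInducing.subtypeVal.comp Topology.IsInducing.subtypeVal)
        (fun i => ⟨⟨z i, hzW i⟩, hzC i⟩) (fun i j hij => l.strictMono hij)
    have hC0 : (0 : WithBot ℕ∞) ≤ topologicalKrullDim ↥C := by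
      haveI : Nonempty (IrreducibleCloseds ↥C) :=
        ⟨⟨closure {⟨hC.1.nonempty.some, hC.1.nonempty.some_mem⟩}, isIrreducible_singleton.closure, isClosed_closure⟩⟩
      exact Order.krullDim_nonneg
    have hX0 : (0 : WithBot ℕ∞) ≤ topologicalKrullDim ↥X := by
      haveI : Nonempty (IrreducibleCloseds ↥X) :=
        ⟨⟨closure {⟨hXi.nonempty.some, hXi.nonempty.some_mem⟩}, isIrreducible_singleton.closure, isClosed_closure⟩⟩
      exact Order.krullDim_nonneg
    obtain ⟨a, ha⟩ := WithBot.ne_bot_iff_exists.mp (ne_bot_of_le_ne_bot WithBot.coe_ne_bot hX0)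
    obtain ⟨b, hb⟩ := WithBot.ne_bot_iff_exists.mp (ne_bot_of_le_ne_bot WithBot.coe_ne_bot hC0)
    rw [← ha, ← hb]
    show ((a : ℕ∞) : WithBot ℕ∞) ≤ ((b + (r : ℕ∞) : ℕ∞) : WithBot ℕ∞)
    rw [WithBot.coe_le_coe, ← ENat.forall_natCast_le_iff_le]
    intro D hD
    rcases Nat.lt_or_ge D (r + 1) with hDr | hDr
    · exact le_trans (by exact_mod_cast Nat.lt_succ_iff.mp hDr) le_add_self
    · have h1 := (hchain D (by rw [← ha]; exact_mod_cast hD)).trans (height_vertex_le _ Q f hQmin hQM.le)
      have h2 : ((D - r + 1 : ℕ) : ℕ∞) ≤ ((RingHom.ker (MvPolynomial.constantCoeff : MvPolynomial (Fin (n + 1)) k →+* k)).map (Ideal.Quotient.mk Q)).height := by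
        generalize ((RingHom.ker (MvPolynomial.constantCoeff : MvPolynomial (Fin (n + 1)) k →+* k)).map (Ideal.Quotient.mk Q)).height = H at h1 ⊢
        induction H using ENat.recTopCoe with
        | top => exact le_top
        | coe m => norm_cast at h1 ⊢; omega
      have h3 := hlow _ h2
      rw [← hb] at h3
      have h4 : ((D - r : ℕ) : ℕ∞) ≤ b := WithBot.coe_le_coe.mp h3
      calc (D : ℕ∞) = ((D - r : ℕ) : ℕ∞) + r := by rw [← Nat.cast_add]; congr 1; omega
        _ ≤ _ := add_le_add_left h4 _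
  · intro hr
    haveI : gx.asHomogeneousIdeal.toIdeal.IsPrime := gx.isPrime
    have hpM : gx.asHomogeneousIdeal.toIdeal < (RingHom.ker (MvPolynomial.constantCoeff : MvPolynomial (Fin (n + 1)) k →+* k)) := lt_vertex gx
    haveI := mk_max gx.asHomogeneousIdeal.toIdeal hpM.le
    have hs : Set.range (fun i => Ideal.Quotient.mk gx.asHomogeneousIdeal.toIdeal (f i)) ⊆
        ((RingHom.ker (MvPolynomial.constantCoeff : MvPolynomial (Fin (n + 1)) k →+* k)).map (Ideal.Quotient.mk gx.asHomogeneousIdeal.toIdeal) : Set _) := by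
      rintro _ ⟨i, rfl⟩
      refine Ideal.mem_map_of_mem _ ?_
      rw [RingHom.mem_ker, MvPolynomial.constantCoeff_eq]
      exact (hf i).coeff_eq_zero (by simpa using (hd i).ne)
    obtain ⟨L, hlen, hLh, hLl⟩ := exists_series_cut ((RingHom.ker (MvPolynomial.constantCoeff : MvPolynomial (Fin (n + 1)) k →+* k)).map (Ideal.Quotient.mk gx.asHomogeneousIdeal.toIdeal))
      hs (c := r) (by rw [← Set.image_univ]; exact (Set.encard_image_le _ _).trans (by simp))
      (hchain r hr) (Ideal.Quotient.mk _) (fun t => by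
        obtain ⟨u, rfl⟩ := Ideal.Quotient.mk_surjective t
        exact ⟨u, by rw [sub_self]; exact zero_mem _⟩)
    have hIL : I ≤ L.head.asIdeal := by
      refine sup_le (fun a ha => hLh a ?_) (Ideal.span_le.2 ?_)
      · rw [Ideal.Quotient.eq_zero_iff_mem.2 ha]; exact zero_mem _
      · rintro _ ⟨i, rfl⟩; exact hLh _ (Ideal.subset_span ⟨i, rfl⟩)
    obtain ⟨Q0, hQ0, hQ0le⟩ := Ideal.exists_minimalPrimes_le hIL
    have hlast : L.last.asIdeal = (RingHom.ker (MvPolynomial.constantCoeff : MvPolynomial (Fin (n + 1)) k →+* k)) := by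
      rw [hLl, Ideal.comap_map_of_surjective' _ Ideal.Quotient.mk_surjective, Ideal.mk_ker, sup_eq_left.2 hpM.le]
    have hlt : L.head < L.last := L.strictMono (show (0 : Fin (L.length + 1)) < Fin.last _ by
      rw [Fin.lt_def]; simp only [Fin.val_zero, Fin.val_last]; omega)
    refine ⟨⟨⟨Q0, isHomogeneous_of_mem_minimalPrimes hIhom hQ0⟩, hQ0.1.1, fun h => ?_⟩, (memW _).2 hQ0.1.2⟩
    exact (lt_of_le_of_lt hQ0le (show L.head.asIdeal < L.last.asIdeal from hlt)).not_ge
      (hlast ▸ (irrelevant_eq.ge.trans h))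

end Groth.Agent.S10823
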