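import Groth.Statements.S10822
import Groth.Agent.S10823
import Mathlib
-- import your own Groth.Agent.* helpers here

set_option autoImplicit false
universe u
open AlgebraicGeometry Topology TopologicalSpace
open Variety

namespace Groth.Agent.S10822

/-- Let k be a field, X an irreducible closed subset of projective n-space over k of positive dimension,
and f a homogeneous polynomial in n + 1 variables whose zero set V_+(f) is nonempty and does not
contain X. Then X meets V_+(f), and every irreducible component C of X ∩ V_+(f) has dim C + 1 = dim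
X, i.e. codimension 1 in X (all maximal chains of irreducible closed subsets of X have length dim
X). -/
theorem result (k : Type u) [Field k] (n d : ℕ)
    (X : Set (ProjectiveSpectrum (CohB1.polyGrading n k))) (hXc : IsClosed X) (hXi : IsIrreducible X)
    (hXd : 0 < topologicalKrullDim ↥X)
    (f : MvPolynomial (Fin (n + 1)) k) (hf : f.IsHomogeneous d)
    (hV : (ProjectiveSpectrum.zeroLocus (CohB1.polyGrading n k)
      ({f} : Set (MvPolynomial (Fin (n + 1)) k))).Nonempty)
    (hX : ¬ X ⊆ ProjectiveSpectrum.zeroLocus (CohB1.polyGrading n k)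
      ({f} : Set (MvPolynomial (Fin (n + 1)) k))) :
    (X ∩ ProjectiveSpectrum.zeroLocus (CohB1.polyGrading n k)
        ({f} : Set (MvPolynomial (Fin (n + 1)) k))).Nonempty ∧
      ∀ C ∈ irreducibleComponents ↥(X ∩ ProjectiveSpectrum.zeroLocus (CohB1.polyGrading n k)
          ({f} : Set (MvPolynomial (Fin (n + 1)) k))),
        topologicalKrullDim ↥C + 1 = topologicalKrullDim ↥X := by
  classical
  set V := ProjectiveSpectrum.zeroLocus (CohB1.polyGrading n k) ({f} : Set (MvPolynomial (Fin (n + 1)) k))
  have hf0 : f ≠ 0 := by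
    rintro rfl
    exact hX fun t _ => Set.singleton_subset_iff.mpr t.asHomogeneousIdeal.toIdeal.zero_mem
  have hd : 0 < d := by
    by_contra hd0
    obtain rfl : d = 0 := by omega
    obtain ⟨t, ht⟩ := hV
    have h0 : f = MvPolynomial.C (MvPolynomial.coeff 0 f) := by
      conv_lhs => rw [← MvPolynomial.homogeneousComponent_eq_self hf]
      exact MvPolynomial.homogeneousComponent_zero f
    have hc : MvPolynomial.coeff 0 f ≠ 0 := fun h => hf0 (by rw [h0, h, map_zero])
    have hmem : f ∈ t.asHomogeneousIdeal.toIdeal := ht rfl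
    rw [h0] at hmem
    exact t.isPrime.ne_top (Ideal.eq_top_of_isUnit_mem _ hmem ((isUnit_iff_ne_zero.mpr hc).map MvPolynomial.C))
  have main := Groth.Agent.S10823.result k n 1 X hXc hXi (fun _ => f) (fun _ => d) (fun _ => hf) (fun _ => hd) fun _ => hf0
  rw [Set.range_const] at main
  have h1 : (1 : WithBot ℕ∞) ≤ topologicalKrullDim ↥X := by
    generalize topologicalKrullDim ↥X = D at hXd ⊢
    induction D using WithBot.recBotCoe with
    | bot => exact absurd hXd not_lt_bot
    | coe a => exact_mod_cast Order.one_le_iff_pos.mpr (WithBot.coe_lt_coe.mp hXd)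
  refine ⟨main.2 (by simpa using h1), fun C hC => le_antisymm ?_ (by simpa using main.1 C hC)⟩
  let inc : ↥C → ↥X := fun c => ⟨c.1.1, c.1.2.1⟩
  have h2 : Topology.IsInducing (fun c : ↥C => ((c.1 : ↥(X ∩ V)) : ProjectiveSpectrum (CohB1.polyGrading n k))) :=
    Topology.IsInducing.subtypeVal.comp Topology.IsInducing.subtypeVal
  have hinc : Topology.IsInducing inc :=
    Topology.IsInducing.of_comp (f := inc) (g := Subtype.val) (by fun_prop) continuous_subtype_val h2
  haveI : IrreducibleSpace ↥X := Subtype.irreducibleSpace hXi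
  let top : TopologicalSpace.IrreducibleCloseds ↥X :=
    ⟨Set.univ, IrreducibleSpace.isIrreducible_univ _, isClosed_univ⟩
  haveI : Nonempty (TopologicalSpace.IrreducibleCloseds ↥C) :=
    ⟨⟨closure {⟨hC.1.nonempty.some, hC.1.nonempty.some_mem⟩}, isIrreducible_singleton.closure, isClosed_closure⟩⟩
  have hclosed : IsClosed (X ∩ V) := hXc.inter (ProjectiveSpectrum.isClosed_zeroLocus _ _)
  have hlt : ∀ W : TopologicalSpace.IrreducibleCloseds ↥C,
      TopologicalSpace.IrreducibleCloseds.map inc hinc.continuous W < top := by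
    intro W
    refine lt_of_le_of_ne (fun _ _ => trivial) fun e => hX ?_
    intro t ht
    have h2 : (TopologicalSpace.IrreducibleCloseds.map inc hinc.continuous W : Set ↥X) ⊆ Subtype.val ⁻¹' (X ∩ V) := by
      refine closure_minimal ?_ (hclosed.preimage continuous_subtype_val)
      rintro _ ⟨c, -, rfl⟩
      exact c.1.2
    rw [e] at h2
    exact (h2 (show (⟨t, ht⟩ : ↥X) ∈ (top : Set ↥X) from trivial)).2
  rw [topologicalKrullDim, topologicalKrullDim, Order.krullDim_eq_iSup_length, Order.krullDim]
  have key : ∀ l : LTSeries (TopologicalSpace.IrreducibleCloseds ↥C),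
      ((l.length : ℕ) : WithBot ℕ∞) + 1 ≤ ⨆ p : LTSeries (TopologicalSpace.IrreducibleCloseds ↥X), (p.length : WithBot ℕ∞) := by
    intro l
    refine le_trans ?_ (le_iSup (fun p : LTSeries (TopologicalSpace.IrreducibleCloseds ↥X) => (p.length : WithBot ℕ∞))
      ((l.map _ (TopologicalSpace.IrreducibleCloseds.map_strictMono_of_isInducing hinc)).snoc top (hlt _)))
    simp
  rw [← WithBot.coe_one, ← WithBot.coe_add, ENat.iSup_add, WithBot.coe_iSup (OrderTop.bddAbove _)]
  refine iSup_le fun l => ?_
  exact_mod_cast key l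

end Groth.Agent.S10822
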