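import Groth.Statements.S10825
import Mathlib
import Groth.Agent.DimTrdeg.Basic
-- import your own Groth.Agent.* helpers here

set_option autoImplicit false
universe u
open Topology
open CAlg

namespace Groth.Agent.S10825

/-- Let A → B be an injective integral homomorphism of integral domains with fraction fields K and L, L
a finite extension of K, and A integrally closed. For b in B the norm N_{L/K}(b) lies in A; if a
denotes this element of A, then the image of the closed set V(b) of Spec B under Spec B → Spec A is
exactly V(a), and V(b) and V(a) have the same dimension. -/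
theorem result
    (A B K L : Type u) [CommRing A] [IsDomain A] [CommRing B] [IsDomain B] [Algebra A B]
    [Field K] [Field L] [Algebra A K] [IsFractionRing A K] [Algebra B L] [IsFractionRing B L]
    [Algebra A L] [Algebra K L] [IsScalarTower A B L] [IsScalarTower A K L]
    [FiniteDimensional K L] [Algebra.IsIntegral A B] [IsIntegrallyClosed A]
    (hinj : Function.Injective (algebraMap A B))
    (b : B) (a : A) (ha : algebraMap A K a = Algebra.norm K (algebraMap B L b)) :
    PrimeSpectrum.comap (algebraMap A B) '' PrimeSpectrum.zeroLocus ({b} : Set B) =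
        PrimeSpectrum.zeroLocus ({a} : Set A) ∧
      topologicalKrullDim ↥(PrimeSpectrum.zeroLocus ({b} : Set B)) =
        topologicalKrullDim ↥(PrimeSpectrum.zeroLocus ({a} : Set A)) := by
  classical
  have : Module.IsTorsionFree A B := Module.isTorsionFree_iff_algebraMap_injective.2 hinj
  have hBint : IsIntegral A b := Algebra.IsIntegral.isIntegral b
  set m := minpoly A b with hm
  set x := algebraMap B L b
  have hmK : minpoly K x = m.map (algebraMap A K) := minpoly.isIntegrallyClosed_eq_field_fractions K L hBint
  have hxint : IsIntegral K x := IsIntegral.of_finite K x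
  obtain ⟨e, he, s, hae⟩ : ∃ e, e ≠ 0 ∧ ∃ s, a = ((-1) ^ s * m.coeff 0) ^ e := by
    refine ⟨Module.finrank (IntermediateField.adjoin K {x}) L, Module.finrank_pos.ne', (IntermediateField.adjoin.powerBasis hxint).dim, ?_⟩
    refine IsFractionRing.injective A K ?_
    rw [ha, Algebra.norm_eq_norm_adjoin K x, map_pow, map_mul, map_pow, map_neg, map_one, ← Polynomial.coeff_map, ← hmK]
    congr 1
    conv_lhs => rw [← IntermediateField.adjoin.powerBasis_gen hxint, Algebra.PowerBasis.norm_gen_eq_coeff_zero_minpoly]
    congr 2
    rw [IntermediateField.adjoin.powerBasis_gen, IntermediateField.minpoly_gen]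
  have hm0b : algebraMap A B (m.coeff 0) ∈ Ideal.span {b} := by
    have h := minpoly.aeval A b
    rw [← hm, ← Polynomial.X_mul_divX_add m, map_add, map_mul, Polynomial.aeval_X, Polynomial.aeval_C] at h
    exact Ideal.mem_span_singleton.2 ⟨-(Polynomial.aeval b m.divX), by linear_combination h⟩
  have himg : PrimeSpectrum.comap (algebraMap A B) '' PrimeSpectrum.zeroLocus ({b} : Set B) =
      PrimeSpectrum.zeroLocus ({a} : Set A) := by
    ext p
    constructor
    · rintro ⟨P, hP, rfl⟩
      rw [PrimeSpectrum.mem_zeroLocus, Set.singleton_subset_iff] at hP ⊢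
      show a ∈ P.asIdeal.comap (algebraMap A B)
      rw [Ideal.mem_comap, hae, map_pow, map_mul]
      exact Ideal.pow_mem_of_mem _ (Ideal.mul_mem_left _ _ ((Ideal.span_singleton_le_iff_mem _).2 hP hm0b)) _ (Nat.pos_of_ne_zero he)
    · intro hp
      rw [PrimeSpectrum.mem_zeroLocus, Set.singleton_subset_iff] at hp
      have hm0 : m.coeff 0 ∈ p.asIdeal := by
        have := p.isPrime.mem_of_pow_mem e (hae ▸ hp)
        rcases p.isPrime.mem_or_mem this with h | h
        · exact absurd ((Ideal.eq_top_iff_one _).2 (by
            have h2 := Ideal.mul_mem_left p.asIdeal ((-1) ^ s) h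
            rwa [← mul_pow, neg_one_mul, neg_neg, one_pow] at h2)) p.isPrime.ne_top
        · exact h
      letI := (Polynomial.aeval (R := A) b).toRingHom.toAlgebra
      haveI : IsScalarTower A (Polynomial A) B := IsScalarTower.of_algebraMap_eq fun r => (Polynomial.aeval_C b r).symm
      haveI : Algebra.IsIntegral (Polynomial A) B := ⟨fun z => (Algebra.IsIntegral.isIntegral (R := A) z).tower_top⟩
      obtain ⟨Q, -, hQ, hQc⟩ := Ideal.exists_ideal_over_prime_of_isIntegral (p.asIdeal.comap (Polynomial.evalRingHom (0 : A)))
        (⊥ : Ideal B) (by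
          intro q hq
          obtain ⟨r, rfl⟩ := minpoly.isIntegrallyClosed_dvd hBint (show Polynomial.aeval b q = 0 from hq)
          rw [Ideal.mem_comap, Polynomial.coe_evalRingHom, Polynomial.eval_mul, ← Polynomial.coeff_zero_eq_eval_zero]
          exact Ideal.mul_mem_right _ _ hm0)
      refine ⟨⟨Q, hQ⟩, ?_, ?_⟩
      · rw [PrimeSpectrum.mem_zeroLocus, Set.singleton_subset_iff]
        have : Polynomial.X ∈ Q.comap (algebraMap (Polynomial A) B) := by rw [hQc]; simp
        rwa [Ideal.mem_comap, show algebraMap (Polynomial A) B Polynomial.X = b from Polynomial.aeval_X b] at this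
      · refine PrimeSpectrum.ext (Ideal.ext fun r => ?_)
        show algebraMap A B r ∈ Q ↔ _
        rw [show algebraMap A B r = algebraMap (Polynomial A) B (Polynomial.C r) from (Polynomial.aeval_C b r).symm,
          ← Ideal.mem_comap, hQc]
        simp
  refine ⟨himg, ?_⟩
  set J : Ideal B := Ideal.span {b}
  set J' : Ideal A := J.comap (algebraMap A B)
  have hdim : ∀ {R : Type u} [CommRing R] (I : Ideal R),
      topologicalKrullDim ↥(PrimeSpectrum.zeroLocus (I : Set R)) = ringKrullDim (R ⧸ I) := by
    intro R _ I
    rw [← PrimeSpectrum.topologicalKrullDim_eq_ringKrullDim]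
    have hemb := (PrimeSpectrum.isClosedEmbedding_comap_of_surjective (R ⧸ I) (Ideal.Quotient.mk I) Ideal.Quotient.mk_surjective).isEmbedding
    have hrange : Set.range (PrimeSpectrum.comap (Ideal.Quotient.mk I)) = PrimeSpectrum.zeroLocus (I : Set R) := by
      rw [range_comap_of_surjective _ _ Ideal.Quotient.mk_surjective, Ideal.mk_ker]
    exact (((Homeomorph.setCongr hrange.symm).trans hemb.toHomeomorph.symm).isHomeomorph).topologicalKrullDim_eq
  have hzero : PrimeSpectrum.zeroLocus ({a} : Set A) = PrimeSpectrum.zeroLocus (J' : Set A) := by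
    refine Set.Subset.antisymm (fun p hp => ?_) (PrimeSpectrum.zeroLocus_anti_mono (Set.singleton_subset_iff.2 ?_))
    · rw [← himg] at hp
      obtain ⟨P, hP, rfl⟩ := hp
      rw [← PrimeSpectrum.zeroLocus_span] at hP
      exact fun r hr => hP hr
    · show algebraMap A B a ∈ J
      rw [hae, map_pow, map_mul]
      exact Ideal.pow_mem_of_mem _ (Ideal.mul_mem_left _ _ hm0b) _ (Nat.pos_of_ne_zero he)
  rw [hzero, ← PrimeSpectrum.zeroLocus_span ({b} : Set B), hdim, hdim]
  haveI : Algebra.IsIntegral (A ⧸ J') (B ⧸ J) := inferInstance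
  exact Groth.Agent.DimTrdeg.ringKrullDim_eq_of_isIntegral (A ⧸ J') (B ⧸ J) Ideal.algebraMap_quotient_injective

end Groth.Agent.S10825
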