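import Groth.Statements.S10826
import Mathlib
import Groth.Agent.PowerSeriesAut.Basic
-- import your own Groth.Agent.* helpers here

set_option autoImplicit false
open CAlg

namespace Groth.Agent.S10826

open MvPowerSeries in
theorem mem_pow_span_X {R : Type*} [CommRing R] {n : ℕ} : ∀ (k : ℕ) (f : MvPowerSeries (Fin n) R),
    (∀ d : Fin n →₀ ℕ, d.degree < k → coeff d f = 0) → f ∈ (Ideal.span (Set.range X)) ^ k := by
  intro k
  induction k with
  | zero => intro f _; simp
  | succ k ih =>
    intro f hf
    classical
    let g : Fin n → MvPowerSeries (Fin n) R := fun i d =>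
      if ∀ l ∈ (d + Finsupp.single i 1).support, i ≤ l then coeff (d + Finsupp.single i 1) f else 0
    have hc : ∀ i d, coeff d (g i) =
        if ∀ l ∈ (d + Finsupp.single i 1).support, i ≤ l then coeff (d + Finsupp.single i 1) f else 0 :=
      fun i d => rfl
    have hfg : f = ∑ i, X i * g i := by
      ext d
      rw [map_sum]
      simp only [X_def, coeff_monomial_mul, one_mul]
      by_cases hd : d = 0
      · subst hd
        rw [hf 0 (by simp), Finset.sum_eq_zero]
        intro i _
        rw [if_neg]
        intro h
        simpa using Finsupp.single_le_iff.mp h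
      · have hne : d.support.Nonempty := Finsupp.support_nonempty_iff.mpr hd
        rw [Finset.sum_eq_single (d.support.min' hne)]
        · have hmem : d.support.min' hne ∈ d.support := Finset.min'_mem _ _
          have hle : Finsupp.single (d.support.min' hne) 1 ≤ d :=
            Finsupp.single_le_iff.mpr (Nat.one_le_iff_ne_zero.mpr (Finsupp.mem_support_iff.mp hmem))
          rw [if_pos hle, hc, tsub_add_cancel_of_le hle, if_pos]
          exact fun l hl => Finset.min'_le _ _ hl
        · intro i _ hi
          split_ifs with hle
          · rw [hc, tsub_add_cancel_of_le hle, if_neg]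
            intro h
            refine hi (le_antisymm (h _ (Finset.min'_mem _ hne)) (Finset.min'_le _ _ ?_))
            have := Finsupp.single_le_iff.mp hle
            exact Finsupp.mem_support_iff.mpr (by omega)
          · rfl
        · simp
    rw [hfg, pow_succ']
    refine Ideal.sum_mem _ fun i _ => Ideal.mul_mem_mul (Ideal.subset_span ⟨i, rfl⟩) (ih _ fun d hd => ?_)
    rw [hc]
    split_ifs
    · exact hf _ (by rw [map_add, Finsupp.degree_single]; omega)
    · rfl

/-- Let R be a commutative ring, n ≥ 1, and φ an R-algebra homomorphism from the power series ring in n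
variables over R to itself that sends each variable to a power series without constant term. If the
Jacobian matrix at the origin, whose (i, j) entry is the coefficient of X_j in φ(X_i), has
invertible determinant in R, then φ is an isomorphism (bijective). -/
theorem result
    (R : Type*) [CommRing R] (n : ℕ) (hn : 1 ≤ n)
    (φ : MvPowerSeries (Fin n) R →ₐ[R] MvPowerSeries (Fin n) R)
    (h0 : ∀ i, MvPowerSeries.constantCoeff (φ (MvPowerSeries.X i)) = 0)
    (hJ : IsUnit (Matrix.det (Matrix.of fun i j : Fin n =>
      MvPowerSeries.coeff (Finsupp.single j 1) (φ (MvPowerSeries.X i))))) :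
    Function.Bijective φ := by
  classical
  let a : Fin n → MvPowerSeries (Fin n) R := fun i => φ (MvPowerSeries.X i)
  have ha := MvPowerSeries.hasSubst_of_constantCoeff_zero (a := a) h0
  have hsame : φ = MvPowerSeries.substAlgHom (R := R) ha := by
    have hpoly : φ.comp (MvPolynomial.coeToMvPowerSeries.algHom R) =
        (MvPowerSeries.substAlgHom (R := R) ha).comp (MvPolynomial.coeToMvPowerSeries.algHom R) := by
      refine MvPolynomial.algHom_ext fun i => ?_
      simp [MvPowerSeries.subst_X ha, a]
    have hlow : ∀ (ψ : MvPowerSeries (Fin n) R →ₐ[R] MvPowerSeries (Fin n) R),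
        (∀ i, MvPowerSeries.constantCoeff (ψ (MvPowerSeries.X i)) = 0) → ∀ (k : ℕ) (f : MvPowerSeries (Fin n) R),
        f ∈ (Ideal.span (Set.range MvPowerSeries.X)) ^ k → ψ f ∈ (Ideal.span (Set.range MvPowerSeries.X)) ^ k := by
      intro ψ hψ k f hf
      have hmap : (Ideal.span (Set.range MvPowerSeries.X)).map ψ ≤
          (Ideal.span (Set.range (MvPowerSeries.X : Fin n → MvPowerSeries (Fin n) R))) := by
        rw [Ideal.map_span, Ideal.span_le]
        rintro _ ⟨_, ⟨i, rfl⟩, rfl⟩
        have h := mem_pow_span_X 1 (ψ (MvPowerSeries.X i)) fun d hd => by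
          rw [(Finsupp.degree_eq_zero_iff d).mp (by omega), MvPowerSeries.coeff_zero_eq_constantCoeff]
          exact hψ i
        rwa [pow_one] at h
      have := Ideal.mem_map_of_mem ψ hf
      rw [Ideal.map_pow] at this
      exact Ideal.pow_right_mono hmap k this
    refine AlgHom.ext fun f => sub_eq_zero.mp ?_
    refine IsHausdorff.haus (I := (Ideal.span (Set.range MvPowerSeries.X) : Ideal (MvPowerSeries (Fin n) R)))
      inferInstance _ fun k => ?_
    rw [SModEq.zero, smul_eq_mul, Ideal.mul_top]
    let t : MvPowerSeries (Fin n) R := (MvPowerSeries.truncTotal k f : MvPolynomial (Fin n) R)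
    have ht : f - t ∈ (Ideal.span (Set.range MvPowerSeries.X)) ^ k :=
      mem_pow_span_X k _ fun d hd => by
        simp [t, MvPowerSeries.coeff_truncTotal _ hd]
    have heq : φ t = MvPowerSeries.substAlgHom (R := R) ha t := AlgHom.congr_fun hpoly _
    have hs : ∀ i, MvPowerSeries.constantCoeff (MvPowerSeries.substAlgHom (R := R) ha (MvPowerSeries.X i)) = 0 :=
      fun i => by simpa [MvPowerSeries.subst_X ha] using h0 i
    have := Ideal.sub_mem _ (hlow φ h0 k _ ht) (hlow _ hs k _ ht)
    rwa [map_sub, map_sub, heq, sub_sub_sub_cancel_right] at this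
  rw [hsame, MvPowerSeries.coe_substAlgHom]
  exact Groth.Agent.PowerSeriesAut.bijective_subst h0 ((Matrix.isUnit_iff_isUnit_det _).mpr hJ)

end Groth.Agent.S10826
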