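import Mathlib
import Groth.Statements.S10827
-- import your own Groth.Agent.* helpers here

set_option autoImplicit false
universe u
open Variety

namespace Groth.Agent.S10827

section

open MvPolynomial

variable {k : Type u} [Field k]


lemma hc_mul {p q : (MvPolynomial (Fin 2) k)} {a b : ℕ} (hp : p.totalDegree ≤ a) (hq : q.totalDegree ≤ b) :
    homogeneousComponent (a + b) (p * q) = homogeneousComponent a p * homogeneousComponent b q := by
  classical
  have hpq : p = ∑ i ∈ Finset.range (a + 1), homogeneousComponent i p := by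
    conv_lhs => rw [← sum_homogeneousComponent p]
    exact Finset.sum_subset (Finset.range_mono (by omega)) fun i _ hi =>
      homogeneousComponent_eq_zero _ _ (by simp at hi; omega)
  have hqq : q = ∑ i ∈ Finset.range (b + 1), homogeneousComponent i q := by
    conv_lhs => rw [← sum_homogeneousComponent q]
    exact Finset.sum_subset (Finset.range_mono (by omega)) fun i _ hi =>
      homogeneousComponent_eq_zero _ _ (by simp at hi; omega)
  conv_lhs => rw [hpq, hqq, Finset.sum_mul_sum, map_sum]
  rw [Finset.sum_eq_single a]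
  · rw [map_sum, Finset.sum_eq_single b]
    · exact homogeneousComponent_eq_self
        ((homogeneousComponent_isHomogeneous _ _).mul (homogeneousComponent_isHomogeneous _ _))
    · intro j hj hne
      rw [homogeneousComponent_of_mem
        ((homogeneousComponent_isHomogeneous a p).mul (homogeneousComponent_isHomogeneous j q)), if_neg]
      simp at hj
      omega
    · simp
  · intro i hi hne
    rw [map_sum]
    refine Finset.sum_eq_zero fun j hj => ?_
    rw [homogeneousComponent_of_mem
      ((homogeneousComponent_isHomogeneous i p).mul (homogeneousComponent_isHomogeneous j q)), if_neg]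
    simp at hi hj
    omega
  · simp

lemma drop_top {p : (MvPolynomial (Fin 2) k)} {e : ℕ} (hp : p ∈ restrictTotalDegree (Fin 2) k (e + 1)) (h : homogeneousComponent (e + 1) p = 0) : p ∈ (restrictTotalDegree (Fin 2) k) e := by
  rw [mem_restrictTotalDegree] at hp ⊢
  rw [← sum_homogeneousComponent p]
  refine totalDegree_finsetSum_le fun i hi => ?_
  rcases eq_or_ne i (e + 1) with rfl | hne
  · simp [h]
  · refine (homogeneousComponent_isHomogeneous i p).totalDegree_le.trans ?_
    simp at hi
    omega

lemma card_deg (d : ℕ) : Module.finrank k ((homogeneousSubmodule (Fin 2) k) d) = d + 1 := by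
  let e : {x : Fin 2 →₀ ℕ | x.degree = d} ≃ Fin (d + 1) :=
    { toFun := fun x => ⟨x.1 0, by
        have := x.2
        simp only [Set.mem_setOf_eq, Finsupp.degree_eq_sum, Fin.sum_univ_two] at this
        omega⟩
      invFun := fun i => ⟨Finsupp.single 0 i.1 + Finsupp.single 1 (d - i.1), by
        simp only [Set.mem_setOf_eq, Finsupp.degree_eq_sum, Fin.sum_univ_two]
        simp
        omega⟩
      left_inv := fun x => by
        have := x.2
        simp only [Set.mem_setOf_eq, Finsupp.degree_eq_sum, Fin.sum_univ_two] at this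
        refine Subtype.ext (Finsupp.ext fun i => ?_)
        fin_cases i
        · simp
        · simp
          omega
      right_inv := fun i => Fin.ext (by simp) }
  rw [homogeneousSubmodule_eq_finsupp_supported]
  exact (Module.finrank_eq_nat_card_basis (basisRestrictSupport k {x : Fin 2 →₀ ℕ | x.degree = d})).trans
    ((Nat.card_congr e).trans (Nat.card_fin _))

lemma sum_two (x : Fin 2 →₀ ℕ) : (x.sum fun _ e => e) = x 0 + x 1 := by
  rw [Finsupp.sum_fintype _ _ (fun _ => rfl), Fin.sum_univ_two]

lemma card_le (d : ℕ) : 2 * Module.finrank k ((restrictTotalDegree (Fin 2) k) d) = (d + 1) * (d + 2) := by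
  let e : {x : Fin 2 →₀ ℕ | (x.sum fun _ e => e) ≤ d} ≃ Σ i : Fin (d + 1), Fin (i.1 + 1) :=
    { toFun := fun x => ⟨⟨x.1 0 + x.1 1, by
          have := x.2
          simp only [Set.mem_setOf_eq, sum_two] at this
          omega⟩, ⟨x.1 0, by simp⟩⟩
      invFun := fun i => ⟨Finsupp.single 0 i.2.1 + Finsupp.single 1 (i.1.1 - i.2.1), by
        have := i.1.2
        have := i.2.2
        simp only [Set.mem_setOf_eq, sum_two]
        simp
        omega⟩
      left_inv := fun x => by
        refine Subtype.ext (Finsupp.ext fun i => ?_)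
        fin_cases i
        · simp
        · simp
      right_inv := fun ⟨i, j⟩ => by
        have := j.2
        refine Sigma.ext (Fin.ext ?_) ?_
        · simp
          omega
        · refine (Fin.heq_ext_iff ?_).2 ?_
          · simp
            omega
          · simp }
  have h : Module.finrank k ((restrictTotalDegree (Fin 2) k) d) = ∑ i : Fin (d + 1), (i.1 + 1) := by
    refine (Module.finrank_eq_nat_card_basis
      (basisRestrictSupport k {x : Fin 2 →₀ ℕ | (x.sum fun _ e => e) ≤ d})).trans ?_
    rw [Nat.card_congr e, Nat.card_sigma]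
    simp
  rw [h]
  clear h e
  induction d with
  | zero => simp
  | succ d ih =>
    rw [Fin.sum_univ_castSucc]
    simp only [Fin.val_castSucc, Fin.val_last]
    rw [mul_add, ih]
    ring

/-- `(a, b) ↦ a P + b Q`. -/
noncomputable def comb (P Q : (MvPolynomial (Fin 2) k)) : (MvPolynomial (Fin 2) k) × (MvPolynomial (Fin 2) k) →ₗ[k] (MvPolynomial (Fin 2) k) :=
  (LinearMap.mulRight k P).coprod (LinearMap.mulRight k Q)

lemma comb_apply (P Q : (MvPolynomial (Fin 2) k)) (x : (MvPolynomial (Fin 2) k) × (MvPolynomial (Fin 2) k)) : comb P Q x = x.1 * P + x.2 * Q := rfl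

lemma rank_comb {P Q : (MvPolynomial (Fin 2) k)} (hPQ : IsRelPrime P Q) (hP : P ≠ 0) (hQ : Q ≠ 0) (A B C : Submodule k (MvPolynomial (Fin 2) k))
    [Module.Finite k A] [Module.Finite k B]
    (hAC : ∀ c ∈ C, c * Q ∈ A ∧ c * P ∈ B) (hCA : ∀ c, c * Q ∈ A → c ∈ C) :
    Module.finrank k ((A.prod B).map (comb P Q)) + Module.finrank k C = Module.finrank k A + Module.finrank k B := by
  let L : A × B →ₗ[k] (MvPolynomial (Fin 2) k) := (comb P Q).comp (A.subtype.prodMap B.subtype)
  have hr : LinearMap.range L = (A.prod B).map (comb P Q) := by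
    refine le_antisymm ?_ ?_
    · rintro _ ⟨⟨a, b⟩, rfl⟩
      exact ⟨(a.1, b.1), ⟨a.2, b.2⟩, rfl⟩
    · rintro _ ⟨⟨a, b⟩, ⟨ha, hb⟩, rfl⟩
      exact ⟨(⟨a, ha⟩, ⟨b, hb⟩), rfl⟩
  let ι : C →ₗ[k] A × B :=
    LinearMap.prod (LinearMap.codRestrict A ((LinearMap.mulRight k Q).comp C.subtype) fun c => (hAC c.1 c.2).1)
      (-(LinearMap.codRestrict B ((LinearMap.mulRight k P).comp C.subtype) fun c => (hAC c.1 c.2).2))
  have hk : LinearMap.range ι = LinearMap.ker L := by
    refine le_antisymm ?_ ?_
    · rintro _ ⟨c, rfl⟩
      simp [L, ι, comb_apply]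
      ring
    · rintro ⟨a, b⟩ h
      have h' : a.1 * P + b.1 * Q = 0 := h
      obtain ⟨c, hc⟩ : Q ∣ a.1 := hPQ.symm.dvd_of_dvd_mul_right ⟨-b.1, by linear_combination h'⟩
      have hcC : c ∈ C := hCA c (by rw [mul_comm, ← hc]; exact a.2)
      refine ⟨⟨c, hcC⟩, Prod.ext (Subtype.ext ?_) (Subtype.ext ?_)⟩
      · simp [ι, hc, mul_comm]
      · have h2 : Q * (c * P + b.1) = 0 := by rw [hc] at h'; linear_combination h'
        have := (mul_eq_zero.1 h2).resolve_left hQ
        simp [ι]
        linear_combination -this
  have hi : Function.Injective ι := fun c c' h => by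
    have := congrArg (fun x : A × B => x.1.1) h
    exact Subtype.ext (mul_right_cancel₀ hQ this)
  rw [← hr, ← LinearMap.finrank_range_of_inj hi, hk, L.finrank_range_add_finrank_ker, Module.finrank_prod]

variable (F G : (MvPolynomial (Fin 2) k)) {n m : ℕ} (hF : F.totalDegree ≤ n) (hG : G.totalDegree ≤ m)
  (hrel : IsRelPrime (homogeneousComponent n F) (homogeneousComponent m G))
  (h1 : homogeneousComponent n F ≠ 0) (h2 : homogeneousComponent m G ≠ 0)

include hF hG hrel h1 h2 in
lemma relPrime : IsRelPrime F G := by
  intro p hpF hpG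
  obtain ⟨q, rfl⟩ := hpF
  obtain ⟨r, rfl⟩ := hpG
  have hpq : p * q ≠ 0 := fun h => h1 (by rw [h, map_zero])
  have hpr : p * r ≠ 0 := fun h => h2 (by rw [h, map_zero])
  obtain ⟨hp0, hq0⟩ := mul_ne_zero_iff.1 hpq
  have hr0 := (mul_ne_zero_iff.1 hpr).2
  have hdeg : p.totalDegree + q.totalDegree = n := by
    rw [← totalDegree_mul_of_isDomain hp0 hq0]
    refine le_antisymm hF (not_lt.1 fun h => h1 (homogeneousComponent_eq_zero _ _ h))
  have hdeg' : p.totalDegree + r.totalDegree = m := by
    rw [← totalDegree_mul_of_isDomain hp0 hr0]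
    refine le_antisymm hG (not_lt.1 fun h => h2 (homogeneousComponent_eq_zero _ _ h))
  have hu : IsUnit (homogeneousComponent p.totalDegree p) :=
    hrel ⟨_, by rw [← hdeg]; exact hc_mul le_rfl le_rfl⟩ ⟨_, by rw [← hdeg']; exact hc_mul le_rfl le_rfl⟩
  obtain ⟨c, hc, hcp⟩ := isUnit_iff_eq_C_of_isReduced.1 hu
  have h0 : p.totalDegree = 0 := by
    have h := (homogeneousComponent_isHomogeneous p.totalDegree p).totalDegree (hu.ne_zero)
    rw [hcp, totalDegree_C] at h
    exact h.symm
  rw [totalDegree_eq_zero_iff_eq_C] at h0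
  rw [h0] at hp0 ⊢
  exact (Ne.isUnit fun h => hp0 (by rw [h, map_zero])).map C

include hF hG hrel h1 h2 in
lemma main (hn : 0 < n) (hm : 0 < m) : Module.finrank k ((MvPolynomial (Fin 2) k) ⧸ Ideal.span {F, G}) = n * m := by
  set f0 := homogeneousComponent n F with hf0
  set g0 := homogeneousComponent m G with hg0
  have hf0h : f0.IsHomogeneous n := homogeneousComponent_isHomogeneous n F
  have hg0h : g0.IsHomogeneous m := homogeneousComponent_isHomogeneous m G
  have hF0 : F ≠ 0 := fun h => h1 (by rw [hf0, h, map_zero])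
  have hG0 : G ≠ 0 := fun h => h2 (by rw [hg0, h, map_zero])
  have hmemV : ∀ {a b : (MvPolynomial (Fin 2) k)} {i j : ℕ}, a.totalDegree ≤ i → b.totalDegree ≤ j → a * b ∈ restrictTotalDegree (Fin 2) k (i + j) :=
    fun ha hb => (mem_restrictTotalDegree _ _ _).2 ((totalDegree_mul _ _).trans (add_le_add ha hb))
  -- every polynomial is congruent to one of degree `≤ n + m`
  have hsurj : ∀ N, ∀ x ∈ restrictTotalDegree (Fin 2) k (n + m + N), ∃ y ∈ restrictTotalDegree (Fin 2) k (n + m), x - y ∈ Ideal.span {F, G} := by
    intro N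
    induction N with
    | zero => exact fun x hx => ⟨x, hx, by simp⟩
    | succ N ih =>
      intro x hx
      have := Module.Finite.iff_fg.2 (homogeneousSubmodule_fg (Fin 2) k (m + N + 1))
      have := Module.Finite.iff_fg.2 (homogeneousSubmodule_fg (Fin 2) k (n + N + 1))
      have hmap : ((homogeneousSubmodule (Fin 2) k (m + N + 1)).prod (homogeneousSubmodule (Fin 2) k (n + N + 1))).map (comb f0 g0) = homogeneousSubmodule (Fin 2) k (n + m + N + 1) := by
        have := Module.Finite.iff_fg.2 (homogeneousSubmodule_fg (Fin 2) k (n + m + N + 1))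
        refine Submodule.eq_of_le_of_finrank_eq ?_ ?_
        · rintro _ ⟨⟨a, b⟩, ⟨ha, hb⟩, rfl⟩
          have e1 := IsHomogeneous.mul ha hf0h
          have e2 := IsHomogeneous.mul hb hg0h
          rw [show m + N + 1 + n = n + m + N + 1 by omega] at e1
          rw [show n + N + 1 + m = n + m + N + 1 by omega] at e2
          exact e1.add e2
        · have h := rank_comb hrel h1 h2 (homogeneousSubmodule (Fin 2) k (m + N + 1)) (homogeneousSubmodule (Fin 2) k (n + N + 1)) (homogeneousSubmodule (Fin 2) k (N + 1))
            (fun c hc => ⟨by rw [show m + N + 1 = N + 1 + m by omega]; exact IsHomogeneous.mul hc hg0h,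
              by rw [show n + N + 1 = N + 1 + n by omega]; exact IsHomogeneous.mul hc hf0h⟩)
            (fun c hc => by
              rcases eq_or_ne c 0 with rfl | hc0
              · exact zero_mem _
              have hd : c.totalDegree = N + 1 := by
                have := totalDegree_mul_of_isDomain hc0 h2
                rw [hg0h.totalDegree h2, IsHomogeneous.totalDegree hc (mul_ne_zero hc0 h2)] at this
                omega
              have h3 := hc_mul (q := g0) hd.le (hg0h.totalDegree h2).le
              rw [homogeneousComponent_eq_self hg0h, homogeneousComponent_eq_self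
                (by rw [show N + 1 + m = m + N + 1 by omega]; exact hc)] at h3
              rw [mul_right_cancel₀ h2 h3]
              exact homogeneousComponent_isHomogeneous _ _)
          rw [card_deg, card_deg, card_deg] at h
          rw [card_deg]
          omega
      obtain ⟨⟨a, b⟩, ⟨ha, hb⟩, hab⟩ : homogeneousComponent (n + m + N + 1) x ∈
          ((homogeneousSubmodule (Fin 2) k (m + N + 1)).prod (homogeneousSubmodule (Fin 2) k (n + N + 1))).map (comb f0 g0) := by
        rw [hmap]; exact homogeneousComponent_isHomogeneous _ _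
      rw [comb_apply] at hab
      have hmem : x - (a * F + b * G) ∈ restrictTotalDegree (Fin 2) k (n + m + N) := by
        refine drop_top ?_ ?_
        · refine Submodule.sub_mem _ hx (Submodule.add_mem _ ?_ ?_)
          · rw [show n + m + N + 1 = m + N + 1 + n by omega]; exact hmemV (IsHomogeneous.totalDegree_le ha) hF
          · rw [show n + m + N + 1 = n + N + 1 + m by omega]; exact hmemV (IsHomogeneous.totalDegree_le hb) hG
        · have e1 := hc_mul (IsHomogeneous.totalDegree_le ha) hF
          have e2 := hc_mul (IsHomogeneous.totalDegree_le hb) hG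
          rw [show m + N + 1 + n = n + m + N + 1 by omega, homogeneousComponent_eq_self ha] at e1
          rw [show n + N + 1 + m = n + m + N + 1 by omega, homogeneousComponent_eq_self hb] at e2
          rw [map_sub, map_add, e1, e2, ← hab]
          exact sub_self _
      obtain ⟨y, hy, hxy⟩ := ih _ hmem
      refine ⟨y, hy, ?_⟩
      have : x - y = (x - (a * F + b * G) - y) + (a * F + b * G) := by ring
      rw [this]
      exact Ideal.add_mem _ hxy (Ideal.mem_span_pair.2 ⟨a, b, rfl⟩)
  -- representations of low degree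
  have hred : ∀ N, ∀ a ∈ restrictTotalDegree (Fin 2) k (m + N), ∀ b ∈ restrictTotalDegree (Fin 2) k (n + N), a * F + b * G ∈ restrictTotalDegree (Fin 2) k (n + m) →
      ∃ a' ∈ (restrictTotalDegree (Fin 2) k) m, ∃ b' ∈ (restrictTotalDegree (Fin 2) k) n, a' * F + b' * G = a * F + b * G := by
    intro N
    induction N with
    | zero => exact fun a ha b hb _ => ⟨a, ha, b, hb, rfl⟩
    | succ N ih =>
      intro a ha b hb hab
      have ha' := (mem_restrictTotalDegree _ _ _).1 ha
      have hb' := (mem_restrictTotalDegree _ _ _).1 hb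
      have htop : homogeneousComponent (n + m + N + 1) (a * F + b * G) = 0 := by
        refine homogeneousComponent_eq_zero _ _ ?_
        have := (mem_restrictTotalDegree _ _ _).1 hab
        omega
      have e1 := hc_mul ha' hF
      have e2 := hc_mul hb' hG
      rw [show m + (N + 1) + n = n + m + N + 1 by omega] at e1
      rw [show n + (N + 1) + m = n + m + N + 1 by omega] at e2
      rw [map_add, e1, e2, ← hf0, ← hg0] at htop
      obtain ⟨c, hc⟩ : g0 ∣ homogeneousComponent (m + (N + 1)) a :=
        hrel.symm.dvd_of_dvd_mul_right ⟨-homogeneousComponent (n + (N + 1)) b, by linear_combination htop⟩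
      have hcd : c.totalDegree ≤ N + 1 := by
        rcases eq_or_ne c 0 with rfl | hc0
        · simp
        have := totalDegree_mul_of_isDomain h2 hc0
        rw [← hc, hg0h.totalDegree h2] at this
        have := (homogeneousComponent_isHomogeneous (m + (N + 1)) a).totalDegree_le
        omega
      set c' := homogeneousComponent (N + 1) c with hc'
      have hca : homogeneousComponent (m + (N + 1)) a = g0 * c' := by
        have := hc_mul (hg0h.totalDegree h2).le hcd
        rw [← hc, homogeneousComponent_eq_self hg0h] at this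
        exact (homogeneousComponent_eq_self (homogeneousComponent_isHomogeneous _ _)).symm.trans this
      have hcb : homogeneousComponent (n + (N + 1)) b = -(f0 * c') := by
        have : g0 * (homogeneousComponent (n + (N + 1)) b + f0 * c') = 0 := by
          rw [hca] at htop; linear_combination htop
        linear_combination (mul_eq_zero.1 this).resolve_left h2
      have hc'd : c'.totalDegree ≤ N + 1 := (homogeneousComponent_isHomogeneous _ _).totalDegree_le
      have hA : a - G * c' ∈ restrictTotalDegree (Fin 2) k (m + N) := by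
        refine drop_top (Submodule.sub_mem _ ha (hmemV (i := m) (j := N + 1) hG hc'd)) ?_
        change homogeneousComponent (m + (N + 1)) _ = 0
        rw [map_sub, hc_mul hG hc'd, hca,
          homogeneousComponent_eq_self (homogeneousComponent_isHomogeneous _ _), ← hg0]
        exact sub_self _
      have hB : b + F * c' ∈ restrictTotalDegree (Fin 2) k (n + N) := by
        refine drop_top (Submodule.add_mem _ hb (hmemV (i := n) (j := N + 1) hF hc'd)) ?_
        change homogeneousComponent (n + (N + 1)) _ = 0
        rw [map_add, hc_mul hF hc'd, hcb,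
          homogeneousComponent_eq_self (homogeneousComponent_isHomogeneous _ _), ← hf0]
        exact neg_add_cancel _
      have heq : (a - G * c') * F + (b + F * c') * G = a * F + b * G := by ring
      obtain ⟨a', ha'', b', hb'', h⟩ := ih _ hA _ hB (by rw [heq]; exact hab)
      exact ⟨a', ha'', b', hb'', h.trans heq⟩
  let q : restrictTotalDegree (Fin 2) k (n + m) →ₗ[k] (MvPolynomial (Fin 2) k) ⧸ Ideal.span {F, G} :=
    ((Ideal.Quotient.mkₐ k (Ideal.span {F, G})).toLinearMap).comp (restrictTotalDegree (Fin 2) k (n + m)).subtype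
  have hq : Function.Surjective q := by
    intro z
    obtain ⟨x, rfl⟩ := Ideal.Quotient.mk_surjective z
    obtain ⟨y, hy, hxy⟩ := hsurj x.totalDegree x ((mem_restrictTotalDegree _ _ _).2 (by omega))
    exact ⟨⟨y, hy⟩, (Ideal.Quotient.eq.2 hxy).symm⟩
  have hker : (LinearMap.ker q).map (restrictTotalDegree (Fin 2) k (n + m)).subtype = (((restrictTotalDegree (Fin 2) k) m).prod ((restrictTotalDegree (Fin 2) k) n)).map (comb F G) := by
    refine le_antisymm ?_ ?_
    · rintro _ ⟨⟨x, hx⟩, h, rfl⟩
      obtain ⟨a, b, hab⟩ := Ideal.mem_span_pair.1 (Ideal.Quotient.eq_zero_iff_mem.1 h)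
      obtain ⟨a', ha, b', hb, h'⟩ := hred (a.totalDegree + b.totalDegree) a
        ((mem_restrictTotalDegree _ _ _).2 (by omega)) b ((mem_restrictTotalDegree _ _ _).2 (by omega))
        (by rw [hab]; exact hx)
      exact ⟨(a', b'), ⟨ha, hb⟩, h'.trans hab⟩
    · rintro _ ⟨⟨a, b⟩, ⟨ha, hb⟩, rfl⟩
      have hx : comb F G (a, b) ∈ restrictTotalDegree (Fin 2) k (n + m) := by
        rw [comb_apply]
        refine Submodule.add_mem _ ?_ (hmemV ((mem_restrictTotalDegree _ _ _).1 hb) hG)
        rw [add_comm n m]
        exact hmemV ((mem_restrictTotalDegree _ _ _).1 ha) hF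
      exact ⟨⟨_, hx⟩, Ideal.Quotient.eq_zero_iff_mem.2 (Ideal.mem_span_pair.2 ⟨a, b, rfl⟩), rfl⟩
  have hrk := rank_comb (relPrime F G hF hG hrel h1 h2) hF0 hG0 ((restrictTotalDegree (Fin 2) k) m) ((restrictTotalDegree (Fin 2) k) n) ((restrictTotalDegree (Fin 2) k) 0)
    (fun c hc => ⟨by rw [show m = 0 + m by omega]; exact hmemV ((mem_restrictTotalDegree _ _ _).1 hc) hG,
      by rw [show n = 0 + n by omega]; exact hmemV ((mem_restrictTotalDegree _ _ _).1 hc) hF⟩)
    (fun c hc => by
      rcases eq_or_ne c 0 with rfl | hc0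
      · exact zero_mem _
      rw [mem_restrictTotalDegree] at hc ⊢
      rw [totalDegree_mul_of_isDomain hc0 hG0] at hc
      have hGm : G.totalDegree = m := le_antisymm hG (not_lt.1 fun h => h2 (homogeneousComponent_eq_zero _ _ h))
      omega)
  rw [← hker, (Submodule.equivSubtypeMap _ _).finrank_eq.symm] at hrk
  have hrn := q.finrank_range_add_finrank_ker
  rw [LinearMap.range_eq_top.2 hq, finrank_top] at hrn
  have c1 := card_le (k := k) (n + m)
  have c2 := card_le (k := k) n
  have c3 := card_le (k := k) m
  have c4 := card_le (k := k) 0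
  nlinarith

/-- Dehomogenisation. -/
lemma dehom {f : MvPolynomial (Fin 3) k} {n : ℕ} (hf : f.IsHomogeneous n) :
    (aeval (Fin.cons (X 0) (Fin.cons (X 1) (Fin.cons 1 Fin.elim0)) : Fin 3 → (MvPolynomial (Fin 2) k)) f).totalDegree ≤ n ∧
    homogeneousComponent n (aeval (Fin.cons (X 0) (Fin.cons (X 1) (Fin.cons 1 Fin.elim0)) : Fin 3 → (MvPolynomial (Fin 2) k)) f) =
      aeval (Fin.cons (X 0) (Fin.cons (X 1) (Fin.cons 0 Fin.elim0)) : Fin 3 → (MvPolynomial (Fin 2) k)) f := by
  have hterm : ∀ (t : (MvPolynomial (Fin 2) k)), ∀ d ∈ f.support, (aeval (Fin.cons (X 0) (Fin.cons (X 1) (Fin.cons t Fin.elim0)) : Fin 3 → (MvPolynomial (Fin 2) k)))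
      (monomial d (coeff d f)) = C (coeff d f) * X 0 ^ d 0 * X 1 ^ d 1 * t ^ d 2 ∧ d 0 + d 1 + d 2 = n := by
    intro t d hd
    refine ⟨?_, ?_⟩
    · rw [aeval_monomial, Finsupp.prod_fintype _ _ (fun i => pow_zero _), Fin.prod_univ_three]
      simp only [show (1 : Fin 3) = Fin.succ 0 from rfl, show (2 : Fin 3) = Fin.succ (Fin.succ 0) from rfl,
        Fin.cons_zero, Fin.cons_succ, algebraMap_eq, mul_assoc]
    · have := hf (mem_support_iff.1 hd)
      rw [Finsupp.weight_apply, Finsupp.sum_fintype _ _ (fun i => by simp), Fin.sum_univ_three] at this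
      simpa using this
  have hhom : ∀ d : Fin 3 →₀ ℕ, (C (coeff d f) * X 0 ^ d 0 * X 1 ^ d 1 : (MvPolynomial (Fin 2) k)).IsHomogeneous (d 0 + d 1) := fun d =>
    (isHomogeneous_C_mul_X_pow _ _ _).mul (isHomogeneous_X_pow _ _)
  constructor
  · conv_lhs => rw [f.as_sum, map_sum]
    refine totalDegree_finsetSum_le fun d hd => ?_
    rw [(hterm 1 d hd).1, one_pow, mul_one]
    have := (hterm 1 d hd).2
    exact (hhom d).totalDegree_le.trans (by omega)
  · conv_lhs => rw [f.as_sum, map_sum, map_sum]
    conv_rhs => rw [f.as_sum, map_sum]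
    refine Finset.sum_congr rfl fun d hd => ?_
    rw [(hterm 1 d hd).1, (hterm 0 d hd).1, one_pow, mul_one, homogeneousComponent_of_mem (hhom d)]
    have := (hterm 1 d hd).2
    rcases eq_or_ne (d 2) 0 with h | h
    · rw [if_pos (by omega), h, pow_zero, mul_one]
    · rw [if_neg (by omega), zero_pow h, mul_zero]

end

/-- Let k be a field and f, g nonzero homogeneous polynomials of positive degrees n and m in three
variables X, Y, T without common non-unit factor, and assume that f(X, Y, 0) and g(X, Y, 0) are also
without common non-unit factor in k[X, Y] (no common point of the two curves lies on the line T =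
0). Then the quotient of k[X, Y] by the ideal generated by f(X, Y, 1) and g(X, Y, 1) has dimension
n·m over k. (The published statement is that two plane curves without common component have total
intersection number equal to the product of their degrees; its argument moves a line off the
finitely many common points and then proves exactly this affine count, which is what this row
states, over an arbitrary field.) -/
theorem result (k : Type u) [Field k] (n m : ℕ)
    (f g : MvPolynomial (Fin 3) k) (hf : f.IsHomogeneous n) (hg : g.IsHomogeneous m)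
    (hn : 0 < n) (hm : 0 < m) (hf0 : f ≠ 0) (hg0 : g ≠ 0) (hfg : IsRelPrime f g)
    (hT : IsRelPrime
      (MvPolynomial.aeval (Fin.cons (MvPolynomial.X 0) (Fin.cons (MvPolynomial.X 1)
        (Fin.cons 0 Fin.elim0)) : Fin 3 → MvPolynomial (Fin 2) k) f)
      (MvPolynomial.aeval (Fin.cons (MvPolynomial.X 0) (Fin.cons (MvPolynomial.X 1)
        (Fin.cons 0 Fin.elim0)) : Fin 3 → MvPolynomial (Fin 2) k) g)) :
    Module.finrank k (MvPolynomial (Fin 2) k ⧸ Ideal.span
      ({MvPolynomial.aeval (Fin.cons (MvPolynomial.X 0) (Fin.cons (MvPolynomial.X 1)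
          (Fin.cons 1 Fin.elim0)) : Fin 3 → MvPolynomial (Fin 2) k) f,
        MvPolynomial.aeval (Fin.cons (MvPolynomial.X 0) (Fin.cons (MvPolynomial.X 1)
          (Fin.cons 1 Fin.elim0)) : Fin 3 → MvPolynomial (Fin 2) k) g} :
        Set (MvPolynomial (Fin 2) k))) = n * m := by
  obtain ⟨hF, hF'⟩ := dehom hf
  obtain ⟨hG, hG'⟩ := dehom hg
  have key : ∀ {f' g' : MvPolynomial (Fin 2) k} {i : ℕ}, IsRelPrime f' g' → g'.IsHomogeneous i → 0 < i → f' ≠ 0 := by
    intro f' g' i h hi hi0 h0
    have hu : IsUnit g' := isRelPrime_zero_left.1 (h0 ▸ h)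
    obtain ⟨c, hc, rfl⟩ := MvPolynomial.isUnit_iff_eq_C_of_isReduced.1 hu
    have := hi.totalDegree hu.ne_zero
    rw [MvPolynomial.totalDegree_C] at this
    omega
  refine main _ _ hF hG ?_ ?_ ?_ hn hm
  · rw [hF', hG']; exact hT
  · rw [hF']
    exact key hT (hG' ▸ MvPolynomial.homogeneousComponent_isHomogeneous _ _) hm
  · rw [hG']
    exact key hT.symm (hF' ▸ MvPolynomial.homogeneousComponent_isHomogeneous _ _) hn

end Groth.Agent.S10827
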