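import Groth.Statements.S10828
import Mathlib
import Groth.Agent.GeomRedAt.InsepScheme
-- import your own Groth.Agent.* helpers here

set_option autoImplicit false
universe u
open CategoryTheory AlgebraicGeometry
open Variety

namespace Groth.Agent.S10828

/-- Let k be a field, K an algebraic closure of k with its group G of k-automorphisms, and X a k-scheme
locally of finite type. The map sending a K-valued point of X over k to its image point identifies
the closed points of X with the G-orbits in X(K): a point is closed if and only if it is the image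
of some K-valued point, and two K-valued points have the same image if and only if one is obtained
from the other by composing with Spec of a k-automorphism of K. -/
theorem result (k K : Type u) [Field k] [Field K]
    [Algebra k K] [IsAlgClosure k K] {X : Scheme.{u}} (f : X ⟶ Spec (CommRingCat.of k))
    [LocallyOfFiniteType f] :
    (∀ x : X, IsClosed ({x} : Set X) ↔
        ∃ p : Spec (CommRingCat.of K) ⟶ X, p ≫ f = Spec.map (CommRingCat.ofHom (algebraMap k K)) ∧
          p.base (IsLocalRing.closedPoint K) = x) ∧
      ∀ p q : Spec (CommRingCat.of K) ⟶ X,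
        p ≫ f = Spec.map (CommRingCat.ofHom (algebraMap k K)) →
        q ≫ f = Spec.map (CommRingCat.ofHom (algebraMap k K)) →
          (p.base (IsLocalRing.closedPoint K) = q.base (IsLocalRing.closedPoint K) ↔
            ∃ σ : K ≃ₐ[k] K, q = Spec.map (CommRingCat.ofHom σ.toRingHom) ≫ p) := by
  have : JacobsonSpace X := LocallyOfFiniteType.jacobsonSpace f
  have hK : Algebra.IsAlgebraic k K := IsAlgClosure.isAlgebraic
  have : IsAlgClosed K := IsAlgClosure.isAlgClosed k
  refine ⟨fun x => ?_, fun p q hp hq => ⟨fun h => ?_, ?_⟩⟩
  · let ψ : CommRingCat.of k ⟶ X.residueField x := Spec.preimage (X.fromSpecResidueField x ≫ f)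
    have hψ : X.fromSpecResidueField x ≫ f = Spec.map ψ := (Spec.map_preimage _).symm
    letI : Algebra k (X.residueField x) := ψ.hom.toAlgebra
    refine ⟨fun hx => ?_, ?_⟩
    · have := (isClosed_singleton_iff_locallyOfFiniteType (x := x)).1 hx
      have : LocallyOfFiniteType (Spec.map ψ) := by rw [← hψ]; infer_instance
      have : Algebra.FiniteType k (X.residueField x) :=
        (HasRingHomProperty.Spec_iff (P := @LocallyOfFiniteType)).1 this
      have : Module.Finite k (X.residueField x) := finite_of_finite_type_of_isJacobsonRing k _
      let σ : X.residueField x →ₐ[k] K := IsAlgClosed.lift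
      refine ⟨Spec.map (CommRingCat.ofHom σ.toRingHom) ≫ X.fromSpecResidueField x, ?_, ?_⟩
      · rw [Category.assoc, hψ, ← Spec.map_comp]
        exact congrArg Spec.map (CommRingCat.hom_ext σ.comp_algebraMap)
      · exact X.fromSpecResidueField_apply x _
    · rintro ⟨p, hp, rfl⟩
      obtain ⟨⟨y, j⟩, rfl⟩ := (Scheme.SpecToEquivOfField K X).symm.surjective p
      have hy : ((Scheme.SpecToEquivOfField K X).symm ⟨y, j⟩).base (IsLocalRing.closedPoint K) = y :=
        X.fromSpecResidueField_apply y _
      rw [hy]
      let ψ' : CommRingCat.of k ⟶ X.residueField y := Spec.preimage (X.fromSpecResidueField y ≫ f)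
      have hψ' : X.fromSpecResidueField y ≫ f = Spec.map ψ' := (Spec.map_preimage _).symm
      have hess := Groth.Agent.GeomRedAt.essFiniteType_residueField f y ψ' hψ'
      letI : Algebra k (X.residueField y) := ψ'.hom.toAlgebra
      have : Algebra.EssFiniteType k (X.residueField y) := hess
      have hj : ψ' ≫ j = CommRingCat.ofHom (algebraMap k K) := Spec.map_injective (by
        rw [Spec.map_comp, ← hψ', ← Category.assoc]
        exact hp)
      let φ : X.residueField y →ₐ[k] K := { j.hom with commutes' := fun c => congrArg (fun g => g.hom c) hj }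
      have : Algebra.IsAlgebraic k (X.residueField y) :=
        ⟨fun z => (isAlgebraic_algHom_iff φ φ.toRingHom.injective).1 (hK.isAlgebraic (φ z))⟩
      have : Module.Finite k (X.residueField y) := Algebra.finite_of_essFiniteType_of_isAlgebraic
      have : LocallyOfFiniteType (Spec.map ψ') :=
        (HasRingHomProperty.Spec_iff (P := @LocallyOfFiniteType)).2
          (inferInstance : Algebra.FiniteType k (X.residueField y))
      have : LocallyOfFiniteType (X.fromSpecResidueField y ≫ f) := by rw [hψ']; infer_instance
      have := locallyOfFiniteType_of_comp (X.fromSpecResidueField y) f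
      exact (isClosed_singleton_iff_locallyOfFiniteType (x := y)).2 inferInstance
  · obtain ⟨⟨x, j₁⟩, rfl⟩ := (Scheme.SpecToEquivOfField K X).symm.surjective p
    obtain ⟨⟨y, j₂⟩, rfl⟩ := (Scheme.SpecToEquivOfField K X).symm.surjective q
    obtain rfl : x = y := ((X.fromSpecResidueField_apply x _).symm.trans h).trans (X.fromSpecResidueField_apply y _)
    let ψ : CommRingCat.of k ⟶ X.residueField x := Spec.preimage (X.fromSpecResidueField x ≫ f)
    have hψ : X.fromSpecResidueField x ≫ f = Spec.map ψ := (Spec.map_preimage _).symm
    letI : Algebra k (X.residueField x) := ψ.hom.toAlgebra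
    have h1 : ψ ≫ j₁ = CommRingCat.ofHom (algebraMap k K) := Spec.map_injective (by
      rw [Spec.map_comp, ← hψ, ← Category.assoc]; exact hp)
    have h2 : ψ ≫ j₂ = CommRingCat.ofHom (algebraMap k K) := Spec.map_injective (by
      rw [Spec.map_comp, ← hψ, ← Category.assoc]; exact hq)
    letI : Algebra (X.residueField x) K := j₁.hom.toAlgebra
    haveI : IsScalarTower k (X.residueField x) K :=
      IsScalarTower.of_algebraMap_eq fun c => (congrArg (fun g => g.hom c) h1).symm
    haveI : Algebra.IsAlgebraic (X.residueField x) K := Algebra.IsAlgebraic.tower_top (K := k) (X.residueField x)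
    let φ₂ : X.residueField x →ₐ[k] K := { j₂.hom with commutes' := fun c => congrArg (fun g => g.hom c) h2 }
    obtain ⟨τ, hτ⟩ := IsAlgClosed.surjective_domRestrict_of_isAlgebraic (K := k) (L := X.residueField x) (E := K) φ₂
    refine ⟨AlgEquiv.ofBijective τ (Algebra.IsAlgebraic.algHom_bijective τ), ?_⟩
    show Spec.map j₂ ≫ _ = Spec.map _ ≫ Spec.map j₁ ≫ _
    rw [← Category.assoc, ← Spec.map_comp]
    exact congrArg (Spec.map · ≫ X.fromSpecResidueField x) (CommRingCat.hom_ext (RingHom.ext fun z => (AlgHom.congr_fun (show _ = φ₂ from hτ) z).symm))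
  · rintro ⟨σ, rfl⟩
    rw [Scheme.Hom.comp_apply]
    exact congrArg p.base (Subsingleton.elim (α := Spec (CommRingCat.of K)) _ _)

end Groth.Agent.S10828
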