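import Groth.Statements.S10830
import Groth.Agent.BMCoh.Topology

set_option autoImplicit false
universe u
open Topology TopologicalSpace
open TopDim

namespace Groth.Agent.S10830

/-- In an irreducible topological space X of finite Krull dimension, every proper closed subset Y has
strictly smaller Krull dimension than X. -/
theorem result (X : Type u) [TopologicalSpace X]
    [IrreducibleSpace X] (hfin : topologicalKrullDim X ≠ ⊤) (Y : Set X) (hY : IsClosed Y) (hYX : Y ≠ Set.univ) :
    topologicalKrullDim ↥Y < topologicalKrullDim X := by
  have h := Groth.Agent.BMCoh.topologicalKrullDim_add_one_le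
    (f := (Subtype.val : Y → X)) IsInducing.subtypeVal (by
      rw [Subtype.range_coe, dense_iff_closure_eq, hY.closure_eq]
      exact hYX)
  have hne : topologicalKrullDim X ≠ ⊥ := by
    obtain ⟨x⟩ := (inferInstance : Nonempty X)
    have : Nonempty (IrreducibleCloseds X) :=
      ⟨⟨closure {x}, isIrreducible_singleton.closure, isClosed_closure⟩⟩
    exact (Order.krullDim_nonneg.trans_lt' (WithBot.bot_lt_coe _)).ne'
  revert h hne hfin
  generalize topologicalKrullDim ↥Y = a
  generalize topologicalKrullDim X = b
  intro hb h hne
  induction b using WithBot.recBotCoe with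
  | bot => exact absurd rfl hne
  | coe b =>
    induction a using WithBot.recBotCoe with
    | bot => exact WithBot.bot_lt_coe b
    | coe a =>
      have hb' : b ≠ ⊤ := fun e => hb (by rw [e]; rfl)
      rw [show ((1 : WithBot ℕ∞)) = ((1 : ℕ∞) : WithBot ℕ∞) from rfl, ← WithBot.coe_add,
        WithBot.coe_le_coe] at h
      have ha : a ≠ ⊤ := by rintro rfl; simp at h; exact hb' h
      exact WithBot.coe_lt_coe.mpr ((ENat.add_one_le_iff ha).mp h)

end Groth.Agent.S10830
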