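import Groth.Statements.S10832
import Groth.Agent.DimZeroFin.Basic
-- import your own Groth.Agent.* helpers here

set_option autoImplicit false
universe u
open CategoryTheory AlgebraicGeometry Topology
open Variety

namespace Groth.Agent.S10832

/-- For a nonempty scheme X of finite type over a field k the following are equivalent: X has Krull
dimension 0; X is affine with ring of global sections finite over k and equal to the product of all
its local rings via the germ maps; the underlying space of X is discrete; the underlying space of X
is finite. -/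
theorem result (k : Type u) [Field k] {X : Scheme.{u}} [Nonempty X]
    (f : X ⟶ Spec (CommRingCat.of k)) [LocallyOfFiniteType f] [QuasiCompact f] :
    [topologicalKrullDim ↥X = 0,
      IsAffine X ∧ f.appTop.hom.Finite ∧
        Function.Bijective (fun s : Γ(X, ⊤) => fun x : X => X.presheaf.germ ⊤ x trivial s),
      DiscreteTopology ↥X,
      Finite ↥X].TFAE := by
  haveI : CompactSpace X := QuasiCompact.compactSpace_of_compactSpace f
  have hJ : JacobsonSpace X := LocallyOfFiniteType.jacobsonSpace f
  have h34 : DiscreteTopology ↥X → Finite ↥X := fun h => finite_of_compact_of_discrete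
  have h31 : DiscreteTopology ↥X → topologicalKrullDim ↥X = 0 := fun h => by
    haveI : Nonempty (TopologicalSpace.IrreducibleCloseds ↥X) :=
      ⟨⟨closure {Classical.arbitrary ↥X}, isIrreducible_singleton.closure, isClosed_closure⟩⟩
    refine le_antisymm ?_ (Order.krullDim_nonneg (α := TopologicalSpace.IrreducibleCloseds ↥X))
    refine Order.krullDim_nonpos_iff_forall_isMax.mpr fun a b hab => ?_
    intro z hz
    obtain ⟨w, hw⟩ := a.2.nonempty
    have : z = w := (isPreirreducible_iff_subsingleton.mp b.2.2) hz (hab hw)
    exact this ▸ hw
  tfae_have 1 → 3 := fun h => by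
    haveI : IsLocallyNoetherian X := LocallyOfFiniteType.isLocallyNoetherian f
    haveI : IsNoetherian X := ⟨⟩
    exact Groth.Agent.DimZeroFin.discreteTopology_of_forall_specializes
      fun x y => Groth.Agent.DimZeroFin.eq_of_specializes_of_dim_le_zero h.le
  tfae_have 3 → 1 := h31
  tfae_have 3 → 4 := h34
  tfae_have 4 → 3 := fun h => inferInstance
  tfae_have 3 → 2 := fun h => by
    obtain ⟨ha, hf⟩ := Groth.Agent.DimZeroFin.isAffine_and_isFinite f fun x y hxy => hxy.eq
    refine ⟨ha, ?_, ?_, ?_⟩
    · exact IsFinite.finite_app (f := f) ⊤ (isAffineOpen_top _)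
    · intro s t hst
      exact TopCat.Presheaf.section_ext X.sheaf ⊤ s t fun x _ => congrFun hst x
    · intro v
      choose U hxU s hs using fun x : X => X.presheaf.germ_exist (x := x) (v x)
      let V : X → X.Opens := fun x => ⟨{x}, isOpen_discrete _⟩
      have hVU : ∀ x, V x ≤ U x := fun x z hz => by
        rw [show z = x from hz]; exact hxU x
      let sf : ∀ x, Γ(X, V x) := fun x => X.presheaf.map (homOfLE (hVU x)).op (s x)
      have hcompat : TopCat.Presheaf.IsCompatible X.presheaf V sf := by
        intro x y
        by_cases hxy : x = y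
        · subst hxy; rfl
        · refine TopCat.Presheaf.section_ext X.sheaf _ _ _ fun z hz => ?_
          exact absurd ((show z = x from hz.1).symm.trans (show z = y from hz.2)) hxy
      obtain ⟨g, hg, -⟩ := TopCat.Sheaf.existsUnique_gluing' X.sheaf V ⊤ (fun x => homOfLE le_top)
        (fun z _ => TopologicalSpace.Opens.mem_iSup.mpr ⟨z, rfl⟩) sf hcompat
      refine ⟨g, funext fun x => ?_⟩
      show X.presheaf.germ ⊤ x trivial g = v x
      refine (X.presheaf.germ_res_apply (homOfLE (le_top : V x ≤ ⊤)) x rfl g).symm.trans ?_
      refine (congrArg (X.presheaf.germ (V x) x rfl) (hg x)).trans ?_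
      exact (X.presheaf.germ_res_apply (homOfLE (hVU x)) x rfl (s x)).trans (hs x)
  tfae_have 2 → 3 := fun h => by
    haveI := h.1
    haveI : IsFinite f := by
      rw [show f = X.isoSpec.hom ≫ Spec.map f.appTop ≫ (Spec (CommRingCat.of k)).isoSpec.inv by
        rw [Scheme.isoSpec_hom_naturality_assoc, Iso.hom_inv_id, Category.comp_id]]
      haveI : IsFinite (Spec.map f.appTop) := (IsFinite.SpecMap_iff _).2 h.2.1
      infer_instance
    have hd := f.isDiscrete_preimage_singleton (f (Classical.arbitrary ↥X))
    rw [show f ⁻¹' {f (Classical.arbitrary ↥X)} = Set.univ from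
      Set.eq_univ_of_forall fun x => Subsingleton.elim (α := PrimeSpectrum k) _ _] at hd
    exact isDiscrete_univ_iff.mp hd
  tfae_finish

end Groth.Agent.S10832
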