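import Groth.Statements.S10834
import Groth.Agent.DepthLib.SerreNormal
import Groth.Agent.DepthLib.Quotient
import Groth.Agent.DepthLib.CohenMacaulay
import Groth.Agent.DepthLib.RegularLocal
import Mathlib.RingTheory.LocalProperties.IntegrallyClosed

set_option autoImplicit false
universe u
open CAlg

namespace Groth.Agent.S10834

theorem hasRk_hasSk_of_normal (A : Type u) [CommRing A] [IsDomain A] [IsNoetherianRing A]
    [IsIntegrallyClosed A] : LocCoh.HasRk 1 A ∧ LocCoh.HasSk 2 A A :=
  DepthLib.hasRk_one_hasSk_two_of_normal fun p hp =>
    ⟨inferInstance, isIntegrallyClosed_of_isLocalization _ p.primeCompl p.primeCompl_le_nonZeroDivisors⟩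

open Pointwise in
theorem isCohenMacaulayModule_quotient_span_singleton (R : Type u) [CommRing R] (hR : IsRegularLocalRing R)
    (x : R) (hx : x ∈ IsLocalRing.maximalIdeal R) : LocCoh.IsCohenMacaulayModule R (R ⧸ Ideal.span {x}) := by
  haveI := DepthLib.isDomain_of_isRegularLocalRing R
  haveI := DepthLib.isCohenMacaulayLocalRing_of_isRegularLocalRing R
  rcases eq_or_ne x 0 with rfl | hx0
  · exact (DepthLib.isCohenMacaulayModule_congr (Submodule.quotEquivOfEqBot _ (by simp))).mpr
      DepthLib.isCohenMacaulayModule_self
  · exact (DepthLib.isCohenMacaulayModule_congr (Submodule.quotEquivOfEq _ _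
      (by rw [← Submodule.ideal_span_singleton_smul, smul_eq_mul, Ideal.mul_top]))).mp
      ((DepthLib.isCohenMacaulayModule_quotSMulTop_iff hx fun a b h => mul_left_cancel₀ hx0 h).mpr
        DepthLib.isCohenMacaulayModule_self)


/-- Let A be a Noetherian ring whose localizations at all prime ideals are regular local rings, and f an
element of A generating a prime ideal, so that A/(f) is an integral domain (an integral hypersurface
in the regular affine scheme Spec A). Then A/(f) is normal (integrally closed in its fraction field)
if and only if it is regular in codimension 1, i.e. its localization at every prime at which the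
local ring has dimension 1 is a regular local ring. -/
theorem result (A : Type u) [CommRing A]
    [IsNoetherianRing A] (hreg : ∀ (p : Ideal A) (_ : p.IsPrime), IsRegularLocalRing (Localization.AtPrime p))
    (f : A) (hf : (Ideal.span ({f} : Set A)).IsPrime) :
    IsIntegrallyClosed (A ⧸ Ideal.span ({f} : Set A)) ↔
      ∀ q : PrimeSpectrum (A ⧸ Ideal.span ({f} : Set A)),
        ringKrullDim (Localization.AtPrime q.asIdeal) = 1 →
          IsRegularLocalRing (Localization.AtPrime q.asIdeal) := by
  haveI := hf
  haveI : IsDomain (A ⧸ Ideal.span {f}) := Ideal.Quotient.isDomain _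
  have hS : LocCoh.HasSk 2 (A ⧸ Ideal.span {f}) (A ⧸ Ideal.span {f}) := by
    intro q _
    rw [DepthLib.depth_localization_self, DepthLib.supportDim_localization_self]
    set p := q.comap (Ideal.Quotient.mk (Ideal.span {f})) with hp
    have hle : Ideal.span {f} ≤ p := le_trans (le_of_eq Ideal.mk_ker.symm) (Ideal.comap_mono bot_le)
    have hq : q = p.map (Ideal.Quotient.mk (Ideal.span {f})) :=
      (Ideal.map_comap_of_surjective _ Ideal.Quotient.mk_surjective q).symm
    rw [DepthLib.depth_quotient_localization _ p hle q hq, DepthLib.height_map_quotient_eq_supportDim _ p hle q hq]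
    refine (min_le_right _ _).trans (le_of_eq ?_)
    have hCM := isCohenMacaulayModule_quotient_span_singleton (Localization.AtPrime p) (hreg p inferInstance)
      (algebraMap A _ f) ((IsLocalization.AtPrime.to_map_mem_maximal_iff (Localization.AtPrime p) p f).mpr
        (hle (Ideal.mem_span_singleton_self f)))
    rw [Ideal.map_span, Set.image_singleton]
    unfold LocCoh.IsCohenMacaulayModule at hCM
    rw [← hCM, Module.supportDim_eq_ringKrullDim_quotient_annihilator, Ideal.annihilator_quotient]
  constructor
  · intro h q hq
    refine (hasRk_hasSk_of_normal (A ⧸ Ideal.span {f})).1 q.asIdeal ?_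
    rw [IsLocalization.AtPrime.ringKrullDim_eq_height q.asIdeal] at hq
    exact WithBot.coe_le_coe.mp (hq.le.trans_eq (by norm_num))
  · intro h
    refine IsIntegrallyClosed.of_localization_maximal fun p _ _ => ?_
    refine (DepthLib.normal_of_hasRk_one_hasSk_two (fun q hq hle => ?_) hS p).2
    rcases eq_or_ne q ⊥ with rfl | hne
    · refine DepthLib.isRegularLocalRing_of_isField ?_
      rw [IsLocalRing.isField_iff_maximalIdeal_eq, ← Localization.AtPrime.map_eq_maximalIdeal, Ideal.map_bot]
    · refine h ⟨q, hq⟩ ?_
      rw [IsLocalization.AtPrime.ringKrullDim_eq_height q, le_antisymm hle (Order.one_le_iff_pos.mpr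
        (pos_iff_ne_zero.mpr fun h0 => hne (Ideal.height_eq_zero_iff_eq_bot.mp h0)))]
      norm_num

end Groth.Agent.S10834
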