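import Groth.Statements.S10836
import Mathlib
-- import your own Groth.Agent.* helpers here

set_option autoImplicit false
universe u
open Coh

namespace Groth.Agent.S10836

open scoped TensorProduct in
/-- Let A be a commutative ring, M a finitely generated projective A-module whose rank at every prime is
r, and Z a finite set of prime ideals of A. Then there is an element s of A outside every prime of Z
such that the localized module M_s has a basis of r elements over A_s. (The published statement is
for a finite locally free module of constant rank r on a scheme and a finite set of points inside an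
affine open Spec A, and produces a basic open D(s) containing the points on which the module is free
of rank r; its argument begins by replacing the scheme with Spec A, and this row states that case.) -/
theorem result (A : Type u) [CommRing A]
    (M : Type u) [AddCommGroup M] [Module A M] [Module.Finite A M] [Module.Projective A M] (r : ℕ)
    (hr : ∀ p : PrimeSpectrum A, Module.rankAtStalk M p = r)
    (Z : Set (PrimeSpectrum A)) (hZ : Z.Finite) :
    ∃ s : A, (∀ p ∈ Z, s ∉ p.asIdeal) ∧
      Nonempty (Module.Basis (Fin r) (Localization.Away s) (LocalizedModule (Submonoid.powers s) M)) := by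
  classical
  let T : Submonoid A := ⨅ p ∈ Z, p.asIdeal.primeCompl
  have hT : ∀ a, a ∈ T ↔ ∀ p ∈ Z, a ∉ p.asIdeal := fun a => by
    simp only [T, Submonoid.mem_iInf]
    rfl
  let A' := Localization T
  haveI : Finite (MaximalSpectrum A') := by
    have hmem : ∀ m : MaximalSpectrum A', ∃ p : Z, m.asIdeal.comap (algebraMap A A') ≤ p.1.asIdeal := fun m => by
      have hd : ((m.asIdeal.comap (algebraMap A A') : Ideal A) : Set A) ⊆
          ⋃ p ∈ (↑hZ.toFinset : Set (PrimeSpectrum A)), (p.asIdeal : Set A) := fun a ha => by
        by_contra hn
        have haT : a ∈ T := (hT a).2 fun p hp hap => hn (Set.mem_biUnion (by simpa using hp) hap)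
        exact m.isMaximal.ne_top (Ideal.eq_top_of_isUnit_mem _ ha (IsLocalization.map_units A' ⟨a, haT⟩))
      obtain ⟨p₀, -, -⟩ := Set.mem_iUnion₂.1 (hd (Ideal.zero_mem _))
      obtain ⟨p, hp, hle⟩ := (Ideal.subset_union_prime (s := hZ.toFinset) (f := fun p => p.asIdeal) p₀ p₀
        (fun p _ _ _ => p.isPrime)).1 hd
      exact ⟨⟨p, by simpa using hp⟩, hle⟩
    choose φ hφ using hmem
    haveI := hZ.to_subtype
    refine Finite.of_injective φ fun m m' he => MaximalSpectrum.ext ?_
    -- both are the extension of the prime
    have hd : Disjoint (T : Set A) ((φ m).1.asIdeal : Set A) := Set.disjoint_left.2 fun a ha hap =>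
      (hT a).1 ha _ (φ m).2 hap
    have hP : ((φ m).1.asIdeal.map (algebraMap A A')).IsPrime :=
      IsLocalization.isPrime_of_isPrime_disjoint T A' _ (φ m).1.isPrime hd
    have key : ∀ n : MaximalSpectrum A', φ n = φ m → n.asIdeal = (φ m).1.asIdeal.map (algebraMap A A') := fun n hn =>
      n.isMaximal.eq_of_le hP.ne_top (by
        rw [← IsLocalization.map_under T A' n.asIdeal, Ideal.under_def]
        exact Ideal.map_mono (hn ▸ hφ n))
    rw [key m rfl, key m' he.symm]
  have hrk : ∀ P : MaximalSpectrum A', Module.finrank (A' ⧸ P.1) ((A' ⧸ P.1) ⊗[A'] (A' ⊗[A] M)) = r := fun P => by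
    let := Ideal.Quotient.field P.1
    have h1 := congrFun (Module.rankAtStalk_eq_finrank_of_free (R := A' ⧸ P.1)
      (M := (A' ⧸ P.1) ⊗[A'] (A' ⊗[A] M))) ⟨⊥, Ideal.isPrime_bot⟩
    rw [Module.rankAtStalk_baseChange, Module.rankAtStalk_baseChange, hr] at h1
    exact h1.symm
  obtain ⟨b⟩ := Module.nonempty_basis_of_flat_of_finrank_eq A' (A' ⊗[A] M) r hrk
  haveI : IsLocalizedModule T (TensorProduct.mk A A' M 1) :=
    (isLocalizedModule_iff_isBaseChange T A' _).2 (TensorProduct.isBaseChange A M A')
  haveI : Module.FinitePresentation A M := Module.finitePresentation_of_projective A M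
  obtain ⟨s, hs, b', -⟩ := Module.FinitePresentation.exists_basis_localizedModule_powers T
    (TensorProduct.mk A A' M 1) A' b
  exact ⟨s, (hT s).1 hs, ⟨b'⟩⟩

end Groth.Agent.S10836
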