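import Mathlib
import Groth.Statements.S10837
-- import your own Groth.Agent.* helpers here

set_option autoImplicit false
universe u
open CategoryTheory AlgebraicGeometry Topology
open Mor

namespace Groth.Agent.S10837

/-- For a morphism of schemes f : X → Y which is open as a map of topological spaces, generalizations
lift along f: every generalization of f(x) is the image of a generalization of x. -/
theorem result {X Y : Scheme.{u}} (f : X ⟶ Y) (hf : IsOpenMap f.base) :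
    GeneralizingMap f.base := by
  intro x y hy
  obtain ⟨_, ⟨V, hV, rfl⟩, hxV, -⟩ := Y.isBasis_affineOpens.exists_subset_of_mem_open (Set.mem_univ (f x)) isOpen_univ
  obtain ⟨_, ⟨U, hU, rfl⟩, hxU, hUV⟩ := X.isBasis_affineOpens.exists_subset_of_mem_open (show x ∈ (f ⁻¹ᵁ V) from hxV) (f ⁻¹ᵁ V).2
  have e : U ≤ f ⁻¹ᵁ V := hUV
  obtain ⟨q, hq⟩ : x ∈ Set.range hU.fromSpec := by rw [hU.range_fromSpec]; exact hxU
  obtain ⟨p, hp⟩ : y ∈ Set.range hV.fromSpec := by rw [hV.range_fromSpec]; exact hy.mem_open V.2 hxV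
  set φ := f.appLE V U e
  have hcomp : ∀ z, f (hU.fromSpec z) = hV.fromSpec (Spec.map φ z) := fun z => by
    rw [← Scheme.Hom.comp_apply, ← Scheme.Hom.comp_apply, ← IsAffineOpen.SpecMap_appLE_fromSpec f hV hU e]
  haveI := hV.isOpenImmersion_fromSpec
  haveI := hU.isOpenImmersion_fromSpec
  have hinjV := hV.fromSpec.isOpenEmbedding.injective
  haveI : p.asIdeal.IsPrime := p.isPrime
  haveI : q.asIdeal.IsPrime := q.isPrime
  let S : Submonoid Γ(X, U) := q.asIdeal.primeCompl ⊔ p.asIdeal.primeCompl.map φ.hom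
  have hdisj : Disjoint ((p.asIdeal.map φ.hom : Ideal Γ(X, U)) : Set Γ(X, U)) (S : Set Γ(X, U)) := by
    rw [Set.disjoint_right]
    intro s hs hsI
    obtain ⟨b, hb, _, ⟨a, ha, rfl⟩, rfl⟩ := Submonoid.mem_sup.1 hs
    let b' : PrimeSpectrum Γ(X, U) → Prop := fun q' => b ∉ q'.asIdeal
    have hopen : IsOpen (f '' (hU.fromSpec '' (PrimeSpectrum.basicOpen b : Set (PrimeSpectrum Γ(X, U))))) :=
      hf _ (hU.fromSpec.isOpenEmbedding.isOpenMap _ (PrimeSpectrum.basicOpen b).2)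
    have hx : f x ∈ f '' (hU.fromSpec '' (PrimeSpectrum.basicOpen b : Set (PrimeSpectrum Γ(X, U)))) := ⟨x, ⟨q, hb, hq⟩, rfl⟩
    obtain ⟨_, ⟨q', hq', rfl⟩, hq'y⟩ := hy.mem_open hopen hx
    rw [hcomp, ← hp] at hq'y
    have hpq : Ideal.comap φ.hom q'.asIdeal = p.asIdeal := congrArg PrimeSpectrum.asIdeal (hinjV hq'y)
    have hmem := (Ideal.map_le_iff_le_comap.2 hpq.ge) hsI
    rcases q'.isPrime.mem_or_mem hmem with h | h
    · exact hq' h
    · exact ha (show a ∈ p.asIdeal from hpq ▸ h)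
  obtain ⟨Q, hQ, hle, hd⟩ := Ideal.exists_le_prime_disjoint _ S hdisj
  let Q' : Spec Γ(X, U) := ⟨Q, hQ⟩
  refine ⟨hU.fromSpec Q', ?_, ?_⟩
  · rw [← hq]
    refine Specializes.map ?_ hU.fromSpec.continuous
    refine (PrimeSpectrum.le_iff_specializes (⟨Q, hQ⟩ : PrimeSpectrum Γ(X, U)) q).1 ?_
    intro z hz
    by_contra hzq
    exact Set.disjoint_left.1 hd hz (Submonoid.mem_sup_left (show z ∈ q.asIdeal.primeCompl from hzq))
  · rw [hcomp, ← hp]
    congr 1
    refine PrimeSpectrum.ext ?_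
    show Ideal.comap φ.hom Q = p.asIdeal
    refine le_antisymm (fun a ha => ?_) (Ideal.map_le_iff_le_comap.1 hle)
    by_contra hap
    exact Set.disjoint_left.1 hd ha (Submonoid.mem_sup_right ⟨a, hap, rfl⟩)

end Groth.Agent.S10837
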