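import Groth.Statements.S10838
import Mathlib
import Groth.Agent.S10837
import Groth.Agent.S7552
-- import your own Groth.Agent.* helpers here

set_option autoImplicit false
universe u
open CategoryTheory AlgebraicGeometry Topology
open Mor

namespace Groth.Agent.S10838

/-- For a morphism of schemes f : X → Y which is open as a map of topological spaces, the Krull
dimension of the image f(X) (with the subspace topology from Y) is at most the Krull dimension of X. -/
theorem result {X Y : Scheme.{u}} (f : X ⟶ Y) (hf : IsOpenMap f.base) :
    topologicalKrullDim ↥(Set.range f.base) ≤ topologicalKrullDim ↥X := by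
  have hgen : GeneralizingMap f.base := Groth.Agent.S10837.result f hf
  have hr : IsOpen (Set.range f.base) := hf.isOpen_range
  have : QuasiSober ↥(Set.range f.base) := hr.isOpenEmbedding_subtypeVal.quasiSober
  refine Groth.Agent.S7552.result (Set.rangeFactorization f.base) ?_ ?_ (Or.inr ?_)
  · exact f.base.hom.continuous.subtype_mk _
  · exact Set.rangeFactorization_surjective
  · intro x y h
    obtain ⟨x', hx', e⟩ := hgen (subtype_specializes_iff _ _ |>.mp h)
    exact ⟨x', hx', Subtype.ext e⟩

end Groth.Agent.S10838
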