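import Groth.Statements.S10839
import Mathlib
-- import your own Groth.Agent.* helpers here

set_option autoImplicit false
universe u
open CategoryTheory AlgebraicGeometry Topology
open Variety

namespace Groth.Agent.S10839

/-- A closed immersion i : Y → X into an integral scheme X with dim X = dim Y < ∞ is an isomorphism. -/
theorem result {X Y : Scheme.{u}} (i : Y ⟶ X)
    [IsClosedImmersion i] [IsIntegral X] (hfin : topologicalKrullDim ↥X ≠ ⊤)
    (hdim : topologicalKrullDim ↥X = topologicalKrullDim ↥Y) : IsIso i := by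
  by_cases hr : Set.range i.base = Set.univ
  · refine IsClosedImmersion.isIso_iff_ker_eq_bot.mpr ((Scheme.IdealSheafData.support_eq_top_iff).mp ?_)
    apply TopologicalSpace.Closeds.ext
    rw [Scheme.Hom.support_ker]
    simp [hr]
  exfalso
  let F : TopologicalSpace.IrreducibleCloseds Y → TopologicalSpace.IrreducibleCloseds X := fun a =>
    ⟨i '' a, a.isIrreducible'.image _ i.continuous.continuousOn, i.isClosedMap _ a.isClosed'⟩
  have hF : StrictMono F := by
    intro a b hab
    refine lt_of_le_of_ne (Set.image_mono hab.le) fun e => hab.ne ?_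
    exact TopologicalSpace.IrreducibleCloseds.ext (i.isClosedEmbedding.injective.image_injective (congrArg SetLike.coe e))
  let T : TopologicalSpace.IrreducibleCloseds X := ⟨Set.univ, IrreducibleSpace.isIrreducible_univ X, isClosed_univ⟩
  have hlt : ∀ a, F a < T := fun a => lt_of_le_of_ne (Set.subset_univ _) fun e =>
    hr (Set.eq_univ_of_univ_subset ((congrArg SetLike.coe e).symm.le.trans (Set.image_subset_range _ _)))
  have hne : topologicalKrullDim ↥X ≠ ⊥ := by
    haveI : Nonempty (TopologicalSpace.IrreducibleCloseds X) := ⟨T⟩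
    exact Order.krullDim_ne_bot_iff.mpr inferInstance
  obtain ⟨d, hd⟩ := WithBot.ne_bot_iff_exists.mp hne
  have hdt : d ≠ ⊤ := fun h => hfin (by rw [← hd, h]; rfl)
  obtain ⟨n, rfl⟩ := WithTop.ne_top_iff_exists.mp hdt
  obtain ⟨l, hl⟩ := Order.le_krullDim_iff.mp (show (n : WithBot ℕ∞) ≤ Order.krullDim (TopologicalSpace.IrreducibleCloseds Y) from hd.le.trans hdim.le)
  have := Order.LTSeries.length_le_krullDim ((l.map F hF).snoc T (hlt _))
  rw [show ((l.map F hF).snoc T (hlt _)).length = n + 1 from (show _ = l.length + 1 from rfl).trans (by rw [hl])] at this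
  rw [topologicalKrullDim] at hd
  rw [← hd] at this
  have h5 : ((n + 1 : ℕ) : ℕ∞) ≤ (n : ℕ∞) := WithBot.coe_le_coe.mp this
  have h6 : n + 1 ≤ n := ENat.coe_le_coe.mp h5
  omega

end Groth.Agent.S10839
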