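import Groth.Statements.S10844
import Groth.Agent.ModGroth.PullStalk
import Groth.Agent.QCohLib.Coherent
import Groth.Agent.QCohLib.StalkLoc
-- import your own Groth.Agent.* helpers here

set_option autoImplicit false
universe u
open RepF

open CategoryTheory CategoryTheory.Limits AlgebraicGeometry TopologicalSpace Opposite
open scoped TensorProduct MonoidalCategory


namespace Groth.Agent.S10844

open IsLocalRing in
theorem exists_surjective_residue (R M : Type u) [CommRing R] [IsLocalRing R] [AddCommGroup M] [Module R M]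
    [Module.Finite R M] (h : ¬ Subsingleton M) : ∃ φ : M →ₗ[R] ResidueField R, Function.Surjective φ := by
  have hV : ¬ Subsingleton (ResidueField R ⊗[R] M) := fun hs => h (subsingleton_tensorProduct.1 hs)
  haveI : Nontrivial (ResidueField R ⊗[R] M) := not_subsingleton_iff_nontrivial.1 hV
  obtain ⟨v, hv⟩ := exists_ne (0 : ResidueField R ⊗[R] M)
  obtain ⟨d, hd⟩ := Module.Projective.exists_dual_eq_one (ResidueField R) hv
  let φ : M →ₗ[R] ResidueField R := (d.restrictScalars R) ∘ₗ TensorProduct.mk R (ResidueField R) M 1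
  have hne : ∃ m, φ m ≠ 0 := by
    by_contra hc
    push Not at hc
    have : ∀ z, d z = 0 := fun z => by
      induction z using TensorProduct.induction_on with
      | zero => exact map_zero d
      | tmul a m =>
        rw [show a ⊗ₜ[R] m = a • ((1 : ResidueField R) ⊗ₜ[R] m) by
          rw [TensorProduct.smul_tmul', smul_eq_mul, mul_one], map_smul]
        exact smul_eq_zero_of_right a (hc m)
      | add p q hp hq => rw [map_add, hp, hq, add_zero]
    exact one_ne_zero (hd.symm.trans (this v))
  obtain ⟨m, hm⟩ := hne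
  refine ⟨φ, fun c => ?_⟩
  obtain ⟨r, hr⟩ := residue_surjective (c * (φ m)⁻¹)
  refine ⟨r • m, ?_⟩
  rw [map_smul, Algebra.smul_def, ResidueField.algebraMap_eq, hr, mul_assoc, inv_mul_cancel₀ hm, mul_one]

open IsLocalRing in
theorem not_subsingleton_baseChange {R S M : Type u} [CommRing R] [IsLocalRing R] [CommRing S] [IsLocalRing S]
    [Algebra R S] [IsLocalHom (algebraMap R S)] [AddCommGroup M] [Module R M] [Module.Finite R M]
    (hM : ¬ Subsingleton M) : ¬ Subsingleton (S ⊗[R] M) := fun h => by
  obtain ⟨φ, hφ⟩ := exists_surjective_residue R M hM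
  obtain ⟨a, ha⟩ := hφ 1
  let ι : ResidueField R →ₗ[R] ResidueField S :=
    (IsScalarTower.toAlgHom R (ResidueField R) (ResidueField S)).toLinearMap
  let l : S ⊗[R] M →ₗ[R] ResidueField S := LinearMap.mul' R (ResidueField S) ∘ₗ
    TensorProduct.map (IsScalarTower.toAlgHom R S (ResidueField S)).toLinearMap (ι ∘ₗ φ)
  have h1 : l ((1 : S) ⊗ₜ a) = 1 := by simp [l, ι, ha]
  rw [Subsingleton.elim ((1 : S) ⊗ₜ[R] a) 0, map_zero] at h1
  exact zero_ne_one h1

theorem finite_stalk {X : Scheme.{u}} {M : X.Modules} (hM : Coh.IsCoh M) (x : X) :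
    Module.Finite (X.presheaf.stalk x) (M.presheaf.stalk x) := by
  haveI := hM.1
  obtain ⟨_, ⟨U, hU, rfl⟩, hxU, -⟩ :=
    X.isBasis_affineOpens.exists_subset_of_mem_open (Set.mem_univ x) isOpen_univ
  letI := TopCat.Presheaf.algebra_section_stalk X.presheaf ⟨x, hxU⟩
  haveI := hU.isLocalization_stalk ⟨x, hxU⟩
  letI := Groth.Agent.QCohLib.germModule M x hxU
  haveI := Groth.Agent.QCohLib.isLocalizedModule_germ (M := M) hU x hxU
  haveI : IsScalarTower Γ(X, U) (X.presheaf.stalk x) (M.presheaf.stalk x) :=
    IsScalarTower.of_algebraMap_smul fun _ _ => rfl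
  haveI : Module.Finite Γ(X, U) Γ(M, U) := (Groth.Agent.QCohLib.isCoh_iff.mp hM).2 ⟨U, hU⟩
  exact Module.Finite.of_isLocalizedModule (hU.primeIdealOf ⟨x, hxU⟩).asIdeal.primeCompl
    (Groth.Agent.QCohLib.germLinearMap M x hxU)

theorem support_pullback {X Y : Scheme.{u}} (f : Y ⟶ X) (F : X.Modules) (hF : Coh.IsCoh F) :
    CohB1.support ((Scheme.Modules.pullback f).obj F) = f.base ⁻¹' CohB1.support F := by
  ext y
  change ¬ Subsingleton _ ↔ ¬ Subsingleton _
  rw [not_iff_not]
  let e := ((Groth.Agent.ModGroth.Stalk.pullStalkIso f y).app F).toLinearEquiv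
  algebraize [(f.stalkMap y).hom]
  haveI : IsLocalHom (algebraMap (X.presheaf.stalk (f y)) (Y.presheaf.stalk y)) := f.toLRSHom.prop y
  haveI := finite_stalk hF (f y)
  refine ⟨fun h => ?_, fun h => ?_⟩
  · haveI : Subsingleton ((Scheme.Modules.pullback f ⋙ DerSch.stalkFunctor Y y).obj F) := h
    haveI : Subsingleton (Y.presheaf.stalk y ⊗[X.presheaf.stalk (f y)] F.presheaf.stalk (f y)) :=
      e.symm.injective.subsingleton
    by_contra hc
    exact not_subsingleton_baseChange (R := X.presheaf.stalk (f y)) (S := Y.presheaf.stalk y) hc inferInstance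
  · haveI : Subsingleton (F.presheaf.stalk (f y)) := h
    haveI : Subsingleton (Y.presheaf.stalk y ⊗[X.presheaf.stalk (f y)] F.presheaf.stalk (f y)) :=
      subsingleton_of_forall_eq 0 fun z => by
        induction z using TensorProduct.induction_on with
        | zero => rfl
        | tmul a m => rw [Subsingleton.elim m 0, TensorProduct.tmul_zero]
        | add p q hp hq => rw [hp, hq, add_zero]
    exact @Function.Injective.subsingleton _ _ _ e.injective this

open AlgebraicGeometry CategoryTheory in
/-- For a scheme S and a homomorphism v : E → F of quasi-coherent O_S-modules with F of finite type,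
there is an open subscheme U of S such that a morphism of schemes f : T → S factors through U (its
image lies in U) if and only if the pulled-back homomorphism f^*v : f^*E → f^*F is an epimorphism. -/
theorem result {S : Scheme.{u}} {E F : S.Modules}
    [Coh.IsQCoh E] [Coh.IsQCoh F] (hF : CohB1.IsFT F) (v : E ⟶ F) :
    ∃ U : S.Opens, ∀ (T : Scheme.{u}) (f : T ⟶ S),
      Set.range f.base ⊆ (U : Set S) ↔ Epi ((Scheme.Modules.pullback f).map v) := by
  haveI : E.IsQuasicoherent := ‹Coh.IsQCoh E›
  haveI : F.IsQuasicoherent := ‹Coh.IsQCoh F›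
  have hC : Coh.IsCoh (cokernel v) := Groth.Agent.QCohLib.isCoh_cokernel v inferInstance ⟨inferInstance, hF⟩
  refine ⟨⟨(CohB1.support (cokernel v))ᶜ, (Groth.Agent.QCohLib.isClosed_support hC.2).isOpen_compl⟩, fun T f => ?_⟩
  haveI : (Scheme.Modules.pullback f).Additive := Functor.additive_of_preserves_binary_products _
  haveI : PreservesColimitsOfShape WalkingParallelPair (Scheme.Modules.pullback f) :=
    (Scheme.Modules.pullbackPushforwardAdjunction f).leftAdjoint_preservesColimits.preservesColimitsOfShape
  rw [Preadditive.epi_iff_isZero_cokernel, ← (PreservesCokernel.iso (Scheme.Modules.pullback f) v).isZero_iff]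
  have h := support_pullback f (cokernel v) hC
  constructor
  · intro hr
    refine Groth.Agent.QCohLib.isZero_of_subsingleton_stalk fun x => ?_
    by_contra hx
    exact hr ⟨x, rfl⟩ (h.le hx)
  · rintro hz _ ⟨x, rfl⟩ hx
    exact (h.ge hx) (Groth.Agent.QCohLib.subsingleton_stalk_of_isZero hz x)

end Groth.Agent.S10844
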