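import Groth.Statements.S10847
import Groth.Agent.FittSheaf.Omega
import Groth.Agent.FittSheaf.LocFree
import Groth.Agent.FittRank.Basic
-- import your own Groth.Agent.* helpers here

set_option autoImplicit false
universe u
open CategoryTheory CategoryTheory.Limits AlgebraicGeometry TopologicalSpace
open FlatMod

namespace Groth.Agent.S10847

theorem sheafIdeal_mono {X : Scheme.{u}} (F : X.Modules) [F.IsQuasicoherent] (hF : CohB1.IsFT F) {r s : ℕ} (h : r ≤ s) :
    Fitt.sheafIdeal F r ≤ Fitt.sheafIdeal F s := fun U => by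
  rw [Groth.Agent.FittSheaf.sheafIdeal_ideal F hF, Groth.Agent.FittSheaf.sheafIdeal_ideal F hF]
  haveI := Groth.Agent.FittSheaf.finite_sections F hF U
  exact Groth.Agent.FittRank.ideal_mono h

/-- Let X be a scheme, F a finite-type quasi-coherent O_X-module and r a natural number. Then there is
an immersion i : Z → X (a subscheme of X) such that a morphism of schemes f : T → X factors through
i if and only if the pullback f^*F is finite locally free of rank r. -/
theorem result {X : Scheme.{u}} (F : X.Modules)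
    [Coh.IsQCoh F] (hF : CohB1.IsFT F) (r : ℕ) :
    ∃ (Z : Scheme.{u}) (i : Z ⟶ X), IsImmersion i ∧ ∀ (T : Scheme.{u}) (f : T ⟶ X),
      (∃ g : T ⟶ Z, g ≫ i = f) ↔ FlatMod.IsFinLocFreeOfRank r ((Scheme.Modules.pullback f).obj F) := by
  haveI : F.IsQuasicoherent := ‹Coh.IsQCoh F›
  let U : X.Opens := (Fitt.sheafIdeal F r).support.compl
  let J : (U : Scheme.{u}).IdealSheafData := ⨆ k : Fin r, (Fitt.sheafIdeal F k.1).comap U.ι
  refine ⟨J.subscheme, J.subschemeι ≫ U.ι, inferInstance, fun T f => ?_⟩
  haveI hqc : ((Scheme.Modules.pullback f).obj F).IsQuasicoherent := Groth.Agent.QCohLib.isQuasicoherent_pullback _ _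
  have hft' : CohB1.IsFT ((Scheme.Modules.pullback f).obj F) := Groth.Agent.QCohLib.isFiniteType_pullback _ _ hF
  rw [Groth.Agent.FittSheaf.isFinLocFreeOfRank_iff _ hft' r]
  simp only [← Groth.Agent.FittSheaf.fitt_comap f F hF]
  constructor
  · rintro ⟨g, hg⟩
    have hfac : f = (g ≫ J.subschemeι) ≫ U.ι := by rw [Category.assoc, hg]
    refine ⟨fun k hk => ?_, fun k hk => ?_⟩
    · rw [hfac, Scheme.IdealSheafData.comap_comp, eq_bot_iff]
      refine le_trans (Scheme.IdealSheafData.comap_mono _ (le_iSup (fun k : Fin r => (Fitt.sheafIdeal F k.1).comap U.ι) ⟨k, hk⟩)) ?_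
      show J.comap (g ≫ J.subschemeι) ≤ ⊥
      rw [Scheme.IdealSheafData.comap_comp]
      refine le_trans (Scheme.IdealSheafData.comap_mono _ (?_ : J.comap J.subschemeι ≤ ⊥)) (le_of_eq (Scheme.IdealSheafData.comap_bot ..))
      rw [← Scheme.IdealSheafData.le_map_iff_comap_le, Scheme.IdealSheafData.map_bot, Scheme.IdealSheafData.ker_subschemeι]
    · rw [← Scheme.IdealSheafData.support_eq_bot_iff]
      ext x
      simp only [Scheme.IdealSheafData.support_comap, TopologicalSpace.Closeds.coe_bot, Set.mem_empty_iff_false, iff_false]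
      intro hx
      have hxU : f x ∈ U := by
        rw [hfac, Scheme.Hom.comp_apply]
        exact ((g ≫ J.subschemeι) x).2
      exact hxU (Scheme.IdealSheafData.support_antitone (sheafIdeal_mono F hF hk) hx)
  · rintro ⟨hlt, hge⟩
    have hrange : Set.range f ⊆ Set.range U.ι := by
      rintro _ ⟨x, rfl⟩
      rw [Scheme.Opens.range_ι]
      intro hx
      have h1 := hge r le_rfl
      rw [← Scheme.IdealSheafData.support_eq_bot_iff] at h1
      have h2 : x ∈ ((Fitt.sheafIdeal F r).comap f).support := by
        rw [Scheme.IdealSheafData.support_comap]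
        exact hx
      rw [h1] at h2
      exact h2
    let f₀ := IsOpenImmersion.lift U.ι f hrange
    have hf₀ : f₀ ≫ U.ι = f := IsOpenImmersion.lift_fac _ _ _
    have hJ : J.subschemeι.ker ≤ f₀.ker := by
      rw [Scheme.IdealSheafData.ker_subschemeι]
      refine iSup_le fun k => ?_
      rw [← Scheme.IdealSheafData.map_bot, Scheme.IdealSheafData.le_map_iff_comap_le,
        ← Scheme.IdealSheafData.comap_comp, hf₀, hlt k.1 k.2]
    exact ⟨IsClosedImmersion.lift J.subschemeι f₀ hJ, by rw [IsClosedImmersion.lift_fac_assoc, hf₀]⟩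

end Groth.Agent.S10847
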