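import Groth.Statements.S10849
import Mathlib.LinearAlgebra.Matrix.NonsingularInverse
import Mathlib.LinearAlgebra.Matrix.ToLinearEquiv
import Mathlib.Algebra.Polynomial.Reverse
import Mathlib.RingTheory.Polynomial.Basic
import Mathlib.Data.Fin.Tuple.Sort
import Mathlib.Algebra.Group.Pi.Units
-- import your own Groth.Agent.* helpers here

set_option autoImplicit false
universe u
open VbP1

namespace Groth.Agent.S10849

open Polynomial Matrix in
private lemma invert_reflect {k : Type u} [Field k] {N : ℕ} (f : Polynomial k) (hf : f.natDegree ≤ N) :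
    LaurentPolynomial.invert (Polynomial.toLaurent (f.reflect N)) =
      LaurentPolynomial.T (-(N : ℤ)) * Polynomial.toLaurent f := by
  refine Polynomial.induction_with_natDegree_le
    (fun f => LaurentPolynomial.invert (Polynomial.toLaurent (f.reflect N)) =
      LaurentPolynomial.T (-(N : ℤ)) * Polynomial.toLaurent f) N (by simp) ?_ ?_ f hf
  · intro n r _ hn
    rw [Polynomial.reflect_C_mul_X_pow, Polynomial.revAt_le hn, Polynomial.toLaurent_C_mul_X_pow,
      Polynomial.toLaurent_C_mul_X_pow, map_mul, LaurentPolynomial.invert_C, LaurentPolynomial.invert_T,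
      mul_left_comm, ← LaurentPolynomial.T_add]
    congr 2
    rw [Nat.cast_sub hn]; ring
  · intro f g _ _ h1 h2
    simp only [Polynomial.reflect_add, map_add, h1, h2, mul_add]

open Polynomial in
private lemma isUnit_of_laurent {k : Type u} [Field k] (q : Polynomial k)
    (hq : IsUnit (Polynomial.toLaurent q)) (h0 : q.coeff 0 ≠ 0) : IsUnit q := by
  obtain ⟨g, hg⟩ := hq.exists_right_inv
  obtain ⟨n, g', hg'⟩ := LaurentPolynomial.exists_T_pow g
  have hdvd : q ∣ (Polynomial.X : Polynomial k) ^ n := by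
    refine ⟨g', Polynomial.toLaurent_injective ?_⟩
    rw [map_mul, hg', ← mul_assoc, hg, one_mul, Polynomial.toLaurent_X_pow]
  obtain ⟨i, -, hi⟩ := (dvd_prime_pow Polynomial.prime_X n).mp hdvd
  rcases i with _ | i
  · rw [pow_zero] at hi
    exact associated_one_iff_isUnit.mp hi
  · have : (Polynomial.X : Polynomial k) ∣ q := (dvd_pow_self _ (Nat.succ_ne_zero i)).trans hi.symm.dvd
    exact absurd (Polynomial.X_dvd_iff.mp this) h0

/-- The degree of a row. -/
private noncomputable def rdeg {k : Type u} [Field k] {n : ℕ}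
    (B : Matrix (Fin n) (Fin n) (Polynomial k)) (i : Fin n) : ℕ :=
  Finset.univ.sup fun j => (B i j).natDegree

open Polynomial in
private lemma exists_reduced {k : Type u} [Field k] {n : ℕ}
    (A₀ : Matrix (Fin n) (Fin n) (Polynomial k)) (h0 : A₀.det ≠ 0) :
    ∃ U : Matrix (Fin n) (Fin n) (Polynomial k), IsUnit U ∧
      (Matrix.of fun i j => ((U * A₀) i j).coeff (rdeg (U * A₀) i)).det ≠ 0 := by
  classical
  have hne : ∃ m, ∃ U : Matrix (Fin n) (Fin n) (Polynomial k), IsUnit U ∧
      ∑ i, rdeg (U * A₀) i = m := ⟨_, 1, isUnit_one, rfl⟩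
  obtain ⟨U, hU, hm⟩ := Nat.find_spec hne
  refine ⟨U, hU, fun hdet => ?_⟩
  obtain ⟨v, hv, hv0⟩ := Matrix.exists_vecMul_eq_zero_iff.mpr hdet
  set B := U * A₀ with hB
  have hBdet : B.det ≠ 0 := by
    rw [hB, Matrix.det_mul]
    exact mul_ne_zero ((Matrix.isUnit_iff_isUnit_det U).mp hU).ne_zero h0
  obtain ⟨i0, hi0, hmax⟩ := Finset.exists_max_image (Finset.univ.filter fun i => v i ≠ 0) (rdeg B) (by
    obtain ⟨i, hi⟩ := Function.ne_iff.mp hv
    exact ⟨i, by simpa using hi⟩)
  replace hi0 : v i0 ≠ 0 := by simpa using hi0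
  set c : Fin n → Polynomial k := fun i => C (v i) * X ^ (rdeg B i0 - rdeg B i) with hc
  set r : Fin n → Polynomial k := ∑ i, c i • B i with hr
  have hle : ∀ i j, v i ≠ 0 → (B i j).natDegree + (rdeg B i0 - rdeg B i) ≤ rdeg B i0 := by
    intro i j hi
    have h1 : (B i j).natDegree ≤ rdeg B i :=
      Finset.le_sup (f := fun j => (B i j).natDegree) (Finset.mem_univ j)
    have h2 := hmax i (by simpa using hi)
    omega
  have hrj : ∀ j, r j = ∑ i, C (v i) * X ^ (rdeg B i0 - rdeg B i) * B i j := fun j => by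
    simp [hr, hc, Finset.sum_apply]
  have hdeg : ∀ j, (r j).natDegree ≤ rdeg B i0 := by
    intro j
    rw [hrj]
    refine Polynomial.natDegree_sum_le_of_forall_le _ _ fun i _ => ?_
    rcases eq_or_ne (v i) 0 with h | h
    · simp [h]
    · refine (Polynomial.natDegree_mul_le).trans ?_
      have := Polynomial.natDegree_C_mul_X_pow_le (v i) (rdeg B i0 - rdeg B i)
      have := hle i j h
      omega
  have hcoeff : ∀ j, (r j).coeff (rdeg B i0) = 0 := by
    intro j
    rw [hrj, Polynomial.finsetSum_coeff]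
    have := congrFun hv0 j
    simp only [Matrix.vecMul, dotProduct, Matrix.of_apply, Pi.zero_apply] at this
    refine (Finset.sum_congr rfl fun i _ => ?_).trans this
    rcases eq_or_ne (v i) 0 with h | h
    · simp [h]
    · have h2 := hmax i (by simpa using h)
      rw [mul_assoc, Polynomial.coeff_C_mul, mul_comm (X ^ _), Polynomial.coeff_mul_X_pow',
        if_pos (Nat.sub_le _ _), Nat.sub_sub_self h2]
  set V : Matrix (Fin n) (Fin n) (Polynomial k) :=
    (1 : Matrix (Fin n) (Fin n) (Polynomial k)).updateRow i0 c with hV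
  have hcsum : ∑ i, c i • (1 : Matrix (Fin n) (Fin n) (Polynomial k)) i = c := by
    ext j; simp [Finset.sum_apply, Matrix.one_apply]
  have hVB : V * B = B.updateRow i0 r := by
    refine Matrix.ext fun i j => ?_
    rcases eq_or_ne i i0 with h | h
    · subst h
      simp [hV, hr, Matrix.mul_apply, Finset.sum_apply]
    · simp [hV, Matrix.mul_apply, Matrix.updateRow_ne h, Matrix.one_apply]
  have hVdet : V.det = C (v i0) := by
    rw [hV, ← hcsum, Matrix.det_updateRow_sum, Matrix.det_one, smul_eq_mul, mul_one]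
    simp [hc]
  have hVU : IsUnit (V * U) := IsUnit.mul ((Matrix.isUnit_iff_isUnit_det V).mpr (by
    rw [hVdet]; exact Polynomial.isUnit_C.mpr (isUnit_iff_ne_zero.mpr hi0))) hU
  have hr0 : ∃ j, r j ≠ 0 := by
    by_contra h
    push Not at h
    have h1 : (B.updateRow i0 r).det = C (v i0) * B.det := by
      rw [hr, Matrix.det_updateRow_sum, smul_eq_mul]; simp [hc]
    rw [show r = 0 from funext h, Matrix.det_eq_zero_of_row_eq_zero i0 (fun j => by simp)] at h1
    exact mul_ne_zero (Polynomial.C_ne_zero.mpr hi0) hBdet h1.symm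
  have hlt : rdeg (V * B) i0 < rdeg B i0 := by
    have hlt' : ∀ j, r j ≠ 0 → (r j).natDegree < rdeg B i0 := fun j hj =>
      lt_of_le_of_ne (hdeg j) fun he => Polynomial.leadingCoeff_ne_zero.mpr hj
        (by rw [Polynomial.leadingCoeff, he]; exact hcoeff j)
    obtain ⟨j, hj⟩ := hr0
    have hpos : 0 < rdeg B i0 := lt_of_le_of_lt (Nat.zero_le _) (hlt' j hj)
    show (Finset.univ.sup fun j => ((V * B) i0 j).natDegree) < rdeg B i0
    rw [Finset.sup_lt_iff hpos]
    intro j _
    rw [hVB, Matrix.updateRow_self]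
    rcases eq_or_ne (r j) 0 with h | h
    · rw [h, Polynomial.natDegree_zero]; exact hpos
    · exact hlt' j h
  have hsum : ∑ i, rdeg (V * B) i < ∑ i, rdeg B i := by
    refine Finset.sum_lt_sum (fun i _ => ?_) ⟨i0, Finset.mem_univ _, hlt⟩
    rcases eq_or_ne i i0 with h | h
    · subst h; exact hlt.le
    · simp [rdeg, hVB, Matrix.updateRow_ne h]
  have := Nat.find_min' hne ⟨V * U, hVU, (by rw [Matrix.mul_assoc] : _ = ∑ i, rdeg (V * B) i)⟩
  omega

/-- Let k be a field and n a natural number. For every invertible n × n matrix A with entries in the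
Laurent polynomial ring k[T, T⁻¹] there are matrices P and Q over k[T], invertible over k[T], and
integers d_1 ≥ d_2 ≥ … ≥ d_n (indexed by Fin n, antitone) such that A = P · diag(T^{d_i}) · Q⁻,
where Q⁻ is obtained from Q by the substitution T ↦ T⁻¹ (so Q⁻ is invertible over k[T⁻¹]). -/
theorem result (k : Type u) [Field k] (n : ℕ)
    (A : Matrix (Fin n) (Fin n) (LaurentPolynomial k)) (hA : IsUnit A) :
    ∃ (P Q : Matrix (Fin n) (Fin n) (Polynomial k)) (d : Fin n → ℤ),
      IsUnit P ∧ IsUnit Q ∧ Antitone d ∧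
        A = P.map Polynomial.toLaurent * Matrix.diagonal (fun i => LaurentPolynomial.T (d i)) *
          (Q.map Polynomial.toLaurent).map LaurentPolynomial.invert := by
  classical
  choose e f hf using fun i j => LaurentPolynomial.exists_T_pow (A i j)
  set N : ℕ := ∑ p : Fin n × Fin n, e p.1 p.2
  let A₀ : Matrix (Fin n) (Fin n) (Polynomial k) := Matrix.of fun i j => f i j * Polynomial.X ^ (N - e i j)
  have hA₀ : A₀.map ⇑(Polynomial.toLaurent (R := k)) = (LaurentPolynomial.T (N : ℤ) : LaurentPolynomial k) • A := by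
    ext1 i j
    have hle : e i j ≤ N := Finset.single_le_sum (f := fun p : Fin n × Fin n => e p.1 p.2)
      (fun _ _ => Nat.zero_le _) (Finset.mem_univ (i, j))
    simp only [A₀, Matrix.map_apply, Matrix.of_apply, Matrix.smul_apply, smul_eq_mul, map_mul, hf,
      Polynomial.toLaurent_X_pow, LaurentPolynomial.mul_T_assoc]
    rw [LaurentPolynomial.T_mul, ← Nat.cast_add, Nat.add_sub_cancel' hle]
  have hA₀u : IsUnit (A₀.map Polynomial.toLaurent) := by
    rw [hA₀, Matrix.isUnit_iff_isUnit_det, Matrix.det_smul]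
    exact ((LaurentPolynomial.isUnit_T _).pow _).mul ((Matrix.isUnit_iff_isUnit_det A).mp hA)
  have hA₀det : A₀.det ≠ 0 := by
    intro h
    have h2 := (Matrix.isUnit_iff_isUnit_det _).mp hA₀u
    rw [← RingHom.mapMatrix_apply, ← RingHom.map_det, h, map_zero] at h2
    exact not_isUnit_zero h2
  obtain ⟨U, hU, hred⟩ := exists_reduced A₀ hA₀det
  set B₀ := U * A₀ with hB₀
  let σ : Equiv.Perm (Fin n) := Tuple.sort (fun i => -(rdeg B₀ i : ℤ))
  have hσ : Antitone fun i => (rdeg B₀ (σ i) : ℤ) := fun a b hab =>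
    neg_le_neg_iff.mp (Tuple.monotone_sort (fun i => -(rdeg B₀ i : ℤ)) hab)
  let S : Matrix (Fin n) (Fin n) (Polynomial k) := (1 : Matrix _ _ _).submatrix σ id
  have hS : IsUnit S := by
    rw [Matrix.isUnit_iff_isUnit_det, Matrix.det_permute, Matrix.det_one, mul_one]
    exact (Units.isUnit _).map (Int.castRingHom (Polynomial k))
  have hrow : ∀ i j, (S * B₀) i j = B₀ (σ i) j := fun i j => by
    simp [S, Matrix.mul_apply, Matrix.one_apply]
  let d : Fin n → ℕ := fun i => rdeg B₀ (σ i)
  let Q : Matrix (Fin n) (Fin n) (Polynomial k) := Matrix.of fun i j => (B₀ (σ i) j).reflect (d i)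
  have hQ : (Q.map Polynomial.toLaurent).map LaurentPolynomial.invert =
      Matrix.diagonal (fun i => LaurentPolynomial.T (-(d i : ℤ))) * (S * B₀).map Polynomial.toLaurent := by
    ext1 i j
    simp only [Q, Matrix.map_apply, Matrix.of_apply, Matrix.diagonal_mul, hrow]
    exact invert_reflect _ (Finset.le_sup (f := fun j => (B₀ (σ i) j).natDegree) (Finset.mem_univ j))
  have hBu : IsUnit ((S * B₀).map Polynomial.toLaurent) := by
    rw [hB₀, Matrix.map_mul, Matrix.map_mul]
    exact (hS.map Polynomial.toLaurent.mapMatrix).mul ((hU.map Polynomial.toLaurent.mapMatrix).mul hA₀u)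
  have hQu : IsUnit Q := by
    rw [Matrix.isUnit_iff_isUnit_det]
    refine isUnit_of_laurent _ ?_ ?_
    · have h1 : IsUnit ((Q.map Polynomial.toLaurent).map LaurentPolynomial.invert) := by
        rw [hQ]
        refine IsUnit.mul ?_ hBu
        rw [Matrix.isUnit_diagonal, Pi.isUnit_iff]
        exact fun i => LaurentPolynomial.isUnit_T _
      have h2 := (Matrix.isUnit_iff_isUnit_det _).mp h1
      rw [← AlgEquiv.mapMatrix_apply, ← AlgEquiv.map_det, ← RingHom.mapMatrix_apply, ← RingHom.map_det] at h2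
      simpa using h2.map (LaurentPolynomial.invert (R := k)).symm
    · rw [← Polynomial.constantCoeff_apply, RingHom.map_det]
      have hperm : Polynomial.constantCoeff.mapMatrix Q =
          (Matrix.of fun i j => (B₀ i j).coeff (rdeg B₀ i)).submatrix σ id := by
        ext i j
        simp [Q, d, Polynomial.coeff_reflect]
      rw [hperm, Matrix.det_permute]
      exact mul_ne_zero (((Units.isUnit _).map (Int.castRingHom k)).ne_zero) hred
  have hPu : IsUnit (S * U) := hS.mul hU
  refine ⟨(S * U)⁻¹, Q, fun i => (d i : ℤ) - N, Matrix.isUnit_nonsing_inv_iff.mpr hPu, hQu,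
    fun a b hab => sub_le_sub_right (hσ hab) _, ?_⟩
  rw [hQ, Matrix.mul_assoc, ← Matrix.mul_assoc (Matrix.diagonal _), Matrix.diagonal_mul_diagonal]
  have hT : (fun i => LaurentPolynomial.T ((d i : ℤ) - N) * LaurentPolynomial.T (-(d i : ℤ))) =
      fun _ : Fin n => (LaurentPolynomial.T (-(N : ℤ)) : LaurentPolynomial k) := by
    funext i; rw [← LaurentPolynomial.T_add]; congr 1; ring
  rw [hT, hB₀, ← Matrix.mul_assoc S U A₀, Matrix.map_mul (L := S * U), hA₀,
    ← Matrix.smul_one_eq_diagonal, Matrix.smul_mul, Matrix.one_mul, Matrix.mul_smul, Matrix.mul_smul,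
    Matrix.mul_smul, ← Matrix.mul_assoc, ← Matrix.map_mul,
    Matrix.nonsing_inv_mul _ ((Matrix.isUnit_iff_isUnit_det _).mp hPu), Matrix.map_one _ (map_zero _) (map_one _),
    Matrix.one_mul, smul_smul, ← LaurentPolynomial.T_add]
  simp

end Groth.Agent.S10849
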