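import Groth.Statements.S10851
import Groth.Agent.MeroBasic.Minimal

set_option autoImplicit false
universe u
open Mero

namespace Groth.Agent.S10851

open AlgebraicGeometry in
/-- Let X be a locally Noetherian scheme and D a divisor on X (a global section of K_X^×/O_X^×). Then
the support of D has codimension at least 1 in X: for every point z at which the germ of D is
non-trivial, the local ring O_{X,z} has Krull dimension at least 1. -/
theorem result {X : Scheme.{u}} [IsLocallyNoetherian X]
    (D : Mero.Divisor X) (z : X) (hz : z ∈ Mero.supp D) :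
    (1 : WithBot ℕ∞) ≤ ringKrullDim (X.presheaf.stalk z) := by
  by_contra hlt
  apply hz
  have hdim : Ring.KrullDimLE 0 (X.presheaf.stalk z) := by
    rw [Ring.krullDimLE_iff]
    generalize ringKrullDim (X.presheaf.stalk z) = d at hlt ⊢
    induction d using WithBot.recBotCoe with
    | bot => exact bot_le
    | coe n =>
      have h1 : n < 1 := by simpa using WithBot.coe_lt_coe.mp (not_le.mp hlt)
      simpa [ENat.lt_one_iff_eq_zero] using h1
  have hunit : ∀ g ∈ Mero.regStalk X z, IsUnit g := fun g hg => by
    by_contra hu
    obtain ⟨k, hk⟩ : IsNilpotent g := by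
      rw [nilpotent_iff_mem_prime]
      intro J hJ
      rw [IsLocalRing.eq_maximalIdeal (hJ.isMaximal')]
      exact hu
    exact zero_notMem_nonZeroDivisors (hk ▸ pow_mem (Mero.regStalk_le_nonZeroDivisors z hg) k)
  obtain ⟨G, hG⟩ := QuotientGroup.mk_surjective (D.1 z)
  let e := IsLocalization.atUnits (X.presheaf.stalk z) (Mero.regStalk X z) (S := Mero.KStalk X z) hunit
  rw [← hG, QuotientGroup.eq_one_iff]
  refine ⟨Units.map e.symm.toRingEquiv.toRingHom.toMonoidHom G, Units.ext ?_⟩
  exact (e.commutes _).symm.trans (e.apply_symm_apply _)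

end Groth.Agent.S10851
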