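import Groth.Statements.S10856
import Groth.Agent.MeroBasic.Minimal

set_option autoImplicit false
universe u
open Mero

namespace Groth.Agent.S10856

open AlgebraicGeometry CategoryTheory TopologicalSpace in
/-- Let X be a scheme and f a global section of the sheaf of meromorphic functions K_X. The domain of
definition of f, i.e. the set of points x whose value f_x ∈ K_{X,x} lies in the image of the local
ring O_{X,x}, is the underlying set of an open subscheme D of X, and D is schematically dense in X:
for every open subset V of X the restriction map from sections of O_X over V to sections over V ∩ D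
is injective. -/
theorem result {X : Scheme.{u}} (f : Γ(Mero.kmod X, ⊤)) :
    ∃ D : X.Opens,
      (D : Set X) = {x | f.1 ⟨x, Opens.mem_top x⟩ ∈ (algebraMap (X.presheaf.stalk x) (Mero.KStalk X x)).range} ∧
        ∀ V : X.Opens, Function.Injective (X.presheaf.map (homOfLE (inf_le_left : V ⊓ D ≤ V)).op) := by
  let P : Set X := {x | f.1 ⟨x, Opens.mem_top x⟩ ∈ (algebraMap (X.presheaf.stalk x) (Mero.KStalk X x)).range}
  have hopen : IsOpen P := by
    rw [isOpen_iff_forall_mem_open]
    intro y hy
    obtain ⟨V, hV, i, a, b, hab⟩ := Groth.Agent.MeroBasic.exists_fraction f ⟨y, Opens.mem_top y⟩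
    obtain ⟨c, hc⟩ := hy
    obtain ⟨W, hW, c', rfl⟩ := X.presheaf.exists_germ_eq c
    have h1 := hab ⟨y, hV⟩
    rw [← hc, show algebraMap (X.presheaf.stalk y) (Mero.KStalk X y) (X.presheaf.germ W y hW c') =
      LocalizedModule.mk (X.presheaf.germ W y hW c') 1 from rfl, LocalizedModule.mk_eq] at h1
    obtain ⟨w, hw⟩ := h1
    simp only [one_smul, Submonoid.smul_def, smul_eq_mul, OneMemClass.coe_one, one_mul] at hw
    have h2 : X.presheaf.germ V y hV b.1 * X.presheaf.germ W y hW c' = X.presheaf.germ V y hV a :=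
      (isRegular_iff_mem_nonZeroDivisors.mpr (Mero.regStalk_le_nonZeroDivisors _ w.2)).left hw
    have h3 : X.presheaf.germ (V ⊓ W) y ⟨hV, hW⟩
        (X.presheaf.map (homOfLE inf_le_left).op b.1 * X.presheaf.map (homOfLE inf_le_right).op c') =
        X.presheaf.germ (V ⊓ W) y ⟨hV, hW⟩ (X.presheaf.map (homOfLE inf_le_left).op a) := by
      rw [map_mul, TopCat.Presheaf.germ_res_apply, TopCat.Presheaf.germ_res_apply,
        TopCat.Presheaf.germ_res_apply]
      exact h2
    obtain ⟨Z, hyZ, j, k, e⟩ := X.presheaf.germ_eq y _ _ _ _ h3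
    refine ⟨Z, fun z hz => ?_, Z.isOpen, hyZ⟩
    have e' := congrArg (X.presheaf.germ Z z hz) e
    simp only [map_mul, TopCat.Presheaf.germ_res_apply] at e'
    refine ⟨X.presheaf.germ W z (j.le hz).2 c', ?_⟩
    refine Eq.trans ?_ (hab ⟨z, (j.le hz).1⟩).symm
    rw [show algebraMap (X.presheaf.stalk z) (Mero.KStalk X z) (X.presheaf.germ W z (j.le hz).2 c') =
      LocalizedModule.mk (X.presheaf.germ W z (j.le hz).2 c') 1 from rfl, LocalizedModule.mk_eq]
    refine ⟨1, ?_⟩
    simp only [one_smul, Submonoid.smul_def, smul_eq_mul, OneMemClass.coe_one, one_mul]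
    exact e'
  refine ⟨⟨P, hopen⟩, rfl, fun V => ?_⟩
  rw [injective_iff_map_eq_zero]
  intro a ha
  refine Groth.Agent.MeroBasic.eq_zero_of_germ_weakAss a fun η hη hw => ?_
  have hmem : η ∈ P := (IsLocalization.atUnits _ (Mero.regStalk X η) (S := Mero.KStalk X η) fun s hs =>
    Groth.Agent.MeroBasic.isUnit_of_mem_nonZeroDivisors_of_isAssociatedPrime
      (Groth.Agent.MeroBasic.isAssociatedPrime_maximalIdeal_of_isWeakAssPoint hw)
      (Mero.regStalk_le_nonZeroDivisors η hs)).surjective _
  have := congrArg (X.presheaf.germ (V ⊓ ⟨P, hopen⟩) η ⟨hη, hmem⟩) ha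
  simpa only [TopCat.Presheaf.germ_res_apply, map_zero] using this

end Groth.Agent.S10856
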