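import Groth.Statements.S10857
import Groth.Agent.SpecColim.Scheme
import Groth.Agent.QCohLib.Cover
import Groth.Agent.QCohLib.FiniteType
import Groth.Agent.QCohLib.StalkLoc

set_option autoImplicit false
set_option linter.style.haveILetI false
set_option backward.isDefEq.respectTransparency false
universe u
open QCohSup Groth.Agent

namespace Groth.Agent.S10857

open AlgebraicGeometry CategoryTheory CategoryTheory.Limits in
/-- Take a quasi-compact scheme X, a finite-type quasi-coherent O_X-module F, and G a quasi-coherent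
O_X-module which is the colimit of a filtered diagram of quasi-coherent O_X-modules G_j. A
homomorphism u : G → F is an epimorphism if and only if there is an index j₀ such that for every
index j admitting a map from j₀ the composite G_j → G → F is an epimorphism. -/
theorem result {X : Scheme.{u}} [CompactSpace X]
    {J : Type u} [SmallCategory J] [IsFiltered J] (D : J ⥤ X.Modules) [∀ j, Coh.IsQCoh (D.obj j)]
    (c : Cocone D) (hc : IsColimit c) [Coh.IsQCoh c.pt]
    (F : X.Modules) [Coh.IsQCoh F] (hF : CohB1.IsFT F) (u : c.pt ⟶ F) :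
    Epi u ↔ ∃ j₀ : J, ∀ j : J, Nonempty (j₀ ⟶ j) → Epi (c.ι.app j ≫ u) := by
  classical
  refine ⟨fun hu => ?_, fun ⟨j₀, h⟩ => ?_⟩
  swap
  · haveI := h j₀ ⟨𝟙 _⟩
    exact epi_of_epi (c.ι.app j₀) u
  haveI := SpecColim.preservesColimitsOfShape_toAbF X J
  have hsurj := (QCohLib.epi_iff_stalk_surjective u).mp hu
  have lift : ∀ (x : X) (U : X.Opens), x ∈ U → ∀ (t : Γ(F, U)), ∃ (j : J) (W : X.Opens), x ∈ W ∧ W ≤ U ∧
      ∀ (z : X) (hz : z ∈ U), z ∈ W → ∀ (k : J), Nonempty (j ⟶ k) →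
        F.presheaf.germ U z hz t ∈ LinearMap.range (QCohLib.stalkLinearMap (c.ι.app k ≫ u) z) := by
    intro x U hx t
    obtain ⟨m, hm⟩ := hsurj x (F.presheaf.germ U x hx t)
    haveI := SpecColim.preservesColimitsOfShape_stalkF (X := CohVanish.sp X) (J := J) x
    obtain ⟨j, v, hv⟩ := Concrete.isColimit_exists_rep _
      (isColimitOfPreserves (CohVanish.toAbF X ⋙ SpecColim.stalkF (X := CohVanish.sp X) x) hc) m
    obtain ⟨V, hxV, g, rfl⟩ := TopCat.Presheaf.exists_germ_eq (D.obj j).presheaf v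
    have hv' : QCohLib.stalkHom (c.ι.app j) x ((D.obj j).presheaf.germ V x hxV g) = m := hv
    have he : F.presheaf.germ V x hxV ((c.ι.app j ≫ u).app V g) = F.presheaf.germ U x hx t := by
      rw [← hm, ← hv', ← QCohLib.stalkHom_germ]
      exact QCohLib.stalkHom_comp _ _ _ _
    obtain ⟨W, hxW, i₁, i₂, hW⟩ := TopCat.Presheaf.germ_eq F.presheaf x hxV hx _ _ he
    refine ⟨j, W, hxW, leOfHom i₂, fun z hz hzW k ⟨a⟩ => ⟨QCohLib.stalkHom (D.map a) z
      ((D.obj j).presheaf.germ V z (leOfHom i₁ hzW) g), ?_⟩⟩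
    rw [QCohLib.stalkLinearMap_apply, ← QCohLib.stalkHom_comp, c.w_assoc, QCohLib.stalkHom_germ,
      ← TopCat.Presheaf.germ_res_apply F.presheaf i₁ z hzW, hW, TopCat.Presheaf.germ_res_apply]
  have key : ∀ x : X, ∃ (j : J) (W : X.Opens), x ∈ W ∧ ∀ (z : X), z ∈ W → ∀ (k : J), Nonempty (j ⟶ k) →
      Function.Surjective (QCohLib.stalkHom (c.ι.app k ≫ u) z) := by
    intro x
    obtain ⟨U, hU, hxU, -⟩ := exists_isAffineOpen_mem_and_subset (TopologicalSpace.Opens.mem_top x)
    obtain ⟨T, hT⟩ := (QCohLib.finite_sections (M := F) hF hU).fg_top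
    choose j W hxW hWU hW using fun t : T => lift x U hxU t.1
    obtain ⟨j₁, hj₁⟩ := IsFiltered.sup_objs_exists (Finset.univ.image j)
    refine ⟨j₁, U ⊓ Finset.univ.inf W, ⟨hxU, Finset.inf_induction (p := fun V : X.Opens => x ∈ V)
      trivial (fun _ ha _ hb => ⟨ha, hb⟩) fun t _ => hxW t⟩, fun z hz k ⟨b⟩ m => ?_⟩
    obtain ⟨f, s, hzf, hfs⟩ := QCohLib.exists_smul_eq_germ hU z hz.1 m
    obtain ⟨v, hv⟩ := (X.mem_basicOpen f z hz.1).mp hzf
    let R := LinearMap.range (QCohLib.stalkLinearMap (c.ι.app k ≫ u) z)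
    have hs : F.presheaf.germ U z hz.1 s ∈ R := by
      have : s ∈ Submodule.span Γ(X, U) (T : Set Γ(F, U)) := hT ▸ Submodule.mem_top
      clear hfs
      induction this using Submodule.span_induction with
      | mem t ht =>
        obtain ⟨a⟩ := hj₁ (Finset.mem_image_of_mem j (Finset.mem_univ ⟨t, ht⟩))
        exact hW ⟨t, ht⟩ z hz.1 ((show Finset.univ.inf W ≤ W ⟨t, ht⟩ from Finset.inf_le (Finset.mem_univ _)) hz.2) k ⟨a ≫ b⟩
      | zero => rw [map_zero]; exact R.zero_mem
      | add a b _ _ ha hb => rw [map_add]; exact R.add_mem ha hb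
      | smul r a _ ha => rw [QCohLib.germ_smul]; exact R.smul_mem _ ha
    have hm : m ∈ R := by
      have h1 : (↑v⁻¹ : X.presheaf.stalk z) • F.presheaf.germ U z hz.1 s = m := by
        rw [← hfs, ← hv, smul_smul, Units.inv_mul, one_smul]
      exact h1 ▸ R.smul_mem _ hs
    exact hm
  choose j W hxW hW using key
  obtain ⟨S, hS⟩ := CompactSpace.elim_nhds_subcover (fun x => (W x : Set X))
    fun x => (W x).isOpen.mem_nhds (hxW x)
  haveI : Nonempty J := IsFiltered.nonempty
  obtain ⟨j₀, hj₀⟩ := IsFiltered.sup_objs_exists (S.image j)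
  refine ⟨j₀, fun k ⟨b⟩ => (QCohLib.epi_iff_stalk_surjective _).mpr fun z => ?_⟩
  obtain ⟨x, hx, hzx⟩ : ∃ x ∈ S, z ∈ W x := by simpa using hS.ge (Set.mem_univ z)
  obtain ⟨a⟩ := hj₀ (Finset.mem_image_of_mem j hx)
  exact hW x z hzx k ⟨a ≫ b⟩
end Groth.Agent.S10857
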