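import Groth.Statements.S1086
import Groth.Agent.FilObj.Basic
-- import your own Groth.Agent.* helpers here

set_option autoImplicit false
universe v u
open CategoryTheory CategoryTheory.Limits Opposite
open FilD Groth.Agent.FilObj

namespace Groth.Agent.S1086

/-- Let φ : X ⟶ Y be a morphism of finite filtered objects of an abelian category and let Ker φ carry
the induced filtration (the kernel computed levelwise). Then φ is strict if and only if for every p
the sequence grᵖ(Ker φ) ⟶ grᵖ X ⟶ grᵖ Y is exact. -/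
theorem result {A : Type u} [Category.{v} A] [Abelian A] {X Y : FilD.FilF A} (φ : X ⟶ Y) :
    FilD.IsStrict φ ↔
      ∀ p : ℤ, ((ShortComplex.mk (kernel.ι φ.hom) φ.hom (kernel.condition φ.hom)).map (FilD.gr A p)).Exact := by
  rw [Groth.Agent.FilObj.isStrict_iff]
  have hker : ∀ p : ℤ, ((ShortComplex.mk (kernel.ι φ.hom) φ.hom (kernel.condition φ.hom)).map
      ((evaluation ℤᵒᵖ A).obj (op p))).Exact := fun p =>
    (ShortComplex.exact_of_f_is_kernel
      (ShortComplex.mk (kernel.ι φ.hom) φ.hom (kernel.condition φ.hom))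
      (kernelIsKernel φ.hom)).map _
  constructor
  · intro hφ p
    rw [ShortComplex.exact_iff_exact_up_to_refinements]
    intro T (y : T ⟶ (gr A p).obj X.obj) hy
    change y ≫ (gr A p).map φ.hom = 0 at hy
    obtain ⟨T₁, π₁, hπ₁, x, hx⟩ := surjective_up_to_refinements_of_epi (grπ X.obj p) y
    obtain ⟨T₂, π₂, hπ₂, z, hz⟩ := grπ_lift Y.obj p (x ≫ φ.hom.app (op p)) (by
      rw [Category.assoc, ← grπ_map, ← Category.assoc, ← hx, Category.assoc, hy, comp_zero])
    obtain ⟨T₃, π₃, hπ₃, x', hx'⟩ := hφ (Int.le_add_one le_rfl) (π₂ ≫ x) z (by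
      rw [Category.assoc, hz])
    obtain ⟨T₄, π₄, hπ₄, (k : T₄ ⟶ (kernel φ.hom).obj (op p)), hk⟩ := (hker p).exact_up_to_refinements
      (π₃ ≫ π₂ ≫ x - x' ≫ step X.obj p) (show (π₃ ≫ π₂ ≫ x - x' ≫ step X.obj p) ≫ φ.hom.app (op p) = 0 by
        rw [Preadditive.sub_comp, Category.assoc x', tr_nat, ← Category.assoc x', ← hx']
        simp only [Category.assoc, hz, sub_self])
    replace hk : π₄ ≫ (π₃ ≫ π₂ ≫ x - x' ≫ step X.obj p) = k ≫ (kernel.ι φ.hom).app (op p) := hk
    refine ⟨T₄, π₄ ≫ π₃ ≫ π₂ ≫ π₁, inferInstance, k ≫ grπ (kernel φ.hom) p, ?_⟩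
    change (π₄ ≫ π₃ ≫ π₂ ≫ π₁) ≫ y = (k ≫ grπ (kernel φ.hom) p) ≫ (gr A p).map (kernel.ι φ.hom)
    rw [Category.assoc k, grπ_map, ← Category.assoc k, ← hk]
    simp only [Category.assoc, Preadditive.comp_sub, Preadditive.sub_comp, hx, step_grπ, comp_zero, sub_zero]
  · intro hex
    haveI : ∀ {p q : ℤ} (h : p ≤ q), Mono (tr Y.obj h) := fun h => inferInstance
    refine strictR_of_step _ fun p T x y hxy => ?_
    obtain ⟨T₁, π₁, hπ₁, (k₁ : T₁ ⟶ (gr A p).obj (kernel φ.hom)), hk₁⟩ := (hex p).exact_up_to_refinements (x ≫ grπ X.obj p)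
      (show (x ≫ grπ X.obj p) ≫ (gr A p).map φ.hom = 0 by
        rw [Category.assoc, grπ_map, ← Category.assoc, hxy, Category.assoc, step_grπ, comp_zero])
    replace hk₁ : π₁ ≫ x ≫ grπ X.obj p = k₁ ≫ (gr A p).map (kernel.ι φ.hom) := hk₁
    obtain ⟨T₂, π₂, hπ₂, k, hk⟩ := surjective_up_to_refinements_of_epi (grπ (kernel φ.hom) p) k₁
    obtain ⟨T₃, π₃, hπ₃, x', hx'⟩ := grπ_lift X.obj p (π₂ ≫ π₁ ≫ x - k ≫ (kernel.ι φ.hom).app (op p)) (by
      rw [Preadditive.sub_comp, Category.assoc, Category.assoc, hk₁, ← Category.assoc π₂, hk,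
        Category.assoc, Category.assoc, grπ_map, sub_self])
    have h0 : (kernel.ι φ.hom).app (op p) ≫ φ.hom.app (op p) = 0 :=
      congrArg (fun f : kernel φ.hom ⟶ Y.obj => f.app (op p)) (kernel.condition φ.hom)
    refine ⟨T₃, π₃ ≫ π₂ ≫ π₁, inferInstance, x', ?_⟩
    rw [← cancel_mono (tr Y.obj (Int.le_add_one (le_refl p))), Category.assoc x', ← tr_nat,
      ← Category.assoc x', ← hx']
    simp only [Category.assoc, Preadditive.comp_sub, Preadditive.sub_comp, h0, comp_zero, sub_zero, hxy]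

end Groth.Agent.S1086
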