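import Groth.Statements.S10865
import Groth.Agent.CohFinite.DevissageAux

set_option autoImplicit false
universe u
open Coherent

namespace Groth.Agent.S10865

open CategoryTheory CategoryTheory.Limits AlgebraicGeometry in
/-- Let X be a nonempty Noetherian scheme and K an isomorphism-closed class of O_X-modules such that (a)
in a short exact sequence of coherent modules, if the middle and right terms lie in K so does the
left one, and if the two outer terms lie in K so does the middle one; (b) if a coherent F has some
d-fold direct sum (d ≥ 1) in K then F lies in K. If for every integral closed subscheme i : Z → X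
there is a coherent O_Z-module with nonzero stalk at the generic point whose direct image under i
lies in K, then every coherent O_X-module lies in K. (For the empty scheme the hypotheses hold for
the empty class, so X is taken nonempty here.) -/
theorem result (X : Scheme.{u}) [IsNoetherian X] [Nonempty X]
    (K : ObjectProperty X.Modules) [K.IsClosedUnderIsomorphisms]
    (ha : ∀ S : ShortComplex X.Modules, S.ShortExact → Coh.IsCoh S.X₁ → Coh.IsCoh S.X₂ → Coh.IsCoh S.X₃ →
      (K S.X₂ → K S.X₃ → K S.X₁) ∧ (K S.X₁ → K S.X₃ → K S.X₂))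
    (hb : ∀ (F : X.Modules) (d : ℕ), 1 ≤ d → Coh.IsCoh F → K (∐ fun _ : Fin d => F) → K F)
    (hgen : ∀ (Z : Scheme.{u}) (i : Z ⟶ X) [IsClosedImmersion i] [IsIntegral Z],
      ∃ H : Z.Modules, Coh.IsCoh H ∧ Nontrivial (H.presheaf.stalk (genericPoint Z)) ∧
        K ((Scheme.Modules.pushforward i).obj H))
    (F : X.Modules) (hF : Coh.IsCoh F) : K F := by
  have := Abelian.hasFiniteBiproducts (C := X.Modules)
  have hiso : ∀ M N : X.Modules, Nonempty (M ≅ N) → K M → K N := fun M N ⟨e⟩ h => K.prop_of_iso e h
  have hzero : ∀ N : X.Modules, IsZero N → K N := fun N hN => by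
    obtain ⟨x⟩ := (inferInstance : Nonempty X)
    obtain ⟨Z, i, hi, hZ, -⟩ := CohFinite.exists_integral_subscheme x
    obtain ⟨H, hH, -, hKH⟩ := hgen Z i
    exact CohFinite.zero_of_kernels hiso (QCohLib.isCoh_pushforward i hH)
      (fun S hS a b c _ => (ha S hS a b c).1) hKH N hN
  refine CohFinite.devissage_kernels K hiso hzero (X' := Set.univ)
    (fun S hS a b c _ => ⟨(ha S hS a b c).2, (ha S hS a b c).1⟩) ?_ F hF (Set.subset_univ _)
  intro Z i _ _ _
  obtain ⟨H, hH, hne, hKH⟩ := hgen Z i
  have := hH.1
  refine Or.inr ⟨(Scheme.Modules.pushforward i).obj H, QCohLib.isCoh_pushforward i hH,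
    CohFinite.support_pushforward_subset i H, hKH,
    CohFinite.not_subsingleton_stalk_pushforward i (not_subsingleton_iff_nontrivial.mpr hne),
    CohFinite.stalk_killed_pushforward i H, fun r hr _ F' hF' _ hP => ?_⟩
  exact hb F' r hr hF' (K.prop_of_iso (biproduct.isoCoproduct fun _ : Fin r => F') hP)

end Groth.Agent.S10865
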