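import Groth.Statements.S10866
-- import your own Groth.Agent.* helpers here
import Groth.Agent.CohFinite.DevissageAux
import Groth.Agent.HigherDirect.ModCmp
import Groth.Agent.QCohLib.CohLocal

set_option autoImplicit false
universe u
open Coherent

open CategoryTheory.Limits

namespace Groth.Agent.S10866

open CategoryTheory AlgebraicGeometry in
/-- Let f : X → Y be a morphism of Noetherian schemes such that for every integral closed subscheme i :
Z → X there is a coherent O_Z-module with nonzero stalk at the generic point of Z whose direct image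
under i followed by f is coherent on Y. Then the direct image f_*F of every coherent O_X-module F is
coherent. -/
theorem result {X Y : Scheme.{u}} [IsNoetherian X] [IsNoetherian Y]
    (f : X ⟶ Y)
    (hgen : ∀ (Z : Scheme.{u}) (i : Z ⟶ X) [IsClosedImmersion i] [IsIntegral Z],
      ∃ H : Z.Modules, Coh.IsCoh H ∧ Nontrivial (H.presheaf.stalk (genericPoint Z)) ∧
        Coh.IsCoh ((Scheme.Modules.pushforward (i ≫ f)).obj H))
    (F : X.Modules) (hF : Coh.IsCoh F) : Coh.IsCoh ((Scheme.Modules.pushforward f).obj F) := by
  have := Abelian.hasFiniteBiproducts (C := X.Modules)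
  haveI : QuasiCompact f := inferInstance
  haveI : QuasiSeparated f := inferInstance
  haveI := Groth.Agent.HigherDirect.preservesFiniteLimits_pushforward f
  let P : X.Modules → Prop := fun N => Coh.IsCoh ((Scheme.Modules.pushforward f).obj N)
  have hq : ∀ N : X.Modules, Coh.IsCoh N → ((Scheme.Modules.pushforward f).obj N).IsQuasicoherent := fun N hN => by
    haveI := hN.1
    exact Groth.Agent.QCohLib.isQuasicoherent_pushforward f
  refine CohFinite.devissage_generic P (fun M N ⟨e⟩ h => QCohLib.isCoh_of_iso ((Scheme.Modules.pushforward f).mapIso e) h)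
    (fun N hN => QCohLib.isCoh_of_isZero (Functor.map_isZero _ hN)) (X' := Set.univ) ?_ ?_ F hF (Set.subset_univ _)
  · intro S hS h1 h2 h3 _ hA hC
    let T := S.map (Scheme.Modules.pushforward f)
    haveI := hS.mono_f
    haveI : Mono T.f := (Scheme.Modules.pushforward f).map_mono S.f
    have hex : IsLimit (KernelFork.ofι T.f T.zero) :=
      KernelFork.mapIsLimit _ hS.fIsKernel (Scheme.Modules.pushforward f)
    have himg : Coh.IsCoh (Abelian.image T.g) := QCohLib.isCoh_image T.g (hq _ h2) hC
    haveI : T.X₂.IsQuasicoherent := hq _ h2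
    haveI : Epi (Abelian.factorThruImage T.g) := inferInstance
    have hz : T.f ≫ Abelian.factorThruImage T.g = 0 := by
      rw [← cancel_mono (Abelian.image.ι T.g), zero_comp, Category.assoc, Abelian.image.fac]
      exact T.zero
    let U := ShortComplex.mk T.f (Abelian.factorThruImage T.g) hz
    have hU : U.ShortExact := by
      refine { exact := ?_ }
      refine ShortComplex.exact_of_f_is_kernel _ (isKernelOfComp (f := U.g) (g := Abelian.image.ι T.g) T.g hex hz (Abelian.image.fac T.g))
    exact QCohLib.isCoh_of_extension U hU hA himg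
  · intro Z i _ _ _ _
    obtain ⟨H, hH, hne, hKH⟩ := hgen Z i
    have := hH.1
    have hPG : P ((Scheme.Modules.pushforward i).obj H) :=
      QCohLib.isCoh_of_iso ((Scheme.Modules.pushforwardComp i f).app H).symm hKH
    refine Or.inr ⟨(Scheme.Modules.pushforward i).obj H, QCohLib.isCoh_pushforward i hH,
      CohFinite.not_subsingleton_stalk_pushforward i (not_subsingleton_iff_nontrivial.mpr hne),
      CohFinite.stalk_killed_pushforward i H, fun r hr _ F' hF' _ hP => ?_, fun K k hK hk _ => ?_⟩
    · let ι₀ : F' ⟶ ⨁ fun _ : Fin r => F' := biproduct.ι (fun _ : Fin r => F') ⟨0, hr⟩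
      haveI : Mono ((Scheme.Modules.pushforward f).map ι₀) := (Scheme.Modules.pushforward f).map_mono ι₀
      exact QCohLib.isCoh_of_mono ((Scheme.Modules.pushforward f).map ι₀) hP (hq _ hF')
    · haveI := hk
      haveI : Mono ((Scheme.Modules.pushforward f).map k) := (Scheme.Modules.pushforward f).map_mono k
      exact ⟨K, 𝟙 K, hK, inferInstance,
        (QCohLib.isIso_iff_stalk_bijective (𝟙 K)).mp inferInstance _,
        QCohLib.isCoh_of_mono ((Scheme.Modules.pushforward f).map k) hPG (hq _ hK)⟩

end Groth.Agent.S10866
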