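import Groth.Statements.S10867
import Mathlib
import Groth.Agent.ClosedImmNhd.Unramified
import Groth.Agent.FibrewiseCrit.Unramified
-- import your own Groth.Agent.* helpers here

set_option autoImplicit false
set_option backward.isDefEq.respectTransparency false
universe u
open CategoryTheory.Limits
open Mor

namespace Groth.Agent.S10867

open CategoryTheory AlgebraicGeometry in
/-- In the case of an algebraically closed base field k and K = k: let X, Y be k-schemes of finite type
and f : X → Y a proper k-morphism which is injective on closed points and such that for every closed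
point x of X the ideal generated by the image of the maximal ideal of the local ring at f(x),
together with the square of the maximal ideal at x, is the whole maximal ideal at x (the cotangent
map is surjective, i.e. the tangent map at x is injective). Then f is a closed immersion. (The
published statement allows any field k and tests points and tangent spaces with values in an
algebraically closed extension K of k; this row is the case K = k.) -/
theorem result (k : Type u) [Field k] [IsAlgClosed k]
    {X Y : Scheme.{u}} (f : X ⟶ Y) (q : Y ⟶ Spec (CommRingCat.of k)) [LocallyOfFiniteType q] [QuasiCompact q]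
    [LocallyOfFiniteType (f ≫ q)] [IsProper f]
    (hinj : Set.InjOn f.base {x : X | IsClosed ({x} : Set X)})
    (hT : ∀ x : X, IsClosed ({x} : Set X) →
      Ideal.map (f.stalkMap x).hom (IsLocalRing.maximalIdeal (Y.presheaf.stalk (f.base x))) ⊔
        IsLocalRing.maximalIdeal (X.presheaf.stalk x) ^ 2 = IsLocalRing.maximalIdeal (X.presheaf.stalk x)) :
    IsClosedImmersion f := by
  haveI : JacobsonSpace X := LocallyOfFiniteType.jacobsonSpace (f ≫ q)
  haveI : IsLocallyNoetherian X := LocallyOfFiniteType.isLocallyNoetherian (f ≫ q)
  haveI : LocallyOfFiniteType (pullback.fst f f ≫ f ≫ q) := inferInstance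
  haveI : JacobsonSpace (pullback f f : Scheme.{u}) := LocallyOfFiniteType.jacobsonSpace (pullback.fst f f ≫ f ≫ q)
  have hcl : closedPoints ↥X ⊆ FibrewiseCrit.fuLocus f := by
    intro x hx
    change (f.stalkMap x).hom.FormallyUnramified
    algebraize [(f.stalkMap x).hom]
    haveI : IsLocalHom (algebraMap (Y.presheaf.stalk (f x)) (X.presheaf.stalk x)) :=
      inferInstanceAs <| IsLocalHom (f.stalkMap x).hom
    haveI : Algebra.EssFiniteType (Y.presheaf.stalk (f x)) (X.presheaf.stalk x) := by
      rw [← RingHom.essFiniteType_algebraMap, RingHom.algebraMap_toAlgebra]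
      exact LocallyOfFiniteType.stalkMap f x
    let ψ : CommRingCat.of k ⟶ Y.residueField (f x) := Spec.preimage (Y.fromSpecResidueField (f x) ≫ q)
    have hψ : (residueFieldIsoBase (f ≫ q) x hx).inv = ψ ≫ f.residueFieldMap x := Spec.map_injective (by
      rw [SpecMap_residueFieldIsoBase_inv, Spec.map_comp, Spec.map_preimage,
        Scheme.Hom.SpecMap_residueFieldMap_fromSpecResidueField_assoc])
    have hres : Function.Surjective (f.residueFieldMap x).hom := fun z => by
      obtain ⟨c, hc⟩ := (ConcreteCategory.bijective_of_isIso (residueFieldIsoBase (f ≫ q) x hx).inv).2 z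
      exact ⟨ψ c, by rw [← hc, hψ]; rfl⟩
    haveI : Algebra.IsSeparable (IsLocalRing.ResidueField (Y.presheaf.stalk (f x))) (IsLocalRing.ResidueField (X.presheaf.stalk x)) := by
      refine ⟨fun z => ?_⟩
      obtain ⟨a, ha⟩ := hres z
      obtain ⟨s, rfl⟩ := IsLocalRing.residue_surjective a
      rw [← ha]
      exact (isSeparable_algebraMap (IsLocalRing.residue (Y.presheaf.stalk (f x)) s) : IsSeparable _ ((algebraMap (IsLocalRing.ResidueField (Y.presheaf.stalk (f x))) (IsLocalRing.ResidueField (X.presheaf.stalk x))) (IsLocalRing.residue (Y.presheaf.stalk (f x)) s)))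
    refine Algebra.FormallyUnramified.of_map_maximalIdeal (le_antisymm ?_ ?_)
    · exact le_sup_left.trans (hT x hx).le
    · refine Submodule.le_of_le_smul_of_le_jacobson_bot (I := IsLocalRing.maximalIdeal (X.presheaf.stalk x))
        (IsNoetherian.noetherian _) (IsLocalRing.maximalIdeal_le_jacobson _) ?_
      rw [smul_eq_mul, ← pow_two]
      exact (hT x hx).ge
  haveI : FormallyUnramified f := (FibrewiseCrit.formallyUnramified_iff_forall_mem_fuLocus f).2 fun x => by
    by_contra hx
    obtain ⟨z, hz, hzc⟩ := nonempty_inter_closedPoints (Z := (FibrewiseCrit.fuLocus f)ᶜ) ⟨x, hx⟩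
      (FibrewiseCrit.isOpen_fuLocus f).isClosed_compl.isLocallyClosed
    exact hz (hcl hzc)
  haveI : Surjective (pullback.diagonal f) := by
    refine ⟨fun z => ?_⟩
    let s := pullback.fst f f ≫ f ≫ q
    have hsub : closedPoints ↥(pullback f f : Scheme.{u}) ⊆ Set.range (pullback.diagonal f) := by
      intro z hz
      let p := pointOfClosedPoint s z hz
      let o : Spec (CommRingCat.of k) := IsLocalRing.closedPoint k
      have hpo : p o = z := pointOfClosedPoint_apply s z hz _
      have hp : p ≫ pullback.fst f f ≫ f ≫ q = 𝟙 _ := pointOfClosedPoint_comp s z hz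
      have hp1 : (p ≫ pullback.fst f f) ≫ f ≫ q = 𝟙 _ := by rw [Category.assoc, hp]
      have hp2 : (p ≫ pullback.snd f f) ≫ f ≫ q = 𝟙 _ := by rw [Category.assoc, ← pullback.condition_assoc, hp]
      have hclosed : ∀ a : Spec (CommRingCat.of k) ⟶ X, a ≫ f ≫ q = 𝟙 _ → IsClosed ({a o} : Set X) := fun a ha =>
        (pointEquivClosedPoint (f ≫ q) ⟨a, ha⟩).2
      have heq : (p ≫ pullback.fst f f) o = (p ≫ pullback.snd f f) o :=
        hinj (hclosed _ hp1) (hclosed _ hp2) (by
          change ((p ≫ pullback.fst f f) ≫ f) o = ((p ≫ pullback.snd f f) ≫ f) o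
          simp [pullback.condition])
      have hab : p ≫ pullback.fst f f = p ≫ pullback.snd f f := ext_of_apply_closedPoint_eq (f ≫ q) hp1 hp2 heq
      have hpd : p = (p ≫ pullback.fst f f) ≫ pullback.diagonal f := by
        apply pullback.hom_ext
        · simp
        · simp [hab]
      refine ⟨(p ≫ pullback.fst f f) o, ?_⟩
      change ((p ≫ pullback.fst f f) ≫ pullback.diagonal f) o = z
      rw [← hpd, hpo]
    have h := closure_minimal hsub (pullback.diagonal f).isClosedEmbedding.isClosed_range
    exact h (by rw [closure_closedPoints]; trivial)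
  exact ClosedImmNhd.isClosedImmersion_of_formallyUnramified f

end Groth.Agent.S10867
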