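import Groth.Statements.S10868
import Mathlib
-- import your own Groth.Agent.* helpers here

set_option autoImplicit false
universe u
open Mor

namespace Groth.Agent.S10868

open CategoryTheory AlgebraicGeometry in
/-- f : X → Y is a finite morphism exactly when it is proper and quasi-affine (quasi-compact, with the
inverse image of every affine open subscheme of Y a quasi-affine scheme). -/
theorem result {X Y : Scheme.{u}} (f : X ⟶ Y) :
    IsFinite f ↔ IsProper f ∧ Mor2.IsQuasiAffine f := by
  constructor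
  · intro hf
    refine ⟨inferInstance, inferInstance, fun V hV => ?_⟩
    have : IsAffine (f ⁻¹ᵁ V : Scheme.{u}) := hV.preimage f
    infer_instance
  · rintro ⟨hp, hq, hQ⟩
    rw [IsFinite.iff_isProper_and_isAffineHom]
    refine ⟨hp, ⟨fun V hV => ?_⟩⟩
    have : IsAffine (V : Scheme.{u}) := hV
    have := hQ V hV
    have : IsProper (f ∣_ V) := IsZariskiLocalAtTarget.restrict hp V
    have : IsProper ((f ⁻¹ᵁ V : Scheme.{u}).toSpecΓ ≫ Spec.map (f ∣_ V).appTop) := by
      rw [← Scheme.toSpecΓ_naturality]; infer_instance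
    have : IsProper (f ⁻¹ᵁ V : Scheme.{u}).toSpecΓ :=
      IsProper.of_comp (f ⁻¹ᵁ V : Scheme.{u}).toSpecΓ (Spec.map (f ∣_ V).appTop)
    have : IsClosedImmersion (f ⁻¹ᵁ V : Scheme.{u}).toSpecΓ :=
      IsClosedImmersion.of_isPreimmersion _ (Scheme.Hom.isClosedMap _).isClosed_range
    exact isAffine_of_isAffineHom (f ⁻¹ᵁ V : Scheme.{u}).toSpecΓ

end Groth.Agent.S10868
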