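import Groth.Statements.S10869
import Groth.Agent.ConormalSection.SpanPull
import Groth.Agent.QCohLib.Closure
import Groth.Agent.QCohLib.Criterion
import Groth.Agent.QCohLib.Cover
import Groth.Agent.QCohLib.Pullback
import Groth.Agent.InvPow.Locus

set_option autoImplicit false
set_option linter.style.haveILetI false
set_option maxHeartbeats 2000000
set_option backward.isDefEq.respectTransparency false
universe u
open Coh Groth.Agent CategoryTheory AlgebraicGeometry

namespace Groth.Agent.S10869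

open CategoryTheory AlgebraicGeometry in
/-- For f : X → S quasi-compact and quasi-separated and F a quasi-coherent O_X-module, the counit
f^*f_*F → F is an epimorphism iff F is a quotient of f^*G for some quasi-coherent O_S-module G, iff
the restriction of F to the inverse image of every affine open of S is globally generated. -/
theorem result {X S : Scheme.{u}} (f : X ⟶ S) [QuasiCompact f] [QuasiSeparated f]
    (F : X.Modules) (hF : Coh.IsQCoh F) :
    (Epi ((Scheme.Modules.pullbackPushforwardAdjunction f).counit.app F) ↔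
      ∃ G : S.Modules, Coh.IsQCoh G ∧ ∃ φ : (Scheme.Modules.pullback f).obj G ⟶ F, Epi φ) ∧
    (Epi ((Scheme.Modules.pullbackPushforwardAdjunction f).counit.app F) ↔
      ∀ U : S.Opens, IsAffineOpen U → Curv2.IsGloballyGenerated (F.restrict (f ⁻¹ᵁ U).ι)) := by
  haveI := hF
  let adj := Scheme.Modules.pullbackPushforwardAdjunction f
  let M := (Scheme.Modules.pushforward f).obj F
  haveI : M.IsQuasicoherent := QCohLib.isQuasicoherent_pushforward f
  haveI : ((Scheme.Modules.pullback f).obj M).IsQuasicoherent := QCohLib.isQuasicoherent_pullback f M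
  let ε : (Scheme.Modules.pullback f).obj M ⟶ F := adj.counit.app F
  have hη : ∀ (U : S.Opens) (m : Γ(M, U)), ε.app (f ⁻¹ᵁ U) ((adj.unit.app M).app U m) = m := fun U m =>
    congr($(congr(Scheme.Modules.Hom.app $(adj.right_triangle_components F) U)) m)
  show (Epi ε ↔ _) ∧ (Epi ε ↔ _)
  refine ⟨⟨fun he => ⟨M, inferInstanceAs M.IsQuasicoherent, ε, he⟩, fun ⟨G, _, φ, hφ⟩ => ?_⟩, ⟨fun he U hU => ?_, fun h => ?_⟩⟩
  · have e : (Scheme.Modules.pullback f).map (adj.homEquiv G F φ) ≫ ε = φ :=
      ((Adjunction.homEquiv_counit (adj := adj) (g := adj.homEquiv G F φ)).symm).trans ((adj.homEquiv G F).symm_apply_apply φ)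
    haveI : Epi ((Scheme.Modules.pullback f).map (adj.homEquiv G F φ) ≫ ε) := e.symm ▸ hφ
    exact epi_of_epi ((Scheme.Modules.pullback f).map (adj.homEquiv G F φ)) ε
  · let V := f ⁻¹ᵁ U
    let T := F.restrict V.ι
    let p : SheafOfModules.free Γ(T, ⊤) ⟶ T :=
      T.freeHomEquiv.symm fun σ => T.unitHomEquiv (ProjTwist.globalHom T σ)
    have hp : ∀ σ, SheafOfModules.ιFree σ ≫ p = ProjTwist.globalHom T σ := fun σ => by
      rw [← SheafOfModules.unitHomEquiv_symm_freeHomEquiv_apply, Equiv.apply_symm_apply, Equiv.symm_apply_apply]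
    refine ⟨Γ(T, ⊤), p, QCohLib.epi_of_affine_surjective p fun W z => ?_⟩
    have hW0 : IsAffineOpen (V.ι ''ᵁ W.1) := W.2.image_of_isOpenImmersion V.ι
    obtain ⟨y, hy⟩ := QCohLib.app_surjective_of_epi ε hW0 (z : Γ(F, V.ι ''ᵁ W.1))
    rw [← hy]
    clear hy z
    have hle : V.ι ''ᵁ W.1 ≤ f ⁻¹ᵁ U := V.ι_image_le _
    have hy' : y ∈ Submodule.span Γ(X, V.ι ''ᵁ W.1) (Set.range (ConormalSection.pullRes f M hle)) :=
      (ConormalSection.span_pullRes f M hU hW0 hle).symm ▸ Submodule.mem_top
    induction hy' using Submodule.span_induction with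
    | mem y hy =>
      obtain ⟨s, rfl⟩ := hy
      let σ : Γ(T, ⊤) := F.presheaf.map (homOfLE (V.ι_image_le ⊤)).op (s : Γ(F, V))
      let b : Coh.structureModule (V : Scheme.{u}) ⟶ (SheafOfModules.free Γ(T, ⊤) : (V : Scheme.{u}).Modules) :=
        SheafOfModules.ιFree σ
      refine ⟨b.app W.1 (1 : Γ(V, W.1)), ?_⟩
      refine (congr($(congr(Scheme.Modules.Hom.app $(hp σ) W.1)) (1 : Γ(V, W.1)))).trans ?_
      rw [ProjTwist.globalHom_app, one_smul]
      have e2 : ε.app (V.ι ''ᵁ W.1) (ConormalSection.pullRes f M hle s) =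
          F.presheaf.map (homOfLE hle).op (s : Γ(F, V)) :=
        (QCohLib.app_map ε hle ((adj.unit.app M).app U s)).trans (congrArg _ (hη U s))
      refine Eq.trans ?_ e2.symm
      exact QCohLib.map_map F (show V.ι ''ᵁ W.1 ≤ V.ι ''ᵁ ⊤ from V.ι.image_mono le_top) (V.ι_image_le ⊤) (s : Γ(F, V))
    | zero => exact ⟨0, (map_zero _).trans (map_zero _).symm⟩
    | add a b _ _ ha hb =>
      obtain ⟨a', ha'⟩ := ha
      obtain ⟨b', hb'⟩ := hb
      exact ⟨a' + b', by rw [map_add, ha', hb', map_add]⟩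
    | smul r a _ ha =>
      obtain ⟨a', ha'⟩ := ha
      refine ⟨(V.ι.appIso W.1).hom r • a', ?_⟩
      rw [Scheme.Modules.Hom.app_smul, Scheme.Modules.Hom.app_smul, ha']
      exact congrArg (· • (ε.app (V.ι ''ᵁ W.1) a)) (ConcreteCategory.congr_hom (V.ι.appIso W.1).hom_inv_id r)
  · let I := {q : S.Opens // IsAffineOpen q}
    let J := Σ q : I, (f ⁻¹ᵁ q.1 : X.Opens).toScheme.affineOpens
    refine QCohLib.epi_of_cover_surjective (fun j : J => (f ⁻¹ᵁ j.1.1).ι ''ᵁ j.2.1)
      (fun j => j.2.2.image_of_isOpenImmersion _) (fun x => ?_) ε fun j => ?_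
    · obtain ⟨U, hU, hxU, -⟩ := exists_isAffineOpen_mem_and_subset (TopologicalSpace.Opens.mem_top (f.base x))
      obtain ⟨W, hW, hxW, -⟩ := exists_isAffineOpen_mem_and_subset (X := (f ⁻¹ᵁ U : X.Opens).toScheme)
        (x := ⟨x, hxU⟩) (U := ⊤) trivial
      exact ⟨⟨⟨U, hU⟩, ⟨W, hW⟩⟩, ⟨⟨x, hxU⟩, hxW, rfl⟩⟩
    obtain ⟨⟨U, hU⟩, W⟩ := j
    let V := f ⁻¹ᵁ U
    let R := Scheme.Modules.restrictFunctor V.ι
    obtain ⟨ι, p, hp⟩ := h U hU
    let t : ι → Γ(R.obj ((Scheme.Modules.pullback f).obj M), ⊤) := fun i =>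
      ((Scheme.Modules.pullback f).obj M).presheaf.map (homOfLE (V.ι_image_le ⊤)).op
        ((adj.unit.app M).app U (F.presheaf.map (homOfLE (show V ≤ V.ι ''ᵁ ⊤ by simp)).op
          ((SheafOfModules.ιFree i ≫ p : Coh.structureModule V ⟶ _).app ⊤ (1 : Γ(V, ⊤)))))
    let q : SheafOfModules.free ι ⟶ R.obj ((Scheme.Modules.pullback f).obj M) :=
      SheafOfModules.freeHomEquiv _ |>.symm fun i => SheafOfModules.unitHomEquiv _ (ProjTwist.globalHom _ (t i))
    have hq : q ≫ R.map ε = p := by
      refine (SheafOfModules.freeHomEquiv _).injective (funext fun i => ?_)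
      apply (SheafOfModules.unitHomEquiv _).symm.injective
      rw [SheafOfModules.unitHomEquiv_symm_freeHomEquiv_apply, SheafOfModules.unitHomEquiv_symm_freeHomEquiv_apply,
        ← Category.assoc]
      have hqi : SheafOfModules.ιFree i ≫ q = ProjTwist.globalHom _ (t i) := by
        rw [← SheafOfModules.unitHomEquiv_symm_freeHomEquiv_apply, Equiv.apply_symm_apply, Equiv.symm_apply_apply]
      rw [hqi]
      let m : Coh.structureModule V ⟶ R.obj F := SheafOfModules.ιFree i ≫ p
      show ProjTwist.globalHom _ (t i) ≫ R.map ε = m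
      refine Scheme.Modules.hom_ext _ _ (fun W => AddCommGrpCat.ext ?_)
      intro (r : Γ(V, W))
      show (R.map ε).app W ((ProjTwist.globalHom _ (t i)).app W r) = m.app W r
      rw [ProjTwist.globalHom_app, Scheme.Modules.Hom.app_smul]
      have e1 : m.app W r = r • (R.obj F).presheaf.map (homOfLE (le_top : W ≤ ⊤)).op (m.app ⊤ (1 : Γ(V, ⊤))) := by
        obtain ⟨σ, hσ⟩ := InvPow.exists_globalHom_eq m
        rw [← hσ, ProjTwist.globalHom_app, ProjTwist.globalHom_app, one_smul, QCohLib.map_self]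
      rw [e1]
      congr 1
      refine (QCohLib.app_map (R.map ε) le_top (t i)).trans (congrArg _ ?_)
      refine ((QCohLib.app_map ε (V.ι_image_le ⊤) _).trans (congrArg _ (hη U _))).trans ?_
      exact (QCohLib.map_map F _ _ _).trans (QCohLib.map_self F _ _)
    haveI : Epi (R.map ε) := by
      haveI : Epi (q ≫ R.map ε) := hq.symm ▸ hp
      exact epi_of_epi q _
    haveI : (R.obj F).IsQuasicoherent := inferInstanceAs (F.restrict V.ι).IsQuasicoherent
    haveI : (R.obj ((Scheme.Modules.pullback f).obj M)).IsQuasicoherent :=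
      inferInstanceAs (((Scheme.Modules.pullback f).obj M).restrict V.ι).IsQuasicoherent
    exact QCohLib.app_surjective_of_epi (R.map ε) W.2
end Groth.Agent.S10869
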