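import Groth.Statements.S10870
import Groth.Agent.StdMon.DetRing
import Mathlib.FieldTheory.IsAlgClosed.AlgebraicClosure


set_option autoImplicit false
universe u
open CAlgX

namespace Groth.Agent.S10870

open MvPolynomial Finset in
theorem map_minorIdeal_comap {k L : Type u} [Field k] [Field L] [Algebra k L] {n m t : ℕ} :
    ((CAlgX.minorIdeal (W4bk4grassmannian.genMatrix L n m) t).comap
      (MvPolynomial.map (algebraMap k L) : MvPolynomial (Fin n × Fin m) k →+* MvPolynomial (Fin n × Fin m) L)) =
      CAlgX.minorIdeal (W4bk4grassmannian.genMatrix k n m) t := by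
  classical
  have hdet : ∀ (p : (Fin t → Fin n) × (Fin t → Fin m)),
      MvPolynomial.map (algebraMap k L) ((W4bk4grassmannian.genMatrix k n m).submatrix p.1 p.2).det =
        ((W4bk4grassmannian.genMatrix L n m).submatrix p.1 p.2).det := fun p => by
    rw [RingHom.map_det]
    congr 1
    ext i j
    simp [W4bk4grassmannian.genMatrix]
  obtain ⟨π, hπ⟩ := (Algebra.linearMap k L).exists_leftInverse_of_injective
    (LinearMap.ker_eq_bot.2 (algebraMap k L).injective)
  refine le_antisymm (fun f hf => ?_) ?_
  · rw [Ideal.mem_comap] at hf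
    rw [CAlgX.minorIdeal, Ideal.mem_span_range_iff_exists_fun] at hf ⊢
    obtain ⟨c, hc⟩ := hf
    let P : MvPolynomial (Fin n × Fin m) L →ₗ[k] MvPolynomial (Fin n × Fin m) k :=
      (MvPolynomial.basisMonomials (Fin n × Fin m) k).repr.symm.toLinearMap ∘ₗ
        Finsupp.mapRange.linearMap π ∘ₗ ((MvPolynomial.basisMonomials (Fin n × Fin m) L).repr.toLinearMap.restrictScalars k)
    have hcoeff : ∀ g e, coeff e (P g) = π (coeff e g) := fun g e => by
      change ((MvPolynomial.basisMonomials (Fin n × Fin m) k).repr (P g)) e = _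
      simp only [P, LinearMap.coe_comp, Function.comp_apply, LinearEquiv.coe_coe, LinearEquiv.apply_symm_apply]
      rfl
    refine ⟨fun p => P (c p), ?_⟩
    ext e
    rw [coeff_sum]
    have h1 := congrArg (coeff e) hc
    rw [coeff_sum, coeff_map] at h1
    have h2 := congrArg π h1
    rw [map_sum, show π (algebraMap k L (coeff e f)) = coeff e f from LinearMap.congr_fun hπ _] at h2
    rw [← h2]
    refine sum_congr rfl fun p _ => ?_
    rw [← hdet p, coeff_mul, coeff_mul, map_sum]
    refine sum_congr rfl fun x _ => ?_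
    rw [hcoeff, coeff_map, mul_comm (coeff x.1 (c p)), ← Algebra.smul_def, map_smul, smul_eq_mul, mul_comm]
  · rw [CAlgX.minorIdeal, Ideal.span_le]
    rintro _ ⟨p, rfl⟩
    rw [SetLike.mem_coe, Ideal.mem_comap, hdet]
    exact Ideal.subset_span ⟨p, rfl⟩


/-- For a field k and 0 ≤ r ≤ min(n, m), the affine determinantal scheme of n × m matrices of rank at
most r over k — the spectrum of the polynomial ring on the entries of the generic n × m matrix
modulo the ideal of its (r+1) × (r+1) minors — has dimension r(m + n − r). -/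
theorem result (k : Type u) [Field k] (n m r : ℕ) (hr : r ≤ min n m) :
    ringKrullDim (MvPolynomial (Fin n × Fin m) k ⧸ CAlgX.minorIdeal (Matrix.of fun (i : Fin n) (j : Fin m) => (MvPolynomial.X (i, j) : MvPolynomial (Fin n × Fin m) k)) (r + 1)) =
      ((r * (m + n - r) : ℕ) : WithBot ℕ∞) := by
  change ringKrullDim (MvPolynomial (Fin n × Fin m) k ⧸
    CAlgX.minorIdeal (W4bk4grassmannian.genMatrix k n m) (r + 1)) = _
  rcases Nat.eq_zero_or_pos m with rfl | hm
  · obtain rfl : r = 0 := by omega
    have h0 : CAlgX.minorIdeal (W4bk4grassmannian.genMatrix k n 0) (0 + 1) = ⊥ := by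
      rw [CAlgX.minorIdeal, Ideal.span_eq_bot]
      rintro _ ⟨p, rfl⟩
      exact (p.2 0).elim0
    rw [h0, ringKrullDim_eq_of_ringEquiv (RingEquiv.quotientBot _), MvPolynomial.ringKrullDim_of_isNoetherianRing,
      ringKrullDim_eq_zero_of_field]
    simp
  let L := AlgebraicClosure k
  let I := CAlgX.minorIdeal (W4bk4grassmannian.genMatrix k n m) (r + 1)
  let J := CAlgX.minorIdeal (W4bk4grassmannian.genMatrix L n m) (r + 1)
  let μ : MvPolynomial (Fin n × Fin m) k →+* MvPolynomial (Fin n × Fin m) L := MvPolynomial.map (algebraMap k L)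
  have hIJ : I = J.comap μ := (map_minorIdeal_comap (k := k) (L := L)).symm
  let f : MvPolynomial (Fin n × Fin m) k ⧸ I →+* MvPolynomial (Fin n × Fin m) L ⧸ J :=
    Ideal.quotientMap J μ hIJ.le
  let : Algebra (MvPolynomial (Fin n × Fin m) k ⧸ I) (MvPolynomial (Fin n × Fin m) L ⧸ J) := f.toAlgebra
  have hinj : Function.Injective f := Ideal.quotientMap_injective' hIJ.ge
  have hint : f.IsIntegral := by
    have hμ : μ.IsIntegral := by
      intro x
      induction x using MvPolynomial.induction_on with
      | C a =>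
        obtain ⟨p, hp, hpa⟩ := Algebra.IsIntegral.isIntegral (R := k) a
        refine ⟨p.map MvPolynomial.C, hp.map _, ?_⟩
        rw [Polynomial.eval₂_map, show μ.comp MvPolynomial.C = MvPolynomial.C.comp (algebraMap k L) from
          RingHom.ext fun z => MvPolynomial.map_C _ z, ← Polynomial.hom_eval₂, hpa, map_zero]
      | add p q hp hq => exact hp.add μ hq
      | mul_X p i hp =>
        refine hp.mul μ ?_
        have : MvPolynomial.X i = μ (MvPolynomial.X i) := (MvPolynomial.map_X _ i).symm
        rw [this]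
        exact μ.isIntegralElem_map
    intro y
    obtain ⟨x, rfl⟩ := Ideal.Quotient.mk_surjective y
    obtain ⟨p, hp, hpx⟩ := hμ x
    refine ⟨p.map (Ideal.Quotient.mk I), hp.map _, ?_⟩
    rw [Polynomial.eval₂_map, show f.comp (Ideal.Quotient.mk I) = (Ideal.Quotient.mk J).comp μ from rfl,
      ← Polynomial.hom_eval₂, hpx, map_zero]
  have : Algebra.IsIntegral (MvPolynomial (Fin n × Fin m) k ⧸ I) (MvPolynomial (Fin n × Fin m) L ⧸ J) := ⟨hint⟩
  rw [← Groth.Agent.DimTrdeg.ringKrullDim_eq_of_isIntegral _ (MvPolynomial (Fin n × Fin m) L ⧸ J) hinj,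
    (Groth.Agent.StdMon.det_properties (K := L) hm (m := n) (s := r) (by omega) (by omega)).2.2.2, add_comm n m]

end Groth.Agent.S10870
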