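import Groth.Statements.S10871
import Mathlib
-- import your own Groth.Agent.* helpers here

set_option autoImplicit false
universe u
open AlgebraicGeometry
open Curves

namespace Groth.Agent.S10871

section Aux
theorem exists_local_generator {A : Type u} [CommRing A] [IsDedekindDomain A] (I : Ideal A) (p : Ideal A) [p.IsPrime] :
    ∃ a : A, a ∉ p ∧ ∃ x ∈ I, ∀ i ∈ I, a * i ∈ Ideal.span {x} := by
  classical
  haveI : IsDedekindDomain (Localization.AtPrime p) :=
    IsLocalization.isDedekindDomain A p.primeCompl_le_nonZeroDivisors _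
  haveI : IsPrincipalIdealRing (Localization.AtPrime p) :=
    IsPrincipalIdealRing.of_finite_maximals (Set.Finite.subset (Set.finite_singleton (IsLocalRing.maximalIdeal (Localization.AtPrime p)))
      fun q hq => IsLocalRing.eq_maximalIdeal hq)
  let L := Localization.AtPrime p
  obtain ⟨z, hz⟩ := (IsPrincipalIdealRing.principal (I.map (algebraMap A L))).principal
  have hz' : z ∈ I.map (algebraMap A L) := hz ▸ Submodule.mem_span_singleton_self z
  obtain ⟨⟨x, s⟩, hxs⟩ := (IsLocalization.mem_map_algebraMap_iff p.primeCompl L).mp hz'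
  have hspan : I.map (algebraMap A L) = Ideal.span {algebraMap A L (x : A)} := by
    rw [hz, ← hxs, Ideal.span_singleton_mul_right_unit (IsLocalization.map_units L s)]
  obtain ⟨F, hF⟩ := IsNoetherian.noetherian I
  have hloc : ∀ i : F, ∃ a : A, a ∉ p ∧ a * i.1 ∈ Ideal.span {(x : A)} := fun i => by
    have : algebraMap A L i.1 ∈ (Ideal.span {(x : A)}).map (algebraMap A L) := by
      rw [Ideal.map_span, Set.image_singleton, ← hspan]
      exact Ideal.mem_map_of_mem _ (hF ▸ Submodule.subset_span i.2)
    obtain ⟨⟨b, t⟩, hbt⟩ := (IsLocalization.mem_map_algebraMap_iff p.primeCompl L).mp this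
    rw [← map_mul] at hbt
    refine ⟨t.1, t.2, ?_⟩
    rw [mul_comm, IsLocalization.injective L p.primeCompl_le_nonZeroDivisors hbt]
    exact b.2
  choose a ha hax using hloc
  refine ⟨∏ i, a i, fun h => ?_, x, x.2, fun i hi => ?_⟩
  · obtain ⟨i, -, hi⟩ := Ideal.IsPrime.prod_mem_iff.mp h
    exact ha i hi
  · rw [← hF] at hi
    induction hi using Submodule.span_induction with
    | mem y hy =>
      rw [← Finset.prod_erase_mul Finset.univ a (Finset.mem_univ ⟨y, hy⟩), mul_assoc]
      exact Ideal.mul_mem_left _ _ (hax ⟨y, hy⟩)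
    | zero => simp
    | add y w _ _ hy hw => rw [mul_add]; exact add_mem hy hw
    | smul c y _ hy => rw [smul_eq_mul, mul_left_comm]; exact Ideal.mul_mem_left _ _ hy

end Aux

/-- Every open subscheme of the spectrum of a Dedekind domain is affine. -/
theorem result (A : Type u) [CommRing A] [IsDedekindDomain A]
    (U : (Spec (CommRingCat.of A)).Opens) : IsAffineOpen U := by
  obtain ⟨I, hI⟩ := (PrimeSpectrum.isClosed_iff_zeroLocus_ideal _).mp U.2.isClosed_compl
  haveI : IsAffineHom U.ι := by
    refine isAffineHom_of_forall_exists_isAffineOpen U.ι fun p => ?_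
    obtain ⟨a, ha, x, hx, hax⟩ := exists_local_generator I p.asIdeal
    refine ⟨PrimeSpectrum.basicOpen a, ha, IsAffineOpen.Spec_basicOpen a, ?_⟩
    rw [← U.ι.isAffineOpen_iff_of_isOpenImmersion, Scheme.Hom.image_preimage_eq_opensRange_inf,
      Scheme.Opens.opensRange_ι]
    have e : U ⊓ PrimeSpectrum.basicOpen a = PrimeSpectrum.basicOpen (a * x) := by
      ext q
      have hU : q ∈ U ↔ ¬ (I : Set A) ⊆ q.asIdeal := by
        have := Set.ext_iff.mp hI q
        simp only [Set.mem_compl_iff, PrimeSpectrum.mem_zeroLocus, SetLike.mem_coe] at this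
        exact not_not.symm.trans (not_congr this)
      change q ∈ U ∧ a ∉ q.asIdeal ↔ a * x ∉ q.asIdeal
      rw [hU]
      constructor
      · rintro ⟨h, hq⟩ hm
        refine h fun i hi => ?_
        obtain ⟨c, hc⟩ := Ideal.mem_span_singleton'.mp (hax i hi)
        refine (q.isPrime.mem_or_mem ?_).resolve_left hq
        rw [← hc]
        exact Ideal.mul_mem_left _ _ ((q.isPrime.mem_or_mem hm).resolve_left hq)
      · exact fun hm => ⟨fun h => hm (Ideal.mul_mem_left _ _ (h hx)), fun h => hm (Ideal.mul_mem_right _ _ h)⟩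
    rw [e]
    exact IsAffineOpen.Spec_basicOpen _
  exact isAffine_of_isAffineHom U.ι

end Groth.Agent.S10871
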