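import Groth.Statements.S10876
import Groth.Agent.S0396
import Groth.Agent.S0398
import Mathlib.RingTheory.Filtration
import Mathlib.RingTheory.Flat.Stability
import Mathlib.RingTheory.HopkinsLevitzki

set_option autoImplicit false
universe u
open TensorProduct
open CAlg

namespace Groth.Agent.S10876

open scoped TensorProduct

/-- Modulo each power of the maximal ideal the algebra is flat. -/
theorem flat_mod_pow (A B A' : Type u) [CommRing A] [CommRing B]
    [CommRing A'] [IsNoetherianRing A] [IsLocalRing A] [Algebra A B]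
    [Algebra A A'] [Module.Finite A A'] (hinj : Function.Injective (algebraMap A A'))
    [Module.Flat A' (A' ⊗[A] B)] (n : ℕ) :
    Module.Flat (A ⧸ IsLocalRing.maximalIdeal A ^ n) ((A ⧸ IsLocalRing.maximalIdeal A ^ n) ⊗[A] B) := by
  set m := IsLocalRing.maximalIdeal A with hm
  obtain ⟨c, hc⟩ := m.exists_pow_inf_eq_pow_smul (M := A') (LinearMap.range (Algebra.linearMap A A'))
  set K : Ideal A' := (m ^ (n + c)).map (algebraMap A A')
  set J : Ideal A := K.comap (algebraMap A A')
  have hJn : J ≤ m ^ n := by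
    intro a ha
    have h1 : algebraMap A A' a ∈ m ^ (n + c) • (⊤ : Submodule A A') ⊓ LinearMap.range (Algebra.linearMap A A') := by
      refine ⟨?_, a, rfl⟩
      rw [Ideal.smul_top_eq_map]
      exact ha
    rw [hc (n + c) (Nat.le_add_left c n), Nat.add_sub_cancel] at h1
    have h2 : algebraMap A A' a ∈ Submodule.map (Algebra.linearMap A A') (m ^ n) := by
      have h3 := Submodule.smul_mono (le_refl (m ^ n)) (inf_le_right : m ^ c • (⊤ : Submodule A A') ⊓ _ ≤ _) h1
      rw [LinearMap.range_eq_map, ← Submodule.map_smul'', smul_eq_mul, Ideal.mul_top] at h3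
      exact h3
    obtain ⟨b, hb, hba⟩ := h2
    exact hinj hba ▸ hb
  have hmJ : m ^ (n + c) ≤ J := Ideal.le_comap_map
  have : IsNoetherianRing (A ⧸ J) :=
    isNoetherianRing_of_surjective A (A ⧸ J) (Ideal.Quotient.mk J) Ideal.Quotient.mk_surjective
  have : Ring.KrullDimLE 0 (A ⧸ J) := Ring.KrullDimLE.mk₀ fun P hP => by
    have hle : m ^ (n + c) ≤ P.comap (Ideal.Quotient.mk J) := fun a ha => by
      show Ideal.Quotient.mk J a ∈ P
      rw [Ideal.Quotient.eq_zero_iff_mem.mpr (hmJ ha)]; exact P.zero_mem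
    have hPm : P.comap (Ideal.Quotient.mk J) = m :=
      le_antisymm (IsLocalRing.le_maximalIdeal (Ideal.comap_ne_top _ hP.ne_top))
        (fun x hx => Ideal.IsPrime.mem_of_pow_mem inferInstance _ (hle (Ideal.pow_mem_pow hx _)))
    have : (P.comap (Ideal.Quotient.mk J)).IsMaximal := hPm ▸ IsLocalRing.maximalIdeal.isMaximal A
    refine (Ideal.map_eq_top_or_isMaximal_of_surjective _ Ideal.Quotient.mk_surjective this).elim
      (fun h => absurd ((Ideal.map_comap_of_surjective _ Ideal.Quotient.mk_surjective P).symm.trans h) hP.ne_top)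
      (fun h => by rwa [Ideal.map_comap_of_surjective _ Ideal.Quotient.mk_surjective P] at h)
  have : IsArtinianRing (A ⧸ J) :=
    isArtinianRing_iff_isNoetherianRing_krullDimLE_zero.mpr ⟨inferInstance, inferInstance⟩
  let _ : Algebra (A ⧸ J) (A' ⧸ K) := (Ideal.quotientMap K (algebraMap A A') le_rfl).toAlgebra
  have : IsScalarTower A (A ⧸ J) (A' ⧸ K) := IsScalarTower.of_algebraMap_eq fun _ => rfl
  have : Module.Flat (A' ⧸ K) ((A' ⧸ K) ⊗[A ⧸ J] ((A ⧸ J) ⊗[A] B)) :=
    Module.Flat.of_linearEquiv
      ((TensorProduct.AlgebraTensorModule.cancelBaseChange A (A ⧸ J) (A' ⧸ K) (A' ⧸ K) B).trans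
        (TensorProduct.AlgebraTensorModule.cancelBaseChange A A' (A' ⧸ K) (A' ⧸ K) B).symm)
  have : Module.Flat (A ⧸ J) ((A ⧸ J) ⊗[A] B) := S0398.result (S := A' ⧸ K) Ideal.quotientMap_injective
  let _ : Algebra (A ⧸ J) (A ⧸ m ^ n) := (Ideal.Quotient.factor hJn).toAlgebra
  have : IsScalarTower A (A ⧸ J) (A ⧸ m ^ n) := IsScalarTower.of_algebraMap_eq fun _ => rfl
  exact Module.Flat.of_linearEquiv
    (TensorProduct.AlgebraTensorModule.cancelBaseChange A (A ⧸ J) (A ⧸ m ^ n) (A ⧸ m ^ n) B).symm

/-- Descent of flatness along finite injective maps: let A → B be a local homomorphism of Noetherian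
local rings and A → A' an injective ring homomorphism making A' a finite A-module. Then B is A-flat
if and only if the base change A' ⊗_A B is A'-flat. -/
theorem result (A B A' : Type u) [CommRing A] [CommRing B]
    [CommRing A'] [IsNoetherianRing A] [IsLocalRing A] [IsNoetherianRing B] [IsLocalRing B]
    [Algebra A B] [IsLocalHom (algebraMap A B)] [Algebra A A'] [Module.Finite A A']
    (hinj : Function.Injective (algebraMap A A')) :
    Module.Flat A B ↔ Module.Flat A' (A' ⊗[A] B) := by
  refine ⟨fun _ => inferInstance, fun _ => ?_⟩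
  have hq : (IsLocalRing.maximalIdeal A).map (algebraMap A B) ≤ IsLocalRing.maximalIdeal B :=
    Ideal.map_le_iff_le_comap.mpr fun a ha => by
      simpa [IsLocalRing.mem_maximalIdeal] using ha
  have := S0396.result (R := A) (S := B) (M := B) (IsLocalRing.maximalIdeal A)
    (fun n _ => flat_mod_pow A B A' hinj n) (IsLocalRing.maximalIdeal B) hq
  have hbij : Function.Bijective (LocalizedModule.mkLinearMap (IsLocalRing.maximalIdeal B).primeCompl B) := by
    have hunit : ∀ s : (IsLocalRing.maximalIdeal B).primeCompl, IsUnit (s : B) := fun s =>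
      IsLocalRing.notMem_maximalIdeal.mp s.2
    refine ⟨fun x y h => ?_, fun z => ?_⟩
    · obtain ⟨s, hs⟩ := (IsLocalizedModule.eq_iff_exists (IsLocalRing.maximalIdeal B).primeCompl
        (LocalizedModule.mkLinearMap (IsLocalRing.maximalIdeal B).primeCompl B)).mp h
      exact (hunit s).mul_left_cancel hs
    · obtain ⟨⟨b, s⟩, hz⟩ := IsLocalizedModule.surj (IsLocalRing.maximalIdeal B).primeCompl
        (LocalizedModule.mkLinearMap (IsLocalRing.maximalIdeal B).primeCompl B) z
      obtain ⟨v, hv⟩ := hunit s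
      refine ⟨(↑v⁻¹ : B) * b, ?_⟩
      rw [← smul_eq_mul, map_smul, ← hz, Submonoid.smul_def, ← hv, smul_smul, Units.inv_mul, one_smul]
  exact Module.Flat.of_linearEquiv ((LinearEquiv.ofBijective _ hbij).restrictScalars A)

end Groth.Agent.S10876
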