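import Groth.Statements.S10880
import Mathlib
import Groth.Agent.FlatDescent.Scheme
-- import your own Groth.Agent.* helpers here

set_option autoImplicit false
set_option backward.isDefEq.respectTransparency.types false
universe u
open CategoryTheory AlgebraicGeometry
open FlatMor

namespace Groth.Agent.S10880

section Aux
open AlgebraicGeometry CategoryTheory Limits TopologicalSpace

theorem regular_of_nilpotent_torsion {A : Type*} [CommRing A] [IsNoetherianRing A] [IsLocalRing A] (p : A)
    (hp : p ∈ IsLocalRing.maximalIdeal A) (hred : _root_.IsReduced (A ⧸ Ideal.span {p}))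
    (hnil : ∀ a : A, IsNilpotent (p * a) → IsNilpotent a) : IsSMulRegular A p := by
  have hpow : ∀ (n : ℕ) (a : A), IsNilpotent (p ^ n * a) → IsNilpotent a := by
    intro n
    induction n with
    | zero => intro a ha; rwa [pow_zero, one_mul] at ha
    | succ n ih => intro a ha; exact ih a (hnil _ (by rwa [← mul_assoc, ← pow_succ']))
  refine IsSMulRegular.of_right_eq_zero_of_smul fun a ha => ?_
  rw [smul_eq_mul] at ha
  have hmem : ∀ k : ℕ, ∃ b, a = p ^ k * b := by
    intro k
    induction k with
    | zero => exact ⟨a, by simp⟩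
    | succ k ih =>
      obtain ⟨b, hb⟩ := ih
      have hbn : IsNilpotent b := hpow (k + 1) b ⟨1, by rw [pow_one, pow_succ', mul_assoc, ← hb, ha]⟩
      obtain ⟨c, hc⟩ := Ideal.mem_span_singleton.mp
        (Ideal.Quotient.eq_zero_iff_mem.mp (hred.eq_zero _ (hbn.map (Ideal.Quotient.mk (Ideal.span {p})))))
      exact ⟨c, by rw [hb, hc, pow_succ, mul_assoc]⟩
  have : a ∈ ⨅ k : ℕ, (Ideal.span {p}) ^ k := Ideal.mem_iInf.mpr fun k => by
    obtain ⟨b, hb⟩ := hmem k
    rw [Ideal.span_singleton_pow, Ideal.mem_span_singleton]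
    exact ⟨b, hb⟩
  rw [Ideal.iInf_pow_eq_bot_of_isLocalRing _ (fun h => IsLocalRing.maximalIdeal.isMaximal A |>.ne_top
    (top_le_iff.mp (h ▸ (Ideal.span_singleton_le_iff_mem _).mpr hp)))] at this
  exact (Submodule.mem_bot A).mp this

theorem isNilpotent_germ_of_dense {X : Scheme.{u}} {D : Set X} (hD : Dense D) (π : Γ(X, ⊤))
    (hDπ : D ⊆ (X.basicOpen π : Set X)) (x : X) (a : X.presheaf.stalk x)
    (ha : IsNilpotent (X.presheaf.germ ⊤ x trivial π * a)) : IsNilpotent a := by
  obtain ⟨n, hn⟩ := ha
  obtain ⟨V, hxV, s, rfl⟩ := TopCat.Presheaf.exists_germ_eq X.presheaf a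
  let πV : Γ(X, V) := (X.presheaf.map (homOfLE (le_top : V ≤ ⊤)).op).hom π
  have hπV : X.presheaf.germ V x hxV πV = X.presheaf.germ ⊤ x trivial π :=
    TopCat.Presheaf.germ_res_apply X.presheaf (homOfLE (le_top : V ≤ ⊤)) x hxV π
  rw [← hπV, ← map_mul, ← map_pow] at hn
  obtain ⟨W, hxW, iWV, iWV', hW⟩ := X.presheaf.germ_eq x hxV hxV ((πV * s) ^ n) 0 (hn.trans (map_zero _).symm)
  obtain ⟨_, ⟨U, hU, rfl⟩, hxU, hUW⟩ := X.isBasis_affineOpens.exists_subset_of_mem_open hxW W.isOpen
  let i : U ⟶ V := homOfLE (le_trans hUW iWV.le)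
  let t : Γ(X, U) := (X.presheaf.map i.op).hom s
  let πU : Γ(X, U) := (X.presheaf.map i.op).hom πV
  have hz : (πU * t) ^ n = 0 := by
    have := congrArg (X.presheaf.map (homOfLE hUW).op).hom hW
    rw [map_zero, map_zero, ← CommRingCat.comp_apply, ← X.presheaf.map_comp] at this
    rw [← map_mul, ← map_pow]
    exact this
  have hempty : X.basicOpen t = ⊥ := by
    have h1 : X.basicOpen (πU * t) = ⊥ := X.basicOpen_eq_bot_of_isNilpotent _ _ ⟨n, hz⟩
    rw [Scheme.basicOpen_mul] at h1
    by_contra hne
    obtain ⟨y, hyD, hy⟩ := hD.exists_mem_open (X.basicOpen t).isOpen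
      (Set.nonempty_iff_ne_empty.mpr fun h => hne (TopologicalSpace.Opens.ext h))
    have hyU : y ∈ U := X.basicOpen_le t hy
    have : y ∈ X.basicOpen πU := by
      have e : πU = (X.presheaf.map (homOfLE (le_top : U ≤ ⊤)).op).hom π := by
        simp only [πU, πV, ← CommRingCat.comp_apply, ← X.presheaf.map_comp]; rfl
      rw [e, Scheme.basicOpen_res]
      exact ⟨hyU, hDπ hyD⟩
    exact (h1.le ⟨this, hy⟩ : y ∈ (⊥ : X.Opens)).elim
  have ht : IsNilpotent t := by
    exact (Scheme.isNilpotent_iff_basicOpen_eq_bot_of_isCompact (IsAffineOpen.isCompact hU) t).mpr hempty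
  have := ht.map (X.presheaf.germ U x hxU).hom
  rwa [TopCat.Presheaf.germ_res_apply] at this

variable {R : Type u} [CommRing R] [IsDomain R] [IsDiscreteValuationRing R] {X : Scheme.{u}}
  (f : X ⟶ Spec (CommRingCat.of R))

theorem flat_stalk [IsLocallyNoetherian X]
    (hred : IsReduced (f.fiber (IsLocalRing.closedPoint R)))
    (hdense : Dense (f.base ⁻¹' {genericPoint (Spec (CommRingCat.of R))})) (x : X) :
    (f.stalkMap x).hom.Flat := by
  obtain ⟨ϖ, hϖ⟩ := IsDiscreteValuationRing.exists_irreducible R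
  let ϖ' : Γ(Spec (CommRingCat.of R), ⊤) := (Scheme.ΓSpecIso (CommRingCat.of R)).inv ϖ
  let π : Γ(X, ⊤) := f.appTop ϖ'
  have hD : (f.base ⁻¹' {genericPoint (Spec (CommRingCat.of R))}) ⊆ (X.basicOpen π : Set X) := by
    intro y hy
    have hmem : f y ∈ (Spec (CommRingCat.of R)).basicOpen ϖ' := by
      rw [show f y = genericPoint (Spec (CommRingCat.of R)) from hy, genericPoint_eq_bot_of_affine,
        basicOpen_eq_of_affine]
      exact fun h => hϖ.ne_zero h
    have : y ∈ f ⁻¹ᵁ (Spec (CommRingCat.of R)).basicOpen ϖ' := hmem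
    rwa [Scheme.preimage_basicOpen] at this
  let Os := (Spec (CommRingCat.of R)).presheaf.stalk (f x)
  let _ : Algebra R Os := StructureSheaf.stalkAlgebra R (f x)
  have hloc : IsLocalization.AtPrime Os (f x).asIdeal :=
    StructureSheaf.IsLocalization.to_stalk R (f x)
  let φ : Os →+* X.presheaf.stalk x := (f.stalkMap x).hom
  algebraize [φ]
  let _ : Algebra R (X.presheaf.stalk x) := (φ.comp (algebraMap R Os)).toAlgebra
  have : IsScalarTower R Os (X.presheaf.stalk x) := IsScalarTower.of_algebraMap_eq fun _ => rfl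
  have hπ : φ (algebraMap R Os ϖ) = X.presheaf.germ ⊤ x trivial π :=
    Scheme.Hom.germ_stalkMap_apply f ⊤ x trivial ϖ'
  have hreg : IsSMulRegular (X.presheaf.stalk x) (φ (algebraMap R Os ϖ)) := by
    by_cases hu : IsUnit (algebraMap R Os ϖ)
    · exact (hu.map φ).isSMulRegular _
    have hx : f x = IsLocalRing.closedPoint R := by
      by_contra hne
      refine hu (IsLocalization.map_units Os (⟨ϖ, fun h => hne ?_⟩ : (f x).asIdeal.primeCompl))
      apply PrimeSpectrum.ext
      rw [IsLocalRing.closedPoint]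
      exact ((IsLocalRing.maximalIdeal.isMaximal R).eq_of_le (f x).2.ne_top (by
        rw [hϖ.maximalIdeal_eq]; exact (Ideal.span_singleton_le_iff_mem _).mpr h)).symm
    refine regular_of_nilpotent_torsion _ (map_nonunit φ _ hu) ?_ (fun a ha => ?_)
    · obtain ⟨z, rfl⟩ := (f.range_fiberι (IsLocalRing.closedPoint R)).ge hx
      let ψ := ((f.fiberι (IsLocalRing.closedPoint R)).stalkMap z).hom
      have hk : RingHom.ker ψ = Ideal.span {φ (algebraMap R Os ϖ)} := by
        refine (Groth.FlatDescent.ker_stalkMap_fiberι f _ z).trans ?_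
        change Ideal.map φ (IsLocalRing.maximalIdeal Os) = _
        have hmax : IsLocalRing.maximalIdeal Os = Ideal.span {algebraMap R Os ϖ} := by
          rw [← IsLocalization.AtPrime.map_eq_maximalIdeal (f (f.fiberι (IsLocalRing.closedPoint R) z)).asIdeal Os,
            ← Set.image_singleton, ← Ideal.map_span]
          congr 1
          exact (congrArg PrimeSpectrum.asIdeal hx).trans hϖ.maximalIdeal_eq
        rw [hmax, Ideal.map_span, Set.image_singleton]
      have hsurj : Function.Surjective ψ := (f.fiberι (IsLocalRing.closedPoint R)).stalkMap_surjective z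
      have e := (Ideal.quotEquivOfEq hk.symm).trans (RingHom.quotientKerEquivOfSurjective hsurj)
      exact isReduced_of_injective e.toRingHom e.injective
    · rw [hπ] at ha
      exact isNilpotent_germ_of_dense hdense π hD x a ha
  have hflatR : Module.Flat R (X.presheaf.stalk x) := by
    rw [Module.Flat.flat_iff_torsion_eq_bot_of_isBezout, eq_bot_iff]
    intro y hy
    obtain ⟨⟨r, hr⟩, hy0⟩ := (Submodule.mem_torsion_iff _).1 hy
    obtain ⟨n, u, rfl⟩ := IsDiscreteValuationRing.eq_unit_mul_pow_irreducible (nonZeroDivisors.ne_zero hr) hϖ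
    change (↑u * ϖ ^ n) • y = 0 at hy0
    rw [mul_smul] at hy0
    have h1 := u.isUnit.smul_eq_zero.mp hy0
    rw [Algebra.smul_def, map_pow] at h1
    exact (Submodule.mem_bot _).mpr ((hreg.pow n).right_eq_zero_of_smul h1)
  exact (Module.flat_iff_of_isLocalization Os (f x).asIdeal.primeCompl (M := X.presheaf.stalk x)).mpr hflatR

end Aux

/-- Let R be a discrete valuation ring and X a locally Noetherian scheme over Spec R whose
scheme-theoretic special fibre is reduced and such that every maximal point of the special fibre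
lies in the closure of the generic fibre, i.e. the generic fibre is dense in X. Then X is flat over
R. -/
theorem result (R : Type u) [CommRing R] [IsDomain R]
    [IsDiscreteValuationRing R] {X : Scheme.{u}} (f : X ⟶ Spec (CommRingCat.of R)) [IsLocallyNoetherian X]
    (hred : IsReduced (f.fiber (IsLocalRing.closedPoint R)))
    (hdense : Dense (f.base ⁻¹' {genericPoint (Spec (CommRingCat.of R))})) : Flat f := by
  exact (AlgebraicGeometry.Flat.iff_flat_stalkMap f).mpr (flat_stalk f hred hdense)

end Groth.Agent.S10880
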