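import Groth.Statements.S10882
import Groth.Agent.LocalDim.Point
import Groth.Agent.S2082
import Groth.Agent.FlatDescent.Scheme
-- import your own Groth.Agent.* helpers here

set_option autoImplicit false
universe u
open CategoryTheory AlgebraicGeometry
open FlatMor

namespace Groth.Agent.S10882

theorem localDim_of_equidim {k : Type u} [Field k] {X : Scheme.{u}} (p : X ⟶ Spec (CommRingCat.of k))
    [LocallyOfFiniteType p] {n : ℕ} (h : ∀ Z ∈ irreducibleComponents (X : Type u), topologicalKrullDim Z = n)
    (x : X) : FlatMor.localDim X x = n := by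
  obtain ⟨m, hm, ⟨η, -, hη, hηm⟩, -⟩ := LocalDim.exists_localDim p x
  rw [hm, ← hηm]
  exact h _ (FibDim.closure_mem_components hη)

theorem dim_stalk_of_isClosed {k : Type u} [Field k] {X : Scheme.{u}} (p : X ⟶ Spec (CommRingCat.of k))
    [LocallyOfFiniteType p] (x : X) (hx : IsClosed ({x} : Set X)) :
    ringKrullDim (X.presheaf.stalk x) = FlatMor.localDim X x := by
  letI : X.Over (Spec (CommRingCat.of k)) := ⟨p⟩
  haveI : LocallyOfFiniteType (X ↘ Spec (CommRingCat.of k)) := ‹LocallyOfFiniteType p›
  obtain ⟨a, -, h, h0⟩ := LocalDim.exists_localDim_eq_stalk k X x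
  rw [h, h0 hx, Nat.cast_zero, add_zero]

/-- Let X and Y be schemes locally of finite type over a field k and f : X → Y a k-morphism, with Y
regular (all local rings regular), X Cohen–Macaulay (all local rings Cohen–Macaulay), X
equidimensional of dimension e, Y equidimensional of dimension d ≤ e, and all fibres of f
equidimensional of dimension e − d (every irreducible component of every fibre has dimension e − d).
Then f is flat. -/
theorem result (k : Type u) [Field k] {X Y : Scheme.{u}}
    (q : Y ⟶ Spec (CommRingCat.of k)) [LocallyOfFiniteType q] (f : X ⟶ Y) [LocallyOfFiniteType (f ≫ q)]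
    (hY : ∀ y : Y, IsRegularLocalRing (Y.presheaf.stalk y))
    (hX : ∀ x : X, LocCoh.IsCohenMacaulayLocalRing (X.presheaf.stalk x))
    (e d : ℕ) (hde : d ≤ e)
    (hXe : ∀ Z ∈ irreducibleComponents (X : Type u), topologicalKrullDim Z = e)
    (hYd : ∀ Z ∈ irreducibleComponents (Y : Type u), topologicalKrullDim Z = d)
    (hfib : ∀ y : Y, ∀ Z ∈ irreducibleComponents (f.base ⁻¹' {y}), topologicalKrullDim Z = (e - d : ℕ)) :
    Flat f := by
  haveI : LocallyOfFiniteType f := locallyOfFiniteType_of_comp f q
  haveI : JacobsonSpace ↥Y := LocallyOfFiniteType.jacobsonSpace q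
  haveI : JacobsonSpace ↥X := LocallyOfFiniteType.jacobsonSpace (f ≫ q)
  haveI : IsLocallyNoetherian Y := LocallyOfFiniteType.isLocallyNoetherian q
  have main : ∀ (y : Y) (z : ↑(f.fiber y)), IsClosed ({f.fiberι y z} : Set X) →
      (f.stalkMap (f.fiberι y z)).hom.Flat := fun y z hx => by
    have hy : IsClosed ({f (f.fiberι y z)} : Set Y) := f.closePoints_subset_preimage_closedPoints hx
    haveI : LocallyOfFiniteType (f.fiberToSpecResidueField y) :=
      MorphismProperty.of_isPullback (P := @LocallyOfFiniteType) (IsPullback.of_hasPullback f (Y.fromSpecResidueField y)) inferInstance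
    have hze : IsClosed ({z} : Set ↑(f.fiber y)) := by
      have h := hx.preimage (f.fiberι y).continuous
      rwa [← Set.image_singleton, (f.fiberι y).isEmbedding.injective.preimage_image] at h
    have e1 : ringKrullDim (X.presheaf.stalk (f.fiberι y z)) = (e : ℕ) :=
      (dim_stalk_of_isClosed (f ≫ q) _ hx).trans (localDim_of_equidim (f ≫ q) hXe _)
    have e2 : ringKrullDim (Y.presheaf.stalk (f (f.fiberι y z))) = (d : ℕ) :=
      (dim_stalk_of_isClosed q _ hy).trans (localDim_of_equidim q hYd _)
    have e3 : ringKrullDim ((f.fiber y).presheaf.stalk z) = (e - d : ℕ) := by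
      refine (dim_stalk_of_isClosed (k := Y.residueField y) (f.fiberToSpecResidueField y) z hze).trans
        (localDim_of_equidim (k := Y.residueField y) (f.fiberToSpecResidueField y) (fun Z hZ => ?_) z)
      have h : f.fiberHomeo y '' Z ∈ irreducibleComponents ↥(f.base ⁻¹' {y}) := by
        refine ⟨hZ.1.image _ (f.fiberHomeo y).continuous.continuousOn, fun W hW hle => ?_⟩
        have := hZ.2 (hW.image _ (f.fiberHomeo y).symm.continuous.continuousOn)
          (fun a ha => ⟨f.fiberHomeo y a, hle ⟨a, ha, rfl⟩, (f.fiberHomeo y).symm_apply_apply a⟩)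
        intro w hw
        exact ⟨(f.fiberHomeo y).symm w, this ⟨w, hw, rfl⟩, (f.fiberHomeo y).apply_symm_apply w⟩
      exact (Groth.Agent.FibreDim.dim_image (f.fiberHomeo y).isEmbedding Z).symm.trans (hfib y _ h)
    let ι := f.fiberι y
    have hker := Groth.FlatDescent.ker_stalkMap_fiberι f y z
    letI := (f.stalkMap (ι z)).hom.toAlgebra
    haveI := hY (f (ι z))
    haveI := hX (ι z)
    haveI : IsLocalHom (algebraMap (Y.presheaf.stalk (f (ι z))) (X.presheaf.stalk (ι z))) :=
      inferInstanceAs (IsLocalHom (f.stalkMap (ι z)).hom)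
    have hsurj : Function.Surjective (ι.stalkMap z).hom := ι.stalkMap_surjective z
    refine Groth.Agent.S2082.result ?_
    rw [show ringKrullDim (X.presheaf.stalk (ι z) ⧸ (IsLocalRing.maximalIdeal (Y.presheaf.stalk (f (ι z)))).map
          (algebraMap (Y.presheaf.stalk (f (ι z))) (X.presheaf.stalk (ι z)))) = (e - d : ℕ) from
      ((ringKrullDim_eq_of_ringEquiv ((Ideal.quotEquivOfEq hker.symm).trans
        (RingHom.quotientKerEquivOfSurjective hsurj))).trans e3), e1, e2, ← Nat.cast_add, Nat.add_sub_cancel' hde]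
  have hclosed : ∀ x : X, IsClosed ({x} : Set X) → (f.stalkMap x).hom.Flat := fun x hx => by
    obtain ⟨z, hz⟩ : x ∈ Set.range (f.fiberι (f x)) := by rw [f.range_fiberι]; exact rfl
    have h := main (f x) z (by rw [hz]; exact hx)
    exact hz ▸ h
  have hall : ∀ x : X, (f.stalkMap x).hom.Flat := by
    have ho := Groth.FlatDescent.isOpen_flatLocus_hom f
    intro x
    by_contra h
    obtain ⟨w, hw, hwc⟩ := nonempty_inter_closedPoints (Z := {x : X | (f.stalkMap x).hom.Flat}ᶜ) ⟨x, h⟩ ho.isClosed_compl.isLocallyClosed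
    exact hw (hclosed w hwc)
  exact (AlgebraicGeometry.Flat.iff_flat_stalkMap f).mpr hall

end Groth.Agent.S10882
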