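import Groth.Statements.S10885
import Groth.Agent.EquidimFlat.Basic
-- import your own Groth.Agent.* helpers here

set_option autoImplicit false
universe u
open CategoryTheory AlgebraicGeometry
open Variety

namespace Groth.Agent.S10885

/-- Let Y be a scheme of finite type over a field k, r ≥ 0, and f : X → Y a morphism of finite type
whose fibre over every maximal point of Y has dimension at least r. Then dim X ≥ r + dim Y. -/
theorem result (k : Type u) [Field k] {X Y : Scheme.{u}}
    (q : Y ⟶ Spec (CommRingCat.of k)) [LocallyOfFiniteType q] [QuasiCompact q]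
    (f : X ⟶ Y) [LocallyOfFiniteType f] [QuasiCompact f] (r : ℕ)
    (hfib : ∀ η : Y, (∀ y : Y, y ⤳ η → y = η) → (r : WithBot ℕ∞) ≤ topologicalKrullDim (f.base ⁻¹' {η})) :
    (r : WithBot ℕ∞) + topologicalKrullDim Y ≤ topologicalKrullDim X := by
  rw [add_comm]
  refine Groth.Agent.EquidimFlat.add_le_of_forall (fun η : Y => Groth.Agent.FibDim.IsMax' η)
    (fun η => topologicalKrullDim (closure ({η} : Set Y))) r (fun η hη => ?_)
    (fun b hb => Groth.Agent.FibDim.topologicalKrullDim_le_of_max hb)
  obtain ⟨w, hw, hrw⟩ : ∃ w : X, f w = η ∧ (r : WithBot ℕ∞) ≤ Groth.Agent.FibreDim.fdim f w := by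
    have hr := hfib η hη
    rcases Nat.eq_zero_or_pos r with h0 | h0
    · subst h0
      obtain ⟨w, hw⟩ : (f.base ⁻¹' {η}).Nonempty := by
        rw [Set.nonempty_iff_ne_empty]
        intro he
        haveI : IsEmpty (TopologicalSpace.IrreducibleCloseds ↥(f.base ⁻¹' {η})) := ⟨fun Z => by
          obtain ⟨⟨a, ha⟩, -⟩ := Z.isIrreducible.nonempty
          rw [he] at ha; exact ha⟩
        rw [show topologicalKrullDim ↥(f.base ⁻¹' {η}) = ⊥ from Order.krullDim_eq_bot] at hr
        exact absurd (le_bot_iff.mp hr) (by simp)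
      obtain ⟨b, hb, -⟩ := Groth.Agent.FibreDim.exists_fdim f w
      exact ⟨w, hw, by rw [hb]; exact Nat.cast_le.mpr (Nat.zero_le b)⟩
    · by_contra hno
      push_neg at hno
      obtain ⟨m, rfl⟩ := Nat.exists_eq_add_of_le h0
      have hle : topologicalKrullDim ↥(f.base ⁻¹' {η}) ≤ (m : WithBot ℕ∞) := by
        have h := Groth.Agent.FibreDim.dim_inter_le f (Z := Set.univ) (O := Set.univ) isClosed_univ isOpen_univ η
          (c := (m : WithBot ℕ∞)) (fun w _ _ hw => by
            obtain ⟨b, hb, -⟩ := Groth.Agent.FibreDim.exists_fdim f w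
            have h' := hno w hw
            rw [hb] at h' ⊢
            have : b < 0 + 1 + m := by exact_mod_cast h'
            exact_mod_cast (by omega : b ≤ m))
        rwa [Set.univ_inter, Set.inter_univ] at h
      have h' : 0 + 1 + m ≤ m := by exact_mod_cast hr.trans hle
      omega
  obtain ⟨a, b, c, ha, hb, hc, hcab⟩ := Groth.Agent.EquidimFlat.fdim_comp f q w
  rw [Groth.Agent.EquidimFlat.fdim_eq_closure, hw] at ha
  rw [Groth.Agent.EquidimFlat.fdim_eq_closure] at hc
  show topologicalKrullDim (closure ({η} : Set Y)) + _ ≤ _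
  refine le_trans ?_ (Groth.Agent.FibDim.dim_closure_le w)
  rw [ha, hc, hcab, Nat.cast_add]
  exact add_le_add le_rfl (hb ▸ hrw)

end Groth.Agent.S10885
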