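import Groth.Statements.S10886
import Mathlib
-- import your own Groth.Agent.* helpers here

set_option autoImplicit false
universe u
open CategoryTheory AlgebraicGeometry
open Curves

namespace Groth.Agent.S10886

open TopologicalSpace Topology

theorem isClosed_singleton_of_ne {X : Scheme.{u}} [IrreducibleSpace X]
    (hX : topologicalKrullDim X = 1) {x : X} (hx : x ≠ genericPoint X) :
    IsClosed ({x} : Set X) := by
  have hgx : genericPoint X ⤳ x := genericPoint_specializes x
  by_contra hc
  obtain ⟨y, hy, hyx⟩ : ∃ y, y ∈ closure ({x} : Set X) ∧ y ≠ x := by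
    by_contra h
    push_neg at h
    exact hc (by rw [← closure_eq_iff_isClosed]; exact (Set.Subset.antisymm (fun y hy => h y hy) subset_closure))
  let c : X → IrreducibleCloseds X := fun z =>
    ⟨closure {z}, isIrreducible_singleton.closure, isClosed_closure⟩
  have lt : ∀ {a b : X}, a ⤳ b → b ≠ a → c b < c a := fun {a b} h hne => by
    refine lt_of_le_of_ne (specializes_iff_closure_subset.mp h) fun he => hne ?_
    have he' : closure ({b} : Set X) = closure {a} := congrArg SetLike.coe he
    exact ((isGenericPoint_closure (x := a)).eq (he' ▸ isGenericPoint_closure (x := b))).symm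
  have h1 : c y < c x := lt (specializes_iff_mem_closure.mpr hy) hyx
  have h2 : c x < c (genericPoint X) := lt hgx hx
  let p : LTSeries (IrreducibleCloseds X) :=
    ⟨2, ![c y, c x, c (genericPoint X)], fun i => by fin_cases i <;> simpa⟩
  have : (2 : WithBot ℕ∞) ≤ topologicalKrullDim X := Order.LTSeries.length_le_krullDim p
  rw [hX] at this
  exact absurd this (by decide)

theorem finite_of_isClosed {X : Scheme.{u}} [IsNoetherian X] [IrreducibleSpace X]
    (hX : topologicalKrullDim X = 1) {Z : Set X} (hZ : IsClosed Z) (hg : genericPoint X ∉ Z) :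
    Z.Finite := by
  obtain ⟨S, hSf, hSc, hSi, rfl⟩ := NoetherianSpace.exists_finite_set_isClosed_irreducible hZ
  refine hSf.sUnion fun t ht => ?_
  obtain ⟨z, hz⟩ := QuasiSober.sober (hSi t ht) (hSc t ht)
  have hzt : z ∈ t := hz.mem
  have : t = {z} := by
    rw [← hz.def, (isClosed_singleton_of_ne hX fun e => hg ⟨t, ht, e ▸ hzt⟩).closure_eq]
  rw [this]
  exact Set.finite_singleton z

theorem finite_or_cofinite {X : Scheme.{u}} [IsNoetherian X] [IrreducibleSpace X]
    (hX : topologicalKrullDim X = 1) {s : Set X} (hs : IsConstructible s) :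
    (genericPoint X ∉ s → s.Finite) ∧ (genericPoint X ∈ s → sᶜ.Finite) := by
  induction hs using IsConstructible.empty_union_induction with
  | open_retrocompact U hU _ =>
    refine ⟨fun hg => ?_, fun hg => finite_of_isClosed hX hU.isClosed_compl fun h => h hg⟩
    rcases U.eq_empty_or_nonempty with rfl | ⟨x, hx⟩
    · exact Set.finite_empty
    · exact absurd ((genericPoint_specializes x).mem_open hU hx) hg
  | union a _ b _ ha hb =>
    refine ⟨fun hg => (ha.1 fun h => hg (Or.inl h)).union (hb.1 fun h => hg (Or.inr h)), ?_⟩
    rintro (hg | hg)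
    · exact (ha.2 hg).subset (Set.compl_subset_compl.mpr Set.subset_union_left)
    · exact (hb.2 hg).subset (Set.compl_subset_compl.mpr Set.subset_union_right)
  | compl a _ ha =>
    exact ⟨fun hg => ha.2 (not_not.mp hg), fun hg => by rw [compl_compl]; exact ha.1 hg⟩

theorem finite_of_notMem {X : Scheme.{u}} [IsNoetherian X] [IrreducibleSpace X]
    (hX : topologicalKrullDim X = 1) {s : Set X} (hs : IsConstructible s)
    (hg : genericPoint X ∉ s) : s.Finite ∧ ∀ x ∈ s, IsClosed ({x} : Set X) :=
  ⟨(finite_or_cofinite hX hs).1 hg, fun x hx => isClosed_singleton_of_ne hX fun e => hg (e ▸ hx)⟩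


/-- In an irreducible Noetherian scheme of dimension one every constructible subset is either a finite
set of closed points or the complement of such a set; in particular it is open or closed. -/
theorem result {X : Scheme.{u}} [IsNoetherian X]
    [IrreducibleSpace X] (hX : topologicalKrullDim X = 1) (s : Set X) (hs : Topology.IsConstructible s) :
    (s.Finite ∧ (∀ x ∈ s, IsClosed ({x} : Set X))) ∨ (sᶜ.Finite ∧ ∀ x ∈ sᶜ, IsClosed ({x} : Set X)) := by
  by_cases hg : genericPoint X ∈ s
  · exact Or.inr (finite_of_notMem hX hs.compl (fun h => h hg))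
  · exact Or.inl (finite_of_notMem hX hs hg)

end Groth.Agent.S10886
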