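import Groth.Statements.S10888
import Groth.Agent.FibrewiseCrit.Pointwise
-- import your own Groth.Agent.* helpers here

set_option autoImplicit false
set_option linter.style.haveILetI false
set_option backward.isDefEq.respectTransparency false
open AlgebraicGeometry CategoryTheory CategoryTheory.Limits
universe u
open CategoryTheory AlgebraicGeometry
open FlatMor

namespace Groth.Agent.S10888

/-- Let g : X → S and h : Y → S be proper and of finite presentation with g flat, and f : X → Y a
morphism over S. Then the locus U of points of S over which the fibre morphism X_s → Y_s is an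
isomorphism is an open subset of S, and f restricts to an isomorphism over U. -/
theorem result {X Y S : Scheme.{u}} (g : X ⟶ S) (h : Y ⟶ S)
    [IsProper g] [LocallyOfFinitePresentation g] [Flat g] [IsProper h] [LocallyOfFinitePresentation h]
    (f : X ⟶ Y) (w : f ≫ h = g) :
    ∃ U : S.Opens, (∀ s : S, s ∈ U ↔ ∃ e : g.fiber s ≅ h.fiber s, e.hom ≫ h.fiberι s = g.fiberι s ≫ f) ∧
      IsIso (f ∣_ (h ⁻¹ᵁ U)) := by
  subst w
  haveI : LocallyOfFinitePresentation f :=
    Groth.FibrewiseCrit.locallyOfFinitePresentation_of_comp f h inferInstance inferInstance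
  haveI : IsProper f := IsProper.of_comp f h
  let E : X.Opens := f.smoothLocus ⊓ ⟨Groth.FibrewiseCrit.fuLocus f, Groth.FibrewiseCrit.isOpen_fuLocus f⟩
  haveI : Smooth (E.ι ≫ f) := Groth.FibrewiseCrit.smooth_comp_of_forall_mem _ f fun w => w.2.1
  haveI : FormallyUnramified (E.ι ≫ f) := (Groth.FibrewiseCrit.formallyUnramified_iff_forall_mem_fuLocus _).mpr
    fun w => (Groth.FibrewiseCrit.mem_fuLocus_comp_left _ f w).mpr w.2.2
  have hfE : IsOpen ((f : X → Y) '' (E : Set X)) := by
    have := (E.ι ≫ f).isOpenMap.isOpen_range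
    rwa [Scheme.Hom.comp_base, TopCat.coe_comp, Set.range_comp, Scheme.Opens.range_ι] at this
  let m : pullback (E.ι ≫ f) (E.ι ≫ f) ⟶ pullback f f :=
    pullback.map _ _ _ _ E.ι E.ι (𝟙 Y) (Category.comp_id _) (Category.comp_id _)
  have hΔE : IsOpen ((pullback.diagonal f : X → _) '' (E : Set X)) := by
    have hm : pullback.diagonal (E.ι ≫ f) ≫ m = E.ι ≫ pullback.diagonal f := by
      apply pullback.hom_ext <;> simp [m]
    have := (pullback.diagonal (E.ι ≫ f) ≫ m).isOpenEmbedding.isOpen_range
    rwa [hm, Scheme.Hom.comp_base, TopCat.coe_comp, Set.range_comp, Scheme.Opens.range_ι] at this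
  let q := pullback.fst f f ≫ f ≫ h
  let Z : Set S := (f ≫ h) '' (E : Set X)ᶜ ∪ h '' ((f : X → Y) '' (E : Set X))ᶜ ∪
    q '' ((pullback.diagonal f : X → _) '' (E : Set X))ᶜ
  have hZ : IsClosed Z := (((f ≫ h).isClosedMap _ E.2.isClosed_compl).union
    (h.isClosedMap _ hfE.isClosed_compl)).union (q.isClosedMap _ hΔE.isClosed_compl)
  let U : S.Opens := ⟨Zᶜ, hZ.isOpen_compl⟩
  let V := h ⁻¹ᵁ U
  have hE : ∀ x : X, f x ∈ V → x ∈ E := fun x hx => by
    by_contra hn
    exact hx (Or.inl (Or.inl ⟨x, hn, Scheme.Hom.comp_apply _ _ _⟩))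
  haveI : IsIso (f ∣_ V) := by
    have hι : ∀ x : (f ⁻¹ᵁ V : X.Opens), (f ⁻¹ᵁ V).ι x ∈ E := fun x => hE _ x.2
    haveI : Smooth (f ∣_ V) := by
      have : Smooth ((f ⁻¹ᵁ V).ι ≫ f) := Groth.FibrewiseCrit.smooth_comp_of_forall_mem _ f fun x => (hι x).1
      rw [← morphismRestrict_ι] at this
      haveI : LocallyOfFinitePresentation (f ∣_ V) := inferInstance
      rw [← Scheme.Hom.smoothLocus_eq_top_iff, ← top_le_iff]
      intro x _
      rw [← Groth.FibrewiseCrit.mem_smoothLocus_comp_right (f ∣_ V) V.ι, Scheme.Hom.smoothLocus_eq_top]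
      trivial
    haveI : FormallyUnramified (f ∣_ V) := (Groth.FibrewiseCrit.formallyUnramified_iff_forall_mem_fuLocus _).mpr fun x => by
      rw [← Groth.FibrewiseCrit.mem_fuLocus_comp_right (f ∣_ V) V.ι, morphismRestrict_ι,
        Groth.FibrewiseCrit.mem_fuLocus_comp_left]
      exact (hι x).2
    haveI : Surjective (f ∣_ V) := ⟨fun y => by
      have hy : y.1 ∈ (f : X → Y) '' (E : Set X) := by
        by_contra hn
        exact y.2 (Or.inl (Or.inr ⟨y.1, hn, rfl⟩))
      obtain ⟨x, -, hxy⟩ := hy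
      refine ⟨⟨x, show f x ∈ V from hxy ▸ y.2⟩, V.ι.isOpenEmbedding.injective ?_⟩
      rw [← Scheme.Hom.comp_apply, morphismRestrict_ι]
      exact hxy⟩
    haveI : UniversallyInjective (f ∣_ V) := by
      rw [UniversallyInjective.iff_diagonal]
      refine ⟨fun w => ?_⟩
      let m' : pullback (f ∣_ V) (f ∣_ V) ⟶ pullback f f :=
        pullback.map _ _ _ _ (f ⁻¹ᵁ V).ι (f ⁻¹ᵁ V).ι V.ι (morphismRestrict_ι f V) (morphismRestrict_ι f V)
      have hm' : pullback.diagonal (f ∣_ V) ≫ m' = (f ⁻¹ᵁ V).ι ≫ pullback.diagonal f := by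
        apply pullback.hom_ext <;> simp [m']
      have hmem : m' w ∈ (pullback.diagonal f : X → _) '' (E : Set X) := by
        by_contra hn
        have hw : f (pullback.fst f f (m' w)) ∈ V := by
          have e1 : m' ≫ pullback.fst f f = pullback.fst _ _ ≫ (f ⁻¹ᵁ V).ι := pullback.lift_fst _ _ _
          rw [show pullback.fst f f (m' w) = (m' ≫ pullback.fst f f) w from (Scheme.Hom.comp_apply _ _ _).symm, e1]
          exact (pullback.fst (f ∣_ V) (f ∣_ V) w).2
        refine hw (Or.inr ⟨m' w, hn, ?_⟩)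
        simp [q]
      obtain ⟨x, -, hx⟩ := hmem
      have hxV : f x ∈ V := by
        have e1 : m' ≫ pullback.fst f f = pullback.fst _ _ ≫ (f ⁻¹ᵁ V).ι := pullback.lift_fst _ _ _
        have hx' : pullback.fst f f (pullback.diagonal f x) = x := by
          rw [← Scheme.Hom.comp_apply, pullback.diagonal_fst]; rfl
        rw [← hx', hx, show pullback.fst f f (m' w) = (m' ≫ pullback.fst f f) w from (Scheme.Hom.comp_apply _ _ _).symm, e1]
        exact (pullback.fst (f ∣_ V) (f ∣_ V) w).2
      refine ⟨⟨x, hxV⟩, m'.isOpenEmbedding.injective ?_⟩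
      rw [← Scheme.Hom.comp_apply, hm']
      exact hx
    haveI := Groth.FibrewiseCrit.mono_of_formallyUnramified_of_universallyInjective (f ∣_ V)
    haveI := IsOpenImmersion.of_flat_of_mono (f ∣_ V)
    exact (isIso_iff_isOpenImmersion_and_surjective _).mpr ⟨inferInstance, inferInstance⟩
  refine ⟨U, fun s => ⟨fun hs => ?_, ?_⟩, inferInstance⟩
  · let φ : (f ≫ h).fiber s ⟶ h.fiber s := pullback.map (f ≫ h) (S.fromSpecResidueField s) h (S.fromSpecResidueField s) f (𝟙 _) (𝟙 _)
      (by rw [Category.comp_id]) (by rw [Category.comp_id, Category.id_comp])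
    have h1 : φ ≫ h.fiberι s = (f ≫ h).fiberι s ≫ f := pullback.lift_fst _ _ _
    have hsq := Groth.FibrewiseCrit.isPullback_fiberMap rfl s φ h1
      ((pullback.lift_snd _ _ _).trans (Category.comp_id _))
    have hk : Set.range (h.fiberι s) ⊆ Set.range V.ι := by
      rw [Scheme.Opens.range_ι, Scheme.Hom.range_fiberι]
      intro y hy
      show h y ∈ U
      rw [show h y = s from hy]; exact hs
    let k := IsOpenImmersion.lift V.ι (h.fiberι s) hk
    have hsq2 : IsPullback ((f ⁻¹ᵁ V).ι) (f ∣_ V) f V.ι := (isPullback_morphismRestrict f V).flip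
    have : IsIso (pullback.snd f (h.fiberι s)) := by
      rw [← IsOpenImmersion.lift_fac V.ι (h.fiberι s) hk]
      refine Groth.FibrewiseCrit.of_snd_comp (P := MorphismProperty.isomorphisms Scheme) f V.ι k ?_
      show IsIso (pullback.snd f V.ι)
      rw [← hsq2.isoPullback_inv_snd]
      infer_instance
    have : IsIso φ := by rw [← hsq.isoPullback_hom_snd]; infer_instance
    exact ⟨asIso φ, h1⟩
  · rintro ⟨e, he⟩
    have h2 : e.hom ≫ h.fiberToSpecResidueField s = (f ≫ h).fiberToSpecResidueField s := by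
      rw [← cancel_mono (S.fromSpecResidueField s)]
      simp only [Category.assoc, ← Scheme.Hom.fiber_fac]
      rw [← Category.assoc, he, Category.assoc]
    have hsq := Groth.FibrewiseCrit.isPullback_fiberMap rfl s e.hom he h2
    haveI hI : IsIso (pullback.snd f (h.fiberι s)) := by
      rw [← hsq.isoPullback_inv_snd]
      infer_instance
    have hEs : ∀ x, h (f x) = s → x ∈ E := by
      intro x hx
      have hx0 : (f ≫ h) x = s := hx
      subst hx0
      refine ⟨?_, ?_⟩
      · haveI : LocallyOfFinitePresentation e.hom := inferInstance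
        rw [SetLike.mem_coe, Groth.FibrewiseCrit.mem_smoothLocus_iff_fiberMap f h x (Flat.stalkMap _ _) e.hom hsq
          ((f ≫ h).asFiber x) ((f ≫ h).fiberι_asFiber x), Scheme.Hom.smoothLocus_eq_top]
        trivial
      · show x ∈ Groth.FibrewiseCrit.fuLocus f
        rw [← (f ≫ h).fiberι_asFiber x, ← Groth.FibrewiseCrit.mem_fuLocus_of_isPullback hsq]
        exact (Groth.FibrewiseCrit.formallyUnramified_iff_forall_mem_fuLocus _).mp inferInstance _
    have hfst : ∀ (k : ↥(pullback f (h.fiberι s))), h (f (pullback.fst f (h.fiberι s) k)) = s := by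
      intro k
      rw [show f (pullback.fst f (h.fiberι s) k) = (pullback.fst f (h.fiberι s) ≫ f) k from (Scheme.Hom.comp_apply _ _ _).symm,
        pullback.condition, Scheme.Hom.comp_apply]
      have : h.fiberι s (pullback.snd f (h.fiberι s) k) ∈ h ⁻¹' {s} := by
        rw [← Scheme.Hom.range_fiberι]; exact ⟨_, rfl⟩
      exact this
    rintro ((⟨x, hx, hxs⟩ | ⟨y, hy, hys⟩) | ⟨w, hw, hws⟩)
    · exact hx (hEs x hxs)
    · obtain ⟨z, hz⟩ : y ∈ Set.range (h.fiberι s) := by rw [Scheme.Hom.range_fiberι]; exact hys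
      obtain ⟨p, rfl⟩ := (pullback.snd f (h.fiberι s)).surjective z
      refine hy ⟨pullback.fst f (h.fiberι s) p, hEs _ (hfst p), ?_⟩
      rw [← hz, ← Scheme.Hom.comp_apply, pullback.condition, Scheme.Hom.comp_apply]
    · haveI := Groth.FibrewiseCrit.diagonal_fibres (P := @Surjective) f h s inferInstance
      obtain ⟨z, hz⟩ : w ∈ Set.range (q.fiberι s) := by rw [Scheme.Hom.range_fiberι]; exact hws
      obtain ⟨p, rfl⟩ := (pullback.snd (pullback.diagonal f) (q.fiberι s)).surjective z
      have hpw : pullback.diagonal f (pullback.fst (pullback.diagonal f) (q.fiberι s) p) = w := by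
        rw [← hz, ← Scheme.Hom.comp_apply, pullback.condition, Scheme.Hom.comp_apply]
      refine hw ⟨_, hEs _ ?_, hpw⟩
      refine Eq.trans ?_ hws
      rw [show q w = q (pullback.diagonal f (pullback.fst (pullback.diagonal f) (q.fiberι s) p)) from congrArg _ hpw.symm]
      have hd : pullback.fst f f (pullback.diagonal f (pullback.fst (pullback.diagonal f) (q.fiberι s) p)) =
          pullback.fst (pullback.diagonal f) (q.fiberι s) p := by
        rw [← Scheme.Hom.comp_apply, pullback.diagonal_fst]; rfl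
      show _ = (pullback.fst f f ≫ f ≫ h) _
      rw [Scheme.Hom.comp_apply, hd, Scheme.Hom.comp_apply]

end Groth.Agent.S10888
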