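import Groth.Statements.S9739
import Groth.Agent.GeomUnib.FibreDimSemi
import Groth.Agent.FlatGenFibre.Basic
-- import your own Groth.Agent.* helpers here

set_option autoImplicit false
universe u
open FlatMor

namespace Groth.Agent.S9739

open AlgebraicGeometry CategoryTheory Limits in
/-- Let f : X ⟶ S be flat and locally of finite presentation, and let x' ⤳ x be points of X. Assume the
closure of x in its fibre is one of that fibre's irreducible components. Then the fibre through x'
has the same local dimension at x' as the fibre through x has at x. -/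
theorem result {X S : Scheme.{u}} (f : X ⟶ S) [Flat f] [LocallyOfFinitePresentation f]
    (x x' : X) (hsp : x' ⤳ x) (hgen : ∃ Z ∈ irreducibleComponents ↥(f.fiber (f x)), IsGenericPoint (f.asFiber x) Z) :
    FlatMor.fibreDimAt f x' = FlatMor.fibreDimAt f x := by
  refine le_antisymm ?_ ?_
  · obtain ⟨O, hxO, hO⟩ := GeomUnib.exists_nhds_fibreDimAt_le f x
    exact hO x' (hsp.mem_open O.2 hxO)
  obtain ⟨U, hU, V, hV, hVU, hxV, -, n, φ, hn, hqf⟩ := FibreDim.exists_chart f x ⊤ trivial
  letI := (f.appLE U V hVU).hom.toAlgebra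
  haveI : Module.Flat Γ(S, U) Γ(X, V) := RingHom.flat_algebraMap_iff.1 (f.flat_appLE hU hV hVU)
  haveI : Algebra.FinitePresentation Γ(S, U) Γ(X, V) :=
    RingHom.finitePresentation_algebraMap.1 (f.finitePresentation_appLE hU hV hVU)
  have hmax : ∀ x₁ : X, f.base x₁ = f.base x → x ∈ closure {x₁} → x₁ = x := by
    intro x₁ h₁ hcl
    obtain ⟨Z, hZ, hxZ⟩ := hgen
    obtain ⟨t, rfl⟩ : x₁ ∈ Set.range (f.fiberι (f.base x)) := by
      rw [f.range_fiberι]; exact h₁
    have ht : t ⤳ f.asFiber x := (f.fiberι _).isEmbedding.toIsInducing.specializes_iff.1 (by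
      rw [f.fiberι_asFiber]
      exact specializes_iff_mem_closure.2 hcl)
    have hsub : Z ⊆ closure {t} := by
      rw [← hxZ.def]
      exact closure_minimal (Set.singleton_subset_iff.2 (specializes_iff_mem_closure.1 ht)) isClosed_closure
    have heq : closure {t} ⊆ Z := hZ.2 isIrreducible_singleton.closure hsub
    have : t = f.asFiber x := (isGenericPoint_def.2 (Set.Subset.antisymm heq hsub) : IsGenericPoint t Z).eq hxZ
    rw [this, f.fiberι_asFiber]
  have hx'V : x' ∈ V := hsp.mem_open V.2 hxV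
  let q := hV.primeIdealOf ⟨x, hxV⟩
  let q' := hV.primeIdealOf ⟨x', hx'V⟩
  have hle : q'.asIdeal ≤ q.asIdeal := by
    refine (PrimeSpectrum.le_iff_specializes q' q).2 (hV.fromSpec.isOpenEmbedding.toIsInducing.specializes_iff.1 ?_)
    rw [hV.fromSpec_primeIdealOf, hV.fromSpec_primeIdealOf]; exact hsp
  have hinj : Function.Injective (FibreDim.quotMap φ q.asIdeal) := by
    rw [← (FibreDim.fdim_chart f hU hV hVU x hxV φ hqf).2, ← FibreDim.fibreDimAt_of_maximal f x hmax, hn]
  obtain ⟨g, hg, hgq, hgA, hginj⟩ :=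
    FlatGenFibre.exists_le_injective_quotMap φ q.asIdeal q'.asIdeal hle hinj
  let G : PrimeSpectrum Γ(X, V) := ⟨g, hg⟩
  have hGV : hV.fromSpec G ∈ V := hV.range_fromSpec.le ⟨G, rfl⟩
  have hG : hV.primeIdealOf ⟨hV.fromSpec G, hGV⟩ = G :=
    hV.fromSpec.isOpenEmbedding.injective (hV.fromSpec_primeIdealOf _)
  have hwx : hV.fromSpec G ⤳ x' := by
    have := ((PrimeSpectrum.le_iff_specializes G q').1 hgq).map hV.fromSpec.continuous
    rwa [hV.fromSpec_primeIdealOf] at this
  have hqg : FibreDim.IsQFAt φ (hV.primeIdealOf ⟨hV.fromSpec G, hGV⟩).asIdeal := by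
    refine FibreDim.isQFAt_of_le φ _ _ ?_ hqf
    rw [hG]
    exact hgq.trans hle
  have hnf : FibreDim.fdim f (hV.fromSpec G) = n := by
    rw [(FibreDim.fdim_chart f hU hV hVU _ hGV φ hqg).2, hG]
    exact hginj
  rw [hn, ← hnf]
  exact FibreDim.fdim_le_fibreDimAt f hwx

end Groth.Agent.S9739
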