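import Groth.Statements.S10889
import Groth.Agent.GeomUnib.FibreDimNhds
import Groth.Agent.S9739
import Groth.Agent.S1333
import Groth.Agent.SpecSp.Constr
import Groth.Agent.DimZeroFin.Basic
-- import your own Groth.Agent.* helpers here

set_option autoImplicit false
universe u
open CategoryTheory AlgebraicGeometry
open FlatMor

namespace Groth.Agent.S10889

/-- Let f : X → Y be proper, flat and of finite presentation, and let V be the set of points of Y whose
fibre is (non-empty and) zero-dimensional. Then V is a clopen subset of Y, and over every open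
subset of V the restriction of f is finite, hence finite locally free. -/
theorem result {X Y : Scheme.{u}} (f : X ⟶ Y) [IsProper f] [Flat f]
    [LocallyOfFinitePresentation f] :
    IsClopen {y : Y | topologicalKrullDim (f.base ⁻¹' {y}) = 0} ∧
      ∀ U : Y.Opens, (U : Set Y) ⊆ {y : Y | topologicalKrullDim (f.base ⁻¹' {y}) = 0} → IsFinite (f ∣_ U) := by
  set V := {y : Y | topologicalKrullDim (f.base ⁻¹' {y}) = 0}
  have hopen : IsOpenMap f.base := f.isOpenMap
  have hclosed : IsClosedMap f.base := f.isClosedMap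
  set B := {x : X | (1 : ℕ) ≤ FlatMor.fibreDimAt f x}
  have hB : IsClosed B := Groth.Agent.GeomUnib.FibreDimNhds.isClosed_le_fibreDimAt f 1
  have hVeq : V = Set.range f.base \ (f.base '' B) := by
    ext y
    constructor
    · intro hy
      have hne : (f.base ⁻¹' {y}).Nonempty := by
        by_contra he
        rw [Set.not_nonempty_iff_eq_empty] at he
        have h0 : topologicalKrullDim (f.base ⁻¹' {y}) = 0 := hy
        rw [he] at h0
        rw [show topologicalKrullDim (∅ : Set X) = ⊥ from Order.krullDim_eq_bot_iff.mpr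
          ⟨fun C => C.2.nonempty.elim fun z _ => z.2.elim⟩] at h0
        exact absurd h0 (by simp)
      obtain ⟨x, hx⟩ := hne
      refine ⟨⟨x, hx⟩, ?_⟩
      rintro ⟨z, hz, hzy⟩
      obtain ⟨n, hn, ⟨w, hw, -, hwn⟩, -⟩ := Groth.Agent.FibreDim.exists_fibreDimAt_eq f z
      have h1 : (1 : ℕ) ≤ FlatMor.fibreDimAt f z := hz
      have h2 : FibreDim.fdim f w ≤ topologicalKrullDim (f.base ⁻¹' {y}) := by
        rw [FibreDim.fdim, show f.base w = y from (hw.trans hzy)]
        exact Groth.Agent.FibreDim.dim_mono Set.inter_subset_right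
      rw [hwn, ← hn, show topologicalKrullDim (f.base ⁻¹' {y}) = 0 from hy] at h2
      exact absurd (h1.trans h2) (by simp)
    · rintro ⟨⟨x, hx⟩, hn⟩
      show topologicalKrullDim (f.base ⁻¹' {y}) = 0
      haveI : Nonempty (TopologicalSpace.IrreducibleCloseds ↥(f.base ⁻¹' {y})) :=
        ⟨⟨closure {⟨x, hx⟩}, isIrreducible_singleton.closure, isClosed_closure⟩⟩
      refine le_antisymm ?_ (Order.krullDim_nonneg (α := TopologicalSpace.IrreducibleCloseds ↥(f.base ⁻¹' {y})))
      by_contra hgt
      have h1 : ((1 : ℕ) : WithBot ℕ∞) ≤ topologicalKrullDim ↥(f.fiber y) := by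
        rw [Groth.Agent.GeomUnib.FibreDimNhds.dim_fibre_eq]
        rw [not_le] at hgt
        cases h : topologicalKrullDim ↥(f.base ⁻¹' {y}) with
        | bot => rw [h] at hgt; exact absurd hgt (by simp)
        | coe e =>
          rw [h] at hgt
          have : (0 : ℕ∞) < e := WithBot.coe_lt_coe.mp hgt
          exact WithBot.coe_le_coe.mpr (Order.one_le_iff_pos.mpr this)
      obtain ⟨w, hw, hwn⟩ := Groth.Agent.GeomUnib.FibreDimNhds.exists_le_fdim f h1
      exact hn ⟨w, hwn.trans (Groth.Agent.FibreDim.fdim_le_fibreDimAt f specializes_rfl), hw⟩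
  have hgen : StableUnderGeneralization (f.base '' B) := by
    rintro y y' hyy ⟨x, hx, rfl⟩
    obtain ⟨n, hn, ⟨w, hw, -, hwn⟩, -⟩ := Groth.Agent.FibreDim.exists_fibreDimAt_eq f x
    let w₀ := f.asFiber w
    obtain ⟨ζ, hζ⟩ := QuasiSober.sober (isIrreducible_irreducibleComponent (x := w₀)) isClosed_irreducibleComponent
    set η := f.fiberι (f w) ζ
    have hηw : η ⤳ w := by
      have := (hζ.specializes mem_irreducibleComponent).map (f.fiberι (f w)).continuous
      rwa [show f.fiberι (f w) w₀ = w from f.fiberι_asFiber w] at this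
    have hηy : f η = f w := (f.range_fiberι (f w)).le ⟨ζ, rfl⟩
    have key : ∀ (y₀ : Y) (z : ↥(f.fiber y₀)) (e : X), f e = y₀ → f.fiberι y₀ z = e →
        (∃ Z ∈ irreducibleComponents ↥(f.fiber y₀), IsGenericPoint z Z) →
        ∃ Z ∈ irreducibleComponents ↥(f.fiber (f e)), IsGenericPoint (f.asFiber e) Z := by
      rintro _ z e rfl he hZ
      rwa [show f.asFiber e = z from (f.fiberι (f e)).isEmbedding.injective ((f.fiberι_asFiber e).trans he.symm)]
    have hη1 : (1 : ℕ) ≤ FlatMor.fibreDimAt f η := by
      refine le_trans ?_ (Groth.Agent.FibreDim.fdim_le_fibreDimAt f specializes_rfl)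
      refine le_trans (le_trans hx (hn.trans hwn.symm).le) ?_
      rw [FibreDim.fdim, FibreDim.fdim, show f.base η = f.base w from hηy]
      exact Groth.Agent.FibreDim.dim_mono (Set.inter_subset_inter_left _
        (closure_minimal (Set.singleton_subset_iff.mpr hηw.mem_closure) isClosed_closure))
    have hy' : y' ⤳ f η := by rw [hηy, show f w = f x from hw]; exact hyy
    obtain ⟨x', hx', hx'y⟩ := (Flat.generalizingMap f) hy'
    refine ⟨x', ?_, hx'y⟩
    show (1 : ℕ) ≤ FlatMor.fibreDimAt f x'
    rw [Groth.Agent.S9739.result f η x' hx' (key _ ζ η hηy rfl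
      ⟨_, irreducibleComponent_mem_irreducibleComponents w₀, hζ⟩)]
    exact hη1
  have hVopen : IsOpen V := by
    rw [hVeq]; exact hopen.isOpen_range.sdiff (hclosed _ hB)
  have hVspec : StableUnderSpecialization V := by
    rw [hVeq]
    intro a b hab ha
    exact ⟨hab.mem_closed hclosed.isClosed_range ha.1, fun hb => ha.2 (hgen hab hb)⟩
  have hVcons : Topology.IsLocallyConstructible V := by
    have h := Groth.Agent.S1333.result f 0
    have e : V = {y : ↑Y | topologicalKrullDim ↑(f.fiber y) = 0} := by
      ext y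
      show _ = _ ↔ _ = _
      rw [Groth.Agent.GeomUnib.FibreDimNhds.dim_fibre_eq]
    rw [e]; exact h
  have hVclosed : IsClosed V := by
    rw [TopologicalSpace.IsOpenCover.isClosed_iff_coe_preimage (iSup_affineOpens_eq_top Y : TopologicalSpace.IsOpenCover fun i : Y.affineOpens => (i : Y.Opens))]
    intro W
    have hW : IsAffineOpen W.1 := W.2
    let j : Spec Γ(Y, W.1) ⟶ Y := hW.fromSpec
    have hc : Topology.IsConstructible (j.base ⁻¹' V) :=
      (hVcons.preimage_of_isOpenEmbedding j.isOpenEmbedding).isConstructible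
    haveI : SpectralSpace ↥(Spec Γ(Y, W.1)) := inferInstanceAs (SpectralSpace (PrimeSpectrum Γ(Y, W.1)))
    have hcl : IsClosed (j.base ⁻¹' V) := SpecSp.isClosed_of_stableUnderSpecialization
      (Groth.Agent.SpecSp.isClopen_cons_of_isConstructible hc).1 (hVspec.preimage j.continuous)
    have h2 : (Subtype.val ⁻¹' V : Set ↥(W : Y.Opens)) = hW.isoSpec.hom.base ⁻¹' (j.base ⁻¹' V) := by
      ext z
      show z.1 ∈ V ↔ (hW.isoSpec.hom ≫ hW.fromSpec) z ∈ V
      rw [IsAffineOpen.isoSpec_hom_fromSpec]
      rfl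
    show IsClosed (Subtype.val ⁻¹' V : Set ↥(W : Y.Opens))
    rw [h2]
    exact hcl.preimage hW.isoSpec.hom.continuous
  refine ⟨⟨hVclosed, hVopen⟩, fun U hU => ?_⟩
  haveI : IsProper (f ∣_ U) := IsZariskiLocalAtTarget.restrict ‹IsProper f› U
  haveI : LocallyQuasiFinite (f ∣_ U) := by
    refine LocallyQuasiFinite.of_finite_preimage_singleton _ fun u => ?_
    have h0 : topologicalKrullDim ↥(f.fiber u.1) ≤ 0 := by
      rw [Groth.Agent.GeomUnib.FibreDimNhds.dim_fibre_eq]; exact (hU u.2).le
    haveI : LocallyOfFiniteType (f.fiberToSpecResidueField u.1) :=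
      MorphismProperty.of_isPullback (P := @LocallyOfFiniteType) (IsPullback.of_hasPullback f (Y.fromSpecResidueField u.1)) inferInstance
    haveI : IsLocallyNoetherian (f.fiber u.1) :=
      LocallyOfFiniteType.isLocallyNoetherian (f.fiberToSpecResidueField u.1)
    haveI : AlgebraicGeometry.IsNoetherian (f.fiber u.1) := {}
    haveI := Groth.Agent.DimZeroFin.discreteTopology_of_forall_specializes (T := ↥(f.fiber u.1))
      fun a b => Groth.Agent.DimZeroFin.eq_of_specializes_of_dim_le_zero h0
    haveI : Finite ↥(f.fiber u.1) := finite_of_compact_of_discrete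
    have hfin : (f.base ⁻¹' {u.1}).Finite := by
      rw [← Scheme.Hom.range_fiberι]; exact Set.finite_range _
    refine (hfin.preimage ((f ⁻¹ᵁ U).ι.isOpenEmbedding.injective.injOn)).subset fun z hz => ?_
    show ((f ⁻¹ᵁ U).ι ≫ f) z = u.1
    rw [← morphismRestrict_ι, Scheme.Hom.comp_apply, show (f ∣_ U) z = u from hz]
    rfl
  exact IsFinite.of_isProper_of_locallyQuasiFinite _

end Groth.Agent.S10889
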