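import Groth.Statements.S10890
import Mathlib
-- import your own Groth.Agent.* helpers here

set_option autoImplicit false
universe u
open CAlgX

namespace Groth.Agent.S10890

/-- (i) ⇔ (ii): let R be a local ring, A an n × m matrix over R regarded as a linear map R^m → R^n, and
1 ≤ r ≤ n. Then the image of A is a direct summand of R^n of rank r if and only if every (r+1) ×
(r+1) minor of A is zero and the r × r minors of A generate the unit ideal. (The printed statement
is over an arbitrary ring with 'direct summand of rank r'; its proof localises at once, and this row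
states the local case, where a direct summand of R^n is free and its rank is its finrank.) -/
theorem result (R : Type u) [CommRing R] [IsLocalRing R] (n m r : ℕ)
    (hr : 1 ≤ r) (hrn : r ≤ n) (A : Matrix (Fin n) (Fin m) R) :
    (∃ N' : Submodule R (Fin n → R), IsCompl (LinearMap.range (Matrix.mulVecLin A)) N' ∧
        Module.finrank R (LinearMap.range (Matrix.mulVecLin A)) = r) ↔
      (CAlgX.minorIdeal A (r + 1) = ⊥ ∧ CAlgX.minorIdeal A r = ⊤) := by
  classical
  have hexp : ∀ {k : ℕ} (L : Matrix (Fin r) (Fin k) R) (N : Matrix (Fin k) (Fin r) R),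
      (L * N).det ∈ Ideal.span (Set.range fun f : Fin r → Fin k => (N.submatrix f id).det) := by
    intro k L N
    have hrow : L * N = fun i => ∑ j, L i j • N j := by
      ext i l
      simp [Matrix.mul_apply]
    rw [hrow]
    show Matrix.detRowAlternating.toMultilinearMap (fun i => ∑ j, L i j • N j) ∈ _
    rw [MultilinearMap.map_sum]
    refine Ideal.sum_mem _ fun g _ => ?_
    rw [MultilinearMap.map_smul_univ, smul_eq_mul]
    exact Ideal.mul_mem_left _ _ (Ideal.subset_span ⟨g, rfl⟩)
  constructor
  · rintro ⟨N', hc, hN⟩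
    set N := LinearMap.range A.mulVecLin with hNdef
    let pr := N.projectionOnto N' hc
    haveI : Module.Projective R N := Module.Projective.of_split N.subtype pr
      (LinearMap.ext fun x => Submodule.projectionOnto_apply_left hc x)
    haveI : Module.Finite R N := Module.Finite.of_surjective pr (fun x => ⟨x, Submodule.projectionOnto_apply_left hc x⟩)
    haveI : Module.Free R N := Module.free_of_flat_of_isLocalRing
    let e : (Fin r → R) ≃ₗ[R] N := (Module.finBasisOfFinrankEq R N hN).equivFun.symm
    let q : (Fin m → R) →ₗ[R] (Fin r → R) := e.symm.toLinearMap ∘ₗ A.mulVecLin.rangeRestrict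
    have hq : Function.Surjective q := e.symm.surjective.comp (LinearMap.surjective_rangeRestrict _)
    obtain ⟨s, hs⟩ := LinearMap.exists_rightInverse_of_surjective q (LinearMap.range_eq_top.2 hq)
    let p : (Fin r → R) →ₗ[R] (Fin n → R) := N.subtype ∘ₗ e.toLinearMap
    let l : (Fin n → R) →ₗ[R] (Fin r → R) := e.symm.toLinearMap ∘ₗ pr
    have hlp : l ∘ₗ p = LinearMap.id := LinearMap.ext fun x => by
      show e.symm (pr (e x : N)) = x
      rw [Submodule.projectionOnto_apply_left hc, e.symm_apply_apply]
    have hA : A.mulVecLin = p ∘ₗ q := LinearMap.ext fun x => by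
      show A.mulVecLin x = ((e (e.symm (A.mulVecLin.rangeRestrict x)) : N) : Fin n → R)
      rw [e.apply_symm_apply]; rfl
    have hA' : A = LinearMap.toMatrix' p * LinearMap.toMatrix' q := by
      rw [← LinearMap.toMatrix'_comp, ← hA]; exact (LinearMap.toMatrix'_toLin' A).symm
    constructor
    · rw [CAlgX.minorIdeal, Ideal.span_eq_bot]
      rintro _ ⟨⟨f, g⟩, rfl⟩
      let P := LinearMap.toMatrix' p
      let Q := LinearMap.toMatrix' q
      let P' : Matrix (Fin (r + 1)) (Fin (r + 1)) R := fun i => Fin.snoc (fun a => P (f i) a) 0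
      let Q' : Matrix (Fin (r + 1)) (Fin (r + 1)) R := Fin.snoc (fun a => fun j => Q a (g j)) 0
      have : A.submatrix f g = P' * Q' := by
        ext i j
        rw [Matrix.submatrix_apply, hA', Matrix.mul_apply, Matrix.mul_apply, Fin.sum_univ_castSucc]
        simp [P', Q', P, Q]
      show (A.submatrix f g).det = 0
      rw [this, Matrix.det_mul, Matrix.det_eq_zero_of_column_eq_zero (Fin.last r) (fun i => by simp [P']), zero_mul]
    · have h1 : LinearMap.toMatrix' l * (A * LinearMap.toMatrix' s) = 1 := by
        rw [hA', Matrix.mul_assoc, ← LinearMap.toMatrix'_comp, hs, ← Matrix.mul_assoc, ← LinearMap.toMatrix'_comp, hlp,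
          LinearMap.toMatrix'_id, Matrix.one_mul]
      refine (Ideal.eq_top_iff_one _).2 ?_
      have h2 := hexp (LinearMap.toMatrix' l) (A * LinearMap.toMatrix' s)
      rw [h1, Matrix.det_one] at h2
      refine Ideal.span_le.2 ?_ h2
      rintro _ ⟨f, rfl⟩
      show ((A * LinearMap.toMatrix' s).submatrix f id).det ∈ _
      rw [Matrix.submatrix_mul _ _ f id id Function.bijective_id, Matrix.submatrix_id_id, ← Matrix.det_transpose, Matrix.transpose_mul]
      refine Ideal.span_le.2 ?_ (hexp _ _)
      rintro _ ⟨g, rfl⟩
      refine Ideal.subset_span ⟨(f, g), ?_⟩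
      show (A.submatrix f g).det = _
      rw [← Matrix.det_transpose]
      rfl
  · rintro ⟨hbot, htop⟩
    obtain ⟨f, g, hu⟩ : ∃ (f : Fin r → Fin n) (g : Fin r → Fin m), IsUnit (A.submatrix f g).det := by
      by_contra h
      push Not at h
      have : CAlgX.minorIdeal A r ≤ IsLocalRing.maximalIdeal R := Ideal.span_le.2 (by rintro _ ⟨⟨f, g⟩, rfl⟩; exact h f g)
      rw [htop, top_le_iff] at this
      exact (IsLocalRing.maximalIdeal.isMaximal R).ne_top this
    set B := A.submatrix f g with hB
    let C := A.submatrix id g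
    let D := B⁻¹ * A.submatrix f id
    have hmin : ∀ i j, (A.submatrix (Sum.elim f fun _ : Fin 1 => i) (Sum.elim g fun _ : Fin 1 => j)).det = 0 := by
      intro i j
      rw [← Matrix.det_submatrix_equiv_self finSumFinEquiv.symm, Matrix.submatrix_submatrix]
      exact Ideal.span_eq_bot.1 hbot _ ⟨(_, _), rfl⟩
    haveI := B.invertibleOfIsUnitDet hu
    have hAC : A = C * D := by
      ext i j
      have h := hmin i j
      have hblk : A.submatrix (Sum.elim f fun _ : Fin 1 => i) (Sum.elim g fun _ : Fin 1 => j) =
          Matrix.fromBlocks B (A.submatrix f fun _ => j) (A.submatrix (fun _ => i) g) (A.submatrix (fun _ => i) fun _ => j) := by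
        ext (a | a) (b | b) <;> rfl
      rw [hblk, Matrix.det_fromBlocks₁₁, hu.mul_right_eq_zero, Matrix.det_fin_one, Matrix.sub_apply, sub_eq_zero] at h
      refine h.trans ?_
      rw [Matrix.invOf_eq_nonsing_inv, Matrix.mul_assoc]
      simp [C, D, Matrix.mul_apply]
    let sel : Matrix (Fin m) (Fin r) R := (1 : Matrix (Fin m) (Fin m) R).submatrix id g
    have hC : C = A * sel := by
      ext i j
      simp [C, sel, Matrix.mul_apply, Matrix.one_apply]
    have hrange : LinearMap.range A.mulVecLin = LinearMap.range C.mulVecLin := by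
      apply le_antisymm
      · conv_lhs => rw [hAC, Matrix.mulVecLin_mul]
        exact LinearMap.range_comp_le_range _ _
      · rw [hC, Matrix.mulVecLin_mul]; exact LinearMap.range_comp_le_range _ _
    let Lm := B⁻¹ * (1 : Matrix (Fin n) (Fin n) R).submatrix f id
    have hL : Lm * C = 1 := by
      have : (1 : Matrix (Fin n) (Fin n) R).submatrix f id * C = B := by
        ext i j
        simp [C, B, Matrix.mul_apply, Matrix.one_apply]
      rw [Matrix.mul_assoc, this, Matrix.nonsing_inv_mul _ hu]
    have hleft : Lm.mulVecLin ∘ₗ C.mulVecLin = LinearMap.id := by rw [← Matrix.mulVecLin_mul, hL, Matrix.mulVecLin_one]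
    refine ⟨LinearMap.ker Lm.mulVecLin, ?_, ?_⟩
    · rw [hrange]
      refine ⟨Submodule.disjoint_def.2 ?_, codisjoint_iff.2 (eq_top_iff.2 fun x _ => ?_)⟩
      · rintro _ ⟨y, rfl⟩ hy
        rw [LinearMap.mem_ker, ← LinearMap.comp_apply, hleft, LinearMap.id_apply] at hy
        rw [hy, map_zero]
      · refine Submodule.mem_sup.2 ⟨C.mulVecLin (Lm.mulVecLin x), LinearMap.mem_range_self _ _, x - C.mulVecLin (Lm.mulVecLin x), ?_, add_sub_cancel _ _⟩
        rw [LinearMap.mem_ker, map_sub, ← LinearMap.comp_apply Lm.mulVecLin C.mulVecLin, hleft, LinearMap.id_apply, sub_self]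
    · rw [hrange, LinearMap.finrank_range_of_inj (Function.LeftInverse.injective (g := Lm.mulVecLin) (fun x => LinearMap.congr_fun hleft x)), Module.finrank_fin_fun]

end Groth.Agent.S10890
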