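import Groth.Statements.S10891
import Mathlib
-- import your own Groth.Agent.* helpers here

set_option autoImplicit false
universe u
open CAlg

namespace Groth.Agent.S10891

/-- Let k be a field containing a primitive r-th root of unity ζ and 0 < a < r. The cyclic group of r-th
roots of unity acts on k[X, Y] through the generator X ↦ ζ⁻¹ X, Y ↦ ζ^(−a) Y, and the ring of
invariants of this action is generated as a k-algebra by the monomials X^i Y^j with 0 ≤ i, j ≤ r,
(i, j) ≠ (r, r) and i + a·j ≡ 0 (mod r). (The printed statement writes n for the order of the group,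
which the surrounding section calls r.) -/
theorem result (k : Type u) [Field k] (r a : ℕ) (ha : 0 < a) (har : a < r)
    (ζ : k) (hζ : IsPrimitiveRoot ζ r) (p : MvPolynomial (Fin 2) k) :
    MvPolynomial.aeval (fun i : Fin 2 => if i = 0 then MvPolynomial.C ζ⁻¹ * MvPolynomial.X 0
        else MvPolynomial.C (ζ⁻¹ ^ a) * (MvPolynomial.X 1 : MvPolynomial (Fin 2) k)) p = p ↔
      p ∈ Algebra.adjoin k {q : MvPolynomial (Fin 2) k | ∃ i j : ℕ, i ≤ r ∧ j ≤ r ∧ ¬ (i = r ∧ j = r) ∧
        r ∣ i + a * j ∧ q = MvPolynomial.X 0 ^ i * MvPolynomial.X 1 ^ j} := by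
  classical
  open MvPolynomial in
  have hr : 0 < r := lt_trans ha har
  open MvPolynomial in
  set φ := aeval (R := k) (fun i : Fin 2 => if i = 0 then C ζ⁻¹ * X 0
        else C (ζ⁻¹ ^ a) * (X 1 : MvPolynomial (Fin 2) k)) with hφ
  open MvPolynomial in
  have hmon : ∀ i j : ℕ, φ (X 0 ^ i * X 1 ^ j) = C (ζ⁻¹ ^ (i + a * j)) * (X 0 ^ i * X 1 ^ j) := fun i j => by
    simp only [hφ, map_mul, map_pow, aeval_X, if_pos, if_neg (show (1 : Fin 2) ≠ 0 by decide), mul_pow, pow_add, ← pow_mul, C_mul, C_pow]; ring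
  open MvPolynomial in
  have hd : ∀ d : Fin 2 →₀ ℕ, monomial d (1 : k) = X 0 ^ d 0 * X 1 ^ d 1 := fun d => by
    rw [monomial_eq, C_1, one_mul, Finsupp.prod_fintype _ _ fun i => pow_zero _, Fin.prod_univ_two]
  open MvPolynomial in
  have hdvd : ∀ e : ℕ, ζ⁻¹ ^ e = 1 ↔ r ∣ e := fun e => hζ.inv.pow_eq_one_iff_dvd e
  open MvPolynomial in
  constructor
  · intro h
    have hcoeff : ∀ d : Fin 2 →₀ ℕ, ζ⁻¹ ^ (d 0 + a * d 1) * coeff d p = coeff d p := fun d => by
      conv_rhs => rw [← h]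
      conv_rhs => rw [p.as_sum, map_sum, coeff_sum]
      have key : ∀ e ∈ p.support, coeff d (φ (monomial e (coeff e p))) =
          if e = d then ζ⁻¹ ^ (d 0 + a * d 1) * coeff d p else 0 := fun e _ => by
        rw [show monomial e (coeff e p) = C (coeff e p) * monomial e 1 by simp [C_mul_monomial], map_mul,
          show φ (C (coeff e p)) = C (coeff e p) from φ.commutes _, hd, hmon, ← hd, coeff_C_mul, coeff_C_mul, coeff_monomial]
        split_ifs with he
        · subst he; ring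
        · simp
      rw [Finset.sum_congr rfl key, Finset.sum_ite_eq']
      split_ifs with hs
      · rfl
      · rw [notMem_support_iff.1 hs, mul_zero]
    rw [p.as_sum]
    refine sum_mem fun d hds => ?_
    have hdr : r ∣ d 0 + a * d 1 := (hdvd _).1 (mul_right_cancel₀ (mem_support_iff.1 hds) (by rw [hcoeff, one_mul]))
    rw [show monomial d (coeff d p) = C (coeff d p) * monomial d 1 by simp [C_mul_monomial], hd]
    refine mul_mem (Subalgebra.algebraMap_mem _ _) ?_
    set S := {q : MvPolynomial (Fin 2) k | ∃ i j : ℕ, i ≤ r ∧ j ≤ r ∧ ¬ (i = r ∧ j = r) ∧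
        r ∣ i + a * j ∧ q = X 0 ^ i * X 1 ^ j}
    have e0 : (X 0 : MvPolynomial (Fin 2) k) ^ r ∈ Algebra.adjoin k S :=
      Algebra.subset_adjoin ⟨r, 0, le_rfl, Nat.zero_le _, by omega, by simp, by simp⟩
    have e1 : (X 1 : MvPolynomial (Fin 2) k) ^ r ∈ Algebra.adjoin k S :=
      Algebra.subset_adjoin ⟨0, r, Nat.zero_le _, le_rfl, by omega, by simp, by simp⟩
    rw [← Nat.div_add_mod (d 0) r, ← Nat.div_add_mod (d 1) r, pow_add, pow_add, pow_mul, pow_mul, mul_mul_mul_comm]
    refine mul_mem (mul_mem (pow_mem e0 _) (pow_mem e1 _)) (Algebra.subset_adjoin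
      ⟨_, _, (Nat.mod_lt _ hr).le, (Nat.mod_lt _ hr).le, fun h' => (Nat.mod_lt (d 0) hr).ne h'.1, ?_, rfl⟩)
    rw [Nat.dvd_iff_mod_eq_zero] at hdr ⊢
    rw [← hdr]
    simp [Nat.add_mod, Nat.mul_mod]
  · intro h
    refine Algebra.adjoin_le (S := AlgHom.equalizer φ (AlgHom.id k _)) ?_ h
    rintro _ ⟨i, j, -, -, -, hij, rfl⟩
    change φ _ = _
    rw [hmon, (hdvd _).2 hij, C_1, one_mul]
    rfl

end Groth.Agent.S10891
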