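import Groth.Statements.S10892
import Groth.Agent.MeroBasic.DepthOne
import Groth.Agent.MeroBasic.DivBasic
import Mathlib


set_option autoImplicit false
universe u
open CategoryTheory AlgebraicGeometry
open Curves

namespace Groth.Agent.S10892

section
open CategoryTheory AlgebraicGeometry TopologicalSpace

/-- A closed set of closed points of a Noetherian scheme is finite. -/
theorem finite_of_isClosed_points {C : Scheme.{u}} [IsNoetherian C] {s : Set C} (hs : IsClosed s)
    (h : ∀ y ∈ s, IsClosed ({y} : Set C)) : s.Finite := by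
  obtain ⟨S, hSf, hSc, hS, rfl⟩ := TopologicalSpace.NoetherianSpace.exists_finite_set_isClosed_irreducible hs
  refine hSf.sUnion fun t ht => ?_
  have hg := (hS t ht).isGenericPoint_genericPoint (hSc t ht)
  rw [← hg.def, (h _ ⟨t, ht, hg.mem⟩).closure_eq]
  exact Set.finite_singleton _

variable {C : Scheme.{u}} [IsNoetherian C]
  (hC : ∀ x : C, IsClosed ({x} : Set C) → ringKrullDim (C.presheaf.stalk x) = 1)

include hC in
/-- At a non closed point regular germs are units. -/
theorem isUnit_of_not_isClosed {y : C} (hy : ¬ IsClosed ({y} : Set C)) {a : C.presheaf.stalk y}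
    (ha : a ∈ nonZeroDivisors (C.presheaf.stalk y)) : IsUnit a := by
  obtain ⟨x, hx, hxc⟩ := (isClosed_closure (s := ({y} : Set C))).exists_closed_singleton
    (Set.Nonempty.closure (Set.singleton_nonempty y))
  have hne : x ≠ y := fun e => hy (e ▸ hxc)
  have hyx : y ⤳ x := specializes_iff_mem_closure.mpr hx
  have h1 : (Order.coheight x : WithBot ℕ∞) = ((1 : ℕ∞) : WithBot ℕ∞) := by
    rw [← ringKrullDim_stalk_eq_coheight, hC x hxc]; rfl
  rw [WithBot.coe_inj] at h1
  have hlt : x < y := lt_of_le_not_ge hyx fun h => hne ((hyx.antisymm h).eq.symm)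
  have h0 : Order.coheight y = 0 := by
    have h2 := Order.coheight_add_one_le hlt
    rw [h1] at h2
    exact le_antisymm (ENat.lt_one_iff_eq_zero.mp (lt_of_lt_of_le ((ENat.add_lt_add_iff_right ENat.one_ne_top).mp
      (lt_of_le_of_lt h2 (by norm_num : (1 : ℕ∞) < 1 + 1))) le_rfl)).le bot_le
  have hdim : Ring.KrullDimLE 0 (C.presheaf.stalk y) := Ring.krullDimLE_iff.mpr (by
    rw [ringKrullDim_stalk_eq_coheight, h0]; exact le_rfl)
  by_contra hu
  obtain ⟨n, hn⟩ := Ring.KrullDimLE.isNilpotent_iff_mem_nonunits.mpr hu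
  exact zero_notMem_nonZeroDivisors (hn ▸ pow_mem ha n)

include hC in
theorem germ_eq_one_of_not_isClosed {y : C} (hy : ¬ IsClosed ({y} : Set C)) (G : Mero.Germ C y) : G = 1 := by
  obtain ⟨g, rfl⟩ := QuotientGroup.mk_surjective G
  have hu : Mero.regStalk C y ≤ IsUnit.submonoid (C.presheaf.stalk y) := fun a ha =>
    isUnit_of_not_isClosed hC hy (Mero.regStalk_le_nonZeroDivisors y ha)
  let e : C.presheaf.stalk y ≃ₐ[C.presheaf.stalk y] Mero.KStalk C y :=
    IsLocalization.atUnits _ (Mero.regStalk C y) hu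
  refine (QuotientGroup.eq_one_iff g).mpr ⟨Units.map e.symm.toMonoidHom g, Units.ext ?_⟩
  show algebraMap _ (Mero.KStalk C y) (e.symm (g : Mero.KStalk C y)) = (g : Mero.KStalk C y)
  conv_rhs => rw [← e.apply_symm_apply (g : Mero.KStalk C y)]
  exact (e.commutes _).symm

/-- A regular section as a unit meromorphic function. -/
noncomputable def toKUnit {U : C.Opens} (a : Mero.regSub C U) : (Γ(Mero.kmod C, U))ˣ :=
  ⟨Mero.toK C U a.1,
    ⟨fun x => LocalizedModule.mk 1 (Mero.regGerm x a),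
      fun x => ⟨U, x.2, 𝟙 _, 1, a, fun y => Mero.mk_congr (map_one (C.presheaf.germ U y.1 y.2).hom).symm rfl⟩⟩,
    Subtype.ext (funext fun x => by
      show (LocalizedModule.mk _ 1 : Mero.KStalk C x.1) * LocalizedModule.mk 1 (Mero.regGerm x a) = 1
      rw [MeroBasic.kstalk_mk_mul, mul_one]
      exact Mero.mk_self_eq_one (Mero.regGerm x a)),
    Subtype.ext (funext fun x => by
      show LocalizedModule.mk 1 (Mero.regGerm x a) * (LocalizedModule.mk _ 1 : Mero.KStalk C x.1) = 1
      rw [mul_comm, MeroBasic.kstalk_mk_mul, mul_one]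
      exact Mero.mk_self_eq_one (Mero.regGerm x a))⟩

theorem germOf_toKUnit {U : C.Opens} (a : Mero.regSub C U) (y : U)
    (h : IsUnit (C.presheaf.germ U y.1 y.2 a.1)) : Mero.germOf (toKUnit a) y = 1 := by
  refine (QuotientGroup.eq_one_iff _).mpr ⟨h.unit, Units.ext ?_⟩
  exact MeroBasic.algebraMap_kstalk_eq_mk y.1 _

/-- The locus where a divisor is trivial is open. -/
theorem isOpen_triv (D : ∀ x : C, Mero.Germ C x) (hD : D ∈ Mero.divisorGroup C) : IsOpen {y : C | D y = 1} := by
  refine isOpen_iff_forall_mem_open.mpr fun x hx => ?_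
  obtain ⟨U, hxU, f, hf⟩ := hD x
  obtain ⟨w, hw⟩ := (QuotientGroup.eq_one_iff _).mp ((hf ⟨x, hxU⟩).symm.trans hx)
  obtain ⟨V, hxV, hVU, a, b, hab⟩ := MeroBasic.exists_fraction (f : Γ(Mero.kmod C, U)) ⟨x, hxU⟩
  obtain ⟨W, hxW, c, hc⟩ := C.presheaf.exists_germ_eq (x := x) (w : C.presheaf.stalk x)
  have hxab : C.presheaf.germ V x hxV a = (w : C.presheaf.stalk x) * C.presheaf.germ V x hxV b.1 := by
    have h1 : (algebraMap (C.presheaf.stalk x) (Mero.KStalk C x) w) =
        LocalizedModule.mk (C.presheaf.germ V x hxV a) (Mero.regGerm ⟨x, hxV⟩ b) :=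
      (congrArg Units.val hw).trans (hab ⟨x, hxV⟩)
    rw [MeroBasic.algebraMap_kstalk_eq_mk, LocalizedModule.mk_eq] at h1
    obtain ⟨s, hs⟩ := h1
    simp only [Submonoid.smul_def, smul_eq_mul, OneMemClass.coe_one, one_mul] at hs
    have := (mul_cancel_left_mem_nonZeroDivisors (Mero.regStalk_le_nonZeroDivisors x s.2)).mp hs
    rw [← this, mul_comm]
  rw [← hc, ← TopCat.Presheaf.germ_res_apply C.presheaf (homOfLE (inf_le_left : V ⊓ W ≤ V)) x ⟨hxV, hxW⟩ a,
    ← TopCat.Presheaf.germ_res_apply C.presheaf (homOfLE (inf_le_right : V ⊓ W ≤ W)) x ⟨hxV, hxW⟩ c,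
    ← TopCat.Presheaf.germ_res_apply C.presheaf (homOfLE (inf_le_left : V ⊓ W ≤ V)) x ⟨hxV, hxW⟩ b.1,
    ← map_mul] at hxab
  obtain ⟨O, hxO, iA, iB, hO⟩ := TopCat.Presheaf.germ_eq C.presheaf x _ _ _ _ hxab
  refine ⟨((O ⊓ C.basicOpen c : C.Opens) : Set C), fun y hy => ?_, (O ⊓ C.basicOpen c).isOpen, hxO,
    (C.mem_basicOpen c x hxW).mpr (hc ▸ w.isUnit)⟩
  obtain ⟨hyO, hyc⟩ := hy
  have hyV : y ∈ V := (iA.le hyO).1
  have hyW : y ∈ W := (iA.le hyO).2
  have hcu : IsUnit (C.presheaf.germ W y hyW c) := (C.mem_basicOpen c y hyW).mp hyc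
  have h2 := congrArg (C.presheaf.germ O y hyO) hO
  simp only [map_mul, TopCat.Presheaf.germ_res_apply] at h2
  show D y = 1
  rw [hf ⟨y, hVU hyV⟩]
  refine (QuotientGroup.eq_one_iff _).mpr ⟨hcu.unit, Units.ext ?_⟩
  show algebraMap _ _ (C.presheaf.germ W y hyW c) = (f : Γ(Mero.kmod C, U)).1 ⟨y, hVU hyV⟩
  rw [MeroBasic.algebraMap_kstalk_eq_mk, hab ⟨y, hyV⟩, LocalizedModule.mk_eq]
  refine ⟨1, ?_⟩
  simp only [one_smul, Submonoid.smul_def, smul_eq_mul, OneMemClass.coe_one, one_mul]
  rw [h2, mul_comm]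

end

/-- On an absolute curve C (Noetherian, local rings at closed points one-dimensional) the map sending a
divisor to its germs at the closed points is an isomorphism from Div(C) onto the direct sum over the
closed points x of the groups K_{C,x}^× / O_{C,x}^× (K_{C,x} the total ring of fractions of the
local ring). With divisors realised as families of germs, this says: a family of germs is a divisor
exactly when it is trivial outside a finite set of closed points. -/
theorem result {C : Scheme.{u}} [IsNoetherian C]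
    (hC : ∀ x : C, IsClosed ({x} : Set C) → ringKrullDim (C.presheaf.stalk x) = 1)
    (g : ∀ x : C, Mero.Germ C x) :
    g ∈ Mero.divisorGroup C ↔ ({x : C | g x ≠ 1}.Finite ∧ ∀ x : C, ¬ IsClosed ({x} : Set C) → g x = 1) := by
  constructor
  · intro hg
    have hnc : ∀ x : C, ¬ IsClosed ({x} : Set C) → g x = 1 := fun x hx => germ_eq_one_of_not_isClosed hC hx _
    exact ⟨finite_of_isClosed_points (isOpen_triv g hg).isClosed_compl fun y hy => by_contra fun h => hy (hnc y h), hnc⟩
  · rintro ⟨hfin, hnc⟩ x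
    by_cases hgx : g x = 1
    · have hcl : IsClosed {y : C | g y ≠ 1} := by
        rw [← Set.biUnion_of_singleton {y : C | g y ≠ 1}]
        exact hfin.isClosed_biUnion fun y hy => by_contra fun h => hy (hnc y h)
      exact ⟨⟨{y : C | g y ≠ 1}ᶜ, hcl.isOpen_compl⟩, not_not.mpr hgx, 1, fun y => by
        rw [not_not.mp y.2, Mero.germOf, map_one, QuotientGroup.mk_one]⟩
    obtain ⟨G, hG⟩ := QuotientGroup.mk_surjective (g x)
    obtain ⟨⟨a, s⟩, has⟩ := IsLocalization.surj (Mero.regStalk C x) (G : Mero.KStalk C x)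
    have ha : a ∈ Mero.regStalk C x := by
      rw [MeroBasic.regStalk_eq_of_noetherian, mem_nonZeroDivisors_iff_right]
      intro z hz
      have h2 : algebraMap _ (Mero.KStalk C x) z * algebraMap _ (Mero.KStalk C x) a = 0 := by
        rw [← map_mul, hz, map_zero]
      rw [← has] at h2
      have h3 := (IsUnit.mul_left_eq_zero (G.isUnit.mul (IsLocalization.map_units (Mero.KStalk C x) s))).mp h2
      rw [MeroBasic.algebraMap_kstalk_eq_mk] at h3
      exact (MeroBasic.kstalk_mk_eq_zero_iff _ _).mp h3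
    obtain ⟨Va, hxa, A, hA, hAa⟩ := ha
    obtain ⟨Vb, hxb, B, hB, hBb⟩ := s.2
    let V : C.Opens := Va ⊓ Vb
    let bad : Set C := {y | y ≠ x ∧ (g y ≠ 1 ∨ (∃ hy : y ∈ Va, ¬ IsUnit (C.presheaf.germ Va y hy A)) ∨
      (∃ hy : y ∈ Vb, ¬ IsUnit (C.presheaf.germ Vb y hy B)))}
    have hbadc : ∀ y ∈ bad, IsClosed ({y} : Set C) := by
      rintro y ⟨-, h | ⟨hy, h⟩ | ⟨hy, h⟩⟩
      · exact by_contra fun e => h (hnc y e)
      · exact by_contra fun e => h (isUnit_of_not_isClosed hC e (hA ⟨y, hy⟩))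
      · exact by_contra fun e => h (isUnit_of_not_isClosed hC e (hB ⟨y, hy⟩))
    have hnon : ∀ (W : C.Opens) (F : Γ(C, W)), F ∈ Mero.regSub C W →
        {y : C | ∃ hy : y ∈ W, ¬ IsUnit (C.presheaf.germ W y hy F)}.Finite := by
      intro W F hF
      haveI : IsNoetherian (W : Scheme.{u}) := by
        haveI : CompactSpace (W : Scheme.{u}) := isCompact_iff_compactSpace.mp (TopologicalSpace.NoetherianSpace.isCompact (W : Set C))
        constructor
      refine ((finite_of_isClosed_points (C := (W : Scheme.{u})) (s := W.ι ⁻¹' (C.basicOpen F : Set C)ᶜ)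
        ((C.basicOpen F).isOpen.isClosed_compl.preimage W.ι.continuous) fun y hy => ?_).image W.ι).subset ?_
      · have hyc : IsClosed ({W.ι y} : Set C) := by_contra fun e =>
          hy ((C.mem_basicOpen F _ y.2).mpr (isUnit_of_not_isClosed hC e (hF ⟨y.1, y.2⟩)))
        convert hyc.preimage W.ι.continuous using 1
        exact Set.ext fun z => ⟨fun e => congrArg W.ι e, fun e => W.ι.isOpenEmbedding.injective e⟩
      · rintro y ⟨hy, hu⟩
        exact ⟨⟨y, hy⟩, fun h => hu ((C.mem_basicOpen F y hy).mp h), rfl⟩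
    have hbad : bad.Finite := ((hfin.union ((hnon Va A hA).union (hnon Vb B hB)))).subset fun y hy => hy.2
    have hbcl : IsClosed bad := by
      rw [← Set.biUnion_of_singleton bad]
      exact hbad.isClosed_biUnion hbadc
    let U : C.Opens := V ⊓ ⟨badᶜ, hbcl.isOpen_compl⟩
    let A' : Mero.regSub C U := ⟨_, Mero.regSub_res (homOfLE (inf_le_left.trans inf_le_left : U ≤ Va)) hA⟩
    let B' : Mero.regSub C U := ⟨_, Mero.regSub_res (homOfLE (inf_le_left.trans inf_le_right : U ≤ Vb)) hB⟩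
    have gA : ∀ y : U, C.presheaf.germ U y.1 y.2 A'.1 = C.presheaf.germ Va y.1 y.2.1.1 A := fun y =>
      TopCat.Presheaf.germ_res_apply C.presheaf _ y.1 y.2 A
    have gB : ∀ y : U, C.presheaf.germ U y.1 y.2 B'.1 = C.presheaf.germ Vb y.1 y.2.1.2 B := fun y =>
      TopCat.Presheaf.germ_res_apply C.presheaf _ y.1 y.2 B
    have hxU : x ∈ U := ⟨⟨hxa, hxb⟩, fun h => h.1 rfl⟩
    refine ⟨U, hxU, toKUnit A' * (toKUnit B')⁻¹, fun y => ?_⟩
    rw [Mero.germOf, map_mul, map_inv, QuotientGroup.mk_mul, QuotientGroup.mk_inv]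
    by_cases e : y.1 = x
    · rw [show y = ⟨x, hxU⟩ from Subtype.ext e, ← hG, ← QuotientGroup.mk_inv, ← QuotientGroup.mk_mul]
      congr 1
      refine Units.ext ((Units.eq_mul_inv_iff_mul_eq _).mpr ?_)
      show (G : Mero.KStalk C x) * LocalizedModule.mk (C.presheaf.germ U x hxU B'.1) 1 =
        LocalizedModule.mk (C.presheaf.germ U x hxU A'.1) 1
      rw [gA ⟨x, hxU⟩, gB ⟨x, hxU⟩, hAa, hBb, ← MeroBasic.algebraMap_kstalk_eq_mk, ← MeroBasic.algebraMap_kstalk_eq_mk]
      exact has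
    · have hnb : ¬ (y.1 ∈ bad) := y.2.2
      simp only [bad, Set.mem_ofPred_eq, not_and, not_or, not_exists, not_not] at hnb
      obtain ⟨h1, h2, h3⟩ := hnb e
      rw [h1, ← Mero.germOf, ← Mero.germOf, germOf_toKUnit A' y (by rw [gA]; exact h2 y.2.1.1),
        germOf_toKUnit B' y (by rw [gB]; exact h3 y.2.1.2)]
      exact (one_mul (1 : Mero.Germ C y.1)).symm

end Groth.Agent.S10892
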