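import Groth.Statements.S10893
import Groth.Agent.S10892
import Groth.Agent.MeroBasic.DepthOne
import Mathlib


set_option autoImplicit false
universe u
open CategoryTheory AlgebraicGeometry
open Curves

namespace Groth.Agent.S10893

open CategoryTheory AlgebraicGeometry in
theorem coheight_eq_zero {C : Scheme.{u}} [IsNoetherian C]
    (hC : ∀ x : C, IsClosed ({x} : Set C) → ringKrullDim (C.presheaf.stalk x) = 1)
    {y : C} (hy : ¬ IsClosed ({y} : Set C)) : Order.coheight y = 0 := by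
  obtain ⟨x, hx, hxc⟩ := (isClosed_closure (s := ({y} : Set C))).exists_closed_singleton
    (Set.Nonempty.closure (Set.singleton_nonempty y))
  have hne : x ≠ y := fun e => hy (e ▸ hxc)
  have hyx : y ⤳ x := specializes_iff_mem_closure.mpr hx
  have h1 : (Order.coheight x : WithBot ℕ∞) = ((1 : ℕ∞) : WithBot ℕ∞) := by
    rw [← ringKrullDim_stalk_eq_coheight, hC x hxc]; rfl
  rw [WithBot.coe_inj] at h1
  have h2 := Order.coheight_add_one_le (lt_of_le_not_ge hyx fun h => hne ((hyx.antisymm h).eq.symm) : x < y)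
  rw [h1] at h2
  exact ENat.lt_one_iff_eq_zero.mp ((ENat.add_one_le_iff (fun e => by rw [e] at h2; simp at h2)).mp h2)

open CategoryTheory AlgebraicGeometry in
theorem exists_point {C : Scheme.{u}} [IsNoetherian C]
    (hC : ∀ x : C, IsClosed ({x} : Set C) → ringKrullDim (C.presheaf.stalk x) = 1)
    (hpt : ∀ x : C, ¬ IsOpen ({x} : Set C)) (U : C.Opens) (hU : Dense (U : Set C))
    (Z : Set C) (hZ : Z ∈ irreducibleComponents (C : Type u)) :
    ∃ y : C, y ∈ U ∧ y ∈ Z ∧ IsClosed ({y} : Set C) ∧ ∃ a : Mero.regStalk C y, ¬ IsUnit a.1 := by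
  have hgen := hZ.1.isGenericPoint_genericPoint (isClosed_of_mem_irreducibleComponents Z hZ)
  let η := hZ.1.genericPoint
  let others : Set C := ⋃₀ (irreducibleComponents (C : Type u) \ {Z})
  have hoc : IsClosed others := by
    rw [show others = ⋃ t ∈ irreducibleComponents (C : Type u) \ {Z}, t from Set.sUnion_eq_biUnion]
    exact ((TopologicalSpace.NoetherianSpace.finite_irreducibleComponents).subset Set.sdiff_subset).isClosed_biUnion fun t ht => isClosed_of_mem_irreducibleComponents t ht.1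
  have hηo : η ∉ others := by
    rintro ⟨t, ht, hηt⟩
    have hsub : Z ⊆ t := by
      rw [← hgen.def]
      exact (isClosed_of_mem_irreducibleComponents t ht.1).closure_subset_iff.mpr (Set.singleton_subset_iff.mpr hηt)
    exact ht.2 (le_antisymm (hZ.2 ht.1.1 hsub) hsub)
  have hZcov : ∀ y ∉ others, y ∈ Z := fun y hy => by
    obtain ⟨t, ht, hyt⟩ := Set.mem_sUnion.mp ((sUnion_irreducibleComponents (X := (C : Type u))).symm ▸ Set.mem_univ y :
      y ∈ ⋃₀ irreducibleComponents (C : Type u))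
    by_contra hyZ
    exact hy ⟨t, ⟨ht, fun e => hyZ ((Set.mem_singleton_iff.mp e) ▸ hyt)⟩, hyt⟩
  obtain ⟨z, hzo, hzU⟩ := hU.inter_open_nonempty othersᶜ hoc.isOpen_compl ⟨η, hηo⟩
  have hηU : η ∈ U := (hgen.specializes (hZcov z hzo)).mem_open U.isOpen hzU
  obtain ⟨W, hW, hηW, hWU⟩ := exists_isAffineOpen_mem_and_subset (X := C) (x := η)
    (U := U ⊓ ⟨othersᶜ, hoc.isOpen_compl⟩) ⟨hηU, hηo⟩
  have hcl : ∀ y ∈ W, y ≠ η → IsClosed ({y} : Set C) := fun y hy hne => by
    by_contra h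
    have hsp : η ⤳ y := hgen.specializes (hZcov y (hWU hy).2)
    have h2 := Order.coheight_add_one_le (lt_of_le_not_ge hsp fun h' => hne ((hsp.antisymm h').eq.symm) : y < η)
    rw [coheight_eq_zero hC h] at h2
    simp at h2
  haveI : IsNoetherianRing Γ(C, W) := IsLocallyNoetherian.component_noetherian ⟨W, hW⟩
  let T : Set C := {y | ∃ hy : y ∈ W, y ≠ η ∧ MeroBasic.pr hW y hy ∈ associatedPrimes Γ(C, W) Γ(C, W)}
  have hTf : T.Finite := ((associatedPrimes.finite Γ(C, W) Γ(C, W)).preimage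
    (f := fun p : W => MeroBasic.pr hW p.1 p.2) fun a _ b _ e => by
      have h' := congrArg hW.fromSpec (PrimeSpectrum.ext e : hW.primeIdealOf a = hW.primeIdealOf b)
      rw [hW.fromSpec_primeIdealOf, hW.fromSpec_primeIdealOf] at h'
      exact Subtype.ext h').image Subtype.val |>.subset fun y ⟨hy, _, h⟩ => ⟨⟨y, hy⟩, h, rfl⟩
  have hTc : IsClosed T := by
    rw [← Set.biUnion_of_singleton T]
    exact hTf.isClosed_biUnion fun y ⟨hy, hne, _⟩ => hcl y hy hne
  obtain ⟨y, hyW, hyne, hyT⟩ : ∃ y ∈ W, y ≠ η ∧ y ∉ T := by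
    by_contra hh
    push Not at hh
    refine hpt η ?_
    convert W.isOpen.inter hTc.isOpen_compl using 1
    exact Set.ext fun y => ⟨fun e => by rw [Set.mem_singleton_iff] at e; subst e; exact ⟨hηW, fun ⟨_, h, _⟩ => h rfl⟩,
      fun ⟨hy, hyT⟩ => by_contra fun hne => hyT (hh y hy hne)⟩
  have hnot : ¬ ((MeroBasic.pr hW y hyW : Ideal Γ(C, W)) : Set Γ(C, W)) ⊆
      ⋃ q ∈ associatedPrimes Γ(C, W) Γ(C, W), (q : Set Γ(C, W)) := by
    intro hsub
    obtain ⟨q, hq, hle⟩ := (Ideal.subset_union_prime_finite (associatedPrimes.finite Γ(C, W) Γ(C, W)) ⊤ ⊤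
      (f := fun q : Ideal Γ(C, W) => q) fun q hq _ _ => hq.isPrime).mp hsub
    haveI : q.IsPrime := hq.isPrime
    have hz : hW.fromSpec ⟨q, ‹_›⟩ ∈ W := MeroBasic.fromSpec_mem hW _
    have hsp : y ⤳ hW.fromSpec ⟨q, ‹_›⟩ := by
      have e : hW.fromSpec (hW.primeIdealOf ⟨y, hyW⟩) = y := hW.fromSpec_primeIdealOf ⟨y, hyW⟩
      refine e ▸ ?_
      exact ((PrimeSpectrum.le_iff_specializes _ _).mp (show hW.primeIdealOf ⟨y, hyW⟩ ≤ ⟨q, ‹_›⟩ from hle)).map hW.fromSpec.continuous
    have hmem := (hcl y hyW hyne).closure_eq ▸ specializes_iff_mem_closure.mp hsp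
    refine hyT ⟨hyW, hyne, ?_⟩
    have e : hW.primeIdealOf ⟨y, hyW⟩ = ⟨q, ‹_›⟩ := hW.fromSpec.isOpenEmbedding.injective
      ((hW.fromSpec_primeIdealOf _).trans (Set.mem_singleton_iff.mp hmem).symm)
    show (hW.primeIdealOf ⟨y, hyW⟩).asIdeal ∈ _
    rw [e]
    exact hq
  obtain ⟨f, hf, hfa⟩ := Set.not_subset.mp hnot
  have hreg : f ∈ Mero.regSub C W := by
    rw [MeroBasic.regSub_eq_nonZeroDivisors hW, mem_nonZeroDivisors_iff_left]
    intro c hc
    by_contra h0
    refine hfa ?_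
    rw [biUnion_associatedPrimes_eq_zero_divisors]
    exact ⟨c, h0, hc⟩
  exact ⟨y, (hWU hyW).1, hZcov y (hWU hyW).2, hcl y hyW hyne, ⟨_, Mero.germ_mem_regStalk ⟨y, hyW⟩ hreg⟩,
    fun hu => (MeroBasic.isUnit_germ_iff hW f).mp hu hf⟩

/-- Let C be an absolute curve (Noetherian, local rings at closed points one-dimensional) none of whose
points is open, and U ⊆ C an open dense subset. Then there is an effective divisor D on C with
support contained in U and meeting every irreducible component of C. -/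
theorem result {C : Scheme.{u}} [IsNoetherian C]
    (hC : ∀ x : C, IsClosed ({x} : Set C) → ringKrullDim (C.presheaf.stalk x) = 1)
    (hpt : ∀ x : C, ¬ IsOpen ({x} : Set C)) (U : C.Opens) (hU : Dense (U : Set C)) :
    ∃ D : Mero.Divisor C, Mero.IsEffective D ∧ Mero.supp D ⊆ (U : Set C) ∧
      ∀ Z ∈ irreducibleComponents (C : Type u), (Mero.supp D ∩ Z).Nonempty := by
  classical
  choose y hyU hyZ hyc a ha using fun Z : irreducibleComponents (C : Type u) => exists_point hC hpt U hU Z.1 Z.2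
  let P : C → Prop := fun x => x ∈ Set.range y ∧ ∃ b : Mero.regStalk C x, ¬ IsUnit b.1
  let g : ∀ x : C, Mero.Germ C x := fun x =>
    if h : P x then QuotientGroup.mk (IsLocalization.map_units (Mero.KStalk C x) h.2.choose).unit else 1
  haveI : Finite (irreducibleComponents (C : Type u)) := TopologicalSpace.NoetherianSpace.finite_irreducibleComponents.to_subtype
  have hg : ∀ x, g x ≠ 1 → x ∈ Set.range y := fun x hx => by_contra fun h => hx (dif_neg fun hP => h hP.1)
  have hmem : g ∈ Mero.divisorGroup C := (Groth.Agent.S10892.result hC g).mpr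
    ⟨(Set.finite_range y).subset hg, fun x hx => by_contra fun h => by
      obtain ⟨Z, rfl⟩ := hg x h
      exact hx (hyc Z)⟩
  refine ⟨⟨g, hmem⟩, fun x => ?_, fun x hx => ?_, fun Z hZ => ?_⟩
  · by_cases h : P x
    · exact ⟨h.2.choose, dif_pos h⟩
    · exact MeroBasic.isEffectiveAt_of_eq_one (dif_neg h)
  · obtain ⟨Z, rfl⟩ := hg x hx
    exact hyU Z
  · refine ⟨y ⟨Z, hZ⟩, fun h => ?_, hyZ ⟨Z, hZ⟩⟩
    have hP : P (y ⟨Z, hZ⟩) := ⟨⟨_, rfl⟩, a _, ha _⟩
    have h' : g (y ⟨Z, hZ⟩) = _ := dif_pos hP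
    change g (y ⟨Z, hZ⟩) = 1 at h
    rw [h', QuotientGroup.eq_one_iff] at h
    obtain ⟨w, hw⟩ := h
    refine hP.2.choose_spec ?_
    have hw' := congrArg Units.val hw
    rw [IsUnit.unit_spec] at hw'
    exact Mero.algebraMap_KStalk_injective _ hw' ▸ w.isUnit

end Groth.Agent.S10893
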