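import Groth.Statements.S10894
import Groth.Agent.S10892
import Groth.Agent.MeroBasic.DepthOne
import Mathlib


set_option autoImplicit false
universe u
open CategoryTheory AlgebraicGeometry
open Curves

namespace Groth.Agent.S10894

/-- On an absolute curve C (Noetherian, local rings at closed points one-dimensional) every divisor D is
a difference of two effective divisors each supported inside the support of D (divisors are written
multiplicatively, so the difference is D₁ · D₂⁻¹). -/
theorem result {C : Scheme.{u}} [IsNoetherian C]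
    (hC : ∀ x : C, IsClosed ({x} : Set C) → ringKrullDim (C.presheaf.stalk x) = 1) (D : Mero.Divisor C) :
    ∃ D₁ D₂ : Mero.Divisor C, Mero.IsEffective D₁ ∧ Mero.IsEffective D₂ ∧ D = D₁ * D₂⁻¹ ∧
      Mero.supp D₁ ⊆ Mero.supp D ∧ Mero.supp D₂ ⊆ Mero.supp D := by
  classical
  obtain ⟨hfin, hnc⟩ := (Groth.Agent.S10892.result hC D.1).mp D.2
  have hex : ∀ x : C, ∃ a b : Mero.regStalk C x,
      D.1 x = QuotientGroup.mk ((IsLocalization.map_units (Mero.KStalk C x) a).unit *
        ((IsLocalization.map_units (Mero.KStalk C x) b).unit)⁻¹) := by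
    intro x
    obtain ⟨G, hG⟩ := QuotientGroup.mk_surjective (D.1 x)
    obtain ⟨⟨a, s⟩, has⟩ := IsLocalization.surj (Mero.regStalk C x) (G : Mero.KStalk C x)
    have ha : a ∈ Mero.regStalk C x := by
      rw [MeroBasic.regStalk_eq_of_noetherian, mem_nonZeroDivisors_iff_right]
      intro z hz
      refine Mero.algebraMap_KStalk_injective x ?_
      rw [map_zero]
      refine (IsUnit.mul_left_eq_zero (G.isUnit.mul (IsLocalization.map_units (Mero.KStalk C x) s))).mp ?_
      rw [has, ← map_mul, hz, map_zero]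
    refine ⟨⟨a, ha⟩, s, hG.symm.trans (congrArg QuotientGroup.mk (Units.ext ?_))⟩
    rw [Units.val_mul, Units.eq_mul_inv_iff_mul_eq]
    exact has
  choose a b hab using hex
  let g₁ : ∀ x : C, Mero.Germ C x := fun x =>
    if D.1 x = 1 then 1 else QuotientGroup.mk (IsLocalization.map_units (Mero.KStalk C x) (a x)).unit
  let g₂ : ∀ x : C, Mero.Germ C x := fun x =>
    if D.1 x = 1 then 1 else QuotientGroup.mk (IsLocalization.map_units (Mero.KStalk C x) (b x)).unit
  have h1 : g₁ ∈ Mero.divisorGroup C := (Groth.Agent.S10892.result hC g₁).mpr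
    ⟨hfin.subset fun x hx h => hx (if_pos h), fun x hx => if_pos (hnc x hx)⟩
  have h2 : g₂ ∈ Mero.divisorGroup C := (Groth.Agent.S10892.result hC g₂).mpr
    ⟨hfin.subset fun x hx h => hx (if_pos h), fun x hx => if_pos (hnc x hx)⟩
  refine ⟨⟨g₁, h1⟩, ⟨g₂, h2⟩, fun x => ?_, fun x => ?_, Subtype.ext (funext fun x => ?_),
    fun x hx h => hx (if_pos h), fun x hx h => hx (if_pos h)⟩
  · by_cases h : D.1 x = 1
    · exact MeroBasic.isEffectiveAt_of_eq_one (if_pos h)
    · exact ⟨a x, if_neg h⟩
  · by_cases h : D.1 x = 1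
    · exact MeroBasic.isEffectiveAt_of_eq_one (if_pos h)
    · exact ⟨b x, if_neg h⟩
  · show D.1 x = g₁ x * (g₂ x)⁻¹
    by_cases h : D.1 x = 1
    · rw [show g₁ x = 1 from if_pos h, show g₂ x = 1 from if_pos h, h]
      exact (one_mul (1 : Mero.Germ C x)).symm.trans (by rw [inv_one])
    · rw [show g₁ x = _ from if_neg h, show g₂ x = _ from if_neg h, hab x, QuotientGroup.mk_mul, QuotientGroup.mk_inv]

end Groth.Agent.S10894
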