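import Groth.Statements.S10898
import Mathlib
-- import your own Groth.Agent.* helpers here

set_option autoImplicit false
universe u
open Polynomial
open WDiv

namespace Groth.Agent.S10898

/-- Let A be a Noetherian integral domain and P a prime ideal of height 1 of the polynomial ring A[X].
Then either P meets A in 0 only, or its contraction p = P ∩ A is a prime of height 1 of A and P is
the extension p·A[X]. (The published lemma also assumes A regular in codimension 1; that hypothesis
is not used for this assertion.) -/
theorem result (A : Type u) [CommRing A] [IsDomain A]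
    [IsNoetherianRing A] (P : Ideal A[X]) [P.IsPrime] (hP : P.height = 1) :
    P.comap (C : A →+* A[X]) = ⊥ ∨
      ((P.comap (C : A →+* A[X])).height = 1 ∧ P = (P.comap (C : A →+* A[X])).map C) := by
  classical
  set p := P.comap (C : A →+* A[X]) with hp
  by_cases h0 : p = ⊥
  · exact Or.inl h0
  refine Or.inr ?_
  have hmapC : ∀ q : Ideal A, q ≠ ⊥ → q.map (C : A →+* A[X]) ≠ ⊥ := fun q hq e =>
    hq ((Ideal.map_eq_bot_iff_of_injective C_injective).mp e)
  haveI : P.FiniteHeight := P.finiteHeight_iff.mpr (Or.inr (by rw [hP]; exact ENat.one_ne_top))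
  have key : ∀ q : Ideal A, q.IsPrime → q ≠ ⊥ → q ≤ p → q.map (C : A →+* A[X]) = P := by
    intro q hq hq0 hqp
    refine le_antisymm (Ideal.map_le_iff_le_comap.mpr hqp) ?_
    by_contra hlt
    have hlt' : q.map (C : A →+* A[X]) < P := lt_of_le_not_ge (Ideal.map_le_iff_le_comap.mpr hqp) hlt
    have h2 := Ideal.height_strict_mono_of_isPrime_of_isPrime hlt'
    rw [hP, ENat.lt_one_iff_eq_zero, Ideal.height_eq_zero_iff] at h2
    · rw [IsDomain.minimalPrimes_eq_singleton_bot, Set.mem_singleton_iff] at h2
      exact hmapC q hq0 h2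
  have heq := key p inferInstance h0 le_rfl
  refine ⟨le_antisymm ?_ ?_, heq.symm⟩
  · rw [show (1 : ℕ∞) = ((1 : ℕ) : ℕ∞) from rfl, Ideal.height_le_iff]
    intro q hq hqp
    by_cases hq0 : q = ⊥
    · simp [hq0]
    have e := key q hq hq0 hqp.le
    refine absurd ?_ hqp.ne
    ext x
    have h1 : ∀ I : Ideal A, C x ∈ I.map (C : A →+* A[X]) ↔ x ∈ I := fun I => by
      rw [Ideal.mem_map_C_iff]
      constructor
      · intro h; simpa using h 0
      · intro h n
        rw [coeff_C]; split_ifs <;> simp [h]
    rw [← h1 q, e, ← heq, h1]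
  · rw [Order.one_le_iff_pos]
    exact pos_iff_ne_zero.mpr fun h => h0 (by
      rw [Ideal.height_eq_zero_iff, IsDomain.minimalPrimes_eq_singleton_bot] at h
      exact h)

end Groth.Agent.S10898
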