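import Groth.Statements.S10899
import Groth.Agent.DepthLib.CMPoly
import Mathlib.RingTheory.DiscreteValuationRing.TFAE
import Mathlib.RingTheory.Localization.Algebra
import Mathlib.RingTheory.Localization.LocalizationLocalization
import Mathlib.RingTheory.Ideal.GoingDown

set_option autoImplicit false
universe u
open Polynomial
open WDiv

namespace Groth.Agent.S10899

/-- Let A be a Noetherian integral domain which is regular in codimension 1, i.e. whose localization at
every prime ideal of height 1 is a discrete valuation ring. Then the polynomial ring A[X] is regular
in codimension 1 as well: its localization at every prime ideal of height 1 is a discrete valuation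
ring. -/
theorem result (A : Type u) [CommRing A]
    [IsDomain A] [IsNoetherianRing A]
    (hR1 : ∀ (p : Ideal A) [p.IsPrime], p.height = 1 → IsDiscreteValuationRing (Localization.AtPrime p))
    (P : Ideal A[X]) [P.IsPrime] (hP : P.height = 1) :
    IsDiscreteValuationRing (Localization.AtPrime P) := by
  classical
  set p := P.comap (algebraMap A A[X]) with hp
  haveI : p.IsPrime := inferInstance
  haveI : P.LiesOver p := ⟨rfl⟩
  have hht : p.height ≤ 1 := by
    rw [← hP, Ideal.height_eq_height_add_of_liesOver_of_hasGoingDown p P]
    exact le_self_add
  haveI : IsRegularRing (Localization.AtPrime p) := by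
    rcases eq_or_ne p.height 0 with h0 | h0
    · rw [Ideal.height_eq_zero_iff_eq_bot] at h0
      have hf : IsField (Localization.AtPrime p) := by
        rw [IsLocalRing.isField_iff_maximalIdeal_eq, ← Localization.AtPrime.map_eq_maximalIdeal]
        exact (Ideal.map_eq_bot_iff_le_ker _).mpr (h0.le.trans bot_le)
      letI := hf.toField
      exact DepthLib.CMPoly.isRegularRing_field _
    · haveI := hR1 p (le_antisymm hht (Order.one_le_iff_pos.mpr (pos_iff_ne_zero.mpr h0)))
      refine ⟨fun Q _ => ?_⟩
      rcases eq_or_ne Q ⊥ with rfl | hQ
      · refine DepthLib.isRegularLocalRing_of_isField ?_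
        rw [IsLocalRing.isField_iff_maximalIdeal_eq, ← Localization.AtPrime.map_eq_maximalIdeal, Ideal.map_bot]
      · haveI := Ideal.IsPrime.isMaximal ‹Q.IsPrime› hQ
        have hQm : Q = IsLocalRing.maximalIdeal (Localization.AtPrime p) := IsLocalRing.eq_maximalIdeal ‹_›
        let e : Localization.AtPrime p ≃ₐ[Localization.AtPrime p] Localization.AtPrime Q :=
          IsLocalization.atUnits _ Q.primeCompl fun a ha => by
            have ha' : a ∉ Q := ha
            rw [hQm] at ha'
            exact IsLocalRing.notMem_maximalIdeal.mp ha'
        exact IsRegularLocalRing.of_ringEquiv e.toRingEquiv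
  let M : Submonoid A[X] := p.primeCompl.map C
  letI := Polynomial.algebra A (Localization.AtPrime p)
  haveI : IsLocalization M (Localization.AtPrime p)[X] := Polynomial.isLocalization p.primeCompl (Localization.AtPrime p)
  haveI : IsRegularRing (Localization M) :=
    IsRegularRing.of_ringEquiv (IsLocalization.algEquiv M (Localization.AtPrime p)[X] (Localization M)).toRingEquiv
  have hdisj : Disjoint (M : Set A[X]) (P : Set A[X]) := by
    refine Set.disjoint_left.mpr ?_
    rintro _ ⟨a, ha, rfl⟩ ha'
    exact ha ha'
  haveI : (P.map (algebraMap A[X] (Localization M))).IsPrime :=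
    IsLocalization.isPrime_of_isPrime_disjoint M (Localization M) P ‹_› hdisj
  let Q : Ideal A[X] := (P.map (algebraMap A[X] (Localization M))).comap (algebraMap A[X] (Localization M))
  have hQP : Q = P := IsLocalization.comap_map_of_isPrime_disjoint M (Localization M) ‹_› hdisj
  haveI hreg0 : IsRegularLocalRing (Localization.AtPrime Q) :=
    IsRegularLocalRing.of_ringEquiv (R := Localization.AtPrime (P.map (algebraMap A[X] (Localization M))))
      (IsLocalization.localizationLocalizationAtPrimeIsoLocalization M
      (P.map (algebraMap A[X] (Localization M)))).symm.toRingEquiv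
  haveI : IsRegularLocalRing (Localization.AtPrime P) :=
    have hcongr : ∀ (I J : Ideal A[X]) [I.IsPrime] [J.IsPrime], I = J →
        IsRegularLocalRing (Localization.AtPrime I) → IsRegularLocalRing (Localization.AtPrime J) := by
      intro I J _ _ h hI; subst h; exact hI
    hcongr Q P hQP hreg0
  haveI : IsPrincipalIdealRing (Localization.AtPrime P) := by
    refine ((tfae_of_isNoetherianRing_of_isLocalRing_of_isDomain (Localization.AtPrime P)).out 4 0 rfl rfl).mp ?_
    have h1 := IsRegularLocalRing.spanFinrank_maximalIdeal (R := Localization.AtPrime P)
    rw [IsLocalization.AtPrime.ringKrullDim_eq_height P, hP] at h1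
    exact ((Submodule.spanFinrank_eq_one_iff _).mp (by exact_mod_cast h1)).1
  exact { __ := (inferInstance : IsPrincipalIdealRing (Localization.AtPrime P)),
          __ := (inferInstance : IsLocalRing (Localization.AtPrime P)),
          not_a_field' := fun h => by
            have := ringKrullDim_eq_zero_of_isField (IsLocalRing.isField_iff_maximalIdeal_eq.mpr h)
            rw [IsLocalization.AtPrime.ringKrullDim_eq_height P, hP] at this
            exact one_ne_zero (WithBot.coe_injective this) }

end Groth.Agent.S10899
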