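import Groth.Statements.S10902
import Mathlib
import Groth.Agent.S4526
import Groth.Agent.DimTrdeg.Basic
-- import your own Groth.Agent.* helpers here

set_option autoImplicit false
universe u
open TensorProduct
open SmVar

namespace Groth.Agent.S10902

open TensorProduct

/-- Over a local ring, the dimension of a base change to a field is at most that of the special fibre. -/
lemma finrank_baseChange_le {R N L : Type*} [CommRing R] [IsLocalRing R] [AddCommGroup N]
    [Module R N] [Module.Finite R N] [Field L] [Algebra R L] :
    Module.finrank L (L ⊗[R] N) ≤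
      Module.finrank (IsLocalRing.ResidueField R) (IsLocalRing.ResidueField R ⊗[R] N) := by
  have e1 := TensorProduct.spanFinrank_top_eq_of_residueField (⊤ : Submodule R N) Module.Finite.fg_top
  have e2 := TensorProduct.spanFinrank_top_le_of_fg (A := L) (⊤ : Submodule R N) Module.Finite.fg_top
  rw [← Module.finrank_eq_spanFinrank_of_free] at e1 e2
  rw [← e1] at e2
  have f1 := ((Submodule.topEquiv : (⊤ : Submodule R N) ≃ₗ[R] N).baseChange R L).finrank_eq
  have f2 := ((Submodule.topEquiv : (⊤ : Submodule R N) ≃ₗ[R] N).baseChange R
    (IsLocalRing.ResidueField R)).finrank_eq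
  omega


/-- Let k be a field and A a k-algebra of finite type (X = Spec A a k-scheme of finite type), P a prime
ideal of A, and suppose P contains a prime q with dim A/q ≥ n, i.e. the point P lies on an
irreducible component of X of dimension at least n. Then the fibre at P of the sheaf of
differentials of X over k has dimension at least n over the residue field: dim_{κ(P)} (κ(P) ⊗_A
Ω_{A/k}) ≥ n. (The published statement asks every irreducible component of X to have dimension ≥ n
and concludes this at every point.) -/
theorem result (k : Type u) [Field k]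
    (A : Type u) [CommRing A] [Algebra k A] [Algebra.FiniteType k A] (n : ℕ)
    (P : Ideal A) [P.IsPrime] (q : Ideal A) [q.IsPrime] (hqP : q ≤ P)
    (hq : (n : WithBot ℕ∞) ≤ ringKrullDim (A ⧸ q)) :
    n ≤ Module.finrank P.ResidueField (P.ResidueField ⊗[A] (Ω[A⁄k])) := by
  classical
  obtain ⟨m, htr, hdim⟩ := Groth.Agent.DimTrdeg.exists_trdeg_eq_ringKrullDim k (A ⧸ q)
  have hnm : n ≤ m := by
    rw [hdim] at hq
    exact_mod_cast hq
  set L := FractionRing (A ⧸ q)
  haveI : Algebra.FormallyUnramified A (A ⧸ q) :=
    Algebra.FormallyUnramified.of_surjective (Algebra.ofId A (A ⧸ q)) Ideal.Quotient.mk_surjective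
  haveI : Algebra.FormallyUnramified (A ⧸ q) L :=
    Algebra.FormallyUnramified.of_isLocalization (nonZeroDivisors (A ⧸ q))
  haveI : Algebra.FormallyUnramified A L := Algebra.FormallyUnramified.comp A (A ⧸ q) L
  haveI : Algebra.EssFiniteType (A ⧸ q) L :=
    Algebra.EssFiniteType.of_isLocalization L (nonZeroDivisors (A ⧸ q))
  haveI : Algebra.EssFiniteType k L := Algebra.EssFiniteType.comp k (A ⧸ q) L
  have hm : (m : ℤ) ≤ Module.finrank L (Ω[L⁄k]) := by
    obtain ⟨-, -, h3⟩ := Groth.Agent.S4526.result (k := k) (K := k) (L := L)
    rw [Groth.Agent.DimTrdeg.trdeg_fractionRing k (A ⧸ q) L, htr, Cardinal.toNat_natCast] at h3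
    omega
  have hsurj : Function.Surjective (KaehlerDifferential.mapBaseChange k A L) := by
    intro y
    refine ((KaehlerDifferential.exact_mapBaseChange_map k A L) y).mp ?_
    exact Subsingleton.elim _ _
  have h1 : Module.finrank L (Ω[L⁄k]) ≤ Module.finrank L (L ⊗[A] Ω[A⁄k]) := by
    have e := (KaehlerDifferential.mapBaseChange k A L).finrank_range_le
    rwa [LinearMap.range_eq_top.mpr hsurj, finrank_top] at e
  have hu : ∀ s : P.primeCompl, IsUnit (algebraMap A L s) := fun s => by
    refine isUnit_iff_ne_zero.mpr fun h => s.2 (hqP ?_)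
    rw [IsScalarTower.algebraMap_apply A (A ⧸ q) L, ← (algebraMap (A ⧸ q) L).map_zero] at h
    exact Ideal.Quotient.eq_zero_iff_mem.mp (IsFractionRing.injective (A ⧸ q) L h)
  letI : Algebra (Localization.AtPrime P) L := (IsLocalization.lift hu).toAlgebra
  haveI : IsScalarTower A (Localization.AtPrime P) L :=
    IsScalarTower.of_algebraMap_eq fun x => (IsLocalization.lift_eq hu x).symm
  have h2 := finrank_baseChange_le (R := Localization.AtPrime P)
    (N := Localization.AtPrime P ⊗[A] Ω[A⁄k]) (L := L)
  rw [(TensorProduct.AlgebraTensorModule.cancelBaseChange A (Localization.AtPrime P) L L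
      (Ω[A⁄k])).finrank_eq,
    (TensorProduct.AlgebraTensorModule.cancelBaseChange A (Localization.AtPrime P)
      (IsLocalRing.ResidueField (Localization.AtPrime P))
      (IsLocalRing.ResidueField (Localization.AtPrime P)) (Ω[A⁄k])).finrank_eq] at h2
  show n ≤ Module.finrank (IsLocalRing.ResidueField (Localization.AtPrime P))
    (IsLocalRing.ResidueField (Localization.AtPrime P) ⊗[A] Ω[A⁄k])
  omega

end Groth.Agent.S10902
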