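import Groth.Statements.S10903
import Groth.Agent.DepthLib.CMPoly

set_option autoImplicit false
universe u
open CInt

namespace Groth.Agent.S10903

theorem ker_constantCoeff_le {k : Type u} [Field k] {n : ℕ} :
    RingHom.ker (MvPolynomial.constantCoeff (R := k) (σ := Fin n)) ≤
      Ideal.span (Set.range (MvPolynomial.X (R := k))) := by
  intro p hp
  have : ∀ q : MvPolynomial (Fin n) k, q - MvPolynomial.C (MvPolynomial.constantCoeff q) ∈
      Ideal.span (Set.range (MvPolynomial.X (R := k))) := by
    intro q
    induction q using MvPolynomial.induction_on with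
    | C a => simp
    | add q r hq hr => simpa [add_sub_add_comm] using add_mem hq hr
    | mul_X q i _ => simpa using Ideal.mul_mem_left (Ideal.span (Set.range (MvPolynomial.X (R := k)))) q (Ideal.subset_span ⟨i, rfl⟩)
  simpa [RingHom.mem_ker.mp hp] using this p


/-- Let k be a field, S = k[x_0, …, x_n], and f_1, …, f_r with r ≤ n homogeneous polynomials of positive
degrees whose ideal J = (f_1, …, f_r) has height r — the subscheme of P^n_k cut out by the
hypersurfaces f_i = 0 has codimension r, an ideal-theoretic complete intersection. Then J is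
saturated with respect to the irrelevant ideal (x_0, …, x_n): an element g of S such that, for each
i, x_i^m g ∈ J for some m, already lies in J. Hence J is the full homogeneous ideal of that
subscheme (a global complete intersection). -/
theorem result (k : Type u) [Field k] (n r : ℕ)
    (hr : r ≤ n) (f : Fin r → MvPolynomial (Fin (n + 1)) k) (d : Fin r → ℕ)
    (hf : ∀ i, (f i).IsHomogeneous (d i)) (hd : ∀ i, 0 < d i)
    (hJ : (Ideal.span (Set.range f)).height = r) (g : MvPolynomial (Fin (n + 1)) k)
    (hg : ∀ i : Fin (n + 1), ∃ m : ℕ, MvPolynomial.X i ^ m * g ∈ Ideal.span (Set.range f)) :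
    g ∈ Ideal.span (Set.range f) := by
  classical
  haveI := DepthLib.CMPoly.isRegularRing_field k
  set J := Ideal.span (Set.range f)
  let m : Ideal (MvPolynomial (Fin (n + 1)) k) := RingHom.ker (MvPolynomial.constantCoeff (R := k) (σ := Fin (n + 1)))
  haveI : m.IsMaximal := RingHom.ker_isMaximal_of_surjective _ fun c => ⟨MvPolynomial.C c, MvPolynomial.constantCoeff_C _ c⟩
  have hfm : ∀ i, f i ∈ m := fun i => by
    rw [RingHom.mem_ker, MvPolynomial.constantCoeff_eq]
    exact (hf i).coeff_eq_zero (by rw [map_zero]; exact (hd i).ne)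
  have hJm : J ≤ m := Ideal.span_le.mpr (by rintro _ ⟨i, rfl⟩; exact hfm i)
  have hcol : Submodule.colon J {g} = ⊤ := by
    rw [← Ideal.radical_eq_top]
    by_contra hne
    have hle : m ≤ (Submodule.colon J {g}).radical := by
      intro a ha
      refine Ideal.span_le.mpr ?_ (ker_constantCoeff_le ha)
      rintro _ ⟨i, rfl⟩
      obtain ⟨e, he⟩ := hg i
      exact ⟨e, Submodule.mem_colon_singleton.mpr he⟩
    obtain ⟨s, hs, hsg⟩ : ∃ s, s ∉ m ∧ s * g ∈ J :=
      DepthLib.CMPoly.exists_notMem_mul_mem m f hfm hJ.ge
        (lt_of_lt_of_le (by exact_mod_cast Nat.lt_succ_of_le hr : (r : ℕ∞) < ((n + 1 : ℕ) : ℕ∞))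
          (DepthLib.CMPoly.le_height_ker_constantCoeff k (n + 1))) hle
    have hrad := ((inferInstance : m.IsMaximal).eq_of_le hne hle)
    exact hs (hrad ▸ Ideal.le_radical (Submodule.mem_colon_singleton.mpr hsg))
  simpa [Submodule.mem_colon_singleton] using (Ideal.eq_top_iff_one _).mp hcol

end Groth.Agent.S10903
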