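import Groth.Statements.S10904
import Mathlib

set_option autoImplicit false
set_option linter.style.haveILetI false
set_option backward.isDefEq.respectTransparency false
universe u
open Polynomial
open ProjDeg

namespace Groth.Agent.S10904

open Polynomial

theorem finiteDimensional_homogeneous {k : Type*} [Field k] (n j : ℕ) :
    FiniteDimensional k ↥(CohB1.polyGrading n k j) :=
  Module.Finite.iff_fg.2 (MvPolynomial.homogeneousSubmodule_fg _ k j)

/-- Let k be a field, R = k[X_0, …, X_n] graded by degree, I a homogeneous prime ideal of R, f a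
homogeneous element of degree d ≥ 1 not in I, and I' = I + (f). Let P be the Hilbert polynomial of
R/I and Q that of R/I': rational polynomials whose value at every large integer m is the k-dimension
of the degree-m piece, i.e. dim R_m − dim (I ∩ R_m). Assume P has degree at least 1, i.e. the
projective variety V(I) ⊆ P^n_k has dimension ≥ 1. Then Q has degree deg P − 1, and the degrees of
the projective schemes, (degree of the Hilbert polynomial)! times its leading coefficient, satisfy
deg V(I') = d · deg V(I). (The published statement has no dimension hypothesis; for V(I) a single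
point the left side is 0 and the right side is d · deg V(I) ≠ 0, and the printed proof uses dim
V(I') = dim V(I) − 1.) -/
theorem result (k : Type u) [Field k] (n : ℕ)
    (I : Ideal (MvPolynomial (Fin (n + 1)) k)) (hIh : I.IsHomogeneous (CohB1.polyGrading n k)) [I.IsPrime]
    (f : MvPolynomial (Fin (n + 1)) k) (d : ℕ) (hd : 0 < d) (hf : f.IsHomogeneous d) (hfI : f ∉ I)
    (P Q : ℚ[X])
    (hP : ∃ m₀ : ℕ, ∀ m : ℕ, m₀ ≤ m → P.eval (m : ℚ) =
      (Module.finrank k ↥(CohB1.polyGrading n k m) : ℚ) -
        Module.finrank k ↥(Submodule.restrictScalars k I ⊓ CohB1.polyGrading n k m))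
    (hQ : ∃ m₀ : ℕ, ∀ m : ℕ, m₀ ≤ m → Q.eval (m : ℚ) =
      (Module.finrank k ↥(CohB1.polyGrading n k m) : ℚ) -
        Module.finrank k ↥(Submodule.restrictScalars k (I ⊔ Ideal.span {f}) ⊓ CohB1.polyGrading n k m))
    (hdim : 1 ≤ P.natDegree) :
    Q.natDegree + 1 = P.natDegree ∧
      (Q.natDegree.factorial : ℚ) * Q.leadingCoeff =
        d * ((P.natDegree.factorial : ℚ) * P.leadingCoeff) := by
  classical
  obtain ⟨m₁, hP⟩ := hP
  obtain ⟨m₂, hQ⟩ := hQ
  haveI hfd : ∀ j : ℕ, FiniteDimensional k ↥(CohB1.polyGrading n k j) := fun j => finiteDimensional_homogeneous n j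
  set A : ℕ → Submodule k (MvPolynomial (Fin (n + 1)) k) :=
    fun j => Submodule.restrictScalars k I ⊓ CohB1.polyGrading n k j with hA
  set μ : MvPolynomial (Fin (n + 1)) k →ₗ[k] MvPolynomial (Fin (n + 1)) k :=
    LinearMap.mulLeft k f with hμ
  have hf0 : f ≠ 0 := fun h => hfI (h ▸ I.zero_mem)
  have hμinj : Function.Injective μ := fun a b h => mul_left_cancel₀ hf0 h
  -- the fundamental identity
  have key : ∀ m, d ≤ m →
      (Module.finrank k ↥(Submodule.restrictScalars k (I ⊔ Ideal.span {f}) ⊓ CohB1.polyGrading n k m) : ℚ) =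
        Module.finrank k ↥(A m) + Module.finrank k ↥(CohB1.polyGrading n k (m - d)) -
          Module.finrank k ↥(A (m - d)) := by
    intro m hdm
    have hmul : ∀ b ∈ CohB1.polyGrading n k (m - d), f * b ∈ CohB1.polyGrading n k m := by
      intro b hb
      have h := SetLike.mul_mem_graded (A := CohB1.polyGrading n k) (show f ∈ CohB1.polyGrading n k d from hf) hb
      rwa [Nat.add_sub_cancel' hdm] at h
    have e1 : Submodule.restrictScalars k (I ⊔ Ideal.span {f}) ⊓ CohB1.polyGrading n k m =
        A m ⊔ (CohB1.polyGrading n k (m - d)).map μ := by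
      apply le_antisymm
      · rintro x ⟨hxI, hxm⟩
        obtain ⟨a, ha, b', hb', rfl⟩ := Submodule.mem_sup.mp (show x ∈ I ⊔ Ideal.span {f} from hxI)
        obtain ⟨b, rfl⟩ := Ideal.mem_span_singleton'.mp hb'
        rw [← DirectSum.decompose_of_mem_same (CohB1.polyGrading n k) hxm]
        simp only [DirectSum.decompose_add, DirectSum.add_apply, AddMemClass.coe_add]
        refine add_mem (Submodule.mem_sup_left ⟨hIh m ha, Submodule.coe_mem _⟩) (Submodule.mem_sup_right ?_)
        rw [mul_comm b f, DirectSum.coe_decompose_mul_of_left_mem_of_le (CohB1.polyGrading n k)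
          (show f ∈ CohB1.polyGrading n k d from hf) hdm]
        exact ⟨_, Submodule.coe_mem _, rfl⟩
      · refine sup_le (fun x hx => ⟨(le_sup_left : I ≤ I ⊔ Ideal.span {f}) hx.1, hx.2⟩) ?_
        rintro x ⟨b, hb, rfl⟩
        exact ⟨Submodule.mem_sup_right (Ideal.mem_span_singleton'.mpr ⟨b, mul_comm _ _⟩), hmul b hb⟩
    have e2 : A m ⊓ (CohB1.polyGrading n k (m - d)).map μ = (A (m - d)).map μ := by
      apply le_antisymm
      · rintro x ⟨hx, b, hb, rfl⟩
        refine ⟨b, ⟨(‹I.IsPrime›.mem_or_mem (show f * b ∈ I from hx.1)).resolve_left hfI, hb⟩, rfl⟩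
      · rintro x ⟨b, ⟨hbI, hb⟩, rfl⟩
        exact ⟨⟨I.mul_mem_left f hbI, hmul b hb⟩, b, hb, rfl⟩
    haveI : FiniteDimensional k ↥(A m) :=
      Submodule.finiteDimensional_of_le (inf_le_right (b := CohB1.polyGrading n k m))
    have h := Submodule.finrank_sup_add_finrank_inf_eq (A m) ((CohB1.polyGrading n k (m - d)).map μ)
    rw [← e1, e2, ← (Submodule.equivMapOfInjective μ hμinj _).finrank_eq,
      ← (Submodule.equivMapOfInjective μ hμinj _).finrank_eq] at h
    rw [eq_sub_iff_add_eq]
    exact_mod_cast h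
  have hQP : Q = P - P.taylor (-(d : ℚ)) := by
    apply Polynomial.eq_of_infinite_eval_eq
    refine Set.Infinite.mono ?_ ((Set.Ici_infinite (max m₂ (m₁ + d))).image (f := fun m : ℕ => (m : ℚ))
      Nat.cast_injective.injOn)
    rintro x ⟨m, hm, rfl⟩
    have hm' : max m₂ (m₁ + d) ≤ m := hm
    show Q.eval (m : ℚ) = _
    rw [eval_sub, taylor_eval, hQ m (le_trans (le_max_left _ _) hm'), key m (by omega),
      show (m : ℚ) + -(d : ℚ) = ((m - d : ℕ) : ℚ) by
        rw [Nat.cast_sub (by omega : d ≤ m)]; ring,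
      hP m (by omega), hP (m - d) (by omega)]
    ring
  obtain ⟨p, hp⟩ : ∃ p, P.natDegree = p + 1 := ⟨P.natDegree - 1, by omega⟩
  have hlc : P.leadingCoeff ≠ 0 := Polynomial.leadingCoeff_ne_zero.mpr (by rintro rfl; simp at hdim)
  have hco : Q.coeff p = (d : ℚ) * (p + 1 : ℕ) * P.leadingCoeff := by
    have hh : (hasseDeriv p P).natDegree < 2 := by
      have := natDegree_hasseDeriv_le P p
      omega
    rw [hQP, coeff_sub, taylor_coeff, eval_eq_sum_range' hh, Finset.sum_range_succ, Finset.sum_range_one,
      hasseDeriv_coeff, hasseDeriv_coeff, zero_add, Nat.choose_self, show 1 + p = p + 1 by omega,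
      Nat.choose_succ_self_right, Polynomial.leadingCoeff, hp]
    push_cast
    ring
  have hhigh : ∀ j, p < j → Q.coeff j = 0 := by
    intro j hj
    rw [hQP, coeff_sub, taylor_coeff]
    rcases Nat.eq_or_lt_of_le (show p + 1 ≤ j by omega) with rfl | hlt
    · have hh : (hasseDeriv (p + 1) P).natDegree < 1 := by
        have := natDegree_hasseDeriv_le P (p + 1)
        omega
      rw [eval_eq_sum_range' hh, Finset.sum_range_one, hasseDeriv_coeff, zero_add, Nat.choose_self]
      simp
    · rw [hasseDeriv_eq_zero_of_lt_natDegree P j (by omega), eval_zero, sub_zero,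
        coeff_eq_zero_of_natDegree_lt (by omega)]
  have hne : Q.coeff p ≠ 0 := by
    rw [hco]
    refine mul_ne_zero (mul_ne_zero ?_ ?_) hlc
    · exact_mod_cast hd.ne'
    · exact_mod_cast Nat.succ_ne_zero p
  have hdeg : Q.natDegree = p :=
    le_antisymm (natDegree_le_iff_coeff_eq_zero.mpr hhigh) (le_natDegree_of_ne_zero hne)
  refine ⟨by omega, ?_⟩
  rw [Polynomial.leadingCoeff, hdeg, hco, hp, Nat.factorial_succ]
  push_cast
  ring
end Groth.Agent.S10904
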