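import Groth.Statements.S9414
import Mathlib
-- import your own Groth.Agent.* helpers here

set_option autoImplicit false
universe u
open CAlg

namespace Groth.Agent.S9414

open TensorProduct in
/-- For an algebraically closed field k, a finite type k-algebra S and a maximal ideal m of S with
residue field κ = S/m, the κ-vector spaces κ ⊗_S Ω_{S/k} and m/m² have the same dimension. -/
theorem result (k : Type u) [Field k]
    [IsAlgClosed k] (S : Type u) [CommRing S] [Algebra k S] [Algebra.FiniteType k S]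
    (m : Ideal S) [m.IsMaximal] :
    Module.finrank (S ⧸ m) ((S ⧸ m) ⊗[S] Ω[S⁄k]) = Module.finrank (S ⧸ m) m.Cotangent := by
  classical
  haveI : Algebra.FiniteType k (S ⧸ m) := inferInstance
  letI : Field (S ⧸ m) := Ideal.Quotient.field m
  haveI : Module.Finite k (S ⧸ m) := finite_of_finite_type_of_isJacobsonRing k (S ⧸ m)
  have hbij : Function.Bijective (algebraMap k (S ⧸ m)) :=
    IsAlgClosed.algebraMap_bijective_of_isIntegral
  let E := RingEquiv.ofBijective _ hbij
  let ε : S →+* k := E.symm.toRingHom.comp (Ideal.Quotient.mk m)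
  have hε : ∀ a, algebraMap k (S ⧸ m) (ε a) = Ideal.Quotient.mk m a := fun a => E.apply_symm_apply _
  have hεk : ∀ c, ε (algebraMap k S c) = c := fun c => hbij.1 (by rw [hε]; rfl)
  have hm : ∀ a, a - algebraMap k S (ε a) ∈ m := fun a => by
    rw [← Ideal.Quotient.eq_zero_iff_mem, map_sub, sub_eq_zero, ← hε]; rfl
  have hscal : ∀ (a : S) (y : m.Cotangent), a • y = algebraMap k S (ε a) • y := fun a y => by
    rw [← sub_eq_zero, ← sub_smul]
    obtain ⟨y, rfl⟩ := m.toCotangent_surjective y
    rw [← map_smul, Ideal.toCotangent_eq_zero, pow_two]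
    exact Ideal.mul_mem_mul (hm a) y.2
  let D : Derivation k S m.Cotangent := Derivation.mk'
    { toFun := fun a => m.toCotangent ⟨_, hm a⟩
      map_add' := fun a b => by
        rw [← map_add]; congr 1
        exact Subtype.ext (by simp [add_sub_add_comm])
      map_smul' := fun c a => by
        rw [RingHom.id_apply, ← algebraMap_smul S c (m.toCotangent ⟨_, hm a⟩), ← map_smul]; congr 1
        exact Subtype.ext (by simp [Algebra.smul_def, hεk, mul_sub]) }
    fun a b => by
      show m.toCotangent ⟨_, hm (a * b)⟩ = a • m.toCotangent ⟨_, hm b⟩ + b • m.toCotangent ⟨_, hm a⟩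
      rw [hscal a, hscal b, ← map_smul, ← map_smul, ← map_add, ← sub_eq_zero, ← map_sub, Ideal.toCotangent_eq_zero, pow_two]
      convert Ideal.mul_mem_mul (hm a) (hm b) using 1
      show a * b - algebraMap k S (ε (a * b)) - (algebraMap k S (ε a) * (b - algebraMap k S (ε b)) +
        algebraMap k S (ε b) * (a - algebraMap k S (ε a))) = _
      simp only [map_mul]; ring
  let β : (S ⧸ m) ⊗[S] Ω[S⁄k] →ₗ[S ⧸ m] m.Cotangent :=
    LinearMap.liftBaseChange (S ⧸ m) D.liftKaehlerDifferential
  have hβ : ∀ a, β ((1 : S ⧸ m) ⊗ₜ[S] KaehlerDifferential.D k S a) = m.toCotangent ⟨_, hm a⟩ :=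
    fun a => by
      simp only [β, LinearMap.liftBaseChange_tmul, one_smul, Derivation.liftKaehlerDifferential_comp_D]
      rfl
  have hkill : ∀ x ∈ m, ∀ z : (S ⧸ m) ⊗[S] Ω[S⁄k], x • z = 0 := fun x hx z => by
    rw [← algebraMap_smul (S ⧸ m) x z, Ideal.Quotient.algebraMap_eq, Ideal.Quotient.eq_zero_iff_mem.2 hx, zero_smul]
  let γ₀ : ↥m →ₗ[S] (S ⧸ m) ⊗[S] Ω[S⁄k] :=
    { toFun := fun x => (1 : S ⧸ m) ⊗ₜ[S] KaehlerDifferential.D k S (x : S)
      map_add' := fun x y => by simp [TensorProduct.tmul_add]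
      map_smul' := fun a x => by
        show (1 : S ⧸ m) ⊗ₜ[S] KaehlerDifferential.D k S (a * (x : S)) = a • _
        rw [Derivation.leibniz, TensorProduct.tmul_add, TensorProduct.tmul_smul, TensorProduct.tmul_smul,
          hkill _ x.2, add_zero] }
  let γ : m.Cotangent →ₗ[S] (S ⧸ m) ⊗[S] Ω[S⁄k] :=
    Submodule.liftQ _ γ₀ (Submodule.smul_le.2 fun a ha x _ => by
      rw [LinearMap.mem_ker, map_smul]; exact hkill a ha _)
  have hγ : ∀ z, γ (β z) = z := by
    have hD : ∀ w : Ω[S⁄k], γ (β ((1 : S ⧸ m) ⊗ₜ[S] w)) = (1 : S ⧸ m) ⊗ₜ[S] w := by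
      intro w
      have hw : w ∈ Submodule.span S (Set.range (KaehlerDifferential.D k S)) := by
        rw [KaehlerDifferential.span_range_derivation]; trivial
      induction hw using Submodule.span_induction with
      | mem w hw =>
        obtain ⟨a, rfl⟩ := hw
        rw [hβ]
        show (1 : S ⧸ m) ⊗ₜ[S] KaehlerDifferential.D k S (a - algebraMap k S (ε a)) = _
        rw [map_sub, Derivation.map_algebraMap, sub_zero]
      | zero => simp
      | add _ _ _ _ h1 h2 => rw [TensorProduct.tmul_add, map_add, map_add, h1, h2]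
      | smul a w _ h => rw [TensorProduct.tmul_smul, LinearMap.map_smul_of_tower, map_smul, h]
    intro z
    induction z using TensorProduct.induction_on with
    | zero => simp
    | tmul q w =>
      obtain ⟨a, rfl⟩ := Ideal.Quotient.mk_surjective q
      rw [show (Ideal.Quotient.mk m a) ⊗ₜ[S] w = a • ((1 : S ⧸ m) ⊗ₜ[S] w) by
        rw [TensorProduct.smul_tmul', ← Algebra.algebraMap_eq_smul_one]; rfl,
        LinearMap.map_smul_of_tower, map_smul, hD]
    | add _ _ h1 h2 => rw [map_add, map_add, h1, h2]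
  refine LinearEquiv.finrank_eq (LinearEquiv.ofBijective β ⟨Function.LeftInverse.injective hγ, fun y => ?_⟩)
  obtain ⟨x, rfl⟩ := m.toCotangent_surjective y
  refine ⟨(1 : S ⧸ m) ⊗ₜ[S] KaehlerDifferential.D k S (x : S), (hβ _).trans ?_⟩
  have h0 : ε (x : S) = 0 := hbij.1 (by rw [hε, map_zero, Ideal.Quotient.eq_zero_iff_mem.2 x.2])
  congr 1
  exact Subtype.ext (by simp [h0])

end Groth.Agent.S9414
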