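import Groth.Statements.S10909
import Groth.Agent.S2116
import Groth.Agent.S2821
import Groth.Agent.S9414
import Groth.Agent.ComodBasic.AffineHeight
import Groth.Agent.RegularSerre.Localization
import Mathlib
-- import your own Groth.Agent.* helpers here

set_option autoImplicit false
universe u
open TensorProduct
open SmVar

namespace Groth.Agent.S10909

open IsLocalRing in
theorem finrank_cotangent_eq {A : Type u} [CommRing A] [IsNoetherianRing A] (m : Ideal A) [m.IsMaximal] :
    Module.finrank (A ⧸ m) m.Cotangent = (maximalIdeal (Localization.AtPrime m)).spanFinrank := by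
  classical
  letI : Field (A ⧸ m) := Ideal.Quotient.field m
  let Am := Localization.AtPrime m
  have hM : maximalIdeal Am = m.map (algebraMap A Am) := (Localization.AtPrime.map_eq_maximalIdeal (I := m)).symm
  refine le_antisymm ?_ ?_
  · obtain ⟨s, hs, hsp⟩ := Submodule.FG.exists_span_finset_card_eq_spanFinrank (IsNoetherian.noetherian (maximalIdeal Am))
    have hex : ∀ y : s, ∃ x : m, ∃ t : A, t ∉ m ∧ algebraMap A Am t * y.1 = algebraMap A Am x.1 := fun y => by
      have hy : (y : Am) ∈ m.map (algebraMap A Am) := hM ▸ hsp ▸ Submodule.subset_span y.2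
      obtain ⟨⟨x, t⟩, e⟩ := (IsLocalization.mem_map_algebraMap_iff m.primeCompl Am).mp hy
      exact ⟨x, t.1, t.2, (mul_comm _ _).trans e⟩
    choose xs ts hts hxs using hex
    have htop : Submodule.span (A ⧸ m) (Set.range fun y => m.toCotangent (xs y)) = ⊤ := by
      refine top_unique fun z _ => ?_
      obtain ⟨b, rfl⟩ := m.toCotangent_surjective z
      let J : Ideal A := Ideal.span (Set.range fun y => (xs y).1)
      have hJ : maximalIdeal Am ≤ J.map (algebraMap A Am) := by
        rw [← hsp]
        refine Submodule.span_le.mpr fun w hw => ?_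
        have h1 : algebraMap A Am (xs ⟨w, hw⟩).1 ∈ J.map (algebraMap A Am) :=
          Ideal.mem_map_of_mem _ (Ideal.subset_span ⟨⟨w, hw⟩, rfl⟩)
        rw [← hxs] at h1
        exact (Ideal.unit_mul_mem_iff_mem _ (IsLocalization.map_units Am (⟨_, hts ⟨w, hw⟩⟩ : m.primeCompl))).mp h1
      have hb : algebraMap A Am b.1 ∈ J.map (algebraMap A Am) := hJ (hM ▸ Ideal.mem_map_of_mem _ b.2)
      obtain ⟨t, ht, htb⟩ := (IsLocalization.algebraMap_mem_map_algebraMap_iff m.primeCompl Am J b.1).mp hb
      obtain ⟨c, hc⟩ := Ideal.mem_span_range_iff_exists_fun.mp htb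
      have e1 : (Ideal.Quotient.mk m t) • m.toCotangent b = ∑ y, (Ideal.Quotient.mk m (c y)) • m.toCotangent (xs y) := by
        change t • m.toCotangent b = ∑ y, c y • m.toCotangent (xs y)
        simp only [← map_smul, ← map_sum]
        refine congrArg _ (Subtype.ext ?_)
        simp only [Submodule.coe_sum, SetLike.val_smul, smul_eq_mul]
        exact hc.symm
      have hne : Ideal.Quotient.mk m t ≠ 0 := fun h => ht (Ideal.Quotient.eq_zero_iff_mem.mp h)
      rw [← inv_smul_smul₀ hne (m.toCotangent b), e1]
      exact Submodule.smul_mem _ _ (Submodule.sum_mem _ fun y _ => Submodule.smul_mem _ _ (Submodule.subset_span ⟨y, rfl⟩))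
    have h := finrank_range_le_card (R := A ⧸ m) (fun y : s => m.toCotangent (xs y))
    rw [Set.finrank, htop, finrank_top, Fintype.card_coe] at h
    exact h.trans hs.le
  · haveI : Module.Finite A m := Module.Finite.iff_fg.mpr (IsNoetherian.noetherian m)
    haveI : Module.Finite A m.Cotangent := Module.Finite.of_surjective m.toCotangent m.toCotangent_surjective
    haveI : Module.Finite (A ⧸ m) m.Cotangent := Module.Finite.of_restrictScalars_finite A _ _
    let b := Module.finBasis (A ⧸ m) m.Cotangent
    choose xs hxs using fun i => m.toCotangent_surjective (b i)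
    let J : Ideal A := Ideal.span (Set.range fun i => (xs i).1)
    have hJm : m ≤ J ⊔ m • m := fun z hz => by
      let z' : m := ⟨z, hz⟩
      choose c hc using fun i => Ideal.Quotient.mk_surjective (b.repr (m.toCotangent z') i)
      have h1 : m.toCotangent (∑ i, c i • xs i) = m.toCotangent z' := by
        rw [map_sum]
        refine Eq.trans (Finset.sum_congr rfl fun i _ => ?_) (b.sum_repr (m.toCotangent z'))
        rw [map_smul, hxs, ← hc i]
        rfl
      rw [Ideal.toCotangent_eq] at h1
      simp only [Submodule.coe_sum, SetLike.val_smul, smul_eq_mul] at h1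
      have hsum : ∑ i, c i * (xs i).1 ∈ J := Ideal.sum_mem _ fun i _ => J.mul_mem_left _ (Ideal.subset_span ⟨i, rfl⟩)
      have : z = ∑ i, c i * (xs i).1 + -(∑ i, c i * (xs i).1 - z) := by ring
      rw [this]
      exact Submodule.add_mem_sup hsum (neg_mem (by rw [smul_eq_mul, ← pow_two]; exact h1))
    have hle : maximalIdeal Am ≤ J.map (algebraMap A Am) := by
      refine Submodule.le_of_le_smul_of_le_jacobson_bot (IsNoetherian.noetherian (maximalIdeal Am))
        (IsLocalRing.maximalIdeal_le_jacobson _) ?_
      have := Ideal.map_mono (f := algebraMap A Am) hJm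
      rw [Ideal.map_sup, smul_eq_mul, Ideal.map_mul, ← hM] at this
      exact this
    have heq : maximalIdeal Am = Submodule.span Am (Set.range fun i => algebraMap A Am (xs i).1) := by
      have : J.map (algebraMap A Am) = Submodule.span Am (Set.range fun i => algebraMap A Am (xs i).1) := by
        rw [Ideal.map_span, ← Set.range_comp]; rfl
      refine le_antisymm (this ▸ hle) (Submodule.span_le.mpr ?_)
      rintro _ ⟨i, rfl⟩
      exact hM ▸ Ideal.mem_map_of_mem _ (xs i).2
    rw [heq]
    refine (Submodule.spanFinrank_span_le_ncard_of_finite (Set.finite_range _)).trans ?_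
    rw [← Set.image_univ]
    exact (Set.ncard_image_le Set.finite_univ).trans (by simp)

/-- Let k be an algebraically closed field and A a k-algebra of finite type with irreducible spectrum
(the nilradical of A is prime) and Krull dimension n; X = Spec A is then an irreducible separated
k-scheme of finite type of dimension n. Then X is a nonsingular variety — A is reduced and every
localization of A at a prime is a regular local ring — if and only if the module of Kähler
differentials Ω_{A/k} is locally free of rank n: projective, with fibre κ(P) ⊗_A Ω_{A/k} of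
dimension n at every prime P. -/
theorem result (k : Type u) [Field k]
    [IsAlgClosed k] (A : Type u) [CommRing A] [Algebra k A] [Algebra.FiniteType k A]
    (hirr : (nilradical A).IsPrime) (n : ℕ) (hn : ringKrullDim A = n) :
    (IsReduced A ∧ IsRegularRing A) ↔
      (Module.Projective A (Ω[A⁄k]) ∧
        ∀ (P : Ideal A) [P.IsPrime],
          Module.finrank P.ResidueField (P.ResidueField ⊗[A] Ω[A⁄k]) = n) := by
  haveI : IsNoetherianRing A := Algebra.FiniteType.isNoetherianRing k A
  haveI : Algebra.FinitePresentation k A := Algebra.FinitePresentation.of_finiteType.mp inferInstance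
  haveI := hirr
  let N := nilradical A
  obtain ⟨d, hd, hht⟩ := Groth.Agent.ComodBasic.exists_height_eq_of_isMaximal k (A ⧸ N)
  have hdn : d = n := by
    have h1 : ringKrullDim (A ⧸ N) = ringKrullDim A := by
      rw [ringKrullDim_quotient]
      have hz : PrimeSpectrum.zeroLocus (N : Set A) = Set.univ :=
        Set.eq_univ_iff_forall.mpr fun p => nilradical_le_prime p.asIdeal
      rw [hz]
      exact Order.krullDim_eq_of_orderIso OrderIso.Set.univ
    rw [hd, hn] at h1
    exact_mod_cast h1
  have hdimm : ∀ (m : Ideal A) [m.IsMaximal], ringKrullDim (Localization.AtPrime m) = n := fun m hm => by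
    rw [IsLocalization.AtPrime.ringKrullDim_eq_height m]
    refine le_antisymm ((Ideal.height_le_ringKrullDim_of_ne_top hm.ne_top).trans hn.le) ?_
    let m' := m.map (Ideal.Quotient.mk N)
    have hc : m'.comap (Ideal.Quotient.mk N) = m :=
      Ideal.comap_map_of_surjective _ Ideal.Quotient.mk_surjective m |>.trans (by
        rw [← RingHom.ker_eq_comap_bot, Ideal.mk_ker, sup_eq_left]; exact nilradical_le_prime m)
    haveI : m'.IsMaximal := Ideal.IsMaximal.map_of_surjective_of_ker_le Ideal.Quotient.mk_surjective
      (by rw [Ideal.mk_ker]; exact nilradical_le_prime m)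
    have h1 := hht m' inferInstance
    rw [hdn] at h1
    have h2 : m'.height ≤ m.height := by
      rw [show m'.height = Order.height (⟨m', inferInstance⟩ : PrimeSpectrum (A ⧸ N)) from PrimeSpectrum.height_eq_orderHeight ⟨m', inferInstance⟩,
        show m.height = Order.height (⟨m, inferInstance⟩ : PrimeSpectrum A) from PrimeSpectrum.height_eq_orderHeight ⟨m, inferInstance⟩]
      refine (Order.height_le_height_apply_of_strictMono (PrimeSpectrum.comap (Ideal.Quotient.mk N)) ?_ _).trans (le_of_eq ?_)
      · intro a b hab
        refine lt_of_le_of_ne (Ideal.comap_mono hab.le) fun e => hab.ne ?_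
        exact PrimeSpectrum.ext (Ideal.comap_injective_of_surjective _ Ideal.Quotient.mk_surjective (congrArg PrimeSpectrum.asIdeal e))
      · exact congrArg Order.height (PrimeSpectrum.ext hc)
    rw [h1] at h2
    exact_mod_cast h2
  have hfr : ∀ (m : Ideal A) [m.IsMaximal],
      Module.finrank m.ResidueField (m.ResidueField ⊗[A] Ω[A⁄k]) = Module.finrank (A ⧸ m) m.Cotangent := fun m hm => by
    letI : Field (A ⧸ m) := Ideal.Quotient.field m
    rw [← Groth.Agent.S9414.result k A m,
      ← (TensorProduct.AlgebraTensorModule.cancelBaseChange A (A ⧸ m) m.ResidueField m.ResidueField Ω[A⁄k]).finrank_eq,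
      Module.finrank_baseChange]
  have hreg_iff : ∀ (m : Ideal A) [m.IsMaximal],
      IsRegularLocalRing (Localization.AtPrime m) ↔ Module.finrank (A ⧸ m) m.Cotangent = n := fun m hm => by
    rw [isRegularLocalRing_iff, hdimm m, finrank_cotangent_eq m]
    exact Nat.cast_inj
  constructor
  · rintro ⟨hred, hreg⟩
    have hsm : Algebra.smoothLocus k A = Set.univ := by
      by_contra hne
      obtain ⟨p, hp⟩ := (Set.ne_univ_iff_exists_notMem _).mp hne
      obtain ⟨m, hm, hpm⟩ := p.asIdeal.exists_le_maximal p.2.ne_top
      haveI := hm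
      have hms : (⟨m, inferInstance⟩ : PrimeSpectrum A) ∈ Algebra.smoothLocus k A :=
        (Groth.Agent.S2116.result m).mp (hreg.isRegularLocalRing_localization m)
      exact hp (((PrimeSpectrum.le_iff_specializes p ⟨m, inferInstance⟩).mp hpm).mem_open Algebra.isOpen_smoothLocus hms)
    haveI : Algebra.FormallySmooth k A := Algebra.smoothLocus_eq_univ_iff.mp hsm
    haveI : IsDomain A := by
      haveI : IsDomain (A ⧸ N) := Ideal.Quotient.isDomain N
      exact ((RingEquiv.quotientBot A).symm.trans (Ideal.quotEquivOfEq (nilradical_eq_zero A).symm)).toMulEquiv.isDomain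
    refine ⟨inferInstance, fun P _ => ?_⟩
    obtain ⟨m, hm, hPm⟩ := P.exists_le_maximal ‹P.IsPrime›.ne_top
    haveI := hm
    haveI : Module.Finite A Ω[A⁄k] := inferInstance
    haveI : Module.FinitePresentation A Ω[A⁄k] := Module.finitePresentation_of_finite A _
    have hc := (hreg_iff m).mp (hreg.isRegularLocalRing_localization m)
    have hkey : ∀ (Q : Ideal A) [Q.IsPrime], Module.rankAtStalk (R := A) Ω[A⁄k] ⟨Q, inferInstance⟩ =
        Module.finrank Q.ResidueField (Q.ResidueField ⊗[A] Ω[A⁄k]) := fun Q _ =>
      (Module.rankAtStalk_eq (M := Ω[A⁄k]) ⟨Q, inferInstance⟩)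
    rw [← hkey P, ← hc, ← hfr m, ← hkey m]
    haveI : PreconnectedSpace (PrimeSpectrum A) := inferInstance
    exact (Module.isLocallyConstant_rankAtStalk (R := A) (M := Ω[A⁄k])).apply_eq_of_preconnectedSpace _ _
  · rintro ⟨hproj, hfib⟩
    have hmax : ∀ (m : Ideal A) [m.IsMaximal], IsRegularLocalRing (Localization.AtPrime m) := fun m hm =>
      (hreg_iff m).mpr ((hfr m).symm.trans (hfib m))
    have hall : ∀ (p : Ideal A) [p.IsPrime], IsRegularLocalRing (Localization.AtPrime p) := fun p _ => by
      obtain ⟨m, hm, hpm⟩ := p.exists_le_maximal ‹p.IsPrime›.ne_top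
      haveI := hm
      haveI := hmax m
      have hdisj : Disjoint (m.primeCompl : Set A) (p : Set A) := Set.disjoint_left.mpr fun a ha h => ha (hpm h)
      let q := p.map (algebraMap A (Localization.AtPrime m))
      haveI : q.IsPrime := IsLocalization.isPrime_of_isPrime_disjoint m.primeCompl _ p ‹_› hdisj
      have hq : q.comap (algebraMap A (Localization.AtPrime m)) = p :=
        IsLocalization.under_map_of_isPrime_disjoint m.primeCompl _ ‹_› hdisj
      haveI := Groth.Agent.RegularSerre.isRegularLocalRing_localization q
      haveI : IsLocalization.AtPrime (Localization.AtPrime q) p := by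
        have := IsLocalization.isLocalization_isLocalization_atPrime_isLocalization m.primeCompl (S := Localization.AtPrime m) (Localization.AtPrime q) q
        convert this using 2
        exact hq.symm
      exact IsRegularLocalRing.of_ringEquiv (IsLocalization.algEquiv p.primeCompl (Localization.AtPrime q) (Localization.AtPrime p)).toRingEquiv
    refine ⟨isReduced_ofLocalizationMaximal A fun m hm => ?_, isRegularRing_iff.mpr hall⟩
    haveI := hmax m
    haveI := (Groth.Agent.S2821.result (Localization.AtPrime m)).1
    infer_instance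

end Groth.Agent.S10909
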