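import Groth.Statements.S10914
import Groth.Agent.EquidimFlat.IrreducibleFibres
-- import your own Groth.Agent.* helpers here

set_option autoImplicit false
universe u
open CategoryTheory CategoryTheory.Limits AlgebraicGeometry TopologicalSpace
open ProjDeg

namespace Groth.Agent.S10914

/-- Let k be a field, X and Y reduced schemes proper over k and f : X → Y a k-morphism with (i) f
surjective, (ii) every fibre X_y over a closed point y irreducible, (iii) all these fibres of the
same dimension m, and (iv) Y irreducible. Then X is irreducible and dim X = dim Y + m. (The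
published statement takes X, Y projective over k and f projective; its proof uses only that f is a
closed map and upper semicontinuity of fibre dimension, i.e. properness.) -/
theorem result (k : Type u) [Field k] {X Y : Scheme.{u}}
    (pX : X ⟶ Spec (CommRingCat.of k)) (pY : Y ⟶ Spec (CommRingCat.of k)) [IsProper pX] [IsProper pY]
    [IsReduced X] [IsReduced Y] (f : X ⟶ Y) (hf : f ≫ pY = pX) (hsurj : Function.Surjective f)
    [IrreducibleSpace ↥Y] (m : ℕ)
    (hirr : ∀ y : ↥Y, IsClosed ({y} : Set ↥Y) → IrreducibleSpace ↥(f.fiber y))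
    (hdim : ∀ y : ↥Y, IsClosed ({y} : Set ↥Y) → topologicalKrullDim ↥(f.fiber y) = m) :
    IrreducibleSpace ↥X ∧ topologicalKrullDim ↥X = topologicalKrullDim ↥Y + m := by
  subst hf
  haveI : IsProper f := IsProper.of_comp f pY
  have hirr' : ∀ y : Y, IsClosed ({y} : Set Y) → IsIrreducible (f.base ⁻¹' {y}) := fun y hy => by
    haveI := hirr y hy
    have := (IrreducibleSpace.isIrreducible_univ ↥(f.fiber y)).image (f.fiberι y) (f.fiberι y).continuous.continuousOn
    rwa [Set.image_univ, Scheme.Hom.range_fiberι] at this
  have hdim' : ∀ y : Y, IsClosed ({y} : Set Y) → topologicalKrullDim ↥(f.base ⁻¹' {y}) = m := fun y hy =>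
    ((f.fiberHomeo y).isHomeomorph.topologicalKrullDim_eq).symm.trans (hdim y hy)
  haveI : JacobsonSpace ↥X := LocallyOfFiniteType.jacobsonSpace (f ≫ pY)
  haveI : JacobsonSpace ↥Y := LocallyOfFiniteType.jacobsonSpace pY
  obtain ⟨ξ, hξ, hξgen⟩ := Groth.Agent.EquidimFlat.exists_dominant f pY hirr'
  have hsub : closedPoints ↥X ⊆ closure {ξ} := by
    intro x hx
    have hy := Groth.Agent.EquidimFlat.isClosed_image_of_isClosed f pY x hx
    have h2 : f x ∈ f.base '' closure {ξ} := by
      have hc : IsClosed (f.base '' closure {ξ}) := f.isClosedMap _ isClosed_closure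
      have hmem : genericPoint ↥Y ∈ f.base '' closure {ξ} := ⟨ξ, subset_closure rfl, hξgen⟩
      exact (genericPoint_specializes (f x)).mem_closed hc hmem
    obtain ⟨x₁, hx₁, hx₁e⟩ := h2
    exact Groth.Agent.EquidimFlat.fibre_subset f pY m hirr' hdim' ξ hξ x₁ (specializes_iff_mem_closure.mpr hx₁)
      (by rw [show f x₁ = f x from hx₁e]; exact hy) (show f x = f x₁ from hx₁e.symm)
  have huniv : closure ({ξ} : Set X) = Set.univ := by
    refine Set.eq_univ_of_univ_subset ?_
    rw [← closure_closedPoints (X := ↥X)]
    exact closure_minimal hsub isClosed_closure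
  have h1 := Groth.Agent.EquidimFlat.dim_component f pY m hirr' hdim' ξ hξ
  rw [huniv, hξgen, show closure ({genericPoint ↥Y} : Set Y) = Set.univ from genericPoint_spec ↥Y,
    Groth.Agent.FibreDim.dim_homeo (Homeomorph.Set.univ ↥X),
    Groth.Agent.FibreDim.dim_homeo (Homeomorph.Set.univ ↥Y), add_comm] at h1
  refine ⟨?_, h1⟩
  exact { toPreirreducibleSpace := ⟨by rw [← huniv]; exact isIrreducible_singleton.closure.2⟩,
          toNonempty := ⟨ξ⟩ }

end Groth.Agent.S10914
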