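import Groth.Statements.S10915
import Mathlib.RingTheory.MvPolynomial.Ideal
import Mathlib.RingTheory.GradedAlgebra.Radical
import Mathlib.RingTheory.Ideal.MinimalPrime.Noetherian
import Mathlib.GroupTheory.CosetCover
import Mathlib.FieldTheory.IsAlgClosed.Basic

set_option autoImplicit false
universe u
open ProjDeg

namespace Groth.Agent.S10915

open MvPolynomial

variable {k : Type u} [Field k] {n : ℕ}

theorem isMaximal_idealOfVars : (idealOfVars (Fin (n + 1)) k).IsMaximal := by
  have : idealOfVars (Fin (n + 1)) k = RingHom.ker (constantCoeff : MvPolynomial (Fin (n + 1)) k →+* k) := by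
    ext p
    rw [← pow_one (idealOfVars _ k), mem_pow_idealOfVars_iff', RingHom.mem_ker, constantCoeff_eq]
    constructor
    · intro h; exact h 0 (by simp)
    · intro h x hx
      obtain rfl : x = 0 := (Finsupp.degree_eq_zero_iff x).mp (by omega)
      exact h
  rw [this]
  exact RingHom.ker_isMaximal_of_surjective _ (fun c ↦ ⟨C c, by simp⟩)

theorem le_idealOfVars {q : Ideal (MvPolynomial (Fin (n + 1)) k)}
    (hq : q.IsHomogeneous (CohB1.polyGrading n k)) (hne : q ≠ ⊤) : q ≤ idealOfVars (Fin (n + 1)) k := by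
  intro p hp
  rw [← pow_one (idealOfVars _ k), mem_pow_idealOfVars_iff']
  intro x hx
  obtain rfl : x = 0 := (Finsupp.degree_eq_zero_iff x).mp (by omega)
  have h0 := (mem_iff_homogeneousComponent_mem hq p).mp hp 0
  rw [homogeneousComponent_zero] at h0
  by_contra hc
  exact hne (Ideal.eq_top_of_isUnit_mem _ h0 ((isUnit_iff_ne_zero.mpr hc).map C))

theorem isHomogeneous_minimal {J q : Ideal (MvPolynomial (Fin (n + 1)) k)}
    (hJ : J.IsHomogeneous (CohB1.polyGrading n k)) (hq : q ∈ J.minimalPrimes) :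
    q.IsHomogeneous (CohB1.polyGrading n k) := by
  have h1 : J ≤ (q.homogeneousCore (CohB1.polyGrading n k)).toIdeal :=
    hJ.toIdeal_homogeneousCore_eq_self.symm.trans_le (Ideal.homogeneousCore_mono _ hq.1.2)
  have h2 := le_antisymm (Ideal.toIdeal_homogeneousCore_le _ q)
    (hq.2 ⟨hq.1.1.homogeneousCore, h1⟩ (Ideal.toIdeal_homogeneousCore_le _ q))
  rw [← h2]
  exact HomogeneousIdeal.isHomogeneous _

theorem exists_forms [Infinite k] : ∀ (j : ℕ) (J : Ideal (MvPolynomial (Fin (n + 1)) k)),
    J.IsHomogeneous (CohB1.polyGrading n k) →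
    (∀ l : LTSeries (PrimeSpectrum (MvPolynomial (Fin (n + 1)) k)), J ≤ l.head.asIdeal → l.length ≤ j) →
    ∃ h : Fin j → MvPolynomial (Fin (n + 1)) k, (∀ i, (h i).IsHomogeneous 1) ∧
      ∃ N : ℕ, idealOfVars (Fin (n + 1)) k ^ N ≤ J ⊔ Ideal.span (Set.range h) := by
  haveI hm := isMaximal_idealOfVars (k := k) (n := n)
  intro j
  induction j with
  | zero =>
    intro J hJ hl
    refine ⟨Fin.elim0, fun i ↦ i.elim0, ?_⟩
    simp only [Set.range_eq_empty, Ideal.span_empty, bot_le, sup_of_le_left]
    refine Ideal.exists_pow_le_of_le_radical_of_fg ?_ (idealOfVars_fg _ _)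
    rw [← Ideal.sInf_minimalPrimes]
    refine le_sInf fun q hq ↦ ?_
    haveI := hq.1.1
    by_contra hle
    have hle' := le_idealOfVars (isHomogeneous_minimal hJ hq) hq.1.1.ne_top
    have hlt : (⟨q, hq.1.1⟩ : PrimeSpectrum (MvPolynomial (Fin (n + 1)) k)) < ⟨_, hm.isPrime⟩ :=
      lt_of_le_of_ne hle' (fun h ↦ hle (le_of_eq (congrArg PrimeSpectrum.asIdeal h).symm))
    have := hl ((RelSeries.singleton _ (⟨_, hm.isPrime⟩ : PrimeSpectrum _)).cons ⟨q, hq.1.1⟩ (by exact hlt)) (by simpa using hq.1.2)
    simp at this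
  | succ j ih =>
    intro J hJ hl
    classical
    let S := (J.finite_minimalPrimes_of_isNoetherianRing (MvPolynomial (Fin (n + 1)) k)).toFinset.filter
      fun q ↦ ¬ idealOfVars (Fin (n + 1)) k ≤ q
    let W := homogeneousSubmodule (Fin (n + 1)) k 1
    let sub : Ideal (MvPolynomial (Fin (n + 1)) k) → Submodule k W := fun q ↦
      (q.restrictScalars k).comap W.subtype
    have htop : (⊤ : Submodule k W) ∉ S.image sub := by
      intro h
      obtain ⟨q, hq, hqt⟩ := Finset.mem_image.mp h
      refine (Finset.mem_filter.mp hq).2 (Ideal.span_le.mpr ?_)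
      rintro _ ⟨i, rfl⟩
      have : (⟨X i, isHomogeneous_X k i⟩ : W) ∈ sub q := by rw [hqt]; trivial
      exact this
    obtain ⟨⟨f, hf⟩, hfS⟩ : ∃ f : W, f ∉ ⋃ p ∈ S.image sub, (p : Set W) :=
      (Set.ne_univ_iff_exists_notMem _).mp (Subspace.biUnion_ne_univ_of_top_notMem htop)
    simp only [Finset.mem_image, Set.mem_iUnion, not_exists] at hfS
    have hJ' : (J ⊔ Ideal.span {f}).IsHomogeneous (CohB1.polyGrading n k) :=
      hJ.sup (Ideal.homogeneous_span _ _ (by rintro _ rfl; exact ⟨1, hf⟩))
    obtain ⟨h, hh, N, hN⟩ := ih _ hJ' fun l hlJ ↦ by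
      obtain ⟨q, hq, hql⟩ := Ideal.exists_minimalPrimes_le (le_sup_left.trans hlJ : J ≤ l.head.asIdeal)
      haveI := hq.1.1
      rcases eq_or_lt_of_le hql with heq | hlt
      · have hfq : f ∈ q := heq ▸ hlJ (Ideal.mem_sup_right (Ideal.mem_span_singleton_self f))
        have hmq : idealOfVars (Fin (n + 1)) k ≤ q := by
          by_contra hmq
          exact hfS (sub q) ⟨q, Finset.mem_filter.mpr ⟨(Set.Finite.mem_toFinset _).mpr hq, hmq⟩, rfl⟩ hfq
        have hmax : IsMax l.head := fun y hy ↦ by
          have e := hm.eq_of_le y.2.ne_top (hmq.trans (heq.le.trans hy))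
          rw [← PrimeSpectrum.asIdeal_le_asIdeal, ← e]
          exact hmq.trans heq.le
        by_contra hlen
        exact hmax.not_lt (l.step ⟨0, by omega⟩)
      · have := hl (l.cons ⟨q, hq.1.1⟩ hlt) (by simpa using hq.1.2)
        simp at this
        omega
    refine ⟨Fin.cons f h, Fin.cases hf hh, N, hN.trans ?_⟩
    rw [Fin.range_cons, Ideal.span_insert, sup_assoc]

/-- Let k be an algebraically closed field, R = k[X_0, …, X_n] graded by degree, and I a homogeneous
prime ideal with dim R/I = r + 1, so that X = V_+(I) ⊆ P^n_k is a projective variety of dimension r.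
Then there are r + 1 linear forms h_1, …, h_{r+1} (homogeneous of degree 1) whose common zero set in
P^n_k does not meet X, i.e. the ideal I + (h_1, …, h_{r+1}) contains some power of the irrelevant
ideal (X_0, …, X_n). (The published statement says that a generic linear subspace of dimension n − r
− 1 misses X; this row asserts only that one such subspace, cut out by r + 1 linear forms, exists.) -/
theorem result (k : Type u) [Field k] [IsAlgClosed k]
    (n r : ℕ) (I : Ideal (MvPolynomial (Fin (n + 1)) k)) (hIh : I.IsHomogeneous (CohB1.polyGrading n k)) [I.IsPrime]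
    (hdim : ringKrullDim (MvPolynomial (Fin (n + 1)) k ⧸ I) = (r : WithBot ℕ∞) + 1) :
    ∃ h : Fin (r + 1) → MvPolynomial (Fin (n + 1)) k, (∀ i, (h i).IsHomogeneous 1) ∧
      ∃ N : ℕ, (Ideal.span (Set.range (MvPolynomial.X : Fin (n + 1) → MvPolynomial (Fin (n + 1)) k))) ^ N ≤
        I ⊔ Ideal.span (Set.range h) := by
  refine exists_forms (r + 1) I hIh fun l hl ↦ ?_
  have hmem : ∀ i, I ≤ (l i).asIdeal := fun i ↦ hl.trans (l.head_le i)
  let l' : LTSeries (PrimeSpectrum (MvPolynomial (Fin (n + 1)) k ⧸ I)) :=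
    { length := l.length
      toFun := fun i ↦ ⟨(l i).asIdeal.map (Ideal.Quotient.mk I),
        Ideal.map_isPrime_of_surjective Ideal.Quotient.mk_surjective (by rw [Ideal.mk_ker]; exact hmem i)⟩
      step := fun i ↦ lt_of_le_of_ne (Ideal.map_mono (l.step i).le) fun h ↦ (l.step i).ne (PrimeSpectrum.ext (by
        have h' := congrArg (Ideal.comap (Ideal.Quotient.mk I)) h
        simpa [Ideal.comap_map_of_surjective _ Ideal.Quotient.mk_surjective, ← RingHom.ker_eq_comap_bot,
          hmem i.castSucc, hmem i.succ] using h')) }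
  have := Order.LTSeries.length_le_krullDim l'
  rw [show Order.krullDim (PrimeSpectrum (MvPolynomial (Fin (n + 1)) k ⧸ I)) = _ from hdim] at this
  change ((l.length : ℕ) : WithBot ℕ∞) ≤ _ at this
  exact_mod_cast this

end Groth.Agent.S10915
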