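import Groth.Statements.S10927
import Groth.Agent.HomogSep.Qs
import Groth.Agent.GrpSchField.Orbit
-- import your own Groth.Agent.* helpers here

set_option autoImplicit false
set_option linter.style.haveILetI false
set_option backward.isDefEq.respectTransparency false
universe u
open CategoryTheory CategoryTheory.Limits MonoidalCategory CartesianMonoidalCategory MonObj GrpObj AlgebraicGeometry
open Variety
open Groth.Agent.GrpSchField Groth.Agent.HomogSep

namespace Groth.Agent.S10927

theorem genericPoint_mem_smoothLocus {k : Type u} [Field k] [CharZero k] {A B : Scheme.{u}} [IsIntegral A] [IsIntegral B]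
    (o : A ⟶ B) (q : B ⟶ Spec (CommRingCat.of k)) [LocallyOfFinitePresentation o]
    (hgen : o (genericPoint A) = genericPoint B) : genericPoint A ∈ o.smoothLocus := by
  have := LocallyOfFiniteType.stalkMap o (genericPoint A)
  rw [Scheme.Hom.mem_smoothLocus]
  algebraize [(o.stalkMap (genericPoint A)).hom]
  have hF : IsField (B.presheaf.stalk (o (genericPoint A))) := by
    rw [hgen]; exact Field.toIsField B.functionField
  have hF' : IsField (A.presheaf.stalk (genericPoint A)) := Field.toIsField A.functionField
  let : Field (B.presheaf.stalk (o (genericPoint A))) := hF.toField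
  let : Field (A.presheaf.stalk (genericPoint A)) := hF'.toField
  let ψ : k →+* B.presheaf.stalk (o (genericPoint A)) :=
    ((Scheme.ΓSpecIso (CommRingCat.of k)).inv ≫ q.appTop ≫ B.presheaf.germ ⊤ _ trivial).hom
  haveI : CharZero (B.presheaf.stalk (o (genericPoint A))) := charZero_of_injective_ringHom ψ.injective
  exact Algebra.FormallySmooth.of_perfectField

theorem smoothLocus_congr {A B : Scheme.{u}} {f g : A ⟶ B} [LocallyOfFinitePresentation f]
    [LocallyOfFinitePresentation g] (h : f = g) {c : A} (hc : c ∈ f.smoothLocus) : c ∈ g.smoothLocus := by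
  subst h; exact hc

/-- Let k be an algebraically closed field of characteristic zero, G a group variety over k (an
integral, separated k-group scheme of finite type) and X a homogeneous space for G: a k-variety
(integral, separated, of finite type over k) with an action of G such that G(k) acts transitively on
X(k). Then for every k-point x of X the orbit map G → X, g ↦ g · x, is smooth. -/
theorem result (k : Type u) [Field k] [IsAlgClosed k] [CharZero k]
    (G X : Over (Spec (CommRingCat.of k))) [GrpObj G] (a : AlgGrp.Action G X)
    [IsIntegral G.left] [IsSeparated G.hom] [LocallyOfFiniteType G.hom] [QuasiCompact G.hom]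
    [IsIntegral X.left] [IsSeparated X.hom] [LocallyOfFiniteType X.hom] [QuasiCompact X.hom]
    (htrans : ∀ x x' : 𝟙_ (Over (Spec (CommRingCat.of k))) ⟶ X,
      ∃ σ : 𝟙_ (Over (Spec (CommRingCat.of k))) ⟶ G, CartesianMonoidalCategory.lift σ x ≫ a.act = x')
    (x : 𝟙_ (Over (Spec (CommRingCat.of k))) ⟶ X) :
    Smooth (a.orbitMap x).left := by

  haveI : JacobsonSpace X.left := LocallyOfFiniteType.jacobsonSpace X.hom
  haveI : JacobsonSpace G.left := LocallyOfFiniteType.jacobsonSpace G.hom
  haveI : IsLocallyNoetherian X.left := LocallyOfFiniteType.isLocallyNoetherian X.hom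
  haveI : IsLocallyNoetherian G.left := LocallyOfFiniteType.isLocallyNoetherian G.hom
  let o := (a.orbitMap x).left
  haveI : LocallyOfFiniteType (o ≫ X.hom) := by rw [Over.w (a.orbitMap x)]; infer_instance
  haveI : LocallyOfFiniteType o := locallyOfFiniteType_of_comp o X.hom
  haveI : LocallyOfFinitePresentation (o ≫ X.hom) := by rw [Over.w (a.orbitMap x)]; infer_instance
  haveI : LocallyOfFinitePresentation o :=
    locallyOfFinitePresentation_of_comp o X.hom inferInstance inferInstance
  -- the generic points
  have hgen : o (genericPoint G.left) = genericPoint X.left := by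
    let R : Set X.left := Set.range o
    have hR : IsLocallyClosed R := isLocallyClosed_range_orbitMap a x
    have hcl : closedPoints X.left ⊆ R := by
      intro c hc
      obtain ⟨x', rfl⟩ := exists_section_of_closed (A := X) hc
      obtain ⟨σ, hσ⟩ := htrans x x'
      have e1 : σ ≫ a.orbitMap x = x' := by
        rw [← hσ, AlgGrp.Action.orbitMap, ← Category.assoc, comp_lift, Category.comp_id, ← Category.assoc,
          toUnit_unique (σ ≫ toUnit G) (𝟙 _), Category.id_comp]
      refine ⟨pt₀ σ, ?_⟩
      show (a.orbitMap x).left (σ.left (IsLocalRing.closedPoint k)) = x'.left (IsLocalRing.closedPoint k)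
      rw [← comp_left_apply, e1]
    have hd : closure R = Set.univ := Set.univ_subset_iff.mp (closure_closedPoints.ge.trans (closure_mono hcl))
    have ho : IsOpen R := by
      have := coborder_inter_closure (s := R)
      rw [hd, Set.inter_univ] at this
      rw [← this]; exact hR.isOpen_coborder
    have hne : R.Nonempty := ⟨_, genericPoint G.left, rfl⟩
    obtain ⟨g, hg⟩ : genericPoint X.left ∈ R := ((genericPoint_spec X.left).mem_open_set_iff ho).mpr (by simpa using hne)
    have h1 : o (genericPoint G.left) ⤳ genericPoint X.left := hg ▸ (genericPoint_specializes g).map o.continuous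
    exact (h1.antisymm (genericPoint_specializes _)).eq
  have hη : genericPoint G.left ∈ o.smoothLocus := genericPoint_mem_smoothLocus o X.hom hgen
  rw [← Scheme.Hom.smoothLocus_eq_top_iff, ← TopologicalSpace.Opens.coe_eq_univ, ← not_ne_iff, ← Set.nonempty_compl]
  intro H
  obtain ⟨c, hc, hcc⟩ := nonempty_inter_closedPoints H o.smoothLocus.2.isClosed_compl.isLocallyClosed
  obtain ⟨d, hd, hdc⟩ := nonempty_inter_closedPoints (Z := (o.smoothLocus : Set G.left)) ⟨_, hη⟩ o.smoothLocus.2.isLocallyClosed
  obtain ⟨cs, rfl⟩ := exists_section_of_closed (A := G) hcc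
  obtain ⟨ds, rfl⟩ := exists_section_of_closed (A := G) hdc
  let τ := translG (G := G) (ds * cs⁻¹)
  let t := translX a (ds * cs⁻¹)
  have hτ : τ.hom.left (pt₀ cs) = pt₀ ds := by
    show (translG _).hom.left (cs.left (IsLocalRing.closedPoint k)) = _
    rw [← comp_left_apply, translG_left, inv_mul_cancel_right]
  haveI : IsIso τ.hom.left := inferInstanceAs (IsIso ((Over.forget _).map τ.hom))
  haveI : IsIso t.hom.left := inferInstanceAs (IsIso ((Over.forget _).map t.hom))
  have he : τ.hom.left ≫ o = o ≫ t.hom.left := by
    rw [← Over.comp_left, ← Over.comp_left, translG_orbitMap]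
  apply hc
  have h1 : pt₀ cs ∈ (o ≫ t.hom.left).smoothLocus := by
    have : pt₀ cs ∈ τ.hom.left ⁻¹ᵁ o.smoothLocus := by
      show τ.hom.left (pt₀ cs) ∈ o.smoothLocus
      rw [hτ]; exact hd
    rw [Scheme.Hom.preimage_smoothLocus_eq] at this
    exact smoothLocus_congr he this
  rw [Scheme.Hom.mem_smoothLocus, Scheme.Hom.stalkMap_comp, CommRingCat.hom_comp] at h1
  exact ((RingHom.FormallySmooth.respectsIso.cancel_left_isIso (t.hom.left.stalkMap _) (o.stalkMap _)).mp
    h1)

end Groth.Agent.S10927
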