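import Groth.Statements.S10930
import Groth.Agent.SmoothDense.Apps
-- import your own Groth.Agent.* helpers here

set_option autoImplicit false
universe u
open CategoryTheory CategoryTheory.Limits AlgebraicGeometry
open Variety

namespace Groth.Agent.S10930

/-- Let k be an algebraically closed field of characteristic zero, X and Y varieties over k (integral,
separated and of finite type over k) with X nonsingular, i.e. smooth over k, and f : X → Y a
k-morphism. Then there is a nonempty open subscheme V of Y such that the restriction f⁻¹(V) → V of f
is smooth. -/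
theorem result (k : Type u) [Field k] [IsAlgClosed k] [CharZero k]
    {X Y : Scheme.{u}} (qX : X ⟶ Spec (CommRingCat.of k)) (qY : Y ⟶ Spec (CommRingCat.of k))
    [LocallyOfFiniteType qX] [QuasiCompact qX] [IsSeparated qX] [Smooth qX]
    [LocallyOfFiniteType qY] [QuasiCompact qY] [IsSeparated qY]
    [IsIntegral X] [IsIntegral Y] (f : X ⟶ Y) (hf : f ≫ qY = qX) :
    ∃ V : Y.Opens, (V : Set ↥Y).Nonempty ∧ Smooth (f ∣_ V) := by
  have : IsLocallyNoetherian Y := LocallyOfFiniteType.isLocallyNoetherian qY
  have : IsLocallyNoetherian X := LocallyOfFiniteType.isLocallyNoetherian qX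
  have : LocallyOfFiniteType (f ≫ qY) := by rw [hf]; infer_instance
  have : LocallyOfFiniteType f := locallyOfFiniteType_of_comp f qY
  have : QuasiCompact (f ≫ qY) := by rw [hf]; infer_instance
  have : QuasiCompact f := QuasiCompact.of_comp f qY
  have : CharZero Y.functionField := by
    let g : k →+* Y.functionField := (Spec.preimage (R := CommRingCat.of k) (Y.fromSpecStalk (genericPoint Y) ≫ qY)).hom
    exact charZero_of_injective_ringHom g.injective
  have hreg : ∀ x : X, IsRegularLocalRing (X.presheaf.stalk x) := fun x =>
    SmoothDense.isRegular_of_mem_smoothLocus qX (by rw [Scheme.Hom.smoothLocus_eq_top]; trivial)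
  obtain ⟨V, hV, hs⟩ := SmoothDense.exists_dense_open_smooth f fun x hx => SmoothDense.mem_smoothLocus_of_regular f x (hreg x) hx
  exact ⟨V, hV.nonempty, hs⟩

end Groth.Agent.S10930
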