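import Groth.Statements.S10931
-- import your own Groth.Agent.* helpers here
import Groth.Agent.HodgeSym.Pair
import Groth.Agent.AdjForm.SmoothDual
import Groth.Agent.S2926
import Groth.Agent.HodgeSym.ProjTwist

set_option autoImplicit false
universe u
open CategoryTheory CategoryTheory.Limits AlgebraicGeometry
open ProjDual

namespace Groth.Agent.S10931

/-- Let k be a field, p ≤ r and q ≤ r natural numbers, P = P^r_k with structure map to Spec k, Ω =
Ω^1_{P/k} (the conormal sheaf of the diagonal), L an O_P-module which is a p-th exterior power of Ω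
and L' one which is an (r − p)-th exterior power of Ω, and d an integer; write M(d) = M ⊗ O_P(d).
Then H^q(P, L(d)) = H^q(P^r, Ω^p(d)) and H^{r−q}(P, L'(−d)) = H^{r−q}(P^r, Ω^{r−p}(−d)) have the
same dimension over k. (The published statement asserts an isomorphism between these two cohomology
groups, obtained from Serre duality; this row records the equality of dimensions.) -/
theorem result (k : Type u) [Field k] (r p q : ℕ)
    (hp : p ≤ r) (hq : q ≤ r) (L L' : (CohB1.ProjSpace r k).Modules)
    (hL : ExtPow.IsExtPow p (Omega.sheaf (CohB1.ProjSpace.toSpec r k)) L)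
    (hL' : ExtPow.IsExtPow (r - p) (Omega.sheaf (CohB1.ProjSpace.toSpec r k)) L') (d : ℤ) :
    Module.finrank k (Coh.HH (CohB1.ProjSpace r k) (CohB1.tensorMod L (Twist.twistProjSpace r k d)) q) =
      Module.finrank k (Coh.HH (CohB1.ProjSpace r k)
        (CohB1.tensorMod L' (Twist.twistProjSpace r k (-d))) (r - q)) := by
  haveI := AdjForm.smoothOfRelativeDimension_toSpec r k
  haveI : Smooth (CohB1.ProjSpace.toSpec r k) := SmoothOfRelativeDimension.smooth r _
  haveI : IsLocallyNoetherian (CohB1.ProjSpace r k) :=
    LocallyOfFiniteType.isLocallyNoetherian (CohB1.ProjSpace.toSpec r k)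
  haveI := ConormalSection.omega_isQuasicoherent (CohB1.ProjSpace.toSpec r k)
  obtain ⟨ω, hω, ⟨eω⟩⟩ := AdjForm.exists_topForms (n := r) (k := k)
  have hωinv : PicF.IsInvertible ω := by
    obtain ⟨φω, hφω⟩ := hω
    exact AdjForm.isInvertible_omegaP φω hφω
  obtain ⟨eBA⟩ := HodgeSym.nonempty_twistProjSpace_inverse r k d
  obtain ⟨eAB⟩ := HodgeSym.nonempty_twistProjSpace_inverse' r k d
  exact HodgeSym.finrank_twist_symm (k := k) (HodgeSym.exists_bases (CohB1.ProjSpace.toSpec r k) r) hp hL hL' hω hωinv
    (InvPow.isFinLocFree_of_isInvertible (CohDual.isInvertible_twistProjSpace (A := k) (n := r) d)) eAB eBA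
    fun F _ hF => HodgeSym.nonempty_dual_iso F hF q hq eω

end Groth.Agent.S10931
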