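import Mathlib
import Groth.Agent.S11495
import Groth.Agent.S0563
import Mathlib.CategoryTheory.Abelian.Projective.Dimension
import Mathlib.RingTheory.LocalRing.Module
import Groth.Statements.S10932
-- import your own Groth.Agent.* helpers here

set_option autoImplicit false
universe u
open CategoryTheory
open CAlg

namespace Groth.Agent.S10932

/-- Let A be a (Noetherian) regular local ring of Krull dimension n and M a finitely generated A-module
such that Ext^j_A(M, A) = 0 for every j with 1 ≤ j ≤ n. Then M is projective, hence a free A-module. -/
theorem result (A : Type u) [CommRing A] [IsRegularLocalRing A]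
    (n : ℕ) (hn : ringKrullDim A = n) (M : Type u) [AddCommGroup M] [Module A M] [Module.Finite A M]
    (h : ∀ j : ℕ, 1 ≤ j → j ≤ n →
      Subsingleton (Abelian.Ext (ModuleCat.of A M) (ModuleCat.of A A) j)) :
    Module.Free A M := by
  have hp : CategoryTheory.HasProjectiveDimensionLT (ModuleCat.of A M) (0 + 1) := by
    refine (Groth.Agent.S11495.result A M 0).mpr fun i hi => ?_
    rcases le_or_gt i n with hin | hin
    · exact h i hi hin
    · haveI := Groth.Agent.S0563.result A n hn M
      exact CategoryTheory.HasProjectiveDimensionLT.subsingleton (ModuleCat.of A M) (n + 1) i (by omega) _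
  have hproj : CategoryTheory.Projective (ModuleCat.of A M) := CategoryTheory.projective_iff_hasProjectiveDimensionLT_one.mpr hp
  haveI : Module.Projective A M := (IsProjective.iff_projective (R := A) (P := M)).mpr hproj
  haveI : Module.Flat A M := Module.Flat.of_projective
  exact Module.free_of_flat_of_isLocalRing

end Groth.Agent.S10932
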