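import Groth.Statements.S10933
import Groth.Agent.ProjDim.Finite
-- import your own Groth.Agent.* helpers here

set_option autoImplicit false
universe u
open CategoryTheory
open CAlg

namespace Groth.Agent.S10933

/-- Let A be a (Noetherian) regular local ring, M a finitely generated A-module and d a natural number.
Then the projective dimension of M equals d if and only if Ext^j_A(M, A) = 0 for every j > d and
Ext^d_A(M, A) ≠ 0. (Projective dimension valued in WithBot ℕ∞, the zero module having projective
dimension ⊥.) -/
theorem result (A : Type u) [CommRing A] [IsRegularLocalRing A]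
    (M : Type u) [AddCommGroup M] [Module A M] [Module.Finite A M] (d : ℕ) :
    projectiveDimension (ModuleCat.of A M) = (d : WithBot ℕ∞) ↔
      ((∀ j : ℕ, d < j → Subsingleton (Abelian.Ext (ModuleCat.of A M) (ModuleCat.of A A) j)) ∧
        Nontrivial (Abelian.Ext (ModuleCat.of A M) (ModuleCat.of A A) d)) := by
  obtain ⟨e, hd⟩ : ∃ e : ℕ, ringKrullDim A = e :=
    ⟨_, (IsRegularLocalRing.spanFinrank_maximalIdeal (R := A)).symm⟩
  have he := ProjDim.gldim_le_of_regularLocal A e hd (ModuleCat.of A M)
  constructor
  · intro h
    have h1 : HasProjectiveDimensionLE (ModuleCat.of A M) d := (projectiveDimension_le_iff _ d).1 h.le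
    have h2 : ¬ HasProjectiveDimensionLT (ModuleCat.of A M) d := (projectiveDimension_ge_iff _ d).1 h.ge
    refine ⟨fun j hj => @HasProjectiveDimensionLT.subsingleton _ _ _ _ _ (d + 1) h1 j hj _, ?_⟩
    by_contra hn
    rw [not_nontrivial_iff_subsingleton] at hn
    exact h2 (ProjDim.projDim_step (ModuleCat.of A M) d h1 hn)
  · rintro ⟨h1, h2⟩
    have h3 : HasProjectiveDimensionLE (ModuleCat.of A M) d :=
      ProjDim.projDim_le_of_ext_self (ModuleCat.of A M) (d + 1) (e + 1) he fun i hi => h1 i hi
    refine le_antisymm ((projectiveDimension_le_iff _ d).2 h3) ((projectiveDimension_ge_iff _ d).2 fun h4 => ?_)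
    exact not_subsingleton_iff_nontrivial.2 h2 (@HasProjectiveDimensionLT.subsingleton _ _ _ _ _ d h4 d le_rfl _)

end Groth.Agent.S10933
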