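import Groth.Statements.S10934
import Groth.Agent.NegVanish.Converse
import Groth.Agent.ProjTwist.Ample
import Groth.Agent.DepthSections.Apps
import Groth.Agent.SmoothDense.Apps
import Groth.Agent.InvPow.Ample

set_option autoImplicit false
set_option backward.isDefEq.respectTransparency false
universe u
open CategoryTheory CategoryTheory.Limits AlgebraicGeometry
open ProjDual

namespace Groth.Agent.S10934

/-- (a)⇔(b): let k be a field, i : X → P^N_k a closed immersion with X of dimension n, and write F(−q) =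
F ⊗ i^*O(−q). Then X is an equidimensional Cohen–Macaulay scheme of dimension n — the local ring of
X at every closed point is Cohen–Macaulay of Krull dimension n — if and only if for every finite
locally free O_X-module F (vector bundle) there is q₀ such that H^j(X, F(−q)) = 0 for all j < n and
all q ≥ q₀. -/
theorem result (k : Type u) [Field k] (N n : ℕ)
    {X : Scheme.{u}} (i : X ⟶ CohB1.ProjSpace N k) [IsClosedImmersion i] (hn : topologicalKrullDim ↥X = n) :
    (∀ x : X, IsClosed ({x} : Set ↥X) →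
        LocCoh.IsCohenMacaulayLocalRing (X.presheaf.stalk x) ∧ ringKrullDim (X.presheaf.stalk x) = n) ↔
      ∀ F : X.Modules, FlatMod.IsFinLocFree F → ∃ q₀ : ℕ, ∀ q : ℕ, q₀ ≤ q → ∀ j : ℕ, j < n →
        Subsingleton (Coh.HH X (CohB1.tensorMod F
          ((Scheme.Modules.pullback i).obj (Twist.twistProjSpace N k (-(q : ℤ))))) j) := by
  haveI : IsProper (CohB1.ProjSpace.toSpec N k) := Groth.Agent.InvPow.isProper_toSpec N k
  let f : X ⟶ Spec (CommRingCat.of k) := i ≫ CohB1.ProjSpace.toSpec N k
  haveI : IsProper f := inferInstanceAs (IsProper (i ≫ CohB1.ProjSpace.toSpec N k))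
  haveI : CompactSpace ↥X := QuasiCompact.compactSpace_of_compactSpace f
  haveI : IsLocallyNoetherian X := LocallyOfFiniteType.isLocallyNoetherian f
  haveI : CompactSpace ↥(Proj (CohB1.polyGrading N k)) :=
    QuasiCompact.compactSpace_of_compactSpace (CohB1.ProjSpace.toSpec N k)
  let Z : (CohB1.ProjSpace N k).Modules := Twist.twist (CohB1.polyGrading N k) ((1 : ℕ) : ℤ)
  let Zm : (CohB1.ProjSpace N k).Modules := Twist.twist (CohB1.polyGrading N k) (-1)
  have hZ : PicF.IsInvertible Z := Groth.Agent.ProjTwist.isInvertible_twist (Groth.Agent.ProjCoh.hasUnit_polyGrading _)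
  have hZm : PicF.IsInvertible Zm := Groth.Agent.ProjTwist.isInvertible_twist (Groth.Agent.ProjCoh.hasUnit_polyGrading _)
  have hA : CohB1.IsAmple Z :=
    Groth.Agent.ProjTwist.isAmple_twist _ one_pos fun y => by
      obtain ⟨j, hj⟩ := TopologicalSpace.Opens.mem_iSup.mp
        ((Groth.Agent.ProjPoint.iSup_basicOpen_X (R := k) (n := N)).ge (TopologicalSpace.Opens.mem_top y))
      exact ⟨MvPolynomial.X j, Groth.Agent.ProjPoint.X_mem j, hj⟩
  let L : X.Modules := (Scheme.Modules.pullback i).obj Z
  let M : X.Modules := (Scheme.Modules.pullback i).obj Zm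
  have hL : CohB1.IsAmple L := Groth.Agent.InvPow.isAmple_pullback hA i fun y => by
    obtain ⟨U, hU, hyU, -⟩ := exists_isAffineOpen_mem_and_subset (TopologicalSpace.Opens.mem_top (i y) : i y ∈ (⊤ : (CohB1.ProjSpace N k).Opens))
    exact ⟨U, hyU, hU.preimage i⟩
  have hM : ClSub.IsInverseOf L M := by
    obtain ⟨e⟩ := Groth.Agent.ProjTwist.nonempty_tensor_twist_iso (CohB1.polyGrading N k)
      (show ((1 : ℕ) : ℤ) + -1 = 0 by norm_num) (Groth.Agent.ProjCoh.hasUnit_polyGrading (-1))
    obtain ⟨e0⟩ := Groth.Agent.ProjTwist.nonempty_structureModule_iso_twist_zero (CohB1.polyGrading N k)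
    obtain ⟨p⟩ := Groth.Agent.InvPow.nonempty_pullback_tensor_iso i hZ hZm
    exact ⟨p.symm ≪≫ (Scheme.Modules.pullback i).mapIso (e ≪≫ e0.symm) ≪≫ Groth.Agent.QCohLib.pullbackUnitIso i⟩
  have hiso : ∀ (F : X.Modules) (q : ℕ), Nonempty (CohB1.tensorMod F (CohB1.tensorPow M q) ≅
      CohB1.tensorMod F ((Scheme.Modules.pullback i).obj (Twist.twistProjSpace N k (-(q : ℤ))))) := fun F q => by
    obtain ⟨a⟩ := Groth.Agent.ProjTwist.nonempty_twist_iso_tensorPow (CohB1.polyGrading N k)
      (Groth.Agent.ProjCoh.hasUnit_polyGrading (-1 : ℤ)) q (-(q : ℤ)) (by ring)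
    obtain ⟨b⟩ := Groth.Agent.InvPow.nonempty_pullback_pow_iso i hZm q
    exact Groth.Agent.ProjTwist.nonempty_tensorMod_iso (Iso.refl _) (b.symm ≪≫ (Scheme.Modules.pullback i).mapIso a.symm)
  constructor
  · intro hCM F hF
    obtain ⟨m₀, hm₀⟩ := Groth.Agent.NegVanish.exists_vanishing_of_depth f hL hM F
      (Groth.Agent.DCohPerf.isCoh_finLocFree hF) n fun x hx => by
        obtain ⟨hcm, hdim⟩ := hCM x hx
        haveI := hcm
        haveI : Module.Finite (X.presheaf.stalk x) (F.presheaf.stalk x) :=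
          Groth.Agent.NegVanish.finite_stalk (Groth.Agent.DCohPerf.isCoh_finLocFree hF) x
        haveI : Module.Flat (X.presheaf.stalk x) (F.presheaf.stalk x) :=
          Groth.Agent.ModGroth.Perf.isFlat_of_isFinLocFree hF x
        haveI : Module.Free (X.presheaf.stalk x) (F.presheaf.stalk x) := Module.free_of_flat_of_isLocalRing
        refine Groth.Agent.FreeCx.le_depth_free _ (le_of_eq ?_)
        have h := (Groth.Agent.DepthLib.ringKrullDim_eq_depth (R := X.presheaf.stalk x)).symm.trans hdim
        exact (WithBot.coe_injective h).symm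
    refine ⟨m₀, fun q hq j hj => ?_⟩
    obtain ⟨e⟩ := hiso F q
    exact @Groth.Agent.CohVanish.subsingleton_HH_of_iso X _ _ e j (hm₀ q hq j hj)
  · intro h x hx
    have hge : ((n : ℕ) : ℕ∞) ≤ LocCoh.depth (X.presheaf.stalk x) (X.presheaf.stalk x) := by
      cases n with
      | zero => simp
      | succ j =>
        rw [← Groth.Agent.DepthSections.depth_structureModule_stalk]
        obtain ⟨q₀, hq₀⟩ := h (Coh.structureModule X)
          (Groth.Agent.InvPow.isFinLocFree_of_isInvertible (Groth.Agent.NegVanish.isInvertible_structureModule'))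
        refine Groth.Agent.NegVanish.natCast_le_depth_of_vanishing hL hM j _
          Groth.Agent.DepthSections.isCoh_structureModule ⟨q₀, fun m hm l hl => ?_⟩ x hx
        obtain ⟨e⟩ := hiso (Coh.structureModule X) m
        exact @Groth.Agent.CohVanish.subsingleton_HH_of_iso X _ _ e.symm l (hq₀ m hm l (by omega))
    have hle : ringKrullDim (X.presheaf.stalk x) ≤ (n : WithBot ℕ∞) :=
      (Groth.Agent.SmoothDense.ringKrullDim_stalk_le x).trans hn.le
    haveI : IsNoetherianRing (X.presheaf.stalk x) := inferInstance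
    have hdep : ((LocCoh.depth (X.presheaf.stalk x) (X.presheaf.stalk x) : ℕ∞) : WithBot ℕ∞) ≤ ringKrullDim (X.presheaf.stalk x) :=
      (Groth.Agent.DepthLib.depth_le_supportDim (X.presheaf.stalk x)).trans (Module.supportDim_le_ringKrullDim _ _)
    have hge' : (n : WithBot ℕ∞) ≤ ((LocCoh.depth (X.presheaf.stalk x) (X.presheaf.stalk x) : ℕ∞) : WithBot ℕ∞) :=
      WithBot.coe_le_coe.mpr hge
    exact ⟨Groth.Agent.DepthLib.isCohenMacaulayLocalRing_iff.mpr (hle.trans hge'),
      le_antisymm hle (hge'.trans hdep)⟩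
end Groth.Agent.S10934
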