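import Groth.Statements.S10941
import Groth.Agent.EquidimFlat.Basic
-- import your own Groth.Agent.* helpers here

set_option autoImplicit false
universe u
open CategoryTheory CategoryTheory.Limits AlgebraicGeometry
open FlatMor

namespace Groth.Agent.S10941

/-- Let k be a field, X, Y and Y' schemes of finite type over k with Y irreducible, f : X → Y a flat
k-morphism and n a natural number such that every irreducible component of X has dimension dim Y +
n. Let g : Y' → Y be a k-morphism and f' : X ×_Y Y' → Y' the base change of f. Then for every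
irreducible closed subset V of Y', every irreducible component of the preimage of V under f' (with
the subspace topology) has dimension dim V + n. In particular (Y' = Y) every irreducible component
of f⁻¹(V) has dimension dim V + n for every irreducible closed V ⊆ Y. -/
theorem result (k : Type u) [Field k]
    {X Y Y' : Scheme.{u}} (qX : X ⟶ Spec (CommRingCat.of k)) (qY : Y ⟶ Spec (CommRingCat.of k))
    (qY' : Y' ⟶ Spec (CommRingCat.of k))
    [LocallyOfFiniteType qX] [QuasiCompact qX] [LocallyOfFiniteType qY] [QuasiCompact qY]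
    [LocallyOfFiniteType qY'] [QuasiCompact qY']
    [IrreducibleSpace ↥Y] (f : X ⟶ Y) (hf : f ≫ qY = qX) [Flat f] (n : ℕ)
    (hX : ∀ Z : Set ↥X, Z ∈ irreducibleComponents ↥X →
      topologicalKrullDim ↥Z = topologicalKrullDim ↥Y + (n : WithBot ℕ∞))
    (g : Y' ⟶ Y) (hg : g ≫ qY = qY')
    (V : Set ↥Y') (hV : IsClosed V) (hVirr : IsIrreducible V)
    (W : Set ↥((pullback.snd f g).base ⁻¹' V))
    (hW : W ∈ irreducibleComponents ↥((pullback.snd f g).base ⁻¹' V)) :
    topologicalKrullDim ↥W = topologicalKrullDim ↥V + (n : WithBot ℕ∞) := by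
  subst hf
  haveI : LocallyOfFiniteType f := locallyOfFiniteType_of_comp f qY
  obtain ⟨d, hd, hY⟩ := Groth.Agent.EquidimFlat.exists_dim_of_irreducible qY
  have hfib := (Groth.Agent.EquidimFlat.components_iff f qY d n
    (Groth.Agent.EquidimFlat.localDim_eq_of_components qY hY)).mp (fun Z hZ => by rw [hX Z hZ, hd, Nat.cast_add])
  let I := Scheme.IdealSheafData.vanishingIdeal (⟨V, hV⟩ : TopologicalSpace.Closeds ↥Y')
  let j := I.subschemeι
  have hr : Set.range j = V := by
    rw [Scheme.IdealSheafData.range_subschemeι, Scheme.IdealSheafData.coe_support_vanishingIdeal]; rfl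
  haveI : IrreducibleSpace ↥I.subscheme := by
    have hirr : IsIrreducible (Set.range j) := hr.symm ▸ hVirr
    have : IsIrreducible (Set.univ : Set ↥I.subscheme) := by
      obtain ⟨⟨_, a₀, rfl⟩, hpre⟩ := hirr
      refine ⟨⟨a₀, trivial⟩, ?_⟩
      intro u v hu hv ⟨a, _, ha⟩ ⟨b, _, hb⟩
      obtain ⟨U₁, hU₁, rfl⟩ := j.isEmbedding.isInducing.isOpen_iff.mp hu
      obtain ⟨U₂, hU₂, rfl⟩ := j.isEmbedding.isInducing.isOpen_iff.mp hv
      obtain ⟨_, ⟨c, rfl⟩, h1, h2⟩ := hpre U₁ U₂ hU₁ hU₂ ⟨j a, ⟨a, rfl⟩, ha⟩ ⟨j b, ⟨b, rfl⟩, hb⟩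
      exact ⟨c, trivial, h1, h2⟩
    exact { toPreirreducibleSpace := ⟨this.2⟩, toNonempty := this.1.to_type }
  let P := pullback (pullback.snd f g) j
  let f'' : P ⟶ I.subscheme := pullback.snd (pullback.snd f g) j
  haveI : LocallyOfFiniteType f'' := inferInstance
  haveI : Flat f'' := inferInstance
  obtain ⟨e, he, hV'⟩ := Groth.Agent.EquidimFlat.exists_dim_of_irreducible (j ≫ qY')
  have hpb : IsPullback (pullback.fst (pullback.snd f g) j ≫ pullback.fst f g) f'' f (j ≫ g) :=
    (IsPullback.of_hasPullback (pullback.snd f g) j).paste_horiz (IsPullback.of_hasPullback f g)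
  have hP := (Groth.Agent.EquidimFlat.components_iff f'' (j ≫ qY') e n
    (Groth.Agent.EquidimFlat.localDim_eq_of_components (j ≫ qY') hV')).mpr
      (Groth.Agent.EquidimFlat.fibres_of_isPullback hpb n hfib)
  let i := pullback.fst (pullback.snd f g) j
  have hri : Set.range i = (pullback.snd f g).base ⁻¹' V := by
    rw [Scheme.Pullback.range_fst, hr]
  let e' : ↥P ≃ₜ ↥((pullback.snd f g).base ⁻¹' V) := i.isEmbedding.toHomeomorph.trans (Homeomorph.setCongr hri)
  have hW' : e'.symm '' W ∈ irreducibleComponents ↥P := by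
    refine ⟨hW.1.image _ e'.symm.continuous.continuousOn, fun T hT hle => ?_⟩
    have := hW.2 (hT.image _ e'.continuous.continuousOn) (fun a ha => ⟨e'.symm a, hle ⟨a, ha, rfl⟩, e'.apply_symm_apply a⟩)
    intro t ht
    exact ⟨e' t, this ⟨t, ht, rfl⟩, e'.symm_apply_apply t⟩
  have hdV : topologicalKrullDim ↥V = (e : WithBot ℕ∞) := by
    rw [← he, ← hr, ← Set.image_univ, Groth.Agent.FibreDim.dim_image j.isEmbedding,
      Groth.Agent.FibreDim.dim_homeo (Homeomorph.Set.univ _)]
  rw [← Groth.Agent.FibreDim.dim_image e'.symm.isEmbedding W, hP _ hW', hdV, Nat.cast_add]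

end Groth.Agent.S10941
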