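import Groth.Statements.S10942
-- import your own Groth.Agent.* helpers here
import Groth.Agent.SSExist.ExtSheafHom
import Groth.Agent.SSExist.ModAcyclic
import Groth.Agent.CohVanish.Free

set_option autoImplicit false
universe u
open CategoryTheory AlgebraicGeometry Opposite TopologicalSpace
open Coherent
open Groth.Agent

namespace Groth.Agent.S10942

/-- Let X be a scheme, F an O_X-module for which the internal Hom functor Hom(F, -) exists (as the right
adjoint of F ⊗ -; always true) and I an injective object of the category of O_X-modules. Then the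
O_X-module Hom(F, I) is flasque: for all opens U ⊆ V of X the restriction map Hom(F, I)(V) → Hom(F,
I)(U) is surjective. -/
theorem result (X : Scheme.{u}) (F I : X.Modules)
    [DCoh.HasSheafHom F] (hI : Injective I) (U V : X.Opens) (hUV : U ≤ V) :
    Function.Surjective (((DCoh.sheafHom F).obj I).val.map (homOfLE hUV).op).hom := by
  haveI : ModSite.HasSheafHom (O := X.sheaf) F := ModGroth.hasSheafHom F
  haveI : Injective (C := ModSite.Mod X.sheaf) I := hI
  let H : ModSite.Mod X.sheaf := (DCoh.sheafHom F).obj I
  have hH : SSExist.FlatInj H := fun S hS hF φ => by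
    let e : (ModSite.sheafHom (O := X.sheaf) F).obj I ≅ H := (SSExist.homXIso F).app I
    obtain ⟨ψ, hψ⟩ := SSExist.flatInj_sheafHom (O := X.sheaf) F I S hS hF (φ ≫ e.inv)
    exact ⟨ψ ≫ e.hom, by rw [← Category.assoc, hψ, Category.assoc, e.inv_hom_id, Category.comp_id]⟩
  have key : Function.Surjective ((ModSite.toAb H).obj.map (homOfLE hUV).op) := by
    intro s
    let i : U ⟶ V := homOfLE hUV
    obtain ⟨φ, rfl⟩ := (CohVanish.sec_bijective (X := X.toTopCat) U (ModSite.toAb H)).2 s
    let α := Functor.whiskerRight (yoneda.map i) AddCommGrpCat.free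
    have hT : SSExist.TFPre (Limits.cokernel α) := by
      intro W m x hm hx
      have hπ : Function.Surjective ((Limits.cokernel.π α).app W) :=
        (AddCommGrpCat.epi_iff_surjective _).1 inferInstance
      obtain ⟨y, rfl⟩ := hπ x
      have hz : ∀ z, (Limits.cokernel.π α).app W (α.app W z) = 0 := fun z =>
        ConcreteCategory.congr_hom (congr_app (Limits.cokernel.condition α) W) z
      by_cases hW : W.unop ≤ U
      · have : Function.Surjective (α.app W) := by
          have h1 : IsIso ((yoneda.map i).app W) := (isIso_iff_bijective _).2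
            ⟨fun a b _ => @Subsingleton.elim (W.unop ⟶ U) _ a b,
              fun b => ⟨homOfLE hW, @Subsingleton.elim (W.unop ⟶ V) _ _ b⟩⟩
          have h2 : IsIso (α.app W) := inferInstanceAs (IsIso (AddCommGrpCat.free.map ((yoneda.map i).app W)))
          exact ((ConcreteCategory.isIso_iff_bijective _).1 h2).2
        obtain ⟨z, rfl⟩ := this y
        exact hz z
      · have hker : Function.Injective ((Limits.cokernel.π α).app W) := by
          have h0 : α.app W = 0 := by
            apply AddCommGrpCat.hom_ext
            refine FreeAbelianGroup.lift_ext _ _ fun g => ?_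
            exact absurd (leOfHom g) hW
          let cof := Limits.CokernelCofork.mapIsColimit _ (Limits.cokernelIsCokernel α) ((evaluation _ _).obj W)
          have := Limits.Cofork.IsColimit.desc' cof (𝟙 _) (by simp [h0])
          exact fun a b hab => (ConcreteCategory.congr_hom this.2 a).symm.trans
            ((congrArg this.1 hab).trans (ConcreteCategory.congr_hom this.2 b))
        refine (congrArg _ ?_).trans (map_zero _)
        refine SSExist.tfPre_free (yoneda.obj V) W m y hm (hker ?_)
        exact ((map_zsmul ((Limits.cokernel.π α).app W).hom m y).trans hx).trans (map_zero _).symm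
    let P := presheafToSheaf (Opens.grothendieckTopology X.toTopCat) AddCommGrpCat.{u}
    let S : ShortComplex (Sheaf (Opens.grothendieckTopology X.toTopCat) AddCommGrpCat.{u}) :=
      ShortComplex.mk (CohVanish.freeMap i) (Limits.cokernel.π _) (Limits.cokernel.condition _)
    have hS : S.ShortExact :=
      { exact := ShortComplex.exact_cokernel _
        mono_f := CohVanish.mono_freeMap i }
    haveI : Limits.PreservesColimit (Limits.parallelPair α 0) P := inferInstance
    let j := (sheafToPresheaf _ _).mapIso (Limits.PreservesCokernel.iso P α).symm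
    have h3 : SSExist.TFPre S.X₃.obj :=
      @SSExist.tfPre_of_mono _ _ _ _ j.hom (@IsIso.mono_of_iso _ _ _ _ j.hom (Iso.isIso_hom j)) (SSExist.tfPre_presheafToSheaf _ hT)
    obtain ⟨ψ, hψ⟩ := SSExist.exists_extension_toAb hH S hS h3 φ
    refine ⟨CohVanish.sec ψ, ?_⟩
    exact (CohVanish.sec_freeMap i ψ).symm.trans (congrArg CohVanish.sec hψ)
  exact key

end Groth.Agent.S10942
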