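import Groth.Statements.S10944
import Mathlib
-- import your own Groth.Agent.* helpers here

set_option autoImplicit false
universe u
open CategoryTheory AlgebraicGeometry
open FlatMor

namespace Groth.Agent.S10944

/-- Let f : X → Y be a flat morphism of Noetherian schemes and Y' an irreducible component of Y. Then
f⁻¹(Y') is the union of the irreducible components Z of X with f(Z) ⊆ Y'. -/
theorem result {X Y : Scheme.{u}}
    [IsNoetherian X] [IsNoetherian Y] (f : X ⟶ Y) [Flat f]
    (Y' : Set ↥Y) (hY' : Y' ∈ irreducibleComponents ↥Y) :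
    f.base ⁻¹' Y' = ⋃₀ {Z : Set ↥X | Z ∈ irreducibleComponents ↥X ∧ f.base '' Z ⊆ Y'} := by
  refine Set.Subset.antisymm (fun x hx => ?_) (Set.sUnion_subset fun Z hZ z hz => hZ.2 ⟨z, hz, rfl⟩)
  obtain ⟨η, hη⟩ := QuasiSober.sober hY'.1 (isClosed_of_mem_irreducibleComponents _ hY')
  obtain ⟨x', hx', hfx'⟩ := Flat.generalizingMap f (hη.specializes hx)
  let Z := irreducibleComponent x'
  have hZ := irreducibleComponent_mem_irreducibleComponents x'
  obtain ⟨ξ, hξ⟩ := QuasiSober.sober hZ.1 (isClosed_of_mem_irreducibleComponents _ hZ)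
  have hfξ : f ξ = η := by
    have h1 : f ξ ⤳ η := hfx' ▸ (hξ.specializes mem_irreducibleComponent).map f.continuous
    have hsub : Y' ⊆ closure {f ξ} := by
      rw [← hη.def]
      exact closure_minimal (Set.singleton_subset_iff.mpr h1.mem_closure) isClosed_closure
    have h2 : closure {f ξ} ⊆ Y' := hY'.2 isIrreducible_singleton.closure hsub
    exact ((hη.specializes (h2 (subset_closure rfl))).antisymm h1).eq.symm
  refine ⟨Z, ⟨hZ, ?_⟩, hx'.mem_closed (isClosed_of_mem_irreducibleComponents _ hZ) mem_irreducibleComponent⟩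
  rintro _ ⟨z, hz, rfl⟩
  exact (hfξ ▸ (hξ.specializes hz).map f.continuous : η ⤳ f z).mem_closed (isClosed_of_mem_irreducibleComponents _ hY') hη.mem

end Groth.Agent.S10944
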