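import Groth.Statements.S10945
import Mathlib
-- import your own Groth.Agent.* helpers here

set_option autoImplicit false
universe u
open CategoryTheory AlgebraicGeometry Opposite
open Coherent

namespace Groth.Agent.S10945

/-- Let X be a scheme and 0 → F' → F → F'' → 0 a short exact sequence of O_X-modules whose map on global
sections Γ(X, F) → Γ(X, F'') is surjective. If F' and F'' are generated by global sections (each is
a quotient of a free O_X-module), then F is generated by global sections. -/
theorem result (X : Scheme.{u})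
    (S : ShortComplex X.Modules) (hS : S.ShortExact)
    (hsurj : Function.Surjective (S.g.val.app (op ⊤)).hom)
    (h1 : Curv2.IsGloballyGenerated S.X₁) (h3 : Curv2.IsGloballyGenerated S.X₃) :
    Curv2.IsGloballyGenerated S.X₂ := by
  obtain ⟨ι₁, p₁, hp₁⟩ := h1
  obtain ⟨ι₃, p₃, hp₃⟩ := h3
  have hlift : ∀ s : SheafOfModules.sections S.X₃, ∃ t : SheafOfModules.sections S.X₂,
      SheafOfModules.sectionsMap S.g t = s := by
    intro s
    obtain ⟨t, ht⟩ := hsurj (s.eval (op ⊤))
    refine ⟨PresheafOfModules.sectionsMk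
      (fun U => S.X₂.val.map (homOfLE (le_top : U.unop ≤ ⊤)).op t) (fun U V f => ?_), ?_⟩
    · exact (congr($(S.X₂.val.presheaf.map_comp (homOfLE (le_top : U.unop ≤ ⊤)).op f) t)).symm
    · refine PresheafOfModules.sections_ext _ _ fun U => ?_
      show S.g.val.app U (S.X₂.val.map (homOfLE (le_top : U.unop ≤ ⊤)).op t) = s.val U
      rw [PresheafOfModules.naturality_apply, ht]
      exact PresheafOfModules.sections_property s _
  choose L hL using hlift
  let s₁ := SheafOfModules.freeHomEquiv _ p₁
  let s₃ := SheafOfModules.freeHomEquiv _ p₃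
  let fam : ι₁ ⊕ ι₃ → SheafOfModules.sections S.X₂ :=
    Sum.elim (fun i => SheafOfModules.sectionsMap S.f (s₁ i)) (fun i => L (s₃ i))
  let Fr : Type u → X.Modules := fun ι => SheafOfModules.free ι
  let p : Fr (ι₁ ⊕ ι₃) ⟶ S.X₂ := (SheafOfModules.freeHomEquiv _).symm fam
  refine ⟨ι₁ ⊕ ι₃, p, Preadditive.epi_of_cancel_zero p ?_⟩
  intro W q hq
  have hsec : ∀ i, SheafOfModules.sectionsMap q (fam i) =
      SheafOfModules.freeHomEquiv W (0 : Fr (ι₁ ⊕ ι₃) ⟶ W) i := by
    intro i
    refine Eq.trans ?_ (congrArg (fun m => SheafOfModules.freeHomEquiv W m i) hq)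
    refine Eq.trans ?_ (SheafOfModules.freeHomEquiv_comp_apply _ q i).symm
    rw [Equiv.apply_symm_apply]
  have hz : ∀ (ι : Type u) (i : ι), ∀ U,
      (SheafOfModules.freeHomEquiv W (0 : Fr ι ⟶ W) i).val U = 0 :=
    fun ι i U => rfl
  have h1' : S.f ≫ q = 0 := by
    refine (cancel_epi p₁).mp (Eq.trans ?_ Limits.comp_zero.symm)
    refine (SheafOfModules.freeHomEquiv W).injective (funext fun i => ?_)
    refine (SheafOfModules.freeHomEquiv_comp_apply p₁ (S.f ≫ q) i).trans ?_
    refine PresheafOfModules.sections_ext _ _ fun U => ?_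
    refine Eq.trans ?_ (hz _ i U).symm
    exact (congrArg (fun s => s.val U) (hsec (Sum.inl i))).trans (hz _ (Sum.inl i) U)
  haveI := hS.epi_g
  obtain ⟨r, rfl⟩ : ∃ r, S.g ≫ r = q := ⟨hS.exact.desc q h1', hS.exact.g_desc q h1'⟩
  suffices r = 0 by rw [this, Limits.comp_zero]
  refine (cancel_epi p₃).mp (Eq.trans ?_ Limits.comp_zero.symm)
  refine (SheafOfModules.freeHomEquiv W).injective (funext fun i => ?_)
  refine (SheafOfModules.freeHomEquiv_comp_apply p₃ r i).trans ?_
  refine PresheafOfModules.sections_ext _ _ fun U => ?_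
  refine Eq.trans ?_ (hz _ i U).symm
  have := (congrArg (fun s => s.val U) (hsec (Sum.inr i))).trans (hz _ _ _)
  refine Eq.trans ?_ this
  exact congrArg (fun s => (SheafOfModules.sectionsMap r s).val U) (hL (s₃ i)).symm

end Groth.Agent.S10945
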