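import Groth.Statements.S10947
import Groth.Agent.InvPow.Resolution
import Groth.Agent.DCohPerf.Coherent
import Groth.Agent.InvPow.AmplePullback
import Groth.Agent.PicTwist.Basic
import Groth.Agent.CechCmp.Scheme
import Groth.Agent.QCohLib.Coherent
import Groth.Agent.CohVanish.Sections

set_option autoImplicit false
set_option backward.isDefEq.respectTransparency false
universe u
open CategoryTheory AlgebraicGeometry
open Coherent

open Groth.Agent Groth.Agent.CechCmp CategoryTheory.Limits
open scoped Groth.Agent.CohVanish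
set_option linter.style.haveILetI false

namespace Groth.Agent.S10947

/-- Let k be a field and X a quasi-projective scheme over k, given with an immersion ι : X → P^N_k into
a projective space. If n is a natural number with H^i(X, E) = 0 for all finite locally free
O_X-modules E and all i > n, then H^i(X, F) = 0 for all coherent O_X-modules F (quasi-coherent of
finite type) and all i > n. -/
theorem result
    (k : Type u) [Field k] (N : ℕ) {X : Scheme.{u}} (ι : X ⟶ CohB1.ProjSpace N k) [IsImmersion ι]
    (n : ℕ) (h : ∀ E : X.Modules, FlatMod.IsFinLocFree E → ∀ i : ℕ, n < i → Subsingleton (Coh.HH X E i))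
    (F : X.Modules) (hF : Coh.IsCoh F) (i : ℕ) (hi : n < i) :
    Subsingleton (Coh.HH X F i) := by
  haveI : IsProper (CohB1.ProjSpace.toSpec N k) := Groth.Agent.InvPow.isProper_toSpec N k
  haveI : IsLocallyNoetherian (CohB1.ProjSpace N k) :=
    LocallyOfFiniteType.isLocallyNoetherian (CohB1.ProjSpace.toSpec N k)
  haveI : CompactSpace (CohB1.ProjSpace N k) :=
    QuasiCompact.compactSpace_of_compactSpace (CohB1.ProjSpace.toSpec N k)
  haveI : IsLocallyNoetherian X := LocallyOfFiniteType.isLocallyNoetherian ι
  haveI : AlgebraicGeometry.IsNoetherian (CohB1.ProjSpace N k) := ⟨⟩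
  haveI : TopologicalSpace.NoetherianSpace X := ι.isEmbedding.isInducing.noetherianSpace
  haveI : QuasiCompact ι := (quasiCompact_iff ι).mpr fun U _ _ => TopologicalSpace.NoetherianSpace.isCompact _
  haveI : CompactSpace X := QuasiCompact.compactSpace_of_compactSpace ι
  haveI : X.IsSeparated := ⟨by
    rw [← terminal.comp_from (ι ≫ CohB1.ProjSpace.toSpec N k)]
    infer_instance⟩
  have hO1 : CohB1.IsAmple (Twist.twistProjSpace N k 1) := Groth.Agent.PicTwist.isAmple_twistProjSpace_one
  have hA : CohB1.IsAmple ((Scheme.Modules.pullback ι).obj (Twist.twistProjSpace N k 1)) := by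
    refine Groth.Agent.InvPow.isAmple_pullback_quasiAffine hO1 ι fun y => ?_
    obtain ⟨U, hU, hyU, -⟩ := exists_isAffineOpen_mem_and_subset (X := CohB1.ProjSpace N k) (x := ι y) (U := ⊤) trivial
    haveI : IsAffine (U : Scheme.{u}) := hU
    haveI : CompactSpace ((ι ⁻¹ᵁ U : X.Opens) : Scheme.{u}) :=
      isCompact_iff_compactSpace.mp (ι.isCompact_preimage hU.isCompact)
    exact ⟨U, hyU, Scheme.IsQuasiAffine.of_isImmersion (ι ∣_ U)⟩
  have hfam : MoreMor.HasAmpleFamily X := ⟨inferInstance, fun x => by
    obtain ⟨d, s, hx, ha⟩ := hA.2.2 x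
    exact ⟨_, d + 1, s, hA.1, Nat.succ_pos d, hx, ha⟩⟩
  have hres := Groth.Agent.InvPow.hasResolutionProperty_of_hasAmpleFamily hfam
  classical
  -- a finite affine cover bounds the cohomological dimension
  obtain ⟨C, hC⟩ := isCompact_univ.elim_finite_subcover (fun V : X.affineOpens => (V.1 : Set X))
    (fun V => V.1.2) fun x _ => by
      obtain ⟨V, hV, hxV, -⟩ := exists_isAffineOpen_mem_and_subset (X := X) (x := x) (U := ⊤) trivial
      exact Set.mem_iUnion.mpr ⟨⟨V, hV⟩, hxV⟩
  let U : C → X.Opens := fun V => V.1.1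
  have hUa : ∀ s : Finset C, s.Nonempty → IsAffineOpen (RSh.meetOpen U s) := fun s hs => by
    induction hs using Finset.Nonempty.cons_induction with
    | singleton a =>
      rw [RSh.meetOpen, Finset.iInf_singleton]
      exact a.1.2
    | cons a s ha hs ih =>
      rw [RSh.meetOpen, Finset.cons_eq_insert, Finset.iInf_insert]
      exact a.1.2.inf ih
  have hcov : ⨆ V, U V = ⊤ := top_unique fun x _ => by
    obtain ⟨V, hV, hxV⟩ := Set.mem_iUnion₂.mp (hC (Set.mem_univ x))
    exact TopologicalSpace.Opens.mem_iSup.mpr ⟨⟨V, hV⟩, hxV⟩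
  have key : ∀ (r : ℕ) (G : X.Modules), Coh.IsCoh G → ∀ j : ℕ, n < j → C.card ≤ j + r →
      Subsingleton (Coh.HH X G j) := by
    intro r
    induction r with
    | zero =>
      intro G hG j _ hj
      haveI : G.IsQuasicoherent := hG.1
      rcases isEmpty_or_nonempty C with hE | hne
      · haveI : IsEmpty X := ⟨fun x => by
          obtain ⟨V, hV, -⟩ := Set.mem_iUnion₂.mp (hC (Set.mem_univ x))
          exact hE.false ⟨V, hV⟩⟩
        exact Groth.Agent.CohVanish.subsingleton_HH_of_isZero
          (Groth.Agent.QCohLib.isZero_of_subsingleton_stalk fun x => isEmptyElim x) j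
      · classical
        let φ := Coh.toGlobal (ι ≫ CohB1.ProjSpace.toSpec N k)
        haveI : Subsingleton (((Groth.Agent.CechCmp.modRSh φ G).sys U).H j) :=
          Groth.Agent.CechCmp.Sys.subsingleton_H_of_fintype_card_le _ (by simpa using hj)
        exact Groth.Agent.CechCmp.subsingleton_HH φ G U hcov hUa j
    | succ r ih =>
      intro G hG j hj hle
      obtain ⟨E, π, hE, hπ⟩ := hres G hG.1 hG.2
      have hEc : Coh.IsCoh E := Groth.Agent.DCohPerf.isCoh_finLocFree hE
      have hK : Coh.IsCoh (kernel π) := Groth.Agent.QCohLib.isCoh_kernel π hEc hG.1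
      exact Groth.Agent.CohVanish.subsingleton_HH_of_shortExact₃ (Groth.Agent.CohVanish.shortExact_of_epi π) j
        (h E hE j hj) (ih _ hK (j + 1) (by omega) (by omega))
  exact key C.card F hF i hi (by omega)
end Groth.Agent.S10947
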