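import Groth.Statements.S15517
-- import your own Groth.Agent.* helpers here
import Groth.Agent.CohDual.DualCM
import Groth.Agent.S10934

set_option autoImplicit false
universe u
open CategoryTheory AlgebraicGeometry
open ProjDual

namespace Groth.Agent.S15517

/-- (i) ⇒ (iii): let k be a field and X a k-scheme of dimension n with a closed immersion ι into P^N_k
over k, such that the local ring of X at every closed point is Cohen–Macaulay of Krull dimension n.
Let (ω, t) be a dualizing sheaf for X: ω is a coherent O_X-module and t : H^n(X, ω) → k a k-linear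
map such that for every coherent F and every k-linear form ψ on H^n(X, F) there is exactly one φ : F
→ ω with ψ = t ∘ H^n(φ). Let F be a coherent O_X-module. Then for every i ≤ n the group Ext^i(F, ω)
in the category of all O_X-modules (the Ext instance is the stated hypothesis; it holds), with its
k-linear structure, is k-linearly isomorphic to the k-dual of H^(n-i)(X, F); and for every i > n the
group Ext^i(F, ω) vanishes. (Existence of a k-linear isomorphism only; the published statement, for
X connected and Cohen–Macaulay, says the duality maps extending the pairing in degree 0 are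
bijective for every i ≥ 0, with H^(n-i) = 0 for i > n; the dimension condition at closed points
replaces connectedness, which the published proof uses only through equidimensionality.) -/
theorem result
    (k : Type u) [Field k] (N n : ℕ) (X : Scheme.{u}) [X.Over (Spec (CommRingCat.of k))]
    (ι : X ⟶ CohB1.ProjSpace N k) [IsClosedImmersion ι]
    (hι : ι ≫ CohB1.ProjSpace.toSpec N k = X ↘ Spec (CommRingCat.of k))
    (hn : topologicalKrullDim ↥X = n)
    (hCM : ∀ x : X, IsClosed ({x} : Set ↥X) →
      LocCoh.IsCohenMacaulayLocalRing (X.presheaf.stalk x) ∧ ringKrullDim (X.presheaf.stalk x) = n)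
    [HasExt.{u} X.Modules]
    (ω : X.Modules) (hω : Coh.IsCoh ω) (t : Coh.HH X ω n →ₗ[k] k)
    (hdual : ∀ F : X.Modules, Coh.IsCoh F → ∀ ψ : Coh.HH X F n →ₗ[k] k,
        ∃! φ : F ⟶ ω, ∀ x : Coh.HH X F n,
          ψ x = t (Sheaf.H.map ((SheafOfModules.toSheaf X.ringCatSheaf).map φ) n x))
    (F : X.Modules) (hF : Coh.IsCoh F) :
    (∀ i : ℕ, i ≤ n → Nonempty (Abelian.Ext F ω i ≃ₗ[k] Module.Dual k (Coh.HH X F (n - i)))) ∧
    ∀ i : ℕ, n < i → Subsingleton (Abelian.Ext F ω i) := by
  obtain ⟨q₀, hq₀⟩ := (Groth.Agent.S10934.result k N n ι hn).1 hCM (Coh.structureModule X)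
    Groth.Agent.CohDual.isFinLocFree_unit
  have hvan : ∀ p, p < n → ∃ m₀ : ℤ, ∀ m : ℤ, m₀ ≤ m →
      Subsingleton (Coh.HH X (Groth.Agent.CohDual.tw ι (-m)) p) := fun p hp => ⟨(q₀ : ℤ), fun m hm => by
    obtain ⟨m, rfl⟩ := Int.eq_ofNat_of_zero_le ((Int.natCast_nonneg q₀).trans hm)
    obtain ⟨c⟩ := ProjTwist.nonempty_tensorMod_comm (Coh.structureModule X) (Groth.Agent.CohDual.tw ι (-(m : ℤ)))
    obtain ⟨u⟩ := NegVanish.nonempty_tensor_structureModule (Groth.Agent.CohDual.isInvertible_tw ι (-(m : ℤ)))
    exact @CohVanish.subsingleton_HH_of_iso X _ _ (c ≪≫ u) p (hq₀ m (by exact_mod_cast hm) p hp)⟩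
  refine ⟨fun i hi => Groth.Agent.CohDual.nonempty_ext_dual_range ι n n ω hω t hdual (fun p hp _ => hvan p hp)
    F hF i hi hi, fun i hi => ?_⟩
  obtain ⟨a, rfl⟩ : ∃ a, i = n + a + 1 := ⟨i - n - 1, by omega⟩
  exact Groth.Agent.CohDual.subsingleton_ext_of_gt ι n ω hω t hdual hvan a F hF

end Groth.Agent.S15517
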