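import Groth.Statements.S10953
import Mathlib
-- import your own Groth.Agent.* helpers here

set_option autoImplicit false
universe u
open RedSep

open CategoryTheory.Limits

namespace Groth.Agent.S10953

open AlgebraicGeometry CategoryTheory in
/-- For a morphism of schemes f : X → S to an affine scheme S such that any two points of X with the
same image in S lie in one common affine open subset of X, the morphism f is separated. -/
theorem result {X S : Scheme.{u}} [IsAffine S] (f : X ⟶ S)
    (h : ∀ x y : X, f x = f y → ∃ U : X.Opens, IsAffineOpen U ∧ x ∈ U ∧ y ∈ U) :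
    IsSeparated f := by
  refine ⟨IsClosedImmersion.of_isPreimmersion _ (isOpen_compl_iff.mp (isOpen_iff_forall_mem_open.mpr fun z hz => ?_))⟩
  have hxy : f (pullback.fst f f z) = f (pullback.snd f f z) := congrArg (fun m : pullback f f ⟶ S => m.base z) pullback.condition
  obtain ⟨U, hU, hxU, hyU⟩ := h _ _ hxy
  haveI : IsAffine U.toScheme := hU
  let m : pullback (U.ι ≫ f) (U.ι ≫ f) ⟶ pullback f f :=
    pullback.map _ _ _ _ U.ι U.ι (𝟙 S) (by simp) (by simp)
  have hΔ : pullback.diagonal (U.ι ≫ f) ≫ m = U.ι ≫ pullback.diagonal f := by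
    apply pullback.hom_ext
    · erw [Category.assoc, pullback.lift_fst, ← Category.assoc, pullback.diagonal_fst, Category.assoc, pullback.diagonal_fst]; simp
    · erw [Category.assoc, pullback.lift_snd, ← Category.assoc, pullback.diagonal_snd, Category.assoc, pullback.diagonal_snd]; simp
  haveI : IsOpenImmersion m := inferInstanceAs (IsOpenImmersion (pullback.map _ _ _ _ U.ι U.ι (𝟙 S) (by simp) (by simp)))
  refine ⟨m '' (Set.range (pullback.diagonal (U.ι ≫ f)))ᶜ, ?_, m.isOpenEmbedding.isOpenMap _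
    (pullback.diagonal (U.ι ≫ f)).isClosedMap.isClosed_range.isOpen_compl, ?_⟩
  · rintro _ ⟨w, hw, rfl⟩ ⟨x, hx⟩
    refine hw ?_
    have hxU : x ∈ U := by
      have h1 : pullback.fst f f (m w) = U.ι (pullback.fst (U.ι ≫ f) (U.ι ≫ f) w) :=
        congrArg (fun n : pullback (U.ι ≫ f) (U.ι ≫ f) ⟶ X => n.base w) (pullback.lift_fst _ _ _)
      rw [← hx] at h1
      have h2 : pullback.fst f f (pullback.diagonal f x) = x := congrArg (fun n => n.base x) (pullback.diagonal_fst f)
      rw [h2] at h1
      exact h1 ▸ (pullback.fst (U.ι ≫ f) (U.ι ≫ f) w).2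
    refine ⟨⟨x, hxU⟩, m.isOpenEmbedding.injective ?_⟩
    exact (congrArg (fun n => n.base (⟨x, hxU⟩ : U)) hΔ).trans hx
  · obtain ⟨w, rfl⟩ : z ∈ Set.range m := by
      show z ∈ Set.range (pullback.map _ _ _ _ U.ι U.ι (𝟙 S) _ _)
      rw [Scheme.Pullback.range_map]
      simp only [Scheme.Opens.range_ι]
      exact ⟨hxU, hyU⟩
    exact ⟨w, fun ⟨u, hu⟩ => hz ⟨U.ι u, hu ▸ (congrArg (fun n => n.base u) hΔ).symm⟩, rfl⟩

end Groth.Agent.S10953
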