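import Groth.Statements.S10955
import Mathlib

set_option autoImplicit false
universe u
open scoped TensorProduct
open Unram

namespace Groth.Agent.S10955

open KaehlerDifferential in
theorem formallySmooth_iff_lTensor (A B S : Type u) [CommRing A] [CommRing B] [CommRing S] [IsLocalRing S]
    [Algebra A B] [Algebra B S] [Algebra A S] [IsScalarTower A B S] [Algebra.EssFiniteType A B]
    [Algebra.EssFiniteType A S] [Algebra.FormallySmooth A S] :
    Algebra.FormallySmooth B S ↔
      Function.Injective ((mapBaseChange A B S).lTensor (IsLocalRing.ResidueField S)) := by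
  haveI : Module.Projective S Ω[S⁄A] := Algebra.FormallySmooth.projective_kaehlerDifferential
  haveI : Module.FinitePresentation S Ω[S⁄A] := inferInstance
  haveI : Module.Free S Ω[S⁄A] := Module.free_of_flat_of_isLocalRing
  rw [← IsLocalRing.split_injective_iff_lTensor_residueField_injective]
  have hex := exact_mapBaseChange_map A B S
  have hsurj : Function.Surjective (map A B S S) := map_surjective A B S
  constructor
  · intro h
    haveI := h
    have hinj : Function.Injective (mapBaseChange A B S) := by
      rw [injective_iff_map_eq_zero]
      intro x hx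
      obtain ⟨y, rfl⟩ := (Algebra.H1Cotangent.exact_δ_mapBaseChange A B S x).mp hx
      rw [Subsingleton.elim y 0, map_zero]
    haveI : Module.Projective S Ω[S⁄B] := Algebra.FormallySmooth.projective_kaehlerDifferential
    obtain ⟨l, hl⟩ := Module.projective_lifting_property (map A B S S) LinearMap.id hsurj
    have h01 := (hex.split_tfae hinj hsurj).out 0 1
    exact h01.mp ⟨l, hl⟩
  · rintro ⟨l, hl⟩
    have hinj : Function.Injective (mapBaseChange A B S) :=
      Function.HasLeftInverse.injective ⟨l, LinearMap.congr_fun hl⟩
    have h01 := (hex.split_tfae hinj hsurj).out 0 1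
    obtain ⟨r, hr⟩ := h01.mpr ⟨l, hl⟩
    rw [Algebra.formallySmooth_iff]
    refine ⟨Module.Projective.of_split r (map A B S S) hr, ⟨fun a b => ?_⟩⟩
    suffices H : ∀ z : Algebra.H1Cotangent B S, z = 0 by rw [H a, H b]
    intro z
    have hz : Algebra.H1Cotangent.δ A B S z = 0 :=
      hinj (((Algebra.H1Cotangent.exact_δ_mapBaseChange A B S).apply_apply_eq_zero z).trans (map_zero _).symm)
    obtain ⟨w, rfl⟩ := (Algebra.H1Cotangent.exact_map_δ A B S z).mp hz
    rw [Subsingleton.elim w 0, map_zero]

open KaehlerDifferential TensorProduct in
theorem lTensor_localization_iff (A B C L K : Type u) [CommRing A] [CommRing B] [CommRing C] [CommRing L]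
    [CommRing K] [Algebra A B] [Algebra B C] [Algebra A C] [IsScalarTower A B C] [Algebra C L] [Algebra A L]
    [Algebra B L] [IsScalarTower A C L] [IsScalarTower B C L] [IsScalarTower A B L]
    [Algebra.FormallyEtale C L] [Algebra L K] [Algebra C K] [IsScalarTower C L K] [Algebra B K]
    [IsScalarTower B C K] [IsScalarTower B L K] :
    Function.Injective ((mapBaseChange A B C).lTensor K) ↔
      Function.Injective ((mapBaseChange A B L).lTensor K) := by
  let e1 : K ⊗[C] (C ⊗[B] Ω[B⁄A]) ≃ₗ[K] K ⊗[L] (L ⊗[B] Ω[B⁄A]) :=
    AlgebraTensorModule.cancelBaseChange B C K K Ω[B⁄A] ≪≫ₗ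
      (AlgebraTensorModule.cancelBaseChange B L K K Ω[B⁄A]).symm
  have hbc := KaehlerDifferential.isBaseChange_of_formallyEtale A C L
  let e2 : K ⊗[C] Ω[C⁄A] ≃ₗ[K] K ⊗[L] Ω[L⁄A] :=
    (AlgebraTensorModule.cancelBaseChange C L K K Ω[C⁄A]).symm ≪≫ₗ
      AlgebraTensorModule.congr (LinearEquiv.refl K K) hbc.equiv
  have key : ∀ z, e2 ((mapBaseChange A B C).lTensor K z) = (mapBaseChange A B L).lTensor K (e1 z) := by
    intro z
    induction z using TensorProduct.induction_on with
    | zero => simp
    | add a b ha hb => simp only [map_add, ha, hb]
    | tmul k y =>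
      induction y using TensorProduct.induction_on with
      | zero => simp
      | add a b ha hb => simp only [tmul_add, map_add, ha, hb]
      | tmul c ω =>
        simp only [e1, e2, LinearEquiv.trans_apply, LinearMap.lTensor_tmul, mapBaseChange_tmul,
          AlgebraTensorModule.cancelBaseChange_tmul, AlgebraTensorModule.cancelBaseChange_symm_tmul,
          AlgebraTensorModule.congr_tmul, LinearEquiv.refl_apply, IsBaseChange.equiv_tmul, one_smul,
          map_smul, tmul_smul]
        rw [smul_tmul', AlgebraTensorModule.cancelBaseChange_symm_tmul, AlgebraTensorModule.congr_tmul, IsBaseChange.equiv_tmul,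
          one_smul, LinearEquiv.refl_apply]
        congr 1
        have hω : ω ∈ Submodule.span B (Set.range (KaehlerDifferential.D A B)) := by
          rw [KaehlerDifferential.span_range_derivation]; trivial
        induction hω using Submodule.span_induction with
        | mem x hx =>
          obtain ⟨b, rfl⟩ := hx
          simp [KaehlerDifferential.map_D, ← IsScalarTower.algebraMap_apply]
        | zero => simp
        | add x y _ _ hx hy => simp [map_add, hx, hy]
        | smul r x _ hx => rw [map_smul, LinearMap.map_smul_of_tower, map_smul, hx]
  have : (e2 : _ → _) ∘ (mapBaseChange A B C).lTensor K = (mapBaseChange A B L).lTensor K ∘ e1 := funext key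
  rw [← e2.injective.of_comp_iff, this, Function.Injective.of_comp_iff' _ e1.bijective]


/-- Let A → B → C be ring homomorphisms with B and C finitely presented over A, let q be a prime ideal
of C and p its inverse image in B, and assume that C is smooth over A at q and that B is smooth over
A at p. Then C is smooth over B at q if and only if the map obtained from the canonical map C ⊗_B
Ω_{B/A} → Ω_{C/A} by tensoring over C with the residue field k(q) is injective. -/
theorem result (A B C : Type u) [CommRing A] [CommRing B]
    [CommRing C] [Algebra A B] [Algebra B C] [Algebra A C] [IsScalarTower A B C]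
    [Algebra.FinitePresentation A B] [Algebra.FinitePresentation A C] (q : Ideal C) [q.IsPrime]
    (hC : Algebra.IsSmoothAt A q) (hB : Algebra.IsSmoothAt A (q.under B)) :
    Algebra.IsSmoothAt B q ↔
      Function.Injective ((KaehlerDifferential.mapBaseChange A B C).lTensor q.ResidueField) := by
  haveI : Algebra.FiniteType B C := Algebra.FiniteType.of_restrictScalars_finiteType A B C
  haveI : Algebra.EssFiniteType A (Localization.AtPrime q) := by
    haveI : Algebra.EssFiniteType C (Localization.AtPrime q) := .of_isLocalization _ q.primeCompl
    exact .comp _ C _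
  haveI : Algebra.FormallySmooth A (Localization.AtPrime q) := hC
  haveI : Algebra.FormallyEtale C (Localization.AtPrime q) := .of_isLocalization q.primeCompl
  show Algebra.FormallySmooth B (Localization.AtPrime q) ↔ _
  rw [formallySmooth_iff_lTensor A B (Localization.AtPrime q)]
  exact (lTensor_localization_iff A B C (Localization.AtPrime q) q.ResidueField).symm

end Groth.Agent.S10955
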