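import Groth.Statements.S10956
import Mathlib
-- import your own Groth.Agent.* helpers here

set_option autoImplicit false
universe u
open scoped TensorProduct
open CAlg

namespace Groth.Agent.S10956

/-- Let R be a commutative ring, A and B commutative R-algebras and T = A ⊗_R B, an A-algebra through
the left factor. There is a T-linear map r from Ω_{T/R} to T ⊗_A Ω_{A/R} sending d(a ⊗ b) to (1 ⊗ b)
⊗ da for all a in A and b in B, and together with the canonical map Ω_{T/R} → Ω_{T/A} it identifies
Ω_{T/R} with the product (T ⊗_A Ω_{A/R}) × Ω_{T/A}. (The published statement is the isomorphism of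
(Ω_{A/R} ⊗_R B) ⊕ (A ⊗_R Ω_{B/R}) with Ω_{T/R} matching the exterior differentials; it is stated
here through the canonical identifications T ⊗_A Ω_{A/R} = Ω_{A/R} ⊗_R B and Ω_{T/A} = A ⊗_R
Ω_{B/R}.) -/
theorem result (R A B : Type u) [CommRing R] [CommRing A] [CommRing B]
    [Algebra R A] [Algebra R B] :
    ∃ r : Ω[(A ⊗[R] B)⁄R] →ₗ[A ⊗[R] B] ((A ⊗[R] B) ⊗[A] Ω[A⁄R]),
      (∀ (a : A) (b : B), r (KaehlerDifferential.D R (A ⊗[R] B) (a ⊗ₜ[R] b)) =
          ((1 : A) ⊗ₜ[R] b) ⊗ₜ[A] KaehlerDifferential.D R A a) ∧
        Function.Bijective (fun ω : Ω[(A ⊗[R] B)⁄R] =>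
          (r ω, KaehlerDifferential.map R A (A ⊗[R] B) (A ⊗[R] B) ω)) := by
  let T := A ⊗[R] B
  let M := T ⊗[A] Ω[A⁄R]
  let dA := KaehlerDifferential.D R A
  let f : T →ₗ[R] M := TensorProduct.lift
    (LinearMap.mk₂ R (fun a b => ((1 : A) ⊗ₜ[R] b) ⊗ₜ[A] dA a)
      (fun a a' b => by simp only [map_add, TensorProduct.tmul_add])
      (fun c a b => by simp only [Derivation.map_smul, TensorProduct.tmul_smul])
      (fun a b b' => by simp only [TensorProduct.tmul_add, TensorProduct.add_tmul])
      (fun c a b => by simp only [TensorProduct.tmul_smul, ← TensorProduct.smul_tmul']))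
  have hf : ∀ a b, f (a ⊗ₜ b) = ((1 : A) ⊗ₜ[R] b) ⊗ₜ[A] dA a := fun a b => rfl
  have hleib : ∀ s t : T, f (s * t) = s • f t + t • f s := by
    intro s t
    induction s using TensorProduct.induction_on with
    | zero => simp
    | add s s' hs hs' => simp only [add_mul, map_add, hs, hs', add_smul, smul_add]; abel
    | tmul a b =>
      induction t using TensorProduct.induction_on with
      | zero => simp
      | add t t' ht ht' => simp only [mul_add, map_add, ht, ht', add_smul, smul_add]; abel
      | tmul a' b' =>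
        rw [Algebra.TensorProduct.tmul_mul_tmul, hf, hf, hf, Derivation.leibniz, TensorProduct.tmul_add,
          TensorProduct.tmul_smul, TensorProduct.tmul_smul, TensorProduct.smul_tmul', TensorProduct.smul_tmul',
          TensorProduct.smul_tmul', TensorProduct.smul_tmul']
        simp [TensorProduct.smul_tmul', Algebra.TensorProduct.tmul_mul_tmul, mul_comm b b']
        rw [show ∀ (x y : T) (m : Ω[A⁄R]), x • (y ⊗ₜ[A] m) = (x * y) ⊗ₜ[A] m from fun x y m => rfl,
          show ∀ (x y : T) (m : Ω[A⁄R]), x • (y ⊗ₜ[A] m) = (x * y) ⊗ₜ[A] m from fun x y m => rfl,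
          Algebra.TensorProduct.tmul_mul_tmul, Algebra.TensorProduct.tmul_mul_tmul, mul_one, mul_one, mul_comm b b']
  let D : Derivation R T M := Derivation.mk' f hleib
  let r := D.liftKaehlerDifferential
  have hr : ∀ t, r (KaehlerDifferential.D R T t) = f t := fun t => D.liftKaehlerDifferential_comp_D t
  refine ⟨r, fun a b => hr _, ?_⟩
  let ι := KaehlerDifferential.mapBaseChange R A T
  have hsec : ∀ m, r (ι m) = m := by
    intro m
    induction m using TensorProduct.induction_on with
    | zero => simp
    | add m m' h h' => rw [map_add, map_add, h, h']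
    | tmul t ω =>
      rw [KaehlerDifferential.mapBaseChange_tmul, map_smul]
      have hω : ω ∈ Submodule.span A (Set.range dA) := by rw [KaehlerDifferential.span_range_derivation]; trivial
      induction hω using Submodule.span_induction with
      | mem x hx =>
        obtain ⟨a, rfl⟩ := hx
        rw [KaehlerDifferential.map_D, hr, show algebraMap A T a = a ⊗ₜ[R] (1 : B) from rfl, hf,
          TensorProduct.smul_tmul', smul_eq_mul, ← Algebra.TensorProduct.one_def, mul_one]
      | zero => simp
      | add x y _ _ hx hy => rw [map_add, map_add, smul_add, hx, hy, TensorProduct.tmul_add]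
      | smul c x _ hx => rw [map_smul, LinearMap.map_smul_of_tower, smul_comm, hx, TensorProduct.tmul_smul]
  have hex := KaehlerDifferential.exact_mapBaseChange_map R A T
  refine ⟨fun x y h => ?_, fun ⟨m, w⟩ => ?_⟩
  · simp only [Prod.mk.injEq] at h
    obtain ⟨m, hm⟩ := (hex (x - y)).1 (by rw [map_sub]; exact sub_eq_zero.2 h.2)
    have : m = 0 := by rw [← hsec m]; simp only [ι, hm, map_sub]; exact sub_eq_zero.2 h.1
    rw [this, map_zero, eq_comm, sub_eq_zero] at hm
    exact hm
  · obtain ⟨ω, hω⟩ := KaehlerDifferential.map_surjective R A T w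
    refine ⟨ω + ι (m - r ω), Prod.ext ?_ ?_⟩
    · change r (ω + ι (m - r ω)) = m
      rw [map_add, hsec, add_sub_cancel]
    · change KaehlerDifferential.map R A T T (ω + ι (m - r ω)) = w
      rw [map_add, hω, hex.apply_apply_eq_zero, add_zero]

end Groth.Agent.S10956
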