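import Groth.Statements.S10957
import Groth.Agent.S11269
import Groth.Agent.DepthLib.SerreNormal

set_option autoImplicit false
universe u
open CAlg

namespace Groth.Agent.S10957

theorem hasRk_hasSk_of_normal (A : Type u) [CommRing A] [IsDomain A] [IsNoetherianRing A]
    [IsIntegrallyClosed A] : LocCoh.HasRk 1 A ∧ LocCoh.HasSk 2 A A :=
  DepthLib.hasRk_one_hasSk_two_of_normal fun p hp =>
    ⟨inferInstance, isIntegrallyClosed_of_isLocalization _ p.primeCompl p.primeCompl_le_nonZeroDivisors⟩


/-- Let A be a Noetherian local integral domain that is normal (integrally closed in its field of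
fractions). If there is a nonzero element a of A such that the maximal ideal of A is an associated
prime of the A-module A/(a), then A is a discrete valuation ring. (The other conditions listed in
the published result — normal of dimension one, maximal ideal nonzero principal, regular of
dimension one — are the library's standard characterisations; this row records the criterion through
an associated prime.) -/
theorem result
    (A : Type u) [CommRing A] [IsDomain A] [IsNoetherianRing A] [IsLocalRing A] [IsIntegrallyClosed A]
    (a : A) (ha : a ≠ 0)
    (hass : IsLocalRing.maximalIdeal A ∈ associatedPrimes A (A ⧸ Ideal.span ({a} : Set A))) :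
    IsDiscreteValuationRing A := by
  have hht : (IsLocalRing.maximalIdeal A).height = 1 :=
    (S11269.result A).mp (hasRk_hasSk_of_normal A).2 a ha _ hass
  have hdim : ringKrullDim A = ((1 : ℕ∞) : WithBot ℕ∞) := by
    rw [← IsLocalRing.maximalIdeal_height_eq_ringKrullDim, hht]
  haveI := DepthLib.isRegularLocalRing_of_isIntegrallyClosed (A := A) (le_of_eq (hdim.trans WithBot.coe_one))
  have hf : ¬ IsField A := fun hf => by
    have := ringKrullDim_eq_zero_of_isField hf
    rw [hdim] at this
    exact one_ne_zero (WithBot.coe_injective this)
  haveI : IsPrincipalIdealRing A := by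
    refine ((tfae_of_isNoetherianRing_of_isLocalRing_of_isDomain A).out 4 0 rfl rfl).mp ?_
    have h1 := IsRegularLocalRing.spanFinrank_maximalIdeal (R := A)
    rw [hdim] at h1
    exact ((Submodule.spanFinrank_eq_one_iff _).mp (by exact_mod_cast h1)).1
  exact { __ := (inferInstance : IsPrincipalIdealRing A), __ := (inferInstance : IsLocalRing A),
          not_a_field' := fun h => hf (IsLocalRing.isField_iff_maximalIdeal_eq.mpr h) }

end Groth.Agent.S10957
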