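import Groth.Statements.S10959
import Groth.Agent.GrpSchField.Subgroup

set_option autoImplicit false
universe u
open CategoryTheory MonoidalCategory CartesianMonoidalCategory MonObj GrpObj AlgebraicGeometry
open AbVar

namespace Groth.Agent.S10959

/-- Let K be an algebraically closed field and A an abelian variety over K (a group scheme over Spec K
with proper smooth structure morphism and irreducible underlying space). Let Z be a closed subset of
A which is not all of A, and z a K-valued point of A. Then there is a K-valued point x of A such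
that the point underlying z lies neither in the translate of Z by x nor in the translate of Z by the
inverse of x; here the translation by x is the morphism A → A given on points by a ↦ a·x, the
product of the identity and the constant map x in the group of morphisms into A. (The published
statement takes Z to be the support of an effective divisor; this row allows any closed subset other
than A.) -/
theorem result
    (K : Type u) [Field K] [IsAlgClosed K] (A : Over (Spec (CommRingCat.of K)))
    [GrpObj A] [IsProper A.hom] [Smooth A.hom] [IrreducibleSpace A.left]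
    (Z : Set A.left) (hZ : IsClosed Z) (hZne : Z ≠ Set.univ)
    (z : 𝟙_ (Over (Spec (CommRingCat.of K))) ⟶ A) :
    ∃ x : 𝟙_ (Over (Spec (CommRingCat.of K))) ⟶ A,
      Disjoint (Set.range z.left.base)
        ((𝟙 A * (toUnit A ≫ x)).left.base '' Z ∪ (𝟙 A * (toUnit A ≫ x)⁻¹).left.base '' Z) := by
  let T := 𝟙_ (Over (Spec (CommRingCat.of K)))
  let σ : A ⟶ A := (toUnit A ≫ z) * (𝟙 A)⁻¹
  let τ : A ⟶ A := (toUnit A ≫ z) * 𝟙 A
  have hσ : ∀ x : T ⟶ A, x ≫ σ = z * x⁻¹ := fun x => by
    rw [MonObj.comp_mul, GrpObj.comp_inv, Category.comp_id, ← Category.assoc, comp_toUnit,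
      toUnit_unit, Category.id_comp]
  have hτ : ∀ x : T ⟶ A, x ≫ τ = z * x := fun x => by
    rw [MonObj.comp_mul, Category.comp_id, ← Category.assoc, comp_toUnit, toUnit_unit,
      Category.id_comp]
  have hpt : ∀ (r : T ⟶ A) (f : A ⟶ A), f.left (r.left (IsLocalRing.closedPoint K)) =
      (r ≫ f).left (IsLocalRing.closedPoint K) := fun r f =>
    (Groth.Agent.GrpSchField.comp_left_apply r f _).symm
  have : JacobsonSpace A.left := LocallyOfFiniteType.jacobsonSpace A.hom
  obtain ⟨w, hw⟩ := (Set.ne_univ_iff_exists_notMem Z).mp hZne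
  obtain ⟨w', hw', hwc⟩ := nonempty_inter_closedPoints (Z := Zᶜ) ⟨w, hw⟩ hZ.isOpen_compl.isLocallyClosed
  let a : T ⟶ A := Over.homMk (pointOfClosedPoint A.hom w' hwc) (pointOfClosedPoint_comp _ _ _)
  have ha : a.left (IsLocalRing.closedPoint K) ∉ Z := by
    have h : a.left (IsLocalRing.closedPoint K) = w' := pointOfClosedPoint_apply A.hom w' hwc _
    rw [h]
    exact hw'
  have hU : (σ.left ⁻¹' Zᶜ).Nonempty := by
    refine ⟨(a⁻¹ * z).left (IsLocalRing.closedPoint K), ?_⟩
    rw [Set.mem_preimage, hpt, hσ, _root_.mul_inv_rev,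
      _root_.inv_inv, mul_inv_cancel_left]
    exact ha
  have hV : (τ.left ⁻¹' Zᶜ).Nonempty := by
    refine ⟨(z⁻¹ * a).left (IsLocalRing.closedPoint K), ?_⟩
    rw [Set.mem_preimage, hpt, hτ, mul_inv_cancel_left]
    exact ha
  obtain ⟨y, hy, hyc⟩ := nonempty_inter_closedPoints
    (Z := σ.left ⁻¹' Zᶜ ∩ τ.left ⁻¹' Zᶜ)
    (nonempty_preirreducible_inter (hZ.isOpen_compl.preimage σ.left.continuous)
      (hZ.isOpen_compl.preimage τ.left.continuous) hU hV)
    ((hZ.isOpen_compl.preimage σ.left.continuous).inter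
      (hZ.isOpen_compl.preimage τ.left.continuous)).isLocallyClosed
  let x : T ⟶ A := Over.homMk (pointOfClosedPoint A.hom y hyc) (pointOfClosedPoint_comp _ _ _)
  refine ⟨x, ?_⟩
  have hy1 : (z * x⁻¹).left (IsLocalRing.closedPoint K) ∉ Z := by
    rw [← hσ, ← hpt]
    exact fun h => hy.1 (by
      rwa [show x.left (IsLocalRing.closedPoint K) = y from pointOfClosedPoint_apply A.hom y hyc _] at h)
  have hy2 : (z * x).left (IsLocalRing.closedPoint K) ∉ Z := by
    rw [← hτ, ← hpt]
    exact fun h => hy.2 (by
      rwa [show x.left (IsLocalRing.closedPoint K) = y from pointOfClosedPoint_apply A.hom y hyc _] at h)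
  have key : ∀ r : T ⟶ A, ∀ q ∈ Z, (𝟙 A * (toUnit A ≫ r)).left q = z.left (IsLocalRing.closedPoint K) →
      (z * r⁻¹).left (IsLocalRing.closedPoint K) ∈ Z := by
    intro r q hq h
    have hinv : (𝟙 A * (toUnit A ≫ r)) ≫ (𝟙 A * (toUnit A ≫ r⁻¹)) = 𝟙 A := by
      rw [MonObj.comp_mul, Category.comp_id, ← Category.assoc, comp_toUnit, GrpObj.comp_inv,
        _root_.mul_assoc, mul_inv_cancel, _root_.mul_one]
    have hz : z ≫ (𝟙 A * (toUnit A ≫ r⁻¹)) = z * r⁻¹ := by
      rw [MonObj.comp_mul, Category.comp_id, ← Category.assoc, comp_toUnit, toUnit_unit,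
        Category.id_comp]
    rw [← hz, ← hpt, ← h,
      ← Groth.Agent.GrpSchField.comp_left_apply, hinv]
    exact hq
  rw [Set.disjoint_left]
  rintro _ ⟨p, rfl⟩ (⟨q, hq, hqp⟩ | ⟨q, hq, hqp⟩)
  all_goals
    have hp : z.left p = z.left (IsLocalRing.closedPoint K) :=
      congrArg z.left (Subsingleton.elim (α := Spec (CommRingCat.of K)) p _)
  · exact hy1 (key x q hq (hqp.trans hp))
  · have := key x⁻¹ q hq (by
      rw [show toUnit A ≫ x⁻¹ = (toUnit A ≫ x)⁻¹ from GrpObj.comp_inv _ _]
      exact hqp.trans hp)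
    rw [_root_.inv_inv] at this
    exact hy2 this

end Groth.Agent.S10959
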