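import Groth.Statements.S10961
import Groth.Agent.MeroBasic.Minimal
-- import your own Groth.Agent.* helpers here

set_option autoImplicit false
universe u
open CategoryTheory AlgebraicGeometry TopologicalSpace
open Mero

namespace Groth.Agent.S10961

/-- Let X be a reduced scheme with only finitely many irreducible components, with generic points x_1,
…, x_r, and let U be an open subset of X. Then the ring of sections over U of the sheaf of
meromorphic functions K_X maps bijectively, by evaluation, onto the product of the rings K_{X,x_i}
over those generic points x_i that lie in U; moreover for each generic point x_i the local ring of X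
at x_i is a field and maps bijectively onto K_{X,x_i}, so that K_{X,x_i} is the residue field of
x_i. (The hypothesis holds for every Noetherian scheme; for X integral it says that K_X is the
constant sheaf with value the function field.) -/
theorem result
    (X : Scheme.{u}) [IsReduced X] (hfin : (irreducibleComponents (X : Type u)).Finite) (U : X.Opens) :
    Function.Bijective (fun s : Γ(Mero.kmod X, U) =>
      fun x : {x : U // closure ({x.1} : Set X) ∈ irreducibleComponents (X : Type u)} =>
        Mero.evalK X U x.1 s) ∧
    (∀ x : X, closure ({x} : Set X) ∈ irreducibleComponents (X : Type u) →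
      IsField (X.presheaf.stalk x) ∧
        Function.Bijective (algebraMap (X.presheaf.stalk x) (Mero.KStalk X x))) := by
  have ha : ∀ x : X, Curv2.IsWeakAssPoint (Coh.structureModule X) x → ∀ y : X, y ⤳ x → y = x :=
    fun x hx ↦ Groth.Agent.MeroBasic.minimal_of_isWeakAssPoint hx
  have hb : ∀ U : X.Opens, IsCompact (U : Set X) → (irreducibleComponents (U : Scheme.{u})).Finite :=
    Groth.Agent.MeroBasic.finite_irreducibleComponents_of_locFin
      fun x => ⟨⊤, trivial, hfin.subset fun Z hZ => hZ.1⟩
  have hbij : ∀ x : X, closure ({x} : Set X) ∈ irreducibleComponents (X : Type u) →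
      Function.Bijective (algebraMap (X.presheaf.stalk x) (Mero.KStalk X x)) := fun x hx =>
    Groth.Agent.MeroBasic.kstalk_algebraMap_bijective_of_minimal
      (Groth.Agent.MeroBasic.closure_mem_irreducibleComponents_iff.mp hx)
  refine ⟨⟨fun s s1 h => ?_, fun v => ?_⟩, fun x hx => ⟨?_, hbij x hx⟩⟩
  · exact Groth.Agent.MeroBasic.kmod_ext_minimal ha fun η hη =>
      congrFun h ⟨η, Groth.Agent.MeroBasic.closure_mem_irreducibleComponents_iff.mpr hη⟩
  · classical
    obtain ⟨s, hs, -⟩ := Groth.Agent.MeroBasic.existsUnique_kmod_of_minimal ha hb U fun η =>
      if h : closure ({η.1} : Set X) ∈ irreducibleComponents (X : Type u) then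
        Classical.choose ((hbij η.1 h).2 (v ⟨η, h⟩)) else 0
    refine ⟨s, funext fun η => ?_⟩
    refine (hs η.1 (Groth.Agent.MeroBasic.closure_mem_irreducibleComponents_iff.mp η.2)).trans ?_
    dsimp only
    rw [dif_pos η.2]
    exact Classical.choose_spec ((hbij η.1.1 η.2).2 (v η))
  · exact isField_stalk_of_closure_mem_irreducibleComponents X x hx

end Groth.Agent.S10961
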