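import Groth.Statements.S10964
import Groth.Agent.CocycleMod.Basic
import Groth.Agent.InvPow.Transfer
-- import your own Groth.Agent.* helpers here

set_option autoImplicit false
universe u
open CategoryTheory AlgebraicGeometry TopologicalSpace Opposite
open PicF

namespace Groth.Agent.S10964

/-- Let X be a scheme with an open cover (U_i)_{i ∈ ι}. Let L and L' be O_X-modules with sections s_i of
L and s'_i of L' over U_i that generate there (for every open V ⊆ U_i, r ↦ r · s_i|_V is a bijection
from functions on V onto sections of L over V, and likewise for s'_i), and let η_ij, η'_ij be the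
functions on U_i ∩ U_j with s_i = η_ij · s_j and s'_i = η'_ij · s'_j there. Then L and L' are
isomorphic as O_X-modules if and only if there is a family of units u_i of the rings of functions on
the U_i with η'_ij · u_i|_{U_i ∩ U_j} = u_j|_{U_i ∩ U_j} · η_ij for all i, j. (So two invertible
modules trivialised by the cover are isomorphic exactly when their transition cocycles define the
same Čech cohomology class.) -/
theorem result (X : Scheme.{u}) {ι : Type u} (U : ι → X.Opens)
    (hU : iSup U = ⊤) (L L' : X.Modules) (s : ∀ i : ι, Γ(L, U i)) (s' : ∀ i : ι, Γ(L', U i))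
    (hs : ∀ (i : ι) (V : X.Opens) (h : V ≤ U i),
        Function.Bijective (fun r : Γ(X, V) => r • L.presheaf.map (homOfLE h).op (s i)))
    (hs' : ∀ (i : ι) (V : X.Opens) (h : V ≤ U i),
        Function.Bijective (fun r : Γ(X, V) => r • L'.presheaf.map (homOfLE h).op (s' i)))
    (η η' : ∀ i j : ι, Γ(X, U i ⊓ U j))
    (hη : ∀ i j : ι, L.presheaf.map (homOfLE (inf_le_left : U i ⊓ U j ≤ U i)).op (s i) =
        η i j • L.presheaf.map (homOfLE (inf_le_right : U i ⊓ U j ≤ U j)).op (s j))
    (hη' : ∀ i j : ι, L'.presheaf.map (homOfLE (inf_le_left : U i ⊓ U j ≤ U i)).op (s' i) =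
        η' i j • L'.presheaf.map (homOfLE (inf_le_right : U i ⊓ U j ≤ U j)).op (s' j)) :
    Nonempty (L ≅ L') ↔ ∃ u : ∀ i : ι, (Γ(X, U i))ˣ, ∀ i j : ι,
      η' i j * X.presheaf.map (homOfLE (inf_le_left : U i ⊓ U j ≤ U i)).op (u i : Γ(X, U i)) =
        X.presheaf.map (homOfLE (inf_le_right : U i ⊓ U j ≤ U j)).op (u j : Γ(X, U j)) * η i j := by
  have hcov : ∀ x : X, ∃ i, x ∈ U i := fun x =>
    TopologicalSpace.Opens.mem_iSup.mp (hU.ge (show x ∈ (⊤ : X.Opens) from trivial))
  constructor
  · rintro ⟨τ⟩
    have hb : ∀ i, Groth.Agent.InvBasic.IsBasis L' (τ.hom.app (U i) (s i)) := fun i =>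
      Groth.Agent.InvPow.isBasis_of_iso τ (hs i)
    choose a ha using fun i => Groth.Agent.InvPow.exists_coef (hs' i) (τ.hom.app (U i) (s i))
    have hau : ∀ i, IsUnit (a i) := by
      intro i
      obtain ⟨b, hb'⟩ := Groth.Agent.InvPow.exists_coef (hb i) (s' i)
      refine IsUnit.of_mul_eq_one b (Groth.Agent.InvPow.coef_unique (hs' i) ?_)
      rw [mul_comm, mul_smul, ← ha, ← hb', one_smul]
    refine ⟨fun i => (hau i).unit, fun i j => ?_⟩
    refine Groth.Agent.InvPow.coef_unique (Groth.Agent.InvBasic.IsBasis.restrict (hs' j) (inf_le_right : U i ⊓ U j ≤ U j)) ?_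
    have h1 := congrArg (τ.hom.app (U i ⊓ U j)) (hη i j)
    rw [Scheme.Modules.Hom.app_smul, Groth.Agent.QCohLib.app_map, Groth.Agent.QCohLib.app_map, ha i, ha j,
      Scheme.Modules.map_smul, Scheme.Modules.map_smul, hη', smul_smul, smul_smul] at h1
    rw [IsUnit.unit_spec, IsUnit.unit_spec, mul_comm (η' i j), mul_comm _ (η i j)]
    exact h1
  · rintro ⟨u, hu⟩
    obtain ⟨e⟩ := Groth.Agent.CocycleMod.nonempty_iso_glued U η L s hs hη hcov
    have hb : ∀ i, Groth.Agent.InvBasic.IsBasis L' ((u i : Γ(X, U i)) • s' i) := by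
      intro i W hW
      have e : (fun r : Γ(X, W) => r • (L'.presheaf.map (homOfLE hW).op ((u i : Γ(X, U i)) • s' i) : Γ(L', W))) =
          (fun r => r • L'.presheaf.map (homOfLE hW).op (s' i)) ∘ fun r => r * X.presheaf.map (homOfLE hW).op (u i : Γ(X, U i)) := by
        funext r
        show r • L'.presheaf.map (homOfLE hW).op _ = _
        rw [Scheme.Modules.map_smul, smul_smul]
        rfl
      rw [e]
      exact (hs' i W hW).comp ((u i).isUnit.map (X.presheaf.map (homOfLE hW).op).hom).unit.mulRight.bijective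
    obtain ⟨e'⟩ := Groth.Agent.CocycleMod.nonempty_iso_glued U η L' _ hb (fun i j => by
      show L'.presheaf.map _ _ = η i j • L'.presheaf.map _ _
      rw [Scheme.Modules.map_smul, Scheme.Modules.map_smul, hη', smul_smul, smul_smul]
      exact congrArg (· • _) (((mul_comm _ _).trans (hu i j)).trans (mul_comm _ _))) hcov
    exact ⟨e ≪≫ e'.symm⟩

end Groth.Agent.S10964
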