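import Groth.Statements.S10967
import Mathlib
import Groth.Agent.ImmDescent.QuasiAffine
-- import your own Groth.Agent.* helpers here

set_option autoImplicit false
universe u
open CategoryTheory AlgebraicGeometry TopologicalSpace
open MoreMor

namespace Groth.Agent.S10967

/-- Quasi-affine over an affine base: call a morphism f : X → Y quasi-affine when Y has a cover by
affine opens V_i whose preimages f⁻¹(V_i) are quasi-affine schemes (quasi-compact open subschemes of
affine schemes; equivalently quasi-compact with X → Spec Γ(X, O_X) an immersion). If Y is affine and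
f is quasi-affine in this sense, then X is a quasi-affine scheme. -/
theorem result {X Y : Scheme.{u}} [IsAffine Y]
    (f : X ⟶ Y) {ι : Type u} (V : ι → Y.Opens) (hV : iSup V = ⊤) (hVa : ∀ i, IsAffineOpen (V i))
    (hq : ∀ i, Scheme.IsQuasiAffine (↑(f ⁻¹ᵁ V i) : Scheme.{u})) :
    X.IsQuasiAffine := by
  have hc : TopologicalSpace.IsOpenCover V := hV
  have : QuasiCompact f := IsZariskiLocalAtTarget.of_iSup_eq_top (P := @QuasiCompact) V hV fun i => by
    have : IsAffine (V i : Scheme.{u}) := hVa i
    have := hq i
    exact (HasAffineProperty.iff_of_isAffine (P := @QuasiCompact)).mpr inferInstance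
  refine ImmDescent.isQuasiAffine_of_local f fun s => ?_
  obtain ⟨i, hi⟩ := TopologicalSpace.Opens.mem_iSup.mp (show s ∈ iSup V from hV ▸ trivial)
  exact ⟨V i, hVa i, hi, hq i⟩

end Groth.Agent.S10967
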