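import Groth.Statements.S10969
import Groth.Agent.FunFld.RR
-- import your own Groth.Agent.* helpers here

set_option autoImplicit false
open FunFld

namespace Groth.Agent.S10969

/-- For `x` transcendental over `k` in a function field of one variable `K/k`, the degree of the divisor
of zeros of `x` equals `[K : k(x)]`. -/
theorem result (k K : Type*) [Field k] [Field K] [Algebra k K]
    (hK : FunFld.IsFunctionField k K) (x : K) (hx : Transcendental k x) :
    (∑ P ∈ (FunFld.div k x).support with 0 < FunFld.div k x P,
        FunFld.div k x P * (P.deg : ℤ)) =
      Module.finrank (IntermediateField.adjoin k ({x} : Set K)) K := by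
  classical
  rw [← FunFldLib.deg_zeros hK hx]
  have key : ∀ P : FunFld.Place k K, FunFldLib.polesDiv k x⁻¹ P = max (FunFld.div k x P) 0 := fun P => by
    rw [FunFldLib.polesDiv_apply hK, FunFldLib.ord_inv, FunFldLib.div_apply hK, neg_neg]
  rw [Finset.sum_filter, FunFld.Divisor.deg, Finsupp.sum_of_support_subset _ (s := (FunFld.div k x).support)]
  · refine Finset.sum_congr rfl fun P _ => ?_
    rw [key]
    split_ifs with h
    · rw [max_eq_left h.le]
    · rw [max_eq_right (not_lt.1 h), zero_mul]
  · intro P hP
    rw [Finsupp.mem_support_iff, key] at hP
    rw [Finsupp.mem_support_iff]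
    intro h0; rw [h0] at hP; exact hP (max_self 0)
  · intro P _; simp

end Groth.Agent.S10969
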