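import Groth.Statements.S10992
import Groth.Agent.FunFld.RR
-- import your own Groth.Agent.* helpers here

set_option autoImplicit false
open FunFld

namespace Groth.Agent.S10992

/-- A divisor `C` of a function field of one variable of genus `g` is canonical iff `ℓ(C) = g` and `deg
C = 2g - 2`. -/
theorem result (k K : Type*) [Field k] [Field K] [Algebra k K]
    (hK : FunFld.IsFunctionField k K) (C : FunFld.Divisor k K) :
    FunFld.IsCanonical k K C ↔ (FunFld.ell C = FunFld.genus k K ∧ C.deg = 2 * FunFld.genus k K - 2) := by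
  refine ⟨fun hC => ?_, fun ⟨hl, hd⟩ => ?_⟩
  · obtain ⟨h1, h2⟩ := FunFldLib.canonical_ell_deg hK hC
    exact ⟨by exact_mod_cast h1, h2⟩
  · obtain ⟨C₀, hC₀⟩ := FunFldLib.exists_isCanonical hK
    obtain ⟨h01, h02⟩ := FunFldLib.canonical_ell_deg hK hC₀
    have h1 := FunFldLib.riemann_roch hK hC₀ C
    obtain ⟨z, hz0, hz⟩ := FunFldLib.exists_ne_zero_of_ell_pos (D := C₀ - C) (by omega)
    have h2 := FunFldLib.nonneg_of_mem_L hK hz0 hz
    have h3 := FunFldLib.eq_of_le_of_deg_le hK h2
      (by rw [FunFldLib.deg_add, FunFldLib.deg_sub, FunFldLib.deg_div hK, FunFldLib.deg_zero]; omega)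
    obtain ⟨ω, hω0, hω⟩ := hC₀
    refine ⟨_, fun h => hω0 (FunFldLib.mulW_eq_zero hK hz0 (hx := FunFldLib.smul_mem_adele hK z) h), ?_⟩
    convert FunFldLib.isDivOf_mulW hK hz0 (hx := FunFldLib.smul_mem_adele hK z) hω using 1
    rw [sub_add_eq_add_sub] at h3
    exact (sub_eq_zero.1 h3.symm).symm

end Groth.Agent.S10992
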