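import Groth.Statements.S10994
import Groth.Agent.FunFld.Rational
-- import your own Groth.Agent.* helpers here

set_option autoImplicit false
open FunFld

namespace Groth.Agent.S10994

/-- A function field of one variable has genus `0` and a place of degree `1` iff it is a rational
function field `k(x)`. -/
theorem result (k K : Type*) [Field k] [Field K] [Algebra k K]
    (hK : FunFld.IsFunctionField k K) :
    (FunFld.genus k K = 0 ∧ ∃ P : FunFld.Place k K, P.deg = 1) ↔
      ∃ x : K, IntermediateField.adjoin k ({x} : Set K) = ⊤ := by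
  constructor
  · rintro ⟨hg, P, hP⟩
    have hl := FunFldLib.ell_eq_of_deg_ge hK (D := Finsupp.single P 1)
      (by rw [FunFldLib.deg_single, hP, hg]; simp)
    rw [FunFldLib.deg_single, hP, hg] at hl
    obtain ⟨x, hx, hxt⟩ := FunFldLib.exists_transcendental_mem_L hK (D := Finsupp.single P 1) (by omega)
    exact ⟨x, (FunFldLib.genus_eq_zero_of_simple_pole hK hP hx hxt).1⟩
  · rintro ⟨x, hx⟩
    obtain ⟨hg, hd⟩ := FunFldLib.genus_eq_zero_of_adjoin_eq_top hK hx
    refine ⟨hg, ?_⟩
    have hne : FunFldLib.polesDiv k x ≠ 0 := fun h => by rw [h, FunFldLib.deg_zero] at hd; omega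
    obtain ⟨P, hP⟩ := Finsupp.support_nonempty_iff.2 hne
    refine ⟨P, ?_⟩
    rw [Finsupp.mem_support_iff] at hP
    have h1 : Finsupp.single P 1 ≤ FunFldLib.polesDiv k x := by
      classical
      intro Q
      have := FunFldLib.polesDiv_nonneg (k := k) x Q
      rcases eq_or_ne Q P with rfl | hQ
      · simp only [Finsupp.single_eq_same, Finsupp.zero_apply] at *; omega
      · simpa [Finsupp.single_eq_of_ne hQ] using this
    have h2 := FunFldLib.deg_mono h1
    rw [FunFldLib.deg_single, hd] at h2
    have := FunFldLib.deg_pos hK P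
    omega

end Groth.Agent.S10994
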