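import Groth.Statements.S10995
import Groth.Agent.FunFld.Rational
-- import your own Groth.Agent.* helpers here

set_option autoImplicit false
open FunFld

namespace Groth.Agent.S10995

/-- A function field of one variable has an element with pole divisor of degree `1` iff it is a rational
function field. -/
theorem result (k K : Type*) [Field k] [Field K] [Algebra k K]
    (hK : FunFld.IsFunctionField k K) :
    (∃ (x : K) (P : FunFld.Place k K), P.deg = 1 ∧ P.ord x = -1 ∧
        ∀ Q : FunFld.Place k K, Q ≠ P → 0 ≤ Q.ord x) ↔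
      ∃ x : K, IntermediateField.adjoin k ({x} : Set K) = ⊤ := by
  classical
  constructor
  · rintro ⟨x, P, hP, hxP, hint⟩
    have hx0 : x ≠ 0 := by rintro rfl; simp at hxP
    have hxt : Transcendental k x := by
      intro h
      obtain ⟨c, rfl⟩ := hK.2 x h
      rw [FunFldLib.ord_algebraMap] at hxP
      omega
    refine ⟨x, (FunFldLib.genus_eq_zero_of_simple_pole hK hP ((FunFldLib.mem_L_iff hx0).2 fun Q => ?_) hxt).1⟩
    rcases eq_or_ne Q P with rfl | hQ
    · rw [Finsupp.single_eq_same, hxP]
    · rw [Finsupp.single_eq_of_ne hQ, neg_zero]; exact hint Q hQ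
  · rintro ⟨x, hx⟩
    obtain ⟨-, hd⟩ := FunFldLib.genus_eq_zero_of_adjoin_eq_top hK hx
    have hne : FunFldLib.polesDiv k x ≠ 0 := fun h => by rw [h, FunFldLib.deg_zero] at hd; omega
    obtain ⟨P, hP⟩ := Finsupp.support_nonempty_iff.2 hne
    rw [Finsupp.mem_support_iff] at hP
    have h1 : Finsupp.single P 1 ≤ FunFldLib.polesDiv k x := by
      intro Q
      have := FunFldLib.polesDiv_nonneg (k := k) x Q
      rcases eq_or_ne Q P with rfl | hQ
      · simp only [Finsupp.single_eq_same, Finsupp.zero_apply] at *; omega
      · simpa [Finsupp.single_eq_of_ne hQ] using this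
    have h2 := FunFldLib.deg_mono h1
    rw [FunFldLib.deg_single, hd] at h2
    have hdP := FunFldLib.deg_pos hK P
    have heq := FunFldLib.eq_of_le_of_deg_le hK h1 (by rw [FunFldLib.deg_single, hd]; omega)
    have hall : ∀ Q, max (-Q.ord x) 0 = (Finsupp.single P 1 : FunFld.Divisor k K) Q := fun Q => by
      rw [heq, FunFldLib.polesDiv_apply hK]
    refine ⟨x, P, by omega, ?_, fun Q hQ => ?_⟩
    · have := hall P; rw [Finsupp.single_eq_same] at this; omega
    · have := hall Q; rw [Finsupp.single_eq_of_ne hQ] at this; omega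

end Groth.Agent.S10995
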