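import Groth.Statements.S10996
import Groth.Agent.FunFld.Rational
-- import your own Groth.Agent.* helpers here

set_option autoImplicit false
open FunFld

namespace Groth.Agent.S10996

/-- In a function field of one variable of positive genus, distinct places of degree one are not
linearly equivalent. -/
theorem result (k K : Type*) [Field k] [Field K] [Algebra k K]
    (hK : FunFld.IsFunctionField k K) (hg : 0 < FunFld.genus k K) (P P' : FunFld.Place k K) (hP : P.deg = 1) (hP' : P'.deg = 1)
    (x : K) (hx : x ≠ 0) (h : Finsupp.single P 1 - Finsupp.single P' 1 = FunFld.div k x) : P = P' := by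
  classical
  by_contra hne
  have key : ∀ Q, Q.ord x = (Finsupp.single P 1 - Finsupp.single P' 1 : FunFld.Divisor k K) Q := fun Q => by
    rw [h, FunFldLib.div_apply hK]
  have hxt : Transcendental k x := by
    intro hh
    obtain ⟨c, rfl⟩ := hK.2 x hh
    have := key P
    rw [FunFldLib.ord_algebraMap, Finsupp.sub_apply, Finsupp.single_eq_same, Finsupp.single_eq_of_ne hne] at this
    omega
  have := (FunFldLib.genus_eq_zero_of_simple_pole hK hP' (x := x) ((FunFldLib.mem_L_iff hx).2 fun Q => ?_) hxt).2
  · omega
  · rw [key Q, Finsupp.sub_apply]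
    have : (0 : ℤ) ≤ (Finsupp.single P 1 : FunFld.Divisor k K) Q := (Finsupp.single_nonneg.2 zero_le_one : (0 : FunFld.Divisor k K) ≤ _) Q
    omega

end Groth.Agent.S10996
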