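import Groth.Statements.S10997
import Groth.Agent.FunFld.RR
-- import your own Groth.Agent.* helpers here

set_option autoImplicit false
open FunFld

namespace Groth.Agent.S10997

/-- Given distinct places `P∞, P_1, …, P_n` of a function field of one variable, elements `x_i` and
integers `m_i`, some `x ∈ K` has `ord_{P_i}(x - x_i) = m_i` for all `i` and is integral outside
`{P∞, P_1, …, P_n}`. -/
theorem result (k K : Type*) [Field k] [Field K] [Algebra k K]
    (hK : FunFld.IsFunctionField k K) (Pinf : FunFld.Place k K) (n : ℕ) (P : Fin n → FunFld.Place k K) (hP : Function.Injective P)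
    (hinf : Pinf ∉ Set.range P) (x : Fin n → K) (m : Fin n → ℤ) :
    ∃ y : K, (∀ i, (P i).1 (y - x i) = WithZero.exp (-(m i))) ∧
      ∀ Q : FunFld.Place k K, Q ≠ Pinf → Q ∉ Set.range P → Q.1 y ≤ 1 := by
  classical
  obtain ⟨N, hN⟩ := FunFldLib.riemann_eventually hK
  choose t ht using fun i => FunFldLib.exists_val_eq (P i) (-(m i))
  have hdeg := FunFldLib.deg_pos hK Pinf
  set B : FunFld.Divisor k K := ∑ i, Finsupp.single (P i) (-(m i) - 1)
  set r : ℤ := max (N - B.deg) 0
  set D : FunFld.Divisor k K := B + Finsupp.single Pinf r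
  have hDdeg : N ≤ D.deg := by
    rw [FunFldLib.deg_add, FunFldLib.deg_single]
    have h1 : r * 1 ≤ r * (Pinf.deg : ℤ) := mul_le_mul_of_nonneg_left (by omega) (le_max_right _ _)
    omega
  have hDi : ∀ i, D (P i) = -(m i) - 1 := fun i => by
    have hne : P i ≠ Pinf := fun h => hinf ⟨i, h⟩
    simp [D, B, Finsupp.single_apply, hP.eq_iff, hne.symm]
  have hDQ : ∀ Q, Q ≠ Pinf → Q ∉ Set.range P → D Q = 0 := fun Q h1 h2 => by
    have : ∀ i, P i ≠ Q := fun i h => h2 ⟨i, h⟩
    simp [D, B, Finsupp.single_apply, this, h1.symm]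
  let a : FunFld.Place k K → K := Function.extend P (fun i => x i + t i) 0
  have ha : a ∈ FunFld.adele k K :=
    Filter.eventually_cofinite.2 ((Set.finite_range P).subset fun Q hQ => by
      by_contra h
      have : a Q = 0 := Function.extend_apply' _ _ _ (fun ⟨i, hi⟩ => h ⟨i, hi⟩)
      simp [this] at hQ)
  obtain ⟨b, hb, _, ⟨y, rfl⟩, hby⟩ := Submodule.mem_sup.1 (FunFldLib.adele_le_of_delta_eq hK (hN D hDdeg) ha)
  have hy : ∀ Q, a Q - y = b Q := fun Q => by
    have : b Q + y = a Q := congrFun hby Q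
    rw [← this]; ring
  refine ⟨y, fun i => ?_, fun Q h1 h2 => ?_⟩
  · have hai : a (P i) = x i + t i := hP.extend_apply _ _ i
    have e : y - x i = t i - b (P i) := by rw [← hy, hai]; ring
    rw [e, Valuation.map_sub_eq_of_lt_left, ht]
    rw [ht]
    refine (hb (P i)).trans_lt ?_
    rw [hDi, WithZero.exp_lt_exp]; omega
  · have hai : a Q = 0 := Function.extend_apply' _ _ _ (fun ⟨i, hi⟩ => h2 ⟨i, hi⟩)
    have e : y = - b Q := by rw [← hy, hai]; ring
    rw [e, Valuation.map_neg]
    simpa [hDQ Q h1 h2] using hb Q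

end Groth.Agent.S10997
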