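import Groth.Statements.S10998
import Groth.Agent.FunFld.GenusOne
-- import your own Groth.Agent.* helpers here

set_option autoImplicit false
open FunFld

namespace Groth.Agent.S10998

/-- A genus-one function field with a place `P₀` of degree one is `k(x, y)` with `x ∈ L(2P₀)`, `y ∈
L(3P₀)` of pole orders `2` and `3`, and `y² + f(x) y + g(x) = 0` for polynomials `f` of degree `≤ 1`
and `g` of degree `3`. -/
theorem result (k K : Type*) [Field k] [Field K] [Algebra k K]
    (hK : FunFld.IsFunctionField k K) (hg : FunFld.genus k K = 1) (P₀ : FunFld.Place k K) (hP : P₀.deg = 1) :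
    ∃ x y : K, x ∈ FunFld.L (Finsupp.single P₀ 2) ∧ y ∈ FunFld.L (Finsupp.single P₀ 3) ∧
      P₀.ord x = -2 ∧ P₀.ord y = -3 ∧
      IntermediateField.adjoin k ({x, y} : Set K) = ⊤ ∧
      ∃ f g : Polynomial k, f.natDegree ≤ 1 ∧ g.natDegree = 3 ∧
        y ^ 2 + Polynomial.aeval x f * y + Polynomial.aeval x g = 0 := by
  classical
  have hl : ∀ n : ℕ, 1 ≤ n → Module.finrank k ↥(FunFld.L (Finsupp.single P₀ (n : ℤ))) = n :=
    fun n hn => FunFldLib.ell_genus_one hK hg hP hn
  have hex : ∀ n : ℕ, 2 ≤ n → ∃ x : K, x ∈ FunFld.L (Finsupp.single P₀ (n : ℤ)) ∧ x ≠ 0 ∧ P₀.ord x = -(n : ℤ) := by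
    intro n hn
    obtain ⟨m, rfl⟩ : ∃ m, n = m + 1 := ⟨n - 1, by omega⟩
    obtain ⟨x, hx, hx0, hxo⟩ := FunFldLib.exists_mem_L_ord_eq hK (D := Finsupp.single P₀ ((m + 1 : ℕ) : ℤ)) (P := P₀) (by
      rw [← Finsupp.single_sub, show ((m + 1 : ℕ) : ℤ) - 1 = (m : ℤ) by push_cast; ring]
      simp only [FunFld.ell]
      rw [hl m (by omega), hl (m + 1) (by omega)]
      omega)
    exact ⟨x, hx, hx0, by rw [hxo, Finsupp.single_eq_same]⟩
  obtain ⟨x, hx, hx0, hxo⟩ := hex 2 le_rfl
  obtain ⟨y, hy, hy0, hyo⟩ := hex 3 (by norm_num)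
  push_cast at hx hy hxo hyo
  have htr : ∀ (z : K), P₀.ord z < 0 → Transcendental k z := fun z hz h => by
    obtain ⟨c, rfl⟩ := hK.2 z h
    rcases eq_or_ne c 0 with rfl | hc
    · simp [FunFld.Place.ord] at hz
    · rw [FunFldLib.ord_eq_of_val P₀ (n := 0) (by rw [FunFldLib.val_algebraMap P₀ hc, WithZero.exp_zero])] at hz
      simp at hz
  have hdeg : ∀ (z : K) (n : ℤ), 0 < n → z ≠ 0 → z ∈ FunFld.L (Finsupp.single P₀ n) → P₀.ord z = -n →
      (Module.finrank (IntermediateField.adjoin k ({z} : Set K)) K : ℤ) = n := by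
    intro z n hn hz0 hz hzo
    have hE : FunFldLib.polesDiv k z = Finsupp.single P₀ n := by
      ext R
      rw [FunFldLib.polesDiv_apply hK]
      rcases eq_or_ne R P₀ with rfl | hR
      · rw [Finsupp.single_eq_same, hzo]; omega
      · have := (FunFldLib.mem_L_iff hz0).1 hz R
        rw [Finsupp.single_eq_of_ne hR] at this ⊢
        omega
    rw [← FunFldLib.deg_poles hK (htr z (by omega)), hE, FunFldLib.deg_single, hP]; push_cast; ring
  have h2 := hdeg x 2 two_pos hx0 hx hxo
  have h3 := hdeg y 3 three_pos hy0 hy hyo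
  obtain ⟨hli, hspan⟩ := FunFldLib.basis_L_genus_one hK hg hP hx hxo hy hyo 6 (by norm_num)
  have hy2 : y ^ 2 * 1 ∈ FunFld.L (Finsupp.single P₀ ((6 : ℕ) : ℤ)) := by
    have h1 : (1 : K) ∈ FunFld.L (Finsupp.single P₀ (0 : ℤ) : FunFld.Divisor k K) := by
      rw [Finsupp.single_zero, FunFldLib.L_zero hK]; exact Submodule.one_le.1 le_rfl
    exact FunFldLib.pow_mul_mem_L_single hy0 one_ne_zero hy h1 2
      (by rw [hyo, FunFldLib.ord_eq_of_val P₀ (n := 0) (map_one _)]; norm_num)
  rw [mul_one, ← hspan, Submodule.mem_span_range_iff_exists_fun] at hy2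
  obtain ⟨a, ha⟩ := hy2
  rw [Fintype.sum_sum_type, Fin.sum_univ_four, Fin.sum_univ_two] at ha
  simp only [Sum.elim_inl, Sum.elim_inr, Algebra.smul_def] at ha
  norm_num at ha
  refine ⟨x, y, hx, hy, hxo, hyo, ?_, -(Polynomial.C (a (Sum.inr 0)) + Polynomial.C (a (Sum.inr 1)) * Polynomial.X),
    -(Polynomial.C (a (Sum.inl 0)) + Polynomial.C (a (Sum.inl 1)) * Polynomial.X +
      Polynomial.C (a (Sum.inl 2)) * Polynomial.X ^ 2 + Polynomial.C (a (Sum.inl 3)) * Polynomial.X ^ 3), ?_, ?_, ?_⟩
  · set E := IntermediateField.adjoin k ({x, y} : Set K)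
    have hdvd : ∀ z ∈ ({x, y} : Set K), Module.finrank E K ∣
        Module.finrank (IntermediateField.adjoin k ({z} : Set K)) K := by
      intro z hz
      have hle : IntermediateField.adjoin k ({z} : Set K) ≤ E :=
        IntermediateField.adjoin.mono _ _ _ (Set.singleton_subset_iff.2 hz)
      exact ⟨Module.finrank (IntermediateField.adjoin k ({z} : Set K)) (IntermediateField.extendScalars hle),
        by rw [mul_comm]; exact (Module.finrank_mul_finrank _ (IntermediateField.extendScalars hle) K).symm⟩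
    have a2 : Module.finrank E K ∣ 2 := by
      have := hdvd x (by simp); rwa [show Module.finrank (IntermediateField.adjoin k ({x} : Set K)) K = 2 by omega] at this
    have a3 : Module.finrank E K ∣ 3 := by
      have := hdvd y (by simp); rwa [show Module.finrank (IntermediateField.adjoin k ({y} : Set K)) K = 3 by omega] at this
    have a1 : Module.finrank E K = 1 := Nat.eq_one_of_dvd_one (by simpa using Nat.dvd_sub a3 a2)
    exact IntermediateField.finrank_eq_one_iff_eq_top.1 a1
  · rw [Polynomial.natDegree_neg]; compute_degree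
  · rw [Polynomial.natDegree_neg]
    have h33 : a (Sum.inl 3) ≠ 0 := by
      intro h0
      have hl5 := (FunFldLib.basis_L_genus_one hK hg hP hx hxo hy hyo 5 (by norm_num)).2
      have hmem : y ^ 2 ∈ FunFld.L (Finsupp.single P₀ ((5 : ℕ) : ℤ)) := by
        rw [← hl5, Submodule.mem_span_range_iff_exists_fun]
        refine ⟨Sum.elim (fun i : Fin 3 => a (Sum.inl i.castSucc)) (fun i : Fin 2 => a (Sum.inr i)), ?_⟩
        rw [Fintype.sum_sum_type, Fin.sum_univ_three, Fin.sum_univ_two]
        simp only [Sum.elim_inl, Sum.elim_inr, Algebra.smul_def]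
        rw [← ha, h0]
        simp
      have := (FunFldLib.mem_L_iff (pow_ne_zero 2 hy0)).1 hmem P₀
      rw [Finsupp.single_eq_same, FunFldLib.ord_pow, hyo] at this
      norm_num at this
    compute_degree!
  · simp only [map_neg, map_add, map_mul, Polynomial.aeval_C, Polynomial.aeval_X, map_pow]
    linear_combination -ha

end Groth.Agent.S10998
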