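import Groth.Statements.S10999
import Groth.Agent.FunFld.GenusOne
-- import your own Groth.Agent.* helpers here

set_option autoImplicit false
open FunFld

namespace Groth.Agent.S10999

/-- In a genus-one function field with a place `P₀` of degree one, `P ↦ P - P₀` is a bijection from the
places of degree one onto the divisor classes of degree zero. The geometric description of the group
law is not stated. -/
theorem result (k K : Type*) [Field k] [Field K] [Algebra k K]
    (hK : FunFld.IsFunctionField k K) (hg : FunFld.genus k K = 1) (P₀ : FunFld.Place k K) (hP : P₀.deg = 1)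
    (D : FunFld.Divisor k K) (hD : D.deg = 0) :
    ∃! P : FunFld.Place k K, P.deg = 1 ∧
      ∃ x : K, x ≠ 0 ∧ D = Finsupp.single P 1 - Finsupp.single P₀ 1 + FunFld.div k x := by
  classical
  have hd1 : FunFld.Divisor.deg (D + Finsupp.single P₀ 1) = 1 := by
    rw [FunFldLib.deg_add, FunFldLib.deg_single, hD, hP]; norm_num
  have hl := FunFldLib.ell_eq_of_deg_ge hK (D := D + Finsupp.single P₀ 1) (by rw [hd1, hg]; norm_num)
  rw [hd1, hg] at hl
  obtain ⟨z, hz0, hz⟩ := FunFldLib.exists_ne_zero_of_ell_pos (D := D + Finsupp.single P₀ 1) (by omega)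
  obtain ⟨P, hPd, hP'⟩ := FunFldLib.exists_of_degree_one hK (FunFldLib.nonneg_of_mem_L hK hz0 hz)
    (by rw [FunFldLib.deg_add, FunFldLib.deg_div hK, hd1, add_zero])
  refine ⟨P, ⟨hPd, z⁻¹, inv_ne_zero hz0, ?_⟩, ?_⟩
  · rw [FunFldLib.div_inv hK, ← hP']; abel
  rintro P' ⟨hP'd, x, hx0, hx⟩
  by_contra hne
  have hzx : z * x ≠ 0 := mul_ne_zero hz0 hx0
  have hd : FunFld.div k (z * x) = Finsupp.single P 1 - Finsupp.single P' 1 := by
    rw [FunFldLib.div_mul hK hz0 hx0, ← hP', hx]; abel
  have hmem : z * x ∈ FunFld.L (Finsupp.single P' 1 : FunFld.Divisor k K) := (FunFldLib.mem_L_iff hzx).2 fun R => by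
    rw [← FunFldLib.div_apply hK, hd, Finsupp.sub_apply]
    have : (0 : ℤ) ≤ Finsupp.single P (1 : ℤ) R := by rw [Finsupp.single_apply]; split_ifs <;> norm_num
    omega
  have he : FunFld.L (0 : FunFld.Divisor k K) = FunFld.L (Finsupp.single P' 1) := by
    have := FunFldLib.finiteDimensional_L hK (Finsupp.single P' 1)
    refine Submodule.eq_of_le_of_finrank_le (FunFldLib.L_mono (Finsupp.single_nonneg.2 zero_le_one)) ?_
    have h1 := FunFldLib.ell_single_eq_one hK (by omega) hP'd
    have h2 := FunFldLib.ell_zero hK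
    simp only [FunFld.ell] at h1 h2
    omega
  rw [← he] at hmem
  have h3 := (FunFldLib.mem_L_iff hzx).1 hmem P'
  rw [← FunFldLib.div_apply hK, hd, Finsupp.sub_apply, Finsupp.single_eq_same, Finsupp.single_eq_of_ne hne] at h3
  simp at h3

end Groth.Agent.S10999
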