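import Groth.Statements.S11002
import Groth.Agent.FunFld.Separating
-- import your own Groth.Agent.* helpers here

set_option autoImplicit false
universe u v
open FunFld

namespace Groth.Agent.S11002

/-- In a geometric function field of one variable of characteristic `p > 0`, `x ∈ kK^p` iff `dx = 0` in
`Ω_{K/k}` iff `x` is not a separating variable (`K/k(x)` not separable algebraic). -/
theorem result (k : Type u) (K : Type v) [Field k] [Field K] [Algebra k K] (p : ℕ) [Fact p.Prime] [CharP K p]
    (hK : FunFld.IsFunctionField k K) (hg : FunFld.IsGeometric k K) (x : K) :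
    (x ∈ IntermediateField.adjoin k (Set.range fun y : K => y ^ p) ↔ KaehlerDifferential.D k K x = 0) ∧
    (x ∈ IntermediateField.adjoin k (Set.range fun y : K => y ^ p) ↔
      ¬ Algebra.IsSeparable (IntermediateField.adjoin k ({x} : Set K)) K) := by
  obtain ⟨s, hs, hsep⟩ := FunFldLib.exists_sepVar hK hg
  have := FunFldLib.finiteDimensional_adjoin hK hs
  obtain ⟨H, hH⟩ := FunFldLib.exists_hasseFamily hs hsep
  have hmem : ∀ z ∈ IntermediateField.adjoin k (Set.range fun y : K => y ^ p),
      KaehlerDifferential.D k K z = 0 := fun z hz => by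
    rw [FunFldLib.kaehler_eq_hasseD_smul hH hsep, FunFldLib.hasseD_one_eq_zero_of_mem hH p hz, zero_smul]
  have hnot : Algebra.IsSeparable (IntermediateField.adjoin k ({x} : Set K)) K →
      x ∉ IntermediateField.adjoin k (Set.range fun y : K => y ^ p) := by
    intro hx
    have hxt : Transcendental k x := fun halg => by
      have := hx
      have := IntermediateField.adjoin.finiteDimensional halg.isIntegral
      have halgx : Algebra.IsAlgebraic k (IntermediateField.adjoin k ({x} : Set K)) := Algebra.IsAlgebraic.of_finite k _
      exact hs ((Algebra.IsAlgebraic.trans k (IntermediateField.adjoin k ({x} : Set K)) K).isAlgebraic s)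
    exact FunFldLib.sepVar_notMem_Epow hK p hxt hx
  constructor
  · refine ⟨hmem x, fun h0 => ?_⟩
    by_contra hx
    have hsx := FunFldLib.isSepVar_of_notMem_Epow hK hg p hx
    refine FunFldLib.kaehler_D_sepVar_ne_zero hK (fun halg => hx ?_) hsx h0
    obtain ⟨c, rfl⟩ := hK.2 x halg
    exact IntermediateField.algebraMap_mem _ c
  · exact ⟨fun h hx => hnot hx h, fun h => by_contra fun hx => h (FunFldLib.isSepVar_of_notMem_Epow hK hg p hx)⟩

end Groth.Agent.S11002
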