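import Groth.Statements.S11003
import Groth.Agent.FunFld.Separating
-- import your own Groth.Agent.* helpers here

set_option autoImplicit false
universe u v
open FunFld

namespace Groth.Agent.S11003

/-- `dim_K Ω_{K/k} = 1` for a geometric function field of one variable `K/k`. -/
theorem result (k : Type u) (K : Type v) [Field k] [Field K] [Algebra k K]
    (hK : FunFld.IsFunctionField k K) (hg : FunFld.IsGeometric k K) :
    Module.finrank K (KaehlerDifferential k K) = 1 := by
  obtain ⟨s, hs, hsep⟩ := FunFldLib.exists_sepVar hK hg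
  have := FunFldLib.finiteDimensional_adjoin hK hs
  obtain ⟨H, hH⟩ := FunFldLib.exists_hasseFamily hs hsep
  refine finrank_eq_one_iff'.2 ⟨_, FunFldLib.kaehler_D_sepVar_ne_zero hK hs hsep, fun w => ?_⟩
  have hw : w ∈ Submodule.span K (Set.range (KaehlerDifferential.D k K)) := by
    rw [KaehlerDifferential.span_range_derivation]; trivial
  induction hw using Submodule.span_induction with
  | mem w hw =>
    obtain ⟨y, rfl⟩ := hw
    exact ⟨_, (FunFldLib.kaehler_eq_hasseD_smul hH hsep y).symm⟩
  | zero => exact ⟨0, zero_smul _ _⟩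
  | add a b _ _ ha hb =>
    obtain ⟨c, rfl⟩ := ha
    obtain ⟨d, rfl⟩ := hb
    exact ⟨c + d, add_smul _ _ _⟩
  | smul c a _ ha =>
    obtain ⟨d, rfl⟩ := ha
    exact ⟨c * d, mul_smul _ _ _⟩

end Groth.Agent.S11003
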