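import Groth.Statements.S11004
import Groth.Agent.FunFld.SepPlaces
-- import your own Groth.Agent.* helpers here

set_option autoImplicit false
universe u v
open FunFld

namespace Groth.Agent.S11004

/-- A geometric function field of one variable has infinitely many places with residue field separable
over `k`. -/
theorem result (k : Type u) (K : Type v) [Field k] [Field K] [Algebra k K]
    (hK : FunFld.IsFunctionField k K) (hg : FunFld.IsGeometric k K) :
    {P : FunFld.Place k K | Algebra.IsSeparable k (IsLocalRing.ResidueField P.O)}.Infinite := by
  obtain _ | _ := finite_or_infinite k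
  · have : PerfectField k := PerfectField.ofFinite
    have := FunFldLib.infinite_places hK
    refine Set.infinite_univ.mono fun P _ => ?_
    show Algebra.IsSeparable k (IsLocalRing.ResidueField P.O)
    have hfd : FiniteDimensional k (IsLocalRing.ResidueField P.O) :=
      Module.finite_of_finrank_pos (FunFldLib.deg_pos hK P)
    have : Algebra.IsAlgebraic k (IsLocalRing.ResidueField P.O) :=
      ⟨fun t => (@IsIntegral.of_finite k _ _ _ _ hfd t).isAlgebraic⟩
    infer_instance
  · obtain ⟨s, hs, hsep⟩ := FunFldLib.exists_sepVar hK hg
    exact FunFldLib.infinite_separable_residue hK hs hsep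

end Groth.Agent.S11004
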