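import Groth.Statements.S11005
import Groth.Agent.FunFld.SepPlaces
import Mathlib.RingTheory.Flat.Basic
import Mathlib.RingTheory.IntegralClosure.IntegralRestrict
import Mathlib.RingTheory.TensorProduct.Finite
-- import your own Groth.Agent.* helpers here

set_option autoImplicit false
universe u v
open FunFld

namespace Groth.Agent.S11005

/-- An intermediate field `K₀` of a geometric function field of one variable `K/k` that is
transcendental over `k` is again a geometric function field of one variable over `k`. -/
theorem result (k : Type u) (K : Type v) [Field k] [Field K] [Algebra k K]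
    (hK : FunFld.IsFunctionField k K) (hg : FunFld.IsGeometric k K) (K₀ : IntermediateField k K)
    (h₀ : ∃ x ∈ K₀, Transcendental k x) : FunFld.IsFunctionField k K₀ ∧ FunFld.IsGeometric k K₀ := by
  obtain ⟨x, hxm, hx⟩ := h₀
  set x₀ : K₀ := ⟨x, hxm⟩
  have hx₀ : Transcendental k x₀ := fun h => hx (h.algebraMap (A := K))
  set F := IntermediateField.adjoin k ({x} : Set K)
  have : FiniteDimensional F K := FunFldLib.finiteDimensional_adjoin hK hx
  refine ⟨⟨⟨x₀, hx₀, ?_⟩, fun y hy => ?_⟩, fun k' _ _ hk' => ?_⟩
  · set F₀ := IntermediateField.adjoin k ({x₀} : Set K₀)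
    have hle : F ≤ K₀ := IntermediateField.adjoin_simple_le_iff.2 hxm
    have hfin : FiniteDimensional F (IntermediateField.extendScalars hle) :=
      IntermediateField.finiteDimensional_left _
    have hmap : F₀.map K₀.val = F := by
      rw [IntermediateField.adjoin_map, Set.image_singleton]; rfl
    have hmap' : IntermediateField.map K₀.val (⊤ : IntermediateField k K₀) = K₀ := by
      rw [← AlgHom.fieldRange_eq_map, IntermediateField.fieldRange_val]
    let e : F₀ ≃ₐ[k] F := (F₀.equivMap K₀.val).trans (IntermediateField.equivOfEq hmap)
    let F1 := IntermediateField.extendScalars hle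
    let j : K₀ ≃+* F1 := RingEquiv.refl K₀
    have h := Algebra.finrank_eq_of_equiv_equiv e.toRingEquiv j (by ext z; rfl)
    exact Module.finite_of_finrank_pos (h ▸ Module.finrank_pos)
  · obtain ⟨c, hc⟩ := hK.2 (y : K) (hy.algebraMap (A := K))
    exact ⟨c, Subtype.ext hc⟩
  · have hf := hg k' hk'
    let ι : TensorProduct k K₀ k' →ₐ[k] TensorProduct k k' K :=
      (Algebra.TensorProduct.comm k K k').toAlgHom.comp (Algebra.TensorProduct.map K₀.val (AlgHom.id k k'))
    have hι : Function.Injective ι :=
      (Algebra.TensorProduct.comm k K k').injective.comp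
        (Module.Flat.rTensor_preserves_injective_linearMap (M := k') K₀.val.toLinearMap K₀.val.toRingHom.injective)
    have : IsDomain (TensorProduct k k' K) := hf.isDomain
    have : IsDomain (TensorProduct k K₀ k') := hι.isDomain ι.toRingHom
    have hfld : IsField (TensorProduct k K₀ k') :=
      isField_of_isIntegral_of_isField' (R := K₀) (S := TensorProduct k K₀ k') (Field.toIsField K₀)
    exact (Algebra.TensorProduct.comm k k' K₀).toMulEquiv.isField hfld

end Groth.Agent.S11005
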