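import Groth.Statements.S11006
import Groth.Agent.FunFld.GeomTensor
-- import your own Groth.Agent.* helpers here

set_option autoImplicit false
universe u v
open FunFld

namespace Groth.Agent.S11006

/-- For `K/k` a geometric function field of one variable and `k'/k` finite, the field `K' = k' ⊗_k K` is
a geometric function field of one variable over `k'`: some element of `K'` is transcendental over
`k'` with `K'` of finite degree over the subfield it generates over `k'`, `k'` is algebraically
closed in `K'`, and `K'` stays a field after tensoring over `k'` with any finite field extension of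
`k'`. -/
theorem result (k k' : Type u) (K K' : Type v) [Field k] [Field k'] [Field K] [Field K']
    [Algebra k k'] [FiniteDimensional k k'] [Algebra k K] [Algebra K K'] [Algebra k' K'] [Algebra k K']
    [IsScalarTower k k' K'] [IsScalarTower k K K']
    (h : Function.Bijective (Algebra.TensorProduct.productMap
      (IsScalarTower.toAlgHom k k' K') (IsScalarTower.toAlgHom k K K')))
    (hK : FunFld.IsFunctionField k K) (hg : FunFld.IsGeometric k K) :
    FunFld.IsFunctionField k' K' ∧ FunFld.IsGeometric k' K' := by
  let φ : TensorProduct k K k' →ₐ[K] K' :=
    Algebra.TensorProduct.lift (Algebra.ofId K K') (IsScalarTower.toAlgHom k k' K') fun _ _ => .all _ _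
  have hφ : Function.Bijective φ := by
    have hfun : (φ : TensorProduct k K k' → K') = (Algebra.TensorProduct.productMap
        (IsScalarTower.toAlgHom k k' K') (IsScalarTower.toAlgHom k K K')) ∘ (Algebra.TensorProduct.comm k K k') := by
      funext t
      induction t using TensorProduct.induction_on with
      | zero => simp
      | tmul a b => simp [φ, mul_comm]
      | add a b ha hb => simp only [Function.comp_apply, map_add] at ha hb ⊢; rw [ha, hb]
    rw [hfun]
    exact h.comp (Algebra.TensorProduct.comm k K k').bijective
  have hrank : Module.finrank K K' = Module.finrank k k' := by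
    rw [← (LinearEquiv.ofBijective φ.toLinearMap hφ).finrank_eq, Module.finrank_baseChange]
  have : FiniteDimensional K K' := Module.Finite.equiv (LinearEquiv.ofBijective φ.toLinearMap hφ)
  obtain ⟨x, hx, -⟩ := hK.1
  have hxK : Transcendental k (algebraMap K K' x) := FunFldLib.transcendental_algebraMap hx
  set X := algebraMap K K' x
  have hX : Transcendental k' X := fun halg => hxK (by
    have : Algebra.IsAlgebraic k k' := Algebra.IsAlgebraic.of_finite k k'
    exact IsAlgebraic.restrictScalars k halg)
  have hfinX : FiniteDimensional (IntermediateField.adjoin k' ({X} : Set K')) K' := by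
    set E := IntermediateField.adjoin k ({X} : Set K')
    set E' := IntermediateField.adjoin k' ({X} : Set K')
    have hle : E ≤ E'.restrictScalars k :=
      IntermediateField.adjoin_simple_le_iff.2 (IntermediateField.mem_adjoin_simple_self k' X)
    have := FunFldLib.finiteDimensional_adjoin hK hx
    have hfin : FiniteDimensional E K' := by
      refine Module.finite_of_finrank_pos ?_
      rw [FunFldLib.finrank_adjoin_algebraMap]
      exact Nat.mul_pos Module.finrank_pos Module.finrank_pos
    letI : Algebra E E' := (E.subtype.codRestrict E'.toSubfield fun z => hle z.2).toAlgebra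
    have : IsScalarTower E E' K' := IsScalarTower.of_algebraMap_eq fun _ => rfl
    exact Module.Finite.of_restrictScalars_finite E E' K'
  have hcl : ∀ y : K', IsAlgebraic k' y → y ∈ Set.range (algebraMap k' K') := by
    intro y hy
    have hint := hy.isIntegral
    have : Fact (Irreducible (minpoly k' y)) := ⟨minpoly.irreducible hint⟩
    let k'' := AdjoinRoot (minpoly k' y)
    have : FiniteDimensional k' k'' := (minpoly.monic hint).finite_adjoinRoot
    have : FiniteDimensional k k'' := Module.Finite.trans k' k''
    have hf : IsField (TensorProduct k k'' K) := hg k'' inferInstance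
    have hf' : IsField (TensorProduct k K k'') := (Algebra.TensorProduct.comm k K k'').toMulEquiv.isField hf
    let ψ : k'' →ₐ[k'] K' := AdjoinRoot.liftAlgHom _ (Algebra.ofId k' K') y (minpoly.aeval k' y)
    let Ψ : TensorProduct k K k'' →ₐ[K] K' :=
      Algebra.TensorProduct.lift (Algebra.ofId K K') (ψ.restrictScalars k) fun _ _ => .all _ _
    have hinj : Function.Injective Ψ := by
      letI := hf'.toField
      exact Ψ.toRingHom.injective
    have h1 := Ψ.toLinearMap.finrank_le_finrank_of_injective hinj
    rw [Module.finrank_baseChange, hrank, ← Module.finrank_mul_finrank k k' k''] at h1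
    have hpos : 0 < Module.finrank k k' := Module.finrank_pos
    have h2 : Module.finrank k' k'' ≤ 1 := Nat.le_of_mul_le_mul_left (by simpa using h1) hpos
    rw [(AdjoinRoot.powerBasis (minpoly.ne_zero hint)).finrank, AdjoinRoot.powerBasis_dim] at h2
    exact minpoly.natDegree_eq_one_iff.1 (le_antisymm h2 (minpoly.natDegree_pos hint))
  refine ⟨⟨⟨X, hX, hfinX⟩, hcl⟩, ?_⟩
  intro k'' _ _ hk''
  letI : Algebra k k'' := ((algebraMap k' k'').comp (algebraMap k k')).toAlgebra
  have : IsScalarTower k k' k'' := IsScalarTower.of_algebraMap_eq fun _ => rfl
  have : FiniteDimensional k k'' := Module.Finite.trans k' k''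
  have hf := hg k'' inferInstance
  let e : TensorProduct k k' K ≃ₐ[k'] K' :=
    AlgEquiv.ofBijective
      (Algebra.TensorProduct.lift (Algebra.ofId k' K') (IsScalarTower.toAlgHom k K K') fun _ _ => .all _ _) (by
        have hfun : (Algebra.TensorProduct.lift (Algebra.ofId k' K') (IsScalarTower.toAlgHom k K K') fun _ _ => .all _ _ :
            TensorProduct k k' K →ₐ[k'] K').restrictScalars k = Algebra.TensorProduct.productMap
              (IsScalarTower.toAlgHom k k' K') (IsScalarTower.toAlgHom k K K') := by
          ext <;> simp
        rw [← AlgHom.coe_restrictScalars' k, hfun]; exact h)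
  exact ((Algebra.TensorProduct.congr (AlgEquiv.refl : k'' ≃ₐ[k'] k'') e.symm).trans
    (Algebra.TensorProduct.cancelBaseChange k k' k' k'' K)).toMulEquiv.isField hf

end Groth.Agent.S11006
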