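import Groth.Statements.S11010
import Groth.Agent.FunFld.Degree
import Groth.Agent.FunFld.GeomTensor
-- import your own Groth.Agent.* helpers here

set_option autoImplicit false
universe u v
open FunFld

namespace Groth.Agent.S11010

/-- A finite separable extension `K'/k'` of a geometric function field of one variable `K/k` (with `k'`
the constant field of `K'`) is again geometric. (The published statement has no separability
hypothesis on `K'/K`; for `k = 𝔽_p(s,t)`, `K = k(x)` and `K' = K(y)` with `y^p = s x^p + t`, the
field `k` is algebraically closed in `K'` yet `k(s^{1/p}, t^{1/p}) ⊗_k K'` has nonzero nilpotents,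
so `K'/K` is taken separable here.) -/
theorem result (k k' : Type u) (K K' : Type v) [Field k] [Field k'] [Field K] [Field K']
    [Algebra k k'] [Algebra k K] [Algebra K K'] [Algebra k' K'] [Algebra k K']
    [IsScalarTower k k' K'] [IsScalarTower k K K'] [FiniteDimensional K K'] [Algebra.IsSeparable K K']
    (hK : FunFld.IsFunctionField k K) (hg : FunFld.IsGeometric k K)
    (hK' : FunFld.IsFunctionField k' K') : FunFld.IsGeometric k' K' := by
  have hFF : FunFldLib.IsFF k K' := FunFldLib.isFF_of_finite hK
  have hfin₁ := FunFldLib.finiteDimensional_constField hFF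
  set ι : k' →ₐ[k] K' := IsScalarTower.toAlgHom k k' K'
  have halg : ∀ t : k', IsAlgebraic k (ι t) := fun t => by
    by_contra htr
    set E := IntermediateField.adjoin k ({ι t} : Set K')
    have hfinE : FiniteDimensional E K' := by
      refine Module.finite_of_finrank_pos ?_
      rw [FunFldLib.finrank_adjoin_constField hFF htr]
      have := FunFldLib.finiteDimensional_adjoin (FunFldLib.isFunctionField_constField hFF)
        (FunFldLib.transcendental_constField (k := k) htr)
      exact Nat.mul_pos Module.finrank_pos Module.finrank_pos
    have hle : E ≤ ι.fieldRange := IntermediateField.adjoin_simple_le_iff.2 ⟨t, rfl⟩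
    let j : E →+* k' := (AlgEquiv.ofInjectiveField ι).symm.toRingHom.comp
      (E.subtype.codRestrict ι.range.toSubsemiring fun z => hle z.2)
    letI : Algebra E k' := j.toAlgebra
    have : IsScalarTower E k' K' := IsScalarTower.of_algebraMap_eq fun z => by
      show (z : K') = ι (j z)
      exact (congrArg Subtype.val ((AlgEquiv.ofInjectiveField ι).apply_symm_apply ⟨z.1, hle z.2⟩)).symm
    obtain ⟨x', hx', -⟩ := hK'.1
    exact hx' ((Algebra.IsAlgebraic.isAlgebraic (R := E) x').tower_top k')
  have hfin : FiniteDimensional k k' := by
    let c : k' →ₗ[k] (FunFldLib.constField k K' : IntermediateField k K') :=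
      { toFun := fun t => ⟨ι t, mem_algebraicClosure_iff.2 (halg t)⟩
        map_add' := fun a b => Subtype.ext (map_add ι a b)
        map_smul' := fun r a => Subtype.ext (map_smul ι r a) }
    exact Module.Finite.of_injective c fun a b hab => ι.toRingHom.injective (congrArg Subtype.val hab)
  refine FunFldLib.isGeometric_of_reduced hK'.2 fun k'' _ _ hk'' => ?_
  letI : Algebra k k'' := ((algebraMap k' k'').comp (algebraMap k k')).toAlgebra
  have : IsScalarTower k k' k'' := IsScalarTower.of_algebraMap_eq fun _ => rfl
  have : FiniteDimensional k k'' := Module.Finite.trans k' k''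
  letI := (hg k'' inferInstance).toField
  let T := TensorProduct k' k'' K'
  letI algKT : Algebra K T := (Algebra.TensorProduct.includeRight.toRingHom.comp (algebraMap K K')).toAlgebra
  have : IsScalarTower k K T := IsScalarTower.of_algebraMap_eq fun c => by
    show algebraMap k T c = (1 : k'') ⊗ₜ[k'] algebraMap K K' (algebraMap k K c)
    rw [← IsScalarTower.algebraMap_apply k K K', IsScalarTower.algebraMap_apply k k' K',
      IsScalarTower.algebraMap_apply k k' T]
    exact ((Algebra.TensorProduct.includeRight : K' →ₐ[k'] T).commutes _).symm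
  let g : TensorProduct k k'' K →ₐ[k] T :=
    Algebra.TensorProduct.lift ((Algebra.TensorProduct.includeLeft : k'' →ₐ[k'] T).restrictScalars k)
      (IsScalarTower.toAlgHom k K T) fun _ _ => .all _ _
  letI : Algebra (TensorProduct k k'' K) T := g.toRingHom.toAlgebra
  letI : Algebra K (TensorProduct k k'' K) := Algebra.TensorProduct.rightAlgebra
  have : IsScalarTower K (TensorProduct k k'' K) T := IsScalarTower.of_algebraMap_eq fun a => by
    show algebraMap K T a = g ((1 : k'') ⊗ₜ a)
    rw [Algebra.TensorProduct.lift_tmul, map_one, one_mul]; rfl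
  let right : K' →ₐ[K] T :=
    { (Algebra.TensorProduct.includeRight : K' →ₐ[k'] T).toRingHom with commutes' := fun a => rfl }
  let Ψ : TensorProduct K (TensorProduct k k'' K) K' →ₐ[TensorProduct k k'' K] T :=
    Algebra.TensorProduct.lift (Algebra.ofId _ T) right fun _ _ => .all _ _
  have hsurj : Function.Surjective Ψ := fun x => by
    induction x using TensorProduct.induction_on with
    | zero => exact ⟨0, map_zero _⟩
    | tmul a b =>
      refine ⟨(a ⊗ₜ[k] (1 : K)) ⊗ₜ[K] b, ?_⟩
      show g (a ⊗ₜ[k] (1 : K)) * ((1 : k'') ⊗ₜ[k'] b) = a ⊗ₜ[k'] b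
      rw [Algebra.TensorProduct.lift_tmul, map_one, mul_one]
      show (a ⊗ₜ[k'] (1 : K')) * _ = _
      rw [Algebra.TensorProduct.tmul_mul_tmul, mul_one, one_mul]
    | add x y hx hy =>
      obtain ⟨a, ha⟩ := hx
      obtain ⟨b, hb⟩ := hy
      exact ⟨a + b, by rw [map_add, ha, hb]⟩
  have : Algebra.FormallyUnramified K K' := Algebra.FormallyUnramified.of_isSeparable K K'
  have : Algebra.FormallyUnramified (TensorProduct k k'' K) T := Algebra.FormallyUnramified.of_surjective Ψ hsurj
  have : Module.Finite (TensorProduct k k'' K) T := Module.Finite.of_surjective Ψ.toLinearMap hsurj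
  exact Algebra.FormallyUnramified.isReduced_of_field (TensorProduct k k'' K) T

end Groth.Agent.S11010
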