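import Groth.Statements.S11013
import Groth.Agent.FunFld.Galois
-- import your own Groth.Agent.* helpers here

set_option autoImplicit false
open FunFld

namespace Groth.Agent.S11013

/-- In a finite Galois extension `K'/K` of a geometric function field of one variable, the Galois group
acts transitively on the places of `K'` above a given place of `K`. -/
theorem result (k K K' : Type*) [Field k] [Field K] [Field K'] [Algebra k K] [Algebra K K'] [Algebra k K']
    [IsScalarTower k K K'] [FiniteDimensional K K'] (hK : FunFld.IsFunctionField k K) (hg : FunFld.IsGeometric k K) [IsGalois K K']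
    (Q₁ Q₂ : FunFld.Place k K')
    (h : (Q₁.1.comap (algebraMap K K')).IsEquiv (Q₂.1.comap (algebraMap K K'))) :
    ∃ σ : K' ≃ₐ[K] K', Q₁.1.comap (σ : K' →+* K') = Q₂.1 := by
  obtain ⟨e₁, he₁⟩ := FunFldLib.isOver_below (K := K) Q₁
  obtain ⟨e₂, he₂⟩ := FunFldLib.isOver_below (K := K) Q₂
  have hP : FunFldLib.below (K := K) Q₁ = FunFldLib.below (K := K) Q₂ := by
    refine FunFldLib.place_ext fun x hx => ?_
    have h1 : Q₁.1 (algebraMap K K' x) ≤ 1 := by rw [he₁]; exact pow_le_one₀ zero_le hx
    have h2 : Q₂.1 (algebraMap K K' x) ≤ 1 := (Valuation.IsEquiv.le_one_iff_le_one h).1 h1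
    rw [he₂] at h2
    exact (pow_le_one_iff_of_nonneg zero_le (FunFldLib.isOverWith_pos he₂).ne').1 h2
  obtain ⟨σ, hσ⟩ := FunFldLib.exists_conjPlace hK (P := FunFldLib.below (K := K) Q₂)
    (show FunFld.IsOver Q₁ _ from hP ▸ ⟨e₁, he₁⟩) (show FunFld.IsOver Q₂ _ from ⟨e₂, he₂⟩)
  exact ⟨σ, congrArg Subtype.val hσ⟩

end Groth.Agent.S11013
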