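import Groth.Statements.S11014
import Groth.Agent.FunFld.HyperGenus
-- import your own Groth.Agent.* helpers here

set_option autoImplicit false
open FunFld

namespace Groth.Agent.S11014

/-- For `char k ≠ 2` and `K = k(x, y)` with `y² = f(x)`, `f` squarefree of degree `d ≥ 1`, the genus is
`(d - 2)/2` for `d` even and `(d - 1)/2` for `d` odd. -/
theorem result (k K : Type*) [Field k] [Field K] [Algebra k K]
    (hK : FunFld.IsFunctionField k K) (h2 : ringChar k ≠ 2) (x y : K) (hx : Transcendental k x)
    (hxy : IntermediateField.adjoin k ({x, y} : Set K) = ⊤)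
    (f : Polynomial k) (hf : Squarefree f) (hd : 1 ≤ f.natDegree)
    (heq : y ^ 2 = Polynomial.aeval x f) :
    FunFld.genus k K = (f.natDegree - 1) / 2 := by
  let e := RatFunc.algEquivOfTranscendental x hx
  let i : RatFunc k →ₐ[k] K := (IntermediateField.adjoin k ({x} : Set K)).val.comp e.toAlgHom
  letI : Algebra (RatFunc k) K := i.toRingHom.toAlgebra
  have : IsScalarTower k (RatFunc k) K := IsScalarTower.of_algebraMap_eq fun c => (i.commutes c).symm
  have hiX : algebraMap (RatFunc k) K RatFunc.X = x := RatFunc.algEquivOfTranscendental_X x hx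
  have hif : algebraMap (RatFunc k) K (FunFldLib.polR f) = Polynomial.aeval x f := by
    conv_rhs => rw [← hiX]
    rw [Polynomial.aeval_algebraMap_apply]
    congr 1
    rw [FunFldLib.polR, ← RatFunc.algebraMap_X, Polynomial.aeval_algebraMap_apply, Polynomial.aeval_X_left_apply]
  have heq' : y ^ 2 = algebraMap (RatFunc k) K (FunFldLib.polR f) := by rw [hif, heq]
  have hy := FunFldLib.hyper_notMem hf hd heq'
  have hint : IsIntegral (RatFunc k) y := IsIntegral.of_pow two_pos (heq' ▸ isIntegral_algebraMap)
  have htop : IntermediateField.adjoin (RatFunc k) ({y} : Set K) = ⊤ := by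
    refine eq_top_iff.2 fun u _ => ?_
    have hle : IntermediateField.adjoin k ({x, y} : Set K) ≤
        (IntermediateField.adjoin (RatFunc k) ({y} : Set K)).restrictScalars k := by
      refine IntermediateField.adjoin_le_iff.2 fun v hv => ?_
      rcases hv with rfl | rfl
      · rw [← hiX]; exact (IntermediateField.adjoin (RatFunc k) ({y} : Set K)).algebraMap_mem _
      · exact IntermediateField.mem_adjoin_simple_self _ _
    exact hle (hxy ▸ IntermediateField.mem_top)
  have hdeg : Module.finrank (RatFunc k) K = 2 := by
    have h1 : Module.finrank (RatFunc k) K = (minpoly (RatFunc k) y).natDegree := by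
      rw [← IntermediateField.finrank_top', ← htop, IntermediateField.adjoin.finrank hint]
    have h2' := (minpoly.two_le_natDegree_iff hint).2 hy
    set q : Polynomial (RatFunc k) := Polynomial.X ^ 2 - Polynomial.C (FunFldLib.polR f) with hq
    have h3 := minpoly.min (RatFunc k) y (Polynomial.monic_X_pow_sub_C (FunFldLib.polR f) two_ne_zero)
      (by simp [heq'])
    have h4 := Polynomial.natDegree_le_natDegree h3
    rw [Polynomial.natDegree_X_pow_sub_C] at h4
    omega
  exact FunFldLib.genus_hyperelliptic hK (Ring.two_ne_zero h2) hdeg y hf hd heq'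

end Groth.Agent.S11014
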