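import Groth.Statements.S11016
import Groth.Agent.FunFld.RR
-- import your own Groth.Agent.* helpers here

set_option autoImplicit false
open FunFld

namespace Groth.Agent.S11016

/-- `L(D) ≠ 0` iff there is an effective divisor linearly equivalent to `D`. -/
theorem result (k K : Type*) [Field k] [Field K] [Algebra k K]
    (hK : FunFld.IsFunctionField k K) (D : FunFld.Divisor k K) :
    FunFld.L D ≠ ⊥ ↔ ∃ x : K, x ≠ 0 ∧ 0 ≤ D + FunFld.div k x := by
  refine ⟨fun h => ?_, fun ⟨x, hx, h⟩ hbot => hx ?_⟩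
  · obtain ⟨x, hx, hx0⟩ := Submodule.exists_mem_ne_zero_of_ne_bot h
    exact ⟨x, hx0, FunFldLib.nonneg_of_mem_L hK hx0 hx⟩
  · have hmem : x ∈ FunFld.L D := (FunFldLib.mem_L_iff hx).2 fun P => by
      have := h P
      rw [Finsupp.add_apply, FunFldLib.div_apply hK, Finsupp.zero_apply] at this
      omega
    rwa [hbot, Submodule.mem_bot] at hmem

end Groth.Agent.S11016
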