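import Groth.Statements.S11017
import Groth.Agent.FunFld.RR
-- import your own Groth.Agent.* helpers here

set_option autoImplicit false
open FunFld

namespace Groth.Agent.S11017

/-- For a Weil differential `ω` with divisor `C`, `ord_P [ω] ≥ e` iff `ω` kills every repartition
concentrated at `P` with `P`-component of order at least `-e`. -/
theorem result (k K : Type*) [Field k] [Field K] [Algebra k K] (ω : Module.Dual k (FunFld.adele k K)) (C : FunFld.Divisor k K) (hω : FunFld.IsDivOf ω C)
    (P : FunFld.Place k K) (e : ℤ) :
    e ≤ C P ↔ ∀ (a : FunFld.Place k K → K) (ha : a ∈ FunFld.adele k K),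
      (∀ Q, Q ≠ P → a Q = 0) → P.1 (a P) ≤ WithZero.exp e → ω ⟨a, ha⟩ = 0 := by
  classical
  constructor
  · intro he a ha hsupp haP
    refine FunFldLib.mem_WD.1 ((hω C).2 le_rfl) ⟨a, ha⟩ (Submodule.mem_sup_left fun Q => ?_)
    rcases eq_or_ne Q P with rfl | hQ
    · exact haP.trans (WithZero.exp_le_exp.2 he)
    · simp [hsupp Q hQ]
  · intro h
    let E : FunFld.Divisor k K := Finsupp.update C P (max (C P) e)
    have hE : ω ∈ FunFld.WD E := by
      rw [FunFldLib.mem_WD]
      rintro ⟨a, ha⟩ hmem
      obtain ⟨b, hb, d, hd, hbd⟩ := Submodule.mem_sup.1 hmem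
      rcases le_or_gt e (C P) with he | he
      · refine FunFldLib.mem_WD.1 ((hω C).2 le_rfl) _ (Submodule.mem_sup.2 ⟨b, fun Q => ?_, d, hd, hbd⟩)
        have := hb Q
        rcases eq_or_ne Q P with rfl | hQ
        · simpa [E, max_eq_left he] using this
        · simpa [E, Finsupp.update_apply, hQ] using this
      · let b' : FunFld.Place k K → K := Function.update 0 P (b P)
        have hb'A : b' ∈ FunFld.adele k K :=
          Filter.eventually_cofinite.2 ((Set.finite_singleton P).subset fun Q hQ => by
            by_contra hQP; simp [b', Function.update_of_ne hQP] at hQ)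
        have h1 : ω ⟨b', hb'A⟩ = 0 := h b' hb'A (fun Q hQ => by simp [b', hQ]) (by
          simpa [b', E, max_eq_right he.le] using hb P)
        have hrest : a - b' ∈ FunFld.adele k K := sub_mem ha hb'A
        have h2 : ω ⟨a - b', hrest⟩ = 0 := by
          refine FunFldLib.mem_WD.1 ((hω C).2 le_rfl) _
            (Submodule.mem_sup.2 ⟨b - b', fun Q => ?_, d, hd, ?_⟩)
          · rcases eq_or_ne Q P with rfl | hQ
            · simp [b']
            · simpa [b', E, Finsupp.update_apply, hQ] using hb Q
          · show b - b' + d = a - b'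
            have hbd' : b + d = a := hbd
            rw [← hbd']; abel
        have hsum : (⟨a, ha⟩ : FunFld.adele k K) = ⟨b', hb'A⟩ + ⟨a - b', hrest⟩ :=
          Subtype.ext (show a = b' + (a - b') by abel)
        rw [hsum, map_add, h1, h2, add_zero]
    have hh := (hω E).1 hE P
    simp [E] at hh
    omega

end Groth.Agent.S11017
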