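import Groth.Statements.S11019
import Groth.Agent.FunFld.SepPlaces
import Groth.Agent.FunFld.Hyperelliptic
-- import your own Groth.Agent.* helpers here

set_option autoImplicit false
open FunFld

namespace Groth.Agent.S11019

/-- For `char k ≠ 2` and `K = k(x, y)` with `x` transcendental and `y² = f(x)`, `f` squarefree of degree
`≥ 1`: the field `k` is algebraically closed in `K` (whatever in `K` is algebraic over `k` lies in
`k`), and `K/k` is a function field of one variable. -/
theorem result (k K : Type*) [Field k] [Field K] [Algebra k K] (h2 : ringChar k ≠ 2) (x y : K) (hx : Transcendental k x)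
    (hxy : IntermediateField.adjoin k ({x, y} : Set K) = ⊤)
    (f : Polynomial k) (hf : Squarefree f) (hd : 1 ≤ f.natDegree)
    (heq : y ^ 2 = Polynomial.aeval x f) : FunFld.IsFunctionField k K := by
  let e := RatFunc.algEquivOfTranscendental x hx
  let i : RatFunc k →ₐ[k] K := (IntermediateField.adjoin k ({x} : Set K)).val.comp e.toAlgHom
  letI : Algebra (RatFunc k) K := i.toRingHom.toAlgebra
  have : IsScalarTower k (RatFunc k) K := IsScalarTower.of_algebraMap_eq fun c => (i.commutes c).symm
  have hiX : algebraMap (RatFunc k) K RatFunc.X = x := RatFunc.algEquivOfTranscendental_X x hx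
  have hif : algebraMap (RatFunc k) K (FunFldLib.polR f) = Polynomial.aeval x f := by
    conv_rhs => rw [← hiX]
    rw [Polynomial.aeval_algebraMap_apply]
    congr 1
    rw [FunFldLib.polR, ← RatFunc.algebraMap_X, Polynomial.aeval_algebraMap_apply, Polynomial.aeval_X_left_apply]
  have heq' : y ^ 2 = algebraMap (RatFunc k) K (FunFldLib.polR f) := by rw [hif, heq]
  have hy := FunFldLib.hyper_notMem hf hd heq'
  have hint : IsIntegral (RatFunc k) y := IsIntegral.of_pow two_pos (heq' ▸ isIntegral_algebraMap)
  have htop : IntermediateField.adjoin (RatFunc k) ({y} : Set K) = ⊤ := by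
    refine eq_top_iff.2 fun u _ => ?_
    have hle : IntermediateField.adjoin k ({x, y} : Set K) ≤
        (IntermediateField.adjoin (RatFunc k) ({y} : Set K)).restrictScalars k := by
      refine IntermediateField.adjoin_le_iff.2 fun v hv => ?_
      rcases hv with rfl | rfl
      · rw [← hiX]; exact (IntermediateField.adjoin (RatFunc k) ({y} : Set K)).algebraMap_mem _
      · exact IntermediateField.mem_adjoin_simple_self _ _
    exact hle (hxy ▸ IntermediateField.mem_top)
  have hdeg : Module.finrank (RatFunc k) K = 2 := by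
    have h1 : Module.finrank (RatFunc k) K = (minpoly (RatFunc k) y).natDegree := by
      rw [← IntermediateField.finrank_top', ← htop, IntermediateField.adjoin.finrank hint]
    have h2' := (minpoly.two_le_natDegree_iff hint).2 hy
    set q : Polynomial (RatFunc k) := Polynomial.X ^ 2 - Polynomial.C (FunFldLib.polR f) with hq
    have h3 := minpoly.min (RatFunc k) y (Polynomial.monic_X_pow_sub_C (FunFldLib.polR f) two_ne_zero)
      (by simp [heq'])
    have h4 := Polynomial.natDegree_le_natDegree h3
    rw [Polynomial.natDegree_X_pow_sub_C] at h4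
    omega
  have hfin : FiniteDimensional (RatFunc k) K := Module.finite_of_finrank_pos (by rw [hdeg]; exact two_pos)
  refine ⟨⟨x, hx, Module.finite_of_finrank_pos ?_⟩, fun u hu => ?_⟩
  · have h := Algebra.finrank_eq_of_equiv_equiv e.toRingEquiv (RingEquiv.refl K) (by ext z; rfl)
    rw [← h, hdeg]; exact two_pos
  obtain ⟨a, b, rfl⟩ := FunFldLib.quad_repr hdeg hy u
  have hF := FunFldLib.isFunctionField_ratFunc (k := k)
  have h2k : (2 : k) ≠ 0 := Ring.two_ne_zero h2
  have htr : Algebra.trace (RatFunc k) K (algebraMap _ K a + algebraMap _ K b * y) = 2 * a := by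
    rw [map_add, Algebra.trace_algebraMap, hdeg, ← Algebra.smul_def, map_smul,
      FunFldLib.quad_trace hdeg hy heq', smul_zero, add_zero, two_smul, two_mul]
  obtain ⟨c, hc⟩ := hF.2 _ (Algebra.isIntegral_trace (L := RatFunc k) hu.isIntegral).isAlgebraic
  rw [htr] at hc
  have ha : a = algebraMap k (RatFunc k) (c / 2) := by
    rw [map_div₀, hc, map_ofNat, mul_div_cancel_left₀]
    exact map_ofNat (algebraMap k (RatFunc k)) 2 ▸ (map_ne_zero _).2 h2k
  have hsq : IsAlgebraic k ((algebraMap (RatFunc k) K b * y) ^ 2) := by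
    refine IsAlgebraic.pow ?_ 2
    have h := hu.sub (isAlgebraic_algebraMap (R := k) (A := K) (c / 2))
    rwa [IsScalarTower.algebraMap_apply k (RatFunc k) K, ← ha, add_sub_cancel_left] at h
  rw [mul_pow, heq', ← map_pow, ← map_mul, isAlgebraic_algebraMap_iff (algebraMap (RatFunc k) K).injective] at hsq
  obtain ⟨d, hd'⟩ := hF.2 _ hsq
  rcases eq_or_ne b 0 with rfl | hb
  · exact ⟨c / 2, by rw [IsScalarTower.algebraMap_apply k (RatFunc k) K, ← ha]; simp⟩
  exfalso
  rcases eq_or_ne d 0 with rfl | hd0
  · rw [map_zero, eq_comm, mul_eq_zero] at hd'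
    rcases hd' with h | h
    · exact hb (eq_zero_of_pow_eq_zero h)
    · exact hf.ne_zero ((map_eq_zero_iff _ (RatFunc.algebraMap_injective k)).1 h)
  refine FunFldLib.polR_ne_sq (f := Polynomial.C d * f) ?_ ?_ (b * FunFldLib.polR f) ?_
  · have hassoc : Associated f (Polynomial.C d * f) :=
      ⟨(Polynomial.isUnit_C.2 hd0.isUnit).unit, by rw [IsUnit.unit_spec, mul_comm]⟩
    exact hassoc.squarefree_iff.1 hf
  · rwa [Polynomial.natDegree_C_mul hd0]
  · unfold FunFldLib.polR at hd' ⊢
    rw [map_mul (algebraMap (Polynomial k) (RatFunc k)) (Polynomial.C d) f, ← Polynomial.algebraMap_eq,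
      ← IsScalarTower.algebraMap_apply, hd']
    ring

end Groth.Agent.S11019
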