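import Groth.Statements.S11025
import Groth.Agent.FunFld.RamGroups
-- import your own Groth.Agent.* helpers here

set_option autoImplicit false
open FunFld

namespace Groth.Agent.S11025

/-- For `i ≥ 2` the ramification quotient `G_i/G_{i+1}` embeds in the additive group of the residue
field: it is abelian, trivial in characteristic `0`, and elementary abelian of exponent `p` in
characteristic `p`. (Residue field of `Q` assumed separable over `k`.) -/
theorem result (k K K' : Type*) [Field k] [Field K] [Field K'] [Algebra k K] [Algebra K K'] [Algebra k K']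
    [IsScalarTower k K K'] [FiniteDimensional K K'] (hK : FunFld.IsFunctionField k K) (hg : FunFld.IsGeometric k K) [IsGalois K K'] (Q : FunFld.Place k K') [Algebra.IsSeparable k (IsLocalRing.ResidueField Q.O)]
    (i : ℕ) (hi : 2 ≤ i) (σ τ : K' ≃ₐ[K] K') (hσ : (∀ x : K', Q.1 x ≤ 1 → Q.1 (σ x - x) ≤ WithZero.exp (-(i : ℤ)))) (hτ : (∀ x : K', Q.1 x ≤ 1 → Q.1 (τ x - x) ≤ WithZero.exp (-(i : ℤ)))) :
    (∀ x : K', Q.1 x ≤ 1 → Q.1 ((σ * τ * σ⁻¹ * τ⁻¹) x - x) ≤ WithZero.exp (-((i + 1) : ℤ))) ∧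
    (ringChar K = 0 → (∀ x : K', Q.1 x ≤ 1 → Q.1 (σ x - x) ≤ WithZero.exp (-((i + 1) : ℤ)))) ∧
    ∀ p : ℕ, p.Prime → ringChar K = p → (∀ x : K', Q.1 x ≤ 1 → Q.1 ((σ ^ p) x - x) ≤ WithZero.exp (-((i + 1) : ℤ))) := by
  obtain ⟨t, ht⟩ := Groth.Agent.FunFldLib.exists_val_eq Q (-1)
  have hσ' : Groth.Agent.FunFldLib.InG Q i σ := hσ
  have hτ' : Groth.Agent.FunFldLib.InG Q i τ := hτ
  have hn : ∀ (n : ℕ) (x : K'), Q.1 x ≤ 1 → (σ ^ n) x = x → Q.1 ((n : K') * (σ x - x)) ≤ WithZero.exp (-((i : ℤ) + 1)) := by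
    intro n x hx hfix
    have h := Groth.Agent.FunFldLib.inG_pow_sub hi ht hσ' n hx
    rwa [hfix, sub_self, zero_sub, Valuation.map_neg] at h
  refine ⟨fun x hx => Groth.Agent.FunFldLib.inG_commutator hi ht hσ' hτ' x hx, fun h0 x hx => ?_, fun p _ hchar x hx => ?_⟩
  · have hpos : 0 < orderOf σ := orderOf_pos σ
    have : CharZero K := (ringChar.eq_iff.1 h0).charP_to_charZero
    have h := hn (orderOf σ) x hx (by rw [pow_orderOf_eq_one]; rfl)
    have h1 : Q.1 ((orderOf σ : K')) = 1 := by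
      have hne : ((orderOf σ : ℕ) : k) ≠ 0 := fun hk => by
        have h2 : ((orderOf σ : ℕ) : K) = 0 := by rw [← map_natCast (algebraMap k K), hk, map_zero]
        exact hpos.ne' (by exact_mod_cast h2)
      rw [← map_natCast (algebraMap k K')]
      exact Groth.Agent.FunFldLib.val_algebraMap Q hne
    rwa [map_mul, h1, one_mul] at h
  · have h := Groth.Agent.FunFldLib.inG_pow_sub hi ht hσ' p hx
    have hp0 : ((p : ℕ) : K') = 0 := by
      rw [← map_natCast (algebraMap K K'), ← hchar, ringChar.Nat.cast_ringChar, map_zero]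
    rwa [hp0, zero_mul, sub_zero] at h

end Groth.Agent.S11025
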