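import Groth.Statements.S11026
import Groth.Agent.FunFld.AdjointChange
-- import your own Groth.Agent.* helpers here

set_option autoImplicit false
universe u v
open FunFld

namespace Groth.Agent.S11026

/-- A weakly separable finite extension `K'/k'` of a geometric function field `K/k` (the map `Ω_{K/k} →
Ω_{K'/k'}` injective) is separable over the compositum `k'K`. -/
theorem result (k k' : Type u) (K K' : Type v) [Field k] [Field k'] [Field K] [Field K']
    [Algebra k k'] [Algebra k K] [Algebra K K'] [Algebra k' K'] [Algebra k K']
    [IsScalarTower k k' K'] [IsScalarTower k K K'] [FiniteDimensional K K']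
    (hK : FunFld.IsFunctionField k K) (hg : FunFld.IsGeometric k K)
    (hK' : FunFld.IsFunctionField k' K') (hg' : FunFld.IsGeometric k' K')
    (hw : Function.Injective (KaehlerDifferential.map k k' K K')) :
    Algebra.IsSeparable (IntermediateField.adjoin K (Set.range (algebraMap k' K'))) K' := by
  obtain ⟨s, hs, hsep⟩ := FunFldLib.exists_sepVar hK hg
  have hne : KaehlerDifferential.D k' K' (algebraMap K K' s) ≠ 0 := fun h => by
    refine FunFldLib.kaehler_D_sepVar_ne_zero hK hs hsep (hw ?_)
    rw [KaehlerDifferential.map_D, h, map_zero]
  obtain ⟨H, hH⟩ := FunFldLib.isSepVar_of_kaehler_ne hK' hg' hne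
  have hsep' : FunFldLib.IsSepVar k' (algebraMap K K' s) := FunFldLib.isSepVar_of_hasse hK' hg' hH
  set M := IntermediateField.adjoin K (Set.range (algebraMap k' K'))
  set E := IntermediateField.adjoin k' ({algebraMap K K' s} : Set K')
  have hle : ∀ z ∈ E, z ∈ M := fun z hz => by
    induction hz using IntermediateField.adjoin_induction with
    | mem z hz => rw [Set.mem_singleton_iff.1 hz]; exact M.algebraMap_mem s
    | algebraMap c => exact IntermediateField.subset_adjoin K _ ⟨c, rfl⟩
    | add a b _ _ ha hb => exact add_mem ha hb
    | inv a _ ha => exact inv_mem ha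
    | mul a b _ _ ha hb => exact mul_mem ha hb
  letI : Algebra E M := (E.subtype.codRestrict M.toSubfield (fun z => hle z.1 z.2)).toAlgebra
  have : IsScalarTower E M K' := IsScalarTower.of_algebraMap_eq fun _ => rfl
  exact Algebra.isSeparable_tower_top_of_isSeparable E M K'

end Groth.Agent.S11026
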