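import Groth.Statements.S11028
import Groth.Agent.FunFld.ASGenus
-- import your own Groth.Agent.* helpers here

set_option autoImplicit false
open FunFld

namespace Groth.Agent.S11028

/-- For `k` perfect of characteristic `2` and `K = k(x, y)` with `y² + y = f(x)`, all poles of `f` of
odd order `2d_i - 1` at places `p_i` of `k(x)`, the genus of `K` is `-1 + ∑ d_i deg p_i`. -/
theorem result (k K : Type*) [Field k] [Field K] [PerfectField k] (h2 : ringChar k = 2) [Algebra k K]
    [Algebra (RatFunc k) K] [IsScalarTower k (RatFunc k) K] (hK : FunFld.IsFunctionField k K)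
    (hdeg : Module.finrank (RatFunc k) K = 2) (y : K) (hy : y ∉ Set.range (algebraMap (RatFunc k) K))
    (f : RatFunc k) (heq : y ^ 2 + y = algebraMap (RatFunc k) K f)
    (hodd : ∀ P : FunFld.Place k (RatFunc k), FunFld.div k f P < 0 → Odd (FunFld.div k f P)) :
    (FunFld.genus k K : ℤ) = -1 + ∑ P ∈ (FunFld.div k f).support with FunFld.div k f P < 0,
      (1 - FunFld.div k f P) / 2 * (P.deg : ℤ) := by
  classical
  have : CharP k 2 := ringChar.of_eq h2
  have : FiniteDimensional (RatFunc k) K := Module.finite_of_finrank_pos (by rw [hdeg]; exact two_pos)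
  have hF := FunFldLib.isFunctionField_ratFunc (k := k)
  set S := (FunFld.div k f).support.filter fun P => FunFld.div k f P < 0
  let D : Divisor k (RatFunc k) := ∑ P ∈ S, Finsupp.single P ((1 - FunFld.div k f P) / 2)
  have hdiv : ∀ P : Place k (RatFunc k), FunFld.div k f P = P.ord f := FunFldLib.div_apply hF f
  have hDapp : ∀ P, D P = if P ∈ S then (1 - FunFld.div k f P) / 2 else 0 := fun P => by
    simp [D, Finsupp.finsetSum_apply, Finsupp.single_apply]
  have hgen := FunFldLib.genus_artinSchreier hK hdeg hy heq D fun P => by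
    rw [hDapp, hdiv P]
    by_cases hneg : P.ord f < 0
    · have hmem : P ∈ S := by
        simp only [S, Finset.mem_filter, Finsupp.mem_support_iff, hdiv]; exact ⟨hneg.ne, hneg⟩
      obtain ⟨m, hm⟩ := hodd P (by rw [hdiv]; exact hneg)
      rw [hdiv] at hm
      rw [if_pos hmem]
      right; exact ⟨hneg, by omega⟩
    · have hmem : P ∉ S := by
        simp only [S, Finset.mem_filter, hdiv]; exact fun h => hneg h.2
      rw [if_neg hmem]
      left; exact ⟨not_lt.1 hneg, rfl⟩
  have hdegD : D.deg = ∑ P ∈ S, (1 - FunFld.div k f P) / 2 * (P.deg : ℤ) := by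
    rw [FunFldLib.deg_eq_degHom_sum, map_sum]
    exact Finset.sum_congr rfl fun P _ => by rw [← FunFldLib.deg_eq_degHom_sum, FunFldLib.deg_single]
  rw [hgen, hdegD]
  ring

end Groth.Agent.S11028
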