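import Groth.Statements.S11029
import Groth.Agent.FunFld.InertiaField
-- import your own Groth.Agent.* helpers here

set_option autoImplicit false
open FunFld

namespace Groth.Agent.S11029

/-- For an intermediate field `E` of a finite Galois extension `K'/K` of a geometric function field of
one variable and a place `Q` of `K'`, `e(Q ∩ E | Q ∩ K) = 1` iff `E` lies in the inertia field `K₁`
of `Q`. (Residue field of `Q` assumed separable over `k`; the total ramification of `K'/K₁` is not
stated.) -/
theorem result (k K K' : Type*) [Field k] [Field K] [Field K'] [Algebra k K] [Algebra K K'] [Algebra k K']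
    [IsScalarTower k K K'] [FiniteDimensional K K'] (hK : FunFld.IsFunctionField k K) (hg : FunFld.IsGeometric k K) [IsGalois K K'] (Q : FunFld.Place k K') [Algebra.IsSeparable k (IsLocalRing.ResidueField Q.O)]
    (E : IntermediateField K K') :
    Set.range (Q.1.comap (algebraMap E K')) = Set.range (Q.1.comap (algebraMap K K')) ↔
      E ≤ IntermediateField.fixedField
        (((Q.O).inertiaSubgroup K).map ((Q.O).decompositionSubgroup K).subtype) := by
  set I := ((Q.O).inertiaSubgroup K).map ((Q.O).decompositionSubgroup K).subtype with hI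
  have : IsScalarTower k E K' := IsScalarTower.of_algebraMap_eq fun c => rfl
  obtain ⟨PE, e', he'⟩ := FunFldLib.exists_below (K := E) Q
  obtain ⟨P, e, he⟩ := FunFldLib.exists_below (K := K) Q
  have hI1 : Nat.card I = e := FunFldLib.card_inertia_map (FunFldLib.isFF_of_finite (K' := K) hK) he
  have hI2 := FunFldLib.card_inertia_intermediate hK E he'
  have hrE : Set.range (Q.1.comap (algebraMap E K')) = Set.range fun a : WithZero (Multiplicative ℤ) => a ^ e' := by
    refine Set.ext fun a => ⟨fun ⟨x, hx⟩ => ⟨PE.1 x, (he' x).symm.trans hx⟩, fun ⟨b, hb⟩ => ?_⟩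
    obtain ⟨x, rfl⟩ := PE.2.2 b
    exact ⟨x, (he' x).trans hb⟩
  have hrK : Set.range (Q.1.comap (algebraMap K K')) = Set.range fun a : WithZero (Multiplicative ℤ) => a ^ e := by
    refine Set.ext fun a => ⟨fun ⟨x, hx⟩ => ⟨P.1 x, (he x).symm.trans hx⟩, fun ⟨b, hb⟩ => ?_⟩
    obtain ⟨x, rfl⟩ := P.2.2 b
    exact ⟨x, (he x).trans hb⟩
  rw [hrE, hrK, IntermediateField.le_iff_le]
  have hdvd : ∀ m n : ℕ, 0 < m → (Set.range (fun a : WithZero (Multiplicative ℤ) => a ^ m) =
      Set.range fun a : WithZero (Multiplicative ℤ) => a ^ n) → (m : ℤ) ∣ n := fun m n hm h => by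
    obtain ⟨b, hb⟩ : WithZero.exp (n : ℤ) ∈ Set.range fun a : WithZero (Multiplicative ℤ) => a ^ m :=
      h ▸ ⟨WithZero.exp 1, by simp [← WithZero.exp_nsmul]⟩
    rcases eq_or_ne b 0 with rfl | hb0
    · simp only [zero_pow hm.ne'] at hb
      exact absurd hb.symm WithZero.exp_ne_zero
    rw [← WithZero.exp_log hb0] at hb
    simp only [← WithZero.exp_nsmul, WithZero.exp_inj, nsmul_eq_mul] at hb
    exact ⟨WithZero.log b, hb.symm⟩
  constructor
  · intro h
    have hee : e' = e := Nat.dvd_antisymm (Int.natCast_dvd_natCast.1 (hdvd _ _ (FunFldLib.isOverWith_pos he') h))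
      (Int.natCast_dvd_natCast.1 (hdvd _ _ (FunFldLib.isOverWith_pos he) h.symm))
    have : (I ⊓ E.fixingSubgroup) = I :=
      Subgroup.eq_of_le_of_card_ge inf_le_left (by rw [hI2, hI1, hee])
    exact inf_eq_left.1 this
  · intro h
    rw [inf_eq_left.2 h, hI1] at hI2
    rw [hI2]

end Groth.Agent.S11029
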