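import Groth.Statements.S11031
import Groth.Agent.FunFld.RR
-- import your own Groth.Agent.* helpers here

set_option autoImplicit false
open FunFld

namespace Groth.Agent.S11031

/-- An effective divisor `D` of degree `< g` on a function field of one variable of genus `g` is
special: some nonzero Weil differential vanishes on `A(D) + K`. (The published statement is phrased
with differential forms `Ω_K(D)`, identified with `W_K(D)` by duality; the Weil-differential form is
stated.) -/
theorem result (k K : Type*) [Field k] [Field K] [Algebra k K]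
    (hK : FunFld.IsFunctionField k K) (D : FunFld.Divisor k K) (hD : 0 ≤ D) (hdeg : D.deg < FunFld.genus k K) :
    ∃ ω : Module.Dual k (FunFld.adele k K), ω ≠ 0 ∧ ω ∈ FunFld.WD D := by
  obtain ⟨hf, hn⟩ := FunFldLib.finrank_WD hK D
  have hl : 1 ≤ FunFld.ell D := FunFldLib.ell_zero hK ▸ FunFldLib.ell_mono hK hD
  have hne : FunFld.WD D ≠ ⊥ := fun h => by
    rw [h, finrank_bot] at hn
    simp only [FunFldLib.delta] at hn
    omega
  obtain ⟨ω, h1, h2⟩ := Submodule.exists_mem_ne_zero_of_ne_bot hne
  exact ⟨ω, h2, h1⟩

end Groth.Agent.S11031
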