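import Groth.Statements.S11038
import Groth.Agent.FunFld.ZetaFin
-- import your own Groth.Agent.* helpers here

set_option autoImplicit false
open FunFld

namespace Groth.Agent.S11038

/-- `L_K(1) = h_K`, the class number, where `L_K(t) = (1 - t)(1 - q t) Z_K(t)` is the numerator of the
zeta function. -/
theorem result
    (k K : Type*) [Field k] [Finite k] [Field K] [Algebra k K]
    (hK : FunFld.IsFunctionField k K) (p : Polynomial ℤ)
    (hp : (p : PowerSeries ℤ) = FunFld.numerZ k K) :
    p.eval 1 = (FunFld.classNum k K : ℤ) := by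
  obtain ⟨D₁, h₁⟩ := Groth.Agent.FunFldLib.exists_deg_one hK
  rw [Polynomial.eval_eq_sum_range' (n := p.natDegree + 2 * FunFld.genus k K + 1) (by omega)]
  have h := Groth.Agent.FunFldLib.sum_numB D₁ hK h₁
    (N := p.natDegree + 2 * FunFld.genus k K) (by omega)
  simp only [one_pow, mul_one]
  rw [← Finset.sum_congr rfl fun i _ => Groth.Agent.FunFldLib.coeff_numerZ D₁ hK h₁ i, ← hp] at h
  simp only [Polynomial.coeff_coe] at h
  exact_mod_cast h

end Groth.Agent.S11038
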