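import Groth.Statements.S11041
import Groth.Agent.FunFld.ZetaRoots
-- import your own Groth.Agent.* helpers here

set_option autoImplicit false
open FunFld

namespace Groth.Agent.S11041

/-- The Riemann hypothesis for a function field `K` of one variable over a finite field with `q`
elements: every complex root `z` of `L_K(t) = (1 - t)(1 - q t) Z_K(t)` satisfies `|z|² q = 1`;
equivalently the reciprocal roots `αᵢ` all have `|αᵢ| = q^{1/2}`. -/
theorem result
    (k K : Type*) [Field k] [Finite k] [Field K] [Algebra k K]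
    (hK : FunFld.IsFunctionField k K) (p : Polynomial ℤ)
    (hp : (p : PowerSeries ℤ) = FunFld.numerZ k K) (z : ℂ)
    (hz : (p.map (Int.castRingHom ℂ)).IsRoot z) :
    ‖z‖ ^ 2 * (Nat.card k : ℝ) = 1 := by
  obtain ⟨α, -, hmap, hnorm⟩ := Groth.Agent.FunFldLib.exists_alpha_norm hK
  have hpp : p = Groth.Agent.FunFldLib.numPoly k K :=
    Polynomial.coe_injective _ (hp.trans (Groth.Agent.FunFldLib.numPoly_coe hK).symm)
  rw [hpp, hmap, Polynomial.IsRoot, Polynomial.eval_prod, Finset.prod_eq_zero_iff] at hz
  obtain ⟨i, -, hi⟩ := hz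
  simp only [Polynomial.eval_sub, Polynomial.eval_one, Polynomial.eval_mul, Polynomial.eval_C,
    Polynomial.eval_X, sub_eq_zero] at hi
  have h := congrArg norm hi
  rw [norm_one, norm_mul, hnorm i] at h
  have hq : (0 : ℝ) ≤ Nat.card k := Nat.cast_nonneg _
  rw [← Real.mul_self_sqrt hq]
  linear_combination (-(Real.sqrt (Nat.card k) * ‖z‖) - 1) * h

end Groth.Agent.S11041
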