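import Groth.Statements.S11042
import Groth.Agent.FunFld.ZetaRoots
-- import your own Groth.Agent.* helpers here

set_option autoImplicit false
open FunFld

namespace Groth.Agent.S11042

/-- A function field of one variable of genus `g` over a finite field with `q` elements has `N` places
of degree one with `|N - q - 1| ≤ 2 g √q`. -/
theorem result
    (k K : Type*) [Field k] [Finite k] [Field K] [Algebra k K]
    (hK : FunFld.IsFunctionField k K) :
    |(Nat.card {P : FunFld.Place k K // P.deg = 1} : ℝ) - (Nat.card k : ℝ) - 1| ≤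
      2 * (FunFld.genus k K : ℝ) * Real.sqrt (Nat.card k : ℝ) := by
  obtain ⟨α, hα, -, hnorm⟩ := Groth.Agent.FunFldLib.exists_alpha_norm hK
  have h1 := Groth.Agent.FunFldLib.pointCount_eq hK hα one_pos
  have hN : Nat.card {P : FunFld.Place k K // P.deg = 1} = Groth.Agent.FunFldLib.pointCount k K 1 := by
    obtain ⟨C, hC⟩ := Groth.Agent.FunFldLib.pointCount_bound hK
    have hfin := (hC 1 one_pos).1
    rw [Groth.Agent.FunFldLib.pointCount, finsum_mem_eq_finite_toFinset_sum _ hfin,
      Finset.sum_congr rfl fun P hP => Nat.dvd_one.1 (hfin.mem_toFinset.1 hP), Finset.sum_const, smul_eq_mul,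
      mul_one, ← Nat.card_eq_finsetCard]
    exact Nat.card_congr (Equiv.subtypeEquivRight fun P => by simp)
  rw [hN]
  simp only [pow_one] at h1
  have he : ((((Groth.Agent.FunFldLib.pointCount k K 1 : ℝ) - (Nat.card k : ℝ) - 1 : ℝ)) : ℂ) = -∑ i, α i := by
    rw [Complex.ofReal_sub, Complex.ofReal_sub, Complex.ofReal_natCast, Complex.ofReal_natCast,
      Complex.ofReal_one, h1]
    ring
  rw [← Real.norm_eq_abs, ← Complex.norm_real, he, norm_neg]
  refine (norm_sum_le _ _).trans (le_of_eq ?_)
  simp [hnorm]

end Groth.Agent.S11042
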