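import Groth.Statements.S11043
import Groth.Agent.FunFld.RR
-- import your own Groth.Agent.* helpers here

set_option autoImplicit false
open FunFld

namespace Groth.Agent.S11043

/-- For positive integers `n`, `d` with `e = gcd(n, d)`, in `ℂ[t]` one has `(1 - t^{nd/e})^e = ∏_{θⁿ =
1} (1 - (θ t)^d)`, the product over the complex `n`-th roots of unity. -/
theorem result (n d : ℕ) (hn : 0 < n) (hd : 0 < d) :
    ((1 : Polynomial ℂ) - Polynomial.X ^ (n * d / Nat.gcd n d)) ^ Nat.gcd n d =
      ∏ θ ∈ Polynomial.nthRootsFinset n (1 : ℂ),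
        (1 - Polynomial.C (θ ^ d) * Polynomial.X ^ d) := by
  classical
  set e := Nat.gcd n d with he
  have he0 : 0 < e := Nat.gcd_pos_of_pos_left d hn
  set m := n / e with hm
  have hnm : n = e * m := (Nat.mul_div_cancel' (Nat.gcd_dvd_left n d)).symm
  have hm0 : 0 < m := Nat.div_pos (Nat.le_of_dvd hn (Nat.gcd_dvd_left n d)) he0
  have hexp : n * d / e = d * m := by
    rw [mul_comm n d, Nat.mul_div_assoc d (Nat.gcd_dvd_left n d)]
  have hζ : IsPrimitiveRoot (Complex.exp (2 * Real.pi * Complex.I / n)) n :=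
    Complex.isPrimitiveRoot_exp n hn.ne'
  set ζ := Complex.exp (2 * Real.pi * Complex.I / n)
  have hη : IsPrimitiveRoot (ζ ^ d) m := by
    have h1 := IsPrimitiveRoot.orderOf (ζ ^ d)
    rwa [orderOf_pow' ζ hd.ne', ← hζ.eq_orderOf] at h1
  have hroots : ∀ {R : Type} [CommRing R] [IsDomain R] {z : R} {l : ℕ}, IsPrimitiveRoot z l → 0 < l →
      Polynomial.nthRootsFinset l (1 : R) = (Finset.range l).image (z ^ ·) := by
    intro R _ _ z l hz hl
    ext x
    rw [Polynomial.mem_nthRootsFinset hl, Finset.mem_image]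
    constructor
    · intro hx
      have : NeZero l := ⟨hl.ne'⟩
      have := hz.eq_pow_of_pow_eq_one (hξ := hx)
      obtain ⟨i, hi, hix⟩ := this
      exact ⟨i, Finset.mem_range.2 hi, hix⟩
    · rintro ⟨i, -, rfl⟩
      rw [← pow_mul, mul_comm, pow_mul, hz.pow_eq_one, one_pow]
  have hinjη : Set.InjOn ((Polynomial.C (ζ ^ d)) ^ ·) (Finset.range m : Set ℕ) := fun i hi j hj h =>
    (hη.map_of_injective Polynomial.C_injective).pow_inj (Finset.mem_range.1 hi) (Finset.mem_range.1 hj) h
  have key := (hη.map_of_injective Polynomial.C_injective).pow_sub_pow_eq_prod_sub_mul (1 : Polynomial ℂ) (Polynomial.X ^ d) hm0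
  rw [one_pow, ← pow_mul, hroots (hη.map_of_injective Polynomial.C_injective) hm0] at key
  have key' : 1 - Polynomial.X ^ (d * m) =
      ∏ i ∈ Finset.range m, (1 - Polynomial.C (ζ ^ d) ^ i * (Polynomial.X : Polynomial ℂ) ^ d) := by
    refine key.trans ?_
    convert Finset.prod_image (f := fun z : Polynomial ℂ => 1 - z * Polynomial.X ^ d) hinjη
  rw [hexp, key', hroots hζ hn, Finset.prod_image fun i hi j hj h => hζ.pow_inj (Finset.mem_range.1 hi) (Finset.mem_range.1 hj) h]
  have hper : ∀ t, ∏ i ∈ Finset.range (t * m), (1 - Polynomial.C ((ζ ^ i) ^ d) * Polynomial.X ^ d) =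
      (∏ i ∈ Finset.range m, (1 - Polynomial.C (ζ ^ d) ^ i * Polynomial.X ^ d)) ^ t := by
    intro t
    induction t with
    | zero => simp
    | succ t ih =>
      rw [Nat.succ_mul, Finset.prod_range_add, ih, pow_succ]
      congr 1
      refine Finset.prod_congr rfl fun i _ => ?_
      rw [← Polynomial.C_pow, ← pow_mul ζ (t * m + i), mul_comm (t * m + i) d, pow_mul, pow_add, mul_comm t m,
        pow_mul, hη.pow_eq_one, one_pow, one_mul]
  rw [show Finset.range n = Finset.range (e * m) by rw [← hnm], hper]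

end Groth.Agent.S11043
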