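import Groth.Statements.S11045
import Groth.Agent.FunFld.Rational
-- import your own Groth.Agent.* helpers here

set_option autoImplicit false
open FunFld

namespace Groth.Agent.S11045

/-- Over an algebraically closed constant field, if `n ≥ 1` is a gap number at the place `P` (no
function has a pole of exact order `n` at `P` and no other pole, i.e. `L(nP) = L((n-1)P)`), then the
gap numbers at `P` make up at least half of the positive integers below `n`. -/
theorem result
    (k K : Type*) [Field k] [IsAlgClosed k] [Field K] [Algebra k K]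
    (hK : FunFld.IsFunctionField k K) (P : FunFld.Place k K) (n : ℕ) (hn : 1 ≤ n)
    (hgap : FunFld.L (Finsupp.single P (n : ℤ)) = FunFld.L (Finsupp.single P ((n : ℤ) - 1))) :
    n - 1 ≤ 2 * Set.ncard {m : ℕ | 1 ≤ m ∧ m < n ∧
      FunFld.L (Finsupp.single P (m : ℤ)) = FunFld.L (Finsupp.single P ((m : ℤ) - 1))} := by
  classical
  have hiff := FunFldLib.isPoleOrder_iff_L_ne hK P
  have hgap' : ¬ FunFldLib.IsPoleOrder P n := by rw [hiff]; exact fun h => h hgap
  have hc := FunFldLib.two_mul_count_le (S := {m | FunFldLib.IsPoleOrder P m}) hgap'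
    fun a b => FunFldLib.IsPoleOrder.add
  have h2 := Finset.card_filter_add_card_filter_not (s := Finset.Icc 1 (n - 1))
    (· ∈ {m | FunFldLib.IsPoleOrder P m})
  have heq : {m : ℕ | 1 ≤ m ∧ m < n ∧ FunFld.L (Finsupp.single P (m : ℤ)) =
      FunFld.L (Finsupp.single P ((m : ℤ) - 1))} =
      ↑((Finset.Icc 1 (n - 1)).filter (fun m => ¬ m ∈ {m | FunFldLib.IsPoleOrder P m})) := by
    ext m
    simp only [Finset.coe_filter, Finset.mem_Icc, Set.mem_ofPred_eq, hiff, not_not]
    constructor
    · rintro ⟨h1, h2, h3⟩; exact ⟨⟨h1, by omega⟩, h3⟩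
    · rintro ⟨⟨h1, h2⟩, h3⟩; exact ⟨h1, by omega, h3⟩
  rw [heq, Set.ncard_coe_finset]
  simp only [Nat.card_Icc] at h2
  omega

end Groth.Agent.S11045
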