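import Groth.Statements.S11047
import Groth.Agent.FunFld.Rational
-- import your own Groth.Agent.* helpers here

set_option autoImplicit false
open FunFld

namespace Groth.Agent.S11047

/-- Over an algebraically closed constant field, a `k`-automorphism of a function field of one variable
of genus `g` that fixes more than `2g + 2` places is the identity. -/
theorem result
    (k K : Type*) [Field k] [IsAlgClosed k] [Field K] [Algebra k K]
    (hK : FunFld.IsFunctionField k K) (σ : K ≃ₐ[k] K)
    (h : ((2 * FunFld.genus k K + 2 : ℕ) : ℕ∞) <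
      Set.encard {P : FunFld.Place k K | ∀ x : K, P.1 x < 1 → P.1 (σ x) < 1}) :
    σ = 1 := by
  classical
  set F := {P : FunFld.Place k K | ∀ x : K, P.1 x < 1 → P.1 (σ x) < 1}
  set g := FunFld.genus k K with hgdef
  let cm : FunFld.Place k K → (K ≃ₐ[k] K) → FunFld.Place k K := fun Q τ =>
    ⟨Q.1.comap τ.toAlgHom.toRingHom, fun c => by
      show Q.1 (τ (algebraMap k K c)) ≤ 1
      rw [τ.commutes]; exact Q.2.1 c, fun v => by
      obtain ⟨x, hx⟩ := Q.2.2 v
      exact ⟨τ.symm x, by show Q.1 (τ (τ.symm x)) = v; rw [τ.apply_symm_apply, hx]⟩⟩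
  have hcm : ∀ Q τ x, (cm Q τ).1 x = Q.1 (τ x) := fun _ _ _ => rfl
  have hfix : ∀ Q : FunFld.Place k K, cm Q σ = Q → Q ∈ F := fun Q hQ x hx => by
    rw [← hcm, hQ]; exact hx
  have hfix' : ∀ Q ∈ F, cm Q σ = Q := fun Q hQ => by
    refine (FunFldLib.place_ext fun x hx => ?_).symm
    rw [hcm]
    obtain ⟨c, hc⟩ := FunFldLib.exists_sub_const_val_lt_one hK Q (FunFldLib.deg_eq_one hK Q) hx
    have h1 := hQ _ hc
    rw [map_sub, σ.commutes] at h1
    have h2 := Q.1.map_add_le h1.le (Q.2.1 c)
    rwa [sub_add_cancel] at h2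
  -- a function fixed by more places than its possible degree is fixed by `σ`
  have key : ∀ (Q : FunFld.Place k K) (x : K) (n : ℕ), x ∈ FunFld.L (Finsupp.single Q (n : ℤ)) →
      ((2 * n : ℕ) : ℕ∞) < F.encard → Q ∉ F → σ x = x := by
    intro Q x n hx hn hQ
    by_contra hne
    have hz0 : σ x - x ≠ 0 := sub_ne_zero.2 hne
    set Q' := cm Q σ.symm
    have hzL : σ x - x ∈ FunFld.L (Finsupp.single Q (n : ℤ) + Finsupp.single Q' (n : ℤ)) := by
      intro R
      refine R.1.map_sub_le ?_ ?_
      · have h1 := hx (cm R σ)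
        rw [hcm] at h1
        refine h1.trans (WithZero.exp_le_exp.2 ?_)
        rw [Finsupp.add_apply]
        rcases eq_or_ne (cm R σ) Q with h2 | h2
        · have h3 : Q' = R := Subtype.ext (Valuation.ext fun y => by
            show (cm Q σ.symm).1 y = R.1 y
            rw [hcm, ← h2, hcm, σ.apply_symm_apply])
          rw [h2, h3, Finsupp.single_eq_same, Finsupp.single_eq_same]
          have : (0 : ℤ) ≤ (Finsupp.single Q (n : ℤ) : FunFld.Divisor k K) R := by
            rw [Finsupp.single_apply]; split_ifs <;> simp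
          omega
        · rw [Finsupp.single_eq_of_ne h2]
          rw [Finsupp.single_apply, Finsupp.single_apply]
          split_ifs <;> omega
      · refine (hx R).trans (WithZero.exp_le_exp.2 ?_)
        rw [Finsupp.add_apply]
        have : (0 : ℤ) ≤ (Finsupp.single Q' (n : ℤ) : FunFld.Divisor k K) R := by
          rw [Finsupp.single_apply]; split_ifs <;> simp
        omega
    obtain ⟨S, hSF, hS⟩ := Set.exists_subset_encard_eq (Order.add_one_le_of_lt hn)
    have hSfin : S.Finite := Set.finite_of_encard_eq_coe (k := 2 * n + 1) (by rw [hS]; push_cast; rfl)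
    let E : FunFld.Divisor k K := Finsupp.single Q (n : ℤ) + Finsupp.single Q' (n : ℤ) -
      ∑ R ∈ hSfin.toFinset, Finsupp.single R 1
    have hQ' : Q' ∉ F := fun h' => hQ (by
      have h1 := hfix' _ h'
      have h2 : Q = Q' := Subtype.ext (Valuation.ext fun y => by
        have := congrArg (fun R : FunFld.Place k K => R.1 y) h1
        simpa [Q', hcm] using this)
      rwa [h2])
    have hE : σ x - x ∈ FunFld.L E := by
      refine (FunFldLib.mem_L_iff hz0).2 fun R => ?_
      have h1 := (FunFldLib.mem_L_iff hz0).1 hzL R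
      simp only [E, Finsupp.sub_apply, Finsupp.finsetSum_apply, Finsupp.add_apply] at h1 ⊢
      simp only [Finsupp.single_apply] at h1 ⊢
      rw [Finset.sum_ite_eq']
      by_cases hR : R ∈ hSfin.toFinset
      · rw [if_pos hR]
        have hRF : R ∈ F := hSF (hSfin.mem_toFinset.1 hR)
        rw [if_neg (fun h' : Q = R => hQ (h' ▸ hRF)), if_neg (fun h' : Q' = R => hQ' (h' ▸ hRF))] at h1 ⊢
        -- `σ x - x` vanishes at `R`
        have hxR : R.1 x ≤ 1 := by
          have h2 := hx R
          rwa [Finsupp.single_eq_of_ne (fun h' : R = Q => hQ (h' ▸ hRF)), WithZero.exp_zero] at h2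
        obtain ⟨c, hc⟩ := FunFldLib.exists_sub_const_val_lt_one hK R (FunFldLib.deg_eq_one hK R) hxR
        have hlt : R.1 (σ x - x) < 1 := by
          have h2 : σ x - x = σ (x - algebraMap k K c) - (x - algebraMap k K c) := by
            rw [map_sub, σ.commutes]; ring
          rw [h2]
          exact R.1.map_sub_lt (hRF _ hc) hc
        have := (FunFldLib.val_lt_one_iff R hz0).1 hlt
        omega
      · rw [if_neg hR]; omega
    have hdeg : E.deg < 0 := by
      have hcard : hSfin.toFinset.card = 2 * n + 1 := by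
        have h1 := hSfin.encard_eq_coe_toFinset_card
        rw [hS] at h1
        exact_mod_cast h1.symm
      simp only [E, FunFldLib.deg_sub, FunFldLib.deg_add, FunFldLib.deg_eq_degHom_sum, map_sum,
        Finsupp.liftAddHom_apply_single, AddMonoidHom.mulRight_apply, FunFldLib.deg_eq_one hK,
        Nat.cast_one, mul_one, map_sub, map_add]
      simp [hcard]
      omega
    rw [FunFldLib.L_eq_bot_of_deg_neg hK hdeg] at hE
    exact hz0 ((Submodule.mem_bot k).1 hE)
  -- hence every place is fixed
  have hall : ∀ Q, Q ∈ F := by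
    intro Q
    by_contra hQ
    have hQ1 := FunFldLib.deg_eq_one hK Q
    have h1 := FunFldLib.delta_le_genus hK (Finsupp.single Q ((g + 1 : ℕ) : ℤ))
    simp only [FunFldLib.delta, FunFldLib.deg_single, hQ1] at h1
    obtain ⟨x, hx, hxt⟩ := FunFldLib.exists_transcendental_mem_L hK
      (D := Finsupp.single Q ((g + 1 : ℕ) : ℤ)) (by omega)
    have hsx := key Q x (g + 1) hx (by
      refine lt_of_eq_of_lt ?_ h
      norm_num [hgdef]; ring) hQ
    obtain ⟨-, R, hR⟩ := FunFldLib.exists_zero_pole hK (x := x) (fun ⟨c, hc⟩ => hxt (hc ▸ isAlgebraic_algebraMap c))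
    have hx0 : x ≠ 0 := by rintro rfl; exact hxt isAlgebraic_zero
    have hpole : ∀ R : FunFld.Place k K, R.ord x < 0 → R = Q := fun R hR => by
      by_contra hne
      have := (FunFldLib.mem_L_iff hx0).1 hx R
      rw [Finsupp.single_eq_of_ne hne] at this
      omega
    refine hQ (hfix Q (hpole _ ?_))
    have hQx : Q.ord x < 0 := hpole R hR ▸ hR
    show -WithZero.log ((cm Q σ).1 x) < 0
    rw [hcm, hsx]
    exact hQx
  -- so `σ x - x` vanishes almost everywhere
  refine AlgEquiv.ext fun x => ?_
  by_contra hne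
  have hz0 : σ x - x ≠ 0 := sub_ne_zero.2 hne
  obtain ⟨⟨t, ht, -⟩, -⟩ := id hK
  have hzero : ∀ c : k, ∃ P : FunFld.Place k K, 0 < P.ord (t - algebraMap k K c) := fun c =>
    (FunFldLib.exists_zero_pole hK (fun ⟨d, hd⟩ => ht (by
      rw [show t = algebraMap k K (d + c) by rw [map_add, hd, sub_add_cancel]]
      exact isAlgebraic_algebraMap _))).1
  choose R hR using hzero
  have hinj : Function.Injective R := by
    intro c d hcd
    have h1 := hR c
    have h2 := hR d
    rw [← hcd] at h2
    have hne' : ∀ c, t - algebraMap k K c ≠ 0 := fun c h' => ht (sub_eq_zero.1 h' ▸ isAlgebraic_algebraMap c)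
    exact FunFldLib.sub_const_unique ((FunFldLib.val_lt_one_iff _ (hne' c)).2 h1)
      ((FunFldLib.val_lt_one_iff _ (hne' d)).2 h2)
  refine Set.infinite_univ (α := FunFld.Place k K) (h := Infinite.of_injective R hinj) ?_
  refine ((FunFldLib.finite_support_ord hK (σ x - x)).union (FunFldLib.finite_not_integral hK x)).subset
    fun P _ => ?_
  by_cases hxP : P.1 x ≤ 1
  · refine Or.inl ?_
    obtain ⟨c, hc⟩ := FunFldLib.exists_sub_const_val_lt_one hK P (FunFldLib.deg_eq_one hK P) hxP
    have h2 : σ x - x = σ (x - algebraMap k K c) - (x - algebraMap k K c) := by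
      rw [map_sub, σ.commutes]; ring
    have hlt : P.1 (σ x - x) < 1 := by rw [h2]; exact P.1.map_sub_lt (hall P _ hc) hc
    exact ((FunFldLib.val_lt_one_iff P hz0).1 hlt).ne'
  · exact Or.inr hxP

end Groth.Agent.S11047
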