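import Groth.Statements.S11049
import Mathlib
-- import your own Groth.Agent.* helpers here

set_option autoImplicit false
open CAlg

namespace Groth.Agent.S11049

/-- For `k`-algebras `S ⊆ R` with `R` an integral domain and a nonzero `x ∈ S`, if `R/S` and `R/Rx` are
finite-dimensional over `k` then `dim_k R/Rx = dim_k S/Sx`. (The published statement allows `x = 0`;
then `R` is a field finite over `k` and the two sides are `dim_k R` and `dim_k S`, which differ for
`S = k ⊊ R`; the published proof multiplies by `x` as an injection, so `x ≠ 0` is assumed here.) -/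
theorem result
    (k R : Type*) [Field k] [CommRing R]
    [IsDomain R] [Algebra k R] (S : Subalgebra k R) (x : S) (hx : (x : R) ≠ 0)
    [Module.Finite k (R ⧸ Subalgebra.toSubmodule S)]
    [Module.Finite k (R ⧸ Ideal.span {(x : R)})] :
    Module.finrank k (R ⧸ Ideal.span {(x : R)}) = Module.finrank k (S ⧸ Ideal.span {x}) := by
  classical
  let S0 : Submodule k R := Subalgebra.toSubmodule S
  let μ : R →ₗ[k] R := LinearMap.mulLeft k (x : R)
  let P : Submodule k R := S0.map μ
  have hPS : P ≤ S0 := by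
    rintro _ ⟨s, hs, rfl⟩
    exact S.mul_mem x.2 hs
  let xR : Submodule k R := (Ideal.span {(x : R)}).restrictScalars k
  have hPR : P ≤ xR := by
    rintro _ ⟨s, hs, rfl⟩
    exact Ideal.mul_mem_right _ _ (Ideal.mem_span_singleton_self _)
  haveI : Module.Finite k (R ⧸ S0) := ‹Module.Finite k (R ⧸ Subalgebra.toSubmodule S)›
  let eR : (R ⧸ xR) ≃ₗ[k] R ⧸ Ideal.span {(x : R)} := Submodule.Quotient.restrictScalarsEquiv k _
  haveI : Module.Finite k (R ⧸ xR) := Module.Finite.equiv eR.symm
  let f : (R ⧸ S0) →ₗ[k] R ⧸ P := S0.mapQ P μ fun s hs => Submodule.mem_map_of_mem hs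
  let g : (R ⧸ P) →ₗ[k] R ⧸ xR := P.factor hPR
  have hf : Function.Injective f := by
    rw [← LinearMap.ker_eq_bot, eq_bot_iff]
    intro z hz
    obtain ⟨z, rfl⟩ := Submodule.Quotient.mk_surjective _ z
    obtain ⟨s, hs, hsz⟩ := (Submodule.Quotient.mk_eq_zero _).1 (LinearMap.mem_ker.1 hz)
    rw [Submodule.mem_bot, Submodule.Quotient.mk_eq_zero, ← mul_left_cancel₀ hx hsz]
    exact hs
  have hg : LinearMap.ker g = LinearMap.range f := by
    refine le_antisymm (fun z hz => ?_) ?_
    · obtain ⟨z, rfl⟩ := Submodule.Quotient.mk_surjective _ z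
      obtain ⟨r, hr⟩ := Ideal.mem_span_singleton'.1 ((Submodule.Quotient.mk_eq_zero xR).1 (LinearMap.mem_ker.1 hz))
      exact ⟨Submodule.Quotient.mk r, congrArg Submodule.Quotient.mk ((mul_comm _ r).trans hr)⟩
    · rintro _ ⟨z, rfl⟩
      obtain ⟨z, rfl⟩ := Submodule.Quotient.mk_surjective _ z
      exact (Submodule.Quotient.mk_eq_zero xR).2 (Ideal.mul_mem_right _ _ (Ideal.mem_span_singleton_self _))
  haveI : Module.Finite k (R ⧸ P) := by
    haveI : Module.Finite k (LinearMap.ker g) := hg ▸ inferInstance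
    haveI : Module.Finite k ((R ⧸ P) ⧸ LinearMap.ker g) := Module.Finite.equiv (g.quotKerEquivRange).symm
    exact Module.Finite.of_submodule_quotient (LinearMap.ker g)
  have h1 : Module.finrank k (R ⧸ P) = Module.finrank k (R ⧸ S0) + Module.finrank k (R ⧸ xR) := by
    rw [← LinearMap.finrank_range_add_finrank_ker g, hg, LinearMap.finrank_range_of_inj hf,
      LinearMap.range_eq_top.2 (Submodule.factor_surjective hPR), finrank_top, add_comm]
  let h : S →ₗ[k] R ⧸ P := P.mkQ ∘ₗ S.val.toLinearMap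
  have hker : LinearMap.ker h = (Ideal.span {x}).restrictScalars k := by
    ext s
    rw [LinearMap.mem_ker, Submodule.restrictScalars_mem, Ideal.mem_span_singleton']
    refine (Submodule.Quotient.mk_eq_zero _).trans ⟨?_, ?_⟩
    · rintro ⟨r, hr, hrs⟩
      exact ⟨⟨r, hr⟩, Subtype.ext ((mul_comm _ _).trans hrs)⟩
    · rintro ⟨r, rfl⟩
      exact ⟨r, r.2, mul_comm _ _⟩
  let eS : (S ⧸ Ideal.span {x}) ≃ₗ[k] LinearMap.range h :=
    ((Submodule.Quotient.restrictScalarsEquiv k (Ideal.span {x})).symm.trans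
      (Submodule.quotEquivOfEq _ _ hker.symm)).trans h.quotKerEquivRange
  have h2 : LinearMap.ker (P.factor hPS) = LinearMap.range h := by
    refine le_antisymm (fun z hz => ?_) ?_
    · obtain ⟨z, rfl⟩ := Submodule.Quotient.mk_surjective _ z
      exact ⟨⟨z, (Submodule.Quotient.mk_eq_zero S0).1 (LinearMap.mem_ker.1 hz)⟩, rfl⟩
    · rintro _ ⟨z, rfl⟩
      exact (Submodule.Quotient.mk_eq_zero S0).2 z.2
  have h3 := LinearMap.finrank_range_add_finrank_ker (P.factor hPS)
  rw [h2, ← eS.finrank_eq, LinearMap.range_eq_top.2 (Submodule.factor_surjective hPS), finrank_top, h1] at h3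
  rw [← eR.finrank_eq]
  omega

end Groth.Agent.S11049
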