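import Groth.Statements.S11052
import Groth.Agent.FunFld.Over
-- import your own Groth.Agent.* helpers here

set_option autoImplicit false
open FunFld

namespace Groth.Agent.S11052

/-- Over an algebraically closed constant field, for a `k`-embedding `τ` of the function field `K` into
itself and a projective map `φ = (φ₀, …, φₙ)` (a linearly independent tuple), the degree of the map
`τ(φ)` is `deg τ · deg φ`, where `deg τ = [K : τ(K)]`. -/
theorem result
    (k K : Type*) [Field k] [IsAlgClosed k] [Field K] [Algebra k K]
    (hK : FunFld.IsFunctionField k K) (τ : K →ₐ[k] K) {n : ℕ}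
    (φ : Fin (n + 1) → K) (hφ : LinearIndependent k φ) :
    (FunFld.mapDiv k (τ ∘ φ)).deg =
      Module.finrank τ.fieldRange K * (FunFld.mapDiv k φ).deg := by
  obtain ⟨x, hx, hfin⟩ := hK.1
  have hτx : Transcendental k (τ x) := fun h => hx ((isAlgebraic_algHom_iff τ τ.injective).1 h)
  haveI := FunFldLib.finiteDimensional_adjoin hK hτx
  have hle : IntermediateField.adjoin k ({τ x} : Set K) ≤ τ.fieldRange :=
    IntermediateField.adjoin_le_iff.2 (Set.singleton_subset_iff.2 ⟨x, rfl⟩)
  letI := (IntermediateField.inclusion hle).toRingHom.toAlgebra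
  haveI : IsScalarTower (IntermediateField.adjoin k ({τ x} : Set K)) τ.fieldRange K :=
    IsScalarTower.of_algebraMap_eq' rfl
  haveI : FiniteDimensional τ.fieldRange K :=
    Module.Finite.of_restrictScalars_finite (IntermediateField.adjoin k ({τ x} : Set K)) _ _
  exact FunFldLib.deg_mapDiv_algHom hK τ φ fun i => hφ.ne_zero i

end Groth.Agent.S11052
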