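import Groth.Statements.S12604
import Groth.Agent.FunFld.WDegree
-- import your own Groth.Agent.* helpers here

set_option autoImplicit false
open FunFld

namespace Groth.Agent.S12604

/-- Over an algebraically closed constant field, let `τ` be a `k`-endomorphism of the function field `K`
of genus `g`, of degree `deg τ = [K : τ(K)]`, and `φ = (φ₀, …, φₙ)` a projective map such that
`τ(φ)` is not a `K`-multiple of `φ`, with `τ`-orders `j₁, …, jₙ`. Then the number `N` of strong
fixed points of `τ` (places whose maximal ideal `τ` maps into its square) is finite and `n N ≤ (n +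
deg τ) deg φ + (2g - 2)(j₁ + ⋯ + jₙ)`, i.e. `N ≤ (1/n) deg W(φ, τ)`. -/
theorem result
    (k K : Type*) [Field k] [IsAlgClosed k] [Field K] [Algebra k K]
    (hK : FunFld.IsFunctionField k K) (τ : K →ₐ[k] K) {n : ℕ} (φ : Fin (n + 1) → K) (hφ : LinearIndependent k φ)
    (hτφ : ¬ ∃ y : K, ∀ i, τ (φ i) = y * φ i) (s : K) (H : K →ₐ[k] PowerSeries K) (hH : LocRes.IsHasseFamily s H)
    (J : Fin n → ℕ) (hJ : FunFld.IsOrders K (FunFld.hcol τ H φ) J) :
    {P : FunFld.Place k K | FunFld.IsStrongFixedPt τ P}.Finite ∧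
    (n : ℤ) * (Set.ncard {P : FunFld.Place k K | FunFld.IsStrongFixedPt τ P} : ℤ) ≤
      ((n : ℤ) + Module.finrank τ.fieldRange K) * (FunFld.mapDiv k φ).deg +
        (2 * (FunFld.genus k K : ℤ) - 2) * ∑ l, (J l : ℤ) := by
  classical
  choose π hπ using fun P : FunFld.Place k K => FunFldLib.exists_val_eq P (-1)
  let e := fun P : FunFld.Place k K => (FunFldLib.exists_paramExp hK (hπ P)).some
  have hΦ : ∀ P : FunFld.Place k K, LocRes.IsExpansionAt P.1 ((e P).φ) := fun P => (e P).isExp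
  set W := FunFld.wDiv τ H (fun P => (e P).φ) s φ J
  have hW : 0 ≤ W := FunFldLib.wDiv_nonneg hK τ hφ hH hJ hΦ
  have hge : ∀ P, FunFld.IsStrongFixedPt τ P → (n : ℤ) ≤ W P := fun P hP =>
    FunFldLib.n_le_wDiv_strong hK τ hφ hH hJ hΦ hτφ hP
  have hn : 0 < n := Nat.pos_of_ne_zero fun h => by
    subst h
    exact hτφ ⟨τ (φ 0) / φ 0, fun i => by rw [Fin.eq_zero i, div_mul_cancel₀ _ (hφ.ne_zero 0)]⟩
  have hsub : {P : FunFld.Place k K | FunFld.IsStrongFixedPt τ P} ⊆ W.support := fun P hP => by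
    have := hge P hP
    simp only [Finset.mem_coe, Finsupp.mem_support_iff]
    omega
  have hfin := W.support.finite_toSet.subset hsub
  refine ⟨hfin, ?_⟩
  rw [add_comm (n : ℤ), ← FunFldLib.deg_wDiv hK τ hφ J hH hΦ, Set.ncard_eq_toFinset_card _ hfin]
  refine le_trans ?_ (show ∑ P ∈ hfin.toFinset, W P ≤ W.deg from ?_)
  · refine le_trans (le_of_eq ?_) (Finset.card_nsmul_le_sum _ _ _ fun P hP => hge P (hfin.mem_toFinset.1 hP))
    rw [nsmul_eq_mul, mul_comm]
  · rw [FunFld.Divisor.deg, Finsupp.sum,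
      Finset.sum_congr rfl fun P _ => show W P * (P.deg : ℤ) = W P by
        rw [FunFldLib.deg_eq_one hK P, Nat.cast_one, mul_one]]
    exact Finset.sum_le_sum_of_subset_of_nonneg (fun P hP => hsub (hfin.mem_toFinset.1 hP))
      (fun P _ _ => hW P)

end Groth.Agent.S12604
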