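import Groth.Statements.S11053
import Groth.Agent.FunFld.WDegree
import Groth.Agent.S12604
import Groth.Agent.FunFld.VeryAmple
-- import your own Groth.Agent.* helpers here

set_option autoImplicit false
open FunFld

namespace Groth.Agent.S11053

/-- Over an algebraically closed constant field, let `τ` be a `k`-embedding of the function field `K` of
genus `g` into itself, of degree `deg τ = [K : τ(K)]`. A place is a strong fixed point of `τ` when
`τ` maps its maximal ideal into the square of that ideal. For every integer `n > g` there are at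
most `1 + deg τ + (n + deg τ / n) g + 2g²(g-1)/n` strong fixed points. -/
theorem result
    (k K : Type*) [Field k] [IsAlgClosed k] [Field K] [Algebra k K]
    (hK : FunFld.IsFunctionField k K) (τ : K →ₐ[k] K) (n : ℕ)
    (hn : FunFld.genus k K < n) :
    {P : FunFld.Place k K | ∀ x : K, P.1 x < 1 → P.1 (τ x) ≤ WithZero.exp (-2)}.Finite ∧
    (Set.ncard {P : FunFld.Place k K | ∀ x : K, P.1 x < 1 → P.1 (τ x) ≤ WithZero.exp (-2)} : ℝ) ≤
      1 + Module.finrank τ.fieldRange K +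
        (n + (Module.finrank τ.fieldRange K : ℝ) / n) * FunFld.genus k K +
        2 * (FunFld.genus k K : ℝ) ^ 2 * (FunFld.genus k K - 1) / n := by
  classical
  set g := FunFld.genus k K with hgdef
  set d := Module.finrank τ.fieldRange K with hddef
  set S := {P : FunFld.Place k K | ∀ x : K, P.1 x < 1 → P.1 (τ x) ≤ WithZero.exp (-2)} with hSdef
  by_cases hid : τ = AlgHom.id k K
  · have hS : S = ∅ := Set.eq_empty_of_forall_notMem fun P hP => by
      obtain ⟨t, ht⟩ := FunFldLib.exists_val_eq P (-1)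
      have h := hP t (by rw [ht, ← WithZero.exp_zero, WithZero.exp_lt_exp]; omega)
      rw [hid, AlgHom.id_apply, ht, WithZero.exp_le_exp] at h
      omega
    rw [hS]
    refine ⟨Set.finite_empty, ?_⟩
    rw [Set.ncard_empty, Nat.cast_zero]
    have hg1 : (0 : ℝ) ≤ 2 * (g : ℝ) ^ 2 * ((g : ℝ) - 1) := by
      rcases Nat.eq_zero_or_pos g with h | h
      · simp [h]
      · have : (1 : ℝ) ≤ g := by exact_mod_cast h
        exact mul_nonneg (by positivity) (by linarith)
    have : (0 : ℝ) ≤ 2 * (g : ℝ) ^ 2 * ((g : ℝ) - 1) / n := div_nonneg hg1 (Nat.cast_nonneg n)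
    positivity
  obtain ⟨P₀⟩ := FunFldLib.exists_place hK
  set D : FunFld.Divisor k K := Finsupp.single P₀ ((n : ℤ) + g) with hDdef
  have hDdeg : D.deg = (n : ℤ) + g := by
    rw [hDdef, FunFldLib.deg_single, FunFldLib.deg_eq_one hK]; simp
  have hell := FunFldLib.ell_eq_of_deg_ge hK (D := D) (by rw [hDdeg]; omega)
  rw [hDdeg] at hell
  obtain ⟨φ, hli, hspan, hmap, hmapdiv⟩ := FunFldLib.exists_basis_map hK (D := D) (n := n) (by omega)
    (by rw [hDdeg]; omega)
  have hbir := FunFldLib.adjoin_ratios_eq_top hK hli hspan hmap (by rw [hDdeg]; omega)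
  have hτφ : ¬ ∃ y : K, ∀ i, τ (φ i) = y * φ i := fun ⟨y, hy⟩ =>
    hid (FunFldLib.eq_id_of_smul_eq (hli.ne_zero 0) hbir τ hy)
  obtain ⟨t₀, ht₀⟩ := FunFldLib.exists_val_eq P₀ (-1)
  obtain ⟨H, hH⟩ := FunFldLib.exists_hasse_param hK ht₀
  obtain ⟨J, hJ⟩ := FunFldLib.exists_orders τ hK hH hli
  obtain ⟨hfin, hbound⟩ := Groth.Agent.S12604.result k K hK τ φ hli hτφ t₀ H hH J hJ
  refine ⟨hfin, ?_⟩
  change (Set.ncard S : ℝ) ≤ _
  rcases S.eq_empty_or_nonempty with hS | ⟨P, hP⟩
  · rw [hS, Set.ncard_empty, Nat.cast_zero]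
    have hg1 : (0 : ℝ) ≤ 2 * (g : ℝ) ^ 2 * ((g : ℝ) - 1) := by
      rcases Nat.eq_zero_or_pos g with h | h
      · simp [h]
      · have : (1 : ℝ) ≤ g := by exact_mod_cast h
        exact mul_nonneg (by positivity) (by linarith)
    have : (0 : ℝ) ≤ 2 * (g : ℝ) ^ 2 * ((g : ℝ) - 1) / n := div_nonneg hg1 (Nat.cast_nonneg n)
    positivity
  -- the orders at a strong fixed point
  choose π hπ using fun Q : FunFld.Place k K => FunFldLib.exists_val_eq Q (-1)
  let Φ := fun Q : FunFld.Place k K => (FunFldLib.exists_paramExp hK (hπ Q)).some.φ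
  have hΦ : ∀ Q : FunFld.Place k K, LocRes.IsExpansionAt Q.1 (Φ Q) := fun Q =>
    (FunFldLib.exists_paramExp hK (hπ Q)).some.isExp
  obtain ⟨t, ht⟩ := FunFldLib.exists_val_eq P (-1)
  obtain ⟨Ht, hHt⟩ := FunFldLib.exists_hasse_param hK ht
  obtain ⟨e⟩ := FunFldLib.exists_paramExp hK ht
  obtain ⟨y, hy, hliy, h1, hint, hJy, -⟩ := FunFldLib.exists_normalized hK τ hli hH hJ hΦ P hHt
  obtain ⟨J', hJ'⟩ := FunFldLib.exists_orders_at hK hliy hint h1 ht hHt
  have hn0 : 0 < n := by omega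
  have hτψ : ¬ ∃ z : K, ∀ i, τ ((y • φ) i) = z * (y • φ) i := fun ⟨z, hz⟩ => hτφ ⟨z * y / τ y, fun i => by
    have := hz i
    simp only [Pi.smul_apply, smul_eq_mul, map_mul] at this
    field_simp [(map_ne_zero τ).2 hy]
    linear_combination this⟩
  have hle := Groth.Agent.S12606.result k K hK τ P hP hn0 _ hliy h1 hint hτψ t ht Ht hHt J hJy J' hJ'
  have hpos := FunFldLib.orders_at_pos e hK ht hHt hint hJ' ⟨0, hn0⟩
  have hmon : ∀ (f : Fin n → ℕ), StrictMono f → ∀ (a : ℕ) (ha : a < n) (l : Fin n), a ≤ l →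
      f ⟨a, ha⟩ + ((l : ℕ) - a) ≤ f l := fun f hf a ha l hal => by
    obtain ⟨l, hl⟩ := l
    simp only at hal ⊢
    induction l, hal using Nat.le_induction with
    | base => simp
    | succ m hm ih =>
      have h' := hf (show (⟨m, by omega⟩ : Fin n) < ⟨m + 1, hl⟩ from Nat.lt_succ_self m)
      have := ih (by omega)
      omega
  -- membership in the span of the normalised tuple
  have hspany : ∀ f : K, f ∈ Submodule.span k (Set.range (y • φ)) ↔ y⁻¹ * f ∈ FunFld.L D := fun f => by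
    rw [← hspan, Submodule.mem_span_range_iff_exists_fun, Submodule.mem_span_range_iff_exists_fun]
    refine exists_congr fun a => ?_
    have h2 : ∑ i, a i • (y • φ) i = y * ∑ i, a i • φ i := by
      rw [Finset.mul_sum]; exact Finset.sum_congr rfl fun i _ => (mul_smul_comm _ _ _).symm
    rw [h2]
    exact ⟨fun h => by rw [← h, inv_mul_cancel_left₀ hy], fun h => by rw [h, mul_inv_cancel_left₀ hy]⟩
  have hDy : ∀ f : K, f ≠ 0 → f ∈ Submodule.span k (Set.range (y • φ)) →
      f ∈ FunFld.L (D + FunFld.div k y⁻¹) := fun f hf hmem =>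
    (FunFldLib.mul_mem_L_iff hK D f (inv_ne_zero hy)).1 ((hspany f).1 hmem)
  set E := D + FunFld.div k y⁻¹ with hE
  have hEdeg : E.deg = (n : ℤ) + g := by rw [hE, FunFldLib.deg_add, FunFldLib.deg_div hK, hDdeg, add_zero]
  have hEP : E P = 0 := by
    rw [hE, Finsupp.add_apply, FunFldLib.div_apply hK, ← hmapdiv, FunFldLib.ord_inv, ← sub_eq_add_neg,
      ← FunFldLib.mapDiv_smul hK hli.ne_zero hy P, FunFldLib.mapDiv_eq_zero_of_unit hK hint h1]
  have hupper : ∀ l, J' l ≤ n + g := fun l => by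
    obtain ⟨f, hf, hv⟩ := (FunFldLib.mem_orders_at_iff e hK ht hHt hint hJ' h1 (J' l)).1 (Or.inr ⟨l, rfl⟩)
    have hf0 := FunFldLib.ne_zero_of_val P hv
    have hfL := hDy f hf0 hf
    have hfL' : f ∈ FunFld.L (E - Finsupp.single P (J' l : ℤ)) := (FunFldLib.mem_L_iff hf0).2 fun Q => by
      rw [Finsupp.sub_apply]
      rcases eq_or_ne Q P with rfl | hQ
      · rw [Finsupp.single_eq_same, hEP, FunFldLib.ord_eq_of_val Q hv]; omega
      · rw [Finsupp.single_eq_of_ne hQ, sub_zero]; exact (FunFldLib.mem_L_iff hf0).1 hfL Q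
    by_contra hbig
    rw [FunFldLib.L_eq_bot_of_deg_neg hK (by
      rw [FunFldLib.deg_sub, FunFldLib.deg_single, hEdeg, FunFldLib.deg_eq_one hK P]; omega),
      Submodule.mem_bot] at hfL'
    exact hf0 hfL'
  have hgap : ∀ j : ℕ, 0 < j → j + g ≤ n → j ∈ Set.range J' := fun j hj hjn => by
    have hd1 : (E - Finsupp.single P (j : ℤ)).deg = (n : ℤ) + g - j := by
      rw [FunFldLib.deg_sub, FunFldLib.deg_single, hEdeg, FunFldLib.deg_eq_one hK P]; simp
    have hd2 : (E - Finsupp.single P (j : ℤ) - Finsupp.single P 1).deg = (n : ℤ) + g - j - 1 := by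
      rw [FunFldLib.deg_sub, hd1, FunFldLib.deg_single, FunFldLib.deg_eq_one hK P]; simp
    have h2 := FunFldLib.ell_eq_of_deg_ge hK (D := E - Finsupp.single P (j : ℤ)) (by rw [hd1]; omega)
    have h3 := FunFldLib.ell_eq_of_deg_ge hK (D := E - Finsupp.single P (j : ℤ) - Finsupp.single P 1)
      (by rw [hd2]; omega)
    rw [hd1] at h2
    rw [hd2] at h3
    obtain ⟨f, hf, hf0, hford⟩ := FunFldLib.exists_mem_L_ord_eq hK (D := E - Finsupp.single P (j : ℤ)) (P := P)
      (by omega)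
    rw [Finsupp.sub_apply, Finsupp.single_eq_same, hEP] at hford
    have hmem : f ∈ Submodule.span k (Set.range (y • φ)) := (hspany f).2
      ((FunFldLib.mul_mem_L_iff hK D f (inv_ne_zero hy)).2
        (FunFldLib.L_mono (sub_le_self _ (Finsupp.single_nonneg.2 (Int.natCast_nonneg j))) hf))
    exact ((FunFldLib.mem_orders_at_iff e hK ht hHt hint hJ' h1 j).2
      ⟨f, hmem, by rw [FunFldLib.val_eq_exp P hf0, hford]; congr 1; omega⟩).resolve_left hj.ne'
  have hJub : ∀ l : Fin n, J l ≤ if (l : ℕ) + g < n then (l : ℕ) else (l : ℕ) + g := fun l => by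
    have h4 := hle l
    split_ifs with hl
    · have : J' l ≤ (l : ℕ) + 1 := by
        by_contra hbig
        -- the first orders are all the small numbers
        have hsub : Finset.Icc 1 ((l : ℕ) + 1) ⊆ (Finset.Iio l).image J' := fun j hj => by
          obtain ⟨hj1, hj2⟩ := Finset.mem_Icc.1 hj
          obtain ⟨q, rfl⟩ := hgap j hj1 (by omega)
          refine Finset.mem_image.2 ⟨q, Finset.mem_Iio.2 ?_, rfl⟩
          by_contra hql
          have := hJ'.1.monotone (not_lt.1 hql)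
          omega
        have := Finset.card_le_card hsub
        rw [Nat.card_Icc, Finset.card_image_of_injective _ hJ'.1.injective, Fin.card_Iio] at this
        omega
      omega
    · have hh := hmon J' hJ'.1 l l.2 ⟨n - 1, by omega⟩ (show (l : ℕ) ≤ n - 1 by omega)
      have := hupper ⟨n - 1, by omega⟩
      simp only [Fin.eta] at hh
      omega
  have hJlb : ∀ l : Fin n, (l : ℕ) ≤ J l := fun l => by
    have := hmon J hJ.1 0 hn0 l (Nat.zero_le _)
    omega
  have hcard : (Finset.univ.filter fun l : Fin n => ¬ ((l : ℕ) + g < n)).card = g := by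
    rw [← Finset.card_image_of_injective _ Fin.val_injective,
      show (Finset.univ.filter fun l : Fin n => ¬ ((l : ℕ) + g < n)).image Fin.val = Finset.Ico (n - g) n from ?_,
      Nat.card_Ico]
    · omega
    · ext x
      simp only [Finset.mem_image, Finset.mem_filter, Finset.mem_univ, true_and, Finset.mem_Ico]
      exact ⟨fun ⟨l, hl, hx⟩ => by have := l.2; omega, fun hx => ⟨⟨x, hx.2⟩, by simp only; omega, rfl⟩⟩
  have hsumub : ∑ l, (J l : ℤ) ≤ ∑ l : Fin n, ((l : ℕ) : ℤ) + (g : ℤ) * g := by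
    refine (Finset.sum_le_sum fun l (_ : l ∈ Finset.univ) => show (J l : ℤ) ≤
      ((l : ℕ) : ℤ) + if ¬ ((l : ℕ) + g < n) then (g : ℤ) else 0 from ?_).trans ?_
    · have hb := hJub l
      by_cases hl : (l : ℕ) + g < n
      · rw [if_neg (not_not.2 hl)]; rw [if_pos hl] at hb; omega
      · rw [if_pos hl]; rw [if_neg hl] at hb; omega
    · rw [Finset.sum_add_distrib, ← Finset.sum_filter, Finset.sum_const, hcard, nsmul_eq_mul]
  have hsumlb : ∑ l : Fin n, ((l : ℕ) : ℤ) ≤ ∑ l, (J l : ℤ) :=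
    Finset.sum_le_sum fun l _ => by exact_mod_cast hJlb l
  have hgauss : (∑ l : Fin n, ((l : ℕ) : ℤ)) * 2 = (n : ℤ) * (n - 1) := by
    rw [Fin.sum_univ_eq_sum_range fun i => (i : ℤ), ← Nat.cast_sum, ← Nat.cast_two, ← Nat.cast_mul,
      Finset.sum_range_id_mul_two, Nat.cast_mul, Nat.cast_sub (show 1 ≤ n by omega)]
    simp
  rw [hmapdiv, hDdeg] at hbound
  have hkey : (2 * (g : ℤ) - 2) * ∑ l, (J l : ℤ) ≤
      ((g : ℤ) - 1) * (n * (n - 1)) + 2 * (g : ℤ) ^ 2 * (g - 1) := by
    rcases Nat.eq_zero_or_pos g with h | h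
    · rw [h, Nat.cast_zero]; nlinarith
    · nlinarith
  have hmain : (n : ℤ) * (Set.ncard S : ℤ) ≤ (n : ℤ) + n * d + ((n : ℤ) ^ 2 + d) * g + 2 * (g : ℤ) ^ 2 * (g - 1) := by
    refine hbound.trans ?_
    nlinarith
  have hmainR : (n : ℝ) * (Set.ncard S : ℝ) ≤ (n : ℝ) + n * d + ((n : ℝ) ^ 2 + d) * g + 2 * (g : ℝ) ^ 2 * (g - 1) := by
    have h5 : (((n : ℤ) * (Set.ncard S : ℤ) : ℤ) : ℝ) ≤
        (((n : ℤ) + n * d + ((n : ℤ) ^ 2 + d) * g + 2 * (g : ℤ) ^ 2 * (g - 1) : ℤ) : ℝ) := Int.cast_le.2 hmain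
    push_cast at h5
    exact h5
  have hnR : (0 : ℝ) < n := by exact_mod_cast hn0
  rw [show 1 + (d : ℝ) + ((n : ℝ) + (d : ℝ) / n) * g + 2 * (g : ℝ) ^ 2 * (g - 1) / n =
    ((n : ℝ) + n * d + ((n : ℝ) ^ 2 + d) * g + 2 * (g : ℝ) ^ 2 * (g - 1)) / n by field_simp, le_div_iff₀ hnR]
  linarith

end Groth.Agent.S11053
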