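import Groth.Statements.S11054
import Groth.Agent.FunFld.Embedding
-- import your own Groth.Agent.* helpers here

set_option autoImplicit false
open FunFld

namespace Groth.Agent.S11054

/-- Over an algebraically closed constant field, a function field `K = k(x, y)` of genus `g` with plane
model `(1 : x : y)` of degree `d` has `g ≤ (d - 1)(d - 2)/2`. -/
theorem result
    (k K : Type*) [Field k] [IsAlgClosed k] [Field K] [Algebra k K]
    (hK : FunFld.IsFunctionField k K) (x y : K)
    (hxy : IntermediateField.adjoin k ({x, y} : Set K) = ⊤) :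
    2 * (FunFld.genus k K : ℤ) ≤
      ((FunFld.mapDiv k ![(1 : K), x, y]).deg - 1) *
        ((FunFld.mapDiv k ![(1 : K), x, y]).deg - 2) := by
  classical
  set φ : Fin 3 → K := ![(1 : K), x, y] with hφdef
  set E := FunFld.mapDiv k φ with hEdef
  -- the divisor of the map
  have hfin : (Function.support fun P : FunFld.Place k K =>
      -Finset.univ.inf' Finset.univ_nonempty (fun i => P.ord (φ i))).Finite := by
    refine (Set.finite_iUnion fun i => FunFldLib.finite_support_ord hK (φ i)).subset fun P hP => ?_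
    obtain ⟨i, -, hi⟩ := Finset.exists_mem_eq_inf' Finset.univ_nonempty (fun i => P.ord (φ i))
    refine Set.mem_iUnion.2 ⟨i, ?_⟩
    simp only [Function.mem_support, hi] at hP ⊢
    omega
  have hEapp : ∀ P : FunFld.Place k K, E P =
      -Finset.univ.inf' Finset.univ_nonempty (fun i => P.ord (φ i)) := fun P => by
    rw [hEdef, FunFld.mapDiv, dif_pos hfin, Finsupp.ofSupportFinite_coe]
  have hE0 : 0 ≤ E := fun P => by
    have h1 := Finset.inf'_le (fun i => P.ord (φ i)) (Finset.mem_univ (0 : Fin 3))
    simp only [hφdef, Matrix.cons_val_zero, FunFldLib.ord_one] at h1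
    rw [hEapp, Finsupp.zero_apply]
    simp only [hφdef]
    omega
  set Y := Submodule.span k (Set.range φ) with hY
  have hYE : Y ≤ FunFld.L E := Submodule.span_le.2 (by
    rintro _ ⟨i, rfl⟩
    rcases eq_or_ne (φ i) 0 with h | h
    · rw [h]; exact zero_mem _
    refine (FunFldLib.mem_L_iff h).2 fun P => ?_
    rw [hEapp, neg_neg]
    exact Finset.inf'_le _ (Finset.mem_univ i))
  have hbpf : ∀ Q : FunFld.Place k K, ∃ u ∈ Y, Q.1 u = WithZero.exp (E Q) := fun Q => by
    rcases eq_or_ne (E Q) 0 with h | h
    · exact ⟨1, Submodule.subset_span ⟨0, rfl⟩, by rw [h, map_one, WithZero.exp_zero]⟩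
    obtain ⟨i, -, hi⟩ := Finset.exists_mem_eq_inf' Finset.univ_nonempty (fun i => Q.ord (φ i))
    refine ⟨φ i, Submodule.subset_span ⟨i, rfl⟩, ?_⟩
    have h0 : φ i ≠ 0 := fun h' => h (by rw [hEapp, hi, h', FunFldLib.ord_zero, neg_zero])
    rw [FunFldLib.val_eq_exp Q h0, hEapp, hi]
  obtain ⟨t, ht, -⟩ := hK.1
  have hne : E ≠ 0 := by
    intro h0
    have hle : Y ≤ 1 := by rw [← FunFldLib.L_zero hK, ← h0]; exact hYE
    have hx' : ∀ i, φ i ∈ (⊥ : IntermediateField k K) := fun i => by
      obtain ⟨c, hc⟩ := Submodule.mem_one.1 (hle (Submodule.subset_span ⟨i, rfl⟩))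
      exact IntermediateField.mem_bot.2 ⟨c, hc⟩
    have hbot : IntermediateField.adjoin k ({x, y} : Set K) ≤ ⊥ := by
      rw [IntermediateField.adjoin_le_iff]
      rintro u (rfl | rfl)
      · exact hx' 1
      · exact hx' 2
    rw [hxy] at hbot
    obtain ⟨c, hc⟩ := IntermediateField.mem_bot.1 (hbot (IntermediateField.mem_top (x := t)))
    exact ht (hc ▸ isAlgebraic_algebraMap c)
  obtain ⟨Q₀, hQ₀⟩ := Finsupp.support_nonempty_iff.2 hne
  -- a generic linear form
  obtain ⟨z, hzY, hzS⟩ := FunFldLib.exists_exact_finset hYE hbpf E.support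
  have hz0 : z ≠ 0 := FunFldLib.ne_zero_of_val Q₀ (hzS Q₀ hQ₀)
  have hpoles : FunFldLib.polesDiv k z = E := by
    ext Q
    rw [FunFldLib.polesDiv_apply hK]
    have h1 := (FunFldLib.mem_L_iff hz0).1 (hYE hzY) Q
    have h0 : (0 : ℤ) ≤ E Q := hE0 Q
    by_cases hQ : Q ∈ E.support
    · rw [FunFldLib.ord_eq_of_val Q (hzS Q hQ)]; omega
    · rw [Finsupp.notMem_support_iff] at hQ; omega
  have hzt : Transcendental k z := by
    intro h
    obtain ⟨c, rfl⟩ := hK.2 z h
    have h1 := FunFldLib.ord_eq_of_val Q₀ (hzS Q₀ hQ₀)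
    rw [FunFldLib.ord_algebraMap] at h1
    rw [Finsupp.mem_support_iff] at hQ₀
    omega
  set F := IntermediateField.adjoin k ({z} : Set K)
  have := FunFldLib.finiteDimensional_adjoin hK hzt
  set d := Module.finrank F K with hd
  have hdE : E.deg = (d : ℤ) := by rw [← hpoles, FunFldLib.deg_poles hK hzt]
  -- a second generator `w`
  obtain ⟨w, hwY, hgen⟩ : ∃ w ∈ Y, IntermediateField.adjoin k ({z, w} : Set K) = ⊤ := by
    obtain ⟨c, hc⟩ := (Submodule.mem_span_range_iff_exists_fun k).1 hzY
    simp only [Fin.sum_univ_three, hφdef, Matrix.cons_val_zero, Matrix.cons_val_one, Matrix.cons_val,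
      Algebra.smul_def, mul_one] at hc
    by_cases h2 : c 2 = 0
    · have h1 : c 1 ≠ 0 := fun h1 => hzt (by
        rw [← hc, h1, h2]; simpa using isAlgebraic_algebraMap (A := K) (c 0))
      refine ⟨y, Submodule.subset_span ⟨2, rfl⟩, ?_⟩
      rw [eq_top_iff, ← hxy, IntermediateField.adjoin_le_iff]
      have hsub := IntermediateField.subset_adjoin k ({z, y} : Set K)
      rintro u (rfl | rfl)
      · have he : u = (z - algebraMap k K (c 0)) / algebraMap k K (c 1) := by
          rw [← hc, h2, map_zero, zero_mul, add_zero, add_sub_cancel_left,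
            mul_div_cancel_left₀ _ (by simpa using h1)]
        rw [he]
        exact div_mem (sub_mem (hsub (Set.mem_insert _ _)) (IntermediateField.algebraMap_mem _ _))
          (IntermediateField.algebraMap_mem _ _)
      · exact hsub (Set.mem_insert_of_mem _ rfl)
    · refine ⟨x, Submodule.subset_span ⟨1, rfl⟩, ?_⟩
      rw [eq_top_iff, ← hxy, IntermediateField.adjoin_le_iff]
      have hsub := IntermediateField.subset_adjoin k ({z, x} : Set K)
      rintro u (rfl | rfl)
      · exact hsub (Set.mem_insert_of_mem _ rfl)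
      · have he : u = (z - algebraMap k K (c 0) - algebraMap k K (c 1) * x) / algebraMap k K (c 2) := by
          rw [← hc, show algebraMap k K (c 0) + algebraMap k K (c 1) * x + algebraMap k K (c 2) * u
            - algebraMap k K (c 0) - algebraMap k K (c 1) * x = algebraMap k K (c 2) * u by ring,
            mul_div_cancel_left₀ _ (by simpa using h2)]
        rw [he]
        exact div_mem (sub_mem (sub_mem (hsub (Set.mem_insert _ _)) (IntermediateField.algebraMap_mem _ _))
          (mul_mem (IntermediateField.algebraMap_mem _ _) (hsub (Set.mem_insert_of_mem _ rfl))))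
          (IntermediateField.algebraMap_mem _ _)
  have htop : IntermediateField.adjoin F ({w} : Set K) = ⊤ := by
    apply IntermediateField.restrictScalars_injective k
    rw [IntermediateField.restrictScalars_top, ← hgen, eq_comm, eq_comm]
    rw [IntermediateField.adjoin_adjoin_left, Set.singleton_union]
  have hint : IsIntegral F w := IsIntegral.of_finite F w
  have hdeg : (minpoly F w).natDegree = d := by
    rw [← IntermediateField.adjoin.finrank hint, htop, hd]
    exact IntermediateField.finrank_top'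
  have hw : LinearIndependent F fun b : Fin d => w ^ (b : ℕ) :=
    (linearIndependent_pow (K := F) w).comp (Fin.cast hdeg.symm) (Fin.cast_injective _)
  -- count monomials
  obtain ⟨N, hN⟩ := FunFldLib.riemann_eventually hK
  have hd1 : 1 ≤ d := Module.finrank_pos
  set m := N.toNat + d
  let idx := Σ b : Fin d, Fin (m + 1 - (b : ℕ))
  let mon : idx → K := fun p => z ^ (p.2 : ℕ) * w ^ (p.1 : ℕ)
  have hpow : ∀ (u : K), u ∈ FunFld.L E → ∀ a : ℕ, u ^ a ∈ FunFld.L ((a : ℤ) • E) := by
    intro u hu a
    induction a with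
    | zero => simp [FunFldLib.L_zero hK, Submodule.one_le.1 le_rfl]
    | succ a ih =>
      rw [pow_succ, Nat.cast_succ, add_smul, one_smul]
      exact FunFldLib.mul_mem_L ih hu
  have hmem : ∀ p, mon p ∈ FunFld.L ((m : ℤ) • E) := fun p => by
    have h1 := FunFldLib.mul_mem_L (hpow z (hYE hzY) p.2) (hpow w (hYE hwY) p.1)
    rw [← add_smul] at h1
    refine FunFldLib.L_mono (smul_le_smul_of_nonneg_right ?_ hE0) h1
    have := p.2.2
    omega
  have hli : LinearIndependent k mon := by
    rw [Fintype.linearIndependent_iff]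
    intro g hg
    let G : Fin d → F := fun b => ⟨∑ a : Fin (m + 1 - (b : ℕ)), algebraMap k K (g ⟨b, a⟩) * z ^ (a : ℕ),
      sum_mem fun a _ => mul_mem (F.algebraMap_mem _) (pow_mem (IntermediateField.mem_adjoin_simple_self k z) _)⟩
    have hG : ∑ b, G b • w ^ (b : ℕ) = 0 := by
      simp only [G, IntermediateField.smul_def, smul_eq_mul, Finset.sum_mul]
      rw [← hg, Fintype.sum_sigma]
      refine Finset.sum_congr rfl fun b _ => Finset.sum_congr rfl fun a _ => ?_
      simp only [mon, Algebra.smul_def]; ring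
    rintro ⟨b, a⟩
    have hGb := congrArg Subtype.val (Fintype.linearIndependent_iff.1 hw G hG b)
    have hpoly : (∑ a : Fin (m + 1 - (b : ℕ)), Polynomial.monomial (a : ℕ) (g ⟨b, a⟩)) = 0 := by
      refine transcendental_iff.1 hzt _ ?_
      simpa [G, map_sum, Polynomial.aeval_monomial] using hGb
    simpa [Polynomial.finsetSum_coeff, Polynomial.coeff_monomial, Fin.val_inj] using
      congrArg (fun q : Polynomial k => q.coeff (a : ℕ)) hpoly
  have := FunFldLib.finiteDimensional_L hK ((m : ℤ) • E)
  have hli' : LinearIndependent k fun p => (⟨mon p, hmem p⟩ : FunFld.L ((m : ℤ) • E)) :=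
    LinearIndependent.of_comp (FunFld.L ((m : ℤ) • E)).subtype (by exact hli)
  have hcard := hli'.fintype_card_le_finrank
  simp only [idx, Fintype.card_sigma, Fintype.card_fin] at hcard
  rw [Fin.sum_univ_eq_sum_range (fun b => m + 1 - b) d] at hcard
  have hsum : ∀ e : ℕ, e ≤ m + 1 → (2 * ∑ b ∈ Finset.range e, (m + 1 - b) : ℤ) = e * (2 * m + 3 - e) := by
    intro e
    induction e with
    | zero => simp
    | succ e ih =>
      intro he
      have ih' := ih (by omega)
      rw [Finset.sum_range_succ]
      push_cast [Nat.cast_sub (show e ≤ m + 1 by omega)] at ih' ⊢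
      linear_combination ih'
  have hs := hsum d (by omega)
  have hcard' : ((∑ b ∈ Finset.range d, (m + 1 - b) : ℕ) : ℤ) ≤ (FunFld.ell ((m : ℤ) • E) : ℤ) := by
    exact_mod_cast hcard
  push_cast at hcard' hs
  have hdel := hN ((m : ℤ) • E) (by
    rw [FunFldLib.deg_zsmul, hdE]
    calc N ≤ (m : ℤ) * 1 := by omega
      _ ≤ _ := mul_le_mul_of_nonneg_left (by exact_mod_cast hd1) (Int.natCast_nonneg m))
  simp only [FunFldLib.delta, FunFldLib.deg_zsmul, hdE] at hdel
  rw [hdE]
  nlinarith [hdel, hcard', hs]

end Groth.Agent.S11054
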