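import Groth.Statements.S11055
import Groth.Agent.FunFld.Embedding
-- import your own Groth.Agent.* helpers here

set_option autoImplicit false
open FunFld

namespace Groth.Agent.S11055

/-- Over an algebraically closed constant field, a projective map `φ = (φ₀, …, φₙ)`, `n ≥ 1`, with span
`W` and divisor `[φ]` is nonsingular at the place `P` if and only if `W ∩ L([φ] - P - Q)` has
codimension `2` in `W` for every place `Q`. Here a projective map is nonsingular at a place when its
local ring there (quotients of polynomials over `k` in the ratios `φᵢ/φⱼ`, `φⱼ` of least order at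
the place, with denominator a unit there) is the whole valuation ring. (The published statement is
for any projective map; the published proof uses the finiteness property of the local ring that is
established for birational maps, so `φ` is taken birational here: the ratios `φᵢ/φ₀` generate `K`
over `k`.) -/
theorem result
    (k K : Type*) [Field k] [IsAlgClosed k] [Field K] [Algebra k K]
    (hK : FunFld.IsFunctionField k K) {n : ℕ} (hn : 1 ≤ n)
    (φ : Fin (n + 1) → K) (hφ : LinearIndependent k φ)
    (hbir : IntermediateField.adjoin k (Set.range fun i => φ i / φ 0) = ⊤) (P : FunFld.Place k K) :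
    FunFld.IsNonsingularAt φ P ↔ ∀ Q : FunFld.Place k K,
      Module.finrank k ↥(Submodule.span k (Set.range φ) ⊓
          FunFld.L (FunFld.mapDiv k φ - Finsupp.single P 1 - Finsupp.single Q 1)) + 2 =
        Module.finrank k ↥(Submodule.span k (Set.range φ)) := by
  classical
  set D := FunFld.mapDiv k φ
  set W := Submodule.span k (Set.range φ) with hW
  have hD : FunFldLib.IsMapDiv φ D := FunFldLib.isMapDiv_mapDiv hK fun i => hφ.ne_zero i
  have hWD : W ≤ FunFld.L D := Submodule.span_le.2 (by rintro _ ⟨i, rfl⟩; exact hD.1 i)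
  have hfW : FiniteDimensional k W := FiniteDimensional.span_of_finite k (Set.finite_range φ)
  -- one step costs at most one dimension
  have hstep : ∀ (V : Submodule k K), FiniteDimensional k V → ∀ (D' : FunFld.Divisor k K) (Q : FunFld.Place k K),
      V ≤ FunFld.L D' →
      Module.finrank k V ≤ Module.finrank k ↥(V ⊓ FunFld.L (D' - Finsupp.single Q 1)) + 1 ∧
      ((∃ u ∈ V, Q.1 u = WithZero.exp (D' Q)) ↔
        Module.finrank k ↥(V ⊓ FunFld.L (D' - Finsupp.single Q 1)) < Module.finrank k V) := by
    intro V hV D' Q hVD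
    have := FunFldLib.finiteDimensional_L hK D'
    have := FunFldLib.finiteDimensional_L hK (D' - Finsupp.single Q 1)
    have hle : FunFld.L (D' - Finsupp.single Q 1) ≤ FunFld.L D' :=
      FunFldLib.L_mono (sub_le_self _ (Finsupp.single_nonneg.2 zero_le_one))
    have h1 := Submodule.finrank_sup_add_finrank_inf_eq V (FunFld.L (D' - Finsupp.single Q 1))
    have h2 : Module.finrank k ↥(V ⊔ FunFld.L (D' - Finsupp.single Q 1)) ≤ FunFld.ell D' :=
      Submodule.finrank_mono (sup_le hVD hle)
    have h3 := FunFldLib.ell_le_add_deg hK D' Q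
    rw [FunFldLib.deg_eq_one hK Q] at h3
    refine ⟨by simp only [FunFld.ell] at h2 h3; omega, ?_, fun hlt => ?_⟩
    · rintro ⟨u, hu, huQ⟩
      refine Submodule.finrank_lt_finrank_of_lt (lt_of_le_of_ne inf_le_left fun he => ?_)
      rw [← he] at hu
      have := hu.2 Q
      rw [huQ, WithZero.exp_le_exp, Finsupp.sub_apply, Finsupp.single_eq_same] at this
      omega
    · by_contra hno
      push Not at hno
      refine hlt.ne ?_
      suffices he : V ⊓ FunFld.L (D' - Finsupp.single Q 1) = V by rw [he]
      refine inf_eq_left.2 fun u hu => ?_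
      intro R
      rcases eq_or_ne R Q with rfl | hR
      · have h4 := lt_of_le_of_ne (hVD hu R) (hno u hu)
        rw [Finsupp.sub_apply, Finsupp.single_eq_same]
        rcases eq_or_ne u 0 with rfl | hu0
        · simp
        rw [FunFldLib.val_eq_exp R hu0, WithZero.exp_lt_exp] at h4
        rw [FunFldLib.val_eq_exp R hu0, WithZero.exp_le_exp]
        omega
      · simpa [Finsupp.single_eq_of_ne hR] using hVD hu R
  have hWP : FiniteDimensional k ↥(W ⊓ FunFld.L (D - Finsupp.single P 1)) :=
    Submodule.finiteDimensional_of_le inf_le_left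
  obtain ⟨hA, hA'⟩ := hstep W hfW D P hWD
  have hA'' := hA'.1 (by
    obtain ⟨i, hi⟩ := hD.2 P
    exact ⟨φ i, Submodule.subset_span ⟨i, rfl⟩, hi⟩)
  have hchain : ∀ Q, W ⊓ FunFld.L (D - Finsupp.single P 1) ⊓ FunFld.L (D - Finsupp.single P 1 - Finsupp.single Q 1) =
      W ⊓ FunFld.L (D - Finsupp.single P 1 - Finsupp.single Q 1) := fun Q => by
    rw [inf_assoc, inf_eq_right.2 (FunFldLib.L_mono (sub_le_self _ (Finsupp.single_nonneg.2 zero_le_one)))]
  constructor
  · intro hns Q
    obtain ⟨hB, hB'⟩ := hstep _ hWP (D - Finsupp.single P 1) Q inf_le_right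
    rw [hchain Q] at hB hB'
    suffices hlt : ∃ u ∈ W ⊓ FunFld.L (D - Finsupp.single P 1),
        Q.1 u = WithZero.exp ((D - Finsupp.single P 1 : FunFld.Divisor k K) Q) by
      have := hB'.1 hlt
      omega
    by_contra hno
    obtain ⟨j, hjP⟩ := hD.2 P
    have hj : φ j ≠ 0 := FunFldLib.ne_zero_of_val P hjP
    have hext : ∀ i, P.1 (φ i) ≤ P.1 (φ j) := fun i => (hD.1 i P).trans_eq hjP.symm
    rcases eq_or_ne Q P with rfl | hQP
    · obtain ⟨t, ht⟩ := FunFldLib.exists_val_eq Q (-1)
      refine FunFldLib.no_uniformizer hj hext (fun i => ?_) (hns t (by rw [ht, ← WithZero.exp_zero, WithZero.exp_le_exp]; omega)) ht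
      obtain ⟨c, hc⟩ := FunFldLib.exists_sub_const_val_lt_one hK Q (FunFldLib.deg_eq_one hK Q)
        (x := φ i / φ j) (by rw [map_div₀]; exact div_le_one_of_le₀ (hext i) zero_le)
      refine ⟨c, ?_⟩
      by_contra hbig
      set r := φ i / φ j - algebraMap k K c
      have hr0 : r ≠ 0 := by rintro h; rw [h] at hbig; simp at hbig
      have hr1 : Q.ord r = 1 := by
        have h5 := (FunFldLib.val_lt_one_iff Q hr0).1 hc
        rw [FunFldLib.val_le_exp_iff Q hr0] at hbig
        omega
      refine hno ⟨φ i - algebraMap k K c * φ j, ⟨?_, ?_⟩, ?_⟩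
      · rw [← Algebra.smul_def]
        exact sub_mem (Submodule.subset_span ⟨i, rfl⟩) (Submodule.smul_mem _ c (Submodule.subset_span ⟨j, rfl⟩))
      · intro R
        rcases eq_or_ne R Q with rfl | hR
        · rw [show φ i - algebraMap k K c * φ j = r * φ j by simp only [r]; field_simp, map_mul, hjP,
            FunFldLib.val_eq_exp R hr0, hr1, Finsupp.sub_apply, Finsupp.single_eq_same, ← WithZero.exp_add,
            WithZero.exp_le_exp]
          omega
        · rw [Finsupp.sub_apply, Finsupp.single_eq_of_ne hR, sub_zero]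
          refine R.1.map_sub_le (hD.1 i R) ?_
          rw [map_mul]
          exact (mul_le_mul' (R.2.1 c) (hD.1 j R)).trans_eq (one_mul _)
      · rw [show φ i - algebraMap k K c * φ j = r * φ j by simp only [r]; field_simp, map_mul, hjP,
          FunFldLib.val_eq_exp Q hr0, hr1, Finsupp.sub_apply, Finsupp.single_eq_same, ← WithZero.exp_add]
        congr 1; ring
    · exact hQP (FunFldLib.place_ext fun z hz => FunFldLib.eq_of_same_values hj hext
        (FunFldLib.same_values_of_not_sep hK hD (FunFldLib.deg_eq_one hK P) hj hext hQP hno) (hns z hz)).symm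
  · intro h
    refine FunFldLib.isNonsingularAt_of_sep hK hD P fun Q => ?_
    obtain ⟨hB, hB'⟩ := hstep _ hWP (D - Finsupp.single P 1) Q inf_le_right
    rw [hchain Q] at hB hB'
    exact hB'.2 (by have := h Q; omega)

end Groth.Agent.S11055
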