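import Groth.Statements.S11056
import Groth.Agent.FunFld.Embedding
-- import your own Groth.Agent.* helpers here

set_option autoImplicit false
open FunFld

namespace Groth.Agent.S11056

/-- Over an algebraically closed constant field, if `deg D ≥ 2g + 1` then the projective map given by a
basis of `L(D)` is an embedding, i.e. nonsingular at every place. Here a projective map is
nonsingular at a place when its local ring there (quotients of polynomials over `k` in the ratios
`φᵢ/φⱼ`, `φⱼ` of least order at the place, with denominator a unit there) is the whole valuation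
ring. -/
theorem result
    (k K : Type*) [Field k] [IsAlgClosed k] [Field K] [Algebra k K]
    (hK : FunFld.IsFunctionField k K) (D : FunFld.Divisor k K)
    (hD : 2 * (FunFld.genus k K : ℤ) + 1 ≤ D.deg) {n : ℕ} (φ : Fin (n + 1) → K)
    (hφ : LinearIndependent k φ) (hspan : Submodule.span k (Set.range φ) = FunFld.L D)
    (P : FunFld.Place k K) : FunFld.IsNonsingularAt φ P := by
  classical
  have hlt : ∀ (F : FunFld.Divisor k K) (Q : FunFld.Place k K), 2 * (FunFld.genus k K : ℤ) ≤ F.deg →
      FunFld.ell (F - Finsupp.single Q 1) < FunFld.ell F := fun F Q hF => by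
    have hQ := FunFldLib.deg_eq_one hK Q
    have h1 := FunFldLib.ell_eq_of_deg_ge hK (D := F) (by omega)
    have h2 := FunFldLib.ell_eq_of_deg_ge hK (D := F - Finsupp.single Q 1)
      (by rw [FunFldLib.deg_sub, FunFldLib.deg_single, hQ]; omega)
    rw [FunFldLib.deg_sub, FunFldLib.deg_single, hQ] at h2
    omega
  have hex : ∀ (F : FunFld.Divisor k K) (Q : FunFld.Place k K), 2 * (FunFld.genus k K : ℤ) ≤ F.deg →
      ∃ y ∈ FunFld.L F, Q.1 y = WithZero.exp (F Q) := fun F Q hF => by
    obtain ⟨y, hy, hy0, hyo⟩ := FunFldLib.exists_mem_L_ord_eq hK (hlt F Q hF)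
    exact ⟨y, hy, by rw [FunFldLib.val_eq_exp Q hy0, hyo, neg_neg]⟩
  have hD' : FunFldLib.IsMapDiv φ D := by
    refine ⟨fun i => hspan ▸ Submodule.subset_span ⟨i, rfl⟩, fun Q => ?_⟩
    by_contra hno
    push Not at hno
    obtain ⟨y, hy, hy'⟩ := hex D Q (by omega)
    have hle : Submodule.span k (Set.range φ) ≤ FunFld.L (D - Finsupp.single Q 1) := Submodule.span_le.2 (by
      rintro _ ⟨i, rfl⟩
      intro R
      have h1 : φ i ∈ FunFld.L D := hspan ▸ Submodule.subset_span ⟨i, rfl⟩
      rcases eq_or_ne R Q with rfl | hR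
      · have h2 := lt_of_le_of_ne (h1 R) (hno i)
        rw [FunFldLib.val_eq_exp R (hφ.ne_zero i), WithZero.exp_lt_exp] at h2
        rw [FunFldLib.val_eq_exp R (hφ.ne_zero i), WithZero.exp_le_exp, Finsupp.sub_apply, Finsupp.single_eq_same]
        omega
      · simpa [Finsupp.single_eq_of_ne hR] using h1 R)
    rw [← hspan] at hy
    have := hle hy Q
    rw [hy', WithZero.exp_le_exp, Finsupp.sub_apply, Finsupp.single_eq_same] at this
    omega
  refine FunFldLib.isNonsingularAt_of_sep hK hD' P fun Q => ?_
  obtain ⟨y, hy, hy'⟩ := hex (D - Finsupp.single P 1) Q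
    (by rw [FunFldLib.deg_sub, FunFldLib.deg_single, FunFldLib.deg_eq_one hK P]; omega)
  exact ⟨y, ⟨hspan ▸ FunFldLib.L_mono (sub_le_self _ (Finsupp.single_nonneg.2 zero_le_one)) hy, hy⟩, hy'⟩

end Groth.Agent.S11056
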