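import Groth.Statements.S11057
import Groth.Agent.FunFld.Embedding
-- import your own Groth.Agent.* helpers here

set_option autoImplicit false
open FunFld

namespace Groth.Agent.S11057

/-- Over an algebraically closed constant field, if `K` has degree at least `3` over every subfield
`k(x)` generated by a nonconstant element, then the canonical map (given by a basis of `L(D)` for a
canonical divisor `D`) is an embedding, i.e. nonsingular at every place. Here a projective map is
nonsingular at a place when its local ring there (quotients of polynomials over `k` in the ratios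
`φᵢ/φⱼ`, `φⱼ` of least order at the place, with denominator a unit there) is the whole valuation
ring. -/
theorem result
    (k K : Type*) [Field k] [IsAlgClosed k] [Field K] [Algebra k K]
    (hK : FunFld.IsFunctionField k K)
    (h2 : ∀ x : K, Transcendental k x →
      2 < Module.finrank (IntermediateField.adjoin k ({x} : Set K)) K)
    (D : FunFld.Divisor k K) (hD : FunFld.IsCanonical k K D) {n : ℕ} (φ : Fin (n + 1) → K)
    (hφ : LinearIndependent k φ) (hspan : Submodule.span k (Set.range φ) = FunFld.L D)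
    (P : FunFld.Place k K) : FunFld.IsNonsingularAt φ P := by
  classical
  have hdim : ∀ (F : FunFld.Divisor k K), 0 ≤ F → F.deg ≤ 2 → FunFld.ell F ≤ 1 := fun F hF0 hF => by
    by_contra h
    obtain ⟨x, hx, hxt⟩ := FunFldLib.exists_transcendental_mem_L hK (D := F) (by omega)
    have h1 := FunFldLib.finrank_le_deg hK hF0 hxt hx
    have := h2 x hxt
    omega
  obtain ⟨hC1, hC2⟩ := FunFldLib.canonical_ell_deg hK hD
  have hone : ∀ (F : FunFld.Divisor k K), 0 ≤ F → F.deg ≤ 2 →
      (FunFld.ell (D - F) : ℤ) = (FunFld.genus k K : ℤ) - F.deg := fun F hF0 hF => by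
    have h1 := FunFldLib.riemann_roch hK hD F
    have h3 : 1 ≤ FunFld.ell F := FunFldLib.ell_zero hK ▸ FunFldLib.ell_mono hK hF0
    have h4 := hdim F hF0 hF
    omega
  have hdeg1 : ∀ Q : FunFld.Place k K, FunFld.Divisor.deg (Finsupp.single Q 1 : FunFld.Divisor k K) = 1 := fun Q => by
    rw [FunFldLib.deg_single, FunFldLib.deg_eq_one hK Q]; norm_num
  have hex : ∀ Q R : FunFld.Place k K, ∃ y ∈ FunFld.L (D - Finsupp.single R 1),
      Q.1 y = WithZero.exp ((D - Finsupp.single R 1 : FunFld.Divisor k K) Q) := fun Q R => by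
    have h1 := hone _ (Finsupp.single_nonneg.2 (zero_le_one : (0 : ℤ) ≤ 1)) (by rw [hdeg1 R]; norm_num)
    have h2' := hone (Finsupp.single R 1 + Finsupp.single Q 1)
      (add_nonneg (Finsupp.single_nonneg.2 zero_le_one) (Finsupp.single_nonneg.2 zero_le_one))
      (by rw [FunFldLib.deg_add, hdeg1, hdeg1]; norm_num)
    rw [← sub_sub, FunFldLib.deg_add, hdeg1, hdeg1] at h2'
    rw [hdeg1] at h1
    obtain ⟨y, hy, hy0, hyo⟩ := FunFldLib.exists_mem_L_ord_eq hK
      (D := D - Finsupp.single R 1) (P := Q) (by omega)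
    exact ⟨y, hy, by rw [FunFldLib.val_eq_exp Q hy0, hyo, neg_neg]⟩
  have hsub : ∀ R, FunFld.L (D - Finsupp.single R 1) ≤ FunFld.L D := fun R =>
    FunFldLib.L_mono (sub_le_self _ (Finsupp.single_nonneg.2 zero_le_one))
  have hD' : FunFldLib.IsMapDiv φ D := by
    refine ⟨fun i => hspan ▸ Submodule.subset_span ⟨i, rfl⟩, fun Q => ?_⟩
    by_contra hno
    push Not at hno
    have h1 := hone _ (Finsupp.single_nonneg.2 (zero_le_one : (0 : ℤ) ≤ 1)) (by rw [hdeg1 Q]; norm_num)
    rw [hdeg1] at h1
    obtain ⟨y, hy, hy0, hyo⟩ := FunFldLib.exists_mem_L_ord_eq hK (D := D) (P := Q) (by omega)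
    have hle : Submodule.span k (Set.range φ) ≤ FunFld.L (D - Finsupp.single Q 1) := Submodule.span_le.2 (by
      rintro _ ⟨i, rfl⟩
      intro R
      have hm : φ i ∈ FunFld.L D := hspan ▸ Submodule.subset_span ⟨i, rfl⟩
      rcases eq_or_ne R Q with rfl | hR
      · have h2 := lt_of_le_of_ne (hm R) (hno i)
        rw [FunFldLib.val_eq_exp R (hφ.ne_zero i), WithZero.exp_lt_exp] at h2
        rw [FunFldLib.val_eq_exp R (hφ.ne_zero i), WithZero.exp_le_exp, Finsupp.sub_apply, Finsupp.single_eq_same]
        omega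
      · simpa [Finsupp.single_eq_of_ne hR] using hm R)
    rw [← hspan] at hy
    have := (FunFldLib.mem_L_iff hy0).1 (hle hy) Q
    rw [hyo, Finsupp.sub_apply, Finsupp.single_eq_same] at this
    omega
  refine FunFldLib.isNonsingularAt_of_sep hK hD' P fun Q => ?_
  obtain ⟨y, hy, hy'⟩ := hex Q P
  exact ⟨y, ⟨hspan ▸ hsub P hy, hy⟩, hy'⟩

end Groth.Agent.S11057
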