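import Groth.Statements.S11058
import Groth.Agent.FunFld.Embedding
-- import your own Groth.Agent.* helpers here

set_option autoImplicit false
open FunFld

namespace Groth.Agent.S11058

/-- Over an algebraically closed constant field, a birational projective map `φ = (φ₀, …, φₙ)` (the
ratios `φᵢ/φ₀` generate `K` over `k`) is nonsingular at all but finitely many places. Here a
projective map is nonsingular at a place when its local ring there (quotients of polynomials over
`k` in the ratios `φᵢ/φⱼ`, `φⱼ` of least order at the place, with denominator a unit there) is the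
whole valuation ring. -/
theorem result
    (k K : Type*) [Field k] [IsAlgClosed k] [Field K] [Algebra k K]
    (hK : FunFld.IsFunctionField k K) {n : ℕ} (hn : 1 ≤ n) (φ : Fin (n + 1) → K)
    (hφ : LinearIndependent k φ)
    (hbir : IntermediateField.adjoin k (Set.range fun i => φ i / φ 0) = ⊤) :
    {P : FunFld.Place k K | ¬ FunFld.IsNonsingularAt φ P}.Finite := by
  have : Nonempty (Fin (n + 1)) := ⟨0⟩
  have : Infinite k := IsAlgClosed.instInfinite
  refine FunFldLib.finite_singular hK (FunFldLib.isMapDiv_mapDiv hK fun i => hφ.ne_zero i)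
    (FunFldLib.deg_eq_one hK) 0 (hφ.ne_zero 0) ⟨⟨1, by omega⟩, ?_⟩ hbir
  rintro ⟨c, hc⟩
  have h01 : (⟨1, by omega⟩ : Fin (n + 1)) ≠ 0 := by simp [Fin.ext_iff]
  have h := Fintype.linearIndependent_iff.1 hφ
    (Pi.single ⟨1, by omega⟩ 1 - Pi.single (0 : Fin (n + 1)) c) (by
      simp only [Pi.sub_apply, sub_smul, Finset.sum_sub_distrib]
      simp only [Pi.single_apply, ite_smul, one_smul, zero_smul, Finset.sum_ite_eq', Finset.mem_univ, if_true]
      rw [Algebra.smul_def, hc, div_mul_cancel₀ _ (hφ.ne_zero 0), sub_self]) ⟨1, by omega⟩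
  simp [h01] at h

end Groth.Agent.S11058
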