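import Groth.Statements.S11060
import Groth.Agent.FunFld.PlaneModel
-- import your own Groth.Agent.* helpers here

set_option autoImplicit false
open FunFld

namespace Groth.Agent.S11060

/-- Over an algebraically closed constant field, a function field of genus `g` with a nonsingular plane
model has `g` a triangular number. Here a projective map is nonsingular at a place when its local
ring there (quotients of polynomials over `k` in the ratios `φᵢ/φⱼ`, `φⱼ` of least order at the
place, with denominator a unit there) is the whole valuation ring. -/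
theorem result
    (k K : Type*) [Field k] [IsAlgClosed k] [Field K] [Algebra k K]
    (hK : FunFld.IsFunctionField k K)
    (h : ∃ x y : K, IntermediateField.adjoin k ({x, y} : Set K) = ⊤ ∧
      ∀ P : FunFld.Place k K, FunFld.IsNonsingularAt ![(1 : K), x, y] P) :
    ∃ m : ℕ, 2 * FunFld.genus k K = m * (m + 1) := by
  obtain ⟨x, y, hxy, hns⟩ := h
  have hg := (Groth.Agent.FunFldLib.genus_iff_nonsingular hK hxy).2 hns
  set d := (FunFld.mapDiv k ![(1 : K), x, y]).deg
  rcases le_or_gt d 2 with hd | hd
  · refine ⟨0, ?_⟩
    have hg0 : (0 : ℤ) ≤ FunFld.genus k K := Int.natCast_nonneg _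
    rcases le_or_gt d 0 with h0 | h0
    · exfalso
      obtain ⟨g, hg1, hg2⟩ := Groth.Agent.FunFldLib.exists_relation hK x y
      obtain ⟨f, hf, -, hfxy⟩ := Groth.Agent.FunFldLib.exists_irreducible_factor hK hg1 hg2
      have hdeg : d = f.totalDegree := Groth.Agent.FunFldLib.deg_mapDiv_model hK hxy hfxy hf
      have hz : f.totalDegree = 0 := by omega
      have hC := MvPolynomial.totalDegree_eq_zero_iff_eq_C.1 hz
      rcases eq_or_ne (MvPolynomial.coeff 0 f) 0 with h | h
      · exact hf.ne_zero (by rw [hC, h, map_zero])
      · exact hf.not_isUnit (by rw [hC]; exact (isUnit_iff_ne_zero.2 h).map MvPolynomial.C)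
    · have : d = 1 ∨ d = 2 := by omega
      rcases this with h | h <;> rw [h] at hg <;> simp at hg <;> simp [hg]
  · refine ⟨(d - 2).toNat, ?_⟩
    have h2 : (((d - 2).toNat : ℕ) : ℤ) = d - 2 := Int.toNat_of_nonneg (by omega)
    have h3 : (2 * FunFld.genus k K : ℤ) = ((((d - 2).toNat * ((d - 2).toNat + 1) : ℕ)) : ℤ) := by
      push_cast; rw [h2, hg]; ring
    exact_mod_cast h3

end Groth.Agent.S11060
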