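import Groth.Statements.S11062
import Groth.Agent.FunFld.ConstExtCount
-- import your own Groth.Agent.* helpers here

set_option autoImplicit false
open FunFld

namespace Groth.Agent.S11062

/-- With `L_K(t) = ∏ (1 - αᵢ t)` over a finite field with `q` elements, the number of degree-one places
of the constant-field extension `Kₙ/kₙ` of degree `n` is `1 + qⁿ - ∑ αᵢⁿ`. -/
theorem result
    (k K k' K' : Type*) [Field k] [Finite k] [Field K] [Algebra k K] [Field k'] [Finite k']
    [Field K'] [Algebra k k'] [Algebra K K'] [Algebra k' K'] (hK : FunFld.IsFunctionField k K)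
    (hK' : FunFld.IsFunctionField k' K') (hce : FunFld.IsConstExt k K k' K')
    (α : Fin (2 * FunFld.genus k K) → ℂ)
    (hα : PowerSeries.map (Int.castRingHom ℂ) (FunFld.numerZ k K) =
      ((∏ i, (1 - Polynomial.C (α i) * Polynomial.X) : Polynomial ℂ) : PowerSeries ℂ)) :
    (Nat.card {P : FunFld.Place k' K' // P.deg = 1} : ℂ) =
      1 + (Nat.card k : ℂ) ^ Module.finrank k k' - ∑ i, α i ^ Module.finrank k k' := by
  have : Module.Finite k k' := Module.Finite.of_finite
  obtain ⟨C, hC⟩ := Groth.Agent.FunFldLib.pointCount_bound hK'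
  have hfin := (hC 1 one_pos).1
  have hN : Nat.card {P : FunFld.Place k' K' // P.deg = 1} = Groth.Agent.FunFldLib.pointCount k' K' 1 := by
    rw [Groth.Agent.FunFldLib.pointCount, finsum_mem_eq_finite_toFinset_sum _ hfin,
      Finset.sum_congr rfl fun P hP => Nat.dvd_one.1 (hfin.mem_toFinset.1 hP), Finset.sum_const, smul_eq_mul,
      mul_one, ← Nat.card_eq_finsetCard]
    exact Nat.card_congr (Equiv.subtypeEquivRight fun P => by simp)
  rw [hN, Groth.Agent.FunFldLib.pointCount_constExt hK hK' hce one_pos, mul_one]
  exact Groth.Agent.FunFldLib.pointCount_eq hK hα Module.finrank_pos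

end Groth.Agent.S11062
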