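import Groth.Statements.S11063
import Groth.Agent.FunFld.Rational
-- import your own Groth.Agent.* helpers here

set_option autoImplicit false
open FunFld

namespace Groth.Agent.S11063

/-- Over an algebraically closed constant field, for a place `P` of a function field of genus `g` and `1
≤ l ≤ g`, the `l`-th gap number at `P` is at most `2l - 1`, i.e. at least `l` of the integers `1 ≤ m
≤ 2l - 1` satisfy `L(mP) = L((m-1)P)`. (The published statement bounds the `l`-th order of the
canonical map at `P` by `2l`; the orders of the canonical map at `P` are the gap numbers at `P` less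
one, which gives the form stated here.) -/
theorem result
    (k K : Type*) [Field k] [IsAlgClosed k] [Field K] [Algebra k K]
    (hK : FunFld.IsFunctionField k K) (P : FunFld.Place k K) (l : ℕ)
    (hl : 1 ≤ l) (hlg : l ≤ FunFld.genus k K) :
    l ≤ Set.ncard {m : ℕ | 1 ≤ m ∧ m ≤ 2 * l - 1 ∧
      FunFld.L (Finsupp.single P (m : ℤ)) = FunFld.L (Finsupp.single P ((m : ℤ) - 1))} := by
  classical
  have hP := FunFldLib.deg_eq_one hK P
  have hl2 : 2 * FunFld.ell (Finsupp.single P ((2 * l - 1 : ℕ) : ℤ) : FunFld.Divisor k K) ≤ 2 * l + 1 := by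
    rcases le_or_gt ((2 * l - 1 : ℕ) : ℤ) (2 * (FunFld.genus k K : ℤ) - 2) with h | h
    · have := FunFldLib.clifford_point hK hP h; omega
    · have := FunFldLib.ell_eq_of_deg_ge hK (D := Finsupp.single P ((2 * l - 1 : ℕ) : ℤ))
        (by rw [FunFldLib.deg_single, hP]; omega)
      rw [FunFldLib.deg_single, hP] at this
      omega
  rw [FunFldLib.count_split hK hP] at hl2
  have h2 := Finset.card_filter_add_card_filter_not (s := Finset.Icc 1 (2 * l - 1))
    (fun m => FunFldLib.IsPoleOrder P m)
  have heq : {m : ℕ | 1 ≤ m ∧ m ≤ 2 * l - 1 ∧ FunFld.L (Finsupp.single P (m : ℤ)) =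
      FunFld.L (Finsupp.single P ((m : ℤ) - 1))} =
      ↑((Finset.Icc 1 (2 * l - 1)).filter (fun m => ¬ FunFldLib.IsPoleOrder P m)) := by
    ext m
    simp [FunFldLib.isPoleOrder_iff_L_ne hK P, and_assoc]
  rw [heq, Set.ncard_coe_finset]
  simp only [Nat.card_Icc] at h2
  omega

end Groth.Agent.S11063
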