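import Groth.Statements.S11065
import Groth.Agent.FunFld.Embedding
-- import your own Groth.Agent.* helpers here

set_option autoImplicit false
open FunFld

namespace Groth.Agent.S11065

/-- Over an algebraically closed constant field, a projective map `φ = (φ₀, …, φₙ)`, `n ≥ 1`, is
nonsingular at the place `P` if and only if its local ring at `P` lies in the valuation ring of no
place other than `P` and contains a local parameter at `P`. Here the local ring of a projective map
at a place consists of the quotients of polynomials over `k` in the ratios `φᵢ/φⱼ`, `φⱼ` of least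
order at the place, with denominator a unit there; the map is nonsingular at the place when this
ring is the whole valuation ring. (The published statement is for any projective map; the published
proof uses the finiteness property of the local ring that is established for birational maps, so `φ`
is taken birational here: the ratios `φᵢ/φ₀` generate `K` over `k`.) -/
theorem result
    (k K : Type*) [Field k] [IsAlgClosed k] [Field K] [Algebra k K]
    (hK : FunFld.IsFunctionField k K) {n : ℕ} (hn : 1 ≤ n)
    (φ : Fin (n + 1) → K) (hφ : LinearIndependent k φ)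
    (hbir : IntermediateField.adjoin k (Set.range fun i => φ i / φ 0) = ⊤) (P : FunFld.Place k K) :
    FunFld.IsNonsingularAt φ P ↔
      (∀ Q : FunFld.Place k K, (∀ z : K, FunFld.InLocRing φ P z → Q.1 z ≤ 1) → Q = P) ∧
        ∃ t : K, FunFld.InLocRing φ P t ∧ P.1 t = WithZero.exp (-1) := by
  classical
  have : Nonempty (Fin (n + 1)) := ⟨0⟩
  constructor
  · intro h
    refine ⟨fun Q hQ => (FunFldLib.place_ext fun z hz => hQ z (h z hz)).symm, ?_⟩
    obtain ⟨t, ht⟩ := FunFldLib.exists_val_eq P (-1)
    exact ⟨t, h t (by rw [ht, ← WithZero.exp_zero, WithZero.exp_le_exp]; omega), ht⟩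
  · rintro ⟨hsepQ, t, ht, ht1⟩
    set D := FunFld.mapDiv k φ
    have hD : FunFldLib.IsMapDiv φ D := FunFldLib.isMapDiv_mapDiv hK fun i => hφ.ne_zero i
    obtain ⟨j, hjP⟩ := hD.2 P
    have hj : φ j ≠ 0 := FunFldLib.ne_zero_of_val P hjP
    have hext : ∀ i, P.1 (φ i) ≤ P.1 (φ j) := fun i => (hD.1 i P).trans_eq hjP.symm
    have hP1 := FunFldLib.deg_eq_one hK P
    refine FunFldLib.isNonsingularAt_of_sep hK hD P fun Q => ?_
    by_contra hno
    rcases eq_or_ne Q P with rfl | hQP
    · refine FunFldLib.no_uniformizer hj hext (fun i => ?_) ht ht1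
      obtain ⟨c, hc⟩ := FunFldLib.exists_sub_const_val_lt_one hK Q hP1
        (x := φ i / φ j) (by rw [map_div₀]; exact div_le_one_of_le₀ (hext i) zero_le)
      refine ⟨c, ?_⟩
      by_contra hbig
      set r := φ i / φ j - algebraMap k K c
      have hr0 : r ≠ 0 := by rintro h; rw [h] at hbig; simp at hbig
      have hr1 : Q.ord r = 1 := by
        have h5 := (FunFldLib.val_lt_one_iff Q hr0).1 hc
        rw [FunFldLib.val_le_exp_iff Q hr0] at hbig
        omega
      refine hno ⟨φ i - algebraMap k K c * φ j, ⟨?_, ?_⟩, ?_⟩
      · rw [← Algebra.smul_def]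
        exact sub_mem (Submodule.subset_span ⟨i, rfl⟩) (Submodule.smul_mem _ c (Submodule.subset_span ⟨j, rfl⟩))
      · intro R
        rcases eq_or_ne R Q with rfl | hR
        · rw [show φ i - algebraMap k K c * φ j = r * φ j by simp only [r]; field_simp, map_mul, hjP,
            FunFldLib.val_eq_exp R hr0, hr1, Finsupp.sub_apply, Finsupp.single_eq_same, ← WithZero.exp_add,
            WithZero.exp_le_exp]
          omega
        · rw [Finsupp.sub_apply, Finsupp.single_eq_of_ne hR, sub_zero]
          refine R.1.map_sub_le (hD.1 i R) ?_
          rw [map_mul]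
          exact (mul_le_mul' (R.2.1 c) (hD.1 j R)).trans_eq (one_mul _)
      · rw [show φ i - algebraMap k K c * φ j = r * φ j by simp only [r]; field_simp, map_mul, hjP,
          FunFldLib.val_eq_exp Q hr0, hr1, Finsupp.sub_apply, Finsupp.single_eq_same, ← WithZero.exp_add]
        congr 1; ring
    · refine hQP (hsepQ Q fun z hz => ?_)
      exact FunFldLib.eq_of_same_values hj hext
        (FunFldLib.same_values_of_not_sep hK hD hP1 hj hext hQP hno) hz

end Groth.Agent.S11065
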