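import Groth.Statements.S11066
import Groth.Agent.FunFld.Embedding
-- import your own Groth.Agent.* helpers here

set_option autoImplicit false
open FunFld

namespace Groth.Agent.S11066

/-- Over an algebraically closed constant field, for an effective projective map `φ` normalized at the
place `P` (`1` in the span of the entries, all entries integral at `P`), the local ring of `φ` at
`P` has an element of order one at `P` (a local parameter) exactly when the span of the entries has
one. The local ring consists of the quotients of polynomials over `k` in the ratios `φᵢ/φⱼ`, `φⱼ` of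
least order at `P`, with denominator a unit at `P`. -/
theorem result
    (k K : Type*) [Field k] [IsAlgClosed k] [Field K] [Algebra k K]
    (hK : FunFld.IsFunctionField k K) {n : ℕ} (φ : Fin (n + 1) → K)
    (P : FunFld.Place k K) (heff : (1 : K) ∈ Submodule.span k (Set.range φ))
    (hnorm : ∀ i, P.1 (φ i) ≤ 1) :
    (∃ t : K, FunFld.InLocRing φ P t ∧ P.1 t = WithZero.exp (-1)) ↔
      ∃ t ∈ Submodule.span k (Set.range φ), P.1 t = WithZero.exp (-1) := by
  classical
  obtain ⟨j, -, hjmax⟩ := Finset.exists_max_image Finset.univ (fun i => P.1 (φ i)) Finset.univ_nonempty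
  have hj1 : P.1 (φ j) = 1 := by
    refine le_antisymm (hnorm j) ?_
    obtain ⟨c, hc⟩ := (Submodule.mem_span_range_iff_exists_fun k).1 heff
    have h1 : P.1 (∑ i, c i • φ i) ≤ P.1 (φ j) := P.1.map_sum_le fun i _ => by
      rw [Algebra.smul_def, map_mul]
      exact (mul_le_of_le_one_left' (P.2.1 _)).trans (hjmax i (Finset.mem_univ i))
    rwa [hc, map_one] at h1
  have hj : φ j ≠ 0 := by intro h; simp [h] at hj1
  have hext : ∀ i, P.1 (φ i) ≤ P.1 (φ j) := fun i => hjmax i (Finset.mem_univ i)
  have hP := FunFldLib.deg_eq_one hK P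
  constructor
  · rintro ⟨t, ht, ht1⟩
    by_contra hno
    push Not at hno
    refine FunFldLib.no_uniformizer hj hext (fun i => ?_) ht ht1
    obtain ⟨c, hc⟩ := FunFldLib.exists_sub_const_val_lt_one hK P hP
      (x := φ i / φ j) (by rw [map_div₀, hj1, div_one]; exact hnorm i)
    refine ⟨c, ?_⟩
    have hy : φ i - algebraMap k K c * φ j ∈ Submodule.span k (Set.range φ) := by
      rw [← Algebra.smul_def]
      exact sub_mem (Submodule.subset_span ⟨i, rfl⟩) (Submodule.smul_mem _ c (Submodule.subset_span ⟨j, rfl⟩))
    have heq : P.1 (φ i / φ j - algebraMap k K c) = P.1 (φ i - algebraMap k K c * φ j) := by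
      rw [show φ i / φ j - algebraMap k K c = (φ i - algebraMap k K c * φ j) / φ j by field_simp,
        map_div₀, hj1, div_one]
    rw [heq] at hc ⊢
    rcases eq_or_ne (φ i - algebraMap k K c * φ j) 0 with h0 | h0
    · simp [h0]
    have h3 := (FunFldLib.val_lt_one_iff P h0).1 hc
    have h4 := hno _ hy
    rw [FunFldLib.val_eq_exp P h0, Ne, WithZero.exp_inj] at h4
    rw [FunFldLib.val_le_exp_iff P h0]
    omega
  · rintro ⟨t, ht, ht1⟩
    refine ⟨t / φ j, ⟨j, hj, hext, t / φ j, ?_, 1, one_mem _, map_one _, mul_one _⟩, by
      rw [map_div₀, hj1, div_one, ht1]⟩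
    clear ht1
    induction ht using Submodule.span_induction with
    | mem x hx => obtain ⟨i, rfl⟩ := hx; exact Algebra.subset_adjoin ⟨i, rfl⟩
    | zero => simp
    | add a b _ _ ha hb => rw [add_div]; exact add_mem ha hb
    | smul c a _ ha => rw [smul_div_assoc]; exact Subalgebra.smul_mem _ ha c

end Groth.Agent.S11066
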