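import Groth.Statements.S11068
import Groth.Agent.FunFld.FixCount
-- import your own Groth.Agent.* helpers here

set_option autoImplicit false
open FunFld

namespace Groth.Agent.S11068

/-- Over a finite constant field with `q` elements, let `K̄ = k̄ ⊗ K` be the constant-field extension to
an algebraic closure and `F` its Frobenius map (identity on `k̄`, `q`-th power on `K`). A place `Q`
of `K̄/k̄` satisfies `Q^F = Q` (the maximal ideal of `Q` is exactly the preimage of itself under
`F`) if and only if `Q` is defined over `k`, i.e. the place of `K` below `Q` has degree one. -/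
theorem result
    (k K kb Kb : Type*) [Field k] [Finite k] [Field K] [Algebra k K] [Field kb] [Algebra k kb]
    [IsAlgClosure k kb] [Field Kb] [Algebra K Kb] [Algebra kb Kb]
    (hK : FunFld.IsFunctionField k K)
    (hc : ∀ c : k, algebraMap K Kb (algebraMap k K c) = algebraMap kb Kb (algebraMap k kb c))
    (hgen : Algebra.adjoin K (Set.range (algebraMap kb Kb)) = ⊤)
    (F : Kb →+* Kb) (hF1 : ∀ c : kb, F (algebraMap kb Kb c) = algebraMap kb Kb c)
    (hF2 : ∀ x : K, F (algebraMap K Kb x) = algebraMap K Kb x ^ Nat.card k)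
    (Q : FunFld.Place kb Kb) :
    (∀ z : Kb, Q.1 (F z) < 1 ↔ Q.1 z < 1) ↔
      ∃ P : FunFld.Place k K, (∀ x : K, Q.1 (algebraMap K Kb x) ≤ 1 ↔ P.1 x ≤ 1) ∧ P.deg = 1 := by
  let _ : Algebra k Kb := ((algebraMap kb Kb).comp (algebraMap k kb)).toAlgebra
  have : IsScalarTower k kb Kb := IsScalarTower.of_algebraMap_eq fun _ => rfl
  have : IsScalarTower k K Kb := IsScalarTower.of_algebraMap_eq fun c => (hc c).symm
  have : IsAlgClosed kb := IsAlgClosure.isAlgClosed k
  have : Algebra.IsAlgebraic k kb := IsAlgClosure.isAlgebraic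
  have : Algebra.IsAlgebraic K Kb := Groth.Agent.FunFldLib.isAlgebraic_constExt k hgen
  have : Fintype k := Fintype.ofFinite k
  have hKb := Groth.Agent.FunFldLib.isFunctionField_constExt hK hgen
  obtain ⟨ψ, τ, hid, -, hψ⟩ := Groth.Agent.FunFldLib.exists_frobSemi (kb := kb) (Kb := Kb) hK hgen 1
  have hq := Groth.Agent.FunFldLib.one_lt_card_pow (k := k) one_pos
  have hF : ∀ z, F z = ψ z ^ Nat.card k := fun z => by
    have hz : z ∈ Algebra.adjoin K (Set.range (algebraMap kb Kb)) := by rw [hgen]; trivial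
    have hfrob : ∀ w : Kb, w ^ Nat.card k = FiniteField.frobeniusAlgHom k Kb w := fun w => by
      rw [FiniteField.coe_frobeniusAlgHom, Nat.card_eq_fintype_card]
    induction hz using Algebra.adjoin_induction with
    | mem y hy => obtain ⟨c, rfl⟩ := hy; rw [hF1, ← pow_one (Nat.card k), hψ]
    | algebraMap r => rw [hF2, hid]
    | add x y _ _ hx hy => rw [map_add, map_add, hx, hy, hfrob, hfrob, hfrob, map_add]
    | mul x y _ _ hx hy => rw [map_mul, map_mul, hx, hy, mul_pow]
  have hq0 : Nat.card k ≠ 0 := Nat.card_pos.ne'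
  have hlt : ∀ z, Q.1 (F z) < 1 ↔ Q.1 (ψ z) < 1 := fun z => by
    rw [hF, map_pow]; exact pow_lt_one_iff_of_nonneg zero_le hq0
  have hiff := Groth.Agent.FunFldLib.mem_fixPlaces_iff hK hgen hKb one_pos hid hψ Q
  have hfix : (∀ z : Kb, Q.1 (F z) < 1 ↔ Q.1 z < 1) ↔ Q ∈ Groth.Agent.FunFldLib.fixPlaces kb ψ := by
    constructor
    · intro h
      have he : Groth.Agent.FunFldLib.semiPull hq hψ Q = Q := Groth.Agent.FunFldLib.place_ext fun z hz => by
        rw [Groth.Agent.FunFldLib.semiPull_val] at hz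
        by_contra hgt
        push Not at hgt
        have hinv : Q.1 z⁻¹ < 1 := by rw [map_inv₀]; exact inv_lt_one_of_one_lt₀ hgt
        have h2 := (hlt _).1 ((h _).2 hinv)
        rw [map_inv₀, map_inv₀, inv_lt_one₀ (zero_lt_iff.2 (Groth.Agent.FunFldLib.val_ne_zero Q
          ((map_ne_zero ψ).2 fun h0 => by simp [h0] at hgt)))] at h2
        exact absurd hz (not_le.2 h2)
      exact fun z => congrArg (fun R : FunFld.Place kb Kb => R.1 z) he
    · intro h z
      rw [hlt, h z]
  rw [hfix, hiff, Nat.dvd_one]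
  constructor
  · exact fun h => ⟨_, fun x => Groth.Agent.FunFldLib.le_one_iff_belowC Q x, h⟩
  · rintro ⟨P, hP, hdeg⟩
    rwa [Groth.Agent.FunFldLib.belowC_eq fun x hx => (hP x).2 hx]

end Groth.Agent.S11068
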