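import Groth.Statements.S11080
import Mathlib
-- import your own Groth.Agent.* helpers here

set_option autoImplicit false
universe u
open CAlg

namespace Groth.Agent.S11080

open IsDedekindDomain

theorem exists_rep {A K : Type u} [CommRing A] [IsDedekindDomain A] [Field K] [Algebra A K] [IsFractionRing A K]
    (v : HeightOneSpectrum A) (x : K) :
    ∃ a b : A, b ∉ v.asIdeal ∧ (x * algebraMap A K b = algebraMap A K a ∨
      (a ∈ v.asIdeal ∧ x * algebraMap A K a = algebraMap A K b)) := by
  obtain ⟨c, d, hd, rfl⟩ := IsFractionRing.div_surjective (A := A) x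
  have hd0 : algebraMap A K d ≠ 0 := IsFractionRing.to_map_ne_zero_of_mem_nonZeroDivisors hd
  haveI : IsDiscreteValuationRing (Localization.AtPrime v.asIdeal) :=
    IsLocalization.AtPrime.isDiscreteValuationRing_of_dedekind_domain A v.ne_bot _
  have key : ∀ c d : A, algebraMap A (Localization.AtPrime v.asIdeal) d ∣ algebraMap A _ c →
      ∃ w b : A, b ∉ v.asIdeal ∧ d * w = c * b := by
    rintro c d ⟨q, hq⟩
    obtain ⟨⟨w, ⟨b, hb⟩⟩, hwb⟩ := IsLocalization.surj v.asIdeal.primeCompl q
    refine ⟨w, b, hb, IsLocalization.injective (Localization.AtPrime v.asIdeal) v.asIdeal.primeCompl_le_nonZeroDivisors ?_⟩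
    rw [map_mul, map_mul, ← hwb, hq, mul_assoc]
  rcases ValuationRing.dvd_total (algebraMap A (Localization.AtPrime v.asIdeal) d) (algebraMap A _ c) with h | h
  · obtain ⟨w, b, hb, hw⟩ := key c d h
    refine ⟨w, b, hb, Or.inl ?_⟩
    field_simp
    rw [← map_mul, ← map_mul, ← hw, mul_comm]
  · obtain ⟨w, b, hb, hw⟩ := key d c h
    by_cases hwv : w ∈ v.asIdeal
    · refine ⟨w, b, hb, Or.inr ⟨hwv, ?_⟩⟩
      field_simp
      rw [← map_mul, ← map_mul, hw, mul_comm]
    · refine ⟨b, w, hwv, Or.inl ?_⟩
      field_simp
      rw [← map_mul, ← map_mul, hw, mul_comm]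

/-- Valuation rings over a curve: let A be a Dedekind domain with fraction field K. A valuation subring
O of K contains A and is different from K if and only if O is the valuation ring of the v-adic
valuation of K at some nonzero prime v of A (equivalently O is the local ring of A at a maximal
ideal, a discrete valuation ring). (The published statement takes A to be the coordinate ring of a
nonsingular affine curve over an algebraically closed field, which is such a Dedekind domain; its
proof uses only that the local rings of A at nonzero primes are discrete valuation rings and that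
nonzero primes are maximal.) -/
theorem result (A K : Type u) [CommRing A]
    [IsDedekindDomain A] [Field K] [Algebra A K] [IsFractionRing A K] (O : ValuationSubring K) :
    ((algebraMap A K).range ≤ O.toSubring ∧ O ≠ ⊤) ↔
      ∃ v : IsDedekindDomain.HeightOneSpectrum A, O = (v.valuation K).valuationSubring := by
  open IsDedekindDomain in
  constructor
  · rintro ⟨hA, hO⟩
    let ι : A →+* O := (algebraMap A K).codRestrict O.toSubring fun a => hA ⟨a, rfl⟩
    let P : Ideal A := (IsLocalRing.maximalIdeal O).comap ι
    have hunit : ∀ b : A, b ∉ P → (algebraMap A K b)⁻¹ ∈ O := fun b hb => by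
      obtain ⟨u, hu⟩ : IsUnit (ι b) := not_not.1 fun h => hb h
      have h2 : algebraMap A K b * ((↑u⁻¹ : O) : K) = 1 := by
        have := congrArg Subtype.val (u.mul_inv)
        rw [hu] at this
        exact this
      rw [inv_eq_of_mul_eq_one_right h2]
      exact SetLike.coe_mem _
    have hP : P ≠ ⊥ := fun h => hO (eq_top_iff.2 fun x _ => by
      obtain ⟨c, d, hd, rfl⟩ := IsFractionRing.div_surjective (A := A) x
      rw [div_eq_mul_inv]
      exact O.mul_mem _ _ (hA ⟨c, rfl⟩) (hunit d (by rw [h]; simpa using nonZeroDivisors.ne_zero hd)))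
    haveI hPp : P.IsPrime := Ideal.comap_isPrime ι _
    let v : HeightOneSpectrum A := ⟨P, hPp, hP⟩
    refine ⟨v, le_antisymm (fun x hx => ?_) (fun x hx => ?_)⟩
    · obtain ⟨a, b, hb, h | ⟨ha, h⟩⟩ := exists_rep v x
      · change v.valuation K x ≤ 1
        have h1 : v.valuation K (algebraMap A K b) = 1 :=
          le_antisymm (v.valuation_le_one b) (not_lt.1 fun hlt => hb ((v.valuation_lt_one_iff_mem b).1 hlt))
        have h2 := congrArg (v.valuation K) h
        rw [map_mul, h1, mul_one] at h2
        rw [h2]
        exact v.valuation_le_one a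
      · exfalso
        have h3 : algebraMap A K b ∈ O := hA ⟨b, rfl⟩
        have h4 : IsUnit (ι b) := not_not.1 fun hh => hb hh
        have h5 : ι b = ⟨x, hx⟩ * ι a := Subtype.ext h.symm
        exact ha (isUnit_of_mul_isUnit_right (h5 ▸ h4))
    · obtain ⟨a, b, hb, h | ⟨ha, h⟩⟩ := exists_rep v x
      · have hb0 : algebraMap A K b ≠ 0 := by
          rw [map_ne_zero_iff _ (IsFractionRing.injective A K)]
          exact fun h => hb (h ▸ P.zero_mem)
        rw [show x = algebraMap A K a * (algebraMap A K b)⁻¹ by field_simp; exact h]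
        exact O.mul_mem _ _ (hA ⟨a, rfl⟩) (hunit b hb)
      · exfalso
        have hx' : v.valuation K x ≤ 1 := hx
        have h2 := congrArg (v.valuation K) h
        rw [map_mul] at h2
        have h1 : v.valuation K (algebraMap A K b) = 1 :=
          le_antisymm (v.valuation_le_one b) (not_lt.1 fun hlt => hb ((v.valuation_lt_one_iff_mem b).1 hlt))
        have h3 := (v.valuation_lt_one_iff_mem (K := K) a).2 ha
        rw [h1] at h2
        exact absurd h2 (ne_of_lt (lt_of_le_of_lt (mul_le_of_le_one_left' hx') h3))
  · rintro ⟨v, rfl⟩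
    refine ⟨?_, fun h => ?_⟩
    · rintro _ ⟨a, rfl⟩
      exact v.valuation_le_one a
    · obtain ⟨π, hπ⟩ := v.valuation_exists_uniformizer K
      have h1 : π⁻¹ ∈ (v.valuation K).valuationSubring := h ▸ ValuationSubring.mem_top _
      have h2 : v.valuation K π⁻¹ ≤ 1 := h1
      rw [map_inv₀, hπ, ← WithZero.exp_neg, neg_neg, ← WithZero.exp_zero, WithZero.exp_le_exp] at h2
      omega

end Groth.Agent.S11080
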