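import Groth.Statements.S11081
import Mathlib
-- import your own Groth.Agent.* helpers here

set_option autoImplicit false
universe u
attribute [local instance] FractionRing.liftAlgebra
open CAlg

namespace Groth.Agent.S11081

section Aux
theorem trace_exact {k U V W : Type*} [Field k] [AddCommGroup U] [AddCommGroup V] [AddCommGroup W]
    [Module k U] [Module k V] [Module k W] [FiniteDimensional k U] [FiniteDimensional k V] [FiniteDimensional k W]
    (φ : U →ₗ[k] V) (ψ : V →ₗ[k] W) (hφ : Function.Injective φ) (hψ : Function.Surjective ψ)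
    (hex : LinearMap.range φ = LinearMap.ker ψ)
    (f : U →ₗ[k] U) (g : V →ₗ[k] V) (h : W →ₗ[k] W) (h1 : g ∘ₗ φ = φ ∘ₗ f) (h2 : ψ ∘ₗ g = h ∘ₗ ψ) :
    LinearMap.trace k V g = LinearMap.trace k U f + LinearMap.trace k W h := by
  obtain ⟨s, hs⟩ := ψ.exists_rightInverse_of_surjective (LinearMap.range_eq_top.2 hψ)
  obtain ⟨r, hr⟩ := φ.exists_leftInverse_of_injective (LinearMap.ker_eq_bot.2 hφ)
  let r' := r ∘ₗ (LinearMap.id - s ∘ₗ ψ)
  have hid : φ ∘ₗ r' + s ∘ₗ ψ = LinearMap.id := by
    refine LinearMap.ext fun v => ?_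
    have hv : v - s (ψ v) ∈ LinearMap.range φ := by
      rw [hex, LinearMap.mem_ker, map_sub, ← LinearMap.comp_apply ψ s, hs]; simp
    obtain ⟨u, hu⟩ := hv
    have := LinearMap.congr_fun hr u
    simp [r', ← hu] at this ⊢
    rw [this, hu]; abel
  have hψφ : ψ ∘ₗ φ = 0 := LinearMap.ext fun u => (hex.le ⟨u, rfl⟩ : φ u ∈ LinearMap.ker ψ)
  have hr' : r' ∘ₗ φ = LinearMap.id := by
    simp [r', LinearMap.comp_assoc, LinearMap.sub_comp, hψφ, hr]
  conv_lhs => rw [show g = (g ∘ₗ φ) ∘ₗ r' + (g ∘ₗ s) ∘ₗ ψ by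
    rw [LinearMap.comp_assoc, LinearMap.comp_assoc, ← LinearMap.comp_add, hid, LinearMap.comp_id]]
  rw [map_add, LinearMap.trace_comp_comm', LinearMap.trace_comp_comm' ψ (g ∘ₗ s), h1, ← LinearMap.comp_assoc,
    ← LinearMap.comp_assoc, hr', h2, LinearMap.comp_assoc, hs, LinearMap.id_comp, LinearMap.comp_id]

theorem trace_mul_ideal {k C : Type*} [Field k] [CommRing C] [Algebra k C] [Module.Finite k C]
    (J Q : Ideal C) (a y : C) (ha : a ∈ J) (hker : ∀ c, a * c ∈ J * Q ↔ c ∈ Q)
    (hgen : J ≤ Ideal.span {a} ⊔ J * Q) :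
    Algebra.trace k (C ⧸ J * Q) (Ideal.Quotient.mk _ y) =
      Algebra.trace k (C ⧸ Q) (Ideal.Quotient.mk _ y) + Algebra.trace k (C ⧸ J) (Ideal.Quotient.mk _ y) := by
  let φ : (C ⧸ Q) →ₗ[C] C ⧸ J * Q := Submodule.mapQ Q (J * Q) (LinearMap.mulLeft C a) fun c hc => (hker c).2 hc
  let ψ : (C ⧸ J * Q) →ₗ[C] C ⧸ J := Submodule.factor Ideal.mul_le_left
  simp only [Algebra.trace_apply]
  refine trace_exact (φ.restrictScalars k) (ψ.restrictScalars k) ?_ ?_ ?_ _ _ _ ?_ ?_
  · show Function.Injective φ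
    rw [← LinearMap.ker_eq_bot, eq_bot_iff]
    intro x hx
    obtain ⟨c, rfl⟩ := Submodule.Quotient.mk_surjective _ x
    rw [LinearMap.mem_ker] at hx
    rw [Submodule.mem_bot, Submodule.Quotient.mk_eq_zero]
    exact (hker c).1 ((Submodule.Quotient.mk_eq_zero _).1 hx)
  · intro x
    obtain ⟨c, rfl⟩ := Submodule.Quotient.mk_surjective _ x
    refine ⟨Submodule.Quotient.mk c, ?_⟩
    exact rfl
  · ext x
    obtain ⟨c, rfl⟩ := Submodule.Quotient.mk_surjective _ x
    constructor
    · rintro ⟨u, hu⟩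
      obtain ⟨d, rfl⟩ := Submodule.Quotient.mk_surjective _ u
      rw [← hu]
      exact (Submodule.Quotient.mk_eq_zero _).2 (Ideal.mul_mem_right d _ ha)
    · intro hc
      have hc' : c ∈ J := (Submodule.Quotient.mk_eq_zero _).1 hc
      obtain ⟨u, hu, v, hv, rfl⟩ := Submodule.mem_sup.1 (hgen hc')
      obtain ⟨d, rfl⟩ := Ideal.mem_span_singleton'.1 hu
      refine ⟨Submodule.Quotient.mk d, (Submodule.Quotient.eq _).2 ?_⟩
      simpa [mul_comm d a] using (J * Q).neg_mem hv
  · refine LinearMap.ext fun x => ?_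
    obtain ⟨c, rfl⟩ := Submodule.Quotient.mk_surjective _ x
    simp only [LinearMap.coe_comp, Function.comp_apply, LinearMap.coe_restrictScalars, Algebra.coe_lmul_eq_mul, LinearMap.mul_apply_apply, Ideal.Quotient.mk_eq_mk, φ]
    exact congrArg (Ideal.Quotient.mk (J * Q)) (mul_left_comm y a c)
  · refine LinearMap.ext fun x => ?_
    obtain ⟨c, rfl⟩ := Submodule.Quotient.mk_surjective _ x
    rfl

end Aux

/-- Let A be a Dedekind domain, B a Dedekind domain which is a finitely generated torsion-free A-algebra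
whose fraction field is separable over that of A (B is the integral closure of A in a finite
separable extension), p a nonzero prime ideal of A and y an element of B. Then the class modulo p of
the trace of y from B to A is the sum over the primes Q of B lying over p of e(Q|p) times the trace,
from B/Q to A/p, of the class of y modulo Q. -/
theorem result (A B : Type u) [CommRing A] [CommRing B]
    [IsDedekindDomain A] [IsDedekindDomain B] [Algebra A B] [Module.Finite A B] [Module.IsTorsionFree A B]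
    [Algebra.IsSeparable (FractionRing A) (FractionRing B)]
    (p : Ideal A) [p.IsMaximal] (hp : p ≠ ⊥) (y : B) :
    Ideal.Quotient.mk p (Algebra.intTrace A B y) =
      ∑ᶠ Q : p.primesOver B,
        Q.1.ramificationIdx A •
          Algebra.trace (A ⧸ p) (B ⧸ Q.1) (Ideal.Quotient.mk Q.1 y) := by
  classical
  letI := Ideal.Quotient.field p
  rw [← Algebra.trace_quotient_eq_of_isDedekindDomain (S := B) (p := p)]
  set P := p.map (algebraMap A B) with hP
  have hP0 : P ≠ ⊥ := fun h => hp ((Ideal.map_eq_bot_iff_of_injective (FaithfulSMul.algebraMap_injective A B)).1 h)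
  haveI : Module.Finite (A ⧸ p) (B ⧸ P) := Module.Finite.of_restrictScalars_finite A _ _
  let T : Ideal B → A ⧸ p := fun I => Algebra.trace (A ⧸ p) ((B ⧸ P) ⧸ I.map (Ideal.Quotient.mk P))
    (Ideal.Quotient.mk _ (Ideal.Quotient.mk P y))
  have key : ∀ s : Multiset (Ideal B), (∀ Q ∈ s, Q.IsMaximal ∧ Q ≠ ⊥) → P ≤ s.prod → T s.prod = (s.map T).sum := by
    intro s
    induction s using Multiset.induction_on with
    | empty =>
      intro _ _
      haveI : Subsingleton ((B ⧸ P) ⧸ (Multiset.prod (0 : Multiset (Ideal B))).map (Ideal.Quotient.mk P)) := by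
        rw [Multiset.prod_zero, Ideal.one_eq_top, Ideal.map_top]
        exact Ideal.Quotient.subsingleton_iff.2 rfl
      show Algebra.trace _ _ _ = _
      rw [Subsingleton.elim (Ideal.Quotient.mk _ (Ideal.Quotient.mk P y)) 0, map_zero]
      simp
    | cons Q s ih =>
      intro hs hle
      rw [Multiset.prod_cons] at hle
      have hI : P ≤ s.prod := hle.trans Ideal.mul_le_right
      obtain ⟨hQ, hQ0⟩ := hs Q (Multiset.mem_cons_self _ _)
      set I := s.prod with hI'
      have hI0 : I ≠ ⊥ := fun h => hP0 (le_bot_iff.1 (h ▸ hI))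
      have hlt : I * Q < I := lt_of_le_of_ne Ideal.mul_le_left fun h => hQ.ne_top (by
        have : I * Q = I * ⊤ := by rw [h, Ideal.mul_top]
        exact mul_left_cancel₀ hI0 this)
      obtain ⟨a, haI, ha⟩ := SetLike.exists_of_lt hlt
      have hker : ∀ c, a * c ∈ I * Q ↔ c ∈ Q := fun c => by
        refine ⟨fun h => by_contra fun hc => ha ?_, fun h => Ideal.mul_mem_mul haI h⟩
        obtain ⟨d, e, he, hde⟩ := hQ.exists_inv hc
        have : a = d * (a * c) + a * e := by linear_combination (-a) * hde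
        rw [this]
        exact add_mem (Ideal.mul_mem_left _ _ h) (Ideal.mul_mem_mul haI he)
      have hgen : I ≤ Ideal.span {a} ⊔ I * Q := by
        obtain ⟨K, hK⟩ : I ∣ Ideal.span {a} ⊔ I * Q := Ideal.dvd_iff_le.2
          (sup_le ((Ideal.span_singleton_le_iff_mem I).2 haI) Ideal.mul_le_left)
        have hQK : Q ≤ K := Ideal.le_of_dvd (by
          have : Ideal.span {a} ⊔ I * Q ∣ I * Q := Ideal.dvd_iff_le.2 le_sup_right
          rw [hK] at this
          exact (mul_dvd_mul_iff_left hI0).1 this)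
        rcases hQ.eq_of_le (J := K) |> fun f => (em (K = ⊤)).imp id (fun h => f h hQK) with h | h
        · rw [hK, h, Ideal.mul_top]
        · exact absurd (by rw [h, ← hK]; exact le_sup_left (a := Ideal.span {a}) (Ideal.mem_span_singleton_self a)) ha
      rw [Multiset.map_cons, Multiset.sum_cons, ← ih (fun R hR => hs R (Multiset.mem_cons_of_mem hR)) hI, Multiset.prod_cons,
        mul_comm Q I]
      show Algebra.trace (A ⧸ p) ((B ⧸ P) ⧸ (I * Q).map (Ideal.Quotient.mk P)) _ = _
      have hmap := Ideal.map_mul (Ideal.Quotient.mk P) I Q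
      rw [Algebra.trace_eq_of_algEquiv (Ideal.quotientEquivAlgOfEq (A ⧸ p) hmap) _ |>.symm]
      refine trace_mul_ideal _ _ (Ideal.Quotient.mk P a) _ (Ideal.mem_map_of_mem _ haI) (fun c => ?_) ?_
      · obtain ⟨c, rfl⟩ := Ideal.Quotient.mk_surjective c
        have hPQ : P ≤ I * Q := by rwa [mul_comm]
        rw [← map_mul, ← Ideal.map_mul, Ideal.mem_quotient_iff_mem hPQ, Ideal.mem_quotient_iff_mem (hPQ.trans Ideal.mul_le_right)]
        exact hker c
      · refine (Ideal.map_mono hgen).trans ?_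
        rw [Ideal.map_sup, Ideal.map_mul, Ideal.map_span, Set.image_singleton]
  have hmem : ∀ Q ∈ UniqueFactorizationMonoid.factors P, Q.IsMaximal ∧ Q ≠ ⊥ := fun Q hQ => by
    have h := UniqueFactorizationMonoid.prime_of_factor Q hQ
    exact ⟨(Ideal.isPrime_of_prime h).isMaximal h.ne_zero, h.ne_zero⟩
  have hprod : (UniqueFactorizationMonoid.factors P).prod = P :=
    associated_iff_eq.1 (UniqueFactorizationMonoid.factors_prod hP0)
  have := key _ hmem hprod.ge
  rw [hprod, Finset.sum_multiset_map_count] at this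
  have e0 : T P = Algebra.trace (A ⧸ p) (B ⧸ P) (Ideal.Quotient.mk P y) :=
    Algebra.trace_eq_of_algEquiv ((Ideal.quotientEquivAlgOfEq (A ⧸ p) (Ideal.map_quotient_self P)).trans (AlgEquiv.quotientBot (A ⧸ p) (B ⧸ P))).symm (Ideal.Quotient.mk P y)
  rw [← e0, this]
  haveI : Finite (p.primesOver B) := by
    rw [← IsDedekindDomain.coe_primesOverFinset hp B]
    exact (Finset.finite_toSet _).to_subtype
  haveI := Fintype.ofFinite (p.primesOver B)
  rw [finsum_eq_sum_of_fintype, Finset.sum_subtype _ (p := fun Q => Q ∈ p.primesOver B) (fun Q => IsDedekindDomain.mem_primesOverFinset_iff hp B)]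
  refine Finset.sum_congr rfl fun Q _ => ?_
  haveI := Q.2.1
  haveI := Q.2.2
  have hQ0 : Q.1 ≠ ⊥ := Ideal.ne_bot_of_mem_primesOver hp Q.2
  rw [← Ideal.ramificationIdx'_eq_ramificationIdx p Q.1 hp, Ideal.IsDedekindDomain.ramificationIdx'_eq_factors_count hP0 Q.2.1 hQ0]
  congr 1
  have hle : P ≤ Q.1 := Ideal.map_le_iff_le_comap.2 Q.2.2.over.le
  let e : ((B ⧸ P) ⧸ Q.1.map (Ideal.Quotient.mk P)) ≃ₐ[A ⧸ p] B ⧸ Q.1 :=
    AlgEquiv.ofRingEquiv (f := DoubleQuot.quotQuotEquivQuotOfLE hle) (fun x => by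
      obtain ⟨x, rfl⟩ := Ideal.Quotient.mk_surjective x
      rfl)
  exact (Algebra.trace_eq_of_algEquiv e _).symm

end Groth.Agent.S11081
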