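import Mathlib
import Groth.Statements.S11083
-- import your own Groth.Agent.* helpers here

set_option autoImplicit false
universe u v
open CAlg

namespace Groth.Agent.S11083

open scoped TensorProduct

/-- Let k be an algebraically closed field, F a field extension of k which is finitely generated as a
field, and x a transcendence basis of F over k indexed by Fin d. Then the F-vector space of Kähler
differentials of F over k has F-rank exactly d: it is finite-dimensional of dimension the
transcendence degree. -/
theorem result (k : Type u) (F : Type v)
    [Field k] [IsAlgClosed k] [Field F] [Algebra k F] (hF : (⊤ : IntermediateField k F).FG)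
    (d : ℕ) (x : Fin d → F) (hx : IsTranscendenceBasis k x) :
    Module.rank F (Ω[F⁄k]) = d := by
  classical
  haveI : Algebra.EssFiniteType k F := IntermediateField.fg_top_iff.1 hF
  obtain ⟨s, hs, hsep⟩ := exists_isTranscendenceBasis_and_isSeparable_of_perfectField k F
  let a : s → F := (↑)
  let P := MvPolynomial s k
  let Q := FractionRing P
  have hinj : Function.Injective (MvPolynomial.aeval (R := k) a) :=
    algebraicIndependent_iff_injective_aeval.mp hs.1
  let _ : Algebra P F := (MvPolynomial.aeval (R := k) a).toRingHom.toAlgebra
  let _ : Algebra Q F := (IsFractionRing.lift (K := Q) hinj).toAlgebra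
  have : IsScalarTower k P F := IsScalarTower.of_algebraMap_eq fun c =>
    ((MvPolynomial.aeval (R := k) a).commutes c).symm
  have : IsScalarTower P Q F := IsScalarTower.of_algebraMap_eq fun c =>
    (IsFractionRing.lift_algebraMap hinj c).symm
  have hsep' : Algebra.IsSeparable ↥(IntermediateField.adjoin k (Set.range a)) F := by
    rw [show Set.range a = (s : Set F) by ext; simp [a]]
    exact hsep
  have : Algebra.IsSeparable Q F :=
    Algebra.IsSeparable.of_equiv_equiv hs.1.aevalEquivField.symm.toRingEquiv (RingEquiv.refl F) (by
      refine RingHom.ext fun x => ?_
      obtain ⟨q, rfl⟩ := hs.1.aevalEquivField.surjective x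
      simp only [RingHom.coe_comp, Function.comp_apply, RingEquiv.coe_toRingHom]
      show algebraMap Q F (hs.1.aevalEquivField.symm (hs.1.aevalEquivField q)) = _
      rw [AlgEquiv.symm_apply_apply]
      exact (AlgebraicIndependent.aevalEquivField_apply_coe hs.1 q).symm)
  have : Algebra.FormallyEtale Q F := Algebra.FormallyEtale.of_isSeparable Q F
  have : Algebra.FormallyEtale P Q := Algebra.FormallyEtale.of_isLocalization (nonZeroDivisors P)
  have : Algebra.FormallyEtale P F := Algebra.FormallyEtale.comp P Q F
  have h := hx.lift_cardinalMk_eq hs
  rw [← ((KaehlerDifferential.mvPolynomialBasis k s).baseChange F |>.map (KaehlerDifferential.tensorKaehlerEquivOfFormallyEtale k P F)).mk_eq_rank'']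
  simpa using h.symm

end Groth.Agent.S11083
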