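import Mathlib
import Groth.Statements.S11084
-- import your own Groth.Agent.* helpers here

set_option autoImplicit false
universe u
open CAlg

namespace Groth.Agent.S11084

/-- Let k be a field and O a valuation subring of the field of rational functions k(x). Then O contains
the constants k and is different from k(x) if and only if O is the valuation ring of the P-adic
valuation at a nonzero prime P of the polynomial ring k[x], or O is the valuation ring of the
valuation at infinity (given by the degree). (The published statement has k algebraically closed, so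
that these valuation rings correspond to the points of the projective line; the published proof does
not use that k is algebraically closed. The published statement also asserts that distinct points
give distinct valuation rings, which this row does not state, and counts k(x) itself among the
valuation rings containing k; this row excludes it.) -/
theorem result (k : Type u) [Field k] [DecidableEq (RatFunc k)]
    (O : ValuationSubring (RatFunc k)) :
    ((algebraMap k (RatFunc k)).range ≤ O.toSubring ∧ O ≠ ⊤) ↔
      ((∃ v : IsDedekindDomain.HeightOneSpectrum (Polynomial k), O = (v.valuation (RatFunc k)).valuationSubring) ∨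
        O = (RatFunc.inftyValuation k).valuationSubring) := by
  classical
  constructor
  · rintro ⟨hk, hne⟩
    set v := O.valuation with hv
    haveI : v.IsTrivialOn k := ⟨fun a ha => by
      have h1 : v (algebraMap k (RatFunc k) a) ≤ 1 := (O.valuation_le_one_iff _).2 (hk ⟨a, rfl⟩)
      have h2 : v (algebraMap k (RatFunc k) a⁻¹) ≤ 1 := (O.valuation_le_one_iff _).2 (hk ⟨a⁻¹, rfl⟩)
      rw [map_inv₀, map_inv₀] at h2
      refine le_antisymm h1 ?_
      have h0 : 0 < v (algebraMap k (RatFunc k) a) := zero_lt_iff.2 (by simpa using ha)
      exact (inv_le_one₀ h0).1 h2⟩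
    haveI : v.IsNontrivial := by
      obtain ⟨x, hx⟩ : ∃ x, x ∉ O := by
        by_contra h
        push Not at h
        exact hne (SetLike.ext fun x => iff_of_true (h x) trivial)
      refine ⟨⟨x, ?_, fun h => hx ((O.valuation_le_one_iff x).1 h.le)⟩⟩
      simp only [ne_eq, map_eq_zero]
      rintro rfl
      exact hx O.zero_mem
    rcases lt_or_ge 1 (v RatFunc.X) with hlt | hle
    · right
      rw [← O.valuationSubring_valuation]
      exact Valuation.isEquiv_iff_valuationSubring _ _ |>.1 (RatFunc.valuation_isEquiv_inftyValuation_of_one_lt_valuation_X hlt)
    · left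
      set π := RatFunc.uniformizingPolynomial hle
      have hπ0 : v (π : RatFunc k) ≠ 0 := by simpa using RatFunc.uniformizingPolynomial_ne_zero hle
      haveI : v.IsRankOneDiscrete := ⟨⟨Units.mk0 _ hπ0, by
        ext γ
        rw [MonoidWithZeroHom.mem_valueGroup_iff_of_comm, Subgroup.mem_zpowers_iff]
        constructor
        · rintro ⟨z, hz⟩
          refine ⟨1, by simp, (π : RatFunc k) ^ z, ?_⟩
          simp [← hz]
        · rintro ⟨a, ha, b, hab⟩
          have ha0 : a ≠ 0 := fun h => ha (by simp [h])
          have hb0 : b ≠ 0 := fun h => by
            subst h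
            exact ha ((mul_eq_zero.1 (hab.trans (map_zero _))).resolve_right γ.ne_zero)
          obtain ⟨i, hi⟩ := RatFunc.exists_zpow_uniformizingPolynomial hle ha0
          obtain ⟨j, hj⟩ := RatFunc.exists_zpow_uniformizingPolynomial hle hb0
          refine ⟨j - i, Units.ext ?_⟩
          change v a * (γ : _) = v b at hab
          rw [hi, hj] at hab
          rw [Units.val_zpow_eq_zpow_val, Units.val_mk0, zpow_sub₀ hπ0, div_eq_iff (zpow_ne_zero _ hπ0), ← hab, mul_comm], by
        rw [← Units.val_lt_val]
        exact RatFunc.valuation_uniformizingPolynomial_lt_one hle⟩⟩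
      obtain ⟨w, hw⟩ := RatFunc.valuation_isEquiv_adic_of_valuation_X_le_one hle
      refine ⟨w, ?_⟩
      rw [← O.valuationSubring_valuation]
      exact Valuation.isEquiv_iff_valuationSubring _ _ |>.1 hw
  · rintro (⟨w, rfl⟩ | rfl)
    · refine ⟨?_, fun h => ?_⟩
      · rintro _ ⟨a, rfl⟩
        show w.valuation (RatFunc k) (algebraMap k (RatFunc k) a) ≤ 1
        rw [IsScalarTower.algebraMap_apply k (Polynomial k) (RatFunc k)]
        exact w.valuation_le_one _
      · obtain ⟨π, hπ⟩ := w.valuation_exists_uniformizer (RatFunc k)
        have h1 : π⁻¹ ∈ (w.valuation (RatFunc k)).valuationSubring := h ▸ ValuationSubring.mem_top _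
        rw [Valuation.mem_valuationSubring_iff, map_inv₀, hπ] at h1
        exact absurd h1 (by rw [not_le, ← WithZero.exp_neg, ← WithZero.exp_zero, WithZero.exp_lt_exp]; norm_num)
    · refine ⟨?_, fun h => ?_⟩
      · rintro _ ⟨a, rfl⟩
        show RatFunc.inftyValuation k (algebraMap k (RatFunc k) a) ≤ 1
        rcases eq_or_ne a 0 with rfl | ha
        · simp
        · rw [RatFunc.algebraMap_eq_C]
          exact (RatFunc.inftyValuation.C _ ha).le
      · have h1 : (RatFunc.X : RatFunc k) ∈ (RatFunc.inftyValuation k).valuationSubring := h ▸ ValuationSubring.mem_top _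
        rw [Valuation.mem_valuationSubring_iff, RatFunc.inftyValuation.X] at h1
        exact absurd h1 (by rw [not_le, ← WithZero.exp_zero, WithZero.exp_lt_exp]; norm_num)

end Groth.Agent.S11084
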