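import Groth.Statements.S11086
set_option linter.unusedVariables false
set_option backward.isDefEq.respectTransparency false
set_option backward.isDefEq.respectTransparency.types false
open scoped nonZeroDivisors

set_option autoImplicit false
universe u
attribute [local instance] FractionRing.liftAlgebra
open CAlg

namespace Groth.Agent.S11086

/-- Let A be a Dedekind domain, B a Dedekind domain which is a finitely generated torsion-free A-algebra
with fraction field separable over that of A (the integral closure of A in a finite separable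
extension), and S a submonoid of A consisting of non-zero-divisors. Let A_S and B_S be localizations
of A at S and of B at the image of S, with B_S an algebra over A_S compatibly with A and B (so A_S
is integrally closed and B_S is a Dedekind domain, torsion-free over A_S). Then the ideal of B_S
generated by the different of B over A is the different of B_S over A_S. -/
theorem result (A B : Type u) [CommRing A] [CommRing B]
    [IsDedekindDomain A] [IsDedekindDomain B] [Algebra A B] [Module.Finite A B] [Module.IsTorsionFree A B]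
    [Algebra.IsSeparable (FractionRing A) (FractionRing B)]
    (S : Submonoid A) (hS : S ≤ nonZeroDivisors A)
    (Aₛ Bₛ : Type u) [CommRing Aₛ] [CommRing Bₛ] [Algebra A Aₛ] [Algebra B Bₛ] [Algebra Aₛ Bₛ]
    [Algebra A Bₛ] [IsScalarTower A Aₛ Bₛ] [IsScalarTower A B Bₛ]
    [IsLocalization S Aₛ] [IsLocalization (Algebra.algebraMapSubmonoid B S) Bₛ]
    [IsDomain Aₛ] [IsIntegrallyClosed Aₛ] [IsDedekindDomain Bₛ] [Module.IsTorsionFree Aₛ Bₛ] :
    Ideal.map (algebraMap B Bₛ) (differentIdeal A B) = differentIdeal Aₛ Bₛ := by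
  classical
  let K := FractionRing A
  let L := FractionRing B
  have : IsIntegralClosure B A L :=
    IsIntegralClosure.of_isIntegrallyClosed _ _ _
  have : Algebra.IsAlgebraic (FractionRing A) (FractionRing B) :=
    isAlgebraic_of_isFractionRing A B ..
  have : IsLocalization (Algebra.algebraMapSubmonoid B A⁰) L :=
    IsIntegralClosure.isLocalization _ (FractionRing A) _ _
  let f : Aₛ →+* K := IsLocalization.map _ (T := A⁰) (RingHom.id A) hS
  let := f.toAlgebra
  have : IsScalarTower A Aₛ K := IsScalarTower.of_algebraMap_eq'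
    (by rw [RingHom.algebraMap_toAlgebra, IsLocalization.map_comp, RingHomCompTriple.comp_eq])
  let := IsFractionRing.isFractionRing_of_isDomain_of_isLocalization S Aₛ K
  let g : Bₛ →+* L := IsLocalization.map _
      (M := Algebra.algebraMapSubmonoid B S) (T := Algebra.algebraMapSubmonoid B A⁰)
      (RingHom.id B) (Submonoid.monotone_map hS)
  let := g.toAlgebra
  have : IsScalarTower B Bₛ L := IsScalarTower.of_algebraMap_eq'
    (by rw [RingHom.algebraMap_toAlgebra, IsLocalization.map_comp, RingHomCompTriple.comp_eq])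
  let := ((algebraMap K L).comp f).toAlgebra
  have : IsScalarTower Aₛ K L := IsScalarTower.of_algebraMap_eq' rfl
  have : IsScalarTower Aₛ Bₛ L := by
    apply IsScalarTower.of_algebraMap_eq'
    apply IsLocalization.ringHom_ext S
    rw [RingHom.algebraMap_toAlgebra, RingHom.algebraMap_toAlgebra (R := Bₛ), RingHom.comp_assoc,
      RingHom.comp_assoc, ← IsScalarTower.algebraMap_eq, IsScalarTower.algebraMap_eq A B Bₛ,
      IsLocalization.map_comp, RingHom.comp_id, ← RingHom.comp_assoc, IsLocalization.map_comp,
      RingHom.comp_id, ← IsScalarTower.algebraMap_eq, ← IsScalarTower.algebraMap_eq]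
  let := IsFractionRing.isFractionRing_of_isDomain_of_isLocalization
    (Algebra.algebraMapSubmonoid B S) Bₛ L
  have : FiniteDimensional K L := .of_isLocalization A B A⁰
  have : Module.Finite Aₛ Bₛ := Module.Finite.of_isLocalization A B S
  have : IsIntegralClosure Bₛ Aₛ L :=
    IsIntegralClosure.of_isIntegrallyClosed _ _ _
  have hD := coeSubmodule_differentIdeal A K (L := L) (B := B)
  have hD' := coeSubmodule_differentIdeal Aₛ K (L := L) (B := Bₛ)
  set T := Submodule.traceDual A K (1 : Submodule B L) with hT
  set T' := Submodule.traceDual Aₛ K (1 : Submodule Bₛ L) with hT'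
  have memD : ∀ b : B, b ∈ differentIdeal A B ↔
      ∀ x ∈ T, ∃ c : B, algebraMap B L c = algebraMap B L b * x := by
    intro b
    have : b ∈ differentIdeal A B ↔ algebraMap B L b ∈ IsLocalization.coeSubmodule L (differentIdeal A B) := by
      constructor
      · exact fun h => ⟨b, h, rfl⟩
      · rintro ⟨c, hc, he⟩
        rwa [← IsFractionRing.injective B L (show algebraMap B L c = algebraMap B L b from he)]
    rw [this, hD, Submodule.mem_div_iff_forall_mul_mem]
    simp only [Submodule.mem_one, T]
  have memD' : ∀ b : Bₛ, b ∈ differentIdeal Aₛ Bₛ ↔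
      ∀ x ∈ T', ∃ c : Bₛ, algebraMap Bₛ L c = algebraMap Bₛ L b * x := by
    intro b
    have : b ∈ differentIdeal Aₛ Bₛ ↔ algebraMap Bₛ L b ∈ IsLocalization.coeSubmodule L (differentIdeal Aₛ Bₛ) := by
      constructor
      · exact fun h => ⟨b, h, rfl⟩
      · rintro ⟨c, hc, he⟩
        rwa [← IsFractionRing.injective Bₛ L (show algebraMap Bₛ L c = algebraMap Bₛ L b from he)]
    rw [this, hD', Submodule.mem_div_iff_forall_mul_mem]
    simp only [Submodule.mem_one, T']
  -- `T ⊆ T'`
  have hTT' : ∀ x ∈ T, x ∈ T' := by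
    intro x hx
    rw [hT', Submodule.mem_traceDual]
    intro a ha
    obtain ⟨y, rfl⟩ := Submodule.mem_one.mp ha
    obtain ⟨⟨b, ⟨_, s, hs, rfl⟩⟩, hbs⟩ := IsLocalization.surj (Algebra.algebraMapSubmonoid B S) y
    obtain ⟨r, hr⟩ := (Submodule.mem_traceDual.mp (hT ▸ hx)) (algebraMap B L b) (Submodule.mem_one.mpr ⟨b, rfl⟩)
    refine ⟨IsLocalization.mk' Aₛ r ⟨s, hs⟩, ?_⟩
    have hs0 : (algebraMap A K s) ≠ 0 := IsFractionRing.to_map_ne_zero_of_mem_nonZeroDivisors (hS hs)
    apply mul_right_cancel₀ hs0
    have e1 : algebraMap Aₛ K (IsLocalization.mk' Aₛ r ⟨s, hs⟩) * algebraMap A K s = algebraMap A K r := by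
      rw [IsScalarTower.algebraMap_apply A Aₛ K s, ← map_mul, IsLocalization.mk'_spec,
        ← IsScalarTower.algebraMap_apply]
    have hy : algebraMap Bₛ L y * algebraMap A L s = algebraMap B L b := by
      rw [IsScalarTower.algebraMap_apply B Bₛ L b, ← hbs, map_mul,
        ← IsScalarTower.algebraMap_apply B Bₛ L, ← IsScalarTower.algebraMap_apply A B L]
    rw [e1, hr, ← hy, Algebra.traceForm_apply, Algebra.traceForm_apply, IsScalarTower.algebraMap_apply A K L s,
      show x * (algebraMap Bₛ L y * algebraMap K L (algebraMap A K s)) =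
        algebraMap A K s • (x * algebraMap Bₛ L y) by rw [Algebra.smul_def]; ring,
      map_smul, smul_eq_mul]
    ring
  -- every element of `T'` is a fraction of an element of `T`
  have hT'T : ∀ x ∈ T', ∃ s ∈ S, algebraMap A L s * x ∈ T := by
    intro x hx
    rw [hT', Submodule.mem_traceDual] at hx
    obtain ⟨G, hG⟩ := (Module.Finite.fg_top : (⊤ : Submodule A B).FG)
    choose r hr using fun b : B => hx (algebraMap B L b)
      (Submodule.mem_one.mpr ⟨algebraMap B Bₛ b, (IsScalarTower.algebraMap_apply B Bₛ L b).symm⟩)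
    obtain ⟨⟨s, hs⟩, hsr⟩ := IsLocalization.exist_integer_multiples S G r
    refine ⟨s, hs, ?_⟩
    rw [hT, Submodule.mem_traceDual]
    intro a ha
    obtain ⟨b, rfl⟩ := Submodule.mem_one.mp ha
    have hb : b ∈ Submodule.span A (G : Set B) := hG ▸ Submodule.mem_top
    clear ha
    induction hb using Submodule.span_induction with
    | mem b hb =>
      obtain ⟨c, hc⟩ := hsr b hb
      refine ⟨c, ?_⟩
      rw [IsScalarTower.algebraMap_apply A Aₛ K c, hc, Algebra.smul_def, map_mul, hr,
        ← IsScalarTower.algebraMap_apply, Algebra.traceForm_apply, Algebra.traceForm_apply,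
        IsScalarTower.algebraMap_apply A K L s, mul_assoc (algebraMap K L _), ← Algebra.smul_def (algebraMap A K _),
        map_smul, smul_eq_mul]
    | zero => simp
    | add a b _ _ ha hb =>
      rw [map_add, map_add]
      exact add_mem ha hb
    | smul c b _ hb =>
      obtain ⟨d, hd⟩ := hb
      refine ⟨c * d, ?_⟩
      rw [map_mul (algebraMap A K), hd, Algebra.smul_def c b, map_mul (algebraMap B L), ← IsScalarTower.algebraMap_apply A B L,
        Algebra.traceForm_apply, Algebra.traceForm_apply, mul_left_comm _ (algebraMap A L c),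
        IsScalarTower.algebraMap_apply A K L c, ← Algebra.smul_def (algebraMap A K c), map_smul, smul_eq_mul]
  apply le_antisymm
  · rw [Ideal.map_le_iff_le_comap]
    intro d hd
    rw [Ideal.mem_comap, memD']
    intro x hx
    obtain ⟨s, hs, hsx⟩ := hT'T x hx
    obtain ⟨c, hc⟩ := (memD d).mp hd _ hsx
    refine ⟨IsLocalization.mk' Bₛ c (⟨algebraMap A B s, Algebra.mem_algebraMapSubmonoid_of_mem ⟨s, hs⟩⟩ : Algebra.algebraMapSubmonoid B S), ?_⟩
    have hs0 : algebraMap A L s ≠ 0 := by
      rw [IsScalarTower.algebraMap_apply A K L]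
      simpa using IsFractionRing.to_map_ne_zero_of_mem_nonZeroDivisors (K := K) (hS hs)
    apply mul_right_cancel₀ hs0
    rw [show algebraMap A L s = algebraMap Bₛ L (algebraMap B Bₛ (algebraMap A B s)) by
        rw [← IsScalarTower.algebraMap_apply B Bₛ L, ← IsScalarTower.algebraMap_apply A B L],
      ← map_mul, IsLocalization.mk'_spec_mk, ← IsScalarTower.algebraMap_apply B Bₛ L,
      ← IsScalarTower.algebraMap_apply B Bₛ L, hc, ← IsScalarTower.algebraMap_apply B Bₛ L, ← IsScalarTower.algebraMap_apply A B L]
    ring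
  · intro y hy
    obtain ⟨⟨b, t⟩, hbt⟩ := IsLocalization.surj (Algebra.algebraMapSubmonoid B S) y
    have hb : algebraMap B Bₛ b ∈ differentIdeal Aₛ Bₛ := hbt ▸ Ideal.mul_mem_right _ _ hy
    have hfg : T.FG := by
      have h1 := FractionalIdeal.coe_dual_one A K L B
      rw [hT, ← h1]
      exact FractionalIdeal.fg_of_isNoetherianRing le_rfl _
    obtain ⟨G, hG⟩ := hfg
    choose r hr using fun x : {x // x ∈ T} => (memD' _).mp hb x.1 (hTT' x.1 x.2)
    obtain ⟨⟨s, hs⟩, hsr⟩ := IsLocalization.exist_integer_multiples (Algebra.algebraMapSubmonoid B S)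
      G.attach (fun x => r ⟨x.1, hG ▸ Submodule.subset_span x.2⟩)
    have hmem : s * b ∈ differentIdeal A B := by
      rw [memD]
      intro x hx
      rw [← hG] at hx
      induction hx using Submodule.span_induction with
      | mem x hx =>
        obtain ⟨c, hc⟩ := hsr ⟨x, hx⟩ (Finset.mem_attach _ _)
        refine ⟨c, ?_⟩
        rw [IsScalarTower.algebraMap_apply B Bₛ L c, hc, Algebra.smul_def, map_mul, hr,
          map_mul (algebraMap B L), IsScalarTower.algebraMap_apply B Bₛ L s,
          IsScalarTower.algebraMap_apply B Bₛ L b]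
        ring
      | zero => exact ⟨0, by simp⟩
      | add u v _ _ hu hv =>
        obtain ⟨c1, h1⟩ := hu
        obtain ⟨c2, h2⟩ := hv
        exact ⟨c1 + c2, by rw [map_add, h1, h2]; ring⟩
      | smul c u _ hu =>
        obtain ⟨c1, h1⟩ := hu
        exact ⟨c * c1, by rw [map_mul, h1, Algebra.smul_def]; ring⟩
    have hu1 : IsUnit (algebraMap B Bₛ s) := IsLocalization.map_units Bₛ ⟨s, hs⟩
    have hu2 : IsUnit (algebraMap B Bₛ t) := IsLocalization.map_units Bₛ t
    have := Ideal.mem_map_of_mem (algebraMap B Bₛ) hmem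
    rw [map_mul, Ideal.unit_mul_mem_iff_mem _ hu1, ← hbt, Ideal.mul_unit_mem_iff_mem _ hu2] at this
    exact this

end Groth.Agent.S11086
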