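import Groth.Statements.S11091
import Mathlib
import Groth.Agent.AdicLim.Noetherian
import Groth.Agent.S9604
-- import your own Groth.Agent.* helpers here

set_option autoImplicit false
universe u
attribute [local instance] FractionRing.liftAlgebra
open CAlg

namespace Groth.Agent.S11091

/-- Let A be a complete discrete valuation ring and B a Dedekind domain which is a finite torsion-free
A-algebra whose fraction field is separable over that of A (the integral closure of A in a finite
separable extension E of the fraction field F). Then B has exactly one maximal ideal; equivalently,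
since the discrete valuations of E extending a multiple of the valuation of F correspond to the
nonzero primes of B, the valuation of F extends uniquely to E, and B is a complete discrete
valuation ring. -/
theorem result (A B : Type u) [CommRing A] [IsDomain A] [IsDiscreteValuationRing A]
    [IsAdicComplete (IsLocalRing.maximalIdeal A) A]
    [CommRing B] [IsDedekindDomain B] [Algebra A B] [Module.Finite A B] [Module.IsTorsionFree A B]
    [Algebra.IsSeparable (FractionRing A) (FractionRing B)] :
    ∃! M : Ideal B, M.IsMaximal := by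
  classical
  let m := IsLocalRing.maximalIdeal A
  haveI : IsAdicComplete m B := AdicLim.isAdicComplete_of_finite (I := m) B
  haveI : IsAdicComplete (m.map (algebraMap A B)) B :=
    (IsAdicComplete.map_algebraMap_iff _ _).mpr inferInstance
  haveI : IsNoetherianRing B := inferInstance
  set J := (m.map (algebraMap A B)).radical with hJ
  obtain ⟨d, hd⟩ := (m.map (algebraMap A B)).exists_radical_pow_le_of_fg (IsNoetherian.noetherian _)
  haveI : IsAdicComplete J B := (Groth.Agent.S9604.result (m.map (algebraMap A B)) J 1 (d + 1)
    one_pos d.succ_pos (by rw [pow_one]; exact Ideal.le_radical)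
    ((Ideal.pow_le_pow_right d.le_succ).trans hd) B).1 inferInstance
  have hcomap : ∀ M : Ideal B, M.IsMaximal → m.map (algebraMap A B) ≤ M := fun M hM => by
    haveI := hM
    rw [Ideal.map_le_iff_le_comap,
      IsLocalRing.eq_maximalIdeal (Ideal.isMaximal_comap_of_isIntegral_of_isMaximal (R := A) M)]
  obtain ⟨M₁, hM₁⟩ := Ideal.exists_maximal B
  refine ⟨M₁, hM₁, fun M₂ hM₂ => ?_⟩
  by_contra hne
  have hfin : {P : Ideal B | P.IsMaximal}.Finite :=
    (Algebra.QuasiFinite.finite_primesOver (S := B) m).subset fun P (hP : P.IsMaximal) => by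
      haveI := hP
      exact ⟨hP.isPrime, ⟨(IsLocalRing.eq_maximalIdeal
        (Ideal.isMaximal_comap_of_isIntegral_of_isMaximal (R := A) P)).symm⟩⟩
  haveI := hfin.to_subtype
  obtain ⟨e, he⟩ := Ideal.exists_forall_sub_mem_ideal (I := fun P : {P : Ideal B | P.IsMaximal} => (P : Ideal B))
    (fun P P' h => Ideal.isCoprime_iff_sup_eq.2 (P.2.coprime_of_ne P'.2 fun e => h (Subtype.ext e)))
    (fun P => if (P : Ideal B) = M₁ then (1 : B) else 0)
  have hee : e ^ 2 - e ∈ J := by
    rw [hJ, Ideal.radical_eq_sInf]
    refine Ideal.mem_sInf.2 fun {P} ⟨hP, hPp⟩ => ?_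
    haveI := hPp
    have hPmax : P.IsMaximal := Ideal.isMaximal_of_isIntegral_of_isMaximal_comap (R := A) P (by
      have h1 : m ≤ P.comap (algebraMap A B) := Ideal.map_le_iff_le_comap.1 hP
      rw [← (IsLocalRing.maximalIdeal.isMaximal A).eq_of_le
        (Ideal.IsPrime.ne_top (Ideal.IsPrime.comap _)) h1]
      exact IsLocalRing.maximalIdeal.isMaximal A)
    have := he ⟨P, hPmax⟩
    simp only [] at this
    rw [← Ideal.Quotient.eq_zero_iff_mem]
    rw [← Ideal.Quotient.mk_eq_mk_iff_sub_mem] at this
    rw [map_sub, map_pow, this]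
    split_ifs <;> simp
  have h1 := he ⟨M₁, hM₁⟩
  have h2 := he ⟨M₂, hM₂⟩
  simp only [if_true] at h1
  simp only [if_neg hne, sub_zero] at h2
  obtain ⟨e', hroot, hee'⟩ := HenselianRing.is_henselian (I := J) (Polynomial.X ^ 2 - Polynomial.X)
    (Polynomial.monic_X_pow_sub (by simp)) e (by simpa using hee) (by
      refine IsUnit.of_mul_eq_one (Ideal.Quotient.mk J ((Polynomial.X ^ 2 - Polynomial.X : Polynomial B).derivative.eval e)) ?_
      rw [← map_mul, ← map_one (Ideal.Quotient.mk J), Ideal.Quotient.mk_eq_mk_iff_sub_mem]
      have h4 := Ideal.mul_mem_left J 4 hee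
      convert h4 using 1
      simp [Polynomial.derivative_X_pow]
      ring)
  have he' : e' * (e' - 1) = 0 := by
    have := hroot
    simp at this
    linear_combination this
  have hJle : ∀ M : Ideal B, M.IsMaximal → J ≤ M := fun M hM => by
    rw [hJ, ← hM.isPrime.radical]
    exact Ideal.radical_mono (hcomap M hM)
  rcases mul_eq_zero.1 he' with h | h
  · apply hM₁.ne_top
    rw [Ideal.eq_top_iff_one]
    have h' : e ∈ M₁ := by rw [h, zero_sub] at hee'; exact neg_mem_iff.1 (hJle M₁ hM₁ hee')
    simpa using sub_mem h' h1
  · apply hM₂.ne_top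
    rw [Ideal.eq_top_iff_one]
    rw [sub_eq_zero] at h
    have h' := hJle M₂ hM₂ hee'
    rw [h] at h'
    simpa using add_mem h' h2

end Groth.Agent.S11091
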