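import Groth.Statements.S11095
import Groth.Agent.FunFld.GeomTensor
-- import your own Groth.Agent.* helpers here

set_option autoImplicit false
universe u
open CAlg

namespace Groth.Agent.S11095

/-- Let K₀ be a perfect field, K an algebraic extension of K₀ and F₀ a field extension of K₀ such that
K₀ is algebraically closed in F₀. Then the K₀-algebra F₀ ⊗ K is a field; consequently F₀ and K,
embedded in it by x ↦ x ⊗ 1 and y ↦ 1 ⊗ y, are linearly disjoint over K₀. -/
theorem result (K₀ F₀ K : Type u)
    [Field K₀] [PerfectField K₀] [Field F₀] [Algebra K₀ F₀] [Field K] [Algebra K₀ K]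
    [Algebra.IsAlgebraic K₀ K] (h : algebraicClosure K₀ F₀ = ⊥) :
    IsField (TensorProduct K₀ F₀ K) := by
  classical
  have hcl : ∀ y : F₀, IsAlgebraic K₀ y → y ∈ Set.range (algebraMap K₀ F₀) := fun y hy => by
    have : y ∈ algebraicClosure K₀ F₀ := mem_algebraicClosure_iff'.2 hy.isIntegral
    rw [h] at this
    exact IntermediateField.mem_bot.1 this
  haveI : Nontrivial (TensorProduct K₀ F₀ K) :=
    (Algebra.TensorProduct.includeRight_injective (R := K₀) (A := F₀) (B := K) (algebraMap K₀ F₀).injective).nontrivial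
  refine ⟨exists_pair_ne _, mul_comm, fun {x} hx => ?_⟩
  obtain ⟨s, hs⟩ := TensorProduct.exists_finset x
  let L : IntermediateField K₀ K := IntermediateField.adjoin K₀ ↑(s.image Prod.snd)
  haveI : FiniteDimensional K₀ L :=
    IntermediateField.finiteDimensional_adjoin fun b _ => (Algebra.IsAlgebraic.isAlgebraic b).isIntegral
  haveI : Algebra.IsSeparable K₀ L := Algebra.IsAlgebraic.isSeparable_of_perfectField
  have hF : IsField (TensorProduct K₀ F₀ L) :=
    MulEquiv.isField (Groth.Agent.FunFldLib.isField_tensor_of_separable hcl L)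
      (Algebra.TensorProduct.comm K₀ F₀ L).toMulEquiv
  let m := Algebra.TensorProduct.map (AlgHom.id K₀ F₀) L.val
  obtain ⟨y, hy⟩ : ∃ y, m y = x := by
    refine ⟨∑ p ∈ s.attach, p.1.1 ⊗ₜ[K₀] (⟨p.1.2, IntermediateField.subset_adjoin K₀ _
      (Finset.mem_image_of_mem Prod.snd p.2)⟩ : L), ?_⟩
    rw [map_sum, hs, ← Finset.sum_attach s]
    simp [m]
  have hy0 : y ≠ 0 := fun h0 => hx (by rw [← hy, h0, map_zero])
  obtain ⟨z, hz⟩ := hF.mul_inv_cancel hy0
  exact ⟨m z, by rw [← hy, ← map_mul, hz, map_one]⟩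

end Groth.Agent.S11095
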