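import Groth.Statements.S11096
import Mathlib

set_option autoImplicit false
universe u
open Neron

namespace Groth.Agent.S11096

/-- Let a Weierstrass equation have coefficients in a commutative ring R and let I be an ideal with a₃,
a₄, a₆ ∈ I. If the discriminant Δ does not lie in I ^ 2, then a₆ does not lie in I ^ 2 and b₂ does
not lie in I. (For a discrete valuation ring with maximal ideal (π): if π divides a₃, a₄, a₆ and
v(Δ) = 1, then v(a₆) = 1 and π does not divide b₂.) -/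
theorem result {R : Type u} [CommRing R] (W : WeierstrassCurve R)
    (I : Ideal R) (h3 : W.a₃ ∈ I) (h4 : W.a₄ ∈ I) (h6 : W.a₆ ∈ I) (hΔ : W.Δ ∉ I ^ 2) :
    W.a₆ ∉ I ^ 2 ∧ W.b₂ ∉ I := by
  have key : W.a₆ ∈ I ^ 2 ∨ W.b₂ ∈ I → W.Δ ∈ I ^ 2 := by
    intro h
    set q := Ideal.Quotient.mk (I ^ 2)
    have hz : ∀ x y, x ∈ I → y ∈ I → q x * q y = 0 := fun x y hx hy => by
      rw [← map_mul, Ideal.Quotient.eq_zero_iff_mem, pow_two]
      exact Ideal.mul_mem_mul hx hy
    rw [← Ideal.Quotient.eq_zero_iff_mem]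
    have h4' : W.b₄ ∈ I := by
      rw [WeierstrassCurve.b₄]
      exact Ideal.add_mem _ (Ideal.mul_mem_left _ _ h4) (Ideal.mul_mem_left _ _ h3)
    have h6' : W.b₆ ∈ I := by
      rw [WeierstrassCurve.b₆]
      exact Ideal.add_mem _ (Ideal.pow_mem_of_mem _ h3 2 two_pos) (Ideal.mul_mem_left _ _ h6)
    have e1 := hz _ _ h4' h4'
    have e2 := hz _ _ h6' h6'
    have e3 := hz _ _ h4' h6'
    have e4 := hz _ _ h3 h3
    have e5 := hz _ _ h3 h4
    have e6 := hz _ _ h4 h4
    have hb8 : q W.b₈ = q W.b₂ * q W.a₆ := by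
      simp only [WeierstrassCurve.b₈, WeierstrassCurve.b₂, map_add, map_sub, map_mul, map_pow,
        map_ofNat]
      linear_combination (-(q W.a₁)) * e5 + q W.a₂ * e4 - e6
    have hD : q W.Δ = -(q W.b₂ ^ 3 * q W.a₆) := by
      simp only [WeierstrassCurve.Δ, map_add, map_sub, map_mul, map_pow, map_ofNat, map_neg, hb8]
      linear_combination (-8 * q W.b₄) * e1 - 27 * e2 + 9 * q W.b₂ * e3
    rw [hD, neg_eq_zero]
    rcases h with h | h
    · rw [show q W.a₆ = 0 from Ideal.Quotient.eq_zero_iff_mem.2 h, mul_zero]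
    · linear_combination (q W.b₂ ^ 2) * hz _ _ h h6
  exact ⟨fun h => hΔ (key (Or.inl h)), fun h => hΔ (key (Or.inr h))⟩

end Groth.Agent.S11096
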