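import Mathlib
import Groth.Statements.S11097
-- import your own Groth.Agent.* helpers here

set_option autoImplicit false
universe u
open Polynomial
open Neron

namespace Groth.Agent.S11097

/-- Let R be a discrete valuation ring with maximal ideal m and let y² + a₁xy + a₃y = x³ + a₂x² + a₄x +
a₆ be a Weierstrass equation with coefficients in R such that a₃, a₄, a₆ ∈ m and a₆ ∉ m². Then the
affine scheme defined by the equation over R is regular at the point π = x = y = 0 of its special
fibre: the localization of the coordinate ring at a maximal ideal containing the image of m and the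
classes of x and y is a regular local ring. (The published statement asserts regularity of the
projective Weierstrass scheme; this row states it at the point π = x = y = 0 of the special fibre.) -/
theorem result (R : Type u) [CommRing R] [IsDomain R]
    [IsDiscreteValuationRing R] (W : WeierstrassCurve.Affine R)
    (h3 : W.a₃ ∈ IsLocalRing.maximalIdeal R) (h4 : W.a₄ ∈ IsLocalRing.maximalIdeal R)
    (h6 : W.a₆ ∈ IsLocalRing.maximalIdeal R) (h6' : W.a₆ ∉ IsLocalRing.maximalIdeal R ^ 2)
    (P : Ideal W.CoordinateRing) [P.IsMaximal]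
    (hP : ∀ r ∈ IsLocalRing.maximalIdeal R, algebraMap R W.CoordinateRing r ∈ P)
    (hx : WeierstrassCurve.Affine.CoordinateRing.mk W (C X) ∈ P)
    (hy : WeierstrassCurve.Affine.CoordinateRing.mk W X ∈ P) :
    IsRegularLocalRing (Localization.AtPrime P) := by
  classical
  set m := IsLocalRing.maximalIdeal R
  set A := W.CoordinateRing
  set x : A := WeierstrassCurve.Affine.CoordinateRing.mk W (C X) with hxdef
  set y : A := WeierstrassCurve.Affine.CoordinateRing.mk W X with hydef
  have hmk : ∀ F : R[X][X], ∃ a b : A, WeierstrassCurve.Affine.CoordinateRing.mk W F = algebraMap R A ((F.coeff 0).coeff 0) + a * x + b * y := by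
    intro F
    refine ⟨WeierstrassCurve.Affine.CoordinateRing.mk W (C (F.coeff 0).divX), WeierstrassCurve.Affine.CoordinateRing.mk W F.divX, ?_⟩
    conv_lhs => rw [← F.divX_mul_X_add, ← (F.coeff 0).divX_mul_X_add]
    simp only [map_add, map_mul, hxdef, hydef]
    rw [show algebraMap R A ((F.coeff 0).coeff 0) = WeierstrassCurve.Affine.CoordinateRing.mk W (C (C ((F.coeff 0).coeff 0))) from rfl]
    ring
  have ha6 : algebraMap R A W.a₆ ∈ Ideal.span {x, y} := by
    refine Ideal.mem_span_pair.2 ⟨-(x ^ 2 + algebraMap R A W.a₂ * x + algebraMap R A W.a₄), y + algebraMap R A W.a₁ * x + algebraMap R A W.a₃, ?_⟩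
    have h0 : WeierstrassCurve.Affine.CoordinateRing.mk W W.polynomial = 0 := AdjoinRoot.mk_self
    replace h0 := ((congrArg (WeierstrassCurve.Affine.CoordinateRing.mk W) (WeierstrassCurve.Affine.polynomial_eq (W := W))).symm.trans h0)
    simp only [Cubic.toPoly, C_0, zero_mul, zero_add, C_neg, neg_mul, map_neg, C_1, one_mul, C_add, C_mul, C_pow] at h0
    simp only [map_neg, map_add, map_sub, map_mul, map_pow, ← hydef, ← hxdef] at h0
    have e : ∀ r, algebraMap R A r = WeierstrassCurve.Affine.CoordinateRing.mk W (C (C r)) := fun r => rfl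
    simp only [e] at h0 ⊢
    linear_combination h0
  obtain ⟨ϖ, hϖ⟩ := IsDiscreteValuationRing.exists_irreducible R
  have hmϖ : m = Ideal.span {ϖ} := hϖ.maximalIdeal_eq
  have hm : ∀ r ∈ m, algebraMap R A r ∈ Ideal.span {x, y} := by
    intro r hr
    obtain ⟨u, hu⟩ : ϖ ∣ W.a₆ := Ideal.mem_span_singleton.1 (hmϖ ▸ h6)
    have hu' : IsUnit u := by
      by_contra hc
      apply h6'
      rw [hu, pow_two]
      exact Ideal.mul_mem_mul (hmϖ ▸ Ideal.mem_span_singleton_self ϖ) (by exact hc)
    obtain ⟨s, rfl⟩ : ϖ ∣ r := Ideal.mem_span_singleton.1 (hmϖ ▸ hr)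
    obtain ⟨v, hv⟩ := hu'.exists_left_inv
    have : ϖ * s = W.a₆ * (v * s) := by rw [hu]; linear_combination (-(ϖ * s)) * hv
    rw [this, map_mul]
    exact Ideal.mul_mem_right _ _ ha6
  have hcomap : P.comap (algebraMap R A) = m :=
    ((IsLocalRing.maximalIdeal.isMaximal R).eq_of_le (Ideal.IsPrime.ne_top (Ideal.IsPrime.comap _)) fun r hr => hP r hr).symm
  have hxy : Ideal.span {x, y} ≤ P := by
    rw [Ideal.span_le]; rintro z (rfl | rfl) <;> assumption
  have hPeq : P = Ideal.span {x, y} := by
    refine le_antisymm (fun e he => ?_) hxy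
    obtain ⟨F, rfl⟩ := AdjoinRoot.mk_surjective e
    obtain ⟨a, b, hab⟩ := hmk F
    rw [show AdjoinRoot.mk W.polynomial F = _ from hab] at he ⊢
    have h1 : a * x + b * y ∈ Ideal.span {x, y} := Ideal.mem_span_pair.2 ⟨a, b, rfl⟩
    rw [add_assoc] at he ⊢
    refine add_mem (hm _ ?_) h1
    rw [← hcomap, Ideal.mem_comap]
    exact (Ideal.add_mem_iff_left _ (hxy h1)).1 he
  have : Module.Free R[X] A := Module.Free.of_basis (WeierstrassCurve.Affine.CoordinateRing.basis W)
  have : IsNoetherianRing A := inferInstanceAs (IsNoetherianRing (AdjoinRoot W.polynomial))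
  let q : Ideal R[X] := P.comap (algebraMap R[X] A)
  have : q.IsPrime := Ideal.IsPrime.comap _
  have : P.LiesOver q := ⟨rfl⟩
  have hqP : q.height ≤ P.height := by
    rw [Ideal.height_eq_height_add_of_liesOver_of_hasGoingDown q P]; exact le_self_add
  have hmC : (m.map (C : R →+* R[X])).IsPrime := Ideal.isPrime_map_C_of_isPrime
  have hlt1 : (⊥ : Ideal R[X]) < m.map C := by
    refine bot_lt_iff_ne_bot.2 fun h => hϖ.ne_zero ?_
    have : C ϖ ∈ m.map (C : R →+* R[X]) := Ideal.mem_map_of_mem _ (hmϖ ▸ Ideal.mem_span_singleton_self ϖ)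
    rw [h, Ideal.mem_bot, C_eq_zero] at this
    exact this
  have hlt2 : m.map C < q := by
    refine lt_of_le_of_ne (Ideal.map_le_iff_le_comap.2 fun r hr => ?_) fun h => ?_
    · exact hP r hr
    · have : (X : R[X]) ∈ q := hx
      rw [← h, Ideal.mem_map_C_iff] at this
      have h1 := this 1
      rw [coeff_X_one] at h1
      exact (IsLocalRing.maximalIdeal.isMaximal R).ne_top ((Ideal.eq_top_iff_one _).2 h1)
  have h2 : (2 : ℕ∞) ≤ P.height := by
    have a1 := Ideal.height_strict_mono_of_isPrime hlt1
    have a2 := Ideal.height_strict_mono_of_isPrime hlt2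
    have b1 : (1 : ℕ∞) ≤ (m.map (C : R →+* R[X])).height := Order.one_le_iff_pos.2 (lt_of_le_of_lt zero_le a1)
    have b2 : (1 : ℕ∞) + 1 ≤ q.height := le_trans (add_le_add b1 le_rfl) (Order.add_one_le_of_lt a2)
    exact le_trans (by rwa [one_add_one_eq_two] at b2) hqP
  refine IsRegularLocalRing.of_spanFinrank_maximalIdeal_le _ ?_
  rw [IsLocalization.AtPrime.ringKrullDim_eq_height P (Localization.AtPrime P), ← IsLocalization.AtPrime.map_eq_maximalIdeal P (Localization.AtPrime P)]
  have hs : (P.map (algebraMap A (Localization.AtPrime P))).spanFinrank ≤ 2 := by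
    rw [show P.map (algebraMap A (Localization.AtPrime P)) = Ideal.span (algebraMap A (Localization.AtPrime P) '' {x, y}) from (congrArg (Ideal.map (algebraMap A (Localization.AtPrime P))) hPeq).trans (Ideal.map_span _ _)]
    refine le_trans (Submodule.spanFinrank_span_le_ncard_of_finite ((Set.toFinite _).image _)) ?_
    exact le_trans (Set.ncard_image_le (Set.toFinite _)) (le_trans (Set.ncard_insert_le _ _) (by simp))
  calc ((P.map (algebraMap A (Localization.AtPrime P))).spanFinrank : WithBot ℕ∞) ≤ ((2 : ℕ∞) : WithBot ℕ∞) := by exact_mod_cast hs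
    _ ≤ _ := by exact_mod_cast h2

end Groth.Agent.S11097
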