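import Groth.Statements.S11100
import Groth.Agent.FibrewiseCrit.GrpRegular
import Groth.Agent.DepthLib.RegularInfSq
import Groth.Agent.FlatDescent.Scheme
-- import your own Groth.Agent.* helpers here

set_option autoImplicit false
universe u
open CategoryTheory AlgebraicGeometry
open Neron

namespace Groth.Agent.S11100

section Lem

open IsLocalRing

theorem isRegularLocalRing_quotient_of_retraction {A B A' : Type u} [CommRing A] [CommRing B] [CommRing A']
    [IsLocalRing A] [IsLocalRing A'] [IsRegularLocalRing B] (α : A →+* B) [IsLocalHom α] (σ : B →+* A') [IsLocalHom σ]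
    (h : Function.Bijective (σ.comp α)) : IsRegularLocalRing (B ⧸ (maximalIdeal A).map α) := by
  let e := RingEquiv.ofBijective _ h
  let ρ : B →+* A := e.symm.toRingHom.comp σ
  have hρ : ∀ a, ρ (α a) = a := fun a => e.symm_apply_apply a
  let J := (maximalIdeal A).map α
  have hJ : J ≤ maximalIdeal B := ((local_hom_TFAE α).out 0 2 rfl rfl).mp ‹_›
  refine Groth.Agent.DepthLib.isRegularLocalRing_quotient_of_inf_sq_le _ B J rfl hJ ?_
  rintro y ⟨hyJ, hy2⟩
  have hρm : maximalIdeal B ≤ (maximalIdeal A).comap ρ := fun b hb => by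
    show ρ b ∈ maximalIdeal A
    rw [mem_maximalIdeal, mem_nonunits_iff]
    intro hu
    exact (mem_maximalIdeal b).1 hb (IsUnit.of_map σ b ((MulEquiv.isUnit_map e.symm).1 hu))
  have h1 : y - α (ρ y) ∈ maximalIdeal B * J := by
    clear hy2
    induction hyJ using Submodule.span_induction with
    | mem x hx => obtain ⟨a, -, rfl⟩ := hx; simp [hρ]
    | zero => simp
    | add x z _ _ hx hz =>
      rw [map_add, map_add, add_sub_add_comm]
      exact add_mem hx hz
    | smul b x hx hx' =>
      rw [smul_eq_mul, map_mul, map_mul,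
        show b * x - α (ρ b) * α (ρ x) = (b - α (ρ b)) * x + α (ρ b) * (x - α (ρ x)) by ring]
      refine add_mem (Ideal.mul_mem_mul ?_ hx) (Ideal.mul_mem_left _ _ hx')
      rw [mem_maximalIdeal, mem_nonunits_iff]
      intro hu
      have := hu.map ρ
      rw [map_sub, hρ, sub_self] at this
      exact not_isUnit_zero this
  have h2 : ρ y ∈ maximalIdeal A ^ 2 := by
    have : (maximalIdeal B ^ 2).map ρ ≤ maximalIdeal A ^ 2 := by
      rw [Ideal.map_pow]
      exact Ideal.pow_right_mono (Ideal.map_le_iff_le_comap.2 hρm) 2
    exact this (Ideal.mem_map_of_mem ρ hy2)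
  have h3 : α (ρ y) ∈ maximalIdeal B * J := by
    have := Ideal.mem_map_of_mem α h2
    rw [Ideal.map_pow, pow_two] at this
    exact Ideal.mul_mono hJ le_rfl this
  simpa using add_mem h1 h3

end Lem


/-- Let R be a Dedekind domain and p : X → Spec R flat and locally of finite presentation with X regular
(all local rings regular). Then every section s of p factors through the smooth locus of p: for
every point t of Spec R, p is smooth at s(t). (The published statement is for regular arithmetic
surfaces over a Dedekind domain with perfect residue fields; this row assumes only that X is flat,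
locally of finite presentation and regular.) -/
theorem result {R : Type u} [CommRing R] [IsDedekindDomain R]
    {X : Scheme.{u}} (p : X ⟶ Spec (CommRingCat.of R)) [Flat p] [LocallyOfFinitePresentation p]
    (hreg : ∀ x : X, IsRegularLocalRing (X.presheaf.stalk x))
    (s : Spec (CommRingCat.of R) ⟶ X) (hs : s ≫ p = 𝟙 _) (t : Spec (CommRingCat.of R)) :
    s.base t ∈ p.smoothLocus := by
  let k : CommRingCat.{u} := (Spec (CommRingCat.of R)).residueField t
  let j := (Spec (CommRingCat.of R)).fromSpecResidueField t
  let g : p.fiber t ⟶ Spec k := p.fiberToSpecResidueField t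
  let v : Spec k ⟶ p.fiber t := Limits.pullback.lift (j ≫ s) (𝟙 _) (by rw [Category.assoc, hs, Category.comp_id, Category.id_comp])
  have hv : v ≫ g = 𝟙 _ := Limits.pullback.lift_snd _ _ _
  let o : Spec k := IsLocalRing.closedPoint k
  have hz : p.fiberι t (v o) = s t := by
    have : v ≫ p.fiberι t = j ≫ s := Limits.pullback.lift_fst _ _ _
    exact congr($(this) o).trans (congrArg s (Scheme.fromSpecResidueField_apply t o))
  have key : ∀ w : X, w = s t → ∃ σ : X.presheaf.stalk w →+* (Spec (CommRingCat.of R)).presheaf.stalk t,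
      IsLocalHom σ ∧ Function.Bijective (σ.comp (p.stalkMap w).hom) := by
    rintro w rfl
    refine ⟨(s.stalkMap t).hom, inferInstanceAs (IsLocalHom (s.stalkMap t).hom), ?_⟩
    haveI : IsOpenImmersion (s ≫ p) := by rw [hs]; infer_instance
    have h2 : IsIso ((s ≫ p).stalkMap t) := inferInstance
    rw [Scheme.Hom.stalkMap_comp] at h2
    exact @ConcreteCategory.bijective_of_isIso _ _ _ _ _ _ _ _ (p.stalkMap (s t) ≫ s.stalkMap t) h2
  obtain ⟨σ, hσl, hσ⟩ := key _ hz
  haveI := hσl
  haveI := hreg (p.fiberι t (v o))
  haveI : IsLocalHom (p.stalkMap (p.fiberι t (v o))).hom := inferInstance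
  have hregz : IsRegularLocalRing ((p.fiber t).presheaf.stalk (v o)) := by
    exact @IsRegularLocalRing.of_ringEquiv _ _ (isRegularLocalRing_quotient_of_retraction (p.stalkMap (p.fiberι t (v o))).hom σ hσ) _ _
      ((Ideal.quotEquivOfEq (Groth.FlatDescent.ker_stalkMap_fiberι p t (v o)).symm).trans
        (RingHom.quotientKerEquivOfSurjective ((p.fiberι t).stalkMap_surjective (v o))))
  exact Groth.FibrewiseCrit.mem_smoothLocus_of_flat_of_fibre p (s t) (Flat.stalkMap p _) t (v o) hz
    ((@Groth.FibrewiseCrit.mem_smoothLocus_iff_regular_of_section k _ _ g inferInstance v hv o).2 hregz)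

end Groth.Agent.S11100
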