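import Groth.Statements.S11103
import Mathlib

-- import your own Groth.Agent.* helpers here

set_option autoImplicit false
set_option linter.style.haveILetI false
universe u
open CategoryTheory CategoryTheory.Limits AlgebraicGeometry
open Neron

namespace Groth.Agent.S11103

/-- Let R be a Dedekind domain with fraction field K, let R' be a Dedekind domain finite étale over R
(the integral closure of R in a finite unramified extension K' of K), and let N be a Néron model
over Spec R of its generic fibre N_K. Then the base change N' = N ×_R R' is a Néron model over Spec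
R' of its generic fibre N'_{K'}: it is smooth, separated and of finite type over Spec R', and every
K'-morphism from the generic fibre of a smooth R'-scheme to N'_{K'} extends uniquely to an
R'-morphism into N'. (The published statement concerns the Néron model of an elliptic curve with the
mapping property for rational maps; this row allows any N and tests the mapping property on
morphisms from smooth schemes. The property generally fails for ramified extensions.) -/
theorem result (R R' : Type u) [CommRing R] [IsDedekindDomain R]
    [CommRing R'] [IsDedekindDomain R'] [Algebra R R'] [Module.Finite R R'] [Algebra.Etale R R']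
    (N : Over (Spec (CommRingCat.of R)))
    (hN : Neron.IsNeronModelOf R N ((Neron.genericFibre R).obj N) (Iso.refl _)) :
    Neron.IsNeronModelOf R'
      ((Over.pullback (Spec.map (CommRingCat.ofHom (algebraMap R R')))).obj N)
      ((Neron.genericFibre R').obj ((Over.pullback (Spec.map (CommRingCat.ofHom (algebraMap R R')))).obj N))
      (Iso.refl _) := by
  obtain ⟨hsm, hsep, hlft, hqc, huniv⟩ := hN
  haveI : Module.Flat R R' := inferInstance
  haveI : Module.IsTorsionFree R R' := inferInstance
  haveI hfs : FaithfulSMul R R' := inferInstance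
  haveI : Algebra.IsIntegral R R' := Algebra.IsIntegral.of_finite R R'
  letI : Algebra (FractionRing R) (FractionRing R') := FractionRing.liftAlgebra R (FractionRing R')
  haveI : IsIntegralClosure R' R (FractionRing R') := IsIntegralClosure.of_isIntegrallyClosed _ _ _
  haveI : Algebra.IsAlgebraic (FractionRing R) (FractionRing R') := isAlgebraic_of_isFractionRing R R' ..
  haveI hloc : IsLocalization (Algebra.algebraMapSubmonoid R' (nonZeroDivisors R)) (FractionRing R') :=
    IsIntegralClosure.isLocalization _ (FractionRing R) _ _
  haveI : Algebra.IsPushout R R' (FractionRing R) (FractionRing R') :=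
    Algebra.isPushout_of_isLocalization (nonZeroDivisors R) (FractionRing R) R' (FractionRing R')
  let π := Spec.map (CommRingCat.ofHom (algebraMap R R'))
  let q := Spec.map (CommRingCat.ofHom (algebraMap (FractionRing R) (FractionRing R')))
  have hsq : IsPullback (Neron.genPt R') q π (Neron.genPt R) :=
    isPullback_SpecMap_of_isPushout _ _ _ _ (CommRingCat.isPushout_iff_isPushout.2 inferInstance)
  refine ⟨?_, ?_, ?_, ?_, fun Y hY => ?_⟩
  · show Smooth (pullback.snd N.hom π); infer_instance
  · show IsSeparated (pullback.snd N.hom π); infer_instance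
  · show LocallyOfFiniteType (pullback.snd N.hom π); infer_instance
  · show QuasiCompact (pullback.snd N.hom π); infer_instance
  haveI : Smooth π := by
    rw [HasRingHomProperty.Spec_iff (P := @Smooth)]
    exact RingHom.smooth_algebraMap.2 inferInstance
  let Y₀ : Over (Spec (CommRingCat.of R)) := Over.mk (Y.hom ≫ π)
  haveI := hY
  have hY₀ : Smooth Y₀.hom := by show Smooth (Y.hom ≫ π); infer_instance
  have hP : IsPullback (pullback.fst Y.hom (Neron.genPt R')) (pullback.snd Y.hom (Neron.genPt R') ≫ q)
      (Y.hom ≫ π) (Neron.genPt R) :=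
    (IsPullback.of_hasPullback Y.hom (Neron.genPt R')).paste_vert hsq
  have key : ∀ v : pullback Y.hom (Neron.genPt R') ⟶ N.left,
      v ≫ N.hom = pullback.fst Y.hom (Neron.genPt R') ≫ Y.hom ≫ π →
      ∃! g : Y₀ ⟶ N, pullback.fst Y.hom (Neron.genPt R') ≫ g.left = v := by
    intro v hv
    let ψ : pullback Y₀.hom (Neron.genPt R) ⟶ pullback N.hom (Neron.genPt R) :=
      pullback.lift (hP.isoPullback.inv ≫ v) (pullback.snd _ _) (by
        rw [Category.assoc, hv, IsPullback.isoPullback_inv_fst_assoc, ← pullback.condition]
        rfl)
    obtain ⟨g, hg⟩ := (huniv Y₀ hY₀).2 (Over.homMk ψ (pullback.lift_snd _ _ _))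
    simp only [Iso.refl_hom, Category.comp_id] at hg
    have hgv : ∀ g : Y₀ ⟶ N, ((Neron.genericFibre R).map g).left ≫ pullback.fst N.hom (Neron.genPt R) =
        pullback.fst Y₀.hom (Neron.genPt R) ≫ g.left := fun g => pullback.lift_fst _ _ _
    have h1 : pullback.fst Y.hom (Neron.genPt R') ≫ g.left = v := by
      have h2 := hgv g
      rw [hg] at h2
      erw [pullback.lift_fst] at h2
      rw [← cancel_epi hP.isoPullback.inv, IsPullback.isoPullback_inv_fst_assoc]
      exact h2.symm
    refine ⟨g, h1, fun g₂ hg₂ => (huniv Y₀ hY₀).1 ?_⟩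
    simp only [Iso.refl_hom, Category.comp_id]
    ext : 1
    apply pullback.hom_ext
    · erw [hgv g₂, hgv g]
      rw [← cancel_epi hP.isoPullback.hom]; erw [IsPullback.isoPullback_hom_fst_assoc,
        IsPullback.isoPullback_hom_fst_assoc, hg₂, h1]
    · exact (pullback.lift_snd _ _ _).trans (pullback.lift_snd _ _ _).symm
  let N' := (Over.pullback π).obj N
  have hmap : ∀ g : Y ⟶ N', ((Neron.genericFibre R').map g).left ≫ pullback.fst N'.hom (Neron.genPt R') =
      pullback.fst Y.hom (Neron.genPt R') ≫ g.left := fun g => pullback.lift_fst _ _ _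
  have hN' : ∀ (g : Y.left ⟶ N'.left), g ≫ N'.hom = Y.hom → (g ≫ pullback.fst N.hom π) ≫ N.hom = Y.hom ≫ π := by
    intro g hg
    rw [Category.assoc, pullback.condition, ← Category.assoc]
    exact congrArg (· ≫ π) hg
  constructor
  · intro g₁ g₂ h
    simp only [Iso.refl_hom, Category.comp_id] at h
    have h' : pullback.fst Y.hom (Neron.genPt R') ≫ g₁.left = pullback.fst Y.hom (Neron.genPt R') ≫ g₂.left := by
      rw [← hmap, ← hmap, h]
    let a₁ : Y₀ ⟶ N := Over.homMk (g₁.left ≫ pullback.fst N.hom π) (hN' g₁.left (Over.w g₁))
    let a₂ : Y₀ ⟶ N := Over.homMk (g₂.left ≫ pullback.fst N.hom π) (hN' g₂.left (Over.w g₂))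
    have hv : (pullback.fst Y.hom (Neron.genPt R') ≫ g₁.left ≫ pullback.fst N.hom π) ≫ N.hom =
        pullback.fst Y.hom (Neron.genPt R') ≫ Y.hom ≫ π := by
      rw [Category.assoc]
      exact congrArg (pullback.fst Y.hom (Neron.genPt R') ≫ ·) (hN' g₁.left (Over.w g₁))
    have ha : a₁ = a₂ := (key _ hv).unique rfl (by show _ ≫ g₂.left ≫ _ = _; rw [← Category.assoc, ← h', Category.assoc])
    ext : 1
    apply pullback.hom_ext
    · exact congrArg CommaMorphism.left ha
    · exact (Over.w g₁).trans (Over.w g₂).symm
  · intro φ
    let v : pullback Y.hom (Neron.genPt R') ⟶ N.left :=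
      φ.left ≫ pullback.fst N'.hom (Neron.genPt R') ≫ pullback.fst N.hom π
    have hwφ : φ.left ≫ pullback.snd N'.hom (Neron.genPt R') = pullback.snd Y.hom (Neron.genPt R') := Over.w φ
    have hv : v ≫ N.hom = pullback.fst Y.hom (Neron.genPt R') ≫ Y.hom ≫ π := by
      rw [pullback.condition_assoc]
      simp only [v, Category.assoc, pullback.condition]
      rw [← reassoc_of% hwφ, ← pullback.condition_assoc]
      rfl
    obtain ⟨g, hg, -⟩ := key v hv
    have hwg : g.left ≫ N.hom = Y.hom ≫ π := Over.w g
    refine ⟨Over.homMk (pullback.lift g.left Y.hom hwg) (pullback.lift_snd _ _ _), ?_⟩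
    simp only [Iso.refl_hom, Category.comp_id]
    ext : 1
    apply pullback.hom_ext
    · erw [hmap]
      apply pullback.hom_ext
      · rw [Category.assoc]
        erw [pullback.lift_fst]
        rw [hg, Category.assoc]
      · rw [Category.assoc, Category.assoc]
        erw [pullback.lift_snd, pullback.condition (f := N'.hom)]
        rw [reassoc_of% hwφ, ← pullback.condition]
    · exact (pullback.lift_snd _ _ _).trans hwφ.symm

end Groth.Agent.S11103
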