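import Groth.Statements.S11104
import Mathlib
import Groth.Agent.DepthLib.RegularQuotient
-- import your own Groth.Agent.* helpers here

set_option autoImplicit false
universe u
open Neron

namespace Groth.Agent.S11104

set_option maxHeartbeats 1000000 in
theorem equation_smul_notMem_sq (R : Type u) [CommRing R] [IsDomain R] [IsDiscreteValuationRing R]
    (W : WeierstrassCurve.Affine R) (hΔ : W.Δ ≠ 0)
    (h3 : W.a₃ ∈ IsLocalRing.maximalIdeal R) (h4 : W.a₄ ∈ IsLocalRing.maximalIdeal R)
    (h6 : W.a₆ ∈ IsLocalRing.maximalIdeal R) (h6' : W.a₆ ∉ IsLocalRing.maximalIdeal R ^ 2)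
    (Q : Ideal (Polynomial (Polynomial R))) [Q.IsPrime] (hFQ : W.polynomial ∈ Q)
    (s : Polynomial (Polynomial R)) (hs : s ∉ Q) : s * W.polynomial ∉ Q ^ 2 := by
  classical
  intro hsF
  -- any map killing `Q ^ 2` and sending `s` to a unit kills the equation
  have hker : ∀ {C : Type u} [CommRing C] (ψ : Polynomial (Polynomial R) →+* C),
      (∀ z ∈ Q, ∀ w ∈ Q, ψ z * ψ w = 0) → IsUnit (ψ s) → ψ W.polynomial = 0 := by
    intro C _ ψ hψ hu
    have h0 : ψ (s * W.polynomial) = 0 := by
      have hle : Q ^ 2 ≤ RingHom.ker ψ := by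
        rw [pow_two, Ideal.mul_le]
        intro z hz w hw
        rw [RingHom.mem_ker, map_mul]
        exact hψ z hz w hw
      exact hle hsF
    rw [map_mul] at h0
    exact hu.mul_right_eq_zero.1 h0
  let L := Q.ResidueField
  let χ : Polynomial (Polynomial R) →+* L := algebraMap _ L
  have hχ : ∀ z, χ z = 0 ↔ z ∈ Q := fun z => Ideal.algebraMap_residueField_eq_zero
  let φ : R →+* L := χ.comp (Polynomial.C.comp Polynomial.C)
  let x : L := χ (Polynomial.C Polynomial.X)
  let y : L := χ Polynomial.X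
  have hC : ∀ r : R, χ (Polynomial.C (Polynomial.C r)) = φ r := fun r => rfl
  have hE : y ^ 2 + φ W.a₁ * x * y + φ W.a₃ * y - (x ^ 3 + φ W.a₂ * x ^ 2 + φ W.a₄ * x + φ W.a₆) = 0 := by
    rw [← (hχ _).2 hFQ]
    simp [WeierstrassCurve.Affine.polynomial, φ, x, y]
    ring
  have hpart : φ W.a₁ * y - (3 * x ^ 2 + 2 * φ W.a₂ * x + φ W.a₄) = 0 ∧
      2 * y + φ W.a₁ * x + φ W.a₃ = 0 := by
    have key : ∀ a b : L,
        a * (φ W.a₁ * y - (3 * x ^ 2 + 2 * φ W.a₂ * x + φ W.a₄)) + b * (2 * y + φ W.a₁ * x + φ W.a₃) = 0 := by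
      intro a b
      let ψ : Polynomial (Polynomial R) →+* DualNumber L :=
        Polynomial.eval₂RingHom (Polynomial.eval₂RingHom ((TrivSqZeroExt.inlHom L L).comp φ)
          (TrivSqZeroExt.inl x + TrivSqZeroExt.inr a)) (TrivSqZeroExt.inl y + TrivSqZeroExt.inr b)
      have hfst : (TrivSqZeroExt.fstHom L L L).toRingHom.comp ψ = χ := by
        refine Polynomial.ringHom_ext' (Polynomial.ringHom_ext (fun r => ?_) ?_) ?_
        · simp [ψ, φ, x]
        · simp [ψ, x]
        · simp [ψ, y]
      have hfst' : ∀ z, TrivSqZeroExt.fst (ψ z) = χ z := fun z => RingHom.congr_fun hfst z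
      have h := hker ψ (fun z hz w hw => TrivSqZeroExt.ext
        (by rw [TrivSqZeroExt.fst_mul, hfst', (hχ z).2 hz, zero_mul]; rfl)
        (by simp [TrivSqZeroExt.snd_mul, hfst', (hχ z).2 hz, (hχ w).2 hw]))
        (TrivSqZeroExt.isUnit_iff_isUnit_fst.2 (by rw [hfst']; exact Ne.isUnit fun h => hs ((hχ _).1 h)))
      have h2 := congrArg TrivSqZeroExt.snd h
      simp only [WeierstrassCurve.Affine.polynomial, ψ, pow_succ, pow_zero, one_mul, map_add, map_sub, map_mul,
        Polynomial.coe_eval₂RingHom, Polynomial.eval₂_X, Polynomial.eval₂_C, RingHom.coe_comp,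
        Function.comp_apply, TrivSqZeroExt.inlHom_apply, TrivSqZeroExt.snd_add, TrivSqZeroExt.snd_sub,
        TrivSqZeroExt.snd_mul, TrivSqZeroExt.fst_add, TrivSqZeroExt.fst_mul, TrivSqZeroExt.fst_inl,
        TrivSqZeroExt.snd_inl, TrivSqZeroExt.fst_inr, TrivSqZeroExt.snd_inr, TrivSqZeroExt.snd_zero,
        smul_eq_mul, MulOpposite.smul_eq_mul_unop, MulOpposite.unop_op, add_zero, zero_add] at h2
      linear_combination h2
    exact ⟨by simpa using key 1 0, by simpa using key 0 1⟩
  by_cases hinj : φ W.Δ = 0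
  · -- the residue characteristic case
    have hm : ∀ r ∈ IsLocalRing.maximalIdeal R, φ r = 0 := by
      have hle : RingHom.ker φ ≤ IsLocalRing.maximalIdeal R :=
        IsLocalRing.le_maximalIdeal (RingHom.ker_ne_top φ)
      have hne : RingHom.ker φ ≠ ⊥ := fun h => hΔ (by
        have : W.Δ ∈ RingHom.ker φ := hinj
        rwa [h, Ideal.mem_bot] at this)
      haveI : (RingHom.ker φ).IsPrime := RingHom.ker_isPrime φ
      haveI := Ideal.IsPrime.isMaximal (p := RingHom.ker φ) inferInstance hne
      intro r hr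
      exact (IsLocalRing.eq_maximalIdeal (I := RingHom.ker φ) inferInstance).ge hr
    obtain ⟨hX, hY⟩ := hpart
    rw [hm _ h3, hm _ h4, hm _ h6] at hE
    rw [hm _ h4] at hX
    rw [hm _ h3] at hY
    have hx0 : x = 0 := by
      have : x ^ 3 = 0 := by linear_combination 2 * hE - x * hX - y * hY
      exact pow_eq_zero_iff three_ne_zero |>.1 this
    have hy0 : y = 0 := by
      have : y ^ 2 = 0 := by rw [hx0] at hE; linear_combination hE
      exact pow_eq_zero_iff two_ne_zero |>.1 this
    let ε : Polynomial (Polynomial R) →+* R :=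
      (Polynomial.evalRingHom (0 : R)).comp (Polynomial.evalRingHom (0 : Polynomial R))
    have hεχ : φ.comp ε = χ := by
      refine Polynomial.ringHom_ext' (Polynomial.ringHom_ext (fun r => ?_) ?_) ?_
      · simp [ε, φ]
      · rw [RingHom.comp_apply, RingHom.comp_apply]
        simpa [ε] using hx0.symm
      · simpa [ε] using hy0.symm
    have hεQ : ∀ z, ε z ∈ IsLocalRing.maximalIdeal R ↔ z ∈ Q := fun z => by
      rw [← hχ, ← hεχ, RingHom.comp_apply]
      refine ⟨fun h => hm _ h, fun h => ?_⟩
      by_contra hc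
      exact ((IsLocalRing.notMem_maximalIdeal.1 hc).map φ).ne_zero h
    have h := hker ((Ideal.Quotient.mk (IsLocalRing.maximalIdeal R ^ 2)).comp ε)
      (fun z hz w hw => by
        show Ideal.Quotient.mk (IsLocalRing.maximalIdeal R ^ 2) (ε z) * Ideal.Quotient.mk (IsLocalRing.maximalIdeal R ^ 2) (ε w) = 0
        rw [← map_mul, Ideal.Quotient.eq_zero_iff_mem, pow_two]
        exact Ideal.mul_mem_mul ((hεQ z).2 hz) ((hεQ w).2 hw))
      (IsUnit.map (Ideal.Quotient.mk (IsLocalRing.maximalIdeal R ^ 2))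
          (IsLocalRing.notMem_maximalIdeal.1 fun h => hs ((hεQ s).1 h)))
    rw [RingHom.comp_apply, Ideal.Quotient.eq_zero_iff_mem] at h
    have : ε W.polynomial = -W.a₆ := by simp [ε, WeierstrassCurve.Affine.polynomial]
    rw [this] at h
    exact h6' (by simpa using neg_mem h)
  · have hns := (((W.map φ).toAffine).equation_iff_nonsingular_of_Δ_ne_zero (x := x) (y := y)
      (by rw [WeierstrassCurve.map_Δ]; exact hinj)).1 (by
        rw [WeierstrassCurve.Affine.equation_iff']
        exact hE)
    rw [WeierstrassCurve.Affine.nonsingular_iff'] at hns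
    rcases hns.2 with h | h
    · exact h hpart.1
    · exact h hpart.2


theorem regular_atPrime_of_ker {B A : Type u} [CommRing B] [CommRing A] [IsRegularRing B]
    (π : B →+* A) (hπ : Function.Surjective π) (f : B) (hfker : ∀ z, π z = 0 ↔ f ∣ z) (P : Ideal A) [P.IsPrime]
    (hf2 : ∀ s, s ∉ P.comap π → s * f ∉ (P.comap π) ^ 2) : IsRegularLocalRing (Localization.AtPrime P) := by
  classical
  let Q := P.comap π
  haveI : Q.IsPrime := Ideal.IsPrime.comap π
  let S := Localization.AtPrime Q
  haveI : IsRegularLocalRing S := IsRegularRing.isRegularLocalRing_localization Q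
  set F : S := algebraMap _ S f with hF
  have hF1 : F ∈ IsLocalRing.maximalIdeal S := by
    rw [IsLocalization.AtPrime.to_map_mem_maximal_iff S Q]
    show π f ∈ P
    rw [(hfker f).2 dvd_rfl]
    exact Ideal.zero_mem _
  have hF2 : F ∉ IsLocalRing.maximalIdeal S ^ 2 := by
    intro hmem
    rw [← Localization.AtPrime.map_eq_maximalIdeal, ← Ideal.map_pow,
      IsLocalization.algebraMap_mem_map_algebraMap_iff Q.primeCompl] at hmem
    obtain ⟨s, hs, hsF⟩ := hmem
    exact hf2 s hs hsF
  have hspan : (IsLocalRing.maximalIdeal S).spanFinrank ≠ 0 := by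
    intro h0
    have : IsLocalRing.maximalIdeal S = ⊥ :=
      (Submodule.spanFinrank_eq_zero_iff_eq_bot (IsNoetherian.noetherian _)).1 h0
    exact hF2 (by rw [this, Ideal.mem_bot] at hF1; rw [hF1]; exact Ideal.zero_mem _)
  obtain ⟨n, hn⟩ := Nat.exists_eq_succ_of_ne_zero hspan
  obtain ⟨hreg, -⟩ := DepthLib.isRegularLocalRing_quotient_singleton hn hF1 hF2
  let g : S →+* Localization.AtPrime P := Localization.localRingHom Q P π rfl
  have hg : Function.Surjective g := RingHom.surjective_localRingHom_of_surjective π hπ P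
  have hker : RingHom.ker g = Ideal.span {F} := by
    refine le_antisymm (fun z hz => ?_) ?_
    · obtain ⟨⟨a, s⟩, rfl⟩ := IsLocalization.mk'_surjective Q.primeCompl z
      dsimp only at hz ⊢
      rw [RingHom.mem_ker, Localization.localRingHom_mk', IsLocalization.mk'_eq_zero_iff] at hz
      obtain ⟨⟨t, ht⟩, htz⟩ := hz
      obtain ⟨t', rfl⟩ := hπ t
      obtain ⟨b, hb⟩ := (hfker _).1 ((map_mul π t' a).trans htz)
      have ht' : t' ∈ Q.primeCompl := ht
      refine Ideal.mem_span_singleton.2 ⟨IsLocalization.mk' S b (⟨t', ht'⟩ * s), ?_⟩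
      rw [hF, IsLocalization.mul_mk'_eq_mk'_of_mul]
      rw [← hb]
      exact (IsLocalization.mk'_cancel a s ⟨t', ht'⟩ |>.symm.trans (by rw [mul_comm s]; congr 1; exact mul_comm _ _))
    · rw [Ideal.span_singleton_le_iff_mem, RingHom.mem_ker, hF, Localization.localRingHom_to_map,
        show π f = 0 from (hfker f).2 dvd_rfl, map_zero]
  exact IsRegularLocalRing.of_ringEquiv
    ((Ideal.quotEquivOfEq hker.symm).trans (RingHom.quotientKerEquivOfSurjective hg))

/-- Let R be a discrete valuation ring with maximal ideal m and y² + a₁xy + a₃y = x³ + a₂x² + a₄x + a₆ a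
Weierstrass equation over R with nonzero discriminant (an elliptic curve over the fraction field)
such that a₃, a₄, a₆ ∈ m and a₆ ∉ m². Then the affine scheme over R defined by the equation is
regular: every localization of its coordinate ring at a prime ideal is a regular local ring. (The
published statement asserts regularity of the projective Weierstrass scheme in P²_R; this row states
it for the affine part.) -/
theorem result (R : Type u) [CommRing R] [IsDomain R]
    [IsDiscreteValuationRing R] (W : WeierstrassCurve.Affine R) (hΔ : W.Δ ≠ 0)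
    (h3 : W.a₃ ∈ IsLocalRing.maximalIdeal R) (h4 : W.a₄ ∈ IsLocalRing.maximalIdeal R)
    (h6 : W.a₆ ∈ IsLocalRing.maximalIdeal R) (h6' : W.a₆ ∉ IsLocalRing.maximalIdeal R ^ 2)
    (P : Ideal W.CoordinateRing) [P.IsPrime] :
    IsRegularLocalRing (Localization.AtPrime P) := by
  exact regular_atPrime_of_ker (AdjoinRoot.mk W.polynomial) AdjoinRoot.mk_surjective W.polynomial
    (fun z => AdjoinRoot.mk_eq_zero) P (fun s hs =>
      haveI : (P.comap (AdjoinRoot.mk W.polynomial)).IsPrime := Ideal.IsPrime.comap _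
      equation_smul_notMem_sq R W hΔ h3 h4 h6 h6' _
        (by rw [Ideal.mem_comap, AdjoinRoot.mk_self]; exact P.zero_mem) s hs)

end Groth.Agent.S11104
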