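import Groth.Statements.S1182
import Groth.Agent.FlatAscent.Smooth
import Groth.Agent.FlatAscent.Descent
import Groth.Agent.NormalBase.Main
-- import your own Groth.Agent.* helpers here

set_option autoImplicit false
universe u
open Desc

namespace Groth.Agent.S1182

set_option backward.isDefEq.respectTransparency false in

/-- Let A → B be a smooth ring map. If A is a normal ring (all local rings integrally closed domains)
then so is B; and if moreover A → B is faithfully flat and B is normal, then A is normal. So
normality can be checked smooth-locally. -/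
theorem result (A B : Type u) [CommRing A] [CommRing B] [Algebra A B] [Algebra.Smooth A B] :
    (EGA4.IsNormalRing A → EGA4.IsNormalRing B) ∧
    (Module.FaithfullyFlat A B → EGA4.IsNormalRing B → EGA4.IsNormalRing A) := by
  refine ⟨fun hA => ?_, fun hff hB => FlatAscent.isNormalRing_of_faithfullyFlat (S := B) hB⟩
  obtain ⟨A₀, B₀, _, _, hfg, hsm, ⟨e⟩⟩ := Algebra.Smooth.exists_subalgebra_fg ℤ A B
  haveI : Algebra.FiniteType ℤ A₀ := (Subalgebra.fg_iff_finiteType A₀).mp hfg
  haveI : IsNoetherianRing A₀ := Algebra.FiniteType.isNoetherianRing ℤ A₀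
  haveI : IsNoetherianRing B₀ := Algebra.FiniteType.isNoetherianRing A₀ B₀
  have h := NormalBase.isNormalRing_tensor (A := A₀) (A' := B₀) (FlatAscent.isNormalHom_of_smooth A₀ B₀) hA
  let e' : B ≃+* TensorProduct A₀ B₀ A :=
    e.toRingEquiv.trans (Algebra.TensorProduct.comm A₀ A B₀).toRingEquiv
  letI : Algebra B (TensorProduct A₀ B₀ A) := e'.toRingHom.toAlgebra
  let el : B ≃ₗ[B] TensorProduct A₀ B₀ A :=
    { e'.toAddEquiv with map_smul' := fun r x => e'.map_mul r x }
  haveI : Module.FaithfullyFlat B (TensorProduct A₀ B₀ A) := Module.FaithfullyFlat.of_linearEquiv B B el.symm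
  exact FlatAscent.isNormalRing_of_faithfullyFlat (S := TensorProduct A₀ B₀ A) h

end Groth.Agent.S1182
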