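import Groth.Statements.S11107
import Groth.Agent.CodimOneExt.Basic
import Groth.Agent.BirQF.CodimOne
import Groth.Agent.S1182
import Groth.Agent.FibreP.Good
-- import your own Groth.Agent.* helpers here

set_option autoImplicit false
universe u
open CategoryTheory AlgebraicGeometry
open Neron

namespace Groth.Agent.S11107

/-- Let R be a Dedekind domain, X → Spec R a smooth morphism, Y → Spec R a proper morphism, U ⊆ X a
dense open subscheme and f : U → Y a morphism over Spec R (a rational map X ⇢ Y over R). Then f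
extends, over Spec R, to an open subscheme V ⊇ U of X such that every point of X outside V has a
local ring of Krull dimension at least 2: the locus where the rational map is undefined has
codimension at least two. (The published statement assumes the rational map dominant; this row does
not.) -/
theorem result {R : Type u} [CommRing R] [IsDedekindDomain R]
    {X Y : Scheme.{u}} (pX : X ⟶ Spec (CommRingCat.of R)) (pY : Y ⟶ Spec (CommRingCat.of R))
    [Smooth pX] [IsProper pY] (U : X.Opens) (hU : Dense (U : Set X))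
    (f : (U : Scheme.{u}) ⟶ Y) (hf : f ≫ pY = U.ι ≫ pX) :
    ∃ (V : X.Opens) (hUV : U ≤ V) (g : (V : Scheme.{u}) ⟶ Y),
      g ≫ pY = V.ι ≫ pX ∧ X.homOfLE hUV ≫ g = f ∧
      ∀ x : X, x ∉ V → (2 : WithBot ℕ∞) ≤ ringKrullDim (X.presheaf.stalk x) := by
  haveI : IsLocallyNoetherian X := LocallyOfFiniteType.isLocallyNoetherian pX
  have hnorm : ∀ x : X, IsDomain (X.presheaf.stalk x) ∧ IsIntegrallyClosed (X.presheaf.stalk x) := by
    intro x
    obtain ⟨_, ⟨V, hV, rfl⟩, hxV, -⟩ :=
      X.isBasis_affineOpens.exists_subset_of_mem_open (Set.mem_univ x) isOpen_univ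
    let φ : CommRingCat.of R ⟶ Γ(X, V) := Spec.preimage (hV.fromSpec ≫ pX)
    have hφ : Spec.map φ = hV.fromSpec ≫ pX := Spec.map_preimage _
    haveI : Smooth (Spec.map φ) := by rw [hφ]; infer_instance
    algebraize [φ.hom]
    haveI : Algebra.Smooth R Γ(X, V) := (HasRingHomProperty.Spec_iff (P := @Smooth)).mp ‹Smooth (Spec.map φ)›
    have hn := (S1182.result R Γ(X, V)).1 FibreP.isNormalRing_of_domain
    letI : Algebra Γ(X, V) (X.presheaf.stalk x) := (X.presheaf.germ V x hxV).hom.toAlgebra
    haveI : IsLocalization.AtPrime (X.presheaf.stalk x) (hV.primeIdealOf ⟨x, hxV⟩).asIdeal := hV.isLocalization_stalk ⟨x, hxV⟩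
    let p := (hV.primeIdealOf ⟨x, hxV⟩).asIdeal
    let e : Localization.AtPrime p ≃ₐ[Γ(X, V)] X.presheaf.stalk x :=
      IsLocalization.algEquiv p.primeCompl _ _
    haveI := (hn p).1
    haveI := (hn p).2
    exact ⟨e.symm.toMulEquiv.isDomain _, IsIntegrallyClosed.of_equiv e.toRingEquiv⟩
  haveI : ∀ x : X, _root_.IsReduced (X.presheaf.stalk x) := fun x => by
    haveI := (hnorm x).1
    infer_instance
  haveI : AlgebraicGeometry.IsReduced X := isReduced_of_isReduced_stalk X
  obtain ⟨V, hUV, g, h1, h2, h3⟩ := CodimOneExt.exists_glue_extensions pY pX U hU f hf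
    (fun x => ringKrullDim (X.presheaf.stalk x) ≤ 1) fun x hx => by
      haveI := (hnorm x).1
      haveI := (hnorm x).2
      haveI := BirQF.valuationRing_of_dim_le_one (X.presheaf.stalk x) hx
      exact CodimOneExt.exists_local_extension_proper pY pX U f hf x
        (CodimOneExt.mem_of_dense_of_mem_gens hU (CodimOneExt.gen_mem_gens x))
  refine ⟨V, hUV, g, h1, h2, fun x hx => ?_⟩
  by_contra hlt
  refine hx (h3 x ?_)
  revert hlt
  generalize ringKrullDim (X.presheaf.stalk x) = d
  intro hlt
  induction d with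
  | bot => exact bot_le
  | coe a =>
    induction a with
    | top => exact (hlt le_top).elim
    | coe n =>
      change ¬ ((2 : ℕ∞) : WithBot ℕ∞) ≤ ((n : ℕ∞) : WithBot ℕ∞) at hlt
      rw [WithBot.coe_le_coe] at hlt
      change ((n : ℕ∞) : WithBot ℕ∞) ≤ ((1 : ℕ∞) : WithBot ℕ∞)
      rw [WithBot.coe_le_coe]
      norm_cast at hlt ⊢
      lia

end Groth.Agent.S11107
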