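import Groth.Statements.S11122
import Groth.Agent.DQC.PerfVanish
import Groth.Agent.DQC.RHomExact
import Groth.Agent.S1039
import Groth.Agent.DQCPush.Bound
import Groth.Agent.DQC.Local
-- import your own Groth.Agent.* helpers here

set_option autoImplicit false
universe u
open CategoryTheory CategoryTheory.Limits AlgebraicGeometry
attribute [local instance] HasDerivedCategory.standard
open Perf

namespace Groth.Agent.S11122

open CategoryTheory.Pretriangulated DCohPerf in
lemma isQCohD_of_isPC {X : Scheme.{u}} {K : DCoh.D X} (h : ∀ m : ℤ, DCoh.IsPseudoCoherentD m K) : DCoh.IsQCohD K := by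
  intro i
  choose W j hj w hw hs using (isPC_iff (i - 1) K).1 (h _)
  haveI := hj
  refine QCohLib.isQuasicoherent_of_cover (ι := X) j (fun x => ⟨x, w x, hw x⟩) fun x => ?_
  obtain ⟨E, α, hE, hα⟩ := hs x
  haveI := hα.1 i (by omega)
  exact @QCohLib.isQuasicoherent_of_iso _ _ _
    (asIso ((DerivedCategory.homologyFunctor (W x).Modules i).map α) ≪≫ (homology_restrict (j x) K i).some)
    (DQC.isQCohD_toD E (fun n => (isCoh_finLocFree (hE.2 n)).1) i)

/-- Let f : X ⟶ Y be a quasi-compact quasi-separated morphism of schemes with Y quasi-compact, and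
assume the unbounded derived direct image Rf_* exists. Suppose there is an integer k such that for
every integer n and every object F of D(O_X) with bounded cohomology that is n-pseudo-coherent, Rf_*
F is (n + k)-pseudo-coherent. Then for every object F of D(O_X) that is n-pseudo-coherent for all n
(no boundedness assumed), Rf_* F is n-pseudo-coherent for all n. (The published statement obtains
the bound for proper pseudo-coherent f from a cited finiteness theorem; this row assumes the bound.) -/
theorem result {X Y : Scheme.{u}} (f : X ⟶ Y) [QuasiCompact f]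
    [QuasiSeparated f] [CompactSpace Y] [DCoh.HasRpush f] (k : ℤ)
    (hK : ∀ (F : DCoh.D X) (n a b : ℤ), F.IsGE a → F.IsLE b → DCoh.IsPseudoCoherentD n F →
      DCoh.IsPseudoCoherentD (n + k) ((DCoh.Rpush f).obj F))
    (F : DCoh.D X) (hF : ∀ m : ℤ, DCoh.IsPseudoCoherentD m F) (m : ℤ) :
    DCoh.IsPseudoCoherentD m ((DCoh.Rpush f).obj F) := by
  haveI : HasInjectiveResolutions X.Modules := HigherDirect.hasInjectiveResolutions_modules X
  obtain ⟨N, hN⟩ := DQCPush.exists_Bound f
  let t : Triangulated.TStructure (DCoh.D X) := DerivedCategory.TStructure.t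
  have hq := isQCohD_of_isPC hF
  haveI := QuasiCompact.compactSpace_of_compactSpace f
  obtain ⟨b, hb⟩ := S1039.exists_bound (hF 0)
  let c : ℤ := min (m - k) (m - N)
  have hT := t.triangleLEGE_distinguished (c - 1) c (by omega) F
  let T := (t.triangleLEGE (c - 1) c (by omega)).obj F
  haveI : T.obj₁.IsLE (c - 1) := inferInstanceAs (t.IsLE ((t.truncLE (c - 1)).obj F) (c - 1))
  haveI hge : T.obj₃.IsGE c := inferInstanceAs (t.IsGE ((t.truncGE c).obj F) c)
  have hπ : ∀ i, c ≤ i → IsIso ((DerivedCategory.homologyFunctor X.Modules i).map T.mor₂) :=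
    fun i hi => DQC.isIso_homology_truncGEπ F c i hi
  have h3 : DCoh.IsPseudoCoherentD c T.obj₃ := DCohPerf.isPC_of_nq (hF c) T.mor₂
    ⟨fun i hi => hπ i hi.le, @IsIso.epi_of_iso _ _ _ _ _ (hπ c le_rfl)⟩
  have hle : T.obj₃.IsLE (max b c) := (DerivedCategory.isLE_iff _ _).2 fun i hi =>
    haveI := hπ i (by omega)
    (DerivedCategory.isZero_of_isLE F b i (by omega)).of_iso (asIso ((DerivedCategory.homologyFunctor X.Modules i).map T.mor₂)).symm
  have hR3 : DCoh.IsPseudoCoherentD m ((DCoh.Rpush f).obj T.obj₃) :=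
    DCohPerf.isPC_mono (hK T.obj₃ c c (max b c) hge hle h3) (by omega)
  obtain ⟨d, hd⟩ := DerAdj.exists_distinguished_map (Scheme.Modules.pushforward f) (DerAdj.modules_hKinj X) _ hT
  refine DCohPerf.isPC_triangle₂ m hd (DCohPerf.isPC_of_isZero m fun i hi => ?_) hR3
  exact DQCPush.isZero_HD_Rpush_high f hN T.obj₁ (DQCPush.isQCohD_truncLE F hq (c - 1)) (c - 1) i (by omega)

end Groth.Agent.S11122
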