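import Groth.Statements.S11126
import Groth.Agent.FaithAdj.Basic
-- import your own Groth.Agent.* helpers here

set_option autoImplicit false
universe w u₁ u₂
open CategoryTheory CategoryTheory.Limits
open CohDer

namespace Groth.Agent.S11126

/-- Let A and B be abelian categories with small hom-sets and all small colimits, B having exact
filtered colimits and a small family of noetherian objects which is separating. Let F : A ⥤ B be
faithful and exact with a right adjoint G preserving filtered colimits. Then A has exact filtered
colimits and admits a small separating family of noetherian objects. -/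
theorem result
    {A : Type u₁} [Category.{w} A] [Abelian A] [HasColimitsOfSize.{w, w} A]
    {B : Type u₂} [Category.{w} B] [Abelian B] [HasColimitsOfSize.{w, w} B] [AB5OfSize.{w, w} B]
    {ι : Type w} (s : ι → B) (hsN : ∀ i, IsNoetherianObject (s i))
    (hsep : ∀ ⦃X Y : B⦄ (f g : X ⟶ Y), (∀ (i : ι) (h : s i ⟶ X), h ≫ f = h ≫ g) → f = g)
    (F : A ⥤ B) (G : B ⥤ A) (adj : F ⊣ G) [F.Additive] [F.Faithful]
    [PreservesFiniteLimits F] [PreservesFiniteColimits F] [PreservesFilteredColimitsOfSize.{w, w} G] :
    AB5OfSize.{w, w} A ∧
      ∃ (κ : Type w) (t : κ → A), (∀ k, IsNoetherianObject (t k)) ∧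
        ∀ ⦃X Y : A⦄ (f g : X ⟶ Y), (∀ (k : κ) (h : t k ⟶ X), h ≫ f = h ≫ g) → f = g := by
  classical
  open Groth.Agent.FaithAdj Groth.Agent.SubobjQuot in
  have := hasSeparator_of_family s hsep
  have := isGrothendieckAbelian_target (B := B)
  have := wellPowered F G adj
  refine ⟨ab5 F G adj, {k // IsNoetherianObject (genObj G s k)}, fun k => genObj G s k.1,
    fun k => k.2, fun X Y f g h => ?_⟩
  refine separating F G adj s hsep IsNoetherianObject
    (fun {X'} N K k a T hN Z θ => ?_) f g (fun k hk => h ⟨k, hk⟩)
  have : IsNoetherianObject (N : B) := by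
    rw [hN]
    refine isNoetherianObject_finset_sup T _ fun x _ => ?_
    have := hsN (k x)
    exact isNoetherianObject_of_epi (factorThruImageSubobject (a x))
  obtain ⟨l, hl⟩ := exists_mono_map_comap F G adj N
  have := isNoetherianObject_of_mono (F.map θ.hom ≫ l)
  exact isNoetherianObject_of_map F G adj Z

end Groth.Agent.S11126
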