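import Groth.Statements.S11127
import Groth.Agent.SubobjQuot.Noetherian
import Mathlib.CategoryTheory.Abelian.GrothendieckAxioms.Colim
import Mathlib.CategoryTheory.Adjunction.Limits
import Mathlib.CategoryTheory.Functor.ReflectsIso.Balanced
-- import your own Groth.Agent.* helpers here

set_option autoImplicit false
universe w u₁ u₂
open CategoryTheory CategoryTheory.Limits
open CohDer
open scoped ZeroObject

namespace Groth.Agent.S11127

/-- Let A and B be abelian categories with small hom-sets and all small colimits, B having exact
filtered colimits and a small separating family of noetherian objects. Let F : A ⥤ B be faithful and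
exact with a right adjoint G preserving filtered colimits. Then an object a of A is noetherian if
and only if F a is noetherian in B. -/
theorem result
    {A : Type u₁} [Category.{w} A] [Abelian A] [HasColimitsOfSize.{w, w} A]
    {B : Type u₂} [Category.{w} B] [Abelian B] [HasColimitsOfSize.{w, w} B] [AB5OfSize.{w, w} B]
    {ι : Type w} (s : ι → B) (hsN : ∀ i, IsNoetherianObject (s i))
    (hsep : ∀ ⦃X Y : B⦄ (f g : X ⟶ Y), (∀ (i : ι) (h : s i ⟶ X), h ≫ f = h ≫ g) → f = g)
    (F : A ⥤ B) (G : B ⥤ A) (adj : F ⊣ G) [F.Additive] [F.Faithful]
    [PreservesFiniteLimits F] [PreservesFiniteColimits F] [PreservesFilteredColimitsOfSize.{w, w} G]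
    (a : A) : IsNoetherianObject a ↔ IsNoetherianObject (F.obj a) := by
  classical
  constructor
  · intro _
    have : G.IsRightAdjoint := adj.isRightAdjoint
    have := adj.leftAdjoint_preservesColimits.{w, w}
    let X := F.obj a
    let K := Σ i : ι, (s i ⟶ X)
    let N : Finset K → Subobject X := fun J => J.sup fun k => imageSubobject k.2
    have hNnoeth : ∀ J, IsNoetherianObject (N J : B) := fun J =>
      Groth.Agent.SubobjQuot.isNoetherianObject_finset_sup J _ fun k _ => by
        have := hsN k.1
        exact Groth.Agent.SubobjQuot.isNoetherianObject_of_epi (factorThruImageSubobject k.2)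
    have hN : Monotone N := fun J J' h => Finset.sup_mono h
    let D : Finset K ⥤ B :=
      { obj := fun J => (N J : B)
        map := fun {J J'} h => Subobject.ofLE _ _ (hN h.le)
        map_id := fun J => Subobject.ofLE_refl _
        map_comp := fun f g => (Subobject.ofLE_comp_ofLE _ _ _ _ _).symm }
    have : IsFiltered (Finset K) := inferInstance
    have : IsConnected (Finset K) := IsFiltered.isConnected _
    let c : Cocone D := Cocone.mk X
      { app := fun J => (N J).arrow
        naturality := fun J J' h =>
          (Subobject.ofLE_arrow (hN h.le)).trans (Category.comp_id _).symm }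
    have hcmono : Mono (colimit.desc D c) := by
      let α : D ⟶ (Functor.const _).obj X := c.ι
      have : ∀ J, Mono (α.app J) := fun J => inferInstanceAs (Mono (N J).arrow)
      have := NatTrans.mono_of_mono_app α
      exact colim.map_mono' α (colimit.isColimit D) (isColimitConstCocone (Finset K) X) _ (fun J =>
        (colimit.ι_desc c J).trans (Category.comp_id _).symm)
    have hcepi : Epi (colimit.desc D c) := by
      refine Preadditive.epi_of_cancel_zero _ fun {Z} g hg => ?_
      refine hsep g 0 fun i h => ?_
      have hle : imageSubobject h ≤ N {(⟨i, h⟩ : K)} :=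
        Finset.le_sup (f := fun k : K => imageSubobject k.2) (Finset.mem_singleton_self _)
      have e : h = factorThruImageSubobject h ≫ Subobject.ofLE _ _ hle ≫
          colimit.ι D {(⟨i, h⟩ : K)} ≫ colimit.desc D c := by
        rw [colimit.ι_desc]
        exact ((congrArg (factorThruImageSubobject h ≫ ·) (Subobject.ofLE_arrow hle)).trans
          (imageSubobject_arrow_comp h)).symm
      rw [e]
      simp only [Category.assoc, hg, comp_zero]
    have : IsIso (colimit.desc D c) := isIso_of_mono_of_epi _
    have : IsIso ((colimit.isColimit D).desc c) := this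
    let hc : IsColimit c := IsColimit.ofPointIso (colimit.isColimit D)
    let η : a ⟶ G.obj X := adj.unit.app a
    let P : Finset K → Subobject a := fun J =>
      (Subobject.pullback η).obj (Subobject.mk (G.map (N J).arrow))
    have hP : Monotone P := fun J J' h => leOfHom ((Subobject.pullback η).map
      (homOfLE (Subobject.mk_le_mk_of_comm (G.map (Subobject.ofLE _ _ (hN h)))
        (by rw [← G.map_comp, Subobject.ofLE_arrow]))))
    obtain ⟨_, ⟨J₀, rfl⟩, hmax⟩ :=
      (wellFounded_gt (α := Subobject a)).has_min (Set.range P) ⟨P ∅, ∅, rfl⟩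
    have hle : ∀ J, P J ≤ P J₀ := fun J => by
      have h1 : P J₀ ≤ P (J₀ ∪ J) := hP Finset.subset_union_left
      rcases h1.lt_or_eq with h2 | h2
      · exact absurd h2 (hmax _ ⟨_, rfl⟩)
      · exact h2 ▸ hP Finset.subset_union_right
    let πD := cokernel.π ((P J₀).arrow ≫ η)
    let r : cokernel (P J₀).arrow ⟶ cokernel ((P J₀).arrow ≫ η) :=
      cokernel.desc _ (η ≫ πD) (by rw [← Category.assoc]; exact cokernel.condition _)
    let QA : Finset K ⥤ A :=
      { obj := fun J => cokernel (G.map (N J).arrow ≫ πD)
        map := fun {J J'} h => cokernel.desc _ (cokernel.π _) (by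
          rw [← Subobject.ofLE_arrow (hN h.le), G.map_comp, Category.assoc, Category.assoc,
            ← Category.assoc _ πD, cokernel.condition, comp_zero])
        map_id := fun J => coequalizer.hom_ext (by simp)
        map_comp := fun f g => coequalizer.hom_ext (by simp) }
    let β : (Functor.const (Finset K)).obj (F.obj (cokernel (P J₀).arrow)) ⟶ QA ⋙ F :=
      { app := fun J => F.map (r ≫ cokernel.π _)
        naturality := fun J J' h => by
          simp [QA, ← Functor.map_comp] }
    have hβ : ∀ J, Mono (β.app J) := fun J => by
      have : Mono (r ≫ cokernel.π (G.map (N J).arrow ≫ πD)) := by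
        refine Preadditive.mono_of_cancel_zero _ fun {T} x hx => ?_
        obtain ⟨T₁, π₁, _, y, hy⟩ :=
          surjective_up_to_refinements_of_epi (cokernel.π (P J₀).arrow) x
        have h1 : (y ≫ η ≫ πD) ≫ cokernel.π (G.map (N J).arrow ≫ πD) = 0 := by
          have := congrArg (π₁ ≫ ·) hx
          simp only [comp_zero] at this
          rw [← Category.assoc π₁, hy] at this
          simpa [r] using this
        obtain ⟨T₂, π₂, _, v, hv⟩ := ((ShortComplex.mk _ _
          (cokernel.condition (G.map (N J).arrow ≫ πD))).exact_of_g_is_cokernel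
          (cokernelIsCokernel _)).exact_up_to_refinements _ h1
        dsimp at v hv
        have h2 : ((π₂ ≫ y) ≫ η - v ≫ G.map (N J).arrow) ≫ πD = 0 := by
          rw [Preadditive.sub_comp, Category.assoc, Category.assoc, Category.assoc, sub_eq_zero]
          exact hv
        obtain ⟨T₃, π₃, _, w, hw⟩ := ((ShortComplex.mk _ _
          (cokernel.condition ((P J₀).arrow ≫ η))).exact_of_g_is_cokernel
          (cokernelIsCokernel _)).exact_up_to_refinements _ h2
        dsimp at w hw
        have h3 : (P J).Factors ((π₃ ≫ π₂) ≫ y - w ≫ (P J₀).arrow) := by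
          have e : ((π₃ ≫ v) ≫ (Subobject.underlyingIso (G.map (N J).arrow)).inv) ≫
              (Subobject.mk (G.map (N J).arrow)).arrow =
              ((π₃ ≫ π₂) ≫ y - w ≫ (P J₀).arrow) ≫ η := by
            simp only [Category.assoc, Subobject.underlyingIso_arrow, Preadditive.sub_comp, ← hw,
              Preadditive.comp_sub]
            abel
          exact (Subobject.factors_iff _ _).mpr
            ⟨(Subobject.isPullback η _).lift _ _ e, (Subobject.isPullback η _).lift_snd _ _ _⟩
        have h4 : (P J₀).Factors ((π₃ ≫ π₂) ≫ y) := by
          rw [← sub_add_cancel ((π₃ ≫ π₂) ≫ y) (w ≫ (P J₀).arrow)]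
          exact Subobject.factors_add _ _ (Subobject.factors_of_le _ (hle J) h3)
            (Subobject.factors_comp_arrow _)
        rw [← cancel_epi π₁, hy, comp_zero, ← cancel_epi (π₃ ≫ π₂), comp_zero, ← Category.assoc]
        exact (Groth.Agent.SubobjQuot.factors_iff_comp _).1 h4
      exact inferInstanceAs (Mono (F.map (r ≫ cokernel.π (G.map (N J).arrow ≫ πD))))
    have hzero : ∀ (t : Cocone (QA ⋙ F)) (J : Finset K), t.ι.app J = 0 := by
      intro t J
      rw [← cancel_epi (F.map (cokernel.π (G.map (N J).arrow ≫ πD))), comp_zero]
      let e : ∀ J, F.obj (cokernel ((P J₀).arrow ≫ η)) ⟶ t.pt := fun J =>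
        F.map (cokernel.π (G.map (N J).arrow ≫ πD)) ≫ t.ι.app J
      have hcomp : ∀ {J J'}, J ≤ J' → e J' = e J := fun {J J'} h => by
        have := t.w (homOfLE h)
        simp only [e]
        rw [← this]
        simp [QA, ← Functor.map_comp_assoc]
      show e J = 0
      rw [← cancel_epi (F.map πD), comp_zero]
      have : PreservesColimitsOfShape (Finset K) G :=
        PreservesFilteredColimitsOfSize.preserves_filtered_colimits _
      have : PreservesColimit D (G ⋙ F) := inferInstance
      apply (isColimitOfPreserves (G ⋙ F) hc).hom_ext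
      intro J'
      rw [← hcomp (Finset.subset_union_left (s₂ := J'))]
      show F.map (G.map (N J').arrow) ≫ F.map πD ≫ e (J ∪ J') = F.map (G.map (N J').arrow) ≫ 0
      rw [hcomp (Finset.subset_union_right (s₁ := J)), comp_zero]
      simp only [e, ← Functor.map_comp_assoc]
      rw [← Category.assoc (G.map _) πD, cokernel.condition, Functor.map_zero, zero_comp]
    have hCz : IsZero (F.obj (cokernel (P J₀).arrow)) := by
      let c₂ : Cocone (QA ⋙ F) := Cocone.mk 0 { app := fun _ => 0, naturality := fun _ _ _ => (isZero_zero B).eq_of_tgt _ _ }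
      let hc₂ : IsColimit c₂ :=
        { desc := fun _ => 0
          fac := fun t J => zero_comp.trans (hzero t J).symm
          uniq := fun _ _ _ => (isZero_zero _).eq_of_src _ _ }
      have : ∀ J, Mono (β.app J) := hβ
      have := NatTrans.mono_of_mono_app β
      have hm : Mono (0 : F.obj (cokernel (P J₀).arrow) ⟶ (0 : B)) :=
        colim.map_mono' β (isColimitConstCocone (Finset K) _) hc₂ _ fun J =>
          (isZero_zero B).eq_of_tgt _ _
      exact IsZero.of_mono_zero _ (0 : B)
    have hepi : Epi (P J₀).arrow := Preadditive.epi_of_cokernel_zero (by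
      apply F.map_injective
      exact hCz.eq_of_tgt _ _)
    have : IsIso (P J₀).arrow := isIso_of_mono_of_epi _
    let l : a ⟶ G.obj (N J₀) := inv (P J₀).arrow ≫
      Subobject.pullbackπ η (Subobject.mk (G.map (N J₀).arrow)) ≫ (Subobject.underlyingIso _).hom
    have hl : l ≫ G.map (N J₀).arrow = η := by
      simp only [l, Category.assoc, Subobject.underlyingIso_hom_comp_eq_mk]
      rw [(Subobject.isPullback η (Subobject.mk (G.map (N J₀).arrow))).w]
      exact IsIso.inv_hom_id_assoc _ _
    have hid : (adj.homEquiv _ _).symm l ≫ (N J₀).arrow = 𝟙 X := by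
      rw [← adj.homEquiv_naturality_right_symm, hl, adj.homEquiv_counit]
      exact adj.left_triangle_components a
    have : IsSplitEpi (N J₀).arrow := IsSplitEpi.mk' ⟨_, hid⟩
    have : IsIso (N J₀).arrow := isIso_of_mono_of_epi _
    have := hNnoeth J₀
    exact isNoetherianObject_of_mono (inv (N J₀).arrow)
  · intro _
    rw [Groth.Agent.SubobjQuot.isNoetherianObject_iff_wf]
    refine StrictMono.wellFoundedGT (f := fun M : Subobject a => Subobject.mk (F.map M.arrow)) ?_
    refine Monotone.strictMono_of_injective (fun M M' h => Subobject.mk_le_mk_of_comm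
      (F.map (Subobject.ofLE _ _ h)) (by rw [← F.map_comp, Subobject.ofLE_arrow])) fun M M' e => ?_
    have key : ∀ M M' : Subobject a,
        Subobject.mk (F.map M.arrow) ≤ Subobject.mk (F.map M'.arrow) → M ≤ M' := by
      intro M M' hMM
      apply Groth.Agent.SubobjQuot.le_of_factors
      rw [Groth.Agent.SubobjQuot.factors_iff_comp]
      apply F.map_injective
      rw [F.map_comp, F.map_zero, ← Subobject.ofMkLEMk_comp hMM, Category.assoc, ← F.map_comp,
        cokernel.condition, F.map_zero, comp_zero]
    exact le_antisymm (key M M' e.le) (key M' M e.ge)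

end Groth.Agent.S11127
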