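import Groth.Statements.S11128
import Groth.Agent.FaithAdj.Basic
-- import your own Groth.Agent.* helpers here

set_option autoImplicit false
universe w u₁ u₂
open CategoryTheory CategoryTheory.Limits
open CohDer

namespace Groth.Agent.S11128

/-- Suppose A is an abelian category that has small hom-sets and all small colimits, B is a Grothendieck
abelian category, and F : A ⥤ B is a faithful exact functor with a right adjoint G preserving
filtered colimits. Then A is a Grothendieck abelian category. -/
theorem result
    {A : Type u₁} [Category.{w} A] [Abelian A] [HasColimitsOfSize.{w, w} A]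
    {B : Type u₂} [Category.{w} B] [Abelian B] [IsGrothendieckAbelian.{w} B]
    (F : A ⥤ B) (G : B ⥤ A) (adj : F ⊣ G) [F.Additive] [F.Faithful]
    [PreservesFiniteLimits F] [PreservesFiniteColimits F] [PreservesFilteredColimitsOfSize.{w, w} G] :
    IsGrothendieckAbelian.{w} A := by
  open Groth.Agent.FaithAdj in
  have := IsGrothendieckAbelian.hasColimits (C := B)
  obtain ⟨U, hU⟩ := HasSeparator.hasSeparator (C := B)
  have hsep : ∀ ⦃X Y : B⦄ (f g : X ⟶ Y),
      (∀ (_ : PUnit.{w+1}) (h : U ⟶ X), h ≫ f = h ≫ g) → f = g :=
    fun X Y f g h => (isSeparator_def U).1 hU f g (h PUnit.unit)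
  have := wellPowered F G adj
  have := ab5 F G adj
  have : HasSeparator A := hasSeparator_of_family (genObj G fun _ : PUnit.{w+1} => U)
    fun X Y f g h => separating F G adj (fun _ : PUnit.{w+1} => U) hsep (fun _ => True)
      (fun _ _ _ _ _ _ _ _ => trivial) f g fun k _ => h k
  exact { }

end Groth.Agent.S11128
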