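import Groth.Statements.S11135
import Mathlib


set_option autoImplicit false
universe u
open InvTh

namespace Groth.Agent.S11135

section
variable {ι : Type u} [Fintype ι] {D : ι → Type u} [∀ i, CommRing (D i)] [∀ i, IsDomain (D i)]
variable {R : Type u} [CommRing R] {F : Set ((Π i, D i) →+* R)}
variable {A : Subring (Π i, D i)}

/-- The indicator of a set of indices. -/
noncomputable def ind (T : Set ι) : Π i, D i := open Classical in fun i => if i ∈ T then 1 else 0

omit [Fintype ι] [∀ i, IsDomain (D i)] in
theorem ind_apply_of_mem {T : Set ι} {i : ι} (h : i ∈ T) : ind (D := D) T i = 1 := if_pos h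

omit [Fintype ι] [∀ i, IsDomain (D i)] in
theorem ind_apply_of_not_mem {T : Set ι} {i : ι} (h : i ∉ T) : ind (D := D) T i = 0 := if_neg h

omit [Fintype ι] in
theorem mem_nzd {s : Π i, D i} (h : ∀ i, s i ≠ 0) : s ∈ nonZeroDivisors (Π i, D i) :=
  mem_nonZeroDivisors_iff_right.2 fun x hx => funext fun i =>
    (mul_eq_zero.1 (congrFun hx i)).resolve_right (h i)

variable (hF : ∀ f ∈ F, ∀ s ∈ nonZeroDivisors (Π i, D i), f s ∈ nonZeroDivisors R)
variable (hA : ∀ a, a ∈ A ↔ ∀ f ∈ F, ∀ f' ∈ F, f a = f' a)

include hF hA in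
omit [Fintype ι] in
theorem ind_supp_mem {a : Π i, D i} (ha : a ∈ A) : ind {i | a i ≠ 0} ∈ A := by
  set e : Π i, D i := ind {i | a i ≠ 0}
  have he : a * e = a ∧ e * e = e := ⟨funext fun i => by
      by_cases h : a i = 0
      · simp [h]
      · simp [e, ind_apply_of_mem (show i ∈ {i | a i ≠ 0} from h)],
    funext fun i => by
      by_cases h : i ∈ {i | a i ≠ 0}
      · simp [e, ind_apply_of_mem h]
      · simp [e, ind_apply_of_not_mem h]⟩
  have hn : a + (1 - e) ∈ nonZeroDivisors (Π i, D i) := mem_nzd fun i => by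
    by_cases h : a i = 0
    · simp [e, ind_apply_of_not_mem (show i ∉ {i | a i ≠ 0} from fun hi => hi h), h]
    · simp [e, ind_apply_of_mem (show i ∈ {i | a i ≠ 0} from h), h]
  have hkey : ∀ f ∈ F, ∀ f' ∈ F, f e * (1 - f' e) = 0 := fun f hf f' hf' => by
    refine mem_nonZeroDivisors_iff_left.1 (hF f hf _ hn) _ ?_
    have h1 : (a + (1 - e)) * e = a := by rw [add_mul, sub_mul, one_mul, he.1, he.2, sub_self, add_zero]
    rw [← mul_assoc, ← map_mul, h1, (hA a).1 ha f hf f' hf', mul_sub, mul_one, ← map_mul, he.1, sub_self]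
  refine (hA e).2 fun f hf f' hf' => ?_
  linear_combination hkey f hf f' hf' - hkey f' hf' f hf

/-- Two indices are linked when no idempotent of `A` separates them. -/
def linked (A : Subring (Π i, D i)) : Setoid ι where
  r i j := ∀ T : Set ι, ind (D := D) T ∈ A → (i ∈ T ↔ j ∈ T)
  iseqv := ⟨fun _ _ _ => Iff.rfl, fun h T hT => (h T hT).symm, fun h h' T hT => (h T hT).trans (h' T hT)⟩

omit [∀ i, IsDomain (D i)] in
theorem ind_class_mem (q : Quotient (linked A)) :
    ind {i | Quotient.mk (linked A) i = q} ∈ A := by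
  classical
  induction q using Quotient.inductionOn with
  | h i =>
    have hsep : ∀ j, ∃ T : Set ι, ind (D := D) T ∈ A ∧ i ∈ T ∧ ((linked A).r j i ∨ j ∉ T) := by
      intro j
      by_cases h : (linked A).r j i
      · refine ⟨Set.univ, ?_, trivial, Or.inl h⟩
        rw [show ind (D := D) Set.univ = 1 from funext fun x => ind_apply_of_mem trivial]
        exact A.one_mem
      · obtain ⟨T, hT, hTne⟩ : ∃ T : Set ι, ind (D := D) T ∈ A ∧ ¬ (j ∈ T ↔ i ∈ T) := by
          by_contra hc
          exact h fun T hT => by_contra fun hne => hc ⟨T, hT, hne⟩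
        by_cases hi : i ∈ T
        · exact ⟨T, hT, hi, Or.inr fun hj => hTne (iff_of_true hj hi)⟩
        · refine ⟨Tᶜ, ?_, hi, Or.inr fun hj => hTne (iff_of_false hj hi)⟩
          rw [show ind (D := D) Tᶜ = 1 - ind T from funext fun x => by
            by_cases hx : x ∈ T
            · simp [ind_apply_of_mem hx, ind_apply_of_not_mem (show x ∉ Tᶜ from fun h => h hx)]
            · simp [ind_apply_of_not_mem hx, ind_apply_of_mem (show x ∈ Tᶜ from hx)]]
          exact A.sub_mem A.one_mem hT
    choose T hT hiT hjT using hsep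
    have : ∏ j, ind (D := D) (T j) = ind {x | Quotient.mk (linked A) x = Quotient.mk (linked A) i} := by
      funext x
      rw [Finset.prod_apply]
      by_cases hx : Quotient.mk (linked A) x = Quotient.mk (linked A) i
      · rw [ind_apply_of_mem (show x ∈ {x | Quotient.mk (linked A) x = Quotient.mk (linked A) i} from hx)]
        exact Finset.prod_eq_one fun j _ => ind_apply_of_mem ((Quotient.exact hx (T j) (hT j)).2 (hiT j))
      · rw [ind_apply_of_not_mem (show x ∉ {x | Quotient.mk (linked A) x = Quotient.mk (linked A) i} from hx)]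
        exact Finset.prod_eq_zero (Finset.mem_univ x)
          (ind_apply_of_not_mem ((hjT x).resolve_left fun h => hx (Quotient.sound h)))
    rw [← this]
    exact Subring.prod_mem A fun j _ => hT j

/-- Extension by zero from a class. -/
noncomputable def ext0 (q : Quotient (linked A))
    (x : Π i : {i // Quotient.mk (linked A) i = q}, D i) : Π i, D i :=
  open Classical in fun i => if h : Quotient.mk (linked A) i = q then x ⟨i, h⟩ else 0

omit [Fintype ι] [∀ i, IsDomain (D i)] in
theorem ext0_of_eq {q : Quotient (linked A)} (x : Π i : {i // Quotient.mk (linked A) i = q}, D i) {i : ι}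
    (h : Quotient.mk (linked A) i = q) : ext0 q x i = x ⟨i, h⟩ := dif_pos h

omit [Fintype ι] [∀ i, IsDomain (D i)] in
theorem ext0_of_ne {q : Quotient (linked A)} (x : Π i : {i // Quotient.mk (linked A) i = q}, D i) {i : ι}
    (h : ¬ Quotient.mk (linked A) i = q) : ext0 q x i = 0 := dif_neg h

/-- The factor of `A` at a class. -/
noncomputable def factor (q : Quotient (linked A)) :
    Subring (Π i : {i // Quotient.mk (linked A) i = q}, D i) where
  carrier := {x | ext0 q x ∈ A}
  zero_mem' := by
    show ext0 q 0 ∈ A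
    rw [show ext0 q (0 : Π i : {i // Quotient.mk (linked A) i = q}, D i) = 0 from
      funext fun i => by unfold ext0; simp]
    exact A.zero_mem
  one_mem' := by
    show ext0 q 1 ∈ A
    rw [show ext0 q (1 : Π i : {i // Quotient.mk (linked A) i = q}, D i) =
        ind {i | Quotient.mk (linked A) i = q} from funext fun i => by unfold ext0 ind; split_ifs <;> simp_all]
    exact ind_class_mem q
  add_mem' {x y} hx hy := by
    show ext0 q (x + y) ∈ A
    rw [show ext0 q (x + y) = ext0 q x + ext0 q y from funext fun i => by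
      by_cases h : Quotient.mk (linked A) i = q <;> simp [ext0_of_eq, ext0_of_ne, h]]
    exact A.add_mem hx hy
  neg_mem' {x} hx := by
    show ext0 q (-x) ∈ A
    rw [show ext0 q (-x) = -ext0 q x from funext fun i => by
      by_cases h : Quotient.mk (linked A) i = q <;> simp [ext0_of_eq, ext0_of_ne, h]]
    exact A.neg_mem hx
  mul_mem' {x y} hx hy := by
    show ext0 q (x * y) ∈ A
    rw [show ext0 q (x * y) = ext0 q x * ext0 q y from funext fun i => by
      by_cases h : Quotient.mk (linked A) i = q <;> simp [ext0_of_eq, ext0_of_ne, h]]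
    exact A.mul_mem hx hy

include hF hA in
theorem factor_coord_ne_zero {q : Quotient (linked A)} (x : factor q) (hx : x ≠ 0)
    (i : {i // Quotient.mk (linked A) i = q}) : x.1 i ≠ 0 := by
  obtain ⟨j, hj⟩ : ∃ j, x.1 j ≠ 0 := by
    by_contra h
    simp only [not_exists, ne_eq, not_not] at h
    exact hx (Subtype.ext (funext h))
  have hs := ind_supp_mem hF hA (x.2 : ext0 q x.1 ∈ A)
  have hji : (linked A).r j.1 i.1 := Quotient.exact (j.2.trans i.2.symm)
  have := (hji _ hs).1 (by simpa [ext0_of_eq x.1 j.2] using hj)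
  simpa [ext0_of_eq x.1 i.2] using this

include hF hA in
theorem isDomain_factor (q : Quotient (linked A)) : IsDomain (factor q) := by
  obtain ⟨i₀, hi₀⟩ := Quotient.exists_rep q
  have : Nontrivial (factor q) :=
    ⟨⟨0, 1, fun h => zero_ne_one (congrFun (congrArg Subtype.val h) ⟨i₀, hi₀⟩)⟩⟩
  have : NoZeroDivisors (factor q) := ⟨fun {a b} hab => by
    by_contra h
    simp only [not_or] at h
    exact mul_ne_zero (factor_coord_ne_zero hF hA a h.1 ⟨i₀, hi₀⟩) (factor_coord_ne_zero hF hA b h.2 ⟨i₀, hi₀⟩)
      (congrFun (congrArg Subtype.val hab) ⟨i₀, hi₀⟩)⟩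
  exact NoZeroDivisors.to_isDomain _

omit [Fintype ι] in
theorem isIntegrallyClosed_of_family {T : Type u} [CommRing T] [IsDomain T] {J : Type u} {E : J → Type u}
    [∀ j, CommRing (E j)] [∀ j, IsDomain (E j)] [∀ j, IsIntegrallyClosed (E j)] (π : ∀ j, T →+* E j)
    (hπ : ∀ j, Function.Injective (π j))
    (h : ∀ (a b : T), b ≠ 0 → ∀ s : Π j, E j, (∀ j, π j b * s j = π j a) → ∃ t, b * t = a) :
    IsIntegrallyClosed T := by
  refine (isIntegrallyClosed_iff (FractionRing T)).2 fun {z} hz => ?_
  obtain ⟨a, b, hb, rfl⟩ := IsFractionRing.div_surjective T z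
  have hb0 : b ≠ 0 := nonZeroDivisors.ne_zero hb
  have hs : ∀ j, ∃ s : E j, π j b * s = π j a := by
    intro j
    let g : T →+* FractionRing (E j) := (algebraMap (E j) _).comp (π j)
    have hg : Function.Injective g := (IsFractionRing.injective (E j) _).comp (hπ j)
    obtain ⟨L, hLg⟩ : ∃ L : FractionRing T →+* FractionRing (E j), ∀ x, L (algebraMap T (FractionRing T) x) = g x :=
      ⟨IsFractionRing.lift hg, fun x => IsFractionRing.lift_algebraMap hg x⟩
    have hL : IsIntegral (E j) (L (algebraMap T (FractionRing T) a / algebraMap T (FractionRing T) b)) := by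
      obtain ⟨p, hp, hp0⟩ := hz
      refine ⟨p.map (π j), hp.map (π j), ?_⟩
      rw [Polynomial.eval₂_map, show (algebraMap (E j) (FractionRing (E j))).comp (π j) =
        L.comp (algebraMap T (FractionRing T)) from
        RingHom.ext fun x => (hLg x).symm, ← Polynomial.hom_eval₂, hp0, map_zero]
    obtain ⟨s, hs⟩ := IsIntegrallyClosed.isIntegral_iff.1 hL
    refine ⟨s, IsFractionRing.injective (E j) (FractionRing (E j)) ?_⟩
    rw [map_div₀ L, hLg, hLg,
      eq_div_iff (fun h => hb0 (hg (h.trans (map_zero g).symm)))] at hs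
    rw [map_mul, mul_comm]
    exact hs
  choose s hs using hs
  obtain ⟨t, ht⟩ := h a b hb0 s hs
  refine ⟨t, ?_⟩
  rw [eq_div_iff ((map_ne_zero_iff _ (IsFractionRing.injective T _)).2 hb0), ← map_mul, mul_comm, ht]

include hF hA in
theorem isIntegrallyClosed_factor [∀ i, IsIntegrallyClosed (D i)] (q : Quotient (linked A))
    [IsDomain (factor q)] : IsIntegrallyClosed (factor q) := by
  refine isIntegrallyClosed_of_family (J := {i // Quotient.mk (linked A) i = q}) (E := fun i => D i.1)
    (fun i => (Pi.evalRingHom (fun i : {i // Quotient.mk (linked A) i = q} => D i.1) i).comp (factor q).subtype)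
    (fun i => ?_) (fun a b hb0 s hs => ?_)
  · exact (injective_iff_map_eq_zero _).2 fun x hx => by
      by_contra h
      exact factor_coord_ne_zero hF hA x h i hx
  have hsmem : s ∈ factor q := by
    show ext0 q s ∈ A
    refine (hA _).2 fun f hf f' hf' => ?_
    set β : Π i, D i := ext0 q b.1 + (1 - ind {i | Quotient.mk (linked A) i = q}) with hβ
    have hβA : β ∈ A := A.add_mem b.2 (A.sub_mem A.one_mem (ind_class_mem q))
    have hn : β ∈ nonZeroDivisors (Π i, D i) := mem_nzd fun i => by
      by_cases h : Quotient.mk (linked A) i = q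
      · simp [β, ext0_of_eq _ h, ind_apply_of_mem (T := {i | Quotient.mk (linked A) i = q}) h,
          factor_coord_ne_zero hF hA b hb0 ⟨i, h⟩]
      · simp [β, ext0_of_ne _ h, ind_apply_of_not_mem (T := {i | Quotient.mk (linked A) i = q}) h]
    have hprod : β * ext0 q s = ext0 q a.1 := funext fun i => by
      by_cases h : Quotient.mk (linked A) i = q
      · simp [β, ext0_of_eq _ h, ind_apply_of_mem (T := {i | Quotient.mk (linked A) i = q}) h]
        exact hs ⟨i, h⟩
      · simp [β, ext0_of_ne _ h]
    refine (mul_cancel_left_mem_nonZeroDivisors (hF f hf β hn)).1 ?_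
    rw [← map_mul, hprod, (hA _).1 a.2 f hf f' hf', ← hprod, map_mul, (hA _).1 hβA f hf f' hf']
  exact ⟨⟨s, hsmem⟩, Subtype.ext (funext fun i => hs i)⟩

end



/-- Suppose S is the product of a finite family of integrally closed domains (a finite product of normal
domains), R is any commutative ring, and F is a family of ring maps S → R each carrying
non-zero-divisors of S to non-zero-divisors of R. Then the subring A of S on which all members of F
coincide (a ∈ A iff f(a) = f'(a) for all f, f' in F) is ring-isomorphic to a product of finitely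
many integrally closed domains. -/
theorem result {ι : Type u} [Fintype ι] (D : ι → Type u)
    [∀ i, CommRing (D i)] [∀ i, IsDomain (D i)] [∀ i, IsIntegrallyClosed (D i)]
    (R : Type u) [CommRing R] (F : Set ((Π i, D i) →+* R))
    (hF : ∀ f ∈ F, ∀ s ∈ nonZeroDivisors (Π i, D i), f s ∈ nonZeroDivisors R)
    (A : Subring (Π i, D i)) (hA : ∀ a, a ∈ A ↔ ∀ f ∈ F, ∀ f' ∈ F, f a = f' a) :
    ∃ (κ : Type u) (_ : Fintype κ) (E : κ → Type u) (_ : ∀ j, CommRing (E j)) (_ : ∀ j, IsDomain (E j))
      (_ : ∀ j, IsIntegrallyClosed (E j)), Nonempty (A ≃+* Π j, E j) := by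
  classical
  have hdom : ∀ q : Quotient (linked A), IsDomain (factor q) := isDomain_factor hF hA
  refine ⟨Quotient (linked A), inferInstance, fun q => factor q, fun q => inferInstance, hdom,
    fun q => isIntegrallyClosed_factor hF hA q, ⟨RingEquiv.ofBijective
      ({ toFun := fun a q => (⟨fun i => a.1 i.1, ?_⟩ : factor q)
         map_one' := rfl
         map_mul' := fun _ _ => rfl
         map_zero' := rfl
         map_add' := fun _ _ => rfl } : A →+* Π q, factor q) ⟨?_, ?_⟩⟩⟩
  · show ext0 q (fun i => a.1 i.1) ∈ A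
    rw [show ext0 q (fun i => a.1 i.1) = a.1 * ind {i | Quotient.mk (linked A) i = q} from funext fun i => by
      by_cases h : Quotient.mk (linked A) i = q
      · simp [ext0_of_eq _ h, ind_apply_of_mem (T := {i | Quotient.mk (linked A) i = q}) h]
      · simp [ext0_of_ne _ h, ind_apply_of_not_mem (T := {i | Quotient.mk (linked A) i = q}) h]]
    exact A.mul_mem a.2 (ind_class_mem q)
  · intro a b h
    refine Subtype.ext (funext fun i => ?_)
    exact congrFun (congrArg Subtype.val (congrFun h (Quotient.mk _ i))) ⟨i, rfl⟩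
  · intro x
    refine ⟨⟨∑ q, ext0 q (x q).1, Subring.sum_mem A fun q _ => (x q).2⟩, funext fun q => Subtype.ext (funext fun i => ?_)⟩
    show (∑ q', ext0 q' (x q').1) i.1 = (x q).1 i
    rw [Finset.sum_apply, Finset.sum_eq_single q (fun q' _ hne => ext0_of_ne _ fun h => hne (h.symm.trans i.2))
      (fun h => absurd (Finset.mem_univ q) h), ext0_of_eq _ i.2]

end Groth.Agent.S11135
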