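import Groth.Statements.S11136
import Mathlib
-- import your own Groth.Agent.* helpers here

set_option autoImplicit false
universe u v
open InvTh

namespace Groth.Agent.S11136

open scoped Pointwise


/-- Let a finite group G act on a Noetherian commutative ring R by ring automorphisms, with ring of
invariants A (A → R injective with image the fixed elements). When the prime spectrum of A is
connected, any two connected components of Spec R are exchanged by some element of G: for all points
x, y of Spec R there is g in G whose induced self-map of Spec R carries the connected component of x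
onto the connected component of y. -/
theorem result
    (A : Type u) (R : Type v) [CommRing A] [CommRing R] [Algebra A R] [IsNoetherianRing R]
    (G : Type u) [Group G] [Finite G] [MulSemiringAction G R] [SMulCommClass G A R]
    [Algebra.IsInvariant A R G] [FaithfulSMul A R]
    [ConnectedSpace (PrimeSpectrum A)] (x y : PrimeSpectrum R) :
    ∃ g : G, PrimeSpectrum.comap (MulSemiringAction.toRingHom G R g) '' connectedComponent x =
      connectedComponent y := by
  classical
  have : Algebra.IsIntegral A R := Algebra.IsInvariant.isIntegral A R G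
  let f : G → PrimeSpectrum R → PrimeSpectrum R := fun g => PrimeSpectrum.comap (MulSemiringAction.toRingHom G R g)
  have hfc : ∀ g, Continuous (f g) := fun g => PrimeSpectrum.continuous_comap _
  have hinv : ∀ g z, f g (f g⁻¹ z) = z := by
    intro g z
    refine PrimeSpectrum.ext ?_
    ext a
    simp only [f, PrimeSpectrum.comap_asIdeal, Ideal.mem_comap, MulSemiringAction.toRingHom_apply, inv_smul_smul]
  have hcc : ∀ g z, f g '' connectedComponent z = connectedComponent (f g z) := by
    intro g z
    refine Set.Subset.antisymm ((hfc g).image_connectedComponent_subset z) fun w hw => ⟨f g⁻¹ w, ?_, hinv g w⟩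
    have h1 := (hfc g⁻¹).image_connectedComponent_subset (f g z) ⟨w, hw, rfl⟩
    have h2 : f g⁻¹ (f g z) = z := by simpa using hinv g⁻¹ z
    rwa [h2] at h1
  by_contra! hne
  let U : Set (PrimeSpectrum R) := ⋃ g, connectedComponent (f g x)
  have hUclosed : IsClosed U := isClosed_iUnion_of_finite fun g => isClosed_connectedComponent
  have hfin := TopologicalSpace.NoetherianSpace.finite_irreducibleComponents (α := PrimeSpectrum R)
  let V : Set (PrimeSpectrum R) := ⋃₀ {Z | Z ∈ irreducibleComponents (PrimeSpectrum R) ∧ Disjoint Z U}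
  have hVclosed : IsClosed V := by
    rw [show V = ⋃ Z ∈ {Z | Z ∈ irreducibleComponents (PrimeSpectrum R) ∧ Disjoint Z U}, Z from Set.sUnion_eq_biUnion]
    exact (hfin.subset fun Z hZ => hZ.1).isClosed_biUnion fun Z hZ => isClosed_of_mem_irreducibleComponents Z hZ.1
  have hcompl : V = Uᶜ := by
    ext z
    constructor
    · rintro ⟨Z, ⟨-, hd⟩, hz⟩
      exact Set.disjoint_left.1 hd hz
    · intro hz
      refine ⟨irreducibleComponent z, ⟨irreducibleComponent_mem_irreducibleComponents z, Set.disjoint_left.2 fun w hw hwU => hz ?_⟩, mem_irreducibleComponent⟩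
      obtain ⟨g, hg⟩ := Set.mem_iUnion.1 hwU
      refine Set.mem_iUnion.2 ⟨g, ?_⟩
      rw [connectedComponent_eq hg]
      exact (isIrreducible_irreducibleComponent.isConnected.isPreconnected.subset_connectedComponent hw) mem_irreducibleComponent
  let π : PrimeSpectrum R → PrimeSpectrum A := PrimeSpectrum.comap (algebraMap A R)
  have hint : (algebraMap A R).IsIntegral := fun a => Algebra.IsIntegral.isIntegral a
  have hclosed : IsClosedMap π := PrimeSpectrum.isClosedMap_comap_of_isIntegral _ hint
  have hsurj : Function.Surjective π := Algebra.IsIntegral.comap_surjective A R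
  have hyU : y ∈ Uᶜ := by
    intro hy
    obtain ⟨g, hg⟩ := Set.mem_iUnion.1 hy
    exact hne g ((hcc g x).trans (connectedComponent_eq hg))
  have hxU : x ∈ U := Set.mem_iUnion.2 ⟨1, by
    have : f 1 x = x := by
      refine PrimeSpectrum.ext ?_
      ext a
      simp [f]
    rw [this]; exact mem_connectedComponent⟩
  have hdis : π '' U ∩ π '' V = ∅ := by
    rw [Set.eq_empty_iff_forall_notMem]
    rintro q ⟨⟨a, ha, rfl⟩, b, hb, hab⟩
    obtain ⟨g, hg⟩ := Algebra.IsInvariant.exists_smul_of_under_eq A R G a.asIdeal b.asIdeal (by
      exact (congrArg PrimeSpectrum.asIdeal hab).symm)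
    have hb' : b = f g⁻¹ a := by
      refine PrimeSpectrum.ext ?_
      ext r
      rw [hg, Ideal.mem_pointwise_smul_iff_inv_smul_mem]
      rfl
    rw [hcompl, hb'] at hb
    apply hb
    obtain ⟨h, hh⟩ := Set.mem_iUnion.1 ha
    refine Set.mem_iUnion.2 ⟨h * g⁻¹, ?_⟩
    have hcomp : f (h * g⁻¹) x = f g⁻¹ (f h x) := by
      refine PrimeSpectrum.ext ?_
      ext r
      simp [f, mul_smul]
    rw [hcomp, ← hcc]
    exact ⟨a, hh, rfl⟩
  obtain ⟨q, -, hq⟩ := isPreconnected_closed_iff.1 PreconnectedSpace.isPreconnected_univ (π '' U) (π '' V) (hclosed _ hUclosed) (hclosed _ hVclosed)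
    (fun q _ => by
      obtain ⟨z, rfl⟩ := hsurj q
      by_cases hz : z ∈ U
      · exact Or.inl ⟨z, hz, rfl⟩
      · exact Or.inr ⟨z, hcompl ▸ hz, rfl⟩)
    ⟨π x, trivial, x, hxU, rfl⟩ ⟨π y, trivial, y, hcompl ▸ hyU, rfl⟩
  rw [hdis] at hq
  exact hq

end Groth.Agent.S11136
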