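import Mathlib
import Groth.Statements.S11137
-- import your own Groth.Agent.* helpers here

set_option autoImplicit false
universe u v
open InvTh

namespace Groth.Agent.S11137

/-- Let G be a finite group acting by ring automorphisms on a Noetherian commutative ring R, and let A
be its ring of invariants (A → R injective with image the fixed elements), with R module-finite over
A. Then the going-down property holds for the extension A → R. (The published statement also asserts
that G acts transitively on the primes of R over a given prime of A; this row states only the
going-down assertion.) -/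
theorem result
    (A : Type u) (R : Type v) [CommRing A] [CommRing R] [Algebra A R] [IsNoetherianRing R]
    (G : Type u) [Group G] [Finite G] [MulSemiringAction G R] [SMulCommClass G A R]
    [Algebra.IsInvariant A R G] [FaithfulSMul A R] [Module.Finite A R] :
    Algebra.HasGoingDown A R := by
  haveI : Algebra.IsIntegral A R := Algebra.IsIntegral.of_finite A R
  refine ⟨fun {p} _ Q _ hpQ => ?_⟩
  obtain ⟨P0, -, hP0, hP0'⟩ := Ideal.exists_ideal_over_prime_of_isIntegral p (⊥ : Ideal R) (by
    rw [← RingHom.ker_eq_comap_bot, (RingHom.injective_iff_ker_eq_bot _).1 (FaithfulSMul.algebraMap_injective A R)]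
    exact bot_le)
  obtain ⟨Q0, hQ0, hQ0p, hQ0'⟩ := Ideal.exists_ideal_over_prime_of_isIntegral (Q.under A) P0
    (by rw [hP0']; exact hpQ.le)
  obtain ⟨g, hg⟩ := Algebra.IsInvariant.exists_smul_of_under_eq A R G Q0 Q hQ0'
  haveI : P0.LiesOver p := ⟨hP0'.symm⟩
  open Pointwise in
  exact ⟨g • P0, hg ▸ Ideal.map_mono hQ0, inferInstance, inferInstance⟩

end Groth.Agent.S11137
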