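import Groth.Statements.S11140
import Mathlib
import Groth.Agent.ComodBasic.FiniteInvDepth
import Groth.Agent.DepthLib.CohenMacaulay


set_option autoImplicit false
universe u
open TensorProduct
open InvTh

namespace Groth.Agent.S11140
open Groth.Agent TensorProduct

theorem cm_aux {k : Type u} [Field k] {H : Type u} [CommRing H] [HopfAlgebra k H] [Module.Finite k H]
    {R : Type u} [CommRing R] [Algebra k R] [HopfRep.Comod k H R] [GLin.IsCoactAlg k H R]
    [Algebra.FiniteType k R] {A : Subalgebra k R}
    (hA : ∀ a : R, a ∈ A ↔ HopfRep.Comod.coact (k := k) (A := H) a = a ⊗ₜ[k] (1 : H))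
    (hG : HopfRep.IsLinearlyReductive k H) (hR : LocCoh.IsCohenMacaulayRing R) (p : Ideal A) [p.IsPrime] :
    LocCoh.IsCohenMacaulayLocalRing (Localization.AtPrime p) ∧
      LocCoh.IsCohenMacaulayModule (Localization.AtPrime p) (LocalizedModule p.primeCompl R) ∧
        Module.supportDim (Localization.AtPrime p) (LocalizedModule p.primeCompl R) =
          ringKrullDim (Localization.AtPrime p) := by
  have := ComodBasic.finite_invariants hA
  have := ComodBasic.isNoetherianRing_invariants hA
  obtain ⟨h1, h2, h3, h4⟩ := ComodBasic.depth_and_dim hA hG p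
  have hne : Nontrivial (LocalizedModule p.primeCompl R) := by
    rw [← not_subsingleton_iff_nontrivial]
    intro hs
    have hbot : Module.supportDim (Localization.AtPrime p) (LocalizedModule p.primeCompl R) = ⊥ :=
      (Module.supportDim_eq_bot_iff_subsingleton _ _).2 hs
    exact ringKrullDim_ne_bot (R := Localization.AtPrime p) (h1.symm.trans hbot)
  have hge : ringKrullDim (Localization.AtPrime p) ≤
      ((LocCoh.depth (Localization.AtPrime p) (LocalizedModule p.primeCompl R) : ℕ∞) : WithBot ℕ∞) := by
    rw [IsLocalization.AtPrime.ringKrullDim_eq_height p, WithBot.coe_le_coe]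
    refine ENat.forall_natCast_le_iff_le.mp fun n hn => h4 n (fun q _ hq => ?_) ?_
    · have hq' := (hR.isCohenMacaulayLocalRing_localization q).supportDim_eq_depth
      rw [Module.supportDim_self_eq_ringKrullDim] at hq'
      exact WithBot.coe_le_coe.1 (hq.trans hq'.le)
    · rw [IsLocalization.AtPrime.ringKrullDim_eq_height p]
      exact WithBot.coe_le_coe.2 hn
  have hM : LocCoh.IsCohenMacaulayModule (Localization.AtPrime p) (LocalizedModule p.primeCompl R) :=
    le_antisymm (h1.le.trans hge) (DepthLib.depth_le_supportDim _)
  refine ⟨{ supportDim_eq_depth := le_antisymm ?_ (DepthLib.depth_le_supportDim _) }, hM, h1⟩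
  rw [Module.supportDim_self_eq_ringKrullDim]
  exact hge.trans (WithBot.coe_le_coe.2 h3)



/-- Let k be a field and H a finite-dimensional commutative Hopf algebra over k (the coordinate ring of
a finite k-group scheme G) which is linearly reductive, i.e. every finite-dimensional H-comodule is
semisimple. Let R be a commutative k-algebra of finite type with an H-comodule structure whose
coaction R → R ⊗ H is multiplicative and unital (an action of G on Spec R), and let A be the
k-subalgebra of invariants. If R is a Cohen–Macaulay ring, then so is A, and R is maximal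
Cohen–Macaulay as a module over A: for every prime p of A the localized module R_p over A_p is
Cohen–Macaulay and its support has Krull dimension equal to that of A_p. -/
theorem result (k : Type u) [Field k]
    (H : Type u) [CommRing H] [HopfAlgebra k H] [Module.Finite k H] (hG : HopfRep.IsLinearlyReductive k H)
    (R : Type u) [CommRing R] [Algebra k R] [Algebra.FiniteType k R] [HopfRep.Comod k H R]
    (hmul : ∀ x y : R, HopfRep.Comod.coact (k := k) (A := H) (x * y) =
        HopfRep.Comod.coact (k := k) (A := H) x * HopfRep.Comod.coact (k := k) (A := H) y)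
    (hone : HopfRep.Comod.coact (k := k) (A := H) (1 : R) = 1)
    (A : Subalgebra k R)
    (hA : ∀ a : R, a ∈ A ↔ HopfRep.Comod.coact (k := k) (A := H) a = a ⊗ₜ[k] (1 : H))
    (hR : LocCoh.IsCohenMacaulayRing R) :
    LocCoh.IsCohenMacaulayRing A ∧ ∀ (p : Ideal A) [p.IsPrime],
      LocCoh.IsCohenMacaulayModule (Localization.AtPrime p) (LocalizedModule p.primeCompl R) ∧
        Module.supportDim (Localization.AtPrime p) (LocalizedModule p.primeCompl R) =
          ringKrullDim (Localization.AtPrime p) := by
  have : GLin.IsCoactAlg k H R := ⟨hone, hmul⟩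
  have := ComodBasic.isNoetherianRing_invariants hA
  refine ⟨{ isCohenMacaulayLocalRing_localization := fun p _ => (cm_aux hA hG hR p).1 },
    fun p _ => (cm_aux hA hG hR p).2⟩

end Groth.Agent.S11140
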