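import Groth.Statements.S11141
import Mathlib
import Groth.Agent.S11135


set_option autoImplicit false
universe u
open TensorProduct
open InvTh

namespace Groth.Agent.S11141
open Groth.Agent TensorProduct

section
theorem equiv_nzd {P Q : Type u} [CommRing P] [CommRing Q] (e : P ≃+* Q) {x : P}
    (hx : x ∈ nonZeroDivisors P) : e x ∈ nonZeroDivisors Q :=
  mem_nonZeroDivisors_iff_right.2 fun z hz => by
    have h := mem_nonZeroDivisors_iff_right.1 hx (e.symm z) (e.injective (by simpa using hz))
    simpa using congrArg e h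

variable {k : Type u} [Field k] {H : Type u} [CommRing H] [HopfAlgebra k H]
variable {S : Type u} [CommRing S] [Algebra k S] [HopfRep.Comod k H S]

/-- Contract with a multiplication after applying coassociativity. -/
theorem twisted (T : H ⊗[k] H →ₗ[k] H)
    (hT : ∀ h : H, T (Coalgebra.comul (R := k) h) = algebraMap k H (Coalgebra.counit (R := k) h)) (s : S) :
    T.lTensor S (TensorProduct.assoc k S H H
      ((HopfRep.Comod.coact (k := k) (A := H)).rTensor H (HopfRep.Comod.coact (k := k) (A := H) s))) =
      s ⊗ₜ[k] (1 : H) := by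
  have h := LinearMap.congr_fun (HopfRep.Comod.coassoc (k := k) (A := H) (V := S)) s
  have hc := LinearMap.congr_fun (HopfRep.Comod.counit_comp (k := k) (A := H) (V := S)) s
  simp only [LinearMap.comp_apply, LinearEquiv.coe_coe, LinearMap.flip_apply, TensorProduct.mk_apply] at h hc
  rw [h]
  have h2 : ∀ z : S ⊗[k] H, T.lTensor S ((CoalgebraStruct.comul (R := k) (A := H)).lTensor S z) =
      (Algebra.linearMap k H).lTensor S ((CoalgebraStruct.counit (R := k) (A := H)).lTensor S z) := by
    intro z
    induction z with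
    | zero => simp
    | add a b ha hb => simp only [map_add, ha, hb]
    | tmul a b => simp [hT]
  rw [h2, hc]
  simp

theorem coact_nzd (hmul : ∀ x y : S, HopfRep.Comod.coact (k := k) (A := H) (x * y) =
        HopfRep.Comod.coact (k := k) (A := H) x * HopfRep.Comod.coact (k := k) (A := H) y)
    (hone : HopfRep.Comod.coact (k := k) (A := H) (1 : S) = 1) {s : S} (hs : s ∈ nonZeroDivisors S) :
    HopfRep.Comod.coact (k := k) (A := H) s ∈ nonZeroDivisors (S ⊗[k] H) := by
  let ρ : S →ₐ[k] S ⊗[k] H := AlgHom.ofLinearMap (HopfRep.Comod.coact (k := k) (A := H)) hone hmul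
  let φ : S ⊗[k] H →ₐ[k] S ⊗[k] H :=
    Algebra.TensorProduct.lift ρ Algebra.TensorProduct.includeRight fun _ _ => Commute.all _ _
  let γ : S →ₐ[k] S ⊗[k] H :=
    (Algebra.TensorProduct.map (AlgHom.id k S) (HopfAlgebra.antipodeAlgHom k H)).comp ρ
  let ψ : S ⊗[k] H →ₐ[k] S ⊗[k] H :=
    Algebra.TensorProduct.lift γ Algebra.TensorProduct.includeRight fun _ _ => Commute.all _ _
  have h1 : ∀ x : S, ψ (ρ x) = x ⊗ₜ[k] (1 : H) := by
    intro x
    refine Eq.trans ?_ (twisted (LinearMap.mul' k H ∘ₗ (HopfAlgebraStruct.antipode (R := k) (A := H)).rTensor H)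
      (fun h => HopfAlgebra.mul_antipode_rTensor_comul_apply h) x)
    show ψ (HopfRep.Comod.coact (k := k) (A := H) x) = _
    generalize HopfRep.Comod.coact (k := k) (A := H) x = z
    induction z with
    | zero => simp
    | add a b ha hb => simp only [map_add, ha, hb]
    | tmul a b =>
      rw [LinearMap.rTensor_tmul, show ψ (a ⊗ₜ[k] b) = γ a * ((1 : S) ⊗ₜ[k] b) from
        Algebra.TensorProduct.lift_tmul _ _ _ a b]
      show Algebra.TensorProduct.map (AlgHom.id k S) (HopfAlgebra.antipodeAlgHom k H)
        (HopfRep.Comod.coact (k := k) (A := H) a) * _ = _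
      generalize HopfRep.Comod.coact (k := k) (A := H) a = y
      induction y with
      | zero => simp
      | add p q hp hq => simp only [map_add, add_mul, TensorProduct.add_tmul, hp, hq]
      | tmul p q => simp
  have h2 : ∀ x : S, φ (γ x) = x ⊗ₜ[k] (1 : H) := by
    intro x
    refine Eq.trans ?_ (twisted (LinearMap.mul' k H ∘ₗ (HopfAlgebraStruct.antipode (R := k) (A := H)).lTensor H)
      (fun h => HopfAlgebra.mul_antipode_lTensor_comul_apply h) x)
    show φ (Algebra.TensorProduct.map (AlgHom.id k S) (HopfAlgebra.antipodeAlgHom k H)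
        (HopfRep.Comod.coact (k := k) (A := H) x)) = _
    generalize HopfRep.Comod.coact (k := k) (A := H) x = z
    induction z with
    | zero => simp
    | add a b ha hb => simp only [map_add, ha, hb]
    | tmul a b =>
      rw [LinearMap.rTensor_tmul, Algebra.TensorProduct.map_tmul,
        show φ ((AlgHom.id k S) a ⊗ₜ[k] (HopfAlgebra.antipodeAlgHom k H) b) =
          ρ a * ((1 : S) ⊗ₜ[k] (HopfAlgebra.antipodeAlgHom k H) b) from Algebra.TensorProduct.lift_tmul _ _ _ _ _]
      show HopfRep.Comod.coact (k := k) (A := H) a * _ = _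
      generalize HopfRep.Comod.coact (k := k) (A := H) a = y
      induction y with
      | zero => simp
      | add p q hp hq => simp only [map_add, add_mul, TensorProduct.add_tmul, hp, hq]
      | tmul p q => simp
  have hψφ : ψ.comp φ = AlgHom.id k _ := Algebra.TensorProduct.ext
    (AlgHom.ext fun x => by simpa [φ, ← Algebra.TensorProduct.one_def] using h1 x)
    (AlgHom.ext fun h => by simp [φ, ψ])
  have hφψ : φ.comp ψ = AlgHom.id k _ := Algebra.TensorProduct.ext
    (AlgHom.ext fun x => by simpa [ψ, ← Algebra.TensorProduct.one_def] using h2 x)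
    (AlgHom.ext fun h => by simp [φ, ψ])
  let e : S ⊗[k] H ≃ₐ[k] S ⊗[k] H := AlgEquiv.ofAlgHom φ ψ hφψ hψφ
  have hs' : s ⊗ₜ[k] (1 : H) ∈ nonZeroDivisors (S ⊗[k] H) := includeLeft_nzd hs
  have : ρ s = e (s ⊗ₜ[k] 1) := by simp [e, φ, ← Algebra.TensorProduct.one_def]
  show ρ s ∈ _
  rw [this]
  exact equiv_nzd e.toRingEquiv hs'
where
  includeLeft_nzd {s : S} (hs : s ∈ nonZeroDivisors S) : s ⊗ₜ[k] (1 : H) ∈ nonZeroDivisors (S ⊗[k] H) := by
    refine mem_nonZeroDivisors_iff_right.2 fun z hz => ?_
    have hinj : Function.Injective ((LinearMap.mulRight k s).rTensor H) :=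
      Module.Flat.rTensor_preserves_injective_linearMap _ fun a b h =>
        (mul_cancel_right_mem_nonZeroDivisors hs).1 h
    have e : (LinearMap.mulRight k s).rTensor H z = z * (s ⊗ₜ[k] (1 : H)) := by
      clear hz
      induction z with
      | zero => simp
      | add a b ha hb => simp only [map_add, add_mul, ha, hb]
      | tmul a b => simp
    exact hinj (by rw [e, hz, map_zero])

end



/-- Let k be a field, H a finitely generated commutative Hopf algebra over k (the coordinate ring of a
group scheme affine and of finite type over k), and S a commutative k-algebra which is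
ring-isomorphic to a finite product of normal (integrally closed) domains and carries an H-comodule
structure whose coaction S → S ⊗ H is multiplicative and unital. Then the k-subalgebra of invariants
of S, the elements s whose coaction is s ⊗ 1, is again ring-isomorphic to a finite product of normal
domains. -/
theorem result (k : Type u) [Field k]
    (H : Type u) [CommRing H] [HopfAlgebra k H] [Algebra.FiniteType k H]
    (S : Type u) [CommRing S] [Algebra k S] [HopfRep.Comod k H S]
    (hmul : ∀ x y : S, HopfRep.Comod.coact (k := k) (A := H) (x * y) =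
        HopfRep.Comod.coact (k := k) (A := H) x * HopfRep.Comod.coact (k := k) (A := H) y)
    (hone : HopfRep.Comod.coact (k := k) (A := H) (1 : S) = 1)
    {ι : Type u} [Fintype ι] (D : ι → Type u) [∀ i, CommRing (D i)] [∀ i, IsDomain (D i)]
    [∀ i, IsIntegrallyClosed (D i)] (e : S ≃+* Π i, D i)
    (A : Subalgebra k S)
    (hA : ∀ a : S, a ∈ A ↔ HopfRep.Comod.coact (k := k) (A := H) a = a ⊗ₜ[k] (1 : H)) :
    ∃ (κ : Type u) (_ : Fintype κ) (E : κ → Type u) (_ : ∀ j, CommRing (E j)) (_ : ∀ j, IsDomain (E j))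
      (_ : ∀ j, IsIntegrallyClosed (E j)), Nonempty (A ≃+* Π j, E j) := by
  classical
  let ρ : S →+* S ⊗[k] H :=
    (AlgHom.ofLinearMap (HopfRep.Comod.coact (k := k) (A := H)) hone hmul : S →ₐ[k] S ⊗[k] H).toRingHom
  let ι₁ : S →+* S ⊗[k] H := (Algebra.TensorProduct.includeLeft : S →ₐ[k] S ⊗[k] H).toRingHom
  let F : Set ((Π i, D i) →+* S ⊗[k] H) := {ρ.comp e.symm.toRingHom, ι₁.comp e.symm.toRingHom}
  let A' : Subring (Π i, D i) := A.toSubring.map e.toRingHom
  have hA' : ∀ x, x ∈ A' ↔ ∀ f ∈ F, ∀ f' ∈ F, f x = f' x := by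
    intro x
    have hx : x ∈ A' ↔ HopfRep.Comod.coact (k := k) (A := H) (e.symm x) = e.symm x ⊗ₜ[k] (1 : H) := by
      rw [← hA]
      constructor
      · rintro ⟨a, ha, rfl⟩
        simpa using ha
      · exact fun h => ⟨e.symm x, h, e.apply_symm_apply x⟩
    rw [hx]
    constructor
    · rintro h f (rfl | rfl) f' (rfl | rfl)
      · rfl
      · exact h
      · exact h.symm
      · rfl
    · intro h
      exact h _ (Or.inl rfl) _ (Or.inr rfl)
  have hsym : ∀ s ∈ nonZeroDivisors (Π i, D i), e.symm s ∈ nonZeroDivisors S := fun s hs =>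
    equiv_nzd e.symm hs
  obtain ⟨κ, hκ, E, hE, hd, hi, ⟨g⟩⟩ := S11135.result D (S ⊗[k] H) F (by
    rintro f (rfl | rfl) s hs
    · exact coact_nzd hmul hone (hsym s hs)
    · exact coact_nzd.includeLeft_nzd (hsym s hs)) A' hA'
  exact ⟨κ, hκ, E, hE, hd, hi, ⟨(e.subringMap (s := A.toSubring)).trans g⟩⟩

end Groth.Agent.S11141
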