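import Mathlib
import Groth.Statements.S11142
-- import your own Groth.Agent.* helpers here

set_option autoImplicit false
universe u
open CategoryTheory AlgebraicGeometry
open FlatMor

namespace Groth.Agent.S11142

/-- For a flat morphism f : X → Y between locally Noetherian schemes, the preimage under f of any dense
open subset of Y is dense in X. -/
theorem result (X Y : Scheme.{u}) [IsLocallyNoetherian X]
    [IsLocallyNoetherian Y] (f : X ⟶ Y) [Flat f] (U : Y.Opens) (hU : Dense (U : Set Y)) :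
    Dense ((f ⁻¹ᵁ U : X.Opens) : Set X) := by
  rw [dense_iff_inter_open]
  intro W hW hWne
  obtain ⟨w, hw⟩ := hWne
  obtain ⟨_, ⟨V, hV, rfl⟩, hwV, hVW⟩ := X.isBasis_affineOpens.exists_subset_of_mem_open hw hW
  -- a point of `V` maximal for generalization
  have hmin : ∃ η ∈ (V : Set X), ∀ η' : X, η' ⤳ η → η ⤳ η' := by
    haveI : Nonempty V := ⟨⟨w, hwV⟩⟩
    obtain ⟨q, hq, -⟩ := Ideal.exists_minimalPrimes_le (I := (⊥ : Ideal Γ(X, V)))
      (J := (hV.primeIdealOf ⟨w, hwV⟩).asIdeal) bot_le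
    let Q : PrimeSpectrum Γ(X, V) := ⟨q, hq.1.1⟩
    refine ⟨hV.fromSpec Q, by rw [← hV.range_fromSpec]; exact ⟨Q, rfl⟩, fun η' hη' => ?_⟩
    have hmem : η' ∈ Set.range hV.fromSpec := by
      rw [hV.range_fromSpec]
      exact hη'.mem_open V.2 (by rw [← hV.range_fromSpec]; exact ⟨Q, rfl⟩)
    obtain ⟨Q', rfl⟩ := hmem
    have h1 : Q' ⤳ Q := hV.fromSpec.isOpenEmbedding.isInducing.specializes_iff.1 hη'
    have h2 : Q'.asIdeal ≤ Q.asIdeal := (PrimeSpectrum.le_iff_specializes Q' Q).2 h1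
    have h3 : Q' = Q := PrimeSpectrum.ext (le_antisymm h2 (hq.2 ⟨Q'.isPrime, bot_le⟩ h2))
    rw [h3]
  obtain ⟨η, hηV, hη⟩ := hmin
  refine ⟨η, hVW hηV, ?_⟩
  show f η ∈ U
  -- its image is maximal as well, and lies in every dense open
  obtain ⟨_, ⟨T, hT, rfl⟩, hyT, -⟩ := Y.isBasis_affineOpens.exists_subset_of_mem_open (Set.mem_univ (f η)) isOpen_univ
  haveI : IsNoetherianRing Γ(Y, T) := IsLocallyNoetherian.component_noetherian ⟨T, hT⟩
  obtain ⟨p, hp⟩ : ∃ p, hT.fromSpec p = f η := by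
    have : f η ∈ Set.range hT.fromSpec := by rw [hT.range_fromSpec]; exact hyT
    exact this
  have hpmin : p.asIdeal ∈ minimalPrimes Γ(Y, T) := by
    obtain ⟨q, hq, hqp⟩ := Ideal.exists_minimalPrimes_le (I := (⊥ : Ideal Γ(Y, T))) (J := p.asIdeal) bot_le
    let Q : PrimeSpectrum Γ(Y, T) := ⟨q, hq.1.1⟩
    have h1 : hT.fromSpec Q ⤳ f η := hp ▸ ((PrimeSpectrum.le_iff_specializes Q p).1 hqp).map hT.fromSpec.continuous
    obtain ⟨η', hη', hη''⟩ := Flat.generalizingMap f h1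
    have h2 : f η ⤳ hT.fromSpec Q := hη'' ▸ (hη η' hη').map f.continuous
    rw [← hp] at h2
    have h3 : p.asIdeal ≤ q := (PrimeSpectrum.le_iff_specializes p Q).2 (hT.fromSpec.isOpenEmbedding.isInducing.specializes_iff.1 h2)
    exact le_antisymm h3 hqp ▸ hq
  classical
  have hfin : (minimalPrimes Γ(Y, T)).Finite := minimalPrimes.finite_of_isNoetherianRing _
  let s := hfin.toFinset.erase p.asIdeal
  have hnle : ¬ s.inf id ≤ p.asIdeal := fun hle => by
    obtain ⟨q, hq, hqp⟩ := (p.isPrime.inf_le').1 hle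
    obtain ⟨hne, hq⟩ := Finset.mem_erase.1 hq
    rw [Set.Finite.mem_toFinset] at hq
    exact hne (le_antisymm hqp (hpmin.2 ⟨hq.1.1, bot_le⟩ hqp))
  obtain ⟨g, hg, hgp⟩ := SetLike.not_le_iff_exists.1 hnle
  obtain ⟨z, ⟨z', hz', hzz⟩, hzU⟩ := hU.inter_open_nonempty (hT.fromSpec '' (PrimeSpectrum.basicOpen g : Set (PrimeSpectrum Γ(Y, T))))
    (hT.fromSpec.isOpenEmbedding.isOpenMap _ (PrimeSpectrum.basicOpen g).isOpen) ⟨_, p, hgp, rfl⟩
  obtain ⟨q, hq, hqz⟩ := Ideal.exists_minimalPrimes_le (I := (⊥ : Ideal Γ(Y, T))) (J := z'.asIdeal) bot_le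
  have hqp : q = p.asIdeal := by
    by_contra hne
    exact hz' (hqz (Finset.inf_le (f := id) (Finset.mem_erase.2 ⟨hne, hfin.mem_toFinset.2 hq⟩) hg))
  subst hqp
  have : f η ⤳ z := hzz ▸ hp ▸ ((PrimeSpectrum.le_iff_specializes p z').1 hqz).map hT.fromSpec.continuous
  exact this.mem_open U.2 hzU

end Groth.Agent.S11142
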