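import Groth.Statements.S11160
import Groth.Agent.TriH.RightRes
import Mathlib.Algebra.Homology.DerivedCategory.ExactFunctor
import Mathlib.Algebra.Homology.DerivedCategory.KInjective
import Mathlib.Algebra.Homology.DerivedCategory.TStructure
-- import your own Groth.Agent.* helpers here

set_option autoImplicit false
universe w w' v v' u u'
open CategoryTheory CategoryTheory.Limits
open CohDer

namespace Groth.Agent.S11160

/-- Let ι : A' ⥤ A be an exact fully faithful functor of abelian categories whose essential image is
closed under extensions (a thick abelian subcategory), and suppose every object of A' admits a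
monomorphism into an object of A' whose image in A is injective (A' has enough A-injectives). Then
the induced triangulated functor D(A') ⥤ D(A) is fully faithful on cohomologically bounded below
objects. -/
theorem result {A' : Type u'} [Category.{v'} A'] [Abelian A'] [HasDerivedCategory.{w'} A']
    {A : Type u} [Category.{v} A] [Abelian A] [HasDerivedCategory.{w} A]
    (ι : A' ⥤ A) [ι.Additive] [PreservesFiniteLimits ι] [PreservesFiniteColimits ι] [ι.Full] [ι.Faithful]
    (hext : ∀ S : ShortComplex A, S.ShortExact → ι.essImage S.X₁ → ι.essImage S.X₃ → ι.essImage S.X₂)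
    (hinj : ∀ X' : A', ∃ (Y' : A') (i : X' ⟶ Y'), Mono i ∧ Injective (ι.obj Y'))
    (X Y : DerivedCategory A') (a b : ℤ) [X.IsGE a] [Y.IsGE b] :
    Function.Bijective (fun f : X ⟶ Y => ι.mapDerivedCategory.map f) := by
  
  obtain ⟨L, _, ⟨eY⟩⟩ := DerivedCategory.exists_iso_Q_obj_of_isGE Y b
  haveI := ι.preservesZeroMorphisms_of_full
  obtain ⟨I, α, hI, hI', -, hα⟩ := Groth.Agent.TriH.RightRes.exists_right_resolution
    (I := fun Y' : A' => Injective (ι.obj Y')) ⟨_, isZero_zero A', (ι.map_isZero (isZero_zero A')).injective⟩
    (fun X' => by obtain ⟨Y', i, hi, hY'⟩ := hinj X'; exact ⟨Y', i, hY', hi⟩) L b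
  haveI := hI
  let J : CochainComplex A ℤ := (ι.mapHomologicalComplex (ComplexShape.up ℤ)).obj I
  haveI : ∀ n, Injective (J.X n) := hI'
  haveI : J.IsKInjective := CochainComplex.isKInjective_of_injective J b
  haveI : ∀ n, Injective (I.X n) := fun n => ι.injective_of_map_injective (hI' n)
  haveI : I.IsKInjective := CochainComplex.isKInjective_of_injective I b
  let y := (HomotopyCategory.quotient A' (ComplexShape.up ℤ)).obj I
  let e : Y ≅ DerivedCategory.Qh.obj y :=
    eY ≪≫ asIso (DerivedCategory.Q.map α) ≪≫ ((DerivedCategory.quotientCompQhIso A').app I).symm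
  obtain ⟨x, ⟨e'⟩⟩ : ∃ x, Nonempty (DerivedCategory.Qh.obj x ≅ X) :=
    ⟨_, ⟨DerivedCategory.Qh.objObjPreimageIso X⟩⟩
  let ey : (ι.mapHomotopyCategory (ComplexShape.up ℤ)).obj y ≅
      (HomotopyCategory.quotient A (ComplexShape.up ℤ)).obj J :=
    (ι.mapHomotopyCategoryFactors (ComplexShape.up ℤ)).app I
  let H := ι.mapHomotopyCategory (ComplexShape.up ℤ) ⋙ DerivedCategory.Qh
  have hH : Function.Bijective (fun g : x ⟶ y => H.map g) := by
    have h0 : Function.Bijective
        (fun g : x ⟶ y => DerivedCategory.Qh.map ((ι.mapHomotopyCategory _).map g ≫ ey.hom)) :=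
      (CochainComplex.IsKInjective.Qh_map_bijective _ J).comp
        ((ey.homToEquiv).bijective.comp ⟨Functor.map_injective _, Functor.map_surjective _⟩)
    have : (fun g : x ⟶ y => H.map g) =
        (fun k => k ≫ DerivedCategory.Qh.map ey.inv) ∘
          (fun g : x ⟶ y => DerivedCategory.Qh.map ((ι.mapHomotopyCategory _).map g ≫ ey.hom)) := by
      funext g
      simp [H]
    rw [this]
    exact ((DerivedCategory.Qh.mapIso ey).symm.homToEquiv).bijective.comp h0
  have hM : Function.Bijective
      (fun g : x ⟶ y => ι.mapDerivedCategory.map (DerivedCategory.Qh.map g)) := by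
    have : (fun g : x ⟶ y => ι.mapDerivedCategory.map (DerivedCategory.Qh.map g)) =
        (fun k => ι.mapDerivedCategoryFactorsh.hom.app x ≫ k ≫ ι.mapDerivedCategoryFactorsh.inv.app y) ∘
          (fun g : x ⟶ y => H.map g) := by
      funext g
      exact (NatIso.naturality_2 ι.mapDerivedCategoryFactorsh g).symm
    rw [this]
    exact (((ι.mapDerivedCategoryFactorsh.app x).symm.homCongr
      (ι.mapDerivedCategoryFactorsh.app y).symm).bijective).comp hH
  have hM' : Function.Bijective (fun f : DerivedCategory.Qh.obj x ⟶ DerivedCategory.Qh.obj y =>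
      ι.mapDerivedCategory.map f) :=
    (Function.Bijective.of_comp_iff _ (CochainComplex.IsKInjective.Qh_map_bijective x I)).1 hM
  have : (fun f : X ⟶ Y => ι.mapDerivedCategory.map f) =
      ((ι.mapDerivedCategory.mapIso e').homCongr (ι.mapDerivedCategory.mapIso e).symm) ∘
        (fun f : DerivedCategory.Qh.obj x ⟶ DerivedCategory.Qh.obj y => ι.mapDerivedCategory.map f) ∘
        ((e'.homCongr e.symm).symm) := by
    funext f
    simp [Iso.homCongr, ← Functor.map_comp]
  rw [this]
  exact (Equiv.bijective _).comp (hM'.comp (Equiv.bijective _))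

end Groth.Agent.S11160
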