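import Groth.Statements.S11167
import Groth.Agent.Ref1.Generic
import Groth.Agent.QCohLib.Basic
-- import your own Groth.Agent.* helpers here

set_option autoImplicit false
universe u
open CategoryTheory CategoryTheory.Limits AlgebraicGeometry
open Coherent

namespace Groth.Agent.S11167

open CategoryTheory CategoryTheory.Limits AlgebraicGeometry TopologicalSpace in
theorem exists_open_mem_span {X : Scheme.{u}} [IsLocallyNoetherian X] {U : X.Opens} (hU : IsAffineOpen U)
    (x : X) (hx : x ∈ U) {n : ℕ} (σ : Fin n → Γ(X, U)) :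
    ∃ W : X.Opens, x ∈ W ∧ ∃ hW : W ≤ U, ∀ (y : X) (hy : y ∈ W) (hxy : x ⤳ y) (e : X.presheaf.stalk y),
      X.presheaf.stalkSpecializes hxy e ∈ Ideal.span (Set.range fun j => X.presheaf.germ U x hx (σ j)) →
      e ∈ Ideal.span (Set.range fun j => X.presheaf.germ U y (hW hy) (σ j)) := by
  classical
  haveI := IsLocallyNoetherian.component_noetherian ⟨U, hU⟩
  letI := X.presheaf.algebra_section_stalk ⟨x, hx⟩
  haveI := hU.isLocalization_stalk ⟨x, hx⟩
  set J : Ideal Γ(X, U) := Ideal.span (Set.range σ)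
  set J' : Ideal Γ(X, U) := (J.map (X.presheaf.germ U x hx).hom).comap (X.presheaf.germ U x hx).hom
  obtain ⟨g, hg⟩ : J'.FG := IsNoetherian.noetherian J'
  have hf : ∀ a ∈ J', ∃ f : Γ(X, U), f ∈ (hU.primeIdealOf ⟨x, hx⟩).asIdeal.primeCompl ∧ f * a ∈ J :=
    fun a ha => (IsLocalization.algebraMap_mem_map_algebraMap_iff _ (X.presheaf.stalk x) J a).1 ha
  choose! f hfp hfJ using hf
  have hgJ : ∀ a ∈ g, a ∈ J' := fun a ha => hg ▸ Ideal.subset_span ha
  let F := ∏ a ∈ g, f a
  have hFJ : ∀ a ∈ J', F * a ∈ J := by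
    intro a ha
    have : Ideal.span (g : Set Γ(X, U)) ≤ J.colon (Ideal.span {F} : Set Γ(X, U)) := by
      rw [Ideal.span_le]
      intro b hb
      rw [SetLike.mem_coe, Submodule.mem_colon]
      intro c hc
      obtain ⟨c, rfl⟩ := Ideal.mem_span_singleton'.1 hc
      rw [smul_eq_mul, show b * (c * F) = c * (∏ a ∈ g.erase b, f a) * (f b * b) by
        rw [show F = f b * ∏ a ∈ g.erase b, f a from (Finset.mul_prod_erase g f hb).symm]; ring]
      exact Ideal.mul_mem_left _ _ (hfJ b (hgJ b hb))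
    have h := Submodule.mem_colon.1 (this (hg.symm ▸ ha)) F (Ideal.mem_span_singleton_self F)
    rwa [smul_eq_mul, mul_comm] at h
  have hFu : IsUnit (X.presheaf.germ U x hx F) := by
    have hFp : F ∈ (hU.primeIdealOf ⟨x, hx⟩).asIdeal.primeCompl :=
      prod_mem fun a ha => hfp a (hgJ a ha)
    exact IsLocalization.map_units (X.presheaf.stalk x) (⟨F, hFp⟩ : (hU.primeIdealOf ⟨x, hx⟩).asIdeal.primeCompl)
  refine ⟨X.basicOpen F, (X.mem_basicOpen F x hx).2 hFu, X.basicOpen_le F, fun y hy hxy e he => ?_⟩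
  have hyU : y ∈ U := X.basicOpen_le F hy
  letI := X.presheaf.algebra_section_stalk ⟨y, hyU⟩
  haveI := hU.isLocalization_stalk ⟨y, hyU⟩
  obtain ⟨⟨a, d⟩, had⟩ := IsLocalization.surj (hU.primeIdealOf ⟨y, hyU⟩).asIdeal.primeCompl e
  have hd : IsUnit (X.presheaf.germ U y hyU d.1) := IsLocalization.map_units (X.presheaf.stalk y) d
  have had' : e * X.presheaf.germ U y hyU d.1 = X.presheaf.germ U y hyU a := had
  have ha : a ∈ J' := by
    rw [Ideal.mem_comap, Ideal.map_span, ← Set.range_comp]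
    have h2 := congrArg (X.presheaf.stalkSpecializes hxy) had'
    rw [map_mul, TopCat.Presheaf.germ_stalkSpecializes_apply, TopCat.Presheaf.germ_stalkSpecializes_apply] at h2
    exact h2 ▸ Ideal.mul_mem_right _ _ he
  have h3 : X.presheaf.germ U y hyU (F * a) ∈ J.map (X.presheaf.germ U y hyU).hom :=
    Ideal.mem_map_of_mem _ (hFJ a ha)
  rw [Ideal.map_span, ← Set.range_comp, map_mul, ← had'] at h3
  exact (Ideal.mul_unit_mem_iff_mem _ hd).1
    ((Ideal.unit_mul_mem_iff_mem _ ((X.mem_basicOpen F y hyU).1 hy)).1 h3)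

open CategoryTheory CategoryTheory.Limits AlgebraicGeometry TopologicalSpace in
/-- The germs at `x` of a finite family of local sections. -/
def germSet {X : Scheme.{u}} (G : X.Modules) (S : Finset (Σ U : X.Opens, Γ(G, U))) (x : X) :
    Set (G.presheaf.stalk x) :=
  {g | ∃ p ∈ S, ∃ h : x ∈ p.1, G.presheaf.germ p.1 x h p.2 = g}

open CategoryTheory CategoryTheory.Limits AlgebraicGeometry TopologicalSpace in
theorem exists_gen_on_closed {X : Scheme.{u}} [IsNoetherian X] (G : X.Modules)
    (ι : G ⟶ Coh.structureModule X) [Mono ι] (C : Closeds X) :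
    ∃ S : Finset (Σ U : X.Opens, Γ(G, U)), ∀ x ∈ C,
      Submodule.span (X.presheaf.stalk x) (germSet G S x) = ⊤ := by
  classical
  induction C using WellFoundedLT.induction with
  | ind C IH =>
  have mono : ∀ {S T : Finset (Σ U : X.Opens, Γ(G, U))}, S ⊆ T → ∀ x,
      Submodule.span (X.presheaf.stalk x) (germSet G S x) = ⊤ →
        Submodule.span (X.presheaf.stalk x) (germSet G T x) = ⊤ := fun hST x h =>
    eq_top_iff.2 (h ▸ Submodule.span_mono fun g ⟨p, hp, hg⟩ => ⟨p, hST hp, hg⟩)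
  rcases (C : Set X).eq_empty_or_nonempty with hC | hC
  · exact ⟨∅, fun x hx => absurd (show x ∈ (C : Set X) from hx) (hC ▸ Set.notMem_empty x)⟩
  by_cases hirr : IsPreirreducible (C : Set X)
  · obtain ⟨x, hx⟩ := QuasiSober.sober ⟨hC, hirr⟩ C.isClosed
    have hxC : x ∈ C := hx.mem
    have hinj : ∀ y : X, Function.Injective (QCohLib.stalkLinearMap ι y) := fun y =>
      (QCohLib.mono_iff_stalk_injective ι).1 inferInstance y
    haveI : Module.Finite (X.presheaf.stalk x) (G.presheaf.stalk x) := by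
      haveI : IsNoetherian (X.presheaf.stalk x) ((Coh.structureModule X).presheaf.stalk x) :=
        isNoetherian_of_linearEquiv (LinearEquiv.ofBijective
          (LinearMap.toSpanSingleton (X.presheaf.stalk x) ((Coh.structureModule X).presheaf.stalk x) (Ref1.one x))
          (Ref1.unit_stalk_bijective x))
      exact Module.Finite.of_injective _ (hinj x)
    obtain ⟨n, g, hg⟩ := Module.Finite.exists_fin (R := X.presheaf.stalk x) (M := G.presheaf.stalk x)
    choose V hxV t ht using fun j => G.presheaf.exists_germ_eq (g j)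
    obtain ⟨_, ⟨U, hU, rfl⟩, hxU, hUV⟩ := X.isBasis_affineOpens.exists_subset_of_mem_open
      (show x ∈ ⋂ j, (V j : Set X) from Set.mem_iInter.2 hxV) (isOpen_iInter_of_finite fun j => (V j).2)
    let s : Fin n → Γ(G, U) := fun j =>
      G.presheaf.map (homOfLE fun z hz => Set.mem_iInter.1 (hUV hz) j : U ⟶ V j).op (t j)
    have hs : ∀ j, G.presheaf.germ U x hxU (s j) = g j := fun j =>
      (TopCat.Presheaf.germ_res_apply G.presheaf _ x hxU (t j)).trans (ht j)
    obtain ⟨W, hxW, hWU, hW⟩ := exists_open_mem_span hU x hxU (fun j => (show Γ(X, U) from ι.app U (s j)))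
    have hlt : C ⊓ ⟨(W : Set X)ᶜ, W.2.isClosed_compl⟩ < C :=
      lt_of_le_of_ne inf_le_left fun h => (h.symm ▸ hxC : x ∈ C ⊓ ⟨(W : Set X)ᶜ, W.2.isClosed_compl⟩).2 hxW
    obtain ⟨S, hS⟩ := IH _ hlt
    refine ⟨S ∪ Finset.univ.image (fun j => ⟨U, s j⟩), fun y hy => ?_⟩
    by_cases hyW : y ∈ W
    · have hxy : x ⤳ y := hx.specializes hy
      refine eq_top_iff.2 fun m _ => ?_
      obtain ⟨e, he⟩ := Ref1.unit_stalk_exists y (QCohLib.stalkLinearMap ι y m)
      have him : ∀ (z : X) (hz : z ∈ U) (j : Fin n), QCohLib.stalkLinearMap ι z (G.presheaf.germ U z hz (s j)) =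
          X.presheaf.germ U z hz (show Γ(X, U) from ι.app U (s j)) • Ref1.one z := fun z hz j =>
        (QCohLib.stalkHom_germ ι U z hz (s j)).trans (Ref1.germ_unit z hz _)
      have hex : X.presheaf.stalkSpecializes hxy e ∈
          Ideal.span (Set.range fun j => X.presheaf.germ U x hxU (show Γ(X, U) from ι.app U (s j))) := by
        obtain ⟨O, hyO, t', rfl⟩ := G.presheaf.exists_germ_eq m
        have he' : e = X.presheaf.germ O y hyO (show Γ(X, O) from ι.app O t') :=
          (Ref1.unit_stalk_bijective y).1 (he.symm.trans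
            ((QCohLib.stalkHom_germ ι O y hyO t').trans (Ref1.germ_unit y hyO _)))
        have hxO : x ∈ O := hxy.mem_open O.2 hyO
        rw [he', TopCat.Presheaf.germ_stalkSpecializes_apply]
        have h1 : G.presheaf.germ O x hxO t' ∈ Submodule.span (X.presheaf.stalk x) (Set.range g) :=
          hg ▸ Submodule.mem_top
        obtain ⟨a, ha⟩ := (Submodule.mem_span_range_iff_exists_fun _).1 h1
        refine Ideal.mem_span_range_iff_exists_fun.2 ⟨a, (Ref1.unit_stalk_bijective x).1 ?_⟩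
        change (∑ i, a i * X.presheaf.germ U x hxU (show Γ(X, U) from ι.app U (s i))) • Ref1.one x =
          X.presheaf.germ O x hxO (show Γ(X, O) from ι.app O t') • Ref1.one x
        rw [← Ref1.germ_unit, ← QCohLib.stalkHom_germ, ← QCohLib.stalkLinearMap_apply, ← ha, map_sum, Finset.sum_smul]
        exact Finset.sum_congr rfl fun i _ => by rw [map_smul, ← hs i, him, mul_smul]
      obtain ⟨a, ha⟩ := Ideal.mem_span_range_iff_exists_fun.1 (hW y hyW hxy e hex)
      have hm : m = ∑ j, a j • G.presheaf.germ U y (hWU hyW) (s j) := by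
        refine hinj y ?_
        rw [he, map_sum, ← ha, Finset.sum_smul]
        exact Finset.sum_congr rfl fun i _ => by rw [map_smul, him, mul_smul]
      rw [hm]
      refine sum_mem fun j _ => Submodule.smul_mem _ _ (Submodule.subset_span
        ⟨⟨U, s j⟩, Finset.mem_union_right _ (Finset.mem_image_of_mem _ (Finset.mem_univ j)), hWU hyW, rfl⟩)
    · exact mono Finset.subset_union_left y (hS y ⟨hy, hyW⟩)
  · rw [isPreirreducible_iff_isClosed_union_isClosed] at hirr
    push Not at hirr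
    obtain ⟨z₁, z₂, h1, h2, hsub, hn1, hn2⟩ := hirr
    have hlt : ∀ (z : Set X) (hz : IsClosed z), ¬ (C : Set X) ⊆ z → C ⊓ ⟨z, hz⟩ < C := fun z hz hn =>
      lt_of_le_of_ne inf_le_left fun h => hn fun w hw => (h.symm ▸ hw : w ∈ C ⊓ ⟨z, hz⟩).2
    obtain ⟨S₁, hS₁⟩ := IH _ (hlt z₁ h1 hn1)
    obtain ⟨S₂, hS₂⟩ := IH _ (hlt z₂ h2 hn2)
    refine ⟨S₁ ∪ S₂, fun y hy => ?_⟩
    rcases hsub hy with h | h
    · exact mono Finset.subset_union_left y (hS₁ y ⟨hy, h⟩)
    · exact mono Finset.subset_union_right y (hS₂ y ⟨hy, h⟩)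


/-- Let X be a Noetherian scheme and G ⟶ O_X a sub-O_X-module of the structure sheaf (a sheaf of ideals,
not necessarily quasi-coherent). Then there are finitely many opens U_i of X and finitely many
sections s_{ij} ∈ G(U_i) such that for every point x of X the germs at x of those s_{ij} with x ∈
U_i generate the stalk G_x as an O_{X,x}-module. -/
theorem result {X : Scheme.{u}} [IsNoetherian X]
    (G : X.Modules) (ι : G ⟶ Coh.structureModule X) [Mono ι] :
    ∃ (m : ℕ) (U : Fin m → X.Opens) (k : Fin m → ℕ)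
      (s : (i : Fin m) → Fin (k i) → (G.presheaf.obj (Opposite.op (U i)) : Type u)),
      ∀ x : X, Submodule.span (X.presheaf.stalk x)
          (Set.range (fun p : (Σ i : {i : Fin m // x ∈ U i}, Fin (k i.1)) =>
            (G.presheaf.germ (U p.1.1) x p.1.2) (s p.1.1 p.2))) = ⊤ := by
  classical
  obtain ⟨S, hS⟩ := exists_gen_on_closed G ι ⊤
  let e := S.equivFin.symm
  refine ⟨S.card, fun i => (e i).1.1, fun _ => 1, fun i _ => (e i).1.2, fun x => ?_⟩
  rw [eq_top_iff, ← hS x trivial]
  refine Submodule.span_mono ?_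
  rintro g ⟨p, hp, hxp, rfl⟩
  have hi : x ∈ (e (S.equivFin ⟨p, hp⟩)).1.1 := by rw [Equiv.symm_apply_apply]; exact hxp
  refine ⟨⟨⟨S.equivFin ⟨p, hp⟩, hi⟩, 0⟩, ?_⟩
  have key : ∀ (q : {q // q ∈ S}) (hq : x ∈ q.1.1), q = ⟨p, hp⟩ →
      G.presheaf.germ q.1.1 x hq q.1.2 = G.presheaf.germ p.1 x hxp p.2 := by
    rintro q hq rfl; rfl
  exact key _ hi (Equiv.symm_apply_apply _ _)

end Groth.Agent.S11167
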