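import Groth.Statements.S11173
import Groth.Agent.DualCx.Pointwise
-- import your own Groth.Agent.* helpers here

set_option autoImplicit false
universe u
open CategoryTheory
attribute [local instance] HasDerivedCategory.standard
open Dual

namespace Groth.Agent.S11173

/-- Let A be a Noetherian ring of finite Krull dimension and R an object of D(A) whose cohomology
modules are finite and vanish in all sufficiently negative degrees. If for every prime ideal p of A
the derived base change of R to the local ring A_p (the total left derived functor of extension of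
scalars, assumed to exist) is a dualizing complex for A_p, then R is a dualizing complex for A. (The
published statement is for a Noetherian scheme of finite Krull dimension and a pointwise dualizing
complex; this row is its affine case, with the pointwise hypothesis expressed through the local
rings at all primes.) -/
theorem result (A : Type u) [CommRing A] [IsNoetherianRing A] (hdim : ringKrullDim A < ⊤) (R : Dual.D A) (hfin : ∀ i : ℤ, Module.Finite A (Dual.HD A R i)) (hbdd : ∃ a : ℤ, ∀ i : ℤ, i < a → Subsingleton (Dual.HD A R i)) (h : ∀ p : PrimeSpectrum A, ∃ _ : DRing.HasLBaseChange (algebraMap A (Localization.AtPrime p.asIdeal)), Dual.IsDualizing (Localization.AtPrime p.asIdeal) ((DRing.LBaseChange (algebraMap A (Localization.AtPrime p.asIdeal))).obj R)) : Dual.IsDualizing A R := by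
  obtain ⟨a, ha⟩ := hbdd
  obtain ⟨W, hW, hWinj, hzero, ⟨e⟩⟩ := Groth.Agent.DualCx.exists_model_below a ha
  haveI := hW
  haveI := hWinj
  rcases subsingleton_or_nontrivial A with hA | hA
  · obtain ⟨b, hb⟩ : ∃ b : ℤ, ∀ (N : Type u) [AddCommGroup N] [Module A N] [Module.Finite A N] (i : ℤ), b < i →
        Subsingleton (Groth.Agent.DualCx.EH W N i) := ⟨0, fun N _ _ _ i _ => Module.subsingleton A _⟩
    exact Groth.Agent.DualCx.isDualizing_of_bound a b hzero e hfin hb fun m hm =>
      absurd hm.ne_top (not_not.2 (Subsingleton.elim _ _))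
  obtain ⟨D, hD⟩ : ∃ D : ℕ, ringKrullDim A ≤ D := by
    obtain ⟨v, hv⟩ := WithBot.ne_bot_iff_exists.1 (fun h0 : ringKrullDim A = ⊥ => by
      have := ringKrullDim_nonneg_of_nontrivial (R := A)
      simp [h0] at this)
    rw [← hv] at hdim
    obtain ⟨D, rfl⟩ := ENat.ne_top_iff_exists.1 (fun h0 => by subst h0; exact lt_irrefl _ hdim : v ≠ ⊤)
    exact ⟨D, hv.ge⟩
  obtain ⟨b, hb⟩ := Groth.Agent.DualCx.exists_bound (W := W) hD fun p => by
    obtain ⟨hL, hd⟩ := h p
    obtain ⟨e'⟩ := Groth.Agent.DualCx.nonempty_extC_iso_LBC_flat
      (Groth.Agent.DualCx.isLocHom_prime p.asIdeal).flat W e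
    exact Groth.Agent.DualCx.exists_residual_pointwise a hzero p.asIdeal e' hd
  refine Groth.Agent.DualCx.isDualizing_of_bound a b hzero e hfin hb fun m hm => ?_
  haveI := hm
  obtain ⟨hL, hd⟩ := h ⟨m, inferInstance⟩
  exact ⟨_, inferInstance, _, m.primeCompl, Groth.Agent.DualCx.isLocHom_prime m, hL, le_rfl, hd⟩

end Groth.Agent.S11173
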