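import Groth.Statements.S11175
import Groth.Agent.LocCohLib.GorOfH

set_option autoImplicit false
universe u
open CategoryTheory
open Goren

namespace Groth.Agent.S11175

/-- A Noetherian local ring A with maximal ideal m is Gorenstein (A has finite injective dimension as a
module over itself) if and only if there is a natural number d such that the local cohomology
modules H^i_m(A) (direct limits of Ext^i(A/m^n, A)) vanish for all i ≠ d and H^d_m(A) is an
injective A-module. -/
theorem result (A : Type u) [CommRing A] [IsLocalRing A] [IsNoetherianRing A] : LocCoh.IsGorensteinLocalRing A ↔ ∃ d : ℕ, (∀ i : ℕ, i ≠ d → Subsingleton (LocCoh.H (IsLocalRing.maximalIdeal A) i A)) ∧ Module.Injective A (LocCoh.H (IsLocalRing.maximalIdeal A) d A) := by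
  constructor
  · intro h
    obtain ⟨d, hd⟩ := ENat.ne_top_iff_exists.1 (Groth.Agent.DepthLib.depth_ne_top (R := A) A)
    exact ⟨d, fun i hi => Groth.Agent.LocCohLib.Gor.subsingleton_gam_homology hd.symm i hi,
      Groth.Agent.LocCohLib.Gor.injective_H_top hd.symm⟩
  · rintro ⟨d, hvan, hinj⟩
    refine Groth.Agent.GorLib.isGorensteinLocalRing_iff.2 ⟨d + 1, fun i hi => ?_⟩
    obtain ⟨t, rfl⟩ : ∃ t, i = t + 1 := ⟨i - 1, by omega⟩
    exact @Groth.Agent.LocCohLib.Gor.ext_vanish_of_injective_H A _ _ _ d hvan hinj t hi

end Groth.Agent.S11175
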