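import Groth.Statements.S11180
import Mathlib
import Groth.Agent.AdicLim.Noetherian
-- import your own Groth.Agent.* helpers here

set_option autoImplicit false
universe u
open scoped TensorProduct
open CAlg

namespace Groth.Agent.S11180

theorem noeth_completion (R : Type u) [CommRing R] [IsLocalRing R] [IsNoetherianRing R] :
    IsNoetherianRing (AdicCompletion (IsLocalRing.maximalIdeal R) R) := by
  let B := AdicCompletion (IsLocalRing.maximalIdeal R) R
  have : IsNoetherianRing (B ⧸ IsLocalRing.maximalIdeal B) :=
    isNoetherianRing_of_ringEquiv (IsLocalRing.ResidueField B) (RingEquiv.refl _)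
  refine AdicLim.isNoetherianRing_of_isAdicComplete (I := IsLocalRing.maximalIdeal B) ?_
  show (IsLocalRing.maximalIdeal (AdicCompletion (IsLocalRing.maximalIdeal R) R)).FG
  rw [AdicCompletion.maximalIdeal_eq_map]
  exact Ideal.FG.map (IsNoetherian.noetherian (IsLocalRing.maximalIdeal R)) _


/-- Let A be a Noetherian ring and M an A-module. If an element m of M is such that 1 ⊗ m = 0 in B ⊗_A M
for every A-algebra B which is a complete Noetherian local ring, flat over A, then m = 0.
(Equivalently the natural map from M to the limit of the modules B ⊗_A M over all such B is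
injective.) -/
theorem result (A : Type u) [CommRing A] [IsNoetherianRing A] (M : Type u) [AddCommGroup M] [Module A M] (m : M) (h : ∀ (B : Type u) [CommRing B] [Algebra A B] [IsNoetherianRing B] [IsLocalRing B], IsAdicComplete (IsLocalRing.maximalIdeal B) B → Module.Flat A B → (1 : B) ⊗ₜ[A] m = 0) : m = 0 := by
  classical
  by_contra hm
  obtain ⟨⟨P, hPmax⟩, hP⟩ : ∃ P : MaximalSpectrum A, haveI := P.isMaximal
      LocalizedModule.mkLinearMap P.asIdeal.primeCompl M m ≠ 0 := by
    obtain ⟨P, hP, hle⟩ := Ideal.exists_le_maximal (LinearMap.ker (LinearMap.toSpanSingleton A M m))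
      (fun hk => hm (by
        have : (1 : A) ∈ LinearMap.ker (LinearMap.toSpanSingleton A M m) := by rw [hk]; trivial
        simpa using this))
    refine ⟨⟨P, hP⟩, fun h0 => ?_⟩
    obtain ⟨⟨s, hs⟩, hsm⟩ := (IsLocalizedModule.eq_zero_iff P.primeCompl
      (LocalizedModule.mkLinearMap P.primeCompl M)).1 h0
    exact hs (hle (by simpa [LinearMap.mem_ker] using hsm))
  haveI := hPmax
  let Aₚ := Localization.AtPrime P
  let B := AdicCompletion (IsLocalRing.maximalIdeal Aₚ) Aₚ
  haveI : Module.Flat A B := Module.Flat.trans A Aₚ B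
  haveI : Module.FaithfullyFlat Aₚ B := Module.FaithfullyFlat.of_flat_of_isLocalHom
  haveI : IsNoetherianRing B := noeth_completion Aₚ
  have h1 := h B inferInstance inferInstance
  have h2 : (1 : B) ⊗ₜ[Aₚ] ((1 : Aₚ) ⊗ₜ[A] m) = 0 := by
    apply (TensorProduct.AlgebraTensorModule.cancelBaseChange A Aₚ Aₚ B M).injective
    rw [TensorProduct.AlgebraTensorModule.cancelBaseChange_tmul, one_smul, map_zero, h1]
  have h3 : (1 : Aₚ) ⊗ₜ[A] m = 0 :=
    Module.FaithfullyFlat.tensorProduct_mk_injective (A := Aₚ) (B := B) (Aₚ ⊗[A] M)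
      (by simpa using h2)
  apply hP
  have := congrArg ((LocalizedModule.equivTensorProduct P.primeCompl M).symm) h3
  rw [map_zero] at this
  rw [← this]
  simp [LocalizedModule.equivTensorProduct]
  try rfl

end Groth.Agent.S11180
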