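import Groth.Statements.S11184
import Groth.Agent.MatlisLib.Coext
import Mathlib.RingTheory.Ideal.GoingUp
import Mathlib.RingTheory.Ideal.MinimalPrime.Noetherian

set_option autoImplicit false
universe u
open Matlis

namespace Groth.Agent.S11184

/-- Let A be a Noetherian local ring with residue field k, k → E an injective hull of k, and B a finite
A-algebra (a semilocal ring all of whose maximal ideals lie over the maximal ideal of A). Then the
B-module Hom_A(B, E), with B acting by (b·φ)(b') = φ(bb'), is the internal direct sum over the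
maximal ideals n of B of submodules J_n (independent, with supremum everything), where each J_n is
an injective hull over B of the residue field B/n: each hull occurs exactly once. -/
theorem result (A B : Type u) [CommRing A] [IsLocalRing A] [IsNoetherianRing A] [CommRing B] [Algebra A B] [Module.Finite A B] (E : Type u) [AddCommGroup E] [Module A E] (f : IsLocalRing.ResidueField A →ₗ[A] E) (hf : InjHull.IsInjectiveHull f) : ∃ J : MaximalSpectrum B → Submodule B ((ModuleCat.coextendScalars (algebraMap A B)).obj (ModuleCat.of A E)), iSupIndep J ∧ iSup J = ⊤ ∧ ∀ n : MaximalSpectrum B, ∃ g : (B ⧸ n.asIdeal) →ₗ[B] J n, InjHull.IsInjectiveHull g := by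
  classical
  haveI : IsNoetherianRing B := IsNoetherianRing.of_finite A B
  let mA := IsLocalRing.maximalIdeal A
  let mB := mA.map (algebraMap A B)
  let C := MatlisLib.Co A B E
  have hcomap : ∀ n : Ideal B, n.IsMaximal → mA ≤ n.comap (algebraMap A B) := fun n hn => by
    haveI := hn
    haveI : (n.comap (algebraMap A B)).IsMaximal := Ideal.isMaximal_comap_of_isIntegral_of_isMaximal n
    exact (IsLocalRing.eq_maximalIdeal inferInstance).ge
  obtain ⟨S, hS⟩ := (Module.Finite.fg_top : (⊤ : Submodule A B).FG)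
  have hTor : ∀ t : C, ∃ K : ℕ, ∀ b ∈ mB ^ K, b • t = 0 := by
    intro t
    choose k hk using MatlisLib.isPowerTorsion hf
    let K := S.sup fun x => k (MatlisLib.coEv t x)
    refine ⟨K, fun b hb => ?_⟩
    rw [← Ideal.map_pow] at hb
    induction hb using Submodule.span_induction with
    | mem y hy =>
      obtain ⟨a, ha, rfl⟩ := hy
      refine MatlisLib.co_ext fun x => LinearMap.congr_fun
        (LinearMap.ext_on hS (g := MatlisLib.coEv (0 : C)) fun x hx => ?_) x
      rw [MatlisLib.coEv_zero, MatlisLib.coEv_smul, ← Algebra.commutes, ← Algebra.smul_def, map_smul]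
      exact hk _ a (Ideal.pow_le_pow_right (Finset.le_sup (f := fun x => k (MatlisLib.coEv t x)) hx) ha)
    | zero => exact zero_smul _ _
    | add u v _ _ hu hv => rw [add_smul, hu, hv, add_zero]
    | smul c u _ hu => rw [smul_eq_mul, mul_smul, hu, smul_zero]
  let J : MaximalSpectrum B → Submodule B C := fun n =>
    ⨆ k : ℕ, Submodule.torsionBySet B C ((n.asIdeal ^ k : Ideal B) : Set B)
  have hmemJ : ∀ (n : MaximalSpectrum B) (t : C), t ∈ J n ↔ ∃ k, ∀ b ∈ n.asIdeal ^ k, b • t = 0 :=
    fun n t => by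
      have hdir : Directed (· ≤ ·) fun k : ℕ =>
          Submodule.torsionBySet B C ((n.asIdeal ^ k : Ideal B) : Set B) :=
        Monotone.directed_le fun a b hab =>
          Submodule.torsionBySet_le_torsionBySet_of_subset (Ideal.pow_le_pow_right hab)
      rw [Submodule.mem_iSup_of_directed _ hdir]
      exact exists_congr fun k => (Submodule.mem_torsionBySet_iff _ _).trans
        ⟨fun h b hb => h ⟨b, hb⟩, fun h b => h b b.2⟩
  let other : MaximalSpectrum B → Submodule B C := fun n => ⨆ j ≠ n, J j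
  have hdisj : ∀ n, Disjoint (J n) (other n) := fun n => by
    let Kn : Submodule B C :=
      { carrier := {t | ∃ r, r ∉ n.asIdeal ∧ r • t = 0}
        add_mem' := by
          rintro t u ⟨r, hr, hr0⟩ ⟨s, hs, hs0⟩
          refine ⟨r * s, fun h => (n.isMaximal.isPrime.mem_or_mem h).elim hr hs, ?_⟩
          rw [smul_add, mul_smul, mul_smul, hs0, smul_zero, add_zero, smul_comm, hr0, smul_zero]
        zero_mem' := ⟨1, n.asIdeal.ne_top_iff_one.1 n.isMaximal.ne_top, smul_zero _⟩
        smul_mem' := by
          rintro c t ⟨r, hr, hr0⟩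
          exact ⟨r, hr, by rw [smul_comm, hr0, smul_zero]⟩ }
    have hle : other n ≤ Kn := iSup₂_le fun j hj t ht => by
      obtain ⟨k, hk⟩ := (hmemJ j t).1 ht
      obtain ⟨r, hrj, hrn⟩ := SetLike.not_le_iff_exists.1 fun h =>
        hj (MaximalSpectrum.ext (j.isMaximal.eq_of_le n.isMaximal.ne_top h))
      exact ⟨r ^ k, fun h => hrn (n.isMaximal.isPrime.mem_of_pow_mem k h),
        hk _ (Ideal.pow_mem_pow hrj k)⟩
    refine (Submodule.disjoint_def.2 fun t ht ht' => ?_).mono_right hle
    obtain ⟨r, hr, hr0⟩ := ht'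
    haveI := n.isMaximal
    by_contra h0
    refine hr (MatlisLib.annihilator_le_of_isPowerTorsion (m := n.asIdeal) (M := ↥(J n))
      (fun u => ?_) (x := ⟨t, ht⟩) (fun h => h0 (congrArg Subtype.val h)) ?_)
    · obtain ⟨k, hk⟩ := (hmemJ n u).1 u.2
      exact ⟨k, fun a ha => Subtype.ext (hk a ha)⟩
    · exact (Submodule.mem_annihilator_span_singleton _ _).2 (Subtype.ext hr0)
  have htop : iSup J = ⊤ := by
    refine eq_top_iff.2 fun t _ => ?_
    obtain ⟨K, hK⟩ := hTor t
    obtain ⟨N, hN⟩ := Ideal.exists_radical_pow_le_of_fg mB (IsNoetherian.noetherian _)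
    let s := (Ideal.finite_minimalPrimes_of_isNoetherianRing B mB).toFinset
    have hmax : ∀ P ∈ s, P.IsMaximal := fun P hP => by
      have hP' : P ∈ mB.minimalPrimes := (Set.Finite.mem_toFinset _).1 hP
      haveI : P.IsPrime := hP'.1.1
      refine Ideal.isMaximal_of_isIntegral_of_isMaximal_comap (R := A) P ?_
      have h1 : mA ≤ P.comap (algebraMap A B) := Ideal.map_le_iff_le_comap.1 hP'.1.2
      rw [← Ideal.IsMaximal.eq_of_le inferInstance (Ideal.IsPrime.comap _).ne_top h1]
      infer_instance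
    have hcop : ∀ M : ℕ, (s : Set (Ideal B)).Pairwise fun P Q => P ^ M ⊔ Q ^ M = ⊤ :=
      fun M P hP Q hQ hne => Ideal.pow_sup_pow_eq_top ((hmax P hP).coprime_of_ne (hmax Q hQ) hne)
    have hle : ⨅ P ∈ s, P ^ (N * K) ≤ mB ^ K := by
      rw [← Ideal.prod_eq_iInf_of_pairwise_isCoprime
        (fun P hP Q hQ hne => Ideal.isCoprime_iff_sup_eq.2 (hcop _ hP hQ hne)), Finset.prod_pow,
        pow_mul]
      refine Ideal.pow_right_mono ((Ideal.pow_right_mono ?_ N).trans hN) K
      rw [← Ideal.sInf_minimalPrimes]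
      refine le_sInf fun P hP => Ideal.prod_le_inf.trans (Finset.inf_le (f := id) ?_)
      exact (Set.Finite.mem_toFinset _).2 hP
    have hmem : t ∈ Submodule.torsionBySet B C ((⨅ P ∈ s, P ^ (N * K) : Ideal B) : Set B) :=
      (Submodule.mem_torsionBySet_iff _ _).2 fun b => hK b (hle b.2)
    rw [← Submodule.iSup_torsionBySet_ideal_eq_torsionBySet_iInf (hcop _)] at hmem
    exact (iSup₂_le fun P hP => (le_iSup (fun k : ℕ =>
        Submodule.torsionBySet B C ((P ^ k : Ideal B) : Set B)) (N * K)).trans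
        (le_iSup J ⟨P, hmax P hP⟩)) hmem
  refine ⟨J, hdisj, htop, fun n => ?_⟩
  haveI := n.isMaximal
  have hCinj : Module.Injective B C := MatlisLib.co_injective hf.isInjective
  have hsup : J n ⊔ other n = ⊤ := by
    refine eq_top_iff.2 (htop.ge.trans (iSup_le fun j => ?_))
    by_cases h : j = n
    · exact h ▸ le_sup_left
    · exact le_sup_of_le_right (le_iSup₂_of_le j h le_rfl)
  have hc : IsCompl (J n) (other n) := ⟨hdisj n, codisjoint_iff.2 hsup⟩
  have hJinj : Module.Injective B (J n) := InjHullBasic.injective_of_retraction hCinj (J n).subtype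
    (Submodule.projectionOnto (J n) (other n) hc) fun e => Submodule.projectionOnto_apply_left _ e
  letI : Algebra (A ⧸ mA) (B ⧸ n.asIdeal) :=
    Ideal.Quotient.algebraQuotientOfLEComap (hcomap _ n.isMaximal)
  haveI : IsScalarTower A (A ⧸ mA) (B ⧸ n.asIdeal) := IsScalarTower.of_algebraMap_eq fun a => rfl
  haveI : Module.Finite (A ⧸ mA) (B ⧸ n.asIdeal) := Module.Finite.of_restrictScalars_finite A _ _
  haveI : IsArtinianRing (A ⧸ mA) := letI := Ideal.Quotient.field mA; inferInstance
  haveI : IsArtinian A (B ⧸ n.asIdeal) :=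
    isArtinian_of_surjective_algebraMap (R := A ⧸ mA) Ideal.Quotient.mk_surjective
  have hfl : IsFiniteLength A (B ⧸ n.asIdeal) :=
    isFiniteLength_iff_isNoetherian_isArtinian.2 ⟨inferInstance, inferInstance⟩
  haveI : Nontrivial (B ⧸ n.asIdeal) := Ideal.Quotient.nontrivial_iff.2 n.isMaximal.ne_top
  obtain ⟨g, hg, hrange⟩ := MatlisLib.exists_socle_map (A := A) (E := E) n.asIdeal
    (Module.length_ne_top_iff.2 hfl)
    (MatlisLib.length_dual hf hfl (MatlisLib.isPowerTorsion_of_isFiniteLength hfl))
    (by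
      obtain ⟨φ, hφ⟩ := MatlisLib.exists_dual_ne_zero_of_ne hf (one_ne_zero (α := B ⧸ n.asIdeal))
      exact ⟨φ, fun h => hφ (by rw [h]; rfl)⟩)
  refine MatlisLib.exists_hull_submodule n.asIdeal (J n) hJinj (fun u => ?_)
    (fun t ht => (hmemJ n t).2 ⟨1, by rwa [pow_one]⟩) g hg hrange
  obtain ⟨k, hk⟩ := (hmemJ n u).1 u.2
  exact ⟨k, fun a ha => Subtype.ext (hk a ha)⟩

end Groth.Agent.S11184
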