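import Groth.Statements.S11191
-- import your own Groth.Agent.* helpers here

set_option autoImplicit false
set_option linter.style.haveILetI false
set_option backward.isDefEq.respectTransparency false
universe u
open CategoryTheory MonoidalCategory CartesianMonoidalCategory MonObj GrpObj AlgebraicGeometry
open scoped TensorProduct
open AGF

namespace Groth.Agent.S11191

theorem isoSpec_inv_hom {k : Type u} [Field k] (Y : Over (Spec (CommRingCat.of k))) [IsAffine Y.left] :
    Y.left.isoSpec.inv ≫ Y.hom = Spec.map ((Scheme.ΓSpecIso (CommRingCat.of k)).inv ≫ Y.hom.appTop) := by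
  rw [Iso.inv_comp_eq, Spec.map_comp, ← Category.assoc]
  show Y.hom = (Y.left.toSpecΓ ≫ Spec.map Y.hom.appTop) ≫ Spec.map (Scheme.ΓSpecIso (CommRingCat.of k)).inv
  rw [← Scheme.toSpecΓ_naturality, Category.assoc, toSpecΓ_SpecMap_ΓSpecIso_inv, Category.comp_id]

theorem SpecMap_appTop_ΓSpecIso {B : CommRingCat.{u}} {Y : Scheme.{u}} [IsAffine Y] (x : Spec B ⟶ Y) :
    Spec.map (x.appTop ≫ (Scheme.ΓSpecIso B).hom) = x ≫ Y.isoSpec.hom := by
  rw [Spec.map_comp, SpecMap_ΓSpecIso_hom]
  exact (Scheme.toSpecΓ_naturality x).symm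

theorem linForm_ext {k : Type u} [Field k] {M : Type u} [AddCommGroup M] [Module k M] {x y : k ⊗[k] M}
    (h : ∀ ℓ : M →ₗ[k] k, (TensorProduct.rid k k).toLinearMap.comp (ℓ.lTensor k) x =
      (TensorProduct.rid k k).toLinearMap.comp (ℓ.lTensor k) y) : x = y := by
  apply (TensorProduct.lid k M).injective
  refine (Module.forall_dual_apply_eq_zero_iff k _).mp (fun ℓ => ?_) |> sub_eq_zero.mp
  rw [map_sub, sub_eq_zero]
  have e : ∀ w : k ⊗[k] M, ℓ (TensorProduct.lid k M w) = (TensorProduct.rid k k).toLinearMap.comp (ℓ.lTensor k) w := by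
    intro w
    induction w using TensorProduct.induction_on with
    | zero => simp
    | tmul b m => simp [mul_comm]
    | add w w' hw hw' => simp only [map_add, hw, hw']
  rw [e, e]; exact h ℓ

/-- Let k be an algebraically closed field, G a linear algebraic group over k (an affine smooth group
scheme over k) and H a closed subgroup of G (a smooth closed subgroup scheme, i : H → G), and let M
be a rational G-module. Then every H-invariant element of M is fixed by the observable hull of H: if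
a rational point g of G fixes under right translation every right-H-invariant global function on G,
then g fixes every H-invariant element of M. (The published statement is for a commutative algebra
with a rational action by automorphisms; the multiplication plays no role and the row is stated for
modules.) -/
theorem result (k : Type u) [Field k] [IsAlgClosed k]
    (G : Over (Spec (CommRingCat.of k))) [GrpObj G] [IsAffine G.left] [Smooth G.hom]
    (H : Over (Spec (CommRingCat.of k))) [GrpObj H] [Smooth H.hom] (i : H ⟶ G) [IsMonHom i]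
    [IsClosedImmersion i.left]
    (M : Type u) [AddCommGroup M] [Module k M] (ρ : VecGrp.GMod G M)
    (g : VecGrp.pt k k ⟶ G) (hg : ∀ f : Γ(G.left, ⊤), AGF.IsRTransInv i f → AGF.IsRTransInv g f)
    (a : M) (ha : a ∈ ρ.fixedUnder i) :
    ρ.ρ k g ((1 : k) ⊗ₜ[k] a) = (1 : k) ⊗ₜ[k] a := by
  let A := Γ(G.left, ⊤)
  let φ : CommRingCat.of k ⟶ A := (Scheme.ΓSpecIso (CommRingCat.of k)).inv ≫ G.hom.appTop
  letI : Algebra k A := φ.hom.toAlgebra
  let uA : VecGrp.pt k A ⟶ G := Over.homMk G.left.isoSpec.inv (isoSpec_inv_hom G)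
  have key : ∀ {B : Type u} [CommRing B] [Algebra k B] (x : VecGrp.pt k B ⟶ G), ∃ ψ : A →ₐ[k] B,
      x = VecGrp.ptMap ψ ≫ uA ∧ ∀ f : A, ψ f = (Scheme.ΓSpecIso (CommRingCat.of B)).hom (x.left.appTop f) := by
    intro B _ _ x
    let ψ : A ⟶ CommRingCat.of B := x.left.appTop ≫ (Scheme.ΓSpecIso (CommRingCat.of B)).hom
    have hx : Spec.map ψ ≫ G.left.isoSpec.inv = x.left := by
      rw [Iso.comp_inv_eq]
      exact SpecMap_appTop_ΓSpecIso x.left
    refine ⟨{ ψ.hom with commutes' := fun c => ?_ }, Over.OverMorphism.ext hx.symm, fun f => rfl⟩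
    have hw : φ ≫ ψ = CommRingCat.ofHom (algebraMap k B) := by
      simp only [φ, ψ, Category.assoc]
      rw [← Category.assoc G.hom.appTop, ← Scheme.Hom.comp_appTop, Over.w x]
      exact (Iso.inv_comp_eq _).mpr (Scheme.ΓSpecIso_naturality (CommRingCat.ofHom (algebraMap k B)))
    exact congrArg (fun m : CommRingCat.of k ⟶ CommRingCat.of B => m.hom c) hw
  let c : (M →ₗ[k] k) → (B : Type u) → [CommRing B] → [Algebra k B] → (B ⊗[k] M →ₗ[k] B) := fun ℓ B _ _ =>
    (TensorProduct.rid k B).toLinearMap.comp (ℓ.lTensor B)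
  have hval : ∀ (ℓ : M →ₗ[k] k) {B : Type u} [CommRing B] [Algebra k B] (x : VecGrp.pt k B ⟶ G),
      (Scheme.ΓSpecIso (CommRingCat.of B)).hom (x.left.appTop (c ℓ A (ρ.ρ A uA ((1 : A) ⊗ₜ[k] a)))) =
        c ℓ B (ρ.ρ B x ((1 : B) ⊗ₜ[k] a)) := by
    intro ℓ B _ _ x
    obtain ⟨ψ, hx, hψ⟩ := key x
    rw [← hψ]
    have h := ρ.naturality ψ uA ((1 : A) ⊗ₜ[k] a)
    rw [VecGrp.Wmap_tmul, map_one, ← hx] at h
    rw [← h]
    generalize ρ.ρ A uA ((1 : A) ⊗ₜ[k] a) = w
    induction w using TensorProduct.induction_on with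
    | zero => simp
    | tmul b m => simp [c, map_smul]
    | add w w' hw hw' => simp only [map_add, hw, hw']
  apply linForm_ext
  intro ℓ
  let f : A := c ℓ A (ρ.ρ A uA ((1 : A) ⊗ₜ[k] a))
  have hf : AGF.IsRTransInv i f := by
    haveI : IsAffine H.left := isAffine_of_isAffineHom i.left
    haveI : IsAffine (G ⊗ H).left := inferInstanceAs (IsAffine (Limits.pullback G.hom H.hom))
    let P := G ⊗ H
    let B := Γ(P.left, ⊤)
    let φP : CommRingCat.of k ⟶ B := (Scheme.ΓSpecIso (CommRingCat.of k)).inv ≫ P.hom.appTop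
    letI : Algebra k B := φP.hom.toAlgebra
    let u : VecGrp.pt k B ⟶ P := Over.homMk P.left.isoSpec.inv (isoSpec_inv_hom P)
    have hinj : Function.Injective u.left.appTop.hom := by
      haveI : IsIso u.left.appTop := inferInstanceAs (IsIso P.left.isoSpec.inv.appTop)
      exact (ConcreteCategory.bijective_of_isIso u.left.appTop).1
    apply hinj
    have h1 := hval ℓ (u ≫ (G ◁ i) ≫ μ[G])
    have h2 := hval ℓ (u ≫ fst G H)
    have hm : u ≫ (G ◁ i) ≫ μ[G] = (u ≫ fst G H) * ((u ≫ snd G H) ≫ i) := by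
      rw [Hom.mul_def, ← Category.assoc]
      congr 1
      apply CartesianMonoidalCategory.hom_ext <;> simp
    have h3 : ρ.ρ B (u ≫ (G ◁ i) ≫ μ[G]) ((1 : B) ⊗ₜ[k] a) = ρ.ρ B (u ≫ fst G H) ((1 : B) ⊗ₜ[k] a) := by
      rw [hm, map_mul, LinearEquiv.mul_apply, ha B (u ≫ snd G H)]
    have hh := h1.trans ((congrArg _ h3).trans h2.symm)
    have hh' := (ConcreteCategory.bijective_of_isIso (Scheme.ΓSpecIso (CommRingCat.of B)).hom).1 hh
    rw [Over.comp_left, Over.comp_left, Scheme.Hom.comp_appTop, Scheme.Hom.comp_appTop, CommRingCat.comp_apply,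
      CommRingCat.comp_apply] at hh'
    exact hh'
  have hgf := hg f hf
  let e : VecGrp.pt k k ⟶ G ⊗ VecGrp.pt k k := lift 1 (𝟙 _)
  have he := congrArg e.left.appTop.hom hgf
  have e1 : e ≫ (G ◁ g) ≫ μ[G] = g := by
    simp only [e, lift_whiskerLeft_assoc, Category.id_comp, ← Hom.mul_def, _root_.one_mul]
  have e2 : e ≫ fst G (VecGrp.pt k k) = 1 := lift_fst _ _
  change (((G ◁ g) ≫ μ[G]).left.appTop ≫ e.left.appTop).hom f = ((fst G _).left.appTop ≫ e.left.appTop).hom f at he
  rw [← Scheme.Hom.comp_appTop, ← Scheme.Hom.comp_appTop, ← Over.comp_left, ← Over.comp_left, e1, e2] at he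
  have := (hval ℓ g).symm.trans ((congrArg _ he).trans (hval ℓ 1))
  simpa [c, map_one] using this

end Groth.Agent.S11191
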