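import Groth.Statements.S11192
import Groth.Agent.GrpSchField.ConnComp
import Groth.Agent.UnitProd.SmoothReduced
import Groth.Agent.ConnDiv.Normality
-- import your own Groth.Agent.* helpers here

set_option autoImplicit false
set_option linter.style.haveILetI false
set_option backward.isDefEq.respectTransparency false
universe u
open CategoryTheory MonoidalCategory CartesianMonoidalCategory MonObj GrpObj AlgebraicGeometry
open scoped TensorProduct
open AGF

open Groth.Agent TopologicalSpace

namespace Groth.Agent.S11192

theorem isIntegrallyClosed_of_saturated {R A K L : Type u} [CommRing R] [IsDomain R] [CommRing A] [IsDomain A] [IsIntegrallyClosed A]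
    [Field K] [Algebra R K] [IsFractionRing R K] [Field L] [Algebra A L] [IsFractionRing A L]
    (j : R →+* A) (hj : Function.Injective j)
    (hsat : ∀ (a : A) (p q : R), q ≠ 0 → a * j q = j p → ∃ r, j r = a) : IsIntegrallyClosed R := by
  have hinj : Function.Injective ((algebraMap A L).comp j) := (IsFractionRing.injective A L).comp hj
  rw [isIntegrallyClosed_iff K]
  intro x hx
  obtain ⟨p, q, hq, rfl⟩ := IsFractionRing.div_surjective (A := R) x
  have hq0 : q ≠ 0 := nonZeroDivisors.ne_zero hq
  have hint : IsIntegral A (IsFractionRing.lift hinj (algebraMap R K p / algebraMap R K q) : L) := by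
    obtain ⟨P, hm, hP⟩ := hx
    refine ⟨P.map j, hm.map j, ?_⟩
    have h := congrArg (IsFractionRing.lift hinj : K →+* L) hP
    rw [Polynomial.hom_eval₂, map_zero] at h
    rw [Polynomial.eval₂_map, ← h]
    congr 1
    exact RingHom.ext fun r => (IsFractionRing.lift_algebraMap hinj r).symm
  obtain ⟨a, ha⟩ := IsIntegrallyClosed.isIntegral_iff.mp hint
  have hne : algebraMap A L (j q) ≠ 0 := fun h => hq0 (hinj (h.trans (map_zero _).symm))
  rw [map_div₀, IsFractionRing.lift_algebraMap, IsFractionRing.lift_algebraMap, RingHom.comp_apply, RingHom.comp_apply,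
    eq_div_iff hne, ← map_mul] at ha
  have haq := IsFractionRing.injective A L ha
  obtain ⟨r, rfl⟩ := hsat a p q hq0 haq
  refine ⟨r, ?_⟩
  have hrq : r * q = p := hj (by rw [map_mul, haq])
  rw [eq_div_iff (fun h => hq0 (IsFractionRing.injective R K (h.trans (map_zero _).symm))), ← map_mul, hrq]

theorem isIntegrallyClosed_eqLocus {A B : Type u} [CommRing A] [IsDomain A] [IsIntegrallyClosed A] [CommRing B]
    (φ ψ : A →+* B) (hcancel : ∀ q : A, q ≠ 0 → ∀ d : B, d * ψ q = 0 → d = 0) :
    IsIntegrallyClosed ↥(RingHom.eqLocus φ ψ) := by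
  refine isIntegrallyClosed_of_saturated (K := FractionRing ↥(RingHom.eqLocus φ ψ)) (L := FractionRing A)
    (RingHom.eqLocus φ ψ).subtype Subtype.val_injective fun a p q hq h => ?_
  refine ⟨⟨a, sub_eq_zero.mp (hcancel _ (fun h0 => hq (Subtype.ext h0)) _ ?_)⟩, rfl⟩
  have h1 : φ (a * (q : A)) = ψ (a * (q : A)) := by
    rw [show a * (q : A) = p from h]; exact p.2
  rw [map_mul, map_mul, show φ (q : A) = ψ q from q.2] at h1
  rw [sub_mul, h1, sub_self]

/-- Let k be an algebraically closed field, G a linear algebraic group over k (an affine smooth group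
scheme over k) and H a closed subgroup of G (a smooth closed subgroup scheme, i : H → G), with G
connected. Then the ring of global functions on G invariant under right translation by H is
integrally closed. -/
theorem result (k : Type u) [Field k] [IsAlgClosed k]
    (G : Over (Spec (CommRingCat.of k))) [GrpObj G] [IsAffine G.left] [Smooth G.hom]
    (H : Over (Spec (CommRingCat.of k))) [GrpObj H] [Smooth H.hom] (i : H ⟶ G) [IsMonHom i]
    [IsClosedImmersion i.left] [ConnectedSpace G.left] :
    IsIntegrallyClosed ↥(AGF.rTransInv i) := by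
  haveI : IrreducibleSpace G.left := GrpSchField.irreducibleSpace_of_connectedSpace
  haveI : IsReduced G.left := UnitProd.isReduced_left_of_smooth G.hom
  haveI : IsIntegral G.left := isIntegral_of_irreducibleSpace_of_isReduced _
  haveI : Nonempty (⊤ : G.left.Opens) := ⟨⟨GrpSchField.e G, trivial⟩⟩
  haveI := ConnDiv.isRegularRing_of_smooth G.hom (isAffineOpen_top G.left)
  haveI : IsIntegrallyClosed Γ(G.left, ⊤) := IsIntegrallyClosed.of_localization_maximal fun p _ _ =>
    (FlatAscent.isNormalRing_of_isRegularRing (R := Γ(G.left, ⊤)) p).2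
  haveI : IsAffine H.left := isAffine_of_isAffineHom i.left
  haveI : Smooth (G ⊗ H).hom := inferInstanceAs (Smooth (Limits.pullback.fst G.hom H.hom ≫ G.hom))
  haveI : IsReduced (G ⊗ H).left := UnitProd.isReduced_left_of_smooth (G ⊗ H).hom
  refine isIntegrallyClosed_eqLocus _ _ fun q hq d hd => ?_
  -- `fst* q` is a nonzerodivisor
  have hU : Dense ((fst G H).left ⁻¹' (G.left.basicOpen q : Set G.left)) := by
    refine Dense.preimage ?_ (fst G H).left.isOpenMap
    refine (G.left.basicOpen q).2.dense ?_
    rw [Set.nonempty_iff_ne_empty]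
    exact fun h => hq ((basicOpen_eq_bot_iff q).mp (Opens.ext h))
  rw [← basicOpen_eq_bot_iff]
  by_contra hne
  have hne' : ((G ⊗ H).left.basicOpen d : Set (G ⊗ H).left).Nonempty := by
    rw [Set.nonempty_iff_ne_empty]
    exact fun h => hne (Opens.ext h)
  obtain ⟨z, hz, hz'⟩ := hU.inter_open_nonempty _ ((G ⊗ H).left.basicOpen d).2 hne'
  have hm : z ∈ (G ⊗ H).left.basicOpen d ⊓ (G ⊗ H).left.basicOpen ((fst G H).left.appTop.hom q) := by
    refine ⟨hz, ?_⟩
    rw [← Scheme.preimage_basicOpen_top]; exact hz'
  rw [← Scheme.basicOpen_mul, hd, Scheme.basicOpen_zero] at hm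
  exact hm

end Groth.Agent.S11192
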