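import Groth.Statements.S11198
import Groth.Agent.GrpSchField.Orbit
import Groth.Agent.HomogSep.Qs
import Groth.Agent.RigidProd.Sections
import Groth.Agent.TrivSec.Fun
import Groth.Agent.GeomFibre.Descent
import Groth.Agent.UnitProd.SmoothReduced
-- import your own Groth.Agent.* helpers here

set_option autoImplicit false
set_option linter.style.haveILetI false
set_option backward.isDefEq.respectTransparency false
universe u
open CategoryTheory MonoidalCategory CartesianMonoidalCategory MonObj GrpObj AlgebraicGeometry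
open scoped TensorProduct
open AGF

open Groth.Agent Groth.Agent.GrpSchField Groth.Agent.HomogSep TopologicalSpace

namespace Groth.Agent.S11198

theorem isReduced_smooth {k : Type u} [Field k] (A : Over (Spec (CommRingCat.of k))) [Smooth A.hom] : IsReduced A.left :=
  UnitProd.isReduced_left_of_smooth A.hom

theorem eq_zero_of_points {k : Type u} [Field k] [IsAlgClosed k] (A : Over (Spec (CommRingCat.of k))) [LocallyOfFiniteType A.hom]
    [IsReduced A.left] (f : Γ(A.left, ⊤))
    (h : ∀ s : 𝟙_ (Over (Spec (CommRingCat.of k))) ⟶ A, s.left.appTop.hom f = 0) : f = 0 := by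
  haveI : JacobsonSpace A.left := LocallyOfFiniteType.jacobsonSpace A.hom
  rw [← basicOpen_eq_bot_iff]
  by_contra hne
  have hne' : ((A.left.basicOpen f : A.left.Opens) : Set A.left).Nonempty := by
    rw [Set.nonempty_iff_ne_empty]
    exact fun h => hne (Opens.ext h)
  obtain ⟨c, hc, hcc⟩ := nonempty_inter_closedPoints hne' (A.left.basicOpen f).2.isLocallyClosed
  obtain ⟨s, rfl⟩ := exists_section_of_closed (A := A) hcc
  have h2 : IsLocalRing.closedPoint k ∈ s.left ⁻¹ᵁ A.left.basicOpen f := hc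
  rw [Scheme.preimage_basicOpen_top, h s, Scheme.basicOpen_zero] at h2
  exact h2

/-- Let k be an algebraically closed field, G a linear algebraic group over k and H₁ ⊆ H₂ ⊆ G closed
subgroups (smooth closed subgroup schemes i₁ : H₁ → H₂, i₂ : H₂ → G), such that the quotient H₂/H₁
(the scheme X with H₂-action a and base point o) is proper over k and irreducible. Then a global
function on G is invariant under right translation by H₁ if and only if it is invariant under right
translation by H₂. -/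
theorem result (k : Type u) [Field k] [IsAlgClosed k]
    (G : Over (Spec (CommRingCat.of k))) [GrpObj G] [IsAffine G.left] [Smooth G.hom]
    (H₂ : Over (Spec (CommRingCat.of k))) [GrpObj H₂] [Smooth H₂.hom] (i₂ : H₂ ⟶ G) [IsMonHom i₂] [IsClosedImmersion i₂.left]
    (H₁ : Over (Spec (CommRingCat.of k))) [GrpObj H₁] [Smooth H₁.hom] (i₁ : H₁ ⟶ H₂) [IsMonHom i₁] [IsClosedImmersion i₁.left]
    (X : Over (Spec (CommRingCat.of k))) (a : AlgGrp.Action H₂ X) (o : 𝟙_ (Over (Spec (CommRingCat.of k))) ⟶ X) (hX : AGF.IsQuotient i₁ X a o)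
    [IsProper X.hom] [IrreducibleSpace X.left] :
    AGF.rTransInv (i₁ ≫ i₂) = AGF.rTransInv i₂ := by
  apply le_antisymm
  · intro f hf
    let F := TrivSec.toLine f
    haveI : LocallyOfFiniteType X.hom := hX.1
    haveI : IsLocallyNoetherian X.left := LocallyOfFiniteType.isLocallyNoetherian X.hom
    let π := a.orbitMap o
    haveI : Flat π.left := hX.2.1
    haveI : Surjective π.left := hX.2.2.1
    haveI : LocallyOfFinitePresentation (π.left ≫ X.hom) := by rw [Over.w π]; infer_instance
    haveI : LocallyOfFinitePresentation π.left :=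
      locallyOfFinitePresentation_of_comp π.left X.hom inferInstance inferInstance
    haveI : IsReduced H₂.left := isReduced_smooth H₂
    haveI : IsReduced X.left := GeomFibre.isReduced_of_flat_surjective π.left
    have hX1 := RigidProd.trivialSections_of_connected X o
    have hinv : ((G ◁ (i₁ ≫ i₂)) ≫ μ[G]).left ≫ F = (fst G H₁).left ≫ F :=
      TrivSec.hom_ext_val (by rw [TrivSec.val_comp, TrivSec.val_comp, TrivSec.val_toLine]; exact hf)
    have hconst : ∀ (gs : 𝟙_ (Over (Spec (CommRingCat.of k))) ⟶ G) (hs : 𝟙_ (Over (Spec (CommRingCat.of k))) ⟶ H₂),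
        (gs * (hs ≫ i₂)).left ≫ F = gs.left ≫ F := by
      intro gs hs
      let hg : H₂ ⟶ G := (toUnit H₂ ≫ gs) * i₂
      have hsq := hX.2.2.2
      have hFn : (fst H₂ H₁).left ≫ hg.left ≫ F = ((H₂ ◁ i₁) ≫ μ[H₂]).left ≫ hg.left ≫ F := by
        let l : H₂ ⊗ H₁ ⟶ G ⊗ H₁ := lift (fst H₂ H₁ ≫ hg) (snd H₂ H₁)
        have e1 : fst H₂ H₁ ≫ hg = l ≫ fst G H₁ := by simp [l]
        have e2 : ((H₂ ◁ i₁) ≫ μ[H₂]) ≫ hg = l ≫ (G ◁ (i₁ ≫ i₂)) ≫ μ[G] := by
          have m1 : (H₂ ◁ i₁) ≫ μ[H₂] = fst H₂ H₁ * (snd H₂ H₁ ≫ i₁) := by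
            rw [Hom.mul_def]; congr 1
          have m2 : l ≫ (G ◁ (i₁ ≫ i₂)) ≫ μ[G] = (fst H₂ H₁ ≫ hg) * (snd H₂ H₁ ≫ i₁ ≫ i₂) := by
            rw [Hom.mul_def, lift_whiskerLeft_assoc]
          rw [m2, m1]
          simp only [hg, MonObj.comp_mul, ← Category.assoc]
          rw [toUnit_unique ((fst H₂ H₁ * snd H₂ H₁ ≫ i₁) ≫ toUnit H₂) (toUnit _), toUnit_unique (fst H₂ H₁ ≫ toUnit H₂) (toUnit _),
            MonObj.mul_comp, _root_.mul_assoc]
        rw [← Category.assoc, ← Category.assoc, ← Over.comp_left, ← Over.comp_left, e1, e2, Over.comp_left, Over.comp_left,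
          Category.assoc, Category.assoc, hinv]
      have hp := hsq.map (Over.forget _)
      obtain ⟨ψ, hψ⟩ := TrivSec.exists_descent_line π.left (hg.left ≫ F) (by
        rw [← cancel_epi hp.isoPullback.hom, ← Category.assoc, ← Category.assoc]
        refine ((congrArg (· ≫ hg.left ≫ F) hp.isoPullback_hom_fst).trans ?_).trans
          (congrArg (· ≫ hg.left ≫ F) hp.isoPullback_hom_snd).symm
        exact hFn)
      obtain ⟨c, hc⟩ := hX1.2 (TrivSec.val ψ)
      let c' := (Scheme.ΓSpecIso (CommRingCat.of k)).inv.hom c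
      have hψc : ψ = X.hom ≫ TrivSec.toLine c' := TrivSec.hom_ext_val (by
        rw [TrivSec.val_comp, TrivSec.val_toLine]; exact hc.symm)
      have hpt : ∀ h : 𝟙_ (Over (Spec (CommRingCat.of k))) ⟶ H₂, (gs * (h ≫ i₂)).left ≫ F =
          (𝟙_ (Over (Spec (CommRingCat.of k)))).hom ≫ TrivSec.toLine c' := by
        intro h
        have e : gs * (h ≫ i₂) = h ≫ hg := by
          simp only [hg, MonObj.comp_mul, ← Category.assoc]
          rw [toUnit_unique (h ≫ toUnit H₂) (𝟙 _), Category.id_comp]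
        rw [e, Over.comp_left, Category.assoc, ← hψ, hψc, ← Category.assoc, ← Category.assoc, Category.assoc h.left,
          Over.w π, Over.w h]
      rw [hpt hs, ← hpt 1, MonObj.one_comp, _root_.mul_one]
    show ((G ◁ i₂) ≫ μ[G]).left.appTop.hom f = (fst G H₂).left.appTop.hom f
    haveI : IsReduced (G ⊗ H₂).left := by
      haveI : Smooth (G ⊗ H₂).hom := inferInstanceAs (Smooth (Limits.pullback.fst G.hom H₂.hom ≫ G.hom))
      exact isReduced_smooth (G ⊗ H₂)
    haveI : LocallyOfFiniteType (G ⊗ H₂).hom := inferInstanceAs (LocallyOfFiniteType (Limits.pullback.fst G.hom H₂.hom ≫ G.hom))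
    refine sub_eq_zero.mp (eq_zero_of_points (G ⊗ H₂) _ fun s => ?_)
    have h := congrArg TrivSec.val (hconst (s ≫ fst G H₂) (s ≫ snd G H₂))
    rw [TrivSec.val_comp, TrivSec.val_comp, TrivSec.val_toLine] at h
    have e : s ≫ (G ◁ i₂) ≫ μ[G] = (s ≫ fst G H₂) * ((s ≫ snd G H₂) ≫ i₂) := by
      rw [Hom.mul_def, ← Category.assoc]
      congr 1
      apply CartesianMonoidalCategory.hom_ext <;> simp
    rw [← e] at h
    rw [map_sub, sub_eq_zero]
    simp only [Over.comp_left, Scheme.Hom.comp_appTop, CommRingCat.comp_apply] at h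
    exact h
  · intro f hf
    show ((G ◁ (i₁ ≫ i₂)) ≫ μ[G]).left.appTop.hom f = (fst G H₁).left.appTop.hom f
    have e1 : (G ◁ (i₁ ≫ i₂)) ≫ μ[G] = (G ◁ i₁) ≫ (G ◁ i₂) ≫ μ[G] := by
      rw [MonoidalCategory.whiskerLeft_comp, Category.assoc]
    have e2 : fst G H₁ = (G ◁ i₁) ≫ fst G H₂ := by simp
    rw [e1, e2]
    simp only [Over.comp_left, Scheme.Hom.comp_appTop, CommRingCat.comp_apply]
    exact congrArg (G ◁ i₁).left.appTop.hom hf

end Groth.Agent.S11198
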