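import Groth.Statements.S11199
-- import your own Groth.Agent.* helpers here

set_option autoImplicit false
set_option linter.style.haveILetI false
set_option backward.isDefEq.respectTransparency false
universe u
open CategoryTheory MonoidalCategory CartesianMonoidalCategory MonObj GrpObj AlgebraicGeometry
open scoped TensorProduct
open AGF

namespace Groth.Agent.S11199

theorem ker_iff {k : Type u} [Field k] {G T : Over (Spec (CommRingCat.of k))} [GrpObj G] (g : T ⟶ G) (f : Γ(G.left, ⊤)) :
    μ[G].left.appTop.hom f - (fst G G).left.appTop.hom f ∈ RingHom.ker (G ◁ g).left.appTop.hom ↔ AGF.IsRTransInv g f := by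
  rw [RingHom.mem_ker, map_sub, sub_eq_zero]
  unfold AGF.IsRTransInv
  simp only [Over.comp_left, Scheme.Hom.comp_appTop, CommRingCat.comp_apply]
  rw [show fst G T = (G ◁ g) ≫ fst G G by simp]
  simp only [Over.comp_left, Scheme.Hom.comp_appTop, CommRingCat.comp_apply]

/-- Let k be an algebraically closed field, G a linear algebraic group over k (an affine smooth group
scheme over k) and H a closed subgroup of G (a smooth closed subgroup scheme, i : H → G). Then there
are finitely many right-H-invariant global functions f₁, ..., fₙ on G which already cut out the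
observable hull of H: a rational point of G whose right translation fixes each fⱼ fixes every
right-H-invariant global function. -/
theorem result (k : Type u) [Field k] [IsAlgClosed k]
    (G : Over (Spec (CommRingCat.of k))) [GrpObj G] [IsAffine G.left] [Smooth G.hom]
    (H : Over (Spec (CommRingCat.of k))) [GrpObj H] [Smooth H.hom] (i : H ⟶ G) [IsMonHom i]
    [IsClosedImmersion i.left] :
    ∃ s : Finset Γ(G.left, ⊤), (∀ f ∈ s, AGF.IsRTransInv i f) ∧
      ∀ g : VecGrp.pt k k ⟶ G, (∀ f ∈ s, AGF.IsRTransInv g f) →
        ∀ f : Γ(G.left, ⊤), AGF.IsRTransInv i f → AGF.IsRTransInv g f := by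
  classical
  let δ : Γ(G.left, ⊤) → Γ((G ⊗ G).left, ⊤) := fun f => μ[G].left.appTop.hom f - (fst G G).left.appTop.hom f
  haveI : IsAffine (G ⊗ G).left := inferInstanceAs (IsAffine (Limits.pullback G.hom G.hom))
  haveI : LocallyOfFiniteType (G ⊗ G).hom := inferInstanceAs (LocallyOfFiniteType (Limits.pullback.fst G.hom G.hom ≫ G.hom))
  haveI : IsLocallyNoetherian (G ⊗ G).left := LocallyOfFiniteType.isLocallyNoetherian (G ⊗ G).hom
  haveI : IsNoetherianRing Γ((G ⊗ G).left, ⊤) := IsLocallyNoetherian.component_noetherian ⟨⊤, isAffineOpen_top _⟩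
  let I := Ideal.span (δ '' {f | AGF.IsRTransInv i f})
  obtain ⟨s, hs, hspan⟩ := (Submodule.fg_span_iff_fg_span_finset_subset _).mp (IsNoetherian.noetherian I)
  obtain ⟨t, htsub, hts⟩ := Finset.subset_set_image_iff.mp hs
  refine ⟨t, fun f hf => htsub hf, fun g hg f hf => ?_⟩
  have hle : Ideal.span (s : Set Γ((G ⊗ G).left, ⊤)) ≤ RingHom.ker (G ◁ g).left.appTop.hom := by
    rw [Ideal.span_le]
    intro z hz
    obtain ⟨f', hf', rfl⟩ := Finset.mem_image.mp (hts ▸ hz)
    exact (ker_iff g f').mpr (hg f' hf')
  exact (ker_iff g f).mp (hle (hspan.le (Submodule.subset_span (s := δ '' {f | AGF.IsRTransInv i f}) ⟨f, hf, rfl⟩)))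

end Groth.Agent.S11199
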