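import Groth.Statements.S11211
import Groth.Agent.Weitzenboeck.Transfer
import Groth.Agent.Weitzenboeck.Jordan
import Mathlib.LinearAlgebra.Matrix.ToLin
-- import your own Groth.Agent.* helpers here

set_option autoImplicit false
universe u
open CategoryTheory MonoidalCategory CartesianMonoidalCategory MonObj GrpObj AlgebraicGeometry
open scoped TensorProduct
open AGF

namespace Groth.Agent.S11211

/-- Let k be an algebraically closed field of characteristic zero, n a natural number and M a nilpotent
n × n matrix over k; let δ be the k-derivation of the polynomial ring k[X₁, …, Xₙ] with δ(Xⱼ) = Σᵢ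
Mᵢⱼ Xᵢ (the derivation of the linear action of the additive group on an n-dimensional module; its
kernel is the ring of invariant polynomial functions). Assume finite generation of invariants of
reductive groups over k on finitely generated algebras (a standard result, carried as a hypothesis).
Then the kernel of δ is a finitely generated k-subalgebra. -/
theorem result (k : Type u) [Field k] [IsAlgClosed k] [CharZero k] (thmA : VecGrp.ReductiveInvariantsFG k)
    (n : ℕ) (M : Matrix (Fin n) (Fin n) k) (hM : IsNilpotent M) :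
    ∃ S : Subalgebra k (MvPolynomial (Fin n) k), S.FG ∧
      ∀ f : MvPolynomial (Fin n) k, f ∈ S ↔
        MvPolynomial.mkDerivation k (fun j : Fin n => ∑ i : Fin n, M i j • (MvPolynomial.X i : MvPolynomial (Fin n) k)) f = 0 := by
  classical
  let e : Module.End k (Fin n → k) := Matrix.toLin' M
  have he : IsNilpotent e := hM.map Matrix.toLinAlgEquiv'
  obtain ⟨d, r, b, hb⟩ := Weitzenboeck.exists_chain_basis e he
  let h : Module.End k (Fin n → k) :=
    b.constr k fun a => (2 * ((a.2 : ℕ) : k) - (r a.1 : k) + 1) • b a
  let f : Module.End k (Fin n → k) :=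
    b.constr k fun a => if h0 : 0 < (a.2 : ℕ) then
      (((a.2 : ℕ) : k) * ((r a.1 : k) - ((a.2 : ℕ) : k))) • b ⟨a.1, ⟨(a.2 : ℕ) - 1, by omega⟩⟩ else 0
  have hh : ∀ i (j : Fin (r i)), h (b ⟨i, j⟩) = (2 * ((j : ℕ) : k) - (r i : k) + 1) • b ⟨i, j⟩ :=
    fun i j => b.constr_basis k _ _
  have hf : ∀ i (j : Fin (r i)), f (b ⟨i, j⟩) = if h0 : 0 < (j : ℕ) then
      (((j : ℕ) : k) * ((r i : k) - ((j : ℕ) : k))) • b ⟨i, ⟨(j : ℕ) - 1, by omega⟩⟩ else 0 :=
    fun i j => b.constr_basis k _ _
  have hef : e ∘ₗ f - f ∘ₗ e = h := b.ext fun ⟨i, j⟩ => by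
    simp only [LinearMap.sub_apply, LinearMap.comp_apply, hh, hf, hb]
    obtain ⟨j, hj⟩ := j
    have hr : ∀ l, l + 1 = r i → ((l : k) + 1 = r i) := fun l hl => by rw [← hl, Nat.cast_add_one]
    rcases j with _ | j <;> simp only [Nat.lt_irrefl, dite_false, map_zero, Nat.succ_pos, dite_true, map_smul] <;>
      split_ifs with h1
    · simp only [hf, dite_true, Nat.zero_add, Nat.one_pos, Nat.sub_self, Nat.cast_one, zero_sub, ← neg_smul]
      congr 1
      push_cast
      ring
    · rw [map_zero, sub_zero, eq_comm]
      convert zero_smul k _ using 2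
      rw [← hr 0 (by omega)]
      push_cast
      ring
    · simp only [hb, hf, dif_pos (Nat.succ_pos _), dif_pos (show j + 1 - 1 + 1 < r i by omega), dif_pos (show j + 1 < r i by omega), Nat.succ_sub_one,
        Nat.add_sub_cancel, ← sub_smul]
      congr 1
      push_cast
      ring
    · simp only [hb, map_zero, sub_zero, dif_pos (show j + 1 - 1 + 1 < r i by omega), dif_pos (show j + 1 < r i by omega), Nat.succ_sub_one,
        Nat.add_sub_cancel]
      congr 1
      rw [← hr (j + 1) (by omega)]
      push_cast
      ring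
  have hhe : h ∘ₗ e - e ∘ₗ h = (2 : k) • e := b.ext fun ⟨i, j⟩ => by
    simp only [LinearMap.sub_apply, LinearMap.comp_apply, LinearMap.smul_apply, hh, hb, map_smul]
    split_ifs with h1
    · simp only [hh, ← sub_smul]
      congr 1
      push_cast
      ring
    · simp
  have hhf : h ∘ₗ f - f ∘ₗ h = -((2 : k) • f) := b.ext fun ⟨i, j⟩ => by
    simp only [LinearMap.sub_apply, LinearMap.comp_apply, LinearMap.neg_apply, LinearMap.smul_apply, hh, hf, map_smul]
    split_ifs with h1
    · simp only [map_smul, hh, smul_smul, ← sub_smul, ← neg_smul]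
      congr 1
      rw [Nat.cast_sub (show 1 ≤ (j : ℕ) by omega)]
      push_cast
      ring
    · simp
  let mat := (LinearMap.toMatrixAlgEquiv' : Module.End k (Fin n → k) ≃ₐ[k] Matrix (Fin n) (Fin n) k)
  have hme : mat e = M := LinearMap.toMatrix'_toLin' M
  let t : Weitzenboeck.MatTriple (Fin n) k :=
    { e := M
      h := mat h
      f := mat f
      ef := by rw [← hme, ← map_mul, ← map_mul, ← map_sub]; exact congrArg mat hef
      he := by rw [← hme, ← map_mul, ← map_mul, ← map_sub, ← map_smul]; exact congrArg mat hhe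
      hf := by rw [← map_mul mat, ← map_mul mat, ← map_sub mat, ← map_smul mat, ← map_neg mat]; exact congrArg mat hhf }
  let L : (Fin n → k) →ₗ[k] MvPolynomial (Fin n) k := Fintype.linearCombination k MvPolynomial.X
  have hL : ∀ v, Weitzenboeck.lin t.h (L v) = L (h v) := fun v => by
    have h1 : h v = (mat h).mulVec v := (Matrix.toLin'_apply (LinearMap.toMatrix' h) v).symm.trans
      (by rw [Matrix.toLin'_toMatrix']) |>.symm |> Eq.trans (by rfl)
    simp only [L, Fintype.linearCombination_apply, map_sum, Derivation.map_smul, Weitzenboeck.lin_X, h1,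
      Matrix.mulVec, dotProduct, Finset.sum_smul, Finset.smul_sum, smul_smul]
    rw [Finset.sum_comm]
    exact Finset.sum_congr rfl fun i _ => Finset.sum_congr rfl fun l _ => by rw [mul_comm]
  exact Weitzenboeck.ker_fg t fun j => by
    have hj : L (Pi.single j 1) = MvPolynomial.X j := by simp [L, Fintype.linearCombination_apply_single]
    rw [← hj, ← b.sum_repr (Pi.single j 1), map_sum]
    refine Submodule.sum_mem _ fun a _ => ?_
    rw [map_smul]
    refine Submodule.smul_mem _ _ (Submodule.subset_span ⟨2 * ((a.2 : ℕ) : k) - (r a.1 : k) + 1, ?_⟩)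
    rw [hL, hh a.1 a.2, map_smul]


end Groth.Agent.S11211
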