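import Groth.Statements.S11217
import Mathlib.Algebra.MvPolynomial.PDeriv
import Mathlib.RingTheory.MvPolynomial.WeightedHomogeneous
set_option linter.style.haveILetI false

set_option autoImplicit false
universe u
open CategoryTheory MonoidalCategory CartesianMonoidalCategory MonObj GrpObj AlgebraicGeometry
open scoped TensorProduct
open AGF

namespace Groth.Agent.S11217

/-- Let k be a field of characteristic zero and m ≥ 2; in the polynomial ring k[x, y, z, s, t, u, v]
(variables 0, …, 6) let δ be the k-derivation with δ(x) = δ(y) = δ(z) = 0, δ(s) = x^(m+1), δ(t) =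
y^(m+1), δ(u) = z^(m+1), δ(v) = (xyz)^m, and grade by total degree in s, t, u, v. If f is
homogeneous of degree n ≥ 1 for this grading and δ(f) = 0, then every coefficient of f, as a
polynomial in s, t, u, v over k[x, y, z], lies in the ideal (x, y, z): every monomial of f has
positive degree in x, y, z. (The published statement allows n = 0, where the constant 1 is a
counterexample; this row assumes n ≥ 1. The published definition of the derivation gives δ(v) =
(xyz)^(m+1), for which the assertion fails: v − (yz)^(m+1)·s is killed by δ and has the monomial v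
with coefficient 1; this row uses δ(v) = (xyz)^m, the exponent of the published action formula and
of the published examples of invariants.) -/
theorem result (k : Type u) [Field k] [CharZero k] (m : ℕ) (hm : 2 ≤ m) (n : ℕ) (hn : 1 ≤ n)
    (f : MvPolynomial (Fin 7) k)
    (hf : MvPolynomial.IsWeightedHomogeneous (![0, 0, 0, 1, 1, 1, 1] : Fin 7 → ℕ) f n)
    (hδ : MvPolynomial.mkDerivation k
      (![0, 0, 0, MvPolynomial.X 0 ^ (m + 1), MvPolynomial.X 1 ^ (m + 1), MvPolynomial.X 2 ^ (m + 1),
        (MvPolynomial.X 0 * MvPolynomial.X 1 * MvPolynomial.X 2) ^ m] : Fin 7 → MvPolynomial (Fin 7) k) f = 0) :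
    ∀ d ∈ f.support, 0 < d 0 + d 1 + d 2 := by
  classical
  intro d hd
  by_contra hzero
  have h0 : d 0 = 0 ∧ d 1 = 0 ∧ d 2 = 0 := by omega
  have hD : MvPolynomial.mkDerivation k
      (![0, 0, 0, MvPolynomial.X 0 ^ (m + 1), MvPolynomial.X 1 ^ (m + 1), MvPolynomial.X 2 ^ (m + 1),
        (MvPolynomial.X 0 * MvPolynomial.X 1 * MvPolynomial.X 2) ^ m] : Fin 7 → MvPolynomial (Fin 7) k) =
      MvPolynomial.monomial (Finsupp.single (0 : Fin 7) (m + 1)) (1 : k) • MvPolynomial.pderiv (R := k) (3 : Fin 7) +
      MvPolynomial.monomial (Finsupp.single (1 : Fin 7) (m + 1)) (1 : k) • MvPolynomial.pderiv (R := k) (4 : Fin 7) +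
      MvPolynomial.monomial (Finsupp.single (2 : Fin 7) (m + 1)) (1 : k) • MvPolynomial.pderiv (R := k) (5 : Fin 7) +
      MvPolynomial.monomial (Finsupp.single (0 : Fin 7) m + Finsupp.single (1 : Fin 7) m + Finsupp.single (2 : Fin 7) m) (1 : k) •
        MvPolynomial.pderiv (R := k) (6 : Fin 7) := by
    refine MvPolynomial.derivation_ext fun i => ?_
    rw [MvPolynomial.mkDerivation_X]
    fin_cases i <;>
      simp [MvPolynomial.pderiv_X, Pi.single_apply, MvPolynomial.X_pow_eq_monomial, mul_pow,
        MvPolynomial.monomial_mul, add_assoc]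
  have hc : ∀ e : Fin 7 →₀ ℕ,
      (if Finsupp.single (0 : Fin 7) (m + 1) ≤ e then
          1 * MvPolynomial.coeff (e - Finsupp.single (0 : Fin 7) (m + 1)) (MvPolynomial.pderiv 3 f) else 0) +
      (if Finsupp.single (1 : Fin 7) (m + 1) ≤ e then
          1 * MvPolynomial.coeff (e - Finsupp.single (1 : Fin 7) (m + 1)) (MvPolynomial.pderiv 4 f) else 0) +
      (if Finsupp.single (2 : Fin 7) (m + 1) ≤ e then
          1 * MvPolynomial.coeff (e - Finsupp.single (2 : Fin 7) (m + 1)) (MvPolynomial.pderiv 5 f) else 0) +
      (if Finsupp.single 0 m + Finsupp.single 1 m + Finsupp.single 2 m ≤ e then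
          1 * MvPolynomial.coeff (e - (Finsupp.single (0 : Fin 7) m + Finsupp.single (1 : Fin 7) m + Finsupp.single (2 : Fin 7) m))
            (MvPolynomial.pderiv 6 f) else 0) = (0 : k) := by
    intro e
    have h := congrArg (MvPolynomial.coeff e) hδ
    rw [hD] at h
    simpa [smul_eq_mul, MvPolynomial.coeff_monomial_mul'] using h
  have hcd : MvPolynomial.coeff d f ≠ 0 := MvPolynomial.mem_support_iff.1 hd
  have hw := hf hcd
  rw [Finsupp.weight_apply, Finsupp.sum_fintype _ _ (fun _ => by simp)] at hw
  simp [Fin.sum_univ_seven] at hw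
  have key : ∀ (w : Fin 7) (P : Fin 7 →₀ ℕ), 0 < d w →
      MvPolynomial.coeff (d - Finsupp.single w 1 + P - P) (MvPolynomial.pderiv w f) = 0 → False := by
    intro w P hw0 h
    rw [add_tsub_cancel_right, MvPolynomial.coeff_pderiv,
      tsub_add_cancel_of_le (Finsupp.single_le_iff.2 hw0)] at h
    rcases mul_eq_zero.1 h with h | h
    · exact hcd h
    · exact Nat.cast_add_one_ne_zero _ h
  have hcases : 0 < d 3 ∨ 0 < d 4 ∨ 0 < d 5 ∨ 0 < d 6 := by omega
  rcases hcases with h | h | h | h
  · have := hc (d - Finsupp.single 3 1 + Finsupp.single (0 : Fin 7) (m + 1))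
    rw [if_pos le_add_self, if_neg (fun hle => by have := hle 1; simp [h0] at this),
      if_neg (fun hle => by have := hle 2; simp [h0] at this),
      if_neg (fun hle => by have := hle 1; simp [h0] at this; omega)] at this
    exact key 3 (Finsupp.single (0 : Fin 7) (m + 1)) h (by simpa only [_root_.one_mul, add_zero, zero_add] using this)
  · have := hc (d - Finsupp.single 4 1 + Finsupp.single (1 : Fin 7) (m + 1))
    rw [if_neg (fun hle => by have := hle 0; simp [h0] at this), if_pos le_add_self,
      if_neg (fun hle => by have := hle 2; simp [h0] at this),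
      if_neg (fun hle => by have := hle 0; simp [h0] at this; omega)] at this
    exact key 4 (Finsupp.single (1 : Fin 7) (m + 1)) h (by simpa only [_root_.one_mul, add_zero, zero_add] using this)
  · have := hc (d - Finsupp.single 5 1 + Finsupp.single (2 : Fin 7) (m + 1))
    rw [if_neg (fun hle => by have := hle 0; simp [h0] at this),
      if_neg (fun hle => by have := hle 1; simp [h0] at this), if_pos le_add_self,
      if_neg (fun hle => by have := hle 0; simp [h0] at this; omega)] at this
    exact key 5 (Finsupp.single (2 : Fin 7) (m + 1)) h (by simpa only [_root_.one_mul, add_zero, zero_add] using this)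
  · have := hc (d - Finsupp.single 6 1 + (Finsupp.single (0 : Fin 7) m + Finsupp.single (1 : Fin 7) m + Finsupp.single (2 : Fin 7) m))
    rw [if_neg (fun hle => by have := hle 0; simp [h0] at this),
      if_neg (fun hle => by have := hle 1; simp [h0] at this),
      if_neg (fun hle => by have := hle 2; simp [h0] at this), if_pos le_add_self] at this
    exact key 6 (Finsupp.single (0 : Fin 7) m + Finsupp.single (1 : Fin 7) m + Finsupp.single (2 : Fin 7) m) h
      (by simpa only [_root_.one_mul, add_zero, zero_add] using this)

end Groth.Agent.S11217
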