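import Groth.Statements.S11218
import Groth.Agent.GrpSchField.Orbit
import Groth.Agent.HomogSep.Qs
-- import your own Groth.Agent.* helpers here

set_option autoImplicit false
set_option linter.style.haveILetI false
set_option backward.isDefEq.respectTransparency false
universe u
open CategoryTheory MonoidalCategory CartesianMonoidalCategory MonObj GrpObj AlgebraicGeometry
open scoped TensorProduct
open AGF
open Groth.Agent.GrpSchField Groth.Agent.HomogSep

namespace Groth.Agent.S11218

section
theorem whiskerRight_left {P : MorphismProperty Scheme.{u}} [P.IsStableUnderBaseChange] [P.ContainsIdentities]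
    [P.IsStableUnderComposition] {k : Type u} [Field k] {A B : Over (Spec (CommRingCat.of k))} (f : A ⟶ B)
    (C : Over (Spec (CommRingCat.of k))) (h : P f.left) : P (f ▷ C).left := by
  rw [← tensorHom_id, Over.tensorHom_left]
  exact MorphismProperty.pullbackMap h (P.id_mem _) (Over.w f).symm (Over.w (𝟙 C)).symm

variable {k : Type u} [Field k] {G H : Over (Spec (CommRingCat.of k))} [GrpObj G]

theorem exists_lift_whiskerLeft {A B C : Over (Spec (CommRingCat.of k))} (f : B ⟶ C) {p : (A ⊗ C).left}
    (hp : (snd A C).left p ∈ Set.range f.left) : ∃ q, (A ◁ f).left q = p := by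
  show p ∈ Set.range (A ◁ f).left
  rw [← id_tensorHom, Over.tensorHom_left]
  refine (Scheme.Pullback.range_map _ _ _ _ _ _ _ _ _).ge ?_
  exact ⟨⟨_, rfl⟩, hp⟩

theorem act_mem_range {X B : Over (Spec (CommRingCat.of k))} (a : AlgGrp.Action G X)
    (x : 𝟙_ (Over (Spec (CommRingCat.of k))) ⟶ X) (j : B ⟶ X) (hj : ∃ i : B ⟶ G, j = i ≫ a.orbitMap x)
    {p : (G ⊗ X).left} (hp : (snd G X).left p ∈ Set.range j.left) :
    a.act.left p ∈ Set.range (a.orbitMap x).left := by
  obtain ⟨i, rfl⟩ := hj
  obtain ⟨q, rfl⟩ := exists_lift_whiskerLeft _ hp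
  refine ⟨μ[G].left ((G ◁ i).left q), ?_⟩
  rw [← comp_left_apply, ← comp_left_apply, ← comp_left_apply, mul_comp_orbitMap,
    MonoidalCategory.whiskerLeft_comp]
  simp only [Category.assoc]

theorem stable_closure [GrpObj H] (i : H ⟶ G) [IsMonHom i] {X : Over (Spec (CommRingCat.of k))} (a : AlgGrp.Action G X)
    (x : 𝟙_ (Over (Spec (CommRingCat.of k))) ⟶ X) (q : (H ⊗ X).left)
    (hq : (snd H X).left q ∈ closure (Set.range (i ≫ a.orbitMap x).left)) :
    (i ▷ X ≫ a.act).left q ∈ closure (Set.range (i ≫ a.orbitMap x).left) := by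
  have h1 : q ∈ closure ((snd H X).left ⁻¹' Set.range (i ≫ a.orbitMap x).left) := by
    rw [← (snd H X).left.isOpenMap.preimage_closure_eq_closure_preimage (snd H X).left.continuous]
    exact hq
  refine map_mem_closure (i ▷ X ≫ a.act).left.continuous h1 ?_
  intro p hp
  obtain ⟨r, rfl⟩ := exists_lift_whiskerLeft _ hp
  refine ⟨μ[H].left r, ?_⟩
  rw [← comp_left_apply, ← comp_left_apply, ← Category.assoc μ[H], IsMonHom.mul_hom (f := i), Category.assoc,
    mul_comp_orbitMap, MonoidalCategory.whiskerLeft_comp, MonoidalCategory.tensorHom_def]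
  simp only [Category.assoc, whisker_exchange_assoc]

theorem isClosed_translates [GrpObj H] (i : H ⟶ G) [IsMonHom i] (Y : Over (Spec (CommRingCat.of k)))
    (b : AlgGrp.Action G Y) (o' : 𝟙_ (Over (Spec (CommRingCat.of k))) ⟶ Y) (hY : AGF.IsQuotient i Y b o')
    [IsProper Y.hom] [LocallyOfFinitePresentation (b.orbitMap o').left]
    (X : Over (Spec (CommRingCat.of k))) (a : AlgGrp.Action G X) (Z : Set X.left) (hZ : IsClosed Z)
    (hstab : ∀ q : (H ⊗ X).left, (snd H X).left q ∈ Z → (i ▷ X ≫ a.act).left q ∈ Z) :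
    IsClosed (a.act.left '' ((snd G X).left ⁻¹' Z)) := by
  let π := b.orbitMap o'
  haveI : Flat π.left := hY.2.1
  haveI : Surjective π.left := hY.2.2.1
  let sh := actShear a
  let T : Set (G ⊗ X).left := sh.hom.left '' ((snd G X).left ⁻¹' Z)
  have hT : T = (sh.inv ≫ snd G X).left ⁻¹' Z := by
    ext p
    constructor
    · rintro ⟨r, hr, rfl⟩
      show (sh.inv ≫ snd G X).left (sh.hom.left r) ∈ Z
      rw [comp_left_apply, left_inv_hom]; exact hr
    · intro hp
      refine ⟨sh.inv.left p, ?_, left_hom_inv sh p⟩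
      show (snd G X).left (sh.inv.left p) ∈ Z
      rw [← comp_left_apply]; exact hp
  let πX := π ▷ X
  -- saturation
  let q₁ : (G ⊗ H) ⊗ X ⟶ G ⊗ X := fst G H ▷ X
  let q₂ : (G ⊗ H) ⊗ X ⟶ G ⊗ X := ((G ◁ i) ≫ μ[G]) ▷ X
  have hpb : IsPullback q₁ q₂ πX πX := by
    refine ⟨⟨by simp only [q₁, q₂, πX, ← MonoidalCategory.comp_whiskerRight]; rw [hY.2.2.2.w]⟩, ⟨?_⟩⟩
    refine Limits.PullbackCone.IsLimit.mk _ (fun s => lift (hY.2.2.2.lift (s.fst ≫ fst G X) (s.snd ≫ fst G X)
      (by simpa [πX] using congrArg (fun m => m ≫ fst Y X) s.condition)) (s.fst ≫ snd G X)) ?_ ?_ ?_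
    · intro s
      apply CartesianMonoidalCategory.hom_ext
      · simp only [q₁, Category.assoc, whiskerRight_fst, lift_fst_assoc]
        exact hY.2.2.2.lift_fst _ _ _
      · simp [q₁]
    · intro s
      apply CartesianMonoidalCategory.hom_ext
      · simp only [q₂, Category.assoc, whiskerRight_fst, lift_fst_assoc]
        exact hY.2.2.2.lift_snd _ _ _
      · simpa [q₂, πX] using congrArg (fun m => m ≫ snd Y X) s.condition
    · intro s m h1 h2
      apply CartesianMonoidalCategory.hom_ext
      · apply hY.2.2.2.hom_ext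
        · rw [lift_fst, hY.2.2.2.lift_fst, ← h1]; simp [q₁]
        · rw [lift_fst, hY.2.2.2.lift_snd, ← h2]; simp only [q₂, Category.assoc, whiskerRight_fst]
      · rw [lift_snd, ← h1]; simp [q₁]
  have hsat : ∀ t t' : (G ⊗ X).left, πX.left t = πX.left t' → t ∈ T → t' ∈ T := by
    intro t t' he ht
    have hp' := hpb.map (Over.forget _)
    obtain ⟨w₀, h₁, h₂⟩ := Scheme.Pullback.exists_preimage_pullback (f := πX.left) (g := πX.left) t t' he
    let w : ((G ⊗ H) ⊗ X).left := hp'.isoPullback.inv w₀
    have hw₁ : q₁.left w = t := by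
      rw [← h₁]
      have e := hp'.isoPullback_inv_fst
      exact (Scheme.Hom.comp_apply hp'.isoPullback.inv ((Over.forget _).map q₁) w₀).symm.trans
        (congrArg (fun m : Limits.pullback πX.left πX.left ⟶ (G ⊗ X).left => m w₀) e)
    have hw₂ : q₂.left w = t' := by
      rw [← h₂]
      have e := hp'.isoPullback_inv_snd
      exact (Scheme.Hom.comp_apply hp'.isoPullback.inv ((Over.forget _).map q₂) w₀).symm.trans
        (congrArg (fun m : Limits.pullback πX.left πX.left ⟶ (G ⊗ X).left => m w₀) e)
    rw [hT, ← hw₁, Set.mem_preimage, ← comp_left_apply] at ht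
    rw [hT, ← hw₂, Set.mem_preimage, ← comp_left_apply]
    let s := q₁ ≫ sh.inv ≫ snd G X
    let χ : (G ⊗ H) ⊗ X ⟶ H ⊗ X := lift (fst (G ⊗ H) X ≫ snd G H)⁻¹ s
    have hχ : q₂ ≫ sh.inv ≫ snd G X = χ ≫ i ▷ X ≫ a.act := by
      have e1 : χ ≫ i ▷ X = lift ((fst (G ⊗ H) X ≫ snd G H) ≫ i)⁻¹ s := by
        apply CartesianMonoidalCategory.hom_ext <;> simp [χ, GrpObj.inv_comp]
      rw [← Category.assoc χ, e1]
      simp only [s, sh, q₁, q₂, actShear, lift_snd, ← Category.assoc, comp_lift, GrpObj.comp_inv, whiskerRight_fst,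
        whiskerRight_snd]
      rw [← lift_act_mul, ← _root_.mul_inv_rev]
      congr 3
      simp only [Hom.mul_def, Category.assoc]
      rw [← comp_lift_assoc]
      congr 2
    rw [hχ, comp_left_apply]
    refine hstab _ ?_
    rw [← comp_left_apply]
    rw [show χ ≫ snd H X = s by simp [χ]]
    simp only [s, comp_left_apply] at ht ⊢
    exact ht
  haveI : MorphismProperty.ContainsIdentities @LocallyOfFinitePresentation := ⟨fun _ => inferInstance⟩
  haveI : Flat πX.left := whiskerRight_left π X inferInstance
  haveI : LocallyOfFinitePresentation πX.left := whiskerRight_left π X inferInstance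
  haveI : Surjective πX.left := whiskerRight_left π X inferInstance
  have hU : IsClosed (πX.left '' T) := by
    have hTc : IsClosed T := hT ▸ hZ.preimage (sh.inv ≫ snd G X).left.continuous
    have : πX.left '' T = (πX.left '' Tᶜ)ᶜ := by
      ext p
      constructor
      · rintro ⟨t, ht, rfl⟩ ⟨t', ht', he⟩
        exact ht' (hsat t t' he.symm ht)
      · intro hp
        obtain ⟨t, rfl⟩ := πX.left.surjective p
        exact ⟨t, by_contra fun h => hp ⟨t, h, rfl⟩, rfl⟩
    rw [this]
    exact (πX.left.isOpenMap _ hTc.isOpen_compl).isClosed_compl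
  have hact : sh.hom ≫ πX ≫ snd Y X = a.act := by simp [sh, πX, actShear]
  have himg : a.act.left '' ((snd G X).left ⁻¹' Z) = (snd Y X).left '' (πX.left '' T) := by
    rw [Set.image_image, Set.image_image]
    refine Set.image_congr fun p _ => ?_
    rw [← comp_left_apply, ← comp_left_apply, hact]
  rw [himg]
  haveI : IsProper (snd Y X).left := inferInstanceAs (IsProper (Limits.pullback.snd Y.hom X.hom))
  exact (snd Y X).left.isClosedMap _ hU

end

/-- Let k be an algebraically closed field, G a linear algebraic group over k (an affine smooth group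
scheme over k) and H a closed subgroup of G (a smooth closed subgroup scheme, i : H → G), such that
the quotient G/H (the scheme Y with action b and base point o′) is proper over k (complete). Let G
act on a variety X over k (separated, of finite type) and let x be a rational point of X; let Z ⊆ X
be the closure of the H-orbit of x. Then the closure of the G-orbit of x is G·Z, the image under the
action map of the preimage of Z in G × X. (The published statement takes X affine; the argument does
not use this, and this row drops it.) -/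
theorem result (k : Type u) [Field k] [IsAlgClosed k]
    (G : Over (Spec (CommRingCat.of k))) [GrpObj G] [IsAffine G.left] [Smooth G.hom]
    (H : Over (Spec (CommRingCat.of k))) [GrpObj H] [Smooth H.hom] (i : H ⟶ G) [IsMonHom i]
    [IsClosedImmersion i.left]
    (Y : Over (Spec (CommRingCat.of k))) (b : AlgGrp.Action G Y) (o' : 𝟙_ (Over (Spec (CommRingCat.of k))) ⟶ Y) (hY : AGF.IsQuotient i Y b o')
    [IsProper Y.hom]
    (X : Over (Spec (CommRingCat.of k))) [IsSeparated X.hom] [LocallyOfFiniteType X.hom] [QuasiCompact X.hom]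
    (a : AlgGrp.Action G X) (x : 𝟙_ (Over (Spec (CommRingCat.of k))) ⟶ X) :
    closure (Set.range ⇑(a.orbitMap x).left.base) =
      ⇑a.act.left.base '' (⇑(snd G X).left.base ⁻¹' closure (Set.range ⇑(i ≫ a.orbitMap x).left.base)) := by
  haveI : LocallyOfFiniteType Y.hom := hY.1
  haveI : LocallyOfFinitePresentation G.hom := inferInstance
  let π := b.orbitMap o'
  haveI : Flat π.left := hY.2.1
  haveI : Surjective π.left := hY.2.2.1
  haveI : IsLocallyNoetherian Y.left := LocallyOfFiniteType.isLocallyNoetherian Y.hom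
  haveI : LocallyOfFinitePresentation (π.left ≫ Y.hom) := by rw [Over.w π]; infer_instance
  haveI : LocallyOfFiniteType Y.hom := hY.1
  haveI : LocallyOfFinitePresentation π.left :=
    locallyOfFinitePresentation_of_comp π.left Y.hom inferInstance inferInstance
  let j := i ≫ a.orbitMap x
  let Z : Set X.left := closure (Set.range j.left)
  show closure (Set.range (a.orbitMap x).left) = a.act.left '' ((snd G X).left ⁻¹' Z)
  refine Set.Subset.antisymm ?_ ?_
  · refine closure_minimal ?_ (isClosed_translates i Y b o' hY X a Z isClosed_closure ?_)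
    · rintro _ ⟨g, rfl⟩
      refine ⟨(lift (𝟙 G) (toUnit G ≫ x)).left g, ?_, ?_⟩
      · show (snd G X).left ((lift (𝟙 G) (toUnit G ≫ x)).left g) ∈ Z
        rw [← comp_left_apply, lift_snd]
        have : toUnit G ≫ x = (toUnit G ≫ (1 : 𝟙_ _ ⟶ H)) ≫ j := by
          have h1 : (1 : 𝟙_ (Over (Spec (CommRingCat.of k))) ⟶ H) ≫ i = 1 := by simp [Hom.one_def]
          simp only [j, Category.assoc]
          rw [reassoc_of% h1, AlgGrp.Action.orbitMap, ← Category.assoc (1 : 𝟙_ _ ⟶ G), comp_lift, Category.comp_id,
            ← Category.assoc (1 : 𝟙_ _ ⟶ G), toUnit_unique ((1 : 𝟙_ _ ⟶ G) ≫ toUnit G) (𝟙 _), Category.id_comp,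
            lift_act_one]
        rw [this, comp_left_apply]
        exact subset_closure ⟨_, rfl⟩
      · show a.act.left _ = _
        rw [← comp_left_apply]; rfl
    · exact stable_closure i a x
  · rw [(snd G X).left.isOpenMap.preimage_closure_eq_closure_preimage (snd G X).left.continuous]
    refine (image_closure_subset_closure_image a.act.left.continuous).trans (closure_mono ?_)
    rintro _ ⟨p, hp, rfl⟩
    exact act_mem_range a x j ⟨i, rfl⟩ hp

end Groth.Agent.S11218
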