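import Groth.Statements.S11221
import Mathlib.RingTheory.Ideal.AssociatedPrime.Localization
import Mathlib.RingTheory.Ideal.Height
-- import your own Groth.Agent.* helpers here

set_option autoImplicit false
universe u
open CategoryTheory MonoidalCategory CartesianMonoidalCategory MonObj GrpObj AlgebraicGeometry
open scoped TensorProduct
open AGF

namespace Groth.Agent.S11221

/-- Let R be a Noetherian integrally closed domain with fraction field K and let p be a prime ideal of R
of height one. Then there is f ∈ K which is not in R but lies in the local ring R_q ⊆ K of every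
height-one prime q ≠ p (f = a/b with b ∉ q): a rational function on Spec R with a pole along V(p)
only. (The published statement is for the coordinate ring of a normal affine variety; this row is
for any Noetherian integrally closed domain, which is all the argument uses.) -/
theorem result (R : Type u) [CommRing R] [IsDomain R] [IsNoetherianRing R] [IsIntegrallyClosed R]
    (p : Ideal R) [p.IsPrime] (hp : p.height = 1) :
    ∃ f : FractionRing R, f ∉ Set.range ⇑(algebraMap R (FractionRing R)) ∧
      ∀ q : Ideal R, q.IsPrime → q.height = 1 → q ≠ p →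
        ∃ a b : R, b ∉ q ∧ f * algebraMap R (FractionRing R) b = algebraMap R (FractionRing R) a := by
  classical
  have hpbot : p ≠ ⊥ := by
    rintro rfl
    rw [Ideal.height_bot] at hp
    exact absurd hp zero_ne_one
  obtain ⟨a, hap, ha0⟩ := Submodule.exists_mem_ne_zero_of_ne_bot hpbot
  have hmin : p ∈ (Ideal.span {a}).minimalPrimes := by
    refine ⟨⟨inferInstance, (Ideal.span_singleton_le_iff_mem _).2 hap⟩, fun q ⟨hq, hle⟩ hqp => ?_⟩
    by_contra hne
    have hlt : q < p := lt_of_le_not_ge hqp hne
    haveI := hq
    haveI : p.FiniteHeight := ⟨Or.inr (by rw [hp]; exact ENat.one_ne_top)⟩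
    haveI : q.FiniteHeight := ⟨Or.inr (ne_top_of_le_ne_top (by rw [hp]; exact ENat.one_ne_top) (Ideal.height_mono hqp))⟩
    have h1 := Ideal.height_strict_mono_of_isPrime hlt
    rw [hp, ENat.lt_one_iff_eq_zero] at h1
    have hq0 : (⊥ : Ideal R) < q := bot_lt_iff_ne_bot.2 fun h => ha0 (by
      simpa [h, Ideal.span_singleton_le_iff_mem] using hle)
    haveI : (⊥ : Ideal R).IsPrime := Ideal.isPrime_bot
    haveI : (⊥ : Ideal R).FiniteHeight := ⟨Or.inr (by simp [Ideal.height_bot])⟩
    have h2 := Ideal.height_strict_mono_of_isPrime hq0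
    rw [h1, Ideal.height_bot] at h2
    exact lt_irrefl _ h2
  rw [← Ideal.annihilator_quotient (I := Ideal.span {a})] at hmin
  have hass : p ∈ associatedPrimes R (R ⧸ Ideal.span {a}) :=
    Module.associatedPrimes.minimalPrimes_annihilator_subset_associatedPrimes R _ hmin
  obtain ⟨-, x, hx⟩ := Submodule.isAssociatedPrime_iff.1 (hass : (⊥ : Submodule R (R ⧸ Ideal.span {a})).IsAssociatedPrime p)
  obtain ⟨c, rfl⟩ := Ideal.Quotient.mk_surjective x
  have hmem : ∀ t : R, t ∈ p ↔ t * c ∈ Ideal.span {a} := fun t => by
    rw [hx, Submodule.mem_colon_singleton, Submodule.mem_bot, ← Ideal.Quotient.eq_zero_iff_mem]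
    rfl
  have haK : algebraMap R (FractionRing R) a ≠ 0 := fun h =>
    ha0 (IsFractionRing.injective R (FractionRing R) (h.trans (map_zero _).symm))
  refine ⟨algebraMap R (FractionRing R) c / algebraMap R (FractionRing R) a, ?_, fun q hq _ hqp => ?_⟩
  · rintro ⟨r, hr⟩
    rw [eq_div_iff haK, ← map_mul] at hr
    have hca : c ∈ Ideal.span {a} :=
      Ideal.mem_span_singleton.2 ⟨r, by rw [← IsFractionRing.injective R (FractionRing R) hr]; ring⟩
    exact Ideal.IsPrime.ne_top inferInstance ((Ideal.eq_top_iff_one p).2 ((hmem 1).2 (by rwa [_root_.one_mul])))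
  · have hnot : ¬ p ≤ q := fun hle => by
      rcases hle.lt_or_eq with hlt | h
      · haveI := hq
        haveI : p.FiniteHeight := ⟨Or.inr (by rw [hp]; exact ENat.one_ne_top)⟩
        have h1 := Ideal.height_strict_mono_of_isPrime hlt
        simp_all
      · exact hqp h.symm
    obtain ⟨t, htp, htq⟩ := SetLike.not_le_iff_exists.1 hnot
    obtain ⟨r, hr⟩ := Ideal.mem_span_singleton.1 ((hmem t).1 htp)
    refine ⟨r, t, htq, ?_⟩
    rw [div_mul_eq_mul_div, div_eq_iff haK, ← map_mul, ← map_mul]
    exact congrArg _ (by rw [mul_comm, hr, mul_comm])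

end Groth.Agent.S11221
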