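import Groth.Statements.S11223
import Mathlib
-- import your own Groth.Agent.* helpers here

set_option autoImplicit false
universe u
open CAlg

namespace Groth.Agent.S11223

/-- Let k be a field, let z_1, ..., z_m be homogeneous polynomials of positive degree in the polynomial
ring k[x_1, ..., x_n], and suppose the radical of the ideal (z_1, ..., z_m) is the ideal (x_1, ...,
x_n) generated by the variables. Then the polynomial ring is integral over the subalgebra generated
by z_1, ..., z_m. (The published statement is over an algebraically closed field; this row takes any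
field, which its proof allows.) -/
theorem result (k : Type u) [Field k] (n m : ℕ)
    (z : Fin m → MvPolynomial (Fin n) k) (d : Fin m → ℕ) (hd : ∀ i, 0 < d i)
    (hz : ∀ i, (z i).IsHomogeneous (d i))
    (hrad : (Ideal.span (Set.range z)).radical =
      Ideal.span (Set.range (MvPolynomial.X : Fin n → MvPolynomial (Fin n) k))) :
    Algebra.IsIntegral (Algebra.adjoin k (Set.range z)) (MvPolynomial (Fin n) k) := by
  classical
  set S := Algebra.adjoin k (Set.range z)
  obtain ⟨N, hN⟩ : ∃ N : ℕ, ∀ i : Fin n, (MvPolynomial.X i : MvPolynomial (Fin n) k) ^ N ∈ Ideal.span (Set.range z) := by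
    have h : ∀ i : Fin n, ∃ N : ℕ, (MvPolynomial.X i : MvPolynomial (Fin n) k) ^ N ∈ Ideal.span (Set.range z) :=
      fun i => by
        show MvPolynomial.X i ∈ (Ideal.span (Set.range z)).radical
        rw [hrad]; exact Ideal.subset_span ⟨i, rfl⟩
    choose N hN using h
    refine ⟨Finset.univ.sup N, fun i => ?_⟩
    obtain ⟨c, hc⟩ := Nat.exists_eq_add_of_le (Finset.le_sup (f := N) (Finset.mem_univ i))
    rw [hc, pow_add]
    exact Ideal.mul_mem_right _ _ (hN i)
  -- the monomials with bounded exponents generate over `S`
  let T : Set (MvPolynomial (Fin n) k) := Set.range fun e : Fin n → Fin (N + 1) =>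
    MvPolynomial.monomial (Finsupp.equivFunOnFinite.symm fun i => (e i : ℕ)) (1 : k)
  let M := Submodule.span S T
  suffices hM : ∀ (D : ℕ) (e : Fin n →₀ ℕ), e.degree = D → MvPolynomial.monomial e (1 : k) ∈ M by
    haveI : Module.Finite S (MvPolynomial (Fin n) k) := by
      refine ⟨?_⟩
      have : M = ⊤ := by
        rw [eq_top_iff]
        rintro p -
        induction p using MvPolynomial.induction_on' with
        | monomial e c =>
          have : MvPolynomial.monomial e c = algebraMap k S c • MvPolynomial.monomial e (1 : k) := by
            rw [algebraMap_smul, MvPolynomial.smul_monomial, smul_eq_mul, mul_one]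
          rw [this]
          exact M.smul_mem _ (hM _ e rfl)
        | add p q hp hq => exact add_mem hp hq
      rw [← this]
      exact Submodule.fg_span (Set.finite_range _)
    exact Algebra.IsIntegral.of_finite _ _
  intro D
  induction D using Nat.strong_induction_on with
  | _ D ih =>
    intro e he
    by_cases hb : ∀ i, e i ≤ N
    · refine Submodule.subset_span ⟨fun i => ⟨e i, Nat.lt_succ_of_le (hb i)⟩, ?_⟩
      simp only []
      congr 2
      ext i; simp
    · push Not at hb
      obtain ⟨i, hi⟩ := hb
      have hmem : MvPolynomial.monomial e (1 : k) ∈ Ideal.span (Set.range z) := by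
        have heq : MvPolynomial.monomial e (1 : k) =
            MvPolynomial.monomial (e - Finsupp.single i N) 1 * MvPolynomial.X i ^ N := by
          rw [MvPolynomial.X_pow_eq_monomial, MvPolynomial.monomial_mul, mul_one,
            tsub_add_cancel_of_le]
          exact Finsupp.single_le_iff.2 hi.le
        rw [heq]
        exact Ideal.mul_mem_left _ _ (hN i)
      obtain ⟨c, hc⟩ := (Submodule.mem_span_range_iff_exists_fun _).1 hmem
      have hhom := congrArg (MvPolynomial.homogeneousComponent D) hc
      rw [map_sum, MvPolynomial.homogeneousComponent_of_mem (MvPolynomial.isHomogeneous_monomial 1 he),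
        if_pos rfl] at hhom
      rw [← hhom]
      refine sum_mem fun j _ => ?_
      rw [smul_eq_mul]
      conv =>
        arg 2
        rw [(c j).as_sum, Finset.sum_mul, map_sum]
      refine sum_mem fun v _ => ?_
      rw [MvPolynomial.homogeneousComponent_of_mem
        ((MvPolynomial.isHomogeneous_monomial _ rfl).mul (hz j))]
      split_ifs with h
      · have hlt : v.degree < D := by have := hd j; omega
        have : MvPolynomial.monomial v (MvPolynomial.coeff v (c j)) * z j =
            ((algebraMap k S (MvPolynomial.coeff v (c j))) * ⟨z j, Algebra.subset_adjoin ⟨j, rfl⟩⟩ : S) •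
              MvPolynomial.monomial v (1 : k) := by
          rw [mul_smul, algebraMap_smul, Subalgebra.smul_def, smul_eq_mul, ← mul_smul_comm,
            MvPolynomial.smul_monomial, smul_eq_mul, mul_one, mul_comm]
        rw [this]
        exact M.smul_mem _ (ih _ hlt v rfl)
      · exact zero_mem _

end Groth.Agent.S11223
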