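import Mathlib
import Groth.Statements.S11233
-- import your own Groth.Agent.* helpers here

set_option autoImplicit false
universe u
open CAlg

namespace Groth.Agent.S11233

/-- Let k be an algebraically closed field, A an integral domain which is a k-algebra, T an m by m
matrix over A with invertible determinant, and let the additive group k^m act on the polynomial ring
A[y_1, ..., y_m] by the A-algebra maps y_s ↦ y_s + Σ_r h_r T_rs. Then the only invariant polynomials
are the constants: a polynomial fixed by all these substitutions lies in A. -/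
theorem result (k : Type u) [Field k] [IsAlgClosed k]
    (A : Type u) [CommRing A] [IsDomain A] [Algebra k A] (m : ℕ) (T : Matrix (Fin m) (Fin m) A)
    (hT : IsUnit T.det) (f : MvPolynomial (Fin m) A)
    (hf : ∀ h : Fin m → k, MvPolynomial.aeval
      (fun s : Fin m => MvPolynomial.X s + MvPolynomial.C (∑ r : Fin m, algebraMap k A (h r) * T r s)) f = f) :
    ∃ a : A, f = MvPolynomial.C a := by
  classical
  have hinf : Set.Infinite (Set.range (algebraMap k A)) := Set.infinite_range_of_injective (algebraMap k A).injective
  let sub : (Fin m → Fin m → A) → (MvPolynomial (Fin m) A →ₐ[A] MvPolynomial (Fin m) A) := fun U =>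
    MvPolynomial.aeval fun s => ∑ r : Fin m, MvPolynomial.X r * MvPolynomial.C (U r s)
  have hval : ∀ h : Fin m → k, MvPolynomial.eval (fun r => algebraMap k A (h r)) (sub T f) = MvPolynomial.eval (fun _ => (0 : A)) f := by
    intro h
    have := congrArg (MvPolynomial.eval (fun _ => (0 : A))) (hf h)
    rw [← this, MvPolynomial.aeval_eq_eval₂Hom, MvPolynomial.map_eval₂Hom]
    simp only [sub, MvPolynomial.aeval_eq_eval₂Hom, MvPolynomial.map_eval₂Hom]
    congr 2 <;> ext <;> simp
  have hC : sub T f = MvPolynomial.C (MvPolynomial.eval (fun _ => (0 : A)) f) := by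
    refine MvPolynomial.funext_set (fun _ => Set.range (algebraMap k A)) (fun _ => hinf) fun x hx => ?_
    rw [Set.mem_univ_pi] at hx
    choose h hh using hx
    rw [show x = fun r => algebraMap k A (h r) from funext fun r => (hh r).symm, hval h, MvPolynomial.eval_C]
  refine ⟨MvPolynomial.eval (fun _ => (0 : A)) f, ?_⟩
  have hinv : (sub (T⁻¹ : Matrix (Fin m) (Fin m) A)).comp (sub T) = AlgHom.id A _ := by
    refine MvPolynomial.algHom_ext fun s => ?_
    simp only [sub, AlgHom.comp_apply, MvPolynomial.aeval_X, map_sum, map_mul, MvPolynomial.aeval_C, MvPolynomial.algebraMap_eq, Finset.sum_mul, AlgHom.id_apply]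
    rw [Finset.sum_comm]
    have h2 : ∀ q r, MvPolynomial.X q * MvPolynomial.C (T⁻¹ q r) * MvPolynomial.C (T r s) =
        (MvPolynomial.X q * MvPolynomial.C (T⁻¹ q r * T r s) : MvPolynomial (Fin m) A) := fun q r => by rw [map_mul, mul_assoc]
    simp only [h2, ← Finset.mul_sum, ← map_sum, ← Matrix.mul_apply, Matrix.nonsing_inv_mul T hT, Matrix.one_apply]
    simp [apply_ite MvPolynomial.C]
  have := congrArg (sub (T⁻¹ : Matrix (Fin m) (Fin m) A)) hC
  rw [← AlgHom.comp_apply, hinv, AlgHom.id_apply] at this
  rw [this]
  simp [sub]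

end Groth.Agent.S11233
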