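import Groth.Statements.S11235
import Mathlib
-- import your own Groth.Agent.* helpers here

set_option autoImplicit false
universe u
open CAlg

namespace Groth.Agent.S11235

/-- Let k be an algebraically closed field, A a commutative k-algebra, α ∈ k, and M a maximal ideal of
the polynomial ring A[x] containing x - α. Let I ⊆ M be an ideal whose zero set in Spec A[x] is
invariant under the automorphisms x ↦ c·x, c ∈ k nonzero (equivalently: the image of I under each
such A-algebra automorphism has the same radical as I). Then there is a maximal ideal of A[x]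
containing I and x. -/
theorem result (k : Type u) [Field k] [IsAlgClosed k]
    (A : Type u) [CommRing A] [Algebra k A] (α : k)
    (M : Ideal (Polynomial A)) (hM : M.IsMaximal)
    (hα : Polynomial.X - Polynomial.C (algebraMap k A α) ∈ M)
    (I : Ideal (Polynomial A)) (hIM : I ≤ M)
    (hI : ∀ c : kˣ, (I.map (Polynomial.aeval (R := A)
      (algebraMap k A (c : k) • (Polynomial.X : Polynomial A)))).radical = I.radical) :
    ∃ N : Ideal (Polynomial A), N.IsMaximal ∧ I ≤ N ∧ Polynomial.X ∈ N := by
  classical
  by_cases htop : I ⊔ Ideal.span {(Polynomial.X : Polynomial A)} = ⊤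
  swap
  · obtain ⟨N, hN, hle⟩ := Ideal.exists_le_maximal _ htop
    exact ⟨N, hN, le_sup_left.trans hle, hle (Ideal.mem_sup_right (Ideal.mem_span_singleton_self _))⟩
  have h1 : (1 : Polynomial A) ∈ I ⊔ Ideal.span {(Polynomial.X : Polynomial A)} := htop ▸ Submodule.mem_top
  obtain ⟨i, hi, j, hj, hij⟩ := Submodule.mem_sup.mp h1
  obtain ⟨h, rfl⟩ := Ideal.mem_span_singleton.mp hj
  have hi0 : i.coeff 0 = 1 := by
    have := congrArg (fun r => Polynomial.coeff r 0) hij
    simpa using this
  by_cases hα0 : α = 0
  · exact ⟨M, hM, hIM, by simpa [hα0] using hα⟩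
  exfalso
  have := hM
  letI : Field (Polynomial A ⧸ M) := Ideal.Quotient.field M
  let π := Ideal.Quotient.mk M
  let θ : A →+* Polynomial A ⧸ M := π.comp Polynomial.C
  have hX : π Polynomial.X = θ (algebraMap k A α) := (Ideal.Quotient.mk_eq_mk_iff_sub_mem _ _).mpr hα
  have hroot : ∀ c : kˣ, (i.map θ).IsRoot (θ (algebraMap k A ((c : k) * α))) := by
    intro c
    have hmem : Polynomial.aeval (algebraMap k A (c : k) • (Polynomial.X : Polynomial A)) i ∈ M := by
      refine hM.isPrime.radical ▸ Ideal.radical_mono hIM ?_
      rw [← hI c]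
      exact Ideal.le_radical (Ideal.mem_map_of_mem _ hi)
    have h0 : π (Polynomial.aeval (algebraMap k A (c : k) • (Polynomial.X : Polynomial A)) i) = 0 :=
      Ideal.Quotient.eq_zero_iff_mem.mpr hmem
    rw [Polynomial.aeval_def, Polynomial.hom_eval₂, Polynomial.smul_eq_C_mul, map_mul π, hX] at h0
    rw [Polynomial.IsRoot.def, Polynomial.eval_map, map_mul, map_mul]
    exact h0
  have hinf : {x | (i.map θ).IsRoot x}.Infinite := by
    have hinj : Function.Injective (θ.comp (algebraMap k A)) := RingHom.injective _
    refine (((Set.finite_singleton (0 : k)).infinite_compl).image hinj.injOn).mono ?_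
    rintro _ ⟨d, hd, rfl⟩
    have := hroot (Units.mk0 (d / α) (div_ne_zero hd hα0))
    rwa [Units.val_mk0, div_mul_cancel₀ _ hα0] at this
  have hzero := congrArg (fun r => Polynomial.coeff r 0) (Polynomial.eq_zero_of_infinite_isRoot _ hinf)
  simp [hi0] at hzero

end Groth.Agent.S11235
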