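import Groth.Statements.S11238
import Mathlib.FieldTheory.RatFunc.Luroth
import Mathlib.FieldTheory.IntermediateField.Adjoin.Basic
import Mathlib.RingTheory.Localization.Away.Basic
import Mathlib.RingTheory.Localization.FractionRing
import Mathlib.Algebra.MvPolynomial.Funext
import Mathlib.RingTheory.Algebraic.Basic
import Mathlib.FieldTheory.IsAlgClosed.Basic
-- import your own Groth.Agent.* helpers here

set_option autoImplicit false
universe u
open AGF

namespace Groth.Agent.S11238

/-- Over an algebraically closed field k, a unirational variety of dimension one is rational. Field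
form: let K be a finitely generated field extension of k of transcendence degree one (K is algebraic
over k(x) for some x ∈ K transcendental over k) admitting a k-embedding into a purely transcendental
extension k(t_1, ..., t_n). Then K = k(t) for some t ∈ K transcendental over k. -/
theorem result (k : Type u) [Field k] [IsAlgClosed k]
    (K : Type u) [Field K] [Algebra k K] (hfg : (⊤ : IntermediateField k K).FG)
    (x : K) (hx : Transcendental k x) (halg : Algebra.IsAlgebraic ↥(IntermediateField.adjoin k {x}) K)
    (n : ℕ) (φ : K →ₐ[k] FractionRing (MvPolynomial (Fin n) k)) :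
    ∃ t : K, Transcendental k t ∧ IntermediateField.adjoin k {t} = ⊤ := by
  classical
  obtain ⟨s0, hs0⟩ := hfg
  set W := Algebra.adjoin k ((insert x s0 : Finset K) : Set K) with hW
  have hxW : x ∈ W := Algebra.subset_adjoin (Finset.mem_coe.2 (Finset.mem_insert_self x s0))
  -- numerators and denominators
  have hfrac : ∀ z : K, ∃ a b : MvPolynomial (Fin n) k, b ≠ 0 ∧
      φ z = algebraMap _ (FractionRing (MvPolynomial (Fin n) k)) a / algebraMap _ _ b := by
    intro z
    obtain ⟨a, b, hb, h⟩ := IsFractionRing.div_surjective (A := MvPolynomial (Fin n) k) (φ z)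
    exact ⟨a, b, nonZeroDivisors.ne_zero hb, h.symm⟩
  choose num den hden hφ using hfrac
  set D := ∏ z ∈ insert x s0, den z with hD
  have hD0 : D ≠ 0 := Finset.prod_ne_zero_iff.2 fun z _ => hden z
  -- two points
  obtain ⟨c, hc⟩ : ∃ c, MvPolynomial.eval c D ≠ 0 := by
    by_contra h
    push_neg at h
    exact hD0 (MvPolynomial.funext fun c => by rw [h c, map_zero])
  have hden' : ∀ c' : Fin n → k, MvPolynomial.eval c' D ≠ 0 → MvPolynomial.eval c' (den x) ≠ 0 := fun c' h h' =>
    h (by rw [hD, map_prod]; exact Finset.prod_eq_zero (Finset.mem_insert_self x s0) h')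
  obtain ⟨c', hc', hne⟩ : ∃ c', MvPolynomial.eval c' D ≠ 0 ∧
      MvPolynomial.eval c' (num x) * MvPolynomial.eval c (den x) ≠
        MvPolynomial.eval c (num x) * MvPolynomial.eval c' (den x) := by
    by_contra h
    push_neg at h
    set l := MvPolynomial.eval c (num x) / MvPolynomial.eval c (den x) with hl
    have h0 : (num x - MvPolynomial.C l * den x) * D = 0 := MvPolynomial.funext fun c' => by
      rw [map_zero, map_mul, map_sub, map_mul, MvPolynomial.eval_C]
      rcases eq_or_ne (MvPolynomial.eval c' D) 0 with h' | h'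
      · rw [h', mul_zero]
      · rw [hl, div_mul_eq_mul_div, ← h c' h', mul_div_cancel_right₀ _ (hden' c hc), sub_self, zero_mul]
    have h1 := sub_eq_zero.1 ((mul_eq_zero.1 h0).resolve_right hD0)
    refine hx ⟨Polynomial.X - Polynomial.C l, Polynomial.X_sub_C_ne_zero l, φ.injective ?_⟩
    show φ _ = φ 0
    rw [map_sub, Polynomial.aeval_X, Polynomial.aeval_C, map_sub, AlgHom.commutes, map_zero, hφ x, h1, map_mul,
      mul_div_cancel_right₀ _ (by simpa using hden x), ← MvPolynomial.algebraMap_eq,
      ← IsScalarTower.algebraMap_apply, sub_self]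
  -- the line through the two points
  let line : MvPolynomial (Fin n) k →ₐ[k] Polynomial k :=
    MvPolynomial.aeval fun i => Polynomial.C (c i) + Polynomial.C (c' i - c i) * Polynomial.X
  have hev : ∀ (t : k) g, (line g).eval t = MvPolynomial.eval (fun i => c i + (c' i - c i) * t) g := by
    intro t g
    induction g using MvPolynomial.induction_on with
    | C a => simp [line]
    | add p q hp hq => simp [hp, hq]
    | mul_X p i hp =>
      simp only [map_mul, Polynomial.eval_mul, hp]
      simp [line]
  have hev0 : ∀ g, (line g).eval 0 = MvPolynomial.eval c g := fun g => by simpa using hev 0 g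
  have hev1 : ∀ g, (line g).eval 1 = MvPolynomial.eval c' g := fun g => by simpa using hev 1 g
  let ψ : MvPolynomial (Fin n) k →ₐ[k] RatFunc k := (IsScalarTower.toAlgHom k (Polynomial k) (RatFunc k)).comp line
  have hψD : IsUnit (ψ D) := isUnit_iff_ne_zero.2 fun h => hc (by
    have : line D = 0 := IsFractionRing.injective (Polynomial k) (RatFunc k) (by rw [map_zero]; exact h)
    rw [← hev0, this, Polynomial.eval_zero])
  let L := Localization.Away D
  let ψ' : L →+* RatFunc k := IsLocalization.Away.lift D (g := ψ.toRingHom) hψD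
  have hDF : IsUnit ((algebraMap (MvPolynomial (Fin n) k) (FractionRing (MvPolynomial (Fin n) k))) D) :=
    isUnit_iff_ne_zero.2 (by simpa using hD0)
  let ι : L →+* FractionRing (MvPolynomial (Fin n) k) := IsLocalization.Away.lift D hDF
  have hι : Function.Injective ι := by
    rw [injective_iff_map_eq_zero]
    intro z hz
    obtain ⟨a, ⟨b, hb⟩, rfl⟩ := IsLocalization.exists_mk'_eq (Submonoid.powers D) z
    simp only [ι, IsLocalization.Away.lift] at hz
    rw [IsLocalization.lift_mk'_spec, mul_zero, map_eq_zero_iff _ (IsFractionRing.injective _ _)] at hz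
    rw [hz, IsLocalization.mk'_zero]
  have hιk : ∀ r : k, ι (algebraMap k L r) = algebraMap k _ r := fun r => by
    rw [IsScalarTower.algebraMap_apply k (MvPolynomial (Fin n) k) L, IsLocalization.Away.lift_eq,
      ← IsScalarTower.algebraMap_apply]
  have hψk : ∀ r : k, ψ' (algebraMap k L r) = algebraMap k _ r := fun r => by
    rw [IsScalarTower.algebraMap_apply k (MvPolynomial (Fin n) k) L, IsLocalization.Away.lift_eq]
    exact ψ.commutes r
  let ιA : L →ₐ[k] FractionRing (MvPolynomial (Fin n) k) := { ι with commutes' := hιk }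
  let ψA : L →ₐ[k] RatFunc k := { ψ' with commutes' := hψk }
  have hrange : ∀ w ∈ W, φ w ∈ ιA.range := by
    intro w hw
    have : W ≤ ιA.range.comap φ := by
      refine Algebra.adjoin_le fun z hz => ?_
      obtain ⟨e, he⟩ : den z ∣ D := Finset.dvd_prod_of_mem _ (Finset.mem_coe.1 hz)
      refine ⟨IsLocalization.mk' L (num z * e) (⟨D, Submonoid.mem_powers D⟩ : Submonoid.powers D), ?_⟩
      change ι _ = φ z
      simp only [ι, IsLocalization.Away.lift]
      rw [IsLocalization.lift_mk'_spec, hφ z, map_mul]
      change _ = algebraMap _ _ D * _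
      rw [he, map_mul]
      have hd : algebraMap (MvPolynomial (Fin n) k) (FractionRing (MvPolynomial (Fin n) k)) (den z) ≠ 0 := by
        simpa using hden z
      field_simp
    exact this hw
  let θ : W →ₐ[k] RatFunc k := (ψA.comp (AlgEquiv.ofInjective ιA hι).symm.toAlgHom).comp
    ((φ.comp W.val).codRestrict ιA.range fun w => hrange w w.2)
  have hθ : ∀ (w : W) (z : L), ιA z = φ w → θ w = ψA z := by
    intro w z hz
    change ψA ((AlgEquiv.ofInjective ιA hι).symm _) = ψA z
    congr 1
    rw [AlgEquiv.symm_apply_eq]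
    exact Subtype.ext hz.symm
  have hθx : Transcendental k (θ ⟨x, hxW⟩) := by
    intro halg'
    obtain ⟨e, he⟩ : den x ∣ D := Finset.dvd_prod_of_mem _ (Finset.mem_insert_self x s0)
    have h1 : ιA (IsLocalization.mk' L (num x * e) (⟨D, Submonoid.mem_powers D⟩ : Submonoid.powers D)) = φ x := by
      change ι _ = φ x
      simp only [ι, IsLocalization.Away.lift]
      rw [IsLocalization.lift_mk'_spec, hφ x, map_mul]
      change _ = algebraMap _ _ D * _
      rw [he, map_mul]
      have hd : algebraMap (MvPolynomial (Fin n) k) (FractionRing (MvPolynomial (Fin n) k)) (den x) ≠ 0 := by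
        simpa using hden x
      field_simp
    have h2 := hθ ⟨x, hxW⟩ _ h1
    obtain ⟨r, hr⟩ : θ ⟨x, hxW⟩ ∈ (algebraMap k (RatFunc k)).range := by
      obtain ⟨p, hp0, hp⟩ := halg'
      have hspl := IsAlgClosed.splits p
      obtain ⟨r, _, hr⟩ : ∃ r, r ∈ p.roots ∧ θ ⟨x, hxW⟩ = algebraMap k (RatFunc k) r := by
        have h3 := hp
        rw [hspl.eq_prod_roots, map_mul, Polynomial.aeval_C, map_multiset_prod, Multiset.map_map] at h3
        rcases mul_eq_zero.1 h3 with h3 | h3
        · exact absurd h3 (by simpa using hp0)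
        · rw [Multiset.prod_eq_zero_iff, Multiset.mem_map] at h3
          obtain ⟨r, hr, hr'⟩ := h3
          exact ⟨r, hr, sub_eq_zero.1 (by simpa using hr')⟩
      exact ⟨r, hr.symm⟩
    apply hne
    have h4 : ψ' (IsLocalization.mk' L (num x * e) (⟨D, Submonoid.mem_powers D⟩ : Submonoid.powers D)) =
        algebraMap k _ r := (hr.trans h2).symm
    simp only [ψ', IsLocalization.Away.lift] at h4
    rw [IsLocalization.lift_mk'_spec] at h4
    have h5 : line (num x * e) = line D * Polynomial.C r := by
      apply IsFractionRing.injective (Polynomial k) (RatFunc k)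
      rw [map_mul (algebraMap (Polynomial k) (RatFunc k)), ← Polynomial.algebraMap_eq, ← IsScalarTower.algebraMap_apply]
      exact h4
    have e0 := congrArg (Polynomial.eval 0) h5
    have e1 := congrArg (Polynomial.eval 1) h5
    simp only [Polynomial.eval_mul, Polynomial.eval_C, hev0, hev1, he, map_mul] at e0 e1 hc hc'
    obtain ⟨hd0, he0⟩ := mul_ne_zero_iff.1 hc
    obtain ⟨hd1, he1⟩ := mul_ne_zero_iff.1 hc'
    have f0 : MvPolynomial.eval c (num x) = MvPolynomial.eval c (den x) * r :=
      mul_right_cancel₀ he0 (e0.trans (by ring))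
    have f1 : MvPolynomial.eval c' (num x) = MvPolynomial.eval c' (den x) * r :=
      mul_right_cancel₀ he1 (e1.trans (by ring))
    rw [f0, f1]
    ring
  have hinj : Function.Injective θ := by
    rw [injective_iff_map_eq_zero]
    intro w hw
    by_contra hw0
    have hw0' : (w : K) ≠ 0 := fun h => hw0 (Subtype.ext h)
    have key : ∀ z ∈ Algebra.adjoin ↥(IntermediateField.adjoin k {x}) {(w : K)},
        ∃ q : Polynomial k, q ≠ 0 ∧ Polynomial.aeval x q * z ∈ W := by
      intro z hz
      induction hz using Algebra.adjoin_induction with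
      | mem z hz => exact ⟨1, one_ne_zero, by rw [Set.mem_singleton_iff.1 hz, map_one, one_mul]; exact w.2⟩
      | algebraMap a =>
        obtain ⟨r, q, hrq⟩ := (IntermediateField.mem_adjoin_simple_iff k _).1 a.2
        rcases eq_or_ne q 0 with h | h
        · refine ⟨1, one_ne_zero, ?_⟩
          rw [show algebraMap _ K a = (a : K) from rfl, hrq, h, map_zero, div_zero, mul_zero]
          exact zero_mem W
        · refine ⟨q, h, ?_⟩
          rw [show algebraMap _ K a = (a : K) from rfl, hrq,
            mul_div_cancel₀ _ (fun h' => hx ⟨q, h, h'⟩)]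
          exact Algebra.adjoin_le (Set.singleton_subset_iff.2 hxW) (Polynomial.aeval_mem_adjoin_singleton k x)
      | add a b _ _ ha hb =>
        obtain ⟨qa, hqa, ha⟩ := ha
        obtain ⟨qb, hqb, hb⟩ := hb
        refine ⟨qa * qb, mul_ne_zero hqa hqb, ?_⟩
        have hx' : ∀ q : Polynomial k, Polynomial.aeval x q ∈ W := fun q =>
          Algebra.adjoin_le (Set.singleton_subset_iff.2 hxW) (Polynomial.aeval_mem_adjoin_singleton k x)
        rw [show Polynomial.aeval x (qa * qb) * (a + b) = Polynomial.aeval x qb * (Polynomial.aeval x qa * a) +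
          Polynomial.aeval x qa * (Polynomial.aeval x qb * b) by rw [map_mul]; ring]
        exact add_mem (mul_mem (hx' qb) ha) (mul_mem (hx' qa) hb)
      | mul a b _ _ ha hb =>
        obtain ⟨qa, hqa, ha⟩ := ha
        obtain ⟨qb, hqb, hb⟩ := hb
        refine ⟨qa * qb, mul_ne_zero hqa hqb, ?_⟩
        rw [show Polynomial.aeval x (qa * qb) * (a * b) = (Polynomial.aeval x qa * a) * (Polynomial.aeval x qb * b)
          by rw [map_mul]; ring]
        exact mul_mem ha hb
    have halgw : IsAlgebraic ↥(IntermediateField.adjoin k {x}) (w : K) := halg.isAlgebraic _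
    have hinv : (w : K)⁻¹ ∈ Algebra.adjoin ↥(IntermediateField.adjoin k {x}) {(w : K)} := by
      rw [← IntermediateField.adjoin_simple_toSubalgebra_of_isAlgebraic halgw]
      exact (IntermediateField.mem_toSubalgebra _ _).2 (inv_mem (IntermediateField.mem_adjoin_simple_self _ (w : K)))
    obtain ⟨q, hq, hqW⟩ := key _ hinv
    refine hθx ⟨q, hq, ?_⟩
    have : Polynomial.aeval (⟨x, hxW⟩ : W) q = w * ⟨_, hqW⟩ := Subtype.ext (by
      refine (Polynomial.aeval_algHom_apply W.val (⟨x, hxW⟩ : W) q).symm.trans ?_
      change Polynomial.aeval x q = (w : K) * (Polynomial.aeval x q * (w : K)⁻¹)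
      field_simp)
    rw [Polynomial.aeval_algHom_apply, this, map_mul, hw, zero_mul]
  haveI : IsFractionRing W K := IsFractionRing.of_field W K fun z => by
    have hz : z ∈ IntermediateField.adjoin k ((insert x s0 : Finset K) : Set K) := by
      refine IntermediateField.adjoin.mono k _ _ (fun a ha => Finset.mem_coe.2 (Finset.mem_insert_of_mem (Finset.mem_coe.1 ha))) ?_
      rw [hs0]; exact IntermediateField.mem_top
    obtain ⟨r, hr, q, hq, e⟩ := IntermediateField.mem_adjoin_iff_div.1 hz
    exact ⟨⟨r, hr⟩, ⟨q, hq⟩, e⟩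
  let Φ : K →ₐ[k] RatFunc k := IsFractionRing.liftAlgHom hinj
  have hE : Φ.fieldRange ≠ ⊥ := by
    intro h
    have hmem : Φ x ∈ Φ.fieldRange := ⟨x, rfl⟩
    rw [h, IntermediateField.mem_bot] at hmem
    obtain ⟨r, hr⟩ := hmem
    have : Φ x = θ ⟨x, hxW⟩ := IsFractionRing.lift_algebraMap hinj ⟨x, hxW⟩
    rw [this] at hr
    exact hθx (hr ▸ isAlgebraic_algebraMap r)
  obtain ⟨t, ht⟩ := RatFunc.Luroth.generator_mem (E := Φ.fieldRange)
  have ht' : Φ t = RatFunc.Luroth.generator Φ.fieldRange := ht
  refine ⟨t, fun h => ?_, IntermediateField.map_injective Φ ?_⟩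
  · exact RatFunc.Luroth.transcendental_generator hE (ht' ▸ h.algHom Φ)
  · rw [IntermediateField.adjoin_map, Set.image_singleton, ht', ← AlgHom.fieldRange_eq_map]
    exact RatFunc.Luroth.eq_adjoin_generator.symm

end Groth.Agent.S11238
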