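import Mathlib
import Groth.Statements.S11239
-- import your own Groth.Agent.* helpers here

set_option autoImplicit false
universe u
open AGF

namespace Groth.Agent.S11239

/-- Let X be an m × n matrix over a commutative ring, u an upper triangular n × n matrix with ones on
the diagonal, t a diagonal n × n matrix and p ≤ n. For any choice of p rows, the minor of X·t·u
formed with these rows and the first p columns equals (t_11 ⋯ t_pp) times the corresponding minor of
X: the minors on the first p columns are semi-invariant of weight ω_p under right multiplication by
the upper triangular group. (The published statement is for the generic matrix over an algebraically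
closed field; this row states the identity over any commutative ring.) -/
theorem result (R : Type u) [CommRing R] (m n p : ℕ) (hp : p ≤ n)
    (X : Matrix (Fin m) (Fin n) R) (d : Fin n → R) (u : Matrix (Fin n) (Fin n) R)
    (hu1 : ∀ i, u i i = 1) (hu0 : ∀ i j, j < i → u i j = 0) (I : Fin p → Fin m) :
    ((X * Matrix.diagonal d * u).submatrix I (Fin.castLE hp)).det =
      (∏ i : Fin p, d (Fin.castLE hp i)) * (X.submatrix I (Fin.castLE hp)).det := by
  classical
  let T := Matrix.diagonal d * u
  have hT : ∀ i j, j < i → T i j = 0 := fun i j h => by simp [T, Matrix.diagonal_mul, hu0 i j h]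
  have h : (X * Matrix.diagonal d * u).submatrix I (Fin.castLE hp) =
      X.submatrix I (Fin.castLE hp) * T.submatrix (Fin.castLE hp) (Fin.castLE hp) := by
    rw [Matrix.mul_assoc]
    ext i j
    simp only [Matrix.submatrix_apply]
    rw [Matrix.mul_apply, Matrix.mul_apply]
    simp only [Matrix.submatrix_apply]
    symm
    refine Finset.sum_of_injOn (Fin.castLE hp) (Fin.castLE_injective hp).injOn (by simp) (fun l _ hl => ?_) (fun _ _ => rfl)
    rw [show (Matrix.diagonal d * u) l (Fin.castLE hp j) = 0 from hT _ _ ?_, mul_zero]
    by_contra hle
    exact hl ⟨⟨l, lt_of_le_of_lt (not_lt.mp hle) j.2⟩, by simp, rfl⟩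
  rw [h, Matrix.det_mul, Matrix.det_of_upperTriangular (M := T.submatrix (Fin.castLE hp) (Fin.castLE hp))
    (fun i j hij => hT _ _ hij), mul_comm]
  simp [T, Matrix.diagonal_mul, hu1]

end Groth.Agent.S11239
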