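import Groth.Statements.S11240
import Mathlib
-- import your own Groth.Agent.* helpers here

set_option autoImplicit false
universe u
open AGF

namespace Groth.Agent.S11240

/-- For a single root subgroup: let k be an algebraically closed field and X = (x_ab) the generic n × m
matrix over the polynomial ring k[x_ab]. Let i ≠ j be row indices and let I (rows) and J (columns)
be strictly increasing sequences of length p. The minor of X with rows I and columns J is invariant
under replacing X by (1 + b·E_ij)·X for every b ∈ k (the one-parameter unipotent group adding b
times row j to row i) if and only if j occurs in I whenever i does. (The published statement gives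
the criterion for the group generated by several such root subgroups, which is the conjunction of
these.) -/
theorem result (k : Type u) [Field k] [IsAlgClosed k] (n m p : ℕ)
    (i j : Fin n) (hij : i ≠ j) (I : Fin p ↪o Fin n) (J : Fin p ↪o Fin m) :
    (∀ b : k, ((Matrix.transvection i j (MvPolynomial.C b) *
        (Matrix.of fun a c => (MvPolynomial.X (a, c) : MvPolynomial (Fin n × Fin m) k))).submatrix I J).det =
        ((Matrix.of fun a c => (MvPolynomial.X (a, c) : MvPolynomial (Fin n × Fin m) k)).submatrix I J).det) ↔
      (i ∈ Set.range I → j ∈ Set.range I) := by
  classical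
  set X : Matrix (Fin n) (Fin m) (MvPolynomial (Fin n × Fin m) k) := Matrix.of fun a c => MvPolynomial.X (a, c) with hX
  have hrows : ∀ (b : k) (s : Fin p), I s ≠ i → ((Matrix.transvection i j (MvPolynomial.C b) * X).submatrix I J) s = (X.submatrix I J) s := fun b s hs => by
    funext c
    simp only [Matrix.submatrix_apply]
    exact Matrix.transvection_mul_apply_of_ne _ _ _ _ hs _ _
  by_cases hi : i ∈ Set.range I
  · obtain ⟨t, ht⟩ := hi
    let Y : Fin p → MvPolynomial (Fin n × Fin m) k := fun c => X j (J c)
    have hdet : ∀ b : k, ((Matrix.transvection i j (MvPolynomial.C b) * X).submatrix I J).det =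
        (X.submatrix I J).det + MvPolynomial.C b * ((X.submatrix I J).updateRow t Y).det := by
      intro b
      have h1 : (Matrix.transvection i j (MvPolynomial.C b) * X).submatrix I J =
          (X.submatrix I J).updateRow t ((X.submatrix I J) t + (MvPolynomial.C b : MvPolynomial (Fin n × Fin m) k) • Y) := by
        refine Matrix.ext fun s c => ?_
        rcases eq_or_ne s t with rfl | hs
        · rw [Matrix.updateRow_self]
          show (Matrix.transvection i j (MvPolynomial.C b) * X : Matrix (Fin n) (Fin m) (MvPolynomial (Fin n × Fin m) k)) (I s) (J c) = X (I s) (J c) + MvPolynomial.C b * X j (J c)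
          rw [ht]
          exact Matrix.transvection_mul_apply_same i j (J c) (MvPolynomial.C b) X
        · rw [Matrix.updateRow_ne hs, hrows b s (fun e => hs (I.injective (e.trans ht.symm)))]
      rw [h1, Matrix.det_updateRow_add, Matrix.det_updateRow_smul, Matrix.updateRow_eq_self]
    constructor
    · intro h _
      by_contra hj
      have h1 := h 1
      rw [hdet, map_one, one_mul, add_eq_left] at h1
      let σ : Fin p → Fin n := fun s => if s = t then j else I s
      have hσ : Function.Injective σ := by
        intro a b hab
        simp only [σ] at hab
        split_ifs at hab with ha hb hb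
        · exact ha.trans hb.symm
        · exact absurd ⟨b, hab.symm⟩ hj
        · exact absurd ⟨a, hab⟩ hj
        · exact I.injective hab
      let e : Fin n × Fin m → k := fun ac => if ∃ s, σ s = ac.1 ∧ J s = ac.2 then 1 else 0
      have h2 := congrArg (MvPolynomial.eval e) h1
      rw [RingHom.map_det, map_zero] at h2
      have h3 : (MvPolynomial.eval e).mapMatrix ((X.submatrix I J).updateRow t Y) = 1 := by
        refine Matrix.ext fun s c => ?_
        have he : (MvPolynomial.eval e) (((X.submatrix I J).updateRow t Y) s c) = e (σ s, J c) := by
          rcases eq_or_ne s t with rfl | hs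
          · simp [Matrix.updateRow_self, Y, hX, σ]
          · simp [Matrix.updateRow_ne hs, hX, σ, if_neg hs]
        rw [RingHom.mapMatrix_apply, Matrix.map_apply, he, Matrix.one_apply]
        simp only [e]
        by_cases hsc : s = c
        · subst hsc
          rw [if_pos ⟨s, rfl, rfl⟩, if_pos rfl]
        · rw [if_neg hsc, if_neg]
          rintro ⟨u, hu1, hu2⟩
          exact hsc ((hσ hu1).symm.trans (J.injective hu2))
      rw [h3, Matrix.det_one] at h2
      exact one_ne_zero h2
    · intro hj b
      obtain ⟨s, hs⟩ := hj ⟨t, ht⟩
      rw [hdet, add_eq_left]
      refine mul_eq_zero_of_right _ (Matrix.det_zero_of_row_eq (show t ≠ s from fun e => hij (by rw [← ht, ← hs, e])) ?_)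
      rw [Matrix.updateRow_self, Matrix.updateRow_ne (fun e => hij (by rw [← ht, ← hs, e]))]
      funext c
      simp [Y, hs]
  · refine ⟨fun _ h => absurd h hi, fun _ b => congrArg Matrix.det (funext fun s => ?_)⟩
    exact hrows b s fun e => hi ⟨s, e⟩

end Groth.Agent.S11240
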