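import Groth.Statements.S16130
import Groth.Agent.HomogSep.Qs
import Groth.Agent.GrpSchField.Orbit
import Groth.Agent.FibreDim.Topo
import Groth.Agent.FibDim.Scheme
import Groth.Agent.FibreDimVar.Basic
-- import your own Groth.Agent.* helpers here

set_option autoImplicit false
set_option linter.style.haveILetI false
set_option backward.isDefEq.respectTransparency false
universe u
open CategoryTheory MonoidalCategory CartesianMonoidalCategory MonObj GrpObj AlgebraicGeometry CategoryTheory.Limits
open AlgGrp
open Groth.Agent.GrpSchField Groth.Agent.HomogSep TopologicalSpace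

namespace Groth.Agent.S16130

theorem exists_nat_of_le {d : WithBot ℕ∞} {M : ℕ} (h0 : 0 ≤ d) (h : d ≤ (M : WithBot ℕ∞)) : ∃ n : ℕ, d = n := by
  induction d using WithBot.recBotCoe with
  | bot => simp at h0
  | coe a =>
    have : a ≤ (M : ℕ∞) := WithBot.coe_le_coe.mp h
    obtain ⟨n, hn⟩ := ENat.ne_top_iff_exists.mp (ne_top_of_le_ne_top (ENat.coe_ne_top M) this)
    exact ⟨n, by rw [← hn]; rfl⟩

theorem dim_nonneg {T : Type*} [TopologicalSpace T] (h : Nonempty T) : 0 ≤ topologicalKrullDim T := by
  obtain ⟨t⟩ := h
  haveI : Nonempty (IrreducibleCloseds T) := ⟨⟨closure {t}, isIrreducible_singleton.closure, isClosed_closure⟩⟩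
  exact Order.krullDim_nonneg

theorem closure_inter_closedPoints' {T : Type*} [TopologicalSpace T] [JacobsonSpace T] {R : Set T} (hR : IsLocallyClosed R) :
    closure (R ∩ closedPoints T) = closure R := by
  refine (closure_mono Set.inter_subset_left).antisymm (closure_minimal ?_ isClosed_closure)
  intro z hz
  by_contra hc
  obtain ⟨c, ⟨hc1, hc2⟩, hcc⟩ := nonempty_inter_closedPoints (Z := R ∩ (closure (R ∩ closedPoints T))ᶜ) ⟨z, hz, hc⟩
    (hR.inter isClosed_closure.isOpen_compl.isLocallyClosed)
  exact hc2 (subset_closure ⟨hc1, hcc⟩)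

theorem range_eq_pt {k : Type u} [Field k] {A : Over (Spec (CommRingCat.of k))}
    (s : 𝟙_ (Over (Spec (CommRingCat.of k))) ⟶ A) : Set.range s.left = {s.left (IsLocalRing.closedPoint k)} := by
  refine Set.Subset.antisymm ?_ (Set.singleton_subset_iff.mpr ⟨_, rfl⟩)
  rintro _ ⟨q, rfl⟩
  exact congrArg (fun z => s.left z) (Subsingleton.elim (α := Spec (CommRingCat.of k)) q _)

theorem isClosed_pt {k : Type u} [Field k] {A : Over (Spec (CommRingCat.of k))} [IsSeparated A.hom]
    (s : 𝟙_ (Over (Spec (CommRingCat.of k))) ⟶ A) : s.left (IsLocalRing.closedPoint k) ∈ closedPoints A.left := by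
  haveI : IsClosedImmersion (s.left ≫ A.hom) := by rw [Over.w s]; exact (inferInstance : IsClosedImmersion (𝟙 (Spec (CommRingCat.of k))))
  haveI : IsClosedImmersion s.left := MorphismProperty.of_postcomp @IsClosedImmersion s.left A.hom (inferInstance : IsSeparated A.hom) inferInstance
  rw [mem_closedPoints_iff, ← range_eq_pt s]
  exact s.left.isClosedEmbedding.isClosed_range

/-- Over an algebraically closed field k, let G be an algebraic group (a smooth k-group scheme of finite
type, not necessarily connected) acting on a variety X (a reduced separated k-scheme of finite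
type), and let x be a k-point of X with orbit map α_x : G → X. Then dim G = dim(G · x) + dim(G_x),
where G · x is the image of α_x with its subspace topology and G_x is the stabilizer, the fibre of
α_x over x; all dimensions are Krull dimensions of topological spaces. (The published statement also
asserts that the irreducible components of G · x are precisely the G⁰-orbits it contains, all of
that dimension; that clause is not stated here.) -/
theorem result (k : Type u) [Field k] [IsAlgClosed k]
    (G X : Over (Spec (CommRingCat.of k))) [GrpObj G] [Smooth G.hom] [QuasiCompact G.hom]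
    [IsReduced X.left] [IsSeparated X.hom] [LocallyOfFiniteType X.hom] [QuasiCompact X.hom]
    (a : AlgGrp.Action G X) (x : 𝟙_ (Over (Spec (CommRingCat.of k))) ⟶ X) :
    topologicalKrullDim ↥G.left =
      topologicalKrullDim ↥(Set.range (a.orbitMap x).left.base) +
        topologicalKrullDim ↥(Limits.pullback (a.orbitMap x).left x.left) := by
  haveI : JacobsonSpace X.left := LocallyOfFiniteType.jacobsonSpace X.hom
  haveI : JacobsonSpace G.left := LocallyOfFiniteType.jacobsonSpace G.hom
  haveI : IsLocallyNoetherian G.left := LocallyOfFiniteType.isLocallyNoetherian G.hom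
  haveI : CompactSpace G.left := QuasiCompact.compactSpace_of_compactSpace G.hom
  haveI : IsNoetherian G.left := {}
  let o := (a.orbitMap x).left
  haveI : LocallyOfFiniteType (o ≫ X.hom) := by rw [Over.w (a.orbitMap x)]; infer_instance
  haveI : LocallyOfFiniteType o := locallyOfFiniteType_of_comp o X.hom
  let R : Set X.left := Set.range o
  have hR : IsLocallyClosed R := isLocallyClosed_range_orbitMap a x
  let W : X.left.Opens := ⟨coborder R, hR.isOpen_coborder⟩
  have hWR : coborder R ∩ closure R = R := coborder_inter_closure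
  show topologicalKrullDim G.left = topologicalKrullDim R + topologicalKrullDim ↥(Limits.pullback o x.left)
  -- the stabiliser as a set
  let p : X.left := pt₀ x
  let F : Set G.left := o ⁻¹' {p}
  haveI : IsClosedImmersion (x.left ≫ X.hom) := by rw [Over.w x]; exact (inferInstance : IsClosedImmersion (𝟙 (Spec (CommRingCat.of k))))
  haveI : IsClosedImmersion x.left := MorphismProperty.of_postcomp @IsClosedImmersion x.left X.hom (inferInstance : IsSeparated X.hom) inferInstance
  have hrx : Set.range x.left = {p} := range_eq_pt x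
  have hst : topologicalKrullDim ↥(Limits.pullback o x.left) = topologicalKrullDim F := by
    rw [← FibreDim.dim_homeo (Homeomorph.Set.univ _),
      ← FibreDim.dim_image (Limits.pullback.fst o x.left).isClosedEmbedding.isEmbedding Set.univ,
      Set.image_univ, Scheme.Pullback.range_fst, hrx]
  rw [hst]
  have hpe : o (e G) = p := by
    rw [← one_pt (G := G)]
    show (a.orbitMap x).left _ = _
    rw [← comp_left_apply]
    congr 2
    rw [AlgGrp.Action.orbitMap, ← Category.assoc, comp_lift, Category.comp_id, ← Category.assoc,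
      toUnit_unique ((1 : 𝟙_ _ ⟶ G) ≫ toUnit G) (𝟙 _), Category.id_comp, lift_act_one]
  have hp : IsClosed ({p} : Set X.left) := hrx ▸ x.left.isClosedEmbedding.isClosed_range
  have hFc : IsClosed F := hp.preimage o.continuous
  -- finiteness
  have hGn : ∀ g : G.left, ∃ n : ℕ, topologicalKrullDim (closure ({g} : Set G.left)) = (n : WithBot ℕ∞) := fun g => by
    obtain ⟨n, -, hn⟩ := DimTrdeg.exists_dim_closure_eq_trdeg G.hom g
    exact ⟨n, hn⟩
  have hXn : ∀ q : X.left, ∃ n : ℕ, topologicalKrullDim (closure ({q} : Set X.left)) = (n : WithBot ℕ∞) := fun q => by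
    obtain ⟨n, -, hn⟩ := DimTrdeg.exists_dim_closure_eq_trdeg X.hom q
    exact ⟨n, hn⟩
  choose nG hnG using hGn
  choose n hn using hXn
  have hgen : ∀ C : irreducibleComponents G.left, ∃ ξ, IsGenericPoint ξ C.1 := fun C =>
    QuasiSober.sober C.2.1 (isClosed_of_mem_irreducibleComponents C.1 C.2)
  choose ξ hξ using hgen
  haveI : Fintype (irreducibleComponents G.left) := (NoetherianSpace.finite_irreducibleComponents (α := G.left)).fintype
  haveI : Nonempty (irreducibleComponents G.left) :=
    ⟨⟨_, irreducibleComponent_mem_irreducibleComponents (e G)⟩⟩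
  obtain ⟨C₁, -, hC₁⟩ := Finset.exists_max_image Finset.univ (fun C : irreducibleComponents G.left => nG (ξ C)) Finset.univ_nonempty
  obtain ⟨C₀, -, hC₀⟩ := Finset.exists_max_image Finset.univ (fun C : irreducibleComponents G.left => n (o (ξ C))) Finset.univ_nonempty
  let N := n (o (ξ C₀))
  have hspec : ∀ g : G.left, ∃ C, ξ C ⤳ g := fun g =>
    ⟨⟨_, irreducibleComponent_mem_irreducibleComponents g⟩, (hξ _).specializes mem_irreducibleComponent⟩
  have hGle : topologicalKrullDim G.left ≤ (nG (ξ C₁) : WithBot ℕ∞) := by
    refine FibreDim.dim_le_of_points fun g => ?_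
    obtain ⟨C, hC⟩ := hspec g
    refine (FibreDim.dim_mono (closure_minimal (Set.singleton_subset_iff.mpr (specializes_iff_mem_closure.mp hC)) isClosed_closure)).trans ?_
    rw [hnG]; exact_mod_cast hC₁ C (Finset.mem_univ _)
  obtain ⟨d, hd⟩ := exists_nat_of_le (dim_nonneg ⟨e G⟩) hGle
  have hFle : topologicalKrullDim F ≤ (d : WithBot ℕ∞) := hd ▸ Topology.IsEmbedding.subtypeVal.isInducing.topologicalKrullDim_le
  obtain ⟨s, hs⟩ := exists_nat_of_le (dim_nonneg ⟨⟨e G, hpe⟩⟩) hFle
  have hNR : (N : WithBot ℕ∞) ≤ topologicalKrullDim R := by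
    let r : W.toScheme := ⟨o (ξ C₀), subset_coborder ⟨_, rfl⟩⟩
    rw [← hn, show o (ξ C₀) = W.ι r from rfl, FibDim.dim_closure_openImmersion W.ι X.hom r,
      ← FibreDim.dim_image W.ι.isOpenEmbedding.isEmbedding]
    refine FibreDim.dim_mono ?_
    rintro _ ⟨w, hw, rfl⟩
    refine hWR.le ⟨w.2, closure_mono (Set.singleton_subset_iff.mpr ⟨ξ C₀, rfl⟩ :
      ({W.ι r} : Set X.left) ⊆ R) ?_⟩
    exact specializes_iff_mem_closure.mp ((specializes_iff_mem_closure.mpr hw).map W.ι.continuous)
  have hcl : topologicalKrullDim (closure R) ≤ (N : WithBot ℕ∞) := by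
    haveI : QuasiSober (closure R) := isClosed_closure.isClosedEmbedding_subtypeVal.quasiSober
    refine FibreDim.dim_le_of_points fun t => ?_
    rw [← FibreDim.dim_image Topology.IsEmbedding.subtypeVal]
    refine le_trans (FibreDim.dim_mono (image_closure_subset_closure_image continuous_subtype_val)) ?_
    rw [Set.image_singleton]
    have hcov : closure R ⊆ ⋃ C : irreducibleComponents G.left, closure {o (ξ C)} := by
      refine closure_minimal ?_ (isClosed_iUnion_of_finite fun _ => isClosed_closure)
      rintro _ ⟨g, rfl⟩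
      obtain ⟨C, hC⟩ := hspec g
      exact Set.mem_iUnion.mpr ⟨C, specializes_iff_mem_closure.mp (hC.map o.continuous)⟩
    obtain ⟨C, hC⟩ := Set.mem_iUnion.mp (hcov t.2)
    refine (FibreDim.dim_mono (closure_minimal (Set.singleton_subset_iff.mpr hC) isClosed_closure)).trans ?_
    rw [hn]; exact_mod_cast hC₀ C (Finset.mem_univ _)
  have hRN : topologicalKrullDim R = (N : WithBot ℕ∞) :=
    le_antisymm ((FibreDim.dim_mono subset_closure).trans hcl) hNR
  have hclN : topologicalKrullDim (closure R) = (N : WithBot ℕ∞) :=
    le_antisymm hcl (hNR.trans (FibreDim.dim_mono subset_closure))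
  -- fibres over closed points
  have hfib : ∀ q ∈ closedPoints X.left, q ∈ R → topologicalKrullDim (o.fiber q) = (s : WithBot ℕ∞) := by
    intro q hq ⟨g, hg⟩
    rw [FibreDim.dim_homeo (o.fiberHomeo q)]
    obtain ⟨c, hc, hcc⟩ := nonempty_inter_closedPoints (Z := o ⁻¹' {q}) ⟨g, hg⟩
      ((hq : IsClosed ({q} : Set X.left)).preimage o.continuous).isLocallyClosed
    obtain ⟨cs, rfl⟩ := exists_section_of_closed (A := G) hcc
    let τ := translG (G := G) cs
    have hτe : τ.hom.left (e G) = pt₀ cs := by
      rw [← one_pt (G := G)]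
      show τ.hom.left ((1 : 𝟙_ _ ⟶ G).left _) = _
      rw [← comp_left_apply, translG_left, _root_.mul_one]
    have ht : (translX a cs).hom.left p = q := by
      rw [← hpe]
      show (translX a cs).hom.left ((a.orbitMap x).left (e G)) = q
      rw [translX_orbit]
      show o (τ.hom.left (e G)) = q
      rw [hτe]; exact hc
    have him : τ.hom.left '' F = o ⁻¹' {q} := by
      ext z
      constructor
      · rintro ⟨w, hw, rfl⟩
        show (a.orbitMap x).left ((translG cs).hom.left w) = q
        rw [← translX_orbit a cs x w, show (a.orbitMap x).left w = p from hw, ht]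
      · intro hz
        refine ⟨τ.inv.left z, ?_, left_hom_inv τ z⟩
        have := translX_orbit a cs x (τ.inv.left z)
        rw [show (translG cs).hom.left (τ.inv.left z) = z from left_hom_inv τ z,
          show (a.orbitMap x).left z = q from hz, ← ht] at this
        show o (τ.inv.left z) = p
        rw [← left_inv_hom (translX a cs) (o (τ.inv.left z)), this, left_inv_hom]
    haveI : IsIso τ.hom.left := inferInstanceAs (IsIso ((Over.forget _).map τ.hom))
    rw [← him, FibreDim.dim_image τ.hom.left.isOpenEmbedding.isEmbedding, hs]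
  let B : ℕ → Set X.left := fun j => {y | (j : WithBot ℕ∞) ≤ topologicalKrullDim (o.fiber y)}
  have hBR : ∀ j, B j ⊆ R := by
    intro j y hy
    by_contra hc
    haveI : IsEmpty ↥(o.fiber y) := ⟨fun w => hc ⟨((o.fiberHomeo y) w).1, ((o.fiberHomeo y) w).2⟩⟩
    have : topologicalKrullDim (o.fiber y) = ⊥ := Order.krullDim_eq_bot_iff.mpr
      ⟨fun C => C.2.nonempty.elim fun z _ => IsEmpty.false z⟩
    exact absurd (this ▸ hy : (j : WithBot ℕ∞) ≤ ⊥) (not_le.mpr (WithBot.bot_lt_coe _))
  have hclB : ∀ j ≤ s, closure (B j) = closure R := by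
    intro j hj
    refine (closure_mono (hBR j)).antisymm (closure_minimal ?_ isClosed_closure)
    intro z hz
    have hsub : R ∩ closedPoints X.left ⊆ B j := fun y hy => by
      show (j : WithBot ℕ∞) ≤ _
      rw [hfib y hy.2 hy.1]; exact_mod_cast hj
    refine closure_mono hsub ?_
    rw [closure_inter_closedPoints' hR]
    exact subset_closure hz
  have hBe : ∀ j, s < j → B j = ∅ := by
    intro j hj
    rw [show B j = o.base '' {w | (j : WithBot ℕ∞) ≤ FlatMor.fibreDimAt o w} from
      GeomUnib.FibreDimNhds.setOf_le_dim_eq_image o j, Set.image_eq_empty]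
    by_contra hne
    obtain ⟨c, hc, hcc⟩ := nonempty_inter_closedPoints (Set.nonempty_iff_ne_empty.mpr hne)
      (GeomUnib.FibreDimNhds.isClosed_le_fibreDimAt o j).isLocallyClosed
    obtain ⟨cs, rfl⟩ := exists_section_of_closed (A := G) hcc
    have hq : o (pt₀ cs) ∈ closedPoints X.left := by
      show (a.orbitMap x).left (cs.left (IsLocalRing.closedPoint k)) ∈ _
      rw [← comp_left_apply]
      exact isClosed_pt _
    have h1 : o (pt₀ cs) ∈ B j := by
      rw [show B j = o.base '' {w | (j : WithBot ℕ∞) ≤ FlatMor.fibreDimAt o w} from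
        GeomUnib.FibreDimNhds.setOf_le_dim_eq_image o j]
      exact ⟨_, hc, rfl⟩
    have h2 : (j : WithBot ℕ∞) ≤ topologicalKrullDim (o.fiber (o (pt₀ cs))) := h1
    rw [hfib _ hq ⟨_, rfl⟩] at h2
    exact absurd (show j ≤ s by exact_mod_cast h2) (not_le.mpr hj)
  rw [hRN, hs]
  refine le_antisymm ?_ ?_
  · rw [← Nat.cast_add, FibreDimVar.dim_le_iff X.hom o (N + s)]
    intro j
    rcases le_or_gt j s with hj | hj
    · rw [show closure _ = closure R from hclB j hj, hclN]
      exact_mod_cast Nat.add_le_add_left hj N
    · have hej : IsEmpty ↥(closure {y : X.left | (j : WithBot ℕ∞) ≤ topologicalKrullDim (o.fiber y)}) := by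
        rw [show {y : X.left | (j : WithBot ℕ∞) ≤ topologicalKrullDim (o.fiber y)} = ∅ from hBe j hj, closure_empty]
        infer_instance
      rw [show topologicalKrullDim ↥(closure {y : X.left | (j : WithBot ℕ∞) ≤ topologicalKrullDim (o.fiber y)}) = ⊥ from
        Order.krullDim_eq_bot_iff.mpr ⟨fun C => C.2.nonempty.elim fun z _ => IsEmpty.false z⟩, WithBot.bot_add]
      exact bot_le
  · have h := (FibreDimVar.dim_le_iff X.hom o d).mp hd.le s
    rw [show closure _ = closure R from hclB s le_rfl, hclN] at h
    rw [hd]; exact h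

end Groth.Agent.S16130
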