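import Groth.Statements.S11244
import Groth.Agent.S16130
-- import your own Groth.Agent.* helpers here

set_option autoImplicit false
set_option linter.style.haveILetI false
set_option backward.isDefEq.respectTransparency false
universe u
open CategoryTheory MonoidalCategory CartesianMonoidalCategory MonObj GrpObj AlgebraicGeometry
open scoped TensorProduct
open AGF
open Groth.Agent.GrpSchField Groth.Agent.HomogSep TopologicalSpace
open CategoryTheory.Limits (pullback)

namespace Groth.Agent.S11244

section

variable {k : Type u} [Field k] [IsAlgClosed k] {G X : Over (Spec (CommRingCat.of k))} [GrpObj G]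

theorem exists_lift_pt (x : 𝟙_ (Over (Spec (CommRingCat.of k))) ⟶ X) {w : (G ⊗ X).left}
    (hw : (snd G X).left w = pt₀ x) : ∃ q, (lift (𝟙 G) (toUnit G ≫ x)).left q = w := by
  have hmem : w ∈ Set.range (G ◁ x).left := by
    rw [← id_tensorHom, Over.tensorHom_left]
    refine (Scheme.Pullback.range_map _ _ _ _ _ _ _ _ _).ge ?_
    exact ⟨⟨_, rfl⟩, ⟨IsLocalRing.closedPoint k, hw.symm⟩⟩
  obtain ⟨q, rfl⟩ := hmem
  refine ⟨(fst G (𝟙_ _)).left q, ?_⟩
  rw [← comp_left_apply]
  rw [show fst G (𝟙_ _) ≫ lift (𝟙 G) (toUnit G ≫ x) = G ◁ x by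
    apply CartesianMonoidalCategory.hom_ext
    · simp
    · simp only [Category.assoc, lift_snd, whiskerLeft_snd]
      rw [← Category.assoc, toUnit_unique (fst G (𝟙_ _) ≫ toUnit G) (snd G (𝟙_ _))]]

theorem eq_of_proj [LocallyOfFiniteType X.hom] [IsSeparated X.hom] (x : 𝟙_ (Over (Spec (CommRingCat.of k))) ⟶ X)
    {u : (X ⊗ X).left}
    (h1 : (fst X X).left u = (fst X X).left ((lift (𝟙 X) (𝟙 X)).left (pt₀ x)))
    (h2 : (snd X X).left u = (snd X X).left ((lift (𝟙 X) (𝟙 X)).left (pt₀ x))) :
    u = (lift (𝟙 X) (𝟙 X)).left (pt₀ x) := by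
  rw [← comp_left_apply, lift_fst] at h1
  rw [← comp_left_apply, lift_snd] at h2
  have hmem : u ∈ Set.range (x ⊗ₘ x).left := by
    rw [Over.tensorHom_left]
    refine (Scheme.Pullback.range_map _ _ _ _ _ _ _ _ _).ge ?_
    exact ⟨⟨IsLocalRing.closedPoint k, h1.symm⟩, ⟨IsLocalRing.closedPoint k, h2.symm⟩⟩
  obtain ⟨q, rfl⟩ := hmem
  have e : (x ⊗ₘ x) = fst _ _ ≫ x ≫ lift (𝟙 X) (𝟙 X) := by
    apply CartesianMonoidalCategory.hom_ext
    · simp
    · simp [toUnit_unique (fst (𝟙_ (Over (Spec (CommRingCat.of k)))) (𝟙_ _)) (snd _ _)]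
  rw [e, comp_left_apply, comp_left_apply]
  congr 2
  exact Subsingleton.elim (α := Spec (CommRingCat.of k)) _ _

theorem exists_nat_dim (G : Over (Spec (CommRingCat.of k))) [GrpObj G] [LocallyOfFiniteType G.hom] [QuasiCompact G.hom] :
    ∃ d : ℕ, topologicalKrullDim G.left = d := by
  haveI : IsLocallyNoetherian G.left := LocallyOfFiniteType.isLocallyNoetherian G.hom
  haveI : CompactSpace G.left := QuasiCompact.compactSpace_of_compactSpace G.hom
  haveI : IsNoetherian G.left := {}
  have hGn : ∀ g : G.left, ∃ n : ℕ, topologicalKrullDim (closure ({g} : Set G.left)) = (n : WithBot ℕ∞) := fun g => by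
    obtain ⟨n, -, hn⟩ := DimTrdeg.exists_dim_closure_eq_trdeg G.hom g
    exact ⟨n, hn⟩
  choose n hn using hGn
  have hgen : ∀ C : irreducibleComponents G.left, ∃ ξ, IsGenericPoint ξ C.1 := fun C =>
    QuasiSober.sober C.2.1 (isClosed_of_mem_irreducibleComponents C.1 C.2)
  choose ξ hξ using hgen
  haveI : Fintype (irreducibleComponents G.left) := (NoetherianSpace.finite_irreducibleComponents (α := G.left)).fintype
  refine S16130.exists_nat_of_le (S16130.dim_nonneg ⟨e G⟩) (M := Finset.univ.sup fun C => n (ξ C)) ?_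
  refine FibreDim.dim_le_of_points fun g => ?_
  let C : irreducibleComponents G.left := ⟨_, irreducibleComponent_mem_irreducibleComponents g⟩
  refine (FibreDim.dim_mono (closure_minimal (Set.singleton_subset_iff.mpr
    (specializes_iff_mem_closure.mp ((hξ C).specializes mem_irreducibleComponent))) isClosed_closure)).trans ?_
  rw [hn]; exact_mod_cast Finset.le_sup (f := fun C => n (ξ C)) (Finset.mem_univ C)

theorem range_eq_pt {A : Over (Spec (CommRingCat.of k))}
    (s : 𝟙_ (Over (Spec (CommRingCat.of k))) ⟶ A) : Set.range s.left = {pt₀ s} := S16130.range_eq_pt s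

theorem isClosed_pt {A : Over (Spec (CommRingCat.of k))} [IsSeparated A.hom]
    (s : 𝟙_ (Over (Spec (CommRingCat.of k))) ⟶ A) : IsClosed ({pt₀ s} : Set A.left) :=
  mem_closedPoints_iff.mp (S16130.isClosed_pt s)

theorem dim_closure_range_le [LocallyOfFiniteType G.hom] [QuasiCompact G.hom] [LocallyOfFiniteType X.hom] (a : AlgGrp.Action G X)
    (x : 𝟙_ (Over (Spec (CommRingCat.of k))) ⟶ X) :
    topologicalKrullDim ↥(closure (Set.range (a.orbitMap x).left)) ≤ topologicalKrullDim ↥(Set.range (a.orbitMap x).left) := by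
  let o := (a.orbitMap x).left
  let R : Set X.left := Set.range o
  haveI : IsLocallyNoetherian G.left := LocallyOfFiniteType.isLocallyNoetherian G.hom
  haveI : CompactSpace G.left := QuasiCompact.compactSpace_of_compactSpace G.hom
  haveI : IsNoetherian G.left := {}
  have hR : IsLocallyClosed R := isLocallyClosed_range_orbitMap a x
  let W : X.left.Opens := ⟨coborder R, hR.isOpen_coborder⟩
  have hWR : coborder R ∩ closure R = R := coborder_inter_closure
  have hr : ∀ g, topologicalKrullDim ↥(closure ({o g} : Set X.left)) ≤ topologicalKrullDim ↥R := fun g => by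
    let r : W.toScheme := ⟨o g, subset_coborder ⟨_, rfl⟩⟩
    rw [show o g = W.ι r from rfl, FibDim.dim_closure_openImmersion W.ι X.hom r,
      ← FibreDim.dim_image W.ι.isOpenEmbedding.isEmbedding]
    refine FibreDim.dim_mono ?_
    rintro _ ⟨w, hw, rfl⟩
    refine hWR.le ⟨w.2, closure_mono (Set.singleton_subset_iff.mpr ⟨g, rfl⟩ : ({W.ι r} : Set X.left) ⊆ R) ?_⟩
    exact specializes_iff_mem_closure.mp ((specializes_iff_mem_closure.mpr hw).map W.ι.continuous)
  have hgen : ∀ C : irreducibleComponents G.left, ∃ ξ, IsGenericPoint ξ C.1 := fun C =>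
    QuasiSober.sober C.2.1 (isClosed_of_mem_irreducibleComponents C.1 C.2)
  choose ξ hξ using hgen
  haveI : Fintype (irreducibleComponents G.left) := (NoetherianSpace.finite_irreducibleComponents (α := G.left)).fintype
  haveI : QuasiSober (closure R) := isClosed_closure.isClosedEmbedding_subtypeVal.quasiSober
  refine FibreDim.dim_le_of_points fun t => ?_
  rw [← FibreDim.dim_image Topology.IsEmbedding.subtypeVal]
  refine le_trans (FibreDim.dim_mono (image_closure_subset_closure_image continuous_subtype_val)) ?_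
  rw [Set.image_singleton]
  have hcov : closure R ⊆ ⋃ C : irreducibleComponents G.left, closure {o (ξ C)} := by
    refine closure_minimal ?_ (isClosed_iUnion_of_finite fun _ => isClosed_closure)
    rintro _ ⟨g, rfl⟩
    let C : irreducibleComponents G.left := ⟨_, irreducibleComponent_mem_irreducibleComponents g⟩
    exact Set.mem_iUnion.mpr ⟨C, specializes_iff_mem_closure.mp (((hξ C).specializes mem_irreducibleComponent).map o.continuous)⟩
  obtain ⟨C, hC⟩ := Set.mem_iUnion.mp (hcov t.2)
  exact (FibreDim.dim_mono (closure_minimal (Set.singleton_subset_iff.mpr hC) isClosed_closure)).trans (hr _)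

theorem exists_through_one [LocallyOfFiniteType G.hom] [LocallyOfFiniteType X.hom] [IsSeparated X.hom]
    (a : AlgGrp.Action G X) (x : 𝟙_ (Over (Spec (CommRingCat.of k))) ⟶ X) {s : ℕ}
    (hs : topologicalKrullDim ↥((a.orbitMap x).left ⁻¹' {pt₀ x}) = s) :
    ∃ v, v ∈ (a.orbitMap x).left ⁻¹' {pt₀ x} ∧ v ⤳ e G ∧
      (s : WithBot ℕ∞) ≤ topologicalKrullDim (closure ({v} : Set G.left)) := by
  let o := (a.orbitMap x).left
  let F : Set G.left := o ⁻¹' {pt₀ x}
  haveI : JacobsonSpace G.left := LocallyOfFiniteType.jacobsonSpace G.hom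
  have hFc : IsClosed F := (isClosed_pt x).preimage o.continuous
  have he : o (e G) = pt₀ x := by
    rw [← one_pt (G := G)]
    show (a.orbitMap x).left _ = _
    rw [← comp_left_apply]
    congr 2
    rw [AlgGrp.Action.orbitMap, ← Category.assoc, comp_lift, Category.comp_id, ← Category.assoc,
      toUnit_unique ((1 : 𝟙_ _ ⟶ G) ≫ toUnit G) (𝟙 _), Category.id_comp, lift_act_one]
  have hmax : ∃ w ∈ F, (s : WithBot ℕ∞) ≤ topologicalKrullDim (closure ({w} : Set G.left)) := by
    rcases Nat.eq_zero_or_pos s with rfl | hspos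
    · exact ⟨e G, he, by simpa using S16130.dim_nonneg ⟨(⟨e G, subset_closure rfl⟩ : closure ({e G} : Set G.left))⟩⟩
    by_contra hc
    simp only [not_exists, not_and, not_le] at hc
    haveI : QuasiSober F := hFc.isClosedEmbedding_subtypeVal.quasiSober
    have : topologicalKrullDim F ≤ ((s - 1 : ℕ) : WithBot ℕ∞) := by
      refine FibreDim.dim_le_of_points fun t => ?_
      rw [← FibreDim.dim_image Topology.IsEmbedding.subtypeVal]
      refine le_trans (FibreDim.dim_mono (image_closure_subset_closure_image continuous_subtype_val)) ?_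
      rw [Set.image_singleton]
      obtain ⟨n, -, hn⟩ := DimTrdeg.exists_dim_closure_eq_trdeg G.hom t.1
      have := hc _ t.2
      rw [hn] at this ⊢
      exact_mod_cast Nat.le_sub_one_of_lt (by exact_mod_cast this)
    rw [show topologicalKrullDim F = (s : WithBot ℕ∞) from hs] at this
    have h' : s ≤ s - 1 := by exact_mod_cast this
    omega
  obtain ⟨w, hwF, hw⟩ := hmax
  obtain ⟨c, hc, hcc⟩ := nonempty_inter_closedPoints (Z := closure ({w} : Set G.left)) ⟨w, subset_closure rfl⟩ isClosed_closure.isLocallyClosed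
  obtain ⟨cs, rfl⟩ := exists_section_of_closed (A := G) hcc
  have hcF : o (pt₀ cs) = pt₀ x := closure_minimal (Set.singleton_subset_iff.mpr hwF) hFc hc
  let τ := translG (G := G) cs⁻¹
  have hτc : τ.hom.left (pt₀ cs) = e G := by
    show τ.hom.left (cs.left _) = _
    rw [← comp_left_apply, translG_left, inv_mul_cancel, one_pt]
  have htp : (translX a cs⁻¹).hom.left (pt₀ x) = pt₀ x := by
    conv_lhs => rw [← hcF]
    show (translX a cs⁻¹).hom.left ((a.orbitMap x).left (pt₀ cs)) = _
    rw [translX_orbit]
    show o (τ.hom.left (pt₀ cs)) = _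
    rw [hτc, he]
  haveI : IsIso τ.hom.left := inferInstanceAs (IsIso ((Over.forget _).map τ.hom))
  refine ⟨τ.hom.left w, ?_, hτc ▸ ((specializes_iff_mem_closure.mpr hc).map τ.hom.left.continuous), ?_⟩
  · show (a.orbitMap x).left ((translG cs⁻¹).hom.left w) = _
    rw [← translX_orbit a cs⁻¹ x w, show (a.orbitMap x).left w = pt₀ x from hwF, htp]
  · let h := τ.hom.left.homeomorph
    refine hw.trans (le_of_eq ?_)
    rw [← FibreDim.dim_image h.isEmbedding, h.image_closure, Set.image_singleton]
    rfl

theorem orbit_stab [Smooth G.hom] [QuasiCompact G.hom] [IsReduced X.left] [IsSeparated X.hom]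
    [LocallyOfFiniteType X.hom] [QuasiCompact X.hom] (a : AlgGrp.Action G X)
    (x : 𝟙_ (Over (Spec (CommRingCat.of k))) ⟶ X) {d : ℕ} (hd : topologicalKrullDim G.left = d) :
    ∃ N s : ℕ, topologicalKrullDim ↥(closure (Set.range ⇑(a.orbitMap x).left.base)) = N ∧
      topologicalKrullDim ↥((a.orbitMap x).left ⁻¹' {pt₀ x}) = s ∧ d = N + s := by
  let o := (a.orbitMap x).left
  have hF : topologicalKrullDim ↥(Limits.pullback o x.left) = topologicalKrullDim ↥(o ⁻¹' {pt₀ x}) := by
    haveI : IsClosedImmersion (x.left ≫ X.hom) := by rw [Over.w x]; exact (inferInstance : IsClosedImmersion (𝟙 (Spec (CommRingCat.of k))))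
    haveI : IsClosedImmersion x.left := MorphismProperty.of_postcomp @IsClosedImmersion x.left X.hom (inferInstance : IsSeparated X.hom) inferInstance
    rw [← FibreDim.dim_homeo (Homeomorph.Set.univ _),
      ← FibreDim.dim_image (Limits.pullback.fst o x.left).isClosedEmbedding.isEmbedding Set.univ,
      Set.image_univ, Scheme.Pullback.range_fst, range_eq_pt]
  have hne : Nonempty ↥(o ⁻¹' {pt₀ x}) := by
    refine ⟨⟨(1 : 𝟙_ _ ⟶ G).left (IsLocalRing.closedPoint k), ?_⟩⟩
    show (a.orbitMap x).left _ = _
    rw [← comp_left_apply]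
    congr 2
    rw [AlgGrp.Action.orbitMap, ← Category.assoc, comp_lift, Category.comp_id, ← Category.assoc,
      toUnit_unique ((1 : 𝟙_ _ ⟶ G) ≫ toUnit G) (𝟙 _), Category.id_comp, lift_act_one]
  have hle : topologicalKrullDim ↥(o ⁻¹' {pt₀ x}) ≤ (d : WithBot ℕ∞) := hd ▸ Topology.IsEmbedding.subtypeVal.isInducing.topologicalKrullDim_le
  obtain ⟨s, hs⟩ := S16130.exists_nat_of_le (S16130.dim_nonneg hne) hle
  haveI : Nonempty G.left := ⟨e G⟩
  have h := S16130.result k G X a x
  rw [hF, hs, hd] at h
  have hRle : topologicalKrullDim ↥(Set.range o) ≤ (d : WithBot ℕ∞) := by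
    rw [h]
    calc topologicalKrullDim ↥(Set.range o) = topologicalKrullDim ↥(Set.range o) + (0 : ℕ) := by simp
      _ ≤ _ := add_le_add le_rfl (by exact_mod_cast Nat.zero_le s)
  obtain ⟨N, hN⟩ := S16130.exists_nat_of_le (S16130.dim_nonneg ⟨⟨_, e G, rfl⟩⟩) hRle
  rw [show topologicalKrullDim ↥(Set.range (a.orbitMap x).left.base) = (N : WithBot ℕ∞) from hN] at h
  refine ⟨N, s, ?_, hs, by exact_mod_cast h⟩
  refine le_antisymm ?_ (hN ▸ FibreDim.dim_mono subset_closure)
  rw [← hN]
  exact dim_closure_range_le a x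

end

/-- Let k be an algebraically closed field, G a linear algebraic group over k (affine, smooth) acting on
an irreducible variety X over k (reduced, separated, of finite type). For a rational point x of X
let dim G·x be the dimension of the closure of its orbit. Then for every r the set of rational
points x with dim G·x ≤ r is closed: there is a closed subset Z of X whose rational points are
exactly those x. (The second assertion, that the points of maximal orbit dimension form a dense open
subset, follows.) -/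
theorem result (k : Type u) [Field k] [IsAlgClosed k]
    (G : Over (Spec (CommRingCat.of k))) [GrpObj G] [IsAffine G.left] [Smooth G.hom]
    (X : Over (Spec (CommRingCat.of k))) [IrreducibleSpace ↥X.left] [IsReduced X.left]
    [IsSeparated X.hom] [LocallyOfFiniteType X.hom] [QuasiCompact X.hom]
    (a : AlgGrp.Action G X) (r : ℕ) :
    ∃ Z : Set ↥X.left, IsClosed Z ∧
      ∀ x : 𝟙_ (Over (Spec (CommRingCat.of k))) ⟶ X,
        topologicalKrullDim ↥(closure (Set.range ⇑(a.orbitMap x).left.base)) ≤ (r : WithBot ℕ∞) ↔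
          Set.range ⇑x.left.base ⊆ Z := by
  haveI : JacobsonSpace X.left := LocallyOfFiniteType.jacobsonSpace X.hom
  haveI : JacobsonSpace G.left := LocallyOfFiniteType.jacobsonSpace G.hom
  haveI : IsSeparated G.hom := inferInstance
  obtain ⟨d, hd⟩ := exists_nat_dim G
  rcases Nat.le_total d r with hdr | hdr
  · refine ⟨Set.univ, isClosed_univ, fun x => ⟨fun _ => Set.subset_univ _, fun _ => ?_⟩⟩
    obtain ⟨N, s, hN, -, hsum⟩ := orbit_stab a x hd
    rw [hN]; exact_mod_cast (show N ≤ r by omega)
  · -- the family of stabilisers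
    let Ψ : G ⊗ X ⟶ X ⊗ X := lift a.act (snd G X)
    let Δ : X ⟶ X ⊗ X := lift (𝟙 X) (𝟙 X)
    let P := pullback Ψ.left Δ.left
    let κ : P ⟶ (G ⊗ X).left := pullback.fst Ψ.left Δ.left
    let π : P ⟶ X.left := pullback.snd Ψ.left Δ.left
    haveI : IsClosedImmersion (Δ.left ≫ (fst X X).left) := by
      rw [← Over.comp_left, lift_fst]; exact (inferInstance : IsClosedImmersion (𝟙 X.left))
    haveI : IsSeparated (fst X X).left := inferInstanceAs (IsSeparated (pullback.fst X.hom X.hom))
    haveI : IsClosedImmersion Δ.left := MorphismProperty.of_postcomp @IsClosedImmersion Δ.left (fst X X).left (inferInstance : IsSeparated (fst X X).left) inferInstance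
    haveI : IsClosedImmersion κ := inferInstanceAs (IsClosedImmersion (pullback.fst Ψ.left Δ.left))
    haveI : LocallyOfFiniteType (Ψ.left ≫ (X ⊗ X).hom) := by rw [Over.w Ψ]; exact inferInstanceAs (LocallyOfFiniteType (pullback.fst G.hom X.hom ≫ G.hom))
    haveI : LocallyOfFiniteType Ψ.left := locallyOfFiniteType_of_comp Ψ.left (X ⊗ X).hom
    haveI : LocallyOfFiniteType π := inferInstanceAs (LocallyOfFiniteType (pullback.snd Ψ.left Δ.left))
    let ε : X ⟶ G ⊗ X := lift 1 (𝟙 X)
    let σ : X.left ⟶ P := pullback.lift ε.left (𝟙 _) (by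
      rw [Category.id_comp, ← Over.comp_left]
      congr 1
      simp only [ε, Ψ, Δ, comp_lift, lift_snd]
      rw [lift_act_one])
    refine ⟨σ ⁻¹' {w | ((d - r : ℕ) : WithBot ℕ∞) ≤ FlatMor.fibreDimAt π w},
      (GeomUnib.FibreDimNhds.isClosed_le_fibreDimAt π _).preimage σ.continuous, fun x => ?_⟩
    obtain ⟨N, s, hN, hs, hsum⟩ := orbit_stab a x hd
    rw [hN]
    let p := pt₀ x
    have hx1 : Set.range x.left = {p} := range_eq_pt x
    rw [show Set.range x.left.base = {p} from hx1, Set.singleton_subset_iff]
    show _ ↔ ((d - r : ℕ) : WithBot ℕ∞) ≤ FlatMor.fibreDimAt π (σ p)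
    -- embed the stabiliser
    let jx : G ⟶ G ⊗ X := lift (𝟙 G) (toUnit G ≫ x)
    haveI : IsClosedImmersion (jx.left ≫ (fst G X).left) := by
      rw [← Over.comp_left, lift_fst]; exact (inferInstance : IsClosedImmersion (𝟙 G.left))
    haveI : IsSeparated (fst G X).left := inferInstanceAs (IsSeparated (pullback.fst G.hom X.hom))
    haveI : IsClosedImmersion jx.left := MorphismProperty.of_postcomp @IsClosedImmersion jx.left (fst G X).left (inferInstance : IsSeparated (fst G X).left) inferInstance
    let o := (a.orbitMap x).left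
    let F : Set G.left := o ⁻¹' {p}
    have hιs : ∀ g, (snd G X).left (jx.left g) = p := fun g => by
      rw [← comp_left_apply, lift_snd, comp_left_apply]
      exact hx1.le ⟨_, rfl⟩
    have hιa : ∀ g, a.act.left (jx.left g) = o g := fun g => by rw [← comp_left_apply]; rfl
    have himg : κ '' (π ⁻¹' {p}) = jx.left '' F := by
      ext w
      constructor
      · rintro ⟨z, hz, rfl⟩
        have hz' : π z = p := hz
        have h1 : Ψ.left (κ z) = Δ.left (π z) := by
          rw [← Scheme.Hom.comp_apply, pullback.condition, Scheme.Hom.comp_apply]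
        have h2 : (snd G X).left (κ z) = p := by
          have := congrArg (snd X X).left h1
          rw [← comp_left_apply, ← comp_left_apply, lift_snd, lift_snd, hz'] at this
          exact this
        have h3 : a.act.left (κ z) = p := by
          have := congrArg (fst X X).left h1
          rw [← comp_left_apply, ← comp_left_apply, lift_fst, lift_fst, hz'] at this
          exact this
        obtain ⟨q, hq⟩ : ∃ q, jx.left q = κ z := exists_lift_pt x h2
        exact ⟨q, show o q = p by rw [← hιa, hq, h3], hq⟩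
      · rintro ⟨g, hg, rfl⟩
        have h1 : Ψ.left (jx.left g) = Δ.left p := by
          have e1 : ∀ v, (fst X X).left (Ψ.left v) = a.act.left v := fun v => by rw [← comp_left_apply, lift_fst]
          have e2 : ∀ v, (snd X X).left (Ψ.left v) = (snd G X).left v := fun v => by rw [← comp_left_apply, lift_snd]
          have d1 : ∀ v, (fst X X).left (Δ.left v) = v := fun v => by rw [← comp_left_apply, lift_fst]; rfl
          have d2 : ∀ v, (snd X X).left (Δ.left v) = v := fun v => by rw [← comp_left_apply, lift_snd]; rfl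
          refine eq_of_proj x ?_ ?_
          · rw [e1, d1, hιa]; exact hg
          · rw [e2, d2, hιs]
        obtain ⟨z, hz1, hz2⟩ := Scheme.Pullback.exists_preimage_pullback (f := Ψ.left) (g := Δ.left) (jx.left g) p h1
        exact ⟨z, hz2, hz1⟩
    have hFdim : topologicalKrullDim ↥(π ⁻¹' {p}) = (s : WithBot ℕ∞) := by
      rw [← FibreDim.dim_image κ.isClosedEmbedding.isEmbedding, himg, FibreDim.dim_image jx.left.isClosedEmbedding.isEmbedding, hs]
    have hσp : π (σ p) = p := by rw [← Scheme.Hom.comp_apply, pullback.lift_snd]; rfl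
    have hσe : κ (σ p) = jx.left (e G) := by
      rw [← Scheme.Hom.comp_apply, pullback.lift_fst, ← one_pt (G := G)]
      show ε.left (x.left (IsLocalRing.closedPoint k)) = jx.left ((1 : 𝟙_ _ ⟶ G).left (IsLocalRing.closedPoint k))
      rw [← comp_left_apply, ← comp_left_apply]
      rw [show x ≫ ε = (1 : 𝟙_ _ ⟶ G) ≫ jx by
        apply CartesianMonoidalCategory.hom_ext
        · simp [ε, jx, Hom.one_def]
        · simp [ε, jx]]
    obtain ⟨n, hn, ⟨w, hw, -, hwn⟩, hall⟩ := FibreDim.exists_fibreDimAt_eq π (σ p)
    rw [hn]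
    have hns : n ≤ s := by
      have : FibreDim.fdim π w ≤ (s : WithBot ℕ∞) := by
        rw [← hFdim]
        exact FibreDim.dim_mono fun v hv => show π v = p from (hv.2 : π v = π w).trans (hw.trans hσp)
      rw [hwn] at this; exact_mod_cast this
    have hsn : s ≤ n := by
      obtain ⟨v, hvF, hve, hvs⟩ := exists_through_one a x hs
      obtain ⟨z, hz, hzv⟩ := himg.ge ⟨v, hvF, rfl⟩
      have hzs : z ⤳ σ p := κ.isClosedEmbedding.isEmbedding.toIsInducing.specializes_iff.mp (by
        rw [hzv, hσe]; exact hve.map jx.left.continuous)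
      have h1 := hall z (hz.trans hσp.symm) hzs
      have h2 : FibreDim.fdim π z = topologicalKrullDim (closure ({v} : Set G.left)) := by
        show topologicalKrullDim ↥(closure ({z} : Set P) ∩ π ⁻¹' {π z}) = _
        rw [show π z = p from hz, ← FibreDim.dim_image κ.isClosedEmbedding.isEmbedding,
          Set.image_inter κ.isClosedEmbedding.injective, himg, ← κ.isClosedEmbedding.closure_image_eq, Set.image_singleton, hzv,
          ← Set.image_singleton, jx.left.isClosedEmbedding.closure_image_eq, ← Set.image_inter jx.left.isClosedEmbedding.injective,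
          FibreDim.dim_image jx.left.isClosedEmbedding.isEmbedding, Set.inter_eq_left.mpr]
        exact closure_minimal (Set.singleton_subset_iff.mpr hvF) ((isClosed_pt x : IsClosed ({p} : Set X.left)).preimage o.continuous)
      rw [h2] at h1
      have := hvs.trans h1
      exact_mod_cast this
    constructor
    · intro h
      have h' : N ≤ r := by exact_mod_cast h
      exact_mod_cast (show d - r ≤ n by omega)
    · intro h
      have h' : d - r ≤ n := by exact_mod_cast h
      exact_mod_cast (show N ≤ r by omega)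

end Groth.Agent.S11244
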