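import Groth.Statements.S11249
import Groth.Agent.StdMon.Rank


set_option autoImplicit false
universe u
open W4bk4grassmannian

namespace Groth.Agent.S11249

open W4bk4grassmannian in
/-- Injectivity of the Plücker map, in matrix form: let K be a field, A and A' two n × d matrices over K
with linearly independent columns, and suppose there is a nonzero scalar c with det A_θ = c · det
A'_θ for every strictly increasing d-tuple θ of row indices (A_θ the d × d submatrix on the rows θ).
Then the columns of A and of A' span the same subspace of K^n. (The published statement is over an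
algebraically closed field; this row allows any field K.) -/
theorem result (K : Type u) [Field K] (d n : ℕ)
    (A A' : Matrix (Fin n) (Fin d) K) (hA : LinearIndependent K A.transpose)
    (hA' : LinearIndependent K A'.transpose) (c : K) (hc : c ≠ 0)
    (h : ∀ θ : Idx d n, (A.submatrix θ.1 id).det = c * (A'.submatrix θ.1 id).det) :
    Submodule.span K (Set.range A.transpose) = Submodule.span K (Set.range A'.transpose) := by
  classical
  obtain ⟨θ, hθ⟩ := Groth.Agent.StdMon.exists_idx_det_ne_zero A hA
  have hrat : ∀ a : Fin d → Fin n, (A.submatrix a id).det = c * (A'.submatrix a id).det := fun a => by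
    rcases Groth.Agent.StdMon.det_tuple_cases (K := K) a with e | ⟨φ, ε, e⟩
    · rw [e, e, mul_zero]
    · rw [e, e, h φ]; ring
  let B : Matrix (Fin n) (Fin d) K → Matrix (Fin n) (Fin d) K := fun A => A * (A.submatrix θ.1 id)⁻¹
  have hθ' : (A'.submatrix θ.1 id).det ≠ 0 := fun h0 => hθ (by rw [h θ, h0, mul_zero])
  have hcr : ∀ (A : Matrix (Fin n) (Fin d) K), (A.submatrix θ.1 id).det ≠ 0 → ∀ i s,
      (A.submatrix (Function.update θ.1 s i) id).det = B A i s * (A.submatrix θ.1 id).det := by
    intro A hA i s
    have hu : IsUnit (A.submatrix θ.1 id).det := isUnit_iff_ne_zero.2 hA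
    have hsub : A.submatrix (Function.update θ.1 s i) id =
        (A.submatrix θ.1 id).updateRow s (∑ k, B A i k • (A.submatrix θ.1 id) k) := by
      ext x y
      have hmul : (B A * A.submatrix θ.1 id) i y = A i y := by
        rw [Matrix.mul_assoc, Matrix.nonsing_inv_mul _ hu, Matrix.mul_one]
      rw [Matrix.updateRow_apply, Matrix.submatrix_apply, Function.update_apply]
      split_ifs
      · simpa [Matrix.mul_apply, Finset.sum_apply] using hmul.symm
      · rfl
    rw [hsub, Matrix.det_updateRow_sum, smul_eq_mul]
  have hB : B A = B A' := by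
    ext i s
    have h1 := hcr A hθ i s
    rw [hrat, hcr A' hθ' i s, h θ] at h1
    refine mul_right_cancel₀ (mul_ne_zero hc hθ') ?_
    rw [← h1]; ring
  have hspan : ∀ A : Matrix (Fin n) (Fin d) K, (A.submatrix θ.1 id).det ≠ 0 →
      Submodule.span K (Set.range A.transpose) = Submodule.span K (Set.range (B A).transpose) := by
    intro A hA
    have hu : IsUnit (A.submatrix θ.1 id).det := isUnit_iff_ne_zero.2 hA
    have hle : ∀ (P : Matrix (Fin n) (Fin d) K) (Q : Matrix (Fin d) (Fin d) K),
        Submodule.span K (Set.range (P * Q).transpose) ≤ Submodule.span K (Set.range P.transpose) := by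
      intro P Q
      rw [Submodule.span_le]
      rintro _ ⟨j, rfl⟩
      have e : (P * Q).transpose j = ∑ k, Q k j • P.transpose k := by
        ext i; simp [Matrix.mul_apply, Finset.sum_apply, mul_comm]
      rw [e]
      exact Submodule.sum_mem _ fun k _ => Submodule.smul_mem _ _ (Submodule.subset_span ⟨k, rfl⟩)
    refine le_antisymm ?_ (hle A _)
    have := hle (B A) (A.submatrix θ.1 id)
    rwa [Matrix.mul_assoc, Matrix.nonsing_inv_mul _ hu, Matrix.mul_one] at this
  rw [hspan A hθ, hspan A' hθ', hB]

end Groth.Agent.S11249
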