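import Groth.Statements.S11252
import Groth.Agent.StdMon.Schubert


set_option autoImplicit false
universe u
open W4bk4grassmannian

namespace Groth.Agent.S11252

open W4bk4grassmannian in
/-- Standard monomial basis for a union of Schubert varieties: let K be an algebraically closed field, 0
< d < n, and I(d,n) the strictly increasing maps Fin d → Fin n ordered entrywise; S = K[X_θ : θ ∈
I(d,n)] is the Plücker polynomial ring and, for τ ∈ I(d,n), J(τ) ⊆ S is the ideal of polynomials
vanishing at the d × d row-minors of every n × d matrix over K whose minors on rows φ ≰ τ are zero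
(the homogeneous ideal of the Schubert variety X(τ) ⊆ G(d,n)). Let τ_1, …, τ_r ∈ I(d,n) and let J =
⋂_i J(τ_i) be the homogeneous ideal of the union ⋃_i X(τ_i). Then the classes in S/J of the
monomials X_{θ_1} ⋯ X_{θ_m} (m ≥ 0) along chains θ_1 ≥ ⋯ ≥ θ_m all of whose members lie below some
τ_i are linearly independent over K and span S/J. -/
theorem result (K : Type u) [Field K] [IsAlgClosed K] (d n : ℕ)
    (hd : 0 < d) (hdn : d < n) (r : ℕ) (τs : Fin r → Idx d n) :
    LinearIndependent K (fun c : (Σ m : ℕ, {c : Fin m → Idx d n // Antitone c ∧ ∃ i, ∀ k, c k ≤ τs i}) =>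
        Ideal.Quotient.mk (⨅ i, schubertVanishing K d n (τs i)) (chainMon K c.2.1)) ∧
      Submodule.span K (Set.range fun c : (Σ m : ℕ, {c : Fin m → Idx d n // Antitone c ∧ ∃ i, ∀ k, c k ≤ τs i}) =>
        Ideal.Quotient.mk (⨅ i, schubertVanishing K d n (τs i)) (chainMon K c.2.1)) = ⊤ := by
  classical
  constructor
  · rw [linearIndependent_iff]
    intro l hl
    let ι : (Σ m : ℕ, {c : Fin m → Idx d n // Antitone c ∧ ∃ i, ∀ k, c k ≤ τs i}) →
        Groth.Agent.StdMon.Tup d n := fun c => ⟨c.1, c.2.1⟩
    have hι : Function.Injective ι := by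
      rintro ⟨m, c, h⟩ ⟨m', c', h'⟩ he
      simp only [ι, Sigma.mk.inj_iff] at he
      obtain ⟨rfl, he⟩ := he
      cases eq_of_heq he
      rfl
    have hmem : Groth.Agent.StdMon.comb K d n (l.mapDomain ι) ∈ ⨅ i, schubertVanishing K d n (τs i) := by
      rw [← Ideal.Quotient.eq_zero_iff_mem, ← hl]
      change (Ideal.Quotient.mkₐ K _).toLinearMap _ = _
      rw [Groth.Agent.StdMon.comb, Finsupp.linearCombination_mapDomain, Finsupp.linearCombination_apply,
        Finsupp.linearCombination_apply, map_finsuppSum]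
      exact Finsupp.sum_congr fun x _ => map_smul _ _ _
    refine Finsupp.ext fun c => ?_
    obtain ⟨m, c, hc, i, hi⟩ := c
    have h1 := Groth.Agent.StdMon.coeff_eq_zero_of_mem hd hdn.le (τs i) (l.mapDomain ι) (fun x hx => ?_)
      ((Submodule.mem_iInf _).1 hmem i) c hi
    · rw [show (⟨m, c⟩ : Groth.Agent.StdMon.Tup d n) = ι ⟨m, c, hc, i, hi⟩ from rfl,
        Finsupp.mapDomain_apply hι] at h1
      exact h1
    · obtain ⟨y, -, rfl⟩ := Finset.mem_image.1 (Finsupp.mapDomain_support hx)
      exact y.2.2.1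
  · rw [eq_top_iff]
    intro x _
    obtain ⟨f, rfl⟩ := Ideal.Quotient.mk_surjective x
    let J := ⨅ i, schubertVanishing K d n (τs i)
    obtain ⟨a, ha, hfa⟩ := Groth.Agent.StdMon.exists_comb K f
    have hJ : f - Groth.Agent.StdMon.comb K d n a ∈ J := (Submodule.mem_iInf _).2 fun i =>
      (Groth.Agent.StdMon.plIdealTop_le (τs i)).trans
        (Groth.Agent.StdMon.plIdeal_le_schubertVanishing (τs i)) hfa
    rw [Ideal.Quotient.eq.2 hJ]
    change (Ideal.Quotient.mkₐ K J).toLinearMap _ ∈ _
    rw [Groth.Agent.StdMon.comb, Finsupp.linearCombination_apply, map_finsuppSum]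
    refine Submodule.sum_mem _ fun c hc => ?_
    simp only [map_smul]
    refine Submodule.smul_mem _ _ ?_
    by_cases h : ∃ i, ∀ k, c.2 k ≤ τs i
    · exact Submodule.subset_span ⟨⟨c.1, c.2, ha c hc, h⟩, rfl⟩
    · have : chainMon K c.2 ∈ J := (Submodule.mem_iInf _).2 fun i => by
        have hi := not_exists.1 h i
        push Not at hi
        obtain ⟨k, hk⟩ := hi
        exact Groth.Agent.StdMon.plIdeal_le_schubertVanishing (τs i)
          (Groth.Agent.StdMon.chainMon_mem_of_X_mem k (Ideal.subset_span (Or.inr ⟨c.2 k, hk, rfl⟩)))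
      convert Submodule.zero_mem _
      exact Ideal.Quotient.eq_zero_iff_mem.2 this

end Groth.Agent.S11252
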