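import Groth.Statements.S11254
import Groth.Agent.StdMon.Schubert


set_option autoImplicit false
universe u
open W4bk4grassmannian

namespace Groth.Agent.S11254

open W4bk4grassmannian in
/-- Let K be an algebraically closed field, 0 < d < n, and I(d,n) the strictly increasing maps Fin d →
Fin n ordered entrywise; S = K[X_θ : θ ∈ I(d,n)] is the Plücker polynomial ring and, for τ ∈ I(d,n),
J(τ) ⊆ S is the ideal of polynomials vanishing at the d × d row-minors of every n × d matrix over K
whose minors on rows φ ≰ τ are zero (the homogeneous ideal of the Schubert variety X(τ) ⊆ G(d,n)).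
Let τ ∈ I(d,n) admit some φ < τ (X(τ) has positive dimension). Then J(τ) + (X_τ) = ⋂_φ J(φ), the
intersection over the Schubert divisors φ of τ, i.e. the φ < τ with Σ_t (φ_t - t) + 1 = Σ_t (τ_t -
t). (For the zero-dimensional Schubert variety there is no divisor and the left side is the
irrelevant ideal, so positive dimension is required at the level of ideals.) -/
theorem result (K : Type u) [Field K] [IsAlgClosed K]
    (d n : ℕ) (hd : 0 < d) (hdn : d < n) (τ : Idx d n) (hτ : ∃ φ : Idx d n, φ < τ) :
    schubertVanishing K d n τ ⊔ Ideal.span {MvPolynomial.X τ} =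
      ⨅ φ ∈ divisors τ, schubertVanishing K d n φ := by
  refine le_antisymm (le_iInf₂ fun φ hφ => sup_le ?_ ?_) fun f hf => ?_
  · rw [← Groth.Agent.StdMon.plIdeal_eq_schubertVanishing hd hdn.le,
      ← Groth.Agent.StdMon.plIdeal_eq_schubertVanishing hd hdn.le, plIdeal, plIdeal]
    refine Ideal.span_mono ?_
    rintro g (h | ⟨ψ, hψ, rfl⟩)
    · exact Or.inl h
    · exact Or.inr ⟨ψ, fun h => hψ (h.trans hφ.1.le), rfl⟩
  · rw [Ideal.span_le, Set.singleton_subset_iff]
    exact Groth.Agent.StdMon.plIdeal_le_schubertVanishing φ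
      (Ideal.subset_span (Or.inr ⟨τ, hφ.1.not_ge, rfl⟩))
  · simp only [Ideal.mem_iInf] at hf
    refine Groth.Agent.StdMon.mem_of_forall_coeff hd hdn.le
      (((Groth.Agent.StdMon.plIdealTop_le τ).trans
        (Groth.Agent.StdMon.plIdeal_le_schubertVanishing τ)).trans le_sup_left)
      (divisors τ) (fun m c hc hno => ?_) hf
    obtain ⟨φ₀, hφ₀⟩ := hτ
    by_cases hle : ∀ k, c k ≤ τ
    · cases m with
      | zero =>
        obtain ⟨φ, hφ, -⟩ := Groth.Agent.StdMon.exists_divisor_ge hφ₀
        obtain ⟨k, -⟩ := hno φ hφ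
        exact k.elim0
      | succ m =>
        by_cases h0 : c 0 = τ
        · exact Ideal.mem_sup_right (Groth.Agent.StdMon.chainMon_mem_of_X_mem 0
            (by rw [h0]; exact Ideal.mem_span_singleton_self _))
        · obtain ⟨φ, hφ, hle'⟩ := Groth.Agent.StdMon.exists_divisor_ge (lt_of_le_of_ne (hle 0) h0)
          obtain ⟨k, hk⟩ := hno φ hφ
          exact absurd ((hc (Fin.zero_le k)).trans hle') hk
    · push Not at hle
      obtain ⟨k, hk⟩ := hle
      exact Ideal.mem_sup_left (Groth.Agent.StdMon.plIdeal_le_schubertVanishing τ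
        (Groth.Agent.StdMon.chainMon_mem_of_X_mem k (Ideal.subset_span (Or.inr ⟨c k, hk, rfl⟩))))

end Groth.Agent.S11254
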