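import Groth.Statements.S11256
import Groth.Agent.StdMon.Det


set_option autoImplicit false
universe u
open W4bk4grassmannian

namespace Groth.Agent.S11256

section
open W4bk4grassmannian Finset Groth.Agent.StdMon MvPolynomial

variable {K : Type u} [Field K]

/-- The value of a signed Plücker coordinate. -/
noncomputable def cval {d n : ℕ} (q : Idx d n → K) (a : Fin d → Fin n) : K := MvPolynomial.eval q (coord K d n a)

theorem cval_strictMono {d n : ℕ} (q : Idx d n → K) (θ : Idx d n) : cval q θ.1 = q θ := by
  rw [cval, coord_strictMono, eval_X]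

theorem cval_of_not_injective {d n : ℕ} (q : Idx d n → K) {a : Fin d → Fin n} (h : ¬ Function.Injective a) :
    cval q a = 0 := by
  classical
  rw [cval, coord, dif_neg, map_zero]
  intro hc
  exact h fun x y e => (Finset.card_image_iff.1 (hc.trans (by simp : d = (univ : Finset (Fin d)).card)))
    (by simp) (by simp) e

theorem cval_eq_of {d n : ℕ} (a : Fin d → Fin n) (θ : Idx d n) (h : univ.image a = univ.image θ.1) :
    ∃ ε : K, ε ≠ 0 ∧ ∀ q : Idx d n → K, cval q a = ε * q θ := by
  classical
  have hc : (univ.image a).card = d := by rw [h]; simp [card_image_of_injective _ θ.2.injective]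
  have hs : sortIdx d n a hc = θ := idx_ext (by
    rw [show (sortIdx d n a hc).1 = (univ.image a).orderEmbOfFin hc from rfl, image_orderEmbOfFin_univ, h])
  refine ⟨(-1) ^ invCount d n a, pow_ne_zero _ (neg_ne_zero.2 one_ne_zero), fun q => ?_⟩
  rw [cval, coord, dif_pos hc, hs, map_mul, map_pow, map_neg, map_one, eval_X]

theorem eval_quadric {e n : ℕ} (q : Idx (e + 1) n → K) (i' : Idx e n) (j' : Idx (e + 2) n) :
    eval q (quadric K i' j') = ∑ h : Fin (e + 2), (-1) ^ (h.val + 1) * cval q (Fin.snoc i'.1 (j'.1 h)) *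
      cval q (j'.1 ∘ h.succAbove) := by
  simp [quadric, cval, map_sum]

theorem eval_quadric_minors {e n : ℕ} (A : Matrix (Fin n) (Fin (e + 1)) K) (i' : Idx e n) (j' : Idx (e + 2) n) :
    eval (fun θ : Idx (e + 1) n => (A.submatrix θ.1 id).det) (quadric K i' j') = 0 := by
  classical
  have hc : ∀ a, cval (fun θ : Idx (e + 1) n => (A.submatrix θ.1 id).det) a = (A.submatrix a id).det :=
    fun a => aeval_coord K A a
  rw [eval_quadric]
  simp only [hc]
  let cof : Fin (e + 1) → K := fun t =>
    (-1) ^ ((Fin.last e).val + t.val) * ((A.submatrix i'.1 id).submatrix id t.succAbove).det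
  have hexp : ∀ x, (A.submatrix (Fin.snoc i'.1 x) id).det = ∑ t, A x t * cof t := by
    intro x
    rw [Matrix.det_succ_row _ (Fin.last e)]
    refine sum_congr rfl fun t _ => ?_
    simp only [Matrix.submatrix_apply, id, Fin.snoc_last, Matrix.submatrix_submatrix, Fin.succAbove_last, cof]
    have : (A.submatrix (Fin.snoc i'.1 x ∘ Fin.castSucc) t.succAbove) = A.submatrix i'.1 t.succAbove :=
      Matrix.ext fun a b => by simp
    simp only [Function.comp_id, Function.id_comp, this]
    ring
  simp only [hexp, sum_mul, mul_sum]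
  rw [sum_comm]
  refine sum_eq_zero fun t _ => ?_
  let M : Matrix (Fin (e + 2)) (Fin (e + 2)) K := fun h c => Fin.cases (A (j'.1 h) t) (fun c => A (j'.1 h) c) c
  have hM : M.det = 0 := Matrix.det_zero_of_column_eq (Fin.succ_ne_zero t).symm fun h => by simp [M]
  rw [Matrix.det_succ_column_zero] at hM
  calc ∑ h : Fin (e + 2), (-1 : K) ^ (h.val + 1) * (A (j'.1 h) t * cof t) * (A.submatrix (j'.1 ∘ h.succAbove) id).det
      = - cof t * ∑ h : Fin (e + 2), (-1 : K) ^ h.val * M h 0 * (M.submatrix h.succAbove Fin.succ).det := by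
        rw [mul_sum]
        refine sum_congr rfl fun h _ => ?_
        have : M.submatrix h.succAbove Fin.succ = A.submatrix (j'.1 ∘ h.succAbove) id :=
          Matrix.ext fun a b => by simp [M]
        rw [this, show M h 0 = A (j'.1 h) t from rfl, pow_succ]
        ring
    _ = 0 := by rw [hM, mul_zero]

/-- Two solutions of the quadrics agreeing near a base index agree. -/
theorem eq_of_agree {e n : ℕ} (q p : Idx (e + 1) n → K) (θ₀ : Idx (e + 1) n) (h0 : q θ₀ ≠ 0)
    (hq : ∀ i' j', eval q (quadric K i' j') = 0) (hp : ∀ i' j', eval p (quadric K i' j') = 0)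
    (hnear : ∀ θ : Idx (e + 1) n, (univ.image θ.1 \ univ.image θ₀.1).card ≤ 1 → q θ = p θ) : q = p := by
  classical
  funext θ
  induction hk : (univ.image θ.1 \ univ.image θ₀.1).card using Nat.strong_induction_on generalizing θ with
  | _ k ih =>
    by_cases hsmall : k ≤ 1
    · exact hnear θ (hk ▸ hsmall)
    obtain ⟨x, hx⟩ : (univ.image θ.1 \ univ.image θ₀.1).Nonempty := card_pos.1 (by omega)
    rw [mem_sdiff] at hx
    have hθc : (univ.image θ.1).card = e + 1 := by simp [card_image_of_injective _ θ.2.injective]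
    have hθ₀c : (univ.image θ₀.1).card = e + 1 := by simp [card_image_of_injective _ θ₀.2.injective]
    have hi : ((univ.image θ.1).erase x).card = e := by rw [card_erase_of_mem hx.1, hθc]; omega
    have hj : (insert x (univ.image θ₀.1)).card = e + 2 := by rw [card_insert_of_notMem hx.2, hθ₀c]
    let i' : Idx e n := ⟨_, (orderEmbOfFin _ hi).strictMono⟩
    let j' : Idx (e + 2) n := ⟨_, (orderEmbOfFin _ hj).strictMono⟩
    have hi' : univ.image i'.1 = (univ.image θ.1).erase x := image_orderEmbOfFin_univ _ hi
    have hj' : univ.image j'.1 = insert x (univ.image θ₀.1) := image_orderEmbOfFin_univ _ hj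
    obtain ⟨h₀, hh₀⟩ : ∃ h, j'.1 h = x := by
      have : x ∈ univ.image j'.1 := by rw [hj']; exact mem_insert_self _ _
      simpa using this
    have hsnoc : ∀ y, univ.image (Fin.snoc i'.1 y : Fin (e + 1) → Fin n) = insert y ((univ.image θ.1).erase x) := by
      intro y
      rw [← hi']
      ext z
      simp only [mem_image, mem_univ, true_and, mem_insert]
      constructor
      · rintro ⟨a, rfl⟩
        induction a using Fin.lastCases with
        | last => left; simp
        | cast a => right; exact ⟨a, by simp⟩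
      · rintro (rfl | ⟨a, rfl⟩)
        · exact ⟨Fin.last e, by simp⟩
        · exact ⟨a.castSucc, by simp⟩
    have hsucc : ∀ h, univ.image (j'.1 ∘ h.succAbove) = (insert x (univ.image θ₀.1)).erase (j'.1 h) := by
      intro h
      rw [← hj']
      ext z
      simp only [mem_image, mem_univ, true_and, mem_erase, Function.comp_apply]
      constructor
      · rintro ⟨a, rfl⟩
        exact ⟨fun e' => Fin.succAbove_ne h a (j'.2.injective e'), ⟨_, rfl⟩⟩
      · rintro ⟨hne, a, rfl⟩
        obtain ⟨b, rfl⟩ := Fin.exists_succAbove_eq (show a ≠ h from fun e' => hne (by rw [e']))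
        exact ⟨b, rfl⟩
    have hrest : ∀ h, h ≠ h₀ →
        (-1 : K) ^ (h.val + 1) * cval q (Fin.snoc i'.1 (j'.1 h)) * cval q (j'.1 ∘ h.succAbove) =
        (-1 : K) ^ (h.val + 1) * cval p (Fin.snoc i'.1 (j'.1 h)) * cval p (j'.1 ∘ h.succAbove) := by
      intro h hh
      have hyx : j'.1 h ≠ x := fun e' => hh (j'.2.injective (e'.trans hh₀.symm))
      have hy : j'.1 h ∈ univ.image θ₀.1 := by
        have : j'.1 h ∈ univ.image j'.1 := mem_image_of_mem _ (mem_univ _)
        rw [hj'] at this
        exact (mem_insert.1 this).resolve_left hyx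
      by_cases hyθ : j'.1 h ∈ univ.image θ.1
      · have hni : ¬ Function.Injective (Fin.snoc i'.1 (j'.1 h) : Fin (e + 1) → Fin n) := by
          intro hinj
          have hc := card_image_of_injective univ hinj
          rw [hsnoc, insert_eq_of_mem (mem_erase.2 ⟨hyx, hyθ⟩), hi, card_univ, Fintype.card_fin] at hc
          omega
        rw [cval_of_not_injective q hni, cval_of_not_injective p hni]
        ring
      · have hc1 : (insert (j'.1 h) ((univ.image θ.1).erase x)).card = e + 1 := by
          rw [card_insert_of_notMem (fun hm => hyθ (mem_erase.1 hm).2), hi]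
        let θ₁ : Idx (e + 1) n := ⟨_, (orderEmbOfFin _ hc1).strictMono⟩
        have hθ₁ : univ.image θ₁.1 = insert (j'.1 h) ((univ.image θ.1).erase x) := image_orderEmbOfFin_univ _ hc1
        obtain ⟨ε, -, hε⟩ := cval_eq_of (K := K) (Fin.snoc i'.1 (j'.1 h)) θ₁ (by rw [hsnoc, hθ₁])
        have hlt : (univ.image θ₁.1 \ univ.image θ₀.1).card < k := by
          rw [hθ₁, insert_sdiff_of_mem _ hy, ← hk]
          refine card_lt_card ((ssubset_iff_of_subset (sdiff_subset_sdiff (erase_subset _ _) subset_rfl)).2
            ⟨x, mem_sdiff.2 hx, by simp⟩)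
        have hc2 : ((insert x (univ.image θ₀.1)).erase (j'.1 h)).card = e + 1 := by
          rw [card_erase_of_mem (mem_insert_of_mem hy), hj]; omega
        let θ₂ : Idx (e + 1) n := ⟨_, (orderEmbOfFin _ hc2).strictMono⟩
        have hθ₂ : univ.image θ₂.1 = (insert x (univ.image θ₀.1)).erase (j'.1 h) := image_orderEmbOfFin_univ _ hc2
        obtain ⟨ε', -, hε'⟩ := cval_eq_of (K := K) (j'.1 ∘ h.succAbove) θ₂ (by rw [hsucc, hθ₂])
        have hle : (univ.image θ₂.1 \ univ.image θ₀.1).card ≤ 1 := by
          rw [hθ₂]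
          refine (card_le_card (sdiff_subset_sdiff (erase_subset _ _) subset_rfl)).trans ?_
          rw [insert_sdiff_of_notMem _ hx.2, sdiff_self, card_insert_of_notMem (by simp)]
          simp
        rw [hε, hε, hε', hε', ih _ hlt θ₁ rfl, hnear θ₂ hle]
    have hq' := hq i' j'
    have hp' := hp i' j'
    rw [eval_quadric, ← add_sum_erase univ _ (mem_univ h₀)] at hq' hp'
    rw [sum_congr rfl fun h hh => hrest h (mem_erase.1 hh).1] at hq'
    have h5 := hq'.trans hp'.symm
    rw [add_left_inj, hh₀] at h5
    obtain ⟨ε, hε0, hε⟩ := cval_eq_of (K := K) (Fin.snoc i'.1 x) θ (by rw [hsnoc, insert_erase hx.1])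
    obtain ⟨ε', hε0', hε'⟩ := cval_eq_of (K := K) (j'.1 ∘ h₀.succAbove) θ₀
      (by rw [hsucc, hh₀, erase_insert hx.2])
    rw [hε, hε, hε', hε', ← hnear θ₀ (by simp)] at h5
    have hne : ((-1 : K) ^ (h₀.val + 1)) * ε * (ε' * q θ₀) ≠ 0 :=
      mul_ne_zero (mul_ne_zero (pow_ne_zero _ (neg_ne_zero.2 one_ne_zero)) hε0) (mul_ne_zero hε0' h0)
    refine mul_left_cancel₀ hne ?_
    linear_combination h5

theorem exists_matrix {e n : ℕ} (q : Idx (e + 1) n → K) (hq : q ≠ 0)
    (h : ∀ i' j', eval q (quadric K i' j') = 0) :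
    ∃ A : Matrix (Fin n) (Fin (e + 1)) K, ∀ θ : Idx (e + 1) n, q θ = (A.submatrix θ.1 id).det := by
  classical
  obtain ⟨θ₀, h0⟩ := Function.ne_iff.1 hq
  rw [Pi.zero_apply] at h0
  let A' : Matrix (Fin n) (Fin (e + 1)) K := fun x t => cval q (Function.update θ₀.1 t x) / q θ₀
  let A : Matrix (Fin n) (Fin (e + 1)) K := fun x t => (if t = 0 then q θ₀ else 1) * A' x t
  refine ⟨A, congrFun ?_⟩
  have hA : ∀ a : Fin (e + 1) → Fin n, (A.submatrix a id).det = q θ₀ * (A'.submatrix a id).det := by
    intro a
    rw [show A.submatrix a id = Matrix.of (fun i j => (if j = 0 then q θ₀ else 1) * A'.submatrix a id i j) from rfl,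
      Matrix.det_mul_row]
    congr 1
    rw [prod_eq_single 0 (fun b _ hb => if_neg hb) (by simp), if_pos rfl]
  have hrow : ∀ s t, A' (θ₀.1 s) t = if s = t then 1 else 0 := by
    intro s t
    simp only [A']
    split_ifs with hst
    · subst hst
      rw [Function.update_eq_self, cval_strictMono, div_self h0]
    · rw [cval_of_not_injective, zero_div]
      exact fun hi => hst (hi (a₁ := s) (a₂ := t) (by rw [Function.update_of_ne hst, Function.update_self]))
  have hupd : ∀ t x, cval (fun θ : Idx (e + 1) n => (A.submatrix θ.1 id).det) (Function.update θ₀.1 t x) =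
      cval q (Function.update θ₀.1 t x) := by
    intro t x
    rw [show cval (fun θ : Idx (e + 1) n => (A.submatrix θ.1 id).det) _ = _ from aeval_coord K A _, hA]
    have : A'.submatrix (Function.update θ₀.1 t x) id =
        (1 : Matrix (Fin (e + 1)) (Fin (e + 1)) K).updateRow t (∑ c, A' x c • (1 : Matrix (Fin (e + 1)) (Fin (e + 1)) K) c) := by
      refine Matrix.ext fun s c => ?_
      by_cases hs : s = t
      · subst hs
        simp [Matrix.updateRow_self, Matrix.one_apply, Finset.sum_apply]
      · simp [Matrix.updateRow_ne hs, hs, hrow, Matrix.one_apply]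
    rw [this, Matrix.det_updateRow_sum, Matrix.det_one, smul_eq_mul, mul_one]
    exact mul_div_cancel₀ _ h0
  refine eq_of_agree q _ θ₀ h0 h (eval_quadric_minors A) fun θ hθ => ?_
  have hsub : ∃ t x, univ.image (Function.update θ₀.1 t x) = univ.image θ.1 := by
    have hθc : (univ.image θ.1).card = e + 1 := by simp [card_image_of_injective _ θ.2.injective]
    have hθ₀c : (univ.image θ₀.1).card = e + 1 := by simp [card_image_of_injective _ θ₀.2.injective]
    rcases Nat.le_one_iff_eq_zero_or_eq_one.1 hθ with hk | hk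
    · refine ⟨0, θ₀.1 0, ?_⟩
      rw [Function.update_eq_self]
      exact (eq_of_subset_of_card_le (sdiff_eq_empty_iff_subset.1 (card_eq_zero.1 hk)) (by omega)).symm
    · obtain ⟨x, hx⟩ := card_eq_one.1 hk
      have hxm : x ∈ univ.image θ.1 \ univ.image θ₀.1 := by rw [hx]; exact mem_singleton_self x
      obtain ⟨y, hy⟩ : (univ.image θ₀.1 \ univ.image θ.1).Nonempty := by
        rw [← card_pos]
        have h1 := card_sdiff_add_card_inter (univ.image θ.1) (univ.image θ₀.1)
        have h2 := card_sdiff_add_card_inter (univ.image θ₀.1) (univ.image θ.1)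
        rw [inter_comm] at h2
        omega
      rw [mem_sdiff] at hy hxm
      obtain ⟨t, -, rfl⟩ := mem_image.1 hy.1
      refine ⟨t, x, eq_of_subset_of_card_le (fun z hz => ?_) ?_ |>.symm⟩
      · by_cases hz0 : z ∈ univ.image θ₀.1
        · obtain ⟨s, -, rfl⟩ := mem_image.1 hz0
          exact mem_image.2 ⟨s, mem_univ _, Function.update_of_ne (fun e' : s = t => hy.2 (e' ▸ hz)) _ _⟩
        · have : z ∈ univ.image θ.1 \ univ.image θ₀.1 := mem_sdiff.2 ⟨hz, hz0⟩
          rw [hx, mem_singleton] at this
          exact this ▸ mem_image.2 ⟨t, mem_univ _, Function.update_self _ _ _⟩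
      · rw [hθc]; exact card_image_le.trans_eq (by simp)
  obtain ⟨t, x, htx⟩ := hsub
  obtain ⟨ε, hε0, hε⟩ := cval_eq_of (K := K) _ θ htx
  have := hupd t x
  rw [hε, hε] at this
  exact (mul_left_cancel₀ hε0 this).symm

end


open W4bk4grassmannian in
/-- The Grassmannian is cut out set-theoretically by the Plücker quadrics: let K be a field, e, n
natural numbers, and q : I(e+1,n) → K a nonzero vector (a point of the projective space of the
Plücker embedding of G(e+1,n)). Then q is the vector of (e+1) × (e+1) row-minors of some n × (e+1)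
matrix over K if and only if all the quadrics attached to i' ∈ I(e,n), j' ∈ I(e+2,n) (the signed
sums Σ_h (-1)^(h+1) [i', j'_h] [j' with j'_h removed], brackets of arbitrary tuples meaning signed
sorted coordinates, zero on repeated rows) vanish at q. (The published statement is over an
algebraically closed field; this row allows any field K.) -/
theorem result (K : Type u) [Field K] (e n : ℕ)
    (q : Idx (e + 1) n → K) (hq : q ≠ 0) :
    (∀ (i' : Idx e n) (j' : Idx (e + 2) n), MvPolynomial.eval q (quadric K i' j') = 0) ↔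
      ∃ A : Matrix (Fin n) (Fin (e + 1)) K, ∀ θ : Idx (e + 1) n, q θ = (A.submatrix θ.1 id).det := by
  refine ⟨exists_matrix q hq, ?_⟩
  rintro ⟨A, hA⟩ i' j'
  rw [funext hA]
  exact eval_quadric_minors A i' j'

end Groth.Agent.S11256
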