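import Groth.Statements.S11257
import Groth.Agent.DepthLib.Basic

set_option autoImplicit false
universe u
open W4bk4grassmannian

namespace Groth.Agent.S11257

/-- Let A be a Noetherian local integral domain with maximal ideal m, I and J ideals of A, d ≥ 1, and
f_1, …, f_d ∈ m. Assume depth A/(I+J) ≥ d - 1, depth A/I ≥ d and depth A/J ≥ d (depths of the
quotients as A-modules), that f_1, …, f_d is a regular sequence on A/I and on A/J, and that f_1, …,
f_{d-1} is a regular sequence on A/(I+J). Then f_1, …, f_d is a regular sequence on A/(I ∩ J). -/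
theorem result (A : Type u) [CommRing A] [IsDomain A]
    [IsNoetherianRing A] [IsLocalRing A] (I J : Ideal A) (d : ℕ) (hd : 0 < d) (f : Fin d → A)
    (hf : ∀ k, f k ∈ IsLocalRing.maximalIdeal A)
    (hIJd : ((d - 1 : ℕ) : ℕ∞) ≤ LocCoh.depth A (A ⧸ (I ⊔ J)))
    (hId : (d : ℕ∞) ≤ LocCoh.depth A (A ⧸ I)) (hJd : (d : ℕ∞) ≤ LocCoh.depth A (A ⧸ J))
    (hI : RingTheory.Sequence.IsRegular (A ⧸ I) (List.ofFn f))
    (hJ : RingTheory.Sequence.IsRegular (A ⧸ J) (List.ofFn f))
    (hIJ : RingTheory.Sequence.IsRegular (A ⧸ (I ⊔ J)) ((List.ofFn f).take (d - 1))) :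
    RingTheory.Sequence.IsRegular (A ⧸ (I ⊓ J)) (List.ofFn f) := by
  have key : ∀ (rs : List A) (x : A) (M' M M'' : Type u) [AddCommGroup M'] [Module A M'] [AddCommGroup M]
      [Module A M] [AddCommGroup M''] [Module A M''] (φ : M' →ₗ[A] M) (ψ : M →ₗ[A] M''),
      Function.Injective φ → Function.Exact φ ψ → Function.Surjective ψ →
      RingTheory.Sequence.IsWeaklyRegular M (rs ++ [x]) → RingTheory.Sequence.IsWeaklyRegular M'' rs →
      RingTheory.Sequence.IsWeaklyRegular M' (rs ++ [x]) := by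
    intro rs
    induction rs with
    | nil =>
      intro x M' M M'' _ _ _ _ _ _ φ ψ hφ _ _ hM _
      rw [List.nil_append, RingTheory.Sequence.isWeaklyRegular_singleton_iff] at hM ⊢
      exact hM.of_injective φ hφ
    | cons y rs ih =>
      intro x M' M M'' _ _ _ _ _ _ φ ψ hφ hex hψ hM hM''
      rw [List.cons_append, RingTheory.Sequence.isWeaklyRegular_cons_iff] at hM ⊢
      rw [RingTheory.Sequence.isWeaklyRegular_cons_iff] at hM''
      have h4 := QuotSMulTop.map_first_exact_on_four_term_exact_of_isSMulRegular_last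
        (f₁ := (0 : PUnit.{u + 1} →ₗ[A] M')) (f₂ := φ) (f₃ := ψ)
        ((LinearMap.exact_zero_iff_injective _ φ).mpr hφ) hex hM''.1
      rw [map_zero, LinearMap.exact_zero_iff_injective] at h4
      exact ⟨hM.1.of_injective φ hφ, ih x _ _ (QuotSMulTop y M'') (QuotSMulTop.map y φ)
        (QuotSMulTop.map y ψ) h4 (QuotSMulTop.map_exact y hex hψ) (QuotSMulTop.map_surjective y hψ) hM.2 hM''.2⟩
  have hprod : ∀ (rs : List A) (M N : Type u) [AddCommGroup M] [Module A M] [AddCommGroup N] [Module A N],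
      RingTheory.Sequence.IsWeaklyRegular M rs → RingTheory.Sequence.IsWeaklyRegular N rs →
      RingTheory.Sequence.IsWeaklyRegular (M × N) rs := by
    intro rs
    induction rs with
    | nil => intros; exact .nil A _
    | cons y rs ih =>
      intro M N _ _ _ _ hM hN
      rw [RingTheory.Sequence.isWeaklyRegular_cons_iff] at hM hN ⊢
      refine ⟨fun a b hab => Prod.ext (hM.1 (congrArg Prod.fst hab)) (hN.1 (congrArg Prod.snd hab)), ?_⟩
      let g := (QuotSMulTop.map y (LinearMap.fst A M N)).prod (QuotSMulTop.map y (LinearMap.snd A M N))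
      have hg : Function.Bijective g := by
        constructor
        · rw [← LinearMap.ker_eq_bot, eq_bot_iff]
          intro z hz
          obtain ⟨⟨m, n⟩, rfl⟩ := Submodule.Quotient.mk_surjective _ z
          rw [LinearMap.mem_ker, LinearMap.prod_apply, Function.prod_apply, Prod.mk_eq_zero,
            QuotSMulTop.map_apply_mk, QuotSMulTop.map_apply_mk, Submodule.Quotient.mk_eq_zero,
            Submodule.Quotient.mk_eq_zero, Submodule.mem_smul_pointwise_iff_exists,
            Submodule.mem_smul_pointwise_iff_exists] at hz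
          obtain ⟨⟨m', -, hm⟩, ⟨n', -, hn⟩⟩ := hz
          rw [Submodule.mem_bot, Submodule.Quotient.mk_eq_zero, Submodule.mem_smul_pointwise_iff_exists]
          exact ⟨(m', n'), trivial, Prod.ext hm hn⟩
        · rintro ⟨a, b⟩
          obtain ⟨m, rfl⟩ := Submodule.Quotient.mk_surjective _ a
          obtain ⟨n, rfl⟩ := Submodule.Quotient.mk_surjective _ b
          exact ⟨Submodule.Quotient.mk (m, n), rfl⟩
      rw [(LinearEquiv.ofBijective g hg).isWeaklyRegular_congr]
      exact ih _ _ hM.2 hN.2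
  let φ : (A ⧸ (I ⊓ J)) →ₗ[A] (A ⧸ I) × (A ⧸ J) :=
    (Submodule.mapQ (I ⊓ J) I LinearMap.id inf_le_left).prod (Submodule.mapQ (I ⊓ J) J LinearMap.id inf_le_right)
  let ψ : (A ⧸ I) × (A ⧸ J) →ₗ[A] A ⧸ (I ⊔ J) :=
    Submodule.mapQ I (I ⊔ J) LinearMap.id le_sup_left ∘ₗ LinearMap.fst A _ _ -
      Submodule.mapQ J (I ⊔ J) LinearMap.id le_sup_right ∘ₗ LinearMap.snd A _ _
  have hφ : Function.Injective φ := by
    rw [← LinearMap.ker_eq_bot, eq_bot_iff]
    intro z hz
    obtain ⟨a, rfl⟩ := Submodule.Quotient.mk_surjective _ z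
    rw [LinearMap.mem_ker, LinearMap.prod_apply, Function.prod_apply, Prod.mk_eq_zero, Submodule.mapQ_apply,
      Submodule.mapQ_apply, LinearMap.id_apply, Submodule.Quotient.mk_eq_zero, Submodule.Quotient.mk_eq_zero] at hz
    rw [Submodule.mem_bot, Submodule.Quotient.mk_eq_zero]
    exact ⟨hz.1, hz.2⟩
  have hex : Function.Exact φ ψ := by
    rintro ⟨a, b⟩
    obtain ⟨a, rfl⟩ := Submodule.Quotient.mk_surjective _ a
    obtain ⟨b, rfl⟩ := Submodule.Quotient.mk_surjective _ b
    simp only [ψ, LinearMap.sub_apply, LinearMap.comp_apply, LinearMap.fst_apply, LinearMap.snd_apply,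
      Submodule.mapQ_apply, LinearMap.id_apply, ← Submodule.Quotient.mk_sub, Submodule.Quotient.mk_eq_zero]
    constructor
    · intro h
      obtain ⟨i, hi, j, hj, hij⟩ := Submodule.mem_sup.mp h
      refine ⟨Submodule.Quotient.mk (a - i), Prod.ext ?_ ?_⟩
      · exact (Submodule.Quotient.eq I).mpr (by simpa using I.neg_mem hi)
      · refine (Submodule.Quotient.eq J).mpr ?_
        have : a - i - b = j := by rw [sub_right_comm, ← hij]; abel
        exact this ▸ hj
    · rintro ⟨c, hc⟩
      obtain ⟨c, rfl⟩ := Submodule.Quotient.mk_surjective _ c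
      have h1 := (Submodule.Quotient.eq I).mp (congrArg Prod.fst hc)
      have h2 := (Submodule.Quotient.eq J).mp (congrArg Prod.snd hc)
      have : a - b = -(c - a) + (c - b) := by abel
      rw [this]
      exact add_mem (Submodule.mem_sup_left (I.neg_mem h1)) (Submodule.mem_sup_right h2)
  have hψ : Function.Surjective ψ := fun z => by
    obtain ⟨c, rfl⟩ := Submodule.Quotient.mk_surjective _ z
    exact ⟨(Submodule.Quotient.mk c, 0), by simp [ψ]⟩
  obtain ⟨e, rfl⟩ : ∃ e, d = e + 1 := ⟨d - 1, by omega⟩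
  have hsplit : List.ofFn f = (List.ofFn f).take (e + 1 - 1) ++ [f (Fin.last e)] := by
    rw [List.ofFn_succ', List.concat_eq_append, List.take_left' (by simp)]
  have hwk : RingTheory.Sequence.IsWeaklyRegular (A ⧸ (I ⊓ J)) (List.ofFn f) := by
    rw [hsplit]
    refine key _ _ _ _ _ φ ψ hφ hex hψ ?_ hIJ.toIsWeaklyRegular
    rw [← hsplit]
    exact hprod _ _ _ hI.toIsWeaklyRegular hJ.toIsWeaklyRegular
  haveI : Nontrivial (A ⧸ (I ⊓ J)) := by
    haveI := hI.nontrivial
    refine Function.Surjective.nontrivial (f := Submodule.mapQ (I ⊓ J) I LinearMap.id inf_le_left) fun z => ?_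
    obtain ⟨c, rfl⟩ := Submodule.Quotient.mk_surjective _ z
    exact ⟨Submodule.Quotient.mk c, rfl⟩
  exact (IsLocalRing.isRegular_iff_isWeaklyRegular_of_subset_maximalIdeal (fun r hr => by
    obtain ⟨i, rfl⟩ := List.mem_ofFn.mp hr; exact hf i)).mpr hwk

end Groth.Agent.S11257
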