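import Groth.Statements.S1126
import Groth.Agent.AWN.Normal
-- import your own Groth.Agent.* helpers here

set_option autoImplicit false
open CategoryTheory CategoryTheory.Limits AlgebraicGeometry Opposite
universe u
open Desc

open Groth.Agent.AWN

namespace Groth.Agent.S1126

/-- If the base change of a morphism along a quasi-compact flat surjective morphism to its target is a
universal homeomorphism, then the morphism is a universal homeomorphism. (Stated for a single
quasi-compact flat surjective base change; combined with Zariski-locality on the target this gives
the fpqc-local form.) -/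
theorem result :
    MorphismProperty.DescendsAlong (FlatMor.IsUnivHomeo.{u})
      (@Surjective ⊓ @Flat ⊓ @QuasiCompact : MorphismProperty Scheme.{u}) := by
    haveI : FlatMor.IsUnivHomeo.{u}.IsStableUnderBaseChange := MorphismProperty.universally_isStableUnderBaseChange _
    haveI : FlatMor.IsUnivHomeo.{u}.RespectsIso := inferInstance
    refine MorphismProperty.DescendsAlong.mk' fun {X Y Z} f g _ hf hfst => ?_
    haveI : UniversallyClosed g := MorphismProperty.of_pullback_fst_of_descendsAlong (P := @UniversallyClosed)
      (Q := @Surjective ⊓ @Flat ⊓ @QuasiCompact) hf ⟨fun _ _ i j q h => (hfst i j q h).isClosedMap⟩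
    haveI : UniversallyInjective g := MorphismProperty.of_pullback_fst_of_descendsAlong (P := @UniversallyInjective)
      (Q := @Surjective ⊓ @Flat ⊓ @QuasiCompact) hf ⟨fun _ _ i j q h => (hfst i j q h).injective⟩
    haveI : Surjective g := MorphismProperty.of_pullback_fst_of_descendsAlong (P := @Surjective)
      (Q := @Surjective ⊓ @Flat ⊓ @QuasiCompact) hf ⟨(isHomeomorph_of_univHomeo hfst).surjective⟩
    intro X' Y' i j q hsq
    haveI : UniversallyClosed q := MorphismProperty.of_isPullback hsq.flip ‹UniversallyClosed g›
    haveI : UniversallyInjective q := MorphismProperty.of_isPullback hsq.flip ‹UniversallyInjective g›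
    haveI : Surjective q := MorphismProperty.of_isPullback hsq.flip ‹Surjective g›
    exact isHomeomorph_iff_continuous_isClosedMap_bijective.mpr ⟨q.continuous, q.isClosedMap, q.injective, q.surjective⟩

end Groth.Agent.S1126
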