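import Groth.Statements.S11260
import Groth.Agent.StdMon.BigCell


set_option autoImplicit false
universe u
open W4bk4grassmannian

namespace Groth.Agent.S11260

open W4bk4grassmannian Finset in
theorem divisor_eq {d n : ℕ} {τ φ : Idx d n} (hφ : φ ∈ divisors τ) :
    ∃ p : Fin d, (φ.1 p).val + 1 = (τ.1 p).val ∧ ∀ q, q ≠ p → φ.1 q = τ.1 q := by
  have hwt : Groth.Agent.StdMon.wt φ + 1 = Groth.Agent.StdMon.wt τ := by
    rw [Groth.Agent.StdMon.wt_eq_codeg_add, Groth.Agent.StdMon.wt_eq_codeg_add]
    have := hφ.2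
    omega
  obtain ⟨p, hp⟩ : ∃ p, φ.1 p < τ.1 p := by
    by_contra h
    push Not at h
    exact hφ.1.not_ge fun t => h t
  have hle : ∀ q ∈ univ.erase p, (φ.1 q).val ≤ (τ.1 q).val := fun q _ => Fin.le_def.1 (hφ.1.le q)
  have h1 : ∑ q ∈ univ.erase p, (φ.1 q).val ≤ ∑ q ∈ univ.erase p, (τ.1 q).val := sum_le_sum hle
  simp only [Groth.Agent.StdMon.wt] at hwt
  rw [← add_sum_erase univ _ (mem_univ p), ← add_sum_erase univ (fun q => (τ.1 q).val) (mem_univ p)] at hwt
  have := Fin.lt_def.1 hp
  refine ⟨p, by omega, fun q hq => ?_⟩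
  have heq : ∑ q ∈ univ.erase p, (φ.1 q).val = ∑ q ∈ univ.erase p, (τ.1 q).val := by omega
  exact Fin.ext ((sum_eq_sum_iff_of_le hle).1 heq q (mem_erase.2 ⟨hq, mem_univ q⟩))

open W4bk4grassmannian Finset in
theorem exists_dec {d n : ℕ} (τ : Idx d n) (t : Fin d) (ht : t.val < (τ.1 t).val)
    (hpred : ∀ t' : Fin d, t'.val + 1 = t.val → (τ.1 t').val + 1 < (τ.1 t).val) :
    ∃ φ ∈ divisors τ, φ.1 t < τ.1 t := by
  have hlt := (τ.1 t).isLt
  let f : Fin d → Fin n := Function.update τ.1 t ⟨(τ.1 t).val - 1, by omega⟩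
  have hf : StrictMono f := by
    intro a b hab
    by_cases ha : a = t
    · subst ha
      simp only [f, Function.update_self, Function.update_of_ne hab.ne']
      have := Fin.lt_def.1 (τ.2 hab)
      exact Fin.lt_def.2 (by simp; omega)
    · by_cases hb : b = t
      · subst hb
        simp only [f, Function.update_self, Function.update_of_ne ha]
        have hab' := Fin.lt_def.1 hab
        have h1 := hpred ⟨b.val - 1, by omega⟩ (by simp only; omega)
        have h2 := Fin.le_def.1 (τ.2.monotone (show a ≤ (⟨b.val - 1, by omega⟩ : Fin d) from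
          Fin.le_def.2 (by simp only; omega)))
        exact Fin.lt_def.2 (by simp; omega)
      · simpa [f, Function.update_of_ne ha, Function.update_of_ne hb] using τ.2 hab
  have hle : f ≤ τ.1 := fun s => by
    by_cases hs : s = t
    · subst hs; simp [f, Fin.le_def]
    · simp [f, Function.update_of_ne hs]
  have hft : (f t).val + 1 = (τ.1 t).val := by simp [f]; omega
  refine ⟨⟨f, hf⟩, ⟨lt_of_le_of_ne hle fun e => ?_, ?_⟩, Fin.lt_def.2 (by simp only; omega)⟩
  · have he := congrArg (fun g : Idx d n => (g.1 t).val) e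
    simp only at he
    omega
  · have h1 := Groth.Agent.StdMon.wt_eq_codeg_add (⟨f, hf⟩ : Idx d n)
    have h2 := Groth.Agent.StdMon.wt_eq_codeg_add τ
    have h3 : ∑ s ∈ univ.erase t, (f s).val = ∑ s ∈ univ.erase t, (τ.1 s).val :=
      sum_congr rfl fun s hs => by simp [f, Function.update_of_ne (mem_erase.1 hs).1]
    simp only [Groth.Agent.StdMon.wt] at h1 h2
    rw [← add_sum_erase univ _ (mem_univ t)] at h1 h2
    omega


open W4bk4grassmannian in
/-- (2) ⇔ (3) ⇔ (4): let K be an algebraically closed field, 0 < d < n, and I(d,n) the strictly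
increasing maps Fin d → Fin n ordered entrywise; S = K[X_θ : θ ∈ I(d,n)] is the Plücker polynomial
ring and, for τ ∈ I(d,n), J(τ) ⊆ S is the ideal of polynomials vanishing at the d × d row-minors of
every n × d matrix over K whose minors on rows φ ≰ τ are zero (the homogeneous ideal of the Schubert
variety X(τ) ⊆ G(d,n)). Let R = S/J(τ). The following are equivalent: (1) R is a unique
factorization domain; (2) the class of X_τ is a prime element of R; (3) τ has at most one Schubert
divisor (φ < τ with Σ_t (φ_t - t) + 1 = Σ_t (τ_t - t)); (4) for some s, τ_t = t for all t < s and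
the entries τ_t with t ≥ s are consecutive (0-indexed; τ is a single run of consecutive values, or
begins with 0, 1, …, s - 1 followed by a single run). (The published (3) reads: exactly one Schubert
divisor; for the zero-dimensional Schubert variety there is none while (1), (2), (4) hold, so (3) is
stated as: at most one.) -/
theorem result (K : Type u) [Field K] [IsAlgClosed K] (d n : ℕ)
    (hd : 0 < d) (hdn : d < n) (τ : Idx d n) :
    (UniqueFactorizationMonoid (PlRing K d n ⧸ schubertVanishing K d n τ) ↔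
        Prime (Ideal.Quotient.mk (schubertVanishing K d n τ) (MvPolynomial.X τ))) ∧
      (Prime (Ideal.Quotient.mk (schubertVanishing K d n τ) (MvPolynomial.X τ)) ↔
        (divisors τ).Subsingleton) ∧
      ((divisors τ).Subsingleton ↔
        ∃ s : ℕ, (∀ t : Fin d, t.val < s → (τ.1 t).val = t.val) ∧
          ∀ t t' : Fin d, s ≤ t.val → t.val + 1 = t'.val → (τ.1 t).val + 1 = (τ.1 t').val) := by
  refine ⟨Groth.Agent.StdMon.ufm_iff_prime_X hd hdn.le τ, Groth.Agent.StdMon.prime_X_iff hd hdn.le τ, ?_, ?_⟩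
  · intro hs
    classical
    by_cases hall : ∀ t : Fin d, (τ.1 t).val = t.val
    · exact ⟨d, fun t _ => hall t, fun t _ h => absurd t.isLt (by omega)⟩
    let S := Finset.univ.filter fun t : Fin d => (τ.1 t).val ≠ t.val
    have hS : S.Nonempty := by
      push Not at hall
      obtain ⟨t, ht⟩ := hall
      exact ⟨t, Finset.mem_filter.2 ⟨Finset.mem_univ _, ht⟩⟩
    let t₀ := S.min' hS
    have ht₀ : (τ.1 t₀).val ≠ t₀.val := (Finset.mem_filter.1 (S.min'_mem hS)).2
    have hpre : ∀ t : Fin d, t.val < t₀.val → (τ.1 t).val = t.val := by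
      intro t ht
      by_contra h
      exact (Fin.le_def.1 (S.min'_le t (Finset.mem_filter.2 ⟨Finset.mem_univ _, h⟩))).not_gt ht
    have hgt : t₀.val < (τ.1 t₀).val := lt_of_le_of_ne (Groth.Agent.StdMon.val_le_apply τ t₀) (Ne.symm ht₀)
    obtain ⟨φ₀, hφ₀, hlt₀⟩ := exists_dec τ t₀ hgt fun t' ht' => by
      rw [hpre t' (by omega)]; omega
    refine ⟨t₀.val, hpre, fun t t' ht htt' => ?_⟩
    by_contra hne
    have hsucc : (τ.1 t).val + 1 < (τ.1 t').val := by
      have := Fin.lt_def.1 (τ.2 (show t < t' from Fin.lt_def.2 (by omega)))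
      omega
    have := Groth.Agent.StdMon.val_le_apply τ t
    obtain ⟨φ₁, hφ₁, hlt₁⟩ := exists_dec τ t' (by omega) fun t'' h'' => by
      obtain rfl : t'' = t := Fin.ext (by omega)
      exact hsucc
    obtain rfl := hs hφ₀ hφ₁
    obtain ⟨p, -, hp⟩ := divisor_eq hφ₀
    have h1 : t₀ = p := by_contra fun h => hlt₀.ne (hp t₀ h)
    have h2 : t' = p := by_contra fun h => hlt₁.ne (hp t' h)
    have h3 := congrArg Fin.val (h1.trans h2.symm)
    omega
  · rintro ⟨s, hpre, hcons⟩
    have key : ∀ φ ∈ divisors τ, ∃ p : Fin d, p.val = s ∧ (φ.1 p).val + 1 = (τ.1 p).val ∧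
        ∀ q, q ≠ p → φ.1 q = τ.1 q := by
      intro φ hφ
      obtain ⟨p, hp, hq⟩ := divisor_eq hφ
      refine ⟨p, ?_, hp, hq⟩
      have := Groth.Agent.StdMon.val_le_apply φ p
      have hps : s ≤ p.val := by
        by_contra h
        have := hpre p (by omega)
        omega
      by_contra hne
      let p' : Fin d := ⟨p.val - 1, by omega⟩
      have h1 := hcons p' p (by simp only [p']; omega) (by simp only [p']; omega)
      have hp' : p' ≠ p := fun h => by have := congrArg Fin.val h; simp only [p'] at this; omega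
      have h2 := Fin.lt_def.1 (φ.2 (show p' < p from Fin.lt_def.2 (by simp only [p']; omega)))
      rw [hq p' hp'] at h2
      omega
    intro a ha b hb
    obtain ⟨p, hp, h1, h2⟩ := key a ha
    obtain ⟨p', hp', h1', h2'⟩ := key b hb
    obtain rfl : p' = p := Fin.ext (hp'.trans hp.symm)
    refine Subtype.ext (funext fun q => ?_)
    by_cases h : q = p'
    · subst h; exact Fin.ext (by omega)
    · rw [h2 q h, h2' q h]

end Groth.Agent.S11260
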