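import Groth.Statements.S11261
import Groth.Agent.StdMon.Cell
import Mathlib.RingTheory.MvPolynomial.WeightedHomogeneous


set_option autoImplicit false
universe u
open W4bk4grassmannian

namespace Groth.Agent.S11261

section
open W4bk4grassmannian Finset Groth.Agent.StdMon MvPolynomial

variable {K : Type u} [Field K] {d n : ℕ}

/-- The multiset of rows of an index. -/
noncomputable def wgt (θ : Idx d n) : Fin n →₀ ℕ := ∑ t, Finsupp.single (θ.1 t) 1

/-- The row grading of the matrix ring. -/
noncomputable def rowW (d n : ℕ) : Fin n × Fin d → (Fin n →₀ ℕ) := fun p => Finsupp.single p.1 1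

theorem isWH_evP_X (v w θ : Idx d n) : IsWeightedHomogeneous (rowW d n) (evP K v w (X θ)) (wgt θ) := by
  classical
  rw [evP_X, Matrix.det_apply]
  refine IsWeightedHomogeneous.sum _ _ _ fun σ _ => ?_
  have h : IsWeightedHomogeneous (rowW d n) (∏ t, (pat K v w).submatrix θ.1 id (σ t) t) (wgt θ) := by
    rw [wgt, ← Equiv.sum_comp σ]
    refine IsWeightedHomogeneous.prod _ _ _ fun t _ => ?_
    simp only [Matrix.submatrix_apply, pat, id]
    split_ifs
    · exact isWeightedHomogeneous_X K (rowW d n) (θ.1 (σ t), t)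
    · exact isWeightedHomogeneous_zero _ _ _
  rcases Int.units_eq_one_or (Equiv.Perm.sign σ) with e | e <;> rw [e]
  · simpa using h
  · simp only [Units.neg_smul, one_smul]
    exact (weightedHomogeneousSubmodule K (rowW d n) (wgt θ)).neg_mem h

theorem isWH_evP_chainMon (v w : Idx d n) {m : ℕ} (c : Fin m → Idx d n) :
    IsWeightedHomogeneous (rowW d n) (evP K v w (chainMon K c)) (∑ k, wgt (c k)) := by
  rw [chainMon, map_prod]
  exact IsWeightedHomogeneous.prod _ _ _ fun k _ => isWH_evP_X v w (c k)

theorem degree_wgt (θ : Idx d n) : (wgt θ).degree = d := by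
  simp [wgt, map_sum]

theorem wgt_apply (θ : Idx d n) (x : Fin n) : wgt θ x = if x ∈ univ.image θ.1 then 1 else 0 := by
  classical
  simp only [wgt, Finsupp.finsetSum_apply, Finsupp.single_apply]
  split_ifs with h
  · obtain ⟨t, -, rfl⟩ := mem_image.1 h
    rw [sum_eq_single t]
    · simp
    · intro b _ hb
      simp [θ.2.injective.ne hb]
    · simp
  · refine sum_eq_zero fun t _ => ?_
    rw [if_neg]
    exact fun e => h (mem_image.2 ⟨t, mem_univ _, e⟩)

theorem wgt_injective : Function.Injective (wgt (d := d) (n := n)) := by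
  intro θ θ' h
  refine idx_ext (Finset.ext fun x => ?_)
  have := congrArg (fun f => f x) h
  simp only [wgt_apply] at this
  split_ifs at this <;> simp_all

theorem wgt_sup_add_inf (τ φ : Idx d n) :
    wgt (W4bk4grassmannian.sup τ φ) + wgt (W4bk4grassmannian.inf τ φ) = wgt τ + wgt φ := by
  simp only [wgt, ← sum_add_distrib]
  refine sum_congr rfl fun t _ => ?_
  rcases le_total (τ.1 t) (φ.1 t) with h | h <;>
    simp [W4bk4grassmannian.sup, W4bk4grassmannian.inf, h, add_comm]

theorem det_union_eq_one (A : Matrix (Fin n) (Fin d) K) (τ φ : Idx d n)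
    (hA : ∀ i t, A i t = if i = τ.1 t ∨ i = φ.1 t then 1 else 0) : (A.submatrix τ.1 id).det = 1 := by
  classical
  rw [Matrix.det_apply, sum_eq_single (1 : Equiv.Perm (Fin d))]
  · simp [hA]
  · intro σ _ hσ
    suffices h : ∃ t, A (τ.1 (σ t)) t = 0 by
      obtain ⟨t, ht⟩ := h
      rw [prod_eq_zero (f := fun x => A.submatrix τ.1 id (σ x) x) (mem_univ t) ht, smul_zero]
    by_contra hc
    push Not at hc
    let M := univ.filter fun t => σ t ≠ t
    have hM : M.Nonempty := by
      by_contra hempty
      refine hσ (Equiv.ext fun t => ?_)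
      by_contra ht
      exact hempty ⟨t, mem_filter.2 ⟨mem_univ _, ht⟩⟩
    have hmov : ∀ t ∈ M, φ.1 t = τ.1 (σ t) := by
      intro t ht
      have := hc t
      simp only [hA, ne_eq, ite_eq_right_iff, one_ne_zero, imp_false, not_not] at this
      rcases this with h | h
      · exact absurd (τ.2.injective h) (mem_filter.1 ht).2
      · exact h.symm
    let t := M.max' hM
    have ht : t ∈ M := M.max'_mem hM
    have hne := (mem_filter.1 ht).2
    have h1 : σ t ∈ M := mem_filter.2 ⟨mem_univ _, fun e => hne (σ.injective e)⟩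
    have h2 : σ.symm t ∈ M := mem_filter.2 ⟨mem_univ _, fun e => hne (by
      rw [Equiv.apply_symm_apply] at e
      conv_lhs => rw [e]
      exact σ.apply_symm_apply t)⟩
    have e1 : φ.1 t ≤ τ.1 t := (hmov t ht).trans_le (τ.2.monotone (M.le_max' _ h1))
    have e2 : τ.1 t ≤ φ.1 t := by
      have := hmov _ h2
      rw [Equiv.apply_symm_apply] at this
      exact this.ge.trans (φ.2.monotone (M.le_max' _ h2))
    exact hne (τ.2.injective ((hmov t ht).symm.trans (le_antisymm e1 e2)))
  · simp

theorem straightening (hd : 0 < d) (hdn : d ≤ n) [Infinite K] (τ φ : Idx d n) :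
    ∃ g ∈ Submodule.span K {f : PlRing K d n | ∃ α β : Idx d n,
        β ≤ α ∧ W4bk4grassmannian.sup τ φ < α ∧ β < W4bk4grassmannian.inf τ φ ∧
          f = MvPolynomial.X α * MvPolynomial.X β},
      MvPolynomial.X τ * MvPolynomial.X φ -
          MvPolynomial.X (W4bk4grassmannian.sup τ φ) * MvPolynomial.X (W4bk4grassmannian.inf τ φ) - g ∈
        vanishing K d n := by
  classical
  let s := W4bk4grassmannian.sup τ φ
  let i := W4bk4grassmannian.inf τ φ
  let top : Idx d n := ⟨fun t => ⟨n - d + t.val, by omega⟩,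
    fun a b h => Fin.lt_def.2 (Nat.add_lt_add_left (Fin.lt_def.1 h) _)⟩
  have le_top : ∀ θ, θ ≤ top := by
    intro θ t
    have hlast : (θ.1 t).val + (d - 1 - t.val) < n := by
      have key : ∀ k : ℕ, ∀ hk : t.val + k < d, (θ.1 t).val + k ≤ (θ.1 ⟨t.val + k, hk⟩).val := by
        intro k
        induction k with
        | zero => intros; simp
        | succ k ih =>
          intro hk
          have := ih (by omega)
          have h := Fin.lt_def.1 (θ.2 (show (⟨t.val + k, by omega⟩ : Fin d) < ⟨t.val + (k + 1), hk⟩ from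
            Fin.lt_def.2 (by simp only; omega)))
          omega
      exact (key _ (by omega)).trans_lt (Fin.isLt _)
    have := t.isLt
    exact Fin.le_def.2 (by simp only [top]; omega)
  have hvan : vanishing K d n = schubertVanishing K d n top := by
    ext f
    rw [mem_schubertVanishing_iff, vanishing]
    simp only [Ideal.mem_iInf, RingHom.mem_ker, AlgHom.toRingHom_eq_coe, RingHom.coe_coe]
    exact ⟨fun h A _ => h A, fun h A => h A fun φ hφ => absurd (le_top φ) hφ⟩
  have hker : ∀ v w f, f ∈ vanishing K d n → evP K v w f = 0 := fun v w f hf => by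
    rw [hvan, ← plIdeal_eq_schubertVanishing hd hdn] at hf
    exact plIdeal_le_ker_evP (le_top w) hf
  obtain ⟨a, ha, hfa⟩ := exists_comb K (X τ * X φ : PlRing K d n)
  let p : Tup d n → Prop := fun c => ∑ k, wgt (c.2 k) = wgt τ + wgt φ
  let a₁ := a.filter p
  have ha₁ : ∀ c ∈ a₁.support, Antitone c.2 ∧ p c := fun c hc => by
    rw [Finsupp.support_filter, mem_filter] at hc
    exact ⟨ha c hc.1, hc.2⟩
  have hX : X τ * X φ = chainMon K ![τ, φ] := by simp [chainMon, Fin.prod_univ_two]
  have h1 : X τ * X φ - comb K d n a₁ ∈ vanishing K d n := by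
    rw [hvan, schubertVanishing_eq_ker hd hdn, RingHom.mem_ker, AlgHom.toRingHom_eq_coe, RingHom.coe_coe,
      map_sub, sub_eq_zero]
    have h0 : evP K (bot hdn) top (X τ * X φ) = evP K (bot hdn) top (comb K d n a) := by
      rw [← sub_eq_zero, ← map_sub]
      exact evP_eq_zero_of_mem_plIdealTop _ _ hfa
    have h0' := congrArg (weightedHomogeneousComponent (rowW d n) (wgt τ + wgt φ)) h0
    have hwX : IsWeightedHomogeneous (rowW d n) (evP K (bot hdn) top (X τ * X φ)) (wgt τ + wgt φ) := by
      rw [hX]
      simpa [Fin.sum_univ_two] using isWH_evP_chainMon (K := K) (bot hdn) top ![τ, φ]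
    rw [hwX.weightedHomogeneousComponent_same] at h0'
    rw [h0', evP_comb, evP_comb, Finsupp.sum, Finsupp.sum, map_sum, Finsupp.support_filter, sum_filter]
    refine sum_congr rfl fun c _ => ?_
    rw [map_smul]
    split_ifs with hc
    · rw [show a₁ c = a c from Finsupp.filter_apply_pos _ _ hc,
        IsWeightedHomogeneous.weightedHomogeneousComponent_same (hc ▸ isWH_evP_chainMon (bot hdn) top c.2)]
    · rw [(isWH_evP_chainMon (bot hdn) top c.2).weightedHomogeneousComponent_ne _ (fun e => hc e.symm),
        smul_zero]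
  have hlen : ∀ c ∈ a₁.support, c.1 = 2 := by
    intro c hc
    have h := congrArg Finsupp.degree (ha₁ c hc).2
    simp only [map_sum, map_add, degree_wgt, sum_const, card_univ, Fintype.card_fin, smul_eq_mul] at h
    exact Nat.eq_of_mul_eq_mul_right hd (by omega)
  have hcs : ∀ (c : Fin 2 → Idx d n), (⟨2, c⟩ : Tup d n) ∈ a₁.support →
      c = ![s, i] ∨ (c 1 ≤ c 0 ∧ s < c 0 ∧ c 1 < i) := by
    intro c hc
    obtain ⟨hanti, hp⟩ := ha₁ _ hc
    have hne := Finsupp.mem_support_iff.1 hc
    have hle : c 1 ≤ c 0 := hanti (Fin.zero_le _)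
    have hev : ∀ v w : Idx d n, (v ≤ c 1) → (c 0 ≤ w) → evP K v w (X τ * X φ) ≠ 0 := by
      intro v w hv hw h0
      refine hne (coeff_eq_zero hd v w a₁ (fun x hx => (ha₁ x hx).1) ?_ c fun k => ?_)
      · have := hker v w _ h1
        rwa [map_sub, h0, zero_sub, neg_eq_zero] at this
      · fin_cases k
        · exact ⟨hv.trans hle, hw⟩
        · exact ⟨hv, hle.trans hw⟩
    have hs : s ≤ c 0 := by
      have h := hev (bot hdn) (c 0) (bot_le _ _) le_rfl
      rw [map_mul] at h
      refine sup_le' ?_ ?_
      · by_contra hh; exact h (by rw [evP_X_eq_zero fun h' => hh h'.2, zero_mul])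
      · by_contra hh; exact h (by rw [evP_X_eq_zero (θ := φ) fun h' => hh h'.2, mul_zero])
    have hi : c 1 ≤ i := by
      have h := hev (c 1) top le_rfl (le_top _)
      rw [map_mul] at h
      refine le_inf_iff'.2 ⟨?_, ?_⟩
      · by_contra hh; exact h (by rw [evP_X_eq_zero fun h' => hh h'.1, zero_mul])
      · by_contra hh; exact h (by rw [evP_X_eq_zero (θ := φ) fun h' => hh h'.1, mul_zero])
    have hsum : wgt (c 0) + wgt (c 1) = wgt s + wgt i := by
      rw [wgt_sup_add_inf, ← hp, Fin.sum_univ_two]
    by_cases h0 : c 0 = s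
    · left
      have h1' : c 1 = i := wgt_injective (add_left_cancel (h0 ▸ hsum))
      funext k; fin_cases k <;> simp [h0, h1']
    · refine Or.inr ⟨hle, lt_of_le_of_ne hs (Ne.symm h0), lt_of_le_of_ne hi fun h1' => h0 ?_⟩
      exact wgt_injective (add_right_cancel (h1' ▸ hsum))
  let c₀ : Tup d n := ⟨2, ![s, i]⟩
  let g := comb K d n (a₁.erase c₀)
  have hg : comb K d n a₁ = a₁ c₀ • (X s * X i) + g := by
    conv_lhs => rw [← Finsupp.single_add_erase c₀ a₁]
    rw [map_add, comb, Finsupp.linearCombination_single]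
    simp [c₀, chainMon, Fin.prod_univ_two, g, comb]
  let A : Matrix (Fin n) (Fin d) K := fun x t => if x = τ.1 t ∨ x = φ.1 t then 1 else 0
  have hpat : InPattern i s A := by
    intro x t hxt
    refine if_neg ?_
    rintro (rfl | rfl) <;> exact hxt ⟨by simp [i, W4bk4grassmannian.inf], by simp [s, W4bk4grassmannian.sup]⟩
  have hone : a₁ c₀ = 1 := by
    have hev := h1
    rw [vanishing, Ideal.mem_iInf] at hev
    have h := hev A
    rw [RingHom.mem_ker, AlgHom.toRingHom_eq_coe, RingHom.coe_coe, hg, map_sub, map_mul, map_add, map_smul,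
      map_mul] at h
    have hX' : ∀ θ : Idx d n, evalMinors K d n A (X θ) = (A.submatrix θ.1 id).det := fun θ => aeval_X _ _
    have hτ : (A.submatrix τ.1 id).det = 1 := det_union_eq_one A τ φ fun _ _ => rfl
    have hφ : (A.submatrix φ.1 id).det = 1 := det_union_eq_one A φ τ fun _ _ => if_congr or_comm rfl rfl
    have hsd : (A.submatrix s.1 id).det = 1 := by
      rw [Matrix.det_of_upperTriangular]
      · refine prod_eq_one fun t _ => ?_
        rcases max_choice (τ.1 t) (φ.1 t) with e | e <;> simp [A, s, W4bk4grassmannian.sup, e]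
      · intro x y hxy
        refine if_neg ?_
        have h1 := τ.2 (show y < x from hxy)
        have h2 := φ.2 (show y < x from hxy)
        rintro (e | e) <;> simp only [id, s, W4bk4grassmannian.sup] at e
        · exact (lt_of_lt_of_le h1 (le_max_left _ (φ.1 x))).ne e.symm
        · exact (lt_of_lt_of_le h2 (le_max_right (τ.1 x) _)).ne e.symm
    have hid : (A.submatrix i.1 id).det = 1 := by
      rw [Matrix.det_of_lowerTriangular]
      · refine prod_eq_one fun t _ => ?_
        rcases min_choice (τ.1 t) (φ.1 t) with e | e <;> simp [A, i, W4bk4grassmannian.inf, e]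
      · intro x y hxy
        refine if_neg ?_
        have h1 := τ.2 (show x < y from hxy)
        have h2 := φ.2 (show x < y from hxy)
        rintro (e | e) <;> simp only [id, i, W4bk4grassmannian.inf] at e
        · exact (lt_of_le_of_lt (min_le_left _ (φ.1 x)) h1).ne e
        · exact (lt_of_le_of_lt (min_le_right (τ.1 x) _) h2).ne e
    have hg0 : evalMinors K d n A g = 0 := by
      rw [show g = comb K d n (a₁.erase c₀) from rfl, comb, Finsupp.linearCombination_apply, map_finsuppSum]
      refine sum_eq_zero fun c hc => ?_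
      rw [Finsupp.support_erase, mem_erase] at hc
      obtain ⟨m, c⟩ := c
      obtain rfl : m = 2 := hlen _ hc.2
      rcases hcs c hc.2 with e | ⟨-, hlt, -⟩
      · exact absurd (by rw [e]) hc.1
      · simp only [map_smul, chainMon, Fin.prod_univ_two, map_mul, hX']
        rw [det_eq_zero_of_inPattern hpat (fun h' => hlt.not_ge h'.2), zero_mul, smul_zero]
    rw [hX', hX', hX', hX', hτ, hφ, hsd, hid, hg0, add_zero, smul_eq_mul, mul_one, mul_one] at h
    exact (sub_eq_zero.1 h).symm
  refine ⟨g, ?_, ?_⟩
  · rw [show g = comb K d n (a₁.erase c₀) from rfl, comb, Finsupp.linearCombination_apply]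
    refine Submodule.sum_mem _ fun c hc => ?_
    rw [Finsupp.support_erase, mem_erase] at hc
    obtain ⟨m, c⟩ := c
    obtain rfl : m = 2 := hlen _ hc.2
    rcases hcs c hc.2 with e | ⟨h1', h2, h3⟩
    · exact absurd (by rw [e]) hc.1
    · refine Submodule.smul_mem _ _ (Submodule.subset_span ⟨c 0, c 1, h1', h2, h3, ?_⟩)
      simp [chainMon, Fin.prod_univ_two]
  · rw [hg, hone, one_smul] at h1
    convert h1 using 1
    ring

end


open W4bk4grassmannian in
/-- Shape of the straightening relations of a skew pair: let K be an algebraically closed field, 0 < d <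
n, S = K[X_θ : θ ∈ I(d,n)] the Plücker polynomial ring on the strictly increasing maps Fin d → Fin n
ordered entrywise, and J ⊆ S the ideal of polynomials vanishing at the row-minors of every n × d
matrix over K (the homogeneous ideal of G(d,n)). Let τ, φ ∈ I(d,n) be incomparable, with entrywise
maximum τ ∨ φ and minimum τ ∧ φ. Then there is a K-linear combination g of monomials X_α X_β with β
≤ α, τ ∨ φ < α and β < τ ∧ φ such that X_τ X_φ - X_{τ∨φ} X_{τ∧φ} - g lies in J. -/
theorem result (K : Type u) [Field K] [IsAlgClosed K] (d n : ℕ)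
    (hd : 0 < d) (hdn : d < n) (τ φ : Idx d n) (h₁ : ¬ τ ≤ φ) (h₂ : ¬ φ ≤ τ) :
    ∃ g ∈ Submodule.span K {f : PlRing K d n | ∃ α β : Idx d n,
        β ≤ α ∧ W4bk4grassmannian.sup τ φ < α ∧ β < W4bk4grassmannian.inf τ φ ∧
          f = MvPolynomial.X α * MvPolynomial.X β},
      MvPolynomial.X τ * MvPolynomial.X φ -
          MvPolynomial.X (W4bk4grassmannian.sup τ φ) * MvPolynomial.X (W4bk4grassmannian.inf τ φ) - g ∈
        vanishing K d n := by
  exact straightening hd hdn.le τ φ

end Groth.Agent.S11261
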