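import Groth.Statements.S11262
import Mathlib.Algebra.Order.Antidiag.FinsuppEquiv
import Mathlib.RingTheory.MvPolynomial.Ideal
import Mathlib.RingTheory.MvPolynomial.Homogeneous
import Mathlib.LinearAlgebra.Dimension.Constructions


set_option autoImplicit false
universe u v
open W4bk4grassmannian

namespace Groth.Agent.S11262

section
open Finset MvPolynomial

theorem card_fiber {L : Type*} [Fintype L] [DecidableEq L] (C : Finset L) (m : ℕ) (hm1 : 1 ≤ m) (hC : C.Nonempty) :
    (((univ : Finset L).finsuppAntidiag m).filter fun e => e.support = C).card =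
      Nat.choose (m - 1) (C.card - 1) := by
  classical
  have hc : 0 < C.card := card_pos.2 hC
  by_cases hm : C.card ≤ m
  · have h : (((univ : Finset L).finsuppAntidiag m).filter fun e => e.support = C).card =
        (C.finsuppAntidiag (m - C.card)).card := by
      refine card_bij' (fun e _ => e - ∑ x ∈ C, Finsupp.single x (1 : ℕ))
        (fun f _ => f + ∑ x ∈ C, Finsupp.single x (1 : ℕ)) ?_ ?_ ?_ ?_
      · intro e he
        simp only [mem_filter, mem_finsuppAntidiag, subset_univ, and_true] at he
        refine mem_finsuppAntidiag.2 ⟨?_, fun x hx => ?_⟩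
        · have h1 : ∀ x ∈ C, (e - ∑ y ∈ C, Finsupp.single y (1 : ℕ)) x + 1 = e x := by
            intro x hx
            have : e x ≠ 0 := Finsupp.mem_support_iff.1 (he.2 ▸ hx)
            simp [Finsupp.finsetSum_apply, Finsupp.single_apply, hx]
            omega
          have h2 : ∑ x ∈ C, (e - ∑ y ∈ C, Finsupp.single y (1 : ℕ)) x + C.card = m := by
            rw [card_eq_sum_ones, ← sum_add_distrib, sum_congr rfl h1, ← he.1]
            refine sum_subset (subset_univ _) fun x _ hx => ?_
            exact Finsupp.notMem_support_iff.1 (he.2 ▸ hx)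
          change ∑ x ∈ C, (e - ∑ y ∈ C, Finsupp.single y (1 : ℕ)) x = m - C.card
          omega
        · have := Finsupp.support_tsub hx
          rwa [he.2] at this
      · intro f hf
        rw [mem_finsuppAntidiag] at hf
        have hsupp : (f + ∑ x ∈ C, Finsupp.single x (1 : ℕ)).support = C := by
          ext x
          by_cases hx : x ∈ C
          · simp [Finsupp.finsetSum_apply, Finsupp.single_apply, hx]
          · have : f x = 0 := Finsupp.notMem_support_iff.1 fun h => hx (hf.2 h)
            simp [Finsupp.finsetSum_apply, Finsupp.single_apply, hx, this]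
        refine mem_filter.2 ⟨mem_finsuppAntidiag.2 ⟨?_, subset_univ _⟩, hsupp⟩
        rw [← sum_subset (subset_univ C) fun x _ hx => Finsupp.notMem_support_iff.1 (fun h => hx (hsupp.le h))]
        have : ∀ x ∈ C, (f + ∑ y ∈ C, Finsupp.single y (1 : ℕ)) x = f x + 1 := fun x hx => by
          simp [Finsupp.finsetSum_apply, Finsupp.single_apply, hx]
        rw [sum_congr rfl this, sum_add_distrib, hf.1, sum_const, smul_eq_mul, mul_one]
        omega
      · intro e he
        simp only [mem_filter] at he
        refine tsub_add_cancel_of_le fun x => ?_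
        by_cases hx : x ∈ C
        · have : e x ≠ 0 := Finsupp.mem_support_iff.1 (he.2 ▸ hx)
          simp [Finsupp.finsetSum_apply, Finsupp.single_apply, hx]
          omega
        · simp [Finsupp.finsetSum_apply, Finsupp.single_apply, hx]
      · intro f _
        exact add_tsub_cancel_right _ _
    rw [h, Finset.card_finsuppAntidiag_nat_eq_choose, show C.card + (m - C.card) - 1 = m - 1 by omega,
      ← Nat.choose_symm (show m - C.card ≤ m - 1 by omega)]
    congr 1
    omega
  · rw [Nat.choose_eq_zero_of_lt (show m - 1 < C.card - 1 by omega), card_eq_zero, filter_eq_empty_iff]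
    intro e he hsupp
    rw [mem_finsuppAntidiag] at he
    have h1 : C.card ≤ ∑ x ∈ C, e x := by
      rw [card_eq_sum_ones]
      exact sum_le_sum fun x hx => Nat.one_le_iff_ne_zero.2 (Finsupp.mem_support_iff.1 (hsupp ▸ hx))
    have h2 : ∑ x ∈ C, e x ≤ m := he.1 ▸ sum_le_sum_of_subset (subset_univ C)
    omega

end


/-- Hilbert function of the Stanley–Reisner ring of a finite distributive lattice: let K be a field, L a
finite distributive lattice, R = K[x_α : α ∈ L], I ⊆ R the ideal generated by the products x_α x_β
over the incomparable (skew) pairs α, β, and m ≥ 1. Then the image in R/I of the homogeneous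
polynomials of degree m has K-dimension equal to the sum, over the nonempty chains C ⊆ L, of the
binomial coefficient (m - 1 choose |C| - 1). (The published statement is that the degree of R/I
equals the number of maximal chains of L; this row states the Hilbert function from which that
degree is read off.) -/
theorem result (K : Type u) [Field K] (L : Type v) [DistribLattice L]
    [Fintype L] (m : ℕ) (hm : 1 ≤ m) :
    Module.finrank K ((MvPolynomial.homogeneousSubmodule L K m).map
        (Ideal.Quotient.mkₐ K (Ideal.span {f : MvPolynomial L K | ∃ a b : L, ¬ a ≤ b ∧ ¬ b ≤ a ∧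
          f = MvPolynomial.X a * MvPolynomial.X b})).toLinearMap) =
      ∑ᶠ C : {C : Finset L // C.Nonempty ∧ IsChain (fun a b : L => a ≤ b) (↑C : Set L)},
        Nat.choose (m - 1) (C.1.card - 1) := by
  classical
  let I : Ideal (MvPolynomial L K) := Ideal.span {f | ∃ a b : L, ¬ a ≤ b ∧ ¬ b ≤ a ∧
    f = MvPolynomial.X a * MvPolynomial.X b}
  let s : Set (L →₀ ℕ) := {e | ∃ a b : L, ¬ a ≤ b ∧ ¬ b ≤ a ∧ e = Finsupp.single a 1 + Finsupp.single b 1}
  have hI : I = Ideal.span ((fun e => MvPolynomial.monomial e (1 : K)) '' s) := by
    refine congrArg Ideal.span (Set.ext fun f => ?_)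
    constructor
    · rintro ⟨a, b, ha, hb, rfl⟩
      exact ⟨_, ⟨a, b, ha, hb, rfl⟩, by simp [MvPolynomial.X, MvPolynomial.monomial_mul]⟩
    · rintro ⟨_, ⟨a, b, ha, hb, rfl⟩, rfl⟩
      exact ⟨a, b, ha, hb, by simp [MvPolynomial.X, MvPolynomial.monomial_mul]⟩
  let E := ((Finset.univ : Finset L).finsuppAntidiag m).filter fun e =>
    IsChain (fun a b : L => a ≤ b) (↑e.support : Set L)
  let v : E → (MvPolynomial L K ⧸ I) := fun e => Ideal.Quotient.mkₐ K I (MvPolynomial.monomial e.1 1)
  have hnot : ∀ e : E, ∀ si ∈ s, ¬ si ≤ e.1 := by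
    rintro e _ ⟨a, b, ha, hb, rfl⟩ hle
    have hab : a ≠ b := fun h => ha h.le
    have hA : a ∈ e.1.support := Finsupp.mem_support_iff.2 (by
      have := hle a; simp [hab] at this; omega)
    have hB : b ∈ e.1.support := Finsupp.mem_support_iff.2 (by
      have := hle b; simp [hab.symm] at this; omega)
    exact ((Finset.mem_filter.1 e.2).2 hA hB hab).elim ha hb
  have hli : LinearIndependent K v := by
    rw [Fintype.linearIndependent_iff]
    intro g hg e
    have hmem : ∑ i : E, g i • MvPolynomial.monomial i.1 (1 : K) ∈ I := by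
      rw [← Ideal.Quotient.eq_zero_iff_mem, ← hg, ← Ideal.Quotient.mkₐ_eq_mk K, map_sum]
      exact Finset.sum_congr rfl fun i _ => map_smul _ _ _
    rw [hI, MvPolynomial.mem_ideal_span_monomial_image] at hmem
    by_contra hne
    have hsupp : e.1 ∈ (∑ i : E, g i • MvPolynomial.monomial i.1 (1 : K)).support := by
      rw [MvPolynomial.mem_support_iff, MvPolynomial.coeff_sum]
      simp only [MvPolynomial.coeff_smul, MvPolynomial.coeff_monomial, smul_eq_mul, mul_ite, mul_one, mul_zero]
      rw [Finset.sum_eq_single e (fun i _ hi => if_neg fun h => hi (Subtype.ext h)) (by simp), if_pos rfl]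
      exact hne
    obtain ⟨si, hsi, hle⟩ := hmem _ hsupp
    exact hnot e si hsi hle
  have hrange : (MvPolynomial.homogeneousSubmodule L K m).map (Ideal.Quotient.mkₐ K I).toLinearMap =
      Submodule.span K (Set.range v) := by
    refine le_antisymm ?_ (Submodule.span_le.2 ?_)
    · rintro _ ⟨f, hf, rfl⟩
      rw [f.as_sum, map_sum]
      refine Submodule.sum_mem _ fun e he => ?_
      rw [show MvPolynomial.monomial e (MvPolynomial.coeff e f) =
        MvPolynomial.coeff e f • MvPolynomial.monomial e (1 : K) by rw [MvPolynomial.smul_monomial, smul_eq_mul, mul_one],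
        map_smul]
      refine Submodule.smul_mem _ _ ?_
      by_cases hch : IsChain (fun a b : L => a ≤ b) (↑e.support : Set L)
      · refine Submodule.subset_span ⟨⟨e, Finset.mem_filter.2 ⟨Finset.mem_finsuppAntidiag.2 ⟨?_, Finset.subset_univ _⟩, hch⟩⟩, rfl⟩
        have := hf (MvPolynomial.mem_support_iff.1 he)
        simpa [Finsupp.weight_apply, Finsupp.sum_fintype] using this
      · have : MvPolynomial.monomial e (1 : K) ∈ I := by
          rw [hI, MvPolynomial.mem_ideal_span_monomial_image]
          intro xi hxi
          rw [MvPolynomial.support_monomial, if_neg one_ne_zero, Finset.mem_singleton] at hxi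
          subst hxi
          simp only [IsChain, Set.Pairwise, not_forall] at hch
          obtain ⟨a, ha, b, hb, hab, hno⟩ := hch
          simp only [not_or] at hno
          refine ⟨_, ⟨a, b, hno.1, hno.2, rfl⟩, fun x => ?_⟩
          have ha' : xi a ≠ 0 := Finsupp.mem_support_iff.1 ha
          have hb' : xi b ≠ 0 := Finsupp.mem_support_iff.1 hb
          by_cases h1 : x = a
          · subst h1; simp [hab]; omega
          · by_cases h2 : x = b
            · subst h2; simp [h1]; omega
            · simp [h1, h2]
        convert Submodule.zero_mem _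
        exact Ideal.Quotient.eq_zero_iff_mem.2 this
    · rintro _ ⟨e, rfl⟩
      refine ⟨MvPolynomial.monomial e.1 1, MvPolynomial.isHomogeneous_monomial _ ?_, rfl⟩
      have := (Finset.mem_finsuppAntidiag.1 (Finset.mem_filter.1 e.2).1).1
      rw [← this, Finsupp.degree]
      exact Finset.sum_subset (Finset.subset_univ _) fun x _ hx => Finsupp.notMem_support_iff.1 hx
  change Module.finrank K ((MvPolynomial.homogeneousSubmodule L K m).map (Ideal.Quotient.mkₐ K I).toLinearMap) = _
  rw [hrange, finrank_span_eq_card hli, Fintype.card_coe, finsum_eq_sum_of_fintype]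
  let P := (Finset.univ : Finset (Finset L)).filter fun C : Finset L =>
    C.Nonempty ∧ IsChain (fun a b : L => a ≤ b) (↑C : Set L)
  rw [Finset.card_eq_sum_card_fiberwise (t := P) (f := fun e : L →₀ ℕ => e.support) ?_,
    ← Finset.sum_subtype P (fun C => by simp [P]) (fun C => Nat.choose (m - 1) (C.card - 1))]
  · refine Finset.sum_congr rfl fun C hC => ?_
    rw [← card_fiber C m hm (Finset.mem_filter.1 hC).2.1, Finset.filter_filter]
    congr 1
    refine Finset.filter_congr fun e _ => ⟨fun h => h.2, fun h => ⟨h ▸ (Finset.mem_filter.1 hC).2.2, h⟩⟩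
  · intro e he
    rw [Finset.mem_coe, Finset.mem_filter] at he
    refine Finset.mem_filter.2 ⟨Finset.mem_univ _, ?_, he.2⟩
    rw [Finset.nonempty_iff_ne_empty]
    intro h0
    have := (Finset.mem_finsuppAntidiag.1 he.1).1
    rw [Finsupp.support_eq_empty] at h0
    simp [h0] at this
    omega

end Groth.Agent.S11262
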