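import Groth.Statements.S11270
import Groth.Agent.StdMon.Schubert


set_option autoImplicit false
universe u
open W4bk4grassmannian

namespace Groth.Agent.S11270

open Groth.Agent.StdMon in
theorem aux (K : Type u) [Field K] [Infinite K] (d n : ℕ) (hd : 0 < d) (hdn : d < n) (w : Idx d n) :
    Prime (Ideal.Quotient.mk (schubertVanishing K d n w) (MvPolynomial.X (bot hdn.le))) := by
  classical
  -- the cover of the bottom index
  let f : Fin d → Fin n := fun t =>
    if t.val + 1 < d then ⟨t.val, by omega⟩ else ⟨d, hdn⟩
  have hf : StrictMono f := by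
    intro a b hab
    have := Fin.lt_def.1 hab
    have := b.isLt
    simp only [f]
    split_ifs <;> simp only [Fin.lt_def] <;> omega
  let θ₁ : Idx d n := ⟨f, hf⟩
  have hnot : ¬ θ₁ ≤ bot hdn.le := by
    intro h
    have := h ⟨d - 1, by omega⟩
    simp [θ₁, f, bot, Fin.le_def, show ¬ (d - 1 + 1 < d) by omega] at this
    omega
  have hge : ∀ φ : Idx d n, φ ≠ bot hdn.le → θ₁ ≤ φ := by
    intro φ hφ t
    have h1 := val_le_apply φ t
    by_cases ht : t.val + 1 < d
    · simp [θ₁, f, ht, Fin.le_def, h1]
    · simp only [θ₁, f, ht, if_false, Fin.le_def]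
      by_contra hlt
      refine hφ (Subtype.ext (funext fun s => Fin.ext ?_))
      have h2 := val_le_apply φ s
      have key : ∀ k : ℕ, ∀ hk : k ≤ t.val,
          (φ.1 ⟨t.val - k, by omega⟩).val + k ≤ (φ.1 t).val := by
        intro k
        induction k with
        | zero => intros; simp
        | succ k ih =>
          intro hk
          have := ih (by omega)
          have h3 := Fin.lt_def.1 (φ.2 (show (⟨t.val - (k + 1), by omega⟩ : Fin d) < ⟨t.val - k, by omega⟩ from
            Fin.lt_def.2 (by simp only; omega)))
          omega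
      have h4 := key (t.val - s.val) (by omega)
      have hts : t.val - (t.val - s.val) = s.val := by omega
      simp only [hts, Fin.eta] at h4
      have := s.isLt
      simp [bot]
      omega
  let J := schubertVanishing K d n w
  have hker : J ⊔ Ideal.span {MvPolynomial.X (bot hdn.le)} = RingHom.ker (evP K θ₁ w).toRingHom := by
    refine mem_ker_evP_iff hd θ₁ w _
      (((plIdealTop_le w).trans (plIdeal_le_schubertVanishing w)).trans le_sup_left) (sup_le ?_ ?_)
      fun φ hφ => ?_
    · exact (plIdeal_eq_schubertVanishing hd hdn.le w).ge.trans (plIdeal_le_ker_evP le_rfl)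
    · rw [Ideal.span_le, Set.singleton_subset_iff]
      exact evP_X_eq_zero fun h => hnot h.1
    · by_cases h : φ = bot hdn.le
      · exact Ideal.mem_sup_right (h ▸ Ideal.mem_span_singleton_self _)
      · refine Ideal.mem_sup_left (plIdeal_le_schubertVanishing w
          (Ideal.subset_span (Or.inr ⟨φ, fun h' => hφ ⟨hge φ h, h'⟩, rfl⟩)))
  have hne : Ideal.Quotient.mk J (MvPolynomial.X (bot hdn.le)) ≠ 0 := by
    intro h0
    have hmem := schubertVanishing_le_ker hdn.le w (Ideal.Quotient.eq_zero_iff_mem.1 h0)
    let c : Fin 1 → Idx d n := fun _ => bot hdn.le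
    have := coeff_eq_zero hd (bot hdn.le) w (Finsupp.single (⟨1, c⟩ : Tup d n) (1 : K)) (fun x hx => by
      rw [Finsupp.support_single _ one_ne_zero, Finset.mem_singleton] at hx
      subst hx
      exact antitone_const) (by simpa [comb, chainMon, c] using hmem) c fun k => ⟨le_rfl, bot_le _ _⟩
    simp at this
  have hp : (Ideal.span {Ideal.Quotient.mk J (MvPolynomial.X (bot hdn.le))}).IsPrime := by
    rw [← Set.image_singleton, ← Ideal.map_span]
    have : (Ideal.span {MvPolynomial.X (bot hdn.le)}).map (Ideal.Quotient.mk J) =
        (J ⊔ Ideal.span {MvPolynomial.X (bot hdn.le)}).map (Ideal.Quotient.mk J) := by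
      rw [Ideal.map_sup, Ideal.map_quotient_self, bot_sup_eq]
    rw [this, hker]
    have : (RingHom.ker (evP K θ₁ w).toRingHom).IsPrime := RingHom.ker_isPrime _
    exact Ideal.map_isPrime_of_surjective Ideal.Quotient.mk_surjective
      (by rw [Ideal.mk_ker, ← hker]; exact le_sup_left)
  exact (Ideal.span_singleton_prime hne).1 hp


open W4bk4grassmannian in
/-- The least Plücker coordinate is a prime element on every Schubert variety: let K be an algebraically
closed field, 0 < d < n, and I(d,n) the strictly increasing maps Fin d → Fin n ordered entrywise; S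
= K[X_θ : θ ∈ I(d,n)] is the Plücker polynomial ring and, for τ ∈ I(d,n), J(τ) ⊆ S is the ideal of
polynomials vanishing at the d × d row-minors of every n × d matrix over K whose minors on rows φ ≰
τ are zero (the homogeneous ideal of the Schubert variety X(τ) ⊆ G(d,n)). Let w ∈ I(d,n) and let ι =
(0, 1, …, d - 1) be the least element of I(d,n), written (1, …, d) in 1-based indexing. Then the
class of X_ι in S/J(w) is a prime element; it generates the kernel of the restriction to the section
of X(w) by the opposite Schubert divisor. -/
theorem result (K : Type u) [Field K] [IsAlgClosed K] (d n : ℕ)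
    (hd : 0 < d) (hdn : d < n) (w : Idx d n) :
    Prime (Ideal.Quotient.mk (schubertVanishing K d n w)
      (MvPolynomial.X (⟨fun t => ⟨t.val, lt_trans t.isLt hdn⟩, fun a b h => h⟩ : Idx d n))) := by
  exact aux K d n hd hdn w

end Groth.Agent.S11270
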