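import Groth.Statements.S11271
import Groth.Agent.StdMon.Rank


set_option autoImplicit false
universe u
open W4bk4grassmannian

namespace Groth.Agent.S11271

open W4bk4grassmannian in
/-- Semistable matrices are the matrices of full rank: let K be an algebraically closed field, 0 < d <
n, and let SL_d(K) act on n × d matrices by right multiplication; a matrix A is semistable when the
zero matrix is not in the Zariski closure of its orbit, i.e. when some polynomial in the entries
vanishes at A g for every g ∈ SL_d(K) but not at 0. Then A is semistable if and only if its columns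
are linearly independent. -/
theorem result (K : Type u) [Field K]
    [IsAlgClosed K] (d n : ℕ) (hd : 0 < d) (hdn : d < n) (A : Matrix (Fin n) (Fin d) K) :
    LinearIndependent K A.transpose ↔
      ∃ f : MatRing K d n, (∀ g : Matrix.SpecialLinearGroup (Fin d) K,
        MvPolynomial.eval (fun p : Fin n × Fin d => (A * (g : Matrix (Fin d) (Fin d) K)) p.1 p.2) f = 0) ∧
        MvPolynomial.eval (fun _ : Fin n × Fin d => (0 : K)) f ≠ 0 := by
  classical
  constructor
  · intro hA
    obtain ⟨θ, hθ⟩ := Groth.Agent.StdMon.exists_idx_det_ne_zero A hA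
    have hev : ∀ B : Matrix (Fin n) (Fin d) K,
        MvPolynomial.eval (fun p : Fin n × Fin d => B p.1 p.2) (minor K d n θ.1) = (B.submatrix θ.1 id).det := by
      intro B
      rw [minor, RingHom.map_det]
      congr 1
      ext x y
      simp
    refine ⟨minor K d n θ.1 - MvPolynomial.C (A.submatrix θ.1 id).det, fun g => ?_, ?_⟩
    · rw [map_sub, hev, MvPolynomial.eval_C, sub_eq_zero,
        show (A * (g : Matrix (Fin d) (Fin d) K)).submatrix θ.1 id = A.submatrix θ.1 id * g.1 from rfl,
        Matrix.det_mul, g.2, mul_one]
    · have h0 := hev 0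
      simp only [Matrix.zero_apply, Matrix.submatrix_zero] at h0
      rw [map_sub, MvPolynomial.eval_C, h0, Pi.zero_apply, Pi.zero_apply,
        (haveI := Fin.pos_iff_nonempty.1 hd; Matrix.det_zero), zero_sub]
      exact neg_ne_zero.2 hθ
  · rintro ⟨f, hf, hf0⟩
    by_contra hA
    obtain ⟨v, hv, j, hj⟩ := Fintype.not_linearIndependent_iff.1 hA
    let u : Fin d → K := fun k => (v j)⁻¹ * v k
    have huj : u j = 1 := inv_mul_cancel₀ hj
    let G : Matrix (Fin d) (Fin d) K := (1 : Matrix (Fin d) (Fin d) K).updateCol j u
    have hG : G.det = 1 := by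
      have h := Matrix.det_updateCol_sum (1 : Matrix (Fin d) (Fin d) K) j u
      rw [Matrix.det_one, huj, one_smul] at h
      rw [← h]
      congr 1
      ext k l
      simp [G, Matrix.updateCol_apply, Matrix.one_apply]
    have hM : ∀ i, (A * G) i j = 0 := fun i => by
      have := congrFun hv i
      simp only [Finset.sum_apply, Pi.smul_apply, Matrix.transpose_apply, smul_eq_mul, Pi.zero_apply] at this
      simp only [Matrix.mul_apply, G, Matrix.updateCol_self, u]
      rw [← mul_zero (v j)⁻¹, ← this, Finset.mul_sum]
      exact Finset.sum_congr rfl fun k _ => by ring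
    let q : Fin n × Fin d → Polynomial K := fun p => Polynomial.C ((A * G) p.1 p.2) * Polynomial.X
    have hq : ∀ s : K, (MvPolynomial.eval₂ Polynomial.C q f).eval s =
        MvPolynomial.eval (fun p => (A * G) p.1 p.2 * s) f := fun s => by
      rw [← Polynomial.coe_evalRingHom, MvPolynomial.eval₂_comp_left]
      refine congrArg₂ (fun φ g => MvPolynomial.eval₂ φ g f) (RingHom.ext fun r => by simp) (funext fun p => ?_)
      simp [q]
    have hz : MvPolynomial.eval₂ Polynomial.C q f = 0 := by
      refine Polynomial.eq_zero_of_infinite_isRoot _ ((Set.infinite_univ.sdiff (Set.finite_singleton (0 : K))).mono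
        fun s hs => ?_)
      have hs0 : s ≠ 0 := hs.2
      let D : Fin d → K := fun k => if k = j then (s ^ (d - 1))⁻¹ else s
      have hD : (G * Matrix.diagonal D).det = 1 := by
        rw [Matrix.det_mul, hG, one_mul, Matrix.det_diagonal, ← Finset.mul_prod_erase _ _ (Finset.mem_univ j),
          Finset.prod_congr rfl fun k hk => show D k = s from if_neg (Finset.ne_of_mem_erase hk),
          Finset.prod_const, Finset.card_erase_of_mem (Finset.mem_univ j), Finset.card_univ, Fintype.card_fin]
        simp [D, hs0]
      have h := hf ⟨G * Matrix.diagonal D, hD⟩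
      rw [Set.mem_ofPred_eq, Polynomial.IsRoot.def, hq, ← h]
      refine congrArg (fun g => MvPolynomial.eval g f) (funext fun p => ?_)
      simp only [← Matrix.mul_assoc, Matrix.mul_diagonal, D]
      split_ifs with hp
      · rw [hp, hM, zero_mul, zero_mul]
      · rfl
    apply hf0
    have := hq 0
    simp only [hz, Polynomial.eval_zero, mul_zero] at this
    exact this.symm

end Groth.Agent.S11271
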