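import Groth.Statements.S11274
import Groth.Agent.StdMon.Degen


set_option autoImplicit false
universe u
open W4bk4grassmannian

namespace Groth.Agent.S11274

open W4bk4grassmannian in
/-- Degeneration of the cone over a Schubert variety to a Stanley–Reisner ring: let K be an
algebraically closed field, 0 < d < n, and I(d,n) the strictly increasing maps Fin d → Fin n ordered
entrywise; S = K[X_θ : θ ∈ I(d,n)] is the Plücker polynomial ring and, for τ ∈ I(d,n), J(τ) ⊆ S is
the ideal of polynomials vanishing at the d × d row-minors of every n × d matrix over K whose minors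
on rows φ ≰ τ are zero (the homogeneous ideal of the Schubert variety X(τ) ⊆ G(d,n)). Let w ∈
I(d,n), H(w) = {θ ≤ w} (a distributive lattice under entrywise max and min) and K[x_θ : θ ∈ H(w)]
the polynomial ring on it. Then there is a commutative K[t]-algebra R, free as a K[t]-module, whose
fibre R/tR at t = 0 is K-isomorphic to the Stanley–Reisner ring K[x_θ : θ ≤ w]/(x_α x_β : α, β
incomparable) and whose fibre R/(t - c)R at every c ≠ 0 in K is K-isomorphic to S/J(w): the cone
over the Schubert variety X(w) degenerates flatly to the Stanley–Reisner ring K[x_θ : θ ≤ w]/(x_α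
x_β : α, β incomparable). (Existence of the family and of the fibre isomorphisms only; the published
statement constructs the family explicitly, by deforming the straightening relations, and identifies
R[1/t] with (S/J(w))[t, 1/t], which gives the fibres at c ≠ 0.) -/
theorem result (K : Type u) [Field K] [IsAlgClosed K] (d n : ℕ)
    (hd : 0 < d) (hdn : d < n) (w : Idx d n) :
    ∃ (R : Type u) (_ : CommRing R) (_ : Algebra K R) (_ : Algebra (Polynomial K) R)
      (_ : IsScalarTower K (Polynomial K) R),
      Module.Free (Polynomial K) R ∧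
      Nonempty ((R ⧸ Ideal.span {algebraMap (Polynomial K) R Polynomial.X}) ≃ₐ[K]
        (MvPolynomial (Below w) K ⧸ srIdeal K w)) ∧
      ∀ c : K, c ≠ 0 →
        Nonempty ((R ⧸ Ideal.span {algebraMap (Polynomial K) R (Polynomial.X - Polynomial.C c)}) ≃ₐ[K]
          (PlRing K d n ⧸ schubertVanishing K d n w)) := by
  have hlt : ∀ a b : Idx d n, ¬ a ≤ b → ¬ b ≤ a → ∀ p q, W4bk4grassmannian.sup a b ≤ p →
      Groth.Agent.StdMon.srW p + Groth.Agent.StdMon.srW q <
        Groth.Agent.StdMon.srW a + Groth.Agent.StdMon.srW b := fun a b h h' p q hp =>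
    Groth.Agent.StdMon.srW_lt ((Groth.Agent.StdMon.lt_sup_of_incomparable h h').1.trans_le hp)
      ((Groth.Agent.StdMon.lt_sup_of_incomparable h h').2.trans_le hp)
  refine Groth.Agent.StdMon.exists_family hd hdn.le w (fun θ => Groth.Agent.StdMon.srW θ)
    (fun a b h h' => (hlt a b h h' _ _ le_rfl).le) (fun a b p q hp _ _ => ?_) (srIdeal K w) ?_
  · exact Groth.Agent.StdMon.srW_lt (lt_of_le_of_lt (fun _ => le_max_left _ _) hp)
      (lt_of_le_of_lt (fun _ => le_max_right _ _) hp)
  · refine le_antisymm ?_ ?_ <;> rw [srIdeal, Ideal.span_le]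
    all_goals
      rintro _ ⟨a, b, h, h', rfl⟩
      refine Ideal.subset_span ⟨a, b, h, h', ?_⟩
      rw [zero_pow (Nat.sub_ne_zero_of_lt (hlt a.1 b.1 h h' (Below.sup a b).1 (Below.inf a b).1 (le_refl _))), MvPolynomial.C_0, zero_mul, sub_zero]

end Groth.Agent.S11274
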