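import Groth.Statements.S11275
import Groth.Agent.StdMon.Det


set_option autoImplicit false
universe u
open W4bk4grassmannian

namespace Groth.Agent.S11275

open W4bk4grassmannian Finset Groth.Agent.StdMon in
theorem det_mem_span (K : Type u) [CommRing K] {d r t : ℕ} (hd : 0 < d) (ht : 0 < t)
    (f : Fin t → Fin r) (g : Fin t → Fin d) :
    ((genMatrix K r d).submatrix f g).det ∈ Ideal.span {p : CellRing K d r | ∃ θ : Idx d (d + r),
      d ≤ (θ.1 ⟨d - t, Nat.sub_lt hd ht⟩).val ∧ p = cellMinor K d r θ} := by
  classical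
  by_cases hf : Function.Injective f
  swap
  · simp only [Function.Injective, not_forall] at hf
    obtain ⟨x, y, hxy, hne⟩ := hf
    rw [Matrix.det_zero_of_row_eq hne (by funext c; simp [hxy])]
    exact Submodule.zero_mem _
  by_cases hg : Function.Injective g
  swap
  · simp only [Function.Injective, not_forall] at hg
    obtain ⟨x, y, hxy, hne⟩ := hg
    rw [Matrix.det_zero_of_column_eq hne (fun c => by simp [hxy])]
    exact Submodule.zero_mem _
  let S := univ.image f
  let T := univ.image g
  have hS : S.card = t := by simp [S, card_image_of_injective _ hf]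
  have hT : T.card = t := by simp [T, card_image_of_injective _ hg]
  let θ := pairIdx S T (hS.trans hT.symm)
  have hup : d ≤ (θ.1 ⟨d - t, Nat.sub_lt hd ht⟩).val := by
    by_contra hlt
    have h1 : upCount θ ≤ (Finset.Ioi (⟨d - t, Nat.sub_lt hd ht⟩ : Fin d)).card :=
      card_le_card fun s hs => Finset.mem_Ioi.2 (θ.2.lt_iff_lt.1 (Fin.lt_def.2 (by
        have := (mem_filter.1 hs).2; omega)))
    rw [upCount_pairIdx, hS, Fin.card_Ioi] at h1
    simp only at h1
    have htd : t ≤ d := by simpa using Fintype.card_le_of_injective g hg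
    omega
  have hmem : cellMinor K d r θ ∈ Ideal.span {p : CellRing K d r | ∃ θ : Idx d (d + r),
      d ≤ (θ.1 ⟨d - t, Nat.sub_lt hd ht⟩).val ∧ p = cellMinor K d r θ} := Ideal.subset_span ⟨θ, hup, rfl⟩
  have hcm : cellMatrix K d r = cm (genMatrix K r d) := by
    refine Matrix.ext fun i j => ?_
    induction i using Fin.addCases with
    | left i => rw [cm_castAdd]; simp [cellMatrix, Fin.ext_iff]
    | right i => rw [cm_natAdd]; simp [cellMatrix, genMatrix]
  have hinj : Function.Injective (T.orderEmbOfFin rfl) := (T.orderEmbOfFin rfl).injective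
  obtain ⟨ρ, hρ⟩ : ∃ ρ : Fin t ≃ Fin T.card, ∀ p, S.orderEmbOfFin (hS.trans hT.symm) (ρ p) = f p := by
    choose φ hφ using fun p : Fin t => (show f p ∈ Set.range (S.orderEmbOfFin (hS.trans hT.symm)) by
      rw [range_orderEmbOfFin]; simp [S])
    exact ⟨Equiv.ofBijective φ ((Fintype.bijective_iff_injective_and_card _).2
      ⟨fun a b e => hf (by rw [← hφ a, ← hφ b, e]), by simp [hT]⟩), hφ⟩
  obtain ⟨σ, hσ⟩ : ∃ σ : Fin t ≃ Fin T.card, ∀ p, T.orderEmbOfFin rfl (σ p) = g p := by
    choose φ hφ using fun p : Fin t => (show g p ∈ Set.range (T.orderEmbOfFin rfl) by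
      rw [range_orderEmbOfFin]; simp [T])
    exact ⟨Equiv.ofBijective φ ((Fintype.bijective_iff_injective_and_card _).2
      ⟨fun a b e => hg (by rw [← hφ a, ← hφ b, e]), by simp [hT]⟩), hφ⟩
  have e : (genMatrix K r d).submatrix f g = ((genMatrix K r d).submatrix
      (S.orderEmbOfFin (hS.trans hT.symm)) (T.orderEmbOfFin rfl)).submatrix ρ σ :=
    Matrix.ext fun i j => by simp [hρ, hσ]
  rw [e]
  rw [cellMinor, hcm] at hmem
  rcases det_submatrix_equiv ((genMatrix K r d).submatrix
      (S.orderEmbOfFin (hS.trans hT.symm)) (T.orderEmbOfFin rfl)) ρ σ with e1 | e1 <;> rw [e1] <;>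
    rcases det_cm_pairIdx (genMatrix K r d) S T (hS.trans hT.symm) with e2 | e2 <;> rw [e2] at hmem
  · exact hmem
  · simpa using neg_mem hmem
  · exact neg_mem hmem
  · exact hmem


open W4bk4grassmannian in
/-- Ideal-theoretic form; determinantal ideals as ideals of opposite cells of Schubert varieties: let K
be a commutative ring, d, r ≥ 1, 1 ≤ t ≤ min(d, r), Z the generic r × d matrix over K[z_{ij}] and
[I_d ; Z] the (d + r) × d matrix with the identity block on top. For θ ∈ I(d, d + r) let q_θ be the
d × d minor of [I_d ; Z] on the rows θ (the Plücker coordinate p_θ on the opposite big cell). Then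
the ideal generated by the q_θ with θ_{d-t} ≥ d (0-indexed; these are the θ not below the index φ =
(t-1, …, d-1, d+r+1-t, …, d+r-1) of the Schubert variety whose opposite cell is D_t) equals the
ideal generated by the t × t minors of Z. (The published statement is over an algebraically closed
field and identifies the determinantal variety D_t with the opposite cell of the Schubert variety
X(φ); this row states the equality of ideals behind that identification, over any commutative ring
K.) -/
theorem result (K : Type u) [CommRing K] (d r t : ℕ) (hd : 0 < d)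
    (ht : 0 < t) (htd : t ≤ d) (htr : t ≤ r) :
    Ideal.span {f : CellRing K d r | ∃ θ : Idx d (d + r),
        d ≤ (θ.1 ⟨d - t, Nat.sub_lt hd ht⟩).val ∧ f = cellMinor K d r θ} =
      CAlgX.minorIdeal (genMatrix K r d) t := by
  classical
  refine le_antisymm (Ideal.span_le.2 ?_) (Ideal.span_le.2 ?_)
  · rintro _ ⟨θ, hθ, rfl⟩
    obtain ⟨S, T, hST, rfl⟩ := Groth.Agent.StdMon.exists_pairIdx θ
    have hcard : t ≤ T.card := by
      rw [← hST, ← Groth.Agent.StdMon.upCount_pairIdx S T hST]
      refine le_trans ?_ (Finset.card_le_card (s := Finset.Ici ⟨d - t, Nat.sub_lt hd ht⟩) fun s hs =>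
        Finset.mem_filter.2 ⟨Finset.mem_univ _, hθ.trans (Fin.le_def.1
          ((Groth.Agent.StdMon.pairIdx S T hST).2.monotone (Finset.mem_Ici.1 hs)))⟩)
      rw [Fin.card_Ici]
      simp only
      omega
    have hcm : cellMatrix K d r = Groth.Agent.StdMon.cm (genMatrix K r d) := by
      refine Matrix.ext fun i j => ?_
      induction i using Fin.addCases with
      | left i => rw [Groth.Agent.StdMon.cm_castAdd]; simp [cellMatrix, Fin.ext_iff]
      | right i => rw [Groth.Agent.StdMon.cm_natAdd]; simp [cellMatrix, genMatrix]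
    rw [cellMinor, hcm]
    have hm := Groth.Agent.StdMon.minor_mem_minorIdeal (genMatrix K r d) T.card hcard
      (S.orderEmbOfFin hST) (T.orderEmbOfFin rfl)
    rcases Groth.Agent.StdMon.det_cm_pairIdx (genMatrix K r d) S T hST with e | e <;> rw [SetLike.mem_coe, e]
    · exact hm
    · exact neg_mem hm
  · rintro _ ⟨⟨f, g⟩, rfl⟩
    exact det_mem_span K hd ht f g

end Groth.Agent.S11275
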