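import Groth.Statements.S11276
import Groth.Agent.GradedVertex.Basic
import Groth.Agent.DepthLib.Ext


set_option autoImplicit false
universe u v
open W4bk4grassmannian

namespace Groth.Agent.S11276

/-- With the conclusion at the irrelevant ideal: let K be a field, A a commutative Noetherian K-algebra
graded by ℕ with degree-zero part K, I and J homogeneous ideals of A such that A/I and A/J are
Cohen–Macaulay rings of Krull dimension e and A/(I + J) is a Cohen–Macaulay ring of Krull dimension
e - 1, where e ≥ 1. Let m be the image in A/(I ∩ J) of the irrelevant ideal A_+ (assumed prime; it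
is maximal). Then the local ring (A/(I ∩ J))_m is Cohen–Macaulay of Krull dimension e. (The
published lemma concludes that A/(I ∩ J) itself is Cohen–Macaulay of dimension e; this row states
the conclusion at the irrelevant ideal only, from which the global one follows by the graded
local–global principle.) -/
theorem result (K : Type u) [Field K] (A : Type v) [CommRing A]
    [Algebra K A] [IsNoetherianRing A] (𝒜 : ℕ → Submodule K A) [GradedAlgebra 𝒜]
    (h0 : ∀ a ∈ 𝒜 0, ∃ c : K, algebraMap K A c = a) (I J : Ideal A) (hI : I.IsHomogeneous 𝒜)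
    (hJ : J.IsHomogeneous 𝒜) (e : ℕ) (he : 1 ≤ e)
    (hIcm : LocCoh.IsCohenMacaulayRing (A ⧸ I)) (hJcm : LocCoh.IsCohenMacaulayRing (A ⧸ J))
    (hIJcm : LocCoh.IsCohenMacaulayRing (A ⧸ (I ⊔ J)))
    (hIdim : ringKrullDim (A ⧸ I) = (e : WithBot ℕ∞)) (hJdim : ringKrullDim (A ⧸ J) = (e : WithBot ℕ∞))
    (hIJdim : ringKrullDim (A ⧸ (I ⊔ J)) = ((e - 1 : ℕ) : WithBot ℕ∞))
    [hm : ((HomogeneousIdeal.irrelevant 𝒜).toIdeal.map (Ideal.Quotient.mk (I ⊓ J))).IsPrime] :
    LocCoh.IsCohenMacaulayLocalRing (Localization.AtPrime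
        ((HomogeneousIdeal.irrelevant 𝒜).toIdeal.map (Ideal.Quotient.mk (I ⊓ J)))) ∧
      ringKrullDim (Localization.AtPrime
        ((HomogeneousIdeal.irrelevant 𝒜).toIdeal.map (Ideal.Quotient.mk (I ⊓ J)))) = (e : WithBot ℕ∞) := by
  classical
  have : Nontrivial A := ⟨⟨0, 1, fun h => hm.ne_top (by
    rw [Ideal.eq_top_iff_one, ← map_one (Ideal.Quotient.mk (I ⊓ J)), ← h, map_zero]; exact Ideal.zero_mem _)⟩⟩
  set m := (HomogeneousIdeal.irrelevant 𝒜).toIdeal with hmdef
  have hmax : m.IsMaximal := GradedVertex.isMaximal_irrelevant 𝒜 h0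
  have : (m.map (Ideal.Quotient.mk (I ⊓ J))).IsMaximal :=
    (Ideal.map_eq_top_or_isMaximal_of_surjective _ Ideal.Quotient.mk_surjective hmax).resolve_left hm.ne_top
  have dI := GradedVertex.natCast_le_idealDepth_quotient 𝒜 h0 hI hIcm hIdim
  have dJ := GradedVertex.natCast_le_idealDepth_quotient 𝒜 h0 hJ hJcm hJdim
  have dIJ := GradedVertex.natCast_le_idealDepth_quotient 𝒜 h0 (hI.sup hJ) hIJcm hIJdim
  have dprod : (e : ℕ∞) ≤ LocCoh.idealDepth m ((A ⧸ I) × (A ⧸ J)) :=
    DepthLib.natCast_le_idealDepth_middle (f := LinearMap.inl A (A ⧸ I) (A ⧸ J))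
      (g := LinearMap.snd A (A ⧸ I) (A ⧸ J)) LinearMap.inl_injective LinearMap.snd_surjective
      Function.Exact.inl_snd dI dJ
  let f : (A ⧸ (I ⊓ J)) →ₗ[A] (A ⧸ I) × (A ⧸ J) :=
    (Submodule.factor (inf_le_left : I ⊓ J ≤ I)).prod (Submodule.factor (inf_le_right : I ⊓ J ≤ J))
  let g : (A ⧸ I) × (A ⧸ J) →ₗ[A] A ⧸ (I ⊔ J) :=
    (Submodule.factor (le_sup_left : I ≤ I ⊔ J)).coprod (-(Submodule.factor (le_sup_right : J ≤ I ⊔ J)))
  have hf : Function.Injective f := by
    rw [← LinearMap.ker_eq_bot, eq_bot_iff]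
    intro x hx
    obtain ⟨a, rfl⟩ := Submodule.Quotient.mk_surjective _ x
    simp only [LinearMap.mem_ker, f, LinearMap.prod_apply, Pi.prod, Submodule.factor, Submodule.mapQ_apply, LinearMap.id_apply, Function.prod_apply,
      Prod.mk_eq_zero, Submodule.Quotient.mk_eq_zero] at hx
    exact (Submodule.Quotient.mk_eq_zero _).2 hx
  have hg : Function.Surjective g := fun x => by
    obtain ⟨a, rfl⟩ := Submodule.Quotient.mk_surjective _ x
    exact ⟨(Submodule.Quotient.mk a, 0), by simp [g]⟩
  have hfg : Function.Exact f g := by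
    rintro ⟨x, y⟩
    obtain ⟨a, rfl⟩ := Submodule.Quotient.mk_surjective _ x
    obtain ⟨b, rfl⟩ := Submodule.Quotient.mk_surjective _ y
    simp only [g, LinearMap.coprod_apply, LinearMap.neg_apply, Submodule.factor, Submodule.mapQ_apply, LinearMap.id_apply, Function.prod_apply, ← Submodule.Quotient.mk_neg,
      ← Submodule.Quotient.mk_add, Submodule.Quotient.mk_eq_zero, ← sub_eq_add_neg]
    constructor
    · intro h
      obtain ⟨u, hu, v, hv, huv⟩ := Submodule.mem_sup.1 h
      refine ⟨Submodule.Quotient.mk (a - u), ?_⟩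
      simp only [f, LinearMap.prod_apply, Pi.prod, Submodule.factor, Submodule.mapQ_apply, LinearMap.id_apply, Function.prod_apply, Prod.mk.injEq, Submodule.Quotient.eq]
      exact ⟨by simpa using neg_mem hu, by
        rw [show a - u - b = v from by linear_combination -huv]; exact hv⟩
    · rintro ⟨z, hz⟩
      obtain ⟨c, rfl⟩ := Submodule.Quotient.mk_surjective _ z
      simp only [f, LinearMap.prod_apply, Pi.prod, Submodule.factor, Submodule.mapQ_apply, LinearMap.id_apply, Function.prod_apply, Prod.mk.injEq, Submodule.Quotient.eq] at hz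
      have := Submodule.add_mem_sup (neg_mem hz.1) hz.2
      rwa [show -(c - a) + (c - b) = a - b from by ring] at this
  have dmain : (e : ℕ∞) ≤ LocCoh.idealDepth m (A ⧸ (I ⊓ J)) := by
    have h := DepthLib.natCast_le_idealDepth_left hf hg hfg (n := e - 1) (by rwa [Nat.sub_add_cancel he]) dIJ
    rwa [Nat.sub_add_cancel he] at h
  rw [← DepthLib.idealDepth_map_of_surjective (R := A) (S := A ⧸ (I ⊓ J)) Ideal.Quotient.mk_surjective] at dmain
  change (e : ℕ∞) ≤ LocCoh.idealDepth (m.map (Ideal.Quotient.mk (I ⊓ J))) (A ⧸ (I ⊓ J)) at dmain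
  rw [GradedVertex.idealDepth_maximal] at dmain
  have hd : ringKrullDim (A ⧸ (I ⊓ J)) ≤ (e : WithBot ℕ∞) := by
    rw [ringKrullDim_quotient]
    refine iSup_le fun l => ?_
    have hh : I ≤ l.head.1.asIdeal ∨ J ≤ l.head.1.asIdeal := l.head.1.isPrime.inf_le.1 l.head.2
    rcases hh with hh | hh
    · rw [← hIdim, ringKrullDim_quotient]
      exact Order.LTSeries.length_le_krullDim
        { length := l.length
          toFun := fun i => (⟨(l i).1, hh.trans (l.monotone (Fin.zero_le i))⟩ : PrimeSpectrum.zeroLocus (I : Set A))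
          step := fun i => l.step i }
    · rw [← hJdim, ringKrullDim_quotient]
      exact Order.LTSeries.length_le_krullDim
        { length := l.length
          toFun := fun i => (⟨(l i).1, hh.trans (l.monotone (Fin.zero_le i))⟩ : PrimeSpectrum.zeroLocus (J : Set A))
          step := fun i => l.step i }
  have hle : ringKrullDim (Localization.AtPrime (m.map (Ideal.Quotient.mk (I ⊓ J)))) ≤ (e : WithBot ℕ∞) := by
    rw [IsLocalization.AtPrime.ringKrullDim_eq_height (m.map (Ideal.Quotient.mk (I ⊓ J)))]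
    exact (Ideal.height_le_ringKrullDim_of_ne_top hm.ne_top).trans hd
  have hge : (e : WithBot ℕ∞) ≤ ((LocCoh.depth (Localization.AtPrime (m.map (Ideal.Quotient.mk (I ⊓ J))))
      (Localization.AtPrime (m.map (Ideal.Quotient.mk (I ⊓ J)))) : ℕ∞) : WithBot ℕ∞) := WithBot.coe_le_coe.2 dmain
  have hcm := DepthLib.isCohenMacaulayLocalRing_iff.2 (hle.trans hge)
  exact ⟨hcm, le_antisymm hle (hge.trans DepthLib.ringKrullDim_eq_depth.ge)⟩

end Groth.Agent.S11276
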