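import Groth.Statements.S11277
import Mathlib.RingTheory.GradedAlgebra.HomogeneousLocalization


set_option autoImplicit false
universe u v
open W4bk4grassmannian

namespace Groth.Agent.S11277

/-- Let K be a field, R = ⊕_{i ≥ 0} R_i an ℕ-graded commutative K-algebra which is an integral domain,
and s ∈ R_e a homogeneous element of degree e > 0. Let R_(s) ⊆ R[1/s] be the homogeneous
localization (fractions f / s^k with f homogeneous of degree k e). Then the image of s in R[1/s] is
transcendental over R_(s). -/
theorem result (K : Type u) [Field K] (R : Type v) [CommRing R]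
    [IsDomain R] [Algebra K R] (𝒜 : ℕ → Submodule K R) [GradedAlgebra 𝒜] (e : ℕ) (he : 0 < e) (s : R)
    (hs : s ∈ 𝒜 e) :
    Transcendental (HomogeneousLocalization.Away 𝒜 s) (algebraMap R (Localization.Away s) s) := by
  classical
  rintro ⟨p, hp0, hp⟩
  apply hp0
  by_cases hs0 : s = 0
  · have : Subsingleton (HomogeneousLocalization.Away 𝒜 s) :=
      HomogeneousLocalization.subsingleton 𝒜 (x := .powers s) ⟨1, by simp [hs0]⟩
    exact Subsingleton.elim _ _
  have hinj : Function.Injective (algebraMap R (Localization.Away s)) :=
    IsLocalization.injective (Localization.Away s) (powers_le_nonZeroDivisors_of_noZeroDivisors hs0)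
  obtain ⟨N, hN⟩ := (Filter.eventually_all_finset p.support).2
    (fun i _ => HomogeneousLocalization.Away.eventually_smul_mem hs (p.coeff i)) |>.exists
  choose! r hr hre using hN
  have hsum : ∑ i ∈ p.support, r i * s ^ i = 0 := by
    apply hinj
    rw [map_zero, map_sum]
    rw [Polynomial.aeval_def, Polynomial.eval₂_eq_sum, Polynomial.sum] at hp
    have h := congrArg (fun z => s ^ N • z) hp
    simp only [Finset.smul_sum, smul_zero] at h
    refine Eq.trans (Finset.sum_congr rfl fun i hi => ?_) h
    rw [map_mul, map_pow, hre i hi, HomogeneousLocalization.algebraMap_apply, smul_mul_assoc]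
  refine Polynomial.ext fun i => ?_
  rw [Polynomial.coeff_zero]
  by_contra hi
  have hmem : i ∈ p.support := Polynomial.mem_support_iff.2 hi
  have hdeg : ∀ j ∈ p.support, r j * s ^ j ∈ 𝒜 ((N + j) • e) := fun j hj => by
    rw [add_smul]; exact SetLike.mul_mem_graded (hr j hj) (SetLike.pow_mem_graded j hs)
  have h0 := congrArg (GradedRing.proj 𝒜 ((N + i) • e)) hsum
  rw [map_sum, map_zero, Finset.sum_eq_single i, GradedRing.proj_apply,
    DirectSum.decompose_of_mem_same _ (hdeg i hmem)] at h0
  · have hri : r i = 0 := (mul_eq_zero.1 h0).resolve_right (pow_ne_zero _ hs0)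
    have h1 := hre i hmem
    rw [hri, map_zero] at h1
    refine hi (HomogeneousLocalization.val_injective _ ?_)
    rw [HomogeneousLocalization.val_zero]
    have hu : IsUnit (algebraMap R (Localization.Away s) (s ^ N)) :=
      IsLocalization.map_units _ (⟨s ^ N, N, rfl⟩ : Submonoid.powers s)
    rw [Algebra.smul_def] at h1
    exact hu.mul_right_eq_zero.1 h1.symm
  · intro j hj hne
    rw [GradedRing.proj_apply, DirectSum.decompose_of_mem_ne _ (hdeg j hj)]
    intro h
    exact hne (by simpa using Nat.eq_of_mul_eq_mul_right he h)
  · exact fun h => absurd hmem h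

end Groth.Agent.S11277
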