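import Groth.Statements.S11278
import Groth.Agent.UFDLib.Nagata
import Groth.Agent.S11277
import Mathlib.RingTheory.Polynomial.UniqueFactorization


set_option autoImplicit false
universe u v
open W4bk4grassmannian

namespace Groth.Agent.S11278

/-- Unique factorization lifts from the homogeneous localization at a prime element of degree one, in
the generality of the published argument: let K be a field, R = ⊕_{i ≥ 0} R_i a Noetherian ℕ-graded
commutative K-algebra which is an integral domain, and s ∈ R_1 a homogeneous element of degree one
which is a prime element of R. If the homogeneous localization R_(s) (degree-zero part of R[1/s])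
has unique factorization, then R is a unique factorization domain. (The published statement is the
case where R is the homogeneous coordinate ring of a Schubert variety, s the Plücker coordinate of
the least index, which is a prime element there, and R_(s) the coordinate ring of the opposite
cell.) -/
theorem result (K : Type u) [Field K] (R : Type v)
    [CommRing R] [IsDomain R] [IsNoetherianRing R] [Algebra K R] (𝒜 : ℕ → Submodule K R) [GradedAlgebra 𝒜]
    (s : R) (hs : s ∈ 𝒜 1) (hp : Prime s)
    (h : UniqueFactorizationMonoid (HomogeneousLocalization.Away 𝒜 s)) :
    UniqueFactorizationMonoid R := by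
  classical
  have hs0 : s ≠ 0 := hp.ne_zero
  have hinj : Function.Injective (algebraMap R (Localization.Away s)) :=
    IsLocalization.injective (Localization.Away s) (powers_le_nonZeroDivisors_of_noZeroDivisors hs0)
  have hdom : IsDomain (Localization.Away s) :=
    IsLocalization.isDomain_localization (powers_le_nonZeroDivisors_of_noZeroDivisors hs0)
  let Aw := HomogeneousLocalization.Away 𝒜 s
  have hdomA : IsDomain Aw :=
    (HomogeneousLocalization.val_injective (Submonoid.powers s)).isDomain
      (algebraMap Aw (Localization.Away s))
  let φ : Polynomial Aw →ₐ[Aw] Localization.Away s := Polynomial.aeval (algebraMap R (Localization.Away s) s)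
  have hφ : Function.Injective φ := transcendental_iff_injective.1
    (Groth.Agent.S11277.result K R 𝒜 1 one_pos s hs)
  let alg : Algebra (Polynomial Aw) (Localization.Away s) := φ.toRingHom.toAlgebra
  have halg : ∀ q, algebraMap (Polynomial Aw) (Localization.Away s) q = φ q := fun _ => rfl
  have hu : IsUnit (algebraMap R (Localization.Away s) s) := IsLocalization.Away.algebraMap_isUnit s
  have hmem : ∀ r : R, algebraMap R (Localization.Away s) r ∈ φ.range := by
    intro r
    rw [← DirectSum.sum_support_decompose 𝒜 r, map_sum]
    refine Subalgebra.sum_mem _ fun i _ => ?_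
    refine ⟨Polynomial.C (HomogeneousLocalization.Away.mk 𝒜 hs i (DirectSum.decompose 𝒜 r i : R)
      (by simp)) * Polynomial.X ^ i, ?_⟩
    change φ _ = _
    rw [map_mul, map_pow, Polynomial.aeval_C, Polynomial.aeval_X, HomogeneousLocalization.algebraMap_apply,
      HomogeneousLocalization.Away.val_mk, Localization.mk_eq_mk', ← map_pow]
    exact IsLocalization.mk'_spec (Localization.Away s) (DirectSum.decompose 𝒜 r i : R)
      (⟨s ^ i, i, rfl⟩ : Submonoid.powers s)
  have hloc : IsLocalization (Submonoid.powers (Polynomial.X : Polynomial Aw)) (Localization.Away s) := by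
    refine (isLocalization_iff _ _).2 ⟨?_, fun z => ?_, fun {x y} hxy => ⟨1, by rw [hφ hxy]⟩⟩
    · rintro ⟨_, k, rfl⟩
      rw [halg, map_pow, Polynomial.aeval_X]
      exact hu.pow k
    · obtain ⟨k, a, ha⟩ := IsLocalization.Away.surj s z
      obtain ⟨q, hq⟩ := hmem a
      refine ⟨(q, ⟨Polynomial.X ^ k, k, rfl⟩), ?_⟩
      rw [halg, halg, map_pow, Polynomial.aeval_X, ha]
      exact hq.symm
  have hufm : UniqueFactorizationMonoid (Localization.Away s) :=
    Groth.Agent.UFDLib.ufm_of_isLocalization (Submonoid.powers (Polynomial.X : Polynomial Aw)) _ hφ
  exact Groth.Agent.UFDLib.ufm_of_away hp (Localization.Away s)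

end Groth.Agent.S11278
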