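import Groth.Statements.S11281
import Mathlib
import Groth.Agent.ArtinFlat.RegSeq

set_option autoImplicit false
universe u
open Deform

namespace Groth.Agent.S11281

open Exal

theorem mul_incl_zero {Λ : Type u} {R L : Type u} [CommRing Λ] [CommRing R] [Algebra Λ R] [AddCommGroup L]
    [Module R L] (X : Exal.Ext Λ R L) (z z' : L) : X.incl z * X.incl z' = 0 := by
  rw [X.isExtension.mul_incl, (X.isExtension.exact _).mpr ⟨z, rfl⟩, zero_smul, map_zero]

theorem isUnit_iff_proj {Λ : Type u} {R L : Type u} [CommRing Λ] [CommRing R] [Algebra Λ R] [AddCommGroup L]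
    [Module R L] (X : Exal.Ext Λ R L) (e : X.E) : IsUnit e ↔ IsUnit (X.proj e) := by
  refine ⟨fun h => h.map X.proj, fun h => ?_⟩
  obtain ⟨r, hr⟩ := h.exists_right_inv
  obtain ⟨f, rfl⟩ := X.isExtension.proj_surjective r
  obtain ⟨z, hz⟩ := (X.isExtension.exact (e * f - 1)).mp (by rw [map_sub, map_mul, hr, map_one, sub_self])
  have hnil : IsNilpotent (e * f - 1) := ⟨2, by rw [← hz, pow_two, mul_incl_zero]⟩
  have h1 := hnil.isUnit_one_add
  rw [add_sub_cancel] at h1
  exact isUnit_of_mul_isUnit_left h1


/-- Let k be an algebraically closed field, Λ a local Noetherian k-algebra with residue field k, and R a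
local Noetherian Λ-algebra, with local structure map and residue field k. The following are
equivalent: (a) every Λ-extension of R by its residue field k is trivial, i.e. the relative
obstruction space o(R/Λ) = Ex_Λ(R, k) vanishes; (b) for every local Artinian Λ-algebra B with
residue field k and every t in the maximal ideal of B annihilated by the maximal ideal, every
Λ-algebra map R → B/tB lifts to a Λ-algebra map R → B (formal smoothness of R over Λ tested on small
extensions of Artinian rings). The test algebras B range over the universe of R. -/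
theorem result
    {k : Type u} [Field k] [IsAlgClosed k]
    {Λ : Type u} [CommRing Λ] [Algebra k Λ] [IsLocalRing Λ] [IsNoetherianRing Λ]
    (hΛ : ∀ a : Λ, ∃ c : k, a - algebraMap k Λ c ∈ IsLocalRing.maximalIdeal Λ)
    {R : Type u} [CommRing R] [Algebra Λ R] [IsLocalRing R] [IsNoetherianRing R]
    [IsLocalHom (algebraMap Λ R)]
    (hR : ∀ r : R, ∃ c : k, r - algebraMap Λ R (algebraMap k Λ c) ∈ IsLocalRing.maximalIdeal R) :
    (∀ X : Exal.Ext Λ R (IsLocalRing.ResidueField R), X.IsTrivial) ↔
    (∀ (B : Type u) [CommRing B] [Algebra Λ B] [IsLocalRing B] [IsArtinianRing B],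
      (∀ b : B, ∃ c : k, b - algebraMap Λ B (algebraMap k Λ c) ∈ IsLocalRing.maximalIdeal B) →
      ∀ t : B, t ∈ IsLocalRing.maximalIdeal B → (∀ b ∈ IsLocalRing.maximalIdeal B, b * t = 0) →
      ∀ φ : R →ₐ[Λ] B ⧸ Ideal.span {t},
        ∃ φ' : R →ₐ[Λ] B, (Ideal.Quotient.mkₐ Λ (Ideal.span {t})).comp φ' = φ) := by
  constructor
  · -- pull the small extension back to `R`
    intro hX B _ _ _ _ hB t htm ht φ
    let κ := IsLocalRing.ResidueField R
    let π := Ideal.Quotient.mkₐ Λ (Ideal.span {t})
    rcases eq_or_ne t 0 with rfl | ht0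
    · have hπ : Function.Bijective π := ⟨fun a b h => by
        have := Ideal.Quotient.eq.mp h
        rwa [Ideal.span_singleton_eq_bot.mpr rfl, Ideal.mem_bot, sub_eq_zero] at this,
        Ideal.Quotient.mk_surjective⟩
      exact ⟨(AlgEquiv.ofBijective π hπ).symm.toAlgHom.comp φ,
        AlgHom.ext fun r => (AlgEquiv.ofBijective π hπ).apply_symm_apply (φ r)⟩
    let e : k →+* κ := (IsLocalRing.residue R).comp ((algebraMap Λ R).comp (algebraMap k Λ))
    have he : Function.Bijective e := ⟨e.injective, fun z => by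
      obtain ⟨r, rfl⟩ := IsLocalRing.residue_surjective z
      obtain ⟨c, hc⟩ := hR r
      exact ⟨c, ((sub_eq_zero.mp ((map_sub (IsLocalRing.residue R) _ _).symm.trans
        ((IsLocalRing.residue_eq_zero_iff _).mpr hc)))).symm⟩⟩
    let ε := RingEquiv.ofBijective e he
    let σ : k →+* B := (algebraMap Λ B).comp (algebraMap k Λ)
    -- `φ` is compatible with the residue maps
    have hloc : ∀ (r : R) (b : B), π b = φ r → b - σ (ε.symm (IsLocalRing.residue R r)) ∈ IsLocalRing.maximalIdeal B := by
      intro r b hb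
      obtain ⟨c, hc⟩ := hB b
      obtain ⟨c', hc'⟩ := hR r
      have h1 : ε.symm (IsLocalRing.residue R r) = c' := by
        rw [RingEquiv.symm_apply_eq]
        exact sub_eq_zero.mp ((map_sub (IsLocalRing.residue R) _ _).symm.trans ((IsLocalRing.residue_eq_zero_iff _).mpr hc'))
      rw [h1]
      rcases eq_or_ne c c' with rfl | hne
      · exact hc
      exfalso
      have hu : IsUnit (r - algebraMap Λ R (algebraMap k Λ c)) := by
        by_contra hnu
        have h2 : r - algebraMap Λ R (algebraMap k Λ c) ∈ IsLocalRing.maximalIdeal R := hnu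
        have h3 := sub_mem hc' h2
        rw [sub_sub_sub_cancel_left, ← map_sub, ← map_sub] at h3
        exact (IsLocalRing.mem_maximalIdeal _).mp h3
          (((isUnit_iff_ne_zero.mpr (sub_ne_zero.mpr hne)).map (algebraMap k Λ)).map (algebraMap Λ R))
      have h4 := hu.map φ
      rw [map_sub, AlgHom.commutes, ← hb, ← AlgHom.commutes π, ← map_sub] at h4
      obtain ⟨q, hq⟩ := h4.exists_right_inv
      obtain ⟨q, rfl⟩ := Ideal.Quotient.mk_surjective q
      have h5 : (b - algebraMap Λ B (algebraMap k Λ c)) * q - 1 ∈ Ideal.span {t} :=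
        Ideal.Quotient.eq.mp (show π ((b - algebraMap Λ B (algebraMap k Λ c)) * q) = π 1 by
          rw [map_mul, map_one]; exact hq)
      have h6 : (1 : B) ∈ IsLocalRing.maximalIdeal B := by
        have := sub_mem (Ideal.mul_mem_right q _ hc) ((Ideal.span_singleton_le_iff_mem _).mpr htm h5)
        rwa [sub_sub_cancel] at this
      exact (IsLocalRing.maximalIdeal.isMaximal B).ne_top ((Ideal.eq_top_iff_one _).mpr h6)
    let P : Subalgebra Λ (B × R) := AlgHom.equalizer (π.comp (AlgHom.fst Λ B R)) (φ.comp (AlgHom.snd Λ B R))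
    have hP : ∀ x : B × R, x ∈ P ↔ π x.1 = φ x.2 := fun x => Iff.rfl
    have hPt : ∀ c : B, (c * t, (0 : R)) ∈ P := fun c => by
      rw [hP]
      show π (c * t) = φ 0
      rw [map_zero]
      exact Ideal.Quotient.eq_zero_iff_mem.mpr (Ideal.mul_mem_left _ _ (Ideal.mem_span_singleton_self t))
    let incl : κ →+ P :=
      { toFun := fun z => ⟨(σ (ε.symm z) * t, 0), hPt _⟩
        map_zero' := Subtype.ext (Prod.ext (by simp) rfl)
        map_add' := fun a b => Subtype.ext (Prod.ext (by simp [map_add, add_mul]) (by simp)) }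
    let proj : P →ₐ[Λ] R := (AlgHom.snd Λ B R).comp P.val
    have hExt : Exal.IsExtension proj incl :=
      { proj_surjective := fun r => by
          obtain ⟨b, hb⟩ := Ideal.Quotient.mk_surjective (φ r)
          exact ⟨⟨(b, r), hb⟩, rfl⟩
        incl_injective := by
          rw [injective_iff_map_eq_zero]
          intro z hz
          have h1 : σ (ε.symm z) * t = 0 := congrArg (fun x : P => x.1.1) hz
          by_contra hz0
          have hu : IsUnit (σ (ε.symm z)) := (isUnit_iff_ne_zero.mpr (fun h => hz0 (by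
            have := congrArg ε h
            rwa [RingEquiv.apply_symm_apply, map_zero] at this))).map σ
          exact ht0 (hu.mul_right_eq_zero.mp h1)
        exact := fun x => by
          obtain ⟨⟨b, r⟩, hx⟩ := x
          constructor
          · intro h0
            change r = 0 at h0
            subst h0
            have hb : π b = 0 := hx.trans (map_zero φ)
            obtain ⟨b', rfl⟩ := Ideal.mem_span_singleton'.mp (Ideal.Quotient.eq_zero_iff_mem.mp hb)
            obtain ⟨c, hc⟩ := hB b'
            refine ⟨ε c, Subtype.ext (Prod.ext ?_ rfl)⟩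
            show σ (ε.symm (ε c)) * t = b' * t
            rw [RingEquiv.symm_apply_apply, eq_comm, ← sub_eq_zero, ← sub_mul]
            exact ht _ hc
          · rintro ⟨z, hz⟩
            exact (congrArg (fun y : P => y.1.2) hz).symm
        mul_incl := fun x z => by
          obtain ⟨⟨b, r⟩, hx⟩ := x
          refine Subtype.ext (Prod.ext ?_ (mul_zero r))
          show b * (σ (ε.symm z) * t) = σ (ε.symm (r • z)) * t
          have hsm : r • z = IsLocalRing.residue R r * z := by rw [Algebra.smul_def]; rfl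
          rw [hsm, map_mul, map_mul, ← sub_eq_zero]
          have h1 := ht _ (hloc r b hx)
          linear_combination σ (ε.symm z) * h1 }
    obtain ⟨s, hs⟩ := hX { E := P, proj := proj, incl := incl, isExtension := hExt }
    let s' : R →ₐ[Λ] P := s
    refine ⟨((AlgHom.fst Λ B R).comp P.val).comp s', AlgHom.ext fun r => ?_⟩
    have h1 : π (s' r).1.1 = φ (s' r).1.2 := (s' r).2
    exact h1.trans (congrArg φ (hs r))
  · intro hlift X
    have hnu : ∀ e : X.E, ¬ IsUnit e ↔ X.proj e ∈ IsLocalRing.maximalIdeal R := fun e => by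
      rw [isUnit_iff_proj]; rfl
    haveI : Nontrivial X.E := X.proj.toRingHom.domain_nontrivial
    haveI : IsLocalRing X.E := IsLocalRing.of_nonunits_add fun a b ha hb => by
      rw [mem_nonunits_iff, hnu] at ha hb ⊢
      rw [map_add]
      exact add_mem ha hb
    have hm : ∀ e : X.E, e ∈ IsLocalRing.maximalIdeal X.E ↔ X.proj e ∈ IsLocalRing.maximalIdeal R := hnu
    set i1 := X.incl 1 with hi1
    have hgen : ∀ z, ∃ e : X.E, X.incl z = e * i1 := fun z => by
      obtain ⟨r, rfl⟩ := IsLocalRing.residue_surjective z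
      obtain ⟨e, rfl⟩ := X.isExtension.proj_surjective r
      exact ⟨e, by rw [hi1, X.isExtension.mul_incl, Algebra.smul_def, mul_one]; rfl⟩
    haveI : IsNoetherianRing X.E := by
      have hnil : IsNilpotent (RingHom.ker X.proj.toRingHom) := ⟨2, by
        rw [pow_two, Submodule.zero_eq_bot, eq_bot_iff, Ideal.mul_le]
        intro a ha b hb
        obtain ⟨za, rfl⟩ := (X.isExtension.exact a).mp ha
        obtain ⟨zb, rfl⟩ := (X.isExtension.exact b).mp hb
        rw [Ideal.mem_bot, mul_incl_zero]⟩
      have hfg : (RingHom.ker X.proj.toRingHom).FG := ⟨{i1}, by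
        rw [Finset.coe_singleton]
        refine le_antisymm ((Ideal.span_singleton_le_iff_mem _).mpr ((X.isExtension.exact i1).mpr ⟨1, rfl⟩)) ?_
        intro e he
        obtain ⟨z, rfl⟩ := (X.isExtension.exact e).mp he
        obtain ⟨a, ha⟩ := hgen z
        exact Ideal.mem_span_singleton'.mpr ⟨a, ha.symm⟩⟩
      haveI : IsNoetherianRing (X.E ⧸ RingHom.ker X.proj.toRingHom) :=
        isNoetherianRing_of_ringEquiv R (RingHom.quotientKerEquivOfSurjective X.isExtension.proj_surjective).symm
      exact Groth.Agent.ArtinFlat.isNoetherianRing_of_isNilpotent hnil hfg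
    have hi10 : i1 ≠ 0 := fun h => one_ne_zero (X.isExtension.incl_injective (h.trans (map_zero X.incl).symm))
    obtain ⟨n, hn⟩ : ∃ n, i1 ∉ IsLocalRing.maximalIdeal X.E ^ n := by
      by_contra h
      push_neg at h
      have h1 : i1 ∈ ⨅ n, IsLocalRing.maximalIdeal X.E ^ n := Submodule.mem_iInf _ |>.mpr h
      rw [Ideal.iInf_pow_eq_bot_of_isLocalRing _ (IsLocalRing.maximalIdeal.isMaximal _).ne_top] at h1
      exact hi10 h1
    let N := IsLocalRing.maximalIdeal X.E ^ n
    have hn0 : n ≠ 0 := fun h => hn (by rw [h, pow_zero, Ideal.one_eq_top]; trivial)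
    have hNm : N ≤ IsLocalRing.maximalIdeal X.E := Ideal.pow_le_self hn0
    haveI : Nontrivial (X.E ⧸ N) := Ideal.Quotient.nontrivial_iff.mpr fun h => hn (by
      show i1 ∈ N; rw [h]; trivial)
    haveI : IsLocalRing (X.E ⧸ N) := IsLocalRing.of_surjective' (Ideal.Quotient.mk N) Ideal.Quotient.mk_surjective
    haveI : IsArtinianRing (X.E ⧸ N) := by
      rw [isArtinianRing_iff_isNilpotent_maximalIdeal]
      refine ⟨n, ?_⟩
      have h1 : IsLocalRing.maximalIdeal (X.E ⧸ N) ≤ (IsLocalRing.maximalIdeal X.E).map (Ideal.Quotient.mk N) := by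
        intro q hq
        obtain ⟨e, rfl⟩ := Ideal.Quotient.mk_surjective q
        exact Ideal.mem_map_of_mem _ ((IsLocalRing.mem_maximalIdeal _).mpr fun hu => hq (hu.map _))
      rw [Submodule.zero_eq_bot, eq_bot_iff]
      refine (Ideal.pow_right_mono h1 n).trans ?_
      rw [← Ideal.map_pow, Ideal.map_quotient_self]
    have hmq : ∀ e : X.E, Ideal.Quotient.mk N e ∈ IsLocalRing.maximalIdeal (X.E ⧸ N) →
        X.proj e ∈ IsLocalRing.maximalIdeal R := fun e he =>
      (hm e).mp ((IsLocalRing.mem_maximalIdeal _).mpr fun hu => he (hu.map _))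
    have hi1m : i1 ∈ IsLocalRing.maximalIdeal X.E :=
      (hm _).mpr (((X.isExtension.exact i1).mpr ⟨1, rfl⟩).symm ▸ zero_mem _)
    have hmm : ∀ e ∈ IsLocalRing.maximalIdeal X.E, Ideal.Quotient.mk N e ∈ IsLocalRing.maximalIdeal (X.E ⧸ N) := by
      intro e he
      refine (IsLocalRing.mem_maximalIdeal _).mpr fun hu => ?_
      obtain ⟨q, hq⟩ := hu.exists_right_inv
      obtain ⟨q, rfl⟩ := Ideal.Quotient.mk_surjective q
      rw [← map_mul, ← map_one (Ideal.Quotient.mk N), Ideal.Quotient.eq] at hq
      have h1 := sub_mem (Ideal.mul_mem_right q _ he) (hNm hq)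
      rw [sub_sub_cancel] at h1
      exact (IsLocalRing.maximalIdeal.isMaximal X.E).ne_top ((Ideal.eq_top_iff_one _).mpr h1)
    let t := Ideal.Quotient.mk N i1
    let q : X.E →ₐ[Λ] (X.E ⧸ N) ⧸ Ideal.span {t} :=
      (Ideal.Quotient.mkₐ Λ (Ideal.span {t})).comp (Ideal.Quotient.mkₐ Λ N)
    have hker : RingHom.ker X.proj ≤ RingHom.ker q := by
      intro e he
      obtain ⟨z, rfl⟩ := (X.isExtension.exact e).mp he
      obtain ⟨a, ha⟩ := hgen z
      exact Ideal.Quotient.eq_zero_iff_mem.mpr (Ideal.mem_span_singleton'.mpr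
        ⟨Ideal.Quotient.mk N a, by rw [← map_mul, ← ha]; rfl⟩)
    let φ : R →ₐ[Λ] (X.E ⧸ N) ⧸ Ideal.span {t} :=
      AlgHom.liftOfSurjective X.proj X.isExtension.proj_surjective q hker
    have hφ : ∀ e, φ (X.proj e) = q e := fun e =>
      AlgHom.liftOfSurjective_apply X.proj X.isExtension.proj_surjective q hker e
    obtain ⟨φ', hφ'⟩ := hlift (X.E ⧸ N) (fun b => by
      obtain ⟨e, rfl⟩ := Ideal.Quotient.mk_surjective b
      obtain ⟨c, hc⟩ := hR (X.proj e)
      refine ⟨c, hmm (e - algebraMap Λ X.E (algebraMap k Λ c)) ((hm _).mpr ?_)⟩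
      rw [map_sub, AlgHom.commutes]
      exact hc) t (hmm i1 hi1m) (fun b hb => by
      obtain ⟨e, rfl⟩ := Ideal.Quotient.mk_surjective b
      show _ * Ideal.Quotient.mk N i1 = 0
      rw [← map_mul, hi1, X.isExtension.mul_incl, Algebra.smul_def, mul_one,
        show algebraMap R (IsLocalRing.ResidueField R) (X.proj e) = 0 from
          (IsLocalRing.residue_eq_zero_iff _).mpr (hmq e hb), map_zero, map_zero]) φ
    have hinjN : ∀ e, X.proj e = 0 → e ∈ N → e = 0 := by
      intro e he heN
      obtain ⟨z, rfl⟩ := (X.isExtension.exact e).mp he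
      rcases eq_or_ne z 0 with rfl | hz
      · exact map_zero _
      exfalso
      obtain ⟨r, hr⟩ := IsLocalRing.residue_surjective z⁻¹
      obtain ⟨e', rfl⟩ := X.isExtension.proj_surjective r
      refine hn ?_
      have h1 : e' * X.incl z = i1 := by
        rw [X.isExtension.mul_incl, Algebra.smul_def, hi1]
        exact congrArg X.incl ((congrArg (· * z) hr).trans (inv_mul_cancel₀ hz))
      rw [← h1]
      exact Ideal.mul_mem_left _ _ heN
    have hex : ∀ r, ∃ e, X.proj e = r ∧ Ideal.Quotient.mk N e = φ' r := by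
      intro r
      obtain ⟨e0, rfl⟩ := X.isExtension.proj_surjective r
      have h1 : Ideal.Quotient.mk (Ideal.span {t}) (φ' (X.proj e0)) =
          Ideal.Quotient.mk (Ideal.span {t}) (Ideal.Quotient.mk N e0) := by
        have := AlgHom.congr_fun hφ' (X.proj e0)
        rw [hφ] at this
        exact this
      obtain ⟨b, hb⟩ := Ideal.mem_span_singleton'.mp (Ideal.Quotient.eq.mp h1)
      obtain ⟨e1, rfl⟩ := Ideal.Quotient.mk_surjective b
      refine ⟨e0 + e1 * i1, ?_, ?_⟩
      · rw [map_add, map_mul, (X.isExtension.exact i1).mpr ⟨1, rfl⟩, mul_zero, add_zero]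
      · rw [map_add, map_mul]
        exact (congrArg (_ + ·) hb).trans (add_sub_cancel _ _)
    choose s hs1 hs2 using hex
    have huniq : ∀ r e, X.proj e = r → Ideal.Quotient.mk N e = φ' r → s r = e := fun r e h1 h2 =>
      sub_eq_zero.mp (hinjN _ (by rw [map_sub, hs1, h1, sub_self]) (Ideal.Quotient.eq.mp ((hs2 r).trans h2.symm)))
    refine ⟨{ toFun := s, map_one' := huniq 1 1 (map_one _) (by rw [map_one, map_one]),
              map_mul' := fun a b => huniq _ _ (by rw [map_mul, hs1, hs1]) (by rw [map_mul, map_mul, hs2, hs2]),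
              map_zero' := huniq 0 0 (map_zero _) (by rw [map_zero, map_zero]),
              map_add' := fun a b => huniq _ _ (by rw [map_add, hs1, hs1]) (by rw [map_add, map_add, hs2, hs2]),
              commutes' := fun l => huniq _ _ (X.proj.commutes l) (φ'.commutes l).symm }, hs1⟩

end Groth.Agent.S11281
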