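import Groth.Statements.S11287
import Mathlib
import Groth.Agent.CohenStruct.PowerSeries
import Groth.Agent.ArtinFlat.RegSeq
-- import your own Groth.Agent.* helpers here

set_option autoImplicit false
universe u
open Deform

namespace Groth.Agent.S11287

theorem sub_truncTotal_mem {K : Type u} [CommRing K] {r : ℕ} (n : ℕ) (f : MvPowerSeries (Fin r) K) :
    f - (MvPowerSeries.truncTotal n f : MvPowerSeries (Fin r) K) ∈
      Ideal.span (Set.range (MvPowerSeries.X : Fin r → MvPowerSeries (Fin r) K)) ^ n := by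
  let I := MvPolynomial.idealOfVars (Fin r) K
  let τ := MvPowerSeries.toAdicCompletionAlgEquiv (Fin r) K
  have hker : AdicCompletion.eval I _ n (τ (f - (MvPowerSeries.truncTotal n f : MvPowerSeries (Fin r) K))) = 0 := by
    rw [map_sub, map_sub, sub_eq_zero]
    show (MvPowerSeries.toAdicCompletion (Fin r) K f).val n =
      (MvPowerSeries.toAdicCompletion (Fin r) K (MvPowerSeries.truncTotal n f : MvPowerSeries (Fin r) K)).val n
    rw [MvPowerSeries.toAdicCompletion_apply_eq_mk_truncTotal, MvPowerSeries.toAdicCompletion_coe]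
    rfl
  have h1 : τ (f - (MvPowerSeries.truncTotal n f : MvPowerSeries (Fin r) K)) ∈
      (I ^ n).map (algebraMap (MvPolynomial (Fin r) K) (AdicCompletion I (MvPolynomial (Fin r) K))) := by
    have h0 := hker
    rw [← LinearMap.mem_ker, ← AdicCompletion.pow_smul_top_eq_ker_eval (MvPolynomial.idealOfVars_fg _ _),
      Ideal.smul_top_eq_map] at h0
    exact h0
  have h2 := Ideal.mem_map_of_mem τ.symm h1
  rw [AlgEquiv.symm_apply_apply, Ideal.map_pow, Ideal.map_pow] at h2
  refine Ideal.pow_right_mono (Ideal.map_le_iff_le_comap.mpr (Ideal.map_le_iff_le_comap.mpr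
    (Ideal.span_le.mpr ?_))) n h2
  rintro _ ⟨i, rfl⟩
  show τ.symm (algebraMap (MvPolynomial (Fin r) K) _ (MvPolynomial.X i)) ∈ Ideal.span (Set.range MvPowerSeries.X)
  rw [show τ.symm (algebraMap (MvPolynomial (Fin r) K) _ (MvPolynomial.X i)) = MvPowerSeries.X i from
    τ.symm_apply_eq.mpr (by rw [← MvPolynomial.coe_X]; exact (MvPowerSeries.toAdicCompletion_coe _).symm)]
  exact Ideal.subset_span ⟨i, rfl⟩

variable {Λ : Type u} [CommRing Λ] {R L : Type u} [CommRing R] [Algebra Λ R] [AddCommGroup L] [Module R L]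

theorem mul_incl_zero (X : Exal.Ext Λ R L) (z z' : L) : X.incl z * X.incl z' = 0 := by
  rw [X.isExtension.mul_incl, (X.isExtension.exact _).mpr ⟨z, rfl⟩, zero_smul, map_zero]

theorem isUnit_iff_proj (X : Exal.Ext Λ R L) (e : X.E) : IsUnit e ↔ IsUnit (X.proj e) := by
  refine ⟨fun h => h.map X.proj, fun h => ?_⟩
  obtain ⟨r, hr⟩ := h.exists_right_inv
  obtain ⟨f, rfl⟩ := X.isExtension.proj_surjective r
  obtain ⟨z, hz⟩ := (X.isExtension.exact (e * f - 1)).mp (by rw [map_sub, map_mul, hr, map_one, sub_self])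
  have hnil : IsNilpotent (e * f - 1) := ⟨2, by rw [← hz, pow_two, mul_incl_zero]⟩
  have h1 := hnil.isUnit_one_add
  rw [add_sub_cancel] at h1
  exact isUnit_of_mul_isUnit_left h1

theorem smul_eq_zero_of_isSimpleModule [IsLocalRing R] [IsSimpleModule R L] {x : R}
    (hx : x ∈ IsLocalRing.maximalIdeal R) (z : L) : x • z = 0 := by
  by_contra h
  have hspan : Submodule.span R {x • z} = ⊤ :=
    (IsSimpleOrder.eq_bot_or_eq_top _).resolve_left fun hb => h (Submodule.span_singleton_eq_bot.mp hb)
  obtain ⟨r, hr⟩ := Submodule.mem_span_singleton.mp (show z ∈ Submodule.span R {x • z} by rw [hspan]; trivial)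
  have hu : IsUnit (1 - r * x) := IsLocalRing.isUnit_one_sub_self_of_mem_nonunits _
    ((IsLocalRing.maximalIdeal R).mul_mem_left r hx)
  have : (1 - r * x) • z = 0 := by rw [sub_smul, one_smul, mul_smul, hr, sub_self]
  exact h (by rw [(hu.smul_eq_zero).mp this, smul_zero])

/-- An extension of a Noetherian local ring by a simple module is Noetherian local, and some power of a proper
ideal meets the kernel trivially. -/
theorem exists_pow_inf_eq_bot [IsLocalRing R] [IsNoetherianRing R] [IsSimpleModule R L] (X : Exal.Ext Λ R L)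
    (I : Ideal X.E) (hI : ∀ x ∈ I, ¬ IsUnit x) : ∃ n, ∀ x ∈ I ^ n, X.proj x = 0 → x = 0 := by
  haveI : Nontrivial X.E := X.proj.toRingHom.domain_nontrivial
  haveI : IsLocalRing X.E := IsLocalRing.of_nonunits_add fun a b ha hb => by
    rw [mem_nonunits_iff, isUnit_iff_proj] at ha hb ⊢
    rw [map_add]
    exact IsLocalRing.nonunits_add ha hb
  haveI : Nontrivial L := IsSimpleModule.nontrivial R L
  obtain ⟨z0, hz0⟩ := exists_ne (0 : L)
  haveI : IsNoetherianRing X.E := by
    have hnil : IsNilpotent (RingHom.ker X.proj.toRingHom) := ⟨2, by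
      rw [pow_two, Submodule.zero_eq_bot, eq_bot_iff, Ideal.mul_le]
      intro a ha b hb
      obtain ⟨za, rfl⟩ := (X.isExtension.exact a).mp ha
      obtain ⟨zb, rfl⟩ := (X.isExtension.exact b).mp hb
      rw [Ideal.mem_bot, mul_incl_zero]⟩
    have hfg : (RingHom.ker X.proj.toRingHom).FG := ⟨{X.incl z0}, by
      rw [Finset.coe_singleton]
      refine le_antisymm ((Ideal.span_singleton_le_iff_mem _).mpr ((X.isExtension.exact _).mpr ⟨z0, rfl⟩)) ?_
      intro e he
      obtain ⟨z, rfl⟩ := (X.isExtension.exact e).mp he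
      obtain ⟨r, rfl⟩ := IsSimpleModule.toSpanSingleton_surjective R hz0 z
      obtain ⟨e, rfl⟩ := X.isExtension.proj_surjective r
      exact Ideal.mem_span_singleton'.mpr ⟨e, by rw [X.isExtension.mul_incl]; rfl⟩⟩
    haveI : IsNoetherianRing (X.E ⧸ RingHom.ker X.proj.toRingHom) :=
      isNoetherianRing_of_ringEquiv R (RingHom.quotientKerEquivOfSurjective X.isExtension.proj_surjective).symm
    exact Groth.Agent.ArtinFlat.isNoetherianRing_of_isNilpotent hnil hfg
  obtain ⟨n, hn⟩ : ∃ n, X.incl z0 ∉ I ^ n := by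
    by_contra! h
    have h1 : X.incl z0 ∈ ⨅ n, I ^ n := Submodule.mem_iInf _ |>.mpr h
    rw [Ideal.iInf_pow_eq_bot_of_isLocalRing _ (fun h => hI 1 (by rw [h]; trivial) isUnit_one)] at h1
    exact hz0 (X.isExtension.incl_injective (h1.trans (map_zero X.incl).symm))
  refine ⟨n, fun x hx hx0 => ?_⟩
  obtain ⟨z, rfl⟩ := (X.isExtension.exact x).mp hx0
  let S : Submodule R L :=
    { carrier := {z | X.incl z ∈ I ^ n}
      add_mem' := fun {a b} ha hb => by
        show X.incl (a + b) ∈ I ^ n
        rw [map_add]; exact add_mem ha hb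
      zero_mem' := by show X.incl 0 ∈ I ^ n; rw [map_zero]; exact zero_mem _
      smul_mem' := fun r a ha => by
        obtain ⟨e, rfl⟩ := X.isExtension.proj_surjective r
        show X.incl (X.proj e • a) ∈ I ^ n
        rw [← X.isExtension.mul_incl]; exact Ideal.mul_mem_left _ _ ha }
  rcases IsSimpleOrder.eq_bot_or_eq_top S with h | h
  · have hz : z ∈ S := hx
    rw [h, Submodule.mem_bot] at hz
    rw [hz, map_zero]
  · exact absurd (show z0 ∈ S by rw [h]; trivial) hn

theorem X_mem_nonunits {S : Type u} [CommRing S] [Nontrivial S] {d : ℕ} :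
    ∀ x ∈ Ideal.span (Set.range (MvPowerSeries.X : Fin d → MvPowerSeries (Fin d) S)), ¬ IsUnit x := by
  intro x hx hu
  have hle : Ideal.span (Set.range (MvPowerSeries.X : Fin d → MvPowerSeries (Fin d) S)) ≤
      RingHom.ker (MvPowerSeries.constantCoeff (σ := Fin d) (R := S)) := by
    rw [Ideal.span_le]
    rintro _ ⟨i, rfl⟩
    exact MvPowerSeries.constantCoeff_X i
  exact (hu.map MvPowerSeries.constantCoeff).ne_zero (hle hx)

variable {P : Type u} [CommRing P] [Algebra Λ P]

/-- The map of extensions determined by compatible lifts. -/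
theorem exists_extHom {J : Ideal P} [Module (P ⧸ J) L] (X X' : Exal.Ext Λ (P ⧸ J) L) (u : P →ₐ[Λ] X.E) (u' : P →ₐ[Λ] X'.E)
    (hu : ∀ p, X.proj (u p) = Ideal.Quotient.mk J p) (hu' : ∀ p, X'.proj (u' p) = Ideal.Quotient.mk J p)
    (h : ∀ j ∈ J, ∃ z : L, X.incl z = u j ∧ X'.incl z = u' j) :
    ∃ f : X.E →ₐ[Λ] X'.E, ∀ p z, f (u p + X.incl z) = u' p + X'.incl z := by
  have hsurj : ∀ x, ∃ p z, x = u p + X.incl z := fun x => by
    obtain ⟨p, hp⟩ := Ideal.Quotient.mk_surjective (X.proj x)
    obtain ⟨z, hz⟩ := (X.isExtension.exact (x - u p)).mp (by rw [map_sub, hu, hp, sub_self])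
    exact ⟨p, z, by rw [hz, add_sub_cancel]⟩
  choose p z hpz using hsurj
  have wd : ∀ (x : X.E) q w, x = u q + X.incl w → u' (p x) + X'.incl (z x) = u' q + X'.incl w := by
    intro x q w hx
    have h1 := (hpz x).symm.trans hx
    have hj : p x - q ∈ J := by
      have := congrArg X.proj h1
      rw [map_add, map_add, hu, hu, (X.isExtension.exact _).mpr ⟨_, rfl⟩,
        (X.isExtension.exact _).mpr ⟨_, rfl⟩, add_zero, add_zero] at this
      exact Ideal.Quotient.eq.mp this
    obtain ⟨t, ht, ht'⟩ := h _ hj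
    have h2 : t = w - z x := X.isExtension.incl_injective (by
      rw [ht, map_sub, map_sub]; linear_combination h1)
    rw [h2, map_sub, map_sub] at ht'
    linear_combination -ht'
  have hmul : ∀ (Y : Exal.Ext Λ (P ⧸ J) L) (v : P →ₐ[Λ] Y.E), (∀ q, Y.proj (v q) = Ideal.Quotient.mk J q) → ∀ q q' w w',
      (v q + Y.incl w) * (v q' + Y.incl w') =
        v (q * q') + Y.incl (Ideal.Quotient.mk J q • w' + Ideal.Quotient.mk J q' • w) := by
    intro Y v hv q q' w w'
    rw [map_mul, map_add, ← hv, ← hv, ← Y.isExtension.mul_incl, ← Y.isExtension.mul_incl]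
    linear_combination mul_incl_zero Y w w'
  refine ⟨{ toFun := fun x => u' (p x) + X'.incl (z x)
            map_one' := by rw [wd 1 1 0 (by simp)]; simp
            map_mul' := fun x y => by
              rw [wd (x * y) (p x * p y) (Ideal.Quotient.mk J (p x) • z y + Ideal.Quotient.mk J (p y) • z x) (by
                rw [← hmul X u hu, ← hpz, ← hpz]), hmul X' u' hu']
            map_zero' := by rw [wd 0 0 0 (by simp)]; simp
            map_add' := fun x y => by
              rw [wd (x + y) (p x + p y) (z x + z y) (by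
                rw [map_add, map_add]; linear_combination hpz x + hpz y), map_add, map_add]
              ring
            commutes' := fun c => by
              rw [wd (algebraMap Λ X.E c) (algebraMap Λ P c) 0 (by simp)]; simp }, fun q w => wd _ q w rfl⟩

/-- Let k be an algebraically closed field, Λ a complete local Noetherian k-algebra with residue field
k, P = Λ[[X_1, …, X_d]] the power series ring, J an ideal of P contained in (X_1, …, X_d)^2, R =
P/J, and L a simple R-module (a copy of the residue field k). Then: (a) for every Λ-extension 0 → L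
→ E → R → 0 the quotient map P → R lifts to a Λ-algebra map u : P → E; (b) for two such extensions
E, E' with lifts u, u', the extensions are equivalent if and only if u and u' send every element of
J to the images of the same element of L (the restrictions J → L of the lifts agree); (c) every
P-linear map J → L is the restriction of a lift for some extension. Thus the classes of Λ-extensions
of R by L correspond bijectively to Hom_P(J, L), the dual of J/m_P J; this is the identification of
the obstruction space o(R/Λ) for a complete R (the general case reduces to it by passing to the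
completion). -/
theorem result
    {k : Type u} [Field k] [IsAlgClosed k]
    {Λ : Type u} [CommRing Λ] [Algebra k Λ] [IsLocalRing Λ] [IsNoetherianRing Λ]
    [IsAdicComplete (IsLocalRing.maximalIdeal Λ) Λ]
    (hΛ : ∀ a : Λ, ∃ c : k, a - algebraMap k Λ c ∈ IsLocalRing.maximalIdeal Λ)
    (d : ℕ) (J : Ideal (MvPowerSeries (Fin d) Λ))
    (hJ : J ≤ Ideal.span (Set.range (MvPowerSeries.X : Fin d → MvPowerSeries (Fin d) Λ)) ^ 2)
    (L : Type u) [AddCommGroup L] [Module (MvPowerSeries (Fin d) Λ ⧸ J) L] [Module (MvPowerSeries (Fin d) Λ) L]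
    [IsScalarTower (MvPowerSeries (Fin d) Λ) (MvPowerSeries (Fin d) Λ ⧸ J) L] [IsSimpleModule (MvPowerSeries (Fin d) Λ ⧸ J) L] :
    (∀ X : Exal.Ext Λ (MvPowerSeries (Fin d) Λ ⧸ J) L,
        ∃ u : MvPowerSeries (Fin d) Λ →ₐ[Λ] X.E, ∀ p, X.proj (u p) = Ideal.Quotient.mk J p) ∧
    (∀ (X X' : Exal.Ext Λ (MvPowerSeries (Fin d) Λ ⧸ J) L) (u : MvPowerSeries (Fin d) Λ →ₐ[Λ] X.E) (u' : MvPowerSeries (Fin d) Λ →ₐ[Λ] X'.E),
        (∀ p, X.proj (u p) = Ideal.Quotient.mk J p) → (∀ p, X'.proj (u' p) = Ideal.Quotient.mk J p) →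
        (Nonempty (X.Equiv X') ↔ ∀ j ∈ J, ∃ z : L, X.incl z = u j ∧ X'.incl z = u' j)) ∧
    (∀ δ : J →ₗ[MvPowerSeries (Fin d) Λ] L, ∃ (X : Exal.Ext Λ (MvPowerSeries (Fin d) Λ ⧸ J) L) (u : MvPowerSeries (Fin d) Λ →ₐ[Λ] X.E),
        (∀ p, X.proj (u p) = Ideal.Quotient.mk J p) ∧ ∀ j : J, X.incl (δ j) = u j) := by
  classical
  let V := Ideal.span (Set.range (MvPowerSeries.X : Fin d → MvPowerSeries (Fin d) Λ))
  have hJV : J ≤ V := hJ.trans (Ideal.pow_le_self two_ne_zero)
  have hJne : J ≠ ⊤ := fun h => X_mem_nonunits 1 (hJV (h ▸ trivial)) isUnit_one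
  haveI : Nontrivial (MvPowerSeries (Fin d) Λ ⧸ J) := Ideal.Quotient.nontrivial_iff.mpr hJne
  haveI : IsLocalRing (MvPowerSeries (Fin d) Λ ⧸ J) := IsLocalRing.of_surjective' _ Ideal.Quotient.mk_surjective
  have hVm : ∀ a ∈ V, Ideal.Quotient.mk J a ∈ IsLocalRing.maximalIdeal _ := fun a ha =>
    IsLocalRing.mem_maximalIdeal _ |>.mpr fun hu => by
      obtain ⟨b, hb⟩ := hu.exists_right_inv
      obtain ⟨b, rfl⟩ := Ideal.Quotient.mk_surjective b
      rw [← map_mul, ← map_one (Ideal.Quotient.mk J)] at hb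
      have h1 : (1 : MvPowerSeries (Fin d) Λ) ∈ V := by
        have := sub_mem (Ideal.mul_mem_right b _ ha) (hJV (Ideal.Quotient.eq.mp hb))
        rwa [sub_sub_cancel] at this
      exact X_mem_nonunits 1 h1 isUnit_one
  have hsimple : ∀ a ∈ V, ∀ z : L, Ideal.Quotient.mk J a • z = 0 := fun a ha z =>
    smul_eq_zero_of_isSimpleModule (hVm a ha) z
  refine ⟨fun X => ?_, fun X X' u u' hu hu' => ⟨?_, ?_⟩, fun δ => ?_⟩
  · choose e he using fun i => X.isExtension.proj_surjective (Ideal.Quotient.mk J (MvPowerSeries.X i))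
    let I : Ideal X.E := Ideal.span (Set.range e)
    have hImap : I.map X.proj = V.map (Ideal.Quotient.mk J) := by
      rw [Ideal.map_span, Ideal.map_span, ← Set.range_comp, ← Set.range_comp]
      exact congrArg (fun f => Ideal.span (Set.range f)) (funext he)
    obtain ⟨n₀, hn₀⟩ := exists_pow_inf_eq_bot X I fun x hx hu => by
      have h1 : X.proj x ∈ V.map (Ideal.Quotient.mk J) := hImap ▸ Ideal.mem_map_of_mem _ hx
      obtain ⟨a, ha, ha'⟩ := (Ideal.mem_map_iff_of_surjective _ Ideal.Quotient.mk_surjective).mp h1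
      exact (IsLocalRing.mem_maximalIdeal _).mp (hVm a ha) (ha' ▸ hu.map X.proj)
    let n := n₀ + 1
    have hn : ∀ x ∈ I ^ n, X.proj x = 0 → x = 0 := fun x hx => hn₀ x (Ideal.pow_le_pow_right (Nat.le_succ n₀) hx)
    have haI : ∀ i, e i ∈ I := fun i => Ideal.subset_span ⟨i, rfl⟩
    let ψ := CohenStruct.evalLevel I (algebraMap Λ X.E) e haI n
    have huniq : ∀ x y, Ideal.Quotient.mk (I ^ n) x = Ideal.Quotient.mk (I ^ n) y → X.proj x = X.proj y → x = y :=
      fun x y h1 h2 => sub_eq_zero.mp (hn _ (Ideal.Quotient.eq.mp h1) (by rw [map_sub, h2, sub_self]))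
    have hpoly : ∀ q : MvPolynomial (Fin d) Λ, X.proj (MvPolynomial.eval₂ (algebraMap Λ X.E) e q) =
        Ideal.Quotient.mk J (q : MvPowerSeries (Fin d) Λ) := by
      intro q
      induction q using MvPolynomial.induction_on with
      | C c => rw [MvPolynomial.eval₂_C, AlgHom.commutes, MvPolynomial.coe_C]; rfl
      | add a b ha hb => rw [MvPolynomial.eval₂_add, map_add, ha, hb, MvPolynomial.coe_add, map_add]
      | mul_X a i ha => rw [MvPolynomial.eval₂_mul, MvPolynomial.eval₂_X, map_mul, ha, he, MvPolynomial.coe_mul, map_mul,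
          MvPolynomial.coe_X]
    have hex : ∀ f, ∃ x, Ideal.Quotient.mk (I ^ n) x = ψ f ∧ X.proj x = Ideal.Quotient.mk J f := by
      intro f
      have h1 : Ideal.Quotient.mk J (f - (MvPowerSeries.truncTotal n f : MvPowerSeries (Fin d) Λ)) ∈ (I ^ n).map X.proj := by
        rw [Ideal.map_pow, hImap, ← Ideal.map_pow]
        exact Ideal.mem_map_of_mem _ (sub_truncTotal_mem n f)
      obtain ⟨i, hi, hi'⟩ := (Ideal.mem_map_iff_of_surjective _ X.isExtension.proj_surjective).mp h1
      refine ⟨MvPolynomial.eval₂ (algebraMap Λ X.E) e (MvPowerSeries.truncTotal n f) + i, ?_, ?_⟩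
      · rw [map_add, Ideal.Quotient.eq_zero_iff_mem.mpr hi, add_zero]
        rfl
      · rw [map_add, hpoly, hi', map_sub, add_sub_cancel]
    choose u h1 h2 using hex
    refine ⟨{ toFun := u
              map_one' := huniq _ _ (by rw [h1, map_one, map_one]) (by rw [h2, map_one, map_one])
              map_mul' := fun a b => huniq _ _ (by rw [h1, map_mul, map_mul, h1, h1]) (by rw [h2, map_mul, map_mul, h2, h2])
              map_zero' := huniq _ _ (by rw [h1, map_zero, map_zero]) (by rw [h2, map_zero, map_zero])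
              map_add' := fun a b => huniq _ _ (by rw [h1, map_add, map_add, h1, h1]) (by rw [h2, map_add, map_add, h2, h2])
              commutes' := fun c => huniq _ _ (by
                rw [h1]
                show CohenStruct.evalLevel I (algebraMap Λ X.E) e haI n (algebraMap Λ _ c) = _
                rw [show algebraMap Λ (MvPowerSeries (Fin d) Λ) c = ((MvPolynomial.C c : MvPolynomial (Fin d) Λ) : MvPowerSeries (Fin d) Λ)
                  from (MvPolynomial.coe_C c).symm, CohenStruct.evalLevel, RingHom.comp_apply]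
                have h := (MvPowerSeries.truncTotalAlgHom (Fin d) Λ n).commutes (MvPolynomial.C c)
                rw [AlgHom.toRingHom_eq_coe, RingHom.coe_coe]
                erw [h]
                exact congrArg (Ideal.Quotient.mk (I ^ n)) (MvPolynomial.eval₂_C _ _ c))
                (by rw [h2, AlgHom.commutes]; rfl) }, h2⟩
  · rintro ⟨ε⟩ j hj
    obtain ⟨z, hz⟩ := (X.isExtension.exact (u j)).mp (by rw [hu, Ideal.Quotient.eq_zero_iff_mem.mpr hj])
    refine ⟨z, hz, ?_⟩
    rw [← ε.apply_incl, hz]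
    have hw : ∀ p, X'.proj (ε.toAlgEquiv (u p)) = Ideal.Quotient.mk J p := fun p => (ε.proj_apply _).trans (hu p)
    have hdiff : ∀ p, ∃ t, X'.incl t = ε.toAlgEquiv (u p) - u' p := fun p =>
      (X'.isExtension.exact _).mp (by rw [map_sub, hw, hu', sub_self])
    have key : ∀ x ∈ V * V, ε.toAlgEquiv (u x) = u' x := by
      intro x hx
      refine Submodule.mul_induction_on hx (fun a ha b hb => ?_) (fun a b ha hb => by rw [map_add, map_add, map_add, ha, hb])
      obtain ⟨s, hs⟩ := hdiff a
      obtain ⟨t, ht⟩ := hdiff b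
      have e1 : ε.toAlgEquiv (u a) * X'.incl t = 0 := by rw [X'.isExtension.mul_incl, hw, hsimple a ha, map_zero]
      have e2 : u' b * X'.incl s = 0 := by rw [X'.isExtension.mul_incl, hu', hsimple b hb, map_zero]
      rw [ht] at e1; rw [hs] at e2
      rw [map_mul, map_mul, map_mul]
      linear_combination e1 + e2
    exact key j (pow_two V ▸ hJ hj)
  · intro h
    obtain ⟨f, hf⟩ := exists_extHom X X' u u' hu hu' h
    obtain ⟨g, hg⟩ := exists_extHom X' X u' u hu' hu fun j hj => (h j hj).imp fun z hz => hz.symm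
    have hdec : ∀ (Y : Exal.Ext Λ (MvPowerSeries (Fin d) Λ ⧸ J) L) (v : MvPowerSeries (Fin d) Λ →ₐ[Λ] Y.E),
        (∀ q, Y.proj (v q) = Ideal.Quotient.mk J q) → ∀ x, ∃ p z, x = v p + Y.incl z := fun Y v hv x => by
      obtain ⟨p, hp⟩ := Ideal.Quotient.mk_surjective (Y.proj x)
      obtain ⟨z, hz⟩ := (Y.isExtension.exact (x - v p)).mp (by rw [map_sub, hv, hp, sub_self])
      exact ⟨p, z, by rw [hz, add_sub_cancel]⟩
    refine ⟨{ toAlgEquiv := AlgEquiv.ofAlgHom f g (AlgHom.ext fun x => ?_) (AlgHom.ext fun x => ?_)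
              proj_apply := fun x => ?_
              apply_incl := fun z => ?_ }⟩
    · obtain ⟨p, z, rfl⟩ := hdec X' u' hu' x
      show f (g _) = _
      rw [hg, hf]; rfl
    · obtain ⟨p, z, rfl⟩ := hdec X u hu x
      show g (f _) = _
      rw [hf, hg]; rfl
    · obtain ⟨p, z, rfl⟩ := hdec X u hu x
      show X'.proj (f _) = _
      rw [hf, map_add, map_add, hu, hu', (X.isExtension.exact _).mpr ⟨z, rfl⟩, (X'.isExtension.exact _).mpr ⟨z, rfl⟩]
    · show f _ = _
      have := hf 0 z
      rwa [map_zero, map_zero, zero_add, zero_add] at this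
  · let T := Exal.Ext.trivial Λ (MvPowerSeries (Fin d) Λ) L
    obtain ⟨s, hs⟩ : T.IsTrivial := ⟨{
      toRingHom := (letI := Exal.opModule (MvPowerSeries (Fin d) Λ) L
        letI := Exal.isCentralScalar_opModule (MvPowerSeries (Fin d) Λ) L
        TrivSqZeroExt.inlHom (MvPowerSeries (Fin d) Λ) L)
      commutes' := fun c => rfl }, fun b => rfl⟩
    have hTi : ∀ z, T.proj (T.incl z) = 0 := fun z => (T.isExtension.exact _).mpr ⟨z, rfl⟩
    let K : Ideal T.E :=
      { carrier := {x | ∃ j : J, x = s j - T.incl (δ j)}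
        add_mem' := fun {a b} ⟨i, hi⟩ ⟨j, hj⟩ => ⟨i + j, by
          rw [hi, hj, map_add δ, map_add, Submodule.coe_add, map_add]; abel⟩
        zero_mem' := ⟨0, by simp⟩
        smul_mem' := fun x a ⟨j, hj⟩ => by
          obtain ⟨z, hz⟩ := (T.isExtension.exact (x - s (T.proj x))).mp (by rw [map_sub, hs, sub_self])
          refine ⟨⟨T.proj x * j, J.mul_mem_left _ j.2⟩, ?_⟩
          have hδ : δ ⟨T.proj x * j, J.mul_mem_left _ j.2⟩ = T.proj x • δ j := by
            rw [← map_smul]; rfl
          rw [hδ, hj, smul_eq_mul, ← T.isExtension.mul_incl, map_mul]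
          have hjz : (j : MvPowerSeries (Fin d) Λ) • z = 0 := by
            rw [← IsScalarTower.algebraMap_smul (MvPowerSeries (Fin d) Λ ⧸ J) (j : MvPowerSeries (Fin d) Λ) z,
              Ideal.Quotient.algebraMap_eq, Ideal.Quotient.eq_zero_iff_mem.mpr j.2]
            exact zero_smul (MvPowerSeries (Fin d) Λ ⧸ J) z
          have e1 : s j * (x - s (T.proj x)) = 0 := by rw [← hz, T.isExtension.mul_incl, hs, hjz, map_zero]
          linear_combination e1 }
    have hK : ∀ x, x ∈ K ↔ ∃ j : J, x = s j - T.incl (δ j) := fun x => Iff.rfl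
    let pr : T.E ⧸ K →ₐ[Λ] MvPowerSeries (Fin d) Λ ⧸ J := Ideal.Quotient.liftₐ K ((Ideal.Quotient.mkₐ Λ J).comp T.proj) (by
      intro x hx
      obtain ⟨j, rfl⟩ := (hK x).mp hx
      rw [AlgHom.comp_apply, map_sub T.proj, hs, hTi, sub_zero]
      exact Ideal.Quotient.eq_zero_iff_mem.mpr j.2)
    have hpr : ∀ x, pr (Ideal.Quotient.mk K x) = Ideal.Quotient.mk J (T.proj x) := fun x => rfl
    refine ⟨{ E := T.E ⧸ K
              proj := pr
              incl := (Ideal.Quotient.mk K).toAddMonoidHom.comp T.incl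
              isExtension :=
                { proj_surjective := fun r => ?_
                  incl_injective := ?_
                  exact := fun x => ?_
                  mul_incl := fun x z => ?_ } }, (Ideal.Quotient.mkₐ Λ K).comp s, fun p => ?_, fun j => ?_⟩
    · obtain ⟨p, rfl⟩ := Ideal.Quotient.mk_surjective r
      exact ⟨Ideal.Quotient.mk K (s p), by rw [hpr, hs]⟩
    · rw [injective_iff_map_eq_zero]
      intro z hz
      obtain ⟨j, hj⟩ := (hK _).mp (Ideal.Quotient.eq_zero_iff_mem.mp hz)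
      have h0 : (j : MvPowerSeries (Fin d) Λ) = 0 := by
        have := congrArg T.proj hj
        rw [hTi, map_sub, hs, hTi, sub_zero] at this
        exact this.symm
      rw [show j = 0 from Subtype.ext h0, Submodule.coe_zero, map_zero, map_zero, map_zero, sub_zero] at hj
      exact T.isExtension.incl_injective (hj.trans (map_zero T.incl).symm)
    · obtain ⟨x, rfl⟩ := Ideal.Quotient.mk_surjective x
      constructor
      · intro hx
        rw [hpr, Ideal.Quotient.eq_zero_iff_mem] at hx
        obtain ⟨z, hz⟩ := (T.isExtension.exact (x - s (T.proj x))).mp (by rw [map_sub, hs, sub_self])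
        refine ⟨z + δ ⟨_, hx⟩, ?_⟩
        show Ideal.Quotient.mk K (T.incl (z + δ ⟨_, hx⟩)) = Ideal.Quotient.mk K x
        refine (Ideal.Quotient.eq.mpr ((hK _).mpr ⟨⟨_, hx⟩, ?_⟩)).symm
        rw [map_add, hz]
        show x - (x - s (T.proj x) + _) = _
        abel
      · rintro ⟨z, hz⟩
        rw [← hz]
        show pr (Ideal.Quotient.mk K (T.incl z)) = 0
        rw [hpr, hTi, map_zero]
    · obtain ⟨x, rfl⟩ := Ideal.Quotient.mk_surjective x
      show Ideal.Quotient.mk K x * Ideal.Quotient.mk K (T.incl z) = Ideal.Quotient.mk K (T.incl (pr (Ideal.Quotient.mk K x) • z))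
      rw [← map_mul, T.isExtension.mul_incl, hpr,
        ← IsScalarTower.algebraMap_smul (MvPowerSeries (Fin d) Λ ⧸ J) (T.proj x) z, Ideal.Quotient.algebraMap_eq]
    · show pr (Ideal.Quotient.mk K (s p)) = _
      rw [hpr, hs]
    · exact (Ideal.Quotient.eq.mpr ((hK _).mpr ⟨j, rfl⟩)).symm


end Groth.Agent.S11287
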