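import Groth.Statements.S11283
import Mathlib
import Groth.Agent.S11287
import Groth.Agent.S0543
import Groth.Agent.TopFT.RPowBasic
-- import your own Groth.Agent.* helpers here

set_option autoImplicit false
universe u
open Deform

namespace Groth.Agent.S11283

theorem nonempty_equiv_of_hom {A B L : Type u} [CommRing A] [CommRing B] [Algebra A B] [AddCommGroup L] [Module B L]
    (X Y : Exal.Ext A B L) (f : X.E →ₐ[A] Y.E) (h1 : ∀ x, Y.proj (f x) = X.proj x)
    (h2 : ∀ z, f (X.incl z) = Y.incl z) : Nonempty (X.Equiv Y) := by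
  have hbij : Function.Bijective f := by
    refine ⟨(injective_iff_map_eq_zero f).mpr fun x hx => ?_, fun y => ?_⟩
    · obtain ⟨z, rfl⟩ := (X.isExtension.exact x).mp (by rw [← h1, hx, map_zero])
      rw [h2] at hx
      rw [Y.isExtension.incl_injective (hx.trans (map_zero Y.incl).symm), map_zero]
    · obtain ⟨x, hx⟩ := X.isExtension.proj_surjective (Y.proj y)
      obtain ⟨z, hz⟩ := (Y.isExtension.exact (y - f x)).mp (by rw [map_sub, h1, hx, sub_self])
      exact ⟨x + X.incl z, by rw [map_add, h2, hz, add_sub_cancel]⟩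
  exact ⟨{ toAlgEquiv := AlgEquiv.ofBijective f hbij, proj_apply := h1, apply_incl := h2 }⟩

variable {R : Type u} [CommRing R] [IsLocalRing R] [IsNoetherianRing R]

local notation "R̂" => AdicCompletion (IsLocalRing.maximalIdeal R) R

theorem exists_sub_algebraMap_mem (n : ℕ) (x : R̂) :
    ∃ r : R, x - algebraMap R R̂ r ∈ IsLocalRing.maximalIdeal R̂ ^ n := by
  obtain ⟨r, hr⟩ := Ideal.Quotient.mk_surjective (AdicCompletion.evalₐ (IsLocalRing.maximalIdeal R) n x)
  refine ⟨r, ?_⟩
  rw [AdicCompletion.maximalIdeal_eq_map, ← TopFT.ker_evalₐ _ (IsLocalRing.maximalIdeal R).fg_of_isNoetherianRing,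
    RingHom.mem_ker, map_sub, AlgHom.commutes, Ideal.Quotient.algebraMap_eq, hr, sub_self]

theorem algebraMap_mem_pow_iff (n : ℕ) (r : R) :
    algebraMap R R̂ r ∈ IsLocalRing.maximalIdeal R̂ ^ n ↔ r ∈ IsLocalRing.maximalIdeal R ^ n := by
  rw [AdicCompletion.maximalIdeal_eq_map, ← TopFT.ker_evalₐ _ (IsLocalRing.maximalIdeal R).fg_of_isNoetherianRing,
    RingHom.mem_ker, AlgHom.commutes, Ideal.Quotient.algebraMap_eq, Ideal.Quotient.eq_zero_iff_mem]

/-- Let k be an algebraically closed field, Λ a complete local Noetherian k-algebra with residue field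
k, R a local Noetherian Λ-algebra with local structure map and residue field k, and R̂ the
completion of R at its maximal ideal. Let L be a simple R-module (a one-dimensional k-vector space
on which R acts through its residue field) carrying a compatible R̂-module structure. Then inverse
image of Λ-extensions along R → R̂ induces a bijection o(R̂/Λ) → o(R/Λ) on classes of Λ-extensions
by L: two Λ-extensions of R̂ by L whose inverse images over R are equivalent are equivalent, and
every Λ-extension of R by L is equivalent to the inverse image of one of R̂. -/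
theorem result
    {k : Type u} [Field k] [IsAlgClosed k]
    {Λ : Type u} [CommRing Λ] [Algebra k Λ] [IsLocalRing Λ] [IsNoetherianRing Λ]
    [IsAdicComplete (IsLocalRing.maximalIdeal Λ) Λ]
    (hΛ : ∀ a : Λ, ∃ c : k, a - algebraMap k Λ c ∈ IsLocalRing.maximalIdeal Λ)
    {R : Type u} [CommRing R] [Algebra Λ R] [IsLocalRing R] [IsNoetherianRing R]
    [IsLocalHom (algebraMap Λ R)]
    (hR : ∀ r : R, ∃ c : k, r - algebraMap Λ R (algebraMap k Λ c) ∈ IsLocalRing.maximalIdeal R)
    (L : Type u) [AddCommGroup L] [Module (AdicCompletion (IsLocalRing.maximalIdeal R) R) L] [Module R L]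
    [IsScalarTower R (AdicCompletion (IsLocalRing.maximalIdeal R) R) L] [IsSimpleModule R L] :
    (∀ X X' : Exal.Ext Λ (AdicCompletion (IsLocalRing.maximalIdeal R) R) L,
        Nonempty ((X.pullback R).Equiv (X'.pullback R)) → Nonempty (X.Equiv X')) ∧
    (∀ Y : Exal.Ext Λ R L, ∃ X : Exal.Ext Λ (AdicCompletion (IsLocalRing.maximalIdeal R) R) L,
        Nonempty ((X.pullback R).Equiv Y)) := by
  classical
  let m := IsLocalRing.maximalIdeal R
  let C := AdicCompletion m R
  let M := IsLocalRing.maximalIdeal C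
  let a : R →+* C := algebraMap R C
  haveI : IsNoetherianRing C := S0543.result R m
  haveI : IsSimpleModule C L := by
    haveI : Nontrivial L := IsSimpleModule.nontrivial R L
    haveI : Nontrivial (Submodule C L) := Submodule.nontrivial_iff C |>.mpr inferInstance
    exact isSimpleModule_iff C L |>.mpr ⟨fun N => (IsSimpleOrder.eq_bot_or_eq_top (N.restrictScalars R)).imp
      (fun h => Submodule.restrictScalars_injective R C L (h.trans (Submodule.restrictScalars_bot R C L).symm))
      (fun h => Submodule.restrictScalars_injective R C L (h.trans (Submodule.restrictScalars_top R C L).symm))⟩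
  refine ⟨fun X X' ⟨ε⟩ => ?_, fun Y => ?_⟩
  · have hI : ∀ Z : Exal.Ext Λ C L, ∀ x ∈ M.comap Z.proj.toRingHom, ¬ IsUnit x := fun Z x hx hu =>
      (IsLocalRing.mem_maximalIdeal _).mp hx (hu.map Z.proj)
    obtain ⟨n₁, hn₁⟩ := S11287.exists_pow_inf_eq_bot X _ (hI X)
    obtain ⟨n₂, hn₂⟩ := S11287.exists_pow_inf_eq_bot X' _ (hI X')
    let n := n₁ + n₂
    let I := M.comap X.proj.toRingHom
    let I' := M.comap X'.proj.toRingHom
    have hn : ∀ x ∈ I ^ n, X.proj x = 0 → x = 0 := fun x hx => hn₁ x (Ideal.pow_le_pow_right (Nat.le_add_right _ _) hx)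
    have hn' : ∀ x ∈ I' ^ n, X'.proj x = 0 → x = 0 := fun x hx => hn₂ x (Ideal.pow_le_pow_right (Nat.le_add_left _ _) hx)
    have hlift : ∀ (Z : Exal.Ext Λ C L) (c : C), c ∈ M ^ n → ∃ i ∈ (M.comap Z.proj.toRingHom) ^ n, Z.proj i = c := by
      intro Z c hc
      rw [← Ideal.map_comap_of_surjective Z.proj.toRingHom Z.isExtension.proj_surjective M, ← Ideal.map_pow] at hc
      obtain ⟨i, hi, hi'⟩ := (Ideal.mem_map_iff_of_surjective Z.proj.toRingHom Z.isExtension.proj_surjective).mp hc
      exact ⟨i, hi, hi'⟩
    have hfib : ∀ (Z : Exal.Ext Λ C L) (w : (Z.pullback R).E), Z.proj w.1.1 = a w.1.2 := fun Z w => w.2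
    let π : (X.pullback R).E →+* R := (X.pullback R).proj.toRingHom
    let π' : (X'.pullback R).E →+* R := (X'.pullback R).proj.toRingHom
    let fst : (X.pullback R).E →+* X.E := (RingHom.fst X.E R).comp (X.fiberProd R).val.toRingHom
    let fst' : (X'.pullback R).E →+* X'.E := (RingHom.fst X'.E R).comp (X'.fiberProd R).val.toRingHom
    let e : (X.pullback R).E →ₐ[Λ] (X'.pullback R).E := ε.toAlgEquiv.toAlgHom
    have he : ∀ w, π' (e w) = π w := ε.proj_apply
    have key : ∀ w : (X.pullback R).E, fst w ∈ I ^ n → fst' (e w) ∈ I' ^ n := by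
      intro w hw
      have hr : π w ∈ m ^ n := by
        rw [← algebraMap_mem_pow_iff, show algebraMap R C (π w) = X.proj (fst w) from (hfib X w).symm]
        have h := Ideal.mem_map_of_mem X.proj.toRingHom hw
        rw [Ideal.map_pow] at h
        exact Ideal.pow_right_mono Ideal.map_comap_le n h
      rw [← Ideal.map_comap_of_surjective π (X.pullback R).isExtension.proj_surjective m, ← Ideal.map_pow] at hr
      obtain ⟨y, hy, hy'⟩ := (Ideal.mem_map_iff_of_surjective π (X.pullback R).isExtension.proj_surjective).mp hr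
      have hm : ∀ r ∈ m, a r ∈ M := fun r hr => by
        have := (algebraMap_mem_pow_iff 1 r).mpr (by rwa [pow_one])
        rwa [pow_one] at this
      have h1 : fst y ∈ I ^ n := by
        have h := Ideal.mem_map_of_mem fst hy
        rw [Ideal.map_pow] at h
        refine Ideal.pow_right_mono (Ideal.map_le_iff_le_comap.mpr fun v hv => ?_) n h
        show X.proj (fst v) ∈ M
        rw [show X.proj (fst v) = a (π v) from hfib X v]
        exact hm _ hv
      have hwy : w = y := by
        refine Subtype.ext (Prod.ext ?_ hy'.symm)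
        have h0 := hn (fst w - fst y) (sub_mem hw h1) (by
          rw [map_sub, show X.proj (fst w) = a (π w) from hfib X w, show X.proj (fst y) = a (π y) from hfib X y, hy', sub_self])
        exact sub_eq_zero.mp h0
      subst hwy
      have h := Ideal.mem_map_of_mem (fst'.comp e.toRingHom) hy
      rw [Ideal.map_pow] at h
      refine Ideal.pow_right_mono (Ideal.map_le_iff_le_comap.mpr fun v hv => ?_) n h
      show X'.proj (fst' (e v)) ∈ M
      rw [show X'.proj (fst' (e v)) = a (π' (e v)) from hfib X' (e v), he]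
      exact hm _ hv
    let Rel : X.E → X'.E → Prop := fun x y =>
      ∃ w, x - fst w ∈ I ^ n ∧ y - fst' (e w) ∈ I' ^ n ∧ X'.proj y = X.proj x
    have htot : ∀ x, ∃ y, Rel x y := by
      intro x
      obtain ⟨r, hr⟩ := exists_sub_algebraMap_mem n (X.proj x)
      obtain ⟨i, hi, hi'⟩ := hlift X _ hr
      have hmem : (x - i, r) ∈ X.fiberProd R := by
        show X.proj (x - i) = a r
        rw [map_sub, hi', sub_sub_cancel]
      let w : (X.pullback R).E := ⟨(x - i, r), hmem⟩
      obtain ⟨i', hi₂, hi₂'⟩ := hlift X' _ hr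
      refine ⟨fst' (e w) + i', w, ?_, by rw [add_sub_cancel_left]; exact hi₂, ?_⟩
      · show x - (x - i) ∈ I ^ n
        rw [sub_sub_cancel]; exact hi
      · rw [map_add, show X'.proj (fst' (e w)) = a (π' (e w)) from hfib X' (e w), he, hi₂']
        show a r + (X.proj x - a r) = X.proj x
        ring
    have huniq : ∀ x y y', Rel x y → Rel x y' → y = y' := by
      rintro x y y' ⟨w, h1, h2, h3⟩ ⟨w', h1', h2', h3'⟩
      refine sub_eq_zero.mp (hn' _ ?_ (by rw [map_sub, h3, h3', sub_self]))
      have h4 := key (w - w') (by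
        rw [map_sub]
        have := sub_mem h1' h1
        rwa [sub_sub_sub_cancel_left] at this)
      rw [map_sub, map_sub] at h4
      have := add_mem (sub_mem h2 h2') h4
      ring_nf at this ⊢
      exact this
    choose f hf using htot
    have hwd : ∀ x y, Rel x y → f x = y := fun x y h => huniq x _ _ (hf x) h
    have hradd : ∀ x x' y y', Rel x y → Rel x' y' → Rel (x + x') (y + y') := by
      rintro x x' y y' ⟨w, h1, h2, h3⟩ ⟨w', h1', h2', h3'⟩
      refine ⟨w + w', ?_, ?_, by rw [map_add, map_add, h3, h3']⟩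
      · rw [map_add, add_sub_add_comm]; exact add_mem h1 h1'
      · rw [map_add, map_add, add_sub_add_comm]; exact add_mem h2 h2'
    have hrmul : ∀ x x' y y', Rel x y → Rel x' y' → Rel (x * x') (y * y') := by
      rintro x x' y y' ⟨w, h1, h2, h3⟩ ⟨w', h1', h2', h3'⟩
      refine ⟨w * w', ?_, ?_, by rw [map_mul, map_mul, h3, h3']⟩
      · rw [map_mul, show x * x' - fst w * fst w' = x' * (x - fst w) + fst w * (x' - fst w') by ring]
        exact add_mem (Ideal.mul_mem_left _ _ h1) (Ideal.mul_mem_left _ _ h1')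
      · rw [map_mul, map_mul,
          show y * y' - fst' (e w) * fst' (e w') = y' * (y - fst' (e w)) + fst' (e w) * (y' - fst' (e w')) by ring]
        exact add_mem (Ideal.mul_mem_left _ _ h2) (Ideal.mul_mem_left _ _ h2')
    have hrfst : ∀ w, Rel (fst w) (fst' (e w)) := fun w => ⟨w, by simp, by simp, by
      rw [show X'.proj (fst' (e w)) = a (π' (e w)) from hfib X' (e w), he]; exact (hfib X w).symm⟩
    refine nonempty_equiv_of_hom X X'
      { toFun := f
        map_one' := hwd _ _ (by
          have := hrfst 1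
          rwa [map_one, map_one, map_one] at this)
        map_mul' := fun x y => hwd _ _ (hrmul _ _ _ _ (hf x) (hf y))
        map_zero' := hwd _ _ (by
          have := hrfst 0
          rwa [map_zero, map_zero, map_zero] at this)
        map_add' := fun x y => hwd _ _ (hradd _ _ _ _ (hf x) (hf y))
        commutes' := fun c => hwd _ _ (by
          have := hrfst (algebraMap Λ _ c)
          rwa [e.commutes] at this) } (fun x => (hf x).choose_spec.2.2) (fun z => hwd _ _ ?_)
    have h := hrfst ((X.pullback R).incl z)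
    rwa [show e ((X.pullback R).incl z) = (X'.pullback R).incl z from ε.apply_incl z] at h
  · obtain ⟨n₀, hn₀⟩ := S11287.exists_pow_inf_eq_bot Y (m.comap Y.proj.toRingHom) fun x hx hu =>
      (IsLocalRing.mem_maximalIdeal _).mp hx (hu.map Y.proj)
    let n := n₀ + 1
    let I := m.comap Y.proj.toRingHom
    have hn : ∀ x ∈ I ^ n, Y.proj x = 0 → x = 0 := fun x hx => hn₀ x (Ideal.pow_le_pow_right (Nat.le_succ _) hx)
    let q : Y.E ⧸ I ^ n →ₐ[Λ] R ⧸ m ^ n := Ideal.Quotient.liftₐ (I ^ n) ((Ideal.Quotient.mkₐ Λ (m ^ n)).comp Y.proj)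
      (fun x hx => by
        have h := Ideal.mem_map_of_mem Y.proj.toRingHom hx
        rw [Ideal.map_pow] at h
        exact Ideal.Quotient.eq_zero_iff_mem.mpr (Ideal.pow_right_mono Ideal.map_comap_le n h))
    let g : C →ₐ[Λ] R ⧸ m ^ n := (AdicCompletion.evalₐ m n).restrictScalars Λ
    have hq : ∀ y, q (Ideal.Quotient.mk _ y) = Ideal.Quotient.mk _ (Y.proj y) := fun y => rfl
    have hg : ∀ r, g (a r) = Ideal.Quotient.mk _ r := fun r => (AdicCompletion.evalₐ m n).commutes r
    let E : Subalgebra Λ ((Y.E ⧸ I ^ n) × C) :=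
      AlgHom.equalizer (q.comp (AlgHom.fst Λ _ _)) (g.comp (AlgHom.snd Λ _ _))
    have hE : ∀ p, p ∈ E ↔ q p.1 = g p.2 := fun p => Iff.rfl
    have hYi : ∀ z, Y.proj (Y.incl z) = 0 := fun z => (Y.isExtension.exact _).mpr ⟨z, rfl⟩
    have hmul : ∀ (c : C) (r : R), g c = Ideal.Quotient.mk _ r → ∀ z : L, c • z = r • z := by
      intro c r hc z
      have h1 : c - a r ∈ M ^ n := by
        rw [show M = m.map (algebraMap R C) from AdicCompletion.maximalIdeal_eq_map,
          ← TopFT.ker_evalₐ _ (IsLocalRing.maximalIdeal R).fg_of_isNoetherianRing, RingHom.mem_ker, map_sub]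
        exact sub_eq_zero.mpr (hc.trans (hg r).symm)
      have h2 := S11287.smul_eq_zero_of_isSimpleModule (Ideal.pow_le_self (Nat.succ_ne_zero n₀) h1) z
      rw [sub_smul, sub_eq_zero] at h2
      rw [h2, IsScalarTower.algebraMap_smul]
    refine ⟨{ E := E
              proj := (AlgHom.snd Λ _ _).comp E.val
              incl :=
                { toFun := fun z => ⟨(Ideal.Quotient.mk _ (Y.incl z), 0), by
                    rw [hE, hq, hYi, map_zero, map_zero]⟩
                  map_zero' := Subtype.ext (Prod.ext (by simp) rfl)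
                  map_add' := fun z z' => Subtype.ext (Prod.ext (by simp) (by simp)) }
              isExtension :=
                { proj_surjective := fun c => ?_
                  incl_injective := ?_
                  exact := ?_
                  mul_incl := ?_ } }, ?_⟩
    · obtain ⟨r, hr⟩ := Ideal.Quotient.mk_surjective (g c)
      obtain ⟨y, hy⟩ := Y.isExtension.proj_surjective r
      exact ⟨⟨(Ideal.Quotient.mk _ y, c), by rw [hE, hq, hy, hr]⟩, rfl⟩
    · intro z z' h
      have h1 : Ideal.Quotient.mk (I ^ n) (Y.incl z) = Ideal.Quotient.mk (I ^ n) (Y.incl z') :=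
        congrArg (fun p : E => p.1.1) h
      exact Y.isExtension.incl_injective (sub_eq_zero.mp (hn _ (Ideal.Quotient.eq.mp h1)
        (by rw [map_sub, hYi, hYi, sub_self])))
    · rintro ⟨⟨v, c⟩, h⟩
      constructor
      · intro hc
        change c = 0 at hc
        subst hc
        obtain ⟨y, rfl⟩ := Ideal.Quotient.mk_surjective v
        rw [hE, hq, map_zero, Ideal.Quotient.eq_zero_iff_mem] at h
        change Y.proj y ∈ m ^ n at h
        rw [← Ideal.map_comap_of_surjective Y.proj.toRingHom Y.isExtension.proj_surjective m, ← Ideal.map_pow] at h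
        obtain ⟨i, hi, hi'⟩ := (Ideal.mem_map_iff_of_surjective Y.proj.toRingHom Y.isExtension.proj_surjective).mp h
        change Y.proj i = _ at hi'
        obtain ⟨z, hz⟩ := (Y.isExtension.exact (y - i)).mp (by rw [map_sub, hi', sub_self])
        refine ⟨z, Subtype.ext (Prod.ext ?_ rfl)⟩
        show Ideal.Quotient.mk (I ^ n) (Y.incl z) = Ideal.Quotient.mk (I ^ n) y
        rw [hz, map_sub, Ideal.Quotient.eq_zero_iff_mem.mpr hi, sub_zero]
      · rintro ⟨z, hz⟩
        exact (congrArg (fun p : E => p.1.2) hz).symm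
    · rintro ⟨⟨v, c⟩, h⟩ z
      obtain ⟨y, rfl⟩ := Ideal.Quotient.mk_surjective v
      rw [hE, hq] at h
      refine Subtype.ext (Prod.ext ?_ (mul_zero c))
      show Ideal.Quotient.mk (I ^ n) y * Ideal.Quotient.mk (I ^ n) (Y.incl z) = Ideal.Quotient.mk (I ^ n) (Y.incl (c • z))
      rw [← map_mul, Y.isExtension.mul_incl, hmul c _ h.symm]
    · let e0 : Y.E →ₐ[Λ] E := ((Ideal.Quotient.mkₐ Λ (I ^ n)).prod ((IsScalarTower.toAlgHom Λ R C).comp Y.proj)).codRestrict E
        fun y => by rw [hE]; exact (hg (Y.proj y)).symm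
      refine (nonempty_equiv_of_hom Y _ ((e0.prod Y.proj).codRestrict _ fun y => rfl) (fun y => rfl) fun z => ?_).map
        Exal.Ext.Equiv.symm
      refine Subtype.ext (Prod.ext (Subtype.ext (Prod.ext rfl ?_)) (hYi z))
      show a (Y.proj (Y.incl z)) = 0
      rw [hYi, map_zero]


end Groth.Agent.S11283
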