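import Groth.Statements.S11284
import Mathlib

set_option autoImplicit false
universe u
open Deform

namespace Groth.Agent.S11284

open TensorProduct

/-- An extension which splits after localising at a prime: the kernel of the conormal map dies there. -/
theorem exists_smul_eq_zero_of_cotangentComplex_eq_zero {A B : Type u} [CommRing A] [CommRing B] [Algebra A B]
    (P : Algebra.Extension.{u} A B) (hsq : P.ker ^ 2 = ⊥) (p : Ideal B) [p.IsPrime]
    [hsm : Algebra.FormallySmooth A (Localization.AtPrime p)] (x : P.Cotangent) (hx : P.cotangentComplex x = 0) :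
    ∃ u ∉ p, u • x = 0 := by
  obtain ⟨x₀, rfl⟩ := Algebra.Extension.Cotangent.mk_surjective x
  let pe := algebraMap P.Ring B
  let M := p.primeCompl.comap pe
  let Bp := Localization.AtPrime p
  let E' := Localization M
  have hM : ∀ m : M, IsUnit (((algebraMap B Bp).comp pe) m) := fun m =>
    IsLocalization.map_units Bp (⟨pe m.1, m.2⟩ : p.primeCompl)
  let g₀ : E' →+* Bp := IsLocalization.lift hM
  have hg₀ : ∀ a, g₀ (algebraMap P.Ring E' a) = algebraMap B Bp (pe a) := fun a => IsLocalization.lift_eq hM a
  let g : E' →ₐ[A] Bp := { g₀ with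
    commutes' := fun a => by
      show g₀ (algebraMap A E' a) = _
      rw [IsScalarTower.algebraMap_apply A P.Ring E', hg₀]
      show algebraMap B Bp (algebraMap P.Ring B (algebraMap A P.Ring a)) = _
      rw [← IsScalarTower.algebraMap_apply A P.Ring B, ← IsScalarTower.algebraMap_apply A B Bp] }
  have hk2 : ∀ a ∈ P.ker, ∀ b ∈ P.ker, a * b = 0 := fun a ha b hb => by
    have := Ideal.mul_mem_mul ha hb
    rwa [← pow_two, hsq, Ideal.mem_bot] at this
  have hker : ∀ z, g z = 0 → z ∈ P.ker.map (algebraMap P.Ring E') := by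
    intro z hz
    obtain ⟨a, m, rfl⟩ := IsLocalization.exists_mk'_eq M z
    have h1 : g₀ (IsLocalization.mk' E' a m) = 0 := hz
    rw [IsLocalization.lift_mk', Units.mul_left_eq_zero] at h1
    obtain ⟨⟨u, hu⟩, hu'⟩ := (IsLocalization.map_eq_zero_iff p.primeCompl Bp _).mp h1
    obtain ⟨w, rfl⟩ := P.algebraMap_surjective u
    have h2 : w * a ∈ P.ker := by
      rw [RingHom.mem_ker, map_mul]; exact hu'
    rw [IsLocalization.mk'_eq_mul_mk'_one]
    refine Ideal.mul_mem_right _ _ ?_
    have h3 := Ideal.mem_map_of_mem (algebraMap P.Ring E') h2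
    rw [map_mul] at h3
    exact (Ideal.unit_mul_mem_iff_mem _ (IsLocalization.map_units E' (⟨w, hu⟩ : M))).mp h3
  have hK2 : ∀ z w, g z = 0 → g w = 0 → z * w = 0 := fun z w hz hw => by
    have h := Ideal.mul_mem_mul (hker z hz) (hker w hw)
    rwa [← Ideal.map_mul, ← pow_two, hsq, Ideal.map_bot, Ideal.mem_bot] at h
  have hnil : IsNilpotent (RingHom.ker (g : E' →+* Bp)) := ⟨2, by
    rw [pow_two, Submodule.zero_eq_bot, eq_bot_iff, Ideal.mul_le]
    exact fun z hz w hw => (Ideal.mem_bot).mpr (hK2 z w hz hw)⟩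
  have hsurj : Function.Surjective g := by
    intro y
    obtain ⟨b, ⟨v, hv⟩, rfl⟩ := IsLocalization.exists_mk'_eq p.primeCompl y
    obtain ⟨a, rfl⟩ := P.algebraMap_surjective b
    obtain ⟨w, rfl⟩ := P.algebraMap_surjective v
    refine ⟨IsLocalization.mk' E' a (⟨w, hv⟩ : M), ?_⟩
    show g₀ _ = _
    rw [IsLocalization.lift_mk'_spec]
    show algebraMap B Bp (pe a) = algebraMap B Bp (pe w) * IsLocalization.mk' Bp (pe a) ⟨pe w, hv⟩
    exact (IsLocalization.mk'_spec' Bp (pe a) (⟨pe w, hv⟩ : p.primeCompl)).symm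
  let s : Bp →ₐ[A] E' := Algebra.FormallySmooth.liftOfSurjective (AlgHom.id A Bp) g hsurj hnil
  have hs : ∀ y, g (s y) = y := fun y =>
    Algebra.FormallySmooth.liftOfSurjective_apply (AlgHom.id A Bp) g hsurj hnil y
  let ι : P.Ring →ₐ[A] E' := IsScalarTower.toAlgHom A P.Ring E'
  let τ : P.Ring →ₐ[A] E' := s.comp ((IsScalarTower.toAlgHom A B Bp).comp (IsScalarTower.toAlgHom A P.Ring B))
  let d : P.Ring → E' := fun a => ι a - τ a
  have hd : ∀ a, g (d a) = 0 := fun a => by
    show g (ι a - τ a) = 0
    rw [map_sub, sub_eq_zero]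
    exact (hg₀ a).trans (hs _).symm
  let D : Derivation A P.Ring E' := Derivation.mk'
    { toFun := d
      map_add' := fun a b => by simp only [d, map_add]; ring
      map_smul' := fun c a => by simp only [d, map_smul, RingHom.id_apply, smul_sub] }
    (fun a b => by
      show ι (a * b) - τ (a * b) = a • (ι b - τ b) + b • (ι a - τ a)
      rw [Algebra.smul_def, Algebra.smul_def, map_mul, map_mul]
      show ι a * ι b - τ a * τ b = ι a * (ι b - τ b) + ι b * (ι a - τ a)
      linear_combination -(hK2 _ _ (hd a) (hd b)))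
  let L : Ω[P.Ring⁄A] →ₗ[P.Ring] E' := D.liftKaehlerDifferential
  have hL : ∀ ω, g (L ω) = 0 := by
    intro ω
    have hω : ω ∈ Submodule.span P.Ring (Set.range (KaehlerDifferential.D A P.Ring)) := by
      rw [KaehlerDifferential.span_range_derivation]; trivial
    induction hω using Submodule.span_induction with
    | mem t ht =>
      obtain ⟨a, rfl⟩ := ht
      rw [show L (KaehlerDifferential.D A P.Ring a) = D a from D.liftKaehlerDifferential_comp_D a]
      exact hd a
    | zero => rw [map_zero, map_zero]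
    | add a b _ _ ha hb => rw [map_add, map_add, ha, hb, add_zero]
    | smul r a _ ha => rw [map_smul, Algebra.smul_def, map_mul, ha, mul_zero]
  have hkill : ∀ a ∈ P.ker, ∀ ω, algebraMap P.Ring E' a * L ω = 0 := fun a ha ω => hK2 _ _ (by
    show g₀ _ = 0
    rw [hg₀, show pe a = 0 from ha, map_zero]) (hL ω)
  let Φ : B ⊗[P.Ring] Ω[P.Ring⁄A] →ₗ[P.Ring] E' := TensorProduct.lift
    (LinearMap.mk₂ P.Ring (fun b ω => algebraMap P.Ring E' (P.σ b) * L ω)
      (fun b b' ω => by
        have := hkill (P.σ (b + b') - (P.σ b + P.σ b')) (by simp) ω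
        rw [map_sub, map_add, sub_mul, sub_eq_zero, add_mul] at this
        exact this)
      (fun c b ω => by
        have := hkill (P.σ (c • b) - c * P.σ b) (by simp [RingHom.mem_ker, Algebra.smul_def]) ω
        rw [map_sub, sub_mul, sub_eq_zero, map_mul, mul_assoc] at this
        show _ = c • _
        rw [Algebra.smul_def c (algebraMap P.Ring E' (P.σ b) * L ω)]
        exact this)
      (fun b ω ω' => by rw [map_add, mul_add])
      (fun c b ω => by rw [map_smul, Algebra.mul_smul_comm]))
  have h1 : Φ ((1 : B) ⊗ₜ KaehlerDifferential.D A P.Ring x₀.1) = algebraMap P.Ring E' (P.σ 1) * d x₀.1 := by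
    show algebraMap P.Ring E' (P.σ 1) * L (KaehlerDifferential.D A P.Ring x₀.1) = _
    rw [show L (KaehlerDifferential.D A P.Ring x₀.1) = D x₀.1 from D.liftKaehlerDifferential_comp_D _]
    rfl
  rw [Algebra.Extension.cotangentComplex_mk] at hx
  rw [hx, map_zero] at h1
  have h2 : d x₀.1 = ι x₀.1 := by
    show ι x₀.1 - τ x₀.1 = ι x₀.1
    have : τ x₀.1 = 0 := by
      show s (algebraMap B Bp (algebraMap P.Ring B x₀.1)) = 0
      rw [show algebraMap P.Ring B x₀.1 = 0 from x₀.2, map_zero, map_zero]
    rw [this, sub_zero]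
  rw [h2] at h1
  have h3 : algebraMap P.Ring E' (P.σ 1 * x₀.1) = 0 := by rw [map_mul]; exact h1.symm
  obtain ⟨⟨m, hm⟩, hm'⟩ := (IsLocalization.map_eq_zero_iff M E' _).mp h3
  refine ⟨pe m, hm, ?_⟩
  have h4 : pe m = pe (m * P.σ 1) := by simp [pe]
  rw [h4, algebraMap_smul, ← map_smul]
  refine (Algebra.Extension.Cotangent.mk_eq_zero_iff _).mpr ?_
  show m * P.σ 1 * x₀.1 ∈ P.ker ^ 2
  rw [mul_assoc, show m * (P.σ 1 * x₀.1) = 0 from hm']
  exact Submodule.zero_mem _


/-- Let k be an algebraically closed field and A → B a map of finitely generated k-algebras with B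
reduced and smooth over A at every minimal prime of B (the morphism Spec B → Spec A is smooth on a
dense open subset). Let E → B be a surjection of A-algebras whose kernel I has square zero and is,
as a B-module, finitely generated and projective (an extension of B over A by a locally free
module). Then the conormal map I = I/I^2 → B ⊗_E Ω_{E/A} is injective, so that the relative conormal
sequence 0 → I → B ⊗_E Ω_{E/A} → Ω_{B/A} → 0 of the extension is exact also on the left. This is the
affine case of the statement for a morphism of finite type of algebraic schemes and a coherent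
locally free kernel. -/
theorem result
    {k : Type u} [Field k] [IsAlgClosed k]
    {A B : Type u} [CommRing A] [CommRing B] [Algebra k A] [Algebra k B] [Algebra A B]
    [IsScalarTower k A B] [Algebra.FiniteType k A] [Algebra.FiniteType k B] [IsReduced B]
    (hsm : ∀ p : PrimeSpectrum B, p.asIdeal ∈ minimalPrimes B → Algebra.IsSmoothAt A p.asIdeal)
    (P : Algebra.Extension.{u} A B) (hsq : P.ker ^ 2 = ⊥)
    [Module.Finite B P.Cotangent] [Module.Projective B P.Cotangent] :
    Function.Injective P.cotangentComplex := by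
  rw [injective_iff_map_eq_zero]
  intro x hx
  refine (Module.forall_dual_apply_eq_zero_iff B x).mp fun f => ?_
  have h : f x ∈ nilradical B := by
    rw [nilradical_eq_sInf, Ideal.mem_sInf]
    intro q hq
    haveI : q.IsPrime := hq
    obtain ⟨p, hp, hpq⟩ := Ideal.exists_minimalPrimes_le (bot_le : (⊥ : Ideal B) ≤ q)
    haveI : p.IsPrime := hp.1.1
    haveI := hsm ⟨p, hp.1.1⟩ hp
    obtain ⟨u, hu, hux⟩ := exists_smul_eq_zero_of_cotangentComplex_eq_zero P hsq p x hx
    refine hpq ((hp.1.1.mem_or_mem ?_).resolve_left hu)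
    rw [← smul_eq_mul, ← map_smul, hux, map_zero]
    exact p.zero_mem
  rwa [nilradical_eq_zero B, Submodule.zero_eq_bot, Ideal.mem_bot] at h

end Groth.Agent.S11284
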