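import Groth.Statements.S11285
import Mathlib
import Groth.Prelude.Def_Exal

set_option autoImplicit false
universe u
open Deform

namespace Groth.Agent.S11285

attribute [local instance] Exal.opModule Exal.isCentralScalar_opModule

open TensorProduct


/-- Let k be an algebraically closed field and A → B a map of finitely generated k-algebras with B
reduced and smooth over A at every minimal prime of B (the morphism Spec B → Spec A is smooth on a
dense open subset). Let M be a finitely generated projective B-module and 0 → M → N → Ω_{B/A} → 0 an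
exact sequence of B-modules (i injective, q surjective, image of i = kernel of q). Then there is an
A-algebra extension E → B with square-zero kernel, together with a B-linear identification of its
kernel with M and a B-linear isomorphism of B ⊗_E Ω_{E/A} with N, carrying the conormal map of the
extension to i and q to the canonical map B ⊗_E Ω_{E/A} → Ω_{B/A}. Together with the injectivity
statement for such conormal sequences this is the surjectivity half of the identification of Ex_A(B,
M) with Ext^1_B(Ω_{B/A}, M); affine case of the statement for algebraic schemes. The module N ranges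
over the universe of B. -/
theorem result
    {k : Type u} [Field k] [IsAlgClosed k]
    {A B : Type u} [CommRing A] [CommRing B] [Algebra k A] [Algebra k B] [Algebra A B]
    [IsScalarTower k A B] [Algebra.FiniteType k A] [Algebra.FiniteType k B] [IsReduced B]
    (hsm : ∀ p : PrimeSpectrum B, p.asIdeal ∈ minimalPrimes B → Algebra.IsSmoothAt A p.asIdeal)
    (M N : Type u) [AddCommGroup M] [Module B M] [Module.Finite B M] [Module.Projective B M]
    [AddCommGroup N] [Module B N]
    (i : M →ₗ[B] N) (q : N →ₗ[B] Ω[B⁄A]) (hi : Function.Injective i) (hq : Function.Surjective q)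
    (hex : Function.Exact i q) :
    ∃ P : Algebra.Extension.{u} A B, P.ker ^ 2 = ⊥ ∧
      ∃ (e₁ : P.Cotangent ≃ₗ[B] M) (e₂ : P.CotangentSpace ≃ₗ[B] N),
        (∀ x, e₂ (P.cotangentComplex x) = i (e₁ x)) ∧ (∀ y, q (e₂ y) = P.toKaehler y) := by
  letI modNA : Module A N := Module.compHom N (algebraMap A B)
  haveI : IsScalarTower A B N := ⟨fun a b n => by
    show (a • b) • n = algebraMap A B a • (b • n)
    rw [Algebra.smul_def, mul_smul]⟩
  let R0 : Subalgebra A (TrivSqZeroExt B N) :=
    { carrier := {x | q x.snd = KaehlerDifferential.D A B x.fst}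
      mul_mem' := fun {x y} hx hy => by
        show q (x * y).snd = _
        rw [TrivSqZeroExt.snd_mul, TrivSqZeroExt.fst_mul, op_smul_eq_smul, map_add, map_smul, map_smul,
          show q x.snd = _ from hx, show q y.snd = _ from hy, Derivation.leibniz]
      add_mem' := fun {x y} hx hy => by
        show q (x + y).snd = _
        rw [TrivSqZeroExt.snd_add, TrivSqZeroExt.fst_add, map_add, map_add,
          show q x.snd = _ from hx, show q y.snd = _ from hy]
      algebraMap_mem' := fun a => by
        show q (TrivSqZeroExt.inl (algebraMap A B a) : TrivSqZeroExt B N).snd =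
          KaehlerDifferential.D A B (TrivSqZeroExt.inl (algebraMap A B a) : TrivSqZeroExt B N).fst
        rw [TrivSqZeroExt.snd_inl, TrivSqZeroExt.fst_inl, map_zero, Derivation.map_algebraMap] }
  let pE : R0 →+* B := (TrivSqZeroExt.fstHom A B N).toRingHom.comp R0.val.toRingHom
  letI algEB : Algebra R0 B := pE.toAlgebra
  haveI : IsScalarTower A R0 B := IsScalarTower.of_algebraMap_eq fun a =>
    (TrivSqZeroExt.fst_inl N (algebraMap A B a)).symm
  choose sN hsN using fun b : B => hq (KaehlerDifferential.D A B b)
  have hσmem : ∀ b, (TrivSqZeroExt.inl b + TrivSqZeroExt.inr (sN b) : TrivSqZeroExt B N) ∈ R0 := fun b => by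
    show q (TrivSqZeroExt.inl b + TrivSqZeroExt.inr (sN b) : TrivSqZeroExt B N).snd = _
    simp [hsN b]
  let P : Algebra.Extension.{u} A B :=
    { Ring := R0
      σ := fun b => ⟨_, hσmem b⟩
      algebraMap_σ := fun b => by
        show TrivSqZeroExt.fst (TrivSqZeroExt.inl b + TrivSqZeroExt.inr (sN b) : TrivSqZeroExt B N) = b
        simp }
  have hk0 : ∀ x : R0, x ∈ P.ker ↔ x.1.fst = 0 := fun x => Iff.rfl
  have hsq : P.ker ^ 2 = ⊥ := by
    rw [pow_two, eq_bot_iff, Ideal.mul_le]
    intro x hx y hy
    rw [Ideal.mem_bot]
    change R0 at x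
    change R0 at y
    refine Subtype.ext (TrivSqZeroExt.ext ?_ ?_)
    · show (x.1 * y.1).fst = 0
      rw [TrivSqZeroExt.fst_mul, (hk0 x).mp hx, zero_mul]
    · show (x.1 * y.1).snd = 0
      rw [TrivSqZeroExt.snd_mul, (hk0 x).mp hx, (hk0 y).mp hy, op_smul_eq_smul, zero_smul, zero_smul, add_zero]
  have hmem : ∀ m, (TrivSqZeroExt.inr (i m) : TrivSqZeroExt B N) ∈ R0 := fun m => by
    show q (TrivSqZeroExt.inr (i m) : TrivSqZeroExt B N).snd = _
    rw [TrivSqZeroExt.snd_inr, TrivSqZeroExt.fst_inr, map_zero]
    exact hex.apply_apply_eq_zero m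
  let kin : M → P.ker := fun m => ⟨(⟨_, hmem m⟩ : R0), (hk0 _).mpr (TrivSqZeroExt.fst_inr B (i m))⟩
  let g : M →ₗ[B] P.Cotangent :=
    { toFun := fun m => Algebra.Extension.Cotangent.mk (kin m)
      map_add' := fun a b => by
        rw [← map_add Algebra.Extension.Cotangent.mk]
        exact congrArg _ (Subtype.ext (Subtype.ext (by
          show (TrivSqZeroExt.inr (i (a + b)) : TrivSqZeroExt B N) = TrivSqZeroExt.inr (i a) + TrivSqZeroExt.inr (i b)
          rw [map_add, TrivSqZeroExt.inr_add])))
      map_smul' := fun b m => by
        rw [RingHom.id_apply]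
        obtain ⟨r, rfl⟩ := P.algebraMap_surjective b
        rw [algebraMap_smul B r (Algebra.Extension.Cotangent.mk (kin m)), ← map_smul Algebra.Extension.Cotangent.mk]
        exact congrArg _ (Subtype.ext (Subtype.ext (by
          show (TrivSqZeroExt.inr (i ((show R0 from r).1.fst • m)) : TrivSqZeroExt B N) =
            (show R0 from r).1 * TrivSqZeroExt.inr (i m)
          refine TrivSqZeroExt.ext ?_ ?_ <;> simp [TrivSqZeroExt.fst_mul, TrivSqZeroExt.snd_mul]))) }
  have hg : Function.Bijective g := by
    refine ⟨(injective_iff_map_eq_zero g).mpr fun m hm => hi ?_, fun x => ?_⟩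
    · have h1 := (Algebra.Extension.Cotangent.mk_eq_zero_iff (kin m)).mp hm
      rw [hsq, Ideal.mem_bot] at h1
      rw [map_zero]
      exact congrArg (fun z : R0 => z.1.snd) h1
    · obtain ⟨⟨k, hk⟩, rfl⟩ := Algebra.Extension.Cotangent.mk_surjective x
      change R0 at k
      obtain ⟨m, hm⟩ := (hex k.1.snd).mp (by rw [show q k.1.snd = _ from k.2, (hk0 k).mp hk, map_zero])
      refine ⟨m, congrArg Algebra.Extension.Cotangent.mk (Subtype.ext (Subtype.ext ?_))⟩
      exact TrivSqZeroExt.ext ((TrivSqZeroExt.fst_inr B (i m)).trans ((hk0 k).mp hk).symm) hm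
  letI modN : Module P.Ring N := Module.compHom N (algebraMap P.Ring B)
  haveI : IsScalarTower A P.Ring N := ⟨fun a r n => by
    show algebraMap P.Ring B (a • r) • n = algebraMap A B a • (algebraMap P.Ring B r • n)
    rw [Algebra.smul_def, map_mul, mul_smul, ← IsScalarTower.algebraMap_apply]⟩
  haveI : IsScalarTower P.Ring B N := ⟨fun r b n => by
    show (r • b) • n = algebraMap P.Ring B r • (b • n)
    rw [Algebra.smul_def, mul_smul]⟩
  let D : Derivation A P.Ring N := Derivation.mk'
    { toFun := fun r => (show R0 from r).1.snd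
      map_add' := fun a b => TrivSqZeroExt.snd_add _ _
      map_smul' := fun a r => by
        rw [RingHom.id_apply, Algebra.smul_def]
        show ((TrivSqZeroExt.inl (algebraMap A B a) : TrivSqZeroExt B N) * (show R0 from r).1).snd =
          algebraMap A B a • (show R0 from r).1.snd
        rw [TrivSqZeroExt.snd_mul, TrivSqZeroExt.fst_inl, TrivSqZeroExt.snd_inl, smul_zero, add_zero] }
    (fun a b => by
      show ((show R0 from a).1 * (show R0 from b).1).snd =
        (show R0 from a).1.fst • (show R0 from b).1.snd + (show R0 from b).1.fst • (show R0 from a).1.snd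
      rw [TrivSqZeroExt.snd_mul, op_smul_eq_smul])
  let θ : P.CotangentSpace →ₗ[B] N := LinearMap.liftBaseChange B D.liftKaehlerDifferential
  have hθD : ∀ r, θ (1 ⊗ₜ KaehlerDifferential.D A P.Ring r) = (show R0 from r).1.snd := fun r => by
    show LinearMap.liftBaseChange B D.liftKaehlerDifferential _ = _
    rw [LinearMap.liftBaseChange_tmul, one_smul, Derivation.liftKaehlerDifferential_comp_D]
    rfl
  have hcc : ∀ m, θ (P.cotangentComplex (g m)) = i m := fun m => by
    show θ (P.cotangentComplex (Algebra.Extension.Cotangent.mk (kin m))) = i m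
    rw [Algebra.Extension.cotangentComplex_mk, hθD]
    exact TrivSqZeroExt.snd_inr B (i m)
  have hqθ : ∀ y, q (θ y) = P.toKaehler y := by
    intro y
    induction y using TensorProduct.induction_on with
    | zero => rw [map_zero, map_zero, map_zero]
    | add a b ha hb => rw [map_add, map_add, map_add, ha, hb]
    | tmul b ω =>
      have hω : ω ∈ Submodule.span P.Ring (Set.range (KaehlerDifferential.D A P.Ring)) := by
        rw [KaehlerDifferential.span_range_derivation]; trivial
      induction hω using Submodule.span_induction generalizing b with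
      | mem t ht =>
        obtain ⟨r, rfl⟩ := ht
        show q (LinearMap.liftBaseChange B D.liftKaehlerDifferential _) = KaehlerDifferential.mapBaseChange A P.Ring B _
        rw [LinearMap.liftBaseChange_tmul, map_smul, KaehlerDifferential.mapBaseChange_tmul, KaehlerDifferential.map_D,
          Derivation.liftKaehlerDifferential_comp_D]
        exact congrArg (b • ·) (show R0 from r).2
      | zero => rw [TensorProduct.tmul_zero, map_zero, map_zero, map_zero]
      | add a c _ _ ha hc => rw [TensorProduct.tmul_add, map_add, map_add, map_add, ha, hc]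
      | smul r a _ ha => rw [TensorProduct.tmul_smul, TensorProduct.smul_tmul', ha]
  have hθ : Function.Bijective θ := by
    refine ⟨(injective_iff_map_eq_zero θ).mpr fun y hy => ?_, fun n => ?_⟩
    · obtain ⟨x, rfl⟩ := (P.exact_cotangentComplex_toKaehler y).mp (by rw [← hqθ, hy, map_zero])
      obtain ⟨m, rfl⟩ := hg.2 x
      rw [hcc] at hy
      rw [hi (hy.trans (map_zero i).symm), map_zero, map_zero]
    · obtain ⟨y, hy⟩ := P.toKaehler_surjective (q n)
      obtain ⟨m, hm⟩ := (hex (n - θ y)).mp (by rw [map_sub, hqθ, hy, sub_self])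
      exact ⟨y + P.cotangentComplex (g m), by rw [map_add, hcc, hm, add_sub_cancel]⟩
  refine ⟨P, hsq, (LinearEquiv.ofBijective g hg).symm, LinearEquiv.ofBijective θ hθ, fun x => ?_, hqθ⟩
  obtain ⟨m, rfl⟩ := hg.2 x
  show θ _ = i _
  rw [hcc]
  exact congrArg i ((LinearEquiv.ofBijective g hg).symm_apply_apply m).symm

end Groth.Agent.S11285
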