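import Groth.Statements.S11286
import Mathlib
import Groth.Agent.S11284

set_option autoImplicit false
universe u
open Deform

namespace Groth.Agent.S11286

open TensorProduct

variable {A B : Type u} [CommRing A] [CommRing B] [Algebra A B]

/-- `e ↦ 1 ⊗ de`. -/
noncomputable def dd (P : Algebra.Extension.{u} A B) (e : P.Ring) : P.CotangentSpace :=
  1 ⊗ₜ KaehlerDifferential.D A P.Ring e

theorem dd_add (P : Algebra.Extension.{u} A B) (a b : P.Ring) : dd P (a + b) = dd P a + dd P b := by
  simp [dd, TensorProduct.tmul_add]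

theorem dd_mul (P : Algebra.Extension.{u} A B) (a b : P.Ring) :
    dd P (a * b) = algebraMap P.Ring B a • dd P b + algebraMap P.Ring B b • dd P a := by
  rw [dd, Derivation.leibniz, TensorProduct.tmul_add, TensorProduct.tmul_smul, TensorProduct.tmul_smul,
    algebraMap_smul, algebraMap_smul, dd, dd]

theorem toKaehler_dd (P : Algebra.Extension.{u} A B) (e : P.Ring) :
    P.toKaehler (dd P e) = KaehlerDifferential.D A B (algebraMap P.Ring B e) := by
  show KaehlerDifferential.mapBaseChange A P.Ring B _ = _
  rw [dd, KaehlerDifferential.mapBaseChange_tmul, one_smul, KaehlerDifferential.map_D]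

theorem eq_of_dd (P : Algebra.Extension.{u} A B) (hsq : P.ker ^ 2 = ⊥) (hcc : Function.Injective P.cotangentComplex)
    {e e' : P.Ring} (h1 : algebraMap P.Ring B e = algebraMap P.Ring B e') (h2 : dd P e = dd P e') : e = e' := by
  have hk : e - e' ∈ P.ker := by rw [RingHom.mem_ker, map_sub, h1, sub_self]
  have h3 : P.cotangentComplex (.mk ⟨e - e', hk⟩) = 0 := by
    rw [Algebra.Extension.cotangentComplex_mk, map_sub, TensorProduct.tmul_sub]
    exact sub_eq_zero.mpr h2
  have h4 := (Algebra.Extension.Cotangent.mk_eq_zero_iff _).mp (hcc (h3.trans (map_zero _).symm))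
  rw [hsq, Ideal.mem_bot] at h4
  exact sub_eq_zero.mp h4

theorem exists_dd (P : Algebra.Extension.{u} A B) (b : B) (y : P.CotangentSpace)
    (h : P.toKaehler y = KaehlerDifferential.D A B b) : ∃ e, algebraMap P.Ring B e = b ∧ dd P e = y := by
  obtain ⟨e₀, rfl⟩ := P.algebraMap_surjective b
  obtain ⟨x, hx⟩ := (P.exact_cotangentComplex_toKaehler (y - dd P e₀)).mp (by rw [map_sub, toKaehler_dd, h, sub_self])
  obtain ⟨k, rfl⟩ := Algebra.Extension.Cotangent.mk_surjective x
  refine ⟨e₀ + k.1, by rw [map_add, (RingHom.mem_ker).mp k.2, add_zero], ?_⟩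
  rw [Algebra.Extension.cotangentComplex_mk] at hx
  rw [dd_add]
  exact (congrArg (dd P e₀ + ·) hx).trans (add_sub_cancel _ _)

theorem exists_bijective_hom (P P' : Algebra.Extension.{u} A B) (hsq : P.ker ^ 2 = ⊥) (hsq' : P'.ker ^ 2 = ⊥)
    (hcc : Function.Injective P.cotangentComplex) (e₁ : P.Cotangent ≃ₗ[B] P'.Cotangent)
    (e₂ : P.CotangentSpace ≃ₗ[B] P'.CotangentSpace)
    (h₁ : ∀ x, e₂ (P.cotangentComplex x) = P'.cotangentComplex (e₁ x))
    (h₂ : ∀ y, P'.toKaehler (e₂ y) = P.toKaehler y) :
    ∃ f : P.Hom P', Function.Bijective f.toRingHom ∧ Algebra.Extension.Cotangent.map f = e₁.toLinearMap := by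
  have hcc' : Function.Injective P'.cotangentComplex := by
    rw [injective_iff_map_eq_zero]
    intro y hy
    obtain ⟨x, rfl⟩ := e₁.surjective y
    rw [← h₁, LinearEquiv.map_eq_zero_iff] at hy
    rw [hcc (hy.trans (map_zero _).symm), map_zero]
  have hex : ∀ e, ∃ e', algebraMap P'.Ring B e' = algebraMap P.Ring B e ∧ dd P' e' = e₂ (dd P e) := fun e =>
    exists_dd P' _ _ (by rw [h₂, toKaehler_dd])
  choose F hF1 hF2 using hex
  have hFu : ∀ e e', algebraMap P'.Ring B e' = algebraMap P.Ring B e → dd P' e' = e₂ (dd P e) → F e = e' :=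
    fun e e' h1 h2 => eq_of_dd P' hsq' hcc' ((hF1 e).trans h1.symm) ((hF2 e).trans h2.symm)
  have hdd0 : ∀ (Q : Algebra.Extension.{u} A B) (a : A), dd Q (algebraMap A Q.Ring a) = 0 := fun Q a => by
    rw [dd, Derivation.map_algebraMap, TensorProduct.tmul_zero]
  have hzero : ∀ Q : Algebra.Extension.{u} A B, dd Q 0 = 0 := fun Q => by rw [dd, map_zero, TensorProduct.tmul_zero]
  have hone : ∀ Q : Algebra.Extension.{u} A B, dd Q 1 = 0 := fun Q => by
    rw [dd, Derivation.map_one_eq_zero, TensorProduct.tmul_zero]
  let f : P.Hom P' :=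
    { toRingHom :=
        { toFun := F
          map_one' := hFu 1 1 (by rw [map_one, map_one]) (by rw [hone, hone, map_zero])
          map_mul' := fun a b => hFu _ _ (by rw [map_mul, map_mul, hF1, hF1])
            (by rw [dd_mul, dd_mul, hF1, hF1, hF2, hF2, map_add, map_smul, map_smul])
          map_zero' := hFu 0 0 (by rw [map_zero, map_zero]) (by rw [hzero, hzero, map_zero])
          map_add' := fun a b => hFu _ _ (by rw [map_add, map_add, hF1, hF1]) (by rw [dd_add, dd_add, hF2, hF2, map_add]) }
      toRingHom_algebraMap := fun a => hFu _ _ (by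
          rw [← IsScalarTower.algebraMap_apply A P'.Ring B, ← IsScalarTower.algebraMap_apply A P.Ring B]; rfl)
        (by rw [hdd0 P a, map_zero]; exact hdd0 P' _)
      algebraMap_toRingHom := fun e => hF1 e }
  refine ⟨f, ⟨?_, fun e' => ?_⟩, ?_⟩
  · intro a b hab
    change F a = F b at hab
    refine eq_of_dd P hsq hcc ((hF1 a).symm.trans ((congrArg _ hab).trans (hF1 b))) (e₂.injective ?_)
    rw [← hF2, ← hF2, hab]
  · obtain ⟨e, he1, he2⟩ := exists_dd P (algebraMap P'.Ring B e') (e₂.symm (dd P' e')) (by
      rw [← h₂, LinearEquiv.apply_symm_apply, toKaehler_dd])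
    exact ⟨e, hFu e e' he1.symm (by rw [he2, LinearEquiv.apply_symm_apply])⟩
  · refine LinearMap.ext fun x => hcc' ?_
    obtain ⟨k, rfl⟩ := Algebra.Extension.Cotangent.mk_surjective x
    rw [Algebra.Extension.Cotangent.map_mk, LinearEquiv.coe_toLinearMap, ← h₁,
      Algebra.Extension.cotangentComplex_mk, Algebra.Extension.cotangentComplex_mk]
    exact hF2 k.1


/-- Let k be an algebraically closed field and A → B a map of finitely generated k-algebras with B
reduced and smooth over A at every minimal prime of B (the morphism Spec B → Spec A is smooth on a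
dense open subset). Let E → B and E' → B be two A-algebra extensions with square-zero kernels I, I',
where I is a finitely generated projective B-module, and suppose their relative conormal sequences
are isomorphic as extensions of Ω_{B/A}: there are B-linear isomorphisms I ≅ I' and B ⊗_E Ω_{E/A} ≅
B ⊗_{E'} Ω_{E'/A} commuting with the conormal maps and with the canonical maps to Ω_{B/A}. Then
there is a homomorphism of extensions E → E' (a ring map over A and over B) which is bijective and
induces the given isomorphism I ≅ I'. This is the injectivity half of the identification of Ex_A(B,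
M) with Ext^1_B(Ω_{B/A}, M); affine case of the statement for algebraic schemes. -/
theorem result
    {k : Type u} [Field k] [IsAlgClosed k]
    {A B : Type u} [CommRing A] [CommRing B] [Algebra k A] [Algebra k B] [Algebra A B]
    [IsScalarTower k A B] [Algebra.FiniteType k A] [Algebra.FiniteType k B] [IsReduced B]
    (hsm : ∀ p : PrimeSpectrum B, p.asIdeal ∈ minimalPrimes B → Algebra.IsSmoothAt A p.asIdeal)
    (P P' : Algebra.Extension.{u} A B) (hsq : P.ker ^ 2 = ⊥) (hsq' : P'.ker ^ 2 = ⊥)
    [Module.Finite B P.Cotangent] [Module.Projective B P.Cotangent]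
    (e₁ : P.Cotangent ≃ₗ[B] P'.Cotangent) (e₂ : P.CotangentSpace ≃ₗ[B] P'.CotangentSpace)
    (h₁ : ∀ x, e₂ (P.cotangentComplex x) = P'.cotangentComplex (e₁ x))
    (h₂ : ∀ y, P'.toKaehler (e₂ y) = P.toKaehler y) :
    ∃ f : P.Hom P', Function.Bijective f.toRingHom ∧
      Algebra.Extension.Cotangent.map f = e₁.toLinearMap := by
  exact exists_bijective_hom P P' hsq hsq' (S11284.result (k := k) hsm P hsq) e₁ e₂ h₁ h₂

end Groth.Agent.S11286
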