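import Mathlib
import Groth.Statements.S11288
-- import your own Groth.Agent.* helpers here

set_option autoImplicit false
universe u
open Deform

namespace Groth.Agent.S11288

/-- Let K be a field, R' a local Artinian K-algebra with residue field K, and t a nonzero element of the
maximal ideal m' of R' with m' t = 0, so that R' → R = R'/(t) is a small extension of R. Then the
extension is trivial, i.e. the projection admits a section which is a K-algebra map, if and only if
t is not in m'^2; equivalently, iff the surjection m'/m'^2 → m_R/m_R^2 induced on cotangent spaces,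
whose kernel is spanned by the class of t, is not bijective. For instance K[t]/(t^(n+1)) →
K[t]/(t^n) is a non-trivial small extension for n ≥ 2. (The published example allows any local
K-algebra with residue field K; the row takes R' Artinian, the case in which the subalgebra
generated by lifts of a basis of the cotangent space maps onto R.) -/
theorem result
    {K : Type u} [Field K]
    {R' : Type u} [CommRing R'] [Algebra K R'] [IsLocalRing R'] [IsArtinianRing R']
    (hres : ∀ a : R', ∃ c : K, a - algebraMap K R' c ∈ IsLocalRing.maximalIdeal R')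
    (t : R') (ht : t ∈ IsLocalRing.maximalIdeal R') (ht0 : t ≠ 0)
    (htm : ∀ a ∈ IsLocalRing.maximalIdeal R', a * t = 0) :
    (∃ s : (R' ⧸ Ideal.span {t}) →ₐ[K] R', ∀ x, Ideal.Quotient.mk (Ideal.span {t}) (s x) = x) ↔
      t ∉ IsLocalRing.maximalIdeal R' ^ 2 := by
  classical
  set m := IsLocalRing.maximalIdeal R'
  have hker : ∀ z, z ∈ Ideal.span {t} → ∃ c : K, z = c • t := fun z hz => by
    obtain ⟨a, rfl⟩ := Ideal.mem_span_singleton'.1 hz
    obtain ⟨c, hc⟩ := hres a
    refine ⟨c, ?_⟩
    have := htm _ hc
    rw [sub_mul, sub_eq_zero] at this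
    rw [this, Algebra.smul_def]
  constructor
  · rintro ⟨s, hs⟩ ht2
    let g : R' → R' := fun a => s (Ideal.Quotient.mk _ a)
    have hg : ∀ a, ∃ c : K, g a = a + c • t := fun a => by
      obtain ⟨c, hc⟩ := hker (g a - a) (Ideal.Quotient.eq.1 (hs _))
      exact ⟨c, by rw [← hc, add_sub_cancel]⟩
    have key : ∀ z ∈ m * m, g z = z := by
      intro z hz
      induction hz using Submodule.mul_induction_on' with
      | mem_mul_mem a ha b hb =>
        obtain ⟨c, hc⟩ := hg a
        obtain ⟨d, hd⟩ := hg b
        have h1 : g (a * b) = g a * g b := by simp only [g, map_mul]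
        rw [h1, hc, hd, Algebra.smul_def, Algebra.smul_def]
        linear_combination (algebraMap K R' d) * htm a ha + (algebraMap K R' c) * htm b hb +
          (algebraMap K R' c * algebraMap K R' d) * htm t ht
      | add a _ b _ ha hb => simp only [g, map_add] at *; rw [ha, hb]
    refine ht0 ((key t (by rwa [← sq])).symm.trans ?_)
    show s (Ideal.Quotient.mk _ t) = 0
    rw [Ideal.Quotient.eq_zero_iff_mem.2 (Ideal.mem_span_singleton_self t), map_zero]
  · intro ht2
    let W : Submodule K R' := (m ^ 2).restrictScalars K ⊔ Submodule.span K {1}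
    have htW : t ∉ W := by
      intro h
      obtain ⟨y, hy, z, hz, e⟩ := Submodule.mem_sup.1 h
      obtain ⟨c, rfl⟩ := Submodule.mem_span_singleton.1 hz
      by_cases hc : c = 0
      · subst hc
        rw [zero_smul, add_zero] at e
        exact ht2 (e ▸ hy)
      · have : c • (1 : R') ∈ m := by
          rw [eq_sub_of_add_eq' e]
          exact m.sub_mem ht (Ideal.pow_le_self two_ne_zero hy)
        exact (IsLocalRing.mem_maximalIdeal _).1 this (by
          rw [Algebra.smul_def, mul_one]; exact (IsUnit.mk0 c hc).map _)
    obtain ⟨φ₀, hφt, hφW⟩ := Submodule.exists_dual_map_eq_bot_of_notMem htW inferInstance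
    let φ := (φ₀ t)⁻¹ • φ₀
    have hφ0 : ∀ z ∈ W, φ z = 0 := fun z hz => by
      have : φ₀ z ∈ W.map φ₀ := Submodule.mem_map_of_mem hz
      rw [hφW, Submodule.mem_bot] at this
      simp [φ, this]
    have hφ1 : φ 1 = 0 := hφ0 1 (Submodule.mem_sup_right (Submodule.mem_span_singleton_self _))
    have hφtt : φ t = 1 := by simp [φ, hφt]
    let F : R' →ₗ[K] R' := LinearMap.id - φ.smulRight t
    have hF : ∀ a, F a = a - φ a • t := fun a => rfl
    have hmul : ∀ a b, F (a * b) = F a * F b := by
      intro a b
      obtain ⟨c, hc⟩ := hres a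
      obtain ⟨d, hd⟩ := hres b
      have hsm : ∀ {e : R'} {f : K}, e - algebraMap K R' f ∈ m → e * t = f • t := fun {e f} he => by
        have := htm _ he
        rwa [sub_mul, sub_eq_zero, ← Algebra.smul_def] at this
      have h2 : φ ((a - algebraMap K R' c) * (b - algebraMap K R' d)) = 0 :=
        hφ0 _ (Submodule.mem_sup_left (show _ ∈ m ^ 2 by rw [sq]; exact Ideal.mul_mem_mul hc hd))
      have hφ : φ (a * b) = c * φ b + d * φ a := by
        have e : a * b = c • b + d • a - (c * d) • (1 : R') +
            (a - algebraMap K R' c) * (b - algebraMap K R' d) := by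
          simp only [Algebra.smul_def, map_mul, mul_one]; ring
        rw [e, map_add, map_sub, map_add, map_smul, map_smul, map_smul, hφ1, h2]
        simp
      rw [hF, hF, hF, hφ, add_smul, mul_smul, mul_smul, sub_mul, mul_sub, mul_sub, smul_mul_smul_comm,
        htm t ht, smul_zero, sub_zero, mul_smul_comm, smul_mul_assoc, hsm hc, mul_comm t b, hsm hd, smul_comm (φ a) d t,
        smul_comm (φ b) c t]
      abel
    let G : R' →ₐ[K] R' := AlgHom.ofLinearMap F (by rw [hF, hφ1, zero_smul, sub_zero]) hmul
    refine ⟨Ideal.Quotient.liftₐ _ G fun a ha => ?_, fun x => ?_⟩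
    · obtain ⟨c, rfl⟩ := hker a ha
      show F (c • t) = 0
      rw [map_smul, hF, hφtt, one_smul, sub_self, smul_zero]
    · obtain ⟨a, rfl⟩ := Ideal.Quotient.mk_surjective x
      show Ideal.Quotient.mk _ (F a) = _
      rw [Ideal.Quotient.eq, hF, sub_sub_cancel_left, Algebra.smul_def]
      exact neg_mem (Ideal.mul_mem_left _ _ (Ideal.mem_span_singleton_self t))

end Groth.Agent.S11288
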