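import Groth.Statements.S11291
import Mathlib

set_option autoImplicit false
universe u
open Deform

namespace Groth.Agent.S11291

/-- Let k be an algebraically closed field and A a local Artinian k-algebra with residue field k and
non-zero maximal ideal, i.e. A is not k. Then the obstruction space o(A) = Ex_k(A, k) is not zero:
there is a k-extension 0 → k → E → A → 0 of A by its residue field which is not trivial (admits no
k-algebra section). Equivalently, k is the only formally smooth object among local Artinian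
k-algebras with residue field k. -/
theorem result
    {k : Type u} [Field k] [IsAlgClosed k]
    {A : Type u} [CommRing A] [Algebra k A] [IsLocalRing A] [IsArtinianRing A]
    (hres : ∀ a : A, ∃ c : k, a - algebraMap k A c ∈ IsLocalRing.maximalIdeal A)
    (hA : IsLocalRing.maximalIdeal A ≠ ⊥) :
    ∃ X : Exal.Ext k A (IsLocalRing.ResidueField A), ¬ X.IsTrivial := by
  classical
  set m := IsLocalRing.maximalIdeal A with hm_def
  have hex : ∃ n : ℕ, ∃ x : Fin n → A, Ideal.span (Set.range x) = m := by
    obtain ⟨n, x, hx⟩ := Submodule.fg_iff_exists_fin_generating_family.mp (IsNoetherian.noetherian m)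
    exact ⟨n, x, hx⟩
  obtain ⟨n, ⟨x, hx⟩, hmin0⟩ : ∃ n : ℕ, (∃ x : Fin n → A, Ideal.span (Set.range x) = m) ∧
      ∀ n' < n, ¬ ∃ y : Fin n' → A, Ideal.span (Set.range y) = m :=
    ⟨Nat.find hex, Nat.find_spec hex, fun n' hn' => Nat.find_min hex hn'⟩
  have hmin : ∀ n' < n, ∀ y : Fin n' → A, Ideal.span (Set.range y) ≠ m :=
    fun n' hn' y hy => hmin0 n' hn' ⟨y, hy⟩
  have hxm : ∀ i, x i ∈ m := fun i => hx.le (Ideal.subset_span (Set.mem_range_self i))
  obtain ⟨N, hN⟩ := IsArtinianRing.isNilpotent_jacobson_bot (R := A)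
  rw [IsLocalRing.jacobson_eq_maximalIdeal (⊥ : Ideal A) bot_ne_top] at hN
  let P := MvPolynomial (Fin n) k
  let φ : P →ₐ[k] A := MvPolynomial.aeval x
  let n0 : Ideal P := Ideal.span (Set.range (MvPolynomial.X : Fin n → P))
  have hX : ∀ i, φ (MvPolynomial.X i) = x i := fun i => MvPolynomial.aeval_X x i
  have hn0m : ∀ g ∈ n0, φ g ∈ m := by
    intro g hg
    have h : n0 ≤ m.comap φ.toRingHom := by
      refine Ideal.span_le.mpr ?_
      rintro _ ⟨i, rfl⟩
      show φ (MvPolynomial.X i) ∈ m
      rw [hX]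
      exact hxm i
    exact h hg
  have hsub : ∀ g : P, g - MvPolynomial.C (MvPolynomial.constantCoeff g) ∈ n0 := by
    intro g
    induction g using MvPolynomial.induction_on with
    | C a => simp [P]
    | add f g hf hg =>
      rw [map_add, map_add]
      convert n0.add_mem hf hg using 1
      ring
    | mul_X f i hf =>
      rw [map_mul, MvPolynomial.constantCoeff_X, mul_zero, map_zero, sub_zero]
      exact n0.mul_mem_left _ (Ideal.subset_span ⟨i, rfl⟩)
  have hC : ∀ c : k, φ (MvPolynomial.C c) = algebraMap k A c := fun c => MvPolynomial.aeval_C _ _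
  have hsurj : Function.Surjective φ := by
    have step : ∀ j : ℕ, ∀ a : A, ∃ g : P, a - φ g ∈ m ^ j := by
      intro j
      induction j with
      | zero => exact fun a => ⟨0, by simp⟩
      | succ j ih =>
        intro a
        obtain ⟨c, hc⟩ := hres a
        rw [← hx] at hc
        obtain ⟨b, hb⟩ := Ideal.mem_span_range_iff_exists_fun.mp hc
        choose g hg using fun i => ih (b i)
        refine ⟨MvPolynomial.C c + ∑ i, g i * MvPolynomial.X i, ?_⟩
        have he : a - φ (MvPolynomial.C c + ∑ i, g i * MvPolynomial.X i) = ∑ i, (b i - φ (g i)) * x i := by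
          simp only [map_add, map_sum, map_mul, hC, hX, sub_mul, Finset.sum_sub_distrib, hb]
          ring
        rw [he, pow_succ]
        exact Ideal.sum_mem _ fun i _ => Ideal.mul_mem_mul (hg i) (hxm i)
    intro a
    obtain ⟨g, hg⟩ := step N a
    rw [hN] at hg
    exact ⟨g, (sub_eq_zero.mp hg).symm⟩
  have hcC : ∀ c : k, algebraMap k A c ∈ m → c = 0 := by
    intro c hc
    by_contra h
    exact (IsLocalRing.mem_maximalIdeal _).mp hc ((isUnit_iff_ne_zero.mpr h).map (algebraMap k A))
  have hI0 : ∀ g : P, φ g ∈ m → g ∈ n0 := by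
    intro g hg
    have h1 := hn0m _ (hsub g)
    rw [map_sub, hC] at h1
    have := hcC _ (by simpa using m.sub_mem hg h1)
    simpa [this] using hsub g
  set I : Ideal P := RingHom.ker φ with hI_def
  have hI2 : I ≤ n0 * n0 := by
    intro g hg
    have hg0 : φ g = 0 := hg
    obtain ⟨h, hh⟩ := Ideal.mem_span_range_iff_exists_fun.mp (hI0 g (hg0 ▸ m.zero_mem))
    set c : Fin n → k := fun i => MvPolynomial.constantCoeff (h i) with hc
    have hsplit : g = (∑ i, MvPolynomial.C (c i) * MvPolynomial.X i) +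
        ∑ i, (h i - MvPolynomial.C (c i)) * MvPolynomial.X i := by
      rw [← hh, ← Finset.sum_add_distrib]
      exact Finset.sum_congr rfl fun i _ => by ring
    have h2 : ∑ i, (h i - MvPolynomial.C (c i)) * MvPolynomial.X i ∈ n0 * n0 :=
      Ideal.sum_mem _ fun i _ => Ideal.mul_mem_mul (hsub (h i)) (Ideal.subset_span ⟨i, rfl⟩)
    have hmap : ∀ t ∈ n0 * n0, φ t ∈ m * m := fun t ht => Submodule.mul_induction_on ht
      (fun a ha b hb => by rw [map_mul]; exact Ideal.mul_mem_mul (hn0m a ha) (hn0m b hb))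
      (fun a b ha hb => by rw [map_add]; exact add_mem ha hb)
    have hlin : (∑ i, algebraMap k A (c i) * x i) ∈ m * m := by
      have := congrArg φ hsplit
      rw [hg0, map_add, map_sum] at this
      simp only [map_mul, hC, hX] at this
      have hneg := (m * m).neg_mem (hmap _ h2)
      convert hneg using 1
      linear_combination (-1 : A) * this
    have hc0 : ∀ i, c i = 0 := by
      intro j
      by_contra hj
      obtain ⟨n', hn'⟩ : ∃ n', n = n' + 1 := Nat.exists_eq_succ_of_ne_zero (Nat.pos_iff_ne_zero.mp (j.pos))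
      subst hn'
      set J0 := Ideal.span (Set.range (x ∘ j.succAbove)) with hJ0
      have hle : m ≤ J0 ⊔ m * m := by
        conv_lhs => rw [← hx]
        refine Ideal.span_le.mpr ?_
        rintro _ ⟨i, rfl⟩
        have hothers : ∀ l, x (j.succAbove l) ∈ J0 ⊔ m * m :=
          fun l => Submodule.mem_sup_left (Ideal.subset_span ⟨l, rfl⟩)
        rcases Fin.eq_self_or_eq_succAbove j i with hi | ⟨l, rfl⟩
        · subst hi
          rw [Fin.sum_univ_succAbove _ i] at hlin
          have h3 : algebraMap k A (c i) * x i ∈ J0 ⊔ m * m := by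
            have h4 : (∑ l, algebraMap k A (c (i.succAbove l)) * x (i.succAbove l)) ∈ J0 ⊔ m * m :=
              Ideal.sum_mem _ fun l _ => Ideal.mul_mem_left _ _ (hothers l)
            have := (J0 ⊔ m * m).sub_mem (Submodule.mem_sup_right hlin) h4
            simpa using this
          exact (Ideal.unit_mul_mem_iff_mem _ ((isUnit_iff_ne_zero.mpr hj).map (algebraMap k A))).mp h3
        · exact hothers l
      have hmJ : m ≤ J0 := by
        refine Submodule.le_of_le_smul_of_le_jacobson_bot (IsNoetherian.noetherian m)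
          (le_of_eq (IsLocalRing.jacobson_eq_maximalIdeal (⊥ : Ideal A) bot_ne_top).symm) ?_
        exact hle
      exact hmin n' (Nat.lt_succ_self _) (x ∘ j.succAbove) (le_antisymm
        (Ideal.span_le.mpr (by rintro _ ⟨l, rfl⟩; exact hxm _)) hmJ)
    rw [hsplit]
    simpa [hc0] using h2
  -- `n₀ I ≠ I`
  have hIne : ∃ i0 ∈ I, i0 ∉ n0 * I := by
    by_contra hcon
    push_neg at hcon
    have hIbot : I ≠ ⊥ := by
      intro hb
      have hn : 0 < n := by
        rcases Nat.eq_zero_or_pos n with h0 | h0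
        · exfalso
          apply hA
          show m = ⊥
          rw [← hx, Ideal.span_eq_bot]
          rintro _ ⟨i, rfl⟩
          exact absurd i.isLt (by omega)
        · exact h0
      have : (MvPolynomial.X (⟨0, hn⟩ : Fin n) : P) ^ N ∈ I := by
        show φ _ = 0
        rw [map_pow, hX]
        have := Ideal.pow_mem_pow (hxm ⟨0, hn⟩) N
        rw [hN] at this
        exact this
      rw [hb] at this
      exact pow_ne_zero N (MvPolynomial.X_ne_zero _) this
    obtain ⟨r, hr, hri⟩ := Submodule.exists_mem_and_smul_eq_self_of_fg_of_le_smul n0 I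
      (IsNoetherian.noetherian I) hcon
    obtain ⟨i, hi, hi0⟩ := Submodule.exists_mem_ne_zero_of_ne_bot hIbot
    have h1 : r = 1 := by
      have := hri i hi
      rw [smul_eq_mul] at this
      exact mul_right_cancel₀ hi0 (this.trans (one_mul i).symm)
    have := hn0m r hr
    rw [h1, map_one] at this
    exact (IsLocalRing.maximalIdeal.isMaximal A).ne_top ((Ideal.eq_top_iff_one _).mpr this)
  obtain ⟨i0, hi0, hi0'⟩ := hIne
  obtain ⟨ℓ, hℓ1, hℓ0⟩ : ∃ ℓ : P →ₗ[k] k, ℓ i0 = 1 ∧ ∀ f ∈ n0 * I, ℓ f = 0 := by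
    obtain ⟨f, hf1, hf2⟩ := Submodule.exists_le_ker_of_notMem (p := (n0 * I).restrictScalars k) (v := i0) hi0'
    refine ⟨(f i0)⁻¹ • f, by simp [hf1], fun g hg => ?_⟩
    have : f g = 0 := hf2 hg
    simp [this]
  have hkey : ∀ g f : P, f ∈ I → ℓ (g * f) = MvPolynomial.constantCoeff g * ℓ f := by
    intro g f hf
    have h1 : ℓ ((g - MvPolynomial.C (MvPolynomial.constantCoeff g)) * f) = 0 :=
      hℓ0 _ (Ideal.mul_mem_mul (hsub g) hf)
    rw [sub_mul, map_sub, sub_eq_zero] at h1
    rw [h1, ← MvPolynomial.smul_eq_C_mul, map_smul, smul_eq_mul]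
  let J : Ideal P :=
    { carrier := {f | f ∈ I ∧ ℓ f = 0}
      zero_mem' := ⟨I.zero_mem, map_zero ℓ⟩
      add_mem' := fun {a b} ha hb => ⟨I.add_mem ha.1 hb.1, by rw [map_add, ha.2, hb.2, add_zero]⟩
      smul_mem' := fun g f hf => ⟨I.mul_mem_left g hf.1, by rw [smul_eq_mul, hkey g f hf.1, hf.2, mul_zero]⟩ }
  have hJ : ∀ f, f ∈ J ↔ f ∈ I ∧ ℓ f = 0 := fun f => Iff.rfl
  let proj : (P ⧸ J) →ₐ[k] A := Ideal.Quotient.liftₐ J φ (fun f hf => ((hJ f).mp hf).1)
  have hproj : ∀ g : P, proj (Ideal.Quotient.mk J g) = φ g := fun g => rfl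
  let κ := IsLocalRing.ResidueField A
  let e : k ≃+* κ := RingEquiv.ofBijective ((IsLocalRing.residue A).comp (algebraMap k A))
    ⟨RingHom.injective _, fun z => by
      obtain ⟨a, rfl⟩ := IsLocalRing.residue_surjective z
      obtain ⟨c, hc⟩ := hres a
      refine ⟨c, ?_⟩
      show IsLocalRing.residue A (algebraMap k A c) = IsLocalRing.residue A a
      rw [eq_comm, ← sub_eq_zero, ← map_sub, IsLocalRing.residue_eq_zero_iff]
      exact hc⟩
  let incl : κ →+ P ⧸ J :=
    { toFun := fun z => Ideal.Quotient.mk J (MvPolynomial.C (e.symm z) * i0)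
      map_zero' := by simp
      map_add' := fun a b => by simp [map_add, add_mul] }
  have hresφ : ∀ g : P, IsLocalRing.residue A (φ g) = e (MvPolynomial.constantCoeff g) := by
    intro g
    show IsLocalRing.residue A (φ g) = IsLocalRing.residue A (algebraMap k A _)
    rw [← sub_eq_zero, ← map_sub, IsLocalRing.residue_eq_zero_iff, ← hC, ← map_sub]
    exact hn0m _ (hsub g)
  have hExt : Exal.IsExtension proj incl :=
    { proj_surjective := fun a => by
        obtain ⟨g, rfl⟩ := hsurj a
        exact ⟨Ideal.Quotient.mk J g, rfl⟩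
      incl_injective := by
        rw [injective_iff_map_eq_zero]
        intro z hz
        have hz' := ((hJ _).mp (Ideal.Quotient.eq_zero_iff_mem.mp hz)).2
        rw [hkey _ _ hi0, hℓ1, mul_one, MvPolynomial.constantCoeff_C] at hz'
        exact (map_eq_zero_iff _ e.symm.injective).mp hz'
      exact := fun t => by
        obtain ⟨g, rfl⟩ := Ideal.Quotient.mk_surjective t
        rw [hproj]
        constructor
        · intro hg
          refine ⟨e (ℓ g), (Ideal.Quotient.eq.mpr ((hJ _).mpr ⟨?_, ?_⟩))⟩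
          · exact I.sub_mem (I.mul_mem_left _ hi0) hg
          · rw [map_sub, hkey _ _ hi0, hℓ1, mul_one, MvPolynomial.constantCoeff_C, RingEquiv.symm_apply_apply, sub_self]
        · rintro ⟨z, hz⟩
          rw [← hproj, ← hz]
          show φ (MvPolynomial.C (e.symm z) * i0) = 0
          rw [map_mul, (RingHom.mem_ker).mp hi0, mul_zero]
      mul_incl := fun t z => by
        obtain ⟨g, rfl⟩ := Ideal.Quotient.mk_surjective t
        rw [hproj]
        show Ideal.Quotient.mk J g * Ideal.Quotient.mk J _ =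
          Ideal.Quotient.mk J (MvPolynomial.C (e.symm (φ g • z)) * i0)
        rw [← map_mul, Ideal.Quotient.eq]
        refine (hJ _).mpr ⟨I.sub_mem (I.mul_mem_left _ (I.mul_mem_left _ hi0)) (I.mul_mem_left _ hi0), ?_⟩
        have hsm : φ g • z = IsLocalRing.residue A (φ g) * z := by
          rw [Algebra.smul_def]; rfl
        rw [map_sub, hkey g _ (I.mul_mem_left _ hi0), hkey _ _ hi0, hkey _ _ hi0, hℓ1, hsm, hresφ]
        simp }
  refine ⟨{ E := P ⧸ J, proj := proj, incl := incl, isExtension := hExt }, ?_⟩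
  rintro ⟨s, hs⟩
  let ψ : P →ₐ[k] P ⧸ J := (show A →ₐ[k] P ⧸ J from s).comp φ
  have hdiff : ∀ g, ∃ z, ψ g - Ideal.Quotient.mk J g = incl z := by
    intro g
    obtain ⟨z, hz⟩ := (hExt.exact (ψ g - Ideal.Quotient.mk J g)).mp (by
      rw [map_sub, hproj, sub_eq_zero]; exact hs (φ g))
    exact ⟨z, hz.symm⟩
  have hsq : ∀ t ∈ n0 * n0, ψ t = Ideal.Quotient.mk J t := by
    intro t ht
    refine Submodule.mul_induction_on ht (fun a ha b hb => ?_) (fun a b ha hb => by rw [map_add, map_add, ha, hb])
    obtain ⟨za, hza⟩ := hdiff a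
    obtain ⟨zb, hzb⟩ := hdiff b
    have kill : ∀ (y : P ⧸ J) (z : κ), proj y ∈ m → y * incl z = 0 := by
      intro y z hy
      rw [hExt.mul_incl, Algebra.smul_def]
      have : algebraMap A κ (proj y) = 0 := (IsLocalRing.residue_eq_zero_iff _).mpr hy
      rw [this, zero_mul, map_zero]
    have h1 : Ideal.Quotient.mk J a * incl zb = 0 := kill _ _ (by rw [hproj]; exact hn0m a ha)
    have h2 : Ideal.Quotient.mk J b * incl za = 0 := kill _ _ (by rw [hproj]; exact hn0m b hb)
    have h3 : incl za * incl zb = 0 := kill _ _ (by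
      rw [(hExt.exact (incl za)).mpr ⟨za, rfl⟩]; exact m.zero_mem)
    rw [map_mul, map_mul, eq_add_of_sub_eq hza, eq_add_of_sub_eq hzb]
    linear_combination h1 + h2 + h3
  have h0 : Ideal.Quotient.mk J i0 = 0 := by
    rw [← hsq i0 (hI2 hi0)]
    show (show A →ₐ[k] P ⧸ J from s) (φ i0) = 0
    rw [(RingHom.mem_ker).mp hi0, map_zero]
  have := ((hJ i0).mp (Ideal.Quotient.eq_zero_iff_mem.mp h0)).2
  rw [hℓ1] at this
  exact one_ne_zero this

end Groth.Agent.S11291
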