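import Groth.Statements.S11292
import Mathlib

set_option autoImplicit false
universe u
open Deform

namespace Groth.Agent.S11292

attribute [local instance] Exal.opModule Exal.isCentralScalar_opModule

open Exal

theorem incl_mul_incl {A B L : Type u} [CommRing A] [CommRing B] [Algebra A B] [AddCommGroup L] [Module B L]
    (X : Exal.Ext A B L) (z z' : L) : X.incl z * X.incl z' = 0 := by
  rw [X.isExtension.mul_incl, (X.isExtension.exact _).mpr ⟨z, rfl⟩, zero_smul, map_zero]

/-- An extension with a section is the trivial one. -/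
theorem equiv_trivial_of_section {A B L : Type u} [CommRing A] [CommRing B] [Algebra A B] [AddCommGroup L]
    [Module B L] (X : Exal.Ext A B L) (σ : B →ₐ[A] X.E) (hσ : ∀ b, X.proj (σ b) = b) :
    Nonempty ((Exal.Ext.trivial A B L).Equiv X) := by
  let f : (Exal.Ext.trivial A B L).E → X.E := fun x => σ (TrivSqZeroExt.fst x) + X.incl (TrivSqZeroExt.snd x)
  have hp : ∀ x, X.proj (f x) = TrivSqZeroExt.fst x := fun x => by
    show X.proj (σ _ + X.incl _) = _
    rw [map_add, hσ, (X.isExtension.exact _).mpr ⟨_, rfl⟩, add_zero]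
  let f0 : TrivSqZeroExt B L →+* X.E :=
    { toFun := fun x => σ (TrivSqZeroExt.fst x) + X.incl (TrivSqZeroExt.snd x)
      map_one' := by rw [TrivSqZeroExt.fst_one, TrivSqZeroExt.snd_one, map_one, map_zero, add_zero]
      map_mul' := fun a b => by
        rw [TrivSqZeroExt.fst_mul, TrivSqZeroExt.snd_mul, op_smul_eq_smul, map_mul, map_add X.incl, add_mul, mul_add,
          mul_add, incl_mul_incl, mul_comm (X.incl (TrivSqZeroExt.snd a)), X.isExtension.mul_incl,
          X.isExtension.mul_incl, hσ, hσ]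
        ring
      map_zero' := by rw [TrivSqZeroExt.fst_zero, TrivSqZeroExt.snd_zero, map_zero, map_zero, add_zero]
      map_add' := fun a b => by
        rw [TrivSqZeroExt.fst_add, TrivSqZeroExt.snd_add, map_add, map_add]
        abel }
  let F : (Exal.Ext.trivial A B L).E →ₐ[A] X.E :=
    { toFun := f
      map_one' := map_one f0
      map_mul' := fun a b => map_mul f0 a b
      map_zero' := map_zero f0
      map_add' := fun a b => map_add f0 a b
      commutes' := fun a => by
        show σ (TrivSqZeroExt.fst (TrivSqZeroExt.inl (algebraMap A B a) : TrivSqZeroExt B L)) +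
          X.incl (TrivSqZeroExt.snd (TrivSqZeroExt.inl (algebraMap A B a) : TrivSqZeroExt B L)) = _
        rw [TrivSqZeroExt.fst_inl, TrivSqZeroExt.snd_inl, map_zero, add_zero, AlgHom.commutes] }
  have hbij : Function.Bijective F := by
    refine ⟨(injective_iff_map_eq_zero F).mpr fun x hx => ?_, fun y => ?_⟩
    · have h1 := hp x
      rw [show f x = 0 from hx, map_zero] at h1
      have h2 : X.incl (TrivSqZeroExt.snd x) = 0 := by
        have : σ (TrivSqZeroExt.fst x) + X.incl (TrivSqZeroExt.snd x) = 0 := hx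
        rwa [← h1, map_zero, zero_add] at this
      exact TrivSqZeroExt.ext h1.symm (X.isExtension.incl_injective (h2.trans (map_zero X.incl).symm))
    · obtain ⟨z, hz⟩ := (X.isExtension.exact (y - σ (X.proj y))).mp (by rw [map_sub, hσ, sub_self])
      refine ⟨(TrivSqZeroExt.inl (X.proj y) + TrivSqZeroExt.inr z : TrivSqZeroExt B L), ?_⟩
      show σ (TrivSqZeroExt.fst (TrivSqZeroExt.inl (X.proj y) + TrivSqZeroExt.inr z : TrivSqZeroExt B L)) + X.incl _ = y
      rw [TrivSqZeroExt.fst_add, TrivSqZeroExt.fst_inl, TrivSqZeroExt.fst_inr, add_zero, TrivSqZeroExt.snd_add,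
        TrivSqZeroExt.snd_inl, TrivSqZeroExt.snd_inr, zero_add, hz, add_sub_cancel]
  refine ⟨{ toAlgEquiv := AlgEquiv.ofBijective F hbij, proj_apply := hp, apply_incl := fun z => ?_ }⟩
  show σ (TrivSqZeroExt.fst (TrivSqZeroExt.inr z : TrivSqZeroExt B L)) +
    X.incl (TrivSqZeroExt.snd (TrivSqZeroExt.inr z : TrivSqZeroExt B L)) = X.incl z
  rw [TrivSqZeroExt.fst_inr, TrivSqZeroExt.snd_inr, map_zero, zero_add]

variable {k Λ R L : Type u} [CommRing k] [CommRing Λ] [CommRing R] [Algebra k Λ] [Algebra Λ R] [Algebra k R]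
  [IsScalarTower k Λ R] [AddCommGroup L] [Module R L] [Module Λ L] [IsScalarTower Λ R L]

theorem extend_derivation [Module k L] [IsScalarTower k R L] [IsScalarTower k Λ L]
    (h : ∀ X : Exal.Ext Λ R L, X.IsTrivial) (D : Derivation k Λ L) :
    ∃ D' : Derivation k R L, ∀ a : Λ, D' (algebraMap Λ R a) = D a := by
  obtain ⟨s, hs⟩ := h (Exal.Ext.ofDerivation (C := R) D)
  let sn : R → L := fun r => TrivSqZeroExt.snd (show TrivSqZeroExt R L from s r)
  have hfst : ∀ r, TrivSqZeroExt.fst (show TrivSqZeroExt R L from s r) = r := hs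
  have hΛ : ∀ a, sn (algebraMap Λ R a) = D a := fun a => by
    show TrivSqZeroExt.snd (show TrivSqZeroExt R L from s (algebraMap Λ R a)) = D a
    rw [AlgHom.commutes]
    show TrivSqZeroExt.snd (TrivSqZeroExt.inl (algebraMap Λ R a) + TrivSqZeroExt.inr (D a)) = D a
    simp
  have hadd : ∀ a b, sn (a + b) = sn a + sn b := fun a b => by
    show TrivSqZeroExt.snd (show TrivSqZeroExt R L from s (a + b)) = _
    rw [map_add]
    exact TrivSqZeroExt.snd_add _ _
  have hmul : ∀ a b, sn (a * b) = a • sn b + b • sn a := fun a b => by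
    show TrivSqZeroExt.snd (show TrivSqZeroExt R L from s (a * b)) = _
    rw [map_mul]
    refine (TrivSqZeroExt.snd_mul _ _).trans ?_
    rw [op_smul_eq_smul]
    exact congrArg₂ (fun p q => p • sn b + q • sn a) (hfst a) (hfst b)
  have hk : ∀ c : k, sn (algebraMap k R c) = 0 := fun c => by
    rw [IsScalarTower.algebraMap_apply k Λ R, hΛ, Derivation.map_algebraMap]
  let Dl : R →ₗ[k] L :=
    { toFun := sn
      map_add' := hadd
      map_smul' := fun c r => by
        rw [RingHom.id_apply, Algebra.smul_def, hmul, hk, smul_zero, add_zero, algebraMap_smul] }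
  exact ⟨Derivation.mk' Dl (fun a b => hmul a b), hΛ⟩

theorem equiv_of_pullback_equiv (h : ∀ X : Exal.Ext Λ R L, X.IsTrivial) (Y Y' : Exal.Ext k R L)
    (he : Nonempty ((Y.pullback Λ).Equiv (Y'.pullback Λ))) : Nonempty (Y.Equiv Y') := by
  obtain ⟨e⟩ := he
  let e' : Y.fiberProd Λ ≃ₐ[k] Y'.fiberProd Λ := e.toAlgEquiv
  let P : Subalgebra k (Y.E × Y'.E) :=
    AlgHom.equalizer (Y.proj.comp (AlgHom.fst k Y.E Y'.E)) (Y'.proj.comp (AlgHom.snd k Y.E Y'.E))
  let Δ : Ideal P :=
    { carrier := {x | ∃ z : L, x.1 = (Y.incl z, Y'.incl z)}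
      zero_mem' := ⟨0, by rw [map_zero, map_zero]; rfl⟩
      add_mem' := by
        rintro a b ⟨za, hza⟩ ⟨zb, hzb⟩
        refine ⟨za + zb, ?_⟩
        show a.1 + b.1 = _
        rw [hza, hzb, map_add, map_add]; rfl
      smul_mem' := by
        rintro c x ⟨z, hz⟩
        refine ⟨Y.proj c.1.1 • z, ?_⟩
        show c.1 * x.1 = _
        rw [hz]
        refine Prod.ext (Y.isExtension.mul_incl _ _) ((Y'.isExtension.mul_incl _ _).trans ?_)
        rw [show Y'.proj c.1.2 = Y.proj c.1.1 from c.2.symm] }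
  have hΔ : ∀ x : P, x ∈ Δ ↔ ∃ z, x.1 = (Y.incl z, Y'.incl z) := fun x => Iff.rfl
  letI : CommRing (P ⧸ Δ) := Ideal.Quotient.commRing Δ
  let q : P →+* P ⧸ Δ := Ideal.Quotient.mk Δ
  -- the lifts of `λ`
  let Rel : Λ → P → Prop := fun l x => ∃ hx : (x.1.1, l) ∈ Y.fiberProd Λ,
    (e' (⟨(x.1.1, l), hx⟩ : Y.fiberProd Λ)).1.1 = x.1.2
  have hRel_mul : ∀ l l' x x', Rel l x → Rel l' x' → Rel (l * l') (x * x') := by
    rintro l l' x x' ⟨hx, h1⟩ ⟨hx', h2⟩
    refine ⟨(Y.fiberProd Λ).mul_mem hx hx', ?_⟩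
    show (e' ((⟨(x.1.1, l), hx⟩ : Y.fiberProd Λ) * ⟨(x'.1.1, l'), hx'⟩)).1.1 = x.1.2 * x'.1.2
    refine Eq.trans (congrArg (fun t : Y'.fiberProd Λ => t.1.1) (map_mul e' _ _)) ?_
    rw [← h1, ← h2]
    rfl
  have hRel_add : ∀ l l' x x', Rel l x → Rel l' x' → Rel (l + l') (x + x') := by
    rintro l l' x x' ⟨hx, h1⟩ ⟨hx', h2⟩
    refine ⟨(Y.fiberProd Λ).add_mem hx hx', ?_⟩
    show (e' ((⟨(x.1.1, l), hx⟩ : Y.fiberProd Λ) + ⟨(x'.1.1, l'), hx'⟩)).1.1 = x.1.2 + x'.1.2
    refine Eq.trans (congrArg (fun t : Y'.fiberProd Λ => t.1.1) (map_add e' _ _)) ?_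
    rw [← h1, ← h2]
    rfl
  have hRel_k : ∀ c : k, Rel (algebraMap k Λ c) (algebraMap k P c) := fun c => by
    refine ⟨(Y.fiberProd Λ).algebraMap_mem c, ?_⟩
    show (e' (algebraMap k (Y.fiberProd Λ) c)).1.1 = algebraMap k Y'.E c
    exact congrArg (fun t : Y'.fiberProd Λ => t.1.1) (e'.commutes c)
  have hRel_uniq : ∀ l x x', Rel l x → Rel l x' → q x = q x' := by
    rintro l x x' ⟨hx, h1⟩ ⟨hx', h2⟩
    have hpx : Y.proj x.1.1 = algebraMap Λ R l := hx
    have hpx' : Y.proj x'.1.1 = algebraMap Λ R l := hx'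
    obtain ⟨z, hz⟩ := (Y.isExtension.exact (x.1.1 - x'.1.1)).mp (by rw [map_sub, hpx, hpx', sub_self])
    rw [Ideal.Quotient.eq]
    refine (hΔ _).mpr ⟨z, Prod.ext hz.symm ?_⟩
    show x.1.2 - x'.1.2 = Y'.incl z
    rw [← h1, ← h2]
    have h3 := e.apply_incl z
    have h4 : (⟨(x.1.1, l), hx⟩ : Y.fiberProd Λ) - ⟨(x'.1.1, l), hx'⟩ = (Y.pullback Λ).incl z :=
      Subtype.ext (Prod.ext hz.symm (sub_self l))
    rw [← h4] at h3
    exact (congrArg (fun t : Y'.fiberProd Λ => t.1.1) (map_sub e' _ _)).symm.trans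
      (congrArg (fun t : Y'.fiberProd Λ => t.1.1) h3)
  have hRel_ex : ∀ l, ∃ x, Rel l x := by
    intro l
    obtain ⟨y, hy⟩ := Y.isExtension.proj_surjective (algebraMap Λ R l)
    let u : Y.fiberProd Λ := ⟨(y, l), hy⟩
    have h1 : (e' u).1.2 = l := e.proj_apply u
    have h2 : Y'.proj (e' u).1.1 = algebraMap Λ R (e' u).1.2 := (e' u).2
    rw [h1, ← hy] at h2
    exact ⟨⟨(y, (e' u).1.1), h2.symm⟩, hy, rfl⟩
  choose rep hrep using hRel_ex
  let ρ : Λ →+* P ⧸ Δ :=
    { toFun := fun l => q (rep l)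
      map_one' := (hRel_uniq 1 _ _ (hrep 1) (by simpa only [map_one] using hRel_k 1)).trans (map_one q)
      map_mul' := fun a b => (hRel_uniq _ _ _ (hrep _) (hRel_mul _ _ _ _ (hrep a) (hrep b))).trans (map_mul q _ _)
      map_zero' := (hRel_uniq 0 _ _ (hrep 0) (by simpa only [map_zero] using hRel_k 0)).trans (map_zero q)
      map_add' := fun a b => (hRel_uniq _ _ _ (hrep _) (hRel_add _ _ _ _ (hrep a) (hrep b))).trans (map_add q _ _) }
  letI algW := ρ.toAlgebra
  let pr : P ⧸ Δ →+* R := Ideal.Quotient.lift Δ (Y.proj.toRingHom.comp ((RingHom.fst Y.E Y'.E).comp P.val.toRingHom))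
    (fun x hx => by
      obtain ⟨z, hz⟩ := (hΔ x).mp hx
      show Y.proj x.1.1 = 0
      rw [hz]
      exact (Y.isExtension.exact _).mpr ⟨z, rfl⟩)
  let proj : P ⧸ Δ →ₐ[Λ] R := { pr with
    commutes' := fun l => by
      obtain ⟨hx, -⟩ := hrep l
      exact hx }
  have hP0 : ∀ z, (Y.incl z, (0 : Y'.E)) ∈ P := fun z => by
    show Y.proj (Y.incl z) = Y'.proj 0
    rw [map_zero, (Y.isExtension.exact _).mpr ⟨z, rfl⟩]
  let incl : L →+ P ⧸ Δ :=
    { toFun := fun z => q ⟨(Y.incl z, 0), hP0 z⟩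
      map_zero' := by
        rw [← map_zero q]
        exact congrArg q (Subtype.ext (Prod.ext (map_zero _) rfl))
      map_add' := fun a b => by
        rw [← map_add q]
        exact congrArg q (Subtype.ext (Prod.ext (map_add _ _ _) (add_zero (0 : Y'.E)).symm)) }
  have hExt : Exal.IsExtension proj incl :=
    { proj_surjective := fun r => by
        obtain ⟨y, hy⟩ := Y.isExtension.proj_surjective r
        obtain ⟨y', hy'⟩ := Y'.isExtension.proj_surjective r
        exact ⟨q ⟨(y, y'), hy.trans hy'.symm⟩, hy⟩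
      incl_injective := by
        rw [injective_iff_map_eq_zero]
        intro z hz
        obtain ⟨w, hw⟩ := (hΔ _).mp (Ideal.Quotient.eq_zero_iff_mem.mp hz)
        have h1 : (0 : Y'.E) = Y'.incl w := congrArg Prod.snd hw
        have h2 : Y.incl z = Y.incl w := congrArg Prod.fst hw
        rw [Y.isExtension.incl_injective h2]
        exact Y'.isExtension.incl_injective (h1.symm.trans (map_zero _).symm)
      exact := fun t => by
        obtain ⟨⟨⟨y, y'⟩, hyy⟩, rfl⟩ := Ideal.Quotient.mk_surjective t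
        constructor
        · intro h0
          change Y.proj y = 0 at h0
          obtain ⟨a, rfl⟩ := (Y.isExtension.exact y).mp h0
          obtain ⟨b, rfl⟩ := (Y'.isExtension.exact y').mp ((show Y.proj (Y.incl a) = Y'.proj y' from hyy).symm.trans h0)
          refine ⟨a - b, Ideal.Quotient.eq.mpr ((hΔ _).mpr ⟨-b, Prod.ext ?_ ?_⟩)⟩
          · show Y.incl (a - b) - Y.incl a = Y.incl (-b)
            rw [← map_sub, sub_sub_cancel_left]
          · show (0 : Y'.E) - Y'.incl b = Y'.incl (-b)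
            rw [zero_sub, map_neg]
        · rintro ⟨z, hz⟩
          rw [← hz]
          exact (Y.isExtension.exact _).mpr ⟨z, rfl⟩
      mul_incl := fun t z => by
        obtain ⟨x, rfl⟩ := Ideal.Quotient.mk_surjective t
        show q x * q _ = q _
        rw [← map_mul]
        exact congrArg q (Subtype.ext (Prod.ext (Y.isExtension.mul_incl _ _) (mul_zero x.1.2))) }
  obtain ⟨σ, hσ⟩ := h { E := P ⧸ Δ, proj := proj, incl := incl, isExtension := hExt }
  let σ' : R →ₐ[Λ] P ⧸ Δ := σ
  have hσ' : ∀ r, proj (σ' r) = r := hσ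
  have huniq : ∀ x x' : P, x.1.1 = x'.1.1 → q x = q x' → x.1.2 = x'.1.2 := fun x x' h1 h2 => by
    obtain ⟨z, hz⟩ := (hΔ _).mp (Ideal.Quotient.eq.mp h2)
    have e1 : x.1.1 - x'.1.1 = Y.incl z := congrArg Prod.fst hz
    have e2 : x.1.2 - x'.1.2 = Y'.incl z := congrArg Prod.snd hz
    rw [h1, sub_self] at e1
    rw [Y.isExtension.incl_injective (e1.symm.trans (map_zero _).symm), map_zero, sub_eq_zero] at e2
    exact e2
  have hF : ∀ y, ∃ x : P, x.1.1 = y ∧ q x = σ' (Y.proj y) := fun y => by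
    obtain ⟨⟨⟨a, b⟩, hab⟩, hx⟩ := Ideal.Quotient.mk_surjective (σ' (Y.proj y))
    have hp : Y.proj a = Y.proj y := (congrArg proj hx).trans (hσ' _)
    obtain ⟨z, hz⟩ := (Y.isExtension.exact (a - y)).mp (by rw [map_sub, hp, sub_self])
    have hmem : (y, b - Y'.incl z) ∈ P := by
      show Y.proj y = Y'.proj (b - Y'.incl z)
      rw [map_sub, (Y'.isExtension.exact _).mpr ⟨z, rfl⟩, sub_zero, ← hp]
      exact hab
    refine ⟨⟨(y, b - Y'.incl z), hmem⟩, rfl, ?_⟩
    rw [← hx, Ideal.Quotient.eq]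
    refine (hΔ _).mpr ⟨-z, Prod.ext ?_ ?_⟩
    · show y - a = Y.incl (-z)
      rw [map_neg, hz, neg_sub]
    · show b - Y'.incl z - b = Y'.incl (-z)
      rw [map_neg, sub_sub_cancel_left]
  choose F hF1 hF2 using hF
  have hFu : ∀ y (x : P), x.1.1 = y → q x = σ' (Y.proj y) → (F y).1.2 = x.1.2 := fun y x h1 h2 =>
    huniq _ _ ((hF1 y).trans h1.symm) ((hF2 y).trans h2.symm)
  let G : Y.E →ₐ[k] Y'.E :=
    { toFun := fun y => (F y).1.2
      map_one' := hFu 1 1 rfl (by rw [map_one q, map_one Y.proj, map_one σ'])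
      map_mul' := fun a b => hFu (a * b) (F a * F b) (congrArg₂ (· * ·) (hF1 a) (hF1 b))
        (by rw [map_mul q, map_mul Y.proj, map_mul σ', hF2, hF2])
      map_zero' := hFu 0 0 rfl (by rw [map_zero q, map_zero Y.proj, map_zero σ'])
      map_add' := fun a b => hFu (a + b) (F a + F b) (congrArg₂ (· + ·) (hF1 a) (hF1 b))
        (by rw [map_add q, map_add Y.proj, map_add σ', hF2, hF2])
      commutes' := fun c => by
        refine hFu (algebraMap k Y.E c) (algebraMap k P c) rfl ?_
        rw [AlgHom.commutes, IsScalarTower.algebraMap_apply k Λ R, AlgHom.commutes]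
        exact (hRel_uniq _ _ _ (hrep _) (hRel_k c)).symm }
  have hP : ∀ x : P, Y.proj x.1.1 = Y'.proj x.1.2 := fun x => x.2
  have hGp : ∀ y, Y'.proj (G y) = Y.proj y := fun y => (hP (F y)).symm.trans (congrArg Y.proj (hF1 y))
  have hmem : ∀ z, (Y.incl z, Y'.incl z) ∈ P := fun z => by
    show Y.proj (Y.incl z) = Y'.proj (Y'.incl z)
    rw [(Y.isExtension.exact _).mpr ⟨z, rfl⟩, (Y'.isExtension.exact _).mpr ⟨z, rfl⟩]
  have hGi : ∀ z, G (Y.incl z) = Y'.incl z := fun z => hFu _ ⟨_, hmem z⟩ rfl (by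
    rw [(Y.isExtension.exact _).mpr ⟨z, rfl⟩, map_zero]
    exact Ideal.Quotient.eq_zero_iff_mem.mpr ((hΔ _).mpr ⟨z, rfl⟩))
  have hbij : Function.Bijective G := by
    refine ⟨(injective_iff_map_eq_zero G).mpr fun y hy => ?_, fun y' => ?_⟩
    · obtain ⟨z, rfl⟩ := (Y.isExtension.exact y).mp (by rw [← hGp, hy, map_zero])
      rw [hGi] at hy
      rw [Y'.isExtension.incl_injective (hy.trans (map_zero _).symm), map_zero]
    · obtain ⟨y, hy⟩ := Y.isExtension.proj_surjective (Y'.proj y')
      obtain ⟨w, hw⟩ := (Y'.isExtension.exact (G y - y')).mp (by rw [map_sub, hGp, hy, sub_self])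
      exact ⟨y - Y.incl w, by rw [map_sub, hGi, hw, sub_sub_cancel]⟩
  exact ⟨{ toAlgEquiv := AlgEquiv.ofBijective G hbij, proj_apply := hGp, apply_incl := hGi }⟩

theorem isTrivial_of_criterion [Module k L] [IsScalarTower k R L] [IsScalarTower k Λ L]
    (ha : ∀ D : Derivation k Λ L, ∃ D' : Derivation k R L, ∀ a : Λ, D' (algebraMap Λ R a) = D a)
    (hb : ∀ Y Y' : Exal.Ext k R L, Nonempty ((Y.pullback Λ).Equiv (Y'.pullback Λ)) → Nonempty (Y.Equiv Y'))
    (X : Exal.Ext Λ R L) : X.IsTrivial := by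
  let Y := X.restrictBase k
  let T := Exal.Ext.trivial k R L
  letI : Algebra k X.E := ((algebraMap Λ X.E).comp (algebraMap k Λ)).toAlgebra
  let σY : Λ →ₐ[k] (Y.pullback Λ).E :=
    { toFun := fun l => (⟨(algebraMap Λ X.E l, l), X.proj.commutes l⟩ : Y.fiberProd Λ)
      map_one' := Subtype.ext (Prod.ext (map_one (algebraMap Λ X.E)) rfl)
      map_mul' := fun a b => Subtype.ext (Prod.ext (map_mul (algebraMap Λ X.E) a b) rfl)
      map_zero' := Subtype.ext (Prod.ext (map_zero (algebraMap Λ X.E)) rfl)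
      map_add' := fun a b => Subtype.ext (Prod.ext (map_add (algebraMap Λ X.E) a b) rfl)
      commutes' := fun _ => rfl }
  let σT : Λ →ₐ[k] (T.pullback Λ).E :=
    { toFun := fun l => (⟨((TrivSqZeroExt.inl (algebraMap Λ R l) : TrivSqZeroExt R L), l),
        TrivSqZeroExt.fst_inl L (algebraMap Λ R l)⟩ : T.fiberProd Λ)
      map_one' := Subtype.ext (Prod.ext (map_one ((TrivSqZeroExt.inlHom R L).comp (algebraMap Λ R))) rfl)
      map_mul' := fun a b => Subtype.ext (Prod.ext (map_mul ((TrivSqZeroExt.inlHom R L).comp (algebraMap Λ R)) a b) rfl)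
      map_zero' := Subtype.ext (Prod.ext (map_zero ((TrivSqZeroExt.inlHom R L).comp (algebraMap Λ R))) rfl)
      map_add' := fun a b => Subtype.ext (Prod.ext (map_add ((TrivSqZeroExt.inlHom R L).comp (algebraMap Λ R)) a b) rfl)
      commutes' := fun c => Subtype.ext (Prod.ext
        (congrArg (fun r : R => (TrivSqZeroExt.inl r : TrivSqZeroExt R L)) (IsScalarTower.algebraMap_apply k Λ R c).symm) rfl) }
  obtain ⟨e1⟩ := equiv_trivial_of_section (Y.pullback Λ) σY (fun _ => rfl)
  obtain ⟨e2⟩ := equiv_trivial_of_section (T.pullback Λ) σT (fun _ => rfl)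
  obtain ⟨f⟩ := hb Y T ⟨e1.symm.trans e2⟩
  let s0 : R →+* X.E := (f.symm.toAlgEquiv.toAlgHom.toRingHom).comp (TrivSqZeroExt.inlHom R L)
  have hs0 : ∀ r, X.proj (s0 r) = r := fun r =>
    (f.symm.proj_apply (TrivSqZeroExt.inl r : TrivSqZeroExt R L)).trans (TrivSqZeroExt.fst_inl L r)
  have hs0k : ∀ c : k, s0 (algebraMap k R c) = algebraMap Λ X.E (algebraMap k Λ c) := fun c =>
    f.symm.toAlgEquiv.commutes c
  have hd : ∀ l : Λ, X.proj (s0 (algebraMap Λ R l) - algebraMap Λ X.E l) = 0 := fun l => by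
    rw [map_sub, hs0, AlgHom.commutes, sub_self]
  choose d hd using fun l => (X.isExtension.exact _).mp (hd l)
  have hdadd : ∀ a b, d (a + b) = d a + d b := fun a b => X.isExtension.incl_injective (by
    rw [map_add X.incl, hd, hd, hd, map_add, map_add, map_add]; ring)
  have hmul : ∀ a b, d (a * b) = a • d b + b • d a := fun a b => X.isExtension.incl_injective (by
    have h1 : X.incl (a • d b) = algebraMap Λ X.E a * X.incl (d b) := by
      rw [X.isExtension.mul_incl, AlgHom.commutes, algebraMap_smul]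
    have h2 : X.incl (b • d a) = algebraMap Λ X.E b * X.incl (d a) := by
      rw [X.isExtension.mul_incl, AlgHom.commutes, algebraMap_smul]
    have h3 : X.incl (d a) * X.incl (d b) = 0 := incl_mul_incl X _ _
    rw [map_add X.incl, h1, h2, hd, hd, hd, map_mul, map_mul, map_mul]
    rw [hd, hd] at h3
    linear_combination h3)
  have hdk : ∀ c : k, d (algebraMap k Λ c) = 0 := fun c => X.isExtension.incl_injective (by
    rw [hd, map_zero, ← IsScalarTower.algebraMap_apply k Λ R, hs0k, sub_self])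
  let Dl : Λ →ₗ[k] L :=
    { toFun := d
      map_add' := hdadd
      map_smul' := fun c a => by
        rw [RingHom.id_apply, Algebra.smul_def, hmul, hdk, smul_zero, add_zero, algebraMap_smul] }
  obtain ⟨D', hD'⟩ := ha (Derivation.mk' Dl (fun a b => hmul a b))
  refine ⟨{ toFun := fun r => s0 r - X.incl (D' r),
            map_one' := by rw [map_one, Derivation.map_one_eq_zero, map_zero, sub_zero],
            map_mul' := fun a b => by
              have h1 : X.incl (a • D' b) = s0 a * X.incl (D' b) := by rw [X.isExtension.mul_incl, hs0]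
              have h2 : X.incl (b • D' a) = s0 b * X.incl (D' a) := by rw [X.isExtension.mul_incl, hs0]
              rw [Derivation.leibniz, map_add X.incl, h1, h2, map_mul]
              linear_combination -(incl_mul_incl X (D' a) (D' b)),
            map_zero' := by rw [map_zero, map_zero, map_zero, sub_zero],
            map_add' := fun a b => by rw [map_add, map_add, map_add]; ring,
            commutes' := fun l => by rw [hD' l]; show _ - X.incl (d l) = _; rw [hd, sub_sub_cancel] }, fun r => ?_⟩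
  show X.proj (s0 r - X.incl (D' r)) = r
  rw [map_sub, hs0, (X.isExtension.exact _).mpr ⟨_, rfl⟩, sub_zero]


/-- Let k be an algebraically closed field, Λ and R local Noetherian k-algebras with residue field k,
and Λ → R a local k-algebra homomorphism. Then the relative obstruction space vanishes — every
Λ-extension of R by its residue field k is trivial — if and only if (a) the tangent map t_R → t_Λ is
surjective: every k-derivation of Λ into k extends along Λ → R to a k-derivation of R into k, and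
(b) the obstruction map o(R) → o(Λ) given by inverse image is injective on classes: two k-extensions
of R by k whose inverse images over Λ are equivalent are equivalent (R is less obstructed than Λ).
Here k is the residue field of R, a module over R, Λ and k through the structure maps. -/
theorem result
    {k : Type u} [Field k] [IsAlgClosed k]
    {Λ : Type u} [CommRing Λ] [Algebra k Λ] [IsLocalRing Λ] [IsNoetherianRing Λ]
    (hΛ : ∀ a : Λ, ∃ c : k, a - algebraMap k Λ c ∈ IsLocalRing.maximalIdeal Λ)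
    {R : Type u} [CommRing R] [Algebra Λ R] [Algebra k R] [IsScalarTower k Λ R]
    [IsLocalRing R] [IsNoetherianRing R] [IsLocalHom (algebraMap Λ R)]
    (hR : ∀ r : R, ∃ c : k, r - algebraMap k R c ∈ IsLocalRing.maximalIdeal R) :
    (∀ X : Exal.Ext Λ R (IsLocalRing.ResidueField R), X.IsTrivial) ↔
    ((∀ D : Derivation k Λ (IsLocalRing.ResidueField R),
        ∃ D' : Derivation k R (IsLocalRing.ResidueField R), ∀ a : Λ, D' (algebraMap Λ R a) = D a) ∧
     (∀ Y Y' : Exal.Ext k R (IsLocalRing.ResidueField R),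
        Nonempty ((Y.pullback Λ).Equiv (Y'.pullback Λ)) → Nonempty (Y.Equiv Y'))) := by
  refine ⟨fun h => ⟨fun D => extend_derivation h D, fun Y Y' he => equiv_of_pullback_equiv h Y Y' he⟩, fun h X => ?_⟩
  exact isTrivial_of_criterion h.1 h.2 X

end Groth.Agent.S11292
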