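import Mathlib
import Groth.Statements.S11294
-- import your own Groth.Agent.* helpers here

set_option autoImplicit false
universe u
open Deform

namespace Groth.Agent.S11294

open TrivSqZeroExt in
/-- Let P be a commutative ring, J an ideal, and P[ε] the ring of dual numbers over P. First-order
embedded deformations of Spec(P/J) in Spec P, namely ideals J' of P[ε] lifting J (the image of J'
under ε ↦ 0 is J) with P[ε]/J' flat over the dual numbers — flatness being replaced by the condition
that every element of P[ε]/J' annihilated by ε is a multiple of ε (equivalent to flatness over k[ε]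
when P is an algebra over a field k) — are in canonical bijection with Hom_P(J, P/J) =
Hom_{P/J}(J/J^2, P/J), the normal module: to φ corresponds the ideal of all a + εb with a in J and b
reducing to φ(a) modulo J. The first clause says this rule defines exactly one ideal for each φ; the
second says an ideal J' is a flat lift of J precisely when its membership is given by this rule for
some φ. (The published statement is the global one, identifying first-order deformations of a closed
subscheme X of an algebraic scheme Y with H^0(X, N_{X/Y}); this row is the affine computation in its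
proof, valid for every commutative ring P.) -/
theorem result (P : Type u) [CommRing P] (J : Ideal P) :
    (∀ φ : J →ₗ[P] (P ⧸ J), ∃! J' : Ideal (DualNumber P),
        ∀ a b : P, (inl a + inr b : DualNumber P) ∈ J' ↔ ∃ h : a ∈ J, Ideal.Quotient.mk J b = φ ⟨a, h⟩) ∧
    (∀ J' : Ideal (DualNumber P),
      (J'.map (TrivSqZeroExt.fstHom P P P) = J ∧
        ∀ m : DualNumber P ⧸ J', Ideal.Quotient.mk J' DualNumber.eps * m = 0 →
          ∃ m' : DualNumber P ⧸ J', m = Ideal.Quotient.mk J' DualNumber.eps * m') ↔
      ∃ φ : J →ₗ[P] (P ⧸ J), ∀ a b : P,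
        (inl a + inr b : DualNumber P) ∈ J' ↔ ∃ h : a ∈ J, Ideal.Quotient.mk J b = φ ⟨a, h⟩) := by
  classical
  have mem_iff : ∀ (J' : Ideal (DualNumber P)) (φ : J →ₗ[P] (P ⧸ J)), (∀ a b : P, (inl a + inr b : DualNumber P) ∈ J' ↔ ∃ h : a ∈ J, Ideal.Quotient.mk J b = φ ⟨a, h⟩) → ∀ x : DualNumber P, x ∈ J' ↔ ∃ h : x.fst ∈ J, Ideal.Quotient.mk J x.snd = φ ⟨x.fst, h⟩ := by
    intro J' φ hJ' x
    conv_lhs => rw [← inl_fst_add_inr_snd_eq x]
    exact hJ' _ _
  refine ⟨fun φ => ?_, fun J' => ⟨?_, ?_⟩⟩
  · let K : Ideal (DualNumber P) :=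
      { carrier := {x | ∃ h : x.fst ∈ J, Ideal.Quotient.mk J x.snd = φ ⟨x.fst, h⟩}
        zero_mem' := ⟨by simp, by
          rw [TrivSqZeroExt.snd_zero, map_zero]
          exact (map_zero φ).symm⟩
        add_mem' := by
          rintro x y ⟨hx, hx'⟩ ⟨hy, hy'⟩
          refine ⟨by simpa using J.add_mem hx hy, ?_⟩
          rw [TrivSqZeroExt.snd_add, map_add, hx', hy', ← map_add φ]
          exact congrArg φ (Subtype.ext (by simp))
        smul_mem' := by
          rintro c x ⟨hx, hx'⟩
          refine ⟨by simpa using J.mul_mem_left c.fst hx, ?_⟩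
          have h0 : Ideal.Quotient.mk J (c.snd * x.fst) = 0 := Ideal.Quotient.eq_zero_iff_mem.mpr (J.mul_mem_left _ hx)
          have hm : (c * x).fst ∈ J := by simpa using J.mul_mem_left c.fst hx
          have e : (⟨(c * x).fst, hm⟩ : J) = c.fst • ⟨x.fst, hx⟩ := Subtype.ext (by simp)
          change Ideal.Quotient.mk J (c * x).snd = φ ⟨(c * x).fst, hm⟩
          rw [e, map_smul, Algebra.smul_def, ← hx', TrivSqZeroExt.snd_mul]
          simp only [smul_eq_mul, MulOpposite.smul_eq_mul_unop, MulOpposite.unop_op]
          rw [map_add, h0, add_zero, map_mul]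
          rfl }
    refine ⟨K, fun a b => ?_, fun J'' hJ'' => Ideal.ext fun x => mem_iff J'' φ hJ'' x⟩
    change (∃ h : (inl a + inr b : DualNumber P).fst ∈ J, Ideal.Quotient.mk J (inl a + inr b : DualNumber P).snd = φ ⟨(inl a + inr b : DualNumber P).fst, h⟩) ↔ _
    simp
  · rintro ⟨hmap, hflat⟩
    have hsurj : ∀ a ∈ J, ∃ b, (inl a + inr b : DualNumber P) ∈ J' := by
      intro a ha
      rw [← hmap] at ha
      obtain ⟨x, hx, rfl⟩ := (Ideal.mem_map_iff_of_surjective _ TrivSqZeroExt.fst_surjective).mp ha
      exact ⟨x.snd, by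
        change (inl x.fst + inr x.snd : DualNumber P) ∈ J'
        rw [inl_fst_add_inr_snd_eq]; exact hx⟩
    have hfst : ∀ x ∈ J', (x : DualNumber P).fst ∈ J := fun x hx => hmap ▸ Ideal.mem_map_of_mem _ hx
    have heps : ∀ b : P, (inr b : DualNumber P) ∈ J' ↔ b ∈ J := by
      intro b
      constructor
      · intro hb
        obtain ⟨m', hm'⟩ := hflat (Ideal.Quotient.mk J' (inl b)) (by
          rw [← map_mul, Ideal.Quotient.eq_zero_iff_mem]
          have : (DualNumber.eps * inl b : DualNumber P) = inr b := by ext <;> simp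
          rw [this]; exact hb)
        obtain ⟨y, rfl⟩ := Ideal.Quotient.mk_surjective m'
        rw [← map_mul, Ideal.Quotient.eq] at hm'
        simpa using hfst _ hm'
      · intro hb
        obtain ⟨c, hc⟩ := hsurj b hb
        have : (inr b : DualNumber P) = DualNumber.eps * (inl b + inr c) := by ext <;> simp
        rw [this]; exact J'.mul_mem_left _ hc
    have huniq : ∀ a b b' : P, (inl a + inr b : DualNumber P) ∈ J' → (inl a + inr b' : DualNumber P) ∈ J' →
        Ideal.Quotient.mk J b = Ideal.Quotient.mk J b' := by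
      intro a b b' h h'
      rw [Ideal.Quotient.eq, ← heps]
      have : (inr (b - b') : DualNumber P) = (inl a + inr b) - (inl a + inr b') := by ext <;> simp
      rw [this]; exact J'.sub_mem h h'
    choose g hg using hsurj
    let φ : J →ₗ[P] (P ⧸ J) :=
      { toFun := fun a => Ideal.Quotient.mk J (g a.1 a.2)
        map_add' := fun a a' => by
          rw [← map_add]
          refine huniq _ _ _ (hg _ _) ?_
          have : (inl ((a + a' : J) : P) + inr (g a.1 a.2 + g a'.1 a'.2) : DualNumber P) =
              (inl a.1 + inr (g a.1 a.2)) + (inl a'.1 + inr (g a'.1 a'.2)) := by ext <;> simp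
          rw [this]; exact J'.add_mem (hg _ _) (hg _ _)
        map_smul' := fun c a => by
          rw [RingHom.id_apply, Algebra.smul_def]
          change _ = Ideal.Quotient.mk J c * Ideal.Quotient.mk J (g a.1 a.2)
          rw [← map_mul]
          refine huniq _ _ _ (hg _ _) ?_
          have : (inl ((c • a : J) : P) + inr (c * g a.1 a.2) : DualNumber P) =
              inl c * (inl a.1 + inr (g a.1 a.2)) := by ext <;> simp
          rw [this]; exact J'.mul_mem_left _ (hg _ _) }
    refine ⟨φ, fun a b => ⟨fun h => ⟨?_, ?_⟩, ?_⟩⟩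
    · simpa using hfst _ h
    · exact huniq a _ _ h (hg _ _)
    · rintro ⟨h, h'⟩
      have hmem : (inr (b - g a h) : DualNumber P) ∈ J' := (heps _).mpr (Ideal.Quotient.eq.mp h')
      have : (inl a + inr b : DualNumber P) = (inl a + inr (g a h)) + inr (b - g a h) := by ext <;> simp
      rw [this]; exact J'.add_mem (hg _ _) hmem
  · rintro ⟨φ, hφ⟩
    have hex : ∀ a : J, ∃ b, (inl a.1 + inr b : DualNumber P) ∈ J' := fun a => by
      obtain ⟨b, hb⟩ := Ideal.Quotient.mk_surjective (φ a)
      exact ⟨b, (hφ _ _).mpr ⟨a.2, hb⟩⟩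
    refine ⟨le_antisymm ?_ ?_, ?_⟩
    · rw [Ideal.map_le_iff_le_comap]
      intro x hx
      exact ((mem_iff J' φ hφ x).mp hx).1
    · intro a ha
      obtain ⟨b, hb⟩ := hex ⟨a, ha⟩
      simpa using Ideal.mem_map_of_mem (TrivSqZeroExt.fstHom P P P) hb
    · intro m hm
      obtain ⟨x, rfl⟩ := Ideal.Quotient.mk_surjective m
      rw [← map_mul, Ideal.Quotient.eq_zero_iff_mem] at hm
      have e : (DualNumber.eps * x : DualNumber P) = inl 0 + inr x.fst := by ext <;> simp
      rw [e] at hm
      obtain ⟨h0, hx⟩ := (hφ _ _).mp hm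
      rw [show (⟨0, h0⟩ : J) = 0 from rfl, map_zero] at hx
      obtain ⟨b, hb⟩ := hex ⟨x.fst, Ideal.Quotient.eq_zero_iff_mem.mp hx⟩
      refine ⟨Ideal.Quotient.mk J' (inl (x.snd - b)), ?_⟩
      rw [← map_mul, Ideal.Quotient.eq]
      have : (x - DualNumber.eps * inl (x.snd - b) : DualNumber P) = inl x.fst + inr b := by ext <;> simp
      rw [this]; exact hb

end Groth.Agent.S11294
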