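import Groth.Statements.S11299
-- import your own Groth.Agent.* helpers here

set_option autoImplicit false
universe u
open CAlg

namespace Groth.Agent.S11299

section
variable {P : Type u} [CommRing P] {N : Type u} [AddCommGroup N] [Module P N]
variable {F : Type u} [AddCommGroup F] [Module P F] {F' : Type u} [AddCommGroup F'] [Module P F']

/-- Restrictions to relations of a morphism of presentations. -/
def res (j : F →ₗ[P] P) (j' : F' →ₗ[P] P) (α : F →ₗ[P] F') (hα : j'.comp α = j) :
    LinearMap.ker j →ₗ[P] LinearMap.ker j' :=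
  α.restrict fun x hx => by
    rw [LinearMap.mem_ker, ← LinearMap.comp_apply, hα]; exact hx

/-- The pull back on cochains. -/
def pull (j : F →ₗ[P] P) (j' : F' →ₗ[P] P) (α : F →ₗ[P] F') (hα : j'.comp α = j) :
    ((LinearMap.ker j' →ₗ[P] N) ⧸ LinearMap.range (LinearMap.lcomp P N (LinearMap.ker j').subtype)) →ₗ[P]
    ((LinearMap.ker j →ₗ[P] N) ⧸ LinearMap.range (LinearMap.lcomp P N (LinearMap.ker j).subtype)) :=
  Submodule.mapQ _ _ (LinearMap.lcomp P N (res j j' α hα)) (by
    rintro _ ⟨φ, rfl⟩
    exact ⟨φ.comp α, rfl⟩)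

lemma pull_congr (j : F →ₗ[P] P) (j' : F' →ₗ[P] P) (α α' : F →ₗ[P] F') (hα : j'.comp α = j)
    (hα' : j'.comp α' = j) (x) : pull (N := N) j j' α hα x = pull j j' α' hα' x := by
  obtain ⟨φ, rfl⟩ := Submodule.Quotient.mk_surjective _ x
  refine (Submodule.Quotient.eq _).2 ⟨φ.comp ((α - α').codRestrict (LinearMap.ker j') fun y => ?_),
    LinearMap.ext fun y => ?_⟩
  · rw [LinearMap.mem_ker, LinearMap.sub_apply, map_sub, ← LinearMap.comp_apply, ← LinearMap.comp_apply,
      hα, hα', sub_self]
  · show φ _ = φ _ - φ _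
    rw [← map_sub]
    rfl

end


/-- The second cotangent module does not depend on the presentation: let P be a commutative ring, J an
ideal and B = P/J. For a presentation of J, i.e. a finitely generated free P-module F with a
P-linear map j : F → P with image J, let R = ker j be the relation module and R^tr ⊆ R the span of
the trivial relations j(u) • v - j(v) • u; the module T^2 of the presentation is the quotient of
Hom_B(R/R^tr, B), realised as the P-linear maps R → P/J vanishing on R^tr, by the restrictions to R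
of the P-linear maps F → P/J (here: the image of that submodule in the quotient of Hom_P(R, P/J) by
the restrictions). Then for two presentations (F, j) and (F', j') of the same ideal J the two
modules T^2 are isomorphic as P-modules (existence of an isomorphism; the comparison maps depend on
expressing one system of generators through the other). (The published statement takes B essentially
of finite type over a field and P smooth; this row allows any commutative ring P and ideal J.) -/
theorem result (P : Type u) [CommRing P] (J : Ideal P)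
    (F : Type u) [AddCommGroup F] [Module P F] [Module.Free P F] [Module.Finite P F]
    (F' : Type u) [AddCommGroup F'] [Module P F'] [Module.Free P F'] [Module.Finite P F']
    (j : F →ₗ[P] P) (j' : F' →ₗ[P] P) (hj : LinearMap.range j = J) (hj' : LinearMap.range j' = J) :
    Nonempty (↥(Submodule.map
          (LinearMap.range (LinearMap.lcomp P (P ⧸ J) (LinearMap.ker j).subtype)).mkQ
          (LinearMap.ker (LinearMap.lcomp P (P ⧸ J)
            (Submodule.comap (LinearMap.ker j).subtype
              (Submodule.span P {y : F | ∃ u v : F, y = j u • v - j v • u})).subtype))) ≃ₗ[P]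
      ↥(Submodule.map
          (LinearMap.range (LinearMap.lcomp P (P ⧸ J) (LinearMap.ker j').subtype)).mkQ
          (LinearMap.ker (LinearMap.lcomp P (P ⧸ J)
            (Submodule.comap (LinearMap.ker j').subtype
              (Submodule.span P {y : F' | ∃ u v : F', y = j' u • v - j' v • u})).subtype)))) := by
  have hlift : ∀ {F₁ F₂ : Type u} [AddCommGroup F₁] [Module P F₁] [Module.Free P F₁] [AddCommGroup F₂]
      [Module P F₂] (j₁ : F₁ →ₗ[P] P) (j₂ : F₂ →ₗ[P] P), LinearMap.range j₁ = LinearMap.range j₂ →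
      ∃ α : F₁ →ₗ[P] F₂, j₂.comp α = j₁ := by
    intro F₁ F₂ _ _ _ _ _ j₁ j₂ h
    let b := Module.Free.chooseBasis P F₁
    have hex : ∀ i, ∃ y, j₂ y = j₁ (b i) := fun i => by
      rw [← LinearMap.mem_range, ← h]; exact LinearMap.mem_range_self _ _
    choose y hy using hex
    exact ⟨b.constr P y, b.ext fun i => by rw [LinearMap.comp_apply, Module.Basis.constr_basis, hy]⟩
  obtain ⟨α, hα⟩ := hlift j j' (hj.trans hj'.symm)
  obtain ⟨β, hβ⟩ := hlift j' j (hj'.trans hj.symm)
  have hinv : ∀ {F₁ F₂ : Type u} [AddCommGroup F₁] [Module P F₁] [AddCommGroup F₂] [Module P F₂]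
      (j₁ : F₁ →ₗ[P] P) (j₂ : F₂ →ₗ[P] P) (α : F₁ →ₗ[P] F₂) (hα : j₂.comp α = j₁) (β : F₂ →ₗ[P] F₁)
      (hβ : j₁.comp β = j₂) (x : (LinearMap.ker j₁ →ₗ[P] P ⧸ J) ⧸
        LinearMap.range (LinearMap.lcomp P (P ⧸ J) (LinearMap.ker j₁).subtype)),
      pull j₁ j₂ α hα (pull j₂ j₁ β hβ x) = x := by
    intro F₁ F₂ _ _ _ _ j₁ j₂ α hα β hβ x
    have hc : j₁.comp (β.comp α) = j₁ := by rw [← LinearMap.comp_assoc, hβ, hα]
    have h1 : pull j₁ j₂ α hα (pull j₂ j₁ β hβ x) = pull j₁ j₁ (β.comp α) hc x := by
      obtain ⟨φ, rfl⟩ := Submodule.Quotient.mk_surjective _ x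
      rfl
    rw [h1, pull_congr j₁ j₁ (β.comp α) LinearMap.id hc (LinearMap.comp_id _)]
    obtain ⟨φ, rfl⟩ := Submodule.Quotient.mk_surjective _ x
    rfl
  have hmem : ∀ {F₁ F₂ : Type u} [AddCommGroup F₁] [Module P F₁] [AddCommGroup F₂] [Module P F₂]
      (j₁ : F₁ →ₗ[P] P) (j₂ : F₂ →ₗ[P] P) (α : F₁ →ₗ[P] F₂) (hα : j₂.comp α = j₁),
      ∀ x ∈ Submodule.map
          (LinearMap.range (LinearMap.lcomp P (P ⧸ J) (LinearMap.ker j₂).subtype)).mkQ
          (LinearMap.ker (LinearMap.lcomp P (P ⧸ J)
            (Submodule.comap (LinearMap.ker j₂).subtype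
              (Submodule.span P {y : F₂ | ∃ u v : F₂, y = j₂ u • v - j₂ v • u})).subtype)),
      pull j₁ j₂ α hα x ∈ Submodule.map
          (LinearMap.range (LinearMap.lcomp P (P ⧸ J) (LinearMap.ker j₁).subtype)).mkQ
          (LinearMap.ker (LinearMap.lcomp P (P ⧸ J)
            (Submodule.comap (LinearMap.ker j₁).subtype
              (Submodule.span P {y : F₁ | ∃ u v : F₁, y = j₁ u • v - j₁ v • u})).subtype)) := by
    intro F₁ F₂ _ _ _ _ j₁ j₂ α hα x hx
    obtain ⟨φ, hφ, rfl⟩ := hx
    refine ⟨φ.comp (res j₁ j₂ α hα), LinearMap.ext fun y => ?_, rfl⟩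
    have hy : (res j₁ j₂ α hα y.1).1 ∈ Submodule.span P {y : F₂ | ∃ u v : F₂, y = j₂ u • v - j₂ v • u} := by
      have h1 : (y.1.1 : F₁) ∈ Submodule.span P {y : F₁ | ∃ u v : F₁, y = j₁ u • v - j₁ v • u} := y.2
      have h2 := Submodule.mem_map_of_mem (f := α) h1
      rw [Submodule.map_span] at h2
      refine Submodule.span_mono ?_ h2
      rintro _ ⟨_, ⟨u, v, rfl⟩, rfl⟩
      refine ⟨α u, α v, ?_⟩
      rw [map_sub, map_smul, map_smul, ← LinearMap.comp_apply, ← LinearMap.comp_apply, hα]
    exact LinearMap.congr_fun hφ ⟨res j₁ j₂ α hα y.1, hy⟩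
  exact ⟨LinearEquiv.ofLinear ((pull j' j β hβ).restrict (hmem j' j β hβ))
    ((pull j j' α hα).restrict (hmem j j' α hα))
    (LinearMap.ext fun x => Subtype.ext (hinv j' j β hβ α hα x.1))
    (LinearMap.ext fun x => Subtype.ext (hinv j j' α hα β hβ x.1))⟩

end Groth.Agent.S11299
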