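import Groth.Statements.S11302
-- import your own Groth.Agent.* helpers here

set_option autoImplicit false
universe u
open Deform

namespace Groth.Agent.S11302

/-- The relations of a weakly regular sequence have coefficients in the ideal it generates. -/
theorem mem_span_of_relation {P : Type u} [CommRing P] : ∀ (n : ℕ) (f : Fin n → P),
    RingTheory.Sequence.IsWeaklyRegular P (List.ofFn f) →
    ∀ a : Fin n → P, ∑ i, a i * f i = 0 → ∀ i, a i ∈ Ideal.span (Set.range f) := by
  intro n
  induction n with
  | zero => exact fun f _ a _ i => i.elim0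
  | succ n ih =>
    intro f hf a ha
    rw [List.ofFn_succ', List.concat_eq_append, RingTheory.Sequence.isWeaklyRegular_append_iff] at hf
    obtain ⟨hinit, hlast⟩ := hf
    set g : Fin n → P := fun i => f i.castSucc with hg
    set J : Ideal P := Ideal.span (Set.range g) with hJ
    have hsub : J ≤ Ideal.span (Set.range f) := Ideal.span_mono (by rintro _ ⟨i, rfl⟩; exact ⟨_, rfl⟩)
    have hJl : Ideal.ofList (List.ofFn g) = J := by
      simp only [Ideal.ofList, List.mem_ofFn]; rfl
    rw [Fin.sum_univ_castSucc] at ha
    have hmem : a (Fin.last n) * f (Fin.last n) ∈ J := by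
      rw [eq_neg_of_add_eq_zero_right ha]
      exact neg_mem (Submodule.sum_mem _ fun i _ => Ideal.mul_mem_left _ _ (Ideal.subset_span ⟨i, rfl⟩))
    have hs := (RingTheory.Sequence.isWeaklyRegular_singleton_iff _ _).mp hlast
    have hal : a (Fin.last n) ∈ J := by
      have he : (Ideal.ofList (List.ofFn g) • ⊤ : Submodule P P) = J := by
        rw [hJl, smul_eq_mul, Ideal.mul_top]
      rw [← he] at hmem ⊢
      rw [← Submodule.Quotient.mk_eq_zero] at hmem ⊢
      refine hs ?_
      show f (Fin.last n) • Submodule.Quotient.mk (a (Fin.last n)) =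
        f (Fin.last n) • (0 : P ⧸ (Ideal.ofList (List.ofFn g) • ⊤ : Submodule P P))
      rw [smul_zero, ← Submodule.Quotient.mk_smul,
        show f (Fin.last n) • a (Fin.last n) = a (Fin.last n) * f (Fin.last n) from mul_comm _ _]
      exact hmem
    obtain ⟨b, hb⟩ := Ideal.mem_span_range_iff_exists_fun.mp hal
    have hrel := ih g hinit (fun i => a i.castSucc + b i * f (Fin.last n)) (by
      rw [← ha, ← hb, Finset.sum_mul, ← Finset.sum_add_distrib]
      refine Finset.sum_congr rfl fun i _ => ?_
      simp only [hg]
      rw [add_mul, mul_right_comm])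
    intro i
    induction i using Fin.lastCases with
    | last => exact hsub hal
    | cast i =>
      have h2 : b i * f (Fin.last n) ∈ Ideal.span (Set.range f) :=
        Ideal.mul_mem_left _ _ (Ideal.subset_span ⟨_, rfl⟩)
      simpa using sub_mem (hsub (hrel i)) h2

open MvPolynomial in
/-- T^1 of a complete intersection; the hypersurface case P/(f, ∂f/∂X_1, ..., ∂f/∂X_d) is n = 1: let k
be an algebraically closed field, P = k[X_1, ..., X_d], f_1, ..., f_n a regular sequence in P (each
f_i a non-zero-divisor modulo the preceding ones), J the ideal they generate and B = P/J. The first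
cotangent module T^1_B — the cokernel of Der_k(P, B) → Hom_P(J, B), a derivation being restricted to
J — is isomorphic, as a P-module, to B^n modulo the B-submodule generated by the d columns
(∂f_1/∂X_j, ..., ∂f_n/∂X_j), j = 1, ..., d, of the Jacobian matrix reduced modulo J, through the map
sending the class of φ : J → B to the class of (φ(f_1), ..., φ(f_n)). (The published formula allows
P to be a localisation of the polynomial ring; this row takes the polynomial ring.) -/
theorem result (k : Type u) [Field k] [IsAlgClosed k] (d n : ℕ)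
    (f : Fin n → MvPolynomial (Fin d) k) (hreg : RingTheory.Sequence.IsWeaklyRegular (MvPolynomial (Fin d) k) (List.ofFn f)) :
    ∃ e : ((↥(Ideal.span (Set.range f)) →ₗ[MvPolynomial (Fin d) k] (MvPolynomial (Fin d) k ⧸ Ideal.span (Set.range f))) ⧸
            Submodule.span (MvPolynomial (Fin d) k)
              {ψ : ↥(Ideal.span (Set.range f)) →ₗ[MvPolynomial (Fin d) k] (MvPolynomial (Fin d) k ⧸ Ideal.span (Set.range f)) |
                ∃ D : Derivation k (MvPolynomial (Fin d) k) (MvPolynomial (Fin d) k ⧸ Ideal.span (Set.range f)), ∀ a : ↥(Ideal.span (Set.range f)), ψ a = D (a : MvPolynomial (Fin d) k)}) ≃ₗ[MvPolynomial (Fin d) k]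
          ((Fin n → MvPolynomial (Fin d) k ⧸ Ideal.span (Set.range f)) ⧸
            Submodule.span (MvPolynomial (Fin d) k ⧸ Ideal.span (Set.range f))
              (Set.range fun j : Fin d => fun i : Fin n => Ideal.Quotient.mk (Ideal.span (Set.range f)) (pderiv j (f i)))),
      ∀ φ : ↥(Ideal.span (Set.range f)) →ₗ[MvPolynomial (Fin d) k] (MvPolynomial (Fin d) k ⧸ Ideal.span (Set.range f)),
        e (Submodule.Quotient.mk φ) =
          Submodule.Quotient.mk (fun i : Fin n => φ ⟨f i, Ideal.subset_span (Set.mem_range_self i)⟩) := by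
  classical
  set J : Ideal (MvPolynomial (Fin d) k) := Ideal.span (Set.range f) with hJ
  let E : ((↥J →ₗ[MvPolynomial (Fin d) k] (MvPolynomial (Fin d) k ⧸ J))) →ₗ[MvPolynomial (Fin d) k]
      (Fin n → MvPolynomial (Fin d) k ⧸ J) :=
    { toFun := fun φ i => φ ⟨f i, Ideal.subset_span (Set.mem_range_self i)⟩
      map_add' := fun φ ψ => rfl
      map_smul' := fun c φ => rfl }
  have hinj : Function.Injective E := by
    intro φ ψ h
    refine LinearMap.ext fun x => ?_
    obtain ⟨a, ha⟩ := Ideal.mem_span_range_iff_exists_fun.mp x.2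
    have hx : x = ∑ i, a i • (⟨f i, Ideal.subset_span (Set.mem_range_self i)⟩ : ↥J) :=
      Subtype.ext (by simp [← ha])
    rw [hx, map_sum, map_sum]
    exact Finset.sum_congr rfl fun i _ => by rw [map_smul, map_smul]; exact congrArg (a i • ·) (congrFun h i)
  have hsurj : Function.Surjective E := by
    intro v
    let π : (Fin n → MvPolynomial (Fin d) k) →ₗ[MvPolynomial (Fin d) k] ↥J :=
      Fintype.linearCombination (MvPolynomial (Fin d) k)
        fun i => (⟨f i, Ideal.subset_span (Set.mem_range_self i)⟩ : ↥J)
    have hπ : Function.Surjective π := fun x => by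
      obtain ⟨a, ha⟩ := Ideal.mem_span_range_iff_exists_fun.mp x.2
      exact ⟨a, Subtype.ext (by simp [π, Fintype.linearCombination_apply, ← ha])⟩
    have hker : LinearMap.ker π ≤ LinearMap.ker (Fintype.linearCombination (MvPolynomial (Fin d) k) v) := by
      intro a ha
      have h0 := congrArg Subtype.val (LinearMap.mem_ker.mp ha)
      simp [π, Fintype.linearCombination_apply] at h0
      rw [LinearMap.mem_ker, Fintype.linearCombination_apply]
      refine Finset.sum_eq_zero fun i _ => ?_
      obtain ⟨w, hw⟩ := Ideal.Quotient.mk_surjective (v i)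
      rw [← hw]
      show Ideal.Quotient.mk J (a i * w) = 0
      rw [Ideal.Quotient.eq_zero_iff_mem]
      exact J.mul_mem_right _ (mem_span_of_relation n f hreg a h0 i)
    let e := π.quotKerEquivOfSurjective hπ
    refine ⟨((LinearMap.ker π).liftQ _ hker).comp e.symm.toLinearMap, funext fun i => ?_⟩
    show (LinearMap.ker π).liftQ _ hker (e.symm ⟨f i, _⟩) = v i
    have h1 : e.symm ⟨f i, Ideal.subset_span (Set.mem_range_self i)⟩ =
        Submodule.Quotient.mk (Pi.single i 1) := by
      rw [LinearEquiv.symm_apply_eq]
      show _ = π (Pi.single i 1)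
      rw [Fintype.linearCombination_apply_single, one_smul]
    rw [h1]
    show Fintype.linearCombination (MvPolynomial (Fin d) k) v (Pi.single i 1) = v i
    rw [Fintype.linearCombination_apply_single, one_smul]
  let e₀ := LinearEquiv.ofBijective E ⟨hinj, hsurj⟩
  let S := Submodule.span (MvPolynomial (Fin d) k ⧸ J)
    (Set.range fun j : Fin d => fun i : Fin n => Ideal.Quotient.mk J (pderiv j (f i)))
  let D0 := Submodule.span (MvPolynomial (Fin d) k)
    {ψ : ↥J →ₗ[MvPolynomial (Fin d) k] (MvPolynomial (Fin d) k ⧸ J) |
      ∃ D : Derivation k (MvPolynomial (Fin d) k) (MvPolynomial (Fin d) k ⧸ J),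
        ∀ a : ↥J, ψ a = D (a : MvPolynomial (Fin d) k)}
  have hmap : D0.map e₀.toLinearMap = S.restrictScalars (MvPolynomial (Fin d) k) := by
    refine le_antisymm ?_ ?_
    · rw [Submodule.map_span, Submodule.span_le]
      rintro _ ⟨ψ, ⟨D, hD⟩, rfl⟩
      have hv : e₀ ψ = ∑ j, D (X j) • (fun i : Fin n => Ideal.Quotient.mk J (pderiv j (f i))) := by
        funext i
        show ψ ⟨f i, _⟩ = _
        rw [hD]
        have hsum : ∀ a : MvPolynomial (Fin d) k, D a = ∑ j, pderiv j a • D (X j) := by
          intro a
          induction a using MvPolynomial.induction_on with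
          | C r => simp
          | add a b ha hb => simp [map_add, ha, hb, add_smul, Finset.sum_add_distrib]
          | mul_X a j ha =>
            rw [Derivation.leibniz, ha, Finset.smul_sum]
            simp only [Derivation.leibniz, add_smul, Finset.sum_add_distrib, smul_eq_mul, mul_smul,
              pderiv_X, Pi.single_apply, ite_smul, one_smul, zero_smul, smul_ite, smul_zero,
              Finset.sum_ite_eq, Finset.mem_univ, if_true]
        rw [hsum, Finset.sum_apply]
        refine Finset.sum_congr rfl fun j _ => ?_
        obtain ⟨w, hw⟩ := Ideal.Quotient.mk_surjective (D (X j))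
        rw [Pi.smul_apply, smul_eq_mul, ← hw, ← map_mul]
        show Ideal.Quotient.mk J (pderiv j (f i) * w) = _
        rw [mul_comm]
      show e₀ ψ ∈ S
      rw [hv]
      exact Submodule.sum_mem _ fun j _ => Submodule.smul_mem _ _ (Submodule.subset_span ⟨j, rfl⟩)
    · intro v hv
      obtain ⟨c, rfl⟩ := (Submodule.mem_span_range_iff_exists_fun _).mp hv
      refine Submodule.sum_mem _ fun j _ => ?_
      obtain ⟨w, hw⟩ := Ideal.Quotient.mk_surjective (c j)
      let D : Derivation k (MvPolynomial (Fin d) k) (MvPolynomial (Fin d) k ⧸ J) :=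
        (Submodule.mkQ J).compDer (pderiv j)
      let ψ : ↥J →ₗ[MvPolynomial (Fin d) k] (MvPolynomial (Fin d) k ⧸ J) :=
        { toFun := fun a => D (a : MvPolynomial (Fin d) k)
          map_add' := fun a b => map_add D _ _
          map_smul' := fun r a => by
            show Ideal.Quotient.mk J (pderiv j (r * (a : MvPolynomial (Fin d) k))) =
              Ideal.Quotient.mk J r * Ideal.Quotient.mk J (pderiv j (a : MvPolynomial (Fin d) k))
            rw [Derivation.leibniz, map_add, smul_eq_mul, smul_eq_mul, map_mul, map_mul,
              Ideal.Quotient.eq_zero_iff_mem.mpr a.2, zero_mul, add_zero] }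
      refine ⟨w • ψ, Submodule.smul_mem _ _ (Submodule.subset_span ⟨D, fun a => rfl⟩), ?_⟩
      rw [map_smul, ← hw]
      funext i
      rfl
  refine ⟨(Submodule.Quotient.equiv D0 (S.restrictScalars _) e₀ hmap).trans
    (Submodule.Quotient.restrictScalarsEquiv _ S), fun φ => rfl⟩

end Groth.Agent.S11302
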