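import Mathlib
import Groth.Statements.S11306
-- import your own Groth.Agent.* helpers here

set_option autoImplicit false
universe u
open TensorProduct
open CAlg

namespace Groth.Agent.S11306

/-- Take a Noetherian local domain A, with residue field k and fraction field K, and let M be a finitely
generated A-module. If k ⊗_A M and K ⊗_A M have the same dimension r (over k and over K
respectively), then M is a free A-module of rank r. -/
theorem result (A : Type u) [CommRing A] [IsDomain A]
    [IsNoetherianRing A] [IsLocalRing A] (M : Type u) [AddCommGroup M] [Module A M] [Module.Finite A M] (r : ℕ)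
    (hk : Module.finrank (IsLocalRing.ResidueField A) (IsLocalRing.ResidueField A ⊗[A] M) = r)
    (hK : Module.finrank (FractionRing A) (FractionRing A ⊗[A] M) = r) :
    Module.Free A M ∧ Module.finrank A M = r := by
  classical
  let k := IsLocalRing.ResidueField A
  let K := FractionRing A
  let bk : Module.Basis (Fin r) k (k ⊗[A] M) := Module.finBasisOfFinrankEq k _ hk
  have hs : Function.Surjective (TensorProduct.mk A k M 1) :=
    TensorProduct.mk_surjective A M k IsLocalRing.residue_surjective
  choose f hf using fun i => hs (bk i)
  have hspan : Submodule.span A (Set.range f) = ⊤ :=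
    IsLocalRing.span_eq_top_of_tmul_eq_basis f bk hf
  have htop : ⊤ ≤ Submodule.span K (Set.range fun i => (1 : K) ⊗ₜ[A] f i) := by
    rintro z -
    induction z using TensorProduct.induction_on with
    | zero => exact zero_mem _
    | add x y hx hy => exact add_mem hx hy
    | tmul a m =>
      have hm : (1 : K) ⊗ₜ[A] m ∈ Submodule.span K (Set.range fun i => (1 : K) ⊗ₜ[A] f i) := by
        have hm' : m ∈ Submodule.span A (Set.range f) := hspan ▸ trivial
        induction hm' using Submodule.span_induction with
        | mem x hx => obtain ⟨i, rfl⟩ := hx; exact Submodule.subset_span ⟨i, rfl⟩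
        | zero => simp
        | add x y _ _ hx hy => rw [TensorProduct.tmul_add]; exact add_mem hx hy
        | smul a x _ hx =>
          rw [TensorProduct.tmul_smul, ← algebraMap_smul K a ((1 : K) ⊗ₜ[A] x)]
          exact Submodule.smul_mem _ _ hx
      rw [show a ⊗ₜ[A] m = a • ((1 : K) ⊗ₜ[A] m) by rw [TensorProduct.smul_tmul', smul_eq_mul, mul_one]]
      exact Submodule.smul_mem _ _ hm
  have hli : LinearIndependent K (fun i => (1 : K) ⊗ₜ[A] f i) :=
    linearIndependent_of_top_le_span_of_card_eq_finrank htop (by rw [Fintype.card_fin]; exact hK.symm)
  have hliA : LinearIndependent A f :=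
    LinearIndependent.of_comp (TensorProduct.mk A K M 1) (hli.restrict_scalars (by
      intro a b hab
      simpa [Algebra.smul_def] using hab))
  let bM := Module.Basis.mk hliA hspan.ge
  exact ⟨Module.Free.of_basis bM, by rw [Module.finrank_eq_card_basis bM, Fintype.card_fin]⟩

end Groth.Agent.S11306
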