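import Groth.Statements.S11310
-- import your own Groth.Agent.* helpers here
import Groth.Agent.AdjForm.Apps
import Groth.Agent.AdjForm.SmoothDim
import Groth.Agent.SmoothDense.Basic

set_option autoImplicit false
universe u
open CategoryTheory CategoryTheory.Limits AlgebraicGeometry
open NonsingVar

namespace Groth.Agent.S11310

/-- Let k be an algebraically closed field, X a nonsingular variety over k (integral, separated and of
finite type over k, all local rings regular) of dimension m + r, and i : Y → X a nonsingular closed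
subvariety (integral closed subscheme with regular local rings) of dimension m, so of codimension r,
with conormal sheaf I/I². Let ω_X be an (m + r)-th exterior power of the sheaf of differentials of X
over k, ω_Y an m-th exterior power of that of Y over k, and L an r-th exterior power of the conormal
sheaf. Then i^*ω_X and ω_Y ⊗ L are isomorphic O_Y-modules (existence of an isomorphism only; the
published statement also names no map). Since L is invertible with dual the r-th exterior power of
the normal sheaf N = (I/I²)^∨, this is the adjunction formula ω_Y ≅ ω_X ⊗ ∧^r N; for r = 1 it reads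
ω_Y ≅ ω_X ⊗ L(Y) ⊗ O_Y. -/
theorem result (k : Type u) [Field k] [IsAlgClosed k]
    (m r : ℕ) (X : Scheme.{u}) [X.Over (Spec (CommRingCat.of k))] [IsIntegral X] [IsSeparated (X ↘ (Spec (CommRingCat.of k)))]
    [LocallyOfFiniteType (X ↘ (Spec (CommRingCat.of k)))] [QuasiCompact (X ↘ (Spec (CommRingCat.of k)))]
    (hreg : ∀ x : ↥X, IsRegularLocalRing ↑(X.presheaf.stalk x))
    (hX : topologicalKrullDim ↥X = ((m + r : ℕ) : WithBot ℕ∞))
    (Y : Scheme.{u}) (i : Y ⟶ X) [IsClosedImmersion i] [IsIntegral Y]
    (hregY : ∀ y : ↥Y, IsRegularLocalRing ↑(Y.presheaf.stalk y))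
    (hY : topologicalKrullDim ↥Y = (m : WithBot ℕ∞))
    (ωX : X.Modules) (hωX : ExtPow.IsExtPow (m + r) (Omega.sheaf (X ↘ (Spec (CommRingCat.of k)))) ωX)
    (ωY : Y.Modules) (hωY : ExtPow.IsExtPow m (Omega.sheaf (i ≫ (X ↘ (Spec (CommRingCat.of k))))) ωY)
    (L : Y.Modules) (hL : ExtPow.IsExtPow r (Omega.conormal i) L) :
    Nonempty ((Scheme.Modules.pullback i).obj ωX ≅ CohB1.tensorMod ωY L) := by
  let f := X ↘ Spec (CommRingCat.of k)
  haveI : LocallyOfFinitePresentation f := inferInstance
  haveI : LocallyOfFinitePresentation (i ≫ f) := inferInstance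
  haveI : Smooth f := Scheme.Hom.smoothLocus_eq_top_iff.1 (top_le_iff.1 fun x _ =>
    (SmoothDense.mem_smoothLocus_iff_regular f x).2 (hreg x))
  haveI : Smooth (i ≫ f) := Scheme.Hom.smoothLocus_eq_top_iff.1 (top_le_iff.1 fun x _ =>
    (SmoothDense.mem_smoothLocus_iff_regular (i ≫ f) x).2 (hregY x))
  haveI := AdjForm.smoothOfRelativeDimension_of_irreducible f (m + r) hX
  haveI := AdjForm.smoothOfRelativeDimension_of_irreducible (i ≫ f) m hY
  haveI : IsLocallyNoetherian X := LocallyOfFiniteType.isLocallyNoetherian f
  haveI : IsLocallyNoetherian Y := LocallyOfFiniteType.isLocallyNoetherian (i ≫ f)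
  have hr := AdjForm.isRegularImmersionOfCodim_sub f (i ≫ f) i rfl (m + r) m
    (AdjForm.isRegularImmersion_regular f (i ≫ f) i rfl)
  rw [Nat.add_sub_cancel_left] at hr
  exact AdjForm.nonempty_iso f (i ≫ f) i rfl (m + r) m r hr hωX hωY hL

end Groth.Agent.S11310
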