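import Groth.Statements.S11311
import Groth.Agent.ComplDeriv.SmoothFree
import Groth.Agent.PP16Lib.AdicOmega
import Groth.Agent.S2471

set_option autoImplicit false
universe u
open CAlg

namespace Groth.Agent.S11311

open IsLocalRing TensorProduct in
/-- A finite `Ω` of an adically formally smooth local algebra is free. -/
theorem free_kaehler_of_adicSmooth {k B : Type u} [CommRing k] [CommRing B] [IsLocalRing B] [IsNoetherianRing B]
    [Algebra k B] [Module.Finite B Ω[B⁄k]] (hfs : CAlgX.IsAdicFormallySmooth k B (maximalIdeal B)) :
    Module.Free B Ω[B⁄k] := by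
  classical
  let K := ResidueField B
  let M := Ω[B⁄k]
  let bK := Module.finBasis K (K ⊗[B] M)
  have hsK : Function.Surjective (TensorProduct.mk B K M 1) :=
    TensorProduct.mk_surjective B M K residue_surjective
  choose w hw using fun i => hsK (bK i)
  have hgen : Submodule.span B (Set.range w) = ⊤ := by
    refine span_eq_top_of_tmul_eq_basis w bK hw
  let φ : (Fin (Module.finrank K (K ⊗[B] M)) → B) →ₗ[B] M := Fintype.linearCombination B w
  have hφ : Function.Surjective φ := by
    rw [← LinearMap.range_eq_top, Fintype.range_linearCombination, hgen]
  have hinj : Function.Injective φ := by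
    refine (injective_iff_map_eq_zero φ).mpr fun a ha => ?_
    funext i
    rw [Pi.zero_apply, ← Ideal.mem_bot,
      ← Ideal.iInf_pow_eq_bot_of_isLocalRing (maximalIdeal B) (maximalIdeal.isMaximal B).ne_top, Submodule.mem_iInf]
    intro n
    rcases Nat.eq_zero_or_pos n with rfl | hn
    · simp
    let I := maximalIdeal B ^ n
    let R' := B ⧸ I
    have := PP16Lib.projective_tensor_omega hfs I (k := n) le_rfl
    have hIm : I ≤ maximalIdeal B := Ideal.pow_le_self (by omega)
    have : Nontrivial R' := Ideal.Quotient.nontrivial_iff.mpr
      (ne_top_of_le_ne_top (maximalIdeal.isMaximal B).ne_top hIm)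
    have : IsLocalRing R' := .of_surjective' (Ideal.Quotient.mk _) Ideal.Quotient.mk_surjective
    let f : (Fin (Module.finrank K (K ⊗[B] M)) → R') →ₗ[R'] R' ⊗[B] M :=
      Fintype.linearCombination R' fun i => (1 : R') ⊗ₜ[B] w i
    have hf : Function.Surjective f := by
      rw [← LinearMap.range_eq_top, Fintype.range_linearCombination,
        show (Set.range fun i => (1 : R') ⊗ₜ[B] w i) = TensorProduct.mk B R' M 1 '' Set.range w from
          Set.range_comp (TensorProduct.mk B R' M 1) w, eq_top_iff]
      intro z _
      obtain ⟨m, rfl⟩ := TensorProduct.mk_surjective B M R' Ideal.Quotient.mk_surjective z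
      have hm : TensorProduct.mk B R' M 1 m ∈ (Submodule.span B (Set.range w)).map (TensorProduct.mk B R' M 1) :=
        Submodule.mem_map_of_mem (by rw [hgen]; trivial)
      rw [Submodule.map_span] at hm
      exact Submodule.span_le_restrictScalars B R' _ hm
    obtain ⟨s, hs⟩ := Module.projective_lifting_property f LinearMap.id hf
    let e : (Fin (Module.finrank K (K ⊗[B] M)) → R') →ₗ[R'] (Fin (Module.finrank K (K ⊗[B] M)) → R') :=
      LinearMap.id - s.comp f
    have hef : ∀ x, f (e x) = 0 := fun x => by
      rw [LinearMap.sub_apply, map_sub, LinearMap.comp_apply, ← LinearMap.comp_apply f s, hs]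
      simp
    have hker : LinearMap.ker f ≤ maximalIdeal R' • (⊤ : Submodule R' _) := by
      intro c hc
      rw [LinearMap.mem_ker, Fintype.linearCombination_apply] at hc
      suffices hj : ∀ j, c j ∈ maximalIdeal R' by
        rw [pi_eq_sum_univ c]
        exact Submodule.sum_mem _ fun j _ => Submodule.smul_mem_smul (hj j) Submodule.mem_top
      intro j
      have h := congrArg (LinearMap.rTensor M (Submodule.factor hIm)) hc
      choose b hb using fun i => Ideal.Quotient.mk_surjective (I := I) (c i)
      rw [map_sum, map_zero] at h
      have h' : ∑ i, algebraMap B K (b i) • bK i = 0 := by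
        refine Eq.trans ?_ h
        refine Finset.sum_congr rfl fun i _ => ?_
        rw [← hw, ← hb i, TensorProduct.smul_tmul', smul_eq_mul, mul_one, LinearMap.rTensor_tmul, TensorProduct.mk_apply,
          TensorProduct.smul_tmul', smul_eq_mul, mul_one]
        rfl
      have h0 := Fintype.linearIndependent_iff.mp bK.linearIndependent _ h' j
      rw [ResidueField.algebraMap_eq, residue_eq_zero_iff] at h0
      rw [← hb j, ← map_maximalIdeal_of_surjective (Ideal.Quotient.mk I) Ideal.Quotient.mk_surjective]
      exact Ideal.mem_map_of_mem _ h0
    have hbot : LinearMap.ker f = ⊥ := by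
      refine Submodule.eq_bot_of_le_smul_of_le_jacobson_bot (maximalIdeal R') _ (IsNoetherian.noetherian _) ?_
        (maximalIdeal_le_jacobson ⊥)
      intro c hc
      have hec : e c = c := by
        rw [LinearMap.sub_apply, LinearMap.comp_apply, LinearMap.mem_ker.mp hc]; simp
      rw [← hec]
      have hm : e c ∈ (maximalIdeal R' • (⊤ : Submodule R' _)).map e := Submodule.mem_map_of_mem (hker hc)
      rw [Submodule.map_smul''] at hm
      refine Submodule.smul_mono le_rfl ?_ hm
      rintro _ ⟨x, -, rfl⟩
      exact hef x
    have hc0 : (fun j => Ideal.Quotient.mk I (a j)) ∈ LinearMap.ker f := by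
      rw [LinearMap.mem_ker, Fintype.linearCombination_apply]
      have h := congrArg (TensorProduct.mk B R' M 1) ha
      rw [map_zero, Fintype.linearCombination_apply, map_sum] at h
      refine Eq.trans ?_ h
      refine Finset.sum_congr rfl fun j _ => ?_
      rw [map_smul, TensorProduct.mk_apply, ← Ideal.Quotient.algebraMap_eq, algebraMap_smul]
    rw [hbot, Submodule.mem_bot] at hc0
    exact Ideal.Quotient.eq_zero_iff_mem.mp (congrFun hc0 i)
  exact Module.Free.of_equiv (LinearEquiv.ofBijective φ ⟨hinj, hφ⟩)

/-- Let k be a field and B a local ring containing k whose residue field is k (the composite k → B → B/m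
is bijective), and which is a localization of a finitely generated k-algebra (essentially of finite
type over k); let d = dim B. If the module of differentials Ω_{B/k} is free of rank d then B is a
regular local ring. Conversely, if k is perfect and B is a regular local ring, then Ω_{B/k} is free
of rank d. (The published statement assumes k perfect as one of its hypotheses and asserts the
equivalence; its proof of the first implication does not use perfectness, so that hypothesis is
placed on the converse only.) -/
theorem result (k B : Type u) [Field k] [CommRing B] [Algebra k B]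
    [IsLocalRing B] [Algebra.EssFiniteType k B]
    (hres : Function.Bijective (algebraMap k (IsLocalRing.ResidueField B)))
    (d : ℕ) (hd : ringKrullDim B = (d : WithBot ℕ∞)) :
    ((Module.Free B (KaehlerDifferential k B) ∧ Module.finrank B (KaehlerDifferential k B) = d) →
        IsRegularLocalRing B) ∧
      (PerfectField k → IsRegularLocalRing B →
        Module.Free B (KaehlerDifferential k B) ∧ Module.finrank B (KaehlerDifferential k B) = d) := by
  classical
  have : IsNoetherianRing B := Algebra.EssFiniteType.isNoetherianRing k B
  let K := IsLocalRing.ResidueField B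
  let eK : k ≃ₐ[k] K := AlgEquiv.ofBijective (Algebra.ofId k K) hres
  have : Algebra.FormallySmooth k K := Algebra.FormallySmooth.of_equiv eK
  have hK0 : Subsingleton Ω[K⁄k] :=
    KaehlerDifferential.subsingleton_of_surjective k K hres.2
  have hcot := ComplDeriv.finrank_residue_kaehler_of_formallySmooth k B
  rw [Module.finrank_zero_of_subsingleton (M := Ω[K⁄k]), add_zero] at hcot
  refine ⟨fun ⟨hfree, hrk⟩ => ?_, fun _ hreg => ?_⟩
  · rw [Module.finrank_baseChange, hrk] at hcot
    rw [IsRegularLocalRing.iff_finrank_cotangentSpace, ← hcot, hd]
  · have hfs : CAlgX.IsAdicFormallySmooth k B (IsLocalRing.maximalIdeal B) := by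
      rw [S2471.result]
      exact ⟨hreg, PP16Lib.injective_lTensor_of_injective
        (EGA41Lib.isGeometricallyReduced_iff_injective.mp
          (EGA41Lib.formallySmooth_iff_isGeometricallyReduced.mp inferInstance))⟩
    have hfree := free_kaehler_of_adicSmooth hfs
    refine ⟨hfree, ?_⟩
    rw [Module.finrank_baseChange] at hcot
    have h := (IsRegularLocalRing.iff_finrank_cotangentSpace B).mp hreg
    rw [hd, ← hcot] at h
    exact_mod_cast h

end Groth.Agent.S11311
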