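import Groth.Statements.S11317
-- import your own Groth.Agent.* helpers here
import Groth.Agent.HodgeSym.Pair
import Groth.Agent.AdjForm.ExtExists
import Groth.Agent.AdjForm.Frame
import Groth.Agent.S5668

set_option autoImplicit false
universe u
open CategoryTheory CategoryTheory.Limits AlgebraicGeometry
open ProjDual

namespace Groth.Agent.S11317

/-- Let k be an algebraically closed field and X a nonsingular projective variety of dimension n over k
— an integral k-scheme, smooth of relative dimension n over k, with a closed immersion into some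
P^N_k over k. Let p, q ≤ n and let L and L' be O_X-modules which are a p-th, respectively an
(n-p)-th, exterior power of the sheaf of differentials of X over k. Then H^q(X, L) and H^(n-q)(X,
L') have the same dimension over k: h^q(Ω^p) = h^(n-q)(Ω^(n-p)). (The published statement gives a
natural isomorphism of H^q(X, Ω^p) with the dual of H^(n-q)(X, Ω^(n-p)); this row records the
equality of dimensions.) -/
theorem result (k : Type u) [Field k] [IsAlgClosed k] (n N : ℕ)
    (X : Scheme.{u}) [X.Over (Spec (CommRingCat.of k))] [IsIntegral X]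
    [SmoothOfRelativeDimension n (X ↘ Spec (CommRingCat.of k))]
    (ι : X ⟶ CohB1.ProjSpace N k) [IsClosedImmersion ι] (hι : ι ≫ CohB1.ProjSpace.toSpec N k = X ↘ Spec (CommRingCat.of k))
    (p q : ℕ) (hp : p ≤ n) (hq : q ≤ n) (L L' : X.Modules)
    (hL : ExtPow.IsExtPow p (Omega.sheaf (X ↘ Spec (CommRingCat.of k))) L)
    (hL' : ExtPow.IsExtPow (n - p) (Omega.sheaf (X ↘ Spec (CommRingCat.of k))) L') :
    Module.finrank k (Coh.HH X L q) = Module.finrank k (Coh.HH X L' (n - q)) := by
  haveI : Smooth (X ↘ Spec (CommRingCat.of k)) := SmoothOfRelativeDimension.smooth n _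
  haveI : ConnectedSpace X := inferInstance
  haveI : IsLocallyNoetherian X := LocallyOfFiniteType.isLocallyNoetherian (X ↘ Spec (CommRingCat.of k))
  haveI : QuasiSeparated (X ↘ Spec (CommRingCat.of k)) := inferInstance
  haveI := ConormalSection.omega_isQuasicoherent (X ↘ Spec (CommRingCat.of k))
  have hE : ∀ x : X, ∃ U : X.Opens, x ∈ U ∧ IsAffineOpen U ∧
      Nonempty (Module.Basis (Fin n) Γ(X, U) Γ(Omega.sheaf (X ↘ Spec (CommRingCat.of k)), U)) := fun x => by
    obtain ⟨W, hxW, -, hW, -, hb⟩ := AdjForm.exists_frame (X ↘ Spec (CommRingCat.of k)) n x ⊤ trivial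
    exact ⟨W, hxW, hW, hb⟩
  obtain ⟨ω, hω, hωinv⟩ := AdjForm.exists_isExtPow (Omega.sheaf (X ↘ Spec (CommRingCat.of k))) n hE
  obtain ⟨φL, hφL⟩ := hL
  obtain ⟨φA, hφA⟩ := hL'
  obtain ⟨φω, hφω⟩ := hω
  haveI : ModSite.HasSheafHom (O := X.sheaf) L := Groth.Agent.ModGroth.hasSheafHom (O := X.sheaf) L
  haveI : DCoh.HasSheafHom L :=
    ((ModSite.sheafHomAdj (O := X.sheaf) L).ofNatIsoLeft (Groth.Agent.ModGroth.tensorSymm (O := X.sheaf) L).symm).isLeftAdjoint
  have hLf : FlatMod.IsFinLocFree L := HodgeSym.isFinLocFree_extPow φL hφL hE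
  obtain ⟨e⟩ := HodgeSym.nonempty_iso (Nat.sub_add_cancel hp) φA φL φω hφA hφL hφω hE hωinv
  obtain ⟨e1⟩ := Groth.Agent.S5668.result k n N X ι hι ω ⟨φω, hφω⟩ L hLf q hq
  obtain ⟨e2⟩ := SSExist.nonempty_HH_linearEquiv_of_iso (A := k) (X := X)
    (e ≪≫ (SSExist.homXIso L).app ω) (n - q)
  rw [← Subspace.dual_finrank_eq, (e1.trans e2.symm).finrank_eq]

end Groth.Agent.S11317
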