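import Groth.Statements.S11320
import Groth.Agent.SpecColim.Colim

set_option autoImplicit false
universe u
open CategoryTheory CategoryTheory.Limits
open CohTop

namespace Groth.Agent.S11320

/-- On a Noetherian topological space X, the direct limit, in the category of abelian sheaves, of a
directed system (F_i) of flasque abelian sheaves indexed by a nonempty directed preorder is flasque
(all its restriction maps are surjective). -/
theorem result {X : TopCat.{u}} [TopologicalSpace.NoetherianSpace X]
    (ι : Type u) [Preorder ι] [IsDirected ι (· ≤ ·)] [Nonempty ι]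
    (D : ι ⥤ CohTop.Ab X) (hD : ∀ i : ι, TopCat.Sheaf.IsFlasque (D.obj i)) :
    TopCat.Sheaf.IsFlasque (colimit D : CohTop.Ab X) := by
  classical
  have hq := Groth.Agent.SpecColim.qFlasque_of_isColimit (colimit.isColimit D) (U := ⊤)
    (fun U V _ hUo _ _ hVo _ => TopologicalSpace.NoetherianSpace.isCompact _)
    (fun j => haveI := hD j; Groth.Agent.SpecColim.qFlasque_of_isFlasque ⊤ (D.obj j))
  exact ⟨fun {U V} i => (AddCommGrpCat.epi_iff_surjective _).2 fun s =>
    hq i.unop.le le_top (TopologicalSpace.NoetherianSpace.isCompact _)
      (TopologicalSpace.NoetherianSpace.isCompact _) s⟩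

end Groth.Agent.S11320
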