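import Groth.Statements.S11323
-- import your own Groth.Agent.* helpers here
import Groth.Agent.CohDual.ExtShStalk
import Groth.Agent.CohDual.SiteStalkCmp
import Groth.Agent.ExtBaseChange.Basic

set_option autoImplicit false
universe u
open CategoryTheory AlgebraicGeometry TopologicalSpace
open Coherent

namespace Groth.Agent.S11323

/-- Let X be a Noetherian scheme, F a coherent O_X-module, G any O_X-module, x a point of X and i ≥ 0.
Then the stalk at x of the Ext sheaf Ext^i(F, G) — the i-th right derived functor of the internal
Hom functor Hom(F, -) on O_X-modules (its existence and that of injective resolutions are the stated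
instance hypotheses, both true), evaluated at G — is isomorphic, as a module over the local ring at
x, to Ext^i of the stalks F_x, G_x computed in the category of modules over that local ring. (Stalks
are taken as fibres at the point of the site of opens given by x; existence of an isomorphism only.) -/
theorem result (X : Scheme.{u}) [IsNoetherian X]
    (F G : X.Modules) (hF : Coh.IsCoh F)
    [ModSite.HasSheafHom (O := X.sheaf) F] [HasInjectiveResolutions (ModSite.Mod X.sheaf)]
    (x : X) (i : ℕ) :
    Nonempty (ModSite.stalkMod (Opens.pointGrothendieckTopology x) ((ModSite.extSh (O := X.sheaf) F i).obj G)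
      ≃ₗ[ModSite.stalkRing (Opens.pointGrothendieckTopology x) X.sheaf]
      Abelian.Ext (ModSite.stalkMod (O := X.sheaf) (Opens.pointGrothendieckTopology x) F)
        (ModSite.stalkMod (O := X.sheaf) (Opens.pointGrothendieckTopology x) G) i) := by
  let φ := Groth.Agent.CohDual.SiteStalkCmp.ringMap x
  have hφ := Groth.Agent.CohDual.SiteStalkCmp.bijective_ringMap x
  letI : Algebra (X.presheaf.stalk x) (ModSite.stalkRing (Opens.pointGrothendieckTopology x) X.sheaf) := φ.toAlgebra
  haveI : Module.Flat (X.presheaf.stalk x) (ModSite.stalkRing (Opens.pointGrothendieckTopology x) X.sheaf) :=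
    Module.Flat.of_linearEquiv (LinearEquiv.ofBijective (Algebra.linearMap _ _) hφ).symm
  haveI : Module.Finite (X.presheaf.stalk x) (F.presheaf.stalk x) := by
    obtain ⟨U, hU, hxU, -⟩ := exists_isAffineOpen_mem_and_subset (X := X) (x := x) (U := ⊤) trivial
    obtain ⟨m, l, e, r, -, hgen, -⟩ := Groth.Agent.CohDual.StalkHom.exists_pres F hF hU
    refine Module.Finite.of_surjective (Fintype.linearCombination (X.presheaf.stalk x)
      fun i => F.presheaf.germ U x hxU (e i)) fun z => ?_
    obtain ⟨c, hc⟩ := hgen x hxU z
    exact ⟨c, (Fintype.linearCombination_apply _ _ _).trans hc⟩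
  haveI : IsNoetherianRing (X.presheaf.stalk x) := inferInstance
  have cmp : ∀ M : X.Modules, Nonempty (TensorProduct (X.presheaf.stalk x)
      (ModSite.stalkRing (Opens.pointGrothendieckTopology x) X.sheaf) (M.presheaf.stalk x)
      ≃ₗ[ModSite.stalkRing (Opens.pointGrothendieckTopology x) X.sheaf]
        ModSite.stalkMod (O := X.sheaf) (Opens.pointGrothendieckTopology x) M) := fun M =>
    Groth.Agent.CohDual.SiteStalkCmp.nonempty_tensor_equiv hφ (Groth.Agent.CohDual.SiteStalkCmp.modMap x M)
      (Groth.Agent.CohDual.SiteStalkCmp.bijective_modMap x M) (Groth.Agent.CohDual.SiteStalkCmp.modMap_smul x M)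
  obtain ⟨eE⟩ := cmp (show X.Modules from (ModSite.extSh (O := X.sheaf) F i).obj G)
  obtain ⟨eF⟩ := cmp F
  obtain ⟨eG⟩ := cmp G
  obtain ⟨e⟩ := Groth.Agent.CohDual.nonempty_stalk_extSh F hF G x i
  obtain ⟨b⟩ := Groth.Agent.ExtBaseChange.nonempty_baseChange
    (A := X.presheaf.stalk x) (B := ModSite.stalkRing (Opens.pointGrothendieckTopology x) X.sheaf)
    (G.presheaf.stalk x) i (F.presheaf.stalk x)
  obtain ⟨c⟩ := Groth.Agent.CohDual.nonempty_extCongr eF.toModuleIso eG.toModuleIso i
  exact ⟨eE.symm.trans ((LinearEquiv.baseChange _ _ _ _ e.toLinearEquiv).trans (b.trans c))⟩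

end Groth.Agent.S11323
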