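import Groth.Statements.S11325
-- import your own Groth.Agent.* helpers here
import Groth.Agent.S11905
import Groth.Agent.S11903
import Groth.Agent.FundLocal.HomInv
import Groth.Agent.FundLocal.RegularImm
import Groth.Agent.CohDual.CodimApps
import Groth.Agent.CohDual.ClosedTwist
import Groth.Agent.CohDual.DimFormula
import Groth.Agent.InvBasic.QCoh

set_option autoImplicit false
universe u
open CategoryTheory CategoryTheory.Limits AlgebraicGeometry
attribute [local instance] HasDerivedCategory.standard
open ProjDual

namespace Groth.Agent.S11325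

/-- Let k be a field, P = P^N_k and ι : X → P a closed immersion which makes X a local complete
intersection of codimension r in P: every irreducible component of X has dimension N - r, and every
point of X has an affine open neighbourhood U in P on which the ideal of X is generated by r
sections. Let C be an r-th exterior power of the conormal sheaf of X in P (a locally free O_X-module
of rank one; its internal Hom functor is assumed to exist, which it does) and put M = ι^* O_P(-N-1)
⊗ Hom_{O_X}(C, O_X), that is ω_P ⊗ (∧^r of the conormal sheaf)^∨. Then M is a dualizing sheaf for X: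
with n = N - r there is a k-linear map t : H^n(X, M) → k such that for every coherent O_X-module F
and every k-linear form ψ on H^n(X, F) there is exactly one morphism φ : F → M with ψ = t ∘ H^n(φ).
(The published statement says that the dualizing sheaf of X is isomorphic to M, and in particular is
invertible; by uniqueness of dualizing sheaves this is the same assertion.) -/
theorem result
    (k : Type u) [Field k] (N r : ℕ) (hr : r ≤ N) (X : Scheme.{u}) [X.Over (Spec (CommRingCat.of k))]
    (ι : X ⟶ CohB1.ProjSpace N k) [IsClosedImmersion ι] (hι : ι ≫ CohB1.ProjSpace.toSpec N k = X ↘ Spec (CommRingCat.of k))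
    (heq : ∀ Z : Set ↥X, Z ∈ irreducibleComponents ↥X → topologicalKrullDim ↥Z = ((N - r : ℕ) : WithBot ℕ∞))
    (hgen : ∀ x : X, ∃ U : (CohB1.ProjSpace N k).affineOpens, ι.base x ∈ (U : (CohB1.ProjSpace N k).Opens) ∧
      ∃ f : Fin r → Γ(CohB1.ProjSpace N k, (U : (CohB1.ProjSpace N k).Opens)), ι.ker.ideal U = Ideal.span (Set.range f))
    (C : X.Modules) (hC : ExtPow.IsExtPow r (Omega.conormal ι) C) [DCoh.HasSheafHom C] :
    ∃ t : Coh.HH X (CohB1.tensorMod ((Scheme.Modules.pullback ι).obj (Twist.twistProjSpace N k (-((N : ℤ) + 1))))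
        ((DCoh.sheafHom C).obj (Coh.structureModule X))) (N - r) →ₗ[k] k,
      ∀ F : X.Modules, Coh.IsCoh F → ∀ ψ : Coh.HH X F (N - r) →ₗ[k] k,
        ∃! φ : F ⟶ (CohB1.tensorMod ((Scheme.Modules.pullback ι).obj (Twist.twistProjSpace N k (-((N : ℤ) + 1)))) ((DCoh.sheafHom C).obj (Coh.structureModule X))), ∀ x : Coh.HH X F (N - r),
          ψ x = t (Sheaf.H.map ((SheafOfModules.toSheaf X.ringCatSheaf).map φ) (N - r) x) := by
  haveI : IsProper (CohB1.ProjSpace.toSpec N k) := Groth.Agent.InvPow.isProper_toSpec N k
  haveI : IsLocallyNoetherian (CohB1.ProjSpace N k) :=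
    LocallyOfFiniteType.isLocallyNoetherian (CohB1.ProjSpace.toSpec N k)
  have hωP := Groth.Agent.CohDual.isInvertible_twistProjSpace (A := k) (n := N) (-((N : ℤ) + 1))
  have hclos : ∀ z : X, topologicalKrullDim (closure ({ι.base z} : Set (CohB1.ProjSpace N k))) =
      topologicalKrullDim (closure ({z} : Set X)) := fun z => by
    rw [← Set.image_singleton, ι.isClosedEmbedding.closure_image_eq,
      Groth.Agent.FibreDim.dim_image ι.isClosedEmbedding.isEmbedding]
  have hreg : RegImm.IsRegularImmersionOfCodim RegImm.Kind.regular r ι := by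
    refine Groth.Agent.FundLocal.isRegularImmersionOfCodim_of_height ι r
      (fun y => (Groth.Agent.NegVanish.stalk_regular (n := N) (k := k) y).1) (fun z => ?_) hgen
    refine Groth.Agent.CohDual.DimFormula.natCast_le_ringKrullDim (CohB1.ProjSpace.toSpec N k) N
      (Groth.Agent.CohDual.CodimApps.dim_closure_maximal_proj N) _ r ?_
    obtain ⟨η, hηz, hη⟩ := Groth.Agent.GrpdDim.exists_maximal z
    have h1 : topologicalKrullDim (closure ({z} : Set X)) ≤ ((N - r : ℕ) : WithBot ℕ∞) := by
      rw [← heq _ ((Groth.Agent.GrpdDim.maximal_iff η).1 hη)]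
      exact Groth.Agent.FibreDim.dim_mono (closure_minimal (Set.singleton_subset_iff.2 hηz.mem_closure) isClosed_closure)
    rw [hclos]
    refine (add_le_add h1 le_rfl).trans ?_
    rw [← Nat.cast_add, Nat.sub_add_cancel hr]
  haveI : ModSite.HasSheafHom (O := X.sheaf) C := Groth.Agent.ModGroth.hasSheafHom (O := X.sheaf) C
  haveI : ModSite.HasSheafHom (O := (CohB1.ProjSpace N k).sheaf) ((Scheme.Modules.pushforward ι).obj (Coh.structureModule X)) :=
    Groth.Agent.ModGroth.hasSheafHom (O := (CohB1.ProjSpace N k).sheaf) _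
  haveI : IsGrothendieckAbelian.{u} (ModSite.Mod (CohB1.ProjSpace N k).sheaf) :=
    Groth.Agent.ModGroth.sheaf_isGrothendieckAbelian (ModSite.ringSh (CohB1.ProjSpace N k).sheaf)
  haveI : HasInjectiveResolutions (ModSite.Mod (CohB1.ProjSpace N k).sheaf) := inferInstance
  obtain ⟨eExt⟩ := Groth.Agent.S11905.result (CohB1.ProjSpace N k) X ι r hreg
    (Twist.twistProjSpace N k (-((N : ℤ) + 1))) (Groth.Agent.InvBasic.isQuasicoherent_of_isInvertible hωP) C hC
  obtain ⟨eHom⟩ := Groth.Agent.FundLocal.nonempty_sheafHom_iso_tensor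
    (Groth.Agent.FundLocal.isInvertible_extPow ι r hC hreg)
    ((Scheme.Modules.pullback ι).obj (Twist.twistProjSpace N k (-((N : ℤ) + 1))))
  refine Groth.Agent.S11903.result k N (N - r) (Nat.sub_le N r) X ι hι heq _ ⟨?_⟩
  rw [show N - (N - r) = r by omega]
  exact (Scheme.Modules.pushforward ι).mapIso eHom ≪≫ eExt.symm

end Groth.Agent.S11325
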