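import Groth.Statements.S11329
import Groth.Agent.PuncturedU.Tilde
-- import your own Groth.Agent.* helpers here

set_option autoImplicit false
universe u
open CategoryTheory AlgebraicGeometry Opposite
open Coherent

namespace Groth.Agent.S11329

/-- Let A be a Noetherian ring and I an injective A-module. Then the quasi-coherent sheaf I~ on Spec A
associated with I is flasque: for all opens U ⊆ V of Spec A the restriction map I~(V) → I~(U) is
surjective. -/
theorem result (A : Type u) [CommRing A] [IsNoetherianRing A]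
    (I : Type u) [AddCommGroup I] [Module A I] [Module.Injective A I]
    (U V : (Spec (CommRingCat.of A)).Opens) (hUV : U ≤ V) :
    Function.Surjective ((tilde (ModuleCat.of A I)).val.map (homOfLE hUV).op).hom := by
    classical
    obtain ⟨a, rfl⟩ : ∃ a : Ideal A, LocCoh.puncturedOpen A a = U := by
      refine ⟨PrimeSpectrum.vanishingIdeal ((U : Set (Spec (CommRingCat.of A)))ᶜ), TopologicalSpace.Opens.ext ?_⟩
      show (PrimeSpectrum.zeroLocus _)ᶜ = _
      rw [PrimeSpectrum.zeroLocus_vanishingIdeal_eq_closure]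
      exact (congrArg compl U.2.isClosed_compl.closure_eq).trans (compl_compl _)
    suffices h : ∀ s : PuncturedU.sec (ModuleCat.of A I) (LocCoh.puncturedOpen A a), ∃ x : I, (tilde.toOpen (R := CommRingCat.of A) (ModuleCat.of A I) (LocCoh.puncturedOpen A a)).hom x = s by
      intro s
      obtain ⟨x, hx⟩ := h s
      refine ⟨(tilde.toOpen (R := CommRingCat.of A) (ModuleCat.of A I) V).hom x, ?_⟩
      rw [← hx, ← PuncturedU.toOpen_rs (ModuleCat.of A I) hUV x]
      rfl
    intro s
    let ε : I →ₗ[A] PuncturedU.sec (ModuleCat.of A I) (LocCoh.puncturedOpen A a) :=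
      (tilde.toOpen (R := CommRingCat.of A) (ModuleCat.of A I) (LocCoh.puncturedOpen A a)).hom
    obtain ⟨n, hn⟩ := PuncturedU.exists_pow_smul_mem_range (ModuleCat.of A I) a s
    obtain ⟨m, r, hr⟩ := Submodule.fg_iff_exists_fin_generating_family.mp (IsNoetherian.noetherian (a ^ n))
    have hrm : ∀ i, r i ∈ a ^ n := fun i => hr.le (Submodule.subset_span ⟨i, rfl⟩)
    choose y hy using fun i => hn (r i) (hrm i)
    let π : (Fin m → A) →ₗ[A] A := Fintype.linearCombination A r
    let ψ : (Fin m → A) →ₗ[A] I := Fintype.linearCombination A y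
    have hεψ : ∀ c, ε (ψ c) = π c • s := fun c => by
      simp only [π, ψ, Fintype.linearCombination_apply, map_sum, map_smul, Finset.sum_smul, smul_assoc]
      exact Finset.sum_congr rfl fun i _ => congrArg (c i • ·) (hy i)
    have htor : ∀ x : I, ε x = 0 → ∃ k : ℕ, ∀ t ∈ a ^ k, t • x = 0 := fun x hx => by
      refine PuncturedU.exists_ideal_pow a x fun g hg => PuncturedU.exists_kill (ModuleCat.of A I) g x ?_
      rw [← PuncturedU.toOpen_rs (ModuleCat.of A I) (PuncturedU.bas_le_punctured a hg) x]
      exact (congrArg _ hx).trans (map_zero _)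
    let T : ℕ →o Submodule A (Fin m → A) :=
      ⟨fun k => (Submodule.torsionBySet A I (a ^ k : Ideal A)).comap ψ, fun p q hpq =>
        Submodule.comap_mono (Submodule.torsionBySet_le_torsionBySet_of_subset (Ideal.pow_le_pow_right hpq))⟩
    obtain ⟨N, hN⟩ := monotone_stabilizes_iff_noetherian.mpr inferInstance T
    have hK : ∀ c ∈ LinearMap.ker π, ∀ t ∈ a ^ N, t • ψ c = 0 := fun c hc t ht => by
      obtain ⟨k, hk⟩ := htor (ψ c) (by rw [hεψ, LinearMap.mem_ker.mp hc, zero_smul])
      have h1 : c ∈ T (max N k) := T.monotone (le_max_right N k)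
        ((Submodule.mem_torsionBySet_iff _ _).2 fun t => hk t t.2)
      rw [← hN _ (le_max_left N k)] at h1
      exact (Submodule.mem_torsionBySet_iff _ _).1 h1 ⟨t, ht⟩
    obtain ⟨k, hk⟩ := Ideal.exists_pow_inf_eq_pow_smul a (LinearMap.ker π)
    let D : Submodule A (Fin m → A) := a ^ (N + k) • ⊤
    have hDK : ∀ c ∈ D, π c = 0 → ψ c = 0 := fun c hc hc0 => by
      have h1 : c ∈ a ^ (N + k) • (⊤ : Submodule A (Fin m → A)) ⊓ LinearMap.ker π := ⟨hc, hc0⟩
      rw [hk (N + k) (Nat.le_add_left k N), Nat.add_sub_cancel] at h1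
      refine Submodule.smul_induction_on (p := fun z => ψ z = 0) h1 (fun t ht z hz => ?_) fun z w hz hw => ?_
      · rw [map_smul]
        exact hK z hz.2 t ht
      · rw [map_add, hz, hw, add_zero]
    let q := π.comp D.subtype
    let f := (LinearMap.ker q).liftQ q le_rfl
    let g := (LinearMap.ker q).liftQ (ψ.comp D.subtype) fun c hc => hDK c.1 c.2 hc
    have hf : Function.Injective f := LinearMap.ker_eq_bot.mp (Submodule.ker_liftQ_eq_bot _ _ _ le_rfl)
    obtain ⟨h, hh⟩ := Module.Injective.out f hf g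
    refine ⟨h 1, sub_eq_zero.mp (PuncturedU.eq_zero_of_torsion (ModuleCat.of A I) a _ ⟨N + k + n, fun t ht => ?_⟩)⟩
    have key : ∀ c ∈ D, π c • (ε (h 1) - s) = 0 := fun c hc => by
      have h2 : h (π c) = ψ c := hh (Submodule.Quotient.mk ⟨c, hc⟩)
      rw [smul_sub, ← hεψ, ← map_smul, ← map_smul, smul_eq_mul, mul_one, h2, sub_self]
    rw [pow_add] at ht
    refine Submodule.mul_induction_on ht (fun t₁ ht₁ t₂ ht₂ => ?_) fun z w hz hw => ?_
    · rw [← hr] at ht₂
      obtain ⟨c, hc⟩ := (Submodule.mem_span_range_iff_exists_fun A).mp ht₂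
      have h3 := key (t₁ • c) (Submodule.smul_mem_smul ht₁ trivial)
      rw [map_smul] at h3
      have hc' : π c = t₂ := (Fintype.linearCombination_apply A r c).trans hc
      rw [hc'] at h3
      exact h3
    · show (z + w) • (ε (h 1) - s) = 0
      rw [add_smul]
      exact (congrArg₂ (· + ·) hz hw).trans (add_zero _)

end Groth.Agent.S11329
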