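import Groth.Statements.S1536
import Groth.Agent.TrivSec.Global

set_option autoImplicit false
universe u
open CategoryTheory CategoryTheory.Limits AlgebraicGeometry
open Variety

namespace Groth.Agent.S1536

/-- `H⁰` of a module is its group of global sections. -/
noncomputable def h0Equiv {X : Scheme.{u}} (M : X.Modules) :
    Coh.HH X M 0 ≃+ (Coh.toAb M).obj.obj (Opposite.op ⊤) :=
  Sheaf.H.equiv₀ (Coh.toAb M) (T := (⊤ : X.Opens)) isTerminalTop

theorem h0Equiv_smul {X : Scheme.{u}} (M : X.Modules) (r : Coh.Γtop X) (x : Coh.HH X M 0) :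
    h0Equiv M (r • x) = (Coh.smulAb M r).hom.app (Opposite.op ⊤) (h0Equiv M x) :=
  (Sheaf.H.equiv₀_naturality isTerminalTop (Coh.smulAb M r) x).symm

/-- For a proper scheme X over a field k which is geometrically reduced and geometrically connected,
H^0(X, O_X) is one-dimensional over k, i.e. the global functions are the constants. -/
theorem result (k : Type u) [Field k] (X : Scheme.{u}) [X.Over (Spec (CommRingCat.of k))] [IsProper (X ↘ (Spec (CommRingCat.of k)))]
    [GeometricallyReduced (X ↘ (Spec (CommRingCat.of k)))] [GeometricallyConnected (X ↘ (Spec (CommRingCat.of k)))] :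
    Module.finrank k (Coh.HH X (Coh.structureModule X) 0) = 1 := by
  let f := X ↘ Spec (CommRingCat.of k)
  have hb := Groth.Agent.TrivSec.bijective_appTop f
  have htg : Function.Bijective (Coh.toGlobal f) :=
    hb.comp ((Scheme.ΓSpecIso (CommRingCat.of k)).symm.commRingCatIsoToRingEquiv.bijective)
  let e := h0Equiv (Coh.structureModule X)
  let σ : k →ₗ[k] Coh.HH X (Coh.structureModule X) 0 :=
    LinearMap.toSpanSingleton k _ (e.symm (1 : Γ(X, ⊤)))
  have hσ : ∀ c : k, e (σ c) = Coh.toGlobal f c := fun c => by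
    show e (Coh.toGlobal f c • e.symm (1 : Γ(X, ⊤))) = _
    rw [h0Equiv_smul]
    erw [e.apply_symm_apply]
    show (X.presheaf.map (homOfLE (le_refl (⊤ : X.Opens))).op).hom (Coh.toGlobal f c) * (1 : Γ(X, ⊤)) =
      (Coh.toGlobal f c : Γ(X, ⊤))
    rw [_root_.mul_one, Subsingleton.elim (homOfLE (le_refl (⊤ : X.Opens))) (𝟙 _), op_id, CategoryTheory.Functor.map_id]
    rfl
  have : Function.Bijective σ :=
    (Function.Bijective.of_comp_iff' e.bijective σ).mp (by rw [show (e ∘ σ) = Coh.toGlobal f from funext hσ]; exact htg)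
  rw [← (LinearEquiv.ofBijective σ this).finrank_eq, Module.finrank_self]

end Groth.Agent.S1536
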