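import Groth.Statements.S11341
-- import your own Groth.Agent.* helpers here
import Groth.Agent.SurfRR.Curve

set_option autoImplicit false
universe u
open CategoryTheory CategoryTheory.Limits AlgebraicGeometry
open Surf

namespace Groth.Agent.S11341

/-- Let X be a surface over an algebraically closed field k (an integral scheme of dimension two with
all local rings regular, admitting a closed immersion into some P^n_k over k), let W be the
canonical sheaf of X (a second exterior power of the sheaf of differentials Ω_{X/k}), and let C be a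
nonsingular curve of genus g on X: an integral closed subscheme of dimension one with all local
rings regular, with ideal sheaf I ⊆ O_X, g = dim_k H^1(C, O_C). Then 2g - 2 = C.(C + K). Writing
(L·M) for the intersection number χ(O_X) - χ(L) - χ(M) + χ(L ⊗ M) of two invertible modules
(packaged as FGA.intNum), C.C = (I·I) and C.K = -(I·W), so the formula reads 2g - 2 = (I·I) - (I·W). -/
theorem result (k : Type u) [Field k] [IsAlgClosed k] (X : Scheme.{u}) [X.Over (Spec (CommRingCat.of k))]
    [IsIntegral X] (hdim : topologicalKrullDim X = 2) (hreg : ∀ x : X, IsRegularLocalRing (X.presheaf.stalk x))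
    (hproj : ∃ (n : ℕ) (ι : X ⟶ CohB1.ProjSpace n k), IsClosedImmersion ι ∧ ι ≫ CohB1.ProjSpace.toSpec n k = (X ↘ (Spec (CommRingCat.of k))))
    (W : X.Modules) (hW : ExtPow.IsExtPow 2 (Omega.sheaf (X ↘ (Spec (CommRingCat.of k)))) W)
    (C : Scheme.{u}) (i : C ⟶ X) [IsClosedImmersion i] [IsIntegral C] (hC : topologicalKrullDim C = 1)
    (hCreg : ∀ c : C, IsRegularLocalRing (C.presheaf.stalk c)) :
    letI : C.Over (Spec (CommRingCat.of k)) := ⟨i ≫ (X ↘ (Spec (CommRingCat.of k)))⟩
    2 * (Curv2.genus k C : ℤ) - 2 =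
      FGA.intNum k X 2 ![ClSub.idealMod i.ker, ClSub.idealMod i.ker] (Coh.structureModule X) - FGA.intNum k X 2 ![ClSub.idealMod i.ker, W] (Coh.structureModule X) := by
  haveI := SurfRR.isProper_of_proj hproj
  letI : C.Over (Spec (CommRingCat.of k)) := ⟨i ≫ (X ↘ (Spec (CommRingCat.of k)))⟩
  obtain ⟨hWi, hdual⟩ := SurfRR.canonical_spec hdim hreg hproj W hW
  haveI := SurfRR.smooth_two (k := k) hdim hreg
  haveI : Smooth (X ↘ Spec (CommRingCat.of k)) := SmoothOfRelativeDimension.smooth 2 _
  haveI : IsLocallyNoetherian X := LocallyOfFiniteType.isLocallyNoetherian (X ↘ Spec (CommRingCat.of k))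
  haveI : IsLocallyNoetherian C := LocallyOfFiniteType.isLocallyNoetherian i
  haveI : Smooth (i ≫ (X ↘ Spec (CommRingCat.of k))) := Scheme.Hom.smoothLocus_eq_top_iff.1 (top_le_iff.1 fun x _ =>
    (SmoothDense.mem_smoothLocus_iff_regular (i ≫ (X ↘ Spec (CommRingCat.of k))) x).2 (hCreg x))
  haveI := AdjForm.smoothOfRelativeDimension_of_irreducible (i ≫ (X ↘ Spec (CommRingCat.of k))) 1 hC
  have hI : PicF.IsInvertible (ClSub.idealMod i.ker) := SurfRR.isInvertible_idealMod i
    (AdjForm.isRegularImmersionOfCodim_sub (X ↘ Spec (CommRingCat.of k)) _ i rfl 2 1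
      (AdjForm.isRegularImmersion_regular (X ↘ Spec (CommRingCat.of k)) _ i rfl))
  have hrr := SurfRR.riemann_roch k hdim.le hWi hdual hI
  have hsub := SurfRR.euler_sub k i hI
  haveI : IsProper (C ↘ Spec (CommRingCat.of k)) := inferInstanceAs (IsProper (i ≫ (X ↘ Spec (CommRingCat.of k))))
  have hO : Coh.IsCoh (Coh.structureModule C) := InvPow.isCoh_of_isInvertible (HilbPoly.isInvertible_structureModule C)
  have hC' : topologicalKrullDim C ≤ ((1 : ℕ) : WithBot ℕ∞) := hC.le
  have h2 := SurfRR.euler_eq k (X := C) (hC'.trans (by norm_num)) hO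
  have hv : Subsingleton (Coh.HH C (Coh.structureModule C) 2) :=
    HilbPoly.subsingleton_HH_of_dim k hO (d := 1) ((topologicalKrullDim_subspace_le C _).trans hC') (by norm_num)
  rw [Module.finrank_zero_of_subsingleton (M := Coh.HH C (Coh.structureModule C) 2), SurfRR.finrank_h0 k (X := C)] at h2
  have hg : (Curv2.genus k C : ℤ) = Module.finrank k (Coh.HH C (Coh.structureModule C) 1) := rfl
  push_cast at h2
  rw [hg]
  linarith

end Groth.Agent.S11341
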