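import Groth.Statements.S11343
-- import your own Groth.Agent.* helpers here
import Groth.Agent.SurfRR.Effective
import Groth.Agent.SurfRR.Setup
import Groth.Agent.CohDual.SmoothEquidim

set_option autoImplicit false
universe u
open CategoryTheory CategoryTheory.Limits AlgebraicGeometry
open Surf

namespace Groth.Agent.S11343

/-- Let X be a surface over an algebraically closed field k (an integral scheme of dimension two with
all local rings regular, admitting a closed immersion into some P^n_k over k), and H an ample
invertible O_X-module. Some integer n₀ has the property that H^2(X, L) = 0 for every invertible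
module L with (L·H) > n₀; here (L·H) = χ(O_X) - χ(L) - χ(H) + χ(L ⊗ H) is the intersection number
(packaged as FGA.intNum). -/
theorem result (k : Type u) [Field k] [IsAlgClosed k] (X : Scheme.{u}) [X.Over (Spec (CommRingCat.of k))]
    [IsIntegral X] (hdim : topologicalKrullDim X = 2) (hreg : ∀ x : X, IsRegularLocalRing (X.presheaf.stalk x))
    (hproj : ∃ (n : ℕ) (ι : X ⟶ CohB1.ProjSpace n k), IsClosedImmersion ι ∧ ι ≫ CohB1.ProjSpace.toSpec n k = (X ↘ (Spec (CommRingCat.of k))))
    (H : X.Modules) (hH : CohB1.IsAmple H) :
    ∃ n₀ : ℤ, ∀ L : X.Modules, PicF.IsInvertible L → n₀ < FGA.intNum k X 2 ![L, H] (Coh.structureModule X) → Subsingleton (Coh.HH X L 2) := by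
  haveI := SurfRR.isProper_of_proj hproj
  obtain ⟨W, hW, hdual⟩ := SurfRR.exists_canonical hdim hreg hproj
  refine ⟨IntTh.inum k [W, H] (Coh.structureModule X), fun L hL h => ?_⟩
  rw [SurfRR.intNum_pair k hdim.le hL hH.1] at h
  exact SurfRR.subsingleton_h2 k hdim.le hW hdual hL hH h

end Groth.Agent.S11343
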