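import Groth.Statements.S11368
-- import your own Groth.Agent.* helpers here
import Groth.Agent.IntTh.Criteria
import Groth.Agent.IntTh.Subvar
import Groth.Agent.SurfRR.NakaiCone

set_option autoImplicit false
universe u
open CategoryTheory CategoryTheory.Limits AlgebraicGeometry TopologicalSpace
open Variety

namespace Groth.Agent.S11368

/-- For X proper over an algebraically closed field k and L an invertible O_X-module, L is ample on X if
and only if for every irreducible component X_i of X, with its reduced closed subscheme structure
(the vanishing ideal of the closed set X_i), the pullback of L to X_i is ample. -/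
theorem result (k : Type u) [Field k] [IsAlgClosed k] (X : Scheme.{u})
    [X.Over (Spec (CommRingCat.of k))] [IsProper (X ↘ (Spec (CommRingCat.of k)))]
    (L : X.Modules) (hL : PicF.IsInvertible L) :
    CohB1.IsAmple L ↔
      ∀ Z : Closeds X, (Z : Set X) ∈ irreducibleComponents X →
        CohB1.IsAmple ((Scheme.Modules.pullback
          (Scheme.IdealSheafData.vanishingIdeal Z).subschemeι).obj L) := by
  refine ⟨fun h Z _ => ?_, fun h => IntTh.isAmple_of_inumOn_pos k hL fun W j _ _ d hd hW => ?_⟩
  · exact AmpleDescent.isAmple_pullback_affine h (Scheme.IdealSheafData.vanishingIdeal Z).subschemeι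
  haveI : IsLocallyNoetherian X := LocallyOfFiniteType.isLocallyNoetherian (X ↘ Spec (CommRingCat.of k))
  let Z : Closeds X := ⟨irreducibleComponent (j (genericPoint W)), isClosed_irreducibleComponent⟩
  have hZ : (Z : Set X) ∈ irreducibleComponents X := irreducibleComponent_mem_irreducibleComponents _
  have hsub : Set.range j ⊆ (Z : Set X) := by
    rintro _ ⟨w, rfl⟩
    exact ((genericPoint_specializes w).map j.continuous).mem_closed Z.isClosed' mem_irreducibleComponent
  let J := Scheme.IdealSheafData.vanishingIdeal Z
  have hle : J.subschemeι.ker ≤ j.ker := by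
    rw [Scheme.IdealSheafData.ker_subschemeι,
      HilbPoly.ker_eq_vanishingIdeal j (C := ⟨Set.range j, j.isClosedEmbedding.isClosed_range⟩) rfl]
    exact Scheme.IdealSheafData.vanishingIdeal_antimono hsub
  let i := IsClosedImmersion.lift J.subschemeι j hle
  have hi : i ≫ J.subschemeι = j := IsClosedImmersion.lift_fac _ _ _
  haveI : IsClosedImmersion (i ≫ J.subschemeι) := by rw [hi]; infer_instance
  haveI : IsClosedImmersion i := IsClosedImmersion.of_comp i J.subschemeι
  letI : J.subscheme.Over (Spec (CommRingCat.of k)) := ⟨J.subschemeι ≫ (X ↘ Spec (CommRingCat.of k))⟩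
  haveI : IsProper (J.subscheme ↘ Spec (CommRingCat.of k)) :=
    inferInstanceAs (IsProper (J.subschemeι ≫ (X ↘ Spec (CommRingCat.of k))))
  have := IntTh.inumOn_pos_of_isAmple k (h Z hZ) i (d := d) hW
  have e := IntTh.inumOn_comp k i J.subschemeι rfl (List.replicate d L)
  rw [List.map_replicate] at e
  have e2 : IntTh.inumOn k (i ≫ J.subschemeι) (List.replicate d L) = IntTh.inumOn k j (List.replicate d L) := by
    simp only [hi]
  rw [← e2, e]
  exact this

end Groth.Agent.S11368
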