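import Groth.Statements.S11369
import Groth.Agent.IntTh.Criteria

set_option autoImplicit false
set_option backward.isDefEq.respectTransparency false
universe u
open CategoryTheory CategoryTheory.Limits AlgebraicGeometry TopologicalSpace
open Variety

namespace Groth.Agent.S11369

/-- Let X be proper over an algebraically closed field k and L an invertible O_X-module generated by its
global sections. If for every integral closed subscheme C of X of dimension one the pullback of L to
C is ample, then L is ample. -/
theorem result (k : Type u) [Field k] [IsAlgClosed k] (X : Scheme.{u})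
    [X.Over (Spec (CommRingCat.of k))] [IsProper (X ↘ (Spec (CommRingCat.of k)))]
    (L : X.Modules) (hL : PicF.IsInvertible L) (hgen : Curv2.IsGloballyGenerated L)
    (hcurves : ∀ C : X.IdealSheafData, IsIntegral C.subscheme →
      topologicalKrullDim (C.support : Set X) = 1 →
        CohB1.IsAmple ((Scheme.Modules.pullback C.subschemeι).obj L)) :
    CohB1.IsAmple L := by
  refine IntTh.isAmple_of_strictNef_of_semiample k hL ?_ one_pos ?_
  · intro W j _ _ hW
    obtain ⟨C, h1, h2, h3⟩ := IntTh.exists_ideal_of_curve k hL j hW
    rw [h3, IntTh.euler_quotMod_eq_inumOn k hL C]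
    letI : C.subscheme.Over (Spec (CommRingCat.of k)) := ⟨C.subschemeι ≫ (X ↘ Spec (CommRingCat.of k))⟩
    haveI : IsProper (C.subscheme ↘ Spec (CommRingCat.of k)) :=
      inferInstanceAs (IsProper (C.subschemeι ≫ (X ↘ Spec (CommRingCat.of k))))
    unfold IntTh.inumOn
    refine IntTh.inum_pos_of_isAmple k (hcurves C h1 h2) (d := 1) ?_
    rw [CurveDeg.dim_source C.subschemeι, Scheme.IdealSheafData.range_subschemeι, h2]
    rfl
  · obtain ⟨o⟩ := InvPow.nonempty_pow_one_iso hL
    refine InvPow.isGloballyGenerated_of_gen (InvPow.isInvertible_tensorPow hL 1) fun x => ?_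
    obtain ⟨s, hs⟩ := InvPow.exists_gen_of_isGloballyGenerated hL hgen x
    obtain ⟨σ, hσ⟩ := InvPow.exists_gen_pow_one hL s
    exact ⟨σ, hσ.ge hs⟩
end Groth.Agent.S11369
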