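import Groth.Statements.S11371
import Groth.Agent.IntTh.Criteria

set_option autoImplicit false
set_option backward.isDefEq.respectTransparency false
universe u
open CategoryTheory CategoryTheory.Limits AlgebraicGeometry TopologicalSpace
open Variety

namespace Groth.Agent.S11371

/-- Let X be proper over an algebraically closed field k and L, L' invertible O_X-modules that are
numerically equivalent: (L · C) = (L' · C), i.e. χ(O_C ⊗ L) = χ(O_C ⊗ L'), for every integral closed
subscheme C ⊆ X of dimension one. If L is ample then L' is ample. (The published statement is
phrased for Cartier divisors; it depends on them only through the associated invertible modules, and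
the printed reduction to integral X covers every invertible module.) -/
theorem result (k : Type u) [Field k] [IsAlgClosed k] (X : Scheme.{u})
    [X.Over (Spec (CommRingCat.of k))] [IsProper (X ↘ (Spec (CommRingCat.of k)))]
    (L L' : X.Modules) (hL : PicF.IsInvertible L) (hL' : PicF.IsInvertible L')
    (hnum : ∀ C : X.IdealSheafData, IsIntegral C.subscheme →
      topologicalKrullDim (C.support : Set X) = 1 →
        Curv2.euler k X (CohB1.tensorMod (ClSub.quotMod C) L) =
          Curv2.euler k X (CohB1.tensorMod (ClSub.quotMod C) L'))
    (hamp : CohB1.IsAmple L) : CohB1.IsAmple L' := by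
  refine IntTh.isAmple_of_numEq k hamp hL' fun W j _ _ hW => ?_
  let Z : TopologicalSpace.Closeds X := ⟨Set.range j, j.isClosedEmbedding.isClosed_range⟩
  have hirr : IsIrreducible (Z : Set X) := by
    show IsIrreducible (Set.range j)
    rw [← Set.image_univ]
    exact (IrreducibleSpace.isIrreducible_univ W).image _ j.continuous.continuousOn
  have h5 := hnum (Scheme.IdealSheafData.vanishingIdeal Z) (CohFinite.isIntegral_vanishingIdeal Z.isClosed hirr)
    (by show topologicalKrullDim (Set.range j) = 1; rw [← CurveDeg.dim_source j, hW])
  obtain ⟨e⟩ := HilbPoly.nonempty_push_structureModule_iso j (C := Z) rfl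
  have key : ∀ (M : X.Modules), PicF.IsInvertible M → IntTh.inumOn k j [M] =
      Curv2.euler k X (CohB1.tensorMod (ClSub.quotMod (Scheme.IdealSheafData.vanishingIdeal Z)) M) -
        Curv2.euler k X (ClSub.quotMod (Scheme.IdealSheafData.vanishingIdeal Z)) := fun M hM => by
    have h := IntTh.inum_push k j (l := [M]) (IntTh.Inv.cons hM fun _ h => absurd h List.not_mem_nil) _
      (InvBasic.isQuasicoherent_structureModule W)
    rw [IntTh.inum_congr k [M] e] at h
    exact h.symm
  rw [key L hL, key L' hL', h5]
end Groth.Agent.S11371
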