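import Groth.Statements.S11411
import Mathlib

set_option autoImplicit false
universe u
open CategoryTheory MonoidalCategory CartesianMonoidalCategory MonObj GrpObj AlgebraicGeometry CategoryTheory.Limits
open AlgGrp

namespace Groth.Agent.S11411

section aux

lemma exists_factor {Y A : Scheme.{u}} [IsAffine A] (φ : Y ⟶ A) :
    ∃ m, φ = Y.toSpecΓ ≫ m :=
  ⟨Spec.map φ.appTop ≫ A.isoSpec.inv, by
    rw [← Category.assoc, ← Scheme.toSpecΓ_naturality, ← Scheme.isoSpec_hom, Category.assoc,
      Iso.hom_inv_id, Category.comp_id]⟩

end aux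

/-- Over an algebraically closed field k, let G be an algebraic group (a smooth k-group scheme of finite
type) and N the kernel of the canonical morphism ρ : G → Spec O(G), i.e. the fibre of ρ over the
image of the unit. Then N is the smallest normal subgroup scheme of G with affine quotient: for
every closed normal subgroup scheme H of G with a flat surjective homomorphism G → Q of k-group
schemes of finite type with kernel H and Q affine, the inclusion of N factors through H. And N is
the largest anti-affine subgroup scheme: every homomorphism and closed immersion into G from a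
k-group scheme whose only global functions are the constants factors through N. (The published
statement also asserts O(N) = k, that N is a connected algebraic group central in G⁰, and O(G/N) =
O(G) finitely generated; those parts are not restated here.) -/
theorem result (k : Type u) [Field k] [IsAlgClosed k]
    (G : Over (Spec (CommRingCat.of k))) [GrpObj G] [Smooth G.hom] [QuasiCompact G.hom] :
    (∀ (H Q : Over (Spec (CommRingCat.of k))) [GrpObj H] [GrpObj Q] (h : H ⟶ G) [IsMonHom h] [IsClosedImmersion h.left]
        [LocallyOfFiniteType Q.hom] [QuasiCompact Q.hom] (q : G ⟶ Q) [IsMonHom q] [Surjective q.left] [Flat q.left],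
        AlgGrp.IsKernel h q → IsAffine Q.left →
        ∃ f : pullback G.left.toSpecΓ (η[G].left ≫ G.left.toSpecΓ) ⟶ H.left, f ≫ h.left = pullback.fst G.left.toSpecΓ (η[G].left ≫ G.left.toSpecΓ)) ∧
    (∀ (M : Over (Spec (CommRingCat.of k))) [GrpObj M] (j : M ⟶ G) [IsMonHom j] [IsClosedImmersion j.left],
        Function.Bijective ((Scheme.ΓSpecIso (CommRingCat.of k)).inv ≫ M.hom.appTop).hom →
        ∃ f : M.left ⟶ pullback G.left.toSpecΓ (η[G].left ≫ G.left.toSpecΓ), f ≫ pullback.fst G.left.toSpecΓ (η[G].left ≫ G.left.toSpecΓ) = j.left) := by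
  have h1 : η[G].left ≫ G.hom = 𝟙 _ := Over.w η[G]
  obtain ⟨mG, hmG⟩ := exists_factor G.hom
  set e := η[G].left ≫ G.left.toSpecΓ with he
  have hsnd : pullback.fst G.left.toSpecΓ e ≫ G.hom = pullback.snd G.left.toSpecΓ e := by
    calc pullback.fst G.left.toSpecΓ e ≫ G.hom
        = (pullback.fst G.left.toSpecΓ e ≫ G.left.toSpecΓ) ≫ mG := by rw [Category.assoc, ← hmG]
      _ = pullback.snd G.left.toSpecΓ e ≫ η[G].left ≫ G.left.toSpecΓ ≫ mG := by
        rw [pullback.condition, he]; simp only [Category.assoc]
      _ = pullback.snd G.left.toSpecΓ e := by rw [← hmG, h1]; exact Category.comp_id _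
  constructor
  · intro H Q _ _ h _ _ _ _ q _ _ _ hker hQ
    obtain ⟨m, hm⟩ := exists_factor q.left
    let P : Over (Spec (CommRingCat.of k)) := Over.mk (pullback.fst G.left.toSpecΓ e ≫ G.hom)
    let i : P ⟶ G := Over.homMk (pullback.fst G.left.toSpecΓ e) rfl
    have hi : i ≫ q = toUnit P ≫ η[Q] := by
      ext1
      have h2 : η[G].left ≫ q.left = η[Q].left := congrArg CommaMorphism.left (IsMonHom.one_hom q)
      show pullback.fst G.left.toSpecΓ e ≫ q.left =
        (pullback.fst G.left.toSpecΓ e ≫ G.hom) ≫ η[Q].left
      rw [hsnd, ← h2, hm, pullback.condition_assoc, he, Category.assoc]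
    refine ⟨(hker.lift i (toUnit P) hi).left, ?_⟩
    exact congrArg CommaMorphism.left (hker.lift_fst i (toUnit P) hi)
  · intro M _ j _ _ hM
    have hMi : IsIso M.hom.appTop := by
      have : IsIso ((Scheme.ΓSpecIso (CommRingCat.of k)).inv ≫ M.hom.appTop) :=
        (ConcreteCategory.isIso_iff_bijective _).2 hM
      exact IsIso.of_isIso_comp_left (Scheme.ΓSpecIso (CommRingCat.of k)).inv _
    have hc : M.left.toSpecΓ =
        M.hom ≫ (Spec (CommRingCat.of k)).toSpecΓ ≫ inv (Spec.map M.hom.appTop) := by
      rw [Scheme.toSpecΓ_naturality_assoc, IsIso.hom_inv_id, Category.comp_id]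
    have hηM : η[M].left ≫ M.hom = 𝟙 _ := Over.w η[M]
    have hj : η[M].left ≫ j.left = η[G].left := congrArg CommaMorphism.left (IsMonHom.one_hom j)
    have key : j.left ≫ G.left.toSpecΓ = M.hom ≫ e := by
      set d := (Spec (CommRingCat.of k)).toSpecΓ ≫ inv (Spec.map M.hom.appTop) ≫ Spec.map j.left.appTop
      have h3 : j.left ≫ G.left.toSpecΓ = M.hom ≫ d := by
        rw [Scheme.toSpecΓ_naturality, hc]; simp [d]
      have hd : d = e := by
        have h4 := congrArg (η[M].left ≫ ·) h3
        simp only [reassoc_of% hηM, reassoc_of% hj] at h4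
        exact ((Category.id_comp d).symm.trans h4.symm).trans he.symm
      rw [h3, hd]
    exact ⟨pullback.lift j.left M.hom key, pullback.lift_fst ..⟩

end Groth.Agent.S11411
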