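import Groth.Statements.S11418
import Mathlib

set_option autoImplicit false
universe u
open CategoryTheory MonoidalCategory CartesianMonoidalCategory MonObj GrpObj AlgebraicGeometry CategoryTheory.Limits
open AlgGrp

namespace Groth.Agent.S11418

section aux

variable {C : Type*} [Category C] [CartesianMonoidalCategory C]

lemma free_of_cartesian {G X Y S : C} {act : G ⊗ X ⟶ X} {π : X ⟶ Y}
    (hcart : IsPullback (snd G X) act π π) {h h' : S ⟶ G} {p : S ⟶ X}
    (e : lift h p ≫ act = lift h' p ≫ act) : h = h' := by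
  have : lift h p = lift h' p := hcart.hom_ext (by simp) e
  simpa using congrArg (· ≫ fst G X) this

end aux

/-- Over an algebraically closed field k, let G be an affine algebraic group (smooth affine k-group
scheme of finite type) and π : X → Y a principal G-bundle of k-schemes of finite type: G acts on X,
π is G-invariant, faithfully flat, and the square formed by the action, the second projection G × X
→ X and π is cartesian. Then the map θ sending a G-equivariant morphism f : X → G (for the
conjugation action on G, i.e. f(g·x) = g f(x) g⁻¹ on points) to the automorphism x ↦ f(x)·x is a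
bijection onto the bundle automorphisms: every G-equivariant automorphism φ of X with π ∘ φ = π
equals θ(f) for exactly one such f. -/
theorem result (k : Type u) [Field k] [IsAlgClosed k]
    (G X Y : Over (Spec (CommRingCat.of k))) [GrpObj G] [Smooth G.hom] [QuasiCompact G.hom] [IsAffine G.left]
    [LocallyOfFiniteType X.hom] [QuasiCompact X.hom] [LocallyOfFiniteType Y.hom] [QuasiCompact Y.hom]
    (a : AlgGrp.Action G X) (π : X ⟶ Y) (hinv : a.act ≫ π = snd G X ≫ π) [Flat π.left] [Surjective π.left]
    (hcart : IsPullback (snd G X) a.act π π)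
    (φ : X ≅ X) (hφ : φ.hom ≫ π = π) (hφeq : (G ◁ φ.hom) ≫ a.act = a.act ≫ φ.hom) :
    ∃! f : X ⟶ G, (∀ (S : Over (Spec (CommRingCat.of k))) (g : S ⟶ G) (x : S ⟶ X),
        lift g x ≫ a.act ≫ f = g * (x ≫ f) * g⁻¹) ∧ φ.hom = lift f (𝟙 X) ≫ a.act := by
  have hw : 𝟙 X ≫ π = φ.hom ≫ π := by rw [Category.id_comp, hφ]
  set f : X ⟶ G := hcart.lift (𝟙 X) φ.hom hw ≫ fst G X with hf
  have hwf : lift f (𝟙 X) = hcart.lift (𝟙 X) φ.hom hw := by
    ext <;> simp [hf]
  have hθ : φ.hom = lift f (𝟙 X) ≫ a.act := by rw [hwf, hcart.lift_snd]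
  clear_value f
  have act_mul : ∀ {S : Over (Spec (CommRingCat.of k))} (g h : S ⟶ G) (x : S ⟶ X),
      lift (g * h) x ≫ a.act = lift g (lift h x ≫ a.act) ≫ a.act := by
    intro S g h x
    have := congrArg (lift (lift g h) x ≫ ·) a.mul_act
    simpa [MonObj.comp_mul, Hom.mul_def] using this
  refine ⟨f, ⟨fun S g x => ?_, hθ⟩, ?_⟩
  · set p : S ⟶ X := lift g x ≫ a.act with hp
    rw [← Category.assoc, ← hp]
    apply free_of_cartesian hcart (p := p)
    have h1 : lift (p ≫ f) p ≫ a.act = p ≫ φ.hom := by rw [hθ, comp_lift_assoc, Category.comp_id]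
    have h2 : lift (x ≫ f) x ≫ a.act = x ≫ φ.hom := by rw [hθ, comp_lift_assoc, Category.comp_id]
    rw [h1, hp, Category.assoc, ← hφeq, lift_whiskerLeft_assoc, ← h2, ← act_mul, ← act_mul,
      _root_.mul_assoc (g * (x ≫ f)), inv_mul_cancel, _root_.mul_one]
  · rintro f' ⟨-, hf'⟩
    exact free_of_cartesian hcart (p := 𝟙 X) (hf'.symm.trans hθ)

end Groth.Agent.S11418
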