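import Groth.Statements.S11424
import Groth.Agent.FpqcDescent.Affine
-- import your own Groth.Agent.* helpers here

set_option autoImplicit false
universe u
open CategoryTheory MonoidalCategory CartesianMonoidalCategory MonObj GrpObj AlgebraicGeometry CategoryTheory.Limits
open AlgGrp

open Groth.Agent
namespace Groth.Agent.S11424

/-- Over an algebraically closed field k, let G be an algebraic group (a smooth k-group scheme of finite
type), h : H → G a smooth affine closed normal subgroup, and q : G → Q a flat surjective
homomorphism of k-group schemes of finite type with kernel h (so Q = G/H). Then the quotient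
morphism q is affine. (The published statement is the equivalence between affineness of G and of
both H and G/H; this row states that the quotient morphism G → G/H is affine.) -/
theorem result (k : Type u) [Field k] [IsAlgClosed k]
    (G H Q : Over (Spec (CommRingCat.of k))) [GrpObj G] [Smooth G.hom] [QuasiCompact G.hom]
    [GrpObj H] (h : H ⟶ G) [IsMonHom h] [IsClosedImmersion h.left] [Smooth H.hom] [IsAffine H.left]
    [GrpObj Q] [LocallyOfFiniteType Q.hom] [QuasiCompact Q.hom]
    (q : G ⟶ Q) [IsMonHom q] [Surjective q.left] [Flat q.left] (hk : AlgGrp.IsKernel h q) :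
    IsAffineHom q.left := by
  have : Mono h := Over.mono_of_mono_left h
  have hkq : h ≫ q = toUnit H ≫ η[Q] := hk.w
  let act : G ⊗ H ⟶ G := fst G H * (snd G H ≫ h)
  have hact : act ≫ q = fst G H ≫ q := by
    show (fst G H * (snd G H ≫ h)) ≫ q = _
    rw [MonObj.mul_comp, Category.assoc, hkq, ← Category.assoc, comp_toUnit, ← Hom.one_def, _root_.mul_one]
  have sq : IsPullback (fst G H) act q q := by
    refine IsPullback.of_isLimit' ⟨hact.symm⟩ (PullbackCone.IsLimit.mk _
      (fun s => lift s.fst (hk.lift (s.fst⁻¹ * s.snd) (toUnit _) ?_))
      (fun s => lift_fst _ _) (fun s => ?_) (fun s m hm₁ hm₂ => ?_))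
    · rw [MonObj.mul_comp, GrpObj.inv_comp, s.condition, inv_mul_cancel, Hom.one_def]
    · show lift _ _ ≫ (fst G H * (snd G H ≫ h)) = s.snd
      rw [MonObj.comp_mul, lift_fst, lift_snd_assoc, hk.lift_fst, mul_inv_cancel_left]
    · apply CartesianMonoidalCategory.hom_ext
      · rw [lift_fst]; exact hm₁
      · rw [lift_snd, ← cancel_mono h, hk.lift_fst, eq_inv_mul_iff_mul_eq, Category.assoc]
        rw [← hm₂, ← hm₁]
        show _ = m ≫ (fst G H * (snd G H ≫ h))
        rw [MonObj.comp_mul]
  have sql : IsPullback (fst G H).left act.left q.left q.left := sq.map (Over.forget _)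
  have : IsLocallyNoetherian Q.left := LocallyOfFiniteType.isLocallyNoetherian Q.hom
  have hqc : QuasiCompact q.left :=
    MorphismProperty.of_postcomp (W := @QuasiCompact) (W' := @QuasiSeparated) q.left Q.hom inferInstance
      (by rw [Over.w q]; infer_instance)
  have := FpqcDescent.isAffineHom_descendsAlong.{u}
  have : IsAffineHom H.hom := inferInstance
  have haff : IsAffineHom (fst G H).left := by
    rw [Over.fst_left]
    exact MorphismProperty.pullback_fst _ _ ‹IsAffineHom H.hom›
  exact MorphismProperty.of_isPullback_of_descendsAlong (P := @IsAffineHom)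
    (Q := (@Surjective ⊓ @Flat ⊓ @QuasiCompact : MorphismProperty Scheme.{u}))
    sql ⟨⟨inferInstance, inferInstance⟩, hqc⟩ haff

end Groth.Agent.S11424
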