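import Groth.Statements.S11428
import Mathlib
-- import your own Groth.Agent.* helpers here

set_option autoImplicit false
set_option linter.style.haveILetI false
set_option backward.isDefEq.respectTransparency false
universe u
open CategoryTheory MonoidalCategory CartesianMonoidalCategory MonObj GrpObj AlgebraicGeometry Topology
open GIT

namespace Groth.Agent.S11428

/-- If (Y, φ) is a geometric quotient of X by G over S, then Y is separated over S exactly when the
action is separated, i.e. the image of (σ, p₂) : G ×_S X → X ×_S X is closed. -/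
theorem result (S : Scheme.{u}) (G X Y : Over S) [GrpObj G]
    (a : AlgGrp.Action G X) (φ : X ⟶ Y) (h : GIT.IsGeomQuot a φ) :
    IsSeparated Y.hom ↔ IsClosed (Set.range (GIT.psi a (𝟙 X)).left.base) := by
  let φl := φ.left
  have w : φl ≫ Y.hom = X.hom := Over.w φ
  let m : Limits.pullback X.hom X.hom ⟶ Limits.pullback Y.hom Y.hom :=
    Limits.pullback.lift (Limits.pullback.fst _ _ ≫ φl) (Limits.pullback.snd _ _ ≫ φl)
      (by simp only [Category.assoc, w, Limits.pullback.condition])
  let Δ := Limits.pullback.diagonal Y.hom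
  let ψ : (G ⊗ X).left ⟶ Limits.pullback X.hom X.hom := (GIT.psi a (𝟙 X)).left
  let j : Limits.pullback φl φl ⟶ Limits.pullback X.hom X.hom :=
    Limits.pullback.lift (Limits.pullback.fst _ _) (Limits.pullback.snd _ _)
      (by rw [← w, Limits.pullback.condition_assoc])
  have hψ : GIT.PsiY a φ h.inv ≫ j = ψ := by
    apply Limits.pullback.hom_ext
    · simp only [Category.assoc, j, Limits.pullback.lift_fst]
      show GIT.PsiY a φ h.inv ≫ Limits.pullback.fst _ _ = (GIT.psi a (𝟙 X) ≫ fst X X).left
      simp [GIT.psi, GIT.PsiY]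
    · simp only [Category.assoc, j, Limits.pullback.lift_snd]
      show GIT.PsiY a φ h.inv ≫ Limits.pullback.snd _ _ = (GIT.psi a (𝟙 X) ≫ snd X X).left
      simp [GIT.psi, GIT.PsiY]
  have hj : j ≫ m = (Limits.pullback.fst φl φl ≫ φl) ≫ Δ := by
    apply Limits.pullback.hom_ext <;> simp [j, m, Δ, Limits.pullback.condition]
  have key : Set.range ψ = m ⁻¹' Set.range Δ := by
    refine Set.Subset.antisymm ?_ ?_
    · rintro _ ⟨g, rfl⟩
      rw [Set.mem_preimage, ← hψ, Scheme.Hom.comp_apply, ← Scheme.Hom.comp_apply j m, hj, Scheme.Hom.comp_apply]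
      exact ⟨_, rfl⟩
    · rintro z ⟨y, hy⟩
      obtain ⟨v, hv, -⟩ := Scheme.Pullback.exists_preimage_pullback (f := m) (g := Δ) z y hy.symm
      have e : (Limits.pullback.fst m Δ ≫ Limits.pullback.fst _ _) ≫ φl =
          (Limits.pullback.fst m Δ ≫ Limits.pullback.snd _ _) ≫ φl := by
        have h1 := congrArg (· ≫ Limits.pullback.fst _ _) (Limits.pullback.condition (f := m) (g := Δ))
        have h2 := congrArg (· ≫ Limits.pullback.snd _ _) (Limits.pullback.condition (f := m) (g := Δ))
        simp [m, Δ] at h1 h2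
        rw [Category.assoc, Category.assoc, h1, h2]
      have hl : Limits.pullback.lift _ _ e ≫ j = Limits.pullback.fst m Δ := by
        apply Limits.pullback.hom_ext <;> simp [j]
      obtain ⟨g, hg⟩ := h.orbit (Limits.pullback.lift _ _ e v)
      refine ⟨g, ?_⟩
      rw [← hψ, Scheme.Hom.comp_apply, hg, ← Scheme.Hom.comp_apply, hl]
      exact hv
  constructor
  · intro hY
    show IsClosed (Set.range ψ)
    rw [key]
    haveI := hY
    exact (Δ.isClosedEmbedding.isClosed_range).preimage m.continuous
  · intro hc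
    let q₁ := Limits.pullback.snd φl (Limits.pullback.fst Y.hom Y.hom)
    let q₂ := Limits.pullback.snd φl (q₁ ≫ Limits.pullback.snd Y.hom Y.hom)
    have hq₁ : IsQuotientMap q₁.base := h.subm _ _ _ (IsPullback.of_hasPullback _ _).flip
    have hq₂ : IsQuotientMap q₂.base := h.subm _ _ _ (IsPullback.of_hasPullback _ _).flip
    let r := Limits.pullback.lift (q₂ ≫ Limits.pullback.fst φl (Limits.pullback.fst Y.hom Y.hom))
      (Limits.pullback.fst φl (q₁ ≫ Limits.pullback.snd Y.hom Y.hom))
      (f := X.hom) (g := X.hom) (by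
        simp only [Category.assoc, ← w, Limits.pullback.condition_assoc, q₂, q₁, Limits.pullback.condition])
    have hr : r ≫ m = q₂ ≫ q₁ := by
      apply Limits.pullback.hom_ext
      · simp [r, m, q₁, q₂, Limits.pullback.condition]
      · simp [r, m, q₁, q₂, Limits.pullback.condition]
    have hcl : IsClosed (Set.range Δ) := by
      rw [← hq₁.isClosed_preimage, ← hq₂.isClosed_preimage, ← Set.preimage_comp]
      have e2 : (⇑q₁.base ∘ ⇑q₂.base) ⁻¹' Set.range Δ = r ⁻¹' Set.range ψ := by
        rw [key]
        ext b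
        show q₁ (q₂ b) ∈ Set.range Δ ↔ m (r b) ∈ Set.range Δ
        rw [← Scheme.Hom.comp_apply, ← Scheme.Hom.comp_apply, hr]
      rw [e2]
      exact (show IsClosed (Set.range ψ) from hc).preimage r.continuous
    exact ⟨(IsClosedImmersion.iff_isPreimmersion).2 ⟨inferInstance, hcl⟩⟩

end Groth.Agent.S11428
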