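import Groth.Statements.S11440
import Groth.Agent.AbRigid.Basic

set_option autoImplicit false
universe u
open CategoryTheory MonoidalCategory CartesianMonoidalCategory MonObj GrpObj AlgebraicGeometry Topology
open GIT

namespace Groth.Agent.S11440

/-- Let S be Noetherian, X an abelian scheme over S (smooth proper group scheme with connected geometric
fibres), G any locally Noetherian group scheme separated over S, and f : X → G a morphism over S
carrying the unit of X to the unit of G. Then f is a homomorphism. -/
theorem result (S : Scheme.{u}) [IsNoetherian S]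
    (X G : Over S) [GrpObj X] [GrpObj G] [Smooth X.hom] [IsProper X.hom]
    (hc : ∀ s : S, ConnectedSpace (Red.geomFibre s X).left)
    [IsLocallyNoetherian G.left] [IsSeparated G.hom] (f : X ⟶ G) (hf : η[X] ≫ f = η[G]) :
    IsMonHom f := by
  have hfib : ∀ s : S, ConnectedSpace ↥(X.hom.fiber s) := fun s => by
    haveI := hc s
    let K := AlgebraicClosure (S.residueField s)
    let c : Spec (CommRingCat.of K) ⟶ Spec (S.residueField s) :=
      Spec.map (CommRingCat.ofHom (algebraMap (S.residueField s) K))
    haveI : Surjective c := ⟨fun p => ⟨IsLocalRing.closedPoint K, Subsingleton.elim _ _⟩⟩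
    let v : Limits.pullback X.hom (c ≫ S.fromSpecResidueField s) ⟶ X.hom.fiber s :=
      Limits.pullback.lift (Limits.pullback.fst _ _) (Limits.pullback.snd _ _ ≫ c)
        (by rw [Limits.pullback.condition, Category.assoc])
    have hv : IsPullback v (Limits.pullback.snd X.hom (c ≫ S.fromSpecResidueField s))
        (X.hom.fiberToSpecResidueField s) c := by
      refine IsPullback.of_right (h₁₂ := X.hom.fiberι s) (h₂₂ := S.fromSpecResidueField s) (v₁₃ := X.hom) ?_
        (Limits.pullback.lift_snd _ _ _) (IsPullback.of_hasPullback X.hom _)
      rw [show v ≫ X.hom.fiberι s = Limits.pullback.fst X.hom (c ≫ S.fromSpecResidueField s) from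
        Limits.pullback.lift_fst _ _ _]
      exact IsPullback.of_hasPullback X.hom _
    haveI : Surjective v := MorphismProperty.of_isPullback (P := @Surjective) hv.flip inferInstance
    haveI : ConnectedSpace ↥(Limits.pullback X.hom (c ≫ S.fromSpecResidueField s)) := hc s
    exact v.surjective.connectedSpace v.continuous
  haveI : GeometricallyConnected X.hom :=
    Groth.Agent.AbRigid.geometricallyConnected_of_section X.hom η[X].left (Over.w η[X]) hfib
  haveI : GeometricallyReduced X.hom := Groth.Agent.TrivSec.geometricallyReduced_of_smooth X.hom
  exact Groth.Agent.TrivSec.isMonHom_of_one f hf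

end Groth.Agent.S11440
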