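import Mathlib
import Groth.Agent.FTorColim.Vanish
import Groth.Agent.FTorColim.Balance
import Groth.Statements.S11450
-- import your own Groth.Agent.* helpers here

set_option autoImplicit false
universe u
open CategoryTheory
open DefT

namespace Groth.Agent.S11450

set_option backward.isDefEq.respectTransparency false
set_option backward.isDefEq.respectTransparency.types false

/-- A module M over a Noetherian commutative ring A is flat if and only if Tor_1^A(M, A/p) vanishes for
every prime ideal p of A. -/
theorem result (A : Type u) [CommRing A]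
    [IsNoetherianRing A] (M : Type u) [AddCommGroup M] [Module A M] :
    Module.Flat A M ↔ ∀ p : Ideal A, p.IsPrime →
      Limits.IsZero (((CategoryTheory.Tor (ModuleCat.{u} A) 1).obj (ModuleCat.of A M)).obj (ModuleCat.of A (A ⧸ p))) := by
  classical
  let T := fun (N : ModuleCat.{u} A) => ((CategoryTheory.Tor (ModuleCat.{u} A) 1).obj (ModuleCat.of A M)).obj N
  have symm : ∀ (U V : ModuleCat.{u} A), Nonempty (((CategoryTheory.Tor (ModuleCat.{u} A) 1).obj U).obj V ≅
      ((CategoryTheory.Tor (ModuleCat.{u} A) 1).obj V).obj U) := by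
    intro U V
    let Q := CategoryTheory.projectiveResolution U
    obtain ⟨i⟩ := FTorColim.nonempty_tor_iso 1 U V Q
    exact ⟨i ≪≫ ((HomologicalComplex.homologyFunctor _ _ 1).mapIso
      ((CategoryTheory.NatIso.mapHomologicalComplex (BraidedCategory.tensorLeftIsoTensorRight V) _).app Q.complex)).symm ≪≫
      (DRingPC.torIso V Q 1).symm⟩
  constructor
  · intro h p _
    exact FTorColim.isZero_tor_succ_of_flat (ModuleCat.of A M) _ 0
  · intro h
    refine FTorColim.flat_of_tor_one_fg (M := ModuleCat.of A M) fun I _ => ?_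
    suffices H : ∀ (N : Type u) [AddCommGroup N] [Module A N] [Module.Finite A N], Limits.IsZero (T (ModuleCat.of A N)) from H (A ⧸ I)
    intro N _ _ hN
    refine IsNoetherianRing.induction_on_isQuotientEquivQuotientPrime A hN
      (motive := fun N _ _ _ => Limits.IsZero (T (ModuleCat.of A N))) ?_ ?_ ?_
    · intro N _ _ _ _
      obtain ⟨i⟩ := symm (ModuleCat.of A M) (ModuleCat.of A N)
      exact (FTorColim.isZero_tor_succ_of_flat (ModuleCat.of A N) _ 0).of_iso i
    · intro N _ _ _ p e
      exact (h p.1 p.2).of_iso (((CategoryTheory.Tor (ModuleCat.{u} A) 1).obj (ModuleCat.of A M)).mapIso e.toModuleIso)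
    · intro N₁ _ _ _ N₂ _ _ _ N₃ _ _ _ f g hf hg hfg h₁ h₃
      obtain ⟨i₁⟩ := symm (ModuleCat.of A N₁) (ModuleCat.of A M)
      obtain ⟨i₃⟩ := symm (ModuleCat.of A N₃) (ModuleCat.of A M)
      obtain ⟨i₂⟩ := symm (ModuleCat.of A M) (ModuleCat.of A N₂)
      let S : CategoryTheory.ShortComplex (ModuleCat.{u} A) := CategoryTheory.ShortComplex.mk (ModuleCat.ofHom f) (ModuleCat.ofHom g)
        (ModuleCat.hom_ext (LinearMap.ext fun x => hfg.apply_apply_eq_zero x))
      have hS : S.ShortExact :=
        { exact := (CategoryTheory.ShortComplex.ShortExact.moduleCat_exact_iff_function_exact S).mpr hfg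
          mono_f := (ModuleCat.mono_iff_injective _).2 hf
          epi_g := (ModuleCat.epi_iff_surjective _).2 hg }
      exact (FTorColim.isZero_tor_mid hS (ModuleCat.of A M) 1 (h₁.of_iso i₁) (h₃.of_iso i₃)).of_iso i₂

end Groth.Agent.S11450
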