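import Groth.Statements.S11451
import Mathlib
import Groth.Agent.CotLib.SmoothRegular
import Groth.Agent.S2453
import Groth.Agent.PP16Lib.CompletionEquiv
import Groth.Agent.ArtinFlat.RegSeq
-- import your own Groth.Agent.* helpers here

set_option autoImplicit false
universe u
open DefT

namespace Groth.Agent.S11451

open IsLocalRing MvPolynomial

variable {k A : Type u} [Field k] [CommRing A] [IsLocalRing A] [Algebra k A]

/-- The truncated polynomial ring is a local Artinian algebra. -/
theorem trunc_props (n N : ℕ) (hN : N ≠ 0) :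
    IsLocalRing (MvPolynomial (Fin n) k ⧸ idealOfVars (Fin n) k ^ N) ∧
    Module.Finite k (MvPolynomial (Fin n) k ⧸ idealOfVars (Fin n) k ^ N) := by
  let I := idealOfVars (Fin n) k
  let T := MvPolynomial (Fin n) k ⧸ I ^ N
  have hI : ∀ i, Ideal.Quotient.mk (I ^ N) (X i) ^ N = 0 := fun i => by
    rw [← map_pow, Ideal.Quotient.eq_zero_iff_mem]
    exact Ideal.pow_mem_pow (show X i ∈ I from Ideal.subset_span ⟨i, rfl⟩) N
  constructor
  · have hle : I ≤ RingHom.ker (constantCoeff : MvPolynomial (Fin n) k →+* k) :=
      Ideal.span_le.mpr (by rintro _ ⟨i, rfl⟩; exact constantCoeff_X (R := k) i)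
    have h1 : (1 : MvPolynomial (Fin n) k) ∉ I ^ N := fun h => one_ne_zero (α := k) (by
      simpa using hle (Ideal.pow_le_self hN h))
    haveI : Nontrivial T := Ideal.Quotient.nontrivial_iff.mpr fun h => h1 (by rw [h]; trivial)
    have hdec : ∀ x : T, ∃ c : k, IsNilpotent (x - algebraMap k T c) := by
      intro x
      obtain ⟨p, rfl⟩ := Ideal.Quotient.mk_surjective x
      refine ⟨constantCoeff p, N, ?_⟩
      have hp : p - C (constantCoeff p) ∈ I := by
        induction p using MvPolynomial.induction_on with
        | C c => simp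
        | add a b ha hb => rw [map_add, map_add, add_sub_add_comm]; exact add_mem ha hb
        | mul_X a i ha =>
          rw [map_mul, constantCoeff_X, mul_zero, map_zero, sub_zero]
          exact Ideal.mul_mem_left _ _ (Ideal.subset_span ⟨i, rfl⟩)
      show (Ideal.Quotient.mk (I ^ N) p - Ideal.Quotient.mk (I ^ N) (C (constantCoeff p))) ^ N = 0
      rw [← map_sub, ← map_pow, Ideal.Quotient.eq_zero_iff_mem]
      exact Ideal.pow_mem_pow hp N
    refine IsLocalRing.of_nonunits_add fun a b ha hb => ?_
    obtain ⟨c, hc⟩ := hdec a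
    obtain ⟨d, hd⟩ := hdec b
    have key : ∀ (y : T) (e : k), IsNilpotent (y - algebraMap k T e) → ¬ IsUnit y → e = 0 := fun y e he hy => by
      by_contra h
      exact hy (by
        have := he.isUnit_add_left_of_commute ((isUnit_iff_ne_zero.mpr h).map (algebraMap k T)) (Commute.all _ _)
        rwa [add_sub_cancel] at this)
    rw [key a c hc ha, map_zero, sub_zero] at hc
    rw [key b d hd hb, map_zero, sub_zero] at hd
    exact (Commute.all a b |>.isNilpotent_add hc hd).not_isUnit
  · haveI : Algebra.IsIntegral k T := ⟨fun x => by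
      obtain ⟨p, rfl⟩ := Ideal.Quotient.mk_surjective x
      induction p using MvPolynomial.induction_on with
      | C c => exact isIntegral_algebraMap (R := k) (A := T) (x := c)
      | add a b ha hb => rw [map_add]; exact ha.add hb
      | mul_X a i ha =>
        rw [map_mul]
        refine ha.mul (IsIntegral.of_pow (Nat.pos_of_ne_zero hN) ?_)
        rw [hI i]; exact isIntegral_zero⟩
    exact Algebra.IsIntegral.finite

variable [IsNoetherianRing A]

theorem exists_lift (hres : Function.Surjective (algebraMap k (ResidueField A))) :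
    ∃ (n : ℕ) (φ : MvPolynomial (Fin n) k →ₐ[k] A), (∀ i, φ (X i) ∈ maximalIdeal A) ∧
      (idealOfVars (Fin n) k).map φ.toRingHom = maximalIdeal A ∧ (∀ y, ∃ p, φ p - y ∈ maximalIdeal A ^ 2) ∧
      ∀ p, φ p ∈ maximalIdeal A ^ 2 → p ∈ idealOfVars (Fin n) k ^ 2 := by
  classical
  let b := Module.finBasis (ResidueField A) (CotangentSpace A)
  choose x hx using fun i => Ideal.toCotangent_surjective (maximalIdeal A) (b i)
  let φ : MvPolynomial (Fin (Module.finrank (ResidueField A) (CotangentSpace A))) k →ₐ[k] A := aeval fun i => (x i : A)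
  have hφX : ∀ i, φ (X i) = x i := fun i => aeval_X _ i
  have hspan : Submodule.span A (Set.range x) = ⊤ := by
    rw [← CotangentSpace.span_image_eq_top_iff, ← Set.range_comp, show (maximalIdeal A).toCotangent ∘ x = b from funext hx,
      b.span_eq]
  have hmap : (idealOfVars (Fin (Module.finrank (ResidueField A) (CotangentSpace A))) k).map φ.toRingHom = maximalIdeal A := by
    have h := congrArg (Submodule.map (maximalIdeal A).subtype) hspan
    rw [Submodule.map_span, Submodule.map_top, Submodule.range_subtype, ← Set.range_comp] at h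
    rw [idealOfVars, Ideal.map_span, ← Set.range_comp]
    refine Eq.trans ?_ h
    exact congrArg (fun f => Ideal.span (Set.range f)) (funext hφX)
  have hlin : ∀ y : A, ∃ c : k, y - algebraMap k A c ∈ maximalIdeal A := fun y => by
    obtain ⟨c, hc⟩ := hres (residue A y)
    refine ⟨c, (residue_eq_zero_iff _).mp ?_⟩
    rw [map_sub, ← hc]; exact sub_self _
  refine ⟨_, φ, fun i => by rw [hφX]; exact (x i).2, hmap, fun y => ?_, fun p hp => ?_⟩
  · obtain ⟨c, hc⟩ := hlin y
    rw [← hmap, idealOfVars, Ideal.map_span, ← Set.range_comp] at hc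
    obtain ⟨a, ha⟩ := Ideal.mem_span_range_iff_exists_fun.mp hc
    choose d hd using fun i => hlin (a i)
    refine ⟨C c + ∑ i, C (d i) * X i, ?_⟩
    rw [map_add, map_sum, show φ (C c) = algebraMap k A c from φ.commutes c,
      show algebraMap k A c + ∑ i, φ (C (d i) * X i) - y = ∑ i, φ (C (d i) * X i) - (y - algebraMap k A c) by ring, ← ha,
      ← Finset.sum_sub_distrib]
    refine Submodule.sum_mem _ fun i _ => ?_
    rw [map_mul, show φ (C (d i)) = algebraMap k A (d i) from φ.commutes _]
    show algebraMap k A (d i) * φ (X i) - a i * φ (X i) ∈ _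
    rw [← sub_mul, pow_two, hφX]
    refine Ideal.mul_mem_mul ?_ (x i).2
    rw [← neg_sub]; exact neg_mem (hd i)
  · -- the constant and linear parts vanish
    have hdec : ∀ q : MvPolynomial (Fin (Module.finrank (ResidueField A) (CotangentSpace A))) k, ∃ (c : k) (e : Fin _ → k), q - (C c + ∑ i, C (e i) * X i) ∈ idealOfVars (Fin (Module.finrank (ResidueField A) (CotangentSpace A))) k ^ 2 := by
      intro q
      induction q using MvPolynomial.induction_on with
      | C c => exact ⟨c, 0, by simp⟩
      | add q r hq hr =>
        obtain ⟨c, e, hq⟩ := hq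
        obtain ⟨c', e', hr⟩ := hr
        refine ⟨c + c', e + e', ?_⟩
        convert add_mem hq hr using 1
        simp only [map_add, Pi.add_apply, add_mul, Finset.sum_add_distrib]; ring
      | mul_X q j hq =>
        obtain ⟨c, e, hq⟩ := hq
        refine ⟨0, Pi.single j c, ?_⟩
        have h1 : (∑ i, C (e i) * X i) * X j ∈ idealOfVars (Fin (Module.finrank (ResidueField A) (CotangentSpace A))) k ^ 2 := by
          rw [Finset.sum_mul]
          refine Submodule.sum_mem _ fun i _ => ?_
          rw [mul_assoc, pow_two]
          exact Ideal.mul_mem_left _ _ (Ideal.mul_mem_mul (Ideal.subset_span ⟨i, rfl⟩) (Ideal.subset_span ⟨j, rfl⟩))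
        convert add_mem (Ideal.mul_mem_right (X j) _ hq) h1 using 1
        simp [Pi.single_apply, apply_ite C, ite_mul]; ring
    obtain ⟨c, e, hq⟩ := hdec p
    have h2 : φ (C c + ∑ i, C (e i) * X i) ∈ maximalIdeal A ^ 2 := by
      have h3 := Ideal.mem_map_of_mem φ.toRingHom hq
      rw [Ideal.map_pow, hmap] at h3
      change φ _ ∈ _ at h3
      rw [map_sub] at h3
      have := sub_mem hp h3
      rwa [sub_sub_cancel] at this
    simp only [map_add, map_sum, map_mul, hφX, show ∀ a, φ (C a) = algebraMap k A a from φ.commutes] at h2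
    have hc : c = 0 := by
      by_contra hc
      have h4 : algebraMap k A c ∈ maximalIdeal A := by
        have := sub_mem (Ideal.pow_le_self two_ne_zero h2)
          (Submodule.sum_mem (maximalIdeal A) fun i (_ : i ∈ Finset.univ) => Ideal.mul_mem_left _ (algebraMap k A (e i)) (x i).2)
        rwa [add_sub_cancel_right] at this
      exact (mem_maximalIdeal _).mp h4 ((isUnit_iff_ne_zero.mpr hc).map (algebraMap k A))
    subst hc
    have he : ∀ i, e i = 0 := by
      have h5 : ∑ i, (residue A (algebraMap k A (e i))) • b i = 0 := by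
        rw [map_zero, zero_add] at h2
        have h6 : (maximalIdeal A).toCotangent (∑ i, algebraMap k A (e i) • x i) = 0 := by
          rw [Ideal.toCotangent_eq_zero]
          simpa [Algebra.smul_def] using h2
        rw [map_sum] at h6
        rw [← h6]
        refine Finset.sum_congr rfl fun i _ => ?_
        rw [map_smul, hx]
        rfl
      intro i
      have h7 := Fintype.linearIndependent_iff.mp b.linearIndependent _ h5 i
      exact (map_eq_zero ((residue A).comp (algebraMap k A))).mp h7
    have he' : e = 0 := funext he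
    subst he'
    simpa using hq

/-- Let k be an algebraically closed field and A a local k-algebra essentially of finite type over k
with residue field k. Then regularity of A as a local ring is equivalent to the following: for every
local k-algebra B' of finite dimension over k, every ideal J of B' of square zero and every
k-algebra homomorphism f : A → B'/J, there is a k-algebra homomorphism g : A → B' lifting f. (Local
k-algebras of finite k-dimension are exactly the local Artin rings finite over k; lifting against
square-zero kernels is equivalent to lifting against nilpotent ones by induction.) -/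
theorem result (k : Type u) [Field k] [IsAlgClosed k]
    (A : Type u) [CommRing A] [IsLocalRing A] [Algebra k A] [Algebra.EssFiniteType k A]
    (hres : Function.Surjective (algebraMap k (IsLocalRing.ResidueField A))) :
    IsRegularLocalRing A ↔
      ∀ (B' : Type u) [CommRing B'] [IsLocalRing B'] [Algebra k B'] [Module.Finite k B']
        (J : Ideal B'), J ^ 2 = ⊥ → ∀ f : A →ₐ[k] B' ⧸ J,
          ∃ g : A →ₐ[k] B', (Ideal.Quotient.mkₐ k J).comp g = f := by
  classical
  haveI : IsNoetherianRing A := Algebra.EssFiniteType.isNoetherianRing k A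
  haveI : Algebra.IsGeometricallyReduced k (IsLocalRing.ResidueField A) := CotLib.isGeometricallyReduced_of_isAlgClosed
  refine ⟨fun hreg B' _ _ _ _ J hJ f => ?_, fun h => ?_⟩
  · have hfs := ((S2453.result (k := k) (A := A)).out 0 3).mpr hreg
    refine hfs B' J hJ f ?_
    haveI : IsArtinianRing B' := IsArtinianRing.of_finite k B'
    rcases subsingleton_or_nontrivial (B' ⧸ J) with hsub | hnt
    · exact ⟨0, fun x _ => Subsingleton.elim _ _⟩
    haveI : IsLocalRing (B' ⧸ J) := IsLocalRing.of_surjective' _ Ideal.Quotient.mk_surjective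
    have hloc : ∀ a ∈ IsLocalRing.maximalIdeal A, f a ∈ IsLocalRing.maximalIdeal (B' ⧸ J) := by
      intro a ha
      haveI : Algebra.IsIntegral k (IsLocalRing.ResidueField (B' ⧸ J)) :=
        Algebra.IsIntegral.of_finite k _
      obtain ⟨c, hc⟩ := (IsAlgClosed.algebraMap_bijective_of_isIntegral (k := k)
        (K := IsLocalRing.ResidueField (B' ⧸ J))).2 (IsLocalRing.residue _ (f a))
      by_contra hu
      have hc0 : c ≠ 0 := fun h => hu ((IsLocalRing.residue_eq_zero_iff _).mp (by rw [← hc, h, map_zero]))
      have hua : IsUnit (a - algebraMap k A c) := by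
        by_contra hn
        have h1 := sub_mem ha ((IsLocalRing.mem_maximalIdeal _).mpr hn)
        rw [sub_sub_cancel] at h1
        exact (IsLocalRing.mem_maximalIdeal _).mp h1 ((isUnit_iff_ne_zero.mpr hc0).map _)
      have h2 := (hua.map f).map (IsLocalRing.residue (B' ⧸ J))
      rw [map_sub, map_sub, AlgHom.commutes, ← hc, ← IsLocalRing.ResidueField.algebraMap_eq] at h2
      rw [← IsScalarTower.algebraMap_apply k (B' ⧸ J) (IsLocalRing.ResidueField (B' ⧸ J))] at h2
      simp at h2
    obtain ⟨N, hN⟩ := IsArtinianRing.isNilpotent_jacobson_bot (R := B' ⧸ J)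
    refine ⟨N, fun x hx => ?_⟩
    have h3 := Ideal.mem_map_of_mem f.toRingHom hx
    rw [Ideal.map_pow] at h3
    have h4 := Ideal.pow_right_mono (Ideal.map_le_iff_le_comap.mpr (show IsLocalRing.maximalIdeal A ≤ (IsLocalRing.maximalIdeal (B' ⧸ J)).comap f.toRingHom from hloc)) N h3
    rw [← IsLocalRing.jacobson_eq_maximalIdeal ⊥ bot_ne_top, hN] at h4
    exact h4
  · obtain ⟨n, φ, hφm, hmap, hsurj, hker⟩ := exists_lift (k := k) hres
    let I := MvPolynomial.idealOfVars (Fin n) k
    have hlifts : ∀ N, 2 ≤ N → ∃ g : A →ₐ[k] MvPolynomial (Fin n) k ⧸ I ^ N,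
        ∀ i, g (φ (MvPolynomial.X i)) - Ideal.Quotient.mk (I ^ N) (MvPolynomial.X i) ∈ (I ^ 2).map (Ideal.Quotient.mk (I ^ N)) := by
      intro N hN
      induction N, hN using Nat.le_induction with
      | base =>
        let φ2 : MvPolynomial (Fin n) k →ₐ[k] A ⧸ IsLocalRing.maximalIdeal A ^ 2 := (Ideal.Quotient.mkₐ k _).comp φ
        let e : (MvPolynomial (Fin n) k ⧸ I ^ 2) →ₐ[k] A ⧸ IsLocalRing.maximalIdeal A ^ 2 :=
          Ideal.Quotient.liftₐ (I ^ 2) φ2 (fun p hp => by
            have h1 := Ideal.mem_map_of_mem φ.toRingHom hp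
            rw [Ideal.map_pow, hmap] at h1
            exact Ideal.Quotient.eq_zero_iff_mem.mpr h1)
        have he : Function.Bijective e := by
          refine ⟨(injective_iff_map_eq_zero e).mpr fun z hz => ?_, fun y => ?_⟩
          · obtain ⟨p, rfl⟩ := Ideal.Quotient.mk_surjective z
            exact Ideal.Quotient.eq_zero_iff_mem.mpr (hker p (Ideal.Quotient.eq_zero_iff_mem.mp hz))
          · obtain ⟨y, rfl⟩ := Ideal.Quotient.mk_surjective y
            obtain ⟨p, hp⟩ := hsurj y
            exact ⟨Ideal.Quotient.mk _ p, Ideal.Quotient.eq.mpr hp⟩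
        refine ⟨(AlgEquiv.ofBijective e he).symm.toAlgHom.comp (Ideal.Quotient.mkₐ k _), fun i => ?_⟩
        have h2 : (AlgEquiv.ofBijective e he).symm (Ideal.Quotient.mk _ (φ (MvPolynomial.X i))) =
            Ideal.Quotient.mk (I ^ 2) (MvPolynomial.X i) := (AlgEquiv.symm_apply_eq _).mpr rfl
        show (AlgEquiv.ofBijective e he).symm _ - _ ∈ _
        erw [h2]
        rw [sub_self]
        exact zero_mem _
      | succ N hN ih =>
        obtain ⟨g, hg⟩ := ih
        obtain ⟨hloc, hfin⟩ := trunc_props (k := k) n (N + 1) (Nat.succ_ne_zero N)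
        let J : Ideal (MvPolynomial (Fin n) k ⧸ I ^ (N + 1)) := (I ^ N).map (Ideal.Quotient.mk (I ^ (N + 1)))
        have hJ : J ^ 2 = ⊥ := by
          rw [← Ideal.map_pow, ← pow_mul, Ideal.map_eq_bot_iff_le_ker, Ideal.mk_ker]
          exact Ideal.pow_le_pow_right (by omega)
        let e := DoubleQuot.quotQuotEquivQuotOfLEₐ k (Ideal.pow_le_pow_right (Nat.le_succ N) : I ^ (N + 1) ≤ I ^ N)
        obtain ⟨g', hg'⟩ := h _ J hJ (e.symm.toAlgHom.comp g)
        refine ⟨g', fun i => ?_⟩
        have h3 : e (Ideal.Quotient.mk J (g' (φ (MvPolynomial.X i)))) = g (φ (MvPolynomial.X i)) := by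
          have := congrArg e (DFunLike.congr_fun hg' (φ (MvPolynomial.X i)))
          exact this.trans (e.apply_symm_apply _)
        obtain ⟨p, hp⟩ := Ideal.Quotient.mk_surjective (g' (φ (MvPolynomial.X i)))
        rw [← hp] at h3 ⊢
        have h4 : Ideal.Quotient.mk (I ^ N) p = g (φ (MvPolynomial.X i)) := h3
        have h5 := hg i
        rw [← h4, ← map_sub] at h5
        rw [← map_sub]
        obtain ⟨q, hq, hq'⟩ := (Ideal.mem_map_iff_of_surjective _ Ideal.Quotient.mk_surjective).mp h5
        refine Ideal.mem_map_of_mem _ ?_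
        have h6 : q - (p - MvPolynomial.X i) ∈ I ^ 2 := Ideal.pow_le_pow_right hN (Ideal.Quotient.eq.mp hq')
        have := sub_mem hq h6
        rwa [sub_sub_cancel] at this
    have hinj : ∀ N p, φ p ∈ IsLocalRing.maximalIdeal A ^ N → p ∈ I ^ N := by
      intro N p hp
      rcases lt_or_ge N 2 with hN | hN
      · interval_cases N
        · simp
        · rw [pow_one] at hp ⊢
          by_contra hpI
          have hc : p - MvPolynomial.C (MvPolynomial.constantCoeff p) ∈ I := by
            clear hp hpI
            induction p using MvPolynomial.induction_on with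
            | C c => simp
            | add a b ha hb => rw [map_add, map_add, add_sub_add_comm]; exact add_mem ha hb
            | mul_X a i ha =>
              rw [map_mul, MvPolynomial.constantCoeff_X, mul_zero, map_zero, sub_zero]
              exact Ideal.mul_mem_left _ _ (Ideal.subset_span ⟨i, rfl⟩)
          have hc0 : MvPolynomial.constantCoeff p ≠ 0 := fun h0 => hpI (by simpa [h0] using hc)
          have h1 := Ideal.mem_map_of_mem φ.toRingHom hc
          rw [hmap] at h1
          change φ _ ∈ _ at h1
          rw [map_sub] at h1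
          have h2 := sub_mem hp h1
          rw [sub_sub_cancel] at h2
          exact (IsLocalRing.mem_maximalIdeal _).mp h2 (((isUnit_iff_ne_zero.mpr hc0).map MvPolynomial.C).map φ)
      obtain ⟨g, hg⟩ := hlifts N hN
      let θ : MvPolynomial (Fin n) k →ₐ[k] MvPolynomial (Fin n) k ⧸ I ^ N := g.comp φ
      let q := Ideal.Quotient.mk (I ^ N)
      have hθX : ∀ i, θ (MvPolynomial.X i) ∈ I.map q := fun i => by
        have := add_mem (Ideal.map_mono (Ideal.pow_le_self two_ne_zero) (hg i)) (Ideal.mem_map_of_mem q (Ideal.subset_span ⟨i, rfl⟩ : MvPolynomial.X i ∈ I))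
        rwa [sub_add_cancel] at this
      have hθI : ∀ a ∈ I, θ a ∈ I.map q := fun a ha => by
        have h1 := Ideal.mem_map_of_mem θ.toRingHom ha
        refine (Ideal.map_le_iff_le_comap.mpr (Ideal.span_le.mpr ?_) : I.map θ.toRingHom ≤ I.map q) h1
        rintro _ ⟨i, rfl⟩
        exact hθX i
      have h0 : ∀ a, θ a - q a ∈ I.map q := by
        intro a
        induction a using MvPolynomial.induction_on with
        | C c => rw [show θ (MvPolynomial.C c) = q (MvPolynomial.C c) from θ.commutes c, sub_self]; exact zero_mem _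
        | add a b ha hb => rw [map_add, map_add, add_sub_add_comm]; exact add_mem ha hb
        | mul_X a i ha =>
          rw [map_mul, map_mul, show θ a * θ (MvPolynomial.X i) - q a * q (MvPolynomial.X i) =
            (θ a - q a) * θ (MvPolynomial.X i) + q a * (θ (MvPolynomial.X i) - q (MvPolynomial.X i)) by ring]
          exact add_mem (Ideal.mul_mem_right _ _ ha) (Ideal.mul_mem_left _ _ (Ideal.map_mono (Ideal.pow_le_self two_ne_zero) (hg i)))
      have h1 : ∀ a ∈ I, θ a - q a ∈ (I ^ 2).map q := by
        intro a ha
        refine Submodule.span_induction (p := fun a _ => θ a - q a ∈ (I ^ 2).map q) ?_ ?_ ?_ ?_ ha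
        · rintro _ ⟨i, rfl⟩; exact hg i
        · simp
        · intro a b _ _ ha hb; rw [map_add, map_add, add_sub_add_comm]; exact add_mem ha hb
        · intro r a ha' hd
          rw [smul_eq_mul, map_mul, map_mul, show θ r * θ a - q r * q a = (θ r - q r) * θ a + q r * (θ a - q a) by ring]
          refine add_mem ?_ (Ideal.mul_mem_left _ _ hd)
          rw [Ideal.map_pow, pow_two]
          exact Ideal.mul_mem_mul (h0 r) (hθI a ha')
      have h2 : ∀ d, ∀ a ∈ I ^ d, θ a - q a ∈ (I ^ (d + 1)).map q := by
        intro d
        induction d with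
        | zero => intro a _; simpa using h0 a
        | succ d ih =>
          intro a ha
          rw [pow_succ] at ha
          refine Submodule.mul_induction_on ha (fun x hx y hy => ?_) fun x y hx hy => by
            rw [map_add, map_add, add_sub_add_comm]; exact add_mem hx hy
          rw [map_mul, map_mul, show θ x * θ y - q x * q y = (θ x - q x) * θ y + q x * (θ y - q y) by ring, Ideal.map_pow]
          refine add_mem ?_ ?_
          · rw [pow_succ]
            exact Ideal.mul_mem_mul (by rw [← Ideal.map_pow]; exact ih x hx) (hθI y hy)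
          · rw [show d + 1 + 1 = d + 2 from rfl, pow_add, ← Ideal.map_pow, ← Ideal.map_pow]
            exact Ideal.mul_mem_mul (Ideal.mem_map_of_mem q hx) (h1 y hy)
      have hθp : θ p = 0 := by
        show g (φ p) = 0
        have h3 := Ideal.mem_map_of_mem g.toRingHom hp
        rw [Ideal.map_pow] at h3
        have hle : (IsLocalRing.maximalIdeal A).map g.toRingHom ≤ I.map q := by
          rw [← hmap, Ideal.map_map, Ideal.map_le_iff_le_comap, MvPolynomial.idealOfVars, Ideal.span_le]
          rintro _ ⟨i, rfl⟩
          exact hθX i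
        have h4 := Ideal.pow_right_mono hle N h3
        rw [← Ideal.map_pow, Ideal.map_quotient_self] at h4
        exact h4
      have h5 : ∀ d ≤ N, p ∈ I ^ d := by
        intro d hd
        induction d with
        | zero => simp
        | succ d ih =>
          have h6 := h2 d p (ih (by omega))
          rw [hθp, zero_sub, neg_mem_iff] at h6
          obtain ⟨r, hr, hr'⟩ := (Ideal.mem_map_iff_of_surjective q Ideal.Quotient.mk_surjective).mp h6
          have h7 := sub_mem hr (Ideal.pow_le_pow_right hd (Ideal.Quotient.eq.mp hr'))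
          rwa [sub_sub_cancel] at h7
      exact h5 N le_rfl
    -- pass to the local ring at the origin
    let M : Ideal (MvPolynomial (Fin n) k) := (IsLocalRing.maximalIdeal A).comap φ.toRingHom
    have hMI : M = I := le_antisymm (fun p hp => by
      have := hinj 1 p (by rwa [pow_one])
      rwa [pow_one] at this) (Ideal.map_le_iff_le_comap.mp hmap.le)
    haveI : M.IsPrime := Ideal.IsPrime.comap φ.toRingHom
    let A₀ := Localization.AtPrime M
    let Φ : A₀ →+* A := IsLocalization.lift (M := M.primeCompl) (g := φ.toRingHom) fun s => by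
      by_contra hs
      exact s.2 ((IsLocalRing.mem_maximalIdeal _).mpr hs)
    have hΦ : ∀ p, Φ (algebraMap _ A₀ p) = φ p := fun p => IsLocalization.lift_eq _ p
    have hreg : IsRegularLocalRing A₀ := IsRegularRing.isRegularLocalRing_localization M
    refine (PP16Lib.isRegularLocalRing_iff_of_quotients Φ ?_ (fun N x hx => ?_) fun y => ?_).mp hreg
    · rw [← Localization.AtPrime.map_eq_maximalIdeal, Ideal.map_map, show Φ.comp (algebraMap _ A₀) = φ.toRingHom from RingHom.ext hΦ, hMI, hmap]
    · obtain ⟨p, s, rfl⟩ := IsLocalization.exists_mk'_eq M.primeCompl x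
      have hsp : φ p = φ s.1 * Φ (IsLocalization.mk' A₀ p s) := by
        rw [← hΦ, ← hΦ, ← map_mul, IsLocalization.mk'_spec']
      have hpM : φ p ∈ IsLocalRing.maximalIdeal A ^ N := by rw [hsp]; exact Ideal.mul_mem_left _ _ hx
      have hpI : p ∈ M ^ N := by rw [hMI]; exact hinj N p hpM
      rw [IsLocalization.mk'_eq_mul_mk'_one, ← Localization.AtPrime.map_eq_maximalIdeal, ← Ideal.map_pow]
      exact Ideal.mul_mem_right _ _ (Ideal.mem_map_of_mem _ hpI)
    · obtain ⟨p, hp⟩ := hsurj y
      exact ⟨algebraMap _ A₀ p, by rw [hΦ]; exact hp⟩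


end Groth.Agent.S11451
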