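import Groth.Statements.S11452
import Groth.Agent.HomTangent.DefIso
import Groth.Agent.HilbLoc.Basic
import Groth.Agent.SmoothDense.GeomReg
import Groth.Agent.CotLib.SmoothRegular
import Groth.Agent.ArtFunLib.Basic

set_option maxHeartbeats 1000000
set_option backward.isDefEq.respectTransparency false

set_option autoImplicit false
universe u
open CategoryTheory AlgebraicGeometry
open DefT

namespace Groth.Agent.S11452

/-- Let k be an algebraically closed field, X an affine scheme of finite type over k whose local rings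
are all regular, A a local Artin k-algebra with a k-algebra augmentation e : A → k, and g : X' →
Spec A a flat morphism whose fibre over the k-point Spec k → Spec A given by e is X (with its
structure map to Spec k). Then there is an isomorphism from X' to the trivial deformation X ×_{Spec
k} Spec A compatible with the projections to Spec A. -/
theorem result (k : Type u) [Field k]
    [IsAlgClosed k] (X : Scheme.{u}) (hX : X ⟶ Spec (CommRingCat.of k)) [IsAffine X]
    [LocallyOfFiniteType hX] (hreg : ∀ x : X, IsRegularLocalRing (X.presheaf.stalk x))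
    (A : Type u) [CommRing A] [IsLocalRing A] [IsArtinianRing A] [Algebra k A] (e : A →ₐ[k] k)
    (X' : Scheme.{u}) (g : X' ⟶ Spec (CommRingCat.of A)) [Flat g] (i : X ⟶ X')
    (hsq : IsPullback i hX g (Spec.map (CommRingCat.ofHom e.toRingHom))) :
    ∃ φ : X' ≅ Limits.pullback hX (Spec.map (CommRingCat.ofHom (algebraMap k A))),
      φ.hom ≫ Limits.pullback.snd hX (Spec.map (CommRingCat.ofHom (algebraMap k A))) = g := by
  haveI : Smooth hX := by
    haveI : IsLocallyNoetherian (Spec (CommRingCat.of k)) := inferInstance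
    haveI : LocallyOfFinitePresentation hX := inferInstance
    rw [← Scheme.Hom.smoothLocus_eq_top_iff, eq_top_iff]
    intro z _
    letI : Algebra k (X.presheaf.stalk z) := ((X.presheaf.germ ⊤ z trivial).hom.comp
      (hX.appTop.hom.comp (Scheme.ΓSpecIso (CommRingCat.of k)).inv.hom)).toAlgebra
    haveI : Algebra.IsGeometricallyReduced k (IsLocalRing.ResidueField (X.presheaf.stalk z)) :=
      CotLib.isGeometricallyReduced_of_isAlgClosed
    exact SmoothDense.mem_smoothLocus_of_regular_separable (GeomRedAt.fromSpecStalk_comp hX z) (hreg z)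
  let A₀ : ArtFun.Art k k := ArtFun.Art.of A e (fun c => ⟨algebraMap k A c, e.commutes c⟩)
  let ξ : ArtFun.DefSch X hX A₀ := ⟨X', g, inferInstance, i, hsq⟩
  have hX' : IsAffineOpen (⊤ : X'.Opens) := DefGlue.isAffineOpen_of_i ξ (isAffineOpen_top X)
  obtain ⟨-, hsurj, hker⟩ := DefAut.chart ξ hX'
  letI : Algebra k Γ(X, ⊤) := (hX.appTop.hom.comp (Scheme.ΓSpecIso (CommRingCat.of k)).inv.hom).toAlgebra
  letI : Algebra k Γ(X', ⊤) := ((DefAut.structHom ξ ⊤).comp (algebraMap k A)).toAlgebra
  haveI : Algebra.FormallySmooth k Γ(X, ⊤) := by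
    have h1 : (hX.appTop).hom.Smooth := HasRingHomProperty.appTop @Smooth hX inferInstance
    have h2 : (hX.appTop.hom.comp (Scheme.ΓSpecIso (CommRingCat.of k)).inv.hom).Smooth :=
      RingHom.Smooth.respectsIso.2 hX.appTop.hom (Scheme.ΓSpecIso (CommRingCat.of k)).symm.commRingCatIsoToRingEquiv h1
    have h3 : Algebra.Smooth k Γ(X, ⊤) := RingHom.smooth_algebraMap.1 h2
    exact h3.formallySmooth
  have hmap : ∀ (Z : X.Opens) (h : Z = ⊤) (w : Γ(X, ⊤)), X.presheaf.map (homOfLE (le_top : Z ≤ ⊤)).op w =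
      X.presheaf.map (eqToHom h).op w := fun Z h w => rfl
  let π0 : Γ(X', ⊤) →ₐ[k] Γ(X, ⊤) :=
    { (i.appTop).hom with
      commutes' := fun c => by
        have h := DefAut.i_app_structHom ξ ⊤ (algebraMap k A c)
        refine h.trans ?_
        rw [show A₀.res (algebraMap k A c) = c from e.commutes c]
        change X.presheaf.map (homOfLE (le_top : (⊤ : X.Opens) ≤ ⊤)).op _ = _
        rw [show (homOfLE (le_top : (⊤ : X.Opens) ≤ ⊤)) = 𝟙 _ from rfl, op_id, X.presheaf.map_id]
        rfl }
  have hπ0 : Function.Surjective π0 := hsurj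
  have hnil : IsNilpotent (RingHom.ker (π0 : Γ(X', ⊤) →+* Γ(X, ⊤))) := by
    obtain ⟨N, hN⟩ := ArtFunLib.isNilpotent_maximalIdeal A₀
    refine ⟨N, ?_⟩
    change RingHom.ker (ξ.i.app ⊤).hom ^ N = 0
    rw [hker, ← Ideal.map_pow, hN, Ideal.zero_eq_bot, Ideal.map_bot]
  let σ : Γ(X, ⊤) →ₐ[k] Γ(X', ⊤) := Algebra.FormallySmooth.liftOfSurjective (AlgHom.id k _) π0 hπ0 hnil
  have hσ : CommRingCat.ofHom σ.toRingHom ≫ i.appTop = 𝟙 _ := CommRingCat.hom_ext (RingHom.ext fun b =>
    Algebra.FormallySmooth.liftOfSurjective_apply (AlgHom.id k _) π0 hπ0 hnil b)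
  let p : X' ⟶ X := X'.toSpecΓ ≫ Spec.map (CommRingCat.ofHom σ.toRingHom) ≫ X.isoSpec.inv
  have hip : i ≫ p = 𝟙 X := by
    simp only [p]
    rw [Scheme.toSpecΓ_naturality_assoc, ← Spec.map_comp_assoc, hσ, Spec.map_id]
    exact (congrArg (X.toSpecΓ ≫ ·) (Category.id_comp _)).trans X.isoSpec.hom_inv_id
  have hp : p ≫ hX = g ≫ Spec.map (CommRingCat.ofHom (algebraMap k A)) := by
    have hp1 : p.appTop = CommRingCat.ofHom σ.toRingHom := by
      simp only [p]
      simp [Scheme.isoSpec]
      exact congrArg (· ≫ CommRingCat.ofHom σ.toRingHom) (Scheme.toSpecΓ_appTop X).symm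
    refine ext_of_isAffine ((Scheme.Hom.comp_appTop p hX).trans ((congrArg (hX.appTop ≫ ·) hp1).trans ?_))
    rw [Scheme.Hom.comp_appTop]
    refine (cancel_epi (Scheme.ΓSpecIso (CommRingCat.of k)).inv).1 ?_
    rw [← reassoc_of% (Scheme.ΓSpecIso_inv_naturality (CommRingCat.ofHom (algebraMap k A)))]
    ext c
    refine (σ.commutes c).trans ?_
    change X'.presheaf.map (homOfLE (le_top : (⊤ : X'.Opens) ≤ ⊤)).op _ = _
    rw [show (homOfLE (le_top : (⊤ : X'.Opens) ≤ ⊤)) = 𝟙 _ from rfl, op_id, X'.presheaf.map_id]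
    rfl
  let π : X' ⟶ (HilbLoc.triv hX A₀).total := Limits.pullback.lift p g hp
  have hπg : π ≫ (HilbLoc.triv hX A₀).f = g := Limits.pullback.lift_snd _ _ _
  have hπi : i ≫ π = ArtFun.Art.XAincl hX A₀ := by
    refine Limits.pullback.hom_ext ?_ ?_
    · rw [Category.assoc, Limits.pullback.lift_fst, hip]
      exact (ArtFun.Art.XAincl_fst hX A₀).symm
    · rw [Category.assoc, Limits.pullback.lift_snd, hsq.w]
      exact (ArtFun.Art.XAincl_snd hX A₀).symm
  haveI : IsIso π := HomTangent.isIso_of_fibre ξ (HilbLoc.triv hX A₀) π hπg hπi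
  exact ⟨asIso π, Limits.pullback.lift_snd _ _ _⟩


end Groth.Agent.S11452
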