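import Groth.Statements.S11454
import Mathlib
import Groth.Agent.ArtinFlat.RegSeq

set_option autoImplicit false
universe u
open DefT

namespace Groth.Agent.S11454

open Groth.Agent.ArtinFlat

/-- Let C' be a local Artin ring, J ⊊ C' a proper ideal annihilated by the maximal ideal, C = C'/J, A' a
flat C'-algebra whose reduction modulo the maximal ideal of C' is a Cohen–Macaulay local ring, and A
= A'/JA'. If a'_1, …, a'_r ∈ A' have images in A forming a regular sequence with A/(a_1, …, a_r)
flat over C, then a'_1, …, a'_r is a regular sequence on A' and A'/(a'_1, …, a'_r) is flat over C'.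
(Regular sequences stand in for the exactness of the Koszul complexes in the published statement;
over a Noetherian local ring with the elements in the maximal ideal the two are equivalent.) -/
theorem result (C' : Type u) [CommRing C'] [IsLocalRing C'] [IsArtinianRing C'] (J : Ideal C')
    (hJ : IsLocalRing.maximalIdeal C' * J = ⊥) (hJne : J ≠ ⊤) (A' : Type u) [CommRing A'] [Algebra C' A'] [Module.Flat C' A']
    [LocCoh.IsCohenMacaulayLocalRing (A' ⧸ (IsLocalRing.maximalIdeal C').map (algebraMap C' A'))]
    (r : ℕ) (a' : Fin r → A')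
    (hreg : RingTheory.Sequence.IsRegular (A' ⧸ J.map (algebraMap C' A'))
      (List.ofFn (fun i => Ideal.Quotient.mk (J.map (algebraMap C' A')) (a' i))))
    [Module.Flat (C' ⧸ J) ((A' ⧸ J.map (algebraMap C' A')) ⧸
      Ideal.span (Set.range (fun i => Ideal.Quotient.mk (J.map (algebraMap C' A')) (a' i))))] :
    RingTheory.Sequence.IsRegular A' (List.ofFn a') ∧ Module.Flat C' (A' ⧸ Ideal.span (Set.range a')) := by
  set m := IsLocalRing.maximalIdeal C' with hm
  obtain ⟨-, hN, hL⟩ := deformation_props C' A'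
  haveI := hN
  haveI := hL
  set K := J.map (algebraMap C' A') with hK
  have hJm : J ≤ m := IsLocalRing.le_maximalIdeal hJne
  have hlist : List.ofFn (fun i => Ideal.Quotient.mk K (a' i)) = (List.ofFn a').map (Ideal.Quotient.mk K) := by
    rw [List.map_ofFn]; rfl
  have hL0 : Ideal.span (Set.range (fun i => Ideal.Quotient.mk K (a' i))) ≠ ⊤ := by
    intro h
    refine hreg.top_ne_smul ?_
    rw [ofList_ofFn, h, smul_eq_mul, Ideal.mul_top]
  have hL1 : Ideal.span (Set.range a') ≠ ⊤ := by
    intro h
    refine hL0 ?_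
    have := congrArg (Ideal.map (Ideal.Quotient.mk K)) h
    rw [Ideal.map_top, Ideal.map_span, ← Set.range_comp] at this
    exact this
  haveI : IsNoetherianRing (C' ⧸ J) := inferInstance
  haveI : IsNoetherianRing (A' ⧸ K) := inferInstance
  have hjac : ∀ r ∈ List.ofFn (fun i => Ideal.Quotient.mk K (a' i)), r ∈ (⊥ : Ideal (A' ⧸ K)).jacobson := by
    haveI : Nontrivial (A' ⧸ K) := Ideal.Quotient.nontrivial_iff.mpr fun h => hL0 (by
      haveI := Ideal.Quotient.subsingleton_iff.mpr h
      exact Subsingleton.elim _ _)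
    haveI : IsLocalRing (A' ⧸ K) := IsLocalRing.of_surjective' (Ideal.Quotient.mk K) Ideal.Quotient.mk_surjective
    intro r hr
    rw [IsLocalRing.jacobson_eq_maximalIdeal (⊥ : Ideal (A' ⧸ K)) bot_ne_top]
    exact IsLocalRing.le_maximalIdeal hL0 (by rw [← ofList_ofFn]; exact Ideal.subset_span hr)
  haveI : Module.Flat (C' ⧸ J) ((A' ⧸ K) ⧸ Ideal.ofList (List.ofFn fun i => Ideal.Quotient.mk K (a' i))) := by
    rw [ofList_ofFn]; assumption
  obtain ⟨-, hd⟩ := descend (C := C' ⧸ J) (List.ofFn fun i => Ideal.Quotient.mk K (a' i)) hjac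
    ((isWeaklyRegular_iff_regMod _).mp hreg.toIsWeaklyRegular)
  have h1 := hd (m.map (Ideal.Quotient.mk J))
  rw [hlist] at h1
  have h2 := regMod_comap Ideal.Quotient.mk_surjective _ _ h1
  have e : ((m.map (Ideal.Quotient.mk J)).map (algebraMap (C' ⧸ J) (A' ⧸ K))).comap (Ideal.Quotient.mk K) =
      m.map (algebraMap C' A') := by
    rw [Ideal.map_map, show (algebraMap (C' ⧸ J) (A' ⧸ K)).comp (Ideal.Quotient.mk J) =
        (Ideal.Quotient.mk K).comp (algebraMap C' A') from RingHom.ext fun _ => rfl, ← Ideal.map_map,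
      Ideal.comap_map_of_surjective' _ Ideal.Quotient.mk_surjective, Ideal.mk_ker]
    exact sup_eq_left.mpr (Ideal.map_mono hJm)
  rw [e] at h2
  obtain ⟨hflat, hr⟩ := ascend (C := C') (List.ofFn a') h2
  refine ⟨isRegular_of_regMod (hr ⊥) (by rw [ofList_ofFn]; exact hL1), ?_⟩
  have := hflat _ le_rfl
  rw [List.take_length, ofList_ofFn] at this
  exact this

end Groth.Agent.S11454
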