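import Groth.Statements.S11455
import Mathlib
import Groth.Agent.ArtinFlat.RegSeq

set_option autoImplicit false
universe u
open DefT

namespace Groth.Agent.S11455

open Groth.Agent.ArtinFlat

/-- Let C' be a local Artin ring, J ⊊ C' a proper ideal annihilated by the maximal ideal, C = C'/J, A' a
flat C'-algebra whose reduction modulo the maximal ideal of C' is a Cohen–Macaulay local ring, A =
A'/JA', and a_1, …, a_r a regular sequence on A with A/(a_1, …, a_r) flat over C. Then every ideal
I' of A' with A'/I' flat over C' and with image (a_1, …, a_r) in A is generated by some lifts a'_1,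
…, a'_r of the a_i. -/
theorem result (C' : Type u) [CommRing C'] [IsLocalRing C'] [IsArtinianRing C'] (J : Ideal C')
    (hJ : IsLocalRing.maximalIdeal C' * J = ⊥) (hJne : J ≠ ⊤) (A' : Type u) [CommRing A'] [Algebra C' A'] [Module.Flat C' A']
    [LocCoh.IsCohenMacaulayLocalRing (A' ⧸ (IsLocalRing.maximalIdeal C').map (algebraMap C' A'))]
    (r : ℕ) (a : Fin r → A' ⧸ J.map (algebraMap C' A'))
    (hreg : RingTheory.Sequence.IsRegular (A' ⧸ J.map (algebraMap C' A')) (List.ofFn a))
    [Module.Flat (C' ⧸ J) ((A' ⧸ J.map (algebraMap C' A')) ⧸ Ideal.span (Set.range a))]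
    (I' : Ideal A') [Module.Flat C' (A' ⧸ I')]
    (hI' : I'.map (Ideal.Quotient.mk (J.map (algebraMap C' A'))) = Ideal.span (Set.range a)) :
    ∃ a' : Fin r → A', (∀ i, Ideal.Quotient.mk (J.map (algebraMap C' A')) (a' i) = a i) ∧
      I' = Ideal.span (Set.range a') := by
  obtain ⟨⟨k, hk⟩, hN, hL⟩ := deformation_props C' A'
  haveI := hN
  haveI := hL
  have hlift : ∀ i, ∃ x ∈ I', Ideal.Quotient.mk (J.map (algebraMap C' A')) x = a i := fun i =>
    (Ideal.mem_map_iff_of_surjective _ Ideal.Quotient.mk_surjective).mp (hI' ▸ Ideal.subset_span ⟨i, rfl⟩)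
  choose a' haI ha using hlift
  refine ⟨a', ha, le_antisymm ?_ (Ideal.span_le.mpr (by rintro _ ⟨i, rfl⟩; exact haI i))⟩
  have hle : I' ≤ Ideal.span (Set.range a') ⊔ J.map (algebraMap C' A') • I' := by
    intro z hz
    have hz' : Ideal.Quotient.mk (J.map (algebraMap C' A')) z ∈
        (Ideal.span (Set.range a')).map (Ideal.Quotient.mk (J.map (algebraMap C' A'))) := by
      rw [Ideal.map_span, ← Set.range_comp,
        show (⇑(Ideal.Quotient.mk (J.map (algebraMap C' A'))) ∘ a') = a from funext ha, ← hI']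
      exact Ideal.mem_map_of_mem _ hz
    rw [← Ideal.mem_comap, Ideal.comap_map_of_surjective' _ Ideal.Quotient.mk_surjective, Ideal.mk_ker] at hz'
    obtain ⟨l, hl, n, hn, hln⟩ := Submodule.mem_sup.mp hz'
    have hnI : n ∈ I' := by
      rw [eq_sub_of_add_eq' hln]
      exact I'.sub_mem hz (Ideal.span_le.mpr (by rintro _ ⟨i, rfl⟩; exact haI i) hl)
    rw [← hln, smul_eq_mul, mul_comm]
    exact Submodule.add_mem_sup hl (mem_smul_of_flat_quotient I' J hn hnI)
  refine Submodule.le_of_le_smul_of_le_jacobson_bot (IsNoetherian.noetherian I') ?_ hle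
  rw [IsLocalRing.jacobson_eq_maximalIdeal (⊥ : Ideal A') bot_ne_top]
  refine (Ideal.map_mono (IsLocalRing.le_maximalIdeal hJne)).trans (IsLocalRing.le_maximalIdeal fun h => ?_)
  rw [h, ← Ideal.one_eq_top, one_pow] at hk
  exact one_ne_zero hk

end Groth.Agent.S11455
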