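import Groth.Statements.S11456
import Mathlib
import Groth.Agent.ArtinFlat.RegSeq

set_option autoImplicit false
universe u
open DefT

namespace Groth.Agent.S11456

open Groth.Agent.ArtinFlat

/-- Let C be a local Artin ring with maximal ideal m, A a flat C-algebra such that A₀ = A/mA is a
Cohen–Macaulay local ring, and I ⊆ A an ideal with A/I flat over C whose image in A₀ is generated by
a regular sequence b_1, …, b_r on A₀. Then I is generated by r elements a_1, …, a_r forming a
regular sequence on A (so the Koszul complex on the a_i resolves A/I). -/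
theorem result (C : Type u) [CommRing C]
    [IsLocalRing C] [IsArtinianRing C] (A : Type u) [CommRing A] [Algebra C A] [Module.Flat C A]
    [LocCoh.IsCohenMacaulayLocalRing (A ⧸ (IsLocalRing.maximalIdeal C).map (algebraMap C A))]
    (I : Ideal A) [Module.Flat C (A ⧸ I)] (r : ℕ)
    (b : Fin r → A ⧸ (IsLocalRing.maximalIdeal C).map (algebraMap C A))
    (hb : RingTheory.Sequence.IsRegular (A ⧸ (IsLocalRing.maximalIdeal C).map (algebraMap C A)) (List.ofFn b))
    (hI : I.map (Ideal.Quotient.mk ((IsLocalRing.maximalIdeal C).map (algebraMap C A))) = Ideal.span (Set.range b)) :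
    ∃ a : Fin r → A, RingTheory.Sequence.IsRegular A (List.ofFn a) ∧ I = Ideal.span (Set.range a) := by
  obtain ⟨hnil, hN, hL⟩ := deformation_props C A
  haveI := hN
  haveI := hL
  have hlift : ∀ i, ∃ x ∈ I, Ideal.Quotient.mk ((IsLocalRing.maximalIdeal C).map (algebraMap C A)) x = b i := fun i => by
    have : b i ∈ I.map (Ideal.Quotient.mk ((IsLocalRing.maximalIdeal C).map (algebraMap C A))) := hI ▸ Ideal.subset_span ⟨i, rfl⟩
    exact (Ideal.mem_map_iff_of_surjective _ Ideal.Quotient.mk_surjective).mp this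
  choose a haI hab using hlift
  have hmap : (List.ofFn a).map (Ideal.Quotient.mk ((IsLocalRing.maximalIdeal C).map (algebraMap C A))) = List.ofFn b := by
    rw [List.map_ofFn]; exact congrArg List.ofFn (funext hab)
  have h1 := (isWeaklyRegular_iff_regMod _).mp hb.toIsWeaklyRegular
  rw [← hmap] at h1
  have h2 := regMod_comap Ideal.Quotient.mk_surjective _ _ h1
  rw [← RingHom.ker_eq_comap_bot, Ideal.mk_ker] at h2
  obtain ⟨-, hr⟩ := ascend (C := C) (List.ofFn a) h2
  have hne : Ideal.ofList (List.ofFn a) ≠ ⊤ := by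
    intro h
    refine hb.top_ne_smul ?_
    rw [← hmap, ← Ideal.map_ofList, h, Ideal.map_top, smul_eq_mul, Ideal.mul_top]
  refine ⟨a, isRegular_of_regMod (hr ⊥) hne, le_antisymm ?_ (Ideal.span_le.mpr (by rintro _ ⟨i, rfl⟩; exact haI i))⟩
  have hle : I ≤ Ideal.span (Set.range a) ⊔ ((IsLocalRing.maximalIdeal C).map (algebraMap C A)) • I := by
    intro z hz
    have hz' : Ideal.Quotient.mk ((IsLocalRing.maximalIdeal C).map (algebraMap C A)) z ∈ (Ideal.span (Set.range a)).map (Ideal.Quotient.mk ((IsLocalRing.maximalIdeal C).map (algebraMap C A))) := by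
      rw [Ideal.map_span, ← Set.range_comp, show (⇑(Ideal.Quotient.mk ((IsLocalRing.maximalIdeal C).map (algebraMap C A))) ∘ a) = b from funext hab, ← hI]
      exact Ideal.mem_map_of_mem _ hz
    rw [← Ideal.mem_comap, Ideal.comap_map_of_surjective' _ Ideal.Quotient.mk_surjective, Ideal.mk_ker] at hz'
    obtain ⟨l, hl, n, hn, hln⟩ := Submodule.mem_sup.mp hz'
    have hnI : n ∈ I := by
      have : n = z - l := eq_sub_of_add_eq' hln
      rw [this]
      exact I.sub_mem hz (Ideal.span_le.mpr (by rintro _ ⟨i, rfl⟩; exact haI i) hl)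
    rw [← hln, smul_eq_mul, mul_comm ((IsLocalRing.maximalIdeal C).map (algebraMap C A)) I]
    exact Submodule.add_mem_sup hl (mem_smul_of_flat_quotient I (IsLocalRing.maximalIdeal C) hn hnI)
  refine Submodule.le_of_le_smul_of_le_jacobson_bot (IsNoetherian.noetherian I) ?_ hle
  rw [IsLocalRing.jacobson_eq_maximalIdeal (⊥ : Ideal A) bot_ne_top]
  refine IsLocalRing.le_maximalIdeal fun h => ?_
  obtain ⟨k, hk⟩ := hnil
  rw [h] at hk
  rw [← Ideal.one_eq_top, one_pow] at hk
  exact one_ne_zero hk

end Groth.Agent.S11456
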