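import Groth.Statements.S11457
import Mathlib
import Groth.Agent.ArtinFlat.RegSeq

set_option autoImplicit false
universe u
open DefT

namespace Groth.Agent.S11457

open Groth.Agent.ArtinFlat

open TensorProduct

theorem sum_minor_mulVec {A : Type u} [CommRing A] {r : ℕ} (φ : Matrix (Fin (r + 1)) (Fin r) A) (v : Fin r → A) :
    ∑ i : Fin (r + 1), φ.mulVec v i * ((-1 : A) ^ (i : ℕ) * (φ.submatrix i.succAbove id).det) = 0 := by
  have key : ∀ c : Fin r, ∑ i : Fin (r + 1), φ i c * ((-1 : A) ^ (i : ℕ) * (φ.submatrix i.succAbove id).det) = 0 := by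
    intro c
    let M : Matrix (Fin (r + 1)) (Fin (r + 1)) A := Matrix.of fun i j => Fin.cases (φ i c) (φ i) j
    have h0 : M.det = 0 := Matrix.det_zero_of_column_eq (Fin.succ_ne_zero c).symm (fun i => by simp [M])
    rw [Matrix.det_succ_column_zero] at h0
    rw [← h0]
    refine Finset.sum_congr rfl fun i _ => ?_
    have h1 : M.submatrix i.succAbove Fin.succ = φ.submatrix i.succAbove id := by ext a b; simp [M]
    have h2 : M i 0 = φ i c := by simp [M]
    rw [h1, h2]
    ring
  simp only [Matrix.mulVec, dotProduct, Finset.sum_mul]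
  rw [Finset.sum_comm]
  refine Finset.sum_eq_zero fun c _ => ?_
  calc ∑ i : Fin (r + 1), φ i c * v c * ((-1 : A) ^ (i : ℕ) * (φ.submatrix i.succAbove id).det)
      = v c * ∑ i : Fin (r + 1), φ i c * ((-1 : A) ^ (i : ℕ) * (φ.submatrix i.succAbove id).det) := by
        rw [Finset.mul_sum]; exact Finset.sum_congr rfl fun i _ => by ring
    _ = 0 := by rw [key, mul_zero]

theorem exists_sum_of_mem_span_mul {A : Type u} [CommRing A] {n : ℕ} (f : Fin n → A) (N : Ideal A) {x : A}
    (hx : x ∈ Ideal.span (Set.range f) * N) : ∃ g : Fin n → A, (∀ k, g k ∈ N) ∧ ∑ k, g k * f k = x := by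
  refine Submodule.mul_induction_on hx (fun a ha b hb => ?_) ?_
  · obtain ⟨c, rfl⟩ := Ideal.mem_span_range_iff_exists_fun.mp ha
    exact ⟨fun k => c k * b, fun k => N.mul_mem_left _ hb, by
      rw [Finset.sum_mul]; exact Finset.sum_congr rfl fun k _ => by ring⟩
  · rintro a b ⟨g, hg, rfl⟩ ⟨g', hg', rfl⟩
    exact ⟨g + g', fun k => N.add_mem (hg k) (hg' k), by simp [add_mul, Finset.sum_add_distrib]⟩

theorem flat_of_flat_quotient_ideal {C : Type u} [CommRing C] {A : Type u} [CommRing A] [Algebra C A]
    [Module.Flat C A] (F : Ideal A) [Module.Flat C (A ⧸ F)] : Module.Flat C F := by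
  have hex : Function.Exact (F.subtype.restrictScalars C) (Ideal.Quotient.mkₐ C F).toLinearMap := by
    intro b
    show Ideal.Quotient.mk F b = 0 ↔ _
    rw [Ideal.Quotient.eq_zero_iff_mem]
    exact ⟨fun hb => ⟨⟨b, hb⟩, rfl⟩, fun ⟨k, hk⟩ => hk ▸ k.2⟩
  rw [Module.Flat.iff_lTensor_injective']
  intro I
  have h1 := LinearMap.lTensor_injective_of_exact_of_flat _ (Ideal.Quotient.mkₐ_surjective C F)
    (F.subtype.restrictScalars C) Subtype.val_injective hex I
  rw [LinearMap.lTensor_inj_iff_rTensor_inj] at h1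
  have h2 := Module.Flat.iff_lTensor_injective'.mp (inferInstance : Module.Flat C A) I
  have key : ∀ z, (F.subtype.restrictScalars C).rTensor C (I.subtype.lTensor F z) =
      I.subtype.lTensor A ((F.subtype.restrictScalars C).rTensor I z) := fun z => by
    simp only [← LinearMap.comp_apply, LinearMap.rTensor_comp_lTensor, LinearMap.lTensor_comp_rTensor]
  intro a b hab
  refine h1 (h2 ?_)
  rw [← key, ← key, hab]

variable {C : Type u} [CommRing C] {A : Type u} [CommRing A] [Algebra C A] {r : ℕ}

/-- The complex `A^r → A^(r+1) → A` is exact modulo `I`. -/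
def ExactMod (φ : Matrix (Fin (r + 1)) (Fin r) A) (f : Fin (r + 1) → A) (K : Ideal A) : Prop :=
  (∀ v : Fin r → A, (∀ k, φ.mulVec v k ∈ K) → ∀ c, v c ∈ K) ∧
    ∀ w : Fin (r + 1) → A, ∑ k, w k * f k ∈ K → ∃ u, ∀ k, w k - φ.mulVec u k ∈ K

theorem descend_complex [IsNoetherianRing C] [Module.Flat C A] (φ : Matrix (Fin (r + 1)) (Fin r) A)
    (f : Fin (r + 1) → A) (hφf : ∀ v, ∑ k, φ.mulVec v k * f k = 0)
    (hinj : Function.Injective φ.mulVec) (hex : ∀ w, ∑ k, w k * f k = 0 → ∃ u, φ.mulVec u = w)
    [Module.Flat C (A ⧸ Ideal.span (Set.range f))] (I : Ideal C) : ExactMod φ f (I.map (algebraMap C A)) := by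
  refine ⟨fun v hv => ?_, fun w hw => ?_⟩
  · haveI := flat_of_flat_quotient_ideal (C := C) (Ideal.span (Set.range f))
    obtain ⟨n, c, hc⟩ := Submodule.fg_iff_exists_fin_generating_family.mp (IsNoetherian.noetherian I)
    have hcI : ∀ l, c l ∈ I := fun l => hc.le (Submodule.subset_span ⟨l, rfl⟩)
    have hmap : I.map (algebraMap C A) = Ideal.span (Set.range fun l => algebraMap C A (c l)) := by
      conv_lhs => rw [← hc, ← Ideal.span, Ideal.map_span, ← Set.range_comp]
      rfl
    choose b hb using fun k => Ideal.mem_span_range_iff_exists_fun.mp (hmap ▸ hv k)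
    let x : Fin n → Ideal.span (Set.range f) := fun l =>
      ⟨∑ k, b k l * f k, Ideal.sum_mem _ fun k _ => Ideal.mul_mem_left _ _ (Ideal.subset_span ⟨k, rfl⟩)⟩
    have hrel : ∑ l, c l • x l = 0 := by
      apply (Ideal.span (Set.range f)).subtype_injective
      rw [map_sum, map_zero]
      show ∑ l, c l • (∑ k, b k l * f k) = 0
      simp only [Algebra.smul_def, Finset.mul_sum]
      rw [Finset.sum_comm, ← hφf v]
      refine Finset.sum_congr rfl fun k _ => ?_
      rw [← hb k, Finset.sum_mul]
      exact Finset.sum_congr rfl fun l _ => by ring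
    obtain ⟨κ, α, y, hy, hα⟩ :=
      Module.Flat.isTrivialRelation_of_sum_smul_eq_zero (R := C) (M := Ideal.span (Set.range f)) (f := c) (x := x) hrel
    choose w hw using fun j : Fin κ => Ideal.mem_span_range_iff_exists_fun.mp (y j).2
    have hu : ∀ l, ∃ u, φ.mulVec u = fun k => b k l - ∑ j, algebraMap C A (α l j) * w j k := by
      intro l
      refine hex _ ?_
      have h1 : ∑ k, b k l * f k = ∑ j, algebraMap C A (α l j) * (y j : A) := by
        have := congrArg (Ideal.span (Set.range f)).subtype (hy l)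
        rw [map_sum] at this
        simpa [x, Algebra.smul_def] using this
      simp only [sub_mul, Finset.sum_sub_distrib, h1, Finset.sum_mul, sub_eq_zero]
      rw [Finset.sum_comm]
      refine Finset.sum_congr rfl fun j _ => ?_
      rw [← hw j, Finset.mul_sum]
      exact Finset.sum_congr rfl fun k _ => by ring
    choose u hu using hu
    have hv' : v = ∑ l, algebraMap C A (c l) • u l := by
      apply hinj
      rw [Matrix.mulVec_sum]
      funext k
      simp only [Finset.sum_apply, Matrix.mulVec_smul, Pi.smul_apply, smul_eq_mul, hu, mul_sub,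
        Finset.sum_sub_distrib, ← hb k, Finset.mul_sum]
      rw [Finset.sum_comm, eq_comm, sub_eq_iff_eq_add]
      have hz : ∑ j, ∑ l, algebraMap C A (c l) * (algebraMap C A (α l j) * w j k) = 0 := by
        refine Finset.sum_eq_zero fun j _ => ?_
        rw [Finset.sum_congr rfl fun l _ => (mul_assoc _ _ _).symm, ← Finset.sum_mul]
        have h0 : ∑ l, algebraMap C A (c l) * algebraMap C A (α l j) = 0 := by
          simp only [← map_mul, ← map_sum]
          rw [← map_zero (algebraMap C A), ← hα j]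
        rw [h0, zero_mul]
      rw [hz, add_zero]
      exact Finset.sum_congr rfl fun l _ => mul_comm _ _
    intro c'
    rw [hv', Finset.sum_apply]
    exact Ideal.sum_mem _ fun l _ => Ideal.mul_mem_right _ _ (Ideal.mem_map_of_mem _ (hcI l))
  · obtain ⟨g, hg, hgw⟩ := exists_sum_of_mem_span_mul f _ (mem_smul_of_flat_quotient (C := C) (Ideal.span (Set.range f)) I hw
      (Ideal.sum_mem _ fun k _ => Ideal.mul_mem_left _ _ (Ideal.subset_span ⟨k, rfl⟩)))
    obtain ⟨u, hu⟩ := hex (fun k => w k - g k) (by simp [sub_mul, Finset.sum_sub_distrib, hgw])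
    exact ⟨u, fun k => by rw [congrFun hu k, sub_sub_cancel]; exact hg k⟩

theorem ascend_complex [IsLocalRing C] [IsArtinianRing C] [Module.Flat C A] (φ : Matrix (Fin (r + 1)) (Fin r) A)
    (f : Fin (r + 1) → A) (hφf : ∀ v, ∑ k, φ.mulVec v k * f k = 0)
    (h0 : ExactMod φ f ((IsLocalRing.maximalIdeal C).map (algebraMap C A))) :
    Function.Injective φ.mulVec ∧ (∀ w, ∑ k, w k * f k = 0 → ∃ u, φ.mulVec u = w) ∧
      Module.Flat C (A ⧸ Ideal.span (Set.range f)) := by
  have hall : ∀ I : Ideal C, ExactMod φ f (I.map (algebraMap C A)) := by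
    intro I
    induction I using WellFoundedGT.induction with
    | ind I ih =>
    rcases eq_or_ne I ⊤ with rfl | hI
    · rw [Ideal.map_top]
      exact ⟨fun _ _ _ => trivial, fun w _ => ⟨0, fun _ => trivial⟩⟩
    obtain ⟨a, haI, hma⟩ := CodimOneFlat.exists_succ hI
    have hlt : I < I ⊔ Ideal.span {a} := lt_of_le_not_ge le_sup_left fun h =>
      haI (h (Ideal.mem_sup_right (Ideal.mem_span_singleton_self a)))
    have hmem : ∀ y, y ∈ (I ⊔ Ideal.span {a}).map (algebraMap C A) →
        ∃ n, y - algebraMap C A a * n ∈ I.map (algebraMap C A) := by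
      intro y hy
      rw [Ideal.map_sup, Ideal.map_span, Set.image_singleton] at hy
      obtain ⟨i, hi, t, ht, rfl⟩ := Submodule.mem_sup.mp hy
      obtain ⟨n, rfl⟩ := Ideal.mem_span_singleton'.mp ht
      exact ⟨n, by rwa [mul_comm, add_sub_cancel_right]⟩
    have ham : ∀ y ∈ (IsLocalRing.maximalIdeal C).map (algebraMap C A),
        algebraMap C A a * y ∈ I.map (algebraMap C A) := by
      intro y hy
      have h1 := Ideal.mul_mem_mul (Ideal.mem_map_of_mem (algebraMap C A) (Ideal.mem_span_singleton_self a)) hy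
      rw [← Ideal.map_mul] at h1
      refine Ideal.map_mono (Ideal.span_singleton_mul_le_iff.mpr fun μ hμ => ?_) h1
      rw [mul_comm]
      exact hma μ hμ
    have hsum : ∀ (w : Fin (r + 1) → A) (n : Fin (r + 1) → A),
        (∀ k, w k - algebraMap C A a * n k ∈ I.map (algebraMap C A)) →
        ∑ k, w k * f k - algebraMap C A a * ∑ k, n k * f k ∈ I.map (algebraMap C A) := by
      intro w n h
      rw [Finset.mul_sum, ← Finset.sum_sub_distrib]
      refine Ideal.sum_mem _ fun k _ => ?_
      rw [← mul_assoc, ← sub_mul]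
      exact Ideal.mul_mem_right _ _ (h k)
    obtain ⟨ha1, ha2⟩ := ih _ hlt
    refine ⟨fun v hv c => ?_, fun w hw => ?_⟩
    · choose n hn using fun c => hmem _ (ha1 v (fun k => Ideal.map_mono le_sup_left (hv k)) c)
      have h1 : ∀ k, algebraMap C A a * φ.mulVec n k ∈ I.map (algebraMap C A) := fun k => by
        have h2 : φ.mulVec v k - algebraMap C A a * φ.mulVec n k ∈ I.map (algebraMap C A) := by
          simp only [Matrix.mulVec, dotProduct, Finset.mul_sum, ← Finset.sum_sub_distrib]
          refine Ideal.sum_mem _ fun l _ => ?_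
          rw [mul_left_comm, ← mul_sub]
          exact Ideal.mul_mem_left _ _ (hn l)
        simpa using (I.map (algebraMap C A)).sub_mem (hv k) h2
      have h3 := h0.1 n (fun k => CodimOneFlat.mem_map_maximalIdeal_of_mul_mem haI (h1 k))
      simpa using add_mem (hn c) (ham _ (h3 c))
    · obtain ⟨u, hu⟩ := ha2 w (Ideal.map_mono le_sup_left hw)
      choose n hn using fun k => hmem _ (hu k)
      have h1 : algebraMap C A a * ∑ k, n k * f k ∈ I.map (algebraMap C A) := by
        have h2 := hsum _ _ hn
        simp only [sub_mul, Finset.sum_sub_distrib, hφf u, sub_zero] at h2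
        simpa using (I.map (algebraMap C A)).sub_mem hw h2
      obtain ⟨u', hu'⟩ := h0.2 n (CodimOneFlat.mem_map_maximalIdeal_of_mul_mem haI h1)
      refine ⟨u + algebraMap C A a • u', fun k => ?_⟩
      rw [Matrix.mulVec_add, Matrix.mulVec_smul, Pi.add_apply, Pi.smul_apply, smul_eq_mul]
      convert add_mem (hn k) (ham _ (hu' k)) using 1
      ring
  refine ⟨fun v v' hvv => ?_, fun w hw => ?_, ?_⟩
  · funext c
    have := (hall ⊥).1 (v - v') (fun k => by rw [Matrix.mulVec_sub, hvv, sub_self]; exact Submodule.zero_mem _) c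
    rwa [Ideal.map_bot, Ideal.mem_bot, Pi.sub_apply, sub_eq_zero] at this
  · obtain ⟨u, hu⟩ := (hall ⊥).2 w (by rw [hw]; exact Submodule.zero_mem _)
    refine ⟨u, funext fun k => ?_⟩
    have := hu k
    rw [Ideal.map_bot, Ideal.mem_bot, sub_eq_zero] at this
    exact this.symm
  · rw [flat_iff]
    intro I
    rw [injective_iff_map_eq_zero]
    intro q hq
    obtain ⟨z, rfl⟩ := LinearMap.rTensor_surjective
      (g := (Ideal.Quotient.mkₐ C (Ideal.span (Set.range f))).toLinearMap) I
      (Ideal.Quotient.mkₐ_surjective C (Ideal.span (Set.range f))) q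
    rw [mu_mk, Ideal.Quotient.eq_zero_iff_mem] at hq
    obtain ⟨w, hw⟩ := Ideal.mem_span_range_iff_exists_fun.mp hq
    obtain ⟨u, hu⟩ := (hall I).2 w (by rw [hw]; exact mu_mem I z)
    choose zk hzk using fun k => exists_mu I (hu k)
    have hz : z = ∑ k, f k • zk k := flat_iff.mp inferInstance I (by
      rw [map_sum]
      simp only [map_smul, smul_eq_mul, hzk, mul_sub, Finset.sum_sub_distrib]
      rw [Finset.sum_congr rfl (fun k _ => mul_comm (f k) (φ.mulVec u k)), hφf u, sub_zero, ← hw]
      exact Finset.sum_congr rfl fun k _ => mul_comm _ _)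
    have key : ∀ (k) (t : A ⊗[C] I),
        (Ideal.Quotient.mkₐ C (Ideal.span (Set.range f))).toLinearMap.rTensor I (f k • t) = 0 := by
      intro k t
      induction t with
      | zero => simp
      | add a b ha hb => rw [smul_add, map_add, ha, hb, add_zero]
      | tmul b i =>
        rw [TensorProduct.smul_tmul', LinearMap.rTensor_tmul]
        have : (Ideal.Quotient.mkₐ C (Ideal.span (Set.range f))).toLinearMap (f k • b) = 0 :=
          Ideal.Quotient.eq_zero_iff_mem.mpr (Ideal.mul_mem_right _ _ (Ideal.subset_span ⟨k, rfl⟩))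
        rw [this, zero_tmul]
    rw [hz, map_sum]
    exact Finset.sum_eq_zero fun k _ => key k _


/-- Let C' be a local Artin ring, J ⊊ C' a proper ideal annihilated by the maximal ideal, C = C'/J, A' a
flat C'-algebra of finite type with smooth special fibre, and A = A'/JA'. Let φ be an (r+1) × r
matrix over A such that 0 → A^r → A^{r+1} → A is exact, the second map sending v to Σ_i v_i f_i with
f_i = (−1)^i det(φ with row i removed), and such that A/(f_0, …, f_r) is flat over C. Then every
matrix φ' over A' lifting φ has the same property over A': multiplication by φ' is injective, its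
image is the kernel of the map given by the signed maximal minors f'_i of φ', and A'/(f'_0, …, f'_r)
is flat over C' (its reduction to A is A/(f_0, …, f_r) since minors commute with reduction). -/
theorem result (C' : Type u) [CommRing C'] [IsLocalRing C'] [IsArtinianRing C'] (J : Ideal C')
    (hJ : IsLocalRing.maximalIdeal C' * J = ⊥) (hJne : J ≠ ⊤) (A' : Type u) [CommRing A'] [Algebra C' A'] [Module.Flat C' A']
    [Algebra.FiniteType C' A']
    [Algebra.Smooth (C' ⧸ IsLocalRing.maximalIdeal C') (A' ⧸ (IsLocalRing.maximalIdeal C').map (algebraMap C' A'))]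
    (r : ℕ) (φ' : Matrix (Fin (r + 1)) (Fin r) A')
    (hφ : (Function.Injective (φ'.map (Ideal.Quotient.mk (J.map (algebraMap C' A')))).mulVecLin ∧
        LinearMap.range (φ'.map (Ideal.Quotient.mk (J.map (algebraMap C' A')))).mulVecLin = LinearMap.ker (Fintype.linearCombination (A' ⧸ J.map (algebraMap C' A')) (fun i : Fin (r + 1) => (-1 : (A' ⧸ J.map (algebraMap C' A'))) ^ (i : ℕ) * ((φ'.map (Ideal.Quotient.mk (J.map (algebraMap C' A')))).submatrix i.succAbove id).det))))
    [Module.Flat (C' ⧸ J) ((A' ⧸ J.map (algebraMap C' A')) ⧸ Ideal.span (Set.range (fun i : Fin (r + 1) => (-1 : (A' ⧸ J.map (algebraMap C' A'))) ^ (i : ℕ) * ((φ'.map (Ideal.Quotient.mk (J.map (algebraMap C' A')))).submatrix i.succAbove id).det)))] :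
    Function.Injective φ'.mulVecLin ∧
      LinearMap.range φ'.mulVecLin = LinearMap.ker (Fintype.linearCombination A' (fun i : Fin (r + 1) => (-1 : A') ^ (i : ℕ) * ((φ').submatrix i.succAbove id).det)) ∧
      Module.Flat C' (A' ⧸ Ideal.span (Set.range (fun i : Fin (r + 1) => (-1 : A') ^ (i : ℕ) * ((φ').submatrix i.succAbove id).det))) := by
  let π := Ideal.Quotient.mk (J.map (algebraMap C' A'))
  obtain ⟨hinj, hrange⟩ := hφ
  let f : Fin (r + 1) → A' := fun i => (-1 : A') ^ (i : ℕ) * ((φ').submatrix i.succAbove id).det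
  let fb : Fin (r + 1) → A' ⧸ J.map (algebraMap C' A') :=
    fun i => (-1 : A' ⧸ J.map (algebraMap C' A')) ^ (i : ℕ) * ((φ'.map π).submatrix i.succAbove id).det
  have hfb : ∀ i, π (f i) = fb i := fun i => by
    show π ((-1 : A') ^ (i : ℕ) * _) = _
    rw [map_mul, map_pow, map_neg, map_one, RingHom.map_det]
    rfl
  have hmv : ∀ v : Fin r → A', ∀ k, π (φ'.mulVec v k) = (φ'.map π).mulVec (fun c => π (v c)) k := fun v k => by
    rw [RingHom.map_mulVec]; rfl
  have hex : ∀ w, ∑ k, w k * fb k = 0 → ∃ u, (φ'.map π).mulVec u = w := by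
    intro w hw
    have hw' : w ∈ LinearMap.range (φ'.map π).mulVecLin := by
      rw [hrange, LinearMap.mem_ker]
      simpa [Fintype.linearCombination_apply] using hw
    exact hw'
  haveI : Module.Flat (C' ⧸ J) (A' ⧸ J.map (algebraMap C' A')) := by
    haveI := Module.Flat.baseChange C' (C' ⧸ J) A'
    exact Module.Flat.of_linearEquiv ((Algebra.TensorProduct.quotIdealMapEquivTensorQuot A' J).toLinearEquiv.restrictScalars C' ≪≫ₗ
      TensorProduct.comm C' A' (C' ⧸ J) |>.extendScalarsOfSurjective Ideal.Quotient.mk_surjective)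
  haveI : Module.Flat (C' ⧸ J) ((A' ⧸ J.map (algebraMap C' A')) ⧸ Ideal.span (Set.range fb)) := ‹_›
  have hd := descend_complex (C := C' ⧸ J) (φ'.map π) fb (sum_minor_mulVec (φ'.map π)) hinj hex
    ((IsLocalRing.maximalIdeal C').map (Ideal.Quotient.mk J))
  have e : ∀ y : A', π y ∈ ((IsLocalRing.maximalIdeal C').map (Ideal.Quotient.mk J)).map
      (algebraMap (C' ⧸ J) (A' ⧸ J.map (algebraMap C' A'))) ↔ y ∈ (IsLocalRing.maximalIdeal C').map (algebraMap C' A') := by
    intro y
    rw [Ideal.map_map, show (algebraMap (C' ⧸ J) (A' ⧸ J.map (algebraMap C' A'))).comp (Ideal.Quotient.mk J) =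
        π.comp (algebraMap C' A') from RingHom.ext fun _ => rfl, ← Ideal.map_map, ← Ideal.mem_comap,
      Ideal.comap_map_of_surjective' _ Ideal.Quotient.mk_surjective, Ideal.mk_ker,
      sup_eq_left.mpr (Ideal.map_mono (IsLocalRing.le_maximalIdeal hJne))]
  have h0 : ExactMod φ' f ((IsLocalRing.maximalIdeal C').map (algebraMap C' A')) := by
    refine ⟨fun v hv c => (e _).mp (hd.1 (fun c => π (v c)) (fun k => ?_) c), fun w hw => ?_⟩
    · rw [← hmv]; exact (e _).mpr (hv k)
    · obtain ⟨u, hu⟩ := hd.2 (fun k => π (w k)) (by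
        have := (e _).mpr hw
        rw [map_sum] at this
        simpa only [map_mul, hfb] using this)
      choose u₀ hu₀ using fun c => Ideal.Quotient.mk_surjective (u c)
      refine ⟨u₀, fun k => (e _).mp ?_⟩
      rw [map_sub, hmv, show (fun c => π (u₀ c)) = u from funext hu₀]
      exact hu k
  obtain ⟨h1, h2, h3⟩ := ascend_complex φ' f (sum_minor_mulVec φ') h0
  refine ⟨h1, le_antisymm ?_ fun w hw => ?_, h3⟩
  · rintro _ ⟨v, rfl⟩
    rw [LinearMap.mem_ker]
    simpa [Fintype.linearCombination_apply, f] using sum_minor_mulVec φ' v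
  · obtain ⟨u, hu⟩ := h2 w (by simpa [Fintype.linearCombination_apply, f] using hw)
    exact ⟨u, hu⟩

end Groth.Agent.S11457
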