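import Groth.Statements.S11458
import Mathlib
import Groth.Agent.ArtinFlat.HB
import Groth.Agent.S11457

set_option autoImplicit false
universe u
open DefT

namespace Groth.Agent.S11458

open Groth.Agent.ArtinFlat Groth.Agent.ArtinFlat.HB

/-- Let C be a local Artin ring with maximal ideal m, A a flat C-algebra of finite type whose special
fibre A₀ = A/mA is smooth over C/m, and I ⊆ A an ideal with A/I flat over C whose image I₀ in A₀ has
height ≥ 2 at every prime containing it (A₀/I₀ of codimension 2) and is generated by the signed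
maximal minors of an (r+1) × r matrix φ₀ over A₀ for which 0 → A₀^r → A₀^{r+1} → A₀ (matrix, then
minors) is exact. Then there is an (r+1) × r matrix φ over A whose signed maximal minors generate I
and for which 0 → A^r → A^{r+1} → A is exact, so that 0 → A^r → A^{r+1} → A → A/I → 0 is a
resolution. -/
theorem result (C : Type u) [CommRing C]
    [IsLocalRing C] [IsArtinianRing C] (A : Type u) [CommRing A] [Algebra C A] [Module.Flat C A]
    [Algebra.FiniteType C A]
    [Algebra.Smooth (C ⧸ IsLocalRing.maximalIdeal C) (A ⧸ (IsLocalRing.maximalIdeal C).map (algebraMap C A))]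
    (I : Ideal A) [Module.Flat C (A ⧸ I)]
    (hcodim : ∀ p : Ideal (A ⧸ (IsLocalRing.maximalIdeal C).map (algebraMap C A)), p.IsPrime →
      I.map (Ideal.Quotient.mk ((IsLocalRing.maximalIdeal C).map (algebraMap C A))) ≤ p → (2 : ℕ∞) ≤ p.height)
    (r : ℕ)
    (φ₀ : Matrix (Fin (r + 1)) (Fin r) (A ⧸ (IsLocalRing.maximalIdeal C).map (algebraMap C A)))
    (h₀ : (Ideal.span (Set.range (fun i : Fin (r + 1) => (-1 : (A ⧸ (IsLocalRing.maximalIdeal C).map (algebraMap C A))) ^ (i : ℕ) * ((φ₀).submatrix i.succAbove id).det)) = I.map (Ideal.Quotient.mk ((IsLocalRing.maximalIdeal C).map (algebraMap C A))) ∧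
        Function.Injective (φ₀).mulVecLin ∧
        LinearMap.range (φ₀).mulVecLin = LinearMap.ker (Fintype.linearCombination (A ⧸ (IsLocalRing.maximalIdeal C).map (algebraMap C A)) (fun i : Fin (r + 1) => (-1 : (A ⧸ (IsLocalRing.maximalIdeal C).map (algebraMap C A))) ^ (i : ℕ) * ((φ₀).submatrix i.succAbove id).det)))) :
    ∃ φ : Matrix (Fin (r + 1)) (Fin r) A, (Ideal.span (Set.range (fun i : Fin (r + 1) => (-1 : A) ^ (i : ℕ) * ((φ).submatrix i.succAbove id).det)) = I ∧
        Function.Injective (φ).mulVecLin ∧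
        LinearMap.range (φ).mulVecLin = LinearMap.ker (Fintype.linearCombination A (fun i : Fin (r + 1) => (-1 : A) ^ (i : ℕ) * ((φ).submatrix i.succAbove id).det))) := by
  letI : Field (C ⧸ IsLocalRing.maximalIdeal C) := Ideal.Quotient.field _
  haveI := isRegularRing_of_smooth (C ⧸ IsLocalRing.maximalIdeal C) (A ⧸ (IsLocalRing.maximalIdeal C).map (algebraMap C A))
  obtain ⟨hspan, hinj, hrange⟩ := h₀
  obtain ⟨a, ha, b, hb, hareg, hbreg⟩ := exists_pair (Ideal.span (Set.range (minors φ₀)))
    (fun p hp hle => hcodim p hp (hspan ▸ hle))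
  choose φ hφ using fun i j => Ideal.Quotient.mk_surjective (φ₀ i j)
  have hmap : (Matrix.of φ).map (Ideal.Quotient.mk ((IsLocalRing.maximalIdeal C).map (algebraMap C A))) = φ₀ := by
    ext i j; exact hφ i j
  have hI : Ideal.span (Set.range (minors (Matrix.of φ))) ⊔ (IsLocalRing.maximalIdeal C).map (algebraMap C A) =
      I ⊔ (IsLocalRing.maximalIdeal C).map (algebraMap C A) := by
    have h := congrArg (Ideal.comap (Ideal.Quotient.mk ((IsLocalRing.maximalIdeal C).map (algebraMap C A)))) hspan
    rw [Ideal.comap_map_of_surjective' _ Ideal.Quotient.mk_surjective, Ideal.mk_ker] at h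
    rw [← h]
    change _ = Ideal.comap _ (Ideal.span (Set.range fun i => minors φ₀ i))
    rw [← hmap, show (fun i => minors ((Matrix.of φ).map (Ideal.Quotient.mk ((IsLocalRing.maximalIdeal C).map (algebraMap C A)))) i) =
      ⇑(Ideal.Quotient.mk ((IsLocalRing.maximalIdeal C).map (algebraMap C A))) ∘ minors (Matrix.of φ) from
        funext fun i => (map_minors _ _ i).symm, Set.range_comp, ← Ideal.map_span,
      Ideal.comap_map_of_surjective' _ Ideal.Quotient.mk_surjective, Ideal.mk_ker]
  obtain ⟨φ', -, hφ', hspan'⟩ := exists_lift I φ₀ a b ha hb hareg hbreg _ le_rfl (Matrix.of φ) hmap hI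
  have h0 : S11457.ExactMod φ' (minors φ') ((IsLocalRing.maximalIdeal C).map (algebraMap C A)) := by
    refine ⟨fun v hv c => ?_, fun w hw => ?_⟩
    · have h1 : φ₀.mulVec (fun c => Ideal.Quotient.mk _ (v c)) = 0 := funext fun k => by
        rw [← hφ']
        exact ((RingHom.map_mulVec _ φ' v k).symm.trans (Ideal.Quotient.eq_zero_iff_mem.mpr (hv k)))
      exact Ideal.Quotient.eq_zero_iff_mem.mp (congrFun (hinj (h1.trans (map_zero φ₀.mulVecLin).symm)) c)
    · have h1 : (fun k => Ideal.Quotient.mk _ (w k)) ∈ LinearMap.range φ₀.mulVecLin := by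
        rw [hrange, LinearMap.mem_ker, Fintype.linearCombination_apply]
        have h2 := Ideal.Quotient.eq_zero_iff_mem.mpr hw
        rw [map_sum] at h2
        simp only [map_mul, map_minors, hφ'] at h2
        exact h2
      obtain ⟨u, hu⟩ := h1
      choose u₀ hu₀ using fun c => Ideal.Quotient.mk_surjective (u c)
      refine ⟨u₀, fun k => Ideal.Quotient.eq.mp ?_⟩
      rw [RingHom.map_mulVec, show (⇑(Ideal.Quotient.mk _) ∘ u₀) = u from funext hu₀, hφ']
      exact (congrFun hu k).symm
  have hsum : ∀ v, ∑ k, φ'.mulVec v k * minors φ' k = 0 := S11457.sum_minor_mulVec φ'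
  obtain ⟨h1, h2, -⟩ := S11457.ascend_complex φ' (minors φ') hsum h0
  refine ⟨φ', hspan', h1, le_antisymm ?_ fun w hw => ?_⟩
  · rintro _ ⟨v, rfl⟩
    rw [LinearMap.mem_ker, Fintype.linearCombination_apply]
    exact hsum v
  · rw [LinearMap.mem_ker, Fintype.linearCombination_apply] at hw
    obtain ⟨u, hu⟩ := h2 w hw
    exact ⟨u, hu⟩

end Groth.Agent.S11458
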