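import Groth.Statements.S11459
import Mathlib
import Groth.Agent.ArtinFlat.HB

set_option autoImplicit false
universe u
open DefT

namespace Groth.Agent.S11459

open Groth.Agent.ArtinFlat Groth.Agent.ArtinFlat.HB

/-- Let C' be a local Artin ring, J ⊊ C' a proper ideal annihilated by the maximal ideal, C = C'/J, A' a
flat C'-algebra of finite type with smooth special fibre, A = A'/JA', and φ an (r+1) × r matrix over
A with 0 → A^r → A^{r+1} → A exact (matrix, then signed maximal minors f_i) A/(f_0, …, f_r) flat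
over C, and every prime of A containing (f_0, …, f_r) of height ≥ 2 (codimension 2). Then any ideal
I' ⊆ A' such that A'/I' is flat over C' and the image of I' in A is (f_0, …, f_r) is generated by
the signed maximal minors of some matrix φ' over A' reducing to φ. -/
theorem result (C' : Type u) [CommRing C'] [IsLocalRing C'] [IsArtinianRing C'] (J : Ideal C')
    (hJ : IsLocalRing.maximalIdeal C' * J = ⊥) (hJne : J ≠ ⊤) (A' : Type u) [CommRing A'] [Algebra C' A'] [Module.Flat C' A']
    [Algebra.FiniteType C' A']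
    [Algebra.Smooth (C' ⧸ IsLocalRing.maximalIdeal C') (A' ⧸ (IsLocalRing.maximalIdeal C').map (algebraMap C' A'))]
    (r : ℕ) (φ : Matrix (Fin (r + 1)) (Fin r) (A' ⧸ J.map (algebraMap C' A')))
    (hφ : Function.Injective φ.mulVecLin ∧
      LinearMap.range φ.mulVecLin = LinearMap.ker (Fintype.linearCombination (A' ⧸ J.map (algebraMap C' A')) (fun i : Fin (r + 1) => (-1 : (A' ⧸ J.map (algebraMap C' A'))) ^ (i : ℕ) * ((φ).submatrix i.succAbove id).det)))
    [Module.Flat (C' ⧸ J) ((A' ⧸ J.map (algebraMap C' A')) ⧸ Ideal.span (Set.range (fun i : Fin (r + 1) => (-1 : (A' ⧸ J.map (algebraMap C' A'))) ^ (i : ℕ) * ((φ).submatrix i.succAbove id).det)))]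
    (hcodim : ∀ p : Ideal (A' ⧸ J.map (algebraMap C' A')), p.IsPrime →
      Ideal.span (Set.range (fun i : Fin (r + 1) => (-1 : (A' ⧸ J.map (algebraMap C' A'))) ^ (i : ℕ) * ((φ).submatrix i.succAbove id).det)) ≤ p → (2 : ℕ∞) ≤ p.height)
    (I' : Ideal A') [Module.Flat C' (A' ⧸ I')]
    (hI' : I'.map (Ideal.Quotient.mk (J.map (algebraMap C' A'))) = Ideal.span (Set.range (fun i : Fin (r + 1) => (-1 : (A' ⧸ J.map (algebraMap C' A'))) ^ (i : ℕ) * ((φ).submatrix i.succAbove id).det))) :
    ∃ φ' : Matrix (Fin (r + 1)) (Fin r) A', φ'.map (Ideal.Quotient.mk (J.map (algebraMap C' A'))) = φ ∧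
      I' = Ideal.span (Set.range (fun i : Fin (r + 1) => (-1 : A') ^ (i : ℕ) * ((φ').submatrix i.succAbove id).det)) := by
  letI : Field (C' ⧸ IsLocalRing.maximalIdeal C') := Ideal.Quotient.field _
  haveI := isRegularRing_of_smooth (C' ⧸ IsLocalRing.maximalIdeal C') (A' ⧸ (IsLocalRing.maximalIdeal C').map (algebraMap C' A'))
  have hJm : J ≤ IsLocalRing.maximalIdeal C' := IsLocalRing.le_maximalIdeal hJne
  let π : A' ⧸ J.map (algebraMap C' A') →+* A' ⧸ (IsLocalRing.maximalIdeal C').map (algebraMap C' A') :=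
    Ideal.Quotient.factor (Ideal.map_mono hJm)
  have hπ : Function.Surjective π := Ideal.Quotient.factor_surjective _
  let φ₀ := φ.map π
  have hmem : ∀ q : PrimeSpectrum (A' ⧸ J.map (algebraMap C' A')), RingHom.ker π ≤ q.asIdeal := by
    intro q y hy
    obtain ⟨n, hn⟩ := CodimOneFlat.maximalIdeal_pow_eq_bot (A := C')
    obtain ⟨z, rfl⟩ := Ideal.Quotient.mk_surjective y
    refine q.2.mem_of_pow_mem n ?_
    have hz : z ∈ (IsLocalRing.maximalIdeal C').map (algebraMap C' A') := Ideal.Quotient.eq_zero_iff_mem.mp hy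
    have := Ideal.pow_mem_pow hz n
    rw [← Ideal.map_pow, hn, Ideal.map_bot, Ideal.mem_bot] at this
    rw [← map_pow, this, map_zero]
    exact q.asIdeal.zero_mem
  have hF₀ : ∀ p : Ideal _, p.IsPrime → Ideal.span (Set.range (minors φ₀)) ≤ p → (2 : ℕ∞) ≤ p.height := by
    intro p hp hle
    let f : PrimeSpectrum (A' ⧸ (IsLocalRing.maximalIdeal C').map (algebraMap C' A')) →
        PrimeSpectrum (A' ⧸ J.map (algebraMap C' A')) := PrimeSpectrum.comap π
    have hf : ∀ q, ∃ q', f q' = q := fun q => by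
      refine ⟨⟨q.asIdeal.map π, Ideal.map_isPrime_of_surjective hπ (hmem q)⟩, PrimeSpectrum.ext ?_⟩
      show (q.asIdeal.map π).comap π = q.asIdeal
      rw [Ideal.comap_map_of_surjective' _ hπ]
      exact sup_eq_left.mpr (hmem q)
    let e := RelIso.ofSurjective (OrderEmbedding.ofMapLEIff f (fun x y => Ideal.comap_le_comap_iff_of_surjective π hπ x.asIdeal y.asIdeal)) hf
    have h1 := hcodim (p.comap π) inferInstance (by
      rw [Ideal.span_le]
      rintro _ ⟨i, rfl⟩
      refine hle ?_
      change π (minors φ i) ∈ _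
      rw [map_minors]
      exact Ideal.subset_span ⟨i, rfl⟩)
    have h2 := PrimeSpectrum.height_eq_orderHeight (f ⟨p, hp⟩)
    have h3 := PrimeSpectrum.height_eq_orderHeight (⟨p, hp⟩ : PrimeSpectrum _)
    exact h1.trans ((h2.trans (Order.height_orderIso e ⟨p, hp⟩)).trans h3.symm).le
  obtain ⟨a, ha, b, hb, hareg, hbreg⟩ := exists_pair _ hF₀
  choose ψ hψ using fun i j => Ideal.Quotient.mk_surjective (φ i j)
  have hψφ : (Matrix.of ψ).map (Ideal.Quotient.mk (J.map (algebraMap C' A'))) = φ := by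
    ext i j; exact hψ i j
  have hmap : (Matrix.of ψ).map (Ideal.Quotient.mk ((IsLocalRing.maximalIdeal C').map (algebraMap C' A'))) = φ₀ := by
    show _ = φ.map π
    rw [← hψφ, Matrix.map_map]
    rfl
  have hI : Ideal.span (Set.range (minors (Matrix.of ψ))) ⊔ J.map (algebraMap C' A') = I' ⊔ J.map (algebraMap C' A') := by
    have h := congrArg (Ideal.comap (Ideal.Quotient.mk (J.map (algebraMap C' A')))) hI'
    rw [Ideal.comap_map_of_surjective' _ Ideal.Quotient.mk_surjective, Ideal.mk_ker] at h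
    rw [h]
    change _ = Ideal.comap _ (Ideal.span (Set.range fun i => minors φ i))
    rw [← hψφ, show (fun i => minors ((Matrix.of ψ).map (Ideal.Quotient.mk (J.map (algebraMap C' A')))) i) =
      ⇑(Ideal.Quotient.mk (J.map (algebraMap C' A'))) ∘ minors (Matrix.of ψ) from
        funext fun i => (map_minors _ _ i).symm, Set.range_comp, ← Ideal.map_span,
      Ideal.comap_map_of_surjective' _ Ideal.Quotient.mk_surjective, Ideal.mk_ker]
  obtain ⟨φ', h3, -, h5⟩ := exists_lift I' φ₀ a b ha hb hareg hbreg J hJm (Matrix.of ψ) hmap hI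
  refine ⟨φ', ?_, h5.symm⟩
  rw [← hψφ]
  ext i j
  exact Ideal.Quotient.eq.mpr (h3 i j)

end Groth.Agent.S11459
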