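import Groth.Statements.S1146
import Groth.Agent.S7552
import Groth.Agent.AlgSpPts.Dim
import Groth.Agent.FibreDim.Topo
import Mathlib


set_option autoImplicit false
open CategoryTheory CategoryTheory.Limits AlgebraicGeometry Opposite
universe u
open Desc

namespace Groth.Agent.S1146

/-- Let f : U ⟶ V be an etale morphism of schemes and u a point of U. Then the local dimension of U at u
(the infimum of the Krull dimensions of open neighbourhoods) equals the local dimension of V at
f(u). -/
theorem result {U V : Scheme.{u}} (f : U ⟶ V) [Etale f] (u : U) :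
    FlatMor.localDim U u = FlatMor.localDim V (f.base u) := by

  have key : ∀ N : Set U, IsOpen N → topologicalKrullDim N = topologicalKrullDim (f '' N) := fun N hN => by
    have hI : IsOpen (f '' N) := f.isOpenMap N hN
    haveI : QuasiSober N := hN.isOpenEmbedding_subtypeVal.quasiSober
    haveI : QuasiSober (f '' N) := hI.isOpenEmbedding_subtypeVal.quasiSober
    let g : N → f '' N := fun x => ⟨f x, x, x.2, rfl⟩
    have hg : Continuous g := (f.continuous.comp continuous_subtype_val).subtype_mk _
    refine le_antisymm (Groth.Agent.AlgSpPts.topologicalKrullDim_le_of_discrete_fibers hg fun y => ?_) ?_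
    · haveI : LocallyQuasiFinite f := Groth.Agent.AlgSpLib.locallyQuasiFinite_of_formallyUnramified f
      exact ((f.isDiscrete_preimage_singleton y.1).preimage continuous_subtype_val.continuousOn
        Subtype.val_injective).mono fun x hx => congrArg Subtype.val hx
    · refine Groth.Agent.S7552.result g hg (fun ⟨_, x, hx, rfl⟩ => ⟨⟨x, hx⟩, rfl⟩) (Or.inr ?_)
      intro a b hb
      obtain ⟨c, hc, hcb⟩ := Flat.generalizingMap f (hb.map continuous_subtype_val)
      exact ⟨⟨c, hc.mem_open hN a.2⟩, (subtype_specializes_iff _ _).2 hc, Subtype.ext hcb⟩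
  refine le_antisymm (Groth.Agent.FibreDim.le_localDim fun O hO hx => ?_)
    (Groth.Agent.FibreDim.le_localDim fun O hO hx => ?_)
  · refine (Groth.Agent.FibreDim.localDim_le (hO.preimage f.continuous) hx).trans ?_
    rw [key _ (hO.preimage f.continuous)]
    exact Groth.Agent.FibreDim.dim_mono (Set.image_preimage_subset _ _)
  · exact (Groth.Agent.FibreDim.localDim_le (f.isOpenMap O hO) ⟨u, hx, rfl⟩).trans_eq (key O hO).symm

end Groth.Agent.S1146
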