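import Groth.Statements.S11461
import Mathlib
-- import your own Groth.Agent.* helpers here

set_option autoImplicit false
universe u
open CategoryTheory
open DefT

namespace Groth.Agent.S11461

/-- Let B be a Noetherian ring and F an additive, B-linear endofunctor of B-modules which preserves
finite generation and is semi-exact on short exact sequences of finitely generated modules (the
image sequence is exact in the middle). If F kills B/m for every maximal ideal m, then F kills every
finitely generated B-module. (The published statement assumes F only additive; this row assumes F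
B-linear, and takes the functor on all B-modules with the hypotheses and the conclusion on the
finitely generated ones.) -/
theorem result (B : Type u) [CommRing B]
    [IsNoetherianRing B] (F : ModuleCat.{u} B ⥤ ModuleCat.{u} B) [F.Additive] [F.Linear B]
    (hfg : ∀ M : ModuleCat.{u} B, Module.Finite B M → Module.Finite B (F.obj M))
    (hex : ∀ S : ShortComplex (ModuleCat.{u} B), S.ShortExact → Module.Finite B S.X₂ → (S.map F).Exact)
    (h0 : ∀ m : Ideal B, m.IsMaximal → Limits.IsZero (F.obj (ModuleCat.of B (B ⧸ m))))
    (M : ModuleCat.{u} B) (hM : Module.Finite B M) : Limits.IsZero (F.obj M) := by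
  have step : ∀ (J : Ideal B),
      (∀ p : PrimeSpectrum B, J ≤ p.asIdeal → Limits.IsZero (F.obj (ModuleCat.of B (B ⧸ p.asIdeal)))) →
      ∀ (N : Type u) [AddCommGroup N] [Module B N], Module.Finite B N →
        (∀ j ∈ J, ∀ x : N, j • x = 0) → Limits.IsZero (F.obj (ModuleCat.of B N)) := by
    intro J hJ N _ _ hN
    induction hN using IsNoetherianRing.induction_on_isQuotientEquivQuotientPrime B with
    | subsingleton N => exact fun _ => F.map_isZero (ModuleCat.isZero_of_subsingleton _)
    | quotient N p e =>
      intro hkill
      refine (hJ p fun j hj => ?_).of_iso (F.mapIso e.toModuleIso)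
      have := hkill j hj (e.symm (Submodule.Quotient.mk 1))
      apply_fun e at this
      rw [map_smul, e.apply_symm_apply, map_zero, ← Submodule.Quotient.mk_smul,
        Submodule.Quotient.mk_eq_zero] at this
      simpa using this
    | exact N₁ N₂ N₃ f g hf hg hfg h₁ h₃ =>
      intro hkill
      let S : ShortComplex (ModuleCat.{u} B) := ShortComplex.mk (ModuleCat.ofHom f) (ModuleCat.ofHom g)
        (by ext x; exact hfg.apply_apply_eq_zero x)
      have hS : S.ShortExact :=
        { exact := (ShortComplex.ShortExact.moduleCat_exact_iff_function_exact S).mpr hfg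
          mono_f := (ModuleCat.mono_iff_injective _).mpr hf
          epi_g := (ModuleCat.epi_iff_surjective _).mpr hg }
      haveI : Module.Finite B S.X₂ := ‹Module.Finite B N₂›
      have hx := hex S hS inferInstance
      refine hx.isZero_of_both_zeros ((h₁ fun j hj x => hf (by rw [map_smul, hkill j hj, map_zero])).eq_of_src _ _) ((h₃ fun j hj x => ?_).eq_of_tgt _ _)
      obtain ⟨y, rfl⟩ := hg x
      rw [← map_smul, hkill j hj, map_zero]
  have hprime : ∀ P : Ideal B, P.IsPrime → Limits.IsZero (F.obj (ModuleCat.of B (B ⧸ P))) := by
    intro P
    induction P using IsNoetherian.induction with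
    | hgt P ih =>
      intro hP
      by_cases hmax : Ideal.IsMaximal P
      · exact h0 P hmax
      haveI hfin := hfg (ModuleCat.of B (B ⧸ P)) inferInstance
      suffices hsub : Subsingleton (F.obj (ModuleCat.of B (B ⧸ P))) from ModuleCat.isZero_of_subsingleton _
      let Y := F.obj (ModuleCat.of B (B ⧸ P))
      have hsmul : ∀ (b : B) (y : Y),
          (F.map (b • 𝟙 (ModuleCat.of B (B ⧸ P)))).hom y = b • y := fun b y => by
        rw [F.map_smul, F.map_id]; rfl
      have hann : (⊤ : Ideal B) ≤ (⊤ : Submodule B Y).annihilator := by
        by_contra hne
        obtain ⟨m, hm, hle⟩ := Ideal.exists_le_maximal _ (fun h => hne h.ge)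
        by_cases hPm : P ≤ m
        · obtain ⟨x, hxm, hxP⟩ : ∃ x ∈ m, x ∉ P := by
            by_contra hh
            push Not at hh
            exact hmax (le_antisymm hPm hh ▸ hm)
          let f : (B ⧸ P) →ₗ[B] (B ⧸ P) := x • LinearMap.id
          have hf : Function.Injective f := by
            rw [injective_iff_map_eq_zero]
            intro y hy
            obtain ⟨b, rfl⟩ := Submodule.Quotient.mk_surjective _ y
            simp only [f, LinearMap.smul_apply, LinearMap.id_apply, ← Submodule.Quotient.mk_smul,
              Submodule.Quotient.mk_eq_zero, smul_eq_mul] at hy ⊢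
            exact (hP.mem_or_mem hy).resolve_left hxP
          let S : ShortComplex (ModuleCat.{u} B) :=
            ShortComplex.mk (x • 𝟙 (ModuleCat.of B (B ⧸ P))) (ModuleCat.ofHom (LinearMap.range f).mkQ)
              (by
                apply ModuleCat.hom_ext
                refine LinearMap.ext fun y => ?_
                exact (Submodule.Quotient.mk_eq_zero _).mpr ⟨_, rfl⟩)
          have hS : S.ShortExact :=
            { exact := (ShortComplex.ShortExact.moduleCat_exact_iff_function_exact S).mpr (fun y =>
                (Submodule.Quotient.mk_eq_zero _).trans Iff.rfl)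
              mono_f := (ModuleCat.mono_iff_injective _).mpr hf
              epi_g := (ModuleCat.epi_iff_surjective _).mpr (Submodule.mkQ_surjective _) }
          have hzero : Limits.IsZero (F.obj (ModuleCat.of B ((B ⧸ P) ⧸ LinearMap.range f))) := by
            refine step (P ⊔ Ideal.span {x}) (fun p hp => ih p.asIdeal ?_ p.isPrime) _ inferInstance ?_
            · exact lt_of_lt_of_le (left_lt_sup.mpr fun h => hxP (h (Ideal.mem_span_singleton_self x))) hp
            · intro j hj y
              obtain ⟨z, rfl⟩ := Submodule.Quotient.mk_surjective _ y
              obtain ⟨b, rfl⟩ := Submodule.Quotient.mk_surjective _ z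
              obtain ⟨a, ha, c, hc, rfl⟩ := Submodule.mem_sup.mp hj
              obtain ⟨d, rfl⟩ := Ideal.mem_span_singleton'.mp hc
              rw [← Submodule.Quotient.mk_smul, Submodule.Quotient.mk_eq_zero]
              refine ⟨Submodule.Quotient.mk (d * b), ?_⟩
              simp only [f, LinearMap.smul_apply, LinearMap.id_apply, ← Submodule.Quotient.mk_smul]
              rw [Submodule.Quotient.eq]
              have : x • (d * b) - (a + d * x) • b = -(a * b) := by simp only [smul_eq_mul]; ring
              rw [this]
              exact neg_mem (Ideal.mul_mem_right _ _ ha)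
          haveI : Module.Finite B S.X₂ := (inferInstance : Module.Finite B (B ⧸ P))
          have hx := (ShortComplex.ShortExact.moduleCat_exact_iff_function_exact (S.map F)).mp (hex S hS inferInstance)
          have hsurj : (⊤ : Submodule B Y) ≤ Ideal.span {x} • (⊤ : Submodule B Y) := by
            intro y _
            haveI := ModuleCat.subsingleton_of_isZero hzero
            obtain ⟨y', hy'⟩ := (hx y).mp (@Subsingleton.elim _ this _ _)
            have : y = x • y' := hy'.symm.trans (hsmul x y')
            rw [this]
            exact Submodule.smul_mem_smul (Ideal.mem_span_singleton_self x) trivial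
          obtain ⟨r, hr, hr0⟩ := Submodule.exists_sub_one_mem_and_smul_eq_zero_of_fg_of_le_smul
            (Ideal.span {x}) (⊤ : Submodule B Y) Module.Finite.fg_top hsurj
          have hrm : r ∈ m := hle (Submodule.mem_annihilator.mpr fun y hy => hr0 y hy)
          have h1 := sub_mem hrm ((Ideal.span_singleton_le_iff_mem m).mpr hxm hr)
          rw [sub_sub_cancel] at h1
          exact hm.ne_top ((Ideal.eq_top_iff_one _).mpr h1)
        · apply hPm
          intro a ha
          refine hle (Submodule.mem_annihilator.mpr fun y _ => ?_)
          rw [← hsmul]
          have : a • 𝟙 (ModuleCat.of B (B ⧸ P)) = 0 := by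
            apply ModuleCat.hom_ext
            refine LinearMap.ext fun y => ?_
            obtain ⟨b, rfl⟩ := Submodule.Quotient.mk_surjective _ y
            show a • Submodule.Quotient.mk (p := P) b = 0
            rw [← Submodule.Quotient.mk_smul, Submodule.Quotient.mk_eq_zero]
            exact Ideal.mul_mem_right _ _ ha
          rw [this, F.map_zero]; rfl
      refine subsingleton_of_forall_eq 0 fun y => ?_
      simpa using Submodule.mem_annihilator.mp (hann (show (1 : B) ∈ ⊤ from trivial)) y trivial
  exact step ⊥ (fun p _ => hprime p.asIdeal p.isPrime) M hM (fun j hj x => by rw [(Submodule.mem_bot _).mp hj, zero_smul])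

end Groth.Agent.S11461
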