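import Groth.Statements.S11464
-- import your own Groth.Agent.* helpers here

set_option autoImplicit false
universe u
open scoped TensorProduct
open DefT

namespace Groth.Agent.S11464

open scoped TensorProduct in
theorem rTensor_eq_zero (C' A' B : Type u) [CommRing C'] [CommRing A'] [CommRing B] [Algebra C' A'] [Algebra C' B]
    (J : Ideal C') (I' : Ideal A') [Module.Flat C' (A' ⧸ I')] (f : A' →ₐ[C'] B) (hf : ∀ a ∈ I', f a = 0)
    (u : A' ⊗[C'] ↥J) (hu : TensorProduct.rid C' A' (LinearMap.lTensor A' (Submodule.subtype J) u) ∈ I') :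
    LinearMap.rTensor ↥J f.toLinearMap u = 0 := by
  let q : A' →ₗ[C'] A' ⧸ I' := (Ideal.Quotient.mkₐ C' I').toLinearMap
  let h : A' ⧸ I' →ₗ[C'] B := (Ideal.Quotient.liftₐ I' f hf).toLinearMap
  have hfac : f.toLinearMap = h ∘ₗ q := LinearMap.ext fun a => rfl
  have hnat : ∀ u, TensorProduct.rid C' (A' ⧸ I') (LinearMap.lTensor (A' ⧸ I') (Submodule.subtype J) (LinearMap.rTensor ↥J q u)) =
      q (TensorProduct.rid C' A' (LinearMap.lTensor A' (Submodule.subtype J) u)) := fun u => by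
    induction u using TensorProduct.induction_on with
    | zero => simp
    | tmul a j => simp [map_smul]
    | add x y hx hy => simp only [map_add, hx, hy]
  have h0 : LinearMap.rTensor ↥J q u = 0 := by
    apply Module.Flat.lTensor_preserves_injective_linearMap (M := A' ⧸ I') (Submodule.subtype J) Subtype.val_injective
    apply (TensorProduct.rid C' (A' ⧸ I')).injective
    rw [hnat, map_zero, map_zero]
    exact Ideal.Quotient.eq_zero_iff_mem.mpr hu
  rw [hfac, LinearMap.rTensor_comp, LinearMap.comp_apply, h0, map_zero]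

/-- Let C' be a local Artin ring, J ⊊ C' a proper ideal annihilated by the maximal ideal, C = C'/J, A' a
flat C'-algebra, A = A'/JA', I ⊆ A an ideal with B = A/I flat over C, and I', I'' ⊆ A' two ideals
with C'-flat quotients both reducing to I. Then there is a unique A'-linear φ : I → B ⊗_{C'} J (=
Hom_A(I, J ⊗_C B)) such that for all x ∈ I, all lifts x' ∈ I' and x'' ∈ I'' of x, and every z ∈ A'
⊗_{C'} J mapping to x'' − x' under multiplication, the image of z in B ⊗_{C'} J is φ(x). With the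
existence half this makes the set of such ideals a pseudotorsor under Hom_A(I, J ⊗_C B). -/
theorem result (C' : Type u) [CommRing C'] [IsLocalRing C'] [IsArtinianRing C'] (J : Ideal C')
    (hJ : IsLocalRing.maximalIdeal C' * J = ⊥) (hJne : J ≠ ⊤) (A' : Type u) [CommRing A'] [Algebra C' A'] [Module.Flat C' A']
    (I : Ideal (A' ⧸ J.map (algebraMap C' A')))
    [Module.Flat (C' ⧸ J) ((A' ⧸ J.map (algebraMap C' A')) ⧸ I)]
    (I' I'' : Ideal A') [Module.Flat C' (A' ⧸ I')] [Module.Flat C' (A' ⧸ I'')]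
    (hI' : I'.map (Ideal.Quotient.mk (J.map (algebraMap C' A'))) = I)
    (hI'' : I''.map (Ideal.Quotient.mk (J.map (algebraMap C' A'))) = I) :
    ∃! φ : ↥I →ₗ[A'] (((A' ⧸ J.map (algebraMap C' A')) ⧸ I) ⊗[C'] ↥J),
      (∀ (x : (A' ⧸ J.map (algebraMap C' A'))) (hx : x ∈ I) (x' x'' : A'), x' ∈ I' → x'' ∈ I'' →
          Ideal.Quotient.mk (J.map (algebraMap C' A')) x' = x → Ideal.Quotient.mk (J.map (algebraMap C' A')) x'' = x →
          ∀ z : A' ⊗[C'] ↥J, TensorProduct.rid C' A' (LinearMap.lTensor A' (Submodule.subtype J) z) = x'' - x' →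
            LinearMap.rTensor ↥J (IsScalarTower.toAlgHom C' A' ((A' ⧸ J.map (algebraMap C' A')) ⧸ I)).toLinearMap z = φ ⟨x, hx⟩) := by
  classical
  let π : A' →+* A' ⧸ J.map (algebraMap C' A') := Ideal.Quotient.mk _
  let f : A' →ₐ[C'] ((A' ⧸ J.map (algebraMap C' A')) ⧸ I) := IsScalarTower.toAlgHom C' A' _
  let μ : A' ⊗[C'] ↥J →ₗ[A'] A' := (TensorProduct.AlgebraTensorModule.rid C' A' A').toLinearMap ∘ₗ
    TensorProduct.AlgebraTensorModule.lTensor A' A' (Submodule.subtype J)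
  let ρ : A' ⊗[C'] ↥J →ₗ[A'] ((A' ⧸ J.map (algebraMap C' A')) ⧸ I) ⊗[C'] ↥J :=
    TensorProduct.AlgebraTensorModule.map (Algebra.linearMap A' _) (LinearMap.id (M := ↥J))
  have hμ : ∀ z, μ z = TensorProduct.rid C' A' (LinearMap.lTensor A' (Submodule.subtype J) z) := fun z => rfl
  have hρ : ∀ z, ρ z = LinearMap.rTensor ↥J f.toLinearMap z := fun z => by
    induction z using TensorProduct.induction_on with
    | zero => simp
    | tmul a j => rfl
    | add x y hx hy => simp only [map_add, hx, hy]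
  have hμinj : Function.Injective μ := (TensorProduct.rid C' A').injective.comp
    (Module.Flat.lTensor_preserves_injective_linearMap (M := A') (Submodule.subtype J) Subtype.val_injective)
  have hμrange : J.map (algebraMap C' A') ≤ LinearMap.range μ := Ideal.map_le_iff_le_comap.mpr fun j hj =>
    ⟨1 ⊗ₜ ⟨j, hj⟩, by rw [hμ]; simp [Algebra.smul_def]⟩
  have hf : ∀ K : Ideal A', K.map π = I → ∀ a ∈ K, f a = 0 := fun K hK a ha =>
    Ideal.Quotient.eq_zero_iff_mem.mpr (hK ▸ Ideal.mem_map_of_mem π ha)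
  have key : ∀ (x' x'' y' y'' : A') (z w : A' ⊗[C'] ↥J), x' ∈ I' → x'' ∈ I'' → y' ∈ I' → y'' ∈ I'' →
      π x' = π y' → π x'' = π y'' → μ z = x'' - x' → μ w = y'' - y' → ρ z = ρ w := by
    intro x' x'' y' y'' z w h1 h2 h3 h4 h5 h6 h7 h8
    obtain ⟨u, hu⟩ := hμrange (Ideal.Quotient.eq.mp h6)
    obtain ⟨v, hv⟩ := hμrange (Ideal.Quotient.eq.mp h5)
    have hzw : z - w = u - v := hμinj (by rw [map_sub, map_sub, hu, hv, h7, h8]; ring)
    rw [← sub_eq_zero, ← map_sub, hzw, map_sub, hρ, hρ,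
      rTensor_eq_zero C' A' _ J I'' f (hf I'' hI'') u (by rw [← hμ, hu]; exact sub_mem h2 h4),
      rTensor_eq_zero C' A' _ J I' f (hf I' hI') v (by rw [← hμ, hv]; exact sub_mem h1 h3), sub_zero]
  have hex : ∀ x : ↥I, ∃ z x' x'', x' ∈ I' ∧ x'' ∈ I'' ∧ π x' = x ∧ π x'' = x ∧ μ z = x'' - x' := by
    intro x
    obtain ⟨x', h1, h1'⟩ := (Ideal.mem_map_iff_of_surjective π Ideal.Quotient.mk_surjective).mp (show x.1 ∈ I'.map π by rw [hI']; exact x.2)
    obtain ⟨x'', h2, h2'⟩ := (Ideal.mem_map_iff_of_surjective π Ideal.Quotient.mk_surjective).mp (show x.1 ∈ I''.map π by rw [hI'']; exact x.2)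
    obtain ⟨z, hz⟩ := hμrange (Ideal.Quotient.eq.mp (h2'.trans h1'.symm))
    exact ⟨z, x', x'', h1, h2, h1', h2', hz⟩
  choose z x' x'' h1 h2 h3 h4 h5 using hex
  let φ : ↥I →ₗ[A'] (((A' ⧸ J.map (algebraMap C' A')) ⧸ I) ⊗[C'] ↥J) :=
    { toFun := fun x => ρ (z x)
      map_add' := fun x y => by
        rw [← map_add]
        exact key _ _ (x' x + x' y) (x'' x + x'' y) _ _ (h1 _) (h2 _) (add_mem (h1 _) (h1 _)) (add_mem (h2 _) (h2 _))
          (by rw [map_add, h3, h3, h3]; rfl) (by rw [map_add, h4, h4, h4]; rfl) (h5 _)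
          (by rw [map_add, h5, h5]; ring)
      map_smul' := fun a x => by
        rw [RingHom.id_apply, ← map_smul]
        exact key _ _ (a * x' x) (a * x'' x) _ _ (h1 _) (h2 _) (Ideal.mul_mem_left _ _ (h1 _)) (Ideal.mul_mem_left _ _ (h2 _))
          (by rw [map_mul, h3, h3, Submodule.coe_smul_of_tower, Algebra.smul_def]; rfl)
          (by rw [map_mul, h4, h4, Submodule.coe_smul_of_tower, Algebra.smul_def]; rfl) (h5 _)
          (by rw [map_smul, h5, smul_eq_mul, mul_sub]) }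
  refine ⟨φ, fun x hx a b ha hb hax hbx w hw => ?_, fun ψ hψ => LinearMap.ext fun x => ?_⟩
  · rw [← hρ]
    exact key a b _ _ w _ ha hb (h1 _) (h2 _) (hax.trans (h3 ⟨x, hx⟩).symm) (hbx.trans (h4 ⟨x, hx⟩).symm) hw (h5 _)
  · exact (hψ x x.2 (x' x) (x'' x) (h1 x) (h2 x) (h3 x) (h4 x) (z x) (h5 x)).symm.trans (hρ _).symm

end Groth.Agent.S11464
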