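import Groth.Statements.S11465
import Mathlib
import Groth.Agent.ArtinFlat.RegSeq
-- import your own Groth.Agent.* helpers here

set_option autoImplicit false
universe u
open scoped TensorProduct
open DefT

namespace Groth.Agent.S11465

open scoped TensorProduct in
theorem rTensor_eq_zero (C' A' B : Type u) [CommRing C'] [CommRing A'] [CommRing B] [Algebra C' A'] [Algebra C' B]
    (J : Ideal C') (I' : Ideal A') [Module.Flat C' (A' ⧸ I')] (f : A' →ₐ[C'] B) (hf : ∀ a ∈ I', f a = 0)
    (u : A' ⊗[C'] ↥J) (hu : TensorProduct.rid C' A' (LinearMap.lTensor A' (Submodule.subtype J) u) ∈ I') :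
    LinearMap.rTensor ↥J f.toLinearMap u = 0 := by
  let q : A' →ₗ[C'] A' ⧸ I' := (Ideal.Quotient.mkₐ C' I').toLinearMap
  let h : A' ⧸ I' →ₗ[C'] B := (Ideal.Quotient.liftₐ I' f hf).toLinearMap
  have hfac : f.toLinearMap = h ∘ₗ q := LinearMap.ext fun a => rfl
  have hnat : ∀ u, TensorProduct.rid C' (A' ⧸ I') (LinearMap.lTensor (A' ⧸ I') (Submodule.subtype J) (LinearMap.rTensor ↥J q u)) =
      q (TensorProduct.rid C' A' (LinearMap.lTensor A' (Submodule.subtype J) u)) := fun u => by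
    induction u using TensorProduct.induction_on with
    | zero => simp
    | tmul a j => simp [map_smul]
    | add x y hx hy => simp only [map_add, hx, hy]
  have h0 : LinearMap.rTensor ↥J q u = 0 := by
    apply Module.Flat.lTensor_preserves_injective_linearMap (M := A' ⧸ I') (Submodule.subtype J) Subtype.val_injective
    apply (TensorProduct.rid C' (A' ⧸ I')).injective
    rw [hnat, map_zero, map_zero]
    exact Ideal.Quotient.eq_zero_iff_mem.mpr hu
  rw [hfac, LinearMap.rTensor_comp, LinearMap.comp_apply, h0, map_zero]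

open scoped TensorProduct in
theorem mem_map_inf {C A : Type u} [CommRing C] [CommRing A] [Algebra C A] [Module.Flat C A] (a J : Ideal C) {y : A}
    (ha : y ∈ a.map (algebraMap C A)) (hJ : y ∈ J.map (algebraMap C A)) : y ∈ (a ⊓ J).map (algebraMap C A) := by
  obtain ⟨z, rfl⟩ := ArtinFlat.exists_mu a ha
  let g : ↥a →ₗ[C] C ⧸ J := (Submodule.mkQ J).comp (Submodule.subtype a)
  let ι : ↥(a ⊓ J) →ₗ[C] ↥a := Submodule.inclusion inf_le_left
  have hex : Function.Exact ι g := fun i => by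
    show Submodule.Quotient.mk (i : C) = 0 ↔ _
    rw [Submodule.Quotient.mk_eq_zero]
    exact ⟨fun h => ⟨⟨i.1, i.2, h⟩, rfl⟩, fun ⟨j, hj⟩ => hj ▸ j.2.2⟩
  have hnat : ∀ z, Algebra.TensorProduct.quotIdealMapEquivTensorQuot A J (Ideal.Quotient.mk _ (ArtinFlat.mu A a z)) = g.lTensor A z := by
    intro z
    induction z with
    | zero => simp
    | add p q hp hq => simp only [map_add, hp, hq]
    | tmul b i =>
      rw [ArtinFlat.mu_tmul, Algebra.TensorProduct.quotIdealMapEquivTensorQuot_mk, LinearMap.lTensor_tmul, mul_comm,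
        ← Algebra.smul_def, TensorProduct.smul_tmul]
      congr 1
      show (i : C) • (1 : C ⧸ J) = Ideal.Quotient.mk J (i : C)
      rw [Algebra.smul_def, Ideal.Quotient.algebraMap_eq, mul_one]
  have h0 : g.lTensor A z = 0 := by rw [← hnat, Ideal.Quotient.eq_zero_iff_mem.mpr hJ, map_zero]
  obtain ⟨w, rfl⟩ := (Module.Flat.lTensor_exact A hex z).mp h0
  clear ha hJ h0
  induction w with
  | zero => simp
  | add p q hp hq => simp only [map_add]; exact add_mem hp hq
  | tmul b i =>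
    rw [LinearMap.lTensor_tmul, ArtinFlat.mu_tmul]
    exact Ideal.mul_mem_left _ _ (Ideal.mem_map_of_mem _ i.2)

/-- Let C' be a local Artin ring, J ⊊ C' a proper ideal annihilated by the maximal ideal, C = C'/J, A' a
flat C'-algebra, A = A'/JA', I ⊆ A an ideal with B = A/I flat over C, I' ⊆ A' an ideal with C'-flat
quotient reducing to I, and φ : I → B ⊗_{C'} J an A'-linear map. Then there is exactly one ideal I''
⊆ A' with C'-flat quotient reducing to I whose difference from I' is φ: for all x ∈ I, all lifts x'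
∈ I', x'' ∈ I'' of x and all z ∈ A' ⊗_{C'} J mapping to x'' − x', the image of z in B ⊗_{C'} J is
φ(x). -/
theorem result (C' : Type u) [CommRing C'] [IsLocalRing C'] [IsArtinianRing C'] (J : Ideal C')
    (hJ : IsLocalRing.maximalIdeal C' * J = ⊥) (hJne : J ≠ ⊤) (A' : Type u) [CommRing A'] [Algebra C' A'] [Module.Flat C' A']
    (I : Ideal (A' ⧸ J.map (algebraMap C' A')))
    [Module.Flat (C' ⧸ J) ((A' ⧸ J.map (algebraMap C' A')) ⧸ I)]
    (I' : Ideal A') [Module.Flat C' (A' ⧸ I')]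
    (hI' : I'.map (Ideal.Quotient.mk (J.map (algebraMap C' A'))) = I)
    (φ : ↥I →ₗ[A'] (((A' ⧸ J.map (algebraMap C' A')) ⧸ I) ⊗[C'] ↥J)) :
    ∃! I'' : Ideal A', Module.Flat C' (A' ⧸ I'') ∧
      I''.map (Ideal.Quotient.mk (J.map (algebraMap C' A'))) = I ∧
      (∀ (x : (A' ⧸ J.map (algebraMap C' A'))) (hx : x ∈ I) (x' x'' : A'), x' ∈ I' → x'' ∈ I'' →
          Ideal.Quotient.mk (J.map (algebraMap C' A')) x' = x → Ideal.Quotient.mk (J.map (algebraMap C' A')) x'' = x →
          ∀ z : A' ⊗[C'] ↥J, TensorProduct.rid C' A' (LinearMap.lTensor A' (Submodule.subtype J) z) = x'' - x' →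
            LinearMap.rTensor ↥J (IsScalarTower.toAlgHom C' A' ((A' ⧸ J.map (algebraMap C' A')) ⧸ I)).toLinearMap z = φ ⟨x, hx⟩) := by
  classical
  let π : A' →+* A' ⧸ J.map (algebraMap C' A') := Ideal.Quotient.mk _
  let f : A' →ₐ[C'] ((A' ⧸ J.map (algebraMap C' A')) ⧸ I) := IsScalarTower.toAlgHom C' A' _
  let μ : A' ⊗[C'] ↥J →ₗ[A'] A' := ArtinFlat.mu A' J
  let ρ : A' ⊗[C'] ↥J →ₗ[A'] ((A' ⧸ J.map (algebraMap C' A')) ⧸ I) ⊗[C'] ↥J :=
    TensorProduct.AlgebraTensorModule.map (Algebra.linearMap A' _) (LinearMap.id (M := ↥J))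
  have hμ : ∀ z, TensorProduct.rid C' A' (LinearMap.lTensor A' (Submodule.subtype J) z) = μ z := fun z => by
    induction z using TensorProduct.induction_on with
    | zero => simp
    | tmul a j => simp [μ, ArtinFlat.mu_tmul, Algebra.smul_def, mul_comm]
    | add x y hx hy => simp only [map_add, hx, hy]
  have hρ : ∀ z, ρ z = LinearMap.rTensor ↥J f.toLinearMap z := fun z => by
    induction z using TensorProduct.induction_on with
    | zero => simp
    | tmul a j => rfl
    | add x y hx hy => simp only [map_add, hx, hy]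
  have hfsurj : Function.Surjective f.toLinearMap := fun q => by
    obtain ⟨q', rfl⟩ := Ideal.Quotient.mk_surjective q
    obtain ⟨a, rfl⟩ := Ideal.Quotient.mk_surjective q'
    exact ⟨a, rfl⟩
  have hρsurj : Function.Surjective ρ := fun q => by
    obtain ⟨z, hz⟩ := LinearMap.rTensor_surjective ↥J hfsurj q
    exact ⟨z, (hρ z).trans hz⟩
  have hμinj : Function.Injective μ := ArtinFlat.flat_iff.mp inferInstance J
  have hJJ : J * J ≤ ⊥ := hJ ▸ Ideal.mul_mono_left (IsLocalRing.le_maximalIdeal hJne)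
  have hzero : ∀ j ∈ J, ∀ v ∈ J.map (algebraMap C' A'), v * algebraMap C' A' j = 0 := by
    intro j hj v hv
    have := Ideal.mul_mem_mul hv (Ideal.mem_map_of_mem (algebraMap C' A') hj)
    rw [← Ideal.map_mul, le_bot_iff.mp hJJ, Ideal.map_bot] at this
    exact (Submodule.mem_bot _).mp this
  have hf : ∀ K : Ideal A', K.map π = I → ∀ a ∈ K, f a = 0 := fun K hK a ha =>
    Ideal.Quotient.eq_zero_iff_mem.mpr (hK ▸ Ideal.mem_map_of_mem π ha)
  have hlift : ∀ (K : Ideal A'), K.map π = I → ∀ x ∈ I, ∃ a ∈ K, π a = x := fun K hK x hx => by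
    obtain ⟨a, ha, ha'⟩ := (Ideal.mem_map_iff_of_surjective π Ideal.Quotient.mk_surjective).mp (show x ∈ K.map π by rw [hK]; exact hx)
    exact ⟨a, ha, ha'⟩
  have hexact : Function.Exact ((RingHom.ker f.toRingHom).subtype.restrictScalars C') f.toLinearMap := fun b =>
    ⟨fun hb => ⟨⟨b, hb⟩, rfl⟩, fun ⟨k, hk⟩ => hk ▸ k.2⟩
  have hkerρ : ∀ (K : Ideal A'), K.map π = I → ∀ z, ρ z = 0 → μ z ∈ K := by
    intro K hK z hz
    obtain ⟨w, rfl⟩ := (rTensor_exact ↥J hexact hfsurj z).mp ((hρ z).symm.trans hz)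
    clear hz
    induction w with
    | zero => simp only [map_zero]; exact zero_mem K
    | add p q hp hq => simp only [map_add]; exact add_mem hp hq
    | tmul k j =>
      obtain ⟨a, ha, ha'⟩ := hlift K hK (π k.1) (Ideal.Quotient.eq_zero_iff_mem.mp k.2)
      have h2 := hzero j.1 j.2 _ (Ideal.Quotient.eq.mp ha'.symm)
      rw [sub_mul, sub_eq_zero] at h2
      rw [LinearMap.rTensor_tmul]
      show (k : A') * algebraMap C' A' (j : C') ∈ K
      rw [h2]
      exact Ideal.mul_mem_right _ _ ha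
  have hkerρ' : ∀ u, μ u ∈ I' → ρ u = 0 := fun u hu => by
    rw [hρ]
    exact rTensor_eq_zero C' A' _ J I' f (hf I' hI') u (by rw [hμ]; exact hu)
  let ψ : ↥I' →ₗ[A'] ↥I :=
    { toFun := fun a => ⟨π a.1, hI' ▸ Ideal.mem_map_of_mem π a.2⟩
      map_add' := fun a b => Subtype.ext (map_add π _ _)
      map_smul' := fun c a => Subtype.ext (map_mul π _ _) }
  obtain ⟨K'', hmem⟩ : ∃ K'' : Ideal A', ∀ y, y ∈ K'' ↔
      ∃ (a : ↥I') (z : A' ⊗[C'] ↥J), φ (ψ a) = ρ z ∧ (a : A') + μ z = y := by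
    refine ⟨Submodule.map
      (I'.subtype.comp (LinearMap.fst A' ↥I' (A' ⊗[C'] ↥J)) + μ.comp (LinearMap.snd A' ↥I' (A' ⊗[C'] ↥J)))
    (LinearMap.eqLocus ((φ.comp ψ).comp (LinearMap.fst A' ↥I' (A' ⊗[C'] ↥J))) (ρ.comp (LinearMap.snd A' ↥I' (A' ⊗[C'] ↥J)))), fun y => ?_⟩
    constructor
    · rintro ⟨⟨a, z⟩, h, rfl⟩
      exact ⟨a, z, h, rfl⟩
    · rintro ⟨a, z, h, rfl⟩
      exact ⟨⟨a, z⟩, h, rfl⟩
  have hπμ : ∀ z, π (μ z) = 0 := fun z => Ideal.Quotient.eq_zero_iff_mem.mpr (ArtinFlat.mu_mem J z)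
  have hK'' : K''.map π = I := by
    refine le_antisymm (Ideal.map_le_iff_le_comap.mpr fun y hy => ?_) fun x hx => ?_
    · obtain ⟨a, z, -, rfl⟩ := (hmem y).mp hy
      rw [Ideal.mem_comap, map_add, hπμ, add_zero]
      exact hI' ▸ Ideal.mem_map_of_mem π a.2
    · obtain ⟨a, ha, rfl⟩ := hlift I' hI' x hx
      obtain ⟨z, hz⟩ := hρsurj (φ (ψ ⟨a, ha⟩))
      have := Ideal.mem_map_of_mem π ((hmem _).mpr ⟨⟨a, ha⟩, z, hz.symm, rfl⟩)
      rwa [map_add, hπμ, add_zero] at this
  refine ⟨K'', ⟨?_, hK'', ?_⟩, ?_⟩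
  · rw [ArtinFlat.flat_iff]
    intro a
    rw [injective_iff_map_eq_zero]
    intro q hq
    obtain ⟨z, rfl⟩ := LinearMap.rTensor_surjective (g := (Ideal.Quotient.mkₐ C' K'').toLinearMap) ↥a
      (Ideal.Quotient.mkₐ_surjective C' K'') q
    rw [ArtinFlat.mu_mk, Ideal.Quotient.eq_zero_iff_mem] at hq
    have key : ArtinFlat.mu A' a z ∈ K'' * a.map (algebraMap C' A') := by
      have hy := ArtinFlat.mu_mem a z
      generalize ArtinFlat.mu A' a z = y at hq hy
      -- split off the part over the quotient by `J`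
      have h1 : π y ∈ I * (a.map (algebraMap C' A')).map π := by
        have h2 : π y ∈ (a.map (Ideal.Quotient.mk J)).map (algebraMap (C' ⧸ J) (A' ⧸ J.map (algebraMap C' A'))) := by
          have := Ideal.mem_map_of_mem π hy
          rw [Ideal.map_map] at this ⊢
          exact this
        have hq' : π y ∈ I := by rw [← hK'']; exact Ideal.mem_map_of_mem π hq
        have h3 := ArtinFlat.mem_smul_of_flat_quotient (C := C' ⧸ J) I (a.map (Ideal.Quotient.mk J)) h2 hq'
        rw [Ideal.map_map] at h3 ⊢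
        exact h3
      rw [← hK'', ← Ideal.map_mul, Ideal.mem_map_iff_of_surjective π Ideal.Quotient.mk_surjective] at h1
      obtain ⟨p, hp, hpy⟩ := h1
      have hwJ : y - p ∈ J.map (algebraMap C' A') :=
        Ideal.Quotient.eq_zero_iff_mem.mp (show π (y - p) = 0 by rw [map_sub, hpy, sub_self])
      have hwa : y - p ∈ a.map (algebraMap C' A') := sub_mem hy (Ideal.mul_le_right hp)
      have hwK : y - p ∈ K'' := sub_mem hq (Ideal.mul_le_left hp)
      have hw := mem_map_inf a J hwa hwJ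
      have hwI' : y - p ∈ I' := by
        obtain ⟨b, t, ht, hbt⟩ := (hmem _).mp hwK
        obtain ⟨s, hs⟩ := ArtinFlat.exists_mu J (sub_mem hwJ (ArtinFlat.mu_mem J t))
        have hs' : μ s = (b : A') := by
          show ArtinFlat.mu A' J s = _
          rw [hs, ← hbt]
          exact add_sub_cancel_right _ _
        have hψ : ψ b = 0 := Subtype.ext (by show π b.1 = 0; rw [← hs']; exact hπμ s)
        rw [hψ, map_zero] at ht
        rw [← hbt]
        exact add_mem b.2 (hkerρ I' hI' t ht.symm)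
      have hw2 := ArtinFlat.mem_smul_of_flat_quotient I' (a ⊓ J) hw hwI'
      have hle : I' * (a ⊓ J).map (algebraMap C' A') ≤ K'' * a.map (algebraMap C' A') := by
        rw [Ideal.mul_le]
        intro i hi r hr
        obtain ⟨k, hk, hk'⟩ := hlift K'' hK'' (π i) (hI' ▸ Ideal.mem_map_of_mem π hi)
        have hr' : (i - k) * r = 0 := by
          have := Ideal.mul_mem_mul (Ideal.Quotient.eq.mp hk'.symm) (Ideal.map_mono inf_le_right hr)
          rw [← Ideal.map_mul, le_bot_iff.mp hJJ, Ideal.map_bot] at this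
          exact (Submodule.mem_bot _).mp this
        rw [sub_mul, sub_eq_zero] at hr'
        rw [hr']
        exact Ideal.mul_mem_mul hk (Ideal.map_mono inf_le_left hr)
      have := add_mem hp (hle hw2)
      rwa [add_sub_cancel] at this
    have hz : z ∈ K'' • (⊤ : Submodule A' (A' ⊗[C'] ↥a)) := by
      have h4 : K'' * a.map (algebraMap C' A') ≤ (K'' • (⊤ : Submodule A' (A' ⊗[C'] ↥a))).map (ArtinFlat.mu A' a) := by
        rw [Ideal.mul_le]
        intro k hk r hr
        obtain ⟨t, rfl⟩ := ArtinFlat.exists_mu a hr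
        exact ⟨k • t, Submodule.smul_mem_smul hk trivial, by rw [map_smul, smul_eq_mul]⟩
      obtain ⟨t, ht, ht'⟩ := h4 key
      have ht2 : t = z := ArtinFlat.flat_iff.mp inferInstance a ht'
      rw [← ht2]
      exact ht
    refine Submodule.smul_induction_on (p := fun w => (Ideal.Quotient.mkₐ C' K'').toLinearMap.rTensor ↥a w = 0) hz (fun k hk t ht => ?_)
      (fun p q hp hq => by rw [map_add, hp, hq, add_zero])
    clear ht
    induction t with
    | zero => simp
    | add p q hp hq => rw [smul_add, map_add, hp, hq, add_zero]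
    | tmul b i =>
      rw [TensorProduct.smul_tmul', LinearMap.rTensor_tmul]
      have : (Ideal.Quotient.mkₐ C' K'').toLinearMap (k • b) = 0 :=
        Ideal.Quotient.eq_zero_iff_mem.mpr (Ideal.mul_mem_right _ _ hk)
      rw [this, TensorProduct.zero_tmul]
  · intro x hx x' x'' hx' hx'' hπx' hπx'' z hz
    obtain ⟨b, t, ht, rfl⟩ := (hmem x'').mp hx''
    have hbx : π b.1 = x := by rw [← hπx'', map_add]; exact (add_zero _).symm.trans (congrArg _ (hπμ t).symm)
    have hψb : ψ b = ⟨x, hx⟩ := Subtype.ext hbx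
    obtain ⟨u, hu⟩ := ArtinFlat.exists_mu J (Ideal.Quotient.eq.mp (hbx.trans hπx'.symm))
    have hu0 : ρ u = 0 := hkerρ' u (hu.symm ▸ sub_mem b.2 hx')
    rw [hμ] at hz
    have hzz : z = u + t := hμinj (by rw [hz, map_add]; show _ = ArtinFlat.mu A' J u + _; rw [hu]; abel)
    rw [← hψb, ht]
    show LinearMap.rTensor ↥J f.toLinearMap z = ρ t
    rw [← hρ, hzz, map_add, hu0, zero_add]
  · rintro L ⟨-, hL, hLφ⟩
    have main : ∀ (a : ↥I') (y : A') (z : A' ⊗[C'] ↥J), y ∈ L → π y = π a.1 → μ z = y - a → φ (ψ a) = ρ z := by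
      intro a y z hy hya hz
      rw [hρ]
      exact (hLφ (π a.1) (ψ a).2 a.1 y a.2 hy rfl hya z (by rw [hμ]; exact hz)).symm
    refine le_antisymm (fun y hy => ?_) fun y hy => ?_
    · obtain ⟨a, ha, ha'⟩ := hlift I' hI' (π y) (hL ▸ Ideal.mem_map_of_mem π hy)
      obtain ⟨z, hz⟩ := ArtinFlat.exists_mu J (Ideal.Quotient.eq.mp ha'.symm)
      exact (hmem y).mpr ⟨⟨a, ha⟩, z, main ⟨a, ha⟩ y z hy ha'.symm hz, by show a + ArtinFlat.mu A' J z = y; rw [hz]; abel⟩
    · obtain ⟨a, z, hz, rfl⟩ := (hmem y).mp hy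
      obtain ⟨y2, hy2, hy2'⟩ := hlift L hL (π a.1) (ψ a).2
      obtain ⟨z2, hz2⟩ := ArtinFlat.exists_mu J (Ideal.Quotient.eq.mp hy2')
      have h5 := hkerρ L hL (z - z2) (by rw [map_sub, ← hz, main a y2 z2 hy2 hy2' hz2, sub_self])
      have h6 := add_mem hy2 h5
      rw [map_sub] at h6
      have h7 : y2 + (μ z - μ z2) = a + μ z := by
        show y2 + (μ z - ArtinFlat.mu A' J z2) = _
        rw [hz2]; abel
      rwa [h7] at h6


end Groth.Agent.S11465
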