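import Groth.Statements.S11466
import Mathlib

set_option autoImplicit false
universe u
open DefT

namespace Groth.Agent.S11466

open scoped TensorProduct
open W4bk4hartshdef114

theorem isArtinianRing_of_pow_le {P : Type u} [CommRing P] [IsLocalRing P] [IsNoetherianRing P] (Q : Ideal P)
    (hQ : Q ≤ IsLocalRing.maximalIdeal P) (n : ℕ) (hn : IsLocalRing.maximalIdeal P ^ n ≤ Q) :
    IsLocalRing (P ⧸ Q) ∧ IsArtinianRing (P ⧸ Q) ∧
      ∀ x : P, Ideal.Quotient.mk Q x ∈ nonunits (P ⧸ Q) ↔ x ∈ IsLocalRing.maximalIdeal P := by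
  haveI : Nontrivial (P ⧸ Q) := Ideal.Quotient.nontrivial_iff.mpr fun h =>
    (IsLocalRing.maximalIdeal.isMaximal P).ne_top (top_le_iff.mp (h ▸ hQ))
  have hloc : IsLocalRing (P ⧸ Q) := IsLocalRing.of_surjective' (Ideal.Quotient.mk Q) Ideal.Quotient.mk_surjective
  haveI := hloc
  have hnu : ∀ x : P, Ideal.Quotient.mk Q x ∈ nonunits (P ⧸ Q) ↔ x ∈ IsLocalRing.maximalIdeal P := fun x => by
    refine ⟨fun h => (IsLocalRing.mem_maximalIdeal _).mpr fun hu => h (hu.map _), fun hx hu => ?_⟩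
    obtain ⟨q, hq⟩ := hu.exists_right_inv
    obtain ⟨y, rfl⟩ := Ideal.Quotient.mk_surjective q
    rw [← map_mul, ← map_one (Ideal.Quotient.mk Q), Ideal.Quotient.eq] at hq
    have h1 := sub_mem (Ideal.mul_mem_right y _ hx) (hQ hq)
    rw [sub_sub_cancel] at h1
    exact (IsLocalRing.maximalIdeal.isMaximal P).ne_top ((Ideal.eq_top_iff_one _).mpr h1)
  refine ⟨hloc, ?_, hnu⟩
  rw [isArtinianRing_iff_isNilpotent_maximalIdeal]
  refine ⟨n, ?_⟩
  have h1 : IsLocalRing.maximalIdeal (P ⧸ Q) ≤ (IsLocalRing.maximalIdeal P).map (Ideal.Quotient.mk Q) := by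
    intro q hq
    obtain ⟨x, rfl⟩ := Ideal.Quotient.mk_surjective q
    exact Ideal.mem_map_of_mem _ ((hnu x).mp hq)
  rw [Submodule.zero_eq_bot, eq_bot_iff]
  refine (Ideal.pow_right_mono h1 n).trans ?_
  rw [← Ideal.map_pow, ← Ideal.map_quotient_self Q]
  exact Ideal.map_mono hn

theorem exists_sum_basis {k V J : Type u} [Field k] [AddCommGroup V] [Module k V] [AddCommGroup J] [Module k J]
    {d : ℕ} (b : Module.Basis (Fin d) k V) (ω : V ⊗[k] J) : ∃ j : Fin d → J, ω = ∑ a, b a ⊗ₜ j a := by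
  induction ω using TensorProduct.induction_on with
  | zero => exact ⟨0, by simp⟩
  | add x y hx hy =>
    obtain ⟨jx, rfl⟩ := hx
    obtain ⟨jy, rfl⟩ := hy
    exact ⟨jx + jy, by simp [TensorProduct.tmul_add, Finset.sum_add_distrib]⟩
  | tmul v j =>
    refine ⟨fun a => b.repr v a • j, ?_⟩
    conv_lhs => rw [← b.sum_repr v]
    rw [TensorProduct.sum_tmul]
    exact Finset.sum_congr rfl fun a _ => TensorProduct.smul_tmul _ _ _

/-- Generators of `I` out of an obstruction theory. -/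
theorem exists_finset_span {k : Type u} [Field k] {P : Type u} [CommRing P] [IsLocalRing P] [IsNoetherianRing P]
    [Algebra k P] (hres : Function.Surjective (algebraMap k (IsLocalRing.ResidueField P)))
    (I : Ideal P) (hI : I ≤ IsLocalRing.maximalIdeal P ^ 2)
    (V : Type u) [AddCommGroup V] [Module k V] [Module.Finite k V] (T : ObsTheory k (P ⧸ I) V) :
    ∃ s : Finset P, s.card ≤ Module.finrank k V ∧ Ideal.span (s : Set P) = I := by
  classical
  have hIm : I ≤ IsLocalRing.maximalIdeal P := hI.trans (Ideal.pow_le_self two_ne_zero)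
  obtain ⟨c, hc⟩ := (IsLocalRing.maximalIdeal P).exists_pow_inf_eq_pow_smul I
  have hcap : ∀ y ∈ I, y ∈ IsLocalRing.maximalIdeal P ^ (c + 1) → y ∈ IsLocalRing.maximalIdeal P * I := by
    intro y hy hy'
    have h : y ∈ IsLocalRing.maximalIdeal P ^ (c + 1) • (⊤ : Submodule P P) ⊓ I :=
      ⟨by rwa [smul_eq_mul, Ideal.mul_top], hy⟩
    rw [hc (c + 1) (Nat.le_succ c), Nat.add_sub_cancel_left, pow_one] at h
    exact Submodule.smul_mono le_rfl inf_le_right h
  set Q := IsLocalRing.maximalIdeal P * I ⊔ IsLocalRing.maximalIdeal P ^ (c + 1) with hQdef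
  have hQm : Q ≤ IsLocalRing.maximalIdeal P := sup_le Ideal.mul_le_left (Ideal.pow_le_self (Nat.succ_ne_zero c))
  obtain ⟨hloc, hart, hnu⟩ := isArtinianRing_of_pow_le Q hQm (c + 1) le_sup_right
  let J : Ideal (P ⧸ Q) := I.map (Ideal.Quotient.mk Q)
  have hJ : ∀ j ∈ J, ∃ i ∈ I, Ideal.Quotient.mk Q i = j := fun j hj =>
    (Ideal.mem_map_iff_of_surjective _ Ideal.Quotient.mk_surjective).mp hj
  have hresP : ∀ x : P, ∃ a : k, x - algebraMap k P a ∈ IsLocalRing.maximalIdeal P := fun x => by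
    obtain ⟨a, ha⟩ := hres (IsLocalRing.residue P x)
    refine ⟨a, ?_⟩
    rw [← IsLocalRing.residue_eq_zero_iff, map_sub, sub_eq_zero, ← ha]
    rfl
  have hkill : ∀ x ∈ nonunits (P ⧸ Q), ∀ j ∈ J, x * j = 0 := by
    intro x hx j hj
    obtain ⟨x, rfl⟩ := Ideal.Quotient.mk_surjective x
    obtain ⟨i, hi, rfl⟩ := hJ j hj
    rw [← map_mul, Ideal.Quotient.eq_zero_iff_mem]
    exact Submodule.mem_sup_left (Ideal.mul_mem_mul ((hnu x).mp hx) hi)
  have hJnu : ∀ j ∈ J, j ∈ nonunits (P ⧸ Q) := fun j hj => by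
    obtain ⟨i, hi, rfl⟩ := hJ j hj
    exact (hnu i).mpr (hIm hi)
  have hsmall : IsSmallExt k (P ⧸ Q) J := by
    refine ⟨hloc, hart, fun x => ?_, fun x j hx hj => hkill x hx j hj, fun h => ?_⟩
    · obtain ⟨x, rfl⟩ := Ideal.Quotient.mk_surjective x
      obtain ⟨a, ha⟩ := hresP x
      exact ⟨a, (hnu (x - algebraMap k P a)).mpr ha⟩
    · exact hJnu 1 (h ▸ Submodule.mem_top) isUnit_one
  let u : (P ⧸ I) →ₐ[k] (P ⧸ Q) ⧸ J :=
    Ideal.Quotient.liftₐ I ((Ideal.Quotient.mkₐ k J).comp (Ideal.Quotient.mkₐ k Q))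
      (fun i hi => Ideal.Quotient.eq_zero_iff_mem.mpr (Ideal.mem_map_of_mem _ hi))
  have hu : ∀ p, u (Ideal.Quotient.mk I p) = Ideal.Quotient.mk J (Ideal.Quotient.mk Q p) := fun p => rfl
  let b := Module.finBasis k V
  obtain ⟨j, hj⟩ := exists_sum_basis b (T.obs (P ⧸ Q) J u)
  let K : Ideal (P ⧸ Q) := Ideal.span (Set.range fun a => (j a : P ⧸ Q))
  have hK : K ≤ J := Ideal.span_le.mpr (by rintro _ ⟨a, rfl⟩; exact (j a).2)
  choose g hgI hg using fun a => hJ (j a) (j a).2
  refine ⟨Finset.univ.image g, Finset.card_image_le.trans (by simp), ?_⟩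
  set J' : Ideal ((P ⧸ Q) ⧸ K) := J.map (Ideal.Quotient.mkₐ k K) with hJ'def
  have hKnu : ∀ x : P ⧸ Q, Ideal.Quotient.mk K x ∈ nonunits _ → x ∈ nonunits (P ⧸ Q) := fun x h hu => h (hu.map _)
  have hnuK : ∀ x : P ⧸ Q, x ∈ nonunits (P ⧸ Q) → Ideal.Quotient.mk K x ∈ nonunits _ := by
    intro x hx hu
    obtain ⟨q, hq⟩ := hu.exists_right_inv
    obtain ⟨y, rfl⟩ := Ideal.Quotient.mk_surjective q
    rw [← map_mul, ← map_one (Ideal.Quotient.mk K), Ideal.Quotient.eq] at hq
    have h1 : x * y ∈ IsLocalRing.maximalIdeal (P ⧸ Q) :=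
      Ideal.mul_mem_right y _ ((IsLocalRing.mem_maximalIdeal _).mpr hx)
    have h2 := sub_mem h1 ((IsLocalRing.mem_maximalIdeal _).mpr (hJnu _ (hK hq)))
    rw [sub_sub_cancel] at h2
    exact (IsLocalRing.mem_maximalIdeal _).mp h2 isUnit_one
  have hJ'nu : ∀ z ∈ J', z ∈ nonunits ((P ⧸ Q) ⧸ K) := fun z hz => by
    obtain ⟨x, hx, rfl⟩ := (Ideal.mem_map_iff_of_surjective (Ideal.Quotient.mkₐ k K) Ideal.Quotient.mk_surjective).mp hz
    exact hnuK x (hJnu x hx)
  have hkill' : ∀ x ∈ nonunits ((P ⧸ Q) ⧸ K), ∀ z ∈ J', x * z = 0 := fun x hx z hz => by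
    obtain ⟨x, rfl⟩ := Ideal.Quotient.mk_surjective x
    obtain ⟨y, hy, rfl⟩ := (Ideal.mem_map_iff_of_surjective (Ideal.Quotient.mkₐ k K) Ideal.Quotient.mk_surjective).mp hz
    show Ideal.Quotient.mk K x * Ideal.Quotient.mk K y = 0
    rw [← map_mul, hkill x (hKnu x hx) y hy, map_zero]
  have hsmall' : IsSmallExt k ((P ⧸ Q) ⧸ K) J' := by
    haveI : Nontrivial ((P ⧸ Q) ⧸ K) := Ideal.Quotient.nontrivial_iff.mpr fun h =>
      hJnu 1 (hK (h ▸ Submodule.mem_top)) isUnit_one
    haveI : IsLocalRing ((P ⧸ Q) ⧸ K) := IsLocalRing.of_surjective' (Ideal.Quotient.mk K) Ideal.Quotient.mk_surjective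
    refine ⟨inferInstance, inferInstance, fun x => ?_, fun x z hx hz => hkill' x hx z hz, fun h => ?_⟩
    · obtain ⟨x, rfl⟩ := Ideal.Quotient.mk_surjective x
      obtain ⟨a, ha⟩ := hsmall.2.2.1 x
      exact ⟨a, hnuK (x - algebraMap k (P ⧸ Q) a) ha⟩
    · exact hJ'nu 1 (h ▸ Submodule.mem_top) isUnit_one
  have h0 : T.obs ((P ⧸ Q) ⧸ K) J'
      (((DoubleQuot.quotQuotEquivQuotOfLEₐ k hK).symm : ((P ⧸ Q) ⧸ J) →ₐ[k] _).comp u) = 0 := by
    rw [T.obs_quot (P ⧸ Q) J K hsmall hK u, hj, map_sum]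
    refine Finset.sum_eq_zero fun a _ => ?_
    rw [LinearMap.lTensor_tmul]
    have : idealToQuot k J K (j a) = 0 :=
      Subtype.ext (Ideal.Quotient.eq_zero_iff_mem.mpr (Ideal.subset_span ⟨a, rfl⟩))
    rw [this, TensorProduct.tmul_zero]
  obtain ⟨u', hu'⟩ := (T.obs_eq_zero_iff _ _ hsmall' _).mp h0
  have hdiff : ∀ p : P, u' (Ideal.Quotient.mk I p) - Ideal.Quotient.mk K (Ideal.Quotient.mk Q p) ∈ J' := by
    intro p
    rw [← Ideal.Quotient.eq]
    have h1 := AlgHom.congr_fun hu' (Ideal.Quotient.mk I p)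
    refine h1.trans ?_
    show (DoubleQuot.quotQuotEquivQuotOfLEₐ k hK).symm (u (Ideal.Quotient.mk I p)) = _
    rw [hu, AlgEquiv.symm_apply_eq]
    rfl
  have hsq : ∀ p ∈ IsLocalRing.maximalIdeal P * IsLocalRing.maximalIdeal P,
      u' (Ideal.Quotient.mk I p) = Ideal.Quotient.mk K (Ideal.Quotient.mk Q p) := by
    intro p hp
    refine Submodule.mul_induction_on hp (fun x hx y hy => ?_) (fun x y hx hy => by rw [map_add, map_add, hx, hy, map_add, map_add])
    have hxn := hnuK _ ((hnu x).mpr hx)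
    have hyn := hnuK _ ((hnu y).mpr hy)
    have e1 := hkill' _ hxn _ (hdiff y)
    have e2 := hkill' _ hyn _ (hdiff x)
    have e3 := hkill' _ (hJ'nu _ (hdiff x)) _ (hdiff y)
    rw [map_mul (Ideal.Quotient.mk I), map_mul u', map_mul (Ideal.Quotient.mk Q), map_mul (Ideal.Quotient.mk K)]
    linear_combination e1 + e2 + e3
  have hle : I ≤ Ideal.span ((Finset.univ.image g : Finset P) : Set P) ⊔ IsLocalRing.maximalIdeal P • I := by
    intro i hi
    have h1 : Ideal.Quotient.mk Q i ∈ K := by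
      rw [← Ideal.Quotient.eq_zero_iff_mem, ← hsq i (by rw [← pow_two]; exact hI hi),
        Ideal.Quotient.eq_zero_iff_mem.mpr hi, map_zero]
    have hspan : K = (Ideal.span ((Finset.univ.image g : Finset P) : Set P)).map (Ideal.Quotient.mk Q) := by
      rw [Ideal.map_span, Finset.coe_image, Finset.coe_univ, Set.image_univ, ← Set.range_comp]
      exact congrArg Ideal.span (congrArg Set.range (funext fun a => (hg a).symm))
    rw [hspan, ← Ideal.mem_comap, Ideal.comap_map_of_surjective' _ Ideal.Quotient.mk_surjective, Ideal.mk_ker] at h1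
    obtain ⟨l, hl, q, hq, rfl⟩ := Submodule.mem_sup.mp h1
    refine Submodule.add_mem_sup hl ?_
    obtain ⟨x, hx, y, hy, rfl⟩ := Submodule.mem_sup.mp hq
    refine add_mem hx (hcap y ?_ hy)
    have hl' : l ∈ I := Ideal.span_le.mpr (by
      rw [Finset.coe_image, Finset.coe_univ, Set.image_univ]
      rintro _ ⟨a, rfl⟩; exact hgI a) hl
    have hx' : x ∈ I := Ideal.mul_le_right hx
    have := I.sub_mem (I.sub_mem hi hl') hx'
    rwa [add_sub_cancel_left, add_sub_cancel_left] at this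
  refine le_antisymm (Ideal.span_le.mpr ?_) (Submodule.le_of_le_smul_of_le_jacobson_bot (IsNoetherian.noetherian I)
    (le_of_eq (IsLocalRing.jacobson_eq_maximalIdeal (⊥ : Ideal P) bot_ne_top).symm) hle)
  rw [Finset.coe_image, Finset.coe_univ, Set.image_univ]
  rintro _ ⟨a, rfl⟩
  exact hgI a


/-- Let P be a regular local k-algebra with residue field k, I ⊆ m_P² an ideal, and A = P/I. If A has an
obstruction theory whose obstruction space is a finite-dimensional k-vector space V (obstructions in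
V ⊗ J attached to k-algebra maps A → C'/J for small extensions 0 → J → C' → C'/J → 0 of local
Artinian k-algebras with residue field k, vanishing exactly when the map lifts to C', and compatible
with passing to C'/K for ideals K ≤ J), then I is generated by at most dim_k V elements. (The
published statement gives a natural injection of the dual of I/m_P·I into V; this row asserts the
resulting bound on the number of generators.) -/
theorem result (k : Type u) [Field k] (P : Type u) [CommRing P]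
    [IsRegularLocalRing P] [Algebra k P]
    (hres : Function.Surjective (algebraMap k (IsLocalRing.ResidueField P)))
    (I : Ideal P) (hI : I ≤ IsLocalRing.maximalIdeal P ^ 2)
    (V : Type u) [AddCommGroup V] [Module k V] [Module.Finite k V]
    (T : W4bk4hartshdef114.ObsTheory k (P ⧸ I) V) :
    I.spanFinrank ≤ Module.finrank k V := by
  obtain ⟨s, hs, hspan⟩ := exists_finset_span hres I hI V T
  rw [← hspan]
  refine (Submodule.spanFinrank_span_le_ncard_of_finite s.finite_toSet).trans ?_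
  rwa [Set.ncard_coe_finset]

end Groth.Agent.S11466
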