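import Groth.Statements.S11468
import Mathlib

set_option autoImplicit false
universe u
open CategoryTheory AlgebraicGeometry
open DefT

namespace Groth.Agent.S11468

theorem ker_inl_of_isPushout {Z A B P : CommRingCat.{u}} {f : Z ⟶ A} {g : Z ⟶ B} {inl : A ⟶ P} {inr : B ⟶ P}
    (h : IsPushout f g inl inr) (hg : Function.Surjective g.hom) :
    RingHom.ker inl.hom = (RingHom.ker g.hom).map f.hom := by
  refine le_antisymm (fun a ha => ?_) ?_
  · let I := (RingHom.ker g.hom).map f.hom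
    let l : B →+* A ⧸ I := RingHom.liftOfSurjective g.hom hg ⟨(Ideal.Quotient.mk I).comp f.hom, fun z hz => by
      rw [RingHom.mem_ker, RingHom.comp_apply, Ideal.Quotient.eq_zero_iff_mem]
      exact Ideal.mem_map_of_mem _ hz⟩
    have w : f ≫ CommRingCat.ofHom (Ideal.Quotient.mk I) = g ≫ CommRingCat.ofHom l := by
      ext z
      exact (congr($(RingHom.liftOfSurjective_comp (f := g.hom) (C := A ⧸ I) hg ⟨(Ideal.Quotient.mk I).comp f.hom, _⟩) z)).symm
    have e := congr($(h.inl_desc _ _ w).hom a)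
    rw [CommRingCat.hom_comp, RingHom.comp_apply, RingHom.mem_ker.mp ha, map_zero] at e
    exact Ideal.Quotient.eq_zero_iff_mem.mp e.symm
  · rw [Ideal.map_le_iff_le_comap]
    intro z hz
    show inl.hom (f.hom z) = 0
    have e := congr($(h.w).hom z)
    rw [CommRingCat.hom_comp, RingHom.comp_apply, CommRingCat.hom_comp, RingHom.comp_apply] at e
    rw [e, RingHom.mem_ker.mp hz, map_zero]

theorem mem_map_of_mul_mem {C A : Type u} [CommRing C] [CommRing A] [Algebra C A] [Module.Flat C A]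
    (m J : Ideal C) (e : C) (hcolon : ∀ r, r * e ∈ J ↔ r ∈ m) (a : A)
    (ha : algebraMap C A e * a ∈ J.map (algebraMap C A)) : a ∈ m.map (algebraMap C A) := by
  let μ : C →ₗ[C] C ⧸ J := LinearMap.toSpanSingleton C (C ⧸ J) (Ideal.Quotient.mk J e)
  have hμ : ∀ r, μ r = Ideal.Quotient.mk J (r * e) := fun r => rfl
  have hker : LinearMap.ker μ = m := by
    ext r
    rw [LinearMap.mem_ker, hμ, Ideal.Quotient.eq_zero_iff_mem, hcolon]
  let ψ : C ⧸ m →ₗ[C] C ⧸ J := Submodule.liftQ m μ hker.ge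
  have hψ : Function.Injective ψ := by
    rw [← LinearMap.ker_eq_bot, Submodule.ker_liftQ, hker]
    exact (Submodule.eq_bot_iff _).mpr fun x ⟨y, hy, hyx⟩ => by
      rw [← hyx]; exact (Submodule.Quotient.mk_eq_zero m).mpr hy
  have hinj := Module.Flat.lTensor_preserves_injective_linearMap (M := A) ψ hψ
  rw [← Ideal.Quotient.eq_zero_iff_mem] at ha ⊢
  apply (Algebra.TensorProduct.quotIdealMapEquivTensorQuot A m).injective
  rw [map_zero, Algebra.TensorProduct.quotIdealMapEquivTensorQuot_mk]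
  apply hinj
  rw [map_zero]
  have h2 := congrArg (Algebra.TensorProduct.quotIdealMapEquivTensorQuot A J) ha
  rw [map_zero, Algebra.TensorProduct.quotIdealMapEquivTensorQuot_mk] at h2
  show a ⊗ₜ[C] μ 1 = 0
  rw [← h2, hμ, one_mul, ← Algebra.smul_def, TensorProduct.smul_tmul]
  congr 1
  rw [← map_one (Ideal.Quotient.mk J), Algebra.smul_def, Ideal.Quotient.algebraMap_eq, ← map_mul, mul_one]


/-- Let C be a local Artin ring with maximal ideal m and residue field k = C/m, g : X → Spec C a flat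
morphism, and i : X₀ → X the fibre of g over the closed point, i.e. a pullback of g along Spec k →
Spec C, with structure map f₀ : X₀ → Spec k. If the induced ring map k → Γ(X₀, O_{X₀}) is bijective,
then so is C → Γ(X, O_X). -/
theorem result (C : Type u) [CommRing C]
    [IsLocalRing C] [IsArtinianRing C] (X X₀ : Scheme.{u}) (g : X ⟶ Spec (CommRingCat.of C)) [Flat g]
    (i : X₀ ⟶ X) (f₀ : X₀ ⟶ Spec (CommRingCat.of (C ⧸ IsLocalRing.maximalIdeal C)))
    (hsq : IsPullback i f₀ g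
      (Spec.map (CommRingCat.ofHom (Ideal.Quotient.mk (IsLocalRing.maximalIdeal C)))))
    (h0 : Function.Bijective ((Scheme.ΓSpecIso (CommRingCat.of (C ⧸ IsLocalRing.maximalIdeal C))).inv ≫
      f₀.appTop)) :
    Function.Bijective ((Scheme.ΓSpecIso (CommRingCat.of C)).inv ≫ g.appTop) := by
  let m := IsLocalRing.maximalIdeal C
  let q := Spec.map (CommRingCat.ofHom (Ideal.Quotient.mk m))
  let φ : ∀ U : X.Opens, C →+* Γ(X, U) := fun U => ((Scheme.ΓSpecIso (CommRingCat.of C)).inv ≫ g.appLE ⊤ U le_top).hom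
  have hres : ∀ (U V : X.Opens) (h : V ≤ U) (c : C), (X.presheaf.map (homOfLE h).op).hom (φ U c) = φ V c := by
    intro U V h c
    exact congr($(Scheme.Hom.appLE_map g (le_top : U ≤ g ⁻¹ᵁ ⊤) (homOfLE h).op).hom _)
  have hresJ : ∀ (U V : X.Opens) (h : V ≤ U) (J : Ideal C) (a : Γ(X, U)), a ∈ J.map (φ U) →
      (X.presheaf.map (homOfLE h).op).hom a ∈ J.map (φ V) := by
    intro U V h J a ha
    have := Ideal.mem_map_of_mem (X.presheaf.map (homOfLE h).op).hom ha
    rw [Ideal.map_map] at this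
    rwa [show ((X.presheaf.map (homOfLE h).op).hom.comp (φ U)) = φ V from RingHom.ext (hres U V h)] at this
  have hflat : ∀ U : X.affineOpens, (φ U.1).Flat := fun U => by
    have h1 := Scheme.Hom.flat_appLE g (isAffineOpen_top _) U.2 (le_top : U.1 ≤ g ⁻¹ᵁ ⊤)
    exact (RingHom.Flat.respectsIso.2 _ (Scheme.ΓSpecIso (CommRingCat.of C)).symm.commRingCatIsoToRingEquiv h1)
  have hker : ∀ U : X.affineOpens, RingHom.ker (i.app U.1).hom = m.map (φ U.1) := by
    intro U
    have hY : i ⁻¹ᵁ U.1 = i ⁻¹ᵁ U.1 ⊓ f₀ ⁻¹ᵁ ⊤ := by simp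
    have hqT : (⊤ : (Spec (CommRingCat.of (C ⧸ m))).Opens) ≤ q ⁻¹ᵁ ⊤ := le_top
    have hpo := (isIso_pushoutSection_iff hsq hqT (le_top : U.1 ≤ g ⁻¹ᵁ ⊤) hY).mp
      (isIso_pushoutSection_of_isAffineOpen hsq hqT le_top hY (isAffineOpen_top _) (isAffineOpen_top _) U.2)
    have hq : q.appLE ⊤ ⊤ hqT = (Scheme.ΓSpecIso (CommRingCat.of C)).hom ≫
        CommRingCat.ofHom (Ideal.Quotient.mk m) ≫ (Scheme.ΓSpecIso (CommRingCat.of (C ⧸ m))).inv := by
      rw [← Category.assoc, Iso.eq_comp_inv]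
      have h2 := Scheme.ΓSpecIso_naturality (CommRingCat.ofHom (Ideal.Quotient.mk m))
      rw [← h2]
      congr 1
    have hs : Function.Surjective (q.appLE ⊤ ⊤ hqT).hom := by
      rw [hq]
      exact ((Scheme.ΓSpecIso (CommRingCat.of (C ⧸ m))).symm.commRingCatIsoToRingEquiv.surjective.comp
        Ideal.Quotient.mk_surjective).comp (Scheme.ΓSpecIso (CommRingCat.of C)).commRingCatIsoToRingEquiv.surjective
    have h3 := ker_inl_of_isPushout hpo hs
    have hk : RingHom.ker (q.appLE ⊤ ⊤ hqT).hom = m.map (Scheme.ΓSpecIso (CommRingCat.of C)).inv.hom := by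
      ext z
      obtain ⟨c, rfl⟩ := (Scheme.ΓSpecIso (CommRingCat.of C)).symm.commRingCatIsoToRingEquiv.surjective z
      rw [hq, RingHom.mem_ker]
      change (Scheme.ΓSpecIso (CommRingCat.of (C ⧸ m))).symm.commRingCatIsoToRingEquiv
        (Ideal.Quotient.mk m ((Scheme.ΓSpecIso (CommRingCat.of C)).hom.hom ((Scheme.ΓSpecIso (CommRingCat.of C)).inv.hom c))) = 0 ↔ _
      rw [EmbeddingLike.map_eq_zero_iff, Iso.inv_hom_id_apply, Ideal.Quotient.eq_zero_iff_mem]
      exact ((Ideal.mem_map_of_equiv (I := m) (Scheme.ΓSpecIso (CommRingCat.of C)).symm.commRingCatIsoToRingEquiv _).trans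
        ⟨fun ⟨x, hx, hx'⟩ => (EquivLike.injective _ hx') ▸ hx, fun h => ⟨c, h, rfl⟩⟩).symm
    rw [hk, Ideal.map_map] at h3
    rw [Scheme.Hom.app_eq_appLE]
    exact h3
  let ψ0 : (C ⧸ m) →+* Γ(X₀, ⊤) := ((Scheme.ΓSpecIso (CommRingCat.of (C ⧸ m))).inv ≫ f₀.appTop).hom
  have hψ0 : ∀ (U : X.Opens) (c : C), (X₀.presheaf.map (homOfLE (le_top : i ⁻¹ᵁ U ≤ ⊤)).op).hom
      (ψ0 (Ideal.Quotient.mk m c)) = (i.app U).hom (φ U c) := by
    intro U c
    have e1 : CommRingCat.ofHom (Ideal.Quotient.mk m) ≫ (Scheme.ΓSpecIso (CommRingCat.of (C ⧸ m))).inv ≫ f₀.appTop =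
        (Scheme.ΓSpecIso (CommRingCat.of C)).inv ≫ g.appTop ≫ i.appTop := by
      rw [Scheme.ΓSpecIso_inv_naturality_assoc, ← Scheme.Hom.comp_appTop, ← Scheme.Hom.comp_appTop, hsq.w]
    have e2 : (CommRingCat.ofHom (Ideal.Quotient.mk m) ≫ (Scheme.ΓSpecIso (CommRingCat.of (C ⧸ m))).inv ≫ f₀.appTop) ≫
        X₀.presheaf.map (homOfLE (le_top : i ⁻¹ᵁ U ≤ ⊤)).op =
        ((Scheme.ΓSpecIso (CommRingCat.of C)).inv ≫ g.appLE ⊤ U le_top) ≫ i.app U := by
      rw [e1]
      simp [Scheme.Hom.appTop, Scheme.Hom.appLE, Scheme.Hom.naturality]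
    exact congr($(e2).hom c)
  suffices P : ∀ J : Ideal C, (∀ c ∈ J, φ ⊤ c = 0 → c = 0) ∧
      ∀ s : Γ(X, ⊤), (∀ U : X.affineOpens, (X.presheaf.map (homOfLE (le_top : U.1 ≤ ⊤)).op).hom s ∈ J.map (φ U.1)) →
        ∃ c ∈ J, φ ⊤ c = s by
    have heq : ((Scheme.ΓSpecIso (CommRingCat.of C)).inv ≫ g.appTop).hom = φ ⊤ := by
      have : g.appTop = g.appLE ⊤ ⊤ le_top := Scheme.Hom.app_eq_appLE g
      rw [this]
    show Function.Bijective ((Scheme.ΓSpecIso (CommRingCat.of C)).inv ≫ g.appTop).hom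
    rw [heq]
    refine ⟨(injective_iff_map_eq_zero _).mpr fun c hc => (P ⊤).1 c trivial hc, fun s => ?_⟩
    obtain ⟨c, -, hc⟩ := (P ⊤).2 s (fun U => by rw [Ideal.map_top]; trivial)
    exact ⟨c, hc⟩
  intro J
  induction J using IsWellFounded.induction (α := Ideal C) (· < ·) with
  | ind J ih =>
  rcases eq_or_ne J ⊥ with rfl | hJ
  · refine ⟨fun c hc _ => hc, fun s hs => ⟨0, zero_mem _, ?_⟩⟩
    rw [map_zero]
    refine X.sheaf.eq_of_locally_eq' (fun U : X.affineOpens => U.1) ⊤ (fun U => homOfLE le_top) ?_ _ _ fun U => ?_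
    · intro x _
      obtain ⟨V, hV, hxV, -⟩ := exists_isAffineOpen_mem_and_subset (U := (⊤ : X.Opens)) (x := x) trivial
      exact TopologicalSpace.Opens.mem_iSup.mpr ⟨⟨V, hV⟩, hxV⟩
    · have := hs U
      rw [Ideal.map_bot, Ideal.mem_bot] at this
      exact ((map_zero _).trans this.symm)
  obtain ⟨J', hJ', hmax⟩ := wellFounded_gt.has_min {K : Ideal C | K < J} ⟨⊥, bot_lt_iff_ne_bot.mpr hJ⟩
  have hJ'le : J' ≤ J := (show J' < J from hJ').le
  have hcov : ∀ K : Ideal C, J' ≤ K → K ≤ J → K = J' ∨ K = J := by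
    intro K h1 h2
    rcases h2.eq_or_lt with h | h
    · exact Or.inr h
    · rcases h1.eq_or_lt with h' | h'
      · exact Or.inl h'.symm
      · exact absurd h' (hmax K h)
  obtain ⟨e, heJ, heJ'⟩ := SetLike.exists_of_lt (show J' < J from hJ')
  have hsplit : J = J' ⊔ Ideal.span {e} := by
    rcases hcov (J' ⊔ Ideal.span {e}) le_sup_left (sup_le hJ'le ((Ideal.span_singleton_le_iff_mem _).mpr heJ)) with h | h
    · exact absurd (h ▸ Submodule.mem_sup_right (Ideal.mem_span_singleton_self e)) heJ'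
    · exact h.symm
  have hme : ∀ r ∈ m, r * e ∈ J' := by
    rcases hcov (J' ⊔ m * J) le_sup_left (sup_le hJ'le Ideal.mul_le_right) with h | h
    · exact fun r hr => h ▸ Submodule.mem_sup_right (Ideal.mul_mem_mul hr heJ)
    · exfalso
      refine (show J' < J from hJ').not_ge ?_
      exact Submodule.le_of_le_smul_of_le_jacobson_bot (IsNoetherian.noetherian J)
        (le_of_eq (IsLocalRing.jacobson_eq_maximalIdeal (⊥ : Ideal C) bot_ne_top).symm) h.ge
  have hcolon : ∀ r, r * e ∈ J' ↔ r ∈ m := fun r => ⟨fun h => by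
    by_contra hr
    exact heJ' ((Ideal.unit_mul_mem_iff_mem _ (IsLocalRing.notMem_maximalIdeal.mp hr)).mp h), hme r⟩
  have hdiv : ∀ (U : X.affineOpens) (a : Γ(X, U.1)), φ U.1 e * a ∈ J'.map (φ U.1) → a ∈ m.map (φ U.1) := by
    intro U a ha
    letI := (φ U.1).toAlgebra
    haveI : Module.Flat C Γ(X, U.1) := hflat U
    exact mem_map_of_mul_mem m J' e hcolon a ha
  obtain ⟨ih1, ih2⟩ := ih J' hJ'
  refine ⟨fun c hc hc0 => ?_, fun s hs => ?_⟩
  · rw [hsplit] at hc
    obtain ⟨c', hc', t, ht, rfl⟩ := Submodule.mem_sup.mp hc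
    obtain ⟨r, rfl⟩ := Ideal.mem_span_singleton'.mp ht
    have hr : r ∈ m := by
      by_contra hr
      have hu := IsLocalRing.notMem_maximalIdeal.mp hr
      have h0' : ψ0 (Ideal.Quotient.mk m r) = 0 := by
        refine X₀.sheaf.eq_of_locally_eq' (fun U : X.affineOpens => i ⁻¹ᵁ U.1) ⊤ (fun U => homOfLE le_top) ?_ _ _ fun U => ?_
        · intro x _
          obtain ⟨V, hV, hxV, -⟩ := exists_isAffineOpen_mem_and_subset (U := (⊤ : X.Opens)) (x := i x) trivial
          exact TopologicalSpace.Opens.mem_iSup.mpr ⟨⟨V, hV⟩, hxV⟩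
        · refine ((hψ0 U.1 r).trans ?_).trans (map_zero _).symm
          rw [← RingHom.mem_ker, hker U]
          refine hdiv U _ ?_
          have h5 : φ U.1 (c' + r * e) = 0 := by rw [← hres ⊤ U.1 le_top, hc0, map_zero]
          rw [map_add, map_mul, add_eq_zero_iff_eq_neg] at h5
          have h6 := Ideal.mem_map_of_mem (φ U.1) hc'
          rw [h5, Ideal.neg_mem_iff, mul_comm] at h6
          exact h6
      exact hr (Ideal.Quotient.eq_zero_iff_mem.mp ((map_eq_zero_iff ψ0 h0.injective).mp h0'))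
    exact ih1 _ (J'.add_mem hc' (hme r hr)) hc0
  · have hdec : ∀ U : X.affineOpens, ∃ a : Γ(X, U.1),
        (X.presheaf.map (homOfLE (le_top : U.1 ≤ ⊤)).op).hom s - φ U.1 e * a ∈ J'.map (φ U.1) := by
      intro U
      have h := hs U
      rw [hsplit, Ideal.map_sup, Ideal.map_span, Set.image_singleton] at h
      obtain ⟨j, hj, t, ht, hjt⟩ := Submodule.mem_sup.mp h
      obtain ⟨a, rfl⟩ := Ideal.mem_span_singleton'.mp ht
      exact ⟨a, by rw [← hjt, mul_comm, add_sub_cancel_right]; exact hj⟩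
    choose a ha using hdec
    have hcompat : ∀ (U W : X.affineOpens) (h : W.1 ≤ U.1),
        (X.presheaf.map (homOfLE h).op).hom (a U) - a W ∈ m.map (φ W.1) := by
      intro U W h
      refine hdiv W _ ?_
      have h1 := hresJ U.1 W.1 h J' _ (ha U)
      rw [map_sub, map_mul, hres] at h1
      have h2 : (X.presheaf.map (homOfLE h).op).hom ((X.presheaf.map (homOfLE (le_top : U.1 ≤ ⊤)).op).hom s) =
          (X.presheaf.map (homOfLE (le_top : W.1 ≤ ⊤)).op).hom s := by
        rw [← CommRingCat.comp_apply, ← Functor.map_comp]; rfl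
      rw [h2] at h1
      convert Ideal.sub_mem _ (ha W) h1 using 1
      ring
    let b : ∀ U : X.affineOpens, Γ(X₀, i ⁻¹ᵁ U.1) := fun U => (i.app U.1).hom (a U)
    have hb : ∀ (U W : X.affineOpens) (h : W.1 ≤ U.1),
        (X₀.presheaf.map (homOfLE (i.preimage_mono h)).op).hom (b U) = b W := by
      intro U W h
      have h1 : (i.app W.1).hom ((X.presheaf.map (homOfLE h).op).hom (a U) - a W) = 0 := by
        rw [← RingHom.mem_ker, hker W]; exact hcompat U W h
      rw [map_sub, sub_eq_zero] at h1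
      exact (congr($(i.naturality (homOfLE h).op).hom (a U))).symm.trans h1
    obtain ⟨σ, hσ, -⟩ := X₀.sheaf.existsUnique_gluing' (fun U : X.affineOpens => i ⁻¹ᵁ U.1) ⊤
      (fun U => homOfLE le_top) (by
        intro x _
        obtain ⟨V, hV, hxV, -⟩ := exists_isAffineOpen_mem_and_subset (U := (⊤ : X.Opens)) (x := i x) trivial
        exact TopologicalSpace.Opens.mem_iSup.mpr ⟨⟨V, hV⟩, hxV⟩) b (by
        intro U V
        refine X₀.sheaf.eq_of_locally_eq' (fun W : {W : X.affineOpens // W.1 ≤ U.1 ⊓ V.1} => i ⁻¹ᵁ W.1.1) _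
          (fun W => homOfLE (show i ⁻¹ᵁ W.1.1 ≤ i ⁻¹ᵁ U.1 ⊓ i ⁻¹ᵁ V.1 from
            fun x hx => ⟨(W.2 hx).1, (W.2 hx).2⟩)) ?_ _ _ fun W => ?_
        · intro x hx
          obtain ⟨W, hW, hxW, hWU⟩ := exists_isAffineOpen_mem_and_subset (U := U.1 ⊓ V.1) (x := i x) hx
          exact TopologicalSpace.Opens.mem_iSup.mpr ⟨⟨⟨W, hW⟩, hWU⟩, hxW⟩
        · have e1 := hb U W.1 (W.2.trans inf_le_left)
          have e2 := hb V W.1 (W.2.trans inf_le_right)
          refine (Eq.trans ?_ (e1.trans e2.symm)).trans ?_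
          · exact (congr($(X₀.presheaf.map_comp _ _).hom (b U))).symm
          · exact congr($(X₀.presheaf.map_comp _ _).hom (b V)))
    obtain ⟨cb, hcb⟩ := h0.surjective σ
    obtain ⟨c, rfl⟩ := Ideal.Quotient.mk_surjective cb
    have hcb' : ψ0 (Ideal.Quotient.mk m c) = σ := hcb
    have hgoal : ∀ U : X.affineOpens,
        (X.presheaf.map (homOfLE (le_top : U.1 ≤ ⊤)).op).hom (s - φ ⊤ (e * c)) ∈ J'.map (φ U.1) := by
      intro U
      have h1 : a U - φ U.1 c ∈ m.map (φ U.1) := by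
        rw [← hker U, RingHom.mem_ker, map_sub, sub_eq_zero, ← hψ0, hcb']
        exact (hσ U).symm
      have h2 : φ U.1 e * (a U - φ U.1 c) ∈ J'.map (φ U.1) := by
        have := Ideal.mul_mem_mul (Ideal.mem_map_of_mem (φ U.1) (Ideal.mem_span_singleton_self e)) h1
        rw [← Ideal.map_mul] at this
        refine Ideal.map_mono ?_ this
        rw [Ideal.span_singleton_mul_le_iff]
        intro r hr
        rw [mul_comm]
        exact hme r hr
      rw [map_sub, hres, map_mul]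
      convert Ideal.add_mem _ (ha U) h2 using 1
      ring
    obtain ⟨c', hc', hs'⟩ := ih2 (s - φ ⊤ (e * c)) hgoal
    refine ⟨c' + e * c, J.add_mem (hJ'le hc') (J.mul_mem_right _ heJ), ?_⟩
    rw [map_add, hs', sub_add_cancel]

end Groth.Agent.S11468
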