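import Groth.Statements.S1147
import Groth.Agent.S9432
import Mathlib.RingTheory.Jacobson.Ring
import Mathlib.RingTheory.Flat.FaithfullyFlat.Algebra
import Mathlib.RingTheory.Ideal.GoingDown
-- import your own Groth.Agent.* helpers here

set_option autoImplicit false
universe u
open Desc

namespace Groth.Agent.S1147

/-- Let A → B be a faithfully flat ring map of finite presentation. If B is a Jacobson ring then so is
A. (This is the affine descent direction of the statement that the Jacobson property is fppf local.) -/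
theorem result (A B : Type u) [CommRing A] [CommRing B] [Algebra A B]
    [Module.FaithfullyFlat A B] [Algebra.FinitePresentation A B] [IsJacobsonRing B] : IsJacobsonRing A := by
  classical
  obtain ⟨C, _, _, hqf, hft, hff, -, ⟨φ⟩⟩ := Groth.Agent.S9432.result A B
  haveI : IsJacobsonRing C := by
    letI := φ.toRingHom.toAlgebra
    haveI : IsScalarTower A B C := IsScalarTower.of_algebraMap_eq fun r => (φ.commutes r).symm
    haveI : Algebra.FiniteType B C := Algebra.FiniteType.of_restrictScalars_finiteType A B C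
    exact isJacobsonRing_of_finiteType (A := B)
  rw [isJacobsonRing_iff_prime_eq]
  intro p0 hp0
  refine le_antisymm (fun x hx => ?_) Ideal.le_jacobson
  by_contra hx0
  let L := Localization.Away x
  have hd : Disjoint (Submonoid.powers x : Set A) (p0 : Set A) := by
    rw [Set.disjoint_left]
    rintro _ ⟨k, rfl⟩ hk
    exact hx0 (hp0.mem_of_pow_mem k hk)
  have hp0L : (p0.map (algebraMap A L)).IsPrime :=
    IsLocalization.isPrime_of_isPrime_disjoint (Submonoid.powers x) L p0 hp0 hd
  obtain ⟨N, hN, hle⟩ := Ideal.exists_le_maximal _ hp0L.ne_top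
  let p := N.comap (algebraMap A L)
  haveI hp : p.IsPrime := Ideal.IsPrime.comap _
  have hp0p : p0 ≤ p := Ideal.map_le_iff_le_comap.1 hle
  have hxp : x ∉ p := fun h => hN.ne_top (Ideal.eq_top_of_isUnit_mem _ h (IsLocalization.Away.algebraMap_isUnit x))
  have hmax : ∀ q : Ideal A, q.IsPrime → p ≤ q → x ∉ q → q = p := fun q hq hpq hxq => by
    have hdq : Disjoint (Submonoid.powers x : Set A) (q : Set A) := by
      rw [Set.disjoint_left]
      rintro _ ⟨k, rfl⟩ hk
      exact hxq (hq.mem_of_pow_mem k hk)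
    have hqL := IsLocalization.isPrime_of_isPrime_disjoint (Submonoid.powers x) L q hq hdq
    have hNq : N ≤ q.map (algebraMap A L) := by
      rw [← IsLocalization.map_comap (Submonoid.powers x) L N]
      exact Ideal.map_mono hpq
    rw [← IsLocalization.comap_map_of_isPrime_disjoint (Submonoid.powers x) L hq hdq]
    exact congrArg (Ideal.comap (algebraMap A L)) (hN.eq_of_le hqL.ne_top hNq).symm
  have hpnm : ¬ p.IsMaximal := fun h => hxp (Submodule.mem_sInf.1 hx p ⟨hp0p, h⟩)
  obtain ⟨q, hq, hpq⟩ := Ideal.exists_le_maximal p hp.ne_top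
  haveI := hq
  have hlt : p < q := lt_of_le_of_ne hpq fun h => hpnm (h ▸ hq)
  obtain ⟨⟨Q, hQ⟩, hQq⟩ := PrimeSpectrum.comap_surjective_of_faithfullyFlat (A := A) (B := C) ⟨q, hq.isPrime⟩
  haveI := hQ
  haveI : Q.LiesOver q := ⟨(congrArg PrimeSpectrum.asIdeal hQq).symm⟩
  obtain ⟨P, hPQ, hP, hPp⟩ := Q.exists_ideal_le_liesOver_of_le (p := p) (q := q) hlt.le
  haveI := hP
  have hxP : algebraMap A C x ∉ P := fun h => hxp (by rw [hPp.over]; exact h)
  have hPnm : ¬ P.IsMaximal := fun h => hlt.ne (by
    have : P = Q := h.eq_of_le hQ.ne_top hPQ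
    rw [hPp.over, ‹Q.LiesOver q›.over, this])
  let F : Set (Ideal C) := {M | M ∈ p.primesOver C ∧ ¬ M ≤ P}
  have hF : F.Finite := (Algebra.QuasiFinite.finite_primesOver p).subset fun M h => h.1
  choose! y hy using fun M (hM : M ∈ F) => SetLike.not_le_iff_exists.1 hM.2
  let z := algebraMap A C x * ∏ M ∈ hF.toFinset, y M
  have hz : z ∈ P.jacobson := Submodule.mem_sInf.2 fun (M : Ideal C) ⟨hPM, hM⟩ => by
    haveI := hM
    by_cases hxM : x ∈ Ideal.under A M
    · exact M.mul_mem_right _ hxM
    · have hpM : p ≤ Ideal.under A M := by rw [hPp.over]; exact Ideal.comap_mono hPM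
      have hMp : Ideal.under A M = p := hmax _ (hM.isPrime.under A) hpM hxM
      have hMF : M ∈ F := ⟨⟨hM.isPrime, ⟨hMp.symm⟩⟩, fun h => hPnm (le_antisymm h hPM ▸ hM)⟩
      refine M.mul_mem_left _ ?_
      exact Ideal.mem_of_dvd _ (Finset.dvd_prod_of_mem y (hF.mem_toFinset.2 hMF)) (hy M hMF).1
  rw [(isJacobsonRing_iff_prime_eq.1 inferInstance) P hP] at hz
  rcases hP.mem_or_mem hz with h | h
  · exact hxP h
  · obtain ⟨M, hM, hyM⟩ := (hP.prod_mem_iff).1 h
    exact (hy M (hF.mem_toFinset.1 hM)).2 hyM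

end Groth.Agent.S1147
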