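import Groth.Statements.S1148
import Mathlib
-- import your own Groth.Agent.* helpers here

set_option autoImplicit false
universe u
open Desc

namespace Groth.Agent.S1148

/-- Affine form (finiteness of irreducible components of quasi-compact opens is fppf local; this is the
ascent direction for a morphism of affine schemes). Let A → B be a flat ring map of finite
presentation. If Spec A has finitely many irreducible components, then so does Spec B. -/
theorem result (A B : Type u) [CommRing A] [CommRing B] [Algebra A B]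
    [Module.Flat A B] [Algebra.FinitePresentation A B] (h : (irreducibleComponents (PrimeSpectrum A)).Finite) :
    (irreducibleComponents (PrimeSpectrum B)).Finite := by
  have hA : (minimalPrimes A).Finite :=
    Set.finite_coe_iff.mp (@Finite.of_equiv _ _ h.to_subtype (OrderDual.toDual.trans (minimalPrimes.equivIrreducibleComponents (R := A)).toEquiv.symm))
  suffices hB : (minimalPrimes B).Finite from
    Set.finite_coe_iff.mp (@Finite.of_equiv _ _ hB.to_subtype ((minimalPrimes.equivIrreducibleComponents (R := B)).toEquiv.trans OrderDual.ofDual))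
  have hfib : ∀ p ∈ minimalPrimes A, {Q : Ideal B | Q ∈ minimalPrimes B ∧ Q.under A = p}.Finite := by
    intro p hp
    haveI : p.IsPrime := hp.1.1
    haveI : IsNoetherianRing (p.Fiber B) := Algebra.FiniteType.isNoetherianRing p.ResidueField _
    let e := PrimeSpectrum.primesOverOrderIsoFiber A B p
    refine ((minimalPrimes.finite_of_isNoetherianRing (p.Fiber B)).preimage (f := fun Q : {Q : Ideal B // Q ∈ p.primesOver B} => (e Q).asIdeal)
      (fun a _ b _ hab => e.injective (PrimeSpectrum.ext hab)) |>.image Subtype.val).subset ?_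
    rintro Q ⟨hQ, hQp⟩
    have hQ' : Q ∈ p.primesOver B := ⟨hQ.1.1, ⟨hQp.symm⟩⟩
    refine ⟨⟨Q, hQ'⟩, ⟨⟨(e ⟨Q, hQ'⟩).2, bot_le⟩, fun P hP hle => ?_⟩, rfl⟩
    obtain ⟨Q₂, hQ₂⟩ := e.surjective ⟨P, hP.1⟩
    have hle' : Q₂ ≤ ⟨Q, hQ'⟩ := e.le_iff_le.mp (by rw [hQ₂]; exact hle)
    have : Q ≤ Q₂.1 := hQ.2 ⟨Q₂.2.1, bot_le⟩ hle'
    have h2 : e ⟨Q, hQ'⟩ ≤ e Q₂ := e.le_iff_le.mpr this
    rw [hQ₂] at h2
    exact h2
  refine (hA.biUnion hfib).subset fun Q hQ => Set.mem_biUnion (x := Q.under A) ?_ ⟨hQ, rfl⟩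
  haveI : Q.IsPrime := hQ.1.1
  refine ⟨⟨inferInstance, bot_le⟩, fun p hp hle => ?_⟩
  haveI : p.IsPrime := hp.1
  obtain ⟨P, hPQ, hP, hPp⟩ := Ideal.exists_ideal_le_liesOver_of_le (q := Q.under A) Q hle
  have : Q ≤ P := hQ.2 ⟨hP, bot_le⟩ hPQ
  rw [hPp.over]
  exact Ideal.comap_mono this

end Groth.Agent.S1148
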