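import Groth.Statements.S11486
import Groth.Agent.ProjCoh.SplittingRank

set_option autoImplicit false
universe u
open VBPn

namespace Groth.Agent.S11486

open Groth.Agent.ProjCoh

open CategoryTheory CategoryTheory.Limits AlgebraicGeometry in
/-- Let k be a characteristic-zero algebraically closed field and E a finite locally free O-module of
rank r on P^n_k. Then E splits as a direct sum of twisting sheaves O(a_1) ⊕ ⋯ ⊕ O(a_r) if and only
if H^i(P^n_k, E ⊗ O(d)) = 0 for every 0 < i < n and every integer d. -/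
theorem result (k : Type u) [Field k] [IsAlgClosed k] [CharZero k]
    (n r : ℕ) (E : (CohB1.ProjSpace n k).Modules) (hE : FlatMod.IsFinLocFreeOfRank r E) :
    (∃ a : Fin r → ℤ, Nonempty (E ≅ ∐ fun j : Fin r => Twist.twistProjSpace n k (a j))) ↔
      ∀ (i : ℕ) (d : ℤ), 0 < i → i < n →
        Subsingleton (Coh.HH (CohB1.ProjSpace n k) (CohB1.tensorMod E (Twist.twistProjSpace n k d)) i) := by
  let E' : (Proj (CohB1.polyGrading n k)).Modules := E
  have hfree : FlatMod.IsFinLocFree E' := fun x => let ⟨U, h⟩ := hE x; ⟨U, r, h⟩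
  haveI : E'.IsQuasicoherent := (DCohPerf.isCoh_finLocFree hfree).1
  constructor
  · rintro ⟨a, ⟨e⟩⟩ i d h1 h2
    obtain ⟨S⟩ := Splitting.exists_of_iso (E := E') (a := a) e
    exact (subsingleton_TH_iff E' d i).2 ((Splitting.conditions (by omega) S).2 d i h1 h2)
  · intro h
    rcases Nat.eq_zero_or_pos n with hn | hn
    · subst hn
      exact ⟨fun _ => 0, exists_iso_twist_zero r E hE⟩
    · obtain ⟨a, ⟨S⟩⟩ := exists_splitting_of_isFinLocFreeOfRank hn E' hE
        fun m i h1 h2 => (subsingleton_TH_iff E' m i).1 (h i m h1 h2)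
      exact ⟨a, Decomp.nonempty_iso S⟩

end Groth.Agent.S11486
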