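import Groth.Statements.S11493
import Mathlib
-- import your own Groth.Agent.* helpers here

set_option autoImplicit false
universe u
open CategoryTheory
open VBPn

namespace Groth.Agent.S11493

/-- Let A be a Noetherian local ring and I an ideal with a free resolution of length 1, 0 → A^p → A^q →
I → 0 (equivalently: a surjection A^q → I with free kernel). Let 0 → A → M → I → 0 be an extension
with class e ∈ Ext^1(I, A). Then M is free if and only if e generates the A-module Ext^1(I, A); the
A-module structure being through End(A) = A, this says every element of Ext^1(I, A) is the composite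
of e with an endomorphism of A. -/
theorem result (A : Type u) [CommRing A] [IsNoetherianRing A] [IsLocalRing A]
    (I : Ideal A)
    (hres : ∃ (q : ℕ) (φ : (Fin q → A) →ₗ[A] ↥I), Function.Surjective φ ∧ Module.Free A ↥(LinearMap.ker φ))
    (S : ShortComplex (ModuleCat.{u} A)) (hS : S.ShortExact)
    (h₁ : Nonempty (S.X₁ ≅ ModuleCat.of A A)) (h₃ : Nonempty (S.X₃ ≅ ModuleCat.of A ↥I)) :
    Module.Free A S.X₂ ↔
      ∀ x : Abelian.Ext S.X₃ S.X₁ 1, ∃ f : S.X₁ ⟶ S.X₁, hS.extClass.comp (Abelian.Ext.mk₀ f) (add_zero 1) = x := by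
  classical
  obtain ⟨q, φ, hφ, hfree⟩ := hres
  obtain ⟨e1⟩ := h₁
  obtain ⟨e3⟩ := h₃
  have hP1 : CategoryTheory.Projective S.X₁ :=
    have : Module.Projective A S.X₁ := Module.Projective.of_equiv e1.toLinearEquiv.symm
    (IsProjective.iff_projective S.X₁).1 this
  constructor
  · intro hM x
    have hP2 : CategoryTheory.Projective S.X₂ :=
      (IsProjective.iff_projective S.X₂).1 inferInstance
    obtain ⟨x1, hx1⟩ := Abelian.Ext.contravariant_sequence_exact₃ hS S.X₁ x
      (Abelian.Ext.eq_zero_of_projective _) (n₀ := 0) (by omega)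
    refine ⟨Abelian.Ext.homEquiv₀ x1, ?_⟩
    rw [Abelian.Ext.mk₀_homEquiv₀_apply]
    exact hx1
  · intro hgen
    have hExt : ∀ y : Abelian.Ext S.X₂ S.X₁ 1, y = 0 := by
      intro y
      obtain ⟨x, hx⟩ := Abelian.Ext.contravariant_sequence_exact₂ hS S.X₁ y
        (Abelian.Ext.eq_zero_of_projective _)
      obtain ⟨f, hf⟩ := hgen x
      rw [← hx, ← hf]
      exact hS.comp_extClass_assoc _ _
    let π : (Fin q → A) →ₗ[A] S.X₃ := e3.toLinearEquiv.symm.toLinearMap ∘ₗ φ
    have hgs : Function.Surjective S.g.hom := hS.moduleCat_surjective_g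
    obtain ⟨ψ, hψ⟩ := Module.projective_lifting_property S.g.hom π hgs
    let f1 : A →ₗ[A] S.X₂ := S.f.hom ∘ₗ e1.toLinearEquiv.symm.toLinearMap
    have hf1 : Function.Injective f1 :=
      hS.moduleCat_injective_f.comp e1.toLinearEquiv.symm.injective
    have hgf : ∀ a, S.g.hom (f1 a) = 0 := fun a =>
      ShortComplex.moduleCat_zero_apply S _
    have hex : ∀ m, S.g.hom m = 0 → ∃ a, f1 a = m := by
      intro m hm
      obtain ⟨y, hy⟩ := (S.moduleCat_exact_iff).1 hS.exact m hm
      refine ⟨e1.toLinearEquiv y, ?_⟩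
      simp only [f1, LinearMap.coe_comp, LinearEquiv.coe_coe, Function.comp_apply]
      rw [e1.toLinearEquiv.symm_apply_apply]
      exact hy
    let θ : (A × (Fin q → A)) →ₗ[A] S.X₂ := f1.coprod ψ
    have hψ' : ∀ v, S.g.hom (ψ v) = π v := fun v => LinearMap.congr_fun hψ v
    have hπ : ∀ v, π v = 0 ↔ φ v = 0 := fun v => e3.toLinearEquiv.symm.map_eq_zero_iff
    have hθ : Function.Surjective θ := by
      intro m
      obtain ⟨v, hv⟩ := (e3.toLinearEquiv.symm.surjective.comp hφ) (S.g.hom m)
      obtain ⟨a, ha⟩ := hex (m - ψ v) (by rw [map_sub, hψ']; exact sub_eq_zero.2 hv.symm)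
      exact ⟨(a, v), by simp [θ, ha]⟩
    have hker : ∀ a v, θ (a, v) = 0 → φ v = 0 := by
      intro a v h
      rw [← hπ, ← hψ']
      have := congrArg S.g.hom h
      simpa [θ, hgf] using this
    let p : LinearMap.ker θ →ₗ[A] LinearMap.ker φ :=
      LinearMap.codRestrict _ (LinearMap.snd A A (Fin q → A) ∘ₗ (LinearMap.ker θ).subtype)
        (fun x => hker x.1.1 x.1.2 x.2)
    have hp : Function.Bijective p := by
      constructor
      · rw [← LinearMap.ker_eq_bot, LinearMap.ker_eq_bot']
        rintro ⟨⟨a, v⟩, h⟩ h0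
        have hv : v = 0 := congrArg Subtype.val h0
        subst hv
        have ha : f1 a = 0 := by simpa [θ] using LinearMap.mem_ker.1 h
        obtain rfl : a = 0 := hf1 (ha.trans f1.map_zero.symm)
        rfl
      · rintro ⟨v, hv⟩
        obtain ⟨a, ha⟩ := hex (- ψ v) (by
          rw [map_neg, hψ', (hπ v).2 (LinearMap.mem_ker.1 hv), neg_zero])
        exact ⟨⟨(a, v), by simp [θ, ha]⟩, rfl⟩
    have : Module.Free A (LinearMap.ker θ) :=
      Module.Free.of_equiv (LinearEquiv.ofBijective p hp).symm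
    let b := Module.Free.chooseBasis A (LinearMap.ker θ)
    let T := ShortComplex.mk (ModuleCat.ofHom (LinearMap.ker θ).subtype)
      (ModuleCat.ofHom θ) (by ext x <;> exact x.2)
    have hT : T.ShortExact :=
      { exact := (T.moduleCat_exact_iff).2 fun x hx => ⟨⟨x, hx⟩, rfl⟩
        mono_f := (ModuleCat.mono_iff_injective _).2 Subtype.val_injective
        epi_g := (ModuleCat.epi_iff_surjective _).2 hθ }
    have hext : ∀ c : LinearMap.ker θ →ₗ[A] A, ∃ χ : (A × (Fin q → A)) →ₗ[A] A,
        ∀ x : LinearMap.ker θ, χ x.1 = c x := by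
      intro c
      obtain ⟨x2, hx2⟩ := Abelian.Ext.contravariant_sequence_exact₁ hT S.X₁
        (Abelian.Ext.mk₀ (X := T.X₁) (ModuleCat.ofHom (e1.toLinearEquiv.symm.toLinearMap ∘ₗ c)))
        (n₁ := 1) (by omega) (hExt _)
      refine ⟨e1.toLinearEquiv.toLinearMap ∘ₗ (Abelian.Ext.homEquiv₀ x2).hom, fun x => ?_⟩
      rw [← Abelian.Ext.mk₀_homEquiv₀_apply x2, Abelian.Ext.mk₀_comp_mk₀] at hx2
      have h := congrArg (fun f => e1.toLinearEquiv (f.hom x)) ((Abelian.Ext.mk₀_bijective _ _).1 hx2)
      exact h.trans (e1.toLinearEquiv.apply_symm_apply _)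
    choose χ hχ using hext
    have : Fintype (Module.Free.ChooseBasisIndex A (LinearMap.ker θ)) := inferInstance
    let ρ : (A × (Fin q → A)) →ₗ[A] LinearMap.ker θ :=
      ∑ i, (χ (b.coord i)).smulRight (b i)
    have hρ : ∀ x : LinearMap.ker θ, ρ x.1 = x := by
      intro x
      simp only [ρ, LinearMap.sum_apply, LinearMap.smulRight_apply, hχ, Module.Basis.coord_apply]
      exact b.sum_repr x
    let s0 : (A × (Fin q → A)) →ₗ[A] (A × (Fin q → A)) :=
      LinearMap.id - (LinearMap.ker θ).subtype ∘ₗ ρ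
    have hs0 : LinearMap.ker θ ≤ LinearMap.ker s0 := by
      intro x hx
      have := congrArg Subtype.val (hρ ⟨x, hx⟩)
      simp only [s0, LinearMap.mem_ker, LinearMap.sub_apply, LinearMap.id_apply,
        LinearMap.comp_apply, Submodule.coe_subtype]
      rw [this, sub_self]
    let s : S.X₂ →ₗ[A] (A × (Fin q → A)) :=
      (LinearMap.ker θ).liftQ s0 hs0 ∘ₗ (θ.quotKerEquivOfSurjective hθ).symm.toLinearMap
    have hs : θ ∘ₗ s = LinearMap.id := by
      refine LinearMap.ext fun m => ?_
      obtain ⟨z, hz⟩ := hθ m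
      subst hz
      have : (θ.quotKerEquivOfSurjective hθ).symm (θ z) = Submodule.Quotient.mk z := by
        rw [LinearEquiv.symm_apply_eq]; rfl
      simp only [s, LinearMap.comp_apply, LinearEquiv.coe_coe, this, Submodule.liftQ_apply,
        LinearMap.id_apply, s0, LinearMap.sub_apply, map_sub, Submodule.coe_subtype]
      rw [LinearMap.mem_ker.1 (ρ z).2, sub_zero]
    have : Module.Projective A S.X₂ := Module.Projective.of_split s θ hs
    have : Module.Finite A S.X₂ := Module.Finite.of_surjective θ hθ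
    exact Module.free_of_flat_of_isLocalRing

end Groth.Agent.S11493
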