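import Groth.Statements.S11497
import Mathlib.Algebra.Homology.DerivedCategory.Ext.ExactSequences

set_option autoImplicit false
universe w v u
open CategoryTheory
open VBPn

namespace Groth.Agent.S11497

open CategoryTheory.Limits

variable {C : Type u} [Category.{v} C] [Abelian C] [HasExt.{w} C]

theorem exists_extend {S : ShortComplex C} (hS : S.ShortExact) {Y : C}
    (h : Subsingleton (Abelian.Ext S.X₃ Y 1)) (x : S.X₁ ⟶ Y) : ∃ y : S.X₂ ⟶ Y, S.f ≫ y = x := by
  obtain ⟨x₂, hx₂⟩ := Abelian.Ext.contravariant_sequence_exact₁ hS Y (Abelian.Ext.mk₀ x)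
    (n₁ := 1) (by omega) (Subsingleton.elim _ _)
  refine ⟨Abelian.Ext.homEquiv₀ x₂, (Abelian.Ext.mk₀_bijective _ _).1 ?_⟩
  rw [← hx₂, ← Abelian.Ext.mk₀_comp_mk₀, Abelian.Ext.mk₀_homEquiv₀_apply]

theorem exists_lift {S : ShortComplex C} (hS : S.ShortExact) {X : C}
    (h : Subsingleton (Abelian.Ext X S.X₁ 1)) (x : X ⟶ S.X₃) : ∃ y : X ⟶ S.X₂, y ≫ S.g = x := by
  obtain ⟨x₂, hx₂⟩ := Abelian.Ext.covariant_sequence_exact₃ X hS (Abelian.Ext.mk₀ x)
    (n₁ := 1) (by omega) (Subsingleton.elim _ _)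
  refine ⟨Abelian.Ext.homEquiv₀ x₂, (Abelian.Ext.mk₀_bijective _ _).1 ?_⟩
  rw [← hx₂, ← Abelian.Ext.mk₀_comp_mk₀, Abelian.Ext.mk₀_homEquiv₀_apply]

theorem subsingleton_ext_left {S : ShortComplex C} (hS : S.ShortExact) {Y : C}
    (h₁ : Subsingleton (Abelian.Ext S.X₂ Y 1)) (h₂ : Subsingleton (Abelian.Ext S.X₃ Y 2)) :
    Subsingleton (Abelian.Ext S.X₁ Y 1) := by
  refine subsingleton_of_forall_eq 0 fun x => ?_
  obtain ⟨x₂, hx₂⟩ := Abelian.Ext.contravariant_sequence_exact₁ hS Y x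
    (n₁ := 2) (by omega) (Subsingleton.elim _ _)
  rw [← hx₂, Subsingleton.elim x₂ 0, Abelian.Ext.comp_zero]

/-- In an abelian category, let M : A → B → C and M' : A' → B' → C' be monads, i.e. short complexes
whose first map is a monomorphism and whose second map is an epimorphism, with cohomology (homology)
objects E and E'. Suppose Hom(B, A') = 0, Hom(C, B') = 0 and Ext^1(C, A') = Ext^1(B, A') = Ext^1(C,
B') = Ext^2(C, A') = 0. Then the map sending a morphism of monads M → M' to the induced morphism E →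
E' is bijective. The published statement is for monads of vector bundles on a complex manifold X,
with Ext^i(C, A') written H^i(X, C^* ⊗ A'); this row is stated in any abelian category. -/
theorem result {C : Type u} [Category.{v} C] [Abelian C] [HasExt.{w} C]
    (M M' : ShortComplex C) [Mono M.f] [Epi M.g] [Mono M'.f] [Epi M'.g]
    (hBA : ∀ f : M.X₂ ⟶ M'.X₁, f = 0) (hCB : ∀ f : M.X₃ ⟶ M'.X₂, f = 0)
    (hCA₁ : Subsingleton (Abelian.Ext M.X₃ M'.X₁ 1)) (hBA₁ : Subsingleton (Abelian.Ext M.X₂ M'.X₁ 1))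
    (hCB₁ : Subsingleton (Abelian.Ext M.X₃ M'.X₂ 1)) (hCA₂ : Subsingleton (Abelian.Ext M.X₃ M'.X₁ 2)) :
    Function.Bijective (fun φ : M ⟶ M' => ShortComplex.homologyMap φ) := by
  -- the two short exact sequences
  let SK : ShortComplex C := ShortComplex.mk M.iCycles M.g M.iCycles_g
  have hSK : SK.ShortExact :=
    { exact := SK.exact_of_f_is_kernel M.cyclesIsKernel
      mono_f := inferInstanceAs (Mono M.iCycles)
      epi_g := inferInstanceAs (Epi M.g) }
  have : Mono M'.toCycles := mono_of_mono_fac M'.toCycles_i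
  let SE : ShortComplex C := ShortComplex.mk M'.toCycles M'.homologyπ M'.toCycles_comp_homologyπ
  have hSE : SE.ShortExact :=
    { exact := SE.exact_of_g_is_cokernel M'.homologyIsCokernel
      mono_f := inferInstanceAs (Mono M'.toCycles)
      epi_g := inferInstanceAs (Epi M'.homologyπ) }
  have hKA : Subsingleton (Abelian.Ext M.cycles M'.X₁ 1) := subsingleton_ext_left hSK hBA₁ hCA₂
  constructor
  · intro φ ψ h
    rw [← sub_eq_zero]
    have h0 : ShortComplex.homologyMap (φ - ψ) = 0 := by rw [ShortComplex.homologyMap_sub, sub_eq_zero]; exact h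
    set δ := φ - ψ
    have h1 : ShortComplex.cyclesMap δ ≫ SE.g = 0 := by
      show ShortComplex.cyclesMap δ ≫ M'.homologyπ = 0
      rw [← ShortComplex.homologyπ_naturality, h0, comp_zero]
    have := hSE.mono_f
    let s : M.cycles ⟶ M'.X₁ := hSE.exact.lift _ h1
    have hs : s ≫ M'.toCycles = ShortComplex.cyclesMap δ := hSE.exact.lift_f _ h1
    obtain ⟨t, ht⟩ := exists_extend hSK hCA₁ s
    have hzero : M.iCycles ≫ δ.τ₂ = 0 := by
      rw [← ShortComplex.cyclesMap_i, ← hs, ← ht, hBA t, comp_zero, zero_comp, zero_comp]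
    have := hSK.epi_g
    have h2 : δ.τ₂ = 0 := by
      rw [← hSK.exact.g_desc δ.τ₂ hzero, hCB (hSK.exact.desc δ.τ₂ hzero), comp_zero]
    ext
    · rw [← cancel_mono M'.f, δ.comm₁₂, h2, comp_zero]; simp
    · exact h2
    · rw [← cancel_epi M.g, ← δ.comm₂₃, h2, zero_comp]; simp
  · intro ε
    obtain ⟨u, hu⟩ := exists_lift hSE hKA (M.homologyπ ≫ ε)
    obtain ⟨φ₂, hφ₂⟩ := exists_extend hSK hCB₁ (u ≫ M'.iCycles)
    replace hφ₂ : M.iCycles ≫ φ₂ = u ≫ M'.iCycles := hφ₂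
    replace hu : u ≫ M'.homologyπ = M.homologyπ ≫ ε := hu
    have h1 : (M.toCycles ≫ u) ≫ SE.g = 0 := by
      show (M.toCycles ≫ u) ≫ M'.homologyπ = 0
      rw [Category.assoc, hu, M.toCycles_comp_homologyπ_assoc, zero_comp]
    have := hSE.mono_f
    let φ₁ : M.X₁ ⟶ M'.X₁ := hSE.exact.lift _ h1
    have hφ₁ : φ₁ ≫ M'.toCycles = M.toCycles ≫ u := hSE.exact.lift_f _ h1
    have := hSK.epi_g
    have h3 : M.iCycles ≫ (φ₂ ≫ M'.g) = 0 := by
      rw [← Category.assoc, hφ₂, Category.assoc, M'.iCycles_g, comp_zero]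
    let φ₃ : M.X₃ ⟶ M'.X₃ := hSK.exact.desc _ h3
    have hφ₃ : M.g ≫ φ₃ = φ₂ ≫ M'.g := hSK.exact.g_desc _ h3
    let φ : M ⟶ M' :=
      { τ₁ := φ₁, τ₂ := φ₂, τ₃ := φ₃
        comm₁₂ := by
          rw [← M'.toCycles_i, reassoc_of% hφ₁, ← hφ₂, M.toCycles_i_assoc]
        comm₂₃ := hφ₃.symm }
    refine ⟨φ, ?_⟩
    rw [← cancel_epi M.homologyπ, ShortComplex.homologyπ_naturality, ← hu]
    congr 1
    rw [← cancel_mono M'.iCycles, ShortComplex.cyclesMap_i, ← hφ₂]

end Groth.Agent.S11497
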