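import Mathlib
import Groth.Statements.S11499
-- import your own Groth.Agent.* helpers here

set_option autoImplicit false
universe u
open TensorProduct
open VBPn

namespace Groth.Agent.S11499

/-- Let A be an integral domain with fraction field K and M a finitely generated torsion-free A-module
of rank r (K ⊗_A M is r-dimensional over K). Then there is an injective A-linear map M → A^r. The
published statement is for torsion-free coherent sheaves on a complex manifold, locally near a
point; this row is its statement for one stalk, over any domain. -/
theorem result (A : Type u) [CommRing A] [IsDomain A]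
    (M : Type u) [AddCommGroup M] [Module A M] [Module.Finite A M] [NoZeroSMulDivisors A M] (r : ℕ)
    (hr : Module.finrank (FractionRing A) (FractionRing A ⊗[A] M) = r) :
    ∃ f : M →ₗ[A] (Fin r → A), Function.Injective f := by
  let K := FractionRing A
  let l := TensorProduct.mk A K M 1
  have hl : Function.Injective l := (injective_iff_map_eq_zero l).mpr fun m hm => by
    obtain ⟨c, hc⟩ := (IsLocalizedModule.eq_zero_iff (nonZeroDivisors A) l).mp hm
    exact (smul_eq_zero.mp hc).resolve_left (nonZeroDivisors.ne_zero c.2)
  let b := (Module.finBasis K (K ⊗[A] M)).reindex (finCongr hr)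
  obtain ⟨s, hs⟩ := Module.Finite.fg_top (R := A) (M := M)
  classical
  obtain ⟨⟨d, hd⟩, hd'⟩ := IsLocalization.exist_integer_multiples (nonZeroDivisors A) (s ×ˢ (Finset.univ : Finset (Fin r))) (fun q => b.repr (l q.1) q.2)
  let g : M →ₗ[A] (Fin r → K) := d • ((b.equivFun.toLinearMap.restrictScalars A) ∘ₗ l)
  have hg : Function.Injective g := fun x y hxy => hl <| b.equivFun.injective <| by
    funext i
    have := congrFun hxy i
    simp only [g, LinearMap.smul_apply, LinearMap.comp_apply, Pi.smul_apply, Algebra.smul_def] at this
    exact mul_left_cancel₀ (by simpa using nonZeroDivisors.ne_zero hd) this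
  let ι : (Fin r → A) →ₗ[A] (Fin r → K) := (Algebra.linearMap A K).compLeft _
  have hι : Function.Injective ι := fun x y hxy => funext fun i => IsFractionRing.injective A K (congrFun hxy i)
  have hrange : LinearMap.range g ≤ LinearMap.range ι := by
    rw [LinearMap.range_eq_map, ← hs, Submodule.map_span, Submodule.span_le]
    rintro _ ⟨m, hm, rfl⟩
    choose c hc using fun i => hd' (m, i) (Finset.mem_product.mpr ⟨hm, Finset.mem_univ i⟩)
    exact ⟨c, funext fun i => by simpa [ι, g] using hc i⟩
  exact ⟨(LinearEquiv.ofInjective ι hι).symm.toLinearMap ∘ₗ Submodule.inclusion hrange ∘ₗ g.rangeRestrict,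
    (LinearEquiv.ofInjective ι hι).symm.injective.comp ((Submodule.inclusion_injective hrange).comp fun x y hxy => hg (congrArg Subtype.val hxy))⟩

end Groth.Agent.S11499
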