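import Groth.Statements.S11520
import Mathlib
-- import your own Groth.Agent.* helpers here

set_option autoImplicit false
universe v u v' u'
open CategoryTheory CategoryTheory.Limits CategoryTheory.Pretriangulated CategoryTheory.Triangulated
open PervT

namespace Groth.Agent.S11520

section Aux
open CategoryTheory CategoryTheory.Triangulated CategoryTheory.Pretriangulated CategoryTheory.Limits ZeroObject

end Aux

/-- Let `C` be a triangulated category (octahedron axiom included) with a t-structure `t`, and let `H`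
be an additive category identified with the heart of `t` (the objects that are both `≤ 0` and `≥ 0`)
through a fully faithful additive functor whose essential image is the heart. Then `H` is an abelian
category: there is an abelian category structure on `H` whose underlying additive structure is the
given one. -/
theorem result {C : Type u} [Category.{v} C] [Preadditive C] [HasZeroObject C] [HasShift C ℤ] [∀ n : ℤ, (shiftFunctor C n).Additive] [Pretriangulated C] [IsTriangulated C] (t : TStructure C) {H : Type u'} [Category.{v'} H] [inst : Preadditive H] [t.Heart H] :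
    ∃ a : Abelian H, @Abelian.toPreadditive H _ a = inst := by
  let ι : H ⥤ C := t.ιHeart
  have hmem : ∀ X : C, t.IsLE X 0 → t.IsGE X 0 → ∃ Y : H, Nonempty (ι.obj Y ≅ X) := by
    intro X h1 h2
    have : t.heart X := (t.mem_heart_iff X).mpr ⟨h1, h2⟩
    rw [← t.essImage_ιHeart H] at this
    exact this
  obtain ⟨Z₀, hZ₀⟩ := ‹HasZeroObject C›.zero
  obtain ⟨Z, ⟨eZ⟩⟩ := hmem Z₀ (t.isLE_of_isZero hZ₀ 0) (t.isGE_of_isZero hZ₀ 0)
  have hZ : IsZero Z := by
    rw [IsZero.iff_id_eq_zero]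
    apply ι.map_injective
    rw [ι.map_id, ι.map_zero, ← IsZero.iff_id_eq_zero]
    exact hZ₀.of_iso eZ
  haveI : HasZeroObject H := ⟨⟨Z, hZ⟩⟩
  haveI : ∀ X Y : H, HasLimit (pair X Y) := fun X Y => by
    have hT := binaryBiproductTriangle_distinguished (ι.obj X) (ι.obj Y)
    have h1 : t.IsLE (ι.obj X ⊞ ι.obj Y) 0 :=
      t.isLE₂ _ hT 0 (inferInstanceAs (t.IsLE (ι.obj X) 0)) (inferInstanceAs (t.IsLE (ι.obj Y) 0))
    have h2 : t.IsGE (ι.obj X ⊞ ι.obj Y) 0 :=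
      t.isGE₂ _ hT 0 (inferInstanceAs (t.IsGE (ι.obj X) 0)) (inferInstanceAs (t.IsGE (ι.obj Y) 0))
    obtain ⟨P, ⟨e⟩⟩ := hmem _ h1 h2
    let fn : BinaryFan X Y :=
      BinaryFan.mk (ι.preimage (e.hom ≫ biprod.fst)) (ι.preimage (e.hom ≫ biprod.snd))
    refine ⟨⟨⟨fn, ?_⟩⟩⟩
    refine BinaryFan.IsLimit.mk _ (fun {T} f g => ι.preimage (biprod.lift (ι.map f) (ι.map g) ≫ e.inv))
      (fun f g => ι.map_injective (by simp [fn]))
      (fun f g => ι.map_injective (by simp [fn]))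
      (fun {T} f g m hf hg => ι.map_injective ?_)
    rw [ι.map_preimage, ← cancel_mono e.hom, Category.assoc, e.inv_hom_id, Category.comp_id]
    apply biprod.hom_ext
    · simp [← hf, fn]
    · simp [← hg, fn]
  haveI : HasBinaryProducts H := hasBinaryProducts_of_hasLimit_pair H
  haveI : HasTerminal H := hZ.isoZero |> fun _ => HasZeroObject.hasTerminal
  haveI : HasFiniteProducts H := hasFiniteProducts_of_has_binary_and_terminal
  have hι : ∀ ⦃X Y : H⦄ ⦃n : ℤ⦄ (f : ι.obj X ⟶ (ι.obj Y)⟦n⟧), n < 0 → f = 0 := by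
    intro X Y n f hn
    haveI : t.IsLE (ι.obj X) 0 := inferInstanceAs (t.IsLE (t.ιHeart.obj X) 0)
    haveI : t.IsGE (ι.obj Y) 0 := inferInstanceAs (t.IsGE (t.ιHeart.obj Y) 0)
    haveI : t.IsGE ((ι.obj Y)⟦n⟧) (-n) := t.isGE_shift (ι.obj Y) 0 n (-n)
    exact t.zero f 0 (-n)
  have hA : AbelianSubcategory.admissibleMorphism ι = ⊤ := by
    refine top_le_iff.mp fun X₁ X₂ f₁ _ X₃ f₂ f₃ hT => ?_
    haveI : t.IsLE (ι.obj X₁) 0 := inferInstanceAs (t.IsLE (t.ιHeart.obj X₁) 0)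
    haveI : t.IsGE (ι.obj X₁) 0 := inferInstanceAs (t.IsGE (t.ιHeart.obj X₁) 0)
    haveI : t.IsLE (ι.obj X₂) 0 := inferInstanceAs (t.IsLE (t.ιHeart.obj X₂) 0)
    haveI : t.IsGE (ι.obj X₂) 0 := inferInstanceAs (t.IsGE (t.ιHeart.obj X₂) 0)
    have hrot := rot_of_distTriang _ hT
    have l3 : t.IsLE X₃ 0 := t.isLE₂ _ hrot 0 (inferInstanceAs (t.IsLE (ι.obj X₂) 0))
      (by
        haveI := t.isLE_shift (ι.obj X₁) 0 1 (-1)
        exact t.isLE_of_le ((ι.obj X₁)⟦(1 : ℤ)⟧) (-1) 0)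
    have g3 : t.IsGE X₃ (-1) := t.isGE₂ _ hrot (-1)
      (t.isGE_of_ge (ι.obj X₂) (-1) 0) (t.isGE_shift (ι.obj X₁) 0 1 (-1))
    obtain ⟨P, Q, hP, hQ, a, b, c, habc⟩ := t.exists_triangle X₃ (-1) 0 (by omega)
    haveI : t.IsLE P (-1) := ⟨hP⟩
    haveI : t.IsGE Q 0 := ⟨hQ⟩
    have lQ : t.IsLE Q 0 := t.isLE₂ _ (rot_of_distTriang _ habc) 0 l3
      (by
        haveI := t.isLE_shift P (-1) 1 (-2)
        exact t.isLE_of_le (P⟦(1 : ℤ)⟧) (-2) 0)
    have gP : t.IsGE P (-1) := t.isGE₂ _ (inv_rot_of_distTriang _ habc) (-1)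
      (by
        show t.IsGE (Q⟦(-1 : ℤ)⟧) (-1)
        haveI := t.isGE_shift Q 0 (-1) 1
        exact t.isGE_of_ge _ (-1) 1) g3
    obtain ⟨Q', ⟨eQ⟩⟩ := hmem Q lQ inferInstance
    obtain ⟨K', ⟨eK⟩⟩ := hmem (P⟦(-1 : ℤ)⟧) (t.isLE_shift P (-1) (-1) 0) (t.isGE_shift P (-1) (-1) 0)
    let eP : (ι.obj K')⟦(1 : ℤ)⟧ ≅ P :=
      (shiftFunctor C (1 : ℤ)).mapIso eK ≪≫ (shiftFunctorCompIsoId C (-1 : ℤ) 1 (by omega)).app P
    refine ⟨K', Q', eP.hom ≫ a, b ≫ eQ.inv, eQ.hom ≫ c ≫ eP.inv⟦(1 : ℤ)⟧', ?_⟩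
    refine isomorphic_distinguished _ habc _ (Triangle.isoMk _ _ eP (Iso.refl _) eQ ?_ ?_ ?_)
    · exact Category.comp_id _
    · show (b ≫ eQ.inv) ≫ eQ.hom = 𝟙 X₃ ≫ b
      simp
    · show (eQ.hom ≫ c ≫ eP.inv⟦(1 : ℤ)⟧') ≫ eP.hom⟦(1 : ℤ)⟧' = eQ.hom ≫ c
      simp [← Functor.map_comp]
  exact ⟨AbelianSubcategory.abelian ι hι hA, rfl⟩

end Groth.Agent.S11520
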