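import Groth.Statements.S11523
import Mathlib

set_option autoImplicit false
universe v u v' u'
open CategoryTheory CategoryTheory.Limits
open PervT

namespace Groth.Agent.S11523

/-- Let `u : A ⥤ B` be a fully faithful exact functor of abelian categories admitting a left adjoint and
a right adjoint `uStar`. Suppose every object of `A` has finite length (it is both an artinian and a
noetherian object) and that `u` sends simple objects to simple objects. Then for every object `Y` of
`B` the counit `u (uStar Y) ⟶ Y` of the adjunction `u ⊣ uStar` is a monomorphism. (The published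
statement also lists two further conditions equivalent to this one: that for every object `Y` of `B`
the unit `Y ⟶ u (L Y)` of the adjunction `L ⊣ u` of the left adjoint `L` is an epimorphism, and that
the essential image of `u` is stable under subobjects and quotients; this row states only the counit
condition.) -/
theorem result {A : Type u} [Category.{v} A] [Abelian A] {B : Type u'} [Category.{v'} B] [Abelian B]
    (u : A ⥤ B) [u.Full] [u.Faithful] [PreservesFiniteLimits u] [PreservesFiniteColimits u] [u.IsRightAdjoint]
    (uStar : B ⥤ A) (adj : u ⊣ uStar)
    (hlen : ∀ X : A, IsArtinianObject X ∧ IsNoetherianObject X)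
    (hsimple : ∀ X : A, Simple X → Simple (u.obj X)) (Y : B) :
    Mono (adj.counit.app Y) := by
  have key : ∀ (X : A) (Q : Subobject X) (X' : A) (π : X ⟶ X') [Epi π], kernelSubobject π = Q →
      ∀ (K : B) (k : K ⟶ u.obj X') [Mono k], k ≠ 0 → ∃ (T : A) (t : u.obj T ⟶ K), t ≠ 0 := by
    intro X
    haveI := (hlen X).2
    intro Q
    induction Q using WellFoundedGT.induction with
    | _ Q ih =>
      intro X' π _ hQ K k _ hk
      have hX' : ¬ IsZero X' := fun h => hk ((u.map_isZero h).eq_of_tgt _ _)
      haveI := (hlen X').1
      obtain ⟨T, hT⟩ := exists_simple_subobject hX'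
      haveI := hT
      haveI : Simple (u.obj (T : A)) := hsimple _ hT
      haveI : Mono (u.map T.arrow) := inferInstance
      by_cases h0 : pullback.fst (u.map T.arrow) k = 0
      · let π' := cokernel.π T.arrow
        haveI : Mono (k ≫ u.map π') := Preadditive.mono_of_cancel_zero _ fun {W} g hg => by
          have hex := (ShortComplex.exact_of_g_is_cokernel (ShortComplex.mk T.arrow π' (cokernel.condition _))
            (cokernelIsCokernel _)).map u
          haveI : Mono ((ShortComplex.mk T.arrow π' (cokernel.condition _)).map u).f :=
            inferInstanceAs (Mono (u.map T.arrow))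
          have hg' : (g ≫ k) ≫ u.map π' = 0 := by rw [Category.assoc]; exact hg
          obtain ⟨l, hl⟩ : ∃ l : W ⟶ u.obj (T : A), l ≫ u.map T.arrow = g ≫ k :=
            ⟨hex.lift (g ≫ k) hg', hex.lift_f (g ≫ k) hg'⟩
          have hl0 := pullback.lift_fst (f := u.map T.arrow) (g := k) _ _ hl
          rw [h0, comp_zero] at hl0
          rw [← hl0, zero_comp] at hl
          exact (cancel_mono k).1 (hl.symm.trans zero_comp.symm)
        refine ih (kernelSubobject (π ≫ π')) ?_ (cokernel T.arrow) (π ≫ π') rfl K (k ≫ u.map π')
          (fun h => hk ?_)
        · subst hQ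
          refine lt_of_le_of_ne (kernelSubobject_comp_le π π') fun he => ?_
          have hf : (kernelSubobject π).Factors (pullback.fst π T.arrow) := by
            rw [he, kernelSubobject_factors_iff, ← Category.assoc, pullback.condition, Category.assoc,
              cokernel.condition, comp_zero]
          rw [kernelSubobject_factors_iff, pullback.condition] at hf
          exact Simple.not_isZero (T : A) (IsZero.of_mono_eq_zero T.arrow ((cancel_epi (pullback.snd π T.arrow)).1 (hf.trans comp_zero.symm)))
        · exact (IsZero.of_mono_eq_zero _ h).eq_of_src _ _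
      · haveI : Mono (pullback.fst (u.map T.arrow) k) := inferInstance
        haveI := isIso_of_mono_of_nonzero h0
        refine ⟨(T : A), inv (pullback.fst (u.map T.arrow) k) ≫ pullback.snd _ _, fun h => ?_⟩
        have h1 := congrArg (· ≫ k) h
        simp only [Category.assoc, ← pullback.condition, IsIso.inv_hom_id_assoc, zero_comp] at h1
        exact Simple.not_isZero (u.obj (T : A)) (IsZero.of_mono_eq_zero _ h1)
  refine Preadditive.mono_of_kernel_zero ?_
  by_contra hk
  obtain ⟨T, t, ht⟩ := key (uStar.obj Y) (kernelSubobject (𝟙 _)) (uStar.obj Y) (𝟙 _) rfl _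
    (kernel.ι (adj.counit.app Y)) hk
  obtain ⟨g, hg⟩ := u.map_surjective (t ≫ kernel.ι (adj.counit.app Y))
  apply ht
  rw [← cancel_mono (kernel.ι (adj.counit.app Y)), zero_comp, ← hg]
  suffices g = 0 by rw [this, Functor.map_zero]
  apply (adj.homEquiv T Y).symm.injective
  rw [Adjunction.homEquiv_counit, Adjunction.homEquiv_counit, hg, Category.assoc, kernel.condition,
    comp_zero, Functor.map_zero, zero_comp]

end Groth.Agent.S11523
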