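import Groth.Statements.S1153
import Groth.Agent.FpqcDescent.Basic
import Groth.Agent.ProperOver.Basic

set_option autoImplicit false
open CategoryTheory CategoryTheory.Limits AlgebraicGeometry Opposite
universe u
open Desc

namespace Groth.Agent.S1153

/-- Let f : X ⟶ Y be locally of finite type, Z a closed subset of X and g : Y' ⟶ Y quasi-compact, flat
and surjective. If the preimage of Z in X ×_Y Y' is proper over Y', then Z is proper over Y. -/
theorem result {X Y Y' : Scheme.{u}} (f : X ⟶ Y) [LocallyOfFiniteType f] (Z : Set X) (hZ : IsClosed Z)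
    (g : Y' ⟶ Y) [QuasiCompact g] [Flat g] [Surjective g]
    (h : ClSub.IsProperOver (pullback.snd f g) ((pullback.fst f g).base ⁻¹' Z)) :
    ClSub.IsProperOver f Z := by
  let Z' : TopologicalSpace.Closeds X := ⟨Z, hZ⟩
  let i := (Scheme.IdealSheafData.vanishingIdeal Z').subschemeι
  have hr : Set.range i = Z := by
    rw [Scheme.IdealSheafData.range_subschemeι, Scheme.IdealSheafData.coe_support_vanishingIdeal]; rfl
  let κ := pullback.map (i ≫ f) g f g i (𝟙 _) (𝟙 _) (by simp) (by simp)
  have hκ : IsClosedImmersion κ := by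
    have hκ1 : κ ≫ pullback.fst f g = pullback.fst (i ≫ f) g ≫ i := pullback.lift_fst _ _ _
    have hκ2 : κ ≫ pullback.snd f g = pullback.snd (i ≫ f) g :=
      (pullback.lift_snd _ _ _).trans (Category.comp_id _)
    refine MorphismProperty.of_isPullback (P := @IsClosedImmersion) (g := i) (g' := κ)
      (f' := pullback.fst (i ≫ f) g) (f := pullback.fst f g) ?_ inferInstance
    refine (IsPullback.of_right ?_ hκ1 (IsPullback.of_hasPullback f g).flip).flip
    rw [hκ2]
    exact (IsPullback.of_hasPullback (i ≫ f) g).flip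
  have hrange : Set.range κ ⊆ (pullback.fst f g).base ⁻¹' Z := by
    rw [Scheme.Pullback.range_map]
    intro x hx
    exact hr ▸ hx.1
  have hp : IsProper (pullback.snd (i ≫ f) g) := by
    have h1 := Groth.Agent.ProperOver.isProper_comp h κ hrange
    rwa [show κ ≫ pullback.snd f g = pullback.snd (i ≫ f) g from
      (pullback.lift_snd _ _ _).trans (Category.comp_id _)] at h1
  have := Groth.Agent.FpqcDescent.isProper_descendsAlong.{u}
  exact ⟨hZ, MorphismProperty.of_pullback_snd_of_descendsAlong (P := @IsProper)
    (Q := @Surjective ⊓ @Flat ⊓ @QuasiCompact) ⟨⟨inferInstance, inferInstance⟩, inferInstance⟩ hp⟩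

end Groth.Agent.S1153
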