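import Groth.Statements.S11530
import Groth.Agent.TopFT.CLocThms
-- import your own Groth.Agent.* helpers here

set_option autoImplicit false
universe u
open AdicRing

namespace Groth.Agent.S11530

/-- Let R be a base ring of class (N) or (V) for the ideal I and A an R-algebra which is complete and
separated for the I-adic topology. Then A is topologically of finite presentation over R if and only
if, for every n, the truncation A/I^(n+1)A is an algebra of finite presentation over R/I^(n+1). -/
theorem result
    (R : Type u) [CommRing R] (I : Ideal R) (hR : AdicRing.IsBase R I)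
    (A : Type u) [CommRing A] [Algebra R A] [IsAdicComplete (I.map (algebraMap R A)) A] :
    AdicRing.TopFinitePresentation R I A ↔
      ∀ n : ℕ, (Ideal.quotientMap ((I ^ (n + 1)).map (algebraMap R A)) (algebraMap R A)
        Ideal.le_comap_map).FinitePresentation := by
  have hI := TopFT.ideal_fg hR
  have key : ∀ n : ℕ, (Ideal.quotientMap ((I ^ (n + 1)).map (algebraMap R A)) (algebraMap R A)
      Ideal.le_comap_map).FinitePresentation ↔
      Algebra.FinitePresentation R (A ⧸ (I ^ (n + 1)).map (algebraMap R A)) := fun n => by
    have hcomp : (Ideal.quotientMap ((I ^ (n + 1)).map (algebraMap R A)) (algebraMap R A)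
        Ideal.le_comap_map).comp (Ideal.Quotient.mk (I ^ (n + 1))) =
        algebraMap R (A ⧸ (I ^ (n + 1)).map (algebraMap R A)) := rfl
    have hmk : (Ideal.Quotient.mk (I ^ (n + 1))).FinitePresentation :=
      RingHom.FinitePresentation.of_surjective _ Ideal.Quotient.mk_surjective
        (by rw [Ideal.mk_ker]; exact Ideal.FG.pow hI)
    rw [← RingHom.finitePresentation_algebraMap]
    refine ⟨fun h => hcomp ▸ h.comp hmk, fun h => ?_⟩
    exact RingHom.FinitePresentation.of_comp_finiteType _ (hcomp.symm ▸ h)
      (RingHom.FiniteType.of_surjective _ Ideal.Quotient.mk_surjective)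
  simp only [key]
  exact ⟨fun h n => TopFT.finitePresentation_trunc hI h (n + 1),
    TopFT.topFinitePresentation_of_trunc hR⟩

end Groth.Agent.S11530
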