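import Groth.Statements.S11538
import Groth.Agent.TopFT.Flatness
-- import your own Groth.Agent.* helpers here

set_option autoImplicit false
universe u v
open scoped TensorProduct
open AdicRing

namespace Groth.Agent.S11538

/-- Let A be a commutative ring, π an element of A which is not a zero divisor and M an A-module. Then M
is flat over A if and only if the π-power torsion of M vanishes, (A/πA) ⊗_A M is flat over A/πA, and
A[π⁻¹] ⊗_A M is flat over A[π⁻¹]. -/
theorem result
    (A : Type u) [CommRing A] (π : A) (hπ : π ∈ nonZeroDivisors A)
    (M : Type v) [AddCommGroup M] [Module A M] :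
    Module.Flat A M ↔
      (∀ (x : M) (n : ℕ), π ^ n • x = 0 → x = 0) ∧
        Module.Flat (A ⧸ Ideal.span {π}) ((A ⧸ Ideal.span {π}) ⊗[A] M) ∧
        Module.Flat (Localization.Away π) ((Localization.Away π) ⊗[A] M) := by
  constructor
  · intro h
    refine ⟨fun x n hx => ?_, inferInstance, inferInstance⟩
    have hreg : Function.Injective (LinearMap.lsmul A A (π ^ n)) := fun a b hab => by
      have h' := (mem_nonZeroDivisors_iff_right.1 (pow_mem hπ n)) (a - b) (by
        rw [mul_comm, mul_sub, sub_eq_zero]; exact hab)
      exact sub_eq_zero.1 h'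
    have h3 := Module.Flat.rTensor_preserves_injective_linearMap (M := M) _ hreg
    apply (TensorProduct.lid A M).symm.injective
    apply h3
    rw [map_zero, map_zero, TensorProduct.lid_symm_apply, LinearMap.rTensor_tmul,
      LinearMap.lsmul_apply, TensorProduct.smul_tmul, hx, TensorProduct.tmul_zero]
  · rintro ⟨hM, h1, h2⟩
    exact TopFT.flat_of_torsionFree_of_flat hπ fun x hx => hM x 1 (by rwa [pow_one])

end Groth.Agent.S11538
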