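import Groth.Statements.S11544
import Groth.Agent.TopFT.IntClosure
import Mathlib.RingTheory.Norm.Transitivity
import Mathlib.Algebra.GCDMonoid.IntegrallyClosed
import Mathlib.RingTheory.Polynomial.RationalRoot
import Mathlib.RingTheory.Valuation.LocalSubring
import Mathlib.FieldTheory.Minpoly.IsIntegrallyClosed
-- import your own Groth.Agent.* helpers here

set_option autoImplicit false
universe u
open AdicRing

namespace Groth.Agent.S11544

/-- Let R be a complete valuation ring of height one with t a nonzero element generating an ideal of
definition, K its field of fractions, L an algebraic extension field of K and α an element of L.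
Then α is integral over R if and only if the norm of α from K(α) down to K lies in R. -/
theorem result
    (R : Type u) [CommRing R] [IsDomain R] [ValuationRing R] [Ring.KrullDimLE 1 R]
    (t : R) (ht : t ≠ 0) [IsAdicComplete (Ideal.span {t}) R]
    (L : Type u) [Field L] [Algebra R L] [Algebra (FractionRing R) L]
    [IsScalarTower R (FractionRing R) L] [Algebra.IsAlgebraic (FractionRing R) L] (α : L) :
    IsIntegral R α ↔
      Algebra.norm (FractionRing R) (IntermediateField.AdjoinSimple.gen (FractionRing R) α) ∈
        (algebraMap R (FractionRing R)).range := by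
  haveI : Algebra.IsAlgebraic (FractionRing R) L := ‹_›
  classical
  haveI : IsIntegrallyClosed R :=
    letI := IsBezout.toGCDDomain R
    GCDMonoid.toIsIntegrallyClosed
  let K := FractionRing R
  let F := IntermediateField.adjoin K ({α} : Set L)
  set g := IntermediateField.AdjoinSimple.gen K α with hg
  have hα : IsIntegral K α := Algebra.IsIntegral.isIntegral α
  haveI : FiniteDimensional K F := IntermediateField.adjoin.finiteDimensional hα
  haveI : IsScalarTower R F L := IsScalarTower.of_algebraMap_eq fun _ => rfl
  have hiff : IsIntegral R α ↔ IsIntegral R g :=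
    isIntegral_algHom_iff (IsScalarTower.toAlgHom R F L) Subtype.val_injective (x := g)
  rw [hiff]
  constructor
  · intro h
    exact IsIntegrallyClosed.isIntegral_iff.1 (Algebra.isIntegral_norm K h)
  · rintro ⟨r, hr⟩
    haveI : FaithfulSMul R F := by
      rw [faithfulSMul_iff_algebraMap_injective, IsScalarTower.algebraMap_eq R K F]
      exact (algebraMap K F).injective.comp (IsFractionRing.injective R K)
    have halg : IsAlgebraic R g :=
      (IsFractionRing.isAlgebraic_iff R K F).2 (Algebra.IsAlgebraic.isAlgebraic g)
    rcases TopFT.isIntegral_or_inv ht halg with h | h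
    · exact h
    by_cases hg0 : g = 0
    · rw [hg0]; exact isIntegral_zero
    obtain ⟨s, hs⟩ := IsIntegrallyClosed.isIntegral_iff.1 (Algebra.isIntegral_norm K h)
    have hmul : r * s = 1 := IsFractionRing.injective R K (by
      rw [map_mul, hr, hs, ← map_mul, mul_inv_cancel₀ hg0, map_one, map_one])
    -- the constant coefficient of the minimal polynomial of the inverse is a unit
    set β := g⁻¹ with hβ
    let q := minpoly R β
    have hβK : IsIntegral K β := Algebra.IsIntegral.isIntegral β
    have hq : minpoly K β = q.map (algebraMap R K) :=
      minpoly.isIntegrallyClosed_eq_field_fractions' K h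
    have hnorm := Algebra.norm_eq_norm_adjoin K β
    have hgen : IntermediateField.AdjoinSimple.gen K β =
        (IntermediateField.adjoin.powerBasis hβK).gen := rfl
    rw [hgen, Algebra.PowerBasis.norm_gen_eq_coeff_zero_minpoly, ← hgen, IntermediateField.minpoly_gen, hq,
      Polynomial.coeff_map, ← hs] at hnorm
    set m := Module.finrank (IntermediateField.adjoin K ({β} : Set F)) F with hm
    have hm0 : m ≠ 0 := (Module.finrank_pos).ne'
    set d := (IntermediateField.adjoin.powerBasis hβK).dim
    have hu : IsUnit (q.coeff 0) := by
      have h1 : IsUnit (((-1) ^ d * q.coeff 0) ^ m) := by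
        refine IsUnit.of_mul_eq_one r (IsFractionRing.injective R K ?_)
        rw [map_mul, map_pow, map_mul, map_pow, map_neg, map_one, ← hnorm, ← map_mul, mul_comm, hmul,
          map_one]
      exact isUnit_of_mul_isUnit_right ((isUnit_pow_iff hm0).1 h1)
    obtain ⟨w, hw⟩ := hu
    have hdiv : β * Polynomial.aeval β q.divX + algebraMap R F (w : R) = 0 := by
      have := congrArg (Polynomial.aeval β) (Polynomial.X_mul_divX_add q)
      rw [minpoly.aeval, map_add, map_mul, Polynomial.aeval_X, Polynomial.aeval_C, ← hw] at this
      exact this
    have hwu : algebraMap R F (w : R) * algebraMap R F (↑w⁻¹ : R) = 1 := by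
      rw [← map_mul, Units.mul_inv, map_one]
    have hinv : β⁻¹ = -(Polynomial.aeval β q.divX * algebraMap R F (↑w⁻¹ : R)) := by
      refine (eq_inv_of_mul_eq_one_right ?_).symm
      rw [eq_neg_of_add_eq_zero_right hdiv] at hwu
      rw [← hwu]
      ring
    rw [show g = β⁻¹ from (inv_inv g).symm, hinv]
    exact ((adjoin_le_integralClosure h (Polynomial.aeval_mem_adjoin_singleton R β (p := q.divX))).mul
      isIntegral_algebraMap).neg

end Groth.Agent.S11544
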