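import Mathlib
import Groth.Statements.S1156
-- import your own Groth.Agent.* helpers here

set_option autoImplicit false
universe u
open scoped TensorProduct
open Desc

namespace Groth.Agent.S1156

/-- Exactness of the extended Amitsur complex in degree 0 (injectivity in degree −1 being standard). Let
R → A be faithfully flat and M an R-module. An element x of A ⊗_R M with 1 ⊗ x = (a ⊗ m ↦ a ⊗ 1 ⊗
m)(x) in A ⊗_R A ⊗_R M lies in the image of m ↦ 1 ⊗ m. -/
theorem result (R A : Type u) [CommRing R] [CommRing A] [Algebra R A] [Module.FaithfullyFlat R A]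
    (M : Type u) [AddCommGroup M] [Module R M] (x : A ⊗[R] M)
    (hx : TensorProduct.mk R A (A ⊗[R] M) 1 x = LinearMap.lTensor A (TensorProduct.mk R A M 1) x) :
    x ∈ LinearMap.range (TensorProduct.mk R A M 1) := by
  let f := TensorProduct.mk R A M 1
  rw [← Submodule.Quotient.mk_eq_zero]
  apply Module.FaithfullyFlat.tensorProduct_mk_injective (A := R) (B := A)
  show (1 : A) ⊗ₜ[R] _ = (1 : A) ⊗ₜ[R] _
  rw [TensorProduct.tmul_zero]
  have h := congrArg (LinearMap.lTensor A (LinearMap.range f).mkQ) hx
  rw [← LinearMap.comp_apply (LinearMap.lTensor A (LinearMap.range f).mkQ) (LinearMap.lTensor A f), ← LinearMap.lTensor_comp,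
    LinearMap.range_mkQ_comp, LinearMap.lTensor_zero, LinearMap.zero_apply] at h
  exact h

end Groth.Agent.S1156
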