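import Groth.Statements.S3388
import Groth.Agent.GeomUnib.FibreDimNhds
-- import your own Groth.Agent.* helpers here

set_option autoImplicit false
open CategoryTheory AlgebraicGeometry
universe u
open EGA43

namespace Groth.Agent.S3388

/-- Let X and Y be irreducible schemes and f : X ⟶ Y a dominant morphism locally of finite type; let e
be the dimension of the fibre over the generic point of Y. Then for every point x of X the local
dimension at x of the fibre through x is at least e. -/
theorem result {X Y : Scheme.{u}} [IrreducibleSpace X] [IrreducibleSpace Y]
    (f : X ⟶ Y) [LocallyOfFiniteType f] [IsDominant f] (x : X) :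
    topologicalKrullDim ↥(f.fiber (genericPoint Y)) ≤ FlatMor.fibreDimAt f x := by
  obtain ⟨k, hk, -⟩ := FibreDim.exists_fibreDimAt_eq f x
  rw [hk]
  refine GeomUnib.FibreDimNhds.dim_fibre_le f fun w hw => ?_
  have hξ : f.base (genericPoint X) = genericPoint Y := by
    refine ((genericPoint_spec X).image f.continuous).eq ?_
    rw [Set.image_univ, f.denseRange.closure_range]
    exact genericPoint_spec Y
  rw [← hk]
  exact (FibreDim.fdim_mono f (genericPoint_specializes w) (hξ.trans hw.symm)).trans
    (FibreDim.fdim_le_fibreDimAt f (genericPoint_specializes x))

end Groth.Agent.S3388
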