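import Groth.Statements.S1162
import Groth.Agent.BiratBC.Basic
-- import your own Groth.Agent.* helpers here

set_option autoImplicit false
open CategoryTheory CategoryTheory.Limits AlgebraicGeometry Opposite
universe u
open Desc

open Groth.Agent.BiratBC

namespace Groth.Agent.S1162

/-- Let f : X ⟶ Y be flat and separated. Write X⁰ for the generic points of the irreducible components
of X. If for every ξ in X⁰ the residue field extension κ(f ξ) ⊆ κ(ξ) is trivial and f is injective
on X⁰, then f is universally injective. -/
theorem result {X Y : Scheme.{u}} (f : X ⟶ Y) [Flat f] [IsSeparated f]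
    (h2 : ∀ ξ : X, closure ({ξ} : Set X) ∈ irreducibleComponents (X : Type u) →
      Function.Surjective (f.residueFieldMap ξ).hom)
    (h3 : Set.InjOn f.base {ξ : X | closure ({ξ} : Set X) ∈ irreducibleComponents (X : Type u)}) :
    UniversallyInjective f := by
    refine (UniversallyInjective.iff_diagonal f).mpr ⟨fun z => ?_⟩
    obtain ⟨z', hz', hmax⟩ := SepLocIso.exists_max_specializes z
    have hgen : ∀ (p : pullback f f ⟶ X) [Flat p], p z' ∈ genericPoints X := fun p _ => by
      rw [mem_genericPoints_iff]
      intro v hv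
      obtain ⟨v', hv', rfl⟩ := Flat.generalizingMap p hv
      rw [hmax v' hv']
    let p₁ := pullback.fst f f
    let p₂ := pullback.snd f f
    have heq : p₁ z' = p₂ z' := h3 (hgen p₁) (hgen p₂) (by
      show f (p₁ z') = f (p₂ z')
      rw [← Scheme.Hom.comp_apply, ← Scheme.Hom.comp_apply, pullback.condition])
    obtain ⟨a, ha, -, huniv⟩ := exists_section f (η := f (p₁ z')) rfl
      ⟨RingHom.injective _, h2 _ (hgen p₁)⟩
    obtain ⟨φ₁, hφ₁⟩ := huniv _ z' p₁ rfl
    obtain ⟨φ₂, hφ₂⟩ := huniv _ z' p₂ heq.symm
    have hφ : φ₁ = φ₂ := by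
      apply Spec.map_injective
      rw [← cancel_mono (Y.fromSpecResidueField (f (p₁ z')))]
      calc Spec.map φ₁ ≫ Y.fromSpecResidueField (f (p₁ z')) = (Spec.map φ₁ ≫ a) ≫ f := by rw [Category.assoc, ha]
        _ = ((pullback f f).fromSpecResidueField z' ≫ p₁) ≫ f := by rw [hφ₁]
        _ = ((pullback f f).fromSpecResidueField z' ≫ p₂) ≫ f := by rw [Category.assoc, Category.assoc, pullback.condition]
        _ = (Spec.map φ₂ ≫ a) ≫ f := by rw [hφ₂]
        _ = Spec.map φ₂ ≫ Y.fromSpecResidueField (f (p₁ z')) := by rw [Category.assoc, ha]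
    have hfac : ((pullback f f).fromSpecResidueField z' ≫ p₁) ≫ pullback.diagonal f =
        (pullback f f).fromSpecResidueField z' := by
      refine pullback.hom_ext ?_ ?_
      · rw [Category.assoc, pullback.diagonal_fst, Category.comp_id]
      · rw [Category.assoc, pullback.diagonal_snd, Category.comp_id, hφ₁, hφ, ← hφ₂]
    have hmem : z' ∈ Set.range (pullback.diagonal f) := ⟨p₁ z', by
      have := congrArg (fun m => m.base default) hfac
      simpa only [Scheme.Hom.comp_apply, Scheme.fromSpecResidueField_apply] using this⟩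
    exact (pullback.diagonal f).isClosedEmbedding.isClosed_range.stableUnderSpecialization hz' hmem

end Groth.Agent.S1162
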