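import Groth.Statements.S1167
import Groth.Agent.EssFree.Apps
-- import your own Groth.Agent.* helpers here

set_option autoImplicit false
open CategoryTheory CategoryTheory.Limits AlgebraicGeometry
universe u
open HilbD

namespace Groth.Agent.S1167

set_option backward.isDefEq.respectTransparency false
set_option maxHeartbeats 1000000

section
variable {X S : Scheme.{u}} (f : X ⟶ S) {T T' T'' : Over S}

theorem isPullback_XTmap (g : T' ⟶ T) :
    IsPullback (PicF.XTmap f g) (PicF.XTproj f T') (PicF.XTproj f T) g.left := by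
  have hsnd : PicF.XTmap f g ≫ PicF.XTproj f T = PicF.XTproj f T' ≫ g.left := pullback.lift_snd _ _ _
  refine IsPullback.of_right ?_ hsnd (IsPullback.of_hasPullback f T.hom)
  have hfst : PicF.XTmap f g ≫ pullback.fst f T.hom = pullback.fst f T'.hom :=
    (pullback.lift_fst _ _ _).trans (Category.comp_id _)
  rw [hfst, Over.w g]
  exact IsPullback.of_hasPullback f T'.hom

theorem XTmap_comp (g : T'' ⟶ T') (h : T' ⟶ T) :
    PicF.XTmap f (g ≫ h) = PicF.XTmap f g ≫ PicF.XTmap f h := by
  apply pullback.hom_ext <;> simp [PicF.XTmap]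

theorem pull_eq_comap (g : T' ⟶ T) (I : (PicF.XT f T).IdealSheafData) :
    HilbD.pull f g I = I.comap (PicF.XTmap f g) := by
  show (pullback.snd I.subschemeι (PicF.XTmap f g)).ker = (pullback.fst (PicF.XTmap f g) I.subschemeι).ker
  rw [← pullbackSymmetry_hom_comp_fst, Scheme.Hom.ker_comp_of_isIso]

theorem pull_pull (g : T'' ⟶ T') (h : T' ⟶ T) (I : (PicF.XT f T).IdealSheafData) :
    (HilbD.pull f h I).comap (PicF.XTmap f g) = HilbD.pull f (g ≫ h) I := by
  rw [pull_eq_comap, pull_eq_comap, XTmap_comp, ← Scheme.IdealSheafData.comap_comp]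

theorem pull_mem {d : ℕ} (g : T' ⟶ T) (Z : HilbD.Obj f d T) :
    Mor2.IsFinLocFreeOfDeg d ((HilbD.pull f g Z.1).subschemeι ≫ PicF.XTproj f T') := by
  obtain ⟨I, ⟨h1, h2, h3⟩, h4⟩ := Z
  let q := pullback.snd I.subschemeι (PicF.XTmap f g)
  haveI : IsClosedImmersion q := inferInstanceAs (IsClosedImmersion (pullback.snd _ _))
  have sq : IsPullback (pullback.fst I.subschemeι (PicF.XTmap f g)) (q ≫ PicF.XTproj f T')
      (I.subschemeι ≫ PicF.XTproj f T) g.left :=
    (IsPullback.of_hasPullback I.subschemeι (PicF.XTmap f g)).paste_vert (isPullback_XTmap f g)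
  have e : (HilbD.pull f g I).subschemeι ≫ PicF.XTproj f T' = inv q.toImage ≫ q ≫ PicF.XTproj f T' := by
    rw [IsIso.eq_inv_comp, ← Category.assoc]
    exact congrArg (· ≫ PicF.XTproj f T') q.toImage_imageι
  haveI f1 : IsFinite (q ≫ PicF.XTproj f T') := MorphismProperty.of_isPullback sq h1
  haveI f2 : Flat (q ≫ PicF.XTproj f T') := MorphismProperty.of_isPullback sq h2
  haveI f3 : LocallyOfFinitePresentation (q ≫ PicF.XTproj f T') := MorphismProperty.of_isPullback sq h3
  rw [e]
  refine ⟨⟨inferInstance, inferInstance, inferInstance⟩, fun y => ?_⟩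
  haveI := h1
  haveI := h2
  haveI := h3
  rw [Scheme.Hom.finrank_comp_left_of_isIso, Scheme.Hom.finrank_of_isPullback _ _ _ _ sq, h4]

end

theorem exists_le_locus {P B : Scheme.{u}} (p : P ⟶ B) (I J : P.IdealSheafData)
    (hJ : IsFinite (J.subschemeι ≫ p) ∧ Flat (J.subschemeι ≫ p) ∧ LocallyOfFinitePresentation (J.subschemeι ≫ p)) :
    ∃ (K : Scheme.{u}) (t : K ⟶ B), IsClosedImmersion t ∧ ∀ {B' : Scheme.{u}} (g : B' ⟶ B),
      (∃ z, z ≫ t = g) ↔ I.comap (pullback.fst p g) ≤ J.comap (pullback.fst p g) := by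
  haveI := hJ.1
  haveI := hJ.2.1
  haveI := hJ.2.2
  obtain ⟨K, t, ht, -, hK⟩ := Groth.Agent.EssFree.exists_closed_full
    (j := pullback.fst J.subschemeι I.subschemeι) (Groth.Agent.EssFree.isEssentiallyFree_of_isFinite (J.subschemeι ≫ p))
  refine ⟨K, t, ht, fun {B'} g => ?_⟩
  rw [hK g]
  let a := pullback.fst p g
  have h2 : I.comap a ≤ J.comap a ↔ I ≤ (pullback.fst a J.subschemeι ≫ a).ker := by
    rw [Scheme.Hom.ker_comp, Scheme.IdealSheafData.le_map_iff_comap_le]
    rfl
  rw [h2]
  let φ : pullback a J.subschemeι ⟶ pullback (J.subschemeι ≫ p) g :=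
    pullback.lift (pullback.snd a J.subschemeι) (pullback.fst a J.subschemeι ≫ pullback.snd p g)
      (by rw [← pullback.condition_assoc, pullback.condition, Category.assoc])
  let ψ : pullback (J.subschemeι ≫ p) g ⟶ pullback a J.subschemeι :=
    pullback.lift (pullback.lift (pullback.fst (J.subschemeι ≫ p) g ≫ J.subschemeι)
      (pullback.snd (J.subschemeι ≫ p) g) (by rw [Category.assoc, pullback.condition]))
      (pullback.fst (J.subschemeι ≫ p) g) (pullback.lift_fst _ _ _)
  constructor
  · rintro ⟨l, hl⟩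
    have h3 : pullback.fst a J.subschemeι ≫ a =
        (φ ≫ l ≫ pullback.snd J.subschemeι I.subschemeι) ≫ I.subschemeι := by
      rw [Category.assoc, Category.assoc, ← pullback.condition (f := J.subschemeι), reassoc_of% hl,
        pullback.lift_fst_assoc, ← pullback.condition]
    rw [h3]
    refine le_trans ?_ (Scheme.Hom.le_ker_comp _ _)
    simp
  · intro h
    have h4 := IsClosedImmersion.lift_fac I.subschemeι (pullback.fst a J.subschemeι ≫ a) (by simpa using h)
    refine ⟨pullback.lift (pullback.fst _ _) (ψ ≫ IsClosedImmersion.lift I.subschemeι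
      (pullback.fst a J.subschemeι ≫ a) (by simpa using h)) ?_, pullback.lift_fst _ _ _⟩
    rw [Category.assoc, h4, pullback.condition, pullback.lift_snd_assoc]

/-- Let f : X → S be a separated morphism of schemes and let (H, Z) represent the Hilbert functor of
points of degree d of X over S (Z the universal object on H). Then H → S is separated. -/
theorem result {X S : Scheme.{u}} (f : X ⟶ S) [IsSeparated f] (d : ℕ)
    (H : Over S) (Z : HilbD.Obj f d H) (hZ : HilbD.IsUniversal f d H Z) : IsSeparated H.hom := by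
  let T : Over S := Over.mk (pullback.fst H.hom H.hom ≫ H.hom)
  let u : T ⟶ H := Over.homMk (pullback.fst H.hom H.hom) rfl
  let v : T ⟶ H := Over.homMk (pullback.snd H.hom H.hom) pullback.condition.symm
  obtain ⟨K₁, t₁, ht₁, hK₁⟩ := exists_le_locus (PicF.XTproj f T) (HilbD.pull f u Z.1) (HilbD.pull f v Z.1)
    (pull_mem f v Z).1
  obtain ⟨K₂, t₂, ht₂, hK₂⟩ := exists_le_locus (PicF.XTproj f T) (HilbD.pull f v Z.1) (HilbD.pull f u Z.1)
    (pull_mem f u Z).1
  let t : pullback t₁ t₂ ⟶ T.left := pullback.fst t₁ t₂ ≫ t₁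
  haveI := ht₁
  haveI := ht₂
  haveI : IsClosedImmersion t := inferInstanceAs (IsClosedImmersion (_ ≫ _))
  have key : ∀ {T' : Over S} (g : T' ⟶ T), (∃ z, z ≫ t = g.left) ↔ g ≫ u = g ≫ v := by
    intro T' g
    let e := (isPullback_XTmap f g).isoPullback
    have he : e.hom ≫ pullback.fst (PicF.XTproj f T) g.left = PicF.XTmap f g :=
      (isPullback_XTmap f g).isoPullback_hom_fst
    have he' : e.inv ≫ PicF.XTmap f g = pullback.fst (PicF.XTproj f T) g.left :=
      (isPullback_XTmap f g).isoPullback_inv_fst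
    have hle : ∀ I J : (PicF.XT f T).IdealSheafData,
        I.comap (pullback.fst (PicF.XTproj f T) g.left) ≤ J.comap (pullback.fst (PicF.XTproj f T) g.left) ↔
          I.comap (PicF.XTmap f g) ≤ J.comap (PicF.XTmap f g) := fun I J => by
      constructor
      · intro h
        rw [← he, Scheme.IdealSheafData.comap_comp, Scheme.IdealSheafData.comap_comp]
        exact Scheme.IdealSheafData.comap_mono _ h
      · intro h
        rw [← he', Scheme.IdealSheafData.comap_comp, Scheme.IdealSheafData.comap_comp]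
        exact Scheme.IdealSheafData.comap_mono _ h
    have h12 : (∃ z, z ≫ t = g.left) ↔ (∃ z, z ≫ t₁ = g.left) ∧ (∃ z, z ≫ t₂ = g.left) := by
      constructor
      · rintro ⟨z, hz⟩
        exact ⟨⟨z ≫ pullback.fst t₁ t₂, by rw [Category.assoc]; exact hz⟩,
          ⟨z ≫ pullback.snd t₁ t₂, by rw [Category.assoc, ← pullback.condition]; exact hz⟩⟩
      · rintro ⟨⟨a, ha⟩, ⟨b, hb⟩⟩
        exact ⟨pullback.lift a b (ha.trans hb.symm), by rw [pullback.lift_fst_assoc, ha]⟩
    rw [h12, hK₁ g.left, hK₂ g.left, hle, hle, pull_pull, pull_pull, ← le_antisymm_iff]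
    constructor
    · intro h
      exact (hZ T' ⟨_, pull_mem f (g ≫ u) Z⟩).unique rfl h.symm
    · intro h
      rw [h]
  let δ : H ⟶ T := Over.homMk (pullback.diagonal H.hom) (by simp [T])
  obtain ⟨z, hz⟩ := (key δ).mpr (Over.OverMorphism.ext (by simp [δ, u, v]))
  have ht := (key (Over.homMk t : Over.mk (t ≫ T.hom) ⟶ T)).mp ⟨𝟙 _, Category.id_comp _⟩
  have htl : t ≫ pullback.fst H.hom H.hom = t ≫ pullback.snd H.hom H.hom := congrArg CommaMorphism.left ht
  have htd : (t ≫ pullback.fst H.hom H.hom) ≫ pullback.diagonal H.hom = t := by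
    apply pullback.hom_ext <;> simp [htl]
  have hz' : z ≫ t = pullback.diagonal H.hom := hz
  haveI : IsIso z := ⟨t ≫ pullback.fst H.hom H.hom, by rw [← Category.assoc, hz', pullback.diagonal_fst],
    by rw [← cancel_mono t, Category.assoc, hz', htd, Category.id_comp]⟩
  refine ⟨?_⟩
  rw [← hz']
  infer_instance

end Groth.Agent.S1167
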