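import Groth.Statements.S1168
import Groth.Agent.EssFree.Apps
-- import your own Groth.Agent.* helpers here

set_option autoImplicit false
open CategoryTheory CategoryTheory.Limits AlgebraicGeometry
universe u
open HilbD

namespace Groth.Agent.S1168

set_option backward.isDefEq.respectTransparency false
set_option maxHeartbeats 1000000

section
variable {X S : Scheme.{u}} (f : X ⟶ S) {T T' T'' : Over S}

theorem isPullback_XTmap (g : T' ⟶ T) :
    IsPullback (PicF.XTmap f g) (PicF.XTproj f T') (PicF.XTproj f T) g.left := by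
  have hsnd : PicF.XTmap f g ≫ PicF.XTproj f T = PicF.XTproj f T' ≫ g.left := pullback.lift_snd _ _ _
  refine IsPullback.of_right ?_ hsnd (IsPullback.of_hasPullback f T.hom)
  have hfst : PicF.XTmap f g ≫ pullback.fst f T.hom = pullback.fst f T'.hom :=
    (pullback.lift_fst _ _ _).trans (Category.comp_id _)
  rw [hfst, Over.w g]
  exact IsPullback.of_hasPullback f T'.hom

theorem XTmap_comp (g : T'' ⟶ T') (h : T' ⟶ T) :
    PicF.XTmap f (g ≫ h) = PicF.XTmap f g ≫ PicF.XTmap f h := by
  apply pullback.hom_ext <;> simp [PicF.XTmap]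

theorem pull_eq_comap (g : T' ⟶ T) (I : (PicF.XT f T).IdealSheafData) :
    HilbD.pull f g I = I.comap (PicF.XTmap f g) := by
  show (pullback.snd I.subschemeι (PicF.XTmap f g)).ker = (pullback.fst (PicF.XTmap f g) I.subschemeι).ker
  rw [← pullbackSymmetry_hom_comp_fst, Scheme.Hom.ker_comp_of_isIso]

theorem pull_pull (g : T'' ⟶ T') (h : T' ⟶ T) (I : (PicF.XT f T).IdealSheafData) :
    (HilbD.pull f h I).comap (PicF.XTmap f g) = HilbD.pull f (g ≫ h) I := by
  rw [pull_eq_comap, pull_eq_comap, XTmap_comp, ← Scheme.IdealSheafData.comap_comp]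

theorem pull_mem {d : ℕ} (g : T' ⟶ T) (Z : HilbD.Obj f d T) :
    Mor2.IsFinLocFreeOfDeg d ((HilbD.pull f g Z.1).subschemeι ≫ PicF.XTproj f T') := by
  obtain ⟨I, ⟨h1, h2, h3⟩, h4⟩ := Z
  let q := pullback.snd I.subschemeι (PicF.XTmap f g)
  haveI : IsClosedImmersion q := inferInstanceAs (IsClosedImmersion (pullback.snd _ _))
  have sq : IsPullback (pullback.fst I.subschemeι (PicF.XTmap f g)) (q ≫ PicF.XTproj f T')
      (I.subschemeι ≫ PicF.XTproj f T) g.left :=
    (IsPullback.of_hasPullback I.subschemeι (PicF.XTmap f g)).paste_vert (isPullback_XTmap f g)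
  have e : (HilbD.pull f g I).subschemeι ≫ PicF.XTproj f T' = inv q.toImage ≫ q ≫ PicF.XTproj f T' := by
    rw [IsIso.eq_inv_comp, ← Category.assoc]
    exact congrArg (· ≫ PicF.XTproj f T') q.toImage_imageι
  haveI f1 : IsFinite (q ≫ PicF.XTproj f T') := MorphismProperty.of_isPullback sq h1
  haveI f2 : Flat (q ≫ PicF.XTproj f T') := MorphismProperty.of_isPullback sq h2
  haveI f3 : LocallyOfFinitePresentation (q ≫ PicF.XTproj f T') := MorphismProperty.of_isPullback sq h3
  rw [e]
  refine ⟨⟨inferInstance, inferInstance, inferInstance⟩, fun y => ?_⟩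
  haveI := h1
  haveI := h2
  haveI := h3
  rw [Scheme.Hom.finrank_comp_left_of_isIso, Scheme.Hom.finrank_of_isPullback _ _ _ _ sq, h4]

end

theorem exists_le_locus {P B : Scheme.{u}} (p : P ⟶ B) (I J : P.IdealSheafData)
    (hJ : IsFinite (J.subschemeι ≫ p) ∧ Flat (J.subschemeι ≫ p) ∧ LocallyOfFinitePresentation (J.subschemeι ≫ p)) :
    ∃ (K : Scheme.{u}) (t : K ⟶ B), IsClosedImmersion t ∧ ∀ {B' : Scheme.{u}} (g : B' ⟶ B),
      (∃ z, z ≫ t = g) ↔ I.comap (pullback.fst p g) ≤ J.comap (pullback.fst p g) := by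
  haveI := hJ.1
  haveI := hJ.2.1
  haveI := hJ.2.2
  obtain ⟨K, t, ht, -, hK⟩ := Groth.Agent.EssFree.exists_closed_full
    (j := pullback.fst J.subschemeι I.subschemeι) (Groth.Agent.EssFree.isEssentiallyFree_of_isFinite (J.subschemeι ≫ p))
  refine ⟨K, t, ht, fun {B'} g => ?_⟩
  rw [hK g]
  let a := pullback.fst p g
  have h2 : I.comap a ≤ J.comap a ↔ I ≤ (pullback.fst a J.subschemeι ≫ a).ker := by
    rw [Scheme.Hom.ker_comp, Scheme.IdealSheafData.le_map_iff_comap_le]
    rfl
  rw [h2]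
  let φ : pullback a J.subschemeι ⟶ pullback (J.subschemeι ≫ p) g :=
    pullback.lift (pullback.snd a J.subschemeι) (pullback.fst a J.subschemeι ≫ pullback.snd p g)
      (by rw [← pullback.condition_assoc, pullback.condition, Category.assoc])
  let ψ : pullback (J.subschemeι ≫ p) g ⟶ pullback a J.subschemeι :=
    pullback.lift (pullback.lift (pullback.fst (J.subschemeι ≫ p) g ≫ J.subschemeι)
      (pullback.snd (J.subschemeι ≫ p) g) (by rw [Category.assoc, pullback.condition]))
      (pullback.fst (J.subschemeι ≫ p) g) (pullback.lift_fst _ _ _)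
  constructor
  · rintro ⟨l, hl⟩
    have h3 : pullback.fst a J.subschemeι ≫ a =
        (φ ≫ l ≫ pullback.snd J.subschemeι I.subschemeι) ≫ I.subschemeι := by
      rw [Category.assoc, Category.assoc, ← pullback.condition (f := J.subschemeι), reassoc_of% hl,
        pullback.lift_fst_assoc, ← pullback.condition]
    rw [h3]
    refine le_trans ?_ (Scheme.Hom.le_ker_comp _ _)
    simp
  · intro h
    have h4 := IsClosedImmersion.lift_fac I.subschemeι (pullback.fst a J.subschemeι ≫ a) (by simpa using h)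
    refine ⟨pullback.lift (pullback.fst _ _) (ψ ≫ IsClosedImmersion.lift I.subschemeι
      (pullback.fst a J.subschemeι ≫ a) (by simpa using h)) ?_, pullback.lift_fst _ _ _⟩
    rw [Category.assoc, h4, pullback.condition, pullback.lift_snd_assoc]

theorem ker_of_isPullback {A B C D : Scheme.{u}} {p : A ⟶ B} {q : A ⟶ C} {c : B ⟶ D} {m : C ⟶ D}
    [IsClosedImmersion c] (h : IsPullback p q c m) : q.ker = c.ker.comap m := by
  rw [← h.flip.isoPullback_hom_fst, Scheme.Hom.ker_comp_of_isIso, Scheme.IdealSheafData.ker_fst_of_isClosedImmersion]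

section push
variable {X Y S : Scheme.{u}} (i : X ⟶ Y) [IsClosedImmersion i] (g : Y ⟶ S) {T T' : Over S}

noncomputable abbrev iT (T : Over S) : PicF.XT (i ≫ g) T ⟶ PicF.XT g T :=
  pullback.map (i ≫ g) T.hom g T.hom i (𝟙 _) (𝟙 S) (Category.comp_id _) (by simp)

theorem isPullback_iT (T : Over S) :
    IsPullback (pullback.fst (i ≫ g) T.hom) (iT i g T) i (pullback.fst g T.hom) := by
  have h1 : iT i g T ≫ pullback.snd g T.hom = pullback.snd (i ≫ g) T.hom :=
    (pullback.lift_snd _ _ _).trans (Category.comp_id _)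
  refine IsPullback.of_bot ?_ (pullback.lift_fst _ _ _).symm (IsPullback.of_hasPullback g T.hom)
  rw [h1]
  exact IsPullback.of_hasPullback (i ≫ g) T.hom

instance (T : Over S) : IsClosedImmersion (iT i g T) :=
  MorphismProperty.of_isPullback (P := @IsClosedImmersion) (isPullback_iT i g T) inferInstance

theorem iT_proj (T : Over S) : iT i g T ≫ PicF.XTproj g T = PicF.XTproj (i ≫ g) T :=
  (pullback.lift_snd _ _ _).trans (Category.comp_id _)

theorem isPullback_XTmap_iT (a : T' ⟶ T) :
    IsPullback (PicF.XTmap (i ≫ g) a) (iT i g T') (iT i g T) (PicF.XTmap g a) := by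
  refine IsPullback.of_right ?_ ?_ (isPullback_iT i g T)
  · have h1 : PicF.XTmap (i ≫ g) a ≫ pullback.fst (i ≫ g) T.hom = pullback.fst (i ≫ g) T'.hom :=
      (pullback.lift_fst _ _ _).trans (Category.comp_id _)
    have h2 : PicF.XTmap g a ≫ pullback.fst g T.hom = pullback.fst g T'.hom :=
      (pullback.lift_fst _ _ _).trans (Category.comp_id _)
    rw [h1, h2]
    exact isPullback_iT i g T'
  · apply pullback.hom_ext <;> simp [PicF.XTmap, iT]

theorem ker_iT (a : T' ⟶ T) : (iT i g T').ker = (iT i g T).ker.comap (PicF.XTmap g a) :=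
  ker_of_isPullback (isPullback_XTmap_iT i g a)

theorem ker_le_push (I : (PicF.XT (i ≫ g) T).IdealSheafData) : (iT i g T).ker ≤ HilbD.push i g T I :=
  Scheme.Hom.le_ker_comp _ _

theorem le_of_push_le (I I' : (PicF.XT (i ≫ g) T).IdealSheafData)
    (h : HilbD.push i g T I ≤ HilbD.push i g T I') : I ≤ I' := by
  have hz := IsClosedImmersion.lift_fac (I.subschemeι ≫ iT i g T) (I'.subschemeι ≫ iT i g T) h
  rw [← Category.assoc, cancel_mono] at hz
  calc I = I.subschemeι.ker := (Scheme.IdealSheafData.ker_subschemeι I).symm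
    _ ≤ (IsClosedImmersion.lift (I.subschemeι ≫ iT i g T) (I'.subschemeι ≫ iT i g T) h ≫ I.subschemeι).ker :=
      Scheme.Hom.le_ker_comp _ _
    _ = I' := by rw [hz, Scheme.IdealSheafData.ker_subschemeι]

theorem push_injective (I I' : (PicF.XT (i ≫ g) T).IdealSheafData)
    (h : HilbD.push i g T I = HilbD.push i g T I') : I = I' :=
  le_antisymm (le_of_push_le i g _ _ h.le) (le_of_push_le i g _ _ h.ge)

theorem push_mem {d : ℕ} (I : HilbD.Obj (i ≫ g) d T) :
    Mor2.IsFinLocFreeOfDeg d ((HilbD.push i g T I.1).subschemeι ≫ PicF.XTproj g T) := by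
  let c := I.1.subschemeι ≫ iT i g T
  have e : (HilbD.push i g T I.1).subschemeι ≫ PicF.XTproj g T = inv c.toImage ≫ (I.1.subschemeι ≫ PicF.XTproj (i ≫ g) T) := by
    rw [IsIso.eq_inv_comp, ← Category.assoc]
    exact (congrArg (· ≫ PicF.XTproj g T) c.toImage_imageι).trans
      ((Category.assoc _ _ _).trans (congrArg (I.1.subschemeι ≫ ·) (iT_proj i g T)))
  obtain ⟨⟨h1, h2, h3⟩, h4⟩ := I.2
  haveI := h1
  haveI := h2
  haveI := h3
  rw [e]
  refine ⟨⟨inferInstance, inferInstance, inferInstance⟩, fun y => ?_⟩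
  rw [Scheme.Hom.finrank_comp_left_of_isIso, h4]

theorem exists_push {d : ℕ} (J : HilbD.Obj g d T) (h : (iT i g T).ker ≤ J.1) :
    ∃ I : HilbD.Obj (i ≫ g) d T, HilbD.push i g T I.1 = J.1 := by
  let l := IsClosedImmersion.lift (iT i g T) J.1.subschemeι (by simpa using h)
  have hl : l ≫ iT i g T = J.1.subschemeι := IsClosedImmersion.lift_fac _ _ _
  haveI : IsClosedImmersion (l ≫ iT i g T) := by rw [hl]; infer_instance
  haveI : IsClosedImmersion l := IsClosedImmersion.of_comp l (iT i g T)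
  have e : l.ker.subschemeι = inv l.toImage ≫ l := by
    rw [IsIso.eq_inv_comp]
    exact l.toImage_imageι
  obtain ⟨⟨h1, h2, h3⟩, h4⟩ := J.2
  have e2 : l.ker.subschemeι ≫ PicF.XTproj (i ≫ g) T = inv l.toImage ≫ (J.1.subschemeι ≫ PicF.XTproj g T) := by
    rw [e, ← hl, Category.assoc, Category.assoc, iT_proj]
  haveI := h1
  haveI := h2
  haveI := h3
  refine ⟨⟨l.ker, ?_⟩, ?_⟩
  · rw [e2]
    exact ⟨⟨inferInstance, inferInstance, inferInstance⟩, fun y => by rw [Scheme.Hom.finrank_comp_left_of_isIso, h4]⟩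
  · show (l.ker.subschemeι ≫ iT i g T).ker = J.1
    rw [e, Category.assoc, Scheme.Hom.ker_comp_of_isIso, hl, Scheme.IdealSheafData.ker_subschemeι]

theorem pull_push (a : T' ⟶ T) (I : (PicF.XT (i ≫ g) T).IdealSheafData) :
    HilbD.pull g a (HilbD.push i g T I) = HilbD.push i g T' (HilbD.pull (i ≫ g) a I) := by
  let q := pullback.snd I.subschemeι (PicF.XTmap (i ≫ g) a)
  have sq : IsPullback (pullback.fst I.subschemeι (PicF.XTmap (i ≫ g) a)) (q ≫ iT i g T')
      (I.subschemeι ≫ iT i g T) (PicF.XTmap g a) :=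
    (IsPullback.of_hasPullback I.subschemeι (PicF.XTmap (i ≫ g) a)).paste_vert (isPullback_XTmap_iT i g a)
  haveI : IsClosedImmersion q := inferInstanceAs (IsClosedImmersion (pullback.snd _ _))
  have e : q.ker.subschemeι = inv q.toImage ≫ q := by
    rw [IsIso.eq_inv_comp]
    exact q.toImage_imageι
  rw [pull_eq_comap]
  show Scheme.IdealSheafData.comap (I.subschemeι ≫ iT i g T).ker _ = (q.ker.subschemeι ≫ iT i g T').ker
  rw [e, Category.assoc, Scheme.Hom.ker_comp_of_isIso (inv q.toImage), ker_of_isPullback sq]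

end push

/-- Let i : X ⟶ Y be a closed immersion of schemes over S (structure morphisms i ≫ g and g) and suppose
(H, Z) represents the degree-d Hilbert functor of points of Y over S. Then the degree-d Hilbert
functor of points of X over S is representable, and for any representing pair (H', Z') the unique
S-morphism H' ⟶ H classifying the image of Z' in Y ×_S H' is a closed immersion. -/
theorem result {X Y S : Scheme.{u}} (i : X ⟶ Y) [IsClosedImmersion i] (g : Y ⟶ S)
    (d : ℕ) (H : Over S) (Z : HilbD.Obj g d H) (hZ : HilbD.IsUniversal g d H Z) :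
    HilbD.Representable (i ≫ g) d ∧
    ∀ (H' : Over S) (Z' : HilbD.Obj (i ≫ g) d H') (_ : HilbD.IsUniversal (i ≫ g) d H' Z') (m : H' ⟶ H),
      HilbD.pull g m Z.1 = HilbD.push i g H' Z'.1 → IsClosedImmersion m.left := by
  obtain ⟨K, t, ht, hK⟩ := exists_le_locus (PicF.XTproj g H) (iT i g H).ker Z.1 Z.2.1
  haveI := ht
  have key : ∀ {T : Over S} (a : T ⟶ H), (∃ z, z ≫ t = a.left) ↔ (iT i g T).ker ≤ HilbD.pull g a Z.1 := by
    intro T a
    have he : (isPullback_XTmap g a).isoPullback.hom ≫ pullback.fst (PicF.XTproj g H) a.left = PicF.XTmap g a :=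
      (isPullback_XTmap g a).isoPullback_hom_fst
    have he' : (isPullback_XTmap g a).isoPullback.inv ≫ PicF.XTmap g a = pullback.fst (PicF.XTproj g H) a.left :=
      (isPullback_XTmap g a).isoPullback_inv_fst
    rw [hK a.left, ker_iT i g a, pull_eq_comap]
    constructor
    · intro h
      rw [← he, Scheme.IdealSheafData.comap_comp, Scheme.IdealSheafData.comap_comp]
      exact Scheme.IdealSheafData.comap_mono _ h
    · intro h
      rw [← he', Scheme.IdealSheafData.comap_comp, Scheme.IdealSheafData.comap_comp]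
      exact Scheme.IdealSheafData.comap_mono _ h
  let H₀ : Over S := Over.mk (t ≫ H.hom)
  let tO : H₀ ⟶ H := Over.homMk t rfl
  obtain ⟨Z₀, hZ₀⟩ := exists_push i g ⟨_, pull_mem g tO Z⟩ ((key tO).mp ⟨𝟙 _, Category.id_comp _⟩)
  have hU : HilbD.IsUniversal (i ≫ g) d H₀ Z₀ := by
    intro T I
    obtain ⟨a, ha, hau⟩ := hZ T ⟨_, push_mem i g I⟩
    obtain ⟨z, hz⟩ := (key a).mpr (by rw [ha]; exact ker_le_push i g _)
    let b : T ⟶ H₀ := Over.homMk z (by
      show z ≫ t ≫ H.hom = T.hom
      rw [reassoc_of% hz]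
      exact Over.w a)
    have hb : b ≫ tO = a := Over.OverMorphism.ext hz
    refine ⟨b, push_injective i g _ _ ?_, fun b' hb' => ?_⟩
    · rw [← pull_push, hZ₀]
      show HilbD.pull g b (HilbD.pull g tO Z.1) = _
      rw [pull_eq_comap g b, pull_pull, hb, ha]
    · have h2 : b' ≫ tO = a := hau _ (by
        show HilbD.pull g (b' ≫ tO) Z.1 = HilbD.push i g T I.1
        rw [← pull_pull, ← pull_eq_comap g b', ← hb']
        show HilbD.pull g b' (HilbD.pull g tO Z.1) = _
        rw [← pull_push, hZ₀])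
      apply Over.OverMorphism.ext
      rw [← cancel_mono t]
      exact (congrArg CommaMorphism.left h2).trans hz.symm
  refine ⟨⟨H₀, Z₀, hU⟩, fun H' Z' hH' m hm => ?_⟩
  obtain ⟨φ, hφ, -⟩ := hU H' Z'
  obtain ⟨ψ, hψ, -⟩ := hH' H₀ Z₀
  have hid : ∀ {T : Over S} (I : (PicF.XT (i ≫ g) T).IdealSheafData), HilbD.pull (i ≫ g) (𝟙 T) I = I := by
    intro T I
    rw [pull_eq_comap, show PicF.XTmap (i ≫ g) (𝟙 T) = 𝟙 _ by apply pullback.hom_ext <;> simp [PicF.XTmap]]
    exact Scheme.IdealSheafData.comap_id _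
  have h1 : φ ≫ ψ = 𝟙 H' := (hH' H' Z').unique (by
    rw [← pull_pull, ← pull_eq_comap, hψ, hφ]) (hid _)
  have h2 : ψ ≫ φ = 𝟙 H₀ := (hU H₀ Z₀).unique (by
    rw [← pull_pull, ← pull_eq_comap, hφ, hψ]) (hid _)
  haveI : IsIso φ := ⟨ψ, h1, h2⟩
  haveI : IsIso φ.left := inferInstanceAs (IsIso ((Over.forget S).map φ))
  have h3 : m = φ ≫ tO := (hZ H' ⟨_, push_mem i g Z'⟩).unique hm (by
    show HilbD.pull g (φ ≫ tO) Z.1 = HilbD.push i g H' Z'.1
    rw [← pull_pull, ← pull_eq_comap g φ, ← hφ]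
    show HilbD.pull g φ (HilbD.pull g tO Z.1) = _
    rw [← pull_push, hZ₀])
  rw [h3, Over.comp_left]
  exact inferInstanceAs (IsClosedImmersion (φ.left ≫ t))

end Groth.Agent.S1168
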