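import Groth.Statements.S9404
import Mathlib
-- import your own Groth.Agent.* helpers here

set_option autoImplicit false
universe u
open CAlg

namespace Groth.Agent.S9404

open TensorProduct IsLocalRing in
theorem uniq {A B C : Type u} [CommRing A] [IsLocalRing A] [CommRing B] [IsLocalRing B] [CommRing C] [IsLocalRing C]
    [Algebra A B] [Algebra A C] [IsLocalHom (algebraMap A C)]
    [IsPurelyInseparable (ResidueField A) (ResidueField C)]
    (m m' : Ideal (B ⊗[A] C)) [m.IsPrime] [m'.IsPrime]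
    (hB : ∀ b, b ⊗ₜ[A] (1 : C) ∈ m ↔ b ∈ maximalIdeal B) (hB' : ∀ b, b ⊗ₜ[A] (1 : C) ∈ m' ↔ b ∈ maximalIdeal B)
    (hC : ∀ c, c ∈ maximalIdeal C → (1 : B) ⊗ₜ[A] c ∈ m) (hC' : ∀ c, c ∈ maximalIdeal C → (1 : B) ⊗ₜ[A] c ∈ m') :
    m ≤ m' := by
  obtain ⟨q, hq⟩ := ExpChar.exists (ResidueField A)
  set J := m ⊓ m' with hJ
  haveI hnt : Nontrivial ((B ⊗[A] C) ⧸ J) := Ideal.Quotient.nontrivial_iff.mpr fun h => by
    exact Ideal.IsPrime.ne_top ‹m.IsPrime› (top_le_iff.mp (h ▸ inf_le_left))
  let φ : ResidueField A →+* (B ⊗[A] C) ⧸ J := Ideal.Quotient.lift (maximalIdeal A)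
    ((Ideal.Quotient.mk J).comp (algebraMap A (B ⊗[A] C))) fun a ha => by
      have h1 : algebraMap A C a ∈ maximalIdeal C := (map_mem_nonunits_iff (algebraMap A C) a).mpr ha
      rw [RingHom.comp_apply, Ideal.Quotient.eq_zero_iff_mem,
        ← (Algebra.TensorProduct.includeRight : C →ₐ[A] B ⊗[A] C).commutes a]
      exact ⟨hC _ h1, hC' _ h1⟩
  haveI : ExpChar ((B ⊗[A] C) ⧸ J) q := expChar_of_injective_ringHom φ.injective q
  have key : ∀ x : B ⊗[A] C, ∃ N, ∀ n, N ≤ n → ∃ β : B, x ^ q ^ n - β ⊗ₜ[A] (1 : C) ∈ J := by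
    intro x
    induction x with
    | zero => exact ⟨0, fun n _ => ⟨0, by simp [(expChar_pos (ResidueField A) q).ne']⟩⟩
    | add x y hx hy =>
      obtain ⟨N, hN⟩ := hx; obtain ⟨M, hM⟩ := hy
      refine ⟨max N M, fun n hn => ?_⟩
      obtain ⟨β, hβ⟩ := hN n (le_of_max_le_left hn); obtain ⟨γ, hγ⟩ := hM n (le_of_max_le_right hn)
      refine ⟨β + γ, ?_⟩
      rw [← Ideal.Quotient.eq_zero_iff_mem] at hβ hγ ⊢
      rw [map_sub, map_pow] at hβ hγ ⊢
      rw [map_add, add_pow_expChar_pow, TensorProduct.add_tmul, map_add]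
      linear_combination hβ + hγ
    | tmul b c =>
      obtain ⟨N, hN⟩ := IsPurelyInseparable.pow_mem (ResidueField A) q (residue C c)
      refine ⟨N, fun n hn => ?_⟩
      obtain ⟨a', ha⟩ := hN
      obtain ⟨a, rfl⟩ := residue_surjective a'
      obtain ⟨d, rfl⟩ := Nat.exists_eq_add_of_le hn
      refine ⟨b ^ q ^ (N + d) * algebraMap A B (a ^ q ^ d), ?_⟩
      have hc : c ^ q ^ (N + d) - algebraMap A C (a ^ q ^ d) ∈ maximalIdeal C := by
        rw [← residue_eq_zero_iff, map_sub, map_pow, sub_eq_zero, pow_add, pow_mul, ← ha, map_pow, map_pow]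
        rfl
      have he : (b ^ q ^ (N + d) * algebraMap A B (a ^ q ^ d)) ⊗ₜ[A] (1 : C) =
          (b ^ q ^ (N + d)) ⊗ₜ[A] algebraMap A C (a ^ q ^ d) := by
        rw [mul_comm, ← Algebra.smul_def, TensorProduct.smul_tmul, Algebra.smul_def, mul_one]
      rw [Algebra.TensorProduct.tmul_pow, he, ← TensorProduct.tmul_sub,
        show (b ^ q ^ (N + d)) ⊗ₜ[A] (c ^ q ^ (N + d) - algebraMap A C (a ^ q ^ d)) =
          ((b ^ q ^ (N + d)) ⊗ₜ[A] (1 : C)) * ((1 : B) ⊗ₜ[A] (c ^ q ^ (N + d) - algebraMap A C (a ^ q ^ d))) by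
          rw [Algebra.TensorProduct.tmul_mul_tmul, mul_one, one_mul]]
      exact Ideal.mul_mem_left _ _ ⟨hC _ hc, hC' _ hc⟩
  intro x hx
  obtain ⟨N, hN⟩ := key x
  obtain ⟨β, hβ⟩ := hN N le_rfl
  have h1 : β ⊗ₜ[A] (1 : C) ∈ m := by
    have := m.sub_mem (Ideal.pow_mem_of_mem m hx _ (pow_pos (expChar_pos (ResidueField A) q) N)) hβ.1
    simpa using this
  have h2 := m'.add_mem ((hB' β).mpr ((hB β).mp h1)) hβ.2
  rw [add_sub_cancel] at h2
  exact ‹m'.IsPrime›.mem_of_pow_mem _ h2

open TensorProduct in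
/-- For local homomorphisms of local rings A → B and A → C with A → C integral, if the residue field of
C or that of B is purely inseparable over the residue field of A, then B ⊗_A C is local and both
structure maps into it are local. -/
theorem result (A : Type u) [CommRing A]
    [IsLocalRing A] (B : Type u) [CommRing B] [IsLocalRing B] [Algebra A B]
    [IsLocalHom (algebraMap A B)] (C : Type u) [CommRing C] [IsLocalRing C] [Algebra A C]
    [IsLocalHom (algebraMap A C)] [Algebra.IsIntegral A C]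
    (h : IsPurelyInseparable (IsLocalRing.ResidueField A) (IsLocalRing.ResidueField C) ∨
      IsPurelyInseparable (IsLocalRing.ResidueField A) (IsLocalRing.ResidueField B)) :
    IsLocalRing (B ⊗[A] C) ∧
      IsLocalHom (Algebra.TensorProduct.includeLeft : B →ₐ[A] B ⊗[A] C).toRingHom ∧
      IsLocalHom (Algebra.TensorProduct.includeRight : C →ₐ[A] B ⊗[A] C).toRingHom := by
  let T := B ⊗[A] C
  haveI : Nontrivial T := by
    let kA := IsLocalRing.ResidueField A
    let P := IsLocalRing.ResidueField B ⊗[kA] IsLocalRing.ResidueField C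
    haveI : Nontrivial P := TensorProduct.nontrivial_of_linearMap_injective_of_flat_left kA _ _
      (Algebra.linearMap kA (IsLocalRing.ResidueField C)) (algebraMap kA _).injective
    let g : T →ₐ[A] P := Algebra.TensorProduct.lift
      (((Algebra.TensorProduct.includeLeft : IsLocalRing.ResidueField B →ₐ[kA] P).restrictScalars A).comp
        (IsScalarTower.toAlgHom A B (IsLocalRing.ResidueField B)))
      (((Algebra.TensorProduct.includeRight : IsLocalRing.ResidueField C →ₐ[kA] P).restrictScalars A).comp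
        (IsScalarTower.toAlgHom A C (IsLocalRing.ResidueField C)))
      (fun _ _ => Commute.all _ _)
    exact g.toRingHom.domain_nontrivial
  have hB : ∀ (m : Ideal T) [m.IsMaximal], m.comap (algebraMap B T) = IsLocalRing.maximalIdeal B := fun m _ =>
    IsLocalRing.eq_maximalIdeal (Ideal.isMaximal_comap_of_isIntegral_of_isMaximal m)
  have hC : ∀ (m : Ideal T) [m.IsMaximal],
      m.comap (Algebra.TensorProduct.includeRight : C →ₐ[A] T).toRingHom = IsLocalRing.maximalIdeal C := by
    intro m _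
    haveI : (m.comap (Algebra.TensorProduct.includeRight : C →ₐ[A] T).toRingHom).IsPrime := Ideal.IsPrime.comap _
    apply IsLocalRing.eq_maximalIdeal
    apply Ideal.isMaximal_of_isIntegral_of_isMaximal_comap (R := A)
    have : (m.comap (Algebra.TensorProduct.includeRight : C →ₐ[A] T).toRingHom).comap (algebraMap A C) =
        IsLocalRing.maximalIdeal A := by
      have hA : (IsLocalRing.maximalIdeal B).comap (algebraMap A B) = IsLocalRing.maximalIdeal A :=
        IsLocalRing.maximalIdeal_comap (algebraMap A B)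
      rw [← hA, ← hB m, Ideal.comap_comap, Ideal.comap_comap]
      congr 1
      exact RingHom.ext fun a => ((Algebra.TensorProduct.includeRight : C →ₐ[A] T).commutes a).trans (IsScalarTower.algebraMap_apply A B T a)
    rw [this]; infer_instance
  have huniq : ∀ (m m' : Ideal T) [m.IsMaximal] [m'.IsMaximal], m ≤ m' := by
    intro m m' _ _
    have eB : ∀ (m : Ideal T) [m.IsMaximal] b, b ⊗ₜ[A] (1 : C) ∈ m ↔ b ∈ IsLocalRing.maximalIdeal B := fun m _ b => by
      rw [← hB m]; rfl
    have eC : ∀ (m : Ideal T) [m.IsMaximal] c, (1 : B) ⊗ₜ[A] c ∈ m ↔ c ∈ IsLocalRing.maximalIdeal C := fun m _ c => by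
      rw [← hC m]; rfl
    rcases h with h | h
    · exact uniq m m' (eB m) (eB m') (fun c => (eC m c).mpr) (fun c => (eC m' c).mpr)
    · let σ : C ⊗[A] B →+* T := (Algebra.TensorProduct.comm A C B).toRingEquiv.toRingHom
      haveI : (m.comap σ).IsPrime := Ideal.IsPrime.comap _
      haveI : (m'.comap σ).IsPrime := Ideal.IsPrime.comap _
      have hle : m.comap σ ≤ m'.comap σ := uniq (m.comap σ) (m'.comap σ) (fun c => eC m c) (fun c => eC m' c)
        (fun b hb => (eB m b).mpr hb) (fun b hb => (eB m' b).mpr hb)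
      intro x hx
      obtain ⟨y, rfl⟩ := (Algebra.TensorProduct.comm A C B).surjective x
      exact hle hx
  obtain ⟨m, hm⟩ := Ideal.exists_maximal T
  haveI : IsLocalRing T := IsLocalRing.of_unique_max_ideal ⟨m, hm, fun m' hm' => by
    haveI := hm'; exact le_antisymm (huniq m' m) (huniq m m')⟩
  refine ⟨this, ⟨fun b hb => ?_⟩, ⟨fun c hc => ?_⟩⟩
  · by_contra hnu
    have h1 : b ∈ IsLocalRing.maximalIdeal B := hnu
    rw [← hB m] at h1
    exact hm.ne_top (Ideal.eq_top_of_isUnit_mem _ h1 hb)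
  · by_contra hnu
    have h1 : c ∈ IsLocalRing.maximalIdeal C := hnu
    rw [← hC m] at h1
    exact hm.ne_top (Ideal.eq_top_of_isUnit_mem _ h1 hc)

end Groth.Agent.S9404
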