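import Groth.Statements.S1183
import Mathlib
import Groth.Agent.FlatAscent.Smooth
import Groth.Agent.FlatAscent.Fibres
import Groth.Agent.FlatSerre.RkDescent
-- import your own Groth.Agent.* helpers here

set_option autoImplicit false
universe u
open Desc

namespace Groth.Agent.S1183

theorem ArtinFlatRegular {A B : Type u} [CommRing A] [CommRing B] [Algebra A B] [Algebra.Smooth A B]
    (p : Ideal A) [p.IsPrime] : IsRegularRing (p.Fiber B) := by
  haveI : Algebra.Smooth p.ResidueField (p.Fiber B) := inferInstance
  haveI := FlatAscent.isGeometricallyRegular_of_smooth (k := p.ResidueField) (S := p.Fiber B) p.ResidueField inferInstance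
  exact IsRegularRing.of_ringEquiv (R := TensorProduct p.ResidueField p.ResidueField (p.Fiber B))
    (Algebra.TensorProduct.lid p.ResidueField (p.Fiber B)).toRingEquiv

/-- Let A → B be a smooth ring map of Noetherian rings and k a natural number. If A satisfies (R_k) then
so does B; and if moreover A → B is faithfully flat and B satisfies (R_k), then A does. -/
theorem result (A B : Type u) [CommRing A] [CommRing B] [IsNoetherianRing A] [IsNoetherianRing B]
    [Algebra A B] [Algebra.Smooth A B] (k : ℕ) :
    (LocCoh.HasRk k A → LocCoh.HasRk k B) ∧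
    (Module.FaithfullyFlat A B → LocCoh.HasRk k B → LocCoh.HasRk k A) := by
  haveI : Module.Flat A B := Algebra.Smooth.flat A B
  refine ⟨fun h q _ hq => ?_, fun hff h p _ hp => ?_⟩
  · obtain ⟨_, _, _, ⟨e'⟩⟩ := FlatAscent.exists_local_setting (A := A) q
    have := FlatAscent.isLocalRing_fibre (Localization.AtPrime (q.comap (algebraMap A B))) (Localization.AtPrime q)
    have hdim := FlatAscent.ringKrullDim_eq_add (Localization.AtPrime (q.comap (algebraMap A B))) (Localization.AtPrime q)
    have hd : ringKrullDim (Localization.AtPrime q) ≤ (k : ℕ) := by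
      rw [IsLocalization.AtPrime.ringKrullDim_eq_height q]; exact_mod_cast hq
    rw [hdim] at hd
    have h2 : ringKrullDim (Localization.AtPrime (q.comap (algebraMap A B))) ≤ (k : ℕ) :=
      le_trans (le_add_of_nonneg_right ringKrullDim_nonneg_of_nontrivial) hd
    rw [IsLocalization.AtPrime.ringKrullDim_eq_height (q.comap (algebraMap A B))] at h2
    obtain ⟨Q, _, ⟨e⟩⟩ := FlatAscent.exists_fibre_prime (A := A) q
    haveI := ArtinFlatRegular (q.comap (algebraMap A B)) (B := B)
    exact FlatAscent.isRegularLocalRing_atPrime q (h _ (by exact_mod_cast h2))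
      (IsRegularLocalRing.of_ringEquiv (R := Localization.AtPrime Q) e)
  · obtain ⟨⟨q, hqp⟩, hq⟩ := PrimeSpectrum.comap_surjective_of_faithfullyFlat (A := A) (B := B) ⟨p, inferInstance⟩
    have hq' : q.comap (algebraMap A B) = p := congrArg PrimeSpectrum.asIdeal hq
    subst hq'
    exact (FlatSerre.hasRkAt_iff k _).1
      (FlatSerre.hasRkAt_descend k q ((FlatSerre.hasRkAt_iff k q).2 fun p' _ _ hk => h p' hk))
      _ le_rfl hp

end Groth.Agent.S1183
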