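import Groth.Statements.S1189
import Mathlib

set_option autoImplicit false
universe u v w
open CategoryTheory PreGaloisCategory
open Pi1

namespace Groth.Agent.S1189

section aux

open Limits

variable {D : Type u} [Category.{v} D] [GaloisCategory D] (F : D ⥤ FintypeCat.{w}) [FiberFunctor F]

lemma isTerminal_top : Nonempty (IsTerminal (F.obj (⊤_ D))) :=
  ⟨terminalIsTerminal.isTerminalObj F _⟩

lemma subsingleton_top : Subsingleton (F.obj (⊤_ D)) := ⟨fun a b => by
  obtain ⟨h⟩ := isTerminal_top F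
  let c : F.obj (⊤_ D) → (F.obj (⊤_ D) ⟶ F.obj (⊤_ D)) := fun z => FintypeCat.homMk fun _ => z
  exact ConcreteCategory.congr_hom (h.hom_ext (c a) (c b)) a⟩

lemma app_coprod_eq_id (σ : Aut F) (n : ℕ) :
    σ.hom.app (∐ fun _ : Fin n => ⊤_ D) = 𝟙 _ := by
  refine Cofan.IsColimit.hom_ext
    (isColimitCofanMkObjOfIsColimit F _ _ (coproductIsCoproduct fun _ : Fin n => ⊤_ D)) _ _ fun i => ?_
  obtain ⟨h⟩ := isTerminal_top F
  change F.map (Sigma.ι _ i) ≫ σ.hom.app _ = F.map (Sigma.ι _ i) ≫ 𝟙 _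
  rw [σ.hom.naturality, h.hom_ext (σ.hom.app (⊤_ D)) (𝟙 _), Category.id_comp, Category.comp_id]

lemma exists_coprod_iso (Y : D) (hY : ∀ σ : Aut F, σ.hom.app Y = 𝟙 _) :
    ∃ n : ℕ, Nonempty (Y ≅ ∐ fun _ : Fin n => ⊤_ D) := by
  classical
  have := subsingleton_top F
  have hne : Nonempty (F.obj (⊤_ D)) := by
    obtain ⟨h⟩ := isTerminal_top F
    exact ⟨h.from (FintypeCat.of PUnit.{w + 1}) PUnit.unit⟩
  obtain ⟨pt⟩ := hne
  have hlift : ∀ y : F.obj Y, ∃ f : (⊤_ D) ⟶ Y, F.map f pt = y := fun y => by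
    let g : (functorToAction F).obj (⊤_ D) ⟶ (functorToAction F).obj Y :=
      { hom := FintypeCat.homMk fun _ => y
        comm := fun σ => by
          apply ConcreteCategory.hom_ext
          intro z
          change y = σ.hom.app Y y
          rw [hY σ]; rfl }
    obtain ⟨f, hf⟩ := (functorToAction F).map_surjective g
    exact ⟨f, by rw [← functorToAction_map, hf]; rfl⟩
  choose f hf using hlift
  have : Fintype (F.obj Y) := Fintype.ofFinite _
  let n := Fintype.card (F.obj Y)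
  let e : Fin n ≃ F.obj Y := (Fintype.equivFin _).symm
  let Z := ∐ fun _ : Fin n => ⊤_ D
  let φ : Z ⟶ Y := Sigma.desc fun i => f (e i)
  have hsurj : ∀ z : F.obj Z, ∃ i, F.map (Sigma.ι (fun _ : Fin n => ⊤_ D) i) pt = z := by
    by_contra! hne
    obtain ⟨z, hz⟩ := hne
    let B := FintypeCat.of (ULift.{w} Bool)
    let c₁ : F.obj Z ⟶ B := FintypeCat.homMk fun _ => ⟨true⟩
    let c₂ : F.obj Z ⟶ B := FintypeCat.homMk fun x => ⟨decide (x ≠ z)⟩
    have h12 : c₁ = c₂ := Cofan.IsColimit.hom_ext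
      (isColimitCofanMkObjOfIsColimit F _ _ (coproductIsCoproduct fun _ : Fin n => ⊤_ D)) _ _ fun i => by
        apply ConcreteCategory.hom_ext
        intro x
        rw [Subsingleton.elim x pt]
        change (⟨true⟩ : ULift Bool) = ⟨decide (F.map (Sigma.ι _ i) pt ≠ z)⟩
        rw [decide_eq_true (hz i)]
    have h3 : (⟨true⟩ : ULift Bool) = ⟨decide (z ≠ z)⟩ := ConcreteCategory.congr_hom h12 z
    simp at h3
  have hφ : ∀ i, F.map φ (F.map (Sigma.ι (fun _ : Fin n => ⊤_ D) i) pt) = e i := fun i => by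
    rw [← ConcreteCategory.comp_apply, ← F.map_comp, Sigma.ι_desc, hf]
  have hbij : Function.Bijective (F.map φ) := by
    refine ⟨fun a b hab => ?_, fun y => ⟨_, (hφ (e.symm y)).trans (e.apply_symm_apply y)⟩⟩
    obtain ⟨i, rfl⟩ := hsurj a
    obtain ⟨j, rfl⟩ := hsurj b
    rw [hφ, hφ] at hab
    rw [e.injective hab]
  have : IsIso (F.map φ) := (ConcreteCategory.isIso_iff_bijective _).2 hbij
  have : IsIso φ := isIso_of_reflects_iso φ F
  exact ⟨n, ⟨(asIso φ).symm⟩⟩

end aux

/-- Let H : C ⥤ C' and H' : C' ⥤ C'' be exact functors between Galois categories and F'' a fibre functor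
on C'' such that F'' ∘ H' and F'' ∘ H' ∘ H are fibre functors; let h' : π_1(C'', F'') → π_1(C', F''
∘ H') and h : π_1(C', F'' ∘ H') → π_1(C, F'' ∘ H' ∘ H) be the induced homomorphisms. Then h ∘ h' is
trivial if and only if for every object X of C the object H'(H(X)) is isomorphic to a finite
coproduct of copies of the final object. -/
theorem result {C C' C'' : Type u} [Category.{v} C] [Category.{v} C'] [Category.{v} C'']
    [GaloisCategory C] [GaloisCategory C'] [GaloisCategory C'']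
    (H : C ⥤ C') [Limits.PreservesFiniteLimits H] [Limits.PreservesFiniteColimits H]
    (H' : C' ⥤ C'') [Limits.PreservesFiniteLimits H'] [Limits.PreservesFiniteColimits H']
    (F'' : C'' ⥤ FintypeCat.{w}) [FiberFunctor F''] [FiberFunctor (H' ⋙ F'')] [FiberFunctor (H ⋙ (H' ⋙ F''))] :
    (∀ σ : Aut F'', Pi1X.autWhisker H (H' ⋙ F'') (Pi1X.autWhisker H' F'' σ) = 1) ↔
      ∀ X : C, ∃ n : ℕ, Nonempty (H'.obj (H.obj X) ≅ ∐ fun _ : Fin n => ⊤_ C'') := by
  constructor
  · intro h X
    refine exists_coprod_iso F'' _ fun σ => ?_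
    exact congrArg (fun τ : Aut (H ⋙ (H' ⋙ F'')) => τ.hom.app X) (h σ)
  · intro h σ
    refine Iso.ext (NatTrans.ext (funext fun X => ?_))
    obtain ⟨n, ⟨e⟩⟩ := h X
    change σ.hom.app (H'.obj (H.obj X)) = 𝟙 _
    rw [← cancel_mono (F''.map e.hom), ← σ.hom.naturality, app_coprod_eq_id F'' σ n,
      Category.comp_id, Category.id_comp]

end Groth.Agent.S1189
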