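import Groth.Statements.S1191
import Mathlib
-- import your own Groth.Agent.* helpers here

set_option autoImplicit false
universe u
open FlatMor

namespace Groth.Agent.S1191

open scoped TensorProduct
attribute [local instance] Algebra.TensorProduct.rightAlgebra

open TensorProduct in
/-- For a finitely presented algebra S over R, a finitely presented S-module N and a prime q of S over
p, some element of S outside q maps into every associated prime of the fibre module of N over p that
is not contained in the extension of q to the fibre ring. -/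
theorem result {R S : Type u} [CommRing R] [CommRing S] [Algebra R S] [Algebra.FinitePresentation R S]
    (N : Type u) [AddCommGroup N] [Module S N] [Module R N] [IsScalarTower R S N] [Module.FinitePresentation S N]
    (p : Ideal R) [p.IsPrime] (q : Ideal S) [q.IsPrime] [q.LiesOver p] :
    ∃ g : S, g ∉ q ∧ ∀ r ∈ associatedPrimes (p.Fiber S) (FlatCA.fiberMod p S N),
      ¬ r ≤ FlatCA.fiberIdeal p q → (1 : p.ResidueField) ⊗ₜ[R] g ∈ r := by
  classical
  haveI : Algebra.FiniteType p.ResidueField (p.Fiber S) := inferInstance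
  haveI : IsNoetherianRing (p.Fiber S) := Algebra.FiniteType.isNoetherianRing p.ResidueField (p.Fiber S)
  haveI : Module.Finite (p.Fiber S) (FlatCA.fiberMod p S N) :=
    inferInstanceAs (Module.Finite (p.Fiber S) ((p.Fiber S) ⊗[S] N))
  have hfin := associatedPrimes.finite (p.Fiber S) (FlatCA.fiberMod p S N)
  have hex : ∀ r : Ideal (p.Fiber S), ¬ r ≤ FlatCA.fiberIdeal p q →
      ∃ g : S, g ∉ q ∧ (1 : p.ResidueField) ⊗ₜ[R] g ∈ r := by
    intro r hr
    obtain ⟨x, hx, hxq⟩ := SetLike.not_le_iff_exists.mp hr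
    obtain ⟨c, hc, g, hg⟩ := Ideal.Fiber.exists_smul_eq_one_tmul p x
    refine ⟨g, fun hgq => hxq ?_, hg ▸ ?_⟩
    · have hu : IsUnit (algebraMap R (p.Fiber S) c) := by
        rw [IsScalarTower.algebraMap_apply R p.ResidueField (p.Fiber S)]
        exact (isUnit_iff_ne_zero.2 fun h => hc (Ideal.algebraMap_residueField_eq_zero.mp h)).map _
      have h1 : algebraMap R (p.Fiber S) c * x ∈ FlatCA.fiberIdeal p q := by
        rw [← Algebra.smul_def, hg]
        exact Ideal.mem_map_of_mem _ hgq
      exact (Submodule.smul_mem_iff_of_isUnit (FlatCA.fiberIdeal p q) hu).mp (by rw [smul_eq_mul]; exact h1)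
    · rw [Algebra.smul_def]; exact r.mul_mem_left _ hx
  let s := hfin.toFinset.filter fun r => ¬ r ≤ FlatCA.fiberIdeal p q
  choose g hg hg' using fun r : {r // r ∈ s} => hex r.1 (Finset.mem_filter.mp r.2).2
  refine ⟨∏ r, g r, fun h => ?_, fun r hr hrq => ?_⟩
  · obtain ⟨r, -, hr⟩ := (Ideal.IsPrime.prod_mem_iff (p := q)).mp h
    exact hg r hr
  · have hrs : r ∈ s := Finset.mem_filter.mpr ⟨hfin.mem_toFinset.mpr hr, hrq⟩
    rw [← Finset.mul_prod_erase Finset.univ g (Finset.mem_univ (⟨r, hrs⟩ : {r // r ∈ s})),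
      show (1 : p.ResidueField) ⊗ₜ[R] (g ⟨r, hrs⟩ * ∏ x ∈ Finset.univ.erase ⟨r, hrs⟩, g x) =
        ((1 : p.ResidueField) ⊗ₜ[R] g ⟨r, hrs⟩) * ((1 : p.ResidueField) ⊗ₜ[R] ∏ x ∈ Finset.univ.erase ⟨r, hrs⟩, g x) by
          rw [Algebra.TensorProduct.tmul_mul_tmul, one_mul]]
    exact r.mul_mem_right _ (hg' ⟨r, hrs⟩)

end Groth.Agent.S1191
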