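import Groth.Statements.S1193
import Mathlib
-- import your own Groth.Agent.* helpers here

set_option autoImplicit false
universe u
open FlatMor

namespace Groth.Agent.S1193

open scoped TensorProduct
open IsLocalRing
attribute [local instance] Algebra.TensorProduct.rightAlgebra

lemma ass_transfer {S F X : Type u} [CommRing S] [CommRing F] [IsNoetherianRing F] [AddCommGroup X] [Module S X] [Module F X]
    [Module.Finite F X] (π : S →+* F) (hπ : Function.Surjective π) (hsmul : ∀ (s : S) (x : X), s • x = π s • x) :
    (associatedPrimes S X).Finite ∧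
      ∀ s : S, s ∈ nonZeroSMulDivisors S X ↔ ∀ p ∈ associatedPrimes S X, s ∉ p := by
  have hcol : ∀ x : X, (⊥ : Submodule S X).colon {x} = ((⊥ : Submodule F X).colon {x}).comap π := fun x => by
    ext s; simp [Submodule.mem_colon_singleton, hsmul]
  have hass : associatedPrimes S X = Ideal.comap π '' associatedPrimes F X := by
    ext p
    simp only [AssociatedPrimes.mem_iff, Set.mem_image]
    constructor
    · rintro ⟨hp, x, hx⟩
      rw [hcol, ← Ideal.comap_radical] at hx
      refine ⟨((⊥ : Submodule F X).colon {x}).radical, ⟨?_, x, rfl⟩, hx.symm⟩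
      rw [← Ideal.map_comap_of_surjective π hπ ((⊥ : Submodule F X).colon {x}).radical, ← hx]
      refine Ideal.map_isPrime_of_surjective hπ ?_
      rw [hx]
      exact Ideal.ker_le_comap π
    · rintro ⟨Q, ⟨hQ, x, rfl⟩, rfl⟩
      exact ⟨hQ.comap π, x, by rw [hcol, Ideal.comap_radical]⟩
  refine ⟨hass ▸ (associatedPrimes.finite F X).image _, fun s => ?_⟩
  rw [hass]
  simp only [Set.forall_mem_image, Ideal.mem_comap]
  have h := Set.ext_iff.mp (biUnion_associatedPrimes_eq_zero_divisors F X) (π s)
  simp only [Set.mem_iUnion, SetLike.mem_coe, exists_prop, Set.mem_setOf_eq] at h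
  constructor
  · intro hs Q hQ hmem
    obtain ⟨x, hx, hx'⟩ := h.mp ⟨Q, hQ, hmem⟩
    exact hx (hs x (by rw [hsmul]; exact hx'))
  · intro hs x hx
    by_contra hne
    obtain ⟨Q, hQ, hmem⟩ := h.mpr ⟨x, hne, by rw [← hsmul]; exact hx⟩
    exact hs hQ hmem

open IsLocalRing in
/-- Let R be a local ring, S an R-algebra whose closed fibre ring is Noetherian and N an S-module whose
closed fibre module N/𝔪N is finite. Let Σ be the set of elements of S acting injectively on N/𝔪N.
Then a prime of S is disjoint from Σ exactly when it lies inside an associated prime of N/𝔪N (the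
primes of the localization at Σ), the localization of S at Σ has finitely many maximal ideals, and
an ideal of that localization is maximal exactly when it is prime and contracts to a maximal member
of the set of associated primes of N/𝔪N. -/
theorem result {R S : Type u} [CommRing R] [IsLocalRing R] [CommRing S] [Algebra R S]
    (N : Type u) [AddCommGroup N] [Module S N] [Module R N] [IsScalarTower R S N]
    [IsNoetherianRing ((maximalIdeal R).Fiber S)]
    [Module.Finite ((maximalIdeal R).Fiber S) (FlatCA.fiberMod (maximalIdeal R) S N)] :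
    (∀ (q : Ideal S) [q.IsPrime], Disjoint (q : Set S) (FlatCA.nzdFiber R S N) ↔
        ∃ q' ∈ associatedPrimes S (FlatCA.fiberMod (maximalIdeal R) S N), q ≤ q') ∧
    {Q : Ideal (Localization (FlatCA.nzdFiber R S N)) | Q.IsMaximal}.Finite ∧
    (∀ Q : Ideal (Localization (FlatCA.nzdFiber R S N)), Q.IsMaximal ↔ (Q.IsPrime ∧
        Maximal (fun r => r ∈ associatedPrimes S (FlatCA.fiberMod (maximalIdeal R) S N))
          (Q.comap (algebraMap S (Localization (FlatCA.nzdFiber R S N)))))) := by
  classical
  set m := maximalIdeal R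
  let π : S →+* m.Fiber S := (Algebra.TensorProduct.includeRight (R := R) (A := m.ResidueField) (B := S)).toRingHom
  have hπ : Function.Surjective π := by
    intro x
    induction x using TensorProduct.induction_on with
    | zero => exact ⟨0, map_zero _⟩
    | tmul c s =>
      obtain ⟨r, rfl⟩ := Ideal.algebraMap_residueField_surjective m c
      refine ⟨r • s, ?_⟩
      show (1 : m.ResidueField) ⊗ₜ[R] (r • s) = _
      rw [← TensorProduct.smul_tmul, Algebra.smul_def, mul_one]
    | add a b ha hb =>
      obtain ⟨s, rfl⟩ := ha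
      obtain ⟨t, rfl⟩ := hb
      exact ⟨s + t, map_add _ _ _⟩
  have hsmul : ∀ (s : S) (x : FlatCA.fiberMod m S N), s • x = π s • x := by
    intro s x
    have h : ∀ y : (m.Fiber S) ⊗[S] N, s • y = (algebraMap S (m.Fiber S) s) • y := fun y => (IsScalarTower.algebraMap_smul (m.Fiber S) s y).symm
    exact h x
  obtain ⟨hfin, hnzd⟩ := ass_transfer π hπ hsmul
  have hprime : ∀ p ∈ associatedPrimes S (FlatCA.fiberMod m S N), p.IsPrime := fun p hp => hp.isPrime
  have h1 : ∀ (q : Ideal S) [q.IsPrime], Disjoint (q : Set S) (FlatCA.nzdFiber R S N) ↔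
      ∃ q' ∈ associatedPrimes S (FlatCA.fiberMod m S N), q ≤ q' := by
    intro q _
    constructor
    · intro hd
      have hsub : (q : Set S) ⊆ ⋃ p ∈ (↑hfin.toFinset : Set (Ideal S)), ((id p : Ideal S) : Set S) := by
        intro s hs
        have hn : s ∉ FlatCA.nzdFiber R S N := fun h => Set.disjoint_left.mp hd hs h
        rw [FlatCA.nzdFiber, hnzd] at hn
        push Not at hn
        obtain ⟨p, hp, hsp⟩ := hn
        exact Set.mem_biUnion (hfin.coe_toFinset.symm ▸ hp) hsp
      obtain ⟨p, hp, hle⟩ := (Ideal.subset_union_prime (f := id) (s := hfin.toFinset) (I := q) ⊥ ⊥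
        fun p hp _ _ => hprime p (hfin.mem_toFinset.mp hp)).mp hsub
      exact ⟨p, hfin.mem_toFinset.mp hp, hle⟩
    · rintro ⟨p, hp, hle⟩
      rw [Set.disjoint_left]
      intro s hs hn
      rw [SetLike.mem_coe, FlatCA.nzdFiber, hnzd] at hn
      exact hn p hp (hle hs)
  let W := FlatCA.nzdFiber R S N
  let L := Localization W
  have key : ∀ Q : Ideal L, Q.IsMaximal ↔ (Q.IsPrime ∧
      Maximal (fun r => r ∈ associatedPrimes S (FlatCA.fiberMod m S N)) (Q.comap (algebraMap S L))) := by
    intro Q
    constructor
    · intro hQ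
      refine ⟨hQ.isPrime, ?_⟩
      obtain ⟨hp, hd⟩ := (IsLocalization.isPrime_iff_isPrime_disjoint W L Q).mp hQ.isPrime
      obtain ⟨p, hp', hle⟩ := (h1 _).mp hd.symm
      haveI := hprime p hp'
      have hdp : Disjoint (W : Set S) (p : Set S) := ((h1 p).mpr ⟨p, hp', le_rfl⟩).symm
      have hPp := IsLocalization.isPrime_of_isPrime_disjoint W L p inferInstance hdp
      have hQp : Q ≤ p.map (algebraMap S L) := by
        rw [← IsLocalization.map_comap W L Q]; exact Ideal.map_mono hle
      have heq := hQ.eq_of_le hPp.ne_top hQp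
      have hcp : Q.comap (algebraMap S L) = p := by
        rw [heq]; exact IsLocalization.comap_map_of_isPrime_disjoint W L inferInstance hdp
      refine ⟨hcp ▸ hp', fun r hr hler => ?_⟩
      haveI := hprime r hr
      have hdr : Disjoint (W : Set S) (r : Set S) := ((h1 r).mpr ⟨r, hr, le_rfl⟩).symm
      have hPr := IsLocalization.isPrime_of_isPrime_disjoint W L r inferInstance hdr
      have hQr : Q ≤ r.map (algebraMap S L) := by
        rw [← IsLocalization.map_comap W L Q]; exact Ideal.map_mono hler
      rw [hQ.eq_of_le hPr.ne_top hQr]; exact (IsLocalization.comap_map_of_isPrime_disjoint W L inferInstance hdr).ge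
    · rintro ⟨hQ, hmax⟩
      obtain ⟨M, hM, hQM⟩ := Q.exists_le_maximal hQ.ne_top
      obtain ⟨hp, hd⟩ := (IsLocalization.isPrime_iff_isPrime_disjoint W L M).mp hM.isPrime
      obtain ⟨p, hp', hle⟩ := (h1 _).mp hd.symm
      have h2 : p ≤ Q.comap (algebraMap S L) := hmax.2 hp' ((Ideal.comap_mono hQM).trans hle)
      have : M ≤ Q := by
        rw [← IsLocalization.map_comap W L M, ← IsLocalization.map_comap W L Q]
        exact Ideal.map_mono (hle.trans h2)
      rwa [le_antisymm hQM this]
  refine ⟨h1, ?_, key⟩
  refine Set.Finite.of_finite_image (f := Ideal.comap (algebraMap S L)) (hfin.subset ?_) ?_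
  · rintro _ ⟨Q, hQ, rfl⟩
    exact ((key Q).mp hQ).2.1
  · intro Q _ Q' _ h
    have h' : Q.under S = Q'.under S := h
    rw [← IsLocalization.map_comap W L Q, ← IsLocalization.map_comap W L Q', h']

end Groth.Agent.S1193
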