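import Groth.Statements.S1194
import Groth.Agent.FlatDescent.LocalFP.FiberMax

set_option autoImplicit false
universe u
open FlatMor

namespace Groth.Agent.S1194

open IsLocalRing in
/-- Let R → S be a local homomorphism of local rings which is essentially of finite presentation, and N
a finitely presented S-module flat over R. Then multiplication by any element of S acting
injectively on N/𝔪_R N is a universally injective map of R-modules on N, and the localization map
from N to its localization at all such elements is universally injective over R. -/
theorem result {R S : Type u} [CommRing R] [IsLocalRing R] [CommRing S] [IsLocalRing S] [Algebra R S]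
    [IsLocalHom (algebraMap R S)] (hS : FlatCA.EssFinitePresentation R S)
    (N : Type u) [AddCommGroup N] [Module S N] [Module R N] [IsScalarTower R S N] [Module.FinitePresentation S N] [Module.Flat R N] :
    (∀ s ∈ FlatCA.nzdFiber R S N, FlatCA.UnivInj R ((LinearMap.lsmul S N s).restrictScalars R)) ∧
    FlatCA.UnivInj R ((LocalizedModule.mkLinearMap (FlatCA.nzdFiber R S N) N).restrictScalars R) := by
  refine ⟨fun s hs Q _ _ => Groth.FlatDescent.LocalFP.univInj_regular hS hs Q, fun Q _ _ => ?_⟩
  refine (LinearMap.lTensor_inj_iff_rTensor_inj _ _).2 ((injective_iff_map_eq_zero _).2 fun z hz => ?_)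
  let f := TensorProduct.AlgebraTensorModule.rTensor R Q (LocalizedModule.mkLinearMap (FlatCA.nzdFiber R S N) N)
  haveI : IsLocalizedModule (FlatCA.nzdFiber R S N) f := inferInstance
  obtain ⟨s, hs⟩ := (IsLocalizedModule.eq_zero_iff (FlatCA.nzdFiber R S N) f).1 hz
  exact Groth.FlatDescent.LocalFP.eq_zero_of_regular_smul hS s.2 z hs

end Groth.Agent.S1194
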