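import Groth.Statements.S1195
import Groth.Agent.FlatDescent.LocalFP.Cover
import Groth.Agent.FlatDescent.UnivInjFib.Main

set_option autoImplicit false
universe u
open FlatMor

namespace Groth.Agent.S1195

open TensorProduct in
/-- Let S be a finitely presented R-algebra, N a finitely presented S-module flat over R, and S' a flat
S-algebra such that every prime q of S (over p in R) whose extension to the fibre ring over p is an
associated prime of the fibre module of N is the contraction of a prime of S'. Then the base change
map N → S' ⊗_S N is universally injective as a map of R-modules. -/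
theorem result {R S S' : Type u} [CommRing R] [CommRing S] [CommRing S'] [Algebra R S] [Algebra S S'] [Algebra R S'] [IsScalarTower R S S']
    [Algebra.FinitePresentation R S] [Module.Flat S S']
    (N : Type u) [AddCommGroup N] [Module S N] [Module R N] [IsScalarTower R S N] [Module.FinitePresentation S N] [Module.Flat R N]
    (h : ∀ (p : Ideal R) (q : Ideal S) [p.IsPrime] [q.IsPrime] [q.LiesOver p],
      FlatCA.fiberIdeal p q ∈ associatedPrimes (p.Fiber S) (FlatCA.fiberMod p S N) →
      ∃ q' : Ideal S', q'.IsPrime ∧ q'.comap (algebraMap S S') = q) :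
    FlatCA.UnivInj R ((TensorProduct.mk S S' N 1).restrictScalars R) := by
  intro Q _ _
  refine (LinearMap.lTensor_inj_iff_rTensor_inj _ _).2 ?_
  haveI : IsScalarTower R S (S' ⊗[S] N) := inferInstance
  haveI : Module.Flat R (S' ⊗[S] N) := Module.Flat.iff_lTensor_preserves_injective_linearMap.2 fun X Y _ _ _ _ f hf => by
    let g : N ⊗[R] X →ₗ[S] N ⊗[R] Y := AlgebraTensorModule.lTensor S N f
    have hg : Function.Injective g := Module.Flat.lTensor_preserves_injective_linearMap f hf
    have hg' : Function.Injective (g.lTensor S') := Module.Flat.lTensor_preserves_injective_linearMap g hg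
    have hc : ∀ w, AlgebraTensorModule.assoc R S S S' N Y (f.lTensor (S' ⊗[S] N) w) =
        g.lTensor S' (AlgebraTensorModule.assoc R S S S' N X w) := fun w => by
      induction w with
      | zero => simp
      | add a b ha hb => simp only [map_add, ha, hb]
      | tmul a b =>
        induction a with
        | zero => simp
        | add a c ha hc => simp only [add_tmul, map_add, ha, hc]
        | tmul a n => rfl
    intro a b hab
    exact (AlgebraTensorModule.assoc R S S S' N X).injective (hg' (by rw [← hc, ← hc, hab]))
  haveI : IsLocalization (⊥ : Submonoid S) S := IsLocalization.self fun x hx => by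
    rw [Submonoid.mem_bot] at hx
    subst hx
    exact isUnit_one
  refine Groth.FlatDescent.UnivInjFib.injective_rTensor (A := R) (B := S) (⊥ : Submonoid S) (BT := S) N (S' ⊗[S] N) _
    (fun p _ => (injective_iff_map_eq_zero _).2 fun z hz => ?_) Q
  letI : Algebra S (p.Fiber S) := Algebra.TensorProduct.rightAlgebra
  let C := p.Fiber S
  haveI : IsNoetherianRing C := Algebra.FiniteType.isNoetherianRing p.ResidueField _
  have h1 : (1 : S') ⊗ₜ[S] z = 0 := by
    have h2 : ∀ z : N ⊗[R] p.ResidueField, AlgebraTensorModule.assoc R S S S' N p.ResidueField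
        ((((TensorProduct.mk S S' N) 1).restrictScalars R).rTensor p.ResidueField z) = (1 : S') ⊗ₜ[S] z := fun z => by
      induction z with
      | zero => simp
      | add a b ha hb => simp only [map_add, tmul_add, ha, hb]
      | tmul a b => rfl
    rw [← h2, hz, map_zero]
  let eV : N ⊗[R] p.ResidueField ≃ₗ[S] FlatCA.fiberMod p S N :=
    (AlgebraTensorModule.cancelBaseChange R S S N p.ResidueField).symm ≪≫ₗ
      TensorProduct.congr (LinearEquiv.refl S N) (Algebra.TensorProduct.commRight R S p.ResidueField).toLinearEquiv ≪≫ₗ
      TensorProduct.comm S N (p.Fiber S)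
  by_contra hne
  have hne' : eV z ≠ 0 := fun h0 => hne (eV.map_eq_zero_iff.1 h0)
  obtain ⟨P, hP, hle⟩ := exists_le_isAssociatedPrime_of_isNoetherianRing C (eV z) hne'
  haveI : P.IsPrime := hP.isPrime
  obtain ⟨hqp, hmap⟩ := Groth.FlatDescent.LocalFP.exists_comap_of_fiber p P
  haveI : Ideal.LiesOver (P.comap (Algebra.TensorProduct.includeRight (R := R) (A := p.ResidueField) (B := S)).toRingHom) p := ⟨hqp.symm⟩
  obtain ⟨q', hq', hq'q⟩ := h p _ (by rw [hmap]; exact hP)
  haveI := hq'
  obtain ⟨s, hs, hsz⟩ := Groth.FlatDescent.LocalFP.exists_smul_eq_zero_of_flat z h1 q'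
  rw [hq'q] at hs
  refine hs (hle (Submodule.mem_colon_singleton.2 ?_))
  rw [Submodule.mem_bot]
  show algebraMap S C s • eV z = 0
  haveI : IsScalarTower S C (FlatCA.fiberMod p S N) := inferInstanceAs (IsScalarTower S C (C ⊗[S] N))
  rw [algebraMap_smul, ← map_smul, hsz, map_zero]

end Groth.Agent.S1195
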