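import Groth.Statements.S1196
import Groth.Agent.FlatDescent.LocalFP.FiberMax

set_option autoImplicit false
universe u
open FlatMor

namespace Groth.Agent.S1196

open TensorProduct IsLocalRing in
/-- Let R → S be a local homomorphism of local rings, essentially of finite presentation, N a finitely
presented S-module flat over R, and S' a flat S-algebra such that every prime of S which is an
associated prime of N/𝔪_R N is the contraction of a prime of S'. Then N → S' ⊗_S N is universally
injective as a map of R-modules. -/
theorem result {R S S' : Type u} [CommRing R] [IsLocalRing R] [CommRing S] [IsLocalRing S] [CommRing S'] [Algebra R S] [IsLocalHom (algebraMap R S)] [Algebra S S'] [Algebra R S'] [IsScalarTower R S S']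
    (hS : FlatCA.EssFinitePresentation R S) [Module.Flat S S']
    (N : Type u) [AddCommGroup N] [Module S N] [Module R N] [IsScalarTower R S N] [Module.FinitePresentation S N] [Module.Flat R N]
    (h : ∀ q ∈ associatedPrimes S (FlatCA.fiberMod (maximalIdeal R) S N),
      ∃ q' : Ideal S', q'.IsPrime ∧ q'.comap (algebraMap S S') = q) :
    FlatCA.UnivInj R ((TensorProduct.mk S S' N 1).restrictScalars R) := by
  classical
  intro Q _ _
  refine (LinearMap.lTensor_inj_iff_rTensor_inj _ _).2 ((injective_iff_map_eq_zero _).2 fun z hz => ?_)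
  have h1 : (1 : S') ⊗ₜ[S] z = 0 := by
    have h2 : ∀ z : N ⊗[R] Q, AlgebraTensorModule.assoc R S S S' N Q
        ((((TensorProduct.mk S S' N) 1).restrictScalars R).rTensor Q z) = (1 : S') ⊗ₜ[S] z := fun z => by
      induction z with
      | zero => simp
      | add a b ha hb => simp only [map_add, tmul_add, ha, hb]
      | tmul a b => rfl
    rw [← h2, hz, map_zero]
  let J : Ideal S := LinearMap.ker (LinearMap.toSpanSingleton S (N ⊗[R] Q) z)
  letI : Algebra S ((maximalIdeal R).Fiber S) := Algebra.TensorProduct.rightAlgebra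
  let C := (maximalIdeal R).Fiber S
  let F := FlatCA.fiberMod (maximalIdeal R) S N
  haveI : IsScalarTower S C F := inferInstanceAs (IsScalarTower S C (C ⊗[S] N))
  haveI : Module.Finite C F := inferInstanceAs (Module.Finite C (C ⊗[S] N))
  haveI : Algebra.EssFiniteType R S := by
    obtain ⟨S₀, _, _, _, _, T, hfp, hloc⟩ := hS
    haveI : Algebra.EssFiniteType S₀ S := Algebra.EssFiniteType.of_isLocalization S T
    exact Algebra.EssFiniteType.comp R S₀ S
  haveI : IsNoetherianRing C := Algebra.EssFiniteType.isNoetherianRing (maximalIdeal R).ResidueField _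
  by_contra hne
  have hsub : (J : Set S) ⊆ ⋃ P ∈ associatedPrimes C F, (P.comap (algebraMap S C) : Set S) := by
    intro j hj
    have hjn : j ∉ FlatCA.nzdFiber R S N := fun hjm => hne (Groth.FlatDescent.LocalFP.eq_zero_of_regular_smul hS hjm z hj)
    obtain ⟨x, hx, hx0⟩ : ∃ x : F, j • x = 0 ∧ x ≠ 0 := by
      by_contra hno
      push Not at hno
      exact hjn fun x hx => hno x hx
    obtain ⟨P, hP, hle⟩ := exists_le_isAssociatedPrime_of_isNoetherianRing C x hx0
    refine Set.mem_biUnion (show P ∈ associatedPrimes C F from hP) (hle (Submodule.mem_colon_singleton.2 ?_))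
    rw [Submodule.mem_bot, algebraMap_smul]
    exact hx
  obtain ⟨P, hP, hJP⟩ := (Ideal.subset_union_prime_finite (associatedPrimes.finite C F)
    (f := fun P => P.comap (algebraMap S C)) ⊥ ⊥ fun P hP _ _ => by
      haveI := IsAssociatedPrime.isPrime hP
      exact Ideal.IsPrime.comap _).1 hsub
  have hPass : P.comap (algebraMap S C) ∈ associatedPrimes S F := by
    haveI := IsAssociatedPrime.isPrime hP
    obtain ⟨-, x, hx⟩ := hP
    refine ⟨inferInstance, x, ?_⟩
    rw [hx, Ideal.comap_radical]
    congr 1
  obtain ⟨q', hq', hq'q⟩ := h _ hPass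
  haveI := hq'
  obtain ⟨s, hs, hsz⟩ := Groth.FlatDescent.LocalFP.exists_smul_eq_zero_of_flat z h1 q'
  rw [hq'q] at hs
  exact hs (hJP hsz)

end Groth.Agent.S1196
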