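import Groth.Statements.S6347
import Groth.Agent.MLMod.Smallest
import Mathlib.RingTheory.Noetherian.Basic

set_option autoImplicit false
universe u
open CAlg

namespace Groth.Agent.S6347

/-- Over a Noetherian ring R, the product module R^A (functions from any set A to R) is flat and
Mittag-Leffler. -/
theorem result (R : Type u) [CommRing R] [IsNoetherianRing R]
    (A : Type u) : Module.Flat R (A → R) ∧ CAlg.IsMittagLeffler R (A → R) := by
  have hflat : Module.Flat R (A → R) := by
    rw [Module.Flat.iff_rTensor_injective]
    intro I hI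
    haveI : Module.FinitePresentation R I := by
      haveI : Module.Finite R I := Module.Finite.iff_fg.2 hI
      exact Module.finitePresentation_of_finite R I
    rw [injective_iff_map_eq_zero]
    intro x hx
    refine Groth.MLMod.ml_eq_zero (Groth.MLMod.ml_of_finitePresentation (M := I)) x fun a => ?_
    apply Module.Flat.rTensor_preserves_injective_linearMap (M := R) I.subtype Subtype.val_injective
    rw [← Groth.MLMod.lTensor_rTensor, hx, map_zero, map_zero]
  refine ⟨hflat, Groth.MLMod.ml_of_smallest fun n x => ?_⟩
  let c : A → (Fin n → R) := fun a => TensorProduct.rid R _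
    ((LinearMap.proj a : (A → R) →ₗ[R] R).lTensor (Fin n → R) x)
  let F' := Submodule.span R (Set.range c)
  haveI : Module.Finite R F' := Module.Finite.iff_fg.2 (IsNoetherian.noetherian F')
  obtain ⟨y, hy⟩ := Groth.MLMod.exists_preimage_pi (R := R) (M := F') (Q := fun _ : A => R)
    fun a => (⟨c a, Submodule.subset_span ⟨a, rfl⟩⟩ : F') ⊗ₜ[R] 1
  refine ⟨F', ⟨y, ?_⟩, fun F'' hF'' => Submodule.span_le.2 ?_⟩
  · rw [← sub_eq_zero]
    refine Groth.MLMod.ml_eq_zero (Groth.MLMod.ml_of_projective (M := Fin n → R)) _ fun a => ?_
    rw [map_sub, Groth.MLMod.lTensor_rTensor, hy a, sub_eq_zero]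
    apply (TensorProduct.rid R (Fin n → R)).injective
    simp [c]
  · rintro _ ⟨a, rfl⟩
    obtain ⟨z, rfl⟩ := hF''
    have : TensorProduct.rid R _ (F''.subtype.rTensor R
        ((LinearMap.proj a : (A → R) →ₗ[R] R).lTensor F'' z)) ∈ F'' := by
      generalize (LinearMap.proj a : (A → R) →ₗ[R] R).lTensor F'' z = w
      induction w with
      | zero => simp
      | tmul v r => simp [F''.smul_mem]
      | add v w hv hw => simpa only [map_add] using F''.add_mem hv hw
    rw [← Groth.MLMod.lTensor_rTensor] at this
    exact this

end Groth.Agent.S6347
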