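import Groth.Statements.S1198
import Groth.Agent.MLMod.CompletionSplit
import Groth.Agent.S1197

set_option autoImplicit false
universe u
open FlatMor

namespace Groth.Agent.S1198

/-- Let R be a Noetherian ring complete with respect to an ideal I and M a flat R-module whose reduction
M/IM is projective over R/I. Then M's I-adic completion is a flat and Mittag-Leffler R-module. -/
theorem result (R : Type u) [CommRing R] [IsNoetherianRing R] (I : Ideal R) [IsAdicComplete I R]
    (M : Type u) [AddCommGroup M] [Module R M] [Module.Flat R M]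
    [Module.Projective (R ⧸ I) (M ⧸ (I • ⊤ : Submodule R M))] :
    Module.Flat R (AdicCompletion I M) ∧ CAlg.IsMittagLeffler R (AdicCompletion I M) := by
  let p : (M →₀ R) →ₗ[R] M := Finsupp.linearCombination R id
  have hp : Function.Surjective p := Finsupp.linearCombination_id_surjective R M
  let qb : ((M →₀ R) ⧸ (I • ⊤ : Submodule R (M →₀ R))) →ₗ[R ⧸ I] M ⧸ (I • ⊤ : Submodule R M) :=
    LinearMap.extendScalarsOfSurjective Ideal.Quotient.mk_surjective
      (Submodule.mapQ _ _ p (Groth.MLMod.map_smul_top_le I p))
  have hqb : Function.Surjective qb := by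
    intro z
    obtain ⟨w, rfl⟩ := Submodule.Quotient.mk_surjective _ z
    obtain ⟨v, rfl⟩ := hp w
    exact ⟨Submodule.Quotient.mk v, rfl⟩
  obtain ⟨σ, hσ⟩ := Module.projective_lifting_property qb LinearMap.id hqb
  obtain ⟨S, hS⟩ := Groth.MLMod.exists_completion_section I p hp
    (σ.restrictScalars R ∘ₗ Submodule.mkQ _) fun m => LinearMap.congr_fun hσ (Submodule.Quotient.mk m)
  obtain ⟨h1, h2⟩ := Groth.Agent.S1197.result R I M
  exact ⟨Module.Flat.of_retract S ((AdicCompletion.map I p).restrictScalars R) hS,
    Groth.MLMod.ml_of_ui (Groth.MLMod.ui_of_leftInverse _ hS) h2⟩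

end Groth.Agent.S1198
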