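import Groth.Statements.S1200
import Groth.Agent.FlatDescent.LocalFP.Completion
import Groth.Agent.S2056

set_option autoImplicit false
universe u
open FlatMor

namespace Groth.Agent.S1200

/-- Let R → S be a map of Noetherian rings, I an ideal of R and N a finite S-module which is flat over
R. Assume that for every prime q of S, over p in R, whose extension to the fibre ring over p is an
associated prime of the fibre module of N, the ideal IS + q is proper. Then the canonical map from N
to its I-adic completion is universally injective as a map of R-modules. -/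
theorem result {R S : Type u} [CommRing R] [CommRing S] [Algebra R S] [IsNoetherianRing R] [IsNoetherianRing S] (I : Ideal R)
    (N : Type u) [AddCommGroup N] [Module S N] [Module R N] [IsScalarTower R S N] [Module.Finite S N] [Module.Flat R N]
    (h : ∀ (p : Ideal R) (q : Ideal S) [p.IsPrime] [q.IsPrime] [q.LiesOver p],
      FlatCA.fiberIdeal p q ∈ associatedPrimes (p.Fiber S) (FlatCA.fiberMod p S N) → I.map (algebraMap R S) ⊔ q ≠ ⊤) :
    FlatCA.UnivInj R (AdicCompletion.of I N) := by
  intro Q _ _
  refine (LinearMap.lTensor_inj_iff_rTensor_inj _ _).2 ?_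
  refine (Groth.Agent.S2056.result _).2 (fun Q _ _ hQ => (injective_iff_map_eq_zero _).2 fun z hz => ?_) Q
  obtain ⟨r, hr, hrz⟩ := Groth.FlatDescent.LocalFP.exists_smul_eq_self_of_completion (S := S) I z hz
  refine Groth.FlatDescent.LocalFP.eq_zero_of_smul_of_fibres (1 - r) (fun p q _ _ _ hpq hc => ?_) Q z
    (by rw [sub_smul, one_smul, hrz, sub_self])
  refine h p q hpq ((Ideal.eq_top_iff_one _).2 ?_)
  have := Submodule.add_mem_sup hr hc
  rwa [add_sub_cancel] at this

end Groth.Agent.S1200
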