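import Mathlib
import Groth.Statements.S12056
-- import your own Groth.Agent.* helpers here

set_option autoImplicit false
open Red

namespace Groth.Agent.S12056

/-- In formal-power-series form, let R be a commutative ring and F ∈ R⟦X⟧ with constant term 1 whose
linear coefficient a is a unit of R. Suppose that in R⟦X₀, X₁⟧ one has F(X₀ + X₁ · F(X₀)) = F(X₀) ·
F(X₁) (the functional equation F(x + y F(x)) = F(x) F(y)). Then F = 1 + a X. (The published
statement concerns a morphism to the multiplicative group from an open neighbourhood of the zero
section in the additive group over a base scheme, the identity holding on an open neighbourhood of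
the origin of the plane on which all terms are defined, with a the derivative at 0; this row states
it for formal power series over a ring.) -/
theorem result (R : Type) [CommRing R] (F : PowerSeries R)
    (h0 : PowerSeries.constantCoeff F = 1) (ha : IsUnit (PowerSeries.coeff 1 F))
    (hFE : PowerSeries.subst
        (MvPowerSeries.X (0 : Fin 2) + MvPowerSeries.X 1 * PowerSeries.subst (MvPowerSeries.X (0 : Fin 2)) F :
          MvPowerSeries (Fin 2) R) F =
      PowerSeries.subst (MvPowerSeries.X (0 : Fin 2)) F * PowerSeries.subst (MvPowerSeries.X (1 : Fin 2)) F) :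
    F = 1 + PowerSeries.C (PowerSeries.coeff 1 F) * PowerSeries.X := by
  classical
  open PowerSeries in
  set a := coeff 1 F with hadef
  let x : MvPowerSeries (Fin 2) R := MvPowerSeries.X 0
  let ι : PowerSeries R → MvPowerSeries (Fin 2) R := fun G => subst x G
  have hx : HasSubst x := HasSubst.X 0
  have hc0 : ∀ (t : Fin 2) (G : PowerSeries R) (m : Fin 2 →₀ ℕ), MvPowerSeries.coeff m (subst (MvPowerSeries.X t : MvPowerSeries (Fin 2) R) G) =
      if m = Finsupp.single t (m t) then coeff (m t) G else 0 := by
    intro t G m
    rw [coeff_subst (HasSubst.X t), finsum_eq_single _ (m t)]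
    · simp [MvPowerSeries.coeff_X_pow]
    · intro d hd
      rw [MvPowerSeries.coeff_X_pow, if_neg, smul_zero]
      rintro h; exact hd (by rw [h]; simp)
  let A : MvPowerSeries (Fin 2) R := x + MvPowerSeries.X 1 * ι F
  have hA : HasSubst A := HasSubst.of_constantCoeff_zero (by simp [A, x])
  let e : ℕ → ℕ → (Fin 2 →₀ ℕ) := fun i j => Finsupp.single 0 i + Finsupp.single 1 j
  have hcoef : ∀ i j d, MvPowerSeries.coeff (e i j) (A ^ d) = if j ≤ d then (d.choose j : R) * coeff i (X ^ (d - j) * F ^ j) else 0 := by
    intro i j d
    simp only [A, add_comm x]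
    rw [add_pow, map_sum]
    have hterm : ∀ l, MvPowerSeries.coeff (e i j) ((MvPowerSeries.X 1 * ι F) ^ l * x ^ (d - l) * (d.choose l : MvPowerSeries (Fin 2) R)) =
        if l = j then (d.choose j : R) * coeff i (X ^ (d - j) * F ^ j) else 0 := by
      intro l
      have e1 : (MvPowerSeries.X 1 * ι F) ^ l * x ^ (d - l) * (d.choose l : MvPowerSeries (Fin 2) R) =
          MvPowerSeries.C (d.choose l : R) * (MvPowerSeries.monomial (Finsupp.single 1 l) (1 : R) * ι (X ^ (d - l) * F ^ l)) := by
        simp only [ι, ← MvPowerSeries.X_pow_eq, map_natCast, ← coe_substAlgHom hx, map_mul, map_pow]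
        rw [coe_substAlgHom hx, subst_X hx]
        ring
      rw [e1, MvPowerSeries.coeff_C_mul, MvPowerSeries.coeff_monomial_mul]
      split_ifs with h1 h2 h2
      · subst h2
        rw [one_mul, hc0, if_pos (by ext t; fin_cases t <;> simp [e])]
        simp [e]
      · rw [one_mul, hc0, if_neg, mul_zero]
        intro h
        have := DFunLike.congr_fun h 1
        have h1' := h1 1
        simp [e] at this h1'
        omega
      · exfalso; apply h1; subst h2; intro t; fin_cases t <;> simp [e]
      · rw [mul_zero]
    simp only [hterm, Finset.sum_ite_eq', Finset.mem_range]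
    split_ifs <;> first | rfl | omega
  have hmain : ∀ i j, ∑ d ∈ Finset.range (i + j + 1), (if j ≤ d then coeff d F * ((d.choose j : R) * coeff i (X ^ (d - j) * F ^ j)) else 0) = coeff i F * coeff j F := by
    intro i j
    have h := congrArg (MvPowerSeries.coeff (e i j)) hFE
    rw [coeff_subst hA, MvPowerSeries.coeff_mul, finsum_eq_sum_of_support_subset _ (s := Finset.range (i + j + 1))] at h
    · rw [Finset.sum_eq_single (Finsupp.single (0 : Fin 2) i, Finsupp.single (1 : Fin 2) j)] at h
      · rw [hc0, hc0, if_pos (by simp), if_pos (by simp), Finsupp.single_eq_same, Finsupp.single_eq_same] at h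
        rw [← h]
        refine Finset.sum_congr rfl fun d _ => ?_
        rw [hcoef]; split_ifs <;> simp
      · rintro ⟨m, m'⟩ hm hne
        rw [Finset.HasAntidiagonal.mem_antidiagonal] at hm
        rw [hc0, hc0]
        split_ifs with h1 h2
        · exfalso
          apply hne
          have a0 := DFunLike.congr_fun hm 0
          have a1 := DFunLike.congr_fun hm 1
          simp only at h1 h2
          have b0 : m' 0 = 0 := by rw [h2]; simp
          have b1 : m 1 = 0 := by rw [h1]; simp
          simp [e, b0, b1] at a0 a1
          exact Prod.ext (h1.trans (by rw [a0])) (h2.trans (by rw [a1]))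
        all_goals simp
      · intro h'
        refine absurd ?_ h'
        rw [Finset.HasAntidiagonal.mem_antidiagonal]
    · intro d hd
      rw [Function.mem_support, hcoef] at hd
      rw [Finset.coe_range, Set.mem_Iio]
      by_contra hlt
      rw [if_pos (by omega), coeff_X_pow_mul', if_neg (by omega)] at hd
      simp at hd
  have hF0 : coeff 0 F = 1 := by rw [coeff_zero_eq_constantCoeff_apply, h0]
  have hn : ∀ m, 1 ≤ m → ((m + 1 : ℕ) : R) * coeff (m + 1) F = 0 := by
    intro m
    induction m using Nat.strong_induction_on with
    | _ m ih =>
      intro hm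
      have h := hmain m 1
      rw [Finset.sum_range_succ, Finset.sum_eq_single 1] at h
      · simp only [Nat.choose_one_right, pow_one, Nat.sub_self, pow_zero, one_mul, le_refl, if_true, Nat.cast_one] at h
        rw [if_pos (by omega), show m + 1 - 1 = m by omega, coeff_X_pow_mul', if_pos le_rfl, Nat.sub_self, hF0] at h
        linear_combination h
      · intro d hd hd1
        rw [Finset.mem_range] at hd
        split_ifs with hd'
        · have := ih (d - 1) (by omega) (by omega)
          rw [show d - 1 + 1 = d by omega] at this
          rw [Nat.choose_one_right, ← mul_assoc, mul_comm (coeff d F), this, zero_mul]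
        · rfl
      · intro h'; exfalso; simp at h'; omega
  have hzero : ∀ n, 2 ≤ n → coeff n F = 0 := by
    intro n hn2
    have h := hmain 1 n
    rw [show 1 + n + 1 = n + 2 by omega, Finset.sum_range_succ, Finset.sum_range_succ, Finset.sum_eq_zero (fun d hd => if_neg (by simp at hd; omega))] at h
    have a1 : ((n : ℕ) : R) * coeff n F = 0 := by
      have := hn (n - 1) (by omega)
      rwa [show n - 1 + 1 = n by omega] at this
    have a2 := hn n (by omega)
    simp only [le_refl, if_true, Nat.le_succ, Nat.choose_self, Nat.choose_succ_self_right, Nat.sub_self, pow_zero, one_mul, Nat.cast_one,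
      Nat.add_sub_cancel_left, coeff_one_pow, h0, one_pow, mul_one, pow_one, coeff_succ_X_mul, coeff_zero_eq_constantCoeff_apply, map_pow, zero_add] at h
    apply ha.mul_left_cancel
    rw [mul_zero]
    linear_combination (-1 : R) * h + a * a1 + a2
  ext n
  rcases n with _ | _ | n
  · simp [h0]
  · simp [hadef]
  · rw [hzero (n + 2) (by omega)]
    simp [coeff_one, coeff_X, coeff_C_mul]

end Groth.Agent.S12056
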