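import Groth.Statements.S12057
import Groth.Agent.CocycleMod.Basic
import Groth.Agent.InvBasic.OfBasis
import Groth.Agent.InvPow.PullBasisLocal
-- import your own Groth.Agent.* helpers here

set_option autoImplicit false
universe u
open CategoryTheory CategoryTheory.Limits AlgebraicGeometry
open FGA

namespace Groth.Agent.S12057

open AlgebraicGeometry CategoryTheory TopologicalSpace Opposite Groth.Agent.InvBasic in
/-- A trivialisation on an open gives a basis there. -/
theorem exists_isBasis_of_iso {X : Scheme.{u}} (L : X.Modules) (U : X.Opens)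
    (e : L.restrict U.ι ≅ Coh.structureModule (U : Scheme.{u})) :
    ∃ ℓ : Γ(L, U.ι ''ᵁ ⊤), IsBasis L ℓ := by
  refine ⟨e.inv.app ⊤ (1 : Γ((U : Scheme), ⊤)), fun W hW ↦ ?_⟩
  obtain ⟨W', rfl⟩ : ∃ W' : (U : Scheme).Opens, U.ι ''ᵁ W' = W := ⟨U.ι ⁻¹ᵁ W, by
    rw [Scheme.Hom.image_preimage_eq_opensRange_inf, Scheme.Opens.opensRange_ι, inf_eq_right]
    exact hW.trans (U.ι_image_top).le⟩
  have key : ∀ r : Γ((U : Scheme), W'),
      (show Γ(X, U.ι ''ᵁ W') from r) • (L.presheaf.map (homOfLE hW).op (e.inv.app ⊤ (1 : Γ((U : Scheme), ⊤))) :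
        Γ(L, U.ι ''ᵁ W')) = e.inv.app W' r := by
    intro r
    have h1 : L.presheaf.map (homOfLE hW).op (e.inv.app ⊤ (1 : Γ((U : Scheme), ⊤))) =
        e.inv.app W' (1 : Γ((U : Scheme), W')) := by
      refine Eq.trans ?_ (congrArg _ (map_one ((U : Scheme).presheaf.map (homOfLE (le_top : W' ≤ ⊤)).op).hom))
      exact (Groth.Agent.QCohLib.app_map e.inv (le_top : W' ≤ ⊤) (1 : Γ((U : Scheme), ⊤))).symm
    rw [h1]
    refine Eq.trans ?_ (congrArg (e.inv.app W') (mul_one r))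
    refine Eq.trans ?_ (Scheme.Modules.Hom.app_smul e.inv r (1 : Γ((U : Scheme), W'))).symm
    have hr : (U.ι.appIso W').inv r = (show Γ(X, U.ι ''ᵁ W') from r) := by
      rw [Scheme.Opens.ι_appIso]; rfl
    refine Eq.trans (congrArg (fun t : Γ(X, U.ι ''ᵁ W') ↦ t •
      (show Γ(L, U.ι ''ᵁ W') from e.inv.app W' (1 : Γ((U : Scheme), W')))) hr).symm ?_
    rfl
  have hbij : Function.Bijective (e.inv.app W') := by
    refine ⟨Function.LeftInverse.injective (g := e.hom.app W') fun r ↦ ?_,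
      Function.RightInverse.surjective (g := e.hom.app W') fun r ↦ ?_⟩
    · exact DFunLike.congr_fun (congrArg (fun φ ↦ (Scheme.Modules.Hom.app φ W').hom) e.inv_hom_id) r
    · exact DFunLike.congr_fun (congrArg (fun φ ↦ (Scheme.Modules.Hom.app φ W').hom) e.hom_inv_id) r
  rw [show (fun r : Γ(X, U.ι ''ᵁ W') ↦ r • (L.presheaf.map (homOfLE hW).op
    (e.inv.app ⊤ (1 : Γ((U : Scheme), ⊤))) : Γ(L, U.ι ''ᵁ W'))) = fun r ↦ e.inv.app W' r from funext key]
  exact hbij

/-- Let f : X ⟶ S be a morphism of schemes such that for every open U of S the induced map from sections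
of the structure sheaf of S over U to sections of the structure sheaf of X over the inverse image of
U is bijective. Let L be an invertible module on X which is trivial locally over S: every point of S
has an open neighbourhood U such that the restriction of L to the inverse image of U is isomorphic
to the structure sheaf. Then L is isomorphic to the pullback along f of an invertible module on S.
(The relative Picard group here is the group of global sections of the first higher direct image of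
the sheaf of units, so its elements vanishing are exactly the classes trivial locally over the
base.) -/
theorem result {X S : Scheme.{u}} (f : X ⟶ S)
    (hf : ∀ U : S.Opens, Function.Bijective (f.app U)) (L : X.Modules) (hL : PicF.IsInvertible L)
    (hloc : ∀ s : S, ∃ U : S.Opens, s ∈ U ∧
      Nonempty ((Scheme.Modules.pullback (f ⁻¹ᵁ U).ι).obj L ≅ Coh.structureModule (f ⁻¹ᵁ U))) :
    ∃ N : S.Modules, PicF.IsInvertible N ∧ Nonempty (L ≅ (Scheme.Modules.pullback f).obj N) := by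
  choose U hsU hU using hloc
  have hcov : ∀ s : S, ∃ i, s ∈ U i := fun s => ⟨s, hsU s⟩
  have hl : ∀ i, ∃ ℓ : Γ(L, f ⁻¹ᵁ U i), Groth.Agent.InvBasic.IsBasis L ℓ := by
    intro i
    obtain ⟨e⟩ := hU i
    obtain ⟨ℓ, hℓ⟩ := exists_isBasis_of_iso L (f ⁻¹ᵁ U i)
      ((Scheme.Modules.restrictFunctorIsoPullback (f ⁻¹ᵁ U i).ι).app L ≪≫ e)
    exact ⟨_, hℓ.restrict (f ⁻¹ᵁ U i).ι_image_top.ge⟩
  choose l hl using hl
  choose η' hη' using fun i j => Groth.Agent.InvPow.exists_coef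
    ((hl j).restrict (inf_le_right : f ⁻¹ᵁ U i ⊓ f ⁻¹ᵁ U j ≤ f ⁻¹ᵁ U j))
    (L.presheaf.map (homOfLE (inf_le_left : f ⁻¹ᵁ U i ⊓ f ⁻¹ᵁ U j ≤ f ⁻¹ᵁ U i)).op (l i))
  choose η hη using fun i j => (hf (U i ⊓ U j)).2 (η' i j)
  let fr := @Groth.Agent.InvGlue.fres X
  let pr := @Groth.Agent.InvGlue.pres X L
  have hlow : ∀ i, η' i i = 1 := fun i => Groth.Agent.InvPow.coef_unique
    ((hl i).restrict (inf_le_right : f ⁻¹ᵁ U i ⊓ f ⁻¹ᵁ U i ≤ f ⁻¹ᵁ U i)) (by rw [← hη', one_smul])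
  have hcoc : ∀ i j k : S,
      Groth.Agent.InvGlue.fres (inf_le_inf_right (U k) inf_le_left : U i ⊓ U j ⊓ U k ≤ U i ⊓ U k) (η i k) =
      Groth.Agent.InvGlue.fres (inf_le_left : U i ⊓ U j ⊓ U k ≤ U i ⊓ U j) (η i j) *
        Groth.Agent.InvGlue.fres (inf_le_inf_right (U k) inf_le_right : U i ⊓ U j ⊓ U k ≤ U j ⊓ U k) (η j k) := by
    intro i j k
    apply (hf (U i ⊓ U j ⊓ U k)).1
    have hn : ∀ (A B : S.Opens) (h : B ≤ A) (c : Γ(S, A)), f.app B (Groth.Agent.InvGlue.fres h c) =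
        Groth.Agent.InvGlue.fres (f.preimage_mono h) (f.app A c) := fun A B h c =>
      ConcreteCategory.congr_hom (f.naturality (homOfLE h).op) c
    rw [map_mul, hn, hn, hn, hη, hη, hη]
    let W := f ⁻¹ᵁ U i ⊓ f ⁻¹ᵁ U j ⊓ f ⁻¹ᵁ U k
    refine Groth.Agent.InvPow.coef_unique ((hl k).restrict (inf_le_right : W ≤ f ⁻¹ᵁ U k)) ?_
    have hij := congrArg (Groth.Agent.InvGlue.pres L (inf_le_left : W ≤ f ⁻¹ᵁ U i ⊓ f ⁻¹ᵁ U j)) (hη' i j)
    have hjk := congrArg (Groth.Agent.InvGlue.pres L (inf_le_inf_right _ inf_le_right : W ≤ f ⁻¹ᵁ U j ⊓ f ⁻¹ᵁ U k)) (hη' j k)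
    have hik := congrArg (Groth.Agent.InvGlue.pres L (inf_le_inf_right _ inf_le_left : W ≤ f ⁻¹ᵁ U i ⊓ f ⁻¹ᵁ U k)) (hη' i k)
    change Groth.Agent.InvGlue.pres L _ (Groth.Agent.InvGlue.pres L _ (l i)) =
      Groth.Agent.InvGlue.pres L _ (η' i j • Groth.Agent.InvGlue.pres L _ (l j)) at hij
    change Groth.Agent.InvGlue.pres L _ (Groth.Agent.InvGlue.pres L _ (l j)) =
      Groth.Agent.InvGlue.pres L _ (η' j k • Groth.Agent.InvGlue.pres L _ (l k)) at hjk
    change Groth.Agent.InvGlue.pres L _ (Groth.Agent.InvGlue.pres L _ (l i)) =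
      Groth.Agent.InvGlue.pres L _ (η' i k • Groth.Agent.InvGlue.pres L _ (l k)) at hik
    rw [Groth.Agent.InvGlue.pres_pres, Groth.Agent.InvGlue.pres_smul, Groth.Agent.InvGlue.pres_pres] at hij hjk hik
    rw [hjk, smul_smul] at hij
    exact hik.symm.trans hij
  obtain ⟨s, hs, hst⟩ := Groth.Agent.CocycleMod.exists_basis U η (fun i => by
    have h1 : η i i = 1 := (hf _).1 (by rw [hη, map_one]; exact hlow i)
    rw [h1]; exact isUnit_one) hcoc
  let N := Groth.Agent.CocycleMod.glued U η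
  have hN : PicF.IsInvertible N := Groth.Agent.InvBasic.isInvertible_of_isBasis fun t => ⟨U t, hsU t, s t, hs t⟩
  refine ⟨N, hN, ?_⟩
  have hcov' : ∀ x : X, ∃ i, x ∈ f ⁻¹ᵁ U i := fun x => ⟨f x, hsU _⟩
  obtain ⟨e⟩ := Groth.Agent.CocycleMod.nonempty_iso_glued (fun i => f ⁻¹ᵁ U i) η' L l hl hη' hcov'
  obtain ⟨e'⟩ := Groth.Agent.CocycleMod.nonempty_iso_glued (fun i => f ⁻¹ᵁ U i) η' ((Scheme.Modules.pullback f).obj N)
    (fun i => Groth.Agent.InvPow.pullLoc f N (s i)) (fun i => Groth.Agent.InvPow.isBasis_pullLoc f hN (hs i)) (fun i j => by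
      have h := congrArg (Groth.Agent.InvPow.pullLoc f N) (hst i j)
      rw [Groth.Agent.InvPow.pullLoc_smul] at h
      have h1 := Groth.Agent.InvPow.res_pullLoc f N (inf_le_left : U i ⊓ U j ≤ U i) (s i)
      have h2 := Groth.Agent.InvPow.res_pullLoc f N (inf_le_right : U i ⊓ U j ≤ U j) (s j)
      change _ = _ at h1
      refine h1.trans (h.trans ?_)
      rw [hη i j]
      exact congrArg (fun z => (show Γ(X, f ⁻¹ᵁ (U i ⊓ U j)) from η' i j) • z) h2.symm) hcov'
  exact ⟨e ≪≫ e'.symm⟩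

end Groth.Agent.S12057
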