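import Groth.Statements.S12059
import Mathlib
import Groth.Agent.SGA1QuotLib.Affine
-- import your own Groth.Agent.* helpers here

set_option autoImplicit false
universe u
open CategoryTheory CategoryTheory.Limits AlgebraicGeometry
open SGA1

namespace Groth.Agent.S12059

/-- Let a finite group G act on a commutative ring A by ring automorphisms σ_g, and let B → A be
injective, G-equivariant for the trivial action on B, with image containing all G-invariants (so B
is the ring of invariants A^G). Let ρ be an action of G on Spec A by scheme automorphisms whose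
automorphisms are exactly the maps Spec(σ_g). Then Spec A ⟶ Spec B is a quotient of Spec A by G, and
the structure sheaf of Spec B is the sheaf of G-invariants of the direct image of the structure
sheaf of Spec A: the map is affine and G-invariant, and for every open U of Spec B the sections of
the structure sheaf of Spec B over U map injectively onto the G-invariant sections of the structure
sheaf of Spec A over the inverse image of U. -/
theorem result (G : Type u) [Group G] [Finite G] (A B : Type u) [CommRing A] [CommRing B]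
    [Algebra B A] [MulSemiringAction G A] [SMulCommClass G B A] [Algebra.IsInvariant B A G] [FaithfulSMul B A]
    (ρ : G →* Aut (Spec (CommRingCat.of A)))
    (hρ : Set.range (fun g : G => (ρ g).hom) =
      Set.range (fun g : G => Spec.map (CommRingCat.ofHom (MulSemiringAction.toRingHom G A g)))) :
    SGA1.IsQuot ρ (Spec.map (CommRingCat.ofHom (algebraMap B A))) := by
  have hmem : ∀ g : G, ∃ g' : G, (ρ g).hom =
      Spec.map (CommRingCat.ofHom (MulSemiringAction.toRingHom G A g')) := fun g => by
    obtain ⟨g', hg'⟩ := hρ.le ⟨g, rfl⟩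
    exact ⟨g', hg'.symm⟩
  have hmem' : ∀ g' : G, ∃ g : G, (ρ g).hom =
      Spec.map (CommRingCat.ofHom (MulSemiringAction.toRingHom G A g')) := fun g' => hρ.ge ⟨g', rfl⟩
  let φ : CommRingCat.of B ⟶ CommRingCat.of A := CommRingCat.ofHom (algebraMap B A)
  have hinv : ∀ g : G, (ρ g).hom ≫ Spec.map φ = Spec.map φ := fun g => by
    obtain ⟨g', hg'⟩ := hmem g
    rw [hg', ← Spec.map_comp]
    congr 1
    ext b
    exact smul_algebraMap g' b
  have hnat : ∀ {R R' : CommRingCat.{u}} (ψ : R ⟶ R') (x : R),
      ((Spec.map ψ).app ⊤).hom ((Scheme.ΓSpecIso R).inv.hom x) =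
        (Scheme.ΓSpecIso R').inv.hom (ψ.hom x) := fun ψ x =>
    (congrArg (fun m => m.hom x) (Scheme.ΓSpecIso_inv_naturality ψ)).symm
  have hsurj : ∀ {R : CommRingCat.{u}}, Function.Surjective (Scheme.ΓSpecIso R).inv.hom := fun {R} =>
    (ConcreteCategory.bijective_of_isIso (Scheme.ΓSpecIso R).inv).2
  have hinjS : ∀ {R : CommRingCat.{u}}, Function.Injective (Scheme.ΓSpecIso R).inv.hom := fun {R} =>
    (ConcreteCategory.bijective_of_isIso (Scheme.ΓSpecIso R).inv).1
  refine SGA1QuotLib.isQuot_of_isAffine hinv ?_ ?_
  · intro s t hst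
    obtain ⟨s, rfl⟩ := hsurj s
    obtain ⟨t, rfl⟩ := hsurj t
    rw [hnat, hnat] at hst
    rw [FaithfulSMul.algebraMap_injective B A (hinjS hst)]
  · intro s hs
    obtain ⟨a, rfl⟩ := hsurj (R := CommRingCat.of A) s
    have hfix : ∀ g' : G, g' • a = a := fun g' => by
      obtain ⟨g, hg⟩ := hmem' g'
      have key : ∀ (m : Spec (CommRingCat.of A) ⟶ Spec (CommRingCat.of A)) (e : ⊤ ≤ m ⁻¹ᵁ ⊤),
          m.appLE ⊤ ⊤ e = m.app ⊤ := fun m e => by rw [Scheme.Hom.app_eq_appLE]; rfl
      have h := hs g
      have h2 : ((ρ g).hom.app ⊤).hom ((Scheme.ΓSpecIso (CommRingCat.of A)).inv.hom a) =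
          (Scheme.ΓSpecIso (CommRingCat.of A)).inv.hom a := by
        rw [← key _ le_top]; exact h
      rw [hg, hnat] at h2
      exact hinjS h2
    obtain ⟨b, rfl⟩ := Algebra.IsInvariant.isInvariant (A := B) a hfix
    exact ⟨(Scheme.ΓSpecIso (CommRingCat.of B)).inv.hom b, hnat φ b⟩

end Groth.Agent.S12059
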