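import Groth.Statements.S1206
import Mathlib.RingTheory.LocalRing.Module
import Mathlib.RingTheory.Noetherian.Basic
import Mathlib.RingTheory.LocalRing.ResidueField.Basic
import Mathlib.Order.CompactlyGenerated.Basic

set_option autoImplicit false
universe u
open FlatMor

namespace Groth.Agent.S1206

/-- Let A be a local domain which is not a field and 𝒮 a set of finitely generated ideals of A, closed
under products, such that the union of the closed sets V(I), I ∈ 𝒮, is exactly the set of nonzero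
primes (every nonzero prime contains a member of 𝒮 and no member is zero). Then the intersection of
all members of 𝒮 is zero. -/
theorem result (A : Type u) [CommRing A] [IsDomain A] [IsLocalRing A] (hA : ¬ IsField A)
    (𝒮 : Set (Ideal A)) (hfg : ∀ I ∈ 𝒮, I.FG) (hmul : ∀ I ∈ 𝒮, ∀ J ∈ 𝒮, I * J ∈ 𝒮)
    (hne : ∀ I ∈ 𝒮, I ≠ ⊥) (hcov : ∀ (p : Ideal A), p.IsPrime → p ≠ ⊥ → ∃ I ∈ 𝒮, I ≤ p) :
    sInf 𝒮 = ⊥ := by
  classical
  by_contra hbot
  obtain ⟨x, hx, hx0⟩ := Submodule.exists_mem_ne_zero_of_ne_bot hbot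
  have hmem : ∀ I ∈ 𝒮, x ∈ I := fun I hI => Submodule.mem_sInf.1 hx I hI
  have hm : IsLocalRing.maximalIdeal A ≠ ⊥ := fun h =>
    hA (IsLocalRing.isField_iff_maximalIdeal_eq.2 h)
  obtain ⟨I₀, hI₀, hI₀m⟩ := hcov _ (IsLocalRing.maximalIdeal.isMaximal A).isPrime hm
  have hxm : x ∈ IsLocalRing.maximalIdeal A := hI₀m (hmem _ hI₀)
  let T : Set (Ideal A) := {a | x ^ 2 ∈ a ∧ ∀ I ∈ 𝒮, ¬ I ≤ a}
  have hspan : Ideal.span {x ^ 2} ∈ T := by
    refine ⟨Ideal.mem_span_singleton_self _, fun I hI hle => ?_⟩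
    obtain ⟨c, hc⟩ := Ideal.mem_span_singleton'.1 (hle (hmem I hI))
    have : c * x = 1 := mul_right_cancel₀ hx0 (by rw [one_mul, mul_assoc, ← pow_two]; exact hc)
    exact (IsLocalRing.mem_maximalIdeal x).1 hxm (IsUnit.of_mul_eq_one_right c this)
  obtain ⟨q, -, hq⟩ := zorn_le_nonempty₀ T (fun c hc hch y hy => by
    refine ⟨sSup c, ⟨le_sSup hy (hc hy).1, fun I hI hle => ?_⟩, fun z hz => le_sSup hz⟩
    obtain ⟨J, hJ, hIJ⟩ := (CompleteLattice.isCompactElement_iff_le_of_directed_sSup_le (Ideal A) I).1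
        ((Submodule.fg_iff_compact I).1 (hfg I hI)) c ⟨y, hy⟩ hch.directedOn hle
    exact (hc hJ).2 I hI hIJ) _ hspan
  have hqp : q.IsPrime := by
    refine ⟨fun h => hq.prop.2 I₀ hI₀ (h ▸ le_top), fun {a b} hab => ?_⟩
    by_contra hcon
    push Not at hcon
    have key : ∀ d, d ∉ q → ∃ I ∈ 𝒮, I ≤ q ⊔ Ideal.span {d} := by
      intro d hd
      by_contra hne'
      push Not at hne'
      exact hd (hq.le_of_ge ⟨Ideal.mem_sup_left hq.prop.1, hne'⟩ le_sup_left
        (Ideal.mem_sup_right (Ideal.mem_span_singleton_self d)))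
    obtain ⟨I, hI, hIa⟩ := key a hcon.1
    obtain ⟨J, hJ, hJb⟩ := key b hcon.2
    refine hq.prop.2 _ (hmul I hI J hJ) ((Ideal.mul_mono hIa hJb).trans ?_)
    rw [Ideal.sup_mul, Ideal.mul_sup, Ideal.mul_sup, Ideal.span_singleton_mul_span_singleton]
    simp only [sup_le_iff]
    exact ⟨⟨Ideal.mul_le_right, Ideal.mul_le_left⟩, Ideal.mul_le_right,
      (Ideal.span_singleton_le_iff_mem _).2 hab⟩
  obtain ⟨I, hI, hIq⟩ := hcov q hqp (fun h => pow_ne_zero 2 hx0 (Ideal.mem_bot.1 (h ▸ hq.prop.1)))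
  exact hq.prop.2 I hI hIq

end Groth.Agent.S1206
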