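import Mathlib
import Groth.Statements.S1207
-- import your own Groth.Agent.* helpers here

set_option autoImplicit false
universe u
open FlatMor

namespace Groth.Agent.S1207

/-- Let A be a local ring and I, J ideals of A with J finitely generated, J ≠ A, and I ⊆ J^n for all n ≥
1. Then every prime p not containing J which is maximal among the primes not containing J (a closed
point of Spec A ∖ V(J)) contains I. (The published statement leaves the hypothesis J ≠ A implicit;
for J = A the assertion fails.) -/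
theorem result (A : Type u) [CommRing A] [IsLocalRing A] (I J : Ideal A) (hJ : J.FG) (hJ1 : J ≠ ⊤)
    (hI : ∀ n : ℕ, 1 ≤ n → I ≤ J ^ n) (p : Ideal A) [p.IsPrime] (hp : ¬ J ≤ p)
    (hmax : ∀ (p' : Ideal A), p'.IsPrime → p ≤ p' → ¬ J ≤ p' → p' = p) : I ≤ p := by
  by_contra hIp
  obtain ⟨x, hxI, hxp⟩ := SetLike.not_le_iff_exists.1 hIp
  have hrad : J ≤ (p ⊔ Ideal.span {x}).radical := by
    rw [Ideal.radical_eq_sInf]
    refine le_sInf ?_
    rintro q ⟨hle, hq⟩
    by_contra hJq
    exact hxp (hmax q hq (le_sup_left.trans hle) hJq ▸ hle (Submodule.mem_sup_right (Ideal.mem_span_singleton_self x)))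
  obtain ⟨N, hN⟩ := Ideal.exists_pow_le_of_le_radical_of_fg hrad hJ
  have hx : x ∈ J ^ (N + 1) := hI (N + 1) (Nat.succ_pos N) hxI
  have h1 : x ∈ p ⊔ J * Ideal.span {x} := by
    rw [pow_succ'] at hx
    have h2 : J * J ^ N ≤ p ⊔ J * Ideal.span {x} := by
      refine (Ideal.mul_mono le_rfl hN).trans ?_
      rw [Ideal.mul_sup]
      exact sup_le_sup Ideal.mul_le_right le_rfl
    exact h2 hx
  obtain ⟨y, hy, z, hz, hyz⟩ := Submodule.mem_sup.1 h1
  obtain ⟨j, hj, rfl⟩ := Ideal.mem_mul_span_singleton.1 hz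
  have h3 : (1 - j) * x ∈ p := by
    rw [show (1 - j) * x = x - j * x by ring, ← eq_sub_of_add_eq hyz]
    exact hy
  rcases (inferInstance : p.IsPrime).mem_or_mem h3 with h4 | h4
  · have hu : IsUnit (1 - j) := IsLocalRing.isUnit_one_sub_self_of_mem_nonunits j (IsLocalRing.le_maximalIdeal hJ1 hj)
    exact (inferInstance : p.IsPrime).ne_top (Ideal.eq_top_of_isUnit_mem _ h4 hu)
  · exact hxp h4

end Groth.Agent.S1207
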