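import Groth.Statements.S12071
import Mathlib.GroupTheory.Archimedean
-- import your own Groth.Agent.* helpers here

set_option autoImplicit false
open RootD

namespace Groth.Agent.S12071

/-- Let G be the group generated by two elements x, y subject to x² = y² = 1 (the infinite dihedral
group; here Mathlib's DihedralGroup 0 with x = sr 0 and y = sr 1, so that x y = r 1). Then every
normal subgroup of G containing neither x nor y is generated by an element (x y)^n with n > 0; such
a subgroup is cyclic, generated by r n. (The published statement does not exclude the trivial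
subgroup, for which no n > 0 works; this row assumes the subgroup nontrivial.) -/
theorem result (N : Subgroup (DihedralGroup 0)) [N.Normal]
    (hN : N ≠ ⊥) (hx : DihedralGroup.sr (0 : ZMod 0) ∉ N) (hy : DihedralGroup.sr (1 : ZMod 0) ∉ N) :
    ∃ n : ℕ, 0 < n ∧ N = Subgroup.zpowers (DihedralGroup.r (n : ZMod 0)) := by
  have hx' : ∀ a, DihedralGroup.sr a ∉ N := by
    intro a ha
    have key : ∀ t, DihedralGroup.sr (a + 2 * t) ∈ N := fun t => by
      have := Subgroup.Normal.conj_mem inferInstance _ ha (DihedralGroup.r (-t))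
      simpa [DihedralGroup.inv_r, sub_eq_add_neg, two_mul, add_assoc, add_comm, add_left_comm] using this
    obtain ⟨t, ht | ht⟩ := Int.even_or_odd' (show ℤ from a)
    · apply hx
      convert key (-t : ℤ) using 2
      change (0 : ℤ) = (show ℤ from a) + 2 * -t
      omega
    · apply hy
      convert key (-t : ℤ) using 2
      change (1 : ℤ) = (show ℤ from a) + 2 * -t
      omega
  let S : AddSubgroup ℤ :=
    { carrier := {i | DihedralGroup.r (i : ZMod 0) ∈ N}
      zero_mem' := by exact N.one_mem
      add_mem' := fun {a b} ha hb => by exact N.mul_mem ha hb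
      neg_mem' := fun {a} ha => by exact N.inv_mem ha }
  obtain ⟨g, hg⟩ := Int.subgroup_cyclic S
  have hS : ∀ i : ℤ, DihedralGroup.r (i : ZMod 0) ∈ N ↔ ∃ m : ℤ, i = m * (g.natAbs : ℤ) := by
    intro i
    show i ∈ S ↔ _
    rw [hg, AddSubgroup.mem_closure_singleton]
    rcases Int.natAbs_eq g with h | h
    · exact ⟨fun ⟨m, hm⟩ => ⟨m, by rw [← hm, smul_eq_mul, ← h]⟩, fun ⟨m, hm⟩ => ⟨m, by rw [hm, smul_eq_mul, ← h]⟩⟩
    · exact ⟨fun ⟨m, hm⟩ => ⟨-m, by rw [← hm, smul_eq_mul]; nth_rw 1 [h]; ring⟩, fun ⟨m, hm⟩ => ⟨-m, by rw [hm, smul_eq_mul]; nth_rw 1 [h]; ring⟩⟩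
  refine ⟨g.natAbs, ?_, ?_⟩
  · by_contra h0
    push Not at h0
    refine hN ((Subgroup.eq_bot_iff_forall _).mpr ?_)
    rintro (i | i) hi
    · obtain ⟨m, hm⟩ := (hS i).mp hi
      simp only [show g.natAbs = 0 by omega, Nat.cast_zero, mul_zero] at hm
      rw [hm]; rfl
    · exact absurd hi (hx' i)
  · ext z
    rcases z with i | i
    · rw [Subgroup.mem_zpowers_iff]
      refine (hS i).trans ⟨fun ⟨m, hm⟩ => ⟨m, ?_⟩, fun ⟨m, hm⟩ => ⟨m, ?_⟩⟩
      · rw [DihedralGroup.r_zpow]; congr 1; rw [hm, mul_comm]; rfl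
      · rw [DihedralGroup.r_zpow] at hm
        injection hm with hm
        rw [← hm, mul_comm]; rfl
    · refine iff_of_false (hx' i) ?_
      rw [Subgroup.mem_zpowers_iff]
      rintro ⟨m, hm⟩
      rw [DihedralGroup.r_zpow] at hm
      cases hm

end Groth.Agent.S12071
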