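import Groth.Statements.S12076
import Groth.Agent.RootDat.Base

set_option autoImplicit false
open RootD

namespace Groth.Agent.S12076

/-- Let Δ be a system of simple roots (a base b of a root pairing P over ℤ) and Γ₀ the subgroup
generated by the roots. Then Γ₀ has a structure of totally ordered group for which the roots > 0 are
exactly the positive roots defined by Δ and for which the height (the additive function with value 1
on each simple root) is monotone. The order is given here by its positive cone C ⊆ Γ₀: 0 ∉ C, C + C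
⊆ C, and for every x ≠ 0 exactly one of x, −x lies in C (x < y meaning y − x ∈ C). -/
theorem result {ι M N : Type*} [AddCommGroup M] [AddCommGroup N]
    (P : RootPairing ι ℤ M N) [Finite ι] (b : P.Base) :
    ∃ C : Set ↥(Submodule.span ℤ (Set.range P.root)),
      0 ∉ C ∧ (∀ x ∈ C, ∀ y ∈ C, x + y ∈ C) ∧ (∀ x, x ≠ 0 → (x ∈ C ∨ -x ∈ C)) ∧ (∀ x ∈ C, -x ∉ C) ∧
      (∀ i : ι, (⟨P.root i, Submodule.subset_span (Set.mem_range_self i)⟩ : ↥(Submodule.span ℤ (Set.range P.root))) ∈ C ↔
        b.IsPos i) ∧
      ∀ φ : ↥(Submodule.span ℤ (Set.range P.root)) →+ ℤ,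
        (∀ j ∈ b.support, φ ⟨P.root j, Submodule.subset_span (Set.mem_range_self j)⟩ = 1) →
        ∀ x y : ↥(Submodule.span ℤ (Set.range P.root)), y - x ∈ C → φ x ≤ φ y := by
  open Groth.Agent.RootDat in
  classical
  set V := Submodule.span ℤ (Set.range P.root)
  have hΔ := isSimpleSys_base b
  let v : ↥b.support → V := fun a => ⟨P.root a, Submodule.subset_span (Set.mem_range_self _)⟩
  have hcoe : ∀ c : ↥b.support →₀ ℤ, ((Finsupp.linearCombination ℤ v c : V) : M) =
      Finsupp.linearCombination ℤ (fun a : ↥b.support => P.root a) c := fun c => by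
    simp only [Finsupp.linearCombination_apply, Finsupp.sum, Submodule.coe_sum, Submodule.coe_smul, v]
  have hli : LinearIndependent ℤ v :=
    LinearIndependent.of_comp V.subtype (b.linearIndepOn_root)
  have hroot : ∀ i : ι, (⟨P.root i, Submodule.subset_span (Set.mem_range_self i)⟩ : V) =
      Finsupp.linearCombination ℤ v ((coeff hΔ i).comapDomain Subtype.val Subtype.val_injective.injOn) := by
    intro i
    refine Subtype.ext ((coeff_spec hΔ i).symm.trans ?_)
    rw [hcoe, show (fun a : ↥b.support => P.root (a : ι)) = P.root ∘ Subtype.val from rfl,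
      ← Finsupp.linearCombination_mapDomain, Finsupp.mapDomain_comapDomain _ Subtype.val_injective]
    simpa using coeff_support hΔ i
  have hsp : ⊤ ≤ Submodule.span ℤ (Set.range v) := by
    rw [← Submodule.span_span_coe_preimage, Submodule.span_le]
    rintro ⟨x, hx⟩ ⟨i, rfl⟩
    rw [SetLike.mem_coe, Finsupp.mem_span_range_iff_exists_finsupp]
    exact ⟨_, (hroot i).symm⟩
  let bv := Module.Basis.mk hli hsp
  obtain ⟨n, ⟨e⟩⟩ := Finite.exists_equiv_fin ↥b.support
  let L : V →+ ℤ ×ₗ Lex (Fin n → ℤ) :=
    { toFun := fun x => toLex (∑ a, bv.repr x a, toLex fun k => bv.repr x (e.symm k))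
      map_zero' := by simp; rfl
      map_add' := fun x y => by
        simp only [map_add, Finsupp.add_apply, Finset.sum_add_distrib]
        rfl }
  have hL : ∀ x, L x = 0 → x = 0 := fun x hx => by
    refine bv.repr.map_eq_zero_iff.mp (Finsupp.ext fun a => ?_)
    have := congrFun (congrArg ofLex (congrArg (fun z : ℤ ×ₗ Lex (Fin n → ℤ) => (ofLex z).2) hx)) (e a)
    have h2 : bv.repr x (e.symm (e a)) = 0 := this
    simpa using h2
  have hsum : ∀ i : ι, ∑ a, bv.repr ⟨P.root i, Submodule.subset_span (Set.mem_range_self i)⟩ a =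
      b.height i := fun i => by
    rw [show (⟨P.root i, Submodule.subset_span (Set.mem_range_self i)⟩ : V) =
      Finsupp.linearCombination ℤ bv _ from (hroot i).trans (by rw [Module.Basis.coe_mk]),
      Module.Basis.repr_linearCombination, height_eq, ← Finset.sum_coe_sort b.support]
    rfl
  refine ⟨{x | 0 < L x}, ?_, ?_, ?_, ?_, ?_, ?_⟩
  · simp
  · intro x hx y hy
    show 0 < L (x + y)
    rw [map_add]
    exact add_pos hx hy
  · intro x hx
    rcases lt_trichotomy 0 (L x) with h | h | h
    · exact .inl h
    · exact absurd (hL x h.symm) hx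
    · exact .inr (show 0 < L (-x) by rw [map_neg]; exact neg_pos.mpr h)
  · intro x hx hx'
    replace hx' : 0 < L (-x) := hx'
    rw [map_neg, neg_pos] at hx'
    exact lt_asymm hx hx'
  · intro i
    show 0 < L _ ↔ 0 < b.height i
    rw [Prod.Lex.lt_iff]
    have := b.height_ne_zero i
    simp only [L, AddMonoidHom.coe_mk, ZeroHom.coe_mk, ofLex_toLex, hsum]
    constructor
    · rintro (h | ⟨h, -⟩)
      · exact h
      · exact absurd h.symm this
    · exact fun h => .inl h
  · intro φ hφ x y hxy
    have key : ∀ z : V, φ z = ∑ a, bv.repr z a := fun z => by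
      conv_lhs => rw [← bv.sum_repr z]
      rw [map_sum]
      refine Finset.sum_congr rfl fun a _ => ?_
      rw [map_zsmul, Module.Basis.mk_apply, hφ a a.2, smul_eq_mul, mul_one]
    rw [← sub_nonneg, ← map_sub, key]
    replace hxy : 0 < L (y - x) := hxy
    rcases Prod.Lex.lt_iff.mp hxy with h | ⟨h, -⟩
    · exact h.le
    · exact h.le

end Groth.Agent.S12076
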