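import Groth.Statements.S12077
import Mathlib.RingTheory.AdjoinRoot
import Mathlib.Algebra.Colimit.Ring
import Mathlib.Algebra.Category.Ring.Basic
-- import your own Groth.Agent.* helpers here

set_option autoImplicit false
universe u
open Polynomial
open CAlg

namespace Groth.Agent.S12077

noncomputable section

variable (A : Type u) [CommRing A]

abbrev Mon : Type u := {f : A[X] // f.Monic}
abbrev Var : Type u := Σ f : Mon A, Fin f.1.natDegree

def rel (f : Mon A) : (MvPolynomial (Var A) A)[X] :=
  f.1.map MvPolynomial.C - ∏ i, (X - C (MvPolynomial.X ⟨f, i⟩))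

def relIdeal : Ideal (MvPolynomial (Var A) A) :=
  Ideal.span (Set.range fun p : Mon A × ℕ => (rel A p.1).coeff p.2)

abbrev Step : Type u := MvPolynomial (Var A) A ⧸ relIdeal A

def toStep : A →+* Step A := (Ideal.Quotient.mk (relIdeal A)).comp MvPolynomial.C

theorem step_splits (f : A[X]) (hf : f.Monic) :
    ∃ r : Fin f.natDegree → Step A, f.map (toStep A) = ∏ i, (X - C (r i)) := by
  refine ⟨fun i => Ideal.Quotient.mk (relIdeal A) (MvPolynomial.X ⟨⟨f, hf⟩, i⟩), ?_⟩
  have h : (rel A ⟨f, hf⟩).map (Ideal.Quotient.mk (relIdeal A)) = 0 := by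
    ext n
    rw [coeff_map, coeff_zero, Ideal.Quotient.eq_zero_iff_mem]
    exact Ideal.subset_span ⟨(⟨f, hf⟩, n), rfl⟩
  rw [rel, Polynomial.map_sub, sub_eq_zero, Polynomial.map_map, Polynomial.map_prod] at h
  simpa [Polynomial.map_sub, toStep] using h

theorem finite_split [Nontrivial A] (F : Finset (Mon A)) :
    ∃ (S : Type u) (_ : CommRing S) (_ : Nontrivial S) (φ : A →+* S), Function.Injective φ ∧
      ∀ f ∈ F, ∃ r : Fin f.1.natDegree → S, f.1.map φ = ∏ i, (X - C (r i)) := by
  classical
  induction F using Finset.induction with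
  | empty => exact ⟨A, inferInstance, inferInstance, RingHom.id A, fun _ _ h => h, by simp⟩
  | @insert f F _ IH =>
    obtain ⟨S, _, _, φ, hφ, h⟩ := IH
    obtain ⟨T, _, _, _, _, _, hT⟩ := (f.2.map φ).exists_splits_map
    refine ⟨T, inferInstance, inferInstance, (algebraMap S T).comp φ,
      (FaithfulSMul.algebraMap_injective S T).comp hφ, ?_⟩
    intro g hg
    rcases Finset.mem_insert.1 hg with rfl | hg
    · rw [← Polynomial.map_map]
      obtain ⟨m, hm⟩ := splits_iff_exists_multiset.1 hT
      rw [((g.2.map φ).map (algebraMap S T)).leadingCoeff, C_1, one_mul] at hm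
      have hc : m.toList.length = g.1.natDegree := by
        rw [Multiset.length_toList, ← natDegree_multiset_prod_X_sub_C_eq_card m, ← hm,
          (g.2.map φ).natDegree_map, g.2.natDegree_map]
      refine ⟨fun i => m.toList.get (Fin.cast hc.symm i), ?_⟩
      rw [hm]
      conv_lhs => rw [← m.coe_toList, Multiset.map_coe, Multiset.prod_coe, ← List.ofFn_get m.toList]
      rw [List.map_ofFn, List.prod_ofFn]
      exact (Fintype.prod_equiv (finCongr hc.symm) _ _ fun i => rfl).symm
    · obtain ⟨r, hr⟩ := h g hg
      refine ⟨fun i => algebraMap S T (r i), ?_⟩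
      rw [← Polynomial.map_map, hr, Polynomial.map_prod]
      simp

theorem toStep_injective [Nontrivial A] : Function.Injective (toStep A) := by
  classical
  rw [injective_iff_map_eq_zero]
  intro a ha
  have ha' : MvPolynomial.C a ∈ relIdeal A := Ideal.Quotient.eq_zero_iff_mem.1 ha
  obtain ⟨T, hT, haT⟩ := Submodule.mem_span_finite_of_mem_span ha'
  rw [← Set.image_univ, Finset.subset_set_image_iff] at hT
  obtain ⟨P, -, rfl⟩ := hT
  obtain ⟨S, _, _, φ, hφ, h⟩ := finite_split A (P.image Prod.fst)
  choose r hr using h
  let v : Var A → S := fun q => if hq : q.1 ∈ P.image Prod.fst then r q.1 hq q.2 else 0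
  let ev : MvPolynomial (Var A) A →+* S := MvPolynomial.eval₂Hom φ v
  have hev : Ideal.span (((P.image fun p : Mon A × ℕ => (rel A p.1).coeff p.2) : Finset _) :
      Set (MvPolynomial (Var A) A)) ≤ RingHom.ker ev := by
    rw [Ideal.span_le]
    intro c hc
    obtain ⟨p, hp, rfl⟩ := Finset.mem_image.1 (Finset.mem_coe.1 hc)
    have hp' : p.1 ∈ P.image Prod.fst := Finset.mem_image_of_mem _ hp
    have h0 : (rel A p.1).map ev = 0 := by
      have e : ev.comp MvPolynomial.C = φ := RingHom.ext fun x => MvPolynomial.eval₂Hom_C _ _ _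
      rw [rel, Polynomial.map_sub, Polynomial.map_map, e, hr p.1 hp', Polynomial.map_prod,
        sub_eq_zero]
      refine Finset.prod_congr rfl fun i _ => ?_
      rw [Polynomial.map_sub, map_X, map_C]
      simp only [ev, MvPolynomial.eval₂Hom_X', v, dif_pos hp']
    show ev _ = 0
    rw [← coeff_map, h0, coeff_zero]
  refine hφ ((?_ : φ a = 0).trans (map_zero φ).symm)
  rw [← MvPolynomial.eval₂Hom_C φ v a]
  exact hev haT

def Seq : ℕ → CommRingCat.{u}
  | 0 => CommRingCat.of A
  | n + 1 => CommRingCat.of (Step (Seq n))

def nxt (n : ℕ) : Seq A n →+* Seq A (n + 1) := toStep (Seq A n)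

def trans' {i j : ℕ} (h : i ≤ j) : Seq A i →+* Seq A j :=
  Nat.leRecOn (C := fun k => Seq A i →+* Seq A k) h (fun {k} g => (nxt A k).comp g) (RingHom.id _)

theorem trans'_self {i : ℕ} (h : i ≤ i) : trans' A h = RingHom.id _ := Nat.leRecOn_self _

theorem trans'_succ {i j : ℕ} (h : i ≤ j) (h' : i ≤ j + 1) :
    trans' A h' = (nxt A j).comp (trans' A h) := Nat.leRecOn_succ h _

theorem trans'_trans {i j k : ℕ} (h : i ≤ j) (h' : j ≤ k) (x : Seq A i) :
    trans' A h' (trans' A h x) = trans' A (h.trans h') x := by
  induction k, h' using Nat.le_induction with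
  | base => rw [trans'_self]; rfl
  | succ k hk IH =>
    rw [trans'_succ A hk, trans'_succ A (h.trans hk), RingHom.comp_apply, IH, RingHom.comp_apply]

theorem seq_nontrivial [Nontrivial A] : ∀ n, Nontrivial (Seq A n)
  | 0 => inferInstanceAs (Nontrivial A)
  | n + 1 => by
    have := seq_nontrivial n
    exact (toStep_injective (Seq A n)).nontrivial

theorem trans'_injective [Nontrivial A] {i j : ℕ} (h : i ≤ j) :
    Function.Injective (trans' A h) := by
  induction j, h using Nat.le_induction with
  | base => rw [trans'_self]; exact fun _ _ h => h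
  | succ k hk IH =>
    have := seq_nontrivial A k
    rw [trans'_succ A hk]
    exact (toStep_injective (Seq A k)).comp IH

instance : DirectedSystem (fun n => Seq A n) fun i j h => trans' A (i := i) (j := j) h where
  map_self i x := by rw [trans'_self]; rfl
  map_map k j i hij hjk x := trans'_trans A hij hjk x

end


/-- Every commutative ring `A` admits an injective ring map into an absolutely integrally closed
commutative ring `B`, that is, one over which every monic polynomial is a product of linear factors
`X - b`. (Only the existence of such an extension is stated, not the finer structure of the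
construction.) -/
theorem result (A : Type u) [CommRing A] :
    ∃ (B : Type u) (_ : CommRing B) (_ : Algebra A B), Function.Injective (algebraMap A B) ∧
      ∀ f : B[X], f.Monic → ∃ s : Multiset B, f = (s.map fun b => X - C b).prod := by
  cases subsingleton_or_nontrivial A with
  | inl h =>
    refine ⟨A, inferInstance, Algebra.id A, fun _ _ h => h, fun f _ => ⟨0, ?_⟩⟩
    exact Subsingleton.elim _ _
  | inr h =>
    let f' : ∀ i j : ℕ, i ≤ j → Seq A i →+* Seq A j := fun i j h => trans' A h
    let B := Ring.DirectLimit (fun n => Seq A n) (fun i j h => f' i j h)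
    let o : ∀ n, Seq A n →+* B := fun n => Ring.DirectLimit.of (fun n => Seq A n) (fun i j h => f' i j h) n
    have hinj : ∀ n, Function.Injective (o n) := fun n =>
      Ring.DirectLimit.of_injective (G := fun n => Seq A n) f' (fun i j h => trans'_injective A h) n
    refine ⟨B, inferInstance, (o 0).toAlgebra, hinj 0, fun f hf => ?_⟩
    obtain ⟨n, q, rfl⟩ := Ring.DirectLimit.Polynomial.exists_of f
    have hq : q.Monic := Polynomial.monic_of_injective (hinj n) hf
    obtain ⟨r, hr⟩ : ∃ r : Fin q.natDegree → Seq A (n + 1), q.map (nxt A n) = ∏ i, ((X : (Seq A (n + 1))[X]) - C (r i)) :=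
      step_splits (Seq A n) q hq
    refine ⟨Finset.univ.val.map fun i => o (n + 1) (r i), ?_⟩
    have e : (o (n + 1)).comp (nxt A n) = o n := by
      ext x
      have h2 : f' n (n + 1) n.le_succ x = nxt A n x := by
        show trans' A n.le_succ x = _
        rw [trans'_succ A (le_refl n), trans'_self]
        rfl
      rw [RingHom.comp_apply, ← h2]
      exact Ring.DirectLimit.of_f _ _
    show q.map (o n) = _
    rw [← e, ← Polynomial.map_map]
    rw [hr]
    rw [Polynomial.map_prod, Multiset.map_map]
    exact Finset.prod_congr rfl fun i _ =>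
      (Polynomial.map_sub _).trans (congrArg₂ (· - ·) (Polynomial.map_X _) (Polynomial.map_C _))

end Groth.Agent.S12077
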