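import Groth.Statements.S12078
import Mathlib
-- import your own Groth.Agent.* helpers here

set_option autoImplicit false
universe u
open CAlg

namespace Groth.Agent.S12078

/-- An elementary divisor domain is Bézout. Here `R` is a domain such that for all `n, m ≥ 1` and every
`n × m` matrix `A` there are invertible matrices `U` (`n × n`) and `V` (`m × m`) with `U * A * V`
zero off the diagonal and with diagonal entries `f 0 ∣ f 1 ∣ f 2 ∣ …`; the conclusion is that every
finitely generated ideal of `R` is principal. -/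
theorem result (R : Type u) [CommRing R] [IsDomain R]
    (hR : ∀ n m : ℕ, 1 ≤ n → 1 ≤ m → ∀ A : Matrix (Fin n) (Fin m) R,
      ∃ (U : (Matrix (Fin n) (Fin n) R)ˣ) (V : (Matrix (Fin m) (Fin m) R)ˣ) (f : ℕ → R),
        (∀ k : ℕ, f k ∣ f (k + 1)) ∧
        ∀ (i : Fin n) (j : Fin m), ((U : Matrix (Fin n) (Fin n) R) * A * (V : Matrix (Fin m) (Fin m) R)) i j =
          if (i : ℕ) = (j : ℕ) then f i else 0) :
    IsBezout R := by
  refine IsBezout.iff_span_pair_isPrincipal.mpr fun a b => ?_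
  obtain ⟨U, V, f, -, hf⟩ := hR 1 2 le_rfl (by norm_num) !![a, b]
  set B := (U : Matrix (Fin 1) (Fin 1) R) * !![a, b] * (V : Matrix (Fin 2) (Fin 2) R) with hB
  have hA : !![a, b] = (↑U⁻¹ : Matrix (Fin 1) (Fin 1) R) * B * (↑V⁻¹ : Matrix (Fin 2) (Fin 2) R) := by
    rw [hB, ← Matrix.mul_assoc, ← Matrix.mul_assoc, Units.inv_mul, Matrix.one_mul, Matrix.mul_assoc,
      Units.mul_inv, Matrix.mul_one]
  have h00 : B 0 0 = f 0 := by simpa using hf 0 0
  have h01 : B 0 1 = 0 := by simpa using hf 0 1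
  refine ⟨⟨f 0, le_antisymm ?_ ?_⟩⟩
  · rw [Ideal.span_le]
    rintro x (rfl | rfl)
    · refine Ideal.mem_span_singleton'.mpr ⟨(↑U⁻¹ : Matrix (Fin 1) (Fin 1) R) 0 0 * (↑V⁻¹ : Matrix (Fin 2) (Fin 2) R) 0 0, ?_⟩
      have := congrFun (congrFun hA 0) 0
      simp [Matrix.mul_apply, Fin.sum_univ_two, h00, h01, -Matrix.coe_units_inv] at this
      linear_combination -this
    · refine Ideal.mem_span_singleton'.mpr ⟨(↑U⁻¹ : Matrix (Fin 1) (Fin 1) R) 0 0 * (↑V⁻¹ : Matrix (Fin 2) (Fin 2) R) 0 1, ?_⟩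
      have := congrFun (congrFun hA 0) 1
      simp [Matrix.mul_apply, Fin.sum_univ_two, h00, h01, -Matrix.coe_units_inv] at this
      linear_combination -this
  · rw [Ideal.submodule_span_eq, Ideal.span_singleton_le_iff_mem, Ideal.mem_span_pair, ← h00, hB]
    exact ⟨(U : Matrix (Fin 1) (Fin 1) R) 0 0 * (V : Matrix (Fin 2) (Fin 2) R) 0 0,
      (U : Matrix (Fin 1) (Fin 1) R) 0 0 * (V : Matrix (Fin 2) (Fin 2) R) 1 0,
      by simp [Matrix.mul_apply, Fin.sum_univ_two]; ring⟩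

end Groth.Agent.S12078
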