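import Mathlib
import Groth.Statements.S12079
-- import your own Groth.Agent.* helpers here

set_option autoImplicit false
universe u
open TensorProduct
open CAlg

namespace Groth.Agent.S12079

open scoped TensorProduct

/-- For a finitely presented `R`-module `M`, any `R`-module `N` and a flat `R`-module `L`, the canonical
map `Hom_R(M, N) ⊗_R L → Hom_R(M, N ⊗_R L)` sending `f ⊗ l` to `m ↦ f m ⊗ l` is bijective. -/
theorem result (R : Type u) [CommRing R]
    (M N L : Type u) [AddCommGroup M] [Module R M] [AddCommGroup N] [Module R N] [AddCommGroup L] [Module R L]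
    [Module.FinitePresentation R M] [Module.Flat R L] :
    Function.Bijective (TensorProduct.rTensorHomToHomRTensor (RingHom.id R) M N L) := by
  classical
  obtain ⟨n, π, hπ⟩ := Module.Finite.exists_fin' R M
  have hK : (LinearMap.ker π).FG := Module.FinitePresentation.fg_ker π hπ
  obtain ⟨m, g, hg⟩ : ∃ (m : ℕ) (g : (Fin m → R) →ₗ[R] (Fin n → R)), LinearMap.range g = LinearMap.ker π := by
    have := Module.Finite.iff_fg.2 hK
    obtain ⟨m, g', hg'⟩ := Module.Finite.exists_fin' R (LinearMap.ker π)
    exact ⟨m, (LinearMap.ker π).subtype ∘ₗ g', by rw [LinearMap.range_comp, LinearMap.range_eq_top.2 hg', Submodule.map_top, Submodule.range_subtype]⟩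
  have hfree : ∀ k : ℕ, Function.Bijective (TensorProduct.rTensorHomToHomRTensor (RingHom.id R) (Fin k → R) N L) := by
    intro k
    rw [← rTensorHomEquivHomRTensor_toLinearMap]
    exact (rTensorHomEquivHomRTensor R (Fin k → R) N L).bijective
  have hnat : ∀ {P Q : Type u} [AddCommGroup P] [Module R P] [AddCommGroup Q] [Module R Q] (u : P →ₗ[R] Q) (z : (Q →ₗ[R] N) ⊗[R] L),
      TensorProduct.rTensorHomToHomRTensor (RingHom.id R) P N L ((LinearMap.lcomp R N u).rTensor L z) =
        (TensorProduct.rTensorHomToHomRTensor (RingHom.id R) Q N L z) ∘ₗ u := by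
    intro P Q _ _ _ _ u z
    induction z using TensorProduct.induction_on with
    | zero => simp
    | tmul f l => ext p; simp
    | add a b ha hb => simp only [map_add, ha, hb, LinearMap.add_comp]
  have hex : Function.Exact (LinearMap.lcomp R N π) (LinearMap.lcomp R N g) := by
    intro f
    constructor
    · intro hf
      have hle : LinearMap.ker π ≤ LinearMap.ker f := by
        rw [← hg]
        rintro _ ⟨x, rfl⟩
        exact LinearMap.congr_fun hf x
      refine ⟨(LinearMap.ker π).liftQ f hle ∘ₗ (π.quotKerEquivOfSurjective hπ).symm.toLinearMap, LinearMap.ext fun x => ?_⟩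
      have : (π.quotKerEquivOfSurjective hπ).symm (π x) = Submodule.Quotient.mk x := by
        rw [LinearEquiv.symm_apply_eq]; rfl
      show (LinearMap.ker π).liftQ f hle ((π.quotKerEquivOfSurjective hπ).symm (π x)) = f x
      rw [this, Submodule.liftQ_apply]
    · rintro ⟨h, rfl⟩
      refine LinearMap.ext fun x => ?_
      have : g x ∈ LinearMap.ker π := hg ▸ ⟨x, rfl⟩
      show h (π (g x)) = 0
      rw [LinearMap.mem_ker.1 this, map_zero]
  have hinj : Function.Injective (LinearMap.lcomp R N π) := fun a b hab => LinearMap.ext fun y => by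
    obtain ⟨x, rfl⟩ := hπ y
    exact LinearMap.congr_fun hab x
  have hex' := Module.Flat.rTensor_exact (M := L) hex
  have hinj' := Module.Flat.rTensor_preserves_injective_linearMap (M := L) _ hinj
  constructor
  · intro a b hab
    apply hinj'
    apply (hfree n).1
    rw [hnat, hnat, hab]
  · intro y
    obtain ⟨z, hz⟩ := (hfree n).2 (y ∘ₗ π)
    have : (LinearMap.lcomp R N g).rTensor L z = 0 := by
      apply (hfree m).1
      rw [hnat, hz, map_zero]
      refine LinearMap.ext fun x => ?_
      have : g x ∈ LinearMap.ker π := hg ▸ ⟨x, rfl⟩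
      show y (π (g x)) = 0
      rw [LinearMap.mem_ker.1 this, map_zero]
    obtain ⟨w, rfl⟩ := (hex' z).1 this
    refine ⟨w, LinearMap.ext fun q => ?_⟩
    obtain ⟨x, rfl⟩ := hπ q
    rw [hnat] at hz
    exact LinearMap.congr_fun hz x

end Groth.Agent.S12079
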