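import Mathlib
import Groth.Statements.S12080
-- import your own Groth.Agent.* helpers here

set_option autoImplicit false
universe u
open TensorProduct
open CAlg

namespace Groth.Agent.S12080

/-- (1) ⇒ (2): let `M` be a finite locally free `R`-module of rank `1`, i.e. there is a set `s ⊆ R`
generating the unit ideal with `M_f ≅ R_f` as `R_f`-modules for every `f ∈ s`. Then the evaluation
map `Hom_R(M, R) ⊗_R M → R` is bijective, so `M` is invertible with inverse its dual. -/
theorem result (R : Type u) [CommRing R] (M : Type u) [AddCommGroup M]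
    [Module R M] (s : Set R) (hs : Ideal.span s = ⊤)
    (hfree : ∀ f ∈ s, Nonempty (LocalizedModule.Away f M ≃ₗ[Localization.Away f] Localization.Away f)) :
    Module.Invertible R M := by
  classical
  haveI : Module.FinitePresentation R M := Module.FinitePresentation.of_localizationSpan s hs fun g => by
    obtain ⟨e⟩ := hfree g g.2
    exact Module.FinitePresentation.of_equiv e.symm
  have hcomm : ∀ (φ : Module.Dual R M) (x y : M), φ x • y = φ y • x := by
    intro φ x y
    rw [← sub_eq_zero]
    refine Module.eq_zero_of_isLocalized_span s hs _ (fun g : s => LocalizedModule.mkLinearMap (Submonoid.powers g.1) M) _ fun g => ?_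
    obtain ⟨e⟩ := hfree g g.2
    let S' := Localization.Away (g : R)
    let mk := LocalizedModule.mkLinearMap (Submonoid.powers (g : R)) M
    let φ' : LocalizedModule.Away (g : R) M →ₗ[S'] S' :=
      LinearMap.extendScalarsOfIsLocalization (Submonoid.powers (g : R)) S'
        (IsLocalizedModule.map (Submonoid.powers (g : R)) mk (Algebra.linearMap R S') φ)
    have h1 : ∀ z : M, φ' (mk z) = algebraMap R S' (φ z) := fun z => by
      exact IsLocalizedModule.map_apply (Submonoid.powers (g : R)) mk (Algebra.linearMap R S') φ z
    have h2 : ∀ z : M, mk z = e (mk z) • e.symm 1 := fun z => by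
      rw [← map_smul, smul_eq_mul, mul_one, LinearEquiv.symm_apply_apply]
    show mk (φ x • y - φ y • x) = 0
    rw [map_sub, map_smul, map_smul, ← algebraMap_smul S' (φ x), ← algebraMap_smul S' (φ y), ← h1, ← h1]
    rw [h2 x, h2 y, map_smul, map_smul, smul_smul, smul_smul, smul_eq_mul, smul_eq_mul, ← sub_smul]
    convert zero_smul S' (e.symm (1 : S')) using 2
    ring
  let J : Ideal R := LinearMap.range (contractLeft R M)
  have hJ : J = ⊤ := by
    rw [← Ideal.radical_eq_top, eq_top_iff, ← hs, Ideal.span_le]
    intro g hg
    obtain ⟨e⟩ := hfree g hg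
    let S' := Localization.Away (g : R)
    let mk := LocalizedModule.mkLinearMap (Submonoid.powers (g : R)) M
    obtain ⟨f, ⟨_, k, rfl⟩, hf⟩ := Module.FinitePresentation.exists_lift_of_isLocalizedModule
      (Submonoid.powers g) (Algebra.linearMap R S') ((e.toLinearMap.restrictScalars R).comp mk)
    obtain ⟨⟨m, ⟨_, l, rfl⟩⟩, hm⟩ := IsLocalizedModule.surj (Submonoid.powers g) mk (e.symm 1)
    simp only [Submonoid.smul_def] at hm hf
    have h0 : algebraMap R S' (f m) = algebraMap R S' (g ^ (k + l)) := by
      have h3 := LinearMap.congr_fun hf m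
      simp only [LinearMap.comp_apply, LinearMap.smul_apply, Algebra.linearMap_apply, LinearMap.coe_restrictScalars, LinearEquiv.coe_coe] at h3
      rw [h3, ← hm, ← algebraMap_smul S' (g ^ l), map_smul, LinearEquiv.apply_symm_apply, smul_eq_mul, mul_one, Algebra.smul_def, ← map_mul, pow_add]
    obtain ⟨⟨_, n, rfl⟩, hn⟩ := (IsLocalization.eq_iff_exists (Submonoid.powers g) S').1 h0
    refine ⟨n + (k + l), ?_⟩
    rw [pow_add g n, ← show g ^ n * f m = g ^ n * g ^ (k + l) from hn]
    exact J.mul_mem_left _ ⟨f ⊗ₜ m, contractLeft_apply f m⟩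
  obtain ⟨e0, he0⟩ : (1 : R) ∈ J := hJ ▸ trivial
  refine ⟨⟨?_, fun r => ⟨r • e0, by rw [map_smul, he0, smul_eq_mul, mul_one]⟩⟩⟩
  have hdual : ∀ (φ ψ : Module.Dual R M) (m : M), φ m • ψ = ψ m • φ := fun φ ψ m => LinearMap.ext fun y => by
    have := congrArg ψ (hcomm φ m y)
    simp only [map_smul, smul_eq_mul] at this
    simp only [LinearMap.smul_apply, smul_eq_mul]
    linear_combination this
  have hz : ∀ z : TensorProduct R (Module.Dual R M) M, z = contractLeft R M z • e0 := by
    suffices ∀ (ψ : Module.Dual R M) (m : M), ψ ⊗ₜ[R] m = ψ m • e0 by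
      intro z
      induction z using TensorProduct.induction_on with
      | zero => simp
      | tmul ψ m => rw [contractLeft_apply, this]
      | add a b ha hb => conv_lhs => rw [ha, hb, ← add_smul, ← map_add]
    intro ψ m
    have key : ∀ e : TensorProduct R (Module.Dual R M) M, contractLeft R M e • (ψ ⊗ₜ[R] m) = ψ m • e := by
      intro e
      induction e using TensorProduct.induction_on with
      | zero => simp
      | add a b ha hb => rw [map_add, add_smul, ha, hb, smul_add]
      | tmul φ x => rw [contractLeft_apply, ← TensorProduct.tmul_smul, hcomm φ x m, TensorProduct.tmul_smul, TensorProduct.smul_tmul', hdual φ ψ m, ← TensorProduct.smul_tmul']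
    rw [← key e0, he0, one_smul]
  intro a b h
  rw [hz a, hz b, h]

end Groth.Agent.S12080
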