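import Groth.Statements.S12081
import Groth.Agent.EtMilLib.Glue
import Groth.Agent.EtMilLib.Pushout

set_option autoImplicit false
universe u
open TensorProduct
open EtAlg

namespace Groth.Agent.S12081

/-- Let `B' = B ×_A A'` be a fibre square of rings with `A' → A` surjective with kernel `I`, let `J =
Ker(B' → B)`, let `D'` be a `B'`-algebra and `C' = D' ⊗_{B'} A'`. Then the ideal `I C'` is, as a
subset of `C'`, the image of the ideal `J D'` under `D' → C'`; that is, the map `J D' → I C'` is
surjective. -/
theorem result (B' B A' A : Type u) [CommRing B'] [CommRing B] [CommRing A'] [CommRing A]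
    [Algebra B' B] [Algebra B' A'] [Algebra B A] [Algebra A' A] [Algebra B' A] [IsScalarTower B' B A] [IsScalarTower B' A' A]
    (hsq : EtMil.IsFibreSquare B' B A' A)
    (D' C' : Type u) [CommRing D'] [CommRing C'] [Algebra B' D'] [Algebra A' C']
    [Algebra D' C'] [Algebra B' C'] [IsScalarTower B' A' C'] [IsScalarTower B' D' C'] [Algebra.IsPushout B' A' D' C'] :
    (algebraMap D' C') '' ((RingHom.ker (algebraMap B' B)).map (algebraMap B' D') : Set D') =
      ((RingHom.ker (algebraMap A' A)).map (algebraMap A' C') : Set C') := by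
  set J := RingHom.ker (algebraMap B' B)
  set I := RingHom.ker (algebraMap A' A)
  apply Set.Subset.antisymm
  · rintro _ ⟨x, hx, rfl⟩
    have : J.map (algebraMap B' D') ≤ (I.map (algebraMap A' C')).comap (algebraMap D' C') := by
      refine Ideal.map_le_iff_le_comap.2 fun j hj => ?_
      rw [Ideal.mem_comap, Ideal.mem_comap, ← IsScalarTower.algebraMap_apply,
        IsScalarTower.algebraMap_apply B' A' C']
      exact Ideal.mem_map_of_mem _ (Groth.Agent.EtMilLib.map_eq_zero_of_left (A' := A') (A := A) hj)
    exact this hx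
  · intro c hc
    suffices h : ∃ x ∈ J.map (algebraMap B' D'), algebraMap D' C' x = c from h
    induction hc using Submodule.span_induction with
    | mem c h =>
      obtain ⟨i, hi, rfl⟩ := h
      obtain ⟨j, hj, rfl⟩ := Groth.Agent.EtMilLib.exists_lift_ker hsq i hi
      exact ⟨algebraMap B' D' j, Ideal.mem_map_of_mem _ hj,
        by rw [← IsScalarTower.algebraMap_apply, ← IsScalarTower.algebraMap_apply]⟩
    | zero => exact ⟨0, zero_mem _, map_zero _⟩
    | add a b _ _ ha hb =>
      obtain ⟨x, hx, rfl⟩ := ha; obtain ⟨y, hy, rfl⟩ := hb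
      exact ⟨x + y, add_mem hx hy, map_add _ _ _⟩
    | smul c a _ ha =>
      obtain ⟨x, hx, rfl⟩ := ha
      obtain ⟨w, rfl⟩ := (Algebra.IsPushout.equiv B' A' D' C').surjective c
      induction w using TensorProduct.induction_on with
      | zero => exact ⟨0, zero_mem _, by simp⟩
      | add a b ha hb =>
        obtain ⟨y, hy, hy'⟩ := ha; obtain ⟨z, hz, hz'⟩ := hb
        exact ⟨y + z, add_mem hy hz, by rw [map_add, hy', hz', map_add, add_smul]⟩
      | tmul a d =>
        rw [smul_eq_mul, Algebra.IsPushout.equiv_tmul, mul_assoc, ← map_mul]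
        have hdx := Ideal.mul_mem_left _ d hx
        generalize d * x = z at hdx
        induction hdx using Submodule.span_induction with
        | mem z h =>
          obtain ⟨j, hj, rfl⟩ := h
          obtain ⟨j', hj', hj''⟩ := Groth.Agent.EtMilLib.exists_lift_ker hsq (a * algebraMap B' A' j)
            (by rw [map_mul, Groth.Agent.EtMilLib.map_eq_zero_of_left hj, mul_zero])
          refine ⟨algebraMap B' D' j', Ideal.mem_map_of_mem _ hj', ?_⟩
          rw [← IsScalarTower.algebraMap_apply, ← IsScalarTower.algebraMap_apply,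
            IsScalarTower.algebraMap_apply B' A' C', IsScalarTower.algebraMap_apply B' A' C' j, hj'',
            map_mul]
        | zero => exact ⟨0, zero_mem _, by simp⟩
        | add z z' _ _ hz hz' =>
          obtain ⟨y, hy, hy'⟩ := hz; obtain ⟨y', hy₂, hy₂'⟩ := hz'
          exact ⟨y + y', add_mem hy hy₂, by rw [map_add, hy', hy₂', map_add, mul_add]⟩
        | smul e z _ hz =>
          obtain ⟨y, hy, hy'⟩ := hz
          exact ⟨e * y, Ideal.mul_mem_left _ _ hy, by rw [map_mul, hy', smul_eq_mul, map_mul]; ring⟩

end Groth.Agent.S12081
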