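import Groth.Statements.S12084
import Groth.Agent.FittIdeal.Basic
import Mathlib
-- import your own Groth.Agent.* helpers here

set_option autoImplicit false
universe u
open Fitt

namespace Groth.Agent.S12084

section Aux
open Matrix

theorem det_mem' {R : Type u} [CommRing R] {M : Type u} [AddCommGroup M] [Module R M]
    {ι : Type*} [Fintype ι] [DecidableEq ι] (x : ι → M) (hx : Submodule.span R (Set.range x) = ⊤)
    (a : Matrix ι ι R) (S : Finset ι) (r : ℕ) (hS : Fintype.card ι ≤ S.card + r)
    (ha : ∀ i ∈ S, ∑ j, a i j • x j = 0) : a.det ∈ Fitt.ideal R M r := by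
  classical
  let e : Fin (S.card + Fintype.card {i // ¬ i ∈ S}) ≃ ι :=
    finSumFinEquiv.symm.trans ((Equiv.sumCongr S.equivFin.symm (Fintype.equivFin _).symm).trans
      (Equiv.sumCompl (fun i => i ∈ S)))
  have hn := Fintype.card_congr e
  simp only [Fintype.card_fin] at hn
  refine Ideal.subset_span ⟨_, x ∘ e, a.submatrix e e, ?_, fun i hi => ?_, (det_submatrix_equiv_self e a).symm⟩
  · rw [← hx, Set.range_comp, e.range_eq_univ, Set.image_univ]
  · have hi' : (i : ℕ) < S.card := by omega
    have : e i ∈ S := by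
      have h : i = Fin.castAdd _ ⟨(i : ℕ), hi'⟩ := rfl
      have h' : finSumFinEquiv.symm i = Sum.inl ⟨(i : ℕ), hi'⟩ := by
        rw [Equiv.symm_apply_eq]; exact h.trans (finSumFinEquiv_apply_left _).symm
      simp [e, h']
    rw [← ha (e i) this]
    exact Equiv.sum_comp e (fun j => a (e i) j • x j)

theorem det_sum_split {R : Type u} [CommRing R] {n m : ℕ} (a : Matrix (Fin n ⊕ Fin m) (Fin n ⊕ Fin m) R)
    (L : Finset (Fin n ⊕ Fin m)) (h1 : ∀ i ∈ L, ∀ j, a i (.inr j) = 0) (h2 : ∀ i ∉ L, ∀ j, a i (.inl j) = 0) :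
    a.det = 0 ∨ ∃ e : Equiv.Perm (Fin n ⊕ Fin m), (∀ i, e i ∈ L ↔ i.isLeft) ∧
      a.det = ((Equiv.Perm.sign e : ℤ) : R) *
        ((a.submatrix e id).toBlocks₁₁.det * (a.submatrix e id).toBlocks₂₂.det) := by
  classical
  by_cases h : ∃ e : Equiv.Perm (Fin n ⊕ Fin m), ∀ i, e i ∈ L ↔ i.isLeft
  · obtain ⟨e, he⟩ := h
    refine Or.inr ⟨e, he, ?_⟩
    have hb : a.submatrix e id = Matrix.fromBlocks (a.submatrix e id).toBlocks₁₁ 0 0 (a.submatrix e id).toBlocks₂₂ := by
      conv_lhs => rw [← Matrix.fromBlocks_toBlocks (a.submatrix e id)]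
      congr 1
      · ext i j; exact h1 _ ((he _).2 rfl) j
      · ext i j; exact h2 _ (fun c => Bool.false_ne_true ((he (.inr i)).1 c)) j
    have hd : (a.submatrix e id).det =
        (a.submatrix e id).toBlocks₁₁.det * (a.submatrix e id).toBlocks₂₂.det := by
      conv_lhs => rw [hb]
      rw [Matrix.det_fromBlocks_zero₂₁]
    rw [← hd, Matrix.det_permute, ← mul_assoc, ← Int.cast_mul, ← Units.val_mul, Int.units_mul_self,
      Units.val_one, Int.cast_one, one_mul]
  · left
    rw [Matrix.det_apply]
    refine Finset.sum_eq_zero fun σ _ => ?_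
    push Not at h
    obtain ⟨i, hi⟩ := h σ
    have : a (σ i) i = 0 := by
      rcases i with i | i <;> rcases hi with ⟨p, q⟩ | ⟨p, q⟩ <;> simp at q
      · exact h2 _ p i
      · exact h1 _ p i
    rw [Finset.prod_eq_zero (f := fun i => a (σ i) i) (Finset.mem_univ i) this, smul_zero]

end Aux

/-- For finite `R`-modules `M`, `M'` and every `l`, the `l`-th Fitting ideal of `M ⊕ M'` equals `∑_{k +
k' = l} Fit_k(M) · Fit_{k'}(M')`; in particular `Fit_0(M ⊕ M') = Fit_0(M) · Fit_0(M')`. -/
theorem result (R : Type u) [CommRing R] (M M' : Type u) [AddCommGroup M] [Module R M]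
    [AddCommGroup M'] [Module R M'] [Module.Finite R M] [Module.Finite R M'] (l : ℕ) :
    Fitt.ideal R (M × M') l = ∑ k ∈ Finset.range (l + 1), Fitt.ideal R M k * Fitt.ideal R M' (l - k) := by
  classical
  obtain ⟨n, x, hx⟩ := Module.Finite.exists_fin (R := R) (M := M)
  obtain ⟨m, y, hy⟩ := Module.Finite.exists_fin (R := R) (M := M')
  let w : Fin n ⊕ Fin m → M × M' := Sum.elim (fun i => (x i, 0)) (fun i => (0, y i))
  have hw : Submodule.span R (Set.range w) = ⊤ := by
    rw [eq_top_iff]
    rintro ⟨p, q⟩ -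
    have hp : p ∈ Submodule.span R (Set.range x) := hx ▸ Submodule.mem_top
    have hq : q ∈ Submodule.span R (Set.range y) := hy ▸ Submodule.mem_top
    have hp' := Submodule.mem_map_of_mem (f := LinearMap.inl R M M') hp
    have hq' := Submodule.mem_map_of_mem (f := LinearMap.inr R M M') hq
    rw [Submodule.map_span] at hp' hq'
    have h1 : (LinearMap.inl R M M') '' Set.range x ⊆ Set.range w := by
      rintro _ ⟨_, ⟨i, rfl⟩, rfl⟩; exact ⟨.inl i, rfl⟩
    have h2 : (LinearMap.inr R M M') '' Set.range y ⊆ Set.range w := by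
      rintro _ ⟨_, ⟨i, rfl⟩, rfl⟩; exact ⟨.inr i, rfl⟩
    simpa using Submodule.add_mem _ (Submodule.span_mono h1 hp') (Submodule.span_mono h2 hq')
  have hrw : ∀ v : Fin n ⊕ Fin m → R, ∑ j, v j • w j = (∑ j, v (.inl j) • x j, ∑ j, v (.inr j) • y j) := by
    intro v
    ext <;> simp [w, Fintype.sum_sum_type, Prod.fst_sum, Prod.snd_sum]
  refine le_antisymm ?_ ?_
  · let e0 : Fin n ⊕ Fin m ≃ Fin (n + m) := finSumFinEquiv
    have hw0 : Submodule.span R (Set.range (w ∘ e0.symm)) = ⊤ := by
      rw [Set.range_comp, e0.symm.range_eq_univ, Set.image_univ, hw]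
    let G : Set (Fin (n + m) → R) := {v | ((∀ j, v (e0 (.inr j)) = 0) ∨ (∀ j, v (e0 (.inl j)) = 0)) ∧
      ∑ j, v j • (w ∘ e0.symm) j = 0}
    have hG : Submodule.span R G = LinearMap.ker (Fintype.linearCombination R (w ∘ e0.symm)) := by
      refine le_antisymm (Submodule.span_le.2 fun v hv => ?_) fun v hv => ?_
      · simpa [Fintype.linearCombination_apply] using hv.2
      · rw [LinearMap.mem_ker, Fintype.linearCombination_apply] at hv
        rw [← Equiv.sum_comp e0] at hv
        simp only [Function.comp_apply, Equiv.symm_apply_apply] at hv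
        rw [hrw (fun j => v (e0 j)), Prod.mk_eq_zero] at hv
        let v1 : Fin (n + m) → R := fun i => Sum.elim (fun j => v (e0 (.inl j))) (fun _ => 0) (e0.symm i)
        let v2 : Fin (n + m) → R := fun i => Sum.elim (fun _ => 0) (fun j => v (e0 (.inr j))) (e0.symm i)
        have h : v = v1 + v2 := by
          funext i
          obtain ⟨k, rfl⟩ := e0.surjective i
          rcases k with k | k <;> simp [v1, v2]
        rw [h]
        refine add_mem (Submodule.subset_span ⟨.inl fun j => by simp [v1], ?_⟩)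
          (Submodule.subset_span ⟨.inr fun j => by simp [v2], ?_⟩)
        · rw [← Equiv.sum_comp e0]
          simp only [Function.comp_apply, Equiv.symm_apply_apply]
          rw [hrw (fun j => v1 (e0 j))]
          simp [v1, hv.1]
        · rw [← Equiv.sum_comp e0]
          simp only [Function.comp_apply, Equiv.symm_apply_apply]
          rw [hrw (fun j => v2 (e0 j))]
          simp [v2, hv.2]
    rw [FittIdeal.ideal_eq _ hw0, FittIdeal.dIdeal_eq_span _ _ G hG, Ideal.span_le]
    rintro _ ⟨b, hb, rfl⟩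
    set a := b.submatrix e0 e0 with ha'
    rw [← Matrix.det_submatrix_equiv_self e0 b, ← ha']
    let S : Finset (Fin n ⊕ Fin m) := Finset.univ.filter fun i => (e0 i : ℕ) < n + m - l
    let L : Finset (Fin n ⊕ Fin m) := Finset.univ.filter fun i => ∀ j, a i (.inr j) = 0
    have hL : ∀ i ∉ L, ∀ j, a i (.inl j) = 0 := by
      intro i hi
      simp only [L, Finset.mem_filter, Finset.mem_univ, true_and] at hi
      have := hb (e0 i)
      split at this
      · exact this.1.resolve_left hi
      · obtain ⟨c, hc⟩ := this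
        obtain ⟨k, rfl⟩ := e0.surjective c
        intro j
        rcases k with k | k
        · exact absurd (fun j => by simp [a, ← hc]) hi
        · simp [a, ← hc]
    rcases det_sum_split a L (fun i hi => (Finset.mem_filter.1 hi).2) hL with h | ⟨e, he, h⟩
    · rw [h]; exact Submodule.zero_mem _
    rw [h]
    have hrel : ∀ i ∈ S, (∑ j, a i (.inl j) • x j, ∑ j, a i (.inr j) • y j) = (0 : M × M') := by
      intro i hi
      have := hb (e0 i)
      rw [if_pos (Finset.mem_filter.1 hi).2] at this
      rw [← hrw, ← this.2]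
      exact (Fintype.sum_equiv e0 _ _ fun j => by simp [a])
    let P : Finset (Fin n) := Finset.univ.filter fun i => e (.inl i) ∈ S
    let Q : Finset (Fin m) := Finset.univ.filter fun i => e (.inr i) ∈ S
    have hc : n + m - l ≤ P.card + Q.card := by
      have hS : S.card = min (n + m) (n + m - l) := by
        rw [← Fin.card_filter_val_lt]
        exact Finset.card_equiv e0 (fun i => by simp [S])
      have : (P.disjSum Q).card = S.card := Finset.card_equiv e (fun i => by cases i <;> simp [P, Q])
      rw [Finset.card_disjSum] at this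
      omega
    have hP : P.card ≤ n := (Finset.card_le_univ P).trans_eq (Fintype.card_fin n)
    have hQ : Q.card ≤ m := (Finset.card_le_univ Q).trans_eq (Fintype.card_fin m)
    obtain ⟨k, hk1, hk2, hk3⟩ : ∃ k, k ≤ l ∧ n ≤ P.card + k ∧ m ≤ Q.card + (l - k) :=
      ⟨n - P.card, by omega, by omega, by omega⟩
    refine Ideal.mul_mem_left _ _ ?_
    rw [Ideal.sum_eq_sup]
    refine Finset.le_sup (f := fun k => Fitt.ideal R M k * Fitt.ideal R M' (l - k)) (Finset.mem_range.2 (Nat.lt_succ_of_le hk1))
      (Ideal.mul_mem_mul (det_mem' x hx _ P k (by simpa using hk2) fun i hi => ?_)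
        (det_mem' y hy _ Q (l - k) (by simpa using hk3) fun i hi => ?_))
    · exact (Prod.mk_eq_zero.1 (hrel _ (Finset.mem_filter.1 hi).2)).1
    · exact (Prod.mk_eq_zero.1 (hrel _ (Finset.mem_filter.1 hi).2)).2
  · rw [Ideal.sum_eq_sup]
    refine Finset.sup_le fun k hk => ?_
    rw [FittIdeal.ideal_eq x hx, FittIdeal.ideal_eq y hy, FittIdeal.dIdeal, FittIdeal.dIdeal, Ideal.span_mul_span', Ideal.span_le]
    rintro _ ⟨_, ⟨a, ha, rfl⟩, _, ⟨b, hb, rfl⟩, rfl⟩
    show a.det * b.det ∈ _
    rw [← Matrix.det_fromBlocks_zero₂₁ a 0 b]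
    refine det_mem' w hw _ ((Finset.univ.filter fun i : Fin n => (i : ℕ) < n - k).disjSum
      (Finset.univ.filter fun i : Fin m => (i : ℕ) < m - (l - k))) l ?_ fun i hi => ?_
    · simp [Finset.card_disjSum, Fin.card_filter_val_lt]
      have := Finset.mem_range.1 hk
      omega
    · rw [hrw]
      rcases i with i | i
      · simp only [Finset.inl_mem_disjSum, Finset.mem_filter] at hi
        simp [ha i hi.2]
      · simp only [Finset.inr_mem_disjSum, Finset.mem_filter] at hi
        simp [hb i hi.2]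

end Groth.Agent.S12084
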