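import Groth.Statements.S12085
import Mathlib.RingTheory.Kaehler.Basic
import Mathlib.RingTheory.Kaehler.Polynomial
-- import your own Groth.Agent.* helpers here

set_option autoImplicit false
universe u
open TensorProduct
open CAlg

namespace Groth.Agent.S12085

theorem fu_of_D (R S : Type u) [CommRing R] [CommRing S] [Algebra R S]
    (hD : ∀ s : S, KaehlerDifferential.D R S s = 0) : Algebra.FormallyUnramified R S := by
  refine ⟨subsingleton_of_forall_eq 0 fun z => ?_⟩
  have : z ∈ Submodule.span S (Set.range (KaehlerDifferential.D R S)) := by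
    rw [KaehlerDifferential.span_range_derivation]; trivial
  induction this using Submodule.span_induction with
  | mem x hx => obtain ⟨s, rfl⟩ := hx; exact hD s
  | zero => rfl
  | add x y _ _ hx hy => rw [hx, hy, add_zero]
  | smul a x _ hx => rw [hx, smul_zero]

theorem fu_of_jac {R S : Type u} [CommRing R] [CommRing S] [Algebra R S] {n : ℕ} (x : Fin n → S)
    (hx : Function.Surjective (MvPolynomial.aeval (R := R) x)) (g : Fin n → MvPolynomial (Fin n) R)
    (hg : ∀ i, MvPolynomial.aeval x (g i) = 0)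
    (hj : ∀ i k, MvPolynomial.aeval x (MvPolynomial.pderiv k (g i)) = if i = k then 1 else 0) :
    Algebra.FormallyUnramified R S := by
  classical
  have key : ∀ p : MvPolynomial (Fin n) R, KaehlerDifferential.D R S (MvPolynomial.aeval x p) =
      ∑ k, MvPolynomial.aeval x (MvPolynomial.pderiv k p) • KaehlerDifferential.D R S (x k) := by
    intro p
    induction p using MvPolynomial.induction_on with
    | C r => simp [← MvPolynomial.algebraMap_eq]
    | add p q hp hq => simp [hp, hq, add_smul, Finset.sum_add_distrib]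
    | mul_X p i hp =>
      rw [map_mul, MvPolynomial.aeval_X, Derivation.leibniz, hp, Finset.smul_sum]
      simp [Derivation.leibniz, MvPolynomial.pderiv_X, add_smul, Finset.sum_add_distrib, smul_smul,
        Pi.single_apply, mul_comm, apply_ite, ite_smul]
  have h0 : ∀ i, KaehlerDifferential.D R S (x i) = 0 := by
    intro i
    have h1 := key (g i)
    simp only [hg, map_zero, hj, ite_smul, one_smul, zero_smul, Finset.sum_ite_eq, Finset.mem_univ,
      if_true] at h1
    exact h1.symm
  refine fu_of_D R S fun s => ?_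
  obtain ⟨p, rfl⟩ := hx s
  rw [key]
  exact Finset.sum_eq_zero fun k _ => by rw [h0, smul_zero]


theorem bc_iso {R₀ R S : Type u} [CommRing R₀] [CommRing R] [CommRing S] [Algebra R₀ R] [Algebra R S]
    {n : ℕ} (φ : MvPolynomial (Fin n) R →ₐ[R] S) (hφ : Function.Surjective φ)
    (I : Ideal (MvPolynomial (Fin n) R₀))
    (hI : ∀ q ∈ I, φ (MvPolynomial.map (algebraMap R₀ R) q) = 0)
    (hker : RingHom.ker φ.toRingHom ≤ I.map (MvPolynomial.map (algebraMap R₀ R))) :
    Nonempty (R ⊗[R₀] (MvPolynomial (Fin n) R₀ ⧸ I) ≃ₐ[R] S) := by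
  letI : Algebra R₀ S := ((algebraMap R S).comp (algebraMap R₀ R)).toAlgebra
  haveI : IsScalarTower R₀ R S := IsScalarTower.of_algebraMap_eq' rfl
  let a : MvPolynomial (Fin n) R₀ →ₐ[R₀] S :=
    (φ.restrictScalars R₀).comp (MvPolynomial.mapAlgHom (Algebra.ofId R₀ R))
  let b : (MvPolynomial (Fin n) R₀ ⧸ I) →ₐ[R₀] S := Ideal.Quotient.liftₐ I a hI
  let ψ : R ⊗[R₀] (MvPolynomial (Fin n) R₀ ⧸ I) →ₐ[R] S :=
    Algebra.TensorProduct.lift (Algebra.ofId R S) b (fun _ _ => Commute.all _ _)
  let χ : MvPolynomial (Fin n) R →ₐ[R] R ⊗[R₀] (MvPolynomial (Fin n) R₀ ⧸ I) :=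
    MvPolynomial.aeval fun k => (1 : R) ⊗ₜ[R₀] Ideal.Quotient.mk I (MvPolynomial.X k)
  have hψχ : ψ.comp χ = φ := by
    refine MvPolynomial.algHom_ext fun k => ?_
    rw [AlgHom.comp_apply, MvPolynomial.aeval_X, Algebra.TensorProduct.lift_tmul, map_one, one_mul]
    show φ (MvPolynomial.map (algebraMap R₀ R) (MvPolynomial.X k)) = _
    rw [MvPolynomial.map_X]
  have hχ0 : ∀ q, χ (MvPolynomial.map (algebraMap R₀ R) q) = (1 : R) ⊗ₜ[R₀] Ideal.Quotient.mk I q := by
    intro q
    have : (χ.restrictScalars R₀).comp (MvPolynomial.mapAlgHom (Algebra.ofId R₀ R)) =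
        (Algebra.TensorProduct.includeRight.comp (Ideal.Quotient.mkₐ R₀ I)) := by
      refine MvPolynomial.algHom_ext fun k => ?_
      simp [χ]
    exact AlgHom.congr_fun this q
  have hsurj : Function.Surjective χ := by
    intro z
    induction z using TensorProduct.induction_on with
    | zero => exact ⟨0, map_zero _⟩
    | tmul r s =>
      obtain ⟨q, rfl⟩ := Ideal.Quotient.mk_surjective s
      refine ⟨MvPolynomial.C r * MvPolynomial.map (algebraMap R₀ R) q, ?_⟩
      rw [map_mul, hχ0, ← MvPolynomial.algebraMap_eq, AlgHom.commutes,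
        Algebra.TensorProduct.algebraMap_apply, Algebra.TensorProduct.tmul_mul_tmul]
      simp
    | add x y hx hy =>
      obtain ⟨p, rfl⟩ := hx; obtain ⟨q, rfl⟩ := hy
      exact ⟨p + q, map_add _ _ _⟩
  have hker' : RingHom.ker φ.toRingHom ≤ RingHom.ker χ.toRingHom := by
    refine hker.trans (Ideal.map_le_iff_le_comap.2 fun q hq => ?_)
    show χ _ = 0
    rw [hχ0, Ideal.Quotient.eq_zero_iff_mem.2 hq, TensorProduct.tmul_zero]
  refine ⟨AlgEquiv.ofBijective ψ ⟨?_, ?_⟩⟩
  · rw [injective_iff_map_eq_zero]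
    intro z hz
    obtain ⟨p, rfl⟩ := hsurj z
    exact hker' (show φ p = 0 by rw [← hψχ]; exact hz)
  · intro s
    obtain ⟨p, rfl⟩ := hφ s
    exact ⟨χ p, AlgHom.congr_fun hψχ p⟩

/-- If `R → S` is G-unramified (of finite presentation and formally unramified), then there are a finite
type `ℤ`-algebra `R₀`, a ring map `R₀ → R` and a G-unramified ring map `R₀ → S₀` such that `S ≅ R
⊗_{R₀} S₀` as `R`-algebras (existence of an isomorphism). -/
theorem result (R : Type u) [CommRing R] (S : Type u) [CommRing S]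
    [Algebra R S] [Algebra.FinitePresentation R S] [Algebra.FormallyUnramified R S] :
    ∃ (R₀ : Type u) (_ : CommRing R₀) (_ : Algebra.FiniteType ℤ R₀) (S₀ : Type u) (_ : CommRing S₀)
      (_ : Algebra R₀ S₀) (_ : Algebra.FinitePresentation R₀ S₀) (_ : Algebra.FormallyUnramified R₀ S₀)
      (_ : Algebra R₀ R), Nonempty (R ⊗[R₀] S₀ ≃ₐ[R] S) := by
  classical
  obtain ⟨n, φ, hφ, T₀, hT₀⟩ := (inferInstance : Algebra.FinitePresentation R S).out
  letI : Algebra (MvPolynomial (Fin n) R) S := φ.toRingHom.toAlgebra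
  haveI : IsScalarTower R (MvPolynomial (Fin n) R) S := IsScalarTower.of_algebraMap_eq' φ.comp_algebraMap.symm
  let T := S ⊗[MvPolynomial (Fin n) R] Ω[MvPolynomial (Fin n) R⁄R]
  have hsurj : Function.Surjective (KaehlerDifferential.kerCotangentToTensor R (MvPolynomial (Fin n) R) S) := by
    intro x
    exact (KaehlerDifferential.exact_kerCotangentToTensor_mapBaseChange R (MvPolynomial (Fin n) R) S hφ x).1
      (Subsingleton.elim _ _)
  have hex : ∀ i : Fin n, ∃ f : MvPolynomial (Fin n) R, φ f = 0 ∧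
      ∀ k, φ (MvPolynomial.pderiv k f) = if i = k then 1 else 0 := by
    intro i
    obtain ⟨x, hx⟩ := hsurj (1 ⊗ₜ KaehlerDifferential.D _ _ (MvPolynomial.X i))
    obtain ⟨f, rfl⟩ := Ideal.toCotangent_surjective _ x
    rw [KaehlerDifferential.kerCotangentToTensor_toCotangent] at hx
    refine ⟨f.1, f.2, fun k => ?_⟩
    have := congrArg (fun z => ((KaehlerDifferential.mvPolynomialBasis R (Fin n)).baseChange S).repr z k) hx
    simp only [Module.Basis.baseChange_repr_tmul, KaehlerDifferential.mvPolynomialBasis_repr_apply,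
      KaehlerDifferential.mvPolynomialBasis_repr_D_X, Finsupp.single_apply] at this
    rw [Algebra.smul_def, mul_one] at this
    refine this.trans ?_
    split_ifs <;> simp [Algebra.smul_def]
  choose f hf0 hf using hex
  let A₀ : Subalgebra ℤ R := Algebra.adjoin ℤ ((⋃ i, ((f i).coeffs : Set R)) ∪ ⋃ t : T₀, ((t : MvPolynomial (Fin n) R).coeffs : Set R))
  have hA : Algebra.FiniteType ℤ A₀ :=
    Algebra.FiniteType.adjoin_of_finite ((Set.finite_iUnion fun i => Finset.finite_toSet _).union (Set.finite_iUnion fun i => Finset.finite_toSet _))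
  have hlift : ∀ i, ∃ g : MvPolynomial (Fin n) A₀, MvPolynomial.map (algebraMap A₀ R) g = f i := by
    intro i
    have : f i ∈ Set.range (MvPolynomial.map (algebraMap A₀ R)) := by
      rw [MvPolynomial.mem_range_map_iff_coeffs_subset]
      exact fun x hx => ⟨⟨x, Algebra.subset_adjoin (Or.inl (Set.mem_iUnion.2 ⟨i, hx⟩))⟩, rfl⟩
    exact this
  choose g hg using hlift
  have hlift' : ∀ t : T₀, ∃ τ : MvPolynomial (Fin n) A₀, MvPolynomial.map (algebraMap A₀ R) τ = t := by
    intro t
    have : (t : MvPolynomial (Fin n) R) ∈ Set.range (MvPolynomial.map (algebraMap A₀ R)) := by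
      rw [MvPolynomial.mem_range_map_iff_coeffs_subset]
      exact fun x hx => ⟨⟨x, Algebra.subset_adjoin (Or.inr (Set.mem_iUnion.2 ⟨t, hx⟩))⟩, rfl⟩
    exact this
  choose τ hτ using hlift'
  let I : Ideal (MvPolynomial (Fin n) A₀) := Ideal.span (Set.range τ ∪ (Set.range g ∪
    Set.range fun p : Fin n × Fin n => MvPolynomial.pderiv p.2 (g p.1) - if p.1 = p.2 then 1 else 0))
  let S₀ := MvPolynomial (Fin n) A₀ ⧸ I
  have hmk : MvPolynomial.aeval (R := A₀) (fun k => Ideal.Quotient.mk I (MvPolynomial.X k)) = Ideal.Quotient.mkₐ A₀ I :=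
    MvPolynomial.algHom_ext fun k => by simp
  have hunr : Algebra.FormallyUnramified A₀ S₀ := by
    refine fu_of_jac (fun k => Ideal.Quotient.mk I (MvPolynomial.X k)) ?_ g (fun i => ?_) (fun i k => ?_)
    · rw [hmk]; exact Ideal.Quotient.mk_surjective
    · rw [hmk]
      exact Ideal.Quotient.eq_zero_iff_mem.2 (Ideal.subset_span (Or.inr (Or.inl ⟨i, rfl⟩)))
    · rw [hmk, Ideal.Quotient.mkₐ_eq_mk]
      rw [show (if i = k then (1 : S₀) else 0) = Ideal.Quotient.mk I (if i = k then 1 else 0) by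
        split_ifs <;> simp]
      exact Ideal.Quotient.eq.2 (Ideal.subset_span (Or.inr (Or.inr ⟨(i, k), rfl⟩)))
  have hfp : Algebra.FinitePresentation A₀ S₀ :=
    Algebra.FinitePresentation.quotient (Submodule.fg_span
      ((Set.finite_range _).union ((Set.finite_range _).union (Set.finite_range _))))
  let a : MvPolynomial (Fin n) A₀ →ₐ[A₀] S :=
    (φ.restrictScalars A₀).comp (MvPolynomial.mapAlgHom (Algebra.ofId A₀ R))
  have ha : ∀ q, a q = φ (MvPolynomial.map (algebraMap A₀ R) q) := fun q => rfl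
  have hI : ∀ q ∈ I, a q = 0 := by
    intro q hq
    refine (Ideal.span_le (I := RingHom.ker a.toRingHom)).2 ?_ hq
    rintro _ (⟨t, rfl⟩ | ⟨i, rfl⟩ | ⟨⟨i, k⟩, rfl⟩)
    · show a (τ t) = 0
      rw [ha, hτ]
      exact RingHom.mem_ker.1 (hT₀.le (Ideal.subset_span t.2))
    · show a (g i) = 0
      rw [ha, hg, hf0]
    · show a _ = 0
      rw [ha, map_sub, ← MvPolynomial.pderiv_map, hg, map_sub, hf]
      split_ifs <;> simp
  have hker : RingHom.ker φ.toRingHom ≤ I.map (MvPolynomial.map (algebraMap A₀ R)) := by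
    refine hT₀.symm.le.trans (Ideal.span_le.2 fun t ht => ?_)
    have h := Ideal.mem_map_of_mem (MvPolynomial.map (algebraMap A₀ R))
      (Ideal.subset_span (Or.inl ⟨⟨t, ht⟩, rfl⟩) : τ ⟨t, ht⟩ ∈ I)
    rwa [hτ] at h
  exact ⟨A₀, inferInstance, hA, S₀, inferInstance, inferInstance, hfp, hunr, inferInstance,
    bc_iso φ hφ I (fun q hq => (ha q).symm.trans (hI q hq)) hker⟩

end Groth.Agent.S12085
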