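import Groth.Statements.S12091
import Mathlib

set_option autoImplicit false
universe u
open TensorProduct MvPolynomial
open FlatMor

namespace Groth.Agent.S12091

/-- Let `x_1, …, x_m` generate the `A`-module `M`, let `K ⊆ A^m` be the module of relations, `C =
Sym_A(M)` and `α : A[y_1, …, y_m] → C` the presentation with `y_j ↦ x_j`, with kernel `J`. Then the
`C`-linear map `C ⊗_A K → J/J²` sending `1 ⊗ k` to the class of `Σ_j k_j y_j` is surjective, and it
is bijective when `M` is a projective `A`-module (so that then `J/J² ≅ K ⊗_A C` and the naive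
cotangent complex of `α` is `K ⊗_A C → ⊕_j C dy_j`). (The published statement asserts `J/J² ≅ K ⊗_A
C` for every `M`. For `A = ℤ`, `M = (ℤ/2)²`, `m = 2` and the two unit vectors, `K = 2ℤ²` and the
element `y_2 ⊗ (2, 0) - y_1 ⊗ (0, 2)` of `C ⊗_A K` is non-zero but maps to the class of `y_2 · 2y_1
- y_1 · 2y_2 = 0`; in degree `2` the graded piece of `J/J²` has `8` elements and that of `K ⊗_A C`
has `16`. The published degree-by-degree computation does show that `J` is generated by the linear
forms coming from `K`, which is the surjectivity, and it is valid as written when `0 → K → A^m → M →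
0` splits, which is the projective case.) -/
theorem result (A : Type u) [CommRing A] (M : Type u)
    [AddCommGroup M] [Module A M] (m : ℕ) (x : Fin m → M)
    (hx : Function.Surjective (Fintype.linearCombination A x))
    (G : Algebra.Generators A (SymmetricAlgebra A M) (Fin m))
    (hG : ∀ j, G.val j = SymmetricAlgebra.ι A M (x j)) :
    ∃ e : SymmetricAlgebra A M ⊗[A] (LinearMap.ker (Fintype.linearCombination A x)) →ₗ[SymmetricAlgebra A M]
        G.toExtension.Cotangent,
      (∀ (k : LinearMap.ker (Fintype.linearCombination A x))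
        (hk : (∑ j, C ((k : Fin m → A) j) * X j : MvPolynomial (Fin m) A) ∈ G.toExtension.ker),
        e (1 ⊗ₜ k) = Algebra.Extension.Cotangent.mk ⟨_, hk⟩) ∧
      Function.Surjective e ∧ (Module.Projective A M → Function.Bijective e) := by
  classical
  let K := LinearMap.ker (Fintype.linearCombination A x)
  let Cs := SymmetricAlgebra A M
  let L : (Fin m → A) →ₗ[A] MvPolynomial (Fin m) A := Fintype.linearCombination A X
  have hL : ∀ k, L k = ∑ j, C (k j) * X j := fun k => by
    simp [L, Fintype.linearCombination_apply, MvPolynomial.smul_eq_C_mul]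
  let ev := aeval (R := A) G.val
  have hev : ∀ k, ev (L k) = SymmetricAlgebra.ι A M (Fintype.linearCombination A x k) := fun k => by
    simp [ev, L, Fintype.linearCombination_apply, hG]
  have hker : ∀ p : MvPolynomial (Fin m) A, p ∈ G.toExtension.ker ↔ ev p = 0 := fun p => by
    show algebraMap G.Ring Cs p = 0 ↔ _
    rw [Algebra.Generators.algebraMap_apply]
  have hmem : ∀ k : K, L k.1 ∈ G.toExtension.ker := fun k => by
    rw [hker, hev, show Fintype.linearCombination A x k.1 = 0 from k.2, map_zero]
  let e₀ : K →ₗ[A] G.toExtension.Cotangent :=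
    { toFun := fun k => Algebra.Extension.Cotangent.mk ⟨L k.1, hmem k⟩
      map_add' := fun k k' => by
        rw [← map_add]; exact congrArg _ (Subtype.ext (map_add L k.1 k'.1))
      map_smul' := fun a k => by
        rw [RingHom.id_apply, ← algebraMap_smul G.toExtension.Ring a (Algebra.Extension.Cotangent.mk _), ← map_smul]
        exact congrArg _ (Subtype.ext ((map_smul L a k.1).trans (algebraMap_smul (MvPolynomial (Fin m) A) a (L k.1)).symm)) }
  let e : Cs ⊗[A] K →ₗ[Cs] G.toExtension.Cotangent := LinearMap.liftBaseChange Cs e₀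
  have he : ∀ k, e (1 ⊗ₜ k) = Algebra.Extension.Cotangent.mk ⟨L k.1, hmem k⟩ := fun k => by
    simp [e]; rfl
  have hsurj : Function.Surjective e := by
    -- the kernel is generated by the linear forms
    let I : Ideal (MvPolynomial (Fin m) A) := Ideal.span (Set.range fun k : K => L k.1)
    let φ : (Fin m → A) →ₗ[A] MvPolynomial (Fin m) A ⧸ I := (Ideal.Quotient.mkₐ A I).toLinearMap ∘ₗ L
    have hφ : K ≤ LinearMap.ker φ := fun k hk =>
      Ideal.Quotient.eq_zero_iff_mem.2 (Ideal.subset_span ⟨⟨k, hk⟩, rfl⟩)
    let q : M →ₗ[A] MvPolynomial (Fin m) A ⧸ I := K.liftQ φ hφ ∘ₗ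
      ((Fintype.linearCombination A x).quotKerEquivOfSurjective hx).symm.toLinearMap
    have hq : ∀ k, q (Fintype.linearCombination A x k) = φ k := fun k => by
      have h : ((Fintype.linearCombination A x).quotKerEquivOfSurjective hx).symm
          (Fintype.linearCombination A x k) = K.mkQ k := by
        rw [LinearEquiv.symm_apply_eq]; rfl
      show K.liftQ φ hφ _ = _
      rw [LinearEquiv.coe_coe, h]; rfl
    have hψ : (SymmetricAlgebra.lift q).comp ev = Ideal.Quotient.mkₐ A I := algHom_ext fun j => by
      have h := hq (Pi.single j 1)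
      simp [φ, L, Fintype.linearCombination_apply_single] at h
      simpa [ev, hG] using h
    intro y
    obtain ⟨⟨p, hp⟩, rfl⟩ := Algebra.Extension.Cotangent.mk_surjective y
    have hpI : (p : MvPolynomial (Fin m) A) ∈ I := by
      refine Ideal.Quotient.eq_zero_iff_mem.1 ?_
      have h := AlgHom.congr_fun hψ (p : MvPolynomial (Fin m) A)
      rw [AlgHom.comp_apply, (hker p).1 hp, map_zero] at h
      exact h.symm
    let gen : K → G.toExtension.ker := fun k => ⟨L k.1, hmem k⟩
    let W : Submodule G.toExtension.Ring G.toExtension.ker :=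
      ((LinearMap.range e).restrictScalars G.toExtension.Ring).comap Algebra.Extension.Cotangent.mk
    have hW : Submodule.span G.toExtension.Ring (Set.range gen) ≤ W :=
      Submodule.span_le.2 fun _ ⟨k, hk⟩ => hk ▸ ⟨1 ⊗ₜ k, he k⟩
    let I' : Ideal G.toExtension.Ring := Ideal.span (Set.range fun k : K => (gen k).1)
    have hI : I' =
        (Submodule.span G.toExtension.Ring (Set.range gen)).map G.toExtension.ker.subtype := by
      rw [Submodule.map_span, ← Set.range_comp]
      rfl
    obtain ⟨⟨q, hq'⟩, hqm, hqe⟩ := Submodule.mem_map.1 (hI.le (show p ∈ I' from hpI))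
    obtain rfl : q = p := hqe
    exact hW hqm
  refine ⟨e, fun k hk => (he k).trans (congrArg _ (Subtype.ext (hL k.1))), hsurj, fun hP => ?_⟩
  refine ⟨?_, hsurj⟩
  obtain ⟨s, hs⟩ := Module.projective_lifting_property (Fintype.linearCombination A x) LinearMap.id hx
  let p : (Fin m → A) →ₗ[A] K := (LinearMap.id - s ∘ₗ Fintype.linearCombination A x).codRestrict K
    fun k => by
      rw [LinearMap.mem_ker, LinearMap.sub_apply, map_sub, LinearMap.comp_apply]
      exact sub_eq_zero.2 (LinearMap.congr_fun hs _).symm
  have hp : ∀ k : K, p k.1 = k := fun k => Subtype.ext (by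
    simp [p, show Fintype.linearCombination A x k.1 = 0 from k.2])
  let π : G.toExtension.CotangentSpace →ₗ[Cs] Cs ⊗[A] K :=
    G.cotangentSpaceBasis.constr Cs fun j => 1 ⊗ₜ p (Pi.single j 1)
  have hπ : π ∘ₗ G.toExtension.cotangentComplex ∘ₗ e = LinearMap.id := by
    refine TensorProduct.AlgebraTensorModule.ext fun c k => ?_
    rw [LinearMap.id_apply, show c ⊗ₜ[A] k = c • (1 : Cs) ⊗ₜ[A] k by
      rw [TensorProduct.smul_tmul', smul_eq_mul, mul_one], map_smul]
    congr 1
    rw [LinearMap.comp_apply, LinearMap.comp_apply, he, Algebra.Extension.cotangentComplex_mk]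
    conv_lhs => rw [← G.cotangentSpaceBasis.sum_repr (1 ⊗ₜ _)]
    rw [map_sum]
    conv_rhs => rw [← hp k, ← Finset.univ_sum_single k.1, map_sum, TensorProduct.tmul_sum]
    refine Finset.sum_congr rfl fun j _ => ?_
    rw [map_smul, Algebra.Generators.cotangentSpaceBasis_repr_one_tmul]
    have hd : pderiv j (L k.1) = C (k.1 j) := by
      simp [hL, Pi.single_apply]
    rw [show aeval G.val (pderiv j (L k.1)) = algebraMap A Cs (k.1 j) by rw [hd, aeval_C]]
    simp only [π, Module.Basis.constr_basis]
    rw [Algebra.algebraMap_eq_smul_one, smul_assoc, one_smul, ← TensorProduct.tmul_smul, ← map_smul,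
      ← Pi.single_smul, smul_eq_mul, mul_one]
  exact fun a b h => by
    have := congrArg (π ∘ₗ G.toExtension.cotangentComplex) h
    rw [← LinearMap.comp_apply, ← LinearMap.comp_apply, LinearMap.comp_assoc, hπ] at this
    exact this

end Groth.Agent.S12091
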