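import Groth.Statements.S12094
import Groth.Agent.TwoTerm.Cone
import Groth.Agent.TwoTerm.Rep
-- import your own Groth.Agent.* helpers here

set_option autoImplicit false
universe u
open CategoryTheory
attribute [local instance] HasDerivedCategory.standard
open DRing

namespace Groth.Agent.S12094

/-- (1) ⇔ (2): let `I ⊆ R` be an ideal and `K ∈ D(R)` with `H^i(K) = 0` for `i ∉ {-1, 0}`. Then some
power `I^c` annihilates `Ext¹_R(K, N) = Hom_{D(R)}(K, N[1])` for every `R`-module `N` if and only
if, for some `c`, (a) `I^c` annihilates `H^{-1}(K)` and (b) `H^0(K)` is `I^c`-projective, i.e. `I^c`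
annihilates `Ext¹_R(H^0(K), N)` for every `R`-module `N`. -/
theorem result {R : Type u} [CommRing R] (I : Ideal R) (K : Dual.D R)
    (hK : ∀ i : ℤ, i ≠ -1 → i ≠ 0 → Subsingleton (Dual.HD R K i)) :
    (∃ c : ℕ, ∀ (N : Type u) [AddCommGroup N] [Module R N] (a : R), a ∈ I ^ c →
        ∀ ξ : K ⟶ (Dual.inD R N)⟦(1 : ℤ)⟧, a • ξ = 0) ↔
      ∃ c : ℕ, (∀ a : R, a ∈ I ^ c → ∀ x : Dual.HD R K (-1), a • x = 0) ∧
        ∀ (N : Type u) [AddCommGroup N] [Module R N] (a : R), a ∈ I ^ c →
          ∀ ξ : Dual.inD R (Dual.HD R K 0) ⟶ (Dual.inD R N)⟦(1 : ℤ)⟧, a • ξ = 0 := by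
  let t : Triangulated.TStructure (Dual.D R) := DerivedCategory.TStructure.t
  let H := fun i : ℤ => DerivedCategory.homologyFunctor (ModuleCat.{u} R) i
  have hz : ∀ i : ℤ, i ≠ -1 → i ≠ 0 → Limits.IsZero ((H i).obj K) := fun i a b =>
    @ModuleCat.isZero_of_subsingleton _ _ _ (hK i a b)
  -- the piece in degree 0
  let π : K ⟶ (t.truncGE 0).obj K := (t.truncGEπ 0).app K
  haveI hgeG : DerivedCategory.IsGE ((t.truncGE 0).obj K) 0 :=
    inferInstanceAs (t.IsGE ((t.truncGE 0).obj K) 0)
  haveI hleG : DerivedCategory.IsLE ((t.truncGE 0).obj K) 0 := by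
    rw [DerivedCategory.isLE_iff]
    intro i hi
    haveI := Groth.Agent.TriH.EndNilp.isIso_homology_π K (-1) 0 i (by lia) (by lia)
    exact (hz i (by lia) (by lia)).of_iso (asIso ((H i).map π)).symm
  obtain ⟨A₀, ⟨e₀⟩⟩ := DerivedCategory.exists_iso_singleFunctor_obj_of_isGE_of_isLE ((t.truncGE 0).obj K) 0
  haveI hπ0 : IsIso ((H 0).map π) := Groth.Agent.TriH.EndNilp.isIso_homology_π K (-1) 0 0 (by lia) le_rfl
  let eG : (t.truncGE 0).obj K ≅ Dual.inD R (Dual.HD R K 0) :=
    e₀ ≪≫ (DerivedCategory.singleFunctor (ModuleCat.{u} R) 0).mapIso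
      (((DerivedCategory.singleFunctorCompHomologyFunctorIso (ModuleCat.{u} R) 0).app A₀).symm ≪≫
        (H 0).mapIso e₀.symm ≪≫ (asIso ((H 0).map π)).symm)
  constructor
  · rintro ⟨c, hc⟩
    refine ⟨c, fun a ha x => ?_, fun N _ _ a ha ξ => ?_⟩
    · obtain ⟨E, hE, hE0, ⟨e⟩⟩ := Groth.Agent.TwoTerm.exists_twoTerm_rep K hK
      let cid := Groth.Agent.TwoTerm.idCocyc hE
      have h1 : Groth.Agent.DRingPC.cls (a • cid) = 0 := by
        rw [Groth.Agent.DRingPC.cls_smul, ← cancel_epi e.inv, Limits.comp_zero, Linear.comp_smul]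
        exact hc (E.X (-1)) a ha _
      obtain ⟨h, hh⟩ :=
        (Groth.Agent.TwoTerm.cls_eq_zero_iff_one (fun i hi => hE i (Or.inr hi)) _).1 h1
      let φ := Groth.Agent.TwoTerm.homologyRepIso e (-1)
      haveI hiso : IsIso (E.homologyπ (-1)) :=
        E.isIso_homologyπ (-2) (-1) (by simp) ((hE (-2) (Or.inl (by lia))).eq_of_src _ _)
      have key : a • (E.iCycles (-1)) = 0 := by
        have : E.iCycles (-1) ≫ ModuleCat.ofHom (a • cid).1 = 0 := by
          rw [← hh, ← Category.assoc, E.iCycles_d, Limits.zero_comp]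
        refine ModuleCat.hom_ext (LinearMap.ext fun z => ?_)
        exact LinearMap.congr_fun (congrArg ModuleCat.Hom.hom this) z
      obtain ⟨z, hz'⟩ := ((ModuleCat.epi_iff_surjective (E.homologyπ (-1))).1 inferInstance) (φ.hom x)
      have hz0 : a • z = 0 := by
        apply (ModuleCat.mono_iff_injective (E.iCycles (-1))).1 inferInstance
        rw [map_smul, map_zero]
        exact LinearMap.congr_fun (congrArg ModuleCat.Hom.hom key) z
      apply φ.toLinearEquiv.injective
      rw [map_zero]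
      show φ.hom (a • x) = 0
      rw [map_smul, ← hz', ← map_smul, hz0, map_zero]
    · have hα : π ≫ eG.hom ≫ (a • ξ) = 0 := by
        rw [Linear.comp_smul, Linear.comp_smul]
        exact hc N a ha _
      have h2 : eG.hom ≫ (a • ξ) = 0 := by
        refine Groth.Agent.TwoTerm.eq_zero_of_comp π hK (fun i h1 h2 => ?_) hπ0 ?_ _ hα
        · refine ModuleCat.subsingleton_of_isZero ?_
          rcases lt_or_gt_of_ne h2 with h | h
          · exact DerivedCategory.isZero_of_isGE ((t.truncGE 0).obj K) 0 i h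
          · exact DerivedCategory.isZero_of_isLE ((t.truncGE 0).obj K) 0 i h
        · exact (DerivedCategory.isZero_of_isGE ((t.truncGE 0).obj K) 0 (-1) (by lia)).epi _
      exact (cancel_epi eG.hom).1 (h2.trans Limits.comp_zero.symm)
  · rintro ⟨c, hca, hcb⟩
    refine ⟨c + c, fun N _ _ a ha ξ => ?_⟩
    rw [pow_add] at ha
    refine Submodule.mul_induction_on ha (fun p hp q hq => ?_) (fun p q hp hq => ?_)
    · -- the piece in degree -1
      let X := (t.truncLE (-1)).obj K
      let ι : X ⟶ K := (t.truncLEι (-1)).app K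
      haveI hleX : DerivedCategory.IsLE X (-1) := inferInstanceAs (t.IsLE ((t.truncLE (-1)).obj K) (-1))
      haveI hgeX : DerivedCategory.IsGE X (-1) := by
        rw [DerivedCategory.isGE_iff]
        intro i hi
        haveI := Groth.Agent.TriH.EndNilp.isIso_homology_ι K (-1) 0 i (by lia) (by lia)
        exact (hz i (by lia) (by lia)).of_iso (asIso ((H i).map ι))
      haveI hι1 : IsIso ((H (-1)).map ι) :=
        Groth.Agent.TriH.EndNilp.isIso_homology_ι K (-1) 0 (-1) (by lia) le_rfl
      obtain ⟨A₁, ⟨e₁⟩⟩ := DerivedCategory.exists_iso_singleFunctor_obj_of_isGE_of_isLE X (-1)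
      let eA : A₁ ≅ (H (-1)).obj K :=
        ((DerivedCategory.singleFunctorCompHomologyFunctorIso (ModuleCat.{u} R) (-1)).app A₁).symm ≪≫
          (H (-1)).mapIso e₁.symm ≪≫ asIso ((H (-1)).map ι)
      have hq0 : q • 𝟙 A₁ = 0 := by
        refine ModuleCat.hom_ext (LinearMap.ext fun z => ?_)
        show q • z = 0
        apply eA.toLinearEquiv.injective
        rw [map_smul, map_zero]
        exact hca q hq _
      have h1 : q • 𝟙 X = 0 := by
        have := congrArg (fun f => e₁.hom ≫ (DerivedCategory.singleFunctor (ModuleCat.{u} R) (-1)).map f ≫ e₁.inv) hq0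
        simpa [Functor.map_smul, Linear.smul_comp, Linear.comp_smul] using this
      have h2 : ι ≫ (q • ξ) = 0 := by
        rw [Linear.comp_smul, ← Category.id_comp (ι ≫ ξ), ← Linear.smul_comp, h1, Limits.zero_comp]
      obtain ⟨η, hη⟩ := Pretriangulated.Triangle.yoneda_exact₂ _
        (t.triangleLEGE_distinguished (-1) 0 (by lia) K) (q • ξ) h2
      have h3 : p • η = 0 := by
        have := hcb N p hp (eG.inv ≫ η)
        rw [← Linear.comp_smul] at this
        exact (cancel_epi eG.inv).1 (this.trans Limits.comp_zero.symm)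
      rw [mul_smul, hη]
      exact (Linear.comp_smul _ _ _ _ _ _).symm.trans ((congrArg (_ ≫ ·) h3).trans Limits.comp_zero)
    · rw [add_smul, hp, hq, add_zero]

end Groth.Agent.S12094
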