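import Groth.Statements.S12096
import Mathlib
-- import your own Groth.Agent.* helpers here

set_option autoImplicit false
universe u
open BlowUp

namespace Groth.Agent.S12096

/-- Néron's blowup is compatible with localization. For a ring `A`, an ideal `I`, elements `π, a ∈ A`,
`A' = A[I/π] ⊆ A_π` the affine blowup algebra and `(A_a)' = A_a[I A_a/π]` that of the localization,
the canonical map `A' → (A_a)'` (the restriction of `A_π → (A_a)_π`, given here as a datum with that
compatibility) identifies `(A_a)'` with the localization `A'_a`. In Néron's situation (`I` the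
inverse image of the maximal ideal of `Λ`, `π` a uniformizer, `a ∉ I`) this reads: the Néron blowup
of `A_a` is `A'_a`; the identity holds for arbitrary `A, I, π, a`. -/
theorem result (A : Type u) [CommRing A] (I : Ideal A) (π a : A) (hπ : π ∈ I)
    (ψ : BlowUp.affineAlgebra A I π →+*
      BlowUp.affineAlgebra (Localization.Away a) (I.map (algebraMap A (Localization.Away a))) (algebraMap A (Localization.Away a) π))
    (hψ : ∀ x : BlowUp.affineAlgebra A I π,
      ((ψ x : BlowUp.affineAlgebra (Localization.Away a) (I.map (algebraMap A (Localization.Away a))) (algebraMap A (Localization.Away a) π)) :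
          Localization.Away (algebraMap A (Localization.Away a) π)) =
        Localization.awayMap (algebraMap A (Localization.Away a)) π (x : Localization.Away π)) :
    letI := ψ.toAlgebra
    IsLocalization.Away (algebraMap A (BlowUp.affineAlgebra A I π) a)
      (BlowUp.affineAlgebra (Localization.Away a) (I.map (algebraMap A (Localization.Away a))) (algebraMap A (Localization.Away a) π)) := by
  classical
  letI := ψ.toAlgebra
  have hf : ∀ b : A, (Localization.awayMap (algebraMap A (Localization.Away a)) π) (algebraMap A (Localization.Away π) b) = algebraMap (Localization.Away a) (Localization.Away (algebraMap A (Localization.Away a) π)) (algebraMap A (Localization.Away a) b) := fun b =>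
    IsLocalization.map_eq _ b
  have hφa : ((ψ (algebraMap A (BlowUp.affineAlgebra A I π) a) : (BlowUp.affineAlgebra (Localization.Away a) (I.map (algebraMap A (Localization.Away a))) (algebraMap A (Localization.Away a) π))) : Localization.Away (algebraMap A (Localization.Away a) π)) = algebraMap (Localization.Away a) _ (algebraMap A (Localization.Away a) a) := by
    rw [hψ, Subalgebra.coe_algebraMap, hf]
  have hua : IsUnit (algebraMap (Localization.Away a) (Localization.Away (algebraMap A (Localization.Away a) π)) (algebraMap A (Localization.Away a) a)) := (IsLocalization.Away.algebraMap_isUnit a).map _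
  have hT : ∀ z : (BlowUp.affineAlgebra (Localization.Away a) (I.map (algebraMap A (Localization.Away a))) (algebraMap A (Localization.Away a) π)), ∃ (k : ℕ) (w : BlowUp.affineAlgebra A I π),
      algebraMap (Localization.Away a) (Localization.Away (algebraMap A (Localization.Away a) π)) (algebraMap A (Localization.Away a) a) ^ k * z.1 = (Localization.awayMap (algebraMap A (Localization.Away a)) π) w.1 := by
    intro z
    let S' : Subalgebra (Localization.Away a) (Localization.Away (algebraMap A (Localization.Away a) π)) :=
      { carrier := {y | ∃ (k : ℕ) (w : BlowUp.affineAlgebra A I π), algebraMap (Localization.Away a) (Localization.Away (algebraMap A (Localization.Away a) π)) (algebraMap A (Localization.Away a) a) ^ k * y = (Localization.awayMap (algebraMap A (Localization.Away a)) π) w.1}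
        mul_mem' := by
          rintro y y' ⟨k, w, h⟩ ⟨k', w', h'⟩
          exact ⟨k + k', w * w', by rw [Subalgebra.coe_mul, map_mul, ← h, ← h']; ring⟩
        add_mem' := by
          rintro y y' ⟨k, w, h⟩ ⟨k', w', h'⟩
          refine ⟨k + k', algebraMap A _ (a ^ k') * w + algebraMap A _ (a ^ k) * w', ?_⟩
          simp only [Subalgebra.coe_add, Subalgebra.coe_mul, SubmonoidClass.coe_pow, Subalgebra.coe_algebraMap, map_add, map_mul, hf, map_pow, ← h, ← h']
          ring
        algebraMap_mem' := fun r => by
          obtain ⟨⟨b, ⟨_, k, rfl⟩⟩, hb⟩ := IsLocalization.surj (Submonoid.powers a) r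
          refine ⟨k, algebraMap A _ b, ?_⟩
          rw [Subalgebra.coe_algebraMap, hf, ← hb, map_mul, map_pow, map_pow]
          ring }
    have hle : (BlowUp.affineAlgebra (Localization.Away a) (I.map (algebraMap A (Localization.Away a))) (algebraMap A (Localization.Away a) π)) ≤ S' := Algebra.adjoin_le (by
      rintro _ ⟨x, hx, rfl⟩
      obtain ⟨⟨⟨i, hi⟩, ⟨_, k, rfl⟩⟩, hix⟩ := (IsLocalization.mem_map_algebraMap_iff (Submonoid.powers a) (Localization.Away a)).1 hx
      refine ⟨k, ⟨IsLocalization.mk' (Localization.Away π) i ⟨π, Submonoid.mem_powers π⟩, Algebra.subset_adjoin ⟨i, hi, rfl⟩⟩, ?_⟩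
      change _ = (Localization.awayMap (algebraMap A (Localization.Away a)) π) (IsLocalization.mk' (Localization.Away π) i ⟨π, Submonoid.mem_powers π⟩)
      rw [show (Localization.awayMap (algebraMap A (Localization.Away a)) π) (IsLocalization.mk' (Localization.Away π) i ⟨π, Submonoid.mem_powers π⟩) = IsLocalization.mk' (Localization.Away (algebraMap A (Localization.Away a) π)) (algebraMap A (Localization.Away a) i) ⟨(algebraMap A (Localization.Away a) π), Submonoid.mem_powers (algebraMap A (Localization.Away a) π)⟩ from IsLocalization.map_mk' _ i _,
        ← map_pow, IsLocalization.mul_mk'_eq_mk'_of_mul, ← show x * algebraMap A (Localization.Away a) (a ^ k) = algebraMap A (Localization.Away a) i from hix, map_pow, mul_comm])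
    exact hle z.2
  refine IsLocalization.Away.mk _ ?_ ?_ ?_
  · have hinv : IsUnit (algebraMap (Localization.Away a) (BlowUp.affineAlgebra (Localization.Away a) (I.map (algebraMap A (Localization.Away a))) (algebraMap A (Localization.Away a) π)) (algebraMap A (Localization.Away a) a)) := (IsLocalization.Away.algebraMap_isUnit a).map _
    convert hinv
    exact Subtype.ext (hφa.trans (Subalgebra.coe_algebraMap _ _).symm)
  · intro z
    obtain ⟨k, w, hw⟩ := hT z
    refine ⟨k, w, Subtype.ext ?_⟩
    rw [RingHom.algebraMap_toAlgebra, Subalgebra.coe_mul, SubmonoidClass.coe_pow, hφa, hψ w, ← hw, mul_comm]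
  · intro x y hxy
    have h1 : (Localization.awayMap (algebraMap A (Localization.Away a)) π) (x.1 - y.1) = 0 := by
      rw [map_sub, ← hψ, ← hψ, show ψ x = ψ y from hxy, sub_self]
    obtain ⟨⟨b, ⟨_, n, rfl⟩⟩, hb⟩ := IsLocalization.surj (Submonoid.powers π) (x.1 - y.1)
    have h2 : algebraMap (Localization.Away a) (Localization.Away (algebraMap A (Localization.Away a) π)) (algebraMap A (Localization.Away a) b) = 0 := by rw [← hf, ← hb, map_mul, h1, zero_mul]
    obtain ⟨⟨_, m, rfl⟩, hm⟩ := (IsLocalization.map_eq_zero_iff (Submonoid.powers (algebraMap A (Localization.Away a) π)) _ _).1 h2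
    rw [show ((algebraMap A (Localization.Away a) π) ^ m) * algebraMap A (Localization.Away a) b = algebraMap A (Localization.Away a) (π ^ m * b) by rw [map_mul, map_pow]] at hm
    obtain ⟨⟨_, k, rfl⟩, hk⟩ := (IsLocalization.map_eq_zero_iff (Submonoid.powers a) (Localization.Away a) _).1 hm
    refine ⟨k, Subtype.ext ?_⟩
    have h3 : algebraMap A (Localization.Away π) π ^ (m + n) * (algebraMap A (Localization.Away π) a ^ k * (x.1 - y.1)) = 0 := by
      have := congrArg (algebraMap A (Localization.Away π)) hk
      simp only [map_mul, map_pow, map_zero] at this hb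
      rw [← hb] at this
      rw [← this]; ring
    rw [((IsLocalization.Away.algebraMap_isUnit π).pow _).mul_right_eq_zero, mul_sub, sub_eq_zero] at h3
    simpa using h3

end Groth.Agent.S12096
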