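import Groth.Statements.S12097
import Mathlib
-- import your own Groth.Agent.* helpers here

set_option autoImplicit false
universe u
open BlowUp

namespace Groth.Agent.S12097

/-- Néron's blowup is compatible with closed immersions. For a surjective ring map `B → A` with kernel
`J`, an ideal `I ⊆ B` containing `π`, and the affine blowup algebras `B' = B[I/π] ⊆ B_π`, `A' =
A[IA/π] ⊆ A_π`, the canonical map `B' → A'` (the restriction of `B_π → A_π`, given as a datum with
that compatibility) is surjective with kernel the elements `x` such that `π^n x ∈ J B'` for some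
`n`: `A'` is the quotient of `B'/JB'` by its `π`-power torsion. In Néron's situation (`I` the
inverse image of the maximal ideal of `Λ`, `π` a uniformizer) this is the printed functoriality; the
identity holds for any surjection. -/
theorem result (B A : Type u) [CommRing B] [CommRing A] [Algebra B A]
    (hq : Function.Surjective (algebraMap B A)) (I : Ideal B) (π : B) (hπ : π ∈ I)
    (ψ : BlowUp.affineAlgebra B I π →+* BlowUp.affineAlgebra A (I.map (algebraMap B A)) (algebraMap B A π))
    (hψ : ∀ x : BlowUp.affineAlgebra B I π,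
      ((ψ x : BlowUp.affineAlgebra A (I.map (algebraMap B A)) (algebraMap B A π)) : Localization.Away (algebraMap B A π)) =
        Localization.awayMap (algebraMap B A) π (x : Localization.Away π)) :
    Function.Surjective ψ ∧
      ∀ x : BlowUp.affineAlgebra B I π, x ∈ RingHom.ker ψ ↔
        ∃ n : ℕ, algebraMap B (BlowUp.affineAlgebra B I π) π ^ n * x ∈
          (RingHom.ker (algebraMap B A)).map (algebraMap B (BlowUp.affineAlgebra B I π)) := by
  classical
  set π' := algebraMap B A π
  set f := Localization.awayMap (algebraMap B A) π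
  have hf : ∀ b : B, f (algebraMap B (Localization.Away π) b) = algebraMap A (Localization.Away π') (algebraMap B A b) := fun b =>
    IsLocalization.map_eq _ b
  have hval : ∀ z : BlowUp.affineAlgebra A (I.map (algebraMap B A)) π', z.1 ∈
      Subring.map f (BlowUp.affineAlgebra B I π).toSubring := by
    intro z
    let S' : Subalgebra A (Localization.Away π') :=
      { (Subring.map f (BlowUp.affineAlgebra B I π).toSubring) with
        algebraMap_mem' := fun a => by
          obtain ⟨b, rfl⟩ := hq a
          exact ⟨algebraMap B _ b, (BlowUp.affineAlgebra B I π).algebraMap_mem b, hf b⟩ }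
    refine (Algebra.adjoin_le (S := S') ?_ : BlowUp.affineAlgebra A (I.map (algebraMap B A)) π' ≤ S') z.2
    rintro _ ⟨x, hx, rfl⟩
    obtain ⟨b, hb, rfl⟩ := (Ideal.mem_map_iff_of_surjective (algebraMap B A) hq).1 hx
    refine ⟨IsLocalization.mk' (Localization.Away π) b ⟨π, Submonoid.mem_powers π⟩, Algebra.subset_adjoin ⟨b, hb, rfl⟩, ?_⟩
    exact IsLocalization.map_mk' _ b _
  refine ⟨fun z => ?_, fun x => ⟨fun hx => ?_, ?_⟩⟩
  · obtain ⟨w, hw, hwz⟩ := hval z
    exact ⟨⟨w, hw⟩, Subtype.ext ((hψ _).trans hwz)⟩
  · rw [RingHom.mem_ker] at hx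
    have hx' : f x.1 = 0 := by rw [← hψ x, hx]; rfl
    obtain ⟨⟨b, ⟨_, n, rfl⟩⟩, hb⟩ := IsLocalization.surj (Submonoid.powers π) x.1
    have h1 : algebraMap A (Localization.Away π') (algebraMap B A b) = 0 := by
      rw [← hf, ← hb, map_mul, hx', zero_mul]
    obtain ⟨⟨_, m, rfl⟩, hm⟩ := (IsLocalization.map_eq_zero_iff (Submonoid.powers π') _ _).1 h1
    refine ⟨m + n, ?_⟩
    have h2 : algebraMap B (BlowUp.affineAlgebra B I π) π ^ (m + n) * x = algebraMap B (BlowUp.affineAlgebra B I π) (π ^ m * b) := by
      refine Subtype.ext ?_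
      simp only [Subalgebra.coe_mul, SubmonoidClass.coe_pow, Subalgebra.coe_algebraMap, map_mul, map_pow] at hb ⊢
      rw [← hb]; ring
    rw [h2]
    exact Ideal.mem_map_of_mem _ (by rw [RingHom.mem_ker, map_mul, map_pow]; exact hm)
  · rintro ⟨n, hn⟩
    have hJ : ∀ y ∈ (RingHom.ker (algebraMap B A)).map (algebraMap B (BlowUp.affineAlgebra B I π)), f y.1 = 0 := by
      intro y hy
      refine Submodule.span_induction ?_ ?_ ?_ ?_ hy
      · rintro _ ⟨b, hb, rfl⟩
        rw [Subalgebra.coe_algebraMap, hf, RingHom.mem_ker.1 hb, map_zero]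
      · exact map_zero _
      · intro u v _ _ hu hv; rw [Subalgebra.coe_add, map_add, hu, hv, add_zero]
      · intro c u _ hu; rw [smul_eq_mul, Subalgebra.coe_mul, map_mul, hu, mul_zero]
    have h := hJ _ hn
    rw [Subalgebra.coe_mul, SubmonoidClass.coe_pow, map_mul, map_pow, Subalgebra.coe_algebraMap, hf] at h
    have hu : IsUnit (algebraMap A (Localization.Away π') π' ^ n) := (IsLocalization.Away.algebraMap_isUnit π').pow n
    rw [hu.mul_right_eq_zero] at h
    rw [RingHom.mem_ker]
    exact Subtype.ext ((hψ x).trans h)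

end Groth.Agent.S12097
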