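import Groth.Statements.S12111
import Groth.Agent.HilbPoly.PushForm
import Groth.Agent.PicTwist.Basic
import Groth.Agent.ProjCoh.Syzygy
import Groth.Agent.CohVanish.AffineMorphism
import Groth.Agent.ClosedExt.Basic
import Groth.Agent.S1647
import Groth.Agent.ProjCoh.Structure

set_option autoImplicit false
set_option backward.isDefEq.respectTransparency false
universe u
open CategoryTheory CategoryTheory.Limits AlgebraicGeometry
open Pic13

open Groth.Agent Groth.Agent.InvBasic Groth.Agent.ProjUniv Groth.Agent.InvPow Groth.Agent.QCohLib Groth.Agent.HilbPoly Groth.Agent.CurveDeg Groth.Agent.CohFinite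
set_option linter.style.haveILetI false

namespace Groth.Agent.S12111

/-- Let k be an algebraically closed field, i : X ⟶ P^n_k a closed immersion and O_X(1) = i^*O(1). If a
coherent O_X-module F is m-regular (H^q(X, F(m - q)) = 0 for every q ≥ 1) then for every integer n'
≥ m, F is n'-regular and F(n') is generated by its global sections. (The published statement is for
a projective k-scheme with an ample O_X(1) generated by its sections at the points of the support of
F; this row is the case of a closed subscheme of projective space.) -/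
theorem result (k : Type u) [Field k] [IsAlgClosed k] (n : ℕ) {X : Scheme.{u}}
    (i : X ⟶ CohB1.ProjSpace n k) [IsClosedImmersion i] (F : X.Modules) (hF : Coh.IsCoh F) (m : ℤ)
    (h : Pic13.IsMRegular k i F m) (n' : ℤ) (hn' : m ≤ n') :
    Pic13.IsMRegular k i F n' ∧ Curv2.IsGloballyGenerated (Pic13.twistOn k i F n') := by
  let P := Scheme.Modules.pushforward i
  haveI : IsLocallyNoetherian (CohB1.ProjSpace n k) :=
    haveI := Groth.Agent.InvPow.isProper_toSpec n k
    LocallyOfFiniteType.isLocallyNoetherian (CohB1.ProjSpace.toSpec n k)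
  have hPF : Coh.IsCoh (P.obj F) := isCoh_pushforward i hF
  haveI : (P.obj F).IsQuasicoherent := hPF.1
  have ht : ∀ d : ℤ, (Pic13.twistOn k i F d).IsQuasicoherent := fun d =>
    (HilbPoly.isCoh_tensorMod hF (isInvertible_pullback i
      (Groth.Agent.ProjTwist.isInvertible_twist (Groth.Agent.ProjCoh.hasUnit_polyGrading d)))).1
  have hproj : ∀ d : ℤ,
      Nonempty (CohB1.tensorMod (P.obj F) (Twist.twistProjSpace n k d) ≅ P.obj (Pic13.twistOn k i F d)) :=
    fun d => nonempty_push_tensor i F (Twist.twistProjSpace n k d)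
  have hcmp : ∀ (d : ℤ) (q : ℕ),
      Subsingleton (Coh.HH X (Pic13.twistOn k i F d) q) ↔
        Subsingleton (Coh.HH (CohB1.ProjSpace n k)
          (CohB1.tensorMod (P.obj F) (Twist.twistProjSpace n k d)) q) := fun d q => by
    haveI := ht d
    obtain ⟨b⟩ := Groth.Agent.CohVanish.nonempty_HH_push_equiv i (Pic13.twistOn k i F d) q
    obtain ⟨e⟩ := hproj d
    constructor
    · intro h
      haveI : Subsingleton (Coh.HH (CohB1.ProjSpace n k) (P.obj (Pic13.twistOn k i F d)) q) :=
        b.symm.injective.subsingleton
      exact exists_vanishing_ample.subsingleton_HH_of_iso e ‹_›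
    · intro h
      haveI : Subsingleton (Coh.HH (CohB1.ProjSpace n k) ((Coh.push i).obj (Pic13.twistOn k i F d)) q) :=
        exists_vanishing_ample.subsingleton_HH_of_iso e.symm h
      exact b.injective.subsingleton
  have hreg : Curv2.IsMRegular k n (P.obj F) m := fun q hq _ => (hcmp (m - q) q).1 (h q hq)
  have hreg' : Curv2.IsMRegular k n (P.obj F) n' :=
    (Groth.Agent.ProjCoh.regT_iff (K := k) (n := n) (P.obj F) n').2
      (((Groth.Agent.ProjCoh.regT_iff (K := k) (n := n) (P.obj F) m).1 hreg).mono hn')
  refine ⟨fun q hq => (hcmp (n' - q) q).2 ?_, ?_⟩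
  · by_cases hqn : q ≤ n
    · exact hreg' q hq hqn
    · haveI : (CohB1.tensorMod (P.obj F) (Twist.twistProjSpace n k (n' - q))).IsQuasicoherent :=
        (HilbPoly.isCoh_tensorMod hPF
          (Groth.Agent.ProjTwist.isInvertible_twist (Groth.Agent.ProjCoh.hasUnit_polyGrading _))).1
      exact Groth.Agent.ProjCoh.subsingleton_HH_of_lt _ q (by omega)
  · obtain ⟨ι, p, hp⟩ := Groth.Agent.S1647.result k n (P.obj F) hPF n' hreg'
    obtain ⟨e⟩ := hproj n'
    let G := Scheme.Modules.pullback i
    haveI : G.IsLeftAdjoint := ⟨_, ⟨Scheme.Modules.pullbackPushforwardAdjunction i⟩⟩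
    haveI : IsIso ((Scheme.Modules.pullbackPushforwardAdjunction i).counit.app (Pic13.twistOn k i F n')) :=
      Groth.Agent.ClosedExt.isIso_counit i _
    haveI : Epi (p ≫ e.hom) := epi_comp _ _
    haveI : Epi (G.map (p ≫ e.hom)) := inferInstance
    exact ⟨ι, (Groth.Agent.QCohLib.pullbackFreeIso i ι).inv ≫ G.map (p ≫ e.hom) ≫
      (Scheme.Modules.pullbackPushforwardAdjunction i).counit.app (Pic13.twistOn k i F n'),
      epi_comp' inferInstance (epi_comp' inferInstance inferInstance)⟩
end Groth.Agent.S12111
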