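import Groth.Statements.S12112
import Groth.Agent.HilbPoly.HdimPush
import Groth.Agent.PicTwist.Basic
import Groth.Agent.ProjCoh.HyperplaneReg

set_option autoImplicit false
set_option backward.isDefEq.respectTransparency false
universe u
open CategoryTheory CategoryTheory.Limits AlgebraicGeometry
open Pic13

open Groth.Agent Groth.Agent.InvBasic Groth.Agent.ProjUniv Groth.Agent.InvPow Groth.Agent.QCohLib Groth.Agent.HilbPoly Groth.Agent.CurveDeg Groth.Agent.CohFinite
set_option backward.isDefEq.respectTransparency false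
set_option linter.style.haveILetI false

namespace Groth.Agent.S12112

/-- Let k be an algebraically closed field, i : X ⟶ P^n_k a closed k-immersion, O_X(1) = i^*O(1), and F,
G coherent O_X-modules with a short exact sequence 0 → F(-1) → F → G → 0 and G m-regular. Then (i)
H^q(X, F(n')) = 0 for q ≥ 2 and n' ≥ m - q; (ii) h^1(F(n' - 1)) ≥ h^1(F(n')) for n' ≥ m - 1, h^1
being the dimension over k; (iii) H^1(X, F(n')) = 0 for n' ≥ (m - 1) + h^1(F(m - 1)); in particular
F is (m + h^1(F(m - 1)))-regular. (The published statement takes F(-1) → F given by a section of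
O_X(1); the printed argument uses only the short exact sequence and its twists, so any short exact
sequence of this shape is allowed here.) -/
theorem result (k : Type u) [Field k] [IsAlgClosed k] (n : ℕ) (X : Scheme.{u})
    [X.Over (Spec (CommRingCat.of k))] (i : X ⟶ CohB1.ProjSpace n k) [IsClosedImmersion i]
    (hi : i ≫ CohB1.ProjSpace.toSpec n k = X ↘ Spec (CommRingCat.of k))
    (F G : X.Modules) (hF : Coh.IsCoh F) (hG : Coh.IsCoh G)
    (f : Pic13.twistOn k i F (-1) ⟶ F) (g : F ⟶ G) (hfg : f ≫ g = 0) (hS : (ShortComplex.mk f g hfg).ShortExact)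
    (m : ℤ) (hGm : Pic13.IsMRegular k i G m) :
    (∀ (q : ℕ) (n' : ℤ), 2 ≤ q → m - q ≤ n' → Subsingleton (Coh.HH X (Pic13.twistOn k i F n') q)) ∧
    (∀ n' : ℤ, m - 1 ≤ n' →
      Module.finrank k (Coh.HH X (Pic13.twistOn k i F n') 1) ≤ Module.finrank k (Coh.HH X (Pic13.twistOn k i F (n' - 1)) 1)) ∧
    (∀ n' : ℤ, (m - 1) + (Module.finrank k (Coh.HH X (Pic13.twistOn k i F (m - 1)) 1) : ℤ) ≤ n' →
      Subsingleton (Coh.HH X (Pic13.twistOn k i F n') 1)) ∧
    Pic13.IsMRegular k i F (m + Module.finrank k (Coh.HH X (Pic13.twistOn k i F (m - 1)) 1)) := by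
  haveI : IsProper (CohB1.ProjSpace.toSpec n k) := Groth.Agent.InvPow.isProper_toSpec n k
  haveI : IsProper ((CohB1.ProjSpace n k) ↘ Spec (CommRingCat.of k)) :=
    Groth.Agent.InvPow.isProper_toSpec n k
  haveI : IsProper (X ↘ Spec (CommRingCat.of k)) := hi ▸ inferInstance
  have hover : (⟨i ≫ ((CohB1.ProjSpace n k) ↘ Spec (CommRingCat.of k))⟩ : X.Over (Spec (CommRingCat.of k))) =
      (inferInstance : X.Over (Spec (CommRingCat.of k))) := by
    rename_i inst _ _
    cases inst
    congr
  let P := Scheme.Modules.pushforward i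
  have hPF : Coh.IsCoh (P.obj F) := isCoh_pushforward i hF
  have hPG : Coh.IsCoh (P.obj G) := isCoh_pushforward i hG
  have ht : ∀ (N : X.Modules) (d : ℤ), Coh.IsCoh N → Coh.IsCoh (Pic13.twistOn k i N d) := fun N d hN =>
    HilbPoly.isCoh_tensorMod hN (isInvertible_pullback i
      (Groth.Agent.ProjTwist.isInvertible_twist (Groth.Agent.ProjCoh.hasUnit_polyGrading d)))
  have hproj : ∀ (N : X.Modules) (d : ℤ),
      Nonempty (CohB1.tensorMod (P.obj N) (Twist.twistProjSpace n k d) ≅ P.obj (Pic13.twistOn k i N d)) :=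
    fun N d => nonempty_push_tensor i N (Twist.twistProjSpace n k d)
  have hdimeq : ∀ (N : X.Modules) (d : ℤ) (q : ℕ), Coh.IsCoh N →
      hdim k (CohB1.ProjSpace n k) (CohB1.tensorMod (P.obj N) (Twist.twistProjSpace n k d)) q =
        hdim k X (Pic13.twistOn k i N d) q := fun N d q hN => by
    obtain ⟨e⟩ := hproj N d
    haveI := (ht N d hN).1
    have h := hdim_push i k (Pic13.twistOn k i N d) q
    rw [hover] at h
    exact (hdim_congr k e q).trans h
  have hfin : ∀ (N : X.Modules) (d : ℤ) (q : ℕ), Coh.IsCoh N →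
      (Subsingleton (Coh.HH (CohB1.ProjSpace n k)
          (CohB1.tensorMod (P.obj N) (Twist.twistProjSpace n k d)) q) ↔
        Subsingleton (Coh.HH X (Pic13.twistOn k i N d) q)) := fun N d q hN => by
    haveI := finite_HH (k := k) (X := X) (ht N d hN) q
    haveI := finite_HH (k := k) (X := CohB1.ProjSpace n k)
      (isCoh_of_iso (hproj N d).some.symm (isCoh_pushforward i (ht N d hN))) q
    rw [← Module.finrank_zero_iff (R := k), ← Module.finrank_zero_iff (R := k)]
    have h := hdimeq N d q hN
    unfold hdim at h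
    omega
  obtain ⟨e1⟩ := hproj F (-1)
  let ι : CohB1.tensorMod (P.obj F) (Twist.twistProjSpace n k (-1)) ⟶ P.obj F := e1.hom ≫ P.map f
  haveI : P.PreservesHomology := Groth.Agent.ModGroth.PushStalk.preservesHomology_push i
  haveI : PreservesFiniteColimits P := Functor.preservesFiniteColimits_of_preservesHomology P
  have hSP : ((ShortComplex.mk f g hfg).map P).ShortExact := hS.map_of_exact P
  haveI : Mono (P.map f) := hSP.mono_f
  haveI : Mono ι := mono_comp _ _
  let eC : cokernel ι ≅ P.obj G :=
    cokernelEpiComp e1.hom (P.map f) ≪≫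
      IsColimit.coconePointUniqueUpToIso (cokernelIsCokernel (P.map f)) hSP.gIsCokernel
  have hGm' : Curv2.IsMRegular k n (cokernel ι) m := fun q hq _ => by
    haveI := (hfin G (m - q) q hG).2 (hGm q hq)
    exact exists_vanishing_ample.subsingleton_HH_of_iso
      (ProjTwist.nonempty_tensorMod_iso eC (Iso.refl (Twist.twistProjSpace n k (m - q)))).some ‹_›
  obtain ⟨h1, h2, h3, h4⟩ := Groth.Agent.ProjCoh.hyperplane_regularity (n := n) (P.obj F) hPF ι m hGm'
  have hr : ∀ d : ℤ, Module.finrank k (Coh.HH (CohB1.ProjSpace n k)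
        (CohB1.tensorMod (P.obj F) (Twist.twistProjSpace n k d)) 1) =
      Module.finrank k (Coh.HH X (Pic13.twistOn k i F d) 1) := fun d => by
    have h := hdimeq F d 1 hF
    unfold hdim at h
    omega
  refine ⟨fun q n' hq hn' => (hfin F n' q hF).1 (h1 q n' hq hn'), fun n' hn' => ?_,
    fun n' hn' => (hfin F n' 1 hF).1 (h3 n' (by rw [hr]; exact hn')), fun q hq => ?_⟩
  · rw [← hr, ← hr]
    exact h2 n' hn'
  · refine (hfin F _ q hF).1 ?_
    by_cases hq1 : q = 1
    · subst hq1
      refine h3 _ ?_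
      rw [hr]
      push_cast
      omega
    · exact h1 q _ (by omega) (by omega)
end Groth.Agent.S12112
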