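import Groth.Statements.S12113
import Groth.Agent.FpqcTorsor.LocalSections
import Mathlib.Tactic.Group
-- import your own Groth.Agent.* helpers here

set_option autoImplicit false
set_option linter.style.haveILetI false
set_option backward.isDefEq.respectTransparency false
universe u
open CategoryTheory CategoryTheory.Limits MonoidalCategory CartesianMonoidalCategory MonObj AlgebraicGeometry
open SGA7

namespace Groth.Agent.S12113

/-- Group schemes, fppf site: over a base scheme S, let P and G be S-group schemes with G commutative,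
and let u : G → E, v : E → P and u' : G → E', v' : E' → P be homomorphisms forming sequences 1 → G →
E → P → 1 and 1 → G → E' → P → 1 exact for the fppf topology. Suppose every morphism of S-schemes P
×_S P → G trivial on P × e_P and on e_P × P is trivial. Let f : E → E' be a morphism of S-schemes
over P (f ≫ v' = v) and under G (u ≫ f = u'), preserving the unit section, and compatible with left
and right translations by G: for all points g of G and x of E with values in any S-scheme, f(u(g) x)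
= u'(g) f(x) and f(x u(g)) = f(x) u'(g). Then f is a homomorphism of S-group schemes: such
extensions have no non-multiplicative morphisms of their underlying rigidified bitorsors. (The
published statement is for sheaves of groups on an arbitrary topos and phrased as full faithfulness
of the functor from extensions to rigidified bitorsors; this row is the case of representable
sheaves on the fppf site of S, with G commutative so that the defect of multiplicativity descends to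
P ×_S P as in the printed argument. Morphisms to a group scheme form a group; trivial means equal to
its unit.) -/
theorem result (S : Scheme.{u})
    (P G E E' : Over S) [GrpObj P] [GrpObj G] [GrpObj E] [GrpObj E'] [IsCommMonObj G]
    (u : G ⟶ E) (v : E ⟶ P) (hex : NonAbH1.IsExactSeq Scheme.fppfPrecoverage u v)
    (u' : G ⟶ E') (v' : E' ⟶ P) (hex' : NonAbH1.IsExactSeq Scheme.fppfPrecoverage u' v')
    (hPP : ∀ c : P ⊗ P ⟶ G, lift (𝟙 P) (toUnit P ≫ η[P]) ≫ c = 1 → lift (toUnit P ≫ η[P]) (𝟙 P) ≫ c = 1 → c = 1)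
    (f : E ⟶ E') (hv : f ≫ v' = v) (hu : u ≫ f = u') (h1 : η[E] ≫ f = η[E'])
    (hl : ∀ (T : Over S) (g : T ⟶ G) (x : T ⟶ E), ((g ≫ u) * x) ≫ f = (g ≫ u') * (x ≫ f))
    (hr : ∀ (T : Over S) (g : T ⟶ G) (x : T ⟶ E), (x * (g ≫ u)) ≫ f = (x ≫ f) * (g ≫ u')) :
    IsMonHom f := by
  haveI := hex.1
  haveI := hex.2.1
  haveI := hex'.1
  haveI := hex'.2.1
  have hker : ∀ {T : Over S} (w : T ⟶ E), w ≫ v = 1 → ∃ g : T ⟶ G, g ≫ u = w := by
    intro T w hw
    obtain ⟨l, h1, h2⟩ := hex.2.2.2.1.exists_lift (1 : T ⟶ E) w (by rw [hw, MonObj.one_comp])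
    refine ⟨l ≫ snd E G, ?_⟩
    have e : l ≫ (E ◁ u) ≫ μ[E] = (l ≫ fst E G) * (l ≫ snd E G ≫ u) := by
      rw [Hom.mul_def, ← Category.assoc]
      congr 1
      apply CartesianMonoidalCategory.hom_ext <;> simp
    rw [e, h1, _root_.one_mul] at h2
    rw [Category.assoc, h2]
  let x : E ⊗ E ⟶ E := fst E E
  let y : E ⊗ E ⟶ E := snd E E
  let d : E ⊗ E ⟶ E' := (x * y) ≫ f * (y ≫ f)⁻¹ * (x ≫ f)⁻¹
  have hd : d ≫ v' = 1 := by
    simp only [d, MonObj.mul_comp, GrpObj.inv_comp, Category.assoc, hv]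
    rw [_root_.mul_assoc, ← _root_.mul_inv_rev, mul_inv_cancel]
  obtain ⟨l, hl1, hl2⟩ := hex'.2.2.2.1.exists_lift (1 : E ⊗ E ⟶ E') d (by rw [hd, MonObj.one_comp])
  let c : E ⊗ E ⟶ G := l ≫ snd E' G
  have hc : c ≫ u' = d := by
    have e : l ≫ (E' ◁ u') ≫ μ[E'] = (l ≫ fst E' G) * (l ≫ snd E' G ≫ u') := by
      rw [Hom.mul_def, ← Category.assoc]
      congr 1
      apply CartesianMonoidalCategory.hom_ext <;> simp
    rw [e, hl1, _root_.one_mul] at hl2
    rw [Category.assoc, hl2]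
  have hinj : ∀ {T : Over S} (g g' : T ⟶ G), g ≫ u' = g' ≫ u' → g = g' := by
    intro T g g' h
    have : lift (1 : T ⟶ E') g = lift (1 : T ⟶ E') g' := by
      refine hex'.2.2.2.1.hom_ext (by simp) ?_
      have e : ∀ k : T ⟶ G, lift (1 : T ⟶ E') k ≫ (E' ◁ u') ≫ μ[E'] = k ≫ u' := fun k => by
        rw [lift_whiskerLeft_assoc, ← Hom.mul_def, _root_.one_mul]
      rw [e, e, h]
    simpa using congrArg (fun k => k ≫ snd E' G) this
  have hcT : ∀ {T : Over S} (U : T ⟶ E ⊗ E), (U ≫ c) ≫ u' =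
      ((U ≫ x) * (U ≫ y)) ≫ f * ((U ≫ y) ≫ f)⁻¹ * ((U ≫ x) ≫ f)⁻¹ := fun U => by
    rw [Category.assoc, hc]
    simp [d, MonObj.comp_mul, GrpObj.comp_inv, ← Category.assoc, MonObj.comp_mul]
  have hvv : FpqcTorsor.LocSections ((v ▷ E) ≫ (P ◁ v)) := by
    have hv1 : FpqcTorsor.LocSections v := by
      obtain ⟨R, hR, hsec⟩ := hex.2.2.2.2
      exact ⟨R, Scheme.fppfPrecoverage_le_fpqcPrecoverage _ hR, hsec⟩
    exact (hv1.whiskerRight E).comp (hv1.whiskerLeft P)
  obtain ⟨t, ht⟩ := hvv.exists_desc c (fun {T} U V hUV => by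
    have hx : (U ≫ x) ≫ v = (V ≫ x) ≫ v := by
      simpa [x] using congrArg (fun k => k ≫ fst P P) hUV
    have hy : (U ≫ y) ≫ v = (V ≫ y) ≫ v := by
      simpa [y] using congrArg (fun k => k ≫ snd P P) hUV
    obtain ⟨g, hg⟩ := hker ((U ≫ x) * (V ≫ x)⁻¹) (by rw [MonObj.mul_comp, GrpObj.inv_comp, hx, mul_inv_cancel])
    obtain ⟨g', hg'⟩ := hker ((V ≫ y)⁻¹ * (U ≫ y)) (by rw [MonObj.mul_comp, GrpObj.inv_comp, hy, inv_mul_cancel])
    have hx' : U ≫ x = (g ≫ u) * (V ≫ x) := by rw [hg, inv_mul_cancel_right]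
    have hy' : U ≫ y = (V ≫ y) * (g' ≫ u) := by rw [hg', mul_inv_cancel_left]
    refine hinj _ _ ?_
    rw [hcT U, hx', hy', ← _root_.mul_assoc, hr, hr, _root_.mul_assoc (g ≫ u), hl, hl, _root_.mul_inv_rev, _root_.mul_inv_rev]
    calc g ≫ u' * ((V ≫ x) * (V ≫ y)) ≫ f * g' ≫ u' * ((g' ≫ u')⁻¹ * ((V ≫ y) ≫ f)⁻¹) * (((V ≫ x) ≫ f)⁻¹ * (g ≫ u')⁻¹)
        = g ≫ u' * (((V ≫ x) * (V ≫ y)) ≫ f * ((V ≫ y) ≫ f)⁻¹ * ((V ≫ x) ≫ f)⁻¹) * (g ≫ u')⁻¹ := by group
      _ = (g * (V ≫ c) * g⁻¹) ≫ u' := by rw [← hcT V, MonObj.mul_comp, MonObj.mul_comp, GrpObj.inv_comp]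
      _ = (V ≫ c) ≫ u' := by rw [_root_.mul_comm g, mul_inv_cancel_right])
  have h1' : (1 : 𝟙_ (Over S) ⟶ E) ≫ f = 1 := by simpa [Hom.one_def] using h1
  have hf1 : ∀ {T : Over S}, (1 : T ⟶ E) ≫ f = 1 := fun {T} => by
    simp only [Hom.one_def, Category.assoc, h1]
  have hv1' : FpqcTorsor.LocSections v := by
    obtain ⟨R, hR, hsec⟩ := hex.2.2.2.2
    exact ⟨R, Scheme.fppfPrecoverage_le_fpqcPrecoverage _ hR, hsec⟩
  have htT : ∀ {T : Over S} (a b : T ⟶ E), lift (a ≫ v) (b ≫ v) ≫ t = lift a b ≫ c := fun a b => by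
    rw [← ht, ← Category.assoc]
    congr 1
    apply CartesianMonoidalCategory.hom_ext <;> simp
  have hzero : t = 1 := by
    refine hPP t (hv1'.epi ?_) (hv1'.epi ?_)
    · have e : v ≫ lift (𝟙 P) (toUnit P ≫ η[P]) = lift ((𝟙 E) ≫ v) ((1 : E ⟶ E) ≫ v) := by
        apply CartesianMonoidalCategory.hom_ext <;> simp [Hom.one_def]
      rw [← Category.assoc, e, htT, MonObj.comp_one]
      refine hinj _ _ ?_
      rw [hcT, MonObj.one_comp]
      simp [x, y, hf1]
    · have e : v ≫ lift (toUnit P ≫ η[P]) (𝟙 P) = lift ((1 : E ⟶ E) ≫ v) ((𝟙 E) ≫ v) := by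
        apply CartesianMonoidalCategory.hom_ext <;> simp [Hom.one_def]
      rw [← Category.assoc, e, htT, MonObj.comp_one]
      refine hinj _ _ ?_
      rw [hcT, MonObj.one_comp]
      simp [x, y, hf1]
  have hc1 : d = 1 := by rw [← hc, ← ht, hzero, MonObj.comp_one, MonObj.one_comp]
  have hmul : (x * y) ≫ f = (x ≫ f) * (y ≫ f) := by
    have := hc1
    simp only [d, mul_inv_eq_one] at this
    rw [← this]; group
  constructor
  · exact h1
  · have e1 : x * y = μ[E] := by simp [x, y, Hom.mul_def]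
    have e2 : (x ≫ f) * (y ≫ f) = (f ⊗ₘ f) ≫ μ[E'] := by simp [x, y, Hom.mul_def]
    rw [← e1, hmul, e2]

end Groth.Agent.S12113
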