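import Mathlib
import Groth.Statements.S12118
-- import your own Groth.Agent.* helpers here

set_option autoImplicit false
universe u v
open EGA41

namespace Groth.Agent.S12118

/-- Let A be a commutative ring, M an A-module, (M_k)_{k ≥ 0} a decreasing filtration of M by submodules
with M_0 = M and ⋂_k M_k = 0, and f an element of A which is a non-zero-divisor on every graded
piece M_k/M_{k+1} (equivalently on the associated graded module). Then (i) f is a non-zero-divisor
on M, and (ii) M_k ∩ fM = fM_k for every k ≥ 0. -/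
theorem result {A : Type u} [CommRing A] {M : Type v} [AddCommGroup M] [Module A M]
    (F : ℕ → Submodule A M) (hanti : Antitone F) (h0 : F 0 = ⊤) (hsep : ⨅ k, F k = ⊥) (f : A)
    (hreg : ∀ k : ℕ, IsSMulRegular (↥(F k) ⧸ Submodule.comap (F k).subtype (F (k + 1))) f) :
    IsSMulRegular M f ∧ ∀ k : ℕ, F k ⊓ (Ideal.span {f} • (⊤ : Submodule A M)) = Ideal.span {f} • F k := by
  have step : ∀ (k : ℕ) (x : M), x ∈ F k → f • x ∈ F (k + 1) → x ∈ F (k + 1) := by
    intro k x hx hfx
    have : (Submodule.Quotient.mk (⟨x, hx⟩ : F k) : ↥(F k) ⧸ Submodule.comap (F k).subtype (F (k + 1))) = 0 := by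
      apply hreg k
      simp only [smul_zero]
      rw [← Submodule.Quotient.mk_smul, Submodule.Quotient.mk_eq_zero]
      exact hfx
    rwa [Submodule.Quotient.mk_eq_zero] at this
  have all : ∀ (k : ℕ) (x : M), f • x ∈ F k → x ∈ F k := by
    intro k
    induction k with
    | zero => intro x _; rw [h0]; trivial
    | succ k ih => exact fun x hfx => step k x (ih x (hanti (Nat.le_succ k) hfx)) hfx
  refine ⟨fun x y hxy => ?_, fun k => ?_⟩
  · rw [← sub_eq_zero, ← Submodule.mem_bot A, ← hsep, Submodule.mem_iInf]
    exact fun k => all k _ (by rw [smul_sub, sub_eq_zero.2 hxy]; exact zero_mem _)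
  · rw [Submodule.ideal_span_singleton_smul, Submodule.ideal_span_singleton_smul]
    ext x
    simp only [Submodule.mem_inf, Submodule.mem_smul_pointwise_iff_exists, Submodule.mem_top, true_and]
    constructor
    · rintro ⟨hx, m, rfl⟩
      exact ⟨m, all k m hx, rfl⟩
    · rintro ⟨m, hm, rfl⟩
      exact ⟨Submodule.smul_mem _ _ hm, m, rfl⟩

end Groth.Agent.S12118
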