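import Groth.Statements.S12120
import Groth.Agent.TFun.BaseChange

set_option autoImplicit false
universe u
open FlatCx

namespace Groth.Agent.S12120

open CategoryTheory in
/-- Let P be a chain complex of flat A-modules over a commutative ring A, B any commutative A-algebra
and P_B the base-changed complex. If the functor M ↦ H_p(P ⊗_A M) on A-modules takes surjections to
surjections (resp. injections to injections), then so does N ↦ H_p(P_B ⊗_B N) on B-modules. (The
converse for B faithfully flat over A is a separate statement.) -/
theorem result {A : Type u} [CommRing A]
    (P : ChainComplex (ModuleCat.{u} A) ℤ) (hP : ∀ i, Module.Flat A (P.X i)) (B : Type u) [CommRing B]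
    [Algebra A B] (p : ℤ) :
    ((CohIII.TFun P p).PreservesEpimorphisms →
        (CohIII.TFun (CohIII.bcCx (algebraMap A B) P) p).PreservesEpimorphisms) ∧
      ((CohIII.TFun P p).PreservesMonomorphisms →
        (CohIII.TFun (CohIII.bcCx (algebraMap A B) P) p).PreservesMonomorphisms) := by
  constructor
  · intro h
    have := (TFun.preservesEpi_iff P hP (sub_add_cancel p 1)).1 h
    exact (TFun.preservesEpi_bc_iff P B hP (sub_add_cancel p 1)).2 inferInstance
  · intro h
    have := (TFun.preservesMono_iff P hP rfl).1 h
    exact (TFun.preservesMono_bc_iff P B hP rfl).2 inferInstance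

end Groth.Agent.S12120
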