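import Groth.Statements.S12121
import Groth.Agent.DepthLib.LocalSequence

set_option autoImplicit false
universe u
open EGA4

namespace Groth.Agent.S12121

open RingTheory.Sequence in
theorem exists_numerators {A : Type u} [CommRing A] (g : A) (rs : List (Localization.Away g)) :
    ∀ {M : Type u} [AddCommGroup M] [Module A M],
      IsWeaklyRegular (LocalizedModule (Submonoid.powers g) M) rs →
      ∃ as : List A, as.length = rs.length ∧
        Ideal.ofList rs = Ideal.ofList (as.map (algebraMap A (Localization.Away g))) ∧
        DepthLib.RegOn (Submonoid.powers g) M as := by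
  induction rs with
  | nil => intro M _ _ _; exact ⟨[], rfl, by simp, DepthLib.regOn_nil _ M⟩
  | cons x rs ih =>
    intro M _ _ hreg
    rw [isWeaklyRegular_cons_iff] at hreg
    obtain ⟨⟨a, s⟩, hxs⟩ := IsLocalization.surj (Submonoid.powers g) x
    have hu := IsLocalization.map_units (Localization.Away g) s
    have hareg : IsSMulRegular (LocalizedModule (Submonoid.powers g) M) (algebraMap A (Localization.Away g) a) := by
      rw [← hxs]; exact hreg.1.mul (hu.isSMulRegular _)
    have hsp : Ideal.span {x} = Ideal.span {algebraMap A (Localization.Away g) a} := by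
      rw [← hxs, Ideal.span_singleton_mul_right_unit hu]
    let e : QuotSMulTop x (LocalizedModule (Submonoid.powers g) M) ≃ₗ[Localization.Away g]
        QuotSMulTop (algebraMap A (Localization.Away g) a) (LocalizedModule (Submonoid.powers g) M) :=
      Submodule.quotEquivOfEq _ _ (by
        rw [← Submodule.ideal_span_singleton_smul, hsp, Submodule.ideal_span_singleton_smul])
    obtain ⟨as, hlen, hid, has⟩ := ih (M := QuotSMulTop a M)
      (((e.trans (DepthLib.localizedQuotSMulTopEquiv (M := M) (Submonoid.powers g) a)).isWeaklyRegular_congr rs).mp hreg.2)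
    refine ⟨a :: as, by simp [hlen], ?_, (DepthLib.regOn_cons_iff _ a as).mpr
      ⟨(DepthLib.isSMulRegular_localizedModule_iff _ a).mp hareg, has⟩⟩
    rw [List.map_cons, Ideal.ofList_cons, Ideal.ofList_cons, hid, hsp]

theorem mem_associatedPrimes_away_iff {A : Type u} [CommRing A] [IsNoetherianRing A] (g : A) {M : Type u}
    [AddCommGroup M] [Module A M] (as : List A) (P : Ideal (Localization.Away g)) :
    P ∈ associatedPrimes (Localization.Away g) (LocalizedModule (Submonoid.powers g) M ⧸
        (Ideal.ofList (as.map (algebraMap A (Localization.Away g))) •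
          (⊤ : Submodule (Localization.Away g) (LocalizedModule (Submonoid.powers g) M)))) ↔
      P.comap (algebraMap A (Localization.Away g)) ∈ associatedPrimes A (M ⧸ (Ideal.ofList as • ⊤ : Submodule A M)) := by
  obtain ⟨e⟩ := DepthLib.nonempty_localizedQuotListEquiv (Submonoid.powers g) as M
  rw [LinearEquiv.AssociatedPrimes.eq e,
    ← Module.associatedPrimes.preimage_comap_associatedPrimes_eq_associatedPrimes_of_isLocalizedModule
      (Submonoid.powers g) (Localization.Away g)
      (LocalizedModule.mkLinearMap (Submonoid.powers g) (M ⧸ (Ideal.ofList as • ⊤ : Submodule A M)))]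
  rfl


/-- Let A be a Noetherian ring, M a finite A-module (a coherent sheaf on X = Spec A) and k ≥ 1. Then M
has property (S_k) — depth M_p ≥ min(k, dim M_p) at every prime p — if and only if, for every basic
open set D(g) of X, every integer r < k and every M_g-regular sequence f_1, …, f_r in A_g, the
module M_g/(f_1, …, f_r)M_g has no embedded associated primes, i.e. no associated prime of it
strictly contains another one. (The published statement quantifies over all open subsets of a
locally Noetherian scheme; both sides being local, over an affine scheme the basic open sets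
suffice.) -/
theorem result (k : ℕ) (hk : 1 ≤ k) (A : Type u) [CommRing A] [IsNoetherianRing A]
    (M : Type u) [AddCommGroup M] [Module A M] [Module.Finite A M] :
    LocCoh.HasSk k A M ↔
      ∀ (g : A) (rs : List (Localization.Away g)), rs.length < k →
        RingTheory.Sequence.IsWeaklyRegular (LocalizedModule (Submonoid.powers g) M) rs →
        ∀ p ∈ associatedPrimes (Localization.Away g)
            (LocalizedModule (Submonoid.powers g) M ⧸
              (Ideal.ofList rs • (⊤ : Submodule (Localization.Away g) (LocalizedModule (Submonoid.powers g) M)))),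
          ∀ q ∈ associatedPrimes (Localization.Away g)
            (LocalizedModule (Submonoid.powers g) M ⧸
              (Ideal.ofList rs • (⊤ : Submodule (Localization.Away g) (LocalizedModule (Submonoid.powers g) M)))),
            p ≤ q → p = q := by
  constructor
  · intro hS g rs hlen hreg P hP Q hQ hPQ
    by_contra hne
    obtain ⟨as, has, hideal, hregas⟩ := exists_numerators g rs hreg
    rw [← has] at hlen
    set N := M ⧸ (Ideal.ofList as • ⊤ : Submodule A M)
    have hass : ∀ P', P' ∈ associatedPrimes (Localization.Away g)
        (LocalizedModule (Submonoid.powers g) M ⧸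
          (Ideal.ofList rs • (⊤ : Submodule (Localization.Away g) (LocalizedModule (Submonoid.powers g) M)))) →
        P'.comap (algebraMap A (Localization.Away g)) ∈ associatedPrimes A N ∧
          g ∉ P'.comap (algebraMap A (Localization.Away g)) := by
      intro P' hP'
      refine ⟨(mem_associatedPrimes_away_iff g as P').mp (hideal ▸ hP'), fun hg => ?_⟩
      exact (IsAssociatedPrime.isPrime hP').ne_top (Ideal.eq_top_of_isUnit_mem _ hg
        (IsLocalization.map_units _ (⟨g, Submonoid.mem_powers g⟩ : Submonoid.powers g)))
    obtain ⟨hp, hgp⟩ := hass P hP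
    obtain ⟨hq, hgq⟩ := hass Q hQ
    set p := P.comap (algebraMap A (Localization.Away g))
    set q := Q.comap (algebraMap A (Localization.Away g))
    haveI := IsAssociatedPrime.isPrime hq
    have hlt : p < q := lt_of_le_of_ne (Ideal.comap_mono hPQ) fun h => hne (by
      rw [← IsLocalization.map_under (Submonoid.powers g) (Localization.Away g) P,
        ← IsLocalization.map_under (Submonoid.powers g) (Localization.Away g) Q,
        show P.under A = Q.under A from h])
    have hJq : ∀ a ∈ as, a ∈ q := fun a ha => DepthLib.annihilator_le_of_mem_associatedPrimes hq (by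
      rw [Module.mem_annihilator]
      intro z
      obtain ⟨z, rfl⟩ := Submodule.Quotient.mk_surjective _ z
      rw [← Submodule.Quotient.mk_smul, Submodule.Quotient.mk_eq_zero]
      exact Submodule.smul_mem_smul (Ideal.subset_span ha) trivial)
    have hregq : DepthLib.RegOn q.primeCompl M as := hregas.mono (fun s hs => ⟨1, by
      obtain ⟨n, rfl⟩ := hs
      rw [one_mul]
      exact pow_mem (show g ∈ q.primeCompl from hgq) n⟩)
    haveI hN : Nontrivial (LocalizedModule q.primeCompl N) :=
      DepthLib.mem_support_of_mem_associatedPrimes (p := q) hq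
    haveI : Nontrivial (LocalizedModule q.primeCompl M) :=
      (LocalizedModule.map_surjective q.primeCompl (Ideal.ofList as • ⊤ : Submodule A M).mkQ
        (Submodule.mkQ_surjective _)).nontrivial
    obtain ⟨hd, hs⟩ := DepthLib.depth_supportDim_quot_list q hJq hregq
    rw [(DepthLib.depth_localization_eq_zero_iff q).mpr hq, zero_add] at hd
    have hpos := (DepthLib.supportDim_localization_pos_iff (M := N) q).mpr ⟨p, hp, hlt⟩
    obtain ⟨dN, hdN⟩ := DepthLib.exists_nat_supportDim (R := Localization.AtPrime q) (LocalizedModule q.primeCompl N)
    rw [hdN] at hs hpos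
    have hk' := hS q
    rw [← hd, ← hs] at hk'
    have hpos' : 0 < dN := by exact_mod_cast hpos
    rcases min_le_iff.mp hk' with h3 | h3
    · have : k ≤ as.length := by exact_mod_cast h3
      omega
    · have : dN + as.length ≤ as.length := by exact_mod_cast h3
      omega
  · intro h p _
    rcases subsingleton_or_nontrivial (LocalizedModule p.primeCompl M) with hsub | hnt
    · rw [DepthLib.depth_eq_top_of_subsingleton]
      exact le_top
    obtain ⟨r, hr⟩ := DepthLib.exists_nat_depth (R := Localization.AtPrime p) (LocalizedModule p.primeCompl M)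
    by_cases hrk : k ≤ r
    · refine (min_le_left _ _).trans ?_
      rw [hr]
      exact WithBot.coe_le_coe.mpr (Nat.cast_le.mpr hrk)
    obtain ⟨g, hg, as, hlen, hasp, hreg⟩ := DepthLib.exists_regOn_of_depth_eq r p hr
    obtain ⟨hd, hs⟩ := DepthLib.depth_supportDim_quot_list p hasp (hreg _ ⟨1, by rwa [one_mul]⟩)
    set N := M ⧸ (Ideal.ofList as • ⊤ : Submodule A M)
    rw [hr, hlen] at hd
    have hpN : p ∈ associatedPrimes A N := (DepthLib.depth_localization_eq_zero_iff p).mp
      ((ENat.add_left_injective_of_ne_top (ENat.coe_ne_top r)) (hd.trans (zero_add _).symm))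
    refine (min_le_right _ _).trans ?_
    rw [← hs, hr, hlen]
    have hzero : Module.supportDim (Localization.AtPrime p) (LocalizedModule p.primeCompl N) ≤ 0 := by
      rw [← not_lt, DepthLib.supportDim_localization_pos_iff]
      rintro ⟨q, hq, hlt⟩
      haveI := IsAssociatedPrime.isPrime hq
      have hdisj : ∀ (I : Ideal A) [I.IsPrime], I ≤ p → (I.map (algebraMap A (Localization.Away g))).comap
          (algebraMap A (Localization.Away g)) = I := fun I _ hI =>
        IsLocalization.comap_map_of_isPrime_disjoint (Submonoid.powers g) (Localization.Away g) ‹_›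
          (Set.disjoint_left.mpr fun a ⟨n, hn⟩ ha => hg (‹p.IsPrime›.mem_of_pow_mem n (hI ((show g ^ n = a from hn) ▸ ha))))
      have hmem : ∀ (I : Ideal A) [I.IsPrime], I ≤ p → I ∈ associatedPrimes A N →
          I.map (algebraMap A (Localization.Away g)) ∈ associatedPrimes (Localization.Away g)
            (LocalizedModule (Submonoid.powers g) M ⧸ (Ideal.ofList (as.map (algebraMap A (Localization.Away g))) •
              (⊤ : Submodule (Localization.Away g) (LocalizedModule (Submonoid.powers g) M)))) :=
        fun I _ hI hIN => (mem_associatedPrimes_away_iff g as _).mpr (by rwa [hdisj I hI])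
      have heq := h g (as.map (algebraMap A (Localization.Away g))) (by rw [List.length_map, hlen]; omega)
        (hreg _ ⟨1, by rw [one_mul]; exact Submonoid.mem_powers g⟩)
        _ (hmem q hlt.le hq) _ (hmem p le_rfl hpN) (Ideal.map_mono hlt.le)
      exact hlt.ne (by rw [← hdisj q hlt.le, heq, hdisj p le_rfl])
    calc Module.supportDim (Localization.AtPrime p) (LocalizedModule p.primeCompl N) + (r : WithBot ℕ∞)
        ≤ 0 + (r : WithBot ℕ∞) := add_le_add hzero le_rfl
      _ = _ := zero_add _

end Groth.Agent.S12121
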