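import Groth.Statements.S12123
import Groth.Agent.ProConsLib.Affine

set_option autoImplicit false
universe u
open EGA41

namespace Groth.Agent.S12123

open AlgebraicGeometry Topology in
/-- Let X be a quasi-separated scheme and X^cons its underlying set with the constructible topology,
generated by the quasi-compact open subsets and their complements (for X quasi-separated this is the
topology whose open sets are the ind-constructible subsets). Then X^cons is a Hausdorff, locally
compact, totally disconnected space. (The published statement also asserts that X^cons is Hausdorff
only if X is quasi-separated; for the topology used here that converse fails when X is not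
quasi-separated, where the two constructible topologies differ, so it is not part of this row.) -/
theorem result (X : Scheme.{u}) [QuasiSeparatedSpace X] :
    T2Space (WithConstructibleTopology X) ∧ LocallyCompactSpace (WithConstructibleTopology X) ∧
      TotallyDisconnectedSpace (WithConstructibleTopology X) := by
  let e : X ≃ WithConstructibleTopology X := (WithTopology.equiv X _).symm
  let h : @Homeomorph (WithConstructibleTopology X) X _ (constructibleTopology X) :=
    @Homeomorph.mk (WithConstructibleTopology X) X _ (constructibleTopology X) e.symm
      (WithTopology.continuous_ofTopology _) (WithTopology.continuous_toTopology _)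
  have h2 : T2Space (WithConstructibleTopology X) :=
    @Homeomorph.t2Space _ _ (constructibleTopology X) _ ProConsLib.t2_cons_qs (@Homeomorph.symm _ _ _ (constructibleTopology X) h)
  have hs : TotallySeparatedSpace (WithConstructibleTopology X) := by
    refine totallySeparatedSpace_iff_exists_isClopen.2 fun x y hxy => ?_
    obtain ⟨U, hU, hx, hy⟩ := (@totallySeparatedSpace_iff_exists_isClopen X (constructibleTopology X)).1
      ProConsLib.totallySeparated_cons_qs (fun hh => hxy (e.symm.injective hh))
    exact ⟨e.symm ⁻¹' U, ⟨@IsClosed.preimage _ _ _ (constructibleTopology X) _ (WithTopology.continuous_ofTopology _) _ hU.1,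
      @IsOpen.preimage _ _ _ (constructibleTopology X) _ (WithTopology.continuous_ofTopology _) _ hU.2⟩, hx, hy⟩
  have hw : WeaklyLocallyCompactSpace (WithConstructibleTopology X) := ⟨fun x => by
    obtain ⟨K, hK, hKx⟩ := @WeaklyLocallyCompactSpace.exists_compact_mem_nhds X (constructibleTopology X)
      ProConsLib.weaklyLocallyCompact_cons (e.symm x)
    exact ⟨e '' K, @IsCompact.image _ _ (constructibleTopology X) _ _ _ hK (WithTopology.continuous_toTopology _), by
      rw [Equiv.image_eq_preimage_symm]
      exact @ContinuousAt.preimage_mem_nhds _ _ _ (constructibleTopology X) _ _ _
        (@Continuous.continuousAt _ _ _ (constructibleTopology X) _ _ (WithTopology.continuous_ofTopology _)) hKx⟩⟩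
  exact ⟨h2, inferInstance, inferInstance⟩

end Groth.Agent.S12123
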