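import Groth.Statements.S12124
import Groth.Agent.MoriNagata.Essential
import Groth.Agent.MoriNagata.Dvr

set_option autoImplicit false
universe u
open CAlg

namespace Groth.Agent.S12124

/-- Let A be a Noetherian local domain with fraction field K and A' its integral closure in K. Then A'
is a Krull domain whose essential valuation rings come from a finite sub-A-algebra: there is a
sub-A-algebra C of K, finite over A, such that, writing V_p for the integral closure in K of the
local ring C_p at a height-one prime p of C (the elements x of K with s x integral over C for some s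
in C outside p), (a) each V_p is a discrete valuation ring with fraction field K, (b) A' is the
intersection of the V_p over all height-one primes p of C, and (c) every element of K lies in V_p
for all but finitely many p. (The published statement calls C local and also records that A' is
semi-local; this row does not assert that C is local, and the semi-locality of A' is a separate
result.) -/
theorem result {A : Type u} [CommRing A] [IsDomain A] [IsNoetherianRing A] [IsLocalRing A] :
    ∃ C : Subalgebra A (FractionRing A), Module.Finite A C ∧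
      (∀ (p : Ideal C) [p.IsPrime], p.height = 1 →
        ∃ V : ValuationSubring (FractionRing A), IsDiscreteValuationRing V ∧
          ∀ x : FractionRing A, x ∈ V ↔ ∃ s : C, s ∉ p ∧ IsIntegral C ((s : FractionRing A) * x)) ∧
      (∀ x : FractionRing A, x ∈ integralClosure A (FractionRing A) ↔
        ∀ (p : Ideal C) [p.IsPrime], p.height = 1 → ∃ s : C, s ∉ p ∧ IsIntegral C ((s : FractionRing A) * x)) ∧
      (∀ x : FractionRing A, {p : Ideal C | p.IsPrime ∧ p.height = 1 ∧
        ¬ ∃ s : C, s ∉ p ∧ IsIntegral C ((s : FractionRing A) * x)}.Finite) := by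
  classical
  let K := FractionRing A
  let A' := integralClosure A K
  obtain ⟨Bad, hBad, hBadp, hbad1, hbad2⟩ := MoriNagata.exists_bad_finite A K
  let U : Set (Ideal A') := ⋃ p ∈ Bad, {P | P.IsPrime ∧ P.comap (algebraMap A A') = p}
  have hU : U.Finite := hBad.biUnion fun p hp => by
    have := hBadp p hp
    exact MoriNagata.finite_primes_over A K p
  have := hU.to_subtype
  have hsep : ∀ q : U × U, ∃ z : A', q.1 ≠ q.2 → ¬ (z ∈ q.1.1 ↔ z ∈ q.2.1) := fun q => by
    by_cases h : q.1 = q.2
    · exact ⟨0, fun hne => absurd h hne⟩
    · by_contra hne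
      push Not at hne
      exact h (Subtype.ext (Ideal.ext fun z => (hne z).2))
  choose z hz using hsep
  let G : Set K := Set.range fun q => (z q : K)
  have hG : G.Finite := Set.finite_range _
  let C : Subalgebra A K := Algebra.adjoin A G
  have hCfg : (Subalgebra.toSubmodule C).FG :=
    fg_adjoin_of_finite hG (by rintro _ ⟨q, rfl⟩; exact (z q).2)
  have hCfin : Module.Finite A C := Module.Finite.iff_fg.mpr hCfg
  have hCA' : C ≤ A' := Algebra.adjoin_le (by rintro _ ⟨q, rfl⟩; exact (z q).2)
  let j : C →ₐ[A] A' := Subalgebra.inclusion hCA'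
  have hzC : ∀ q, ∃ c : C, j c = z q := fun q =>
    ⟨⟨_, Algebra.subset_adjoin ⟨q, rfl⟩⟩, Subtype.ext rfl⟩
  let _ : Algebra C A' := j.toRingHom.toAlgebra
  have : IsScalarTower A C A' := IsScalarTower.of_algebraMap_eq fun a => (j.commutes a).symm
  have : Algebra.IsIntegral C A' := Algebra.IsIntegral.tower_top A
  have : Algebra.IsIntegral A C := Algebra.IsIntegral.of_finite A C
  have : IsNoetherianRing C := IsNoetherianRing.of_finite A C
  have : IsFractionRing C K := by
    have : FaithfulSMul C K := (faithfulSMul_iff_algebraMap_injective C K).mpr Subtype.val_injective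
    refine IsFractionRing.of_field C K fun x => ?_
    obtain ⟨a, b, _, rfl⟩ := IsFractionRing.div_surjective (A := A) x
    exact ⟨algebraMap A C a, algebraMap A C b, rfl⟩
  have hjA : ∀ P : Ideal A', (P.comap (algebraMap C A')).comap (algebraMap A C) = P.comap (algebraMap A A') :=
    fun P => by rw [Ideal.comap_comap, ← IsScalarTower.algebraMap_eq]
  -- a strict inequality downstairs lifts
  have hcomapU : ∀ P P' : Ideal A', P.IsPrime → P'.IsPrime →
      P.comap (algebraMap A A') ∈ Bad → P.comap (algebraMap C A') = P'.comap (algebraMap C A') → P = P' := by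
    intro P P' hP hP' hpB he
    by_contra hne
    have h' : P'.comap (algebraMap A A') = P.comap (algebraMap A A') := by rw [← hjA, ← hjA, he]
    let q : U × U := (⟨P, Set.mem_biUnion hpB ⟨hP, rfl⟩⟩, ⟨P', Set.mem_biUnion hpB ⟨hP', h'⟩⟩)
    obtain ⟨c, hc⟩ := hzC q
    refine hz q (fun e => hne (congrArg Subtype.val e)) ?_
    rw [← hc]
    exact (SetLike.ext_iff.mp he c : _)
  have hincomp : ∀ P : Ideal A', P.IsPrime → (P.comap (algebraMap C A')).height = 1 → P.height = 1 := by
    intro P hP h1
    refine le_antisymm ((Ideal.height_le_iff (p := P) (n := 1)).mpr fun Q hQ hQP => ?_) ?_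
    · have h0 := Ideal.height_le_iff.mp h1.le _ inferInstance (Ideal.IsIntegral.comap_lt_comap (R := C) hQP)
      rw [Nat.cast_one, Order.lt_one_iff, Ideal.height_eq_zero_iff_eq_bot] at h0 ⊢
      exact Ideal.IsIntegral.eq_bot_of_comap_eq_bot C h0
    · refine Order.one_le_iff_pos.mpr (pos_iff_ne_zero.mpr fun e => ?_)
      rw [Ideal.height_eq_zero_iff_eq_bot] at e
      have hk : RingHom.ker (algebraMap C A') = ⊥ := (RingHom.injective_iff_ker_eq_bot _).mp
        (fun a b h => Subtype.ext (congrArg (fun w : A' => (w : K)) h))
      rw [e, ← RingHom.ker_eq_comap_bot, hk, Ideal.height_bot] at h1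
      exact zero_ne_one h1
  have huniq : ∀ P P' : Ideal A', P.IsPrime → P'.IsPrime → (P.comap (algebraMap C A')).height = 1 →
      P.comap (algebraMap C A') = P'.comap (algebraMap C A') → P = P' := by
    intro P P' hP hP' h1 he
    by_cases hpB : P.comap (algebraMap A A') ∈ Bad
    · exact hcomapU P P' hP hP' hpB he
    have hP1 := hincomp P hP h1
    refine hbad2 _ inferInstance (le_antisymm (hbad1 P hP1 hpB) ?_) hpB P P' hP hP' rfl
      (by rw [← hjA, ← hjA, he])
    refine Order.one_le_iff_pos.mpr (pos_iff_ne_zero.mpr fun e => ?_)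
    rw [Ideal.height_eq_zero_iff_eq_bot] at e
    rw [Ideal.IsIntegral.eq_bot_of_comap_eq_bot A e, Ideal.height_bot] at hP1
    exact zero_ne_one hP1
  refine ⟨C, hCfin, fun p hp hp1 => ?_, fun x => ?_, fun x => ?_⟩
  · refine MoriNagata.exists_dvr_of_unique p hp1 fun P P' hP hP' e e' => ?_
    let f : A' →+* integralClosure C K :=
      (algebraMap A' K).codRestrict (integralClosure C K) fun a => IsIntegral.tower_top (A := C) a.2
    have hf : Function.Surjective f := fun y => ⟨⟨y, isIntegral_trans (R := A) (y : K) y.2⟩, Subtype.ext rfl⟩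
    have hfc : ∀ Q : Ideal (integralClosure C K),
        (Q.comap f).comap (algebraMap C A') = Q.comap (algebraMap C (integralClosure C K)) := fun Q => by
      rw [Ideal.comap_comap]
      rfl
    exact Ideal.comap_injective_of_surjective f hf
      (huniq _ _ inferInstance inferInstance (by rw [hfc, e]; exact hp1) (by rw [hfc, hfc, e, e']))
  · constructor
    · intro hx p hp _
      exact ⟨1, fun h => hp.ne_top ((Ideal.eq_top_iff_one p).mpr h), by
        rw [OneMemClass.coe_one, one_mul]; exact IsIntegral.tower_top (A := C) hx⟩
    · intro hx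
      refine MoriNagata.mem_of_forall_height_one A K x fun P hP hP1 => ?_
      have hp' : (P.comap (algebraMap C A')).height = 1 := by
        have hne : P.comap (algebraMap C A') ≠ ⊥ := fun e => by
          rw [Ideal.IsIntegral.eq_bot_of_comap_eq_bot C e, Ideal.height_bot] at hP1
          exact zero_ne_one hP1
        refine le_antisymm ((Ideal.height_le_iff (p := P.comap (algebraMap C A')) (n := 1)).mpr
          fun q hq hlt => ?_) (Order.one_le_iff_pos.mpr
            (pos_iff_ne_zero.mpr fun e => hne (Ideal.height_eq_zero_iff_eq_bot.mp e)))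
        rw [Nat.cast_one, Order.lt_one_iff, Ideal.height_eq_zero_iff_eq_bot]
        by_cases hpB : P.comap (algebraMap A A') ∈ Bad
        · obtain ⟨Q, hQ, hQq⟩ := Ideal.exists_ideal_over_prime_of_isIntegral_of_isDomain (S := A') q
            (fun a ha => by
              rw [show a = 0 from Subtype.ext (congrArg (fun w : A' => (w : K)) ha)]
              exact zero_mem _)
          obtain ⟨P', hQP', hP', hP'c⟩ := Ideal.exists_ideal_over_prime_of_isIntegral (S := A')
            (P.comap (algebraMap C A')) Q (hQq.le.trans hlt.le)
          have hPP := hcomapU P P' hP hP' hpB hP'c.symm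
          have hQP : Q < P := lt_of_le_of_ne (hPP.symm ▸ hQP') fun e => hlt.ne (by rw [← hQq, e])
          have h0 := Ideal.height_le_iff.mp hP1.le Q hQ hQP
          rw [Nat.cast_one, Order.lt_one_iff, Ideal.height_eq_zero_iff_eq_bot] at h0
          rw [← hQq, h0]
          refine le_antisymm (fun c hc => ?_) bot_le
          exact Ideal.mem_bot.mpr (Subtype.ext (congrArg (fun w : A' => (w : K)) (Ideal.mem_bot.mp hc)))
        · have hlt' := Ideal.IsIntegral.comap_lt_comap (R := A) hlt
          rw [hjA] at hlt'
          have h0 := Ideal.height_le_iff.mp (hbad1 P hP1 hpB) _ inferInstance hlt'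
          rw [Nat.cast_one, Order.lt_one_iff, Ideal.height_eq_zero_iff_eq_bot] at h0
          exact Ideal.IsIntegral.eq_bot_of_comap_eq_bot A h0
      obtain ⟨s, hs, hsx⟩ := hx _ hp'
      exact ⟨algebraMap C A' s, hs, isIntegral_trans (R := A) _ hsx⟩
  · obtain ⟨a, b, hb, rfl⟩ := IsFractionRing.div_surjective (A := C) x
    have hb0 : (b : K) ≠ 0 := fun h => nonZeroDivisors.ne_zero hb (Subtype.ext h)
    refine ((Ideal.span {b}).finite_minimalPrimes_of_isNoetherianRing C).subset fun p hp => ?_
    obtain ⟨hp', hp1, hno⟩ := hp
    have hbp : b ∈ p := by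
      by_contra hbp
      refine hno ⟨b, hbp, ?_⟩
      rw [show (b : K) * (algebraMap C K a / algebraMap C K b) = algebraMap C K a from
        mul_div_cancel₀ _ hb0]
      exact isIntegral_algebraMap
    refine ⟨⟨hp', (Ideal.span_singleton_le_iff_mem p).mpr hbp⟩, fun q ⟨hq, hle⟩ hqp => ?_⟩
    by_contra hne
    have h0 := Ideal.height_le_iff.mp hp1.le q hq (lt_of_le_of_ne hqp fun e => hne e.ge)
    rw [Nat.cast_one, Order.lt_one_iff, Ideal.height_eq_zero_iff_eq_bot] at h0
    have := hle (Ideal.mem_span_singleton_self b)
    rw [h0, Ideal.mem_bot] at this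
    exact nonZeroDivisors.ne_zero hb this

end Groth.Agent.S12124
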