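import Groth.Statements.S12125
import Groth.Agent.NormalLocus.Basic
import Groth.Agent.NagataLib.Basic
import Groth.Agent.NagataLib.Universal

set_option autoImplicit false
universe u
open EGA4

namespace Groth.Agent.S12125

/-- Let A be a Noetherian ring. Then every quotient of A by a prime ideal is N-2 (i.e. A is a Nagata
ring) if and only if (1) for every maximal ideal m of A every quotient of A_m by a prime ideal is
N-2, and (2) for every prime p of A, writing B = A/p with fraction field K, for every finite purely
inseparable field extension K' of K and every sub-B-algebra B' of K' which is a finite B-module and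
has K' as its fraction field, there is a nonzero element f of B' such that B'_f is an integrally
closed domain. -/
theorem result (A : Type u) [CommRing A] [IsNoetherianRing A] :
    CAlg.IsNagata A ↔
      ((∀ (m : Ideal A) [m.IsMaximal] (P : Ideal (Localization.AtPrime m)) [P.IsPrime],
          CAlg.IsN2 (Localization.AtPrime m ⧸ P)) ∧
        ∀ (p : Ideal A) [p.IsPrime] (K' : Type u) [Field K'] [Algebra (A ⧸ p) K']
          [Algebra (FractionRing (A ⧸ p)) K'] [IsScalarTower (A ⧸ p) (FractionRing (A ⧸ p)) K']
          [FiniteDimensional (FractionRing (A ⧸ p)) K'] [IsPurelyInseparable (FractionRing (A ⧸ p)) K']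
          (B' : Subalgebra (A ⧸ p) K'), Module.Finite (A ⧸ p) B' → IsFractionRing B' K' →
            ∃ f : B', f ≠ 0 ∧ IsIntegrallyClosed (Localization.Away f)) := by
  classical
  constructor
  · intro hN
    refine ⟨fun m _ P _ =>
      (NagataLib.isNagata_localization hN m.primeCompl (Localization.AtPrime m)).2 P, ?_⟩
    intro p _ K' _ _ _ _ _ _ B' hB'fin hfrac
    have : Module.Finite (A ⧸ p) (integralClosure (A ⧸ p) K') := hN.2 p K' inferInstance
    obtain ⟨T, hT⟩ : (integralClosure (A ⧸ p) K').toSubmodule.FG := Module.Finite.iff_fg.mp this
    obtain ⟨f, hf⟩ := IsLocalization.exist_integer_multiples (nonZeroDivisors B') T id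
    refine ⟨f, nonZeroDivisors.coe_ne_zero f, ?_⟩
    have : IsNoetherianRing B' := IsNoetherianRing.of_finite (A ⧸ p) B'
    have hM : Submonoid.powers (f : B') ≤ nonZeroDivisors B' := Submonoid.powers_le.mpr f.2
    have := IsLocalization.isDomain_of_le_nonZeroDivisors (S := Localization.Away (f : B')) hM
    refine (CohenStruct.isIntegrallyClosed_localization_iff (Submonoid.powers (f : B')) hM
      (Localization.Away (f : B')) K').mpr fun z hz => ⟨f, Submonoid.mem_powers _, ?_⟩
    have hz' : IsIntegral (A ⧸ p) z := isIntegral_trans z hz
    have hzT : z ∈ Submodule.span (A ⧸ p) (T : Set K') := hT.symm ▸ hz'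
    clear hz hz'
    induction hzT using Submodule.span_induction with
    | mem y hy => exact Submodule.mem_one.mpr (hf y hy)
    | zero => simp
    | add a b _ _ ia ib => rw [smul_add]; exact add_mem ia ib
    | smul c a _ ia =>
      rw [← algebraMap_smul B' c a, smul_comm]
      exact Submodule.smul_mem _ _ ia
  · rintro ⟨hloc, hgen⟩
    refine ⟨inferInstance, fun p _ => NagataLib.isN2_of_forall_purelyInseparable ?_⟩
    intro P _ _ _ _ hP hPI
    let R := A ⧸ p
    let K := FractionRing R
    obtain ⟨s, b, hb⟩ := FiniteDimensional.exists_is_basis_integral R K P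
    let B : Subalgebra R P := Algebra.adjoin R (Set.range b)
    have : Module.Finite R B := Module.Finite.iff_fg.mpr
      (fg_adjoin_of_finite (Set.finite_range b) (by rintro _ ⟨i, rfl⟩; exact hb i))
    have : IsNoetherianRing B := IsNoetherianRing.of_finite R B
    have hinjR : Function.Injective (algebraMap R P) := by
      rw [IsScalarTower.algebraMap_eq R K P]
      exact (algebraMap K P).injective.comp (IsFractionRing.injective R K)
    have hfrac : IsFractionRing B P := by
      refine IsFractionRing.of_field B P fun z => ?_
      obtain ⟨d, hd⟩ := IsLocalization.exist_integer_multiples (nonZeroDivisors R) Finset.univ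
        (fun i => b.repr z i)
      have hmem : (d : R) • z ∈ B := by
        rw [← b.sum_repr z, Finset.smul_sum]
        refine sum_mem fun i hi => ?_
        obtain ⟨e, he⟩ := hd i hi
        rw [← smul_assoc, ← he, algebraMap_smul]
        exact B.smul_mem (Algebra.subset_adjoin (Set.mem_range_self i)) e
      refine ⟨⟨_, hmem⟩, algebraMap R B d, ?_⟩
      have hd0 : algebraMap R P d ≠ 0 :=
        (map_ne_zero_iff _ hinjR).mpr (nonZeroDivisors.coe_ne_zero d)
      change z = (d : R) • z / algebraMap R P d
      rw [Algebra.smul_def]
      field_simp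
    obtain ⟨f, hf0, hfn⟩ := hgen p P B inferInstance hfrac
    have hM : Submonoid.powers f ≤ nonZeroDivisors B :=
      Submonoid.powers_le.mpr (mem_nonZeroDivisors_of_ne_zero hf0)
    have := IsLocalization.isDomain_of_le_nonZeroDivisors (S := Localization.Away f) hM
    refine CohenStruct.finite_integralClosure_of_local B f (fun h => hf0 (Subtype.ext h))
      (fun z hz => ?_) fun m hm => ?_
    · obtain ⟨_, ⟨k, rfl⟩, htz⟩ := (CohenStruct.isIntegrallyClosed_localization_iff
        (Submonoid.powers f) hM (Localization.Away f) P).mp hfn z hz.tower_top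
      obtain ⟨c, hc⟩ := Submodule.mem_one.mp htz
      refine ⟨k, ?_⟩
      have : (f : P) ^ k * z = (c : P) := hc.symm
      rw [this]
      exact c.2
    · let M : Ideal A := m.comap (Ideal.Quotient.mk p)
      have : M.IsMaximal := Ideal.comap_isMaximal_of_surjective _ Ideal.Quotient.mk_surjective
      let S := Localization.AtPrime m
      have hMm : m.primeCompl ≤ nonZeroDivisors R := m.primeCompl_le_nonZeroDivisors
      let φ : Localization.AtPrime M →+* S :=
        Localization.localRingHom M m (Ideal.Quotient.mk p) rfl
      have hS : CAlg.IsN2 S := by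
        refine NagataLib.isN2_of_fractions φ (fun Q _ => hloc M Q) ⊥ (fun x hx => ?_) fun y => ?_
        · rw [Submonoid.mem_bot.mp hx, map_one]; exact isUnit_one
        obtain ⟨r, ⟨t, ht⟩, rfl⟩ := IsLocalization.exists_mk'_eq m.primeCompl y
        obtain ⟨r, rfl⟩ := Ideal.Quotient.mk_surjective r
        obtain ⟨t, rfl⟩ := Ideal.Quotient.mk_surjective t
        refine ⟨IsLocalization.mk' _ r (⟨t, ht⟩ : M.primeCompl), 1, Submonoid.one_mem _, ?_⟩
        rw [map_one, mul_one, Localization.localRingHom_mk']
      let : Algebra S K := (IsLocalization.lift (M := m.primeCompl)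
        (fun y => IsLocalization.map_units K (⟨y, hMm y.2⟩ : nonZeroDivisors R))).toAlgebra
      have : IsScalarTower R S K := .of_algebraMap_eq fun r => (IsLocalization.lift_eq _ r).symm
      have : IsFractionRing S K :=
        IsFractionRing.isFractionRing_of_isDomain_of_isLocalization m.primeCompl S K
      let : Algebra S P := ((algebraMap K P).comp (algebraMap S K)).toAlgebra
      have : IsScalarTower S K P := .of_algebraMap_eq fun _ => rfl
      have : IsScalarTower R S P := .of_algebraMap_eq fun r => by
        rw [IsScalarTower.algebraMap_apply R K P, IsScalarTower.algebraMap_apply R S K]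
        rfl
      have : Module.Finite S (integralClosure S P) :=
        NagataLib.finite_integralClosure_of_isN2 hS K P
      exact CohenStruct.exists_generators_localization m.primeCompl S

end Groth.Agent.S12125
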