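import Groth.Statements.S12127
-- import your own Groth.Agent.* helpers here

set_option autoImplicit false
universe u
open EGA43

namespace Groth.Agent.S12127

def QC {Y : Type u} [TopologicalSpace Y] (Z : Set Y) : Prop :=
  ∃ T : Set (Set Y), T.Finite ∧ (∀ t ∈ T, IsLocallyClosed t) ∧ Z = ⋃₀ T

section
variable {X Y : Type u} [TopologicalSpace X] [TopologicalSpace Y]

theorem QC.of_lc {Z : Set Y} (h : IsLocallyClosed Z) : QC Z :=
  ⟨{Z}, Set.finite_singleton Z, by simpa using h, by simp⟩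

theorem QC.union {Z Z' : Set Y} : QC Z → QC Z' → QC (Z ∪ Z') := by
  rintro ⟨T, hT, hl, rfl⟩ ⟨T', hT', hl', rfl⟩
  exact ⟨T ∪ T', hT.union hT', fun t ht => ht.elim (hl t) (hl' t), (Set.sUnion_union T T').symm⟩

theorem QC.inter {Z Z' : Set Y} : QC Z → QC Z' → QC (Z ∩ Z') := by
  rintro ⟨T, hT, hl, rfl⟩ ⟨T', hT', hl', rfl⟩
  refine ⟨Set.image2 (· ∩ ·) T T', hT.image2 _ hT', ?_, ?_⟩
  · rintro _ ⟨a, ha, b, hb, rfl⟩; exact (hl a ha).inter (hl' b hb)
  · ext x; simp only [Set.mem_inter_iff, Set.mem_sUnion, Set.mem_image2]; aesop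

theorem QC.compl {Z : Set Y} : QC Z → QC Zᶜ := by
  rintro ⟨T, hT, hl, rfl⟩
  induction T, hT using Set.Finite.induction_on with
  | empty => simpa using QC.of_lc isOpen_univ.isLocallyClosed
  | @insert a s _ _ ih =>
    rw [Set.sUnion_insert, Set.compl_union]
    refine QC.inter ?_ (ih fun t ht => hl t (Set.mem_insert_of_mem _ ht))
    obtain ⟨U, F, hU, hF, rfl⟩ := hl a (Set.mem_insert a s)
    rw [Set.compl_inter]
    exact (QC.of_lc hU.isClosed_compl.isLocallyClosed).union (QC.of_lc hF.isOpen_compl.isLocallyClosed)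

theorem QC.preimage {f : X → Y} (hf : Continuous f) {Z : Set Y} : QC Z → QC (f ⁻¹' Z) := by
  rintro ⟨T, hT, hl, rfl⟩
  refine ⟨(f ⁻¹' ·) '' T, hT.image _, ?_, by simp [Set.preimage_sUnion]⟩
  rintro _ ⟨t, ht, rfl⟩; exact (hl t ht).preimage hf

theorem qc_sub {V : Set Y} (hV : IsOpen V) {Z : Set Y} :
    (∃ T : Set (Set V), T.Finite ∧ (∀ t ∈ T, IsLocallyClosed t) ∧ (Subtype.val ⁻¹' Z : Set V) = ⋃₀ T)
      ↔ QC (Z ∩ V) := by
  constructor
  · rintro ⟨T, hT, hl, h⟩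
    refine ⟨(Subtype.val '' ·) '' T, hT.image _, ?_, ?_⟩
    · rintro _ ⟨t, ht, rfl⟩
      exact (hl t ht).image Topology.IsInducing.subtypeVal
        (by rw [Subtype.range_coe]; exact hV.isLocallyClosed)
    · rw [← Set.image_sUnion, ← h, Subtype.image_preimage_coe, Set.inter_comm]
  · intro h
    have h2 := h.preimage (continuous_subtype_val (p := (· ∈ V)))
    simpa [QC, Set.preimage_inter] using h2

end


/-- Let f : X → Y be a quasi-homeomorphism, i.e. a continuous map such that U ↦ f⁻¹(U) is a bijection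
from the open subsets of Y onto the open subsets of X. Call a subset quasi-constructible when it is
a finite union of locally closed subsets, and locally quasi-constructible when every point of the
space has an open neighbourhood V whose intersection with it is quasi-constructible in V. Then Z ↦
f⁻¹(Z) induces a bijection from the quasi-constructible subsets of Y onto those of X, and from the
locally quasi-constructible subsets of Y onto those of X. -/
theorem result {X Y : Type u}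
    [TopologicalSpace X] [TopologicalSpace Y] (f : X → Y) (hf : Continuous f)
    (hq : Function.Bijective (fun U : TopologicalSpace.Opens Y =>
      (⟨f ⁻¹' (U : Set Y), U.isOpen.preimage hf⟩ : TopologicalSpace.Opens X))) :
    Set.BijOn (fun Z : Set Y => f ⁻¹' Z)
        {Z : Set Y | ∃ T : Set (Set Y), T.Finite ∧ (∀ t ∈ T, IsLocallyClosed t) ∧ Z = ⋃₀ T}
        {Z : Set X | ∃ T : Set (Set X), T.Finite ∧ (∀ t ∈ T, IsLocallyClosed t) ∧ Z = ⋃₀ T} ∧
      Set.BijOn (fun Z : Set Y => f ⁻¹' Z)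
        {Z : Set Y | ∀ y : Y, ∃ V : Set Y, IsOpen V ∧ y ∈ V ∧
          ∃ T : Set (Set V), T.Finite ∧ (∀ t ∈ T, IsLocallyClosed t) ∧ (Subtype.val ⁻¹' Z : Set V) = ⋃₀ T}
        {Z : Set X | ∀ x : X, ∃ V : Set X, IsOpen V ∧ x ∈ V ∧
          ∃ T : Set (Set V), T.Finite ∧ (∀ t ∈ T, IsLocallyClosed t) ∧ (Subtype.val ⁻¹' Z : Set V) = ⋃₀ T} := by
  have hinj : ∀ {U U' : Set Y}, IsOpen U → IsOpen U' → f ⁻¹' U = f ⁻¹' U' → U = U' := fun {U U'} hU hU' h =>
    congrArg SetLike.coe (hq.1 (a₁ := ⟨U, hU⟩) (a₂ := ⟨U', hU'⟩) (TopologicalSpace.Opens.ext h))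
  have hsurj : ∀ {O : Set X}, IsOpen O → ∃ U : Set Y, IsOpen U ∧ f ⁻¹' U = O := fun {O} hO => by
    obtain ⟨U, hU⟩ := hq.2 ⟨O, hO⟩
    exact ⟨U, U.isOpen, congrArg SetLike.coe hU⟩
  have hempty : ∀ {Z : Set Y}, QC Z → f ⁻¹' Z = ∅ → Z = ∅ := by
    rintro Z ⟨T, _, hl, rfl⟩ h
    refine Set.sUnion_eq_empty.2 fun t ht => ?_
    obtain ⟨U, F, hU, hF, rfl⟩ := hl t ht
    have h1 : f ⁻¹' (U ∩ F) = ∅ := Set.subset_eq_empty
      (Set.preimage_mono (Set.subset_sUnion_of_mem ht)) h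
    have h2 : U = U ∩ Fᶜ := hinj hU (hU.inter hF.isOpen_compl) (by
      ext x
      have : x ∉ f ⁻¹' (U ∩ F) := by simp [h1]
      simp only [Set.mem_preimage, Set.mem_inter_iff, Set.mem_compl_iff] at this ⊢
      tauto)
    rw [h2, Set.inter_assoc, Set.compl_inter_self, Set.inter_empty]
  have huniq : ∀ {Z Z' : Set Y}, QC Z → QC Z' → f ⁻¹' Z = f ⁻¹' Z' → Z = Z' := by
    intro Z Z' hZ hZ' h
    have h1 := hempty (hZ.inter hZ'.compl) (by simp [h])
    have h2 := hempty (hZ'.inter hZ.compl) (by simp [h])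
    ext y
    have a : y ∉ Z ∩ Z'ᶜ := by simp [h1]
    have b : y ∉ Z' ∩ Zᶜ := by simp [h2]
    simp only [Set.mem_inter_iff, Set.mem_compl_iff] at a b
    tauto
  have hlift : ∀ {S : Set X}, QC S → ∃ Z : Set Y, QC Z ∧ f ⁻¹' Z = S := by
    rintro S ⟨T, hT, hl, rfl⟩
    induction T, hT using Set.Finite.induction_on with
    | empty => exact ⟨∅, QC.of_lc isOpen_empty.isLocallyClosed, by simp⟩
    | @insert a s _ _ ih =>
      obtain ⟨Z, hZ, hZe⟩ := ih fun t ht => hl t (Set.mem_insert_of_mem _ ht)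
      obtain ⟨O, G, hO, hG, rfl⟩ := hl a (Set.mem_insert a s)
      obtain ⟨U, hU, rfl⟩ := hsurj hO
      obtain ⟨W, hW, hWe⟩ := hsurj hG.isOpen_compl
      refine ⟨(U ∩ Wᶜ) ∪ Z,
        (QC.of_lc (hU.isLocallyClosed.inter hW.isClosed_compl.isLocallyClosed)).union hZ, ?_⟩
      rw [Set.sUnion_insert, Set.preimage_union, hZe, Set.preimage_inter, Set.preimage_compl, hWe,
        compl_compl]
  refine ⟨⟨fun Z hZ => QC.preimage hf hZ, fun Z hZ Z' hZ' h => huniq hZ hZ' h,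
    fun S hS => hlift hS⟩, ?_, ?_, ?_⟩
  · intro Z hZ x
    obtain ⟨V, hV, hxV, hT⟩ := hZ (f x)
    refine ⟨f ⁻¹' V, hV.preimage hf, hxV, (qc_sub (hV.preimage hf)).2 ?_⟩
    exact QC.preimage hf ((qc_sub hV).1 hT)
  · intro Z hZ Z' hZ' h
    ext y
    obtain ⟨V, hV, hyV, hT⟩ := hZ y
    obtain ⟨V', hV', hyV', hT'⟩ := hZ' y
    have hW := QC.of_lc (hV.inter hV').isLocallyClosed
    have e := huniq (((qc_sub hV).1 hT).inter hW) (((qc_sub hV').1 hT').inter hW)
      (by simp only [Set.preimage_inter, show f ⁻¹' Z = f ⁻¹' Z' from h]; ext x; simp; tauto)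
    have := congrArg (y ∈ ·) e
    simpa [hyV, hyV'] using this
  · intro S hS
    let A : Set (Set Y) := {W | IsOpen W ∧ QC (S ∩ f ⁻¹' W)}
    choose g hg hge using fun W : A => hlift W.2.2
    have hag : ∀ (W W' : A), g W ∩ W.1 ∩ W'.1 = g W' ∩ W'.1 ∩ W.1 := fun W W' =>
      huniq (((hg W).inter (QC.of_lc W.2.1.isLocallyClosed)).inter (QC.of_lc W'.2.1.isLocallyClosed))
        (((hg W').inter (QC.of_lc W'.2.1.isLocallyClosed)).inter (QC.of_lc W.2.1.isLocallyClosed))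
        (by simp only [Set.preimage_inter, hge]; ext x; simp; tauto)
    have hcov : ⋃₀ A = Set.univ := hinj (isOpen_sUnion fun W hW => hW.1) isOpen_univ (by
      ext x
      simp only [Set.preimage_univ, Set.mem_univ, iff_true, Set.mem_preimage, Set.mem_sUnion]
      obtain ⟨V, hV, hxV, hT⟩ := hS x
      obtain ⟨W, hW, rfl⟩ := hsurj hV
      exact ⟨W, ⟨hW, (qc_sub hV).1 hT⟩, hxV⟩)
    refine ⟨⋃ W : A, g W ∩ W.1, fun y => ?_, ?_⟩
    · obtain ⟨W, hW, hy⟩ := Set.mem_sUnion.1 (hcov.symm ▸ Set.mem_univ y : y ∈ ⋃₀ A)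
      refine ⟨W, hW.1, hy, (qc_sub hW.1).2 ?_⟩
      have : (⋃ W : A, g W ∩ W.1) ∩ W = g ⟨W, hW⟩ ∩ W := by
        ext z
        simp only [Set.mem_inter_iff, Set.mem_iUnion]
        constructor
        · rintro ⟨⟨W', hz⟩, hzW⟩
          have h3 := (Set.ext_iff.1 (hag W' ⟨W, hW⟩) z).1 ⟨hz, hzW⟩
          exact h3.1
        · rintro hz; exact ⟨⟨⟨W, hW⟩, hz⟩, hz.2⟩
      rw [this]
      exact (hg ⟨W, hW⟩).inter (QC.of_lc hW.1.isLocallyClosed)
    · ext x
      simp only [Set.mem_preimage, Set.mem_iUnion, Set.mem_inter_iff]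
      constructor
      · rintro ⟨W, hxg, hxW⟩
        have h3 : x ∈ f ⁻¹' g W := hxg
        rw [hge] at h3
        exact h3.1
      · intro hx
        obtain ⟨W, hW, hxW⟩ := Set.mem_sUnion.1 (hcov.symm ▸ Set.mem_univ (f x) : f x ∈ ⋃₀ A)
        refine ⟨⟨W, hW⟩, ?_, hxW⟩
        show x ∈ f ⁻¹' g ⟨W, hW⟩
        rw [hge]; exact ⟨hx, hxW⟩

end Groth.Agent.S12127
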