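import Groth.Statements.S12129
import Mathlib.AlgebraicGeometry.Properties
import Mathlib.AlgebraicGeometry.Morphisms.FiniteType
-- import your own Groth.Agent.* helpers here

set_option autoImplicit false
universe u
open EGA2

namespace Groth.Agent.S12129

open AlgebraicGeometry CategoryTheory in
/-- Let X be a scheme of finite type over a field k. Then the local ring of X at every closed point has
dimension one if and only if the irreducible closed subsets of X other than its irreducible
components are exactly the (singletons of) closed points of X — that is, every irreducible closed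
subset which is not an irreducible component is a closed point, and no closed point is by itself an
irreducible component. -/
theorem result (k : Type u) [Field k] (X : Scheme.{u})
    [X.Over (Spec (CommRingCat.of k))] [LocallyOfFiniteType (X ↘ (Spec (CommRingCat.of k)))]
    [QuasiCompact (X ↘ (Spec (CommRingCat.of k)))] :
    (∀ x : X, IsClosed ({x} : Set X) → ringKrullDim (X.presheaf.stalk x) = 1) ↔
      ((∀ F : Set X, IsClosed F → IsIrreducible F → F ∉ irreducibleComponents (X : Type u) →
          ∃ x : X, IsClosed ({x} : Set X) ∧ F = {x}) ∧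
        ∀ x : X, IsClosed ({x} : Set X) → ({x} : Set X) ∉ irreducibleComponents (X : Type u)) := by
  haveI : JacobsonSpace X := LocallyOfFiniteType.jacobsonSpace (X ↘ (Spec (CommRingCat.of k)))
  have hle : ∀ a b : X, a ≤ b ↔ b ⤳ a := fun _ _ => Iff.rfl
  have hlt : ∀ a b : X, b ⤳ a → a ≠ b → a < b := fun a b h hne =>
    lt_of_le_not_ge ((hle a b).mpr h) fun h' => hne (((hle b a).mp h').antisymm h).eq
  have hdim : ∀ x : X, ringKrullDim (X.presheaf.stalk x) = 1 ↔ Order.coheight x = 1 := fun x => by
    rw [ringKrullDim_stalk_eq_coheight]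
    exact WithBot.coe_inj
  have hcomp : ∀ x : X, closure ({x} : Set X) ∈ irreducibleComponents X ↔ IsMax x := by
    intro x
    refine ⟨fun h y hy => ?_, fun h => ⟨isIrreducible_singleton.closure, fun F hF hxF => ?_⟩⟩
    · have h1 : closure ({y} : Set X) ≤ closure ({x} : Set X) := h.2 isIrreducible_singleton.closure
        ((specializes_iff_closure_subset).mp ((hle x y).mp hy))
      exact (hle y x).mpr (specializes_iff_closure_subset.mpr h1)
    · obtain ⟨η, hη⟩ := QuasiSober.sober hF.closure isClosed_closure
      have h1 : η ⤳ x := hη.specializes (subset_closure (hxF (subset_closure rfl)))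
      have h2 : x ⤳ η := (hle η x).mp (h ((hle x η).mpr h1))
      exact (subset_closure.trans hη.def.ge).trans (specializes_iff_closure_subset.mp h2)
  constructor
  · intro h
    refine ⟨fun F hFc hFi hFn => ?_, fun x hx hxc => ?_⟩
    · obtain ⟨η, hη⟩ := QuasiSober.sober hFi hFc
      obtain ⟨x, hxF, hx⟩ := nonempty_inter_closedPoints hFi.nonempty hFc.isLocallyClosed
      refine ⟨x, hx, ?_⟩
      by_contra hne
      rw [← hη.def] at hFn hne
      have hnm : ¬ IsMax η := fun hm => hFn ((hcomp η).mpr hm)
      obtain ⟨ζ, hζ⟩ := not_isMax_iff.mp hnm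
      have hxη : x < η := hlt x η (hη.specializes hxF) fun e => hne (e ▸ hx.closure_eq)
      have h1 := (hdim x).mp (h x hx)
      have h2 := Order.coheight_add_one_le hxη
      have h3 := Order.coheight_add_one_le hζ
      rw [h1] at h2
      have h4 : (1 : ℕ∞) + 1 ≤ 1 := le_trans (add_le_add (le_trans le_add_self h3) le_rfl) h2
      exact absurd h4 (by decide)
    · have h1 := (hdim x).mp (h x hx)
      rw [← hx.closure_eq, hcomp, ← Order.coheight_eq_zero, h1] at hxc
      exact one_ne_zero hxc
  · rintro ⟨hF, hx0⟩ x hx
    rw [hdim]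
    refine le_antisymm ?_ ?_
    · refine Order.coheight_le fun p hp => ?_
      by_contra hc
      have hlen : 2 ≤ p.length := by
        by_contra h'
        apply hc
        exact_mod_cast (show p.length ≤ 1 by omega)
      have h01 : x < p ⟨1, by omega⟩ := lt_of_le_of_lt hp.ge (p.strictMono (show (0 : Fin (p.length + 1)) < ⟨1, by omega⟩ from Nat.one_pos))
      have h12 : p ⟨1, by omega⟩ < p ⟨2, by omega⟩ := p.strictMono (show (⟨1, _⟩ : Fin (p.length + 1)) < ⟨2, _⟩ from Nat.one_lt_two)
      obtain ⟨c, hc', hFc⟩ := hF (closure {p ⟨1, by omega⟩}) isClosed_closure isIrreducible_singleton.closure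
        fun hm => not_isMax_of_lt h12 ((hcomp _).mp hm)
      have he : p ⟨1, by omega⟩ = c := by simpa [hFc] using (subset_closure rfl : p ⟨1, by omega⟩ ∈ closure ({p ⟨1, by omega⟩} : Set X))
      have hx1 : x ∈ closure ({p ⟨1, by omega⟩} : Set X) := ((hle _ _).mp h01.le).mem_closure
      rw [hFc] at hx1
      exact h01.ne (hx1.trans he.symm)
    · refine Order.one_le_iff_pos.mpr (pos_iff_ne_zero.mpr fun h0 => hx0 x hx ?_)
      rw [← hx.closure_eq, hcomp, ← Order.coheight_eq_zero]
      exact h0

end Groth.Agent.S12129
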