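import Groth.Statements.S12133
import Mathlib.RingTheory.FiniteType
import Mathlib.RingTheory.GradedAlgebra.Basic
-- import your own Groth.Agent.* helpers here

set_option autoImplicit false
universe u
open EGA2

namespace Groth.Agent.S12133

section

variable {A : Type u} [CommRing A] (𝒜 : ℕ → AddSubgroup A) [GradedRing 𝒜]

local notation "M" => fun n => AddSubgroup.toIntSubmodule (𝒜 n)

theorem mul_le' (i j : ℕ) : M i * M j ≤ M (i + j) :=
  Submodule.mul_le.mpr fun _ ha _ hb => SetLike.mul_mem_graded (A := 𝒜) ha hb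

theorem pow_le' (d : ℕ) : ∀ n : ℕ, 0 < n → (M d) ^ n ≤ M (n * d) := by
  intro n hn
  induction n with
  | zero => omega
  | succ n ih =>
    rcases Nat.eq_zero_or_pos n with rfl | h
    · simp
    · rw [pow_succ, Nat.succ_mul]
      exact (mul_le_mul' (ih h) le_rfl).trans (mul_le' 𝒜 _ _)

theorem exists_bound {R : Type u} [CommRing R] (φ : R →+* A) (h0 : ∀ r, φ r ∈ 𝒜 0) (hft : φ.FiniteType) :
    ∃ L r : ℕ, 0 < L ∧ ∀ d q : ℕ, 0 < q → r ≤ q → d = q * L →
      (∀ n : ℕ, 0 < n → M (n * d) = (M d) ^ n) ∧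
      ∃ T : Finset A, (↑T : Set A) ⊆ (𝒜 d : Set A) ∧ M d = M 0 * Submodule.span ℤ (↑T : Set A) := by
  classical
  letI := φ.toAlgebra
  obtain ⟨s, hs⟩ := (show Algebra.FiniteType R A from hft).out
  let F : Finset (A × ℕ) := (s.biUnion fun a => (DirectSum.decompose 𝒜 a).support.image fun n => (a, n)).filter fun p => 0 < p.2
  let I := ↥F
  haveI : Fintype I := inferInstanceAs (Fintype ↥F)
  let deg : I → ℕ := fun i => i.1.2
  let t : I → A := fun i => (DirectSum.decompose 𝒜 i.1.1 i.1.2 : A)
  have hdeg : ∀ i : I, 0 < deg i := fun i => (Finset.mem_filter.mp i.2).2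
  have ht : ∀ i : I, t i ∈ 𝒜 (deg i) := fun i => SetLike.coe_mem _
  let W : (I → ℕ) → A := fun a => ∏ i, t i ^ a i
  let w : (I → ℕ) → ℕ := fun a => ∑ i, a i * deg i
  have hW : ∀ a, W a ∈ 𝒜 (w a) := fun a => SetLike.prod_mem_graded _ _ _ fun i _ => by
    simpa [smul_eq_mul] using SetLike.pow_mem_graded (a i) (ht i)
  let S : Set A := {x | ∃ c ∈ 𝒜 0, ∃ a, x = c * W a}
  have hsp : ∀ x : A, x ∈ Submodule.span ℤ S := by
    intro x
    have hx : x ∈ Algebra.adjoin R (s : Set A) := hs ▸ Algebra.mem_top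
    induction hx using Algebra.adjoin_induction with
    | mem a ha =>
      rw [← DirectSum.sum_support_decompose 𝒜 a]
      refine sum_mem fun n hn => Submodule.subset_span ?_
      rcases Nat.eq_zero_or_pos n with rfl | h
      · exact ⟨(DirectSum.decompose 𝒜 a 0 : A), SetLike.coe_mem _, 0, by simp [W]⟩
      · let i : I := ⟨(a, n), Finset.mem_filter.mpr ⟨Finset.mem_biUnion.mpr ⟨a, ha, Finset.mem_image_of_mem _ hn⟩, h⟩⟩
        refine ⟨1, SetLike.one_mem_graded 𝒜, Pi.single i 1, ?_⟩
        simp only [W, one_mul]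
        rw [Finset.prod_eq_single i (fun j _ hj => by simp [hj]) (by simp)]
        simp [t, i]
    | algebraMap r => exact Submodule.subset_span ⟨φ r, h0 r, 0, by simp [W]; rfl⟩
    | add _ _ _ _ ha hb => exact add_mem ha hb
    | mul a b _ _ ha hb =>
      refine (?_ : Submodule.span ℤ S * Submodule.span ℤ S ≤ Submodule.span ℤ S) (Submodule.mul_mem_mul ha hb)
      rw [Submodule.span_mul_span, Submodule.span_le]
      rintro _ ⟨_, ⟨c, hc, a, rfl⟩, _, ⟨c', hc', a', rfl⟩, rfl⟩
      refine Submodule.subset_span ⟨c * c', by simpa using SetLike.mul_mem_graded hc hc', a + a', ?_⟩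
      simp only [W, Pi.add_apply, pow_add, Finset.prod_mul_distrib]
      ring
  have hle : ∀ (m : ℕ) (N : Submodule ℤ A), (∀ c ∈ 𝒜 0, ∀ a, w a = m → c * W a ∈ N) → M m ≤ N := by
    intro m N hN x hx
    have h2 : Submodule.span ℤ S ≤ N.comap (GradedRing.proj 𝒜 m).toIntLinearMap := by
      refine Submodule.span_le.mpr ?_
      rintro _ ⟨c, hc, a, rfl⟩
      have hm : c * W a ∈ 𝒜 (w a) := by simpa using SetLike.mul_mem_graded hc (hW a)
      show GradedRing.proj 𝒜 m (c * W a) ∈ N
      rw [GradedRing.proj_apply]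
      by_cases h : w a = m
      · rw [DirectSum.decompose_of_mem_same 𝒜 (h ▸ hm)]; exact hN c hc a h
      · rw [DirectSum.decompose_of_mem_ne 𝒜 hm h]; exact zero_mem N
    have h3 : GradedRing.proj 𝒜 m x ∈ N := h2 (hsp x)
    rwa [GradedRing.proj_apply, DirectSum.decompose_of_mem_same 𝒜 hx] at h3
  let L := ∏ i, deg i
  let r := Fintype.card I
  have hL : 0 < L := Finset.prod_pos fun i _ => hdeg i
  have hstep : ∀ m, r * L ≤ m → M (m + L) ≤ M L * M m := by
    intro m hm
    refine hle _ _ fun c hc a ha => ?_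
    obtain ⟨i, hi⟩ : ∃ i, L ≤ a i * deg i := by
      by_contra hc'
      push Not at hc'
      have : w a ≤ r * L := (Finset.sum_le_card_nsmul _ _ L fun i _ => (hc' i).le).trans (by simp [r])
      omega
    obtain ⟨e, he⟩ : deg i ∣ L := Finset.dvd_prod_of_mem _ (Finset.mem_univ i)
    have hea : e ≤ a i := Nat.le_of_mul_le_mul_right (by rw [he, mul_comm] at hi; exact hi) (hdeg i)
    let a' : I → ℕ := Function.update a i (a i - e)
    have hWa : W a = t i ^ e * W a' := by
      simp only [W, a', Fintype.prod_eq_mul_prod_compl i, Function.update_self]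
      rw [← mul_assoc, ← pow_add, Nat.add_sub_cancel' hea]
      congr 1
      exact Finset.prod_congr rfl fun j hj => by rw [Function.update_of_ne (by simpa using hj)]
    have hwa : w a = L + w a' := by
      simp only [w, a', Fintype.sum_eq_add_sum_compl i, Function.update_self]
      rw [he, ← add_assoc, mul_comm (deg i) e, ← add_mul, Nat.add_sub_cancel' hea]
      congr 1
      exact Finset.sum_congr rfl fun j hj => by rw [Function.update_of_ne (by simpa using hj)]
    rw [hWa, show c * (t i ^ e * W a') = t i ^ e * (c * W a') by ring]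
    refine Submodule.mul_mem_mul ?_ ?_
    · show t i ^ e ∈ 𝒜 L
      rw [he, mul_comm]
      simpa [smul_eq_mul] using SetLike.pow_mem_graded e (ht i)
    · show c * W a' ∈ 𝒜 m
      have := SetLike.mul_mem_graded hc (hW a')
      rwa [zero_add, show w a' = m by omega] at this
  refine ⟨L, r, hL, fun d q hq0 hrq hd => ⟨fun n hn => le_antisymm ?_ (pow_le' 𝒜 d n hn), ?_⟩⟩
  · induction n with
    | zero => omega
    | succ n ih =>
      rcases Nat.eq_zero_or_pos n with rfl | h
      · simp
      · have hj : ∀ j, M (n * d + j * L) ≤ (M L) ^ j * M (n * d) := by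
          intro j
          induction j with
          | zero => simp
          | succ j ihj =>
            rw [Nat.succ_mul, ← add_assoc]
            refine (hstep _ (le_trans ?_ (Nat.le_add_right _ _))).trans ?_
            · rw [hd, ← mul_assoc]
              exact Nat.mul_le_mul_right L (hrq.trans (Nat.le_mul_of_pos_left q h))
            · rw [pow_succ', mul_assoc]
              exact mul_le_mul' le_rfl ihj
        rw [Nat.succ_mul, pow_succ']
        refine le_trans ?_ (mul_le_mul' le_rfl (ih h))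
        conv_lhs => rw [hd, ← hd]
        refine (le_of_eq ?_).trans ((hj q).trans (mul_le_mul' ((pow_le' 𝒜 L q hq0).trans (le_of_eq (by rw [hd]))) le_rfl))
        rw [hd]
  · refine ⟨((Finset.univ : Finset (I → Fin (d + 1))).filter fun a => w (fun i => (a i : ℕ)) = d).image fun a => W (fun i => (a i : ℕ)),
      ?_, le_antisymm (hle _ _ fun c hc a ha => ?_) ?_⟩
    · intro x hx
      obtain ⟨a, ha, rfl⟩ := Finset.mem_image.mp hx
      have h5 := hW (fun i => (a i : ℕ))
      rw [(Finset.mem_filter.mp ha).2] at h5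
      exact h5
    · refine Submodule.mul_mem_mul hc (Submodule.subset_span (Finset.mem_image.mpr ?_))
      have hb : ∀ i, a i < d + 1 := fun i => Nat.lt_succ_of_le (ha ▸ (Nat.le_mul_of_pos_right _ (hdeg i)).trans
        (Finset.single_le_sum (f := fun i => a i * deg i) (fun _ _ => Nat.zero_le _) (Finset.mem_univ i)))
      exact ⟨fun i => ⟨a i, hb i⟩, Finset.mem_filter.mpr ⟨Finset.mem_univ _, ha⟩, rfl⟩
    · refine Submodule.mul_le.mpr fun c hc x hx => ?_
      have hx' : x ∈ M d := by
        refine (Submodule.span_le.mpr ?_) hx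
        intro z hz
        obtain ⟨a, ha, rfl⟩ := Finset.mem_image.mp hz
        have h5 := hW (fun i => (a i : ℕ))
        rw [(Finset.mem_filter.mp ha).2] at h5
        exact h5
      have := SetLike.mul_mem_graded (A := 𝒜) hc hx'
      rwa [zero_add] at this

end

open CategoryTheory AlgebraicGeometry Opposite in
/-- Let Y be a scheme, 𝒮 a quasi-coherent positively graded O_Y-algebra, and (U_i) a finite cover of Y
by affine open sets such that each graded ring 𝒮(U_i) is an algebra of finite type over O_Y(U_i).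
Then there is an integer d > 0 such that for every i: 𝒮(U_i)_{nd} = (𝒮(U_i)_d)^n for all n > 0 (as
additive subgroups of the ring 𝒮(U_i); that is, 𝒮^{(d)} is generated by 𝒮_d), and 𝒮(U_i)_d is a
finitely generated module over the degree-zero subring 𝒮(U_i)_0. (The published statement says 𝒮_d
is an O_Y-module of finite type; its proof gives finite generation over 𝒮_0, which is what is stated
here — for 𝒮 = O_Y[x][T] with x of degree 0 and T of degree 1 over an affine Y, 𝒮 is of finite type
but 𝒮_1 = O_Y[x] T is not a finitely generated O_Y-module.) -/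
theorem result {Y : Scheme.{u}} (𝒮 : RelProj.QCGrAlg Y)
    {ι : Type u} [Finite ι] (U : ι → Y.Opens) (hU : ∀ i, IsAffineOpen (U i)) (hcov : ⨆ i, U i = ⊤)
    (hft : ∀ i, (𝒮.str.app (op (U i))).hom.FiniteType) :
    ∃ d : ℕ, 0 < d ∧ ∀ i,
      (∀ n : ℕ, 0 < n →
        AddSubgroup.toIntSubmodule (𝒮.deg (U i) (hU i) (n * d)) =
          AddSubgroup.toIntSubmodule (𝒮.deg (U i) (hU i) d) ^ n) ∧
      ∃ T : Finset (𝒮.presheaf.obj (op (U i))),
        (↑T : Set (𝒮.presheaf.obj (op (U i)))) ⊆ (𝒮.deg (U i) (hU i) d : Set (𝒮.presheaf.obj (op (U i)))) ∧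
        AddSubgroup.toIntSubmodule (𝒮.deg (U i) (hU i) d) =
          AddSubgroup.toIntSubmodule (𝒮.deg (U i) (hU i) 0) *
            Submodule.span ℤ (↑T : Set (𝒮.presheaf.obj (op (U i)))) := by
  cases nonempty_fintype ι
  choose L r hL h using fun i => exists_bound (𝒮.deg (U i) (hU i)) (𝒮.str.app (op (U i))).hom (𝒮.str_mem (U i) (hU i)) (hft i)
  refine ⟨(∑ i, r i + 1) * ∏ i, L i, Nat.mul_pos (Nat.succ_pos _) (Finset.prod_pos fun i _ => hL i), fun i => ?_⟩
  obtain ⟨e, he⟩ : L i ∣ ∏ i, L i := Finset.dvd_prod_of_mem _ (Finset.mem_univ i)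
  have he0 : 0 < e := by
    rcases Nat.eq_zero_or_pos e with rfl | h'
    · exact absurd he (by simpa using (Finset.prod_pos fun i _ => hL i).ne')
    · exact h'
  refine h i _ ((∑ i, r i + 1) * e) (Nat.mul_pos (Nat.succ_pos _) he0) ?_ (by rw [he]; ring)
  exact ((Finset.single_le_sum (fun _ _ => Nat.zero_le _) (Finset.mem_univ i)).trans (Nat.le_succ _)).trans (Nat.le_mul_of_pos_right _ he0)

end Groth.Agent.S12133
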