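import Groth.Statements.S12136
import Groth.Agent.PP16Lib.AdicOmega
import Mathlib.RingTheory.Filtration
-- import your own Groth.Agent.* helpers here

set_option autoImplicit false
universe u
open TensorProduct KaehlerDifferential
open EGA41

namespace Groth.Agent.S12136

theorem exists_leftInverse_of_quotient {B : Type u} [CommRing B] {P' : Ideal B} {S : Type u} [CommRing S]
    [Algebra B S] (hS : Function.Surjective (algebraMap B S)) (hle : P' ≤ RingHom.ker (algebraMap B S)) {r : ℕ}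
    (hr : RingHom.ker (algebraMap B S) ^ r ≤ P') {X Y : Type u} [AddCommGroup X] [Module B X] [AddCommGroup Y]
    [Module B Y] [Module.Projective (B ⧸ P') ((B ⧸ P') ⊗[B] Y)] (u : X →ₗ[B] Y) (v0 : S ⊗[B] Y →ₗ[B] S ⊗[B] X)
    (h : ∀ y, v0 (u.lTensor S y) = y) :
    ∃ v : (B ⧸ P') ⊗[B] Y →ₗ[B] (B ⧸ P') ⊗[B] X, ∀ y, v (u.lTensor (B ⧸ P') y) = y := by
  let T := B ⧸ P'
  let q : T →ₗ[B] S := (Ideal.Quotient.liftₐ P' (Algebra.ofId B S) fun x hx => hle hx).toLinearMap
  have hq : ∀ b, q (Ideal.Quotient.mk P' b) = algebraMap B S b := fun b => rfl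
  have hqs : Function.Surjective q := fun y => by
    obtain ⟨b, rfl⟩ := hS y
    exact ⟨Ideal.Quotient.mk P' b, hq b⟩
  have hkill : ∀ x ∈ P', ∀ y : T ⊗[B] X, x • y = 0 := fun x hx y => by
    rw [← algebraMap_smul T x y, show algebraMap B T x = 0 from Ideal.Quotient.eq_zero_iff_mem.mpr hx, zero_smul]
  have hqX : LinearMap.ker (q.rTensor X) ≤ RingHom.ker (algebraMap B S) • (⊤ : Submodule B (T ⊗[B] X)) := by
    intro y hy
    have hex := rTensor_exact X (f := (LinearMap.ker q).subtype) (LinearMap.exact_subtype_ker_map q) hqs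
    obtain ⟨w, rfl⟩ := (hex y).mp hy
    induction w using TensorProduct.induction_on with
    | zero => simp
    | add a b ha hb => rw [map_add]; exact Submodule.add_mem _ (ha (hex.apply_apply_eq_zero a)) (hb (hex.apply_apply_eq_zero b))
    | tmul c x =>
      obtain ⟨c, hc⟩ := c
      obtain ⟨b, rfl⟩ := Ideal.Quotient.mk_surjective c
      rw [LinearMap.rTensor_tmul, Submodule.subtype_apply]
      show Ideal.Quotient.mk P' b ⊗ₜ[B] x ∈ _
      rw [show Ideal.Quotient.mk P' b = b • (1 : T) by rw [← Algebra.algebraMap_eq_smul_one]; rfl,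
        ← TensorProduct.smul_tmul']
      exact Submodule.smul_mem_smul ((hq b).symm.trans hc) Submodule.mem_top
  obtain ⟨v1, hv1⟩ := PP16Lib.exists_lift_projective P' hkill (q.rTensor X) (LinearMap.rTensor_surjective X hqs)
    (v0.comp (q.rTensor Y))
  let G : Module.End B (T ⊗[B] X) := 1 - v1.comp (u.lTensor T)
  have hG : ∀ y, G y ∈ RingHom.ker (algebraMap B S) • (⊤ : Submodule B (T ⊗[B] X)) := fun y => hqX <| by
    show q.rTensor X (y - v1 (u.lTensor T y)) = 0
    rw [map_sub, show q.rTensor X (v1 (u.lTensor T y)) = v0 (q.rTensor Y (u.lTensor T y)) from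
      LinearMap.congr_fun hv1 _,
      show q.rTensor Y (u.lTensor T y) = u.lTensor S (q.rTensor X y) from
        LinearMap.congr_fun ((LinearMap.rTensor_comp_lTensor _ _ _).trans (LinearMap.lTensor_comp_rTensor _ _ _).symm) y,
      h, sub_self]
  have hpow : ∀ j y, (G ^ j) y ∈ RingHom.ker (algebraMap B S) ^ j • (⊤ : Submodule B (T ⊗[B] X)) := fun j => by
    induction j with
    | zero => simp
    | succ j ih =>
      intro y
      rw [pow_succ' G, Module.End.mul_apply]
      have h1 := Submodule.mem_map_of_mem (f := G) (ih y)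
      rw [Submodule.map_smul''] at h1
      have h2 : (⊤ : Submodule B _).map G ≤ RingHom.ker (algebraMap B S) • ⊤ := by
        rintro _ ⟨z, -, rfl⟩; exact hG z
      have h3 := Submodule.smul_mono le_rfl h2 h1
      rwa [← Submodule.mul_smul, ← pow_succ] at h3
  have hnil : IsNilpotent G := ⟨r, LinearMap.ext fun y =>
    Submodule.smul_induction_on (p := fun z => z = 0) (hpow r y) (fun x hx z _ => hkill x (hr hx) z)
      fun a b ha hb => by rw [ha, hb, add_zero]⟩
  obtain ⟨w, hw⟩ := IsNilpotent.isUnit_one_sub (R := Module.End B (T ⊗[B] X)) (r := G) hnil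
  refine ⟨(↑w⁻¹ : Module.End B (T ⊗[B] X)).comp v1, fun y => ?_⟩
  show (↑w⁻¹ : Module.End B _) (v1 (u.lTensor T y)) = y
  rw [show v1 (u.lTensor T y) = (w : Module.End B (T ⊗[B] X)) y by
    rw [hw]; show _ = y - (y - v1 (u.lTensor T y)); rw [sub_sub_cancel]]
  rw [← Module.End.mul_apply, Units.inv_mul, Module.End.one_apply]

theorem projective_tensor_tensor {B : Type u} [CommRing B] (J P' : Ideal B) (hJ : J ≤ P') (W : Type u)
    [AddCommGroup W] [Module B W] [Module.Projective (B ⧸ P') ((B ⧸ P') ⊗[B] W)] :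
    Module.Projective (B ⧸ P') ((B ⧸ P') ⊗[B] ((B ⧸ J) ⊗[B] W)) := by
  let q : (B ⧸ J) →ₗ[B] B ⧸ P' := (Ideal.Quotient.factorₐ B hJ).toLinearMap
  let f : (B ⧸ P') ⊗[B] W →ₗ[B ⧸ P'] (B ⧸ P') ⊗[B] ((B ⧸ J) ⊗[B] W) :=
    (TensorProduct.mk B (B ⧸ J) W 1).baseChange (B ⧸ P')
  let g : (B ⧸ P') ⊗[B] ((B ⧸ J) ⊗[B] W) →ₗ[B ⧸ P'] (B ⧸ P') ⊗[B] W := (q.rTensor W).liftBaseChange (B ⧸ P')
  refine Module.Projective.of_equiv (LinearEquiv.ofLinear f g (TensorProduct.AlgebraTensorModule.ext fun c y => ?_)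
    (TensorProduct.AlgebraTensorModule.ext fun c w => ?_))
  · rw [LinearMap.comp_apply, LinearMap.id_apply, LinearMap.liftBaseChange_tmul, map_smul]
    induction y using TensorProduct.induction_on with
    | zero => simp
    | add a b ha hb => rw [map_add, map_add, smul_add, ha, hb, TensorProduct.tmul_add]
    | tmul d w =>
      obtain ⟨b, rfl⟩ := Ideal.Quotient.mk_surjective d
      show c • f (Ideal.Quotient.mk P' b ⊗ₜ[B] w) = _
      rw [show Ideal.Quotient.mk P' b = b • (1 : B ⧸ P') by rw [← Algebra.algebraMap_eq_smul_one]; rfl,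
        show Ideal.Quotient.mk J b = b • (1 : B ⧸ J) by rw [← Algebra.algebraMap_eq_smul_one]; rfl]
      simp [f, TensorProduct.smul_tmul']
      exact TensorProduct.smul_tmul _ _ _
  · show g (c ⊗ₜ[B] ((1 : B ⧸ J) ⊗ₜ[B] w)) = c ⊗ₜ[B] w
    rw [LinearMap.liftBaseChange_tmul, LinearMap.rTensor_tmul]
    show c • ((1 : B ⧸ P') ⊗ₜ[B] w) = _
    rw [TensorProduct.smul_tmul', smul_eq_mul, mul_one]

variable {A B : Type u} [CommRing A] [CommRing B] [Algebra A B]

theorem exists_leftInverse [IsNoetherianRing B] {I J : Ideal B} {S : Type u} [CommRing S] [Algebra B S]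
    [Algebra (B ⧸ J) S] [IsScalarTower B (B ⧸ J) S] (hS : Function.Surjective (algebraMap B S)) {n : ℕ}
    (hI : I ^ n ≤ RingHom.ker (algebraMap B S))
    (hC : CAlgX.IsAdicFormallySmooth A (B ⧸ J) (I.map (Ideal.Quotient.mk J))) :
    ∃ g : S ⊗[B] ((B ⧸ J) ⊗[B] Ω[B⁄A]) →ₗ[S] S ⊗[B] (RingHom.ker (algebraMap B (B ⧸ J))).Cotangent,
      g ∘ₗ LinearMap.baseChange S (KaehlerDifferential.kerCotangentToTensor A B (B ⧸ J)) = LinearMap.id := by
  set K := RingHom.ker (algebraMap B (B ⧸ J)) with hKdef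
  set P := RingHom.ker (algebraMap B S) with hPdef
  have hKJ : ∀ x, x ∈ K ↔ x ∈ J := fun x => Ideal.Quotient.eq_zero_iff_mem
  have hKP : K ≤ P := fun x hx => by
    rw [hPdef, RingHom.mem_ker, IsScalarTower.algebraMap_apply B (B ⧸ J) S, RingHom.mem_ker.mp hx, map_zero]
  obtain ⟨c, hc⟩ := Ideal.exists_pow_inf_eq_pow_smul I (K : Submodule B B)
  let k := c + n
  have hAR : I ^ k ⊓ K ≤ P * K := by
    have h := hc k (Nat.le_add_right c n)
    simp only [smul_eq_mul, Ideal.mul_top, k, Nat.add_sub_cancel_left] at h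
    exact h.le.trans (Ideal.mul_mono hI inf_le_right)
  -- the square-zero extension
  let L := P * K ⊔ I ^ k
  let π : B →ₐ[A] B ⧸ L := Ideal.Quotient.mkₐ A L
  let N := (K ⊔ I ^ k).map (Ideal.Quotient.mk L)
  have hsq : (K ⊔ I ^ k) * (K ⊔ I ^ k) ≤ L := by
    rw [Ideal.sup_mul]
    refine sup_le ?_ (le_sup_of_le_right Ideal.mul_le_left)
    rw [Ideal.mul_sup]
    exact sup_le_sup (Ideal.mul_mono_left hKP) Ideal.mul_le_right
  have hN : N ^ 2 = ⊥ := by
    rw [← Ideal.map_pow, Ideal.map_eq_bot_iff_le_ker, Ideal.mk_ker, pow_two]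
    exact hsq
  obtain ⟨χ, hχ⟩ := hC (B ⧸ L) N hN (Ideal.Quotient.liftₐ J ((Ideal.Quotient.mkₐ A N).comp π) fun x hx =>
      Ideal.Quotient.eq_zero_iff_mem.mpr (Ideal.mem_map_of_mem _ (Ideal.mem_sup_left ((hKJ x).mpr hx))))
    ⟨k, fun x hx => by
      rw [← Ideal.map_pow, Ideal.mem_map_iff_of_surjective _ Ideal.Quotient.mk_surjective] at hx
      obtain ⟨y, hy, rfl⟩ := hx
      exact Ideal.Quotient.eq_zero_iff_mem.mpr (Ideal.mem_map_of_mem _ (Ideal.mem_sup_right hy))⟩
  have hmem : ∀ b, π b - χ (Ideal.Quotient.mk J b) ∈ N := fun b => by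
    rw [← Ideal.Quotient.eq]
    exact (DFunLike.congr_fun hχ (Ideal.Quotient.mk J b)).symm
  have hN0 : ∀ {x y : B ⧸ L}, x ∈ N → y ∈ N → x * y = 0 := fun {x y} hx hy => by
    rw [← Ideal.mem_bot, ← hN, pow_two]
    exact Ideal.mul_mem_mul hx hy
  let D0 : B →ₗ[A] B ⧸ L := π.toLinearMap - (χ.comp (Ideal.Quotient.mkₐ A J)).toLinearMap
  let D : Derivation A B (B ⧸ L) := Derivation.mk' D0 fun a b => by
    show π (a * b) - χ (Ideal.Quotient.mk J (a * b)) =
      π a * (π b - χ (Ideal.Quotient.mk J b)) + π b * (π a - χ (Ideal.Quotient.mk J a))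
    rw [map_mul, map_mul, map_mul]
    linear_combination (-1 : B ⧸ L) * hN0 (hmem a) (hmem b)
  -- `M = S ⊗ K/K²` embeds into `B/L`
  let f0 : K.Cotangent →ₗ[B] B ⧸ L :=
    Submodule.liftQ _ ((Ideal.Quotient.mkₐ B L).toLinearMap.comp (Submodule.subtype K)) fun z hz =>
      Submodule.smul_induction_on hz (fun a ha b _ => Ideal.Quotient.eq_zero_iff_mem.mpr
        (Ideal.mem_sup_left (Ideal.mul_mem_mul (hKP ha) b.2))) fun a b ha hb => add_mem ha hb
  let e : (B ⧸ P) ≃ₗ[B] S :=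
    (Ideal.quotientKerAlgEquivOfSurjective (f := Algebra.ofId B S) hS).toLinearEquiv
  let ι : S ⊗[B] K.Cotangent →ₗ[B] B ⧸ L :=
    (TensorProduct.lift (Submodule.liftQ P (LinearMap.toSpanSingleton B _ f0) fun p hp => by
      refine LinearMap.ext fun z => ?_
      obtain ⟨z, rfl⟩ := Ideal.toCotangent_surjective K z
      show p • Ideal.Quotient.mk L (z : B) = 0
      exact Ideal.Quotient.eq_zero_iff_mem.mpr (Ideal.mem_sup_left (Ideal.mul_mem_mul hp z.2)))).comp
        (e.symm.toLinearMap.rTensor _)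
  have hι : ∀ x : K, ι ((1 : S) ⊗ₜ[B] K.toCotangent x) = Ideal.Quotient.mk L (x : B) := fun x => by
    have h1 : e.symm (1 : S) = Submodule.Quotient.mk (1 : B) :=
      e.symm_apply_eq.mpr (map_one (Algebra.ofId B S)).symm
    simp only [ι, LinearMap.comp_apply, LinearMap.rTensor_tmul, LinearEquiv.coe_coe, h1]
    show (1 : B) • f0 (K.toCotangent x) = _
    rw [one_smul]
    rfl
  have hrep : ∀ m : S ⊗[B] K.Cotangent, ∃ x : K, (1 : S) ⊗ₜ[B] K.toCotangent x = m := fun m => by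
    induction m using TensorProduct.induction_on with
    | zero => exact ⟨0, by simp⟩
    | add a b ha hb =>
      obtain ⟨x, rfl⟩ := ha
      obtain ⟨y, rfl⟩ := hb
      exact ⟨x + y, by rw [map_add, TensorProduct.tmul_add]⟩
    | tmul s z =>
      obtain ⟨b, rfl⟩ := hS s
      obtain ⟨x, rfl⟩ := Ideal.toCotangent_surjective K z
      exact ⟨b • x, by rw [map_smul, ← TensorProduct.smul_tmul, ← Algebra.algebraMap_eq_smul_one]⟩
  let g0 : K →ₗ[B] S ⊗[B] K.Cotangent := (TensorProduct.mk B S K.Cotangent 1).comp K.toCotangent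
  have hPK : ∀ x ∈ P * K, x ∈ K ∧ ∀ h : x ∈ K, g0 ⟨x, h⟩ = 0 := fun x hx => by
    refine Submodule.mul_induction_on hx (fun p hp z hz => ⟨K.mul_mem_left p hz, fun h => ?_⟩)
      fun a b ha hb => ⟨add_mem ha.1 hb.1, fun h => ?_⟩
    · show g0 (p • ⟨z, hz⟩) = 0
      rw [map_smul, ← algebraMap_smul S p, RingHom.mem_ker.mp hp, zero_smul]
    · show g0 (⟨a, ha.1⟩ + ⟨b, hb.1⟩) = 0
      rw [map_add, ha.2, hb.2, add_zero]
  have hinj : Function.Injective ι := by
    refine (injective_iff_map_eq_zero ι).mpr fun m hm => ?_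
    obtain ⟨x, rfl⟩ := hrep m
    rw [hι, Ideal.Quotient.eq_zero_iff_mem] at hm
    obtain ⟨a, ha, y, hy, hxy⟩ := Submodule.mem_sup.mp hm
    have hyK : y ∈ K := by
      rw [show y = (x : B) - a from eq_sub_of_add_eq' hxy]
      exact sub_mem x.2 (hPK a ha).1
    have : (x : B) ∈ P * K := hxy ▸ add_mem ha (hAR ⟨hy, hyK⟩)
    exact (hPK _ this).2 x.2
  have hNrange : ∀ y ∈ N, y ∈ LinearMap.range ι := fun y hy => by
    obtain ⟨z, hz, rfl⟩ := (Ideal.mem_map_iff_of_surjective _ Ideal.Quotient.mk_surjective).mp hy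
    obtain ⟨j, hj, i, hi, rfl⟩ := Submodule.mem_sup.mp hz
    refine ⟨(1 : S) ⊗ₜ[B] K.toCotangent ⟨j, hj⟩, ?_⟩
    rw [hι, Ideal.Quotient.eq]
    exact Ideal.mem_sup_right (by simpa using neg_mem hi)
  have hrange : ∀ w, D.liftKaehlerDifferential w ∈ LinearMap.range ι := fun w => by
    induction (KaehlerDifferential.span_range_derivation A B).ge (Submodule.mem_top (x := w)) using
      Submodule.span_induction with
    | mem w hw =>
      obtain ⟨b, rfl⟩ := hw
      rw [Derivation.liftKaehlerDifferential_comp_D]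
      exact hNrange _ (hmem b)
    | zero => simp
    | add x y _ _ hx hy => rw [map_add]; exact add_mem hx hy
    | smul b x _ hx => rw [map_smul]; exact Submodule.smul_mem _ b hx
  let w : Ω[B⁄A] →ₗ[B] S ⊗[B] K.Cotangent :=
    (LinearEquiv.ofInjective ι hinj).symm.toLinearMap.comp (D.liftKaehlerDifferential.codRestrict _ hrange)
  have hw : ∀ z, ι (w z) = D.liftKaehlerDifferential z := fun z => by
    show ι ((LinearEquiv.ofInjective ι hinj).symm _) = _
    rw [← LinearEquiv.ofInjective_apply ι (h := hinj), LinearEquiv.apply_symm_apply]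
    rfl
  refine ⟨((w.liftBaseChange (B ⧸ J)).restrictScalars B).liftBaseChange S,
    TensorProduct.AlgebraTensorModule.ext fun s z => ?_⟩
  obtain ⟨x, rfl⟩ := Ideal.toCotangent_surjective K z
  show s • ((1 : B ⧸ J) • w (KaehlerDifferential.D A B x)) = s ⊗ₜ[B] K.toCotangent x
  rw [one_smul, show w (KaehlerDifferential.D A B x) = (1 : S) ⊗ₜ[B] K.toCotangent x from hinj (by
    rw [hw, hι, Derivation.liftKaehlerDifferential_comp_D]
    show π x - χ (Ideal.Quotient.mk J x) = _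
    rw [Ideal.Quotient.eq_zero_iff_mem.mpr ((hKJ x).mp x.2), map_zero, sub_zero]
    rfl), TensorProduct.smul_tmul', smul_eq_mul, mul_one]

theorem adicSmooth_quotient {I J : Ideal B} {S : Type u} [CommRing S] [Algebra B S]
    (hB : CAlgX.IsAdicFormallySmooth A B I) (hS : Function.Surjective (algebraMap B S)) {n m : ℕ}
    (hI : I ^ n ≤ RingHom.ker (algebraMap B S)) (hJ : J ≤ RingHom.ker (algebraMap B S))
    (hm : RingHom.ker (algebraMap B S) ^ m ≤ I ⊔ J)
    (g : S ⊗[B] ((B ⧸ J) ⊗[B] Ω[B⁄A]) →ₗ[S] S ⊗[B] (RingHom.ker (algebraMap B (B ⧸ J))).Cotangent)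
    (hg : g ∘ₗ LinearMap.baseChange S (KaehlerDifferential.kerCotangentToTensor A B (B ⧸ J)) = LinearMap.id) :
    CAlgX.IsAdicFormallySmooth A (B ⧸ J) (I.map (Ideal.Quotient.mk J)) := by
  intro E _ _ N hN ψ hψ
  obtain ⟨k0, hk0⟩ := hψ
  obtain ⟨χ, hχ⟩ := hB E N hN (ψ.comp (Ideal.Quotient.mkₐ A J))
    ⟨k0, fun x hx => hk0 _ (by rw [← Ideal.map_pow]; exact Ideal.mem_map_of_mem _ hx)⟩
  have hχ' : ∀ b, Ideal.Quotient.mk N (χ b) = ψ (Ideal.Quotient.mk J b) := fun b => DFunLike.congr_fun hχ b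
  have hN0 : ∀ {x y : E}, x ∈ N → y ∈ N → x * y = 0 := fun {x y} hx hy => by
    rw [← Ideal.mem_bot, ← hN, pow_two]
    exact Ideal.mul_mem_mul hx hy
  let K := RingHom.ker (algebraMap B (B ⧸ J))
  have hKJ : ∀ x, x ∈ K ↔ x ∈ J := fun x => Ideal.Quotient.eq_zero_iff_mem
  let k := max k0 n
  let P' := J ⊔ I ^ k
  have hPN : ∀ x ∈ P', χ x ∈ N := fun x hx => by
    rw [← Ideal.Quotient.eq_zero_iff_mem, hχ']
    obtain ⟨j, hj, i, hi, rfl⟩ := Submodule.mem_sup.mp hx
    rw [map_add, map_add, Ideal.Quotient.eq_zero_iff_mem.mpr hj, map_zero, zero_add]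
    exact hk0 _ (by rw [← Ideal.map_pow]; exact Ideal.mem_map_of_mem _ (Ideal.pow_le_pow_right (le_max_left _ _) hi))
  letI : Algebra B E := χ.toRingHom.toAlgebra
  haveI : IsScalarTower A B E := IsScalarTower.of_algebraMap_eq fun a => (χ.commutes a).symm
  have hsmul : ∀ (b : B) (z : E), b • z = χ b * z := fun b z => rfl
  let M := N.restrictScalars B
  have hM : ∀ x ∈ P', ∀ z : M, x • z = 0 := fun x hx z => Subtype.ext (hN0 (hPN x hx) z.2)
  let h0 : K →ₗ[B] M := ((Algebra.linearMap B E).comp (Submodule.subtype K)).codRestrict M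
    fun x => hPN _ (Ideal.mem_sup_left ((hKJ x).mp x.2))
  let h : K.Cotangent →ₗ[B] M := Submodule.liftQ _ h0 fun z hz =>
    Submodule.smul_induction_on hz (fun a ha b _ => by
      rw [LinearMap.mem_ker, map_smul]
      exact hM a (Ideal.mem_sup_left ((hKJ a).mp ha)) _) fun a b ha hb => add_mem ha hb
  have hle : P' ≤ RingHom.ker (algebraMap B S) :=
    sup_le hJ ((Ideal.pow_le_pow_right (le_max_right _ _)).trans hI)
  have hr : RingHom.ker (algebraMap B S) ^ (m * k) ≤ P' := by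
    rw [pow_mul]
    refine (Ideal.pow_right_mono hm k).trans fun x hx => ?_
    have h' := Ideal.mem_map_of_mem (Ideal.Quotient.mk J) hx
    rw [Ideal.map_pow, Ideal.map_sup, Ideal.map_quotient_self, sup_bot_eq, ← Ideal.map_pow,
      Ideal.mem_quotient_iff_mem_sup, sup_comm] at h'
    exact h'
  haveI : Module.Projective (B ⧸ P') ((B ⧸ P') ⊗[B] Ω[B⁄A]) :=
    PP16Lib.projective_tensor_omega hB P' (k := k) le_sup_right
  haveI := projective_tensor_tensor J P' le_sup_left Ω[B⁄A]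
  obtain ⟨v, hv⟩ := exists_leftInverse_of_quotient hS hle hr (KaehlerDifferential.kerCotangentToTensor A B (B ⧸ J))
    (g.restrictScalars B) fun y => by
      have h := LinearMap.congr_fun hg y
      simpa [LinearMap.baseChange_eq_ltensor] using h
  let μ : (B ⧸ P') ⊗[B] K.Cotangent →ₗ[B] M :=
    TensorProduct.lift (Submodule.liftQ P' (LinearMap.toSpanSingleton B _ h) fun p hp =>
      LinearMap.ext fun z => hM p hp (h z))
  let F : Ω[B⁄A] →ₗ[B] E := M.subtype.comp ((μ.comp v).comp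
    ((TensorProduct.mk B (B ⧸ P') _ 1).comp (TensorProduct.mk B (B ⧸ J) Ω[B⁄A] 1)))
  let δ : Derivation A B E := F.compDer (KaehlerDifferential.D A B)
  have hδN : ∀ b, δ b ∈ N := fun b => ((μ.comp v) _).2
  have hδK : ∀ x ∈ J, δ x = χ x := fun x hx => by
    have e : v ((1 : B ⧸ P') ⊗ₜ[B] ((1 : B ⧸ J) ⊗ₜ[B] KaehlerDifferential.D A B x)) =
        (1 : B ⧸ P') ⊗ₜ[B] K.toCotangent ⟨x, (hKJ x).mpr hx⟩ := by
      refine Eq.trans (congrArg v ?_) (hv _)
      rw [LinearMap.lTensor_tmul, KaehlerDifferential.kerCotangentToTensor_toCotangent]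
    show (μ (v ((1 : B ⧸ P') ⊗ₜ[B] ((1 : B ⧸ J) ⊗ₜ[B] KaehlerDifferential.D A B x))) : E) = χ x
    rw [e]
    show (((1 : B) • h (K.toCotangent ⟨x, (hKJ x).mpr hx⟩) : M) : E) = χ x
    rw [one_smul]
    rfl
  let χ' : B →ₐ[A] E :=
    AlgHom.ofLinearMap (χ.toLinearMap - δ.toLinearMap) (by
      show χ 1 - δ 1 = 1
      rw [map_one, Derivation.map_one_eq_zero, sub_zero]) fun a b => by
      show χ (a * b) - δ (a * b) = (χ a - δ a) * (χ b - δ b)
      rw [map_mul, Derivation.leibniz, hsmul, hsmul]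
      linear_combination (-1 : E) * hN0 (hδN a) (hδN b)
  refine ⟨Ideal.Quotient.liftₐ J χ' fun x hx => ?_, ?_⟩
  · show χ x - δ x = 0
    rw [hδK x hx, sub_self]
  · refine Ideal.Quotient.algHom_ext A (AlgHom.ext fun b => ?_)
    show Ideal.Quotient.mk N (χ b - δ b) = ψ (Ideal.Quotient.mk J b)
    rw [map_sub, Ideal.Quotient.eq_zero_iff_mem.mpr (hδN b), sub_zero, hχ']

/-- In the Noetherian adic case, which the published statement itself singles out, let A → B be a ring
homomorphism with B Noetherian, I and J ideals of B, and suppose B, with the I-adic topology, is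
formally smooth over the discrete ring A. Put C = B/J with the quotient (IC-adic) topology and let Q
be an ideal of definition of C, i.e. an ideal containing a power of IC and a power of which lies in
IC. Then C is formally smooth over A for the IC-adic topology if and only if the C/Q-linear map
(J/J²) ⊗ (C/Q) → Ω_{B/A} ⊗_B (C/Q), obtained by base change from the conormal map J/J² → Ω_{B/A} ⊗_B
C, x ↦ 1 ⊗ dx, has a C/Q-linear left inverse (is an isomorphism onto a direct summand). Here J is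
written as the kernel of B → C and the tensor products are taken over B, which for these C-modules
is the same as over C. (The published statement allows A to be any topological ring with A → B
continuous; this row takes A discrete.) -/
theorem result {A B : Type u} [CommRing A]
    [CommRing B] [Algebra A B] [IsNoetherianRing B] (I J : Ideal B) (hB : CAlgX.IsAdicFormallySmooth A B I)
    (Q : Ideal (B ⧸ J)) (hQ : ∃ n : ℕ, (I.map (Ideal.Quotient.mk J)) ^ n ≤ Q)
    (hQ' : ∃ m : ℕ, Q ^ m ≤ I.map (Ideal.Quotient.mk J)) :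
    CAlgX.IsAdicFormallySmooth A (B ⧸ J) (I.map (Ideal.Quotient.mk J)) ↔
      ∃ g : ((B ⧸ J) ⧸ Q) ⊗[B] ((B ⧸ J) ⊗[B] Ω[B⁄A]) →ₗ[(B ⧸ J) ⧸ Q]
          ((B ⧸ J) ⧸ Q) ⊗[B] (RingHom.ker (algebraMap B (B ⧸ J))).Cotangent,
        g ∘ₗ LinearMap.baseChange ((B ⧸ J) ⧸ Q) (KaehlerDifferential.kerCotangentToTensor A B (B ⧸ J)) =
          LinearMap.id := by
  obtain ⟨n, hn⟩ := hQ
  obtain ⟨m, hm⟩ := hQ'
  have hS : Function.Surjective (algebraMap B ((B ⧸ J) ⧸ Q)) :=
    Ideal.Quotient.mk_surjective.comp Ideal.Quotient.mk_surjective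
  have hmem : ∀ x, x ∈ RingHom.ker (algebraMap B ((B ⧸ J) ⧸ Q)) ↔ Ideal.Quotient.mk J x ∈ Q :=
    fun x => Ideal.Quotient.eq_zero_iff_mem
  have hI : I ^ n ≤ RingHom.ker (algebraMap B ((B ⧸ J) ⧸ Q)) := fun x hx =>
    (hmem x).mpr (hn (by rw [← Ideal.map_pow]; exact Ideal.mem_map_of_mem _ hx))
  refine ⟨exists_leftInverse hS hI, fun ⟨g, hg⟩ => adicSmooth_quotient hB hS hI (m := m)
    (fun x hx => (hmem x).mpr (by rw [Ideal.Quotient.eq_zero_iff_mem.mpr hx]; exact Q.zero_mem))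
    (fun x hx => ?_) g hg⟩
  have h := Ideal.mem_map_of_mem (Ideal.Quotient.mk J) hx
  rw [Ideal.map_pow] at h
  exact Ideal.mem_quotient_iff_mem_sup.mp (hm (Ideal.pow_right_mono (Ideal.map_le_iff_le_comap.mpr fun y hy => (hmem y).mp hy) m h))

end Groth.Agent.S12136
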