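import Groth.Statements.S12137
import Groth.Agent.RelProjBasic.QMap
import Groth.Agent.RelProjBasic.Dom

set_option autoImplicit false
universe u
open CategoryTheory CategoryTheory.Limits AlgebraicGeometry Opposite TopologicalSpace
open scoped HomogeneousIdeal
noncomputable section
open EGA2

namespace Groth.Agent.S12137

/-- Let Y be a scheme, 𝒜 a quasi-coherent O_Y-algebra and Ŝ = 𝒜[T], graded with 𝒜 in degree 0 and T in
degree 1 — presented through a homomorphism of algebras ι : 𝒜 → Ŝ landing in degree 0 and a global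
section z of Ŝ of degree 1 such that, over every affine open U, the map 𝒜(U)[X] → Ŝ(U) sending X to
z is bijective — and let p : P → Y with its charts be the relative homogeneous spectrum Proj(Ŝ). For
each affine open U let θ_U : Ŝ(U)_(z) → 𝒜(U) be the ring isomorphism sending ι(a) z^k / z^k to a.
Then there is a unique morphism i : Spec(𝒜) → P which, on the chart Spec 𝒜(U) of Spec(𝒜) over each
affine open U, is Spec(θ_U) followed by the open immersion of D_+(z|U) into Proj Ŝ(U) and the chart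
of P; moreover i is an isomorphism and lies over Y. In particular Proj(O_Y[T]) is Y. -/
theorem result {Y P : Scheme.{u}} (𝒜 : RelSpec.QCAlg Y) (Sh : RelProj.QCGrAlg Y)
    (ι : 𝒜 ⟶ Sh.toQCAlg)
    (hι : ∀ (U : Y.Opens) (hU : IsAffineOpen U) (a : 𝒜.presheaf.obj (op U)), (ι.hom.app (op U)).hom a ∈ Sh.deg U hU 0)
    (z : Sh.presheaf.obj (op ⊤))
    (hz : ∀ (U : Y.Opens) (hU : IsAffineOpen U), (Sh.presheaf.map (homOfLE le_top).op).hom z ∈ Sh.deg U hU 1)
    (hpoly : ∀ (U : Y.Opens) (hU : IsAffineOpen U),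
      Function.Bijective (Polynomial.eval₂RingHom (ι.hom.app (op U)).hom ((Sh.presheaf.map (homOfLE le_top).op).hom z)))
    (p : P ⟶ Y)
    (chart : ∀ (U : Y.Opens) (hU : IsAffineOpen U), (((p ⁻¹ᵁ U : P.Opens) : Scheme.{u}) ≅ Proj (Sh.deg U hU)))
    (hP : RelProj.IsRelProj Sh p chart)
    (θ : ∀ (U : Y.Opens) (hU : IsAffineOpen U),
      CommRingCat.of (HomogeneousLocalization.Away (Sh.deg U hU) ((Sh.presheaf.map (homOfLE le_top).op).hom z)) ⟶
        𝒜.presheaf.obj (op U))
    (hθ : ∀ (U : Y.Opens) (hU : IsAffineOpen U)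
      (q : HomogeneousLocalization.Away (Sh.deg U hU) ((Sh.presheaf.map (homOfLE le_top).op).hom z))
      (k : ℕ) (a : 𝒜.presheaf.obj (op U)),
        q.val = Localization.mk ((ι.hom.app (op U)).hom a * (Sh.presheaf.map (homOfLE le_top).op).hom z ^ k)
          ⟨(Sh.presheaf.map (homOfLE le_top).op).hom z ^ k,
            pow_mem (Submonoid.mem_powers ((Sh.presheaf.map (homOfLE le_top).op).hom z)) k⟩ →
        (θ U hU).hom q = a) :
    (∃! i : 𝒜.spec ⟶ P, ∀ (U : Y.Opens) (hU : IsAffineOpen U),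
        𝒜.ι U hU ≫ i =
          Spec.map (θ U hU) ≫
            Proj.awayι (Sh.deg U hU) ((Sh.presheaf.map (homOfLE le_top).op).hom z) (hz U hU) one_pos ≫
              RelProj.emb p chart U hU) ∧
      ∀ i : 𝒜.spec ⟶ P, (∀ (U : Y.Opens) (hU : IsAffineOpen U),
        𝒜.ι U hU ≫ i =
          Spec.map (θ U hU) ≫
            Proj.awayι (Sh.deg U hU) ((Sh.presheaf.map (homOfLE le_top).op).hom z) (hz U hU) one_pos ≫
              RelProj.emb p chart U hU) →
        IsIso i ∧ i ≫ p = 𝒜.π := by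
  classical
  let Z : ∀ U : Y.Opens, Sh.presheaf.obj (op U) := fun U => (Sh.presheaf.map (homOfLE le_top).op).hom z
  have hdeg : ∀ (U : Y.Opens) (hU : IsAffineOpen U) (n : ℕ) (x : Sh.presheaf.obj (op U)), x ∈ Sh.deg U hU n →
      ∃ a, x = (ι.hom.app (op U)).hom a * Z U ^ n := by
    intro U hU n x hx
    obtain ⟨q, hq⟩ := (hpoly U hU).2 x
    refine ⟨q.coeff n, ?_⟩
    rw [← DirectSum.decompose_of_mem_same (Sh.deg U hU) hx, ← hq]
    have hm : ∀ k a, (ι.hom.app (op U)).hom a * Z U ^ k ∈ Sh.deg U hU k := fun k a => by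
      simpa using SetLike.mul_mem_graded (hι U hU a) (SetLike.pow_mem_graded k (hz U hU))
    clear hq hx
    induction q using Polynomial.induction_on' with
    | add p q hp hq =>
      rw [map_add, DirectSum.decompose_add, DirectSum.add_apply, AddMemClass.coe_add, Polynomial.coeff_add, map_add,
        add_mul, hp, hq]
    | monomial k a =>
      rw [Polynomial.coe_eval₂RingHom, Polynomial.eval₂_monomial, Polynomial.coeff_monomial]
      by_cases h : k = n
      · subst h
        rw [if_pos rfl]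
        exact DirectSum.decompose_of_mem_same _ (hm k a)
      · rw [if_neg h, map_zero, zero_mul]
        exact DirectSum.decompose_of_mem_ne _ (hm k a) h
  have hrep : ∀ (U : Y.Opens) (hU : IsAffineOpen U)
      (q : HomogeneousLocalization.Away (Sh.deg U hU) (Z U)), ∃ (k : ℕ) (a : 𝒜.presheaf.obj (op U)),
        q.val = Localization.mk ((ι.hom.app (op U)).hom a * Z U ^ k)
          ⟨Z U ^ k, pow_mem (Submonoid.mem_powers (Z U)) k⟩ := by
    intro U hU q
    obtain ⟨n, x, hx, rfl⟩ := HomogeneousLocalization.Away.mk_surjective _ (hz U hU) q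
    obtain ⟨a, ha⟩ := hdeg U hU n x (by simpa using hx)
    exact ⟨n, a, by rw [HomogeneousLocalization.Away.val_mk, ha]⟩
  have hθbij : ∀ (U : Y.Opens) (hU : IsAffineOpen U), Function.Bijective (θ U hU).hom := by
    intro U hU
    refine ⟨(injective_iff_map_eq_zero _).mpr fun q hq => ?_, fun a => ?_⟩
    · obtain ⟨k, a, ha⟩ := hrep U hU q
      obtain rfl : a = 0 := ((hθ U hU q k a ha).symm.trans hq)
      refine HomogeneousLocalization.val_injective _ ?_
      rw [ha, HomogeneousLocalization.val_zero, map_zero, zero_mul]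
      exact Localization.mk_zero _
    · refine ⟨HomogeneousLocalization.Away.mk _ (hz U hU) 0 ((ι.hom.app (op U)).hom a * Z U ^ 0)
        (by simpa using hι U hU a), hθ U hU _ 0 a ?_⟩
      rw [HomogeneousLocalization.Away.val_mk]
  have hθiso : ∀ (U : Y.Opens) (hU : IsAffineOpen U), IsIso (θ U hU) := fun U hU =>
    (ConcreteCategory.isIso_iff_bijective _).mpr (hθbij U hU)
  let m : ∀ (U : Y.Opens) (hU : IsAffineOpen U), Spec (𝒜.presheaf.obj (op U)) ⟶ P := fun U hU =>
    Spec.map (θ U hU) ≫ Proj.awayι (Sh.deg U hU) (Z U) (hz U hU) one_pos ≫ RelProj.emb p chart U hU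
  have hres : ∀ (U : Y.Opens) (hU : IsAffineOpen U) (V : Y.Opens) (hV : IsAffineOpen V) (r : Γ(Y, U))
      (e : Y.basicOpen r = V), Spec.map (𝒜.presheaf.map (homOfLE (e.symm.le.trans (Y.basicOpen_le r))).op) ≫ m U hU = m V hV := by
    rintro U hU _ hV r rfl
    let ρ := Sh.res hU hV (Y.basicOpen_le r)
    have hρz : ρ (Z U) = Z (Y.basicOpen r) :=
      (CategoryTheory.congr_fun (Sh.presheaf.map_comp (homOfLE le_top).op (homOfLE (Y.basicOpen_le r)).op) z).symm
    have hle : Submonoid.powers (Z U) ≤ (Submonoid.powers (Z (Y.basicOpen r))).comap ρ := by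
      rintro _ ⟨n, rfl⟩; exact ⟨n, by simp only [map_pow, hρz]⟩
    have hring : θ U hU ≫ 𝒜.presheaf.map (homOfLE (Y.basicOpen_le r)).op =
        CommRingCat.ofHom (HomogeneousLocalization.map ρ hle) ≫ θ _ hV := by
      ext q
      obtain ⟨k, a, ha⟩ := hrep U hU q
      show (𝒜.presheaf.map _).hom ((θ U hU).hom q) = (θ _ hV).hom (HomogeneousLocalization.map ρ hle q)
      rw [hθ U hU q k a ha]
      refine (hθ _ hV _ k _ ?_).symm
      obtain ⟨c, rfl⟩ := HomogeneousLocalization.mk_surjective q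
      rw [HomogeneousLocalization.map_mk, HomogeneousLocalization.val_mk]
      rw [HomogeneousLocalization.val_mk, Localization.mk_eq_mk_iff, Localization.r_iff_exists] at ha
      obtain ⟨⟨t, n, rfl⟩, ht⟩ := ha
      rw [Localization.mk_eq_mk_iff, Localization.r_iff_exists]
      refine ⟨⟨Z (Y.basicOpen r) ^ n, n, rfl⟩, ?_⟩
      have e1 := CategoryTheory.congr_fun (ι.hom.naturality (homOfLE (Y.basicOpen_le r)).op) a
      have := congrArg ρ ht
      simp only [map_mul, map_pow, hρz] at this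
      refine this.trans ?_
      refine congrArg (fun w => Z (Y.basicOpen r) ^ n * (ρ c.den * (w * Z (Y.basicOpen r) ^ k))) ?_
      exact e1.symm
    show Spec.map _ ≫ Spec.map (θ U hU) ≫ _ = Spec.map (θ _ hV) ≫ _
    rw [← Spec.map_comp_assoc, hring, Spec.map_comp_assoc]
    congr 1
    rw [← Groth.Agent.RelProjBasic.map_res_emb hP U hU r]
    exact (Category.assoc _ _ _).symm.trans ((congrArg (· ≫ RelProj.emb p chart U hU)
      (Groth.Agent.RelProjBasic.awayι_comp_map' ρ (Sh.irrelevant_le_map U hU r) one_pos (Z U) (hz U hU)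
        (Z (Y.basicOpen r)) (hz _ hV) hρz hle).symm).trans (Category.assoc _ _ _))
  let cc : Cocone 𝒜.glueData.functor :=
    { pt := P
      ι := { app := fun U => m U.1 U.2
             naturality := fun V U i => by
              obtain ⟨r, hr⟩ := i.le
              exact (hres U.1 U.2 V.1 V.2 r hr).trans (Category.comp_id _).symm } }
  let i₀ : 𝒜.spec ⟶ P := colimit.desc 𝒜.glueData.functor cc
  have hi₀ : ∀ (U : Y.Opens) (hU : IsAffineOpen U), 𝒜.ι U hU ≫ i₀ = m U hU := fun U hU =>
    colimit.ι_desc cc (⟨U, hU⟩ : Y.AffineZariskiSite)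
  refine ⟨⟨i₀, hi₀, fun i hi => colimit.hom_ext fun U => (hi U.1 U.2).trans (hi₀ U.1 U.2).symm⟩, fun i hi => ?_⟩
  have hip : i ≫ p = 𝒜.π := by
    refine colimit.hom_ext fun U => ?_
    show 𝒜.ι U.1 U.2 ≫ i ≫ p = 𝒜.ι U.1 U.2 ≫ 𝒜.π
    rw [reassoc_of% (hi U.1 U.2), Groth.Agent.RelProjBasic.emb_comp hP, Proj.awayι_toSpecZero_assoc, 𝒜.ι_π,
      ← Spec.map_comp_assoc, ← Spec.map_comp_assoc]
    congr 2
    ext r
    refine hθ U.1 U.2 _ 0 _ ?_
    show (HomogeneousLocalization.fromZeroRingHom _ _ ((Sh.strZero U.1 U.2).hom r)).val = _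
    refine Eq.trans (rfl : _ = Localization.mk ((Sh.str.app (op U.1)).hom r) 1) ?_
    rw [← CategoryTheory.congr_fun (NatTrans.congr_app ι.comm (op U.1)) r, Localization.mk_eq_mk_iff, Localization.r_iff_exists]
    exact ⟨1, by simp⟩
  refine ⟨?_, hip⟩
  show MorphismProperty.isomorphisms Scheme i
  let 𝒰 : P.OpenCover :=
    { I₀ := Y.affineOpens
      X := fun U => Proj (Sh.deg U.1 U.2)
      f := fun U => RelProj.emb p chart U.1 U.2
      mem₀ := by
        rw [Scheme.presieve₀_mem_precoverage_iff]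
        refine ⟨fun x => ?_, inferInstance⟩
        obtain ⟨U, hU, hxU, -⟩ := exists_isAffineOpen_mem_and_subset (x := p x) (U := ⊤) (Opens.mem_top _)
        exact ⟨⟨U, hU⟩, Groth.Agent.RelProjBasic.exists_emb_eq (chart := chart) U hU x hxU⟩ }
  refine IsZariskiLocalAtTarget.of_openCover 𝒰 fun U => ?_
  obtain ⟨U, hU⟩ := U
  show IsIso (pullback.snd i (RelProj.emb p chart U hU))
  have hrange : (RelProj.emb p chart U hU).opensRange = p ⁻¹ᵁ U := by
    refine Opens.ext (Set.ext fun x => ⟨?_, fun hx => Groth.Agent.RelProjBasic.exists_emb_eq (chart := chart) U hU x hx⟩)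
    rintro ⟨y, rfl⟩
    exact Groth.Agent.RelProjBasic.emb_mem (chart := chart) U hU y
  have hpb : IsPullback (𝒜.ι U hU) (Spec.map (θ U hU) ≫ Proj.awayι (Sh.deg U hU) (Z U) (hz U hU) one_pos) i
      (RelProj.emb p chart U hU) :=
    (IsOpenImmersion.isPullback _ _ _ _ ((hi U hU).trans (Category.assoc _ _ _).symm)
      (by rw [hrange, ← Scheme.Hom.comp_preimage, hip, 𝒜.π_preimage U hU])).flip
  have : IsIso (Proj.awayι (Sh.deg U hU) (Z U) (hz U hU) one_pos) := by
    have : Surjective (Proj.awayι (Sh.deg U hU) (Z U) (hz U hU) one_pos) := ⟨fun y => by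
      refine (Proj.opensRange_awayι (Sh.deg U hU) (Z U) (hz U hU) one_pos).ge
        ((ProjectiveSpectrum.mem_basicOpen _ _ _).mpr fun hy => y.not_irrelevant_le ?_)
      refine (HomogeneousIdeal.irrelevant_le _).mpr fun n hn x hx => ?_
      obtain ⟨a, rfl⟩ := hdeg U hU n x hx
      exact Ideal.mul_mem_left _ _ (Ideal.pow_mem_of_mem _ hy n hn)⟩
    exact isIso_of_isOpenImmersion_of_opensRange_eq_top _ (Opens.ext (Set.eq_univ_of_forall fun y => Surjective.surj y))
  have := hθiso U hU
  rw [← hpb.isoPullback_inv_snd]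
  infer_instance


end Groth.Agent.S12137
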