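import Groth.Statements.S8291
import Groth.Agent.ProjBC.Square
import Groth.Agent.RelProjBasic.ProjMap
import Groth.Agent.RelProjBasic.Local
import Mathlib.Algebra.Category.Ring.Constructions

set_option autoImplicit false
universe u
open CategoryTheory CategoryTheory.Limits AlgebraicGeometry Opposite TopologicalSpace
open scoped HomogeneousIdeal
noncomputable section
open EGA2

namespace Groth.Agent.S8291

section

variable {R A : Type u} [CommRing R] [CommRing A] [Algebra R A] (𝒜 : ℕ → AddSubgroup A) [GradedRing 𝒜]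
  (h0 : ∀ r : R, algebraMap R A r ∈ 𝒜 0)

/-- The grading by `R`-submodules with the same carriers. -/
def sub (i : ℕ) : Submodule R A where
  carrier := 𝒜 i
  add_mem' := (𝒜 i).add_mem
  zero_mem' := (𝒜 i).zero_mem
  smul_mem' r x hx := by
    show r • x ∈ 𝒜 i
    rw [Algebra.smul_def]
    have := SetLike.mul_mem_graded (A := 𝒜) (h0 r) hx
    rwa [zero_add] at this

instance subGraded : GradedAlgebra (sub 𝒜 h0) where
  one_mem := SetLike.one_mem_graded (A := 𝒜)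
  mul_mem _ _ _ _ hx hy := SetLike.mul_mem_graded (A := 𝒜) hx hy
  decompose' := (DirectSum.decompose 𝒜 : A → DirectSum ℕ fun i => 𝒜 i)
  left_inv := (DirectSum.decompose 𝒜).left_inv
  right_inv := (DirectSum.decompose 𝒜).right_inv

/-- Identity towards the submodule grading. -/
def toSub : 𝒜 →+*ᵍ sub 𝒜 h0 where
  __ := RingHom.id A
  map_mem h := h

/-- Identity from the submodule grading. -/
def ofSub : sub 𝒜 h0 →+*ᵍ 𝒜 where
  __ := RingHom.id A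
  map_mem h := h

theorem irr_toSub : (sub 𝒜 h0)₊ ≤ (𝒜₊).map (toSub 𝒜 h0) := fun x hx => Ideal.mem_map_of_mem _ hx

theorem irr_ofSub : 𝒜₊ ≤ ((sub 𝒜 h0)₊).map (ofSub 𝒜 h0) := fun x hx => Ideal.mem_map_of_mem _ hx

theorem map_toSub_iso : IsIso (Proj.map (toSub 𝒜 h0) (irr_toSub 𝒜 h0)) := by
  refine ⟨Proj.map (ofSub 𝒜 h0) (irr_ofSub 𝒜 h0), ?_, ?_⟩
  · rw [← Proj.map_comp]
    exact Proj.map_id
  · rw [← Proj.map_comp]
    exact Proj.map_id

end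

section

variable {R R' A B : Type u} [CommRing R'] [CommRing R] [Algebra R' R] [CommRing B] [Algebra R' B]
  (ℬ : ℕ → AddSubgroup B) [GradedRing ℬ] [CommRing A] [Algebra R A] [Algebra R' A] [IsScalarTower R' R A]
  (𝒜 : ℕ → AddSubgroup A) [GradedRing 𝒜] [Algebra B A] [IsScalarTower R' B A] [Algebra.IsPushout R' R B A]
  (hB0 : ∀ r : R', algebraMap R' B r ∈ ℬ 0) (hA0 : ∀ r : R, algebraMap R A r ∈ 𝒜 0)

/-- The map to the degree-zero part. -/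
def zmap : R →+* 𝒜 0 where
  toFun r := ⟨algebraMap R A r, hA0 r⟩
  map_one' := Subtype.ext (map_one _)
  map_mul' a b := Subtype.ext (map_mul _ a b)
  map_zero' := Subtype.ext (map_zero _)
  map_add' a b := Subtype.ext (map_add _ a b)

theorem map_toSub_base :
    Proj.map (toSub 𝒜 hA0) (irr_toSub 𝒜 hA0) ≫ Proj.toSpecZero 𝒜 ≫ Spec.map (CommRingCat.ofHom (zmap 𝒜 hA0)) =
      Proj.toSpecZero (sub 𝒜 hA0) ≫ Spec.map (CommRingCat.ofHom (algebraMap R (sub 𝒜 hA0 0))) := by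
  rw [RelProjBasic.map_toSpecZero_assoc, ← Spec.map_comp]
  rfl

theorem isPullback_proj (φ : ℬ →+*ᵍ 𝒜) (hφA : ∀ b : B, φ b = algebraMap B A b) (hφ : 𝒜₊ ≤ (ℬ₊).map φ) :
    IsPullback (Proj.map φ hφ) (Proj.toSpecZero 𝒜 ≫ Spec.map (CommRingCat.ofHom (zmap 𝒜 hA0)))
      (Proj.toSpecZero ℬ ≫ Spec.map (CommRingCat.ofHom (zmap ℬ hB0)))
      (Spec.map (CommRingCat.ofHom (algebraMap R' R))) := by
  let φ' : sub ℬ hB0 →+*ᵍ sub 𝒜 hA0 := (toSub 𝒜 hA0).comp (φ.comp (ofSub ℬ hB0))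
  have hφ' : (sub 𝒜 hA0)₊ ≤ ((sub ℬ hB0)₊).map φ' :=
    HomogeneousIdeal.irrelevant_le_map_comp (HomogeneousIdeal.irrelevant_le_map_comp (irr_ofSub ℬ hB0) hφ) (irr_toSub 𝒜 hA0)
  haveI := map_toSub_iso 𝒜 hA0
  haveI := map_toSub_iso ℬ hB0
  refine IsPullback.of_iso (ProjBC.isPullback_proj (sub ℬ hB0) (sub 𝒜 hA0) φ' hφA hφ')
    (asIso (Proj.map (toSub 𝒜 hA0) (irr_toSub 𝒜 hA0))) (asIso (Proj.map (toSub ℬ hB0) (irr_toSub ℬ hB0)))
    (Iso.refl _) (Iso.refl _) ?_ ?_ ?_ ?_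
  · rw [asIso_hom, asIso_hom, ← Proj.map_comp, ← Proj.map_comp]
    rfl
  · rw [asIso_hom, Iso.refl_hom, Category.comp_id]
    exact (map_toSub_base 𝒜 hA0).symm
  · rw [asIso_hom, Iso.refl_hom, Category.comp_id]
    exact (map_toSub_base ℬ hB0).symm
  · simp

end

/-- Let ψ : Y' → Y be a morphism, 𝒮 a quasi-coherent positively graded O_Y-algebra and 𝒮' = ψ^*𝒮,
presented as a quasi-coherent graded O_{Y'}-algebra with a graded ψ-morphism u : 𝒮 → ψ_*𝒮' whose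
squares O_Y(U) → O_{Y'}(U'), 𝒮(U) → 𝒮'(U') over affine opens U' ⊆ ψ⁻¹(U) are pushouts of rings. If g
: Proj(𝒮') → Proj(𝒮) is chartwise the morphism of homogeneous spectra induced by 𝒮(U) → 𝒮'(U'), then
Proj(𝒮') together with g and its structure morphism is the fibre product Proj(𝒮) ×_Y Y'. -/
theorem result {Y Y' P P' : Scheme.{u}} (ψ : Y' ⟶ Y) (𝒮 : RelProj.QCGrAlg Y)
    (𝒮' : RelProj.QCGrAlg Y') (u : 𝒮.presheaf ⟶ ψ.base _* 𝒮'.presheaf)
    (hu : 𝒮.str ≫ u = ψ.c ≫ (TopCat.Presheaf.pushforward CommRingCat.{u} ψ.base).map 𝒮'.str)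
    (φ : ∀ (U : Y.Opens) (hU : IsAffineOpen U) (U' : Y'.Opens) (hU' : IsAffineOpen U') (_ : U' ≤ ψ ⁻¹ᵁ U),
      𝒮.deg U hU →+*ᵍ 𝒮'.deg U' hU')
    (hφ : ∀ (U : Y.Opens) (hU : IsAffineOpen U) (U' : Y'.Opens) (hU' : IsAffineOpen U') (hle : U' ≤ ψ ⁻¹ᵁ U),
      (φ U hU U' hU' hle).toRingHom =
        ((u.app (op U) : 𝒮.presheaf.obj (op U) ⟶ 𝒮'.presheaf.obj (op (ψ ⁻¹ᵁ U))) ≫
          𝒮'.presheaf.map (homOfLE hle).op).hom)
    (hpo : ∀ (U : Y.Opens) (hU : IsAffineOpen U) (U' : Y'.Opens) (hU' : IsAffineOpen U') (hle : U' ≤ ψ ⁻¹ᵁ U),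
      IsPushout (ψ.appLE U U' hle) (𝒮.str.app (op U)) (𝒮'.str.app (op U'))
        ((u.app (op U) : 𝒮.presheaf.obj (op U) ⟶ 𝒮'.presheaf.obj (op (ψ ⁻¹ᵁ U))) ≫
          𝒮'.presheaf.map (homOfLE hle).op))
    (hirr : ∀ (U : Y.Opens) (hU : IsAffineOpen U) (U' : Y'.Opens) (hU' : IsAffineOpen U') (hle : U' ≤ ψ ⁻¹ᵁ U),
      (𝒮'.deg U' hU')₊ ≤ ((𝒮.deg U hU)₊).map (φ U hU U' hU' hle))
    (p : P ⟶ Y)
    (chart : ∀ (U : Y.Opens) (hU : IsAffineOpen U), (((p ⁻¹ᵁ U : P.Opens) : Scheme.{u}) ≅ Proj (𝒮.deg U hU)))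
    (hP : RelProj.IsRelProj 𝒮 p chart) (p' : P' ⟶ Y')
    (chart' : ∀ (U' : Y'.Opens) (hU' : IsAffineOpen U'), (((p' ⁻¹ᵁ U' : P'.Opens) : Scheme.{u}) ≅ Proj (𝒮'.deg U' hU')))
    (hP' : RelProj.IsRelProj 𝒮' p' chart') (g : P' ⟶ P)
    (hg : ∀ (U : Y.Opens) (hU : IsAffineOpen U) (U' : Y'.Opens) (hU' : IsAffineOpen U') (hle : U' ≤ ψ ⁻¹ᵁ U),
      (p' ⁻¹ᵁ U').ι ≫ g =
        (chart' U' hU').hom ≫ Proj.map (φ U hU U' hU' hle) (hirr U hU U' hU' hle) ≫ RelProj.emb p chart U hU) :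
    IsPullback g p' p ψ := by
  classical
  -- the square on charts
  have hsmall : ∀ (U : Y.Opens) (hU : IsAffineOpen U) (U' : Y'.Opens) (hU' : IsAffineOpen U') (hle : U' ≤ ψ ⁻¹ᵁ U),
      IsPullback (Proj.map (φ U hU U' hU' hle) (hirr U hU U' hU' hle))
        (Proj.toSpecZero (𝒮'.deg U' hU') ≫ Spec.map (𝒮'.strZero U' hU'))
        (Proj.toSpecZero (𝒮.deg U hU) ≫ Spec.map (𝒮.strZero U hU))
        (Spec.map (ψ.appLE U U' hle)) := by
    intro U hU U' hU' hle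
    let m : 𝒮.presheaf.obj (op U) ⟶ 𝒮'.presheaf.obj (op U') :=
      (u.app (op U) : 𝒮.presheaf.obj (op U) ⟶ 𝒮'.presheaf.obj (op (ψ ⁻¹ᵁ U))) ≫ 𝒮'.presheaf.map (homOfLE hle).op
    letI : Algebra Γ(Y, U) Γ(Y', U') := (ψ.appLE U U' hle).hom.toAlgebra
    letI : Algebra Γ(Y, U) (𝒮.presheaf.obj (op U)) := (𝒮.str.app (op U)).hom.toAlgebra
    letI : Algebra Γ(Y', U') (𝒮'.presheaf.obj (op U')) := (𝒮'.str.app (op U')).hom.toAlgebra
    letI : Algebra (𝒮.presheaf.obj (op U)) (𝒮'.presheaf.obj (op U')) := m.hom.toAlgebra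
    letI : Algebra Γ(Y, U) (𝒮'.presheaf.obj (op U')) := (ψ.appLE U U' hle ≫ 𝒮'.str.app (op U')).hom.toAlgebra
    have t1 : IsScalarTower Γ(Y, U) Γ(Y', U') (𝒮'.presheaf.obj (op U')) := IsScalarTower.of_algebraMap_eq fun _ => rfl
    have t2 : IsScalarTower Γ(Y, U) (𝒮.presheaf.obj (op U)) (𝒮'.presheaf.obj (op U')) :=
      IsScalarTower.of_algebraMap_eq fun r => ConcreteCategory.congr_hom (hpo U hU U' hU' hle).w r
    have t3 : Algebra.IsPushout Γ(Y, U) Γ(Y', U') (𝒮.presheaf.obj (op U)) (𝒮'.presheaf.obj (op U')) :=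
      CommRingCat.isPushout_iff_isPushout.mp (hpo U hU U' hU' hle)
    exact isPullback_proj (𝒮.deg U hU) (𝒮'.deg U' hU') (fun r => 𝒮.str_mem U hU r) (fun r => 𝒮'.str_mem U' hU' r)
      (φ U hU U' hU' hle) (fun b => RingHom.congr_fun (hφ U hU U' hU' hle) b) (hirr U hU U' hU' hle)
  -- the square over affine opens of the base
  have hopen : ∀ {X Z : Scheme.{u}} (q : Z ⟶ X) (W : X.Opens) (hW : IsAffineOpen W) (f : ((q ⁻¹ᵁ W : Z.Opens) : Scheme.{u}) ⟶ Spec Γ(X, W)),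
      f ≫ hW.fromSpec = (q ⁻¹ᵁ W).ι ≫ q → IsPullback (q ⁻¹ᵁ W).ι f q hW.fromSpec := fun q W hW f hf =>
    (IsOpenImmersion.isPullback _ _ _ _ hf.symm (by rw [Scheme.Opens.opensRange_ι, hW.opensRange_fromSpec])).flip
  have hbig : ∀ (U : Y.Opens) (hU : IsAffineOpen U) (U' : Y'.Opens) (hU' : IsAffineOpen U') (hle : U' ≤ ψ ⁻¹ᵁ U),
      IsPullback ((p' ⁻¹ᵁ U').ι ≫ g) ((chart' U' hU').hom ≫ Proj.toSpecZero (𝒮'.deg U' hU') ≫ Spec.map (𝒮'.strZero U' hU'))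
        p (hU'.fromSpec ≫ ψ) := by
    intro U hU U' hU' hle
    have h1 : IsPullback ((chart' U' hU').hom ≫ Proj.map (φ U hU U' hU' hle) (hirr U hU U' hU' hle) ≫ (chart U hU).inv)
        ((chart' U' hU').hom ≫ Proj.toSpecZero (𝒮'.deg U' hU') ≫ Spec.map (𝒮'.strZero U' hU'))
        ((chart U hU).hom ≫ Proj.toSpecZero (𝒮.deg U hU) ≫ Spec.map (𝒮.strZero U hU))
        (Spec.map (ψ.appLE U U' hle)) :=
      IsPullback.of_iso (hsmall U hU U' hU' hle) (chart' U' hU').symm (chart U hU).symm (Iso.refl _) (Iso.refl _)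
        (by simp) (by simp) (by simp) (by simp)
    have h2 := h1.paste_horiz (hopen p U hU _ (by simpa only [Category.assoc] using hP.chart_over U hU))
    rw [IsAffineOpen.SpecMap_appLE_fromSpec ψ hU hU' hle] at h2
    rw [hg U hU U' hU' hle]
    simpa only [Category.assoc, RelProj.emb] using h2
  let I := { q : Y'.affineOpens × Y.affineOpens // q.1.1 ≤ ψ ⁻¹ᵁ q.2.1 }
  have hcov : ∀ y : Y', ∃ i : I, y ∈ i.1.1.1 := by
    intro y
    obtain ⟨U, hU, hyU, -⟩ := exists_isAffineOpen_mem_and_subset (X := Y) (x := ψ y) (U := ⊤) trivial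
    obtain ⟨U', hU', hyU', hle⟩ := exists_isAffineOpen_mem_and_subset (X := Y') (x := y) (U := ψ ⁻¹ᵁ U) hyU
    exact ⟨⟨(⟨U', hU'⟩, ⟨U, hU⟩), hle⟩, hyU'⟩
  have hf' : ∀ (U' : Y'.Opens) (hU' : IsAffineOpen U'),
      ((chart' U' hU').hom ≫ Proj.toSpecZero (𝒮'.deg U' hU') ≫ Spec.map (𝒮'.strZero U' hU')) ≫ hU'.fromSpec =
        (p' ⁻¹ᵁ U').ι ≫ p' := fun U' hU' => by simpa only [Category.assoc] using hP'.chart_over U' hU'
  have w : g ≫ p = p' ≫ ψ := by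
    refine (P'.openCoverOfIsOpenCover (fun i : I => p' ⁻¹ᵁ i.1.1.1) (IsOpenCover.mk (eq_top_iff.mpr fun x _ => ?_))).hom_ext
      _ _ fun i => ?_
    · obtain ⟨i, hi⟩ := hcov (p' x)
      exact Opens.mem_iSup.mpr ⟨i, hi⟩
    · show (p' ⁻¹ᵁ i.1.1.1).ι ≫ g ≫ p = (p' ⁻¹ᵁ i.1.1.1).ι ≫ p' ≫ ψ
      rw [← Category.assoc, (hbig _ i.1.2.2 _ i.1.1.2 i.2).w, ← Category.assoc, hf', Category.assoc]
  let v := pullback.lift g p' w
  suffices IsIso v from IsPullback.of_iso_pullback ⟨w⟩ (asIso v) (pullback.lift_fst _ _ _) (pullback.lift_snd _ _ _)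
  let 𝒰 : Y'.OpenCover :=
    { I₀ := I
      X := fun i => Spec Γ(Y', i.1.1.1)
      f := fun i => i.1.1.2.fromSpec
      mem₀ := by
        rw [Scheme.presieve₀_mem_precoverage_iff]
        refine ⟨fun y => ?_, fun i => inferInstance⟩
        obtain ⟨i, hi⟩ := hcov y
        exact ⟨i, i.1.1.2.range_fromSpec.ge hi⟩ }
  refine (IsZariskiLocalAtTarget.iff_of_openCover (P := MorphismProperty.isomorphisms Scheme.{u})
    (Precoverage.ZeroHypercover.pullback₁ (pullback.snd p ψ) 𝒰)).mpr fun i => ?_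
  simp only [MorphismProperty.isomorphisms.iff]
  let ιY := i.1.1.2.fromSpec
  let ιP := (p' ⁻¹ᵁ i.1.1.1).ι
  let f' := (chart' _ i.1.1.2).hom ≫ Proj.toSpecZero (𝒮'.deg i.1.1.1 i.1.1.2) ≫ Spec.map (𝒮'.strZero i.1.1.1 i.1.1.2)
  have hout : IsPullback ιP f' p' ιY := hopen p' _ i.1.1.2 _ (hf' _ i.1.1.2)
  have hw : (ιP ≫ v) ≫ pullback.snd p ψ = f' ≫ ιY := by
    rw [Category.assoc, pullback.lift_snd]; exact hout.w
  let wi : ((p' ⁻¹ᵁ i.1.1.1 : P'.Opens) : Scheme.{u}) ⟶ pullback (pullback.snd p ψ) ιY := pullback.lift (ιP ≫ v) f' hw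
  have h1 : IsPullback (pullback.fst (pullback.snd p ψ) ιY ≫ pullback.fst p ψ) (pullback.snd (pullback.snd p ψ) ιY)
      p (ιY ≫ ψ) := (IsPullback.of_hasPullback (pullback.snd p ψ) ιY).paste_horiz (IsPullback.of_hasPullback p ψ)
  have hwi : IsIso wi := by
    have e : wi = ((hbig _ i.1.2.2 _ i.1.1.2 i.2).isoIsPullback _ _ h1).hom := by
      apply h1.hom_ext
      · rw [IsPullback.isoIsPullback_hom_fst, ← Category.assoc, show wi ≫ pullback.fst (pullback.snd p ψ) ιY = ιP ≫ v from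
          pullback.lift_fst _ _ _, Category.assoc, pullback.lift_fst]
      · rw [IsPullback.isoIsPullback_hom_snd]
        exact pullback.lift_snd _ _ _
    rw [e]; infer_instance
  have hleft : IsPullback ιP wi v (pullback.fst (pullback.snd p ψ) ιY) := by
    refine IsPullback.of_bot ?_ (pullback.lift_fst _ _ _).symm (IsPullback.of_hasPullback (pullback.snd p ψ) ιY)
    rw [show wi ≫ pullback.snd (pullback.snd p ψ) ιY = f' from pullback.lift_snd _ _ _,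
      show v ≫ pullback.snd p ψ = p' from pullback.lift_snd _ _ _]
    exact hout
  show IsIso (pullback.snd v (pullback.fst (pullback.snd p ψ) ιY))
  rw [← hleft.isoPullback_inv_snd]
  infer_instance

end Groth.Agent.S8291
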