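import Groth.Statements.S12141
import Groth.Agent.RelProjBasic.QMap
import Groth.Agent.S8291
-- import your own Groth.Agent.* helpers here

set_option autoImplicit false
universe u
open CategoryTheory CategoryTheory.Limits AlgebraicGeometry TopologicalSpace Opposite
open scoped HomogeneousIdeal
noncomputable section
open EGA2

namespace Groth.Agent.S12141

open Groth.Agent

theorem irrelevant_le_map_of_closure {A B σ τ : Type u} [CommRing A] [SetLike σ A] [AddSubgroupClass σ A] [CommRing B]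
    [SetLike τ B] [AddSubgroupClass τ B] {𝒜 : ℕ → σ} [GradedRing 𝒜] {ℬ : ℕ → τ} [GradedRing ℬ] (φ : 𝒜 →+*ᵍ ℬ)
    (T : Set B) (hT : ∀ t ∈ T, t ∈ ℬ 0) (hgen : Subring.closure (T ∪ Set.range φ) = ⊤) : ℬ₊ ≤ (𝒜₊).map φ := by
  classical
  have hJ : ∀ a : A, φ a - φ (GradedRing.proj 𝒜 0 a) ∈ ((𝒜₊).map φ).toIdeal := fun a => by
    rw [← map_sub]
    refine Ideal.mem_map_of_mem _ ?_
    show a - GradedRing.proj 𝒜 0 a ∈ 𝒜₊
    rw [HomogeneousIdeal.mem_irrelevant_iff, map_sub]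
    simp [GradedRing.proj_apply]
  have key : ∀ b : B, ∃ c ∈ ℬ 0, b - c ∈ ((𝒜₊).map φ).toIdeal := by
    intro b
    have hb : b ∈ Subring.closure (T ∪ Set.range φ) := hgen ▸ Subring.mem_top b
    induction hb using Subring.closure_induction with
    | mem z hz =>
      rcases hz with hz | ⟨a, rfl⟩
      · exact ⟨z, hT z hz, by simp⟩
      · exact ⟨_, φ.map_mem (DirectSum.decompose 𝒜 a 0).2, hJ a⟩
    | zero => exact ⟨0, zero_mem _, by simp⟩
    | one => exact ⟨1, SetLike.GradedOne.one_mem, by simp⟩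
    | add a b _ _ ha hb =>
      obtain ⟨c, hc, hc'⟩ := ha
      obtain ⟨d, hd, hd'⟩ := hb
      exact ⟨c + d, add_mem hc hd, by rw [add_sub_add_comm]; exact add_mem hc' hd'⟩
    | neg a _ ha =>
      obtain ⟨c, hc, hc'⟩ := ha
      exact ⟨-c, neg_mem hc, by rw [← neg_sub']; exact neg_mem hc'⟩
    | mul a b _ _ ha hb =>
      obtain ⟨c, hc, hc'⟩ := ha
      obtain ⟨d, hd, hd'⟩ := hb
      refine ⟨c * d, by simpa using SetLike.GradedMul.mul_mem hc hd, ?_⟩
      rw [show a * b - c * d = (a - c) * b + c * (b - d) by ring]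
      exact add_mem (Ideal.mul_mem_right _ _ hc') (Ideal.mul_mem_left _ _ hd')
  have hle : ((𝒜₊).map φ).toIdeal ≤ (ℬ₊).toIdeal := by
    show Ideal.map φ (𝒜₊).toIdeal ≤ (ℬ₊).toIdeal
    rw [Ideal.map_le_iff_le_comap]
    intro a ha
    rw [Ideal.mem_comap, ← DirectSum.sum_support_decompose 𝒜 a, map_sum]
    refine sum_mem fun i _ => ?_
    rcases Nat.eq_zero_or_pos i with rfl | hi
    · have h0 : ((DirectSum.decompose 𝒜 a 0 : 𝒜 0) : A) = 0 := ha
      rw [h0, map_zero]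
      exact zero_mem _
    · exact HomogeneousIdeal.mem_irrelevant_of_mem ℬ hi (φ.map_mem (DirectSum.decompose 𝒜 a i).2)
  intro b hb
  obtain ⟨c, hc, hbc⟩ := key b
  have h1 : b - c ∈ ℬ₊ := hle hbc
  rw [HomogeneousIdeal.mem_irrelevant_iff, map_sub, (HomogeneousIdeal.mem_irrelevant_iff ℬ b).mp hb, zero_sub,
    neg_eq_zero, GradedRing.proj_apply, DirectSum.decompose_of_mem_same ℬ hc] at h1
  rw [h1, sub_zero] at hbc
  exact hbc

theorem domOpen_eq_top {A B σ τ : Type u} [CommRing A] [SetLike σ A] [AddSubgroupClass σ A] [CommRing B]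
    [SetLike τ B] [AddSubgroupClass τ B] {𝒜 : ℕ → σ} [GradedRing 𝒜] {ℬ : ℕ → τ} [GradedRing ℬ] (φ : 𝒜 →+*ᵍ ℬ)
    (h : ℬ₊ ≤ (𝒜₊).map φ) : RelCone.domOpen φ = ⊤ := by
  refine eq_top_iff.mpr fun y _ hy => ?_
  refine (y : ProjectiveSpectrum ℬ).not_irrelevant_le ?_
  intro b hb
  have h2 : Ideal.map φ (𝒜₊).toIdeal ≤ (y : ProjectiveSpectrum ℬ).asHomogeneousIdeal.toIdeal :=
    Ideal.map_le_iff_le_comap.mpr fun a ha => hy ⟨a, ha, rfl⟩
  exact h2 (h hb)

/-- Let ψ : Y' → Y be a morphism of schemes, 𝒮 a quasi-coherent positively graded O_Y-algebra and 𝒮' =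
ψ^*𝒮, presented as a quasi-coherent graded O_{Y'}-algebra with a graded ψ-morphism u : 𝒮 → ψ_*𝒮'
whose squares over affine opens U' ⊆ ψ⁻¹(U) are pushouts of rings; let P = Proj(𝒮), P' = Proj(𝒮')
with their charts. Then the morphism Proj(u) : P' → P is everywhere defined (its open of definition
G(u) is P' and it exists, pinned on the standard affine charts), and any such morphism identifies P'
with the fibre product P ×_Y Y'. -/
theorem result {Y Y' P P' : Scheme.{u}} (ψ : Y' ⟶ Y)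
    (𝒮 : RelProj.QCGrAlg Y) (𝒮' : RelProj.QCGrAlg Y') (u : RelProj.QGrHom ψ 𝒮 𝒮')
    (hu : RelSpec.IsQBaseChange u.toQHom)
    (p : P ⟶ Y) (chart : ∀ (U : Y.Opens) (hU : IsAffineOpen U), (((p ⁻¹ᵁ U : P.Opens) : Scheme.{u}) ≅ Proj (𝒮.deg U hU)))
    (hP : RelProj.IsRelProj 𝒮 p chart)
    (p' : P' ⟶ Y') (chart' : ∀ (U : Y'.Opens) (hU : IsAffineOpen U), (((p' ⁻¹ᵁ U : P'.Opens) : Scheme.{u}) ≅ Proj (𝒮'.deg U hU)))
    (hP' : RelProj.IsRelProj 𝒮' p' chart') :
    (∃ h : P' ⟶ P, RelProj.IsProjQMap u p chart p' chart' h) ∧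
      ∀ h : P' ⟶ P, RelProj.IsProjQMap u p chart p' chart' h → IsPullback h p' p ψ := by
  have hpo : ∀ (U : Y.Opens) (hU : IsAffineOpen U) (U' : Y'.Opens) (hU' : IsAffineOpen U') (hle : U' ≤ ψ ⁻¹ᵁ U),
      IsPushout (ψ.appLE U U' hle) (𝒮.str.app (op U)) (𝒮'.str.app (op U')) (u.appLE U U' hle) :=
    fun U hU U' hU' hle => hu U hU U' hU' hle
  have hirr : ∀ (U : Y.Opens) (hU : IsAffineOpen U) (U' : Y'.Opens) (hU' : IsAffineOpen U') (hle : U' ≤ ψ ⁻¹ᵁ U),
      (𝒮'.deg U' hU')₊ ≤ ((𝒮.deg U hU)₊).map (u.gradedAt U hU U' hU' hle) := by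
    intro U hU U' hU' hle
    refine irrelevant_le_map_of_closure _ (Set.range (𝒮'.str.app (op U')).hom) ?_ ?_
    · rintro _ ⟨r, rfl⟩
      exact 𝒮'.str_mem U' hU' r
    · exact CommRingCat.closure_range_union_range_eq_top_of_isPushout (hpo U hU U' hU' hle)
  have htop : RelProj.domQ u p' chart' = ⊤ := by
    refine eq_top_iff.mpr fun x _ => ?_
    obtain ⟨U, hU, hxU, -⟩ := exists_isAffineOpen_mem_and_subset (X := Y) (x := ψ (p' x)) (U := ⊤) trivial
    obtain ⟨U', hU', hxU', hle⟩ := exists_isAffineOpen_mem_and_subset (X := Y') (x := p' x) (U := ψ ⁻¹ᵁ U) hxU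
    obtain ⟨y, rfl⟩ := RelProjBasic.exists_emb_eq (p := p') (chart := chart') U' hU' x hxU'
    refine Opens.mem_iSup.mpr ⟨⟨(⟨U, hU⟩, ⟨U', hU'⟩), hle⟩, y, ?_, rfl⟩
    rw [domOpen_eq_top _ (hirr U hU U' hU' hle)]
    trivial
  obtain ⟨v, hv, -⟩ := RelProjBasic.existsUnique_isProjQMapOn (u := u) hP hP'
  have hW : ∀ x : P', x ∈ Set.range (RelProj.domQ u p' chart').ι.base := fun x =>
    ⟨⟨x, htop ▸ trivial⟩, rfl⟩
  haveI : IsIso (RelProj.domQ u p' chart').ι := by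
    rw [htop]
    exact inferInstanceAs (IsIso P'.topIso.hom)
  have hmap : ∀ h : P' ⟶ P, RelProj.IsProjQMap u p chart p' chart' h →
      ∀ (U : Y.Opens) (hU : IsAffineOpen U) (U' : Y'.Opens) (hU' : IsAffineOpen U') (hle : U' ≤ ψ ⁻¹ᵁ U),
        (p' ⁻¹ᵁ U').ι ≫ h = (chart' U' hU').hom ≫ Proj.map (u.gradedAt U hU U' hU' hle) (hirr U hU U' hU' hle) ≫
          RelProj.emb p chart U hU := by
    intro h hh U hU U' hU' hle
    rw [← cancel_epi (chart' U' hU').inv, Iso.inv_hom_id_assoc]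
    refine (Proj.mapAffineOpenCover (u.gradedAt U hU U' hU' hle) (hirr U hU U' hU' hle)).openCover.hom_ext _ _ fun s => ?_
    obtain ⟨⟨d, hd⟩, ⟨f, hf⟩⟩ := s
    show Proj.awayι _ (u.gradedAt U hU U' hU' hle f) ((u.gradedAt U hU U' hU' hle).map_mem hf) hd ≫ _ = _
    refine Eq.trans ?_ (Proj.awayι_comp_map_assoc (u.gradedAt U hU U' hU' hle) (hirr U hU U' hU' hle) hd f hf _).symm
    exact (Category.assoc _ _ _).symm.trans ((hh.2 U hU U' hU' hle d hd f hf).symm ▸ (by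
      simp [RelProj.awayEmb, RelProj.emb]))
  refine ⟨⟨inv (RelProj.domQ u p' chart').ι ≫ v, htop, fun U hU U' hU' hle d hd f hf => ?_⟩, fun h hh => ?_⟩
  · have h1 := hv U hU U' hU' hle d hd f hf (fun x _ => hW x)
    refine Eq.trans ?_ h1
    rw [← Category.assoc]
    congr 1
    rw [IsIso.comp_inv_eq, IsOpenImmersion.lift_fac]
  · refine Groth.Agent.S8291.result ψ 𝒮 𝒮' { app := fun U => u.app U.unop, naturality := fun U V i => ?_ } ?_
      (fun U hU U' hU' hle => u.gradedAt U hU U' hU' hle) (fun U hU U' hU' hle => rfl) hpo hirr p chart hP p' chart' hP' h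
      (hmap h hh)
    · exact (u.naturality i.unop.le).symm
    · ext U : 2
      exact congrArg CommRingCat.Hom.hom (u.str_app U)

end Groth.Agent.S12141
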