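import Groth.Statements.S12142
import Groth.Prelude.Def_RelProj4

set_option autoImplicit false
universe u
open CategoryTheory CategoryTheory.Limits AlgebraicGeometry TopologicalSpace Opposite
open scoped HomogeneousIdeal
noncomputable section
open EGA2

namespace Groth.Agent.S12142

/-- Let g : S' → S be a morphism of schemes, A a quasi-coherent O_S-algebra and B = g^*A, presented as a
quasi-coherent O_{S'}-algebra with a g-morphism u : A → g_*B whose squares of rings over affine
opens U' ⊆ g⁻¹(U) are pushouts; let h = Spec(u) : Spec(B) → Spec(A) be the induced morphism of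
relative spectra (chartwise Spec of A(U) → B(U')). Then h and the structure morphisms form a
cartesian square: Spec(g^*A) is the fibre product Spec(A) ×_S S'. -/
theorem result {S S' : Scheme.{u}} (g : S' ⟶ S)
    (A : RelSpec.QCAlg S) (B : RelSpec.QCAlg S') (u : RelSpec.QHom g A B) (hu : RelSpec.IsQBaseChange u)
    (h : B.spec ⟶ A.spec) (hh : RelSpec.IsSpecQMap u h) :
    IsPullback h B.π A.π g := by
  classical
  have hex : ∀ x : S', ∃ (U : S.Opens) (_ : IsAffineOpen U) (U' : S'.Opens) (_ : IsAffineOpen U'),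
      x ∈ U' ∧ U' ≤ g ⁻¹ᵁ U := by
    intro x
    obtain ⟨U, hU, hxU, -⟩ := exists_isAffineOpen_mem_and_subset (x := g x) (U := ⊤) (Opens.mem_top _)
    obtain ⟨U', hU', hx', hle⟩ := exists_isAffineOpen_mem_and_subset (x := x) (U := g ⁻¹ᵁ U) hxU
    exact ⟨U, hU, U', hU', hx', hle⟩
  choose U hU U' hU' hx hle using hex
  let 𝒰 := S'.openCoverOfIsOpenCover U' (IsOpenCover.mk (eq_top_iff.mpr fun x _ => Opens.mem_iSup.mpr ⟨x, hx x⟩))
  refine (Scheme.isPullback_of_openCover B.π h g A.π 𝒰 fun x => ?_).flip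
  have h1 : IsPullback (A.ι (U x) (hU x)) (Spec.map (A.str.app (op (U x)))) A.π (hU x).fromSpec :=
    (IsOpenImmersion.isPullback _ _ _ _ (A.ι_π (U x) (hU x))
      (by rw [(hU x).opensRange_fromSpec, A.π_preimage])).flip
  have h2 : IsPullback (Spec.map (u.appLE (U x) (U' x) (hle x))) (Spec.map (B.str.app (op (U' x))))
      (Spec.map (A.str.app (op (U x)))) (Spec.map (g.appLE (U x) (U' x) (hle x))) :=
    (isPullback_SpecMap_of_isPushout _ _ _ _ (hu (U x) (hU x) (U' x) (hU' x) (hle x))).flip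
  have h3 : IsPullback (Spec.map (u.appLE (U x) (U' x) (hle x)) ≫ A.ι (U x) (hU x)) (Spec.map (B.str.app (op (U' x))))
      A.π (Spec.map (g.appLE (U x) (U' x) (hle x)) ≫ (hU x).fromSpec) := h2.paste_horiz h1
  have h4 : IsPullback (B.ι (U' x) (hU' x)) (Spec.map (B.str.app (op (U' x))) ≫ (hU' x).isoSpec.inv) B.π (U' x).ι :=
    (IsOpenImmersion.isPullback _ _ _ _
      ((B.ι_π (U' x) (hU' x)).trans (by rw [Category.assoc, IsAffineOpen.isoSpec_inv_ι]))
      (by rw [Scheme.Opens.opensRange_ι, B.π_preimage])).flip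
  refine h3.flip.of_iso h4.isoPullback (hU' x).isoSpec.symm (Iso.refl _) (Iso.refl _) ?_ ?_ ?_ ?_
  · exact (h4.isoPullback_hom_snd).symm
  · refine Eq.trans ?_ (h4.isoPullback_hom_fst_assoc h).symm
    rw [Iso.refl_hom, Category.comp_id]
    exact (hh (U x) (hU x) (U' x) (hU' x) (hle x)).symm
  · rw [Iso.refl_hom, Category.comp_id, Iso.symm_hom]
    show _ = (hU' x).isoSpec.inv ≫ (U' x).ι ≫ g
    rw [IsAffineOpen.SpecMap_appLE_fromSpec g (hU x) (hU' x) (hle x), IsAffineOpen.isoSpec_inv_ι_assoc]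
  · simp

end Groth.Agent.S12142
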