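import Groth.Statements.S12146
import Groth.Agent.SymAlgExist.NonVanish

set_option autoImplicit false
universe u
open CategoryTheory CategoryTheory.Limits AlgebraicGeometry TopologicalSpace Opposite
open scoped HomogeneousIdeal
noncomputable section
open EGA2

namespace Groth.Agent.S12146

/-- Let q : X → Y be a morphism with Y affine, L an invertible O_X-module, 𝒮L = ⊕_{n≥0} L^{⊗n} its
graded symmetric algebra (whose Proj, presented with its charts, is identified with X by its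
structure morphism pL), 𝒮 a quasi-coherent positively graded O_Y-algebra with S = Γ(Y, 𝒮), ψ : q^*𝒮
→ 𝒮L a graded homomorphism given as a graded q-morphism u = ψ♭ : 𝒮 → q_*𝒮L, P = Proj(𝒮), and r =
r_{L,ψ} : G(ψ) → P the associated morphism on its open of definition G(ψ) ⊆ Proj(𝒮L). Then r is
dominant if and only if for every n > 0, every s ∈ S_n such that ψ♭(s) ∈ Γ(X, L^{⊗n}) is locally
nilpotent (as a section of the algebra 𝒮L: each point of X has an affine neighbourhood V with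
ψ♭(s)|V nilpotent in 𝒮L(V)) is nilpotent. -/
theorem result {Y X P PL : Scheme.{u}} (q : X ⟶ Y)
    (L : X.Modules) (hL : PicF.IsInvertible L) (hLq : Coh.IsQCoh L)
    (𝒮 : RelProj.QCGrAlg Y) (𝒮L : RelProj.QCGrAlg X) (j : L ⟶ 𝒮L.toModule) (hj : RelProj.IsGrSymAlg L 𝒮L j)
    (u : RelProj.QGrHom q 𝒮 𝒮L)
    (p : P ⟶ Y) (chart : ∀ (U : Y.Opens) (hU : IsAffineOpen U), (((p ⁻¹ᵁ U : P.Opens) : Scheme.{u}) ≅ Proj (𝒮.deg U hU)))
    (hP : RelProj.IsRelProj 𝒮 p chart)
    (pL : PL ⟶ X) (chartL : ∀ (U : X.Opens) (hU : IsAffineOpen U), (((pL ⁻¹ᵁ U : PL.Opens) : Scheme.{u}) ≅ Proj (𝒮L.deg U hU)))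
    (hPL : RelProj.IsRelProj 𝒮L pL chartL)
    (r : ((RelProj.domQ u pL chartL : PL.Opens) : Scheme.{u}) ⟶ P)
    (hr : RelProj.IsProjQMapOn u p chart pL chartL (RelProj.domQ u pL chartL) r)
    (hY : IsAffineOpen (⊤ : Y.Opens)) :
    IsDominant r ↔
      ∀ (n : ℕ), 0 < n → ∀ s ∈ 𝒮.deg ⊤ hY n,
        (∀ x : X, ∃ (V : X.Opens) (_ : IsAffineOpen V), x ∈ V ∧ IsNilpotent ((u.appLE ⊤ V (le_top.trans (Scheme.Hom.preimage_top q).ge)).hom s)) →
          IsNilpotent s := by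
  have : L.IsQuasicoherent := hLq
  constructor
  · intro hdom n hn s hs hnil
    by_contra hsn
    obtain ⟨y, hy⟩ := Groth.Agent.RelProjBasic.exists_point_of_not_isNilpotent hn hs hsn
    obtain ⟨z, y₁, hy₁, hsy₁⟩ := Groth.Agent.RelProjBasic.meets_of_isDominant (chart := chart) r ⊤ hY s y hy
    obtain ⟨W, hW, y', hy', hfy'⟩ := Groth.Agent.SymAlgExist.exists_chart_of_nonVanish hL hj hPL hY hn s hs
      ((Groth.Agent.SymAlgExist.apply_mem_iff hL hj hP hPL hY hn s hs hr z).mp ⟨y₁, hy₁, hsy₁⟩)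
    obtain ⟨V, hV, hxV, hnV⟩ := hnil (pL.base z.1)
    have hxW : pL.base z.1 ∈ W := hy' ▸ Groth.Agent.RelProjBasic.emb_mem (chart := chartL) W hW y'
    obtain ⟨a, b, hab, hxa⟩ := exists_basicOpen_le_affine_inter hW hV (pL.base z.1) ⟨hxW, hxV⟩
    have hWa := hW.basicOpen a
    obtain ⟨y'', hy''⟩ := Groth.Agent.RelProjBasic.exists_emb_eq (chart := chartL) _ hWa z.1 hxa
    obtain rfl : Proj.map _ (𝒮L.irrelevant_le_map W hW a) y'' = y' :=
      (RelProj.emb pL chartL W hW).isOpenEmbedding.injective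
        (((congrArg (fun g => g.base y'') (Groth.Agent.RelProjBasic.map_res_emb hPL W hW a)).trans hy'').trans hy'.symm)
    refine hfy' ?_
    show 𝒮L.res hW hWa (X.basicOpen_le a) (u.gradedAt ⊤ hY W hW _ s) ∈ y''.asHomogeneousIdeal.toIdeal
    rw [RelProj.QGrHom.gradedAt_apply, Groth.Agent.SymAlgExist.appLE_res s hW hWa (X.basicOpen_le a),
      ← Groth.Agent.SymAlgExist.appLE_res s hV hWa (hab.le.trans (X.basicOpen_le b))]
    have := y''.isPrime
    obtain ⟨k, hk⟩ := hnV.map (𝒮L.res hV hWa (hab.le.trans (X.basicOpen_le b)))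
    exact Ideal.IsPrime.mem_of_pow_mem this k (hk ▸ zero_mem _)
  · intro H
    refine ⟨dense_iff_inter_open.mpr fun O hO ⟨x, hx⟩ => ?_⟩
    obtain ⟨y, rfl⟩ := Groth.Agent.RelProjBasic.exists_emb_eq (chart := chart) ⊤ hY x trivial
    obtain ⟨n, s, hn, hs, hsy, hle⟩ := Groth.Agent.RelProjBasic.exists_basicOpen_subset
      (RelProj.emb p chart ⊤ hY ⁻¹ᵁ ⟨O, hO⟩) hx
    obtain ⟨x', hx'⟩ : ∃ x' : X, Groth.Agent.SymAlgExist.NonVanish q u s n x' := by
      by_contra hc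
      refine Groth.Agent.RelProjBasic.not_isNilpotent_of_not_mem hsy (H n hn s hs fun x' => ?_)
      obtain ⟨V, hV, hxV, -, ℓ, hℓ⟩ := Groth.Agent.SymAlgExist.exists_affine_basis hL x' ⊤ (Opens.mem_top _)
      refine ⟨V, hV, hxV, ?_⟩
      obtain ⟨a, ha⟩ := Groth.Agent.SymAlgExist.exists_eq_str_mul_pow hj V hV hℓ (n := n)
        (show (u.appLE ⊤ V (le_top.trans (Scheme.Hom.preimage_top q).ge)).hom s ∈ 𝒮L.deg V hV n from
          u.map_mem ⊤ hY V hV _ hs)
      rw [ha, mul_comm]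
      refine (Commute.all _ _).isNilpotent_mul_left (IsNilpotent.map ?_ _)
      refine (Scheme.isNilpotent_iff_basicOpen_eq_bot_of_isCompact hV.isCompact a).mpr (eq_bot_iff.mpr fun x'' hx'' => ?_)
      refine (hc ⟨x'', ?_⟩).elim
      have := Groth.Agent.SymAlgExist.isIso_pL hL hj hPL
      obtain ⟨z, rfl⟩ := pL.homeomorph.surjective x''
      obtain ⟨y'', rfl⟩ := Groth.Agent.RelProjBasic.exists_emb_eq (chart := chartL) V hV z (X.basicOpen_le a hx'')
      refine Groth.Agent.SymAlgExist.nonVanish_of_chart hL hj hPL hY hn s hs hV y'' ?_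
      show (u.appLE ⊤ V _).hom s ∉ y''.asHomogeneousIdeal
      rw [ha, Groth.Agent.SymAlgExist.str_mul_pow_not_mem_iff hj hPL V hV hℓ a n y'']
      exact hx''
    have := Groth.Agent.SymAlgExist.isIso_pL hL hj hPL
    obtain ⟨z, rfl⟩ := pL.homeomorph.surjective x'
    have hz := Groth.Agent.SymAlgExist.mem_domQ_of_nonVanish hL hj hPL hY hn s hs hx'
    obtain ⟨y₁, hy₁, hsy₁⟩ := (Groth.Agent.SymAlgExist.apply_mem_iff hL hj hP hPL hY hn s hs hr ⟨z, hz⟩).mpr hx'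
    exact ⟨_, hy₁ ▸ hle ((ProjectiveSpectrum.mem_basicOpen _ _ _).mpr hsy₁), ⟨z, hz⟩, rfl⟩


end Groth.Agent.S12146
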