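import Groth.Statements.S12152
import Groth.Agent.SymAlgExist.ImmCritMain

set_option autoImplicit false
universe u
open CategoryTheory CategoryTheory.Limits AlgebraicGeometry TopologicalSpace Opposite
open scoped HomogeneousIdeal
noncomputable section
open EGA2

namespace Groth.Agent.S12152

open Groth.Agent.SymAlgExist Groth.Agent.SymAlgExist.ImmCrit

/-- Let q : X → Y be a morphism with Y affine, L an invertible O_X-module with 𝒮L = ⊕ L^{⊗n} (whose Proj
is X), 𝒮 a quasi-coherent positively graded O_Y-algebra with S = Γ(Y, 𝒮), ψ♭ = u : 𝒮 → q_*𝒮L a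
graded q-morphism and r = r_{L,ψ} : G(ψ) → P = Proj(𝒮). For a family s_a ∈ S_{n_a} (n_a > 0) put f_a
= ψ♭(s_a) ∈ Γ(X, L^{⊗n_a}) and let X_{f_a} be the open where f_a does not vanish; conditions: (i)
the X_{f_a} cover X; (ii) the X_{f_a} are affine; (iii) every function t on X_{f_a} is of the form
ψ♭(s') f_a^{-m} with m > 0 and s' ∈ S_{m n_a} (that is, t f_a^m = ψ♭(s') in 𝒮L(X_{f_a})); (v) the
opens D_+(s_a) cover Proj S. Then r is everywhere defined and a closed immersion if and only if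
there is a family (s_a) satisfying (i), (ii), (iii) and (v). -/
theorem result {Y X P PL : Scheme.{u}} (q : X ⟶ Y)
    (L : X.Modules) (hL : PicF.IsInvertible L) (hLq : Coh.IsQCoh L)
    (𝒮 : RelProj.QCGrAlg Y) (𝒮L : RelProj.QCGrAlg X) (j : L ⟶ 𝒮L.toModule) (hj : RelProj.IsGrSymAlg L 𝒮L j)
    (u : RelProj.QGrHom q 𝒮 𝒮L)
    (p : P ⟶ Y) (chart : ∀ (U : Y.Opens) (hU : IsAffineOpen U), (((p ⁻¹ᵁ U : P.Opens) : Scheme.{u}) ≅ Proj (𝒮.deg U hU)))
    (hP : RelProj.IsRelProj 𝒮 p chart)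
    (pL : PL ⟶ X) (chartL : ∀ (U : X.Opens) (hU : IsAffineOpen U), (((pL ⁻¹ᵁ U : PL.Opens) : Scheme.{u}) ≅ Proj (𝒮L.deg U hU)))
    (hPL : RelProj.IsRelProj 𝒮L pL chartL)
    (r : ((RelProj.domQ u pL chartL : PL.Opens) : Scheme.{u}) ⟶ P)
    (hr : RelProj.IsProjQMapOn u p chart pL chartL (RelProj.domQ u pL chartL) r)
    (hY : IsAffineOpen (⊤ : Y.Opens)) :
    (RelProj.domQ u pL chartL = ⊤ ∧ IsClosedImmersion r) ↔
      ∃ (ι : Type u) (n : ι → ℕ) (s : ι → 𝒮.presheaf.obj (op ⊤)) (XT : ι → X.Opens),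
        (∀ a, 0 < n a ∧ s a ∈ 𝒮.deg ⊤ hY (n a)) ∧
        (∀ a, XT a = (⨆ V : {V : X.affineOpens //
          ((𝒮L.deg V.1 V.2 (n a) : AddSubgroup (𝒮L.presheaf.obj (op (V.1 : X.Opens)))) : Set (𝒮L.presheaf.obj (op (V.1 : X.Opens)))) ⊆
            (Ideal.span {(u.appLE ⊤ (V.1 : X.Opens) (le_top.trans (Scheme.Hom.preimage_top q).ge)).hom (s a)} : Set (𝒮L.presheaf.obj (op (V.1 : X.Opens))))},
          (V.1.1 : X.Opens))) ∧
        (⨆ a, XT a) = ⊤ ∧ (∀ a, IsAffineOpen (XT a)) ∧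
        (∀ (a : ι) (t : X.presheaf.obj (op (XT a))), ∃ (m : ℕ) (_ : 0 < m) (s' : 𝒮.presheaf.obj (op ⊤)) (_ : s' ∈ 𝒮.deg ⊤ hY (m * n a)),
            (𝒮L.str.app (op (XT a))).hom t * ((u.appLE ⊤ (XT a) (le_top.trans (Scheme.Hom.preimage_top q).ge)).hom (s a)) ^ m =
              (u.appLE ⊤ (XT a) (le_top.trans (Scheme.Hom.preimage_top q).ge)).hom s') ∧
        (⨆ a, Proj.basicOpen (𝒮.deg ⊤ hY) (s a)) = ⊤ := by
  have : L.IsQuasicoherent := hLq
  constructor
  · rintro ⟨htop, himm⟩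
    have H := fun y : Proj (𝒮.deg ⊤ hY) => exists_homogeneous_not_mem y
    choose n s hn hs hy using H
    let r₁ : (RelProj.domQ u pL chartL : Scheme.{u}) ⟶ ((⊤ : P.Opens) : Scheme.{u}) := r ≫ P.topIso.inv
    have hr₁ : r₁ ≫ (⊤ : P.Opens).ι = r := by
      rw [Category.assoc, ← Scheme.topIso_hom, Iso.inv_hom_id, Category.comp_id]
    have hci : IsClosedImmersion r₁ := inferInstanceAs (IsClosedImmersion (r ≫ P.topIso.inv))
    have hV := fun a => isAffineOpen_locus hL hj hP hPL hr hY (hn a) (s a) (hs a) ⊤ r₁ hr₁ le_top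
    refine ⟨_, n, s, fun a => locus q u (s a) (n a), fun a => ⟨hn a, hs a⟩, fun a => rfl,
      iSup_locus_eq_top hL hj hP hPL hr hY htop n s hn hs (fun z => ?_), hV, fun a => ?_,
      eq_top_iff.mpr fun y _ => Opens.mem_iSup.mpr ⟨y, (ProjectiveSpectrum.mem_basicOpen _ _ _).mpr (hy y)⟩⟩
    · obtain ⟨y, hyz⟩ := Groth.Agent.RelProjBasic.exists_emb_eq (chart := chart) ⊤ hY (r.base z) trivial
      exact ⟨y, (mem_range_dplus hY (hn y) (s y) (hs y) _).mpr ⟨y, hyz, hy y⟩⟩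
    · have hc := away_of_factor hL hj hP hPL hr hY (hn a) (s a) (hs a) ⊤ r₁ hr₁ le_top (hV a) (Q := @IsClosedImmersion) hci
      exact (surjective_away_iff hL hj hPL hY (hn a) (s a) (hs a) (hV a)).mp (surjective_of_isClosedImmersion_SpecMap (CommRingCat.ofHom (HomogeneousLocalization.Away.map (u.gradedAt ⊤ hY (locus q u (s a) (n a)) (hV a) (le_preimage_top (q := q) _)) (s a))))
  · rintro ⟨ι, n, s, XT, hs, hXT, hcov, haff, h3, h5⟩
    obtain rfl : XT = fun a => locus q u (s a) (n a) := funext hXT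
    refine ⟨domQ_eq_top hL hj hPL hY n s hs hcov, ?_⟩
    obtain ⟨r', hr', hQ⟩ := exists_factor_loci hL hj hP hPL hr hY n s (fun a => (hs a).1) (fun a => (hs a).2) hcov haff
      (Q := @IsClosedImmersion) (fun a => IsClosedImmersion.spec_of_surjective _
        ((surjective_away_iff hL hj hPL hY (hs a).1 (s a) (hs a).2 (haff a)).mpr (h3 a)))
    have htop : (⨆ a, (dplus chart hY (hs a).1 (s a) (hs a).2).opensRange) = ⊤ := by
      refine eq_top_iff.mpr fun x _ => ?_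
      obtain ⟨y, hy⟩ := Groth.Agent.RelProjBasic.exists_emb_eq (chart := chart) ⊤ hY x trivial
      obtain ⟨a, ha⟩ := Opens.mem_iSup.mp (h5.ge (Opens.mem_top y))
      exact Opens.mem_iSup.mpr ⟨a, (mem_range_dplus hY (hs a).1 (s a) (hs a).2 x).mpr
        ⟨y, hy, (ProjectiveSpectrum.mem_basicOpen _ _ _).mp ha⟩⟩
    have : IsIso (⨆ a, (dplus chart hY (hs a).1 (s a) (hs a).2).opensRange).ι := by
      rw [htop]
      exact inferInstanceAs (IsIso P.topIso.hom)
    rw [← hr']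
    exact inferInstance


end Groth.Agent.S12152
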