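import Groth.Statements.S12154
import Groth.Agent.RelProjBasic.QMapComp

set_option autoImplicit false
universe u
open CategoryTheory CategoryTheory.Limits AlgebraicGeometry TopologicalSpace Opposite
open scoped HomogeneousIdeal
noncomputable section
open EGA2

namespace Groth.Agent.S12154

/-- Let q : X → Y be a morphism, L an invertible O_X-module with 𝒮L = ⊕ L^{⊗n} (whose Proj, with its
charts, is X), v : 𝒯 → 𝒮 a graded homomorphism of quasi-coherent positively graded O_Y-algebras, ψ♭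
= u : 𝒮 → q_*𝒮L a graded q-morphism and ψ'♭ = u' its composite with v; let r = r_{L,ψ} : G(ψ) →
Proj(𝒮) and r' = r_{L,ψ'} : G(ψ') → Proj(𝒯), with r' everywhere defined and v (TN)-surjective (v :
𝒯_k → 𝒮_k surjective for all large k, on sections over affine opens). If r' is an open immersion, so
is r; if r' is a closed immersion, so is r. -/
theorem result {Y X P PL P' : Scheme.{u}} (q : X ⟶ Y)
    (L : X.Modules) (hL : PicF.IsInvertible L) (hLq : Coh.IsQCoh L)
    (𝒮 : RelProj.QCGrAlg Y) (𝒮L : RelProj.QCGrAlg X) (j : L ⟶ 𝒮L.toModule) (hj : RelProj.IsGrSymAlg L 𝒮L j)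
    (u : RelProj.QGrHom q 𝒮 𝒮L)
    (p : P ⟶ Y) (chart : ∀ (U : Y.Opens) (hU : IsAffineOpen U), (((p ⁻¹ᵁ U : P.Opens) : Scheme.{u}) ≅ Proj (𝒮.deg U hU)))
    (hP : RelProj.IsRelProj 𝒮 p chart)
    (pL : PL ⟶ X) (chartL : ∀ (U : X.Opens) (hU : IsAffineOpen U), (((pL ⁻¹ᵁ U : PL.Opens) : Scheme.{u}) ≅ Proj (𝒮L.deg U hU)))
    (hPL : RelProj.IsRelProj 𝒮L pL chartL)
    (r : ((RelProj.domQ u pL chartL : PL.Opens) : Scheme.{u}) ⟶ P)
    (hr : RelProj.IsProjQMapOn u p chart pL chartL (RelProj.domQ u pL chartL) r)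
    (𝒯 : RelProj.QCGrAlg Y) (v : 𝒯.toQCAlg ⟶ 𝒮.toQCAlg) (hv : RelProj.IsGradedHom v)
    (u' : RelProj.QGrHom q 𝒯 𝒮L) (hu' : ∀ U : Y.Opens, u'.app U = v.hom.app (op U) ≫ u.app U)
    (p' : P' ⟶ Y) (chart' : ∀ (U : Y.Opens) (hU : IsAffineOpen U), (((p' ⁻¹ᵁ U : P'.Opens) : Scheme.{u}) ≅ Proj (𝒯.deg U hU)))
    (hP' : RelProj.IsRelProj 𝒯 p' chart')
    (r' : ((RelProj.domQ u' pL chartL : PL.Opens) : Scheme.{u}) ⟶ P')
    (hr' : RelProj.IsProjQMapOn u' p' chart' pL chartL (RelProj.domQ u' pL chartL) r')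
    (hTN : ∃ n : ℕ, ∀ k, n ≤ k → ∀ (U : Y.Opens) (hU : IsAffineOpen U), ∀ y ∈ 𝒮.deg U hU k,
      ∃ x ∈ 𝒯.deg U hU k, (v.hom.app (op U)).hom x = y)
    (hdef : RelProj.domQ u' pL chartL = ⊤) :
    (IsOpenImmersion r' → IsOpenImmersion r) ∧ (IsClosedImmersion r' → IsClosedImmersion r) := by
  obtain ⟨n, hn⟩ := hTN
  let uv := RelProj.QGrHom.ofHom v hv
  have hψ := fun U hU => Groth.Agent.RelProjBasic.self_ofHom hv U hU
  have htop : RelProj.domQ uv p chart = ⊤ := Groth.Agent.RelProjBasic.domQ_eq_top uv hP fun U hU => by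
    rw [hψ U hU]
    exact Groth.Agent.RelProjBasic.domOpen_eq_top _ fun k hk => hn k hk U hU
  obtain ⟨v₀, hv₀, -⟩ := Groth.Agent.RelProjBasic.existsUnique_isProjQMapOn (u := uv) hP' hP
  have hci : IsClosedImmersion v₀ :=
    Groth.Agent.RelProjBasic.qmap_of_away (Q := @IsClosedImmersion) uv hP' hP hv₀ fun U hU d f hd hf => by
      rw [hψ U hU]
      exact IsClosedImmersion.spec_of_surjective _
        (Groth.Agent.RelProjBasic.away_map_surjective' _ (fun k hk => hn k hk U hU) hd hf)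
  have hι : IsIso (RelProj.domQ uv p chart).ι := by rw [htop]; exact inferInstanceAs (IsIso (Scheme.topIso P).hom)
  let w : P ⟶ P' := inv (RelProj.domQ uv p chart).ι ≫ v₀
  have : IsClosedImmersion w := inferInstance
  have hw : ∀ (U : Y.Opens) (hU : IsAffineOpen U) (d : ℕ) (hd : 0 < d) (f : 𝒯.presheaf.obj (op U)) (hf : f ∈ 𝒯.deg U hU d),
      Proj.awayι (𝒮.deg U hU) (RelProj.gradedHomAt v hv U hU f) (Graded.map_mem _ hf) hd ≫ RelProj.emb p chart U hU ≫ w =
        Spec.map (CommRingCat.ofHom (HomogeneousLocalization.Away.map (RelProj.gradedHomAt v hv U hU) f)) ≫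
          Proj.awayι (𝒯.deg U hU) f hf hd ≫ RelProj.emb p' chart' U hU := by
    intro U hU d hd f hf
    refine Eq.trans ?_ (Groth.Agent.RelProjBasic.qmap_chart_spec uv hv₀ _ rfl U hU _ (hψ U hU) d hd f hf
      ((Proj.awayι (𝒮.deg U hU) (RelProj.gradedHomAt v hv U hU f) (Graded.map_mem _ hf) hd ≫ RelProj.emb p chart U hU) ≫
        inv (RelProj.domQ uv p chart).ι) (by simp))
    simp [w]
  have hdomu : RelProj.domQ u pL chartL = ⊤ :=
    eq_top_iff.mpr (hdef ▸ Groth.Agent.RelProjBasic.domQ_comp_le hv hu')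
  have hle := Groth.Agent.RelProjBasic.domQ_comp_le (pL := pL) (chartL := chartL) hv hu'
  have hcomp := Groth.Agent.RelProjBasic.comp_qmap (hv := hv) hu' hPL hr hr' hP' w hw hle
  have : IsIso (PL.homOfLE hle) := by
    have e : RelProj.domQ u pL chartL = RelProj.domQ u' pL chartL := by rw [hdomu, hdef]
    have : PL.homOfLE hle = (PL.isoOfEq e.symm).hom := by rw [← cancel_mono (RelProj.domQ u pL chartL).ι]; simp
    rw [this]; infer_instance
  refine ⟨fun h => ?_, fun h => ?_⟩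
  · have h' : IsOpenImmersion (r ≫ w) := by
      rwa [← MorphismProperty.cancel_left_of_respectsIso @IsOpenImmersion (PL.homOfLE hle), hcomp]
    exact MorphismProperty.of_isPullback (Groth.Agent.RelProjBasic.isPullback_comp_mono r w) h'
  · have h' : IsClosedImmersion (r ≫ w) := by
      rwa [← MorphismProperty.cancel_left_of_respectsIso @IsClosedImmersion (PL.homOfLE hle), hcomp]
    exact IsClosedImmersion.of_comp r w

end Groth.Agent.S12154
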