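import Groth.Statements.S12155
import Groth.Agent.RelProjBasic.QMapPreimage
-- import your own Groth.Agent.* helpers here

set_option autoImplicit false
universe u
open CategoryTheory CategoryTheory.Limits AlgebraicGeometry TopologicalSpace Opposite
open scoped HomogeneousIdeal
noncomputable section
open EGA2

namespace Groth.Agent.S12155

open Groth.Agent

theorem appLE_id {Y : Scheme.{u}} {A B : RelSpec.QCAlg Y} (φ : A ⟶ B) (U : Y.Opens) (x : A.presheaf.obj (op U)) :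
    ((RelSpec.QHom.ofHom φ).appLE U U le_rfl).hom x = (φ.hom.app (op U)).hom x := by
  show (B.presheaf.map (homOfLE le_rfl).op).hom _ = _
  exact RingHom.congr_fun (congrArg CommRingCat.Hom.hom (B.presheaf.map_id (op U))) _

theorem exists_pos_notMem {A B σ τ : Type u} [CommRing A] [SetLike σ A] [AddSubgroupClass σ A] [CommRing B]
    [SetLike τ B] [AddSubgroupClass τ B] {𝒜 : ℕ → σ} [GradedRing 𝒜] {ℬ : ℕ → τ} [GradedRing ℬ] (φ : 𝒜 →+*ᵍ ℬ)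
    (y : ProjectiveSpectrum ℬ) {n : ℕ} (hn : 0 < n) {h : B} (hh : h ∈ ℬ n) (hy : h ∉ y.asHomogeneousIdeal)
    (c : A) (hc : h - φ c ∈ y.asHomogeneousIdeal) :
    ∃ (j : ℕ) (g : A), 0 < j ∧ g ∈ 𝒜 j ∧ φ g ∉ y.asHomogeneousIdeal := by
  classical
  by_contra hcon
  push Not at hcon
  have h1 : φ c - φ (DirectSum.decompose 𝒜 c 0 : A) ∈ y.asHomogeneousIdeal.toIdeal := by
    rw [← map_sub]
    have h0 : c - (DirectSum.decompose 𝒜 c 0 : A) ∈ (𝒜₊).toIdeal := by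
      show c - (DirectSum.decompose 𝒜 c 0 : A) ∈ 𝒜₊
      rw [HomogeneousIdeal.mem_irrelevant_iff, map_sub]
      simp [GradedRing.proj_apply]
    exact (HomogeneousIdeal.toIdeal_irrelevant_le 𝒜).mpr
      (show ∀ i, 0 < i → ∀ a ∈ 𝒜 i, a ∈ y.asHomogeneousIdeal.toIdeal.comap φ from fun i hi a ha => hcon i a hi ha) h0
  have h2 : h - φ (DirectSum.decompose 𝒜 c 0 : A) ∈ y.asHomogeneousIdeal.toIdeal := by
    have := add_mem (s := y.asHomogeneousIdeal.toIdeal) hc h1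
    rwa [sub_add_sub_cancel] at this
  have h3 := y.asHomogeneousIdeal.isHomogeneous n h2
  rw [DirectSum.decompose_sub, DirectSum.sub_apply, AddSubgroupClass.coe_sub, DirectSum.decompose_of_mem_same ℬ hh,
    DirectSum.decompose_of_mem_ne ℬ (show φ (DirectSum.decompose 𝒜 c 0 : A) ∈ ℬ 0 from φ.map_mem (DirectSum.decompose 𝒜 c 0).2) hn.ne, sub_zero] at h3
  exact hy h3

/-- Let q : Y' → Y be a morphism, φ : 𝒮 → q_*𝒮' a graded q-morphism of quasi-coherent positively graded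
algebras with 𝒮_0 = O_Y, 𝒮'_0 = O_{Y'}, φ̂ : 𝒮[z] → q_*𝒮'[z] its extension with φ̂(z) = z, Ĉ =
Proj(𝒮[z]), Ĉ' = Proj(𝒮'[z]) the projective cones with pointed cones Ê, Ê', and Φ̂ = Proj(φ̂) :
G(φ̂) → Ĉ. Then Φ̂⁻¹(Ê) ⊆ Ê'; moreover if Proj(φ) is everywhere defined on Proj(𝒮'), then Φ̂ is
everywhere defined on Ĉ' and Φ̂⁻¹(Ê) = Ê'. -/
theorem result {Y Y' PC PC' : Scheme.{u}} (q : Y' ⟶ Y)
    (𝒮 : RelProj.QCGrAlg Y) (𝒮' : RelProj.QCGrAlg Y') (h0 : RelCone.StrZeroBij 𝒮) (h0' : RelCone.StrZeroBij 𝒮')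
    (u : RelProj.QGrHom q 𝒮 𝒮')
    (𝒮h : RelProj.QCGrAlg Y) (ι : 𝒮.toQCAlg ⟶ 𝒮h.toQCAlg) (z : 𝒮h.presheaf.obj (op ⊤))
    (hz : RelCone.IsPolyOver 𝒮 𝒮h ι z)
    (pC : PC ⟶ Y) (chartC : ∀ (U : Y.Opens) (hU : IsAffineOpen U), (((pC ⁻¹ᵁ U : PC.Opens) : Scheme.{u}) ≅ Proj (𝒮h.deg U hU)))
    (hC : RelProj.IsRelProj 𝒮h pC chartC)
    (𝒮h' : RelProj.QCGrAlg Y') (ι' : 𝒮'.toQCAlg ⟶ 𝒮h'.toQCAlg) (z' : 𝒮h'.presheaf.obj (op ⊤))
    (hz' : RelCone.IsPolyOver 𝒮' 𝒮h' ι' z')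
    (pC' : PC' ⟶ Y') (chartC' : ∀ (U : Y'.Opens) (hU : IsAffineOpen U), (((pC' ⁻¹ᵁ U : PC'.Opens) : Scheme.{u}) ≅ Proj (𝒮h'.deg U hU)))
    (hC' : RelProj.IsRelProj 𝒮h' pC' chartC')
    (uh : RelProj.QGrHom q 𝒮h 𝒮h')
    (huh : ∀ U : Y.Opens, ι.hom.app (op U) ≫ uh.app U = u.app U ≫ ι'.hom.app (op (q ⁻¹ᵁ U)))
    (huhz : (uh.app ⊤).hom z = RelCone.restrictTop 𝒮h' z' (q ⁻¹ᵁ ⊤))
    (Φh : ((RelProj.domQ uh pC' chartC' : PC'.Opens) : Scheme.{u}) ⟶ PC)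
    (hΦh : RelProj.IsProjQMapOn uh pC chartC pC' chartC' (RelProj.domQ uh pC' chartC') Φh)
    {P' : Scheme.{u}} (p' : P' ⟶ Y') (chart' : ∀ (U : Y'.Opens) (hU : IsAffineOpen U), (((p' ⁻¹ᵁ U : P'.Opens) : Scheme.{u}) ≅ Proj (𝒮'.deg U hU)))
    (hP' : RelProj.IsRelProj 𝒮' p' chart') :
    (RelProj.domQ uh pC' chartC').ι ''ᵁ (Φh ⁻¹ᵁ RelCone.pointedProjCone 𝒮 hz pC chartC) ≤ RelCone.pointedProjCone 𝒮' hz' pC' chartC' ∧
      (RelProj.domQ u p' chart' = ⊤ →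
        RelProj.domQ uh pC' chartC' = ⊤ ∧
          (RelProj.domQ uh pC' chartC').ι ''ᵁ (Φh ⁻¹ᵁ RelCone.pointedProjCone 𝒮 hz pC chartC) = RelCone.pointedProjCone 𝒮' hz' pC' chartC') := by
  let E₀ := RelCone.pointedProjCone 𝒮 hz pC chartC
  let E₁ := RelCone.pointedProjCone 𝒮' hz' pC' chartC'
  have hE : ∀ (U : Y.Opens) (U₁ : Y'.Opens) (hle₁ : U₁ ≤ q ⁻¹ᵁ U) (U' : Y'.Opens) (hle : U' ≤ U₁) (x : 𝒮.presheaf.obj (op U)),
      (uh.appLE U U' (hle.trans hle₁)).hom ((ι.hom.app (op U)).hom x) =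
        ((RelProj.QGrHom.ofHom ι' hz'.graded).appLE U₁ U' hle).hom ((u.appLE U U₁ hle₁).hom x) := by
    intro U U₁ hle₁ U' hle x
    show (𝒮h'.presheaf.map (homOfLE (hle.trans hle₁)).op).hom ((uh.app U).hom ((ι.hom.app (op U)).hom x)) = _
    refine (congrArg _ (ConcreteCategory.congr_hom (huh U) x)).trans ?_
    show _ = (𝒮h'.presheaf.map (homOfLE hle).op).hom ((ι'.hom.app (op U₁)).hom ((𝒮'.presheaf.map (homOfLE hle₁).op).hom ((u.app U).hom x)))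
    refine Eq.trans ?_ (congrArg _ (ConcreteCategory.congr_hom (ι'.hom.naturality (homOfLE hle₁).op) ((u.app U).hom x)).symm)
    show _ = (𝒮h'.presheaf.map _).hom ((𝒮h'.presheaf.map _).hom _)
    rw [← CommRingCat.comp_apply (𝒮h'.presheaf.map _), ← Functor.map_comp]
    rfl
  have hz1 : ∀ (U : Y.Opens) (U' : Y'.Opens) (hle : U' ≤ q ⁻¹ᵁ U),
      (uh.appLE U U' hle).hom (RelCone.restrictTop 𝒮h z U) = RelCone.restrictTop 𝒮h' z' U' := by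
    intro U U' hle
    have h1 := ConcreteCategory.congr_hom (uh.naturality (le_top : U ≤ ⊤)) z
    show (𝒮h'.presheaf.map (homOfLE hle).op).hom ((uh.app U).hom ((𝒮h.presheaf.map (homOfLE le_top).op).hom z)) = _
    refine (congrArg _ h1.symm).trans ?_
    show (𝒮h'.presheaf.map (homOfLE hle).op).hom ((𝒮h'.presheaf.map _).hom ((uh.app ⊤).hom z)) = _
    rw [huhz]
    simp only [RelCone.restrictTop]
    rw [← CommRingCat.comp_apply, ← CommRingCat.comp_apply, ← Functor.map_comp, ← Functor.map_comp]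
    rfl
  have hsub : ∀ x : (RelProj.domQ uh pC' chartC' : Scheme.{u}), Φh.base x ∈ E₀ → x.1 ∈ E₁ := by
    intro x hx
    obtain ⟨⟨U, hU⟩, y, hy, hyx⟩ := Opens.mem_iSup.mp hx
    obtain ⟨n, f, hn, hf, hfy⟩ := RelProjBasic.exists_hom_of_mem_domOpen _ hy
    obtain ⟨U', hU', hle, hxc⟩ := RelProjBasic.exists_chart_of_apply_mem hC hC' hΦh U hU hn ((ι.hom.app (op U)).hom f)
      (hz.graded U hU n f hf) x y hyx hfy
    obtain ⟨y', hy', hne⟩ := (RelProjBasic.Ix.mem_range_c _ x).mp hxc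
    refine Opens.mem_iSup.mpr ⟨⟨U', hU'⟩, y', RelProjBasic.mem_domOpen_of _ hn ((u.gradedAt U hU U' hU' hle).map_mem hf) ?_, hy'⟩
    intro hc
    apply hne
    have h1 := (hE U U' hle U' le_rfl f).trans (appLE_id ι' U' _)
    exact h1.symm ▸ hc
  refine ⟨fun _ ⟨x, hx, e⟩ => e ▸ hsub x hx, fun htop => ?_⟩
  obtain ⟨r', hr', -⟩ := RelProjBasic.existsUnique_isProjQMapOn (u := RelProj.QGrHom.ofHom ι' hz'.graded) hP' hC'
  -- points of the pointed cone lie in the domain and map into the pointed cone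
  have hsup : ∀ x : PC', x ∈ E₁ → ∃ hx : x ∈ RelProj.domQ uh pC' chartC', Φh.base ⟨x, hx⟩ ∈ E₀ := by
    intro x hx
    obtain ⟨⟨V, hV⟩, y, hy, hyx⟩ := Opens.mem_iSup.mp hx
    obtain ⟨n, g, hn, hg, hgy⟩ := RelProjBasic.exists_hom_of_mem_domOpen _ hy
    have hxd : x ∈ RelProj.domQ (RelProj.QGrHom.ofHom ι' hz'.graded) pC' chartC' := by
      refine Opens.mem_iSup.mpr ⟨⟨(⟨V, hV⟩, ⟨V, hV⟩), fun _ h => h⟩, y, RelProjBasic.mem_domOpen_of _ hn hg ?_, hyx⟩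
      intro hc
      exact hgy ((appLE_id ι' V g) ▸ hc)
    obtain ⟨i, hi⟩ := RelProjBasic.exists_ix (g := q) (𝒮 := 𝒮) (u := u) (p' := p') (chart' := chart')
      ⟨r'.base ⟨x, hxd⟩, htop ▸ trivial⟩
    obtain ⟨y0, hy0, hfy0⟩ := (RelProjBasic.Ix.mem_range_c i _).mp hi
    obtain ⟨U', hU', hle, hxc⟩ := RelProjBasic.exists_chart_of_apply_mem hP' hC' hr' i.U' i.hU' i.hd _
      ((u.gradedAt i.U i.hU i.U' i.hU' i.hle).map_mem i.hf) ⟨x, hxd⟩ y0 hy0 hfy0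
    obtain ⟨y', hy', hne⟩ := (RelProjBasic.Ix.mem_range_c _ _).mp hxc
    have hle' : U' ≤ q ⁻¹ᵁ i.U := fun a ha => i.hle (hle ha)
    have hne' : uh.gradedAt i.U i.hU U' hU' hle' ((ι.hom.app (op i.U)).hom i.f) ∉ y'.asHomogeneousIdeal := by
      intro hc
      apply hne
      exact (hE i.U i.U' i.hle U' hle i.f) ▸ hc
    let k : RelProjBasic.Ix (g := q) (𝒮 := 𝒮h) := ⟨i.U, i.hU, U', hU', hle', i.d, i.hd, _, hz.graded i.U i.hU i.d i.f i.hf⟩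
    have hxh : x ∈ RelProj.domQ uh pC' chartC' :=
      Opens.mem_iSup.mpr ⟨⟨(⟨i.U, i.hU⟩, ⟨U', hU'⟩), hle'⟩, y', RelProjBasic.mem_domOpen_of _ i.hd k.hf hne', hy'⟩
    refine ⟨hxh, ?_⟩
    obtain ⟨y2, hy2, hne2⟩ := RelProjBasic.Ix.apply_mem hΦh k ⟨x, hxh⟩ ((RelProjBasic.Ix.mem_range_c k _).mpr ⟨y', hy', hne'⟩)
    exact Opens.mem_iSup.mpr ⟨⟨i.U, i.hU⟩, y2, RelProjBasic.mem_domOpen_of _ i.hd i.hf hne2, hy2⟩
  have htop' : RelProj.domQ uh pC' chartC' = ⊤ := by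
    refine eq_top_iff.mpr fun x _ => ?_
    obtain ⟨U, hU, hxU, -⟩ := exists_isAffineOpen_mem_and_subset (X := Y) (x := q (pC' x)) (U := ⊤) trivial
    obtain ⟨U', hU', hxU', hle⟩ := exists_isAffineOpen_mem_and_subset (X := Y') (x := pC' x) (U := q ⁻¹ᵁ U) hxU
    obtain ⟨y, rfl⟩ := RelProjBasic.exists_emb_eq (p := pC') (chart := chartC') U' hU' x hxU'
    let yy : ProjectiveSpectrum (𝒮h'.deg U' hU') := y
    by_cases hzy : RelCone.restrictTop 𝒮h' z' U' ∈ yy.asHomogeneousIdeal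
    · obtain ⟨n, h, hn, hh, hhy⟩ : ∃ (n : ℕ) (h : 𝒮h'.presheaf.obj (op U')), 0 < n ∧ h ∈ 𝒮h'.deg U' hU' n ∧ h ∉ yy.asHomogeneousIdeal := by
        by_contra hc
        push Not at hc
        exact yy.not_irrelevant_le ((HomogeneousIdeal.toIdeal_irrelevant_le _).mpr fun i hi a ha => hc i a hi ha)
      obtain ⟨Pl, hPl⟩ := (hz'.polyEquiv U' hU').surjective h
      have hc0 : h - RelProj.gradedHomAt ι' hz'.graded U' hU' (Pl.coeff 0) ∈ yy.asHomogeneousIdeal := by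
        show h - (ι'.hom.app (op U')).hom (Pl.coeff 0) ∈ _
        have e : h = RelCone.restrictTop 𝒮h' z' U' * hz'.polyEquiv U' hU' Pl.divX + (ι'.hom.app (op U')).hom (Pl.coeff 0) := by
          conv_lhs => rw [← hPl, ← Polynomial.X_mul_divX_add Pl]
          rw [map_add, map_mul]
          congr 1
          · congr 1
            rw [hz'.polyEquiv_apply, Polynomial.eval₂_X]
          · rw [hz'.polyEquiv_apply, Polynomial.eval₂_C]
        rw [e, add_sub_cancel_right]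
        exact Ideal.mul_mem_right _ _ hzy
      obtain ⟨j, g, hj, hg, hgy⟩ := exists_pos_notMem (RelProj.gradedHomAt ι' hz'.graded U' hU') yy hn hh hhy _ hc0
      obtain ⟨hx, -⟩ := hsup _ (Opens.mem_iSup.mpr ⟨⟨U', hU'⟩, y, RelProjBasic.mem_domOpen_of _ hj hg hgy, rfl⟩)
      exact hx
    · refine Opens.mem_iSup.mpr ⟨⟨(⟨U, hU⟩, ⟨U', hU'⟩), hle⟩, y, RelProjBasic.mem_domOpen_of _ one_pos (hz.deg_z U hU) ?_, rfl⟩
      intro hc
      exact hzy ((hz1 U U' hle) ▸ hc)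
  refine ⟨htop', le_antisymm (fun _ ⟨x, hx, e⟩ => e ▸ hsub x hx) fun x hx => ?_⟩
  obtain ⟨hx', hx0⟩ := hsup x hx
  exact ⟨⟨x, hx'⟩, hx0, rfl⟩

end Groth.Agent.S12155
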