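import Groth.Statements.S12156
import Groth.Agent.RelProjBasic.QMapPreimage
-- import your own Groth.Agent.* helpers here

set_option autoImplicit false
universe u
open CategoryTheory CategoryTheory.Limits AlgebraicGeometry TopologicalSpace Opposite
open scoped HomogeneousIdeal
noncomputable section
open EGA2

namespace Groth.Agent.S12156

open Groth.Agent

theorem appLE_id {Y : Scheme.{u}} {A B : RelSpec.QCAlg Y} (φ : A ⟶ B) (U : Y.Opens) (x : A.presheaf.obj (op U)) :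
    ((RelSpec.QHom.ofHom φ).appLE U U le_rfl).hom x = (φ.hom.app (op U)).hom x := by
  show (B.presheaf.map (homOfLE le_rfl).op).hom _ = _
  exact RingHom.congr_fun (congrArg CommRingCat.Hom.hom (B.presheaf.map_id (op U))) _

theorem range_subset_pointed {Y PC : Scheme.{u}} {𝒮 𝒮h : RelProj.QCGrAlg Y} {ι : 𝒮.toQCAlg ⟶ 𝒮h.toQCAlg}
    {z : 𝒮h.presheaf.obj (op ⊤)} (hz : RelCone.IsPolyOver 𝒮 𝒮h ι z) (pC : PC ⟶ Y)
    (chartC : ∀ (U : Y.Opens) (hU : IsAffineOpen U), (((pC ⁻¹ᵁ U : PC.Opens) : Scheme.{u}) ≅ Proj (𝒮h.deg U hU)))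
    (U : Y.Opens) (hU : IsAffineOpen U) {d : ℕ} (hd : 0 < d) (f : 𝒮.presheaf.obj (op U)) (hf : f ∈ 𝒮.deg U hU d) :
    Set.range (RelProj.awayEmb (RelProj.QGrHom.ofHom ι hz.graded) pC chartC U hU U hU le_rfl hd f hf).base ⊆
      Set.range (RelCone.pointedProjCone 𝒮 hz pC chartC).ι.base := by
  rintro _ ⟨w, rfl⟩
  rw [Scheme.Opens.range_ι]
  refine Opens.mem_iSup.mpr ⟨⟨U, hU⟩, Proj.awayι _ _ (((RelProj.QGrHom.ofHom ι hz.graded).gradedAt U hU U hU le_rfl).map_mem hf) hd w, ?_, rfl⟩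
  intro hc
  refine (ProjectiveSpectrum.mem_basicOpen _ _ _).mp ((Proj.opensRange_awayι _ _ _ hd).le ⟨w, rfl⟩) (hc ⟨f, ?_, ?_⟩)
  · exact HomogeneousIdeal.mem_irrelevant_of_mem _ hd hf
  · exact (appLE_id ι U f).symm

open HomogeneousLocalization in
theorem exists_cast {B C σ τ : Type u} [CommRing B] [SetLike σ B] [AddSubgroupClass σ B] [CommRing C]
    [SetLike τ C] [AddSubgroupClass τ C] {ℬ : ℕ → σ} [GradedRing ℬ] {𝒞 : ℕ → τ} [GradedRing 𝒞]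
    (ψ : ℬ →+*ᵍ 𝒞) {d : ℕ} (hd : 0 < d) {g : B} (hg : g ∈ ℬ d) {b : C} (hb : b ∈ 𝒞 d) (e : b = ψ g) :
    ∃ (E : Spec (CommRingCat.of (Away 𝒞 b)) ⟶ Spec (CommRingCat.of (Away 𝒞 (ψ g)))) (ρ : Away ℬ g →+* Away 𝒞 b),
      E ≫ Proj.awayι 𝒞 (ψ g) (ψ.map_mem hg) hd = Proj.awayι 𝒞 b hb hd ∧
      E ≫ Spec.map (CommRingCat.ofHom (Away.map ψ g)) = Spec.map (CommRingCat.ofHom ρ) ∧
      ∀ (n : ℕ) (c : B) (hc : c ∈ ℬ (n • d)) (hc' : ψ c ∈ 𝒞 (n • d)),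
        ρ (Away.mk ℬ hg n c hc) = Away.mk 𝒞 hb n (ψ c) hc' := by
  subst e
  exact ⟨𝟙 _, Away.map ψ g, Category.id_comp _, Category.id_comp _, fun n c hc hc' => Away.map_mk _ _ _ _ _ _⟩

/-- Let q : Y' → Y be a morphism, φ : 𝒮 → q_*𝒮' a graded q-morphism of quasi-coherent positively graded
algebras with 𝒮_0 = O_Y, 𝒮'_0 = O_{Y'}, φ̂ : 𝒮[z] → q_*𝒮'[z] its extension with φ̂(z) = z, Ĉ =
Proj(𝒮[z]), Ĉ' = Proj(𝒮'[z]) the projective cones with pointed cones Ê, Ê', and Φ̂ = Proj(φ̂) :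
G(φ̂) → Ĉ; let X = Proj(𝒮), X' = Proj(𝒮'), Proj(φ) : G(φ) → X on its open of definition G(φ) ⊆ X',
and p̂ : Ê → X, p̂' : Ê' → X' the canonical retractions. Then p̂'(Φ̂⁻¹(Ê)) ⊆ G(φ) and on Φ̂⁻¹(Ê) the
composites p̂ ∘ Φ̂ and Proj(φ) ∘ p̂' agree (stated on T-valued points: a : T → Ê' and b : T → G(φ̂)
agreeing in Ĉ' with Φ̂ ∘ b = c : T → Ê). -/
theorem result {Y Y' PC PC' : Scheme.{u}} (q : Y' ⟶ Y)
    (𝒮 : RelProj.QCGrAlg Y) (𝒮' : RelProj.QCGrAlg Y') (h0 : RelCone.StrZeroBij 𝒮) (h0' : RelCone.StrZeroBij 𝒮')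
    (u : RelProj.QGrHom q 𝒮 𝒮')
    (𝒮h : RelProj.QCGrAlg Y) (ι : 𝒮.toQCAlg ⟶ 𝒮h.toQCAlg) (z : 𝒮h.presheaf.obj (op ⊤))
    (hz : RelCone.IsPolyOver 𝒮 𝒮h ι z)
    (pC : PC ⟶ Y) (chartC : ∀ (U : Y.Opens) (hU : IsAffineOpen U), (((pC ⁻¹ᵁ U : PC.Opens) : Scheme.{u}) ≅ Proj (𝒮h.deg U hU)))
    (hC : RelProj.IsRelProj 𝒮h pC chartC)
    (𝒮h' : RelProj.QCGrAlg Y') (ι' : 𝒮'.toQCAlg ⟶ 𝒮h'.toQCAlg) (z' : 𝒮h'.presheaf.obj (op ⊤))
    (hz' : RelCone.IsPolyOver 𝒮' 𝒮h' ι' z')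
    (pC' : PC' ⟶ Y') (chartC' : ∀ (U : Y'.Opens) (hU : IsAffineOpen U), (((pC' ⁻¹ᵁ U : PC'.Opens) : Scheme.{u}) ≅ Proj (𝒮h'.deg U hU)))
    (hC' : RelProj.IsRelProj 𝒮h' pC' chartC')
    (uh : RelProj.QGrHom q 𝒮h 𝒮h')
    (huh : ∀ U : Y.Opens, ι.hom.app (op U) ≫ uh.app U = u.app U ≫ ι'.hom.app (op (q ⁻¹ᵁ U)))
    (huhz : (uh.app ⊤).hom z = RelCone.restrictTop 𝒮h' z' (q ⁻¹ᵁ ⊤))
    (Φh : ((RelProj.domQ uh pC' chartC' : PC'.Opens) : Scheme.{u}) ⟶ PC)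
    (hΦh : RelProj.IsProjQMapOn uh pC chartC pC' chartC' (RelProj.domQ uh pC' chartC') Φh)
    {P P' : Scheme.{u}} (p : P ⟶ Y) (chart : ∀ (U : Y.Opens) (hU : IsAffineOpen U), (((p ⁻¹ᵁ U : P.Opens) : Scheme.{u}) ≅ Proj (𝒮.deg U hU)))
    (hP : RelProj.IsRelProj 𝒮 p chart)
    (p' : P' ⟶ Y') (chart' : ∀ (U : Y'.Opens) (hU : IsAffineOpen U), (((p' ⁻¹ᵁ U : P'.Opens) : Scheme.{u}) ≅ Proj (𝒮'.deg U hU)))
    (hP' : RelProj.IsRelProj 𝒮' p' chart')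
    (Φ : ((RelProj.domQ u p' chart' : P'.Opens) : Scheme.{u}) ⟶ P)
    (hΦ : RelProj.IsProjQMapOn u p chart p' chart' (RelProj.domQ u p' chart') Φ)
    (r : ((RelCone.pointedProjCone 𝒮 hz pC chartC : PC.Opens) : Scheme.{u}) ⟶ P)
    (hr : RelProj.IsProjQMapOn (RelProj.QGrHom.ofHom ι hz.graded) p chart pC chartC (RelCone.pointedProjCone 𝒮 hz pC chartC) r)
    (r' : ((RelCone.pointedProjCone 𝒮' hz' pC' chartC' : PC'.Opens) : Scheme.{u}) ⟶ P')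
    (hr' : RelProj.IsProjQMapOn (RelProj.QGrHom.ofHom ι' hz'.graded) p' chart' pC' chartC' (RelCone.pointedProjCone 𝒮' hz' pC' chartC') r')
    (T : Scheme.{u}) (a : T ⟶ ((RelCone.pointedProjCone 𝒮' hz' pC' chartC' : PC'.Opens) : Scheme.{u}))
    (b : T ⟶ ((RelProj.domQ uh pC' chartC' : PC'.Opens) : Scheme.{u}))
    (c : T ⟶ ((RelCone.pointedProjCone 𝒮 hz pC chartC : PC.Opens) : Scheme.{u}))
    (hab : a ≫ (RelCone.pointedProjCone 𝒮' hz' pC' chartC').ι = b ≫ (RelProj.domQ uh pC' chartC').ι) (hbc : b ≫ Φh = c ≫ (RelCone.pointedProjCone 𝒮 hz pC chartC).ι) :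
    Set.range (a ≫ r').base ⊆ ((RelProj.domQ u p' chart' : P'.Opens) : Set P') ∧
      ∀ d : T ⟶ ((RelProj.domQ u p' chart' : P'.Opens) : Scheme.{u}),
        a ≫ r' = d ≫ (RelProj.domQ u p' chart').ι → c ≫ r = d ≫ Φ := by
  have hE : ∀ (U : Y.Opens) (U' : Y'.Opens) (hle : U' ≤ q ⁻¹ᵁ U) (x : 𝒮.presheaf.obj (op U)),
      (uh.appLE U U' hle).hom (((RelProj.QGrHom.ofHom ι hz.graded).appLE U U le_rfl).hom x) =
        ((RelProj.QGrHom.ofHom ι' hz'.graded).appLE U' U' le_rfl).hom ((u.appLE U U' hle).hom x) := by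
    intro U U' hle x
    refine (congrArg _ (appLE_id ι U x)).trans (Eq.trans ?_ (appLE_id ι' U' _).symm)
    show (𝒮h'.presheaf.map (homOfLE hle).op).hom ((uh.app U).hom ((ι.hom.app (op U)).hom x)) = _
    refine (congrArg _ (ConcreteCategory.congr_hom (huh U) x)).trans ?_
    exact (ConcreteCategory.congr_hom (ι'.hom.naturality (homOfLE hle).op) ((u.app U).hom x)).symm
  let E₀ := RelCone.pointedProjCone 𝒮 hz pC chartC
  let E₁ := RelCone.pointedProjCone 𝒮' hz' pC' chartC'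
  have hchart : ∀ x : T, ∃ (W : Scheme.{u}) (k : W ⟶ ((RelProj.domQ uh pC' chartC' : PC'.Opens) : Scheme.{u})) (_ : IsOpenImmersion k)
      (ka : W ⟶ (E₁ : Scheme.{u})) (kc : W ⟶ (E₀ : Scheme.{u})) (kd : W ⟶ ((RelProj.domQ u p' chart' : P'.Opens) : Scheme.{u})),
      b.base x ∈ Set.range k.base ∧ ka ≫ E₁.ι = k ≫ (RelProj.domQ uh pC' chartC').ι ∧ kc ≫ E₀.ι = k ≫ Φh ∧
        kd ≫ (RelProj.domQ u p' chart').ι = ka ≫ r' ∧ kc ≫ r = kd ≫ Φ := by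
    intro x
    obtain ⟨⟨U, hU⟩, y, hy, hyx⟩ := Opens.mem_iSup.mp (c.base x).2
    obtain ⟨n, f, hn, hf, hfy⟩ := RelProjBasic.exists_hom_of_mem_domOpen _ hy
    let fh := (RelProj.QGrHom.ofHom ι hz.graded).gradedAt U hU U hU le_rfl f
    have hfh : fh ∈ 𝒮h.deg U hU n := ((RelProj.QGrHom.ofHom ι hz.graded).gradedAt U hU U hU le_rfl).map_mem hf
    have hy' : RelProj.emb pC chartC U hU y = Φh.base (b.base x) :=
      hyx.trans (congrArg (fun m => m.base x) hbc).symm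
    have hfy' : fh ∉ y.asHomogeneousIdeal := fun h => hfy ((appLE_id ι U f) ▸ h)
    obtain ⟨U', hU', hle, hx⟩ := RelProjBasic.exists_chart_of_apply_mem hC hC' hΦh U hU hn fh hfh (b.base x) y hy' hfy'
    have hf' : u.gradedAt U hU U' hU' hle f ∈ 𝒮'.deg U' hU' n := (u.gradedAt U hU U' hU' hle).map_mem hf
    obtain ⟨E, ρ, hE1, hE2, hρ⟩ := exists_cast ((RelProj.QGrHom.ofHom ι' hz'.graded).gradedAt U' hU' U' hU' le_rfl) hn hf'
      ((uh.gradedAt U hU U' hU' hle).map_mem hfh) (hE U U' hle f)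
    have hW1 := range_subset_pointed hz' pC' chartC' U' hU' hn _ hf'
    have hW0 := range_subset_pointed hz pC chartC U hU hn f hf
    have hWu := RelProj.range_awayEmb_subset_domQ u p' chart' U hU U' hU' hle hn f hf
    refine ⟨_, RelProjBasic.Ix.c uh pC' chartC' ⟨U, hU, U', hU', hle, n, hn, fh, hfh⟩, inferInstance,
      E ≫ IsOpenImmersion.lift E₁.ι _ hW1,
      Spec.map (CommRingCat.ofHom (HomogeneousLocalization.Away.map (uh.gradedAt U hU U' hU' hle) fh)) ≫ IsOpenImmersion.lift E₀.ι _ hW0,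
      Spec.map (CommRingCat.ofHom ρ) ≫ IsOpenImmersion.lift (RelProj.domQ u p' chart').ι _ hWu, hx, ?_, ?_, ?_, ?_⟩
    · have hc : RelProjBasic.Ix.c uh pC' chartC' ⟨U, hU, U', hU', hle, n, hn, fh, hfh⟩ ≫ (RelProj.domQ uh pC' chartC').ι =
          Proj.awayι (𝒮h'.deg U' hU') _ ((uh.gradedAt U hU U' hU' hle).map_mem hfh) hn ≫ RelProj.emb pC' chartC' U' hU' :=
        IsOpenImmersion.lift_fac _ _ _
      rw [Category.assoc, IsOpenImmersion.lift_fac]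
      refine Eq.trans ?_ hc.symm
      rw [RelProj.awayEmb, reassoc_of% hE1]
    · have hc : RelProjBasic.Ix.c uh pC' chartC' ⟨U, hU, U', hU', hle, n, hn, fh, hfh⟩ ≫ Φh =
          Spec.map (CommRingCat.ofHom (HomogeneousLocalization.Away.map (uh.gradedAt U hU U' hU' hle) fh)) ≫
            Proj.awayι (𝒮h.deg U hU) fh hfh hn ≫ RelProj.emb pC chartC U hU :=
        hΦh U hU U' hU' hle n hn fh hfh _
      rw [hc, Category.assoc, IsOpenImmersion.lift_fac]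
      rfl
    · rw [Category.assoc, Category.assoc, IsOpenImmersion.lift_fac, hr' U' hU' U' hU' le_rfl n hn _ hf' hW1,
        reassoc_of% hE2]
      rfl
    · rw [Category.assoc, Category.assoc, hr U hU U hU le_rfl n hn f hf hW0, hΦ U hU U' hU' hle n hn f hf hWu,
        ← Spec.map_comp_assoc, ← Spec.map_comp_assoc, ← CommRingCat.ofHom_comp, ← CommRingCat.ofHom_comp]
      refine congrArg (fun m => Spec.map (CommRingCat.ofHom m) ≫ _) ?_
      refine RingHom.ext fun s => ?_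
      obtain ⟨m, e, he, rfl⟩ := HomogeneousLocalization.Away.mk_surjective _ hf s
      simp only [RingHom.comp_apply, HomogeneousLocalization.Away.map_mk]
      refine Eq.trans ?_ (Eq.symm (hρ m _ ((u.gradedAt U hU U' hU' hle).map_mem he)
        (((RelProj.QGrHom.ofHom ι' hz'.graded).gradedAt U' hU' U' hU' le_rfl).map_mem ((u.gradedAt U hU U' hU' hle).map_mem he))))
      refine (HomogeneousLocalization.ext_iff_val _ _).mpr ?_
      simp only [HomogeneousLocalization.Away.val_mk]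
      congr 1
      exact hE U U' hle e
  choose W k hk ka kc kd hx hka hkc hkd hkr using hchart
  let O : T → T.Opens := fun x => b ⁻¹ᵁ (k x).opensRange
  have hcov : IsOpenCover O := IsOpenCover.mk (eq_top_iff.mpr fun y _ => Opens.mem_iSup.mpr ⟨y, hx y⟩)
  have hl : ∀ x : T, ∃ l : (O x : Scheme.{u}) ⟶ W x, (O x).ι ≫ a = l ≫ ka x ∧ (O x).ι ≫ c = l ≫ kc x := by
    intro x
    refine ⟨IsOpenImmersion.lift (k x) ((O x).ι ≫ b) (by rintro _ ⟨y, rfl⟩; exact y.2), ?_, ?_⟩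
    · rw [← cancel_mono E₁.ι, Category.assoc, Category.assoc, hka x, hab, IsOpenImmersion.lift_fac_assoc, Category.assoc]
    · rw [← cancel_mono E₀.ι, Category.assoc, Category.assoc, hkc x, ← hbc, IsOpenImmersion.lift_fac_assoc, Category.assoc]
  choose l hla hlc using hl
  refine ⟨?_, fun d hd => ?_⟩
  · rintro _ ⟨y, rfl⟩
    have h1 : (O y).ι ≫ a ≫ r' = (l y ≫ kd y) ≫ (RelProj.domQ u p' chart').ι := by
      rw [← Category.assoc, hla y, Category.assoc, Category.assoc, hkd y]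
    have h2 : (a ≫ r').base y = (RelProj.domQ u p' chart').ι ((l y ≫ kd y) ⟨y, hx y⟩) :=
      congrArg (fun m => m.base (⟨y, hx y⟩ : O y)) h1
    rw [h2]
    exact ((l y ≫ kd y) ⟨y, hx y⟩).2
  · refine (T.openCoverOfIsOpenCover _ hcov).hom_ext _ _ fun y => ?_
    show (O y).ι ≫ c ≫ r = (O y).ι ≫ d ≫ Φ
    have h3 : (O y).ι ≫ d = l y ≫ kd y := by
      rw [← cancel_mono (RelProj.domQ u p' chart').ι, Category.assoc, Category.assoc, ← hd, hkd y, reassoc_of% (hla y)]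
    rw [reassoc_of% (hlc y), hkr y, reassoc_of% h3]

end Groth.Agent.S12156
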