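import Groth.Statements.S12157
import Groth.Prelude.Def_RelProj4
import Groth.Agent.RelProjBasic.QMap
-- import your own Groth.Agent.* helpers here

set_option autoImplicit false
universe u
open CategoryTheory CategoryTheory.Limits AlgebraicGeometry TopologicalSpace Opposite
open scoped HomogeneousIdeal
noncomputable section
open EGA2

namespace Groth.Agent.S12157

open HomogeneousLocalization in
theorem exists_factor {A B σ τ C : Type u} [CommRing A] [SetLike σ A] [AddSubgroupClass σ A] [CommRing B]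
    [SetLike τ B] [AddSubgroupClass τ B] [CommRing C] {𝒜 : ℕ → σ} [GradedRing 𝒜] {ℬ : ℕ → τ} [GradedRing ℬ]
    (φ : 𝒜 →+*ᵍ ℬ) {f : A} (hf : f ∈ 𝒜 1) {g : B} (hg : g ∈ ℬ 1) (e : g = φ f) (a : Away ℬ g →+* C) (ev : B →+* C)
    (hev : ∀ (q : Away ℬ g) (x : B) (k : ℕ), q.val = Localization.mk x ⟨g ^ k, pow_mem (Submonoid.mem_powers _) k⟩ → a q = ev x) :
    ∃ θ : Away ℬ (φ f) →+* C,
      Spec.map (CommRingCat.ofHom a) ≫ Proj.awayι ℬ g hg one_pos =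
        Spec.map (CommRingCat.ofHom θ) ≫ Proj.awayι ℬ (φ f) (φ.map_mem hf) one_pos ∧
      ∀ (q : Away 𝒜 f) (x : A) (k : ℕ), q.val = Localization.mk x ⟨f ^ k, pow_mem (Submonoid.mem_powers _) k⟩ →
        θ (Away.map φ f q) = ev (φ x) := by
  subst e
  refine ⟨a, rfl, fun q x k hq => ?_⟩
  obtain ⟨m, c, hc, rfl⟩ := Away.mk_surjective 𝒜 hf q
  rw [Away.val_mk, Localization.mk_eq_mk_iff, Localization.r_iff_exists] at hq
  obtain ⟨⟨_, N, rfl⟩, hN⟩ := hq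
  refine (hev _ (φ c) m ?_).trans ?_
  · rw [Away.map_mk, Away.val_mk]
  · have h1 : ev (φ f) = 1 := by
      rw [← hev (1 : Away ℬ (φ f)) (φ f) 1 ?_, map_one]
      rw [val_one, ← Localization.mk_self (⟨φ f, Submonoid.mem_powers _⟩ : Submonoid.powers (φ f))]
      congr 1
      exact Subtype.ext (pow_one _).symm
    have h2 := congrArg (fun b => ev (φ b)) hN
    simp only [map_mul, map_pow, h1, one_pow, one_mul] at h2
    exact h2

/-- Let q : Y' → Y be a morphism, φ : 𝒮 → q_*𝒮' a graded q-morphism of quasi-coherent positively graded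
algebras with 𝒮_0 = O_Y, 𝒮'_0 = O_{Y'}, φ̂ : 𝒮[z] → q_*𝒮'[z] its extension with φ̂(z) = z, Ĉ =
Proj(𝒮[z]), Ĉ' = Proj(𝒮'[z]) the projective cones with pointed cones Ê, Ê', and Φ̂ = Proj(φ̂) :
G(φ̂) → Ĉ; let Φ = Spec(φ) : C' = Spec(𝒮') → C = Spec(𝒮) be the morphism of affine cones and i : C →
Ĉ, i' : C' → Ĉ' the canonical open immersions. Then i'(C') ⊆ G(φ̂) and the square formed by Φ, i', i
and Φ̂ commutes. -/
theorem result {Y Y' PC PC' : Scheme.{u}} (q : Y' ⟶ Y)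
    (𝒮 : RelProj.QCGrAlg Y) (𝒮' : RelProj.QCGrAlg Y') (h0 : RelCone.StrZeroBij 𝒮) (h0' : RelCone.StrZeroBij 𝒮')
    (u : RelProj.QGrHom q 𝒮 𝒮')
    (𝒮h : RelProj.QCGrAlg Y) (ι : 𝒮.toQCAlg ⟶ 𝒮h.toQCAlg) (z : 𝒮h.presheaf.obj (op ⊤))
    (hz : RelCone.IsPolyOver 𝒮 𝒮h ι z)
    (pC : PC ⟶ Y) (chartC : ∀ (U : Y.Opens) (hU : IsAffineOpen U), (((pC ⁻¹ᵁ U : PC.Opens) : Scheme.{u}) ≅ Proj (𝒮h.deg U hU)))
    (hC : RelProj.IsRelProj 𝒮h pC chartC)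
    (𝒮h' : RelProj.QCGrAlg Y') (ι' : 𝒮'.toQCAlg ⟶ 𝒮h'.toQCAlg) (z' : 𝒮h'.presheaf.obj (op ⊤))
    (hz' : RelCone.IsPolyOver 𝒮' 𝒮h' ι' z')
    (pC' : PC' ⟶ Y') (chartC' : ∀ (U : Y'.Opens) (hU : IsAffineOpen U), (((pC' ⁻¹ᵁ U : PC'.Opens) : Scheme.{u}) ≅ Proj (𝒮h'.deg U hU)))
    (hC' : RelProj.IsRelProj 𝒮h' pC' chartC')
    (uh : RelProj.QGrHom q 𝒮h 𝒮h')
    (huh : ∀ U : Y.Opens, ι.hom.app (op U) ≫ uh.app U = u.app U ≫ ι'.hom.app (op (q ⁻¹ᵁ U)))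
    (huhz : (uh.app ⊤).hom z = RelCone.restrictTop 𝒮h' z' (q ⁻¹ᵁ ⊤))
    (Φh : ((RelProj.domQ uh pC' chartC' : PC'.Opens) : Scheme.{u}) ⟶ PC)
    (hΦh : RelProj.IsProjQMapOn uh pC chartC pC' chartC' (RelProj.domQ uh pC' chartC') Φh)
    (Φc : 𝒮'.toQCAlg.spec ⟶ 𝒮.toQCAlg.spec) (hΦc : RelSpec.IsSpecQMap u.toQHom Φc)
    (i : 𝒮.toQCAlg.spec ⟶ PC) (hi : RelCone.IsConeImm 𝒮 hz pC chartC i)
    (i' : 𝒮'.toQCAlg.spec ⟶ PC') (hi' : RelCone.IsConeImm 𝒮' hz' pC' chartC' i') :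
    Set.range i'.base ⊆ ((RelProj.domQ uh pC' chartC' : PC'.Opens) : Set PC') ∧
      ∀ i'' : 𝒮'.toQCAlg.spec ⟶ ((RelProj.domQ uh pC' chartC' : PC'.Opens) : Scheme.{u}),
        i'' ≫ (RelProj.domQ uh pC' chartC').ι = i' → i'' ≫ Φh = Φc ≫ i := by
  have hz1 : ∀ (U : Y.Opens) (U' : Y'.Opens) (hle : U' ≤ q ⁻¹ᵁ U),
      (uh.appLE U U' hle).hom (RelCone.restrictTop 𝒮h z U) = RelCone.restrictTop 𝒮h' z' U' := by
    intro U U' hle
    have h1 := ConcreteCategory.congr_hom (uh.naturality (le_top : U ≤ ⊤)) z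
    show (𝒮h'.presheaf.map (homOfLE hle).op).hom ((uh.app U).hom ((𝒮h.presheaf.map (homOfLE le_top).op).hom z)) = _
    refine (congrArg _ h1.symm).trans ?_
    show (𝒮h'.presheaf.map (homOfLE hle).op).hom ((𝒮h'.presheaf.map _).hom ((uh.app ⊤).hom z)) = _
    rw [huhz]
    simp only [RelCone.restrictTop]
    rw [← CommRingCat.comp_apply, ← CommRingCat.comp_apply, ← Functor.map_comp, ← Functor.map_comp]
    rfl
  have hev : ∀ (U : Y.Opens) (hU : IsAffineOpen U) (U' : Y'.Opens) (hU' : IsAffineOpen U') (hle : U' ≤ q ⁻¹ᵁ U)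
      (x : 𝒮h.presheaf.obj (op U)), hz'.evalOne U' hU' ((uh.appLE U U' hle).hom x) =
        (u.appLE U U' hle).hom (hz.evalOne U hU x) := by
    intro U hU U' hU' hle
    suffices H : ((hz'.evalOne U' hU').comp (uh.appLE U U' hle).hom).comp (hz.polyEquiv U hU).toRingHom =
        ((u.appLE U U' hle).hom.comp (hz.evalOne U hU)).comp (hz.polyEquiv U hU).toRingHom by
      intro x
      obtain ⟨P, rfl⟩ := (hz.polyEquiv U hU).surjective x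
      exact RingHom.congr_fun H P
    refine Polynomial.ringHom_ext (fun a => ?_) ?_
    · show hz'.evalOne U' hU' ((uh.appLE U U' hle).hom (hz.polyEquiv U hU (Polynomial.C a))) =
        (u.appLE U U' hle).hom (hz.evalOne U hU (hz.polyEquiv U hU (Polynomial.C a)))
      rw [hz.polyEquiv_apply, Polynomial.eval₂_C, hz.evalOne_ι]
      have h1 : (uh.appLE U U' hle).hom ((ι.hom.app (op U)).hom a) = (ι'.hom.app (op U')).hom ((u.appLE U U' hle).hom a) := by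
        show (𝒮h'.presheaf.map (homOfLE hle).op).hom ((uh.app U).hom ((ι.hom.app (op U)).hom a)) = _
        refine (congrArg _ (ConcreteCategory.congr_hom (huh U) a)).trans ?_
        exact (ConcreteCategory.congr_hom (ι'.hom.naturality (homOfLE hle).op) ((u.app U).hom a)).symm
      rw [h1, hz'.evalOne_ι]
    · show hz'.evalOne U' hU' ((uh.appLE U U' hle).hom (hz.polyEquiv U hU Polynomial.X)) =
        (u.appLE U U' hle).hom (hz.evalOne U hU (hz.polyEquiv U hU Polynomial.X))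
      rw [hz.polyEquiv_apply, Polynomial.eval₂_X, hz1 U U' hle, hz'.evalOne_z, hz.evalOne_z, map_one]
  let J := {V : Y.affineOpens × Y'.affineOpens // V.2.1 ≤ q ⁻¹ᵁ V.1.1}
  have hmem : ∀ x : 𝒮'.toQCAlg.spec, ∃ a : J, x ∈ Set.range (𝒮'.toQCAlg.ι a.1.2.1 a.1.2.2).base := by
    intro x
    obtain ⟨U, hU, hxU, -⟩ := exists_isAffineOpen_mem_and_subset (X := Y) (x := q (𝒮'.toQCAlg.π x)) (U := ⊤) trivial
    obtain ⟨U', hU', hxU', hle⟩ := exists_isAffineOpen_mem_and_subset (X := Y') (x := 𝒮'.toQCAlg.π x) (U := q ⁻¹ᵁ U) hxU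
    exact ⟨⟨(⟨U, hU⟩, ⟨U', hU'⟩), hle⟩, (𝒮'.toQCAlg.π_preimage U' hU').le hxU'⟩
  have hf : ∀ a : J, ∃ θ : HomogeneousLocalization.Away (𝒮h'.deg a.1.2.1 a.1.2.2)
        (uh.gradedAt a.1.1.1 a.1.1.2 a.1.2.1 a.1.2.2 a.2 (RelCone.restrictTop 𝒮h z a.1.1.1)) →+* 𝒮'.presheaf.obj (op a.1.2.1),
      𝒮'.toQCAlg.ι a.1.2.1 a.1.2.2 ≫ i' = Spec.map (CommRingCat.ofHom θ) ≫
        RelProj.awayEmb uh pC' chartC' a.1.1.1 a.1.1.2 a.1.2.1 a.1.2.2 a.2 one_pos _ (hz.deg_z a.1.1.1 a.1.1.2) ∧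
      θ.comp (HomogeneousLocalization.Away.map (uh.gradedAt a.1.1.1 a.1.1.2 a.1.2.1 a.1.2.2 a.2) _) =
        (u.appLE a.1.1.1 a.1.2.1 a.2).hom.comp (hz.awayZToBase a.1.1.1 a.1.1.2) := by
    rintro ⟨⟨⟨U, hU⟩, ⟨U', hU'⟩⟩, hle⟩
    obtain ⟨θ, h1, h2⟩ := exists_factor (uh.gradedAt U hU U' hU' hle) (hz.deg_z U hU) (hz'.deg_z U' hU')
      (hz1 U U' hle).symm (hz'.awayZToBase U' hU') (hz'.evalOne U' hU') (hz'.awayZToBase_of_val U' hU')
    refine ⟨θ, ?_, RingHom.ext fun s => ?_⟩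
    · rw [hi' U' hU', RelProj.awayEmb, reassoc_of% h1]
    · obtain ⟨m, c, hc, rfl⟩ := HomogeneousLocalization.Away.mk_surjective _ (hz.deg_z U hU) s
      exact (h2 _ c m (HomogeneousLocalization.Away.val_mk _ _ _ _ _)).trans ((hev U hU U' hU' hle c).trans
        (congrArg _ (hz.awayZToBase_of_val U hU _ c m (HomogeneousLocalization.Away.val_mk _ _ _ _ _)).symm))
  refine ⟨?_, fun i'' hi'' => ?_⟩
  · rintro _ ⟨x, rfl⟩
    obtain ⟨a, w, rfl⟩ := hmem x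
    obtain ⟨θ, h1, -⟩ := hf a
    rw [← Scheme.Hom.comp_apply, h1, Scheme.Hom.comp_apply]
    obtain ⟨v, hv⟩ := RelProj.range_awayEmb_subset_domQ uh pC' chartC' a.1.1.1 a.1.1.2 a.1.2.1 a.1.2.2 a.2 one_pos _
      (hz.deg_z a.1.1.1 a.1.1.2) ⟨_, rfl⟩
    rw [← hv]
    exact v.2
  · choose idx hidx using hmem
    let 𝒰 : 𝒮'.toQCAlg.spec.OpenCover :=
      { I₀ := J
        X := fun a => Spec (𝒮'.presheaf.obj (op a.1.2.1))
        f := fun a => 𝒮'.toQCAlg.ι a.1.2.1 a.1.2.2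
        mem₀ := by
          rw [Scheme.presieve₀_mem_precoverage_iff]
          exact ⟨fun x => ⟨idx x, hidx x⟩, inferInstance⟩ }
    refine Scheme.Cover.hom_ext 𝒰 _ _ fun a => ?_
    obtain ⟨θ, h1, h2⟩ := hf a
    show 𝒮'.toQCAlg.ι a.1.2.1 a.1.2.2 ≫ i'' ≫ Φh = 𝒮'.toQCAlg.ι a.1.2.1 a.1.2.2 ≫ Φc ≫ i
    have hr := RelProj.range_awayEmb_subset_domQ uh pC' chartC' a.1.1.1 a.1.1.2 a.1.2.1 a.1.2.2 a.2 one_pos _
      (hz.deg_z a.1.1.1 a.1.1.2)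
    have h3 : 𝒮'.toQCAlg.ι a.1.2.1 a.1.2.2 ≫ i'' = Spec.map (CommRingCat.ofHom θ) ≫
        IsOpenImmersion.lift (RelProj.domQ uh pC' chartC').ι _ hr := by
      rw [← cancel_mono (RelProj.domQ uh pC' chartC').ι, Category.assoc, Category.assoc, hi'', IsOpenImmersion.lift_fac, h1]
    rw [reassoc_of% h3, hΦh _ _ _ _ _ _ one_pos _ (hz.deg_z a.1.1.1 a.1.1.2) hr,
      reassoc_of% (hΦc a.1.1.1 a.1.1.2 a.1.2.1 a.1.2.2 a.2), hi a.1.1.1 a.1.1.2, ← Spec.map_comp_assoc, ← Spec.map_comp_assoc,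
      ← CommRingCat.ofHom_comp, h2]
    rfl

end Groth.Agent.S12157
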