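import Groth.Statements.S12158
import Groth.Agent.RelProjBasic.QMap
-- import your own Groth.Agent.* helpers here

set_option autoImplicit false
universe u
open CategoryTheory CategoryTheory.Limits AlgebraicGeometry TopologicalSpace Opposite
open scoped HomogeneousIdeal
noncomputable section
open EGA2

namespace Groth.Agent.S12158

open Groth.Agent

open HomogeneousLocalization in
theorem exists_cast {B C σ τ : Type u} [CommRing B] [SetLike σ B] [AddSubgroupClass σ B] [CommRing C]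
    [SetLike τ C] [AddSubgroupClass τ C] {ℬ : ℕ → σ} [GradedRing ℬ] {𝒞 : ℕ → τ} [GradedRing 𝒞]
    (ψ : ℬ →+*ᵍ 𝒞) {d : ℕ} (hd : 0 < d) {g : B} (hg : g ∈ ℬ d) {X Z : Scheme.{u}} (em : Proj 𝒞 ⟶ X) (j : X ⟶ Z)
    (em' : Proj ℬ ⟶ Z)
    (h : Proj.awayι 𝒞 (ψ g) (ψ.map_mem hg) hd ≫ em ≫ j =
      Spec.map (CommRingCat.ofHom (Away.map ψ g)) ≫ Proj.awayι ℬ g hg hd ≫ em')
    {b : C} (hb : b ∈ 𝒞 d) (e : b = ψ g) :
    ∃ ρ : Away ℬ g →+* Away 𝒞 b,
      Proj.awayι 𝒞 b hb hd ≫ em ≫ j = Spec.map (CommRingCat.ofHom ρ) ≫ Proj.awayι ℬ g hg hd ≫ em' ∧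
      ∀ (n : ℕ) (c : B) (hc : c ∈ ℬ (n • d)) (hc' : ψ c ∈ 𝒞 (n • d)),
        ρ (Away.mk ℬ hg n c hc) = Away.mk 𝒞 hb n (ψ c) hc' := by
  subst e
  exact ⟨Away.map ψ g, h, fun n c hc hc' => Away.map_mk _ _ _ _ _ _⟩

/-- Let q : Y' → Y be a morphism, φ : 𝒮 → q_*𝒮' a graded q-morphism of quasi-coherent positively graded
algebras with 𝒮_0 = O_Y, 𝒮'_0 = O_{Y'}, φ̂ : 𝒮[z] → q_*𝒮'[z] its extension with φ̂(z) = z, Ĉ =
Proj(𝒮[z]), Ĉ' = Proj(𝒮'[z]) the projective cones with pointed cones Ê, Ê', and Φ̂ = Proj(φ̂) :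
G(φ̂) → Ĉ; let Proj(φ) : G(φ) → X = Proj(𝒮) be the morphism induced by φ on G(φ) ⊆ X' = Proj(𝒮'),
and j : X → Ĉ, j' : X' → Ĉ' the canonical closed immersions at infinity (Proj of the graded
retractions 𝒮[z] → 𝒮, 𝒮'[z] → 𝒮' killing z). Then j'(G(φ)) ⊆ G(φ̂) and the square formed by Proj(φ),
j', j and Φ̂ commutes. -/
theorem result {Y Y' PC PC' : Scheme.{u}} (q : Y' ⟶ Y)
    (𝒮 : RelProj.QCGrAlg Y) (𝒮' : RelProj.QCGrAlg Y') (h0 : RelCone.StrZeroBij 𝒮) (h0' : RelCone.StrZeroBij 𝒮')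
    (u : RelProj.QGrHom q 𝒮 𝒮')
    (𝒮h : RelProj.QCGrAlg Y) (ι : 𝒮.toQCAlg ⟶ 𝒮h.toQCAlg) (z : 𝒮h.presheaf.obj (op ⊤))
    (hz : RelCone.IsPolyOver 𝒮 𝒮h ι z)
    (pC : PC ⟶ Y) (chartC : ∀ (U : Y.Opens) (hU : IsAffineOpen U), (((pC ⁻¹ᵁ U : PC.Opens) : Scheme.{u}) ≅ Proj (𝒮h.deg U hU)))
    (hC : RelProj.IsRelProj 𝒮h pC chartC)
    (𝒮h' : RelProj.QCGrAlg Y') (ι' : 𝒮'.toQCAlg ⟶ 𝒮h'.toQCAlg) (z' : 𝒮h'.presheaf.obj (op ⊤))
    (hz' : RelCone.IsPolyOver 𝒮' 𝒮h' ι' z')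
    (pC' : PC' ⟶ Y') (chartC' : ∀ (U : Y'.Opens) (hU : IsAffineOpen U), (((pC' ⁻¹ᵁ U : PC'.Opens) : Scheme.{u}) ≅ Proj (𝒮h'.deg U hU)))
    (hC' : RelProj.IsRelProj 𝒮h' pC' chartC')
    (uh : RelProj.QGrHom q 𝒮h 𝒮h')
    (huh : ∀ U : Y.Opens, ι.hom.app (op U) ≫ uh.app U = u.app U ≫ ι'.hom.app (op (q ⁻¹ᵁ U)))
    (huhz : (uh.app ⊤).hom z = RelCone.restrictTop 𝒮h' z' (q ⁻¹ᵁ ⊤))
    (Φh : ((RelProj.domQ uh pC' chartC' : PC'.Opens) : Scheme.{u}) ⟶ PC)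
    (hΦh : RelProj.IsProjQMapOn uh pC chartC pC' chartC' (RelProj.domQ uh pC' chartC') Φh)
    {P P' : Scheme.{u}} (p : P ⟶ Y) (chart : ∀ (U : Y.Opens) (hU : IsAffineOpen U), (((p ⁻¹ᵁ U : P.Opens) : Scheme.{u}) ≅ Proj (𝒮.deg U hU)))
    (hP : RelProj.IsRelProj 𝒮 p chart)
    (p' : P' ⟶ Y') (chart' : ∀ (U : Y'.Opens) (hU : IsAffineOpen U), (((p' ⁻¹ᵁ U : P'.Opens) : Scheme.{u}) ≅ Proj (𝒮'.deg U hU)))
    (hP' : RelProj.IsRelProj 𝒮' p' chart')
    (Φ : ((RelProj.domQ u p' chart' : P'.Opens) : Scheme.{u}) ⟶ P)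
    (hΦ : RelProj.IsProjQMapOn u p chart p' chart' (RelProj.domQ u p' chart') Φ)
    (θ : 𝒮h.toQCAlg ⟶ 𝒮.toQCAlg) (hθ : RelProj.IsGradedHom θ) (hθι : ι ≫ θ = 𝟙 _)
    (hθz : (θ.hom.app (op ⊤)).hom z = 0)
    (jX : P ⟶ PC) (hjX : RelProj.IsProjQMap (RelProj.QGrHom.ofHom θ hθ) pC chartC p chart jX)
    (θ' : 𝒮h'.toQCAlg ⟶ 𝒮'.toQCAlg) (hθ' : RelProj.IsGradedHom θ') (hθι' : ι' ≫ θ' = 𝟙 _)
    (hθz' : (θ'.hom.app (op ⊤)).hom z' = 0)
    (jX' : P' ⟶ PC') (hjX' : RelProj.IsProjQMap (RelProj.QGrHom.ofHom θ' hθ') pC' chartC' p' chart' jX')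
    (T : Scheme.{u}) (d : T ⟶ ((RelProj.domQ u p' chart' : P'.Opens) : Scheme.{u}))
    (e : T ⟶ ((RelProj.domQ uh pC' chartC' : PC'.Opens) : Scheme.{u}))
    (hde : d ≫ (RelProj.domQ u p' chart').ι ≫ jX' = e ≫ (RelProj.domQ uh pC' chartC').ι) :
    jX'.base '' ((RelProj.domQ u p' chart' : P'.Opens) : Set P') ⊆ ((RelProj.domQ uh pC' chartC' : PC'.Opens) : Set PC') ∧ e ≫ Φh = d ≫ Φ ≫ jX := by
  have hret : ∀ (U : Y.Opens) (a : 𝒮.presheaf.obj (op U)), (θ.hom.app (op U)).hom ((ι.hom.app (op U)).hom a) = a :=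
    fun U a => RingHom.congr_fun (congrArg (fun f : 𝒮.toQCAlg ⟶ 𝒮.toQCAlg => (f.hom.app (op U)).hom) hθι) a
  have hret' : ∀ (U : Y'.Opens) (a : 𝒮'.presheaf.obj (op U)), (θ'.hom.app (op U)).hom ((ι'.hom.app (op U)).hom a) = a :=
    fun U a => RingHom.congr_fun (congrArg (fun f : 𝒮'.toQCAlg ⟶ 𝒮'.toQCAlg => (f.hom.app (op U)).hom) hθι') a
  -- the square of algebras
  have hE : ∀ (U : Y.Opens) (_ : IsAffineOpen U) (U' : Y'.Opens) (hle : U' ≤ q ⁻¹ᵁ U) (x : 𝒮h.presheaf.obj (op U)),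
      ((RelProj.QGrHom.ofHom θ' hθ').appLE U' U' le_rfl).hom ((uh.appLE U U' hle).hom x) =
        (u.appLE U U' hle).hom (((RelProj.QGrHom.ofHom θ hθ).appLE U U le_rfl).hom x) := by
    intro U hU U' hle
    have hid : ∀ (W : Y.Opens) (y : 𝒮h.presheaf.obj (op W)),
        ((RelProj.QGrHom.ofHom θ hθ).appLE W W le_rfl).hom y = (θ.hom.app (op W)).hom y := fun W y => by
      show (𝒮.presheaf.map (homOfLE le_rfl).op).hom _ = _
      exact RingHom.congr_fun (congrArg CommRingCat.Hom.hom (𝒮.presheaf.map_id (op W))) _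
    have hid' : ∀ (W : Y'.Opens) (y : 𝒮h'.presheaf.obj (op W)),
        ((RelProj.QGrHom.ofHom θ' hθ').appLE W W le_rfl).hom y = (θ'.hom.app (op W)).hom y := fun W y => by
      show (𝒮'.presheaf.map (homOfLE le_rfl).op).hom _ = _
      exact RingHom.congr_fun (congrArg CommRingCat.Hom.hom (𝒮'.presheaf.map_id (op W))) _
    suffices H : ((θ'.hom.app (op U')).hom.comp (uh.appLE U U' hle).hom).comp (hz.polyEquiv U hU).toRingHom =
        ((u.appLE U U' hle).hom.comp (θ.hom.app (op U)).hom).comp (hz.polyEquiv U hU).toRingHom by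
      intro x
      obtain ⟨Pl, rfl⟩ := (hz.polyEquiv U hU).surjective x
      rw [hid', hid]
      exact RingHom.congr_fun H Pl
    refine Polynomial.ringHom_ext (fun a => ?_) ?_
    · show (θ'.hom.app (op U')).hom ((uh.appLE U U' hle).hom (hz.polyEquiv U hU (Polynomial.C a))) =
        (u.appLE U U' hle).hom ((θ.hom.app (op U)).hom (hz.polyEquiv U hU (Polynomial.C a)))
      rw [hz.polyEquiv_apply, Polynomial.eval₂_C, hret]
      have h1 : (uh.appLE U U' hle).hom ((ι.hom.app (op U)).hom a) = (ι'.hom.app (op U')).hom ((u.appLE U U' hle).hom a) := by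
        show (𝒮h'.presheaf.map (homOfLE hle).op).hom ((uh.app U).hom ((ι.hom.app (op U)).hom a)) = _
        refine (congrArg _ (ConcreteCategory.congr_hom (huh U) a)).trans ?_
        exact (ConcreteCategory.congr_hom (ι'.hom.naturality (homOfLE hle).op) ((u.app U).hom a)).symm
      rw [h1, hret']
    · show (θ'.hom.app (op U')).hom ((uh.appLE U U' hle).hom (hz.polyEquiv U hU Polynomial.X)) =
        (u.appLE U U' hle).hom ((θ.hom.app (op U)).hom (hz.polyEquiv U hU Polynomial.X))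
      rw [hz.polyEquiv_apply, Polynomial.eval₂_X]
      have h1 : (uh.appLE U U' hle).hom (RelCone.restrictTop 𝒮h z U) = RelCone.restrictTop 𝒮h' z' U' := by
        have h1 := ConcreteCategory.congr_hom (uh.naturality (le_top : U ≤ ⊤)) z
        show (𝒮h'.presheaf.map (homOfLE hle).op).hom ((uh.app U).hom ((𝒮h.presheaf.map (homOfLE le_top).op).hom z)) = _
        refine (congrArg _ h1.symm).trans ?_
        show (𝒮h'.presheaf.map (homOfLE hle).op).hom ((𝒮h'.presheaf.map _).hom ((uh.app ⊤).hom z)) = _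
        rw [huhz]
        simp only [RelCone.restrictTop]
        rw [← CommRingCat.comp_apply, ← CommRingCat.comp_apply, ← Functor.map_comp, ← Functor.map_comp]
        rfl
      have h2 : (θ.hom.app (op U)).hom (RelCone.restrictTop 𝒮h z U) = 0 :=
        (ConcreteCategory.congr_hom (θ.hom.naturality (homOfLE (le_top : U ≤ ⊤)).op) z).trans
          ((congrArg (fun y => (𝒮.presheaf.map (homOfLE (le_top : U ≤ ⊤)).op).hom y) hθz).trans (map_zero _))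
      have h3 : (θ'.hom.app (op U')).hom (RelCone.restrictTop 𝒮h' z' U') = 0 :=
        (ConcreteCategory.congr_hom (θ'.hom.naturality (homOfLE (le_top : U' ≤ ⊤)).op) z').trans
          ((congrArg (fun y => (𝒮'.presheaf.map (homOfLE (le_top : U' ≤ ⊤)).op).hom y) hθz').trans (map_zero _))
      rw [h1, h2, h3, map_zero]
  let du := RelProj.domQ u p' chart'
  let dh := RelProj.domQ uh pC' chartC'
  -- the charts
  have hchart : ∀ x : (du : Scheme.{u}), ∃ (W : Scheme.{u}) (k : W ⟶ (du : Scheme.{u})) (_ : IsOpenImmersion k) (m : W ⟶ (dh : Scheme.{u})),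
      x ∈ Set.range k.base ∧ k ≫ du.ι ≫ jX' = m ≫ dh.ι ∧ m ≫ Φh = k ≫ Φ ≫ jX := by
    intro x
    obtain ⟨⟨U, hU, U', hU', hle, deg, hd, f, hf⟩, hx⟩ := RelProjBasic.exists_ix (g := q) (𝒮 := 𝒮) x
    obtain ⟨fh, hfh, rfl⟩ : ∃ fh ∈ 𝒮h.deg U hU deg,
        (RelProj.QGrHom.ofHom θ hθ).gradedAt U hU U hU le_rfl fh = f := by
      refine ⟨(ι.hom.app (op U)).hom f, hz.graded U hU deg f hf, ?_⟩
      show (𝒮.presheaf.map (homOfLE le_rfl).op).hom ((θ.hom.app (op U)).hom _) = f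
      rw [hret]
      exact RingHom.congr_fun (congrArg CommRingCat.Hom.hom (𝒮.presheaf.map_id (op U))) f
    have hg : uh.gradedAt U hU U' hU' hle fh ∈ 𝒮h'.deg U' hU' deg := (uh.gradedAt U hU U' hU' hle).map_mem hfh
    obtain ⟨ρ, hρ, hρ'⟩ := exists_cast ((RelProj.QGrHom.ofHom θ' hθ').gradedAt U' hU' U' hU' le_rfl) hd hg
      (RelProj.emb p' chart' U' hU') jX' (RelProj.emb pC' chartC' U' hU')
      (by simpa only [RelProj.awayEmb, Category.assoc] using hjX'.2 U' hU' U' hU' le_rfl deg hd _ hg)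
      ((u.gradedAt U hU U' hU' hle).map_mem hf) (hE U hU U' hle fh).symm
    have hr := RelProj.range_awayEmb_subset_domQ uh pC' chartC' U hU U' hU' hle hd fh hfh
    have hr0 := RelProj.range_awayEmb_subset_domQ u p' chart' U hU U' hU' hle hd _ hf
    refine ⟨_, RelProjBasic.Ix.c u p' chart' ⟨U, hU, U', hU', hle, deg, hd, _, hf⟩, inferInstance,
      Spec.map (CommRingCat.ofHom ρ) ≫ IsOpenImmersion.lift dh.ι (RelProj.awayEmb uh pC' chartC' U hU U' hU' hle hd fh hfh) hr,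
      hx, ?_, ?_⟩
    · have hc : RelProjBasic.Ix.c u p' chart' ⟨U, hU, U', hU', hle, deg, hd, _, hf⟩ ≫ (RelProj.domQ u p' chart').ι =
          Proj.awayι (𝒮'.deg U' hU') _ ((u.gradedAt U hU U' hU' hle).map_mem hf) hd ≫ RelProj.emb p' chart' U' hU' :=
        IsOpenImmersion.lift_fac _ _ _
      rw [← Category.assoc]
      refine (congrArg (fun r => r ≫ jX') hc).trans ?_
      refine (Category.assoc _ _ _).trans (hρ.trans ?_)
      rw [Category.assoc, IsOpenImmersion.lift_fac]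
      rfl
    · rw [Category.assoc, hΦh U hU U' hU' hle deg hd fh hfh hr]
      have h4 : RelProjBasic.Ix.c u p' chart' ⟨U, hU, U', hU', hle, deg, hd, _, hf⟩ ≫ Φ = _ :=
        hΦ U hU U' hU' hle deg hd _ hf hr0
      rw [reassoc_of% h4]
      have h5 := hjX.2 U hU U hU le_rfl deg hd fh hfh
      simp only [RelProj.awayEmb, Category.assoc] at h5
      rw [h5, ← Spec.map_comp_assoc, ← Spec.map_comp_assoc, ← CommRingCat.ofHom_comp, ← CommRingCat.ofHom_comp]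
      refine congrArg (fun r => Spec.map (CommRingCat.ofHom r) ≫ _) ?_
      refine RingHom.ext fun s => ?_
      obtain ⟨m, c, hc, rfl⟩ := HomogeneousLocalization.Away.mk_surjective _ hfh s
      simp only [RingHom.comp_apply, HomogeneousLocalization.Away.map_mk]
      refine (hρ' m _ ((uh.gradedAt U hU U' hU' hle).map_mem hc)
        (((RelProj.QGrHom.ofHom θ' hθ').gradedAt U' hU' U' hU' le_rfl).map_mem ((uh.gradedAt U hU U' hU' hle).map_mem hc))).trans ?_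
      refine (HomogeneousLocalization.ext_iff_val _ _).mpr ?_
      simp only [HomogeneousLocalization.Away.val_mk]
      congr 1
      exact hE U hU U' hle c
  choose W k hk m hx hkm hmk using hchart
  refine ⟨?_, ?_⟩
  · rintro _ ⟨x, hxm, rfl⟩
    obtain ⟨w, hw⟩ := hx ⟨x, hxm⟩
    have h1 := congrArg (fun r => r.base w) (hkm ⟨x, hxm⟩)
    simp only [Scheme.Hom.comp_apply, hw] at h1
    have h2 : jX'.base x = dh.ι (m ⟨x, hxm⟩ w) := h1
    rw [h2]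
    exact (m ⟨x, hxm⟩ w).2
  · have hcov : IsOpenCover fun x : T => d ⁻¹ᵁ (k (d x)).opensRange := by
      refine IsOpenCover.mk (eq_top_iff.mpr fun y _ => Opens.mem_iSup.mpr ⟨y, hx (d y)⟩)
    refine (T.openCoverOfIsOpenCover _ hcov).hom_ext _ _ fun x => ?_
    let O := d ⁻¹ᵁ (k (d x)).opensRange
    let l : (O : Scheme.{u}) ⟶ W (d x) := IsOpenImmersion.lift (k (d x)) (O.ι ≫ d) (by
      rintro _ ⟨y, rfl⟩
      exact y.2)
    have hl : l ≫ k (d x) = O.ι ≫ d := IsOpenImmersion.lift_fac _ _ _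
    have he : O.ι ≫ e = l ≫ m (d x) := by
      rw [← cancel_mono dh.ι, Category.assoc, Category.assoc, ← hkm (d x), ← hde, reassoc_of% hl]
    show O.ι ≫ e ≫ Φh = O.ι ≫ d ≫ Φ ≫ jX
    rw [reassoc_of% he, hmk (d x), reassoc_of% hl]

end Groth.Agent.S12158
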