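import Groth.Statements.S12159
import Groth.Agent.SymAlgExist.NonVanish

set_option autoImplicit false
universe u
open CategoryTheory CategoryTheory.Limits AlgebraicGeometry TopologicalSpace Opposite
open scoped HomogeneousIdeal
noncomputable section
open EGA2

namespace Groth.Agent.S12159

/-- Let Y be a quasi-compact scheme, q : X → Y a quasi-compact morphism, L an invertible O_X-module with
𝒮L = ⊕ L^{⊗n} (whose Proj is X), 𝒮 = colim 𝒮^i a filtered colimit of quasi-coherent positively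
graded O_Y-algebras along graded homomorphisms φ_i : 𝒮^i → 𝒮 (colimit taken on sections over affine
opens), ψ♭ = u : 𝒮 → q_*𝒮L a graded q-morphism and ψ_i♭ = u ∘ φ_i. Then r_{L,ψ} is everywhere
defined if and only if some r_{L,ψ_i} is everywhere defined, and in that case r_{L,ψ_j} is
everywhere defined for all j ≥ i. -/
theorem result {Y X P PL : Scheme.{u}} (q : X ⟶ Y)
    (L : X.Modules) (hL : PicF.IsInvertible L) (hLq : Coh.IsQCoh L)
    (𝒮 : RelProj.QCGrAlg Y) (𝒮L : RelProj.QCGrAlg X) (j : L ⟶ 𝒮L.toModule) (hj : RelProj.IsGrSymAlg L 𝒮L j)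
    (u : RelProj.QGrHom q 𝒮 𝒮L)
    (p : P ⟶ Y) (chart : ∀ (U : Y.Opens) (hU : IsAffineOpen U), (((p ⁻¹ᵁ U : P.Opens) : Scheme.{u}) ≅ Proj (𝒮.deg U hU)))
    (hP : RelProj.IsRelProj 𝒮 p chart)
    (pL : PL ⟶ X) (chartL : ∀ (U : X.Opens) (hU : IsAffineOpen U), (((pL ⁻¹ᵁ U : PL.Opens) : Scheme.{u}) ≅ Proj (𝒮L.deg U hU)))
    (hPL : RelProj.IsRelProj 𝒮L pL chartL)
    [CompactSpace Y] [QuasiCompact q]
    (Λ : Type u) [Preorder Λ] [IsDirected Λ (· ≤ ·)] [Nonempty Λ]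
    (𝒮i : Λ → RelProj.QCGrAlg Y) (φ : ∀ i, (𝒮i i).toQCAlg ⟶ 𝒮.toQCAlg) (hφ : ∀ i, RelProj.IsGradedHom (φ i))
    (t : ∀ i j, i ≤ j → ((𝒮i i).toQCAlg ⟶ (𝒮i j).toQCAlg)) (ht : ∀ i j (h : i ≤ j), RelProj.IsGradedHom (t i j h))
    (hφt : ∀ i j (h : i ≤ j), t i j h ≫ φ j = φ i)
    (hsurj : ∀ (U : Y.Opens), IsAffineOpen U → ∀ x : 𝒮.presheaf.obj (op U),
      ∃ (i : Λ) (y : (𝒮i i).presheaf.obj (op U)), ((φ i).hom.app (op U)).hom y = x)
    (hker : ∀ (U : Y.Opens), IsAffineOpen U → ∀ (i : Λ) (y : (𝒮i i).presheaf.obj (op U)),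
      ((φ i).hom.app (op U)).hom y = 0 → ∃ (j : Λ) (h : i ≤ j), ((t i j h).hom.app (op U)).hom y = 0)
    (ui : ∀ i, RelProj.QGrHom q (𝒮i i) 𝒮L) (hui : ∀ i (U : Y.Opens), (ui i).app U = (φ i).hom.app (op U) ≫ u.app U) :
    (RelProj.domQ u pL chartL = ⊤ ↔ ∃ i, RelProj.domQ (ui i) pL chartL = ⊤) ∧
      ∀ i, RelProj.domQ (ui i) pL chartL = ⊤ → ∀ j, i ≤ j → RelProj.domQ (ui j) pL chartL = ⊤ := by
  have : L.IsQuasicoherent := hLq
  classical
  have hmono : ∀ i k, i ≤ k → RelProj.domQ (ui i) pL chartL ≤ RelProj.domQ (ui k) pL chartL := fun i k h =>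
    Groth.Agent.RelProjBasic.domQ_comp_le (ht i k h) fun U => by
      rw [hui, hui, ← Category.assoc, ← NatTrans.comp_app, ← RelSpec.QCAlg.comp_hom, hφt]
  refine ⟨⟨fun htop => ?_, ?_⟩, fun i hi k h => top_le_iff.mp (hi ▸ hmono i k h)⟩
  · have := Groth.Agent.SymAlgExist.isIso_pL hL hj hPL
    have := QuasiCompact.compactSpace_of_compactSpace q
    have : CompactSpace PL := pL.homeomorph.symm.compactSpace
    obtain ⟨i, hi⟩ := isCompact_univ.elim_directed_cover (fun i => (RelProj.domQ (ui i) pL chartL : Set PL))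
      (fun i => (RelProj.domQ (ui i) pL chartL).isOpen) (fun z _ => by
        obtain ⟨ix, hix⟩ := Groth.Agent.RelProjBasic.exists_ix (g := q) (𝒮 := 𝒮) (u := u)
          (⟨z, htop.ge trivial⟩ : (RelProj.domQ u pL chartL : Scheme.{u}))
        obtain ⟨y, hy, hfy⟩ := (Groth.Agent.RelProjBasic.Ix.mem_range_c ix _).mp hix
        obtain ⟨i, g, hg⟩ := hsurj ix.U ix.hU ix.f
        let g' : (𝒮i i).presheaf.obj (op ix.U) := DirectSum.decompose ((𝒮i i).deg ix.U ix.hU) g ix.d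
        have hg' : RelProj.gradedHomAt (φ i) (hφ i) ix.U ix.hU g' = ix.f := by
          refine (GradedRingHom.map_directSumDecompose _ _ _).trans ?_
          show ((DirectSum.decompose (𝒮.deg ix.U ix.hU) ((φ i).hom.app (op ix.U) g) ix.d) : 𝒮.presheaf.obj (op ix.U)) = _
          exact (congrArg (fun x => ((DirectSum.decompose (𝒮.deg ix.U ix.hU) x ix.d) : 𝒮.presheaf.obj (op ix.U))) hg).trans
            (DirectSum.decompose_of_mem_same _ ix.hf)
        refine Set.mem_iUnion.mpr ⟨i, Opens.mem_iSup.mpr ⟨⟨(⟨ix.U, ix.hU⟩, ⟨ix.U', ix.hU'⟩), ix.hle⟩, y, ?_, hy⟩⟩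
        refine Groth.Agent.RelProjBasic.mem_domOpen_of _ ix.hd (SetLike.coe_mem _ : g' ∈ _) ?_
        rw [Groth.Agent.RelProjBasic.gradedAt_comp (hv := hφ i) (hui i) ix.U ix.hU ix.U' ix.hU' ix.hle, hg']
        exact hfy)
      (fun i k => (directed_of (· ≤ ·) i k).imp fun m h => ⟨hmono i m h.1, hmono k m h.2⟩)
    exact ⟨i, top_le_iff.mp fun z _ => hi (Set.mem_univ z)⟩
  · rintro ⟨i, hi⟩
    exact top_le_iff.mp (hi ▸ Groth.Agent.RelProjBasic.domQ_comp_le (hφ i) (hui i))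


end Groth.Agent.S12159
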