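import Groth.Statements.S12163
import Groth.Agent.RelProjBasic.QMap

set_option autoImplicit false
set_option linter.style.haveILetI false
set_option backward.isDefEq.respectTransparency false
universe u
open CategoryTheory CategoryTheory.Limits AlgebraicGeometry TopologicalSpace Opposite
open scoped HomogeneousIdeal
noncomputable section
open EGA2 Groth.Agent

namespace Groth.Agent.S12163

/-- Let φ : 𝒜 → ℬ be a graded homomorphism of quasi-coherent positively graded O_Y-algebras and PB =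
Proj(ℬ) with its charts. If every point of Y has an affine neighbourhood U over which the irrelevant
ideal of ℬ(U) is contained in the ideal generated by φ(𝒜(U)_+), then the open of definition G(φ) of
Proj(φ) is all of PB. (The published condition asks 𝒮_+ to be generated by the image as a module
over the functions on U; generation as an ideal, used here, is implied by it.) -/
theorem result {Y PB : Scheme.{u}} (𝒜 ℬ : RelProj.QCGrAlg Y)
    (φ : 𝒜.toQCAlg ⟶ ℬ.toQCAlg) (hφ : RelProj.IsGradedHom φ)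
    (pB : PB ⟶ Y) (chartB : ∀ (U : Y.Opens) (hU : IsAffineOpen U), (((pB ⁻¹ᵁ U : PB.Opens) : Scheme.{u}) ≅ Proj (ℬ.deg U hU)))
    (hB : RelProj.IsRelProj ℬ pB chartB)
    (hcov : ∀ y : Y, ∃ (U : Y.Opens) (hU : IsAffineOpen U), y ∈ U ∧
      (ℬ.deg U hU)₊ ≤ ((𝒜.deg U hU)₊).map (RelProj.gradedHomAt φ hφ U hU)) :
    RelProj.domQ (RelProj.QGrHom.ofHom φ hφ) pB chartB = ⊤ := by
  refine eq_top_iff.mpr fun x _ => ?_
  obtain ⟨U, hU, hyU, hle⟩ := hcov (pB.base x)
  obtain ⟨y, rfl⟩ := RelProjBasic.exists_emb_eq (chart := chartB) U hU x hyU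
  have hUU : U ≤ (𝟙 Y : Y ⟶ Y) ⁻¹ᵁ U := le_refl U
  refine Opens.mem_iSup.mpr ⟨⟨(⟨U, hU⟩, ⟨U, hU⟩), hUU⟩, y, ?_, rfl⟩
  show y ∈ RelCone.domOpen _
  rw [RelCone.mem_domOpen]
  by_contra hy
  push Not at hy
  refine y.not_irrelevant_le (hle.trans ?_)
  show Ideal.map _ _ ≤ (y.asHomogeneousIdeal.toIdeal)
  refine Ideal.map_le_iff_le_comap.mpr fun f hf => ?_
  have h1 := hy f hf
  show (φ.hom.app (op U)).hom f ∈ y.asHomogeneousIdeal
  rw [RelProj.QGrHom.gradedAt_apply] at h1
  simp [RelSpec.QHom.appLE, RelProj.QGrHom.ofHom] at h1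
  erw [CategoryTheory.Functor.map_id] at h1
  exact h1
end Groth.Agent.S12163
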