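import Groth.Statements.S12164
import Groth.Agent.SymAlgExist.Spec
import Groth.Agent.ConormalSection.TestHom
import Groth.Agent.QCohLib.Pullback
import Groth.Agent.S12142

set_option autoImplicit false
universe u
open CategoryTheory CategoryTheory.Limits AlgebraicGeometry TopologicalSpace Opposite
open scoped HomogeneousIdeal
noncomputable section
open EGA2

namespace Groth.Agent.S12164

/-- Let g : S' → S be a morphism, E a quasi-coherent O_S-module, A = Sym(E) and B = Sym(g^*E) the
symmetric algebras (given by their universal properties among quasi-coherent algebras, with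
structure maps j : E → A and j' : g^*E → B), u : A → g_*B the g-morphism of algebras extending the
adjunction unit E → g_*g^*E followed by g_*(j'), and h = Spec(u) : V(g^*E) = Spec(B) → V(E) =
Spec(A). Then h identifies V(g^*E) with the base change V(E) ×_S S'. -/
theorem result {S S' : Scheme.{u}} (g : S' ⟶ S)
    (E : S.Modules) (hE : Coh.IsQCoh E) (A : RelSpec.QCAlg S) (j : E ⟶ A.toModule) (hA : RelSpec.IsSymAlg E A j)
    (B : RelSpec.QCAlg S') (j' : (Scheme.Modules.pullback g).obj E ⟶ B.toModule)
    (hB : RelSpec.IsSymAlg ((Scheme.Modules.pullback g).obj E) B j')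
    (u : RelSpec.QHom g A B)
    (hu : ∀ (U : S.Opens) (x : Γ(E, U)),
      (u.app U).hom ((j.app U) x) =
        (j'.app (g ⁻¹ᵁ U)) (((Scheme.Modules.pullbackPushforwardAdjunction g).unit.app E).app U x))
    (h : B.spec ⟶ A.spec) (hh : RelSpec.IsSpecQMap u h) :
    IsPullback h B.π A.π g := by
  have : E.IsQuasicoherent := hE
  have : ((Scheme.Modules.pullback g).obj E).IsQuasicoherent := Groth.Agent.QCohLib.isQuasicoherent_pullback g E
  refine Groth.Agent.S12142.result g A B u (fun U hU U' hU' hle => ?_) h hh
  let pr : Γ(E, U) → Γ((Scheme.Modules.pullback g).obj E, U') := Groth.Agent.ConormalSection.pullRes g E hle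
  have hspan := Groth.Agent.ConormalSection.span_pullRes g E hU hU' hle
  have hgen : ∀ m, (u.appLE U U' hle).hom (j.app U m) = j'.app U' (pr m) := by
    intro m
    show B.presheaf.map (homOfLE hle).op ((u.app U).hom (j.app U m)) = _
    rw [hu U m]
    exact (CategoryTheory.congr_fun ((Scheme.Modules.Hom.mapPresheaf j').naturality (homOfLE hle).op) _).symm
  have hext : ∀ {R : CommRingCat.{u}} (k k' : B.presheaf.obj (op U') ⟶ R),
      B.str.app (op U') ≫ k = B.str.app (op U') ≫ k' → u.appLE U U' hle ≫ k = u.appLE U U' hle ≫ k' → k = k' := by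
    intro R k k' h1 h2
    ext x
    refine Groth.Agent.SymAlgExist.sym_induction hB hU' (P := fun x => k.hom x = k'.hom x)
      (fun a => CategoryTheory.congr_fun h1 a) (fun m => ?_)
      (fun x y hx hy => by rw [map_add, map_add, hx, hy]) (fun x y hx hy => by rw [map_mul, map_mul, hx, hy]) x
    have hm : m ∈ Submodule.span Γ(S', U') (Set.range pr) := hspan ▸ Submodule.mem_top
    induction hm using Submodule.span_induction with
    | mem m hm =>
      obtain ⟨m, rfl⟩ := hm
      rw [← hgen]
      exact CategoryTheory.congr_fun h2 (j.app U m)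
    | zero => exact (congrArg k.hom (map_zero (j'.app U').hom)).trans ((map_zero k.hom).trans ((map_zero k'.hom).symm.trans (congrArg k'.hom (map_zero (j'.app U').hom).symm)))
    | add a b _ _ ha hb =>
      refine (congrArg k.hom (map_add (j'.app U').hom a b)).trans (Eq.trans ?_ (congrArg k'.hom (map_add (j'.app U').hom a b).symm))
      exact (map_add k.hom _ _).trans ((congrArg₂ (· + ·) ha hb).trans (map_add k'.hom _ _).symm)
    | smul r a _ ha =>
      refine (congrArg k.hom (Scheme.Modules.Hom.app_smul j' r a)).trans (Eq.trans ?_ (congrArg k'.hom (Scheme.Modules.Hom.app_smul j' r a).symm))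
      exact (map_mul k.hom ((B.str.app (op U')).hom r) _).trans ((congrArg₂ (· * ·) (CategoryTheory.congr_fun h1 r) ha).trans (map_mul k'.hom _ _).symm)
  have hdesc : ∀ {R : CommRingCat.{u}} (f₂ : Γ(S', U') ⟶ R) (f₁ : A.presheaf.obj (op U) ⟶ R),
      g.appLE U U' hle ≫ f₂ = A.str.app (op U) ≫ f₁ →
      ∃ k : B.presheaf.obj (op U') ⟶ R, B.str.app (op U') ≫ k = f₂ ∧ u.appLE U U' hle ≫ k = f₁ := by
    intro R f₂ f₁ w
    obtain ⟨e, he, he0, he1⟩ := Groth.Agent.SymAlgExist.exists_affHom hB U' hU'
    let _ : Algebra Γ(S', U') R := f₂.hom.toAlgebra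
    let l : Γ(E, U) →+ R := AddMonoidHom.mk' (fun m => f₁.hom (j.app U m))
      (fun a b => (congrArg f₁.hom (map_add (j.app U).hom a b)).trans (map_add f₁.hom _ _))
    have hl : ∀ b m, l (b • m) = g.appLE U U' hle b • l m := fun b m => by
      refine (congrArg f₁.hom (Scheme.Modules.Hom.app_smul j b m)).trans ((map_mul f₁.hom ((A.str.app (op U)).hom b) _).trans ?_)
      exact congrArg (· * l m) (CategoryTheory.congr_fun w b).symm
    obtain ⟨N, ψ, r, hrinj, hrsmul, hradd, hψ⟩ :=
      Groth.Agent.ConormalSection.exists_testHom g E hU hU' hle (ModuleCat.of Γ(S', U') R) l hl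
    have hr0 : r 0 = 0 := by
      have h' := hrsmul 0 0
      rwa [zero_smul, zero_smul] at h'
    have hex : ∀ m, ∃ t, r t = ψ.app U' m := by
      intro m
      have hm : m ∈ Submodule.span Γ(S', U') (Set.range pr) := hspan ▸ Submodule.mem_top
      induction hm using Submodule.span_induction with
      | mem m hm => obtain ⟨m, rfl⟩ := hm; exact ⟨l m, (hψ m).symm⟩
      | zero => exact ⟨0, hr0.trans (map_zero (ψ.app U').hom).symm⟩
      | add a b _ _ ha hb =>
        obtain ⟨s, hs⟩ := ha; obtain ⟨t, ht⟩ := hb
        exact ⟨s + t, (hradd s t).trans ((congrArg₂ (· + ·) hs ht).trans (map_add (ψ.app U').hom a b).symm)⟩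
      | smul c a _ ha =>
        obtain ⟨t, ht⟩ := ha
        exact ⟨c • t, (hrsmul c t).trans ((congrArg (c • ·) ht).trans (Scheme.Modules.Hom.app_smul ψ c a).symm)⟩
    choose μ hμ using hex
    let μ' : Γ((Scheme.Modules.pullback g).obj E, U') →ₗ[Γ(S', U')] R :=
      { toFun := fun m => (μ m : R)
        map_add' := fun a b => hrinj (by
          rw [hμ, map_add]
          exact ((congrArg₂ (· + ·) (hμ a) (hμ b)).symm.trans (hradd _ _).symm))
        map_smul' := fun c a => hrinj (by
          rw [hμ, Scheme.Modules.Hom.app_smul]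
          exact ((congrArg (c • ·) (hμ a)).symm.trans (hrsmul c _).symm)) }
    refine ⟨CommRingCat.ofHom ((SymmetricAlgebra.lift μ').toRingHom.comp e), ?_, ?_⟩
    · ext a
      show SymmetricAlgebra.lift μ' (e ((B.str.app (op U')).hom a)) = _
      rw [he0, AlgHom.commutes]
      rfl
    · ext x
      refine Groth.Agent.SymAlgExist.sym_induction hA hU
        (P := fun x => SymmetricAlgebra.lift μ' (e ((u.appLE U U' hle).hom x)) = f₁.hom x) (fun a => ?_) (fun m => ?_)
        (fun x y hx hy => by simp only [map_add, hx, hy]) (fun x y hx hy => by simp only [map_mul, hx, hy]) x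
      · refine (congrArg (fun z => SymmetricAlgebra.lift μ' (e z)) (CategoryTheory.congr_fun (u.str_appLE U U' hle) a)).trans ?_
        refine (congrArg (SymmetricAlgebra.lift μ') (he0 _)).trans ?_
        rw [AlgHom.commutes]
        exact CategoryTheory.congr_fun w a
      · rw [hgen, he1, SymmetricAlgebra.lift_ι_apply]
        exact hrinj ((hμ _).trans (hψ m))
  exact IsPushout.of_isColimit' ⟨(u.str_appLE U U' hle).symm⟩ (PushoutCocone.IsColimit.mk _
    (fun s => (hdesc s.inl s.inr s.condition).choose) (fun s => (hdesc s.inl s.inr s.condition).choose_spec.1)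
    (fun s => (hdesc s.inl s.inr s.condition).choose_spec.2) fun s m h1 h2 =>
      hext _ _ (h1.trans (hdesc s.inl s.inr s.condition).choose_spec.1.symm)
        (h2.trans (hdesc s.inl s.inr s.condition).choose_spec.2.symm))


end Groth.Agent.S12164
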