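import Groth.Statements.S12205
import Groth.Agent.ProjDim.Tor
import Groth.Agent.MLMod.NilFlat
import Mathlib

set_option autoImplicit false
universe u
open CategoryTheory
open scoped TensorProduct
open CAlg

namespace Groth.Agent.S12205

open CategoryTheory Limits

/-- Converse of `ProjDim.isZero_tor_succ_of_syz` in degree one. -/
theorem t1_of_isZero {A : Type u} [CommRing A] (M N : ModuleCat.{u} A)
    (h : IsZero (((CategoryTheory.Tor (ModuleCat.{u} A) 1).obj M).obj N)) : ProjDim.T1 (A := A) M N := by
  intro F _ _ _ g hg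
  let P := projectiveResolution N
  let π : P.complex.X 0 →ₗ[A] N := (P.π.f 0).hom
  haveI : Module.Projective A (P.complex.X 0) := (IsProjective.iff_projective _).2 (P.projective 0)
  have hπ : Function.Surjective π := (ModuleCat.epi_iff_surjective _).1 inferInstance
  refine (ProjDim.snake g π hg hπ).2 ?_
  let c : P.complex.X 1 →ₗ[A] LinearMap.ker π :=
    (P.complex.d 1 0).hom.codRestrict _ fun x => ConcreteCategory.congr_hom P.complex_d_comp_π_f_zero x
  have hc : Function.Surjective c := fun ⟨y, hy⟩ => by
    obtain ⟨x, hx⟩ := ((ShortComplex.ShortExact.moduleCat_exact_iff_function_exact _).1 P.exact₀ y).1 hy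
    exact ⟨x, Subtype.ext hx⟩
  have h1 := h.of_iso (DRingPC.torIso M P 1).symm
  rw [← HomologicalComplex.exactAt_iff_isZero_homology, HomologicalComplex.exactAt_iff' _ 2 1 0 (by simp) (by simp),
    ShortComplex.ShortExact.moduleCat_exact_iff_function_exact] at h1
  replace h1 : Function.Exact ((P.complex.d 2 1).hom.lTensor M) ((P.complex.d 1 0).hom.lTensor M) := h1
  refine (injective_iff_map_eq_zero _).mpr fun z hz => ?_
  obtain ⟨w, rfl⟩ := LinearMap.lTensor_surjective M hc z
  rw [← LinearMap.lTensor_comp_apply] at hz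
  obtain ⟨v, rfl⟩ := (h1 w).mp hz
  rw [← LinearMap.lTensor_comp_apply]
  have h2 : c ∘ₗ (P.complex.d 2 1).hom = 0 := LinearMap.ext fun x => Subtype.ext
    (ConcreteCategory.congr_hom (P.complex.d_comp_d 2 1 0) x)
  rw [h2, LinearMap.lTensor_zero, LinearMap.zero_apply]

/-- Let I be an ideal of a commutative ring R and M an R-module such that M/IM is flat over R/I and
Tor_1^R(R/I, M) = 0. Then Tor_1^R(N, M) = 0 for every R-module N annihilated by I^m for some m ≥ 0.
Here Tor_1^R(N, M) is the first left derived functor of N ⊗_R − evaluated at M. -/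
theorem result (R : Type u) [CommRing R] (I : Ideal R) (M : Type u)
    [AddCommGroup M] [Module R M] [Module.Flat (R ⧸ I) ((R ⧸ I) ⊗[R] M)]
    (h : Limits.IsZero (((CategoryTheory.Tor (ModuleCat.{u} R) 1).obj (ModuleCat.of R (R ⧸ I))).obj (ModuleCat.of R M)))
    (N : Type u) [AddCommGroup N] [Module R N] (m : ℕ) (hN : ∀ a : R, a ∈ I ^ m → ∀ x : N, a • x = 0) :
    Limits.IsZero (((CategoryTheory.Tor (ModuleCat.{u} R) 1).obj (ModuleCat.of R N)).obj (ModuleCat.of R M)) := by
  have htor : Function.Injective (I.subtype.rTensor M) := by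
    have h1 : Function.Injective ((LinearMap.ker (Submodule.mkQ I)).subtype.rTensor M) :=
      t1_of_isZero _ _ h R (Submodule.mkQ I) (Submodule.mkQ_surjective I)
    let e := LinearEquiv.ofEq _ _ (Submodule.ker_mkQ I).symm
    rw [show I.subtype = (LinearMap.ker (Submodule.mkQ I)).subtype ∘ₗ e.toLinearMap from rfl, LinearMap.rTensor_comp,
      LinearMap.coe_comp]
    exact h1.comp (LinearEquiv.rTensor M e).injective
  refine ProjDim.isZero_tor_succ_of_syz _ 0 _ fun X hX => ?_
  cases hX
  intro F _ _ _ g hg
  exact MLMod.torZero_of_killed_pow (M := M) I htor m N hN _ F (LinearMap.ker g).subtype g Subtype.val_injective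
    (LinearMap.exact_subtype_ker_map g) hg

end Groth.Agent.S12205
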