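import Groth.Statements.S12206
import Mathlib
-- import your own Groth.Agent.* helpers here

set_option autoImplicit false
universe u
open CAlg

namespace Groth.Agent.S12206

/-- Let φ : N → M be a linear map from a finite R-module N to a coherent R-module M, where coherent
means finitely generated with every finitely generated submodule finitely presented. Then the kernel
of φ is finitely generated, and the image of φ and the cokernel M/φ(N) are coherent. -/
theorem result (R : Type u) [CommRing R] {N M : Type u}
    [AddCommGroup N] [Module R N] [AddCommGroup M] [Module R M] [Module.Finite R N]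
    (hM : Module.Finite R M ∧ ∀ P : Submodule R M, P.FG → Module.FinitePresentation R P)
    (φ : N →ₗ[R] M) :
    (LinearMap.ker φ).FG ∧
    (Module.Finite R (LinearMap.range φ) ∧
      ∀ P : Submodule R (LinearMap.range φ), P.FG → Module.FinitePresentation R P) ∧
    (Module.Finite R (M ⧸ LinearMap.range φ) ∧
      ∀ P : Submodule R (M ⧸ LinearMap.range φ), P.FG → Module.FinitePresentation R P) := by
  obtain ⟨hMf, hP⟩ := hM
  have hrfg : (LinearMap.range φ).FG := by
    rw [← Submodule.map_top]
    exact Module.Finite.fg_top.map φ
  haveI := hP _ hrfg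
  refine ⟨?_, ⟨Module.Finite.iff_fg.mpr hrfg, fun P hPfg => ?_⟩, inferInstance, fun P hPfg => ?_⟩
  · rw [← LinearMap.ker_rangeRestrict]
    exact Module.FinitePresentation.fg_ker _ φ.surjective_rangeRestrict
  · haveI := hP _ (hPfg.map (LinearMap.range φ).subtype)
    exact .of_equiv (Submodule.equivMapOfInjective _ (LinearMap.range φ).injective_subtype P).symm
  · let Q := P.comap (LinearMap.range φ).mkQ
    have hQ : Q.FG := by
      refine Submodule.fg_of_fg_map_of_fg_inf_ker (LinearMap.range φ).mkQ ?_ ?_
      · rwa [Submodule.map_comap_eq_of_surjective (Submodule.mkQ_surjective _)]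
      · rw [Submodule.ker_mkQ, inf_eq_right.mpr (Submodule.le_comap_mkQ _ _)]
        exact hrfg
    haveI := hP Q hQ
    let g : Q →ₗ[R] P := ((LinearMap.range φ).mkQ.comp Q.subtype).codRestrict P fun x => x.2
    have hg : Function.Surjective g := fun y => by
      obtain ⟨x, hx⟩ := Submodule.mkQ_surjective _ (y : M ⧸ LinearMap.range φ)
      exact ⟨⟨x, show _ ∈ P by rw [hx]; exact y.2⟩, Subtype.ext hx⟩
    refine Module.finitePresentation_of_surjective g hg ?_
    have hk : (LinearMap.ker g).map Q.subtype = LinearMap.range φ := by
      ext x
      constructor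
      · rintro ⟨y, hy, rfl⟩
        exact (Submodule.Quotient.mk_eq_zero _).mp (congrArg Subtype.val hy)
      · intro hx
        have h0 : (LinearMap.range φ).mkQ x = 0 := (Submodule.Quotient.mk_eq_zero _).mpr hx
        exact ⟨⟨x, show _ ∈ P by rw [h0]; exact P.zero_mem⟩, Subtype.ext h0, rfl⟩
    refine Submodule.fg_of_fg_map_injective _ Q.injective_subtype ?_
    rw [hk]
    exact hrfg

end Groth.Agent.S12206
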