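import Groth.Statements.S12207
import Mathlib
-- import your own Groth.Agent.* helpers here

set_option autoImplicit false
universe u
open CAlg

namespace Groth.Agent.S12207

/-- Let φ : N → M be a linear map between coherent R-modules (finitely generated, every finitely
generated submodule finitely presented). Then the kernel of φ and the cokernel M/φ(N) are coherent
R-modules. -/
theorem result (R : Type u) [CommRing R] {N M : Type u}
    [AddCommGroup N] [Module R N] [AddCommGroup M] [Module R M]
    (hN : Module.Finite R N ∧ ∀ P : Submodule R N, P.FG → Module.FinitePresentation R P)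
    (hM : Module.Finite R M ∧ ∀ P : Submodule R M, P.FG → Module.FinitePresentation R P)
    (φ : N →ₗ[R] M) :
    (Module.Finite R (LinearMap.ker φ) ∧
      ∀ P : Submodule R (LinearMap.ker φ), P.FG → Module.FinitePresentation R P) ∧
    (Module.Finite R (M ⧸ LinearMap.range φ) ∧
      ∀ P : Submodule R (M ⧸ LinearMap.range φ), P.FG → Module.FinitePresentation R P) := by
  obtain ⟨hNf, hN⟩ := hN
  obtain ⟨hMf, hM⟩ := hM
  have hR : (LinearMap.range φ).FG := by rw [LinearMap.range_eq_map]; exact (Module.Finite.fg_top).map φ
  have := hM _ hR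
  have hK : (LinearMap.ker φ).FG := by
    rw [← LinearMap.ker_rangeRestrict]
    exact Module.FinitePresentation.fg_ker φ.rangeRestrict φ.surjective_rangeRestrict
  refine ⟨⟨Module.Finite.iff_fg.mpr hK, fun P hP => ?_⟩, ⟨inferInstance, fun P hP => ?_⟩⟩
  · have := hN _ (hP.map (LinearMap.ker φ).subtype)
    exact Module.FinitePresentation.of_equiv
      (Submodule.equivMapOfInjective (LinearMap.ker φ).subtype (Submodule.injective_subtype _) P).symm
  · let Q := Submodule.comap (LinearMap.range φ).mkQ P
    have hQ : Q.FG := Submodule.fg_of_fg_map_of_fg_inf_ker (LinearMap.range φ).mkQ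
      (by rwa [Submodule.map_comap_eq_of_surjective (Submodule.mkQ_surjective _)])
      (by rw [Submodule.ker_mkQ, inf_eq_right.mpr (Submodule.le_comap_mkQ _ P)]; exact hR)
    have := hM Q hQ
    let q : Q →ₗ[R] P := ((LinearMap.range φ).mkQ).restrict fun x hx => hx
    have hq : Function.Surjective q := fun ⟨y, hy⟩ => by
      obtain ⟨x, rfl⟩ := Submodule.mkQ_surjective _ y
      exact ⟨⟨x, hy⟩, rfl⟩
    refine Module.finitePresentation_of_surjective q hq ?_
    have hk : LinearMap.ker q = Submodule.comap Q.subtype (LinearMap.range φ) := by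
      ext x; simp [q, LinearMap.mem_ker, Subtype.ext_iff]
    rw [hk]
    exact Submodule.fg_of_fg_map_injective _ Q.injective_subtype (by
      rw [Submodule.map_comap_eq, Submodule.range_subtype, inf_eq_right.mpr (Submodule.le_comap_mkQ _ P)]; exact hR)

end Groth.Agent.S12207
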