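import Groth.Statements.S12215
import Groth.Agent.WeakAss.Basic
import Groth.Agent.QCohLib.TildeFlat

set_option autoImplicit false
universe u
open CategoryTheory CategoryTheory.Limits AlgebraicGeometry
open Divisors

namespace Groth.Agent.S12215

/-- Let M be a module over a ring A, M~ the associated quasi-coherent module on Spec A and p a prime of
A. Then p is weakly associated to M — p is minimal among the prime ideals containing the annihilator
of some element of M — if and only if the point p of Spec A is weakly associated to M~, i.e. some
element of the stalk of M~ at p has annihilator whose radical is the maximal ideal of the local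
ring. -/
theorem result (A : CommRingCat.{u}) (M : ModuleCat.{u} A) (p : Spec A) :
    p.asIdeal ∈ FlatCA.weakAss A M ↔ Curv2.IsWeakAssPoint (tilde M) p := by
  let O := (Spec A).presheaf.stalk p
  let : Algebra A O := (StructureSheaf.toStalk A p).hom.toAlgebra
  have : IsLocalization p.asIdeal.primeCompl O := StructureSheaf.IsLocalization.to_stalk A p
  let : Module A ((tilde M).presheaf.stalk p) :=
    Groth.Agent.QCohLib.stalkModuleSelf (B := A) M p
  let f := Groth.Agent.QCohLib.toStalkLinear (B := A) M p
  have : IsLocalizedModule p.asIdeal.primeCompl f :=
    Groth.Agent.QCohLib.isLocalizedModule_toStalkLinear (B := A) M p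
  have : IsScalarTower A O ((tilde M).presheaf.stalk p) :=
    IsScalarTower.of_algebraMap_smul fun _ _ => rfl
  have hd : Disjoint (p.asIdeal.primeCompl : Set A) (p.asIdeal : Set A) :=
    Set.disjoint_left.mpr fun _ h h' => h h'
  rw [Groth.Agent.WeakAss.mem_weakAss_iff_map_mem p.asIdeal.primeCompl f (A := O) p.isPrime hd]
  have : IsLocalization.AtPrime O p.asIdeal := ‹IsLocalization p.asIdeal.primeCompl O›
  rw [show Ideal.map (algebraMap A O) p.asIdeal = IsLocalRing.maximalIdeal O from
    IsLocalization.AtPrime.map_eq_maximalIdeal p.asIdeal O,
    Groth.Agent.WeakAss.maximalIdeal_mem_weakAss_iff]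
  refine exists_congr fun m => ?_
  have h : (Submodule.span O {m}).annihilator =
      LinearMap.ker (LinearMap.toSpanSingleton O ((tilde M).presheaf.stalk p) m) :=
    Ideal.ext fun r => Submodule.mem_annihilator_span_singleton _ r
  rw [h]

end Groth.Agent.S12215
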