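import Groth.Statements.S12217
import Groth.Agent.GorLib.FlatLocal
import Groth.Agent.GorLib.Artin
import Groth.Agent.SemiGor.General
import Groth.Agent.DepthLib.Reduced
import Groth.Agent.S0543
-- import your own Groth.Agent.* helpers here

set_option autoImplicit false
universe u
open Curves

namespace Groth.Agent.S12217

/-- In this form A is the local ring of the curve at the point, and a Gorenstein scheme has Gorenstein
local rings. Let k be an algebraically closed field and A a Gorenstein local ring whose completion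
with respect to its maximal ideal is isomorphic to the multicross ring with n ≥ 2 branches, the
subring of (k[[t]])^n consisting of the n-tuples of power series having a common constant term. Then
n = 2: a Gorenstein multicross singularity is a node. The isomorphism is given as an injective ring
map from the completion to (k[[t]])^n with that subring as its range. -/
theorem result (k : Type u) [Field k] [IsAlgClosed k]
    (A : Type u) [CommRing A] [LocCoh.IsGorensteinLocalRing A] (n : ℕ) (hn : 2 ≤ n)
    (φ : AdicCompletion (IsLocalRing.maximalIdeal A) A →+* (Fin n → PowerSeries k))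
    (hinj : Function.Injective φ)
    (hrange : Set.range φ = {f : Fin n → PowerSeries k | ∀ i j : Fin n, PowerSeries.constantCoeff (f i) = PowerSeries.constantCoeff (f j)}) :
    n = 2 := by
  let C := AdicCompletion (IsLocalRing.maximalIdeal A) A
  haveI : IsNoetherianRing C := S0543.result A _
  haveI : Module.Flat A C := AdicCompletion.flat_of_isNoetherian _
  haveI : IsLocalHom (algebraMap A C) := by
    refine ((IsLocalRing.local_hom_TFAE (algebraMap A C)).out 0 2 rfl rfl).mpr ?_
    rw [AdicCompletion.maximalIdeal_eq_map (R := A)]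
  have hC : LocCoh.IsGorensteinLocalRing C := by
    refine (GorLib.gorenstein_iff_of_flat A C).2 ⟨inferInstance, ?_⟩
    haveI := FlatAscent.isLocalRing_fibre A C
    have hF : IsField (FlatAscent.Fib A C) := by
      refine Ideal.Quotient.maximal_ideal_iff_isField_quotient _ |>.1 ?_
      rw [← AdicCompletion.maximalIdeal_eq_map (R := A)]
      exact IsLocalRing.maximalIdeal.isMaximal C
    haveI := DepthLib.isRegularLocalRing_of_isField hF
    exact SemiGor.isGorensteinLocalRing_of_isRegularLocalRing _
  -- the diagonal parameter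
  obtain ⟨m, rfl⟩ : ∃ m, n = m + 2 := ⟨n - 2, by omega⟩
  by_contra hne
  obtain ⟨l, rfl⟩ : ∃ l, m = l + 1 := ⟨m - 1, by omega⟩
  have hsurj : ∀ f : Fin (l + 1 + 2) → PowerSeries k, (∀ i j, PowerSeries.constantCoeff (f i) = PowerSeries.constantCoeff (f j)) →
      ∃ w, φ w = f := fun f hf => by
    show f ∈ Set.range φ
    rw [hrange]
    exact hf
  have hconst : ∀ w i j, PowerSeries.constantCoeff (φ w i) = PowerSeries.constantCoeff (φ w j) := fun w => by
    have h : φ w ∈ Set.range φ := ⟨w, rfl⟩
    rw [hrange] at h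
    exact h
  obtain ⟨t, ht⟩ := hsurj (fun _ => PowerSeries.X) (fun _ _ => rfl)
  have htreg : RingTheory.Sequence.IsWeaklyRegular C [t] := by
    rw [RingTheory.Sequence.isWeaklyRegular_singleton_iff, isSMulRegular_iff_right_eq_zero_of_smul]
    intro w hw
    refine hinj ((funext fun i => ?_).trans (map_zero φ).symm)
    have h1 : φ t i * φ w i = 0 := by
      rw [← Pi.mul_apply, ← map_mul, show t * w = 0 from hw, map_zero, Pi.zero_apply]
    rw [ht] at h1
    exact (mul_eq_zero.1 h1).resolve_left PowerSeries.X_ne_zero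
  -- the closed point
  let χ : C →+* k := PowerSeries.constantCoeff.comp ((Pi.evalRingHom _ 0).comp φ)
  have hχ : RingHom.ker χ = IsLocalRing.maximalIdeal C := by
    refine IsLocalRing.eq_maximalIdeal (RingHom.ker_isMaximal_of_surjective χ fun c => ?_)
    obtain ⟨w, hw⟩ := hsurj (fun _ => PowerSeries.C c) (fun _ _ => rfl)
    exact ⟨w, by simp [χ, hw]⟩
  have htm : ∀ r ∈ [t], r ∈ IsLocalRing.maximalIdeal C := fun r hr => by
    rw [List.mem_singleton.1 hr, ← hχ, RingHom.mem_ker]
    simp [χ, ht]
  haveI := hC
  haveI : IsLocalRing (C ⧸ Ideal.ofList [t]) := GorLib.isLocalRing_quotient (GorLib.ofList_le htm)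
  haveI := (GorLib.isGorensteinLocalRing_quotient_ofList_iff _ [t] rfl htreg htm).1 hC
  -- coordinate vectors
  have he : ∀ a : Fin (l + 1 + 2), ∃ w, φ w = Pi.single a PowerSeries.X := fun a => hsurj _ fun i j => by
    rw [Pi.single_apply, Pi.single_apply]
    split_ifs <;> simp
  choose e he using he
  let q := Ideal.Quotient.mk (Ideal.ofList [t])
  have hkey : ∀ (a : Fin (l + 1 + 2)) w, q w = q (e a) → ∃ c : k, ∀ j,
      PowerSeries.coeff 1 (φ w j) = PowerSeries.coeff 1 (Pi.single (M := fun _ => PowerSeries k) a PowerSeries.X j) + c := fun a w h => by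
    rw [Ideal.Quotient.mk_eq_mk_iff_sub_mem, Ideal.ofList_singleton, Ideal.mem_span_singleton'] at h
    obtain ⟨v, hv⟩ := h
    refine ⟨PowerSeries.constantCoeff (φ v 0), fun j => ?_⟩
    have h1 : φ w j = Pi.single (M := fun _ => PowerSeries k) a PowerSeries.X j + φ v j * PowerSeries.X := by
      have h2 := congrArg (fun z => φ z j) hv
      simp only [map_mul, map_sub, Pi.mul_apply, Pi.sub_apply, ht, he] at h2
      rw [h2]; ring
    rw [h1, map_add, PowerSeries.coeff_succ_mul_X, PowerSeries.coeff_zero_eq_constantCoeff_apply, hconst v j 0]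
  have hsoc : ∀ a, GorLib.IsSocle (q (e a)) := fun a x hx => by
    obtain ⟨x, rfl⟩ := Ideal.Quotient.mk_surjective x
    have hx' : χ x = 0 := by
      rw [← RingHom.mem_ker, hχ]
      intro hu
      exact hx (hu.map q)
    rw [← map_mul, Ideal.Quotient.eq_zero_iff_mem, Ideal.ofList_singleton, Ideal.mem_span_singleton']
    obtain ⟨v, hv⟩ := hsurj (Pi.single a (φ x a)) fun i j => by
      have h0 : PowerSeries.constantCoeff (φ x a) = 0 := (hconst x a 0).trans hx'
      rw [Pi.single_apply, Pi.single_apply]
      split_ifs <;> simp [h0]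
    refine ⟨v, hinj (funext fun i => ?_)⟩
    rw [map_mul, map_mul, Pi.mul_apply, Pi.mul_apply, hv, ht, he, Pi.single_apply, Pi.single_apply]
    split_ifs with hi
    · subst hi; rfl
    · simp
  let p0 : Fin (l + 1 + 2) := ⟨0, by omega⟩
  let p1 : Fin (l + 1 + 2) := ⟨1, by omega⟩
  let p2 : Fin (l + 1 + 2) := ⟨2, by omega⟩
  have h01 : p0 ≠ p1 := by simp [p0, p1]
  have h02 : p0 ≠ p2 := by simp [p0, p2]
  have h12 : p1 ≠ p2 := by simp [p1, p2]
  have hne0 : q (e p0) ≠ 0 := fun h => by
    obtain ⟨c, hc⟩ := hkey p0 0 (by rw [map_zero, h])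
    have a0 := hc p0
    have a1 := hc p1
    simp [h01.symm] at a0 a1
    rw [← a1] at a0
    simp at a0
  have hd : LocCoh.depth (C ⧸ Ideal.ofList [t]) (C ⧸ Ideal.ofList [t]) = 0 := by
    rw [DepthLib.depth_eq_zero_iff]
    refine isAssociatedPrime_iff.mpr ⟨(IsLocalRing.maximalIdeal.isMaximal _).isPrime, q (e p0),
      le_antisymm (fun x hx => ?_) ?_⟩
    · rw [Submodule.mem_colon_singleton, Submodule.mem_bot]
      exact hsoc p0 x hx
    · refine IsLocalRing.le_maximalIdeal fun htop => hne0 ?_
      have : (1 : C ⧸ Ideal.ofList [t]) ∈ (⊥ : Submodule (C ⧸ Ideal.ofList [t]) (C ⧸ Ideal.ofList [t])).colon {q (e p0)} :=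
        htop ▸ Submodule.mem_top
      rwa [Submodule.mem_colon_singleton, Submodule.mem_bot, one_smul] at this
  haveI := GorLib.injective_of_depth_eq_zero hd
  obtain ⟨r, hr⟩ := GorLib.socleCyclic_of_injective _ _ (hsoc p0) (hsoc p1) hne0
  obtain ⟨r, rfl⟩ := Ideal.Quotient.mk_surjective r
  obtain ⟨c, hc⟩ := hkey p1 (r * e p0) (by rw [map_mul]; exact hr.symm)
  have a1 := hc p1
  have a2 := hc p2
  simp [map_mul, he, h01.symm, h02.symm, h12.symm, h12] at a1 a2
  rw [← a2] at a1
  simp at a1

end Groth.Agent.S12217
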