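import Groth.Statements.S12223
import Groth.Agent.EtSite.BigExact
import Groth.Agent.EtMV.ExtAdj
import Mathlib.AlgebraicGeometry.Sites.BigZariski

set_option autoImplicit false
open CategoryTheory CategoryTheory.Limits AlgebraicGeometry Opposite
universe u
open BigSite

namespace Groth.Agent.S12223

section

variable {C : Type u} {D : Type (u + 1)} [Category.{u} C] [Category.{u} D] (G : C ⥤ D)

/-- Left Kan extension preserves monomorphisms if pointwise the colimits are exact. -/
theorem lan_mono'
    (h : ∀ W : D, ∃ (J : Type u) (_ : Category.{u} J) (E : J ⥤ CostructuredArrow G.op (op W))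
      (_ : E.Final) (_ : HasColimitsOfShape J AddCommGrpCat.{u + 1}),
        HasExactColimitsOfShape J AddCommGrpCat.{u + 1}) :
    (G.op.lan : (Cᵒᵖ ⥤ AddCommGrpCat.{u + 1}) ⥤ _).PreservesMonomorphisms where
  preserves {P Q} f _ := by
    have : ∀ W, Mono ((G.op.lan.map f).app W) := fun ⟨W⟩ => by
      obtain ⟨J, _, E, _, _, _⟩ := h W
      have hP := G.op.isPointwiseLeftKanExtensionLeftKanExtensionUnit P (op W)
      have hQ := G.op.isPointwiseLeftKanExtensionLeftKanExtensionUnit Q (op W)
      have : Mono (Functor.whiskerLeft (E ⋙ CostructuredArrow.proj _ _) f) := by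
        have : ∀ x, Mono ((Functor.whiskerLeft (E ⋙ CostructuredArrow.proj _ _) f).app x) :=
          fun x => by rw [Functor.whiskerLeft_app]; infer_instance
        exact NatTrans.mono_of_mono_app _
      refine colim.map_mono' (Functor.whiskerLeft (E ⋙ CostructuredArrow.proj _ _) f)
        ((Functor.Final.isColimitWhiskerEquiv E _).symm hP)
        ((Functor.Final.isColimitWhiskerEquiv E _).symm hQ) _ fun x => ?_
      have hn := congr_app (G.op.lanUnit.naturality f) (E.obj x).left
      have hn2 := (G.op.lan.map f).naturality (E.obj x).hom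
      show ((G.op.lanUnit.app P).app _ ≫ _) ≫ _ = f.app _ ≫ _ ≫ _
      erw [Category.assoc, hn2]
      exact (Category.assoc _ _ _).symm.trans
        (congrArg (· ≫ (G.op.lan.obj Q).map (E.obj x).hom) hn.symm)
    exact NatTrans.mono_of_mono_app _

variable {J : GrothendieckTopology C} {K : GrothendieckTopology D} [G.IsContinuous J K]
  [(G.sheafPushforwardContinuous AddCommGrpCat.{u + 1} J K).IsRightAdjoint]
  [HasSheafify K AddCommGrpCat.{u + 1}] [HasSheafify J AddCommGrpCat.{u + 1}]

/-- The inverse image preserves monomorphisms. -/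
theorem sheafPullback_mono'
    [(G.op.lan : (Cᵒᵖ ⥤ AddCommGrpCat.{u + 1}) ⥤ _).PreservesMonomorphisms] :
    (G.sheafPullback AddCommGrpCat.{u + 1} J K).PreservesMonomorphisms := by
  have : (Functor.sheafPullbackConstruction.sheafPullback G AddCommGrpCat.{u + 1} J K).PreservesMonomorphisms :=
    ⟨fun f _ => by
      show Mono ((presheafToSheaf _ _).map (G.op.lan.map ((sheafToPresheaf _ _).map f)))
      infer_instance⟩
  exact Functor.PreservesMonomorphisms.of_iso
    (Functor.sheafPullbackConstruction.sheafPullbackIso G AddCommGrpCat.{u + 1} J K).symm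

end

/-- An open covering of an open contains one by opens. -/
theorem zarIncl_cocontinuous (X : Scheme.{u}) :
    (BigSite.zarIncl X).IsCocontinuous (Opens.grothendieckTopology X)
      (QuotSh.J Scheme.zariskiPrecoverage X) where
  cover_lift {U R} hR := by
    intro x hx
    rw [GrothendieckTopology.mem_over_iff] at hR
    obtain ⟨𝒰, h𝒰⟩ := Scheme.exists_cover_of_mem_grothendieckTopology hR
    obtain ⟨i, y, hy⟩ := Scheme.Cover.exists_eq 𝒰 ⟨x, hx⟩
    let fi : 𝒰.X i ⟶ U.toScheme := 𝒰.f i
    have hfi : IsOpenImmersion fi := 𝒰.map_prop i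
    let q : 𝒰.X i ⟶ X := fi ≫ U.ι
    have : IsOpenImmersion q := inferInstanceAs (IsOpenImmersion (fi ≫ U.ι))
    have hW : q.opensRange ≤ U := by
      rintro _ ⟨z, rfl⟩
      exact (fi z).2
    refine ⟨q.opensRange, homOfLE hW, ?_, ⟨y, ?_⟩⟩
    · have hmem : R (Over.homMk (U := Over.mk q) (V := (BigSite.zarIncl X).obj U) (𝒰.f i) rfl) :=
        (Sieve.overEquiv_iff R _).1 (h𝒰 _ _ (Presieve.ofArrows.mk i))
      let k : (BigSite.zarIncl X).obj q.opensRange ⟶ Over.mk q :=
        Over.homMk q.isoOpensRange.inv q.isoOpensRange_inv_comp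
      have e : (BigSite.zarIncl X).map (homOfLE hW) =
          k ≫ Over.homMk (U := Over.mk q) (V := (BigSite.zarIncl X).obj U) (𝒰.f i) rfl := by
        refine Over.OverMorphism.ext ((cancel_mono U.ι).1 ?_)
        exact (X.homOfLE_ι hW).trans
          (q.isoOpensRange_inv_comp.symm.trans (Category.assoc _ _ _).symm)
      show R _
      rw [e]
      exact R.downward_closed hmem k
    · show U.ι (𝒰.f i y) = x
      rw [hy]
      rfl

/-- The opens containing the image of a scheme are cofiltered. -/
theorem isCofiltered_structuredArrow (X : Scheme.{u}) (W : Over X) :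
    IsCofiltered (StructuredArrow W (BigSite.zarIncl X)) := by
  have : Nonempty (StructuredArrow W (BigSite.zarIncl X)) :=
    ⟨StructuredArrow.mk (Y := ⊤) (Over.homMk (W.hom ≫ X.topIso.inv)
      ((Category.assoc _ _ _).trans ((congrArg (W.hom ≫ ·) X.topIso.inv_hom_id).trans
        (Category.comp_id _))))⟩
  refine { cone_objs := fun A B => ?_, cone_maps := fun A B f g => ⟨A, 𝟙 A, ?_⟩ }
  · let O : X.Opens := A.right ⊓ B.right
    have hr : Set.range W.hom.base ⊆ Set.range O.ι.base := by
      rintro _ ⟨w, rfl⟩
      rw [Scheme.Opens.range_ι]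
      have ha : A.hom.left ≫ A.right.ι = W.hom := Over.w A.hom
      have hb : B.hom.left ≫ B.right.ι = W.hom := Over.w B.hom
      refine ⟨?_, ?_⟩
      · rw [← ha]; exact (A.hom.left w).2
      · rw [← hb]; exact (B.hom.left w).2
    let w₀ : W.left ⟶ X := W.hom
    let l : W.left ⟶ O.toScheme := IsOpenImmersion.lift O.ι w₀ hr
    have hl : l ≫ O.ι = w₀ := IsOpenImmersion.lift_fac O.ι w₀ hr
    let C : StructuredArrow W (BigSite.zarIncl X) := StructuredArrow.mk (Y := O)
      (Over.homMk l hl)
    refine ⟨C, StructuredArrow.homMk (homOfLE inf_le_left) ?_,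
      StructuredArrow.homMk (homOfLE inf_le_right) ?_, trivial⟩
    · refine Over.OverMorphism.ext ((cancel_mono A.right.ι).1 ?_)
      exact (Category.assoc _ _ _).trans ((congrArg (_ ≫ ·) (X.homOfLE_ι inf_le_left)).trans
        (hl.trans (Over.w A.hom).symm))
    · refine Over.OverMorphism.ext ((cancel_mono B.right.ι).1 ?_)
      exact (Category.assoc _ _ _).trans ((congrArg (_ ≫ ·) (X.homOfLE_ι inf_le_right)).trans
        (hl.trans (Over.w B.hom).symm))
  · exact congrArg (𝟙 A ≫ ·) (StructuredArrow.ext _ _ (Subsingleton.elim _ _))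

/-- For a scheme X and an abelian sheaf F on the big Zariski site of X, the cohomology groups of the
restriction of F to the small Zariski site X_Zar agree with the cohomology groups of F on the big
site, in every degree p. Existence of an additive isomorphism only (the canonical comparison map is
not named here). The continuity of the inclusion of the small Zariski site into the big site is
carried as an instance hypothesis; it always holds. -/
theorem result (X : Scheme.{u}) [BigSite.ZarCont Scheme.zariskiPrecoverage X]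
    (F : BigSite.Ab Scheme.zariskiPrecoverage X) (p : ℕ) :
    Nonempty (EtZar.H ((BigSite.resZar Scheme.zariskiPrecoverage X).obj F) p ≃+
      BigSite.H Scheme.zariskiPrecoverage X F p) := by
  have := zarIncl_cocontinuous X
  let R := BigSite.resZar Scheme.zariskiPrecoverage X
  let adj := BigSite.piZarAdj Scheme.zariskiPrecoverage X
  have := lan_mono' (BigSite.zarIncl X) fun W => by
    have := isCofiltered_structuredArrow X W
    have : IsFiltered (CostructuredArrow (BigSite.zarIncl X).op (op W)) :=
      IsFiltered.of_equivalence (structuredArrowOpEquivalence (BigSite.zarIncl X) W)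
    have : AB5OfSize.{u, u} AddCommGrpCat.{u + 1} := AB5OfSize_shrink.{u, u, u + 1, u + 1} _
    exact ⟨_, _, 𝟭 _, inferInstance, inferInstance, AB5OfSize.ofShape _⟩
  have := sheafPullback_mono' (BigSite.zarIncl X)
    (J := Opens.grothendieckTopology X) (K := QuotSh.J Scheme.zariskiPrecoverage X)
  have : PreservesColimitsOfSize.{0, 0} R :=
    ((BigSite.zarIncl X).sheafAdjunctionCocontinuous AddCommGrpCat.{u + 1}
      (Opens.grothendieckTopology X) (QuotSh.J Scheme.zariskiPrecoverage X)).leftAdjoint_preservesColimits
  have : PreservesFiniteColimits R := PreservesColimitsOfSize.preservesFiniteColimits _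
  have : PreservesLimitsOfSize.{0, 0} R := adj.rightAdjoint_preservesLimits
  have : PreservesFiniteLimits R := PreservesLimitsOfSize.preservesFiniteLimits _
  let M := AddCommGrpCat.of (ULift.{u + 1} ℤ)
  let c : (BigSite.zarIncl X).obj ⊤ ≅ Over.mk (𝟙 X) := Over.isoMk X.topIso (Category.comp_id _)
  let g : (sheafSections (QuotSh.J Scheme.zariskiPrecoverage X) AddCommGrpCat.{u + 1}).obj (op (Over.mk (𝟙 X))) ≅
      R ⋙ (sheafSections (Opens.grothendieckTopology X) AddCommGrpCat.{u + 1}).obj (op ⊤) :=
    NatIso.ofComponents (fun G => G.obj.mapIso c.op) (fun a => (a.hom.naturality c.hom.op).symm)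
  let e := (((constantSheafAdj (Opens.grothendieckTopology X) AddCommGrpCat.{u + 1}
      isTerminalTop).comp adj).ofNatIsoRight g.symm).leftAdjointUniq
    (constantSheafAdj (QuotSh.J Scheme.zariskiPrecoverage X) AddCommGrpCat.{u + 1} Over.mkIdTerminal)
  refine ⟨(AddEquiv.ofBijective (EtMV.Φ adj _ F p) (EtMV.Φ_bijective adj _ F p)).symm.trans
    (AddEquiv.ofBijective ((Abelian.Ext.mk₀ (e.app M).inv).precomp F (zero_add p)) ?_)⟩
  exact Function.bijective_iff_has_inverse.2
    ⟨fun x => (Abelian.Ext.mk₀ (e.app M).hom).comp x (zero_add p), fun x => by simp, fun x => by simp⟩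

end Groth.Agent.S12223
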