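import Groth.Statements.S12226
import Groth.Agent.DepthSections.Converse
import Mathlib
-- import your own Groth.Agent.* helpers here

set_option autoImplicit false
universe u
open CategoryTheory CategoryTheory.Limits AlgebraicGeometry TopologicalSpace
open LocCoh

namespace Groth.Agent.S12226

/-- Let j : U → X be the inclusion of an open subscheme of a Noetherian scheme X and F a coherent
O_X-module such that F' = j_*(F|_U) is coherent. Then (a) for every point x of X outside U the stalk
F'_x has depth at least 2 over O_{X,x}, and (b) F → F' is the unique map with these properties: for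
every coherent O_X-module G and every map φ : F → G whose restriction to U is an isomorphism and
such that depth(G_x) ≥ 2 for all x outside U, there is exactly one map ψ : G → F' whose composite
with φ is the canonical map F → j_*(F|_U), and this ψ is an isomorphism. (The compatibility of this
construction with flat base change is not part of this statement.) -/
theorem result (X : Scheme.{u}) [IsNoetherian X] (U : X.Opens)
    (F : X.Modules) (hF : Coh.IsCoh F) (hF' : Coh.IsCoh ((Coh.push U.ι).obj (F.restrict U.ι))) :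
    (∀ x : ↥X, x ∉ U → (2 : ℕ∞) ≤ LocCoh.depth (X.presheaf.stalk x)
        (((Coh.push U.ι).obj (F.restrict U.ι)).presheaf.stalk x)) ∧
    ∀ (G : X.Modules) (hG : Coh.IsCoh G) (φ : F ⟶ G),
      IsIso ((Scheme.Modules.restrictFunctor U.ι).map φ) →
      (∀ x : ↥X, x ∉ U → (2 : ℕ∞) ≤ LocCoh.depth (X.presheaf.stalk x) (G.presheaf.stalk x)) →
        (∃! ψ : G ⟶ (Coh.push U.ι).obj (F.restrict U.ι),
            φ ≫ ψ = (Scheme.Modules.restrictAdjunction U.ι).unit.app F) ∧
          ∀ ψ : G ⟶ (Coh.push U.ι).obj (F.restrict U.ι),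
            φ ≫ ψ = (Scheme.Modules.restrictAdjunction U.ι).unit.app F → IsIso ψ := by
  have hsec : ∀ (G : X.Modules), Groth.Agent.ParaFLib.SecBij U G →
      ∀ V : X.Opens, Function.Bijective (G.presheaf.map (homOfLE (inf_le_left : V ⊓ U ≤ V)).op) := fun _ h => h
  have hp : Groth.Agent.ParaFLib.SecBij U ((Coh.push U.ι).obj (F.restrict U.ι)) := by
    have := Groth.Agent.ParaFLib.secBij_pushforward U.ι (F.restrict U.ι)
    rwa [Scheme.Opens.opensRange_ι] at this
  refine ⟨fun x hx => Groth.Agent.DepthSections.two_le_depth_of_bijective_restrict _ hF' (hsec _ hp) hx,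
    fun G hG φ hφ hdepth => ?_⟩
  have hG' : Groth.Agent.ParaFLib.SecBij U.ι.opensRange G := by
    rw [Scheme.Opens.opensRange_ι]
    exact Groth.Agent.DepthSections.bijective_restrict G hG U hdepth
  haveI := Groth.Agent.ParaFLib.isIso_unit_app U.ι hG'
  let ψ : G ⟶ (Coh.push U.ι).obj (F.restrict U.ι) :=
    (Scheme.Modules.restrictAdjunction U.ι).unit.app G ≫
      (Scheme.Modules.pushforward U.ι).map (inv ((Scheme.Modules.restrictFunctor U.ι).map φ))
  have hψ : φ ≫ ψ = (Scheme.Modules.restrictAdjunction U.ι).unit.app F := by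
    have h1 := (Scheme.Modules.restrictAdjunction U.ι).unit.naturality φ
    dsimp [ψ] at h1 ⊢
    rw [reassoc_of% h1, ← Functor.map_comp, IsIso.hom_inv_id]
    erw [CategoryTheory.Functor.map_id]
    exact Category.comp_id _
  have hu : ∀ ψ' : G ⟶ (Coh.push U.ι).obj (F.restrict U.ι),
      φ ≫ ψ' = (Scheme.Modules.restrictAdjunction U.ι).unit.app F → ψ' = ψ := by
    intro ψ' h'
    refine (Groth.Agent.ParaFLib.bijective_map U.ι (L := G) (by rwa [Scheme.Opens.opensRange_ι])).1 ?_
    refine (cancel_epi ((Scheme.Modules.restrictFunctor U.ι).map φ)).mp ?_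
    rw [← Functor.map_comp, ← Functor.map_comp, h', hψ]
  refine ⟨⟨ψ, hψ, hu⟩, fun ψ' h' => ?_⟩
  rw [hu ψ' h']
  haveI : IsIso ((Scheme.Modules.pushforward U.ι).map (inv ((Scheme.Modules.restrictFunctor U.ι).map φ))) :=
    inferInstance
  exact inferInstanceAs (IsIso (_ ≫ _))

end Groth.Agent.S12226
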