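import Groth.Statements.S12228
import Groth.Agent.TriH.Roofs

set_option autoImplicit false
universe w v u
open CategoryTheory CategoryTheory.Limits
open CohDer

namespace Groth.Agent.S12228

/-- Full faithfulness of Kᵇ(A)[Qis⁻¹] → Dᵇ(A), written in terms of roofs. Let A be an abelian category
and K, L bounded complexes (zero outside a finite range of degrees), viewed in the homotopy
category. Then every morphism Qh(K) → Qh(L) in the derived category is Qh(f) ≫ Qh(t)⁻¹ for some map
f : K → L' and quasi-isomorphism t : L → L' of K(A) with L' again bounded; and two maps f₁, f₂ : K →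
L of K(A) become equal in D(A) only if f₁ ≫ t = f₂ ≫ t for some quasi-isomorphism t : L → L' with L'
bounded. -/
theorem result {A : Type u} [Category.{v} A] [Abelian A] [HasDerivedCategory.{w} A]
    (K L : HomotopyCategory A (ComplexShape.up ℤ)) (a b a' b' : ℤ) [CochainComplex.IsStrictlyGE K.as a] [CochainComplex.IsStrictlyLE K.as b]
    [CochainComplex.IsStrictlyGE L.as a'] [CochainComplex.IsStrictlyLE L.as b'] :
    (∀ φ : DerivedCategory.Qh.obj K ⟶ DerivedCategory.Qh.obj L,
      ∃ (L' : HomotopyCategory A (ComplexShape.up ℤ)) (m n : ℤ) (_ : CochainComplex.IsStrictlyGE L'.as m) (_ : CochainComplex.IsStrictlyLE L'.as n) (f : K ⟶ L') (t : L ⟶ L'),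
        HomotopyCategory.quasiIso A (ComplexShape.up ℤ) t ∧ φ ≫ DerivedCategory.Qh.map t = DerivedCategory.Qh.map f) ∧
    (∀ f₁ f₂ : K ⟶ L, DerivedCategory.Qh.map f₁ = DerivedCategory.Qh.map f₂ →
      ∃ (L' : HomotopyCategory A (ComplexShape.up ℤ)) (m n : ℤ) (_ : CochainComplex.IsStrictlyGE L'.as m) (_ : CochainComplex.IsStrictlyLE L'.as n) (t : L ⟶ L'),
        HomotopyCategory.quasiIso A (ComplexShape.up ℤ) t ∧ f₁ ≫ t = f₂ ≫ t) := by
  constructor
  · intro φ
    haveI := CochainComplex.isStrictlyLE_of_le K.as b (max b b') (le_max_left _ _)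
    haveI := CochainComplex.isStrictlyLE_of_le L.as b' (max b b') (le_max_right _ _)
    obtain ⟨L', h1, h2, f, t, ht, e⟩ :=
      Groth.Agent.TriH.Roofs.bounded_roof K.as L.as a' (max b b') φ
    exact ⟨(HomotopyCategory.quotient A _).obj L', _, _, h1, h2,
      (HomotopyCategory.quotient A _).map f, (HomotopyCategory.quotient A _).map t, ht, e⟩
  · intro f₁ f₂ h
    haveI := CochainComplex.isStrictlyLE_of_le L.as b' (max (b + 1) b') (le_max_right _ _)
    obtain ⟨L', h1, h2, t, ht, e⟩ :=
      Groth.Agent.TriH.Roofs.bounded_eq K.as L.as a' b (max (b + 1) b') (by omega) f₁ f₂ h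
    exact ⟨(HomotopyCategory.quotient A _).obj L', _, _, h1, h2,
      (HomotopyCategory.quotient A _).map t, ht, e⟩

end Groth.Agent.S12228
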