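import Groth.Statements.S1224
import Mathlib.RingTheory.Ideal.GoingUp
import Mathlib.RingTheory.TensorProduct.Maps
import Mathlib.RingTheory.IntegralClosure.IsIntegralClosure.Basic

set_option autoImplicit false
universe u
open FlatMor
open scoped TensorProduct
attribute [local instance] Algebra.TensorProduct.rightAlgebra

namespace Groth.Agent.S1224

/-- Ring form, X = Spec B affine, where proper support means finite support: let B be a finite type
A-algebra and N a finite B-module such that B modulo the annihilator of N is finite over A. Then N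
is universally pure relative to Spec A. -/
theorem result {A B : Type u} [CommRing A] [CommRing B] [Algebra A B] [Algebra.FiniteType A B]
    (N : Type u) [AddCommGroup N] [Module B N] [Module A N] [IsScalarTower A B N] [Module.Finite B N]
    [Module.Finite A (B ⧸ Module.annihilator B N)] : FlatCA.IsUnivPure A B N := by

  intro p _ A' B' N' _ _ _ _ _ _ _ _ _ _ _ _ _ _ f t' t _ _ P _ himp
  obtain ⟨hpush, hbc, hle, -, hPt', hass, hno⟩ := himp
  -- the annihilator of `N` maps into `P`
  have hann : ∀ b ∈ Module.annihilator B N, algebraMap B B' b ∈ P := by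
    intro b hb
    have hN' : ∀ n' : N', algebraMap B B' b • n' = 0 := by
      intro n'
      induction n' using hbc.inductionOn with
      | zero => exact smul_zero _
      | tmul n =>
          rw [algebraMap_smul, ← map_smul, Module.mem_annihilator.mp hb n, map_zero]
      | smul s n hn => rw [smul_comm, hn, smul_zero]
      | add x y hx hy => rw [smul_add, hx, hy, add_zero]
    have h1 : Algebra.TensorProduct.includeRight (R := A') (A := t'.ResidueField) (B := B')
        (algebraMap B B' b) ∈ FlatCA.fiberIdeal t' P := by
      refine IsAssociatedPrime.annihilator_le hass ?_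
      have key : ∀ w : TensorProduct B' (t'.Fiber B') N',
          (algebraMap B' (t'.Fiber B') (algebraMap B B' b)) • w = 0 := by
        intro w
        induction w using TensorProduct.induction_on with
        | zero => exact smul_zero _
        | tmul z n =>
            rw [algebraMap_smul, ← TensorProduct.tmul_smul, hN', TensorProduct.tmul_zero]
        | add x y hx hy => rw [smul_add, hx, hy, add_zero]
      exact Submodule.mem_annihilator.mpr (fun x _ => key x)
    haveI := hPt'
    let π : t'.Fiber B' →ₐ[A'] P.ResidueField :=
      Algebra.TensorProduct.lift (Ideal.ResidueField.mapₐ t' P (Algebra.ofId A' B') hPt'.over)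
        (IsScalarTower.toAlgHom A' B' P.ResidueField) (fun _ _ => Commute.all _ _)
    have h2 : FlatCA.fiberIdeal t' P ≤ RingHom.ker π.toRingHom := by
      refine Ideal.map_le_iff_le_comap.mpr (fun x hx => ?_)
      change π ((1 : t'.ResidueField) ⊗ₜ[A'] x) = 0
      simp only [π, Algebra.TensorProduct.lift_tmul, map_one, one_mul,
        IsScalarTower.coe_toAlgHom']
      exact Ideal.algebraMap_residueField_eq_zero.mpr hx
    have h3 : π ((1 : t'.ResidueField) ⊗ₜ[A'] algebraMap B B' b) = 0 := h2 h1
    simp only [π, Algebra.TensorProduct.lift_tmul, map_one, one_mul,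
      IsScalarTower.coe_toAlgHom'] at h3
    exact Ideal.algebraMap_residueField_eq_zero.mp h3
  -- `B'/P` is integral over `A'`
  have hintB : ∀ b : B, IsIntegral A' (Ideal.Quotient.mk P (algebraMap B B' b)) := by
    intro b
    obtain ⟨q, hq, hq'⟩ := Algebra.IsIntegral.isIntegral (R := A)
      (Ideal.Quotient.mk (Module.annihilator B N) b)
    have h1 : Polynomial.aeval b q ∈ Module.annihilator B N := by
      rw [← Ideal.Quotient.eq_zero_iff_mem, ← Ideal.Quotient.mkₐ_eq_mk A,
        ← Polynomial.aeval_algHom_apply]
      exact hq'
    have h2 : Polynomial.aeval (Ideal.Quotient.mk P (algebraMap B B' b)) q = 0 := by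
      have h := Ideal.Quotient.eq_zero_iff_mem.mpr (hann _ h1)
      rw [← Polynomial.aeval_algebraMap_apply, ← Ideal.Quotient.mkₐ_eq_mk A,
        ← Polynomial.aeval_algHom_apply] at h
      exact h
    exact IsIntegral.tower_top (A := A') ⟨q, hq, h2⟩
  haveI : Algebra.IsIntegral A' (B' ⧸ P) := by
    refine ⟨fun x => ?_⟩
    obtain ⟨x, rfl⟩ := Ideal.Quotient.mk_surjective x
    have h := hpush.symm.out
    induction x using h.inductionOn with
    | zero => rw [map_zero]; exact isIntegral_zero
    | tmul b => exact hintB b
    | smul a y hy =>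
        rw [Algebra.smul_def, map_mul]
        exact (isIntegral_algebraMap (x := a) (A := B' ⧸ P)).mul hy
    | add y z hy hz => rw [map_add]; exact hy.add hz
  have hker : RingHom.ker (algebraMap A' (B' ⧸ P)) ≤ t := by
    intro a ha
    apply hle
    rw [hPt'.over]
    rw [RingHom.mem_ker, IsScalarTower.algebraMap_apply A' B' (B' ⧸ P),
      Ideal.Quotient.algebraMap_eq, Ideal.Quotient.eq_zero_iff_mem] at ha
    exact ha
  obtain ⟨Q, hQ, hQt⟩ := Ideal.exists_ideal_over_prime_of_isIntegral_of_isDomain
    (S := B' ⧸ P) t hker
  haveI := hQ
  refine hno (Q.comap (Ideal.Quotient.mk P)) (fun x hx => ?_) ⟨?_⟩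
  · rw [Ideal.mem_comap, Ideal.Quotient.eq_zero_iff_mem.mpr hx]; exact Q.zero_mem
  · rw [← hQt]; rfl

end Groth.Agent.S1224
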