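import Groth.Statements.S12734
import Groth.Agent.ArtFunLib.Criteria
import Groth.Agent.ArtFunLib.Trunc
import Groth.Agent.ArtFunLib.Separable
import Groth.Agent.ArtFunLib.Tangent
import Groth.Agent.S12731
import Mathlib

set_option autoImplicit false
universe u v
open CategoryTheory
open ArtFun

namespace Groth.Agent.S12734

/-- A functor F on Artinian local Λ-algebras with residue field k is prorepresentable if and only if (a)
F(k) is a point and F satisfies (RS): F(A₁ ×_A A₂) → F(A₁) ×_{F(A)} F(A₂) is bijective whenever A₂ →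
A is surjective; (b) its tangent space is finite-dimensional; and (c) the map from morphisms k →
k[ε] of the category (the Λ-derivations of k) to the tangent space, σ ↦ F(σ)(x₀), is injective.
Condition (c) is empty when k is separable over the image of Λ in k. -/
theorem result {Λ : Type u} {k : Type u} [CommRing Λ] [Field k] [Algebra Λ k]
    [IsNoetherianRing Λ] [Module.Finite Λ k]
    (F : ArtFun.Art Λ k ⥤ Type v) [ArtFun.TangentStr F] :
    ArtFun.IsProrepresentable F ↔
      ((ArtFun.H0 F ∧ (∀ ⦃B A A' A'' : ArtFun.Art Λ k⦄ (p' : B ⟶ A') (p'' : B ⟶ A'') (f' : A' ⟶ A) (f'' : A'' ⟶ A)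
        (h : ArtFun.Art.IsFibreProd p' p'' f' f''), Function.Surjective f'' → Function.Bijective (ArtFun.cmp F h))) ∧
        ArtFun.Hfin F ∧
        ∀ x₀ : F.obj (ArtFun.Art.base Λ k),
          Function.Injective (fun σ : ArtFun.Art.base Λ k ⟶ ArtFun.Art.dual Λ k => F.map σ x₀)) := by
  open Groth.Agent.ArtFunLib ArtFun ArtFun.Art ArtFun.CRing in
  constructor
  · rintro ⟨⟨R, ξ, hu⟩⟩
    have hv : IsVersal ξ := fun B A μ hμ φ y hy => by
      obtain ⟨ψ, hψ⟩ := (hu B).2 y
      exact ⟨ψ, (hu A).1 (by rw [ξ.natural, hψ, hy]), hψ⟩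
    have h0 : H0 F := h0_of_surjective (hu _).2
    have hull : HasHull F := ⟨⟨R, ξ, hv, hu _⟩⟩
    refine ⟨⟨h0, fun B A A' A'' p' p'' f' f'' hP hf => ?_⟩,
      (Groth.Agent.S12731.result F h0 hull).2.2, fun x₀ σ τ h => ?_⟩
    · refine ⟨cmp_injective fun z z' h₁ h₂ => ?_, (Groth.Agent.S12731.result F h0 hull).1 p' p'' f' f'' hP hf⟩
      obtain ⟨φ, rfl⟩ := (hu B).2 z
      obtain ⟨φ', rfl⟩ := (hu B).2 z'
      refine congrArg _ (Subtype.ext (AlgHom.ext fun r => hP.inj _ _ ?_ ?_))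
      · exact DFunLike.congr_fun (congrArg Subtype.val ((hu A').1 (a₁ := HomSet.map p' φ)
          (a₂ := HomSet.map p' φ') (by rw [ξ.natural, ξ.natural, h₁]))) r
      · exact DFunLike.congr_fun (congrArg Subtype.val ((hu A'').1 (a₁ := HomSet.map p'' φ)
          (a₂ := HomSet.map p'' φ') (by rw [ξ.natural, ξ.natural, h₂]))) r
    · obtain ⟨φ₀, rfl⟩ := (hu _).2 x₀
      have e : HomSet.map σ φ₀ = HomSet.map τ φ₀ := (hu _).1 (by rw [ξ.natural, ξ.natural]; exact h)
      exact homSet_cancel φ₀ (fun c => (R.res_surjective c).imp fun r hr =>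
        (homSet_res φ₀ r).trans hr) e
  · rintro ⟨⟨h0, hrs⟩, h3, hc⟩
    obtain ⟨⟨R, ξ, hm⟩⟩ := exists_hull h0 (fun B A A' A'' p' p'' f' f'' hP hf => (hrs p' p'' f' f'' hP hf).2)
      (heps_of_rs hrs) h3 hc
    exact ⟨⟨R, ξ, isUniversal_of_miniversal hm h0 hrs⟩⟩

end Groth.Agent.S12734
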