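import Groth.Statements.S12248
import Groth.Agent.ArtFunLib.Criteria
import Groth.Agent.ArtFunLib.Trunc
import Groth.Agent.ArtFunLib.Separable
import Groth.Agent.ArtFunLib.Tangent
import Groth.Agent.S12734
import Mathlib

set_option autoImplicit false
universe u v
open CategoryTheory
open Deform

namespace Groth.Agent.S12248

/-- Let k be an algebraically closed field, Λ a complete local Noetherian k-algebra with residue field
k, and F a set-valued functor on local Artinian Λ-algebras with residue field k such that F(k) is a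
single point, with its k-vector-space structure on F(k[ε]) given as data compatible with ε ↦ cε and
(ε₁, ε₂) ↦ (ε, ε). Then F is prorepresentable (by a complete local Noetherian Λ-algebra with residue
field k) if and only if: the comparison map F(A' ×_A A'') → F(A') ×_{F(A)} F(A'') is surjective
whenever A'' → A is a small extension; it is bijective whenever A = k and A'' = k[ε]; F(k[ε]) is
finite-dimensional; and the comparison map F(A' ×_A A') → F(A') ×_{F(A)} F(A') is bijective for
every small extension A' → A. -/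
theorem result
    {k Λ : Type u} [Field k] [IsAlgClosed k] [CommRing Λ] [IsLocalRing Λ] [IsNoetherianRing Λ]
    [IsAdicComplete (IsLocalRing.maximalIdeal Λ) Λ] [Algebra k Λ] [Algebra Λ k] [IsScalarTower k Λ k]
    (F : ArtFun.Art Λ k ⥤ Type v) [ArtFun.TangentStr F] (h0 : ArtFun.H0 F) :
    ArtFun.IsProrepresentable F ↔
      (ArtFun.Hbar F ∧ ArtFun.Heps F ∧ ArtFun.Hfin F ∧ ArtFun.HSq F) := by
  open Groth.Agent.ArtFunLib ArtFun ArtFun.Art ArtFun.CRing in
  have hk : Function.Surjective (algebraMap Λ k) := fun c =>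
    ⟨algebraMap k Λ c, (IsScalarTower.algebraMap_apply k Λ k c).symm.trans (by simp)⟩
  haveI : Module.Finite Λ k := Module.Finite.of_surjective (Algebra.linearMap Λ k) hk
  have hD : Subsingleton (Derivation Λ k k) := ⟨fun D D' => Derivation.ext fun x => by
    obtain ⟨r, rfl⟩ := hk x
    rw [D.map_algebraMap, D'.map_algebraMap]⟩
  have := subsingleton_base_dual hD
  have hfwd : IsProrepresentable F → ArtFun.IsLeftExact F ∧ Hfin F := fun hp => by
    have h34 := (Groth.Agent.S12734.result F).mp hp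
    obtain ⟨⟨R, ξ, hu⟩⟩ := hp
    refine ⟨fun B A A' A'' p' p'' f' f'' hP => ⟨cmp_injective fun z z' h₁ h₂ => ?_, cmp_surjective fun x y hxy => ?_⟩, h34.2.1⟩
    · obtain ⟨φ, rfl⟩ := (hu B).2 z
      obtain ⟨φ', rfl⟩ := (hu B).2 z'
      refine congrArg _ (Subtype.ext (AlgHom.ext fun r => hP.inj _ _ ?_ ?_))
      · exact DFunLike.congr_fun (congrArg Subtype.val ((hu A').1 (a₁ := HomSet.map p' φ)
          (a₂ := HomSet.map p' φ') (by rw [ξ.natural, ξ.natural, h₁]))) r
      · exact DFunLike.congr_fun (congrArg Subtype.val ((hu A'').1 (a₁ := HomSet.map p'' φ)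
          (a₂ := HomSet.map p'' φ') (by rw [ξ.natural, ξ.natural, h₂]))) r
    · obtain ⟨φ, rfl⟩ := (hu A').2 x
      obtain ⟨φ', rfl⟩ := (hu A'').2 y
      obtain ⟨χ, h₁, h₂⟩ := exists_homSet_lift hP (g₁ := φ) (g₂ := φ')
        ((hu A).1 (by rw [ξ.natural, ξ.natural, hxy]))
      exact ⟨ξ.app B χ, by rw [← ξ.natural, h₁], by rw [← ξ.natural, h₂]⟩
  have hbwd : Hbar F → Heps F → Hfin F → HSq F → IsProrepresentable F := fun hb he hf hs => by
    obtain ⟨⟨R, ξ, hm⟩⟩ := exists_hull h0 (s1_of_hbar hb) he hf fun x₀ σ τ _ => Subsingleton.elim σ τ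
    exact ⟨⟨R, ξ, isUniversal_of_miniversal_hsq hm h0 hs⟩⟩
  constructor
  · intro hp
    obtain ⟨hl, hf⟩ := hfwd hp
    exact ⟨fun B A A' A'' p' p'' f' f'' h _ => (hl p' p'' f' f'' h).2, fun B A' p' p'' h => hl p' p'' _ _ h, hf,
      fun B A A' p₁ p₂ f h _ => hl p₁ p₂ f f h⟩
  · rintro ⟨hb, he, hf, hs⟩
    exact hbwd hb he hf hs

end Groth.Agent.S12248
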