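import Groth.Statements.S15131
import Groth.Agent.ArtFunLib.Criteria
import Groth.Agent.ArtFunLib.Split
import Mathlib

set_option autoImplicit false
universe u v
open CategoryTheory
open ArtFun

namespace Groth.Agent.S15131

/-- Let k be a field and F a functor on local Artinian k-algebras with residue field k with F(k) a
single point, satisfying (H1) (the comparison map of A₁ ×_A A₂ is surjective when A₂ → A is a small
extension) and (H2) (it is bijective when A = k and A₂ = k[ε]). If the tangent space F(k[ε]) is a
single point then F is the one-point functor: every F(A) has exactly one element. (The converse is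
clear.) -/
theorem result
    {k : Type u} [Field k] (F : ArtFun.Art k k ⥤ Type v)
    (h0 : ArtFun.H0 F) (h1 : ArtFun.Hbar F) (h2 : ArtFun.Heps F)
    (ht : Subsingleton (ArtFun.TangentSpace F)) (A : ArtFun.Art k k) :
    Nonempty (F.obj A) ∧ Subsingleton (F.obj A) := by
  open Groth.Agent.ArtFunLib ArtFun ArtFun.Art in
  let e : base k k ⟶ A := ⟨Algebra.ofId k A, Subsingleton.elim (α := k →ₐ[k] k) _ _⟩
  refine ⟨h0.1.map (F.map e), ?_⟩
  let φ : F ⟶ (CategoryTheory.Functor.const (Art k k)).obj PUnit.{v + 1} :=
    { app := fun _ => ↾fun _ => PUnit.unit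
      naturality := fun _ _ _ => rfl }
  have := app_injective_of_tangent φ h0 h1 h2
    (fun B A A' p₁ p₂ f hP _ => ⟨fun _ _ _ => Subsingleton.elim (α := PUnit.{v + 1}) _ _,
      fun w => ⟨PUnit.unit, FibProd.ext (Subsingleton.elim (α := PUnit.{v + 1}) _ _)
        (Subsingleton.elim (α := PUnit.{v + 1}) _ _)⟩⟩)
    (fun x y _ => ht.elim x y) A
  exact ⟨fun x y => this rfl⟩

end Groth.Agent.S15131
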