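import Groth.Statements.S12252
import Groth.Agent.ArtFunLib.Criteria
import Groth.Agent.ArtFunLib.Trunc
import Groth.Agent.ArtFunLib.Separable
import Mathlib

set_option autoImplicit false
universe u v
open CategoryTheory
open Deform

namespace Groth.Agent.S12252

/-- Let k be an algebraically closed field, Λ a complete local Noetherian k-algebra with residue field k
and F a set-valued functor on local Artinian Λ-algebras with residue field k. If (R, u) and (S, v)
both prorepresent F (complete local Noetherian Λ-algebras with residue field k carrying universal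
families), then there is a unique isomorphism of Λ-algebras R ≅ S, compatible with the augmentations
to k, along which the universal family of R is transported to that of S. -/
theorem result
    {k Λ : Type u} [Field k] [IsAlgClosed k] [CommRing Λ] [IsLocalRing Λ] [IsNoetherianRing Λ]
    [IsAdicComplete (IsLocalRing.maximalIdeal Λ) Λ] [Algebra k Λ] [Algebra Λ k] [IsScalarTower k Λ k]
    {F : ArtFun.Art Λ k ⥤ Type v} (P Q : ArtFun.ProRep F) :
    ∃! e : P.ring.carrier ≃ₐ[Λ] Q.ring.carrier,
      ∃ he : Q.ring.res.comp e.toAlgHom = P.ring.res, P.family.along e.toAlgHom he = Q.family := by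
  open Groth.Agent.ArtFunLib ArtFun ArtFun.Art ArtFun.CRing in
  have hext : ∀ {T : Type u} [CommRing T] [Algebra Λ T] (R : CRing Λ k) (g g' : T →ₐ[Λ] R.carrier),
      (∀ n x, Ideal.Quotient.mk (mpow R n) (g x) = Ideal.Quotient.mk (mpow R n) (g' x)) → g = g' := by
    intro T _ _ R g g' h
    have := R.isAdicComplete
    refine IsAdicComplete.algHom_ext (IsLocalRing.maximalIdeal R.carrier) fun n => AlgHom.ext fun x => ?_
    exact Ideal.Quotient.eq.mpr (Ideal.pow_le_pow_right n.le_succ (Ideal.Quotient.eq.mp (h n x)))
  have mkg : ∀ X Y : ProRep F, ∃ g : X.ring.carrier →ₐ[Λ] Y.ring.carrier,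
      ∃ hg : Y.ring.res.comp g = X.ring.res, X.family.along g hg = Y.family := by
    intro X Y
    choose φ hφ using fun n => (X.universal (Y.ring.trunc n)).2 (Y.family.app _ (Y.ring.truncHom n))
    obtain ⟨g, hg, hmk⟩ := exists_algHom_of_trunc φ fun n => (X.universal _).1 (by
      rw [X.family.natural, hφ, hφ, ← Y.family.natural, truncMap_truncHom])
    refine ⟨g, hg, (toFormalElt_bijective Y.ring F).1 (FormalElt.ext' fun n => ?_)⟩
    exact (congrArg (X.family.app _) (Subtype.ext (AlgHom.ext fun x => hmk n x))).trans (hφ n)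
  have huniq : ∀ (X : ProRep F) (R : CRing Λ k) (g g' : X.ring.carrier →ₐ[Λ] R.carrier)
      (hg : R.res.comp g = X.ring.res) (hg' : R.res.comp g' = X.ring.res),
      X.family.along g hg = X.family.along g' hg' → g = g' := by
    intro X R g g' hg hg' h
    refine hext R g g' fun n x => ?_
    have h1 := congrArg (fun η : Family R.carrier R.res F => η.app _ (R.truncHom n)) h
    exact DFunLike.congr_fun (congrArg Subtype.val ((X.universal _).1 h1)) x
  obtain ⟨g, hg, hgP⟩ := mkg P Q
  obtain ⟨g', hg', hgQ⟩ := mkg Q P
  have hid : ∀ (X Y : ProRep F) (a : X.ring.carrier →ₐ[Λ] Y.ring.carrier)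
      (b : Y.ring.carrier →ₐ[Λ] X.ring.carrier) (ha : Y.ring.res.comp a = X.ring.res)
      (hb : X.ring.res.comp b = Y.ring.res), X.family.along a ha = Y.family →
      Y.family.along b hb = X.family → b.comp a = AlgHom.id Λ _ := by
    intro X Y a b ha hb hX hY
    refine huniq X X.ring _ _ (by rw [← AlgHom.comp_assoc, hb, ha]) (AlgHom.comp_id _) ?_
    rw [show X.family.along (AlgHom.id Λ _) (AlgHom.comp_id _) = X.family from rfl]
    exact ((congrArg (fun η => Family.along η b hb) hX).trans hY)
  refine ⟨AlgEquiv.ofAlgHom g g' (hid Q P g' g hg' hg hgQ hgP) (hid P Q g g' hg hg' hgP hgQ),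
    ⟨hg, hgP⟩, ?_⟩
  rintro e ⟨he, heP⟩
  apply AlgEquiv.ext
  intro x
  exact DFunLike.congr_fun (huniq P Q.ring e.toAlgHom g he hg (heP.trans hgP.symm)) x

end Groth.Agent.S12252
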