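import Groth.Statements.S12254
import Groth.Agent.DefAut.Auto

set_option autoImplicit false
universe u
open CategoryTheory CategoryTheory.Limits AlgebraicGeometry
open Deform

namespace Groth.Agent.S12254

/-- Let k be an algebraically closed field and X a projective k-scheme, given with a closed immersion
into some P^n_k over k. Then the space of infinitesimal automorphisms H^0(X, T_X) =
Hom_{O_X}(Ω_{X/k}, O_X) vanishes if and only if, for every local Artinian k-algebra A with residue
field k and every deformation of X over A (a scheme flat over Spec A together with a morphism from X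
identifying X with the closed fibre), the only automorphism of the total space over Spec A
compatible with the inclusion of X is the identity. -/
theorem result
    {k : Type u} [Field k] [IsAlgClosed k] (X : Scheme.{u}) (x : X ⟶ Spec (CommRingCat.of k))
    [LocallyOfFiniteType x] [IsSeparated x] [QuasiCompact x]
    (hproj : ∃ (n : ℕ) (c : X ⟶ CohB1.ProjSpaceOver n (Spec (CommRingCat.of k))),
      IsClosedImmersion c ∧ c ≫ CohB1.ProjSpaceOver.toBase n (Spec (CommRingCat.of k)) = x) :
    Subsingleton (Omega.sheaf x ⟶ Coh.structureModule X) ↔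
      ∀ (A : ArtFun.Art k k) (ξ : ArtFun.DefSch X x A) (e : ξ.Iso ξ), e.iso.hom = 𝟙 ξ.total := by
  have hu := Groth.Agent.ConormalSection.isUniversal_dOmega x
  constructor
  · intro hs A ξ e
    refine Groth.Agent.DefAut.auto_eq_id (fun δ U s => ?_) ξ e
    obtain ⟨α, hα⟩ := Groth.Agent.OmegaUniv.exists_lift hu δ
    rw [← hα, Subsingleton.elim α 0]
    rfl
  · intro h
    have h0 : ∀ (δ : OmegaSh.Der x (Coh.structureModule X)) (U : X.Opens) (s : Γ(X, U)), δ.app U s = 0 := by
      intro δ U s
      change Groth.Agent.DefAut.val δ U s = 0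
      refine Groth.Agent.DefAut.eq_of_res_eq (W := fun V : X.affineOpens => V.1) (fun p hp => ?_) fun V hV => ?_
      · obtain ⟨V, hV, hpV, hVU⟩ := exists_isAffineOpen_mem_and_subset hp
        exact ⟨⟨V, hV⟩, hpV, hVU⟩
      · rw [← Groth.Agent.DefAut.val_res, Groth.Agent.DefAut.val_eq_zero_of_rigid δ h V.1 V.2, map_zero]
    exact ⟨fun α β => Groth.Agent.OmegaUniv.hom_ext hu fun U s => by
      rw [← Groth.Agent.OmegaUniv.app_postcomp, ← Groth.Agent.OmegaUniv.app_postcomp, h0, h0]⟩

end Groth.Agent.S12254
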