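import Groth.Statements.S12255
import Groth.Agent.S12307
import Groth.Agent.S12309
import Groth.Agent.DefAut.Auto
import Groth.Agent.MultMap.Finite

set_option autoImplicit false
universe u
open CategoryTheory CategoryTheory.Limits AlgebraicGeometry
open Deform

namespace Groth.Agent.S12255

/-- Let k be an algebraically closed field and X a projective k-scheme, given with a closed immersion
into some P^n_k over k, such that H^0(X, T_X) = Hom_{O_X}(Ω_{X/k}, O_X) = 0 (no infinitesimal
automorphisms). Then the local moduli functor Def_X, of isomorphism classes of deformations of X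
over local Artinian k-algebras with residue field k, is prorepresentable by a complete local
Noetherian k-algebra with residue field k. -/
theorem result
    {k : Type u} [Field k] [IsAlgClosed k] (X : Scheme.{u}) (x : X ⟶ Spec (CommRingCat.of k))
    [LocallyOfFiniteType x] [IsSeparated x] [QuasiCompact x]
    (hproj : ∃ (n : ℕ) (c : X ⟶ CohB1.ProjSpaceOver n (Spec (CommRingCat.of k))),
      IsClosedImmersion c ∧ c ≫ CohB1.ProjSpaceOver.toBase n (Spec (CommRingCat.of k)) = x)
    (h0 : Subsingleton (Omega.sheaf x ⟶ Coh.structureModule X)) :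
    ArtFun.IsProrepresentable (ArtFun.defFunctor (Λ := k) X x) := by
  obtain ⟨n, c, hc, hcx⟩ := hproj
  have := Groth.Agent.MultMap.isProper_toSpec n (ULift.{u} ℤ)
  have : IsProper (CohB1.ProjSpaceOver.toBase n (Spec (CommRingCat.of k))) :=
    MorphismProperty.pullback_snd _ _ (Groth.Agent.MultMap.isProper_toSpec n (ULift.{u} ℤ))
  have : IsProper x := hcx ▸ inferInstance
  have hk : Function.Surjective (algebraMap k k) := fun a => ⟨a, rfl⟩
  refine (Groth.Agent.S12309.result k k hk X x (Groth.Agent.S12307.result k k hk X x)).2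
    fun A' A p _ ξ' e => ⟨ArtFun.DefSch.Iso.refl ξ', ?_⟩
  have hu := Groth.Agent.ConormalSection.isUniversal_dOmega x
  have hrig : ∀ (B : ArtFun.Art k k) (η : ArtFun.DefSch X x B) (θ θ' : η.Iso η), θ = θ' := by
    intro B η θ θ'
    have h : ∀ θ : η.Iso η, θ.iso.hom = 𝟙 η.total := fun θ => by
      refine Groth.Agent.DefAut.auto_eq_id (fun δ U s => ?_) η θ
      obtain ⟨α, hα⟩ := Groth.Agent.OmegaUniv.exists_lift hu δ
      rw [← hα, Subsingleton.elim α 0]
      rfl
    have h2 := (h θ).trans (h θ').symm
    obtain ⟨i, _, _⟩ := θ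
    obtain ⟨i', _, _⟩ := θ'
    obtain rfl : i = i' := Iso.ext h2
    rfl
  exact hrig _ _ _ _

end Groth.Agent.S12255
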