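import Groth.Statements.S12256
import Groth.Agent.NodeDef.Family
import Mathlib.RingTheory.AdjoinRoot
import Mathlib.RingTheory.LocalRing.Pullback

set_option autoImplicit false
universe u
open CategoryTheory CategoryTheory.Limits AlgebraicGeometry
open Deform

namespace Groth.Agent.S12256
open ArtFun Groth.Agent.NodeDef

variable {k : Type u} [Field k]

abbrev T3 (k : Type u) [Field k] : Type u := AdjoinRoot ((Polynomial.X : Polynomial k) ^ 3)

theorem root_pow_three : (AdjoinRoot.root ((Polynomial.X : Polynomial k) ^ 3)) ^ 3 = 0 := by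
  have := AdjoinRoot.eval₂_root ((Polynomial.X : Polynomial k) ^ 3)
  simpa using this

noncomputable def resE (k : Type u) [Field k] : T3 k →ₐ[k] k :=
  AdjoinRoot.liftAlgHom _ (Algebra.ofId k k) 0 (by simp)

theorem resE_root : resE k (AdjoinRoot.root _) = 0 := by simp [resE]

theorem exists_decomp (e : T3 k) :
    ∃ w : T3 k, e = algebraMap k _ (resE k e) + AdjoinRoot.root _ * w := by
  induction e using AdjoinRoot.induction_on with
  | ih p =>
    refine ⟨AdjoinRoot.mk _ p.divX, ?_⟩
    have h : resE k (AdjoinRoot.mk _ p) = p.coeff 0 := by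
      simp [resE, Polynomial.coeff_zero_eq_eval_zero]
    rw [h]
    conv_lhs => rw [← p.X_mul_divX_add]
    rw [map_add, map_mul, AdjoinRoot.mk_X, AdjoinRoot.mk_C, AdjoinRoot.algebraMap_eq, add_comm]

theorem isNilpotent_of_resE (e : T3 k) (h : resE k e = 0) : IsNilpotent e := by
  obtain ⟨w, hw⟩ := exists_decomp e
  rw [hw, h, map_zero, zero_add]
  exact ⟨3, by rw [mul_pow, root_pow_three, zero_mul]⟩

theorem isLocalRing_T3 : IsLocalRing (T3 k) := by
  have : Nontrivial (T3 k) := RingHom.domain_nontrivial (resE k).toRingHom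
  refine IsLocalRing.of_isUnit_or_isUnit_one_sub_self fun a => ?_
  rcases eq_or_ne (resE k a) 0 with h | h
  · exact Or.inr (isNilpotent_of_resE a h).isUnit_one_sub
  · left
    obtain ⟨w, hw⟩ := exists_decomp a
    rw [hw]
    exact IsNilpotent.isUnit_add_left_of_commute
      ⟨3, by rw [mul_pow, root_pow_three, zero_mul]⟩
      ((Ne.isUnit h).map _) (Commute.all _ _)

noncomputable def E (k : Type u) [Field k] : Art k k :=
  haveI : IsLocalRing (T3 k) := isLocalRing_T3
  haveI : Module.Finite k (T3 k) := (Polynomial.monic_X_pow 3).finite_adjoinRoot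
  haveI : IsArtinianRing (T3 k) := IsArtinianRing.of_finite k _
  Art.of (T3 k) (resE k) (fun c => ⟨algebraMap k _ c, (resE k).commutes c⟩)

/-- The fibre product `k[t]/t³ ×_k k[ε]`. -/
noncomputable abbrev BS (k : Type u) [Field k] : Subalgebra k (T3 k × DualNumber k) :=
  AlgHom.pullback (resE k) (TrivSqZeroExt.fstHom k k k)

theorem mem_BS {x : T3 k × DualNumber k} : x ∈ BS k ↔ resE k x.1 = x.2.fst := Iff.rfl

theorem isLocalRing_BS : IsLocalRing (BS k) := by
  have : Nontrivial (BS k) := ⟨⟨0, 1, zero_ne_one⟩⟩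
  refine IsLocalRing.of_isUnit_or_isUnit_one_sub_self fun a => ?_
  have key : ∀ b : BS k, resE k b.1.1 = 0 → IsNilpotent b := by
    rintro ⟨⟨e, d⟩, hb⟩ h
    obtain ⟨n, hn⟩ := isNilpotent_of_resE e h
    refine ⟨n + 2, Subtype.ext (Prod.ext ?_ ?_)⟩
    · change e ^ (n + 2) = 0
      rw [pow_add, hn, zero_mul]
    · change d ^ (n + 2) = 0
      have hd : d.fst = 0 := (mem_BS.1 hb).symm.trans h
      rw [pow_add]
      refine mul_eq_zero_of_right _ ?_
      rw [pow_two]
      ext <;> simp [hd]
  rcases eq_or_ne (resE k a.1.1) 0 with h | h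
  · exact Or.inr (key a h).isUnit_one_sub
  · left
    have h2 : IsNilpotent (a - algebraMap k (BS k) (resE k a.1.1)) := key _ (by
      change resE k (a.1.1 - algebraMap k _ (resE k a.1.1)) = 0
      rw [map_sub, AlgHom.commutes]
      exact sub_self _)
    have := h2.isUnit_add_left_of_commute ((Ne.isUnit h).map (algebraMap k (BS k))) (Commute.all _ _)
    rwa [add_sub_cancel] at this

noncomputable def resB (k : Type u) [Field k] : BS k →ₐ[k] k :=
  ((resE k).comp (AlgHom.fst k (T3 k) (DualNumber k))).comp (BS k).val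

noncomputable def B (k : Type u) [Field k] : Art k k :=
  haveI : IsLocalRing (BS k) := isLocalRing_BS
  haveI : Module.Finite k (T3 k) := (Polynomial.monic_X_pow 3).finite_adjoinRoot
  haveI : Module.Finite k (DualNumber k) := inferInstanceAs (Module.Finite k (k × k))
  haveI : FiniteDimensional k (BS k) := FiniteDimensional.finiteDimensional_submodule (BS k).toSubmodule
  haveI : IsArtinianRing (BS k) := IsArtinianRing.of_finite k _
  Art.of (BS k) (resB k) (fun c => ⟨algebraMap k _ c, (resB k).commutes c⟩)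

theorem mul_root_sq (e : T3 k) :
    e * AdjoinRoot.root _ ^ 2 = resE k e • AdjoinRoot.root ((Polynomial.X : Polynomial k) ^ 3) ^ 2 := by
  obtain ⟨w, hw⟩ := exists_decomp e
  conv_lhs => rw [hw]
  rw [add_mul, Algebra.smul_def, mul_comm (AdjoinRoot.root _) w, mul_assoc, ← pow_succ',
    root_pow_three, mul_zero, add_zero]

theorem root_sq_ne_zero : AdjoinRoot.root ((Polynomial.X : Polynomial k) ^ 3) ^ 2 ≠ 0 := by
  rw [← AdjoinRoot.mk_X, ← map_pow, Ne, AdjoinRoot.mk_eq_zero]
  intro h
  have := Polynomial.natDegree_le_of_dvd h (pow_ne_zero _ Polynomial.X_ne_zero)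
  simp at this

noncomputable def g0 (k : Type u) [Field k] : B k ⟶ E k :=
  Art.homMk ((AlgHom.fst k (T3 k) (DualNumber k)).comp (BS k).val) rfl

noncomputable def gAlg (k : Type u) [Field k] : BS k →ₐ[k] T3 k :=
  AlgHom.ofLinearMap
    { toFun := fun b => b.1.1 + b.1.2.snd • AdjoinRoot.root _ ^ 2
      map_add' := fun a b => by simp [add_smul]; abel
      map_smul' := fun c b => by simp [smul_add, smul_smul] }
    (by simp)
    (fun a b => by
      have ha : resE k a.1.1 = a.1.2.fst := a.2
      have hb : resE k b.1.1 = b.1.2.fst := b.2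
      have h4 : (AdjoinRoot.root ((Polynomial.X : Polynomial k) ^ 3)) ^ 2 *
          AdjoinRoot.root _ ^ 2 = 0 := by
        rw [← pow_add]
        exact pow_eq_zero_of_le (by norm_num) root_pow_three
      simp only [LinearMap.coe_mk, AddHom.coe_mk, Subalgebra.coe_mul, Prod.fst_mul, Prod.snd_mul,
        DualNumber.snd_mul, add_smul, add_mul, mul_add, smul_mul_assoc, mul_smul_comm, h4,
        smul_zero, add_zero]
      rw [mul_comm (AdjoinRoot.root _ ^ 2) b.1.1, mul_root_sq, mul_root_sq, ha, hb, smul_smul,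
        smul_smul, mul_comm a.1.2.fst b.1.2.snd]
      abel)

noncomputable def g (k : Type u) [Field k] : B k ⟶ E k :=
  Art.homMk (gAlg k) (AlgHom.ext fun b => by
    change resE k ((b : BS k).1.1 + (b : BS k).1.2.snd • AdjoinRoot.root _ ^ 2) = resE k (b : BS k).1.1
    rw [map_add, map_smul, map_pow, resE_root]
    simp)

noncomputable def prD (k : Type u) [Field k] : B k ⟶ Art.dual k k :=
  Art.homMk ((AlgHom.snd k (T3 k) (DualNumber k)).comp (BS k).val)
    (AlgHom.ext fun b => (b.2 : resE k b.1.1 = b.1.2.fst).symm)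

theorem eq_of_g_eq {b : BS k} (h : gAlg k b = b.1.1) : b.1.2 = TrivSqZeroExt.inl (resE k b.1.1) := by
  have h1 : b.1.2.snd • AdjoinRoot.root ((Polynomial.X : Polynomial k) ^ 3) ^ 2 = 0 := by
    have : b.1.1 + b.1.2.snd • AdjoinRoot.root ((Polynomial.X : Polynomial k) ^ 3) ^ 2 = b.1.1 := h
    simpa using this
  ext
  · exact (b.2 : resE k b.1.1 = b.1.2.fst).symm
  · exact (smul_eq_zero.1 h1).resolve_right root_sq_ne_zero

set_option backward.isDefEq.respectTransparency false in
/-- The first-order deformations `xy = ε` and `xy = 0` of the node differ. -/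
theorem dcl_eps_ne (h1 : (Art.dual k k).res (DualNumber.eps : DualNumber k) = 0)
    (h0 : (Art.dual k k).res 0 = 0) :
    dcl (Art.dual k k) (DualNumber.eps : DualNumber k) h1 ≠ dcl (Art.dual k k) 0 h0 := by
  intro h
  obtain ⟨ψ, hψ, hq⟩ := exists_map_of_dcl_eq (Art.dual k k) _ _ h1 h0 h
  set εi : DualNumber (DualNumber k) := TrivSqZeroExt.inl DualNumber.eps with hεi
  set εo : DualNumber (DualNumber k) := DualNumber.eps with hεo
  have hcomm : ∀ u v : DualNumber (DualNumber k), u * v = v * u := fun u v => mul_comm u v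
  let σ : DualNumber k →ₐ[k] DualNumber (DualNumber k) :=
    DualNumber.lift ⟨(Algebra.ofId k _, εi * εo), by
      ext <;> simp [εi, εo], fun a => hcomm _ _⟩
  have hσ : σ DualNumber.eps = εi * εo := by simp [σ, DualNumber.lift_apply_apply]
  let σR : Art.dual k k →+* DualNumber (DualNumber k) :=
    { toFun := fun d => σ d
      map_one' := map_one σ
      map_mul' := map_mul σ
      map_zero' := map_zero σ
      map_add' := map_add σ }
  obtain ⟨χ, hχ, hχx, hχy⟩ :=
    (isNode_D (B := Art.dual k k) (DualNumber.eps : DualNumber k)).exists_lift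
      (T := DualNumber (DualNumber k)) σR εi εo hσ.symm
  have hzero : χ (ψ (dX _ 0)) * χ (ψ (dX _ 1)) = 0 := by
    rw [← map_mul, ← map_mul]
    exact (congrArg (χ.comp ψ) ((isNode_D (B := Art.dual k k) 0).rel.trans (map_zero _))).trans
      (map_zero _)
  obtain ⟨m1, hm1, hm1x, hm1y⟩ := (isNode_B0 k).exists_lift
    (algebraMap k (DualNumber k)) DualNumber.eps 0 (by simp)
  obtain ⟨m2, hm2, hm2x, hm2y⟩ := (isNode_B0 k).exists_lift
    (algebraMap k (DualNumber k)) 0 DualNumber.eps (by simp)
  let P1 : DualNumber (DualNumber k) →+* DualNumber k :=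
    (TrivSqZeroExt.fstHom k (DualNumber k) (DualNumber k)).toRingHom
  let P2 : DualNumber (DualNumber k) →+* DualNumber k :=
    { toFun := fun z => (⟨z.fst.fst, z.snd.fst⟩ : DualNumber k)
      map_one' := by ext <;> simp
      map_mul' := fun z z' => by ext <;> simp
      map_zero' := by ext <;> simp
      map_add' := fun z z' => by ext <;> simp }
  have e1 : P1.comp χ = m1.comp (q (Art.dual k k) _ h1) := by
    apply (isNode_D _).ext
    · rw [RingHom.comp_assoc, hχ, RingHom.comp_assoc, (q_spec _ _ h1).1, ← RingHom.comp_assoc, hm1]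
      refine RingHom.ext fun (d : DualNumber k) => ?_
      change (σ d).fst = algebraMap k (DualNumber k) d.fst
      ext <;> simp [σ, εi, εo, DualNumber.lift_apply_apply, TrivSqZeroExt.algebraMap_eq_inl'] <;> rfl
    · rw [RingHom.comp_apply, hχx, RingHom.comp_apply, (q_spec _ _ h1).2.1, hm1x]
      rfl
    · rw [RingHom.comp_apply, hχy, RingHom.comp_apply, (q_spec _ _ h1).2.2, hm1y]
      rfl
  have e2 : P2.comp χ = m2.comp (q (Art.dual k k) _ h1) := by
    apply (isNode_D _).ext
    · rw [RingHom.comp_assoc, hχ, RingHom.comp_assoc, (q_spec _ _ h1).1, ← RingHom.comp_assoc, hm2]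
      refine RingHom.ext fun (d : DualNumber k) => ?_
      change (⟨(σ d).fst.fst, (σ d).snd.fst⟩ : DualNumber k) = algebraMap k (DualNumber k) d.fst
      ext <;> simp [σ, εi, εo, DualNumber.lift_apply_apply, TrivSqZeroExt.algebraMap_eq_inl'] <;> rfl
    · rw [RingHom.comp_apply, hχx, RingHom.comp_apply, (q_spec _ _ h1).2.1, hm2x]
      ext <;> simp [P2, εi]
    · rw [RingHom.comp_apply, hχy, RingHom.comp_apply, (q_spec _ _ h1).2.2, hm2y]
      ext <;> simp [P2, εo]
  have qx : P1 (χ (ψ (dX _ 0))) = DualNumber.eps :=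
    (RingHom.congr_fun e1 _).trans
      ((congrArg m1 ((RingHom.congr_fun hq _).trans (q_spec _ _ h0).2.1)).trans hm1x)
  have qy : P1 (χ (ψ (dX _ 1))) = 0 :=
    (RingHom.congr_fun e1 _).trans
      ((congrArg m1 ((RingHom.congr_fun hq _).trans (q_spec _ _ h0).2.2)).trans hm1y)
  have qy2 : P2 (χ (ψ (dX _ 1))) = DualNumber.eps :=
    (RingHom.congr_fun e2 _).trans
      ((congrArg m2 ((RingHom.congr_fun hq _).trans (q_spec _ _ h0).2.2)).trans hm2y)
  generalize χ (ψ (dX _ 0)) = U at hzero qx
  generalize χ (ψ (dX _ 1)) = V at hzero qy qy2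
  have hV : V.snd.fst = 1 := by simpa [P2] using congrArg TrivSqZeroExt.snd qy2
  have hUV := congrArg (fun z => TrivSqZeroExt.snd (TrivSqZeroExt.snd z)) hzero
  change U.fst = _ at qx
  change V.fst = _ at qy
  simp [qx, qy, hV] at hUV

/-- Let k be an algebraically closed field and C = Spec k[x, y]/(xy) the union of the two coordinate
axes in the affine plane. Then the local moduli functor Def_C, of isomorphism classes of
deformations of C over local Artinian k-algebras with residue field k, is not prorepresentable by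
any complete local Noetherian k-algebra with residue field k. -/
theorem result
    {k : Type u} [Field k] [IsAlgClosed k] :
    ¬ ArtFun.IsProrepresentable (ArtFun.defFunctor (Λ := k)
      (Spec (CommRingCat.of (MvPolynomial (Fin 2) k ⧸
        Ideal.span {(MvPolynomial.X 0 * MvPolynomial.X 1 : MvPolynomial (Fin 2) k)})))
      (Spec.map (CommRingCat.ofHom (algebraMap k (MvPolynomial (Fin 2) k ⧸
        Ideal.span {(MvPolynomial.X 0 * MvPolynomial.X 1 : MvPolynomial (Fin 2) k)}))))) := by
  rintro ⟨⟨R, ξ, hξ⟩⟩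
  have hsub : ∀ φ ψ : HomSet R.carrier R.res (Art.base k k), φ = ψ := fun φ ψ =>
    Subtype.ext (((AlgHom.id_comp φ.1).symm.trans φ.2).trans
      ((AlgHom.id_comp ψ.1).symm.trans ψ.2).symm)
  let t : BS k := ⟨(AdjoinRoot.root _, 0), by
    rw [mem_BS]
    exact resE_root.trans TrivSqZeroExt.fst_zero.symm⟩
  let ε : BS k := ⟨(0, DualNumber.eps), by
    rw [mem_BS]
    simp⟩
  let a : B k := t + ε
  have ha : (B k).res a = 0 := by
    change resE k (AdjoinRoot.root _ + 0) = 0
    rw [add_zero, resE_root]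
  let r : E k := AdjoinRoot.root _
  have hr : (E k).res r = 0 := resE_root
  have hg0 : g0 k a = r := by
    change (AdjoinRoot.root _ + 0 : T3 k) = AdjoinRoot.root _
    exact add_zero _
  have hg : g k a = (1 + r) * r := by
    change (AdjoinRoot.root _ + 0 : T3 k) +
      ((0 : DualNumber k) + DualNumber.eps).snd • AdjoinRoot.root _ ^ 2 =
      (1 + AdjoinRoot.root _) * AdjoinRoot.root _
    simp [add_mul, pow_two]
  have hu : IsUnit (1 + r : E k) := by
    refine IsNilpotent.isUnit_one_add ⟨3, ?_⟩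
    exact root_pow_three
  obtain ⟨φ, hφ⟩ := (hξ (B k)).2 (dcl (B k) a ha)
  have hmap : HomSet.map (g k) φ = HomSet.map (g0 k) φ := by
    apply (hξ (E k)).1
    rw [ξ.natural, ξ.natural, hφ,
      map_dcl (g k) a ha (by rw [Art.res_app, ha]),
      map_dcl (g0 k) a ha (by rw [Art.res_app, ha])]
    have hc : (E k).res (hu.unit : E k) = 1 := by
      rw [IsUnit.unit_spec, map_add, map_one, hr, add_zero]
    have h1 := dcl_unit_mul (E k) hu.unit hc r hr (by rw [map_mul, hr, mul_zero])
    exact (dcl_congr (E k) (by rw [hg, IsUnit.unit_spec]) _ (by rw [map_mul, hr, mul_zero])).trans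
      (h1.trans (dcl_congr (E k) hg0.symm _ _))
  have hpr : HomSet.map (prD k) φ =
      HomSet.map (Art.baseToDual) (HomSet.map (Art.toBase (B k)) φ) := by
    refine Subtype.ext (AlgHom.ext fun x => ?_)
    have := eq_of_g_eq (b := φ.1 x) (DFunLike.congr_fun (congrArg Subtype.val hmap) x)
    exact this
  have h0 : (Art.dual k k).res (0 : DualNumber k) = 0 := map_zero _
  have h1 : (Art.dual k k).res (DualNumber.eps : DualNumber k) = 0 := DualNumber.fst_eps
  refine dcl_eps_ne h1 h0 ?_
  obtain ⟨ψ, hψ⟩ := (hξ (Art.base k k)).2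
    (dcl (Art.base k k) 0 (map_zero _))
  have e1 := ξ.natural (prD k) φ
  rw [hφ, map_dcl (prD k) a ha (by rw [Art.res_app, ha])] at e1
  have e2 := ξ.natural (Art.baseToDual (Λ := k) (k := k)) ψ
  rw [hψ, map_dcl _ _ _ (by rw [map_zero, map_zero]), dcl_congr _ (map_zero _) _ h0] at e2
  refine Eq.trans ?_ e2
  rw [hsub ψ (HomSet.map (Art.toBase (B k)) φ), ← hpr, e1]
  exact dcl_congr _ (zero_add (DualNumber.eps : DualNumber k)).symm _ _

end Groth.Agent.S12256
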