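import Groth.Statements.S12257
import Groth.Agent.ArtFunLib.Criteria
import Mathlib

set_option autoImplicit false
universe u v
open CategoryTheory CategoryTheory.Limits
open Deform

namespace Groth.Agent.S12257

/-- Let k be an algebraically closed field, Λ a complete local Noetherian k-algebra with residue field
k, and F, G, H set-valued functors on local Artinian Λ-algebras with residue field k, each with
one-point value at k. If F → G is a smooth morphism of functors and H → G is any morphism, then the
second projection F ×_G H → H of the fibre product of functors is smooth. -/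
theorem result
    {k Λ : Type u} [Field k] [IsAlgClosed k] [CommRing Λ] [IsLocalRing Λ] [IsNoetherianRing Λ]
    [IsAdicComplete (IsLocalRing.maximalIdeal Λ) Λ] [Algebra k Λ] [Algebra Λ k] [IsScalarTower k Λ k]
    {F G H : ArtFun.Art Λ k ⥤ Type v} (η : F ⟶ G) (θ : H ⟶ G)
    (hF : ArtFun.H0 F) (hG : ArtFun.H0 G) (hH : ArtFun.H0 H) (hη : ArtFun.IsSmooth η) :
    ArtFun.IsSmooth (pullback.snd η θ) := by
  open Groth.Agent.ArtFunLib ArtFun ArtFun.Art in
  intro B A μ hμ w
  obtain ⟨⟨a, b⟩, hab⟩ := w
  obtain ⟨z, hz₁, hz₂⟩ := IsSmooth.lift hη hμ ((Limits.pullback.fst η θ).app A a) (θ.app B b)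
    (by rw [pullback_cond, hab, nat_apply])
  obtain ⟨w, hw₁, hw₂⟩ := pullback_exists η θ z b hz₂
  refine ⟨w, Subtype.ext (Prod.ext ((pullback_eq_iff η θ).mpr ⟨?_, ?_⟩) hw₂)⟩
  · exact ((nat_apply (Limits.pullback.fst η θ) μ w).trans (congrArg _ hw₁)).trans hz₁
  · exact ((nat_apply (Limits.pullback.snd η θ) μ w).trans (congrArg _ hw₂)).trans hab.symm

end Groth.Agent.S12257
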