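import Groth.Statements.S12293
import Groth.Agent.DefAff.Classes
import Mathlib.RingTheory.Flat.Basic

set_option autoImplicit false
universe u w m
open CategoryTheory CategoryTheory.Limits AlgebraicGeometry
open scoped TensorProduct
open DefT

namespace Groth.Agent.S12293
open ArtFun Groth.Agent.DefAff

variable (k B : Type u) [Field k] [CommRing B] [Algebra k B]

theorem semismall : Art.IsSemismallExt (Art.toBase (Art.dual k k)) := by
  refine ⟨(Art.dual k k).res_surjective, le_bot_iff.1 (Ideal.mul_le.2 fun a ha b hb => ?_)⟩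
  have ha' : (a : DualNumber k).fst = 0 := (Art.mem_maximalIdeal_iff _ a).1 ha
  have hb' : (b : DualNumber k).fst = 0 := hb
  refine TrivSqZeroExt.ext ?_ ?_
  · change (a : DualNumber k).fst * (b : DualNumber k).fst = 0
    simp [ha', hb']
  · refine (TrivSqZeroExt.snd_mul (R := k) (M := k) a b).trans ?_
    simp [ha', hb']
    exact TrivSqZeroExt.snd_zero.symm

theorem flat_str : Flat (Spec.map (CommRingCat.ofHom (algebraMap k B))) :=
  Flat.SpecMap_iff.mpr (RingHom.flat_algebraMap_iff.mpr inferInstance)

/-- `Spec B` over `k` as a deformation of itself. -/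
noncomputable def base : DefSch (Spec (CommRingCat.of B)) (strMap k B) (Art.base k k) :=
  DefSch.self _ _ (flat_str k B)

theorem exists_baseChange_iso (ξ : DefSch (Spec (CommRingCat.of B)) (strMap k B) (Art.dual k k)) :
    Nonempty ((ξ.baseChange (Art.toBase (Art.dual k k))).Iso (base k B)) := by
  let η := ξ.baseChange (Art.toBase (Art.dual k k))
  haveI : IsIso η.i := η.isPullback.isIso_fst_of_isIso
  refine ⟨⟨(asIso η.i).symm, ?_, ?_⟩⟩
  · change inv η.i ≫ strMap k B = η.f
    rw [IsIso.inv_comp_eq]
    exact ((η.i_f).trans (Art.comp_specRes_base _)).symm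
  · change η.i ≫ inv η.i = 𝟙 _
    exact IsIso.hom_inv_id _

theorem iso_unique {η : DefSch (Spec (CommRingCat.of B)) (strMap k B) (Art.base k k)}
    (e e' : η.Iso (base k B)) : e.iso = e'.iso := by
  haveI : IsIso η.i := η.isPullback.isIso_fst_of_isIso
  refine Iso.ext ((cancel_epi η.i).1 ?_)
  exact e.i_hom.trans e'.i_hom.symm

theorem quot_equiv :
    Nonempty (Quot (ExtRel (Art.toBase (Art.dual k k)) (base k B)) ≃
      (defFunctor (Spec (CommRingCat.of B)) (strMap k B)).obj (Art.dual k k)) := by
  refine ⟨Equiv.ofBijective (Quot.lift (fun a => a.1.cl)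
    (fun a b ⟨ψ, _⟩ => Quotient.sound ⟨ψ⟩)) ⟨fun a b => ?_, fun c => ?_⟩⟩
  · induction a using Quot.ind with | _ a => ?_
    induction b using Quot.ind with | _ b => ?_
    intro h
    obtain ⟨ψ⟩ := Quotient.exact h
    exact Quot.sound ⟨ψ, iso_unique k B _ _⟩
  · induction c using Quotient.inductionOn with | h ξ => ?_
    obtain ⟨e⟩ := exists_baseChange_iso k B ξ
    exact ⟨Quot.mk _ ⟨ξ, e⟩, rfl⟩

theorem T1map_bijective {k B : Type u} [CommRing k] [CommRing B] [Algebra k B] {M N : Type u}
    [AddCommGroup M] [Module B M] [AddCommGroup N] [Module B N] (g : M ≃ₗ[B] N) :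
    Function.Bijective (CotT.T1map (CotT.canon k B) g.toLinearMap) := by
  refine Function.bijective_iff_has_inverse.2
    ⟨CotT.T1map (CotT.canon k B) g.symm.toLinearMap, fun x => ?_, fun x => ?_⟩ <;>
  · obtain ⟨z, rfl⟩ := Submodule.Quotient.mk_surjective _ x
    exact congrArg Submodule.Quotient.mk (Subtype.ext (LinearMap.ext fun y => by
      simp [CotT.cocycles1Map]))

/-- The kernel of the augmentation of the dual numbers is `k`. -/
noncomputable def kerEquiv : ↥(RingHom.ker (Art.toBase (Art.dual k k)).toAlgHom) ≃ₗ[k] k where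
  toFun x := (x.1 : DualNumber k).snd
  map_add' _ _ := rfl
  map_smul' _ _ := rfl
  invFun c := ⟨(TrivSqZeroExt.inr c : DualNumber k), TrivSqZeroExt.fst_inr k c⟩
  left_inv x := Subtype.ext (TrivSqZeroExt.ext
    ((TrivSqZeroExt.fst_inr k _).trans (x.2 : (x.1 : DualNumber k).fst = 0).symm)
    (TrivSqZeroExt.snd_inr k _))
  right_inv c := TrivSqZeroExt.snd_inr k c

/-- Let k be a field and B a k-algebra. The set of isomorphism classes of deformations of X = Spec B
over the dual numbers D = k[ε] (schemes flat over Spec D with a morphism from X identifying X with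
the fibre over the closed point, up to isomorphism over Spec D and under X) is in bijection with the
B-module T^1(B/k, B), computed from the choice-free presentation of B over k. (The published
statement calls the correspondence natural; this row asserts the existence of a bijection.) -/
theorem result
    (k B : Type u) [Field k] [CommRing B] [Algebra k B] :
    Nonempty ((ArtFun.defFunctor (Λ := k) (Spec (CommRingCat.of B)) (Spec.map (CommRingCat.ofHom (algebraMap k B)))).obj
        (ArtFun.Art.dual k k) ≃ CotT.T1 (CotT.canon k B) B) := by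
  obtain ⟨e⟩ := quot_equiv k B
  have hne : Nonempty (Extns (Art.toBase (Art.dual k k)) (base k B)) :=
    ⟨⟨DefSch.trivial _ _ (flat_str k B) (Art.dual k k),
      (exists_baseChange_iso k B _).some⟩⟩
  obtain ⟨e'⟩ := Groth.Agent.DefAff.nonempty_equiv (semismall k) hne
  let g : (B ⊗[k] ↥(RingHom.ker (Art.toBase (Art.dual k k)).toAlgHom)) ≃ₗ[B] B :=
    (TensorProduct.AlgebraTensorModule.congr (LinearEquiv.refl B B) (kerEquiv k)).trans
      (TensorProduct.AlgebraTensorModule.rid k B B)
  have hg := T1map_bijective (k := k) g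
  exact ⟨e.symm.trans (e'.trans (Equiv.ofBijective _ hg))⟩

end Groth.Agent.S12293
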