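import Groth.Statements.S12263
import Groth.Agent.DefAff.Classes
import Groth.Agent.ArtFunLib.Small
import Groth.Agent.ArtFunLib.Functor
import Groth.Agent.S12293

set_option autoImplicit false
universe u
open CategoryTheory CategoryTheory.Limits AlgebraicGeometry
open Deform

open scoped TensorProduct
namespace Groth.Agent.S12263
open ArtFun Groth.Agent.DefAff

variable {k : Type u} [Field k] {B₀ : Type u} [CommRing B₀] [Algebra k B₀]

theorem subsingleton_exalcom (hT : ∀ E : Exal.Ext k B₀ B₀, E.IsTrivial) :
    Subsingleton (Exal.Exalcom k B₀ B₀) := by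
  let R := CotLib.ExalT1.R k B₀
  let π := CotLib.ExalT1.π k B₀
  let φ : CotLib.ExalPres.Phi π B₀ :=
    { toFun := fun _ => 0
      map_add' := fun _ _ => (add_zero 0).symm
      map_smul' := fun r _ => (smul_zero _).symm }
  have hπ := CotLib.ExalT1.π_surjective (A := k) (B := B₀)
  refine subsingleton_of_forall_eq 0 fun c => ?_
  induction c using Quotient.inductionOn with | h X => ?_
  obtain ⟨sec, hsec⟩ := hT X
  have hl : CotLib.ExalPres.Lifts φ X := ⟨sec.comp π, fun r => hsec _, fun x => by
    rw [AlgHom.comp_apply, show π (x : R) = 0 from x.2, map_zero]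
    exact (map_zero X.incl).symm⟩
  exact (CotLib.ExalPres.cl_eq_of_lifts hπ hl).symm.trans (CotLib.ExalPres.cl_zero hπ fun _ => rfl)

theorem ker_equiv {C A : Art k k} (s : C ⟶ A) (hs : Art.IsSmallExt s) :
    Nonempty (k ≃ₗ[k] ↥(RingHom.ker s.toAlgHom)) := by
  obtain ⟨t, ht⟩ := ArtFunLib.exists_gen hs
  have htm : t ∈ RingHom.ker s.toAlgHom := ht ▸ Ideal.mem_span_singleton_self t
  refine ⟨LinearEquiv.ofBijective (LinearMap.toSpanSingleton k _ ⟨t, htm⟩) ⟨fun a b hab => ?_, fun x => ?_⟩⟩
  · have h : a • t = b • t := congrArg Subtype.val hab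
    rw [Algebra.smul_def, Algebra.smul_def, ArtFunLib.mul_gen_eq_iff hs ht, AlgHom.commutes,
      AlgHom.commutes] at h
    exact h
  · obtain ⟨b, hb⟩ := ArtFunLib.exists_mul_gen ht (x := x.1) x.2
    refine ⟨C.res b, Subtype.ext ?_⟩
    change C.res b • t = x.1
    rw [← hb, Algebra.smul_def, ArtFunLib.mul_gen_eq_iff hs ht, AlgHom.commutes]
    rfl

/-- Let k be an algebraically closed field and B₀ a finitely generated commutative k-algebra. Suppose
T^1_{B₀} = 0 in the form: every k-algebra extension of B₀ by the B₀-module B₀ (square-zero kernel)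
is trivial. Then B₀ is rigid: every deformation of Spec B₀ over a local Artinian k-algebra A with
residue field k (a scheme flat over Spec A together with a cartesian square exhibiting Spec B₀ as
the fibre over the closed point) is isomorphic, over Spec A and under Spec B₀, to the product
deformation Spec B₀ ×_k Spec A. (The published statement is for a k-algebra B₀, Noetherian by the
standing convention; this row takes B₀ finitely generated over k, the case covered by the results on
algebraic schemes that its proof cites. It also asserts a semiuniversal formal element when T^1_{B₀}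
is finite-dimensional, in particular for isolated singularities; those clauses are instances of
results on all algebraic schemes and are not repeated here. The first-order deformations of B₀
correspond to the k-algebra extensions of B₀ by B₀, the trivial deformation to the trivial
extension.) -/
theorem result
    {k : Type u} [Field k] [IsAlgClosed k] (B₀ : Type u) [CommRing B₀] [Algebra k B₀] [Algebra.FiniteType k B₀]
    (hT : ∀ E : Exal.Ext k B₀ B₀, E.IsTrivial) (A : ArtFun.Art k k)
    (ξ : ArtFun.DefSch (Spec (CommRingCat.of B₀)) (Spec.map (CommRingCat.ofHom (algebraMap k B₀))) A) :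
    Nonempty (ξ.Iso (ArtFun.DefSch.trivial (Spec (CommRingCat.of B₀))
      (Spec.map (CommRingCat.ofHom (algebraMap k B₀))) inferInstance A)) := by
  haveI : Subsingleton (CotT.T1 (CotT.canon k B₀) B₀) := by
    haveI := subsingleton_exalcom hT
    obtain ⟨e, -⟩ := CotLib.ExalT1.exists_equiv_exalcom (A := k) (B := B₀) (M := B₀)
    exact e.symm.injective.subsingleton
  let x := Spec.map (CommRingCat.ofHom (algebraMap k B₀))
  have hx : Flat x := inferInstance
  let T : ∀ A : Art k k, (defFunctor _ x).obj A := fun A => (DefSch.trivial _ x hx A).cl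
  have hTmap : ∀ {C A : Art k k} (g : C ⟶ A), (defFunctor _ x).map g (T C) = T A := fun {C A} g => by
    have e : Art.ofBase C ≫ g = Art.ofBase A := ArtFunLib.hom_ext' fun c => g.toAlgHom.commutes c
    have : ∀ A : Art k k, T A = (defFunctor _ x).map (Art.ofBase A) (DefSch.self _ x hx).cl :=
      fun A => rfl
    rw [this, this, ← ArtFunLib.map_comp', e]
  suffices ∀ (C : Art k k) (c : (defFunctor _ x).obj C), c = T C from Quotient.exact (this A ξ.cl)
  intro C
  have hbase : ∀ c : (defFunctor _ x).obj (Art.base k k), c = (DefSch.self _ x hx).cl := fun c => by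
    induction c using Quotient.inductionOn with | h η => ?_
    haveI : IsIso η.i := η.isPullback.isIso_fst_of_isIso
    refine Quotient.sound ⟨⟨(asIso η.i).symm, ?_, ?_⟩⟩
    · change inv η.i ≫ x = η.f
      rw [IsIso.inv_comp_eq]
      exact ((η.i_f).trans (Art.comp_specRes_base _)).symm
    · change η.i ≫ inv η.i = 𝟙 _
      exact IsIso.hom_inv_id _
  refine ArtFunLib.surj_induction
    (P := fun A B (_ : B ⟶ A) => (∀ c : (defFunctor _ x).obj A, c = T A) →
      ∀ c : (defFunctor _ x).obj B, c = T B)
    (fun A B e he h c => ?_) (fun A D E q s _ hs ihq h c => ?_) (Art.toBase C) C.res_surjective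
    (fun c => (hbase c).trans (hbase _).symm)
  · rw [← ArtFunLib.map_id' _ c, ← ArtFunLib.comp_homInv e he, ArtFunLib.map_comp', h ((defFunctor _ x).map e c), hTmap]
  · refine ihq (fun d => ?_) c
    induction d using Quotient.inductionOn with | h η => ?_
    obtain ⟨e₁⟩ := Quotient.exact (h (η.baseChange s).cl)
    obtain ⟨e₂⟩ := Quotient.exact (hTmap (C := E) (A := A) s)
    obtain ⟨g⟩ := ker_equiv (k := k) s hs
    obtain ⟨E'⟩ := DefAff.nonempty_equiv (B₀ := B₀) hs.isSemismallExt
      ⟨⟨η, e₁⟩⟩
    let G : (B₀ ⊗[k] ↥(RingHom.ker s.toAlgHom)) ≃ₗ[B₀] B₀ :=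
      (TensorProduct.AlgebraTensorModule.congr (LinearEquiv.refl B₀ B₀) g.symm).trans
        (TensorProduct.AlgebraTensorModule.rid k B₀ B₀)
    haveI := (S12293.T1map_bijective (k := k) G).1.subsingleton
    haveI := E'.injective.subsingleton
    exact congrArg (Quot.lift (fun a => a.1.cl) fun a b ⟨ψ, _⟩ => Quotient.sound ⟨ψ⟩)
      (Subsingleton.elim (Quot.mk (ExtRel s _) ⟨η, e₁⟩) (Quot.mk _ ⟨_, e₂⟩))

end Groth.Agent.S12263
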