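import Groth.Statements.S12266
import Groth.Agent.HomTangent.Graph
import Groth.Agent.HomTangent.TangentPoint
import Groth.Agent.HilbLoc.Normal.Tangent
import Groth.Agent.ConormalSection.Main
import Groth.Agent.MultMap.Finite

set_option autoImplicit false
universe u
open CategoryTheory CategoryTheory.Limits MonoidalCategory CartesianMonoidalCategory AlgebraicGeometry
attribute [local instance] HasDerivedCategory.standard
open Deform

set_option backward.isDefEq.respectTransparency false
set_option maxHeartbeats 2000000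

namespace Groth.Agent.S12266

open ArtFun IsLocalRing
open Groth.Agent.HilbLoc.Rep Groth.Agent.HomTangent

variable {k : Type u} [Field k]

theorem aux [IsAlgClosed k] {X Y : Scheme.{u}} (x : X ⟶ Spec (CommRingCat.of k)) [IsProper x] [IsReduced X]
    (yY : Y ⟶ Spec (CommRingCat.of k)) [Smooth yY] [IsSeparated yY]
    (M : Over (Spec (CommRingCat.of k))) (υ : Over.mk x ⊗ M ⟶ Over.mk yY)
    (hM : ∀ (T : Over (Spec (CommRingCat.of k))) (φ : Over.mk x ⊗ T ⟶ Over.mk yY),
      ∃! a : T ⟶ M, (Over.mk x ◁ a) ≫ υ = φ)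
    (f : X ⟶ Y) (hf : f ≫ yY = x)
    (af : 𝟙_ (Over (Spec (CommRingCat.of k))) ⟶ M)
    (haf : (Over.mk x ◁ af) ≫ υ = (ρ_ (Over.mk x)).hom ≫ (Over.homMk f hf : Over.mk x ⟶ Over.mk yY))
    [DCoh.HasSheafHom ((Scheme.Modules.pullback f).obj (Omega.sheaf yY))]
    [X.Over (Spec (CommRingCat.of k))] (hxX : X ↘ (Spec (CommRingCat.of k)) = x) :
    Module.finrank (IsLocalRing.ResidueField (M.left.presheaf.stalk (af.left.base (IsLocalRing.closedPoint k))))
        (IsLocalRing.CotangentSpace (M.left.presheaf.stalk (af.left.base (IsLocalRing.closedPoint k)))) =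
      Module.finrank k (Coh.HH X
        ((DCoh.sheafHom ((Scheme.Modules.pullback f).obj (Omega.sheaf yY))).obj (Coh.structureModule X)) 0) := by
  obtain ⟨alg, res, hk, hres⟩ := exists_augmentation (H := M) (show onePt (k := k) ⟶ M from af)
  let R := M.left.presheaf.stalk (img (show onePt (k := k) ⟶ M from af))
  -- maps to the moduli scheme are morphisms
  let φ : ∀ {A : Art k k} (a : specO A ⟶ M), Art.XA x A ⟶ Y := fun {A} a => ((Over.mk x ◁ a) ≫ υ).left
  have hφy : ∀ {A : Art k k} (a : specO A ⟶ M), φ a ≫ yY = Art.XApr x A ≫ Art.specOver A := fun {A} a =>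
    (Over.w ((Over.mk x ◁ a) ≫ υ)).trans pullback.condition
  have hinc : ∀ A : Art k k, (Over.mk x ◁ ptO A).left =
      pullback.fst x (𝟙 (Spec (CommRingCat.of k))) ≫ Art.XAincl x A := fun A => by
    refine pullback.hom_ext ?_ ?_
    · refine (Over.whiskerLeft_left_fst _).trans ?_
      refine Eq.trans ?_ (Category.assoc _ _ _).symm
      exact ((congrArg (_ ≫ ·) (Art.XAincl_fst x A)).trans (Category.comp_id _)).symm
    · refine (Over.whiskerLeft_left_snd _).trans ?_
      refine Eq.trans ?_ (Category.assoc _ _ _).symm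
      refine Eq.trans ?_ (congrArg (_ ≫ ·) (Art.XAincl_snd x A)).symm
      refine Eq.trans ?_ (Category.assoc _ _ _)
      refine congrArg (fun m => m ≫ Spec.map (CommRingCat.ofHom A.res.toRingHom)) ?_
      exact ((pullback.condition (f := x) (g := 𝟙 (Spec (CommRingCat.of k)))).trans (Category.comp_id _)).symm
  haveI : IsIso (pullback.fst x (𝟙 (Spec (CommRingCat.of k)))) := inferInstance
  have hpt : ∀ {A : Art k k} (a : specO A ⟶ M),
      ptO A ≫ a = (show onePt (k := k) ⟶ M from af) ↔ Art.XAincl x A ≫ φ a = f := fun {A} a => by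
    have h1 : ((Over.mk x ◁ (ptO A ≫ a)) ≫ υ).left =
        pullback.fst x (𝟙 (Spec (CommRingCat.of k))) ≫ Art.XAincl x A ≫ φ a := by
      rw [MonoidalCategory.whiskerLeft_comp, Category.assoc, Over.comp_left]
      exact (congrArg (· ≫ φ a) (hinc A)).trans (Category.assoc _ _ _)
    have h2 : ((Over.mk x ◁ af) ≫ υ).left = pullback.fst x (𝟙 (Spec (CommRingCat.of k))) ≫ f := by
      rw [haf]; rfl
    constructor
    · intro h
      rw [h] at h1
      exact (cancel_epi _).1 (h1.symm.trans h2)
    · intro h
      refine (hM (𝟙_ _) _).unique (y₁ := ptO A ≫ a) (y₂ := af) ?_ haf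
      refine Over.OverMorphism.ext ?_
      rw [h1, h]
      rfl
  have hw : ∀ {A : Art k k} (ψ : HomSet R res A),
      (Spec.map (CommRingCat.ofHom ψ.1.toRingHom) ≫ M.left.fromSpecStalk _) ≫ M.hom = (specO A).hom := by
    intro A ψ
    rw [Category.assoc, ← hk, ← Spec.map_comp, ← CommRingCat.ofHom_comp]
    refine congrArg (fun f => Spec.map (CommRingCat.ofHom f)) (RingHom.ext fun c => ?_)
    exact ψ.1.commutes c
  let g : ∀ {A : Art k k}, HomSet R res A → (specO A ⟶ M) := fun {A} ψ =>
    Over.homMk (Spec.map (CommRingCat.ofHom ψ.1.toRingHom) ≫ M.left.fromSpecStalk _) (hw ψ)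
  have hg : ∀ {A : Art k k} (ψ : HomSet R res A), ptO A ≫ g ψ = (show onePt (k := k) ⟶ M from af) := by
    intro A ψ
    refine Over.OverMorphism.ext ?_
    have hc : A.res.toRingHom.comp ψ.1.toRingHom = resHom (show onePt (k := k) ⟶ M from af) :=
      RingHom.ext fun r => (DFunLike.congr_fun ψ.2 r).trans (RingHom.congr_fun hres r)
    exact (comp_specMap (M.left.fromSpecStalk _) _ _ _ hc).trans (specMap_resHom _)
  let mor : ∀ {A : Art k k}, HomSet R res A → Mor x yY f A := fun {A} ψ =>
    ⟨φ (g ψ), hφy _, (hpt _).1 (hg ψ)⟩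
  have hnat : ∀ {A B : Art k k} (u : A ⟶ B) (ψ : HomSet R res A), mor (HomSet.map u ψ) = (mor ψ).map u := by
    intro A B u ψ
    refine Subtype.ext ?_
    have e1 : g (HomSet.map u ψ) = mapO u ≫ g ψ := Over.OverMorphism.ext (by
      change Spec.map _ ≫ _ = Spec.map _ ≫ Spec.map _ ≫ _
      rw [← Category.assoc, ← Spec.map_comp, ← CommRingCat.ofHom_comp]
      rfl)
    change φ (g (HomSet.map u ψ)) = Art.XAmap x u ≫ φ (g ψ)
    rw [e1]
    change ((Over.mk x ◁ (mapO u ≫ g ψ)) ≫ υ).left = _
    rw [MonoidalCategory.whiskerLeft_comp, Category.assoc, Over.comp_left]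
    rfl
  have hbij : ∀ A : Art k k, Function.Bijective (mor (A := A)) := fun A => by
    refine ⟨fun ψ ψ' h => ?_, fun m => ?_⟩
    · have h1 : g ψ = g ψ' :=
        (hM (specO A) _).unique (y₁ := g ψ) (y₂ := g ψ') rfl
          (Over.OverMorphism.ext (congrArg Subtype.val h).symm)
      exact Subtype.ext (AlgHom.coe_ringHom_injective
        (specMap_fromSpecStalk_injective _ (congrArg (fun u : specO A ⟶ M => u.left) h1)))
    · obtain ⟨a, ha, -⟩ := hM (specO A) (Over.homMk m.1 (m.2.1.trans pullback.condition.symm))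
      have hφa : φ a = m.1 := congrArg (fun u : Over.mk x ⊗ specO A ⟶ Over.mk yY => u.left) ha
      have hapt := (hpt a).2 (by rw [hφa]; exact m.2.2)
      have hapt' := congrArg (fun u : onePt (k := k) ⟶ M => u.left) hapt
      have hclosed : a.left.base (closedPoint A) = img (show onePt (k := k) ⟶ M from af) := by
        refine Eq.trans ?_ (congrArg (fun u : Spec (CommRingCat.of k) ⟶ M.left => u.base (closedPoint k)) hapt')
        refine congrArg a.left.base ?_
        exact Subsingleton.elim (α := PrimeSpectrum A) _ _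
      obtain ⟨ψ, hψ⟩ := exists_eq_specMap _ a.left hclosed
      have halg : ∀ c, ψ (algebraMap k _ c) = algebraMap k A c := fun c => by
        have h := Over.w a
        rw [← hψ, Category.assoc, ← hk, ← Spec.map_comp, ← CommRingCat.ofHom_comp] at h
        exact RingHom.congr_fun (congrArg CommRingCat.Hom.hom (Spec.map_injective h)) c
      let ψ' : R →ₐ[k] A := { ψ with commutes' := halg }
      have hr : A.res.toRingHom.comp ψ = resHom (show onePt (k := k) ⟶ M from af) := by
        refine specMap_fromSpecStalk_injective _ ?_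
        rw [specMap_resHom, CommRingCat.ofHom_comp, Spec.map_comp, Category.assoc, hψ]
        exact hapt'
      have hψ' : (A.res.comp ψ') = res :=
        AlgHom.ext fun r => (RingHom.congr_fun hr r).trans (RingHom.congr_fun hres r).symm
      refine ⟨⟨ψ', hψ'⟩, Subtype.ext ?_⟩
      have h3 : g ⟨ψ', hψ'⟩ = a := Over.OverMorphism.ext hψ
      exact (congrArg φ h3).trans hφa
  -- graphs
  haveI := isClosedImmersion_gr x yY f hf
  let i := gr x yY f hf
  let F := localHilb (pullback x yY) (xy x yY) i.ker
  let ξ : Family R res F :=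
    { app := fun A ψ => graphObj hf (mor ψ)
      natural := fun u ψ => by rw [hnat, graphObj_map] }
  have hξ : Function.Bijective (ξ.app (Art.dual k k)) :=
    (show Function.Bijective (graphObj hf (A := Art.dual k k)) from
      ⟨graphObj_injective hf _, graphObj_surjective hf _⟩).comp (hbij _)
  obtain ⟨hT⟩ := ArtFunLib.exists_tangentStr (HilbLoc.h0 (xy x yY) i.ker) (HilbLoc.heps (xy x yY) i.ker)
  letI := hT
  -- the conormal sheaf of the graph
  let π : pullback x yY ⟶ pullback yY yY :=
    pullback.lift (pullback.fst x yY ≫ f) (pullback.snd x yY) (by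
      rw [Category.assoc, hf]; exact pullback.condition)
  have hpb : IsPullback π (pullback.fst x yY) (pullback.fst yY yY) f := by
    refine IsPullback.of_right ?_ (pullback.lift_fst _ _ _) (IsPullback.of_hasPullback yY yY).flip
    rw [pullback.lift_snd, hf]
    exact (IsPullback.of_hasPullback x yY).flip
  haveI : IsClosedImmersion (pullback.diagonal yY) := IsSeparated.isClosedImmersion_diagonal
  obtain ⟨ec⟩ := ConormalSection.conormal_baseChange (e := pullback.diagonal yY) (e' := i)
    (pullback.diagonal_fst yY) hpb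
    (by
      refine pullback.hom_ext ?_ ?_
      · simp only [π, i, Category.assoc, pullback.lift_fst, pullback.diagonal_fst, Category.comp_id]
        rw [← Category.assoc, gr_fst]
        exact Category.id_comp f
      · simp only [π, i, Category.assoc, pullback.lift_snd, pullback.diagonal_snd, Category.comp_id]
        exact gr_snd x yY f hf)
    (gr_fst x yY f hf)
  change Omega.conormal i ≅ (Scheme.Modules.pullback f).obj (Omega.sheaf yY) at ec
  haveI : DCoh.HasSheafHom (Omega.conormal i) :=
    ((Adjunction.ofIsLeftAdjoint ((DCoh.tensorBi (X := X)).obj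
      ((Scheme.Modules.pullback f).obj (Omega.sheaf yY)))).ofNatIsoLeft
        ((DCoh.tensorBi (X := X)).mapIso ec.symm)).isLeftAdjoint
  obtain ⟨e₁⟩ := HilbLoc.Normal.nonempty_tangent_linearEquiv (x := xy x yY) (i := i)
    (hxX.trans (gr_xy x yY f hf).symm)
  obtain ⟨e₂⟩ := HilbLoc.Normal.nonempty_hom_linearEquiv_HH (A := k) (Omega.conormal i) (Coh.structureModule X)
  obtain ⟨e₃⟩ := HilbLoc.Normal.nonempty_hom_linearEquiv_HH (A := k)
    ((Scheme.Modules.pullback f).obj (Omega.sheaf yY)) (Coh.structureModule X)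
  refine (finrank_cotangent ξ hξ).trans ?_
  exact ((e₁.trans e₂.symm).trans ((Linear.homCongr k ec (Iso.refl _)).trans e₃)).finrank_eq


/-- Let k be an algebraically closed field, X a reduced projective k-scheme (with a closed k-immersion
into some P^n_k) and Y a nonsingular quasi-projective k-scheme (smooth over k, with a k-immersion
into some P^m_k). Suppose the k-scheme M together with υ : X ×_k M → Y over k represents the functor
of morphisms: for every k-scheme T and every k-morphism φ : X ×_k T → Y there is exactly one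
k-morphism a : T → M with φ = υ ∘ (X ×_k a). Let f : X → Y be a k-morphism and a_f : Spec k → M the
k-point [f] classifying f (through X ×_k Spec k ≅ X). Then the Zariski tangent space of M at [f] has
the dimension of H^0(X, f^*T_Y): the dimension of m/m² over the residue field of the local ring of M
at [f] equals dim_k H^0(X, Hom_{O_X}(f^*Ω_{Y/k}, O_X)), the sheaf Hom (taken as a right adjoint,
assumed to exist) of the pullback of the sheaf of differentials of Y over k, which is f^*T_Y as
Ω_{Y/k} is locally free. (The published statement gives a canonical isomorphism T_{[f]} Hom(X, Y) ≅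
H^0(X, f^*T_Y) and adds that the obstruction space at [f] lies in H^1(X, f^*T_Y); this row records
the equality of dimensions.) -/
theorem result
    {k : Type u} [Field k] [IsAlgClosed k]
    (X : Scheme.{u}) [X.Over (Spec (CommRingCat.of k))] [IsReduced X]
    (hprojX : ∃ (n : ℕ) (c : X ⟶ CohB1.ProjSpaceOver n (Spec (CommRingCat.of k))),
      IsClosedImmersion c ∧ c ≫ CohB1.ProjSpaceOver.toBase n (Spec (CommRingCat.of k)) = X ↘ (Spec (CommRingCat.of k)))
    (Y : Scheme.{u}) (yY : Y ⟶ (Spec (CommRingCat.of k))) [Smooth yY]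
    (hqprojY : ∃ (m : ℕ) (c : Y ⟶ CohB1.ProjSpaceOver m (Spec (CommRingCat.of k))),
      IsImmersion c ∧ c ≫ CohB1.ProjSpaceOver.toBase m (Spec (CommRingCat.of k)) = yY)
    (M : Over (Spec (CommRingCat.of k))) (υ : Over.mk (X ↘ (Spec (CommRingCat.of k))) ⊗ M ⟶ Over.mk yY)
    (hM : ∀ (T : Over (Spec (CommRingCat.of k))) (φ : Over.mk (X ↘ (Spec (CommRingCat.of k))) ⊗ T ⟶ Over.mk yY),
      ∃! a : T ⟶ M, (Over.mk (X ↘ (Spec (CommRingCat.of k))) ◁ a) ≫ υ = φ)
    (f : X ⟶ Y) (hf : f ≫ yY = X ↘ (Spec (CommRingCat.of k)))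
    (af : 𝟙_ (Over (Spec (CommRingCat.of k))) ⟶ M)
    (haf : (Over.mk (X ↘ (Spec (CommRingCat.of k))) ◁ af) ≫ υ = (ρ_ (Over.mk (X ↘ (Spec (CommRingCat.of k))))).hom ≫ (Over.homMk f hf : Over.mk (X ↘ (Spec (CommRingCat.of k))) ⟶ Over.mk yY))
    [DCoh.HasSheafHom ((Scheme.Modules.pullback f).obj (Omega.sheaf yY))] :
    Module.finrank (IsLocalRing.ResidueField (M.left.presheaf.stalk (af.left.base (IsLocalRing.closedPoint k))))
        (IsLocalRing.CotangentSpace (M.left.presheaf.stalk (af.left.base (IsLocalRing.closedPoint k)))) =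
      Module.finrank k (Coh.HH X
        ((DCoh.sheafHom ((Scheme.Modules.pullback f).obj (Omega.sheaf yY))).obj (Coh.structureModule X)) 0) := by
  haveI : IsSeparated yY := by
    obtain ⟨m, c, hc, hcy⟩ := hqprojY
    haveI : IsProper (CohB1.ProjSpaceOver.toBase m (Spec (CommRingCat.of k))) :=
      MorphismProperty.pullback_snd _ _ (Groth.Agent.MultMap.isProper_toSpec m (ULift.{u} ℤ))
    rw [← hcy]
    infer_instance
  haveI : IsProper (X ↘ (Spec (CommRingCat.of k))) := by
    obtain ⟨n, c, hc, hcx⟩ := hprojX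
    haveI : IsProper (CohB1.ProjSpaceOver.toBase n (Spec (CommRingCat.of k))) :=
      MorphismProperty.pullback_snd _ _ (Groth.Agent.MultMap.isProper_toSpec n (ULift.{u} ℤ))
    rw [← hcx]
    infer_instance
  exact aux (X ↘ (Spec (CommRingCat.of k))) yY M υ hM f hf af haf rfl

end Groth.Agent.S12266
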