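import Groth.Statements.S1227
-- import your own Groth.Agent.* helpers here

set_option autoImplicit false
universe u
open FlatMor

namespace Groth.Agent.S1227

open TensorProduct in
/-- Let u be a surjective linear map from a projective A-module M to an A-module N. Then there is an
ideal I of A such that for every A-algebra B, the base change u ⊗ 1 from B ⊗ M to B ⊗ N is bijective
if and only if the image of I in B is zero. -/
theorem result {A : Type u} [CommRing A] {M N : Type u} [AddCommGroup M] [Module A M] [Module.Projective A M]
    [AddCommGroup N] [Module A N] (u : M →ₗ[A] N) (hu : Function.Surjective u) :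
    ∃ I : Ideal A, ∀ (B : Type u) [CommRing B] [Algebra A B],
      Function.Bijective (u.baseChange B) ↔ I.map (algebraMap A B) = ⊥ := by
  classical
  obtain ⟨s, hs⟩ := Module.projective_def.1 (inferInstance : Module.Projective A M)
  refine ⟨Ideal.span {c | ∃ k ∈ LinearMap.ker u, ∃ i, s k i = c}, fun B _ _ => ?_⟩
  rw [Ideal.map_span, Ideal.span_eq_bot, LinearMap.baseChange_eq_ltensor]
  constructor
  · rintro hbij _ ⟨_, ⟨k, hk, i, rfl⟩, rfl⟩
    have h0 : (1 : B) ⊗ₜ[A] k = 0 := hbij.1 (by simp [LinearMap.mem_ker.1 hk])
    have := congrArg (((Algebra.linearMap A B).comp ((Finsupp.lapply i).comp s)).liftBaseChange B) h0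
    simpa using this
  · intro h
    refine ⟨?_, LinearMap.lTensor_surjective B hu⟩
    rw [← LinearMap.ker_eq_bot, eq_bot_iff]
    intro z hz
    obtain ⟨w, rfl⟩ := ((lTensor_exact B (LinearMap.exact_subtype_ker_map u) hu) z).1 (LinearMap.mem_ker.1 hz)
    clear hz
    induction w using TensorProduct.induction_on with
    | zero => simp
    | tmul b k =>
      have hk : (k : M) = ∑ i ∈ (s (k : M)).support, s (k : M) i • i := (hs (k : M)).symm
      rw [Submodule.mem_bot, LinearMap.lTensor_tmul, Submodule.subtype_apply, hk, tmul_sum]
      refine Finset.sum_eq_zero fun i _ => ?_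
      rw [← TensorProduct.smul_tmul, Algebra.smul_def,
        h _ ⟨_, ⟨_, k.2, i, rfl⟩, rfl⟩, zero_mul, zero_tmul]
    | add x y hx hy =>
      rw [map_add]
      exact add_mem hx hy

end Groth.Agent.S1227
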