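import Groth.Statements.S12483
-- import your own Groth.Agent.* helpers here
import Groth.Agent.SSExist.ExtSheafHom
import Groth.Agent.ModGroth.Tensor


set_option autoImplicit false
universe u
open CategoryTheory CategoryTheory.Limits AlgebraicGeometry
open Coherent

namespace Groth.Agent.S12483

/-- Let `X` be a scheme, `A` an `O_X`-module which is finite locally free (every point has an open
neighbourhood over which `A` is isomorphic to some `O^n`) and for which the internal Hom functor
`Hom_{O_X}(A, -)` exists (right adjoint of `A ⊗ -`), `B` any `O_X`-module and `p ≥ 0`. Then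
`Ext^p_{O_X}(X; A, B)`, the Ext group computed in the category of `O_X`-modules, is isomorphic to
`H^p(X, Hom_{O_X}(A, B))`. (Existence of an isomorphism of abelian groups only; the published
isomorphisms are canonical, the edge maps of the local-to-global spectral sequence for Ext. The
published statement is for an arbitrary ringed space; this row is the case of a scheme.) -/
theorem result (X : Scheme.{u}) [HasExt.{u} X.Modules]
    (A B : X.Modules) (hA : FlatMod.IsFinLocFree A) [DCoh.HasSheafHom A] (p : ℕ) :
    Nonempty (Abelian.Ext A B p ≃+ Coh.HH X ((DCoh.sheafHom A).obj B) p) := by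
  haveI : HasExt.{u} (ModSite.Mod X.sheaf) := inferInstanceAs (HasExt.{u} X.Modules)
  haveI : ModSite.HasSheafHom (O := X.sheaf) A := ModGroth.hasSheafHom A
  obtain ⟨e, -⟩ := SSExist.exists_ext_sheafHom_addEquiv (O := X.sheaf) A
    (fun M N g hg => haveI : Epi (C := X.Modules) g := hg
      ModGroth.SheafHomExact.epi_sheafHom_map (X := X) hA (G := M) (G' := N) g) p
  let j := (SheafOfModules.toSheaf X.ringCatSheaf).mapIso ((SSExist.homXIso A).app B)
  let e' : Abelian.Ext.{u} A B p ≃+ Coh.HH X ((SSExist.homX A).obj B) p := e B
  exact ⟨e'.trans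
    { (Sheaf.H.map j.hom p : Coh.HH X ((SSExist.homX A).obj B) p →+ Coh.HH X ((DCoh.sheafHom A).obj B) p) with
      invFun := Sheaf.H.map j.inv p
      left_inv := fun x => ((Sheaf.H.map_comp_apply _ _ x).symm.trans
        (congrArg (fun z => Sheaf.H.map z p x) j.hom_inv_id)).trans (Sheaf.H.map_id_apply _)
      right_inv := fun x => ((Sheaf.H.map_comp_apply _ _ x).symm.trans
        (congrArg (fun z => Sheaf.H.map z p x) j.inv_hom_id)).trans (Sheaf.H.map_id_apply _) }⟩

end Groth.Agent.S12483
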