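import Groth.Statements.S12280
import Groth.Agent.HilbLoc.Normal.Tangent
import Groth.Agent.HilbLoc.Rep.Point
import Groth.Agent.HilbLoc.Rep.IsoClosed
import Groth.Agent.HilbLoc.Regular
import Groth.Agent.HilbLoc.ConormalFree
import Groth.Agent.MultMap.Finite
import Groth.Agent.ModGroth.FinLocFree
import Groth.Agent.LocFree.Basic
import Groth.Agent.S12483

set_option autoImplicit false
universe u
open CategoryTheory CategoryTheory.Limits AlgebraicGeometry
open scoped TensorProduct
attribute [local instance] HasDerivedCategory.standard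
open DefT

namespace Groth.Agent.S12280

open Groth.Agent in
theorem isSmoothFunctor_of_regular {k : Type u} [Field k] {X Y : Scheme.{u}} (x : X ⟶ Spec (CommRingCat.of k))
    (i : Y ⟶ X) [IsClosedImmersion i] (hreg : Mor2.IsRegularClosedImmersion i)
    [DCoh.HasSheafHom (Omega.conormal i)]
    (h1 : Subsingleton (Coh.HH Y ((DCoh.sheafHom (Omega.conormal i)).obj (Coh.structureModule Y)) 1)) :
    ArtFun.IsSmoothFunctor (ArtFun.localHilb X x i.ker) := by
  haveI : HasExt.{u} Y.Modules := ModGroth.sheaf_hasExt Y.ringCatSheaf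
  let e : Y ≅ i.ker.subscheme := asIso i.toImage
  have he : e.hom ≫ i.ker.subschemeι = i := i.toImage_imageι
  let E := HilbLoc.Rep.pullEquiv e
  haveI : (Scheme.Modules.pullback e.hom).IsEquivalence := E.isEquivalence_functor
  haveI : (Scheme.Modules.pullback e.hom).Additive :=
    (Scheme.Modules.pullbackPushforwardAdjunction e.hom).left_adjoint_additive
  let eN : (Scheme.Modules.pullback e.hom).obj
      ((Scheme.Modules.pullback i.ker.subschemeι).obj (ClSub.idealMod i.ker)) ≅ Omega.conormal i :=
    (Scheme.Modules.pullbackComp e.hom i.ker.subschemeι).app _ ≪≫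
      (eqToIso (by rw [he])).app (ClSub.idealMod i.ker)
  let eP : (Scheme.Modules.pullback e.hom).obj (Coh.structureModule i.ker.subscheme) ≅ Coh.structureModule Y :=
    ((Scheme.Modules.restrictFunctorIsoPullback e.hom).app _).symm ≪≫ Scheme.Modules.restrictUnitIso e.hom
  have hreg' := HilbLoc.Rep.isRegularClosedImmersion_subschemeι i hreg
  have hfree : FlatMod.IsFinLocFree (Omega.conormal i) := by
    have h := HilbLoc.isFinLocFree_conormal i.ker hreg'
    have h' : FlatMod.IsFinLocFree ((Scheme.Modules.pullback i.ker.subschemeι).obj (ClSub.idealMod i.ker)) := by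
      simp only [Omega.conormal] at h
      rwa [Scheme.IdealSheafData.ker_subschemeι] at h
    exact LocFree.IsFinLocFree.of_iso eN (ModGroth.Perf.isFinLocFree_pullback e.hom h')
  obtain ⟨eExt⟩ := S12483.result Y (Omega.conormal i) (Coh.structureModule Y) hfree 1
  exact HilbLoc.isSmoothFunctor_regular' x i.ker hreg' fun a b hab hS =>
    HilbLoc.Rep.exists_retraction_of_equivalence (Scheme.Modules.pullback e.hom) a b hab hS eP eN
      eExt.toEquiv.subsingleton


/-- Let k be an algebraically closed field, X = P^n_k, and (H, Z) a Hilbert scheme of X over k: H is a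
locally Noetherian k-scheme and Z ⊆ X ×_k H a closed subscheme, proper and flat over H, such that
every closed subscheme of X ×_k T proper and flat over a locally Noetherian k-scheme T is the
pull-back of Z along a unique k-morphism T → H. Let Y ⊆ X be a closed subscheme, regarded as a
k-scheme through X, with ideal sheaf I and normal sheaf N = Hom_{O_Y}(I/I², O_Y) (the sheaf Hom,
assumed to exist as the right adjoint of tensoring with I/I²), and let y ∈ H be the k-point
classifying Y (the pull-back of Z along Spec k → H is Y). If Y → X is a regular closed immersion (Y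
is a local complete intersection in X) and H^1(Y, N) = 0, then H is nonsingular at y: the local ring
O_{H,y} is regular, and its dimension equals dim_k H^0(Y, N). -/
theorem result
    {k : Type u} [Field k] [IsAlgClosed k] (n : ℕ)
    (H : Over (Spec (CommRingCat.of k))) (Z : FGA.HilbSet (CohB1.ProjSpaceOver.toBase n (Spec (CommRingCat.of k))) H) (hH : FGA.HilbRepresentedBy (CohB1.ProjSpaceOver.toBase n (Spec (CommRingCat.of k))) H Z)
    (Y : Scheme.{u}) [Y.Over (Spec (CommRingCat.of k))] (i : Y ⟶ CohB1.ProjSpaceOver n (Spec (CommRingCat.of k))) [IsClosedImmersion i]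
    (hi : i ≫ CohB1.ProjSpaceOver.toBase n (Spec (CommRingCat.of k)) = Y ↘ Spec (CommRingCat.of k))
    (hreg : Mor2.IsRegularClosedImmersion i)
    [DCoh.HasSheafHom (Omega.conormal i)]
    (y : Over.mk (𝟙 (Spec (CommRingCat.of k))) ⟶ H)
    (hy : FGA.hilbPull (CohB1.ProjSpaceOver.toBase n (Spec (CommRingCat.of k))) y Z.1 = i.ker.comap (pullback.fst (CohB1.ProjSpaceOver.toBase n (Spec (CommRingCat.of k))) (Over.mk (𝟙 (Spec (CommRingCat.of k)))).hom))
    (h1 : Subsingleton (Coh.HH Y ((DCoh.sheafHom (Omega.conormal i)).obj (Coh.structureModule Y)) 1)) :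
    IsRegularLocalRing (H.left.presheaf.stalk (y.left.base (IsLocalRing.closedPoint k))) ∧
      ringKrullDim (H.left.presheaf.stalk (y.left.base (IsLocalRing.closedPoint k))) = (Module.finrank k (Coh.HH Y ((DCoh.sheafHom (Omega.conormal i)).obj (Coh.structureModule Y)) 0) : WithBot ℕ∞) := by
  have : IsProper (CohB1.ProjSpaceOver.toBase n (Spec (CommRingCat.of k))) :=
    MorphismProperty.pullback_snd _ _ (Groth.Agent.MultMap.isProper_toSpec n (ULift.{u} ℤ))
  have : IsLocallyNoetherian H.left := hH.1
  obtain ⟨alg, res, ξ, hξ⟩ := Groth.Agent.HilbLoc.Rep.exists_universal _ y Z hH i.ker hy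
  obtain ⟨T⟩ := Groth.Agent.ArtFunLib.exists_tangentStr
    (Groth.Agent.HilbLoc.h0 (CohB1.ProjSpaceOver.toBase n (Spec (CommRingCat.of k))) i.ker)
    (Groth.Agent.HilbLoc.heps (CohB1.ProjSpaceOver.toBase n (Spec (CommRingCat.of k))) i.ker)
  obtain ⟨e⟩ := Groth.Agent.HilbLoc.Normal.nonempty_tangent_linearEquiv
    (x := CohB1.ProjSpaceOver.toBase n (Spec (CommRingCat.of k))) (i := i) hi.symm
  rw [← e.finrank_eq]
  exact Groth.Agent.HilbLoc.Rep.regular_of_smooth ξ hξ
    (isSmoothFunctor_of_regular _ i hreg h1)

end Groth.Agent.S12280
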