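import Groth.Statements.S12285
import Groth.Agent.CotLib.JZSeq
-- import your own Groth.Agent.* helpers here

set_option autoImplicit false
universe u w m
open scoped TensorProduct
open DefT

namespace Groth.Agent.S12285

/-- Let A → B → C be ring homomorphisms and M a C-module. Compute T^i(C/B, M), T^i(C/A, M) and T^i(B/A,
M) from the choice-free presentations (every element a variable, every kernel element a relation),
and let T^i(C/B, M) → T^i(C/A, M) and T^i(C/A, M) → T^i(B/A, M) be the maps induced by the morphisms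
of presentations given by A → B over the identity of C and by B → C over the identity of A. Then
T^0(C/B, M) → T^0(C/A, M) is injective, the sequences T^i(C/B, M) → T^i(C/A, M) → T^i(B/A, M) are
exact for i = 0, 1, 2, and there are additive connecting maps δ₀ : T^0(B/A, M) → T^1(C/B, M) and δ₁
: T^1(B/A, M) → T^2(C/B, M) making the nine-term sequence 0 → T^0(C/B) → T^0(C/A) → T^0(B/A) →
T^1(C/B) → T^1(C/A) → T^1(B/A) → T^2(C/B) → T^2(C/A) → T^2(B/A) exact. (The connecting maps are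
asserted to exist with this exactness only, and only as additive maps; the published statement is an
exact sequence of C-modules, with C-linear connecting maps.) -/
theorem result
    (A B C : Type u) [CommRing A] [CommRing B] [CommRing C] [Algebra A B] [Algebra B C] [Algebra A C]
    [IsScalarTower A B C] (M : Type u) [AddCommGroup M] [Module C M] [Module B M] [IsScalarTower B C M] :
    Function.Injective ((CotT.canonHom A C B C).T0pull M) ∧
    Function.Exact ((CotT.canonHom A C B C).T0pull M) ((CotT.canonHom A B A C).T0pull M) ∧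
    Function.Exact ((CotT.canonHom A C B C).T1pull M) ((CotT.canonHom A B A C).T1pull M) ∧
    Function.Exact ((CotT.canonHom A C B C).T2pull M) ((CotT.canonHom A B A C).T2pull M) ∧
    ∃ (δ₀ : CotT.T0 (CotT.canon A B) M →+ CotT.T1 (CotT.canon B C) M)
      (δ₁ : CotT.T1 (CotT.canon A B) M →+ CotT.T2 (CotT.canon B C) M),
      Function.Exact ((CotT.canonHom A B A C).T0pull M) δ₀ ∧ Function.Exact δ₀ ((CotT.canonHom A C B C).T1pull M) ∧
      Function.Exact ((CotT.canonHom A B A C).T1pull M) δ₁ ∧ Function.Exact δ₁ ((CotT.canonHom A C B C).T2pull M) := by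
  let Q := CotT.canon B C
  let P := CotT.canon A B
  obtain ⟨e⟩ := CotLib.nonempty_presHom (CotT.canon A C) (Q.comp P)
  have f0 : ∀ x, (CotT.canonHom A C B C).T0pull M x = e.T0pull M ((CotLib.rightHom Q P).T0pull M x) :=
    fun x => by rw [← CotLib.T0pull_comp, CotLib.T0pull_eq (CotT.canonHom A C B C) (CotLib.comp (CotLib.rightHom Q P) e) M]
  have f1 : ∀ x, (CotT.canonHom A C B C).T1pull M x = e.T1pull M ((CotLib.rightHom Q P).T1pull M x) :=
    fun x => by rw [← CotLib.T1pull_comp, CotLib.T1pull_eq (CotT.canonHom A C B C) (CotLib.comp (CotLib.rightHom Q P) e) M]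
  have f2 : ∀ x, (CotT.canonHom A C B C).T2pull M x = e.T2pull M ((CotLib.rightHom Q P).T2pull M x) :=
    fun x => by rw [← CotLib.T2pull_comp, CotLib.T2pull_eq (CotT.canonHom A C B C) (CotLib.comp (CotLib.rightHom Q P) e) M]
  have g0 : ∀ x, (CotT.canonHom A B A C).T0pull M (e.T0pull M x) = (CotLib.leftHom Q P).T0pull M x :=
    fun x => by rw [← CotLib.T0pull_comp, CotLib.T0pull_eq (CotLib.comp e (CotT.canonHom A B A C)) (CotLib.leftHom Q P) M]
  have g1 : ∀ x, (CotT.canonHom A B A C).T1pull M (e.T1pull M x) = (CotLib.leftHom Q P).T1pull M x :=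
    fun x => by rw [← CotLib.T1pull_comp, CotLib.T1pull_eq (CotLib.comp e (CotT.canonHom A B A C)) (CotLib.leftHom Q P) M]
  have g2 : ∀ x, (CotT.canonHom A B A C).T2pull M (e.T2pull M x) = (CotLib.leftHom Q P).T2pull M x :=
    fun x => by rw [← CotLib.T2pull_comp, CotLib.T2pull_eq (CotLib.comp e (CotT.canonHom A B A C)) (CotLib.leftHom Q P) M]
  have b0 := CotLib.T0pull_bijective M e
  have b1 := CotLib.T1pull_bijective M e
  have b2 := CotLib.T2pull_bijective M e
  obtain ⟨j0, x0, x1, x2, δ₀, δ₁, y0, y1, y2, y3⟩ := CotLib.jz Q P M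
  refine ⟨fun a b h => j0 (b0.1 (by rw [← f0, ← f0, h])), fun z => ?_, fun z => ?_, fun z => ?_,
    δ₀, δ₁, fun z => ?_, fun z => ?_, fun z => ?_, fun z => ?_⟩
  · obtain ⟨w, rfl⟩ := b0.2 z
    rw [g0, x0 w]
    exact ⟨fun ⟨a, ha⟩ => ⟨a, by rw [f0, ha]⟩, fun ⟨a, ha⟩ => ⟨a, b0.1 (by rw [← f0, ha])⟩⟩
  · obtain ⟨w, rfl⟩ := b1.2 z
    rw [g1, x1 w]
    exact ⟨fun ⟨a, ha⟩ => ⟨a, by rw [f1, ha]⟩, fun ⟨a, ha⟩ => ⟨a, b1.1 (by rw [← f1, ha])⟩⟩
  · obtain ⟨w, rfl⟩ := b2.2 z
    rw [g2, x2 w]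
    exact ⟨fun ⟨a, ha⟩ => ⟨a, by rw [f2, ha]⟩, fun ⟨a, ha⟩ => ⟨a, b2.1 (by rw [← f2, ha])⟩⟩
  · refine (y0 z).trans ⟨fun ⟨a, ha⟩ => ⟨e.T0pull M a, by rw [g0, ha]⟩, fun ⟨a, ha⟩ => ?_⟩
    obtain ⟨w, rfl⟩ := b0.2 a
    exact ⟨w, by rw [← g0, ha]⟩
  · rw [f1, ← y1 z]
    exact map_eq_zero_iff (e.T1pull M) b1.1
  · refine (y2 z).trans ⟨fun ⟨a, ha⟩ => ⟨e.T1pull M a, by rw [g1, ha]⟩, fun ⟨a, ha⟩ => ?_⟩
    obtain ⟨w, rfl⟩ := b1.2 a
    exact ⟨w, by rw [← g1, ha]⟩
  · rw [f2, ← y3 z]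
    exact map_eq_zero_iff (e.T2pull M) b2.1

end Groth.Agent.S12285
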