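import Groth.Statements.S12286
import Mathlib
-- import your own Groth.Agent.* helpers here

set_option autoImplicit false
universe u w m
open scoped TensorProduct
open DefT

namespace Groth.Agent.S12286

/-- Let A → B be a ring homomorphism, P a presentation of B over A and M a B-module. The canonical
B-linear map from the A-derivations Der_A(B, M) = Hom_B(Ω_{B/A}, M) to T^0(B/A, M) (the kernel of
Hom_B(L₀, M) → Hom_B(L₁, M), L₀ = B ⊗_R Ω_{R/A}), sending a derivation D to b ⊗ dr ↦ b·D(r̄), is
bijective. -/
theorem result
    (A B : Type u) [CommRing A] [CommRing B] [Algebra A B] (ι σ : Type w) (P : Algebra.Presentation A B ι σ)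
    (M : Type m) [AddCommGroup M] [Module B M] [Module A M] [IsScalarTower A B M] :
    Function.Bijective (CotT.derToT0 P M) := by
  constructor
  · intro D D' h
    ext b
    obtain ⟨r, rfl⟩ := P.toExtension.algebraMap_surjective b
    have := congr_arg (fun φ : CotT.T0 P M => (φ : CotT.L0 P →ₗ[B] M)
      ((1 : B) ⊗ₜ KaehlerDifferential.D A P.toExtension.Ring r)) h
    simpa using this
  · intro φ
    letI : Module P.toExtension.Ring M := Module.compHom M (algebraMap P.toExtension.Ring B)
    haveI : IsScalarTower P.toExtension.Ring B M := IsScalarTower.of_compHom P.toExtension.Ring B M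
    let d : P.toExtension.Ring → M := fun r =>
      (φ : CotT.L0 P →ₗ[B] M) ((1 : B) ⊗ₜ KaehlerDifferential.D A P.toExtension.Ring r)
    have hsur : Function.Surjective (algebraMap P.toExtension.Ring B) :=
      P.toExtension.algebraMap_surjective
    have hd_add : ∀ x y, d (x + y) = d x + d y := fun x y => by
      simp [d, TensorProduct.tmul_add]
    have hd_mul : ∀ x y, d (x * y) = algebraMap P.toExtension.Ring B x • d y +
        algebraMap P.toExtension.Ring B y • d x := fun x y => by
      simp only [d, Derivation.leibniz, TensorProduct.tmul_add, TensorProduct.tmul_smul, map_add]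
      rw [← algebraMap_smul B x, ← algebraMap_smul B y, map_smul, map_smul]
    have hker : ∀ r, algebraMap P.toExtension.Ring B r = 0 → d r = 0 := by
      intro r hr
      have hr' : r ∈ LinearMap.range (CotT.jmap P) := by
        rw [CotT.range_jmap]; exact hr
      obtain ⟨f, rfl⟩ := hr'
      have h0 := LinearMap.mem_ker.mp φ.2
      rw [CotT.d1Star_apply] at h0
      have := LinearMap.congr_fun h0 ((1 : B) ⊗ₜ f)
      simpa [d] using this
    have hd_const : ∀ a : A, d (algebraMap A _ a) = 0 := fun a => by simp [d]
    have hwell : ∀ x y, algebraMap P.toExtension.Ring B x = algebraMap P.toExtension.Ring B y →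
        d x = d y := by
      intro x y hxy
      have hxy' : x = (x - y) + y := by ring
      rw [hxy', hd_add, hker (x - y) (by rw [map_sub, hxy, sub_self]), zero_add]
    choose sec hsec using hsur
    let D₀ : B →ₗ[A] M :=
      { toFun := fun b => d (sec b)
        map_add' := fun x y => by
          rw [← hd_add]; exact hwell _ _ (by simp [hsec])
        map_smul' := fun a x => by
          rw [RingHom.id_apply, hwell (sec (a • x)) (algebraMap A _ a * sec x)
            (by rw [map_mul, hsec, hsec, ← IsScalarTower.algebraMap_apply, Algebra.smul_def]),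
            hd_mul, hd_const, smul_zero, add_zero, ← IsScalarTower.algebraMap_apply,
            algebraMap_smul] }
    let D : Derivation A B M := Derivation.mk' D₀ fun x y => by
      show d (sec (x * y)) = x • d (sec y) + y • d (sec x)
      rw [hwell (sec (x * y)) (sec x * sec y) (by simp [hsec]), hd_mul, hsec, hsec]
    refine ⟨D, Subtype.ext ?_⟩
    rw [CotT.derToT0_apply]
    refine (P.cotangentSpaceBasis).ext fun i => ?_
    rw [CotT.derLift_basis]
    erw [Algebra.Generators.cotangentSpaceBasis_apply]
    show d (sec (P.val i)) = _
    rw [hwell (sec (P.val i)) (MvPolynomial.X i) (by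
      rw [hsec, CotT.algebraMap_toExtension, MvPolynomial.aeval_X])]
    rfl

end Groth.Agent.S12286
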