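import Groth.Statements.S12287
import Groth.Agent.CotLib.Iso
-- import your own Groth.Agent.* helpers here

set_option autoImplicit false
universe u w m
open scoped TensorProduct
open DefT

namespace Groth.Agent.S12287

/-- Let B be an A-algebra that is isomorphic over A to a polynomial ring A[x_j] in some set of
variables. Then for every B-module M the modules T^1(B/A, M) and T^2(B/A, M), computed from the
choice-free presentation of B over A (every element of B a variable, every element of the kernel a
relation), are zero. -/
theorem result
    (A B : Type u) [CommRing A] [CommRing B] [Algebra A B] (κ : Type u) (e : MvPolynomial κ A ≃ₐ[A] B)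
    (M : Type u) [AddCommGroup M] [Module B M] :
    Subsingleton (CotT.T1 (CotT.canon A B) M) ∧ Subsingleton (CotT.T2 (CotT.canon A B) M) := by
  classical
  let G : Algebra.Generators A B κ := Algebra.Generators.ofAlgHom e.toAlgHom e.surjective
  have hker : G.ker = ⊥ := by
    rw [Algebra.Generators.ker_ofAlgHom]
    exact (RingHom.injective_iff_ker_eq_bot e.toAlgHom.toRingHom).1 e.injective
  let Q : Algebra.Presentation A B κ PEmpty.{u+1} :=
    { toGenerators := G
      relation := PEmpty.elim
      span_range_relation_eq_ker := by rw [hker, Set.range_eq_empty, Ideal.span_empty] }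
  haveI : Subsingleton (CotT.L1 Q →ₗ[B] M) :=
    ⟨fun φ ψ => (CotT.L1basis Q).ext fun s => s.elim⟩
  haveI : Subsingleton (CotT.L2 Q →ₗ[B] M) := ⟨fun φ ψ => CotLib.L2_ext Q fun q => by
    have h0 : q = 0 := Subtype.ext (Subsingleton.elim _ _)
    have h1 : CotLib.cls Q q = 0 := by
      rw [h0, CotLib.cls, TensorProduct.tmul_zero, Submodule.Quotient.mk_zero]
    rw [h1, map_zero, map_zero]⟩
  haveI : Subsingleton (CotT.T1 Q M) := (Submodule.Quotient.mk_surjective _).subsingleton
  haveI : Subsingleton (CotT.T2 Q M) := (Submodule.Quotient.mk_surjective _).subsingleton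
  exact ⟨(CotLib.T1equiv (CotT.canon A B) Q M).symm.injective.subsingleton,
    (CotLib.T2equiv (CotT.canon A B) Q M).symm.injective.subsingleton⟩

end Groth.Agent.S12287
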