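import Groth.Statements.S12288
import Groth.Agent.CotLib.Iso
import Groth.Agent.CotLib.Syzygy
-- import your own Groth.Agent.* helpers here

set_option autoImplicit false
set_option backward.isDefEq.respectTransparency false
universe u w m
open scoped TensorProduct
open DefT

namespace Groth.Agent.S12288

/-- Let A be a local ring and A → B a surjective ring homomorphism whose kernel is generated by a
regular sequence a_1, …, a_r on A (each a_i is a non-zero-divisor on A/(a_1, …, a_{i-1}) and the
ideal is proper). Then T^2(B/A, M) = 0 for every B-module M, the module being computed from the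
choice-free presentation of B over A. -/
theorem result
    (A B : Type u) [CommRing A] [IsLocalRing A] [CommRing B] [Algebra A B]
    (hs : Function.Surjective (algebraMap A B)) (rs : List A) (hreg : RingTheory.Sequence.IsRegular A rs)
    (hI : RingHom.ker (algebraMap A B) = Ideal.ofList rs) (M : Type u) [AddCommGroup M] [Module B M] :
    Subsingleton (CotT.T2 (CotT.canon A B) M) := by
  classical
  let ev : MvPolynomial PEmpty.{u+1} A ≃ₐ[A] A := MvPolynomial.isEmptyAlgEquiv A PEmpty.{u+1}
  let G : Algebra.Generators A B PEmpty.{u+1} :=
    Algebra.Generators.ofSurjective PEmpty.elim (fun b => by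
      obtain ⟨a, rfl⟩ := hs b
      exact ⟨MvPolynomial.C a, by simp⟩)
  have hev : ∀ x : MvPolynomial PEmpty.{u+1} A, MvPolynomial.C (ev x) = x := fun x => by
    conv_rhs => rw [← ev.symm_apply_apply x]
    rfl
  have hmemC : ∀ a : A, (MvPolynomial.C a : G.Ring) ∈ G.ker ↔ a ∈ RingHom.ker (algebraMap A B) := by
    intro a
    rw [Algebra.Generators.ker_eq_ker_aeval_val, RingHom.mem_ker, RingHom.mem_ker]
    simp
  let Q : Algebra.Presentation A B PEmpty.{u+1} (Fin rs.length) :=
    { toGenerators := G
      relation := fun i => MvPolynomial.C (rs.get i)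
      span_range_relation_eq_ker := by
        rw [Set.range_comp' (g := MvPolynomial.C), ← Ideal.map_span,
          show Ideal.span (Set.range rs.get) = Ideal.ofList rs by rw [Set.range_list_get], ← hI]
        refine le_antisymm ?_ fun x hx => ?_
        · rw [Ideal.map_le_iff_le_comap]
          exact fun a ha => (hmemC a).2 ha
        · rw [← hev x] at hx ⊢
          exact Ideal.mem_map_of_mem _ ((hmemC _).1 hx) }
  have hsyz : ∀ q : CotT.relKer Q, (q : CotT.relMod Q) ∈ CotT.trivRel Q := by
    intro q
    let R' : Type u := MvPolynomial PEmpty.{u+1} A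
    let a : Fin rs.length → Q.toExtension.Ring := fun i => MvPolynomial.C (rs.get i)
    have hreg' : ∀ k : Fin rs.length, ∀ x : Q.toExtension.Ring, a k * x ∈ Ideal.span (a '' {i | i < k}) →
        x ∈ Ideal.span (a '' {i | i < k}) := by
      intro k (x : R') hx
      let a : Fin rs.length → R' := fun i => MvPolynomial.C (rs.get i)
      change a k * x ∈ Ideal.span (a '' {i | i < k}) at hx
      show x ∈ Ideal.span (a '' {i | i < k})
      have himg : a '' {i | i < k} = MvPolynomial.C '' (rs.get '' {i | i < k}) := by
        rw [Set.image_image]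
      rw [himg, ← Ideal.map_span] at hx ⊢
      have hx' := Ideal.mem_map_of_mem ev.toRingEquiv.toRingHom hx
      rw [Ideal.map_map, show ev.toRingEquiv.toRingHom.comp MvPolynomial.C = RingHom.id A from
        RingHom.ext fun r => ev.commutes r, Ideal.map_id] at hx'
      have hk : ev.toRingEquiv.toRingHom (a k * x) = rs.get k * ev x := by
        show ev (a k * x) = _
        rw [map_mul]
        exact congrArg (· * _) (ev.commutes _)
      rw [hk] at hx'
      rw [← hev x]
      exact Ideal.mem_map_of_mem _ (CotLib.mem_of_isWeaklyRegular hreg.toIsWeaklyRegular k _ hx')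
    let E : CotT.relMod Q ≃ₗ[Q.toExtension.Ring] (Fin rs.length → Q.toExtension.Ring) :=
      Finsupp.linearEquivFunOnFinite Q.toExtension.Ring Q.toExtension.Ring (Fin rs.length)
    have hj : ∀ f : CotT.relMod Q, CotT.jmap Q f = CotLib.lin a (E f) := by
      intro f
      induction f using Finsupp.induction_linear with
      | zero => simp [CotLib.lin]
      | add f g hf hg =>
        rw [map_add, hf, hg, map_add]
        simp only [CotLib.lin, Pi.add_apply, add_mul, Finset.sum_add_distrib]
      | single s r =>
        rw [CotT.jmap_single, show E (Finsupp.single s r) = Pi.single s r from Finsupp.single_eq_pi_single s r,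
          CotLib.lin_single]
    have h0 : CotLib.lin a (E q) = 0 := (hj q).symm.trans q.2
    have hmem := CotLib.mem_triv_of_lin_eq_zero a hreg' _ h0
    suffices ∀ y ∈ CotLib.triv a, E.symm y ∈ CotT.trivRel Q by
      have := this _ hmem
      rwa [LinearEquiv.symm_apply_apply] at this
    intro y hy
    induction hy using Submodule.span_induction with
    | mem y hy =>
      obtain ⟨u, v, rfl⟩ := hy
      refine Submodule.subset_span ⟨E.symm u, E.symm v, ?_⟩
      rw [map_sub, map_smul, map_smul, hj, hj, LinearEquiv.apply_symm_apply,
        LinearEquiv.apply_symm_apply]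
    | zero => rw [map_zero]; exact zero_mem _
    | add x y _ _ hx hy => rw [map_add]; exact add_mem hx hy
    | smul c x _ hx => rw [map_smul]; exact (CotT.trivRel Q).smul_mem c hx
  haveI : Subsingleton (CotT.L2 Q →ₗ[B] M) := ⟨fun φ ψ => CotLib.L2_ext Q fun q => by
    have h1 : CotLib.cls Q q = 0 := by
      rw [CotLib.cls_congr Q (x := q) (y := 0) ((CotLib.mk_eq_mk Q).2 (by simpa using hsyz q)),
        CotLib.cls, TensorProduct.tmul_zero, Submodule.Quotient.mk_zero]
    rw [h1, map_zero, map_zero]⟩
  haveI : Subsingleton (CotT.T2 Q M) := (Submodule.Quotient.mk_surjective _).subsingleton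
  exact (CotLib.T2equiv (CotT.canon A B) Q M).symm.injective.subsingleton

end Groth.Agent.S12288
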