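import Groth.Statements.S12289
-- import your own Groth.Agent.* helpers here

set_option autoImplicit false
universe u w m
open scoped TensorProduct
open DefT

namespace Groth.Agent.S12289

open CotT TensorProduct

theorem toCot_surjective {k B : Type u} [CommRing k] [CommRing B] [Algebra k B] {ι σ : Type w}
    (P : Algebra.Presentation k B ι σ) : Function.Surjective (toCot P) := by
  intro y
  obtain ⟨⟨x, hx⟩, rfl⟩ := Algebra.Extension.Cotangent.mk_surjective y
  have h : x ∈ LinearMap.range (jmap P) := by rw [range_jmap]; exact hx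
  obtain ⟨f, rfl⟩ := h
  exact ⟨1 ⊗ₜ f, by rw [toCot_tmul, one_smul]; rfl⟩

theorem ker_toCot_le {k B : Type u} [CommRing k] [CommRing B] [Algebra k B] {ι σ : Type w}
    (P : Algebra.Presentation k B ι σ) : LinearMap.ker (toCot P) ≤ LinearMap.range (d2 P) := by
  intro x hx
  have hsurj : Function.Surjective (algebraMap P.toExtension.Ring B) := P.toExtension.algebraMap_surjective
  obtain ⟨f, rfl⟩ := TensorProduct.mk_surjective P.toExtension.Ring (relMod P) B hsurj x
  rw [TensorProduct.mk_apply] at hx ⊢
  rw [LinearMap.mem_ker, toCot_tmul, one_smul, Algebra.Extension.Cotangent.mk_eq_zero_iff, jker_apply] at hx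
  have hle : P.toExtension.ker ^ 2 ≤
      (P.toExtension.ker • (⊤ : Submodule P.toExtension.Ring (relMod P))).map (jmap P) := by
    rw [Submodule.map_smul'', Submodule.map_top, range_jmap, pow_two]
    exact le_rfl
  obtain ⟨f₂, hf₂, hj⟩ := hle hx
  have h2 : (1 : B) ⊗ₜ[P.toExtension.Ring] f₂ = (0 : L1 P) := by
    refine Submodule.smul_induction_on hf₂ (fun r hr m _ => ?_) (fun a b ha hb => ?_)
    · rw [← TensorProduct.smul_tmul, Algebra.smul_def, mul_one, RingHom.mem_ker.mp hr,
        TensorProduct.zero_tmul]
    · rw [TensorProduct.tmul_add, ha, hb, add_zero]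
  refine ⟨Submodule.Quotient.mk ((1 : B) ⊗ₜ ⟨f - f₂, ?_⟩), ?_⟩
  · show jmap P (f - f₂) = 0
    rw [map_sub, hj, sub_self]
  · rw [d2_mk_tmul, TensorProduct.tmul_sub, h2, sub_zero]

/-- Let k be a commutative ring and B a k-algebra presented as R/I with R = k[x_i] a polynomial ring
(any set of variables) and chosen generators of I, and let M be a B-module; T^0(B/k, M) and T^1(B/k,
M) are computed from this presentation. Then the sequence 0 → T^0(B/k, M) → Hom_B(Ω_{R/k} ⊗_R B, M)
→ Hom_B(I/I², M) → T^1(B/k, M) → 0 is exact, where the middle map is composition with the conormal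
map d : I/I² → Ω_{R/k} ⊗_R B and the last map sends φ to the class of φ ∘ (F/IF → I/I²): the
submodule T^0(B/k, M) of Hom_B(Ω_{R/k} ⊗ B, M) is the kernel of composition with d, the kernel of
Hom_B(I/I², M) → T^1(B/k, M) is the image of composition with d, and Hom_B(I/I², M) → T^1(B/k, M) is
surjective. (The published statement takes finitely many variables over a field and adds that the
same holds over any base ring; this row allows any base ring and any set of variables.) -/
theorem result
    (k B : Type u) [CommRing k] [CommRing B] [Algebra k B] (ι σ : Type w) (P : Algebra.Presentation k B ι σ)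
    (M : Type m) [AddCommGroup M] [Module B M] :
    LinearMap.ker (CotT.d1Star P M) = LinearMap.ker (LinearMap.lcomp B M P.toExtension.cotangentComplex) ∧
    LinearMap.ker (CotT.homToT1 P M) = LinearMap.range (LinearMap.lcomp B M P.toExtension.cotangentComplex) ∧
    Function.Surjective (CotT.homToT1 P M) := by
  have hs := toCot_surjective P
  refine ⟨?_, ?_, ?_⟩
  · ext φ
    rw [LinearMap.mem_ker, LinearMap.mem_ker]
    show φ.comp ((P.toExtension.cotangentComplex).comp (toCot P)) = 0 ↔
      φ.comp P.toExtension.cotangentComplex = 0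
    rw [← LinearMap.comp_assoc]
    exact ⟨fun h => (LinearMap.cancel_right hs).mp (by rw [h, LinearMap.zero_comp]),
      fun h => by rw [h, LinearMap.zero_comp]⟩
  · ext φ
    rw [LinearMap.mem_ker, homToT1, LinearMap.comp_apply, Submodule.mkQ_apply,
      Submodule.Quotient.mk_eq_zero]
    show φ.comp (toCot P) ∈ LinearMap.range (d1Star P M) ↔ _
    constructor
    · rintro ⟨ψ, hψ⟩
      refine ⟨ψ, (LinearMap.cancel_right hs).mp ?_⟩
      rw [← hψ]; rfl
    · rintro ⟨ψ, rfl⟩
      exact ⟨ψ, rfl⟩
  · intro z
    obtain ⟨c, rfl⟩ := Submodule.mkQ_surjective _ z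
    have hc : ∀ y, (c : L1 P →ₗ[B] M) (d2 P y) = 0 := fun y =>
      LinearMap.congr_fun (LinearMap.mem_ker.mp c.2) y
    have hker : LinearMap.ker (toCot P) ≤ LinearMap.ker (c : L1 P →ₗ[B] M) := fun x hx => by
      obtain ⟨y, rfl⟩ := ker_toCot_le P hx
      exact hc y
    let e := (toCot P).quotKerEquivOfSurjective hs
    refine ⟨((LinearMap.ker (toCot P)).liftQ _ hker).comp e.symm.toLinearMap, ?_⟩
    rw [homToT1, LinearMap.comp_apply]
    congr 1
    apply Subtype.ext
    refine LinearMap.ext fun x => ?_
    show (LinearMap.ker (toCot P)).liftQ _ hker (e.symm (toCot P x)) = _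
    have he : e.symm (toCot P x) = Submodule.Quotient.mk x := by
      rw [LinearEquiv.symm_apply_eq]; rfl
    rw [he]; rfl

end Groth.Agent.S12289
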