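import Groth.Statements.S12290
import Groth.Agent.CotLib.Vanish
import Groth.Agent.CotLib.SmoothRegular
import Groth.Agent.CotSplit.T1
import Mathlib.RingTheory.RegularLocalRing.Polynomial
import Mathlib.RingTheory.DedekindDomain.Basic
-- import your own Groth.Agent.* helpers here

set_option autoImplicit false
universe u w m
open scoped TensorProduct
open DefT

namespace Groth.Agent.S12290

/-- Smooth algebras over a field have vanishing `T²`. -/
theorem subsingleton_T2_of_smooth {k B : Type u} [Field k] [CommRing B] [Algebra k B]
    [Algebra.FinitePresentation k B] [Algebra.FormallySmooth k B]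
    (hreg : ∀ (p : Ideal B) [p.IsPrime], IsRegularLocalRing (Localization.AtPrime p))
    (M : Type u) [AddCommGroup M] [Module B M] : Subsingleton (CotT.T2 (CotT.canon k B) M) := by
  let Q := Algebra.Presentation.ofFinitePresentation k B
  haveI : Algebra.FormallySmooth k Q.toExtension.Ring :=
    inferInstanceAs (Algebra.FormallySmooth k (MvPolynomial _ k))
  haveI : IsRegularRing Q.toExtension.Ring := inferInstanceAs (IsRegularRing (MvPolynomial _ k))
  obtain ⟨l, hl⟩ := (Q.toExtension.formallySmooth_iff_split_injection).1 ‹_›
  haveI : Module.Free B Q.toExtension.CotangentSpace := Module.Free.of_basis Q.cotangentSpaceBasis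
  haveI : Module.Projective B Q.toExtension.Cotangent :=
    Module.Projective.of_split Q.toExtension.cotangentComplex l hl
  have hd2 : Function.Injective (CotT.d2 Q) := CotLib.d2_injective Q fun P hP hle _ => by
    let g := algebraMap Q.toExtension.Ring B
    have hg : Function.Surjective g := Q.toExtension.algebraMap_surjective
    have hker : RingHom.ker g ≤ P := hle
    let p : Ideal B := P.map g
    haveI : p.IsPrime := Ideal.map_isPrime_of_surjective hg hker
    have hcomap : p.comap g = P := by
      rw [Ideal.comap_map_of_surjective' g hg, sup_eq_left]; exact hker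
    have hmem : ∀ r, g r ∈ p ↔ r ∈ P := fun r => by rw [← Ideal.mem_comap, hcomap]
    have hT : Submonoid.map g P.primeCompl = p.primeCompl := by
      ext b
      constructor
      · rintro ⟨r, hr, rfl⟩
        exact fun h => hr ((hmem r).1 h)
      · intro hb
        obtain ⟨r, rfl⟩ := hg b
        exact ⟨r, fun h => hb ((hmem r).2 h), rfl⟩
    let ψ : Localization.AtPrime P →+* Localization.AtPrime p :=
      IsLocalization.map (Localization.AtPrime p) g (hT.symm ▸ P.primeCompl.le_comap_map)
    have hψ : Function.Surjective ψ := fun y => by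
      obtain ⟨b, t, rfl⟩ := IsLocalization.exists_mk'_eq p.primeCompl y
      obtain ⟨r, rfl⟩ := hg b
      obtain ⟨t', ht', htt⟩ : (t : B) ∈ Submonoid.map g P.primeCompl := by rw [hT]; exact t.2
      refine ⟨IsLocalization.mk' _ r (⟨t', ht'⟩ : P.primeCompl), ?_⟩
      rw [IsLocalization.map_mk']
      exact congrArg _ (Subtype.ext htt)
    have hkψ : RingHom.ker ψ = (RingHom.ker g).map (algebraMap _ (Localization.AtPrime P)) :=
      IsLocalization.ker_map (Localization.AtPrime p) g hT
    haveI := hreg p
    haveI : IsRegularLocalRing (Localization.AtPrime P) :=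
      IsRegularRing.isRegularLocalRing_localization P
    exact CotLib.exists_regStep _
      (IsRegularLocalRing.of_ringEquiv (RingHom.quotientKerEquivOfSurjective hψ |>.symm.trans
        (Ideal.quotEquivOfEq hkψ)))
  haveI := CotLib.subsingleton_T2 Q M hd2
  exact (CotLib.T2equiv (CotT.canon k B) Q M).symm.injective.subsingleton


/-- Let k be an algebraically closed field and B a finitely generated k-algebra, X = Spec B. Then X is
nonsingular (localizing B at any prime ideal gives a regular local ring) exactly when T^1(B/k, M)
vanishes for every B-module M; and when X is nonsingular, T^2(B/k, M) vanishes too, for every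
B-module M. Here T^1, T^2 are computed from the choice-free presentation of B over k. -/
theorem result
    (k B : Type u) [Field k] [IsAlgClosed k] [CommRing B] [Algebra k B] [Algebra.FiniteType k B] :
    ((∀ (p : Ideal B) [p.IsPrime], IsRegularLocalRing (Localization.AtPrime p)) ↔
      ∀ (M : Type u) [AddCommGroup M] [Module B M], Subsingleton (CotT.T1 (CotT.canon k B) M)) ∧
    ((∀ (p : Ideal B) [p.IsPrime], IsRegularLocalRing (Localization.AtPrime p)) →
      ∀ (M : Type u) [AddCommGroup M] [Module B M], Subsingleton (CotT.T2 (CotT.canon k B) M)) := by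
  haveI : Algebra.FinitePresentation k B := Algebra.FinitePresentation.of_finiteType.1 ‹_›
  have hiff : (∀ (p : Ideal B) [p.IsPrime], IsRegularLocalRing (Localization.AtPrime p)) ↔
      Algebra.FormallySmooth k B := by
    rw [← Algebra.smoothLocus_eq_univ_iff]
    refine ⟨fun h => Set.eq_univ_of_forall fun p => ?_, fun h p _ => ?_⟩
    · haveI := CotLib.isGeometricallyReduced_of_isAlgClosed (k := k) (K := p.asIdeal.ResidueField)
      exact (CotLib.isSmoothAt_iff_regular p.asIdeal).2 (h p.asIdeal)
    · haveI := CotLib.isGeometricallyReduced_of_isAlgClosed (k := k) (K := p.ResidueField)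
      refine (CotLib.isSmoothAt_iff_regular (k := k) p).1 ?_
      have : (⟨p, inferInstance⟩ : PrimeSpectrum B) ∈ Algebra.smoothLocus k B := h ▸ Set.mem_univ _
      exact this
  haveI : Algebra.FormallySmooth k (CotSplit.canonExt k B).Ring :=
    inferInstanceAs (Algebra.FormallySmooth k (MvPolynomial B k))
  refine ⟨hiff.trans ⟨fun hs M _ _ => ⟨fun a b => ?_⟩, fun h => ?_⟩,
    fun hreg M _ _ => by haveI := hiff.1 hreg; exact subsingleton_T2_of_smooth hreg M⟩
  · obtain ⟨l, hl⟩ := ((CotSplit.canonExt k B).formallySmooth_iff_split_injection).1 hs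
    have hsp : CotSplit.SplitUpTo (CotSplit.canonExt k B) (1 : B) := ⟨l, by rw [one_smul]; exact hl⟩
    have h0 : ∀ x : CotT.T1 (CotT.canon k B) M, x = 0 := fun x => by
      rw [← one_smul B x]; exact CotSplit.smul_T1_eq_zero_of_split hsp x
    rw [h0 a, h0 b]
  · obtain ⟨ψ, hψ⟩ := CotSplit.exists_extend_of_smul_T1_eq_zero (c := (1 : B))
      (M := (CotSplit.canonExt k B).Cotangent)
      (fun x => (h _).elim _ _) LinearMap.id
    refine ((CotSplit.canonExt k B).formallySmooth_iff_split_injection).2 ⟨ψ, ?_⟩
    rw [← hψ, one_smul]

end Groth.Agent.S12290
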