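import Groth.Statements.S12291
import Groth.Agent.CotLib.LocalCI
import Groth.Agent.S12285
import Groth.Agent.S12288
import Groth.Agent.DepthLib.CMModule
import Groth.Agent.DepthLib.RegularLocal
import Mathlib.RingTheory.KrullDimension.Regular
-- import your own Groth.Agent.* helpers here

set_option autoImplicit false
universe u w m
open scoped TensorProduct
open DefT

namespace Groth.Agent.S12291

/-- Let k be an algebraically closed field and A a regular local k-algebra with residue field k such
that T^1(A/k, N) = 0 and T^2(A/k, N) = 0 for all A-modules N; let I be a proper ideal of A and B =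
A/I. Then B is cut out of A as a local complete intersection — meaning I is generated by some list
of r elements with r + dim B = dim A, i.e. by dim A − dim B elements — exactly when T^2(B/k, M)
vanishes for each B-module M. The T^i are computed from the choice-free presentations. (The
published statement assumes only that A is a regular local k-algebra with residue field k; its proof
uses the vanishing of T^1(A/k, −) and T^2(A/k, −), which holds when A is essentially of finite type
over k and which this row carries as a hypothesis.) -/
theorem result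
    (k A : Type u) [Field k] [IsAlgClosed k] [CommRing A] [IsRegularLocalRing A] [Algebra k A]
    (hres : Function.Surjective (algebraMap k (IsLocalRing.ResidueField A)))
    (hT : ∀ (N : Type u) [AddCommGroup N] [Module A N],
      Subsingleton (CotT.T1 (CotT.canon k A) N) ∧ Subsingleton (CotT.T2 (CotT.canon k A) N))
    (I : Ideal A) (hI : I ≠ ⊤) :
    (∃ rs : List A, Ideal.ofList rs = I ∧ (rs.length : WithBot ℕ∞) + ringKrullDim (A ⧸ I) = ringKrullDim A) ↔
      ∀ (M : Type u) [AddCommGroup M] [Module (A ⧸ I) M], Subsingleton (CotT.T2 (CotT.canon k (A ⧸ I)) M) := by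
  haveI : IsLocalRing (A ⧸ I) :=
    haveI : Nontrivial (A ⧸ I) := Ideal.Quotient.nontrivial_iff.2 hI
    IsLocalRing.of_surjective' (Ideal.Quotient.mk I) Ideal.Quotient.mk_surjective
  have hs : Function.Surjective (algebraMap A (A ⧸ I)) := Ideal.Quotient.mk_surjective
  have hker : RingHom.ker (algebraMap A (A ⧸ I)) = I := Ideal.mk_ker
  have hiff : (∀ (M : Type u) [AddCommGroup M] [Module (A ⧸ I) M],
      Subsingleton (CotT.T2 (CotT.canon k (A ⧸ I)) M)) ↔
      ∀ (M : Type u) [AddCommGroup M] [Module (A ⧸ I) M],
      Subsingleton (CotT.T2 (CotT.canon A (A ⧸ I)) M) := by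
    constructor
    all_goals intro h M _ _
    all_goals
      letI : Module A M := Module.compHom M (Ideal.Quotient.mk I)
      haveI : IsScalarTower A (A ⧸ I) M := IsScalarTower.of_algebraMap_smul fun _ _ => rfl
      obtain ⟨-, -, -, e2, δ₀, δ₁, -, -, -, e3⟩ := Groth.Agent.S12285.result k A (A ⧸ I) M
      haveI := (hT M).1
      haveI := (hT M).2
    · refine ⟨fun a b => ?_⟩
      haveI := h M
      have hz : ∀ x, x = (0 : CotT.T2 (CotT.canon A (A ⧸ I)) M) := fun x => by
        obtain ⟨y, hy⟩ := (e3 x).1 (Subsingleton.elim _ _)
        rw [← hy, Subsingleton.elim y 0, map_zero]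
      rw [hz a, hz b]
    · refine ⟨fun a b => ?_⟩
      haveI := h M
      have hz : ∀ x, x = (0 : CotT.T2 (CotT.canon k (A ⧸ I)) M) := fun x => by
        obtain ⟨y, hy⟩ := (e2 x).1 (Subsingleton.elim _ _)
        rw [← hy, Subsingleton.elim y 0, map_zero]
      rw [hz a, hz b]
  rw [hiff]
  constructor
  · rintro ⟨rs, hrs, hdim⟩ M _ _
    have hmem : ∀ r ∈ rs, r ∈ IsLocalRing.maximalIdeal A := fun r hr =>
      IsLocalRing.le_maximalIdeal hI (hrs ▸ Ideal.subset_span hr)
    haveI := DepthLib.isCohenMacaulayLocalRing_of_isRegularLocalRing A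
    have hreg : RingTheory.Sequence.IsWeaklyRegular A rs := by
      refine DepthLib.isWeaklyRegular_of_supportDim_drop rs A DepthLib.isCohenMacaulayModule_self hmem
        (le_of_eq ?_)
      rw [Module.supportDim_self_eq_ringKrullDim, Module.supportDim_quotient_eq_ringKrullDim,
        show (Ideal.ofList rs • (⊤ : Submodule A A)) = I from
          (Ideal.mul_top (Ideal.ofList rs)).trans hrs, ← hdim, add_comm]
    exact Groth.Agent.S12288.result A (A ⧸ I) hs rs
      ((IsLocalRing.isRegular_iff_isWeaklyRegular_of_subset_maximalIdeal hmem).2 hreg)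
      (hker.trans hrs.symm) M
  · intro h
    obtain ⟨rs, hreg, hrs⟩ := CotLib.exists_regular_of_T2_eq_zero hs h
    rw [hker] at hrs
    refine ⟨rs, hrs, ?_⟩
    rw [← ringKrullDim_add_length_eq_ringKrullDim_of_isRegular rs hreg,
      ringKrullDim_eq_of_ringEquiv (Ideal.quotEquivOfEq hrs), add_comm]

end Groth.Agent.S12291
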