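import Groth.Statements.S12295
import Groth.Agent.CotLib.JZSeq
-- import your own Groth.Agent.* helpers here

set_option autoImplicit false
set_option backward.isDefEq.respectTransparency false
universe u w m
open scoped TensorProduct
open DefT

namespace Groth.Agent.S12295

/-- Let k be a commutative ring, B a k-algebra and P a presentation of B over k with polynomial ring R =
k[x_i] (any set of variables), so that B = R/I; let P' be a presentation of B over R with no
polynomial variables (R itself mapping onto B, with chosen generators of I), and M a B-module. Then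
T^2(B/R, M), computed from P', and T^2(B/k, M), computed from P, are isomorphic B-modules.
(Existence of a B-linear isomorphism only; the published statement has finitely many variables over
a field and notes that any base ring works.) -/
theorem result
    (k B : Type u) [CommRing k] [CommRing B] [Algebra k B] (ι σ ι' σ' : Type w)
    (P : Algebra.Presentation k B ι σ) [IsEmpty ι']
    (P' : Algebra.Presentation P.toExtension.Ring B ι' σ')
    (M : Type m) [AddCommGroup M] [Module B M] :
    Nonempty (CotT.T2 P' M ≃ₗ[B] CotT.T2 P M) := by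
  classical
  let τe : MvPolynomial ι' P.toExtension.Ring ≃ₐ[P.toExtension.Ring] P.toExtension.Ring :=
    MvPolynomial.isEmptyAlgEquiv P.toExtension.Ring ι'
  have hτ : ∀ x, MvPolynomial.C (τe x) = x := fun x => by
    conv_rhs => rw [← τe.symm_apply_apply x]
    rfl
  let G : Algebra.Generators P.toExtension.Ring B ι' := P'.toGenerators
  have hmemC : ∀ r : P.toExtension.Ring, (MvPolynomial.C r : G.Ring) ∈ G.ker ↔
      algebraMap P.toExtension.Ring B r = 0 := by
    intro r
    rw [Algebra.Generators.ker_eq_ker_aeval_val, RingHom.mem_ker]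
    simp
  let Q : Algebra.Presentation P.toExtension.Ring B ι' σ :=
    { toGenerators := G
      relation := fun s => MvPolynomial.C (CotT.rel P s)
      span_range_relation_eq_ker := by
        rw [Set.range_comp' (g := MvPolynomial.C), ← Ideal.map_span,
          show Ideal.span (Set.range fun s => CotT.rel P s) = P.toExtension.ker from
            P.span_range_relation_eq_ker]
        refine le_antisymm ?_ fun x hx => ?_
        · rw [Ideal.map_le_iff_le_comap]
          exact fun r hr => (hmemC r).2 hr
        · rw [← hτ x] at hx ⊢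
          exact Ideal.mem_map_of_mem _ ((hmemC _).1 hx) }
  let τ : P.toExtension.Ring →+* Q.toExtension.Ring := MvPolynomial.C
  let τ' : Q.toExtension.Ring →+* P.toExtension.Ring := τe.toRingEquiv.toRingHom
  have hτ1 : ∀ r, τ' (τ r) = r := fun r => τe.commutes r
  have hτ2 : ∀ x, τ (τ' x) = x := hτ
  have hQB : ∀ r, algebraMap Q.toExtension.Ring B (τ r) = algebraMap P.toExtension.Ring B r := fun r => by
    rw [CotT.algebraMap_toExtension]
    exact MvPolynomial.aeval_C _ _
  let e : CotT.relMod P ≃+ CotT.relMod Q :=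
    Finsupp.mapRange.addEquiv { toFun := τ, invFun := τ', left_inv := hτ1, right_inv := hτ2, map_add' := map_add τ }
  have he : ∀ f s, e f s = τ (f s) := fun f s => rfl
  have hsmul : ∀ (r : P.toExtension.Ring) f, e (r • f) = τ r • e f := fun r f => Finsupp.ext fun s => by
    rw [Finsupp.smul_apply, he, he, Finsupp.smul_apply, smul_eq_mul, smul_eq_mul, map_mul]
  have hsymm : ∀ (x : Q.toExtension.Ring) g, e.symm (x • g) = τ' x • e.symm g := fun x g => by
    apply e.injective
    rw [hsmul, e.apply_symm_apply, e.apply_symm_apply, hτ2]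
  have hj : ∀ f, CotT.jmap Q (e f) = τ (CotT.jmap P f) := fun f => by
    induction f using Finsupp.induction_linear with
    | zero => rw [map_zero e, map_zero, map_zero, map_zero]
    | add a b ha hb => rw [map_add, map_add, ha, hb, map_add, map_add]
    | single s r =>
      rw [show e (Finsupp.single s r) = Finsupp.single s (τ r) from Finsupp.mapRange_single (hf := map_zero τ),
        CotT.jmap_single, CotT.jmap_single, map_mul]
      rfl
  have hker : ∀ f, f ∈ CotT.relKer P ↔ e f ∈ CotT.relKer Q := fun f => by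
    rw [CotT.relKer, CotT.relKer, LinearMap.mem_ker, LinearMap.mem_ker, hj]
    exact ⟨fun h => by rw [h, map_zero], fun h => by rw [← hτ1 (CotT.jmap P f), h, map_zero]⟩
  have htriv : ∀ f ∈ CotT.trivRel P, e f ∈ CotT.trivRel Q := by
    intro f hf
    induction hf using Submodule.span_induction with
    | mem f hf =>
      obtain ⟨a, b, rfl⟩ := hf
      exact Submodule.subset_span ⟨e a, e b, by rw [map_sub, hsmul, hsmul, hj, hj]⟩
    | zero => rw [map_zero]; exact zero_mem _
    | add a b _ _ ha hb => rw [map_add]; exact add_mem ha hb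
    | smul r a _ ha => rw [hsmul]; exact Submodule.smul_mem _ _ ha
  have htriv' : ∀ g ∈ CotT.trivRel Q, e.symm g ∈ CotT.trivRel P := by
    intro g hg
    induction hg using Submodule.span_induction with
    | mem g hg =>
      obtain ⟨a, b, rfl⟩ := hg
      refine Submodule.subset_span ⟨e.symm a, e.symm b, ?_⟩
      rw [map_sub, hsymm, hsymm, ← e.apply_symm_apply a, ← e.apply_symm_apply b, hj, hj, hτ1, hτ1,
        e.symm_apply_apply, e.symm_apply_apply]
    | zero => rw [map_zero]; exact zero_mem _
    | add a b _ _ ha hb => rw [map_add]; exact add_mem ha hb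
    | smul r a _ ha => rw [hsymm]; exact Submodule.smul_mem _ _ ha
  let e₂ : CotT.relKer P → CotT.relKer Q := fun q => ⟨e q, (hker q).1 q.2⟩
  let e₂' : CotT.relKer Q → CotT.relKer P := fun q => ⟨e.symm q, (hker _).2 (by rw [e.apply_symm_apply]; exact q.2)⟩
  -- the equivalence on `L₂`
  choose qP hqP using CotLib.exists_cls' P
  choose qQ hqQ using CotLib.exists_cls' Q
  have wdP : ∀ q q', CotLib.cls P q = CotLib.cls P q' → CotLib.cls Q (e₂ q) = CotLib.cls Q (e₂ q') := by
    intro q q' h
    have h0 : CotLib.cls P (q - q') = 0 := by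
      have h1 := CotLib.cls_add P (q - q') q'
      have e1 : q - q' + q' = q := sub_add_cancel q q'
      rw [e1, h] at h1
      exact right_eq_add.1 h1
    refine CotLib.cls_congr Q ((CotLib.mk_eq_mk Q).2 ?_)
    show e q - e q' ∈ _
    rw [← map_sub]
    exact htriv _ (CotLib.mk_eq_zero_of_cls_eq_zero P h0)
  have wdQ : ∀ q q', CotLib.cls Q q = CotLib.cls Q q' → CotLib.cls P (e₂' q) = CotLib.cls P (e₂' q') := by
    intro q q' h
    have h0 : CotLib.cls Q (q - q') = 0 := by
      have h1 := CotLib.cls_add Q (q - q') q'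
      have e1 : q - q' + q' = q := sub_add_cancel q q'
      rw [e1, h] at h1
      exact right_eq_add.1 h1
    refine CotLib.cls_congr P ((CotLib.mk_eq_mk P).2 ?_)
    show e.symm q - e.symm q' ∈ _
    rw [← map_sub]
    exact htriv' _ (CotLib.mk_eq_zero_of_cls_eq_zero Q h0)
  let Φ : CotT.L2 P ≃ₗ[B] CotT.L2 Q :=
    { toFun := fun z => CotLib.cls Q (e₂ (qP z))
      invFun := fun z => CotLib.cls P (e₂' (qQ z))
      left_inv := fun z => by
        show CotLib.cls P (e₂' (qQ (CotLib.cls Q (e₂ (qP z))))) = z
        rw [wdQ _ (e₂ (qP z)) (hqQ _)]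
        exact (congrArg (CotLib.cls P) (Subtype.ext (e.symm_apply_apply _))).trans (hqP z)
      right_inv := fun z => by
        show CotLib.cls Q (e₂ (qP (CotLib.cls P (e₂' (qQ z))))) = z
        rw [wdP _ (e₂' (qQ z)) (hqP _)]
        exact (congrArg (CotLib.cls Q) (Subtype.ext (e.apply_symm_apply _))).trans (hqQ z)
      map_add' := fun a b => by
        rw [← CotLib.cls_add, wdP (qP (a + b)) (qP a + qP b) (by rw [CotLib.cls_add, hqP, hqP, hqP])]
        exact congrArg (CotLib.cls Q) (Subtype.ext (map_add e _ _))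
      map_smul' := fun c a => by
        obtain ⟨r, rfl⟩ := P.toExtension.algebraMap_surjective c
        rw [RingHom.id_apply, ← hQB, ← CotLib.cls_smul,
          wdP (qP _) (r • qP a) (by rw [CotLib.cls_smul, hqP, hqP, hQB])]
        exact congrArg (CotLib.cls Q) (Subtype.ext (hsmul r _)) }
  let Ψ : CotT.L1 P ≃ₗ[B] CotT.L1 Q := (CotT.L1basis P).equiv (CotT.L1basis Q) (Equiv.refl σ)
  have hΨ : ∀ f, Ψ ((1 : B) ⊗ₜ f) = (1 : B) ⊗ₜ e f := fun f => by
    induction f using Finsupp.induction_linear with
    | zero => rw [TensorProduct.tmul_zero, map_zero, map_zero e, TensorProduct.tmul_zero]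
    | add a b ha hb => rw [TensorProduct.tmul_add, map_add, ha, hb, map_add, TensorProduct.tmul_add]
    | single s r =>
      rw [show e (Finsupp.single s r) = Finsupp.single s (τ r) from Finsupp.mapRange_single (hf := map_zero τ),
        ← Finsupp.smul_single_one s r, ← Finsupp.smul_single_one s (τ r), TensorProduct.tmul_smul,
        TensorProduct.tmul_smul, ← algebraMap_smul (R := P.toExtension.Ring) B r,
        ← algebraMap_smul (R := Q.toExtension.Ring) B (τ r), hQB, map_smul, ← CotT.L1basis_apply,
        ← CotT.L1basis_apply, Module.Basis.equiv_apply, Equiv.refl_apply]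
  have hd : ∀ z, CotT.d2 Q (Φ z) = Ψ (CotT.d2 P z) := fun z => by
    obtain ⟨q, rfl⟩ := CotLib.exists_cls' P z
    show CotT.d2 Q (CotLib.cls Q (e₂ (qP (CotLib.cls P q)))) = _
    rw [wdP _ q (hqP _), CotLib.d2_cls, CotLib.d2_cls, hΨ]
  let H : (CotT.L2 Q →ₗ[B] M) ≃ₗ[B] (CotT.L2 P →ₗ[B] M) := LinearEquiv.congrLeft M B Φ.symm
  refine ⟨(CotLib.T2equiv P' Q M).symm.trans (Submodule.Quotient.equiv _ _ H (le_antisymm ?_ ?_))⟩
  · rintro _ ⟨_, ⟨φ, rfl⟩, rfl⟩
    refine ⟨φ ∘ₗ Ψ.toLinearMap, LinearMap.ext fun z => ?_⟩
    show φ (Ψ (CotT.d2 P z)) = φ (CotT.d2 Q (Φ.symm.symm z))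
    rw [LinearEquiv.symm_symm, hd]
  · rintro _ ⟨φ, rfl⟩
    refine ⟨CotT.d2Star Q M (φ ∘ₗ Ψ.symm.toLinearMap), ⟨_, rfl⟩, LinearMap.ext fun z => ?_⟩
    show φ (Ψ.symm (CotT.d2 Q (Φ.symm.symm z))) = φ (CotT.d2 P z)
    rw [LinearEquiv.symm_symm, hd, Ψ.symm_apply_apply]

end Groth.Agent.S12295
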