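import Groth.Statements.S12297
import Groth.Agent.CotLib.Localization
import Groth.Agent.CotLib.SmoothRegular
import Groth.Agent.CotSplit.T1
import Groth.Agent.S12285
import Groth.Agent.S12290
-- import your own Groth.Agent.* helpers here

set_option autoImplicit false
universe u w m
open scoped TensorProduct
open DefT

namespace Groth.Agent.S12297

/-- Let k be an algebraically closed field, B a finitely generated k-algebra, m a maximal ideal of B and
B_m the localization, a local k-algebra with residue field k. Then B_m is a regular local ring if
and only if T^1(B_m/k, M) = 0 for all B_m-modules M, and in that case T^2(B_m/k, M) = 0 for all M as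
well; the T^i are computed from the choice-free presentation of B_m over k. (The published statement
is for a local k-algebra with residue field k, k algebraically closed, proved by localization from
the finitely generated case; this row states it for the localizations of finitely generated
k-algebras at maximal ideals, the case that proof covers.) -/
theorem result
    (k B : Type u) [Field k] [IsAlgClosed k] [CommRing B] [Algebra k B] [Algebra.FiniteType k B]
    (m : Ideal B) [m.IsMaximal] :
    (IsRegularLocalRing (Localization.AtPrime m) ↔
      ∀ (M : Type u) [AddCommGroup M] [Module (Localization.AtPrime m) M],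
        Subsingleton (CotT.T1 (CotT.canon k (Localization.AtPrime m)) M)) ∧
    (IsRegularLocalRing (Localization.AtPrime m) →
      ∀ (M : Type u) [AddCommGroup M] [Module (Localization.AtPrime m) M],
        Subsingleton (CotT.T2 (CotT.canon k (Localization.AtPrime m)) M)) := by
  haveI := CotLib.isGeometricallyReduced_of_isAlgClosed (k := k) (K := m.ResidueField)
  have hiff := CotLib.isSmoothAt_iff_regular (k := k) m
  haveI : Algebra.FormallySmooth k (CotSplit.canonExt k (Localization.AtPrime m)).Ring :=
    inferInstanceAs (Algebra.FormallySmooth k (MvPolynomial (Localization.AtPrime m) k))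
  refine ⟨hiff.symm.trans ⟨fun hs M _ _ => ⟨fun a b => ?_⟩, fun h => ?_⟩, fun hreg M _ _ => ?_⟩
  · obtain ⟨l, hl⟩ :=
      ((CotSplit.canonExt k (Localization.AtPrime m)).formallySmooth_iff_split_injection).1 hs
    have hsp : CotSplit.SplitUpTo (CotSplit.canonExt k (Localization.AtPrime m)) 1 :=
      ⟨l, by rw [one_smul]; exact hl⟩
    have h0 : ∀ x : CotT.T1 (CotT.canon k (Localization.AtPrime m)) M, x = 0 := fun x => by
      rw [← one_smul (Localization.AtPrime m) x]; exact CotSplit.smul_T1_eq_zero_of_split hsp x
    rw [h0 a, h0 b]
  · obtain ⟨ψ, hψ⟩ := CotSplit.exists_extend_of_smul_T1_eq_zero (c := (1 : Localization.AtPrime m))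
      (M := (CotSplit.canonExt k (Localization.AtPrime m)).Cotangent)
      (fun x => (h _).elim _ _) LinearMap.id
    exact ((CotSplit.canonExt k (Localization.AtPrime m)).formallySmooth_iff_split_injection).2
      ⟨ψ, by rw [← hψ, one_smul]⟩
  · haveI : Algebra.FinitePresentation k B := Algebra.FinitePresentation.of_finiteType.1 ‹_›
    haveI : Algebra.IsSmoothAt k m := hiff.2 hreg
    obtain ⟨f, hf, hsm⟩ := Algebra.IsSmoothAt.exists_notMem_smooth k m
    haveI := hsm
    haveI : Algebra.FiniteType k (Localization.Away f) := inferInstance
    have hle : Submonoid.powers f ≤ m.primeCompl := Submonoid.powers_le.2 hf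
    letI : Algebra (Localization.Away f) (Localization.AtPrime m) :=
      IsLocalization.localizationAlgebraOfSubmonoidLe (Localization.Away f) (Localization.AtPrime m) _ _ hle
    haveI : IsScalarTower B (Localization.Away f) (Localization.AtPrime m) :=
      IsLocalization.localization_isScalarTower_of_submonoid_le (Localization.Away f) (Localization.AtPrime m) _ _ hle
    haveI : IsLocalization (m.primeCompl.map (algebraMap B (Localization.Away f))) (Localization.AtPrime m) :=
      IsLocalization.isLocalization_of_submonoid_le (Localization.Away f) (Localization.AtPrime m) _ _ hle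
    haveI : IsScalarTower k (Localization.Away f) (Localization.AtPrime m) :=
      IsScalarTower.of_algebraMap_eq fun x => by
        rw [IsScalarTower.algebraMap_apply k B (Localization.AtPrime m),
          IsScalarTower.algebraMap_apply k B (Localization.Away f),
          ← IsScalarTower.algebraMap_apply B (Localization.Away f) (Localization.AtPrime m)]
    letI : Module (Localization.Away f) M :=
      Module.compHom M (algebraMap (Localization.Away f) (Localization.AtPrime m))
    haveI : IsScalarTower (Localization.Away f) (Localization.AtPrime m) M :=
      IsScalarTower.of_algebraMap_smul fun _ _ => rfl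
    haveI : Subsingleton (CotT.T2 (CotT.canon k (Localization.Away f)) M) := by
      have hreg' := (S12290.result k (Localization.Away f))
      refine hreg'.2 (fun p _ => ?_) M
      haveI := CotLib.isGeometricallyReduced_of_isAlgClosed (k := k) (K := p.ResidueField)
      refine (CotLib.isSmoothAt_iff_regular (k := k) p).1 ?_
      have : (⟨p, inferInstance⟩ : PrimeSpectrum (Localization.Away f)) ∈
          Algebra.smoothLocus k (Localization.Away f) := by rw [Algebra.smoothLocus_eq_univ]; trivial
      exact this
    haveI := CotLib.subsingleton_T2_localization (C := Localization.Away f)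
      (S := Localization.AtPrime m) (m.primeCompl.map (algebraMap B (Localization.Away f))) M
    obtain ⟨-, -, -, e2, -⟩ := S12285.result k (Localization.Away f) (Localization.AtPrime m) M
    have hz : ∀ x : CotT.T2 (CotT.canon k (Localization.AtPrime m)) M, x = 0 := fun x => by
      obtain ⟨y, hy⟩ := (e2 x).1 (Subsingleton.elim _ _)
      rw [← hy, Subsingleton.elim y 0, map_zero]
    exact ⟨fun a b => by rw [hz a, hz b]⟩

end Groth.Agent.S12297
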