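import Groth.Statements.S12299
import Mathlib.LinearAlgebra.Dual.Lemmas

set_option autoImplicit false
universe u v
open CategoryTheory
open ArtFun

namespace Groth.Agent.S12299

/-- Let k be an algebraically closed field, F a set-valued functor on local Artinian k-algebras with
residue field k, and (R, ξ) a miniversal family for F, with R a complete local Noetherian k-algebra
with residue field k: the morphism h_R → F has the lifting property along surjections and is
bijective on the dual numbers. Let S be a complete local Noetherian k-algebra with residue field k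
and g₁, g₂ : R → S two k-algebra maps compatible with the augmentations along which ξ induces the
same formal family over S (the same compatible sequence in the F(S/m^(n+1))). Then g₁ and g₂ induce
the same map R → S/m_S², so the map R/m_R² → S/m_S² attached to a formal family over S is well
defined. (Coefficient rings are taken Noetherian here.) -/
theorem result
    {k : Type u} [Field k] [IsAlgClosed k] {F : ArtFun.Art k k ⥤ Type v}
    (R : ArtFun.CRing k k) (ξ : ArtFun.Family R.carrier R.res F) (hξ : ArtFun.IsMiniversal ξ)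
    (S : ArtFun.CRing k k) (g₁ g₂ : R.carrier →ₐ[k] S.carrier)
    (hg₁ : S.res.comp g₁ = R.res) (hg₂ : S.res.comp g₂ = R.res)
    (h : (ξ.along g₁ hg₁).toFormalElt = (ξ.along g₂ hg₂).toFormalElt) :
    (S.truncHom 1).1.comp g₁ = (S.truncHom 1).1.comp g₂ := by
  classical
  let D := S.trunc 1
  let φ₁ : HomSet R.carrier R.res D :=
    ⟨(S.truncHom 1).1.comp g₁, by rw [← AlgHom.comp_assoc, (S.truncHom 1).2, hg₁]⟩
  let φ₂ : HomSet R.carrier R.res D :=
    ⟨(S.truncHom 1).1.comp g₂, by rw [← AlgHom.comp_assoc, (S.truncHom 1).2, hg₂]⟩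
  have hφ : ξ.app D φ₁ = ξ.app D φ₂ := congrArg (fun u => FormalElt.elt u 1) h
  have hres : ∀ c : k, D.res (algebraMap k D c) = c := fun c => D.res.commutes c
  have hsq : ∀ a b : D, D.res a = 0 → D.res b = 0 → a * b = 0 := by
    intro a b ha hb
    obtain ⟨a, rfl⟩ := Ideal.Quotient.mk_surjective a
    obtain ⟨b, rfl⟩ := Ideal.Quotient.mk_surjective b
    refine (map_mul _ a b).symm.trans (Ideal.Quotient.eq_zero_iff_mem.2 ?_)
    show a * b ∈ IsLocalRing.maximalIdeal S.carrier ^ (1 + 1)
    rw [pow_succ, pow_one]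
    exact Ideal.mul_mem_mul ((CRing.mem_maximalIdeal_iff S a).2 ha) ((CRing.mem_maximalIdeal_iff S b).2 hb)
  refine AlgHom.ext fun x => ?_
  show φ₁.1 x = φ₂.1 x
  by_contra hne
  have he : D.res (φ₁.1 x - φ₂.1 x) = 0 := by
    rw [map_sub]
    exact sub_eq_zero.2 ((AlgHom.congr_fun φ₁.2 x).trans (AlgHom.congr_fun φ₂.2 x).symm)
  obtain ⟨l, hl⟩ : ∃ l : Module.Dual k D, l (φ₁.1 x - φ₂.1 x) ≠ 0 := by
    by_contra hc
    push Not at hc
    exact sub_ne_zero.2 hne ((Module.forall_dual_apply_eq_zero_iff k _).1 hc)
  let d₀ : D →ₗ[k] DualNumber k :=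
    { toFun := fun a => (TrivSqZeroExt.inl (D.res a) + TrivSqZeroExt.inr (l (a - algebraMap k D (D.res a))) : DualNumber k)
      map_add' := fun a b => by
        apply TrivSqZeroExt.ext <;> simp [map_add, map_sub]
        ring
      map_smul' := fun c a => by
        apply TrivSqZeroExt.ext
        · simp
        · simp [Algebra.algebraMap_eq_smul_one, mul_smul, ← smul_sub] }
  have hf : ∀ a, TrivSqZeroExt.fst (d₀ a) = D.res a := fun a => by
    show TrivSqZeroExt.fst (TrivSqZeroExt.inl (D.res a) + TrivSqZeroExt.inr (l (a - algebraMap k D (D.res a))) : DualNumber k) = _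
    rw [TrivSqZeroExt.fst_add, TrivSqZeroExt.fst_inl, TrivSqZeroExt.fst_inr, add_zero]
  have hs : ∀ a, TrivSqZeroExt.snd (d₀ a) = l (a - algebraMap k D (D.res a)) := fun a => by
    show TrivSqZeroExt.snd (TrivSqZeroExt.inl (D.res a) + TrivSqZeroExt.inr (l (a - algebraMap k D (D.res a))) : DualNumber k) = _
    rw [TrivSqZeroExt.snd_add, TrivSqZeroExt.snd_inl, TrivSqZeroExt.snd_inr, zero_add]
  let dA : D →ₐ[k] DualNumber k := AlgHom.ofLinearMap d₀
    (by
      apply TrivSqZeroExt.ext
      · rw [hf, map_one, TrivSqZeroExt.fst_one]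
      · rw [hs, map_one, map_one, sub_self, map_zero, TrivSqZeroExt.snd_one])
    (fun a b => by
      have e : a * b - algebraMap k D (D.res (a * b)) =
          D.res a • (b - algebraMap k D (D.res b)) + D.res b • (a - algebraMap k D (D.res a)) := by
        have h0 := hsq (a - algebraMap k D (D.res a)) (b - algebraMap k D (D.res b))
          (by rw [map_sub, hres, sub_self]) (by rw [map_sub, hres, sub_self])
        rw [map_mul, map_mul, Algebra.smul_def, Algebra.smul_def]
        linear_combination h0
      apply TrivSqZeroExt.ext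
      · rw [TrivSqZeroExt.fst_mul, hf, hf, hf, map_mul]
      · have e' := congrArg l e
        simp only [map_add, map_smul, smul_eq_mul] at e'
        rw [DualNumber.snd_mul, hs, hs, hs, hf, hf, e']
        ring)
  let d : D ⟶ ArtFun.Art.dual k k := ⟨dA, AlgHom.ext fun a => hf a⟩
  have hd : ξ.app (ArtFun.Art.dual k k) (HomSet.map d φ₁) = ξ.app (ArtFun.Art.dual k k) (HomSet.map d φ₂) := by
    rw [ξ.natural, ξ.natural, hφ]
  have hd' : d₀ (φ₁.1 x) = d₀ (φ₂.1 x) := AlgHom.congr_fun (congrArg Subtype.val (hξ.2.1 hd)) x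
  have hsnd := congrArg TrivSqZeroExt.snd hd'
  rw [map_sub, sub_eq_zero] at he
  rw [hs, hs, map_sub, map_sub, he, sub_left_inj] at hsnd
  exact hl (by rw [map_sub, hsnd, sub_self])

end Groth.Agent.S12299
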