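import Groth.Statements.S12304
import Groth.Agent.HilbLoc.Rep.Point

set_option autoImplicit false
universe u
open CategoryTheory CategoryTheory.Limits AlgebraicGeometry
open Groth.Agent.HilbLoc.Rep
set_option backward.isDefEq.respectTransparency false
open ArtFun

namespace Groth.Agent.S12304

/-- Let k be an algebraically closed field, M a locally Noetherian k-scheme and x₀ : Spec k → M a
k-rational point. For a local Artinian k-algebra A with residue field k consider the k-morphisms
Spec A → M whose restriction along the closed point Spec k → Spec A is x₀ (the local functor of M at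
x₀, a morphism A → B acting by composition with Spec B → Spec A). This functor is pro-representable:
there are a complete local Noetherian k-algebra R with residue field k and bijections, natural in A,
between the augmentation-compatible k-algebra maps R → A and these morphisms. (The published
statement is phrased for the fine moduli scheme M of a moduli problem, whose local functor at the
point of a given object is this one; M is taken locally Noetherian here so that the coefficient ring
is Noetherian.) -/
theorem result
    {k : Type u} [Field k] [IsAlgClosed k] (M : Scheme.{u}) (m : M ⟶ Spec (CommRingCat.of k))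
    [IsLocallyNoetherian M] (x₀ : Spec (CommRingCat.of k) ⟶ M) (hx₀ : x₀ ≫ m = 𝟙 _) :
    ∃ (R : ArtFun.CRing k k)
      (e : ∀ A : ArtFun.Art k k, ArtFun.HomSet R.carrier R.res A ≃
        {g : ArtFun.Art.spec A ⟶ M // g ≫ m = ArtFun.Art.specMap (ArtFun.Art.ofBase A) ∧ ArtFun.Art.specRes A ≫ g = x₀}),
      ∀ (A B : ArtFun.Art k k) (h : A ⟶ B) (φ : ArtFun.HomSet R.carrier R.res A),
        ((e B) (ArtFun.HomSet.map h φ)).1 = ArtFun.Art.specMap h ≫ ((e A) φ).1 := by
  let H : Over (Spec (CommRingCat.of k)) := Over.mk m
  let y : onePt (k := k) ⟶ H := Over.homMk x₀ hx₀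
  obtain ⟨alg, res, hk, hres⟩ := exists_augmentation y
  haveI : IsLocallyNoetherian H.left := inferInstanceAs (IsLocallyNoetherian M)
  let F : ∀ A : ArtFun.Art k k, ArtFun.HomSet (H.left.presheaf.stalk (img y)) res A →
      {g : ArtFun.Art.spec A ⟶ M // g ≫ m = ArtFun.Art.specMap (ArtFun.Art.ofBase A) ∧
        ArtFun.Art.specRes A ≫ g = x₀} := fun A φ =>
    ⟨Spec.map (CommRingCat.ofHom φ.1.toRingHom) ≫ H.left.fromSpecStalk (img y), by
      rw [Category.assoc]
      refine (congrArg (Spec.map _ ≫ ·) hk.symm).trans ?_
      rw [← Spec.map_comp, ← CommRingCat.ofHom_comp]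
      refine congrArg (fun f => Spec.map (CommRingCat.ofHom f)) (RingHom.ext fun c => ?_)
      exact φ.1.commutes c, by
      have hc : A.res.toRingHom.comp φ.1.toRingHom = resHom y :=
        RingHom.ext fun r => (DFunLike.congr_fun φ.2 r).trans (RingHom.congr_fun hres r)
      exact (comp_specMap (H.left.fromSpecStalk (img y)) _ _ _ hc).trans (specMap_resHom y)⟩
  have hF : ∀ A, Function.Bijective (F A) := fun A => by
    refine ⟨fun φ φ' h => Subtype.ext (AlgHom.coe_ringHom_injective
      (specMap_fromSpecStalk_injective y (congrArg Subtype.val h))), fun g => ?_⟩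
    have hpt : g.1.base (IsLocalRing.closedPoint A) = img y := by
      have h1 := congrArg (fun u : Spec (CommRingCat.of k) ⟶ M => u.base (IsLocalRing.closedPoint k)) g.2.2
      refine Eq.trans ?_ h1
      refine congrArg g.1.base ?_
      exact Subsingleton.elim (α := PrimeSpectrum A) _ _
    obtain ⟨φ, hφ⟩ := exists_eq_specMap y g.1 hpt
    have halg : ∀ c, φ (algebraMap k _ c) = algebraMap k A c := fun c => by
      have h := g.2.1
      rw [← hφ, Category.assoc] at h
      replace h : Spec.map (CommRingCat.ofHom φ) ≫ (H.left.fromSpecStalk (img y) ≫ H.hom) = _ := h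
      rw [← hk, ← Spec.map_comp, ← CommRingCat.ofHom_comp] at h
      exact RingHom.congr_fun (congrArg CommRingCat.Hom.hom (Spec.map_injective h)) c
    let φ' : H.left.presheaf.stalk (img y) →ₐ[k] A := { φ with commutes' := halg }
    have hr : A.res.toRingHom.comp φ = resHom y := by
      refine specMap_fromSpecStalk_injective y ?_
      rw [specMap_resHom, CommRingCat.ofHom_comp, Spec.map_comp, Category.assoc, hφ]
      exact g.2.2
    exact ⟨⟨φ', AlgHom.ext fun r => (RingHom.congr_fun hr r).trans (RingHom.congr_fun hres r).symm⟩,
      Subtype.ext hφ⟩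
  refine ⟨completion res, fun A =>
    Equiv.ofBijective _ ((hF A).comp (bijective_restrict (res := res) A)), fun A B h φ => ?_⟩
  change Spec.map (CommRingCat.ofHom (h.toAlgHom.comp (restrict φ).1).toRingHom) ≫ _ = Spec.map _ ≫ Spec.map _ ≫ _
  rw [← Category.assoc, ← Spec.map_comp, ← CommRingCat.ofHom_comp]
  rfl


end Groth.Agent.S12304
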