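import Groth.Statements.S12308
import Groth.Agent.DefAffHull.Finite
import Groth.Agent.DefAffHull.Transfer
import Mathlib.RingTheory.RingHom.Smooth
import Mathlib.RingTheory.Spectrum.Prime.Jacobson

set_option autoImplicit false
universe u
open CategoryTheory AlgebraicGeometry
open SGA7

namespace Groth.Agent.S12308
open Groth.Agent ArtFun

theorem isolated {k B₀ : Type u} [Field k] [CommRing B₀] [Algebra k B₀] [Algebra.FiniteType k B₀]
    {X : Scheme.{u}} (x : X ⟶ Spec (CommRingCat.of k)) (e : Spec (CommRingCat.of B₀) ≅ X)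
    (he : e.hom ≫ x = DefAffHull.str k B₀) (U : X.Opens) (hU : Smooth (U.ι ≫ x))
    (hfin : ((U : Set X)ᶜ).Finite) : DefAffHull.IsolatedSing k B₀ := by
  haveI : IsJacobsonRing B₀ := isJacobsonRing_of_finiteType (A := k)
  let Z : Set (PrimeSpectrum B₀) := e.hom.base ⁻¹' ((U : Set X)ᶜ)
  have hinj : Function.Injective e.hom.base := e.hom.isOpenEmbedding.injective
  have hZf : Z.Finite := hfin.preimage hinj.injOn
  refine ⟨Z, hZf, fun p hp => ?_, fun p hp => ?_⟩
  · have hc : IsClosed Z := U.isOpen.isClosed_compl.preimage e.hom.continuous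
    have h1 : IsClosed (Z ∩ closedPoints (PrimeSpectrum B₀)) := by
      rw [← Set.biUnion_of_singleton (Z ∩ closedPoints (PrimeSpectrum B₀))]
      exact (hZf.inter_of_left _).isClosed_biUnion fun q hq => hq.2
    rw [← JacobsonSpace.closure_inter_closedPoints hc, h1.closure_eq] at hp
    exact (PrimeSpectrum.isClosed_singleton_iff_isMaximal p).1 hp.2
  · obtain ⟨V, ⟨g, rfl⟩, hpg, hgU⟩ :=
      PrimeSpectrum.isTopologicalBasis_basic_opens.exists_subset_of_mem_open
        (show p ∈ e.hom.base ⁻¹' (U : Set X) from not_not.1 hp) (U.isOpen.preimage e.hom.continuous)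
    refine ⟨g, hpg, ?_⟩
    let j : Spec (CommRingCat.of (Localization.Away g)) ⟶ X :=
      Spec.map (CommRingCat.ofHom (algebraMap B₀ (Localization.Away g))) ≫ e.hom
    have hr : Set.range j.base ⊆ Set.range U.ι.base := by
      rw [Scheme.Opens.range_ι]
      rintro _ ⟨q, rfl⟩
      have hq : PrimeSpectrum.comap (algebraMap B₀ (Localization.Away g)) q ∈
          (PrimeSpectrum.basicOpen g : Set (PrimeSpectrum B₀)) := by
        rw [← PrimeSpectrum.localization_away_comap_range (Localization.Away g) g]
        exact ⟨q, rfl⟩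
      exact hgU hq
    haveI : IsOpenImmersion j := inferInstance
    haveI : IsOpenImmersion (IsOpenImmersion.lift U.ι j hr ≫ U.ι) := by
      rw [IsOpenImmersion.lift_fac]
      infer_instance
    haveI : IsOpenImmersion (IsOpenImmersion.lift U.ι j hr) := IsOpenImmersion.of_comp _ U.ι
    have hs : Smooth (Spec.map (CommRingCat.ofHom (algebraMap k (Localization.Away g)))) := by
      have h1 : Spec.map (CommRingCat.ofHom (algebraMap k (Localization.Away g))) =
          IsOpenImmersion.lift U.ι j hr ≫ (U.ι ≫ x) := by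
        rw [IsOpenImmersion.lift_fac_assoc, Category.assoc, he, ← Spec.map_comp, ← CommRingCat.ofHom_comp,
          ← IsScalarTower.algebraMap_eq]
      rw [h1]
      infer_instance
    have h2 : (algebraMap k (Localization.Away g)).Smooth := HasRingHomProperty.Spec_iff.1 hs
    exact (RingHom.smooth_algebraMap.1 h2).formallySmooth

/-- Suppose Λ is a Noetherian local ring, complete for its maximal ideal, whose residue field is k (so
the map Λ → k is surjective), and work with functors on local Artinian Λ-algebras having residue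
field k. Take X₀ to be an affine scheme of finite type over k, together with an open subscheme U ⊆
X₀ that is smooth over k and has finite complement (thus X₀ fails to be smooth at only finitely many
points). Under these assumptions the deformation functor of X₀, which sends A to isomorphism classes
of schemes flat over Spec A whose closed fibre is X₀, has a hull; equivalently, there is a
miniversal family defined over a complete local Noetherian Λ-algebra with residue field k. -/
theorem result (Λ k : Type u) [CommRing Λ] [IsLocalRing Λ] [IsNoetherianRing Λ]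
    [IsAdicComplete (IsLocalRing.maximalIdeal Λ) Λ] [Field k] [Algebra Λ k]
    (hk : Function.Surjective (algebraMap Λ k))
    (X : Scheme.{u}) [IsAffine X] (x : X ⟶ Spec (CommRingCat.of k)) [LocallyOfFiniteType x]
    (U : X.Opens) (hU : Smooth (U.ι ≫ x)) (hfin : ((U : Set X)ᶜ).Finite) :
    ArtFun.HasHull (ArtFun.defFunctor (Λ := Λ) X x) := by
  haveI : Module.Finite Λ k := Module.Finite.of_surjective (Algebra.linearMap Λ k) hk
  obtain ⟨B₀, e⟩ : ∃ B₀ : CommRingCat.{u}, Nonempty (Spec B₀ ≅ X) := ⟨_, ⟨X.isoSpec.symm⟩⟩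
  obtain ⟨e⟩ := e
  obtain ⟨a, ha⟩ : ∃ a : CommRingCat.of k ⟶ B₀, Spec.map a = e.hom ≫ x :=
    ⟨Spec.preimage _, Spec.map_preimage _⟩
  letI : Algebra k B₀ := a.hom.toAlgebra
  haveI : Algebra.FiniteType k B₀ := by
    have h : LocallyOfFiniteType (Spec.map a) := ha ▸ inferInstance
    exact HasRingHomProperty.Spec_iff.1 h
  refine DefAffHull.hasHull_of_iso e ha.symm (?_ : HasHull (defFunctor (Λ := Λ) (Spec (CommRingCat.of B₀)) (DefAffHull.str k B₀)))
  have h0 := DefAffHull.h0 (Λ := Λ) (k := k) (B₀ := B₀)
  have h2 := DefAffHull.heps (Λ := Λ) (k := k) (B₀ := B₀)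
  obtain ⟨T⟩ := ArtFunLib.exists_tangentStr h0 h2
  letI := T
  obtain ⟨n, π, hπ⟩ := Algebra.FiniteType.iff_quotient_mvPolynomial''.1 ‹Algebra.FiniteType k B₀›
  obtain ⟨d, Φd, hd⟩ := DefAffHull.exists_span_mod_der (isolated x e ha.symm U hU hfin) π hπ
  obtain ⟨z, hz⟩ := DefAffHull.tangent_spanned (Λ := Λ) π hπ Φd hd
  haveI : Subsingleton (Art.base Λ k ⟶ Art.dual Λ k) := ArtFunLib.subsingleton_base_dual
    ⟨fun D D' => Derivation.ext fun c => by
      obtain ⟨l, rfl⟩ := hk c
      rw [D.map_algebraMap, D'.map_algebraMap]⟩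
  exact ArtFunLib.exists_hull h0 DefAffHull.s1 h2 (DefAffHull.hfin_of_spanned z hz)
    fun x₀ σ τ _ => Subsingleton.elim σ τ

end Groth.Agent.S12308
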