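import Groth.Statements.S1231
import Mathlib.RingTheory.Unramified.Finite
import Mathlib.RingTheory.Etale.Basic
import Mathlib.RingTheory.Smooth.Flat
import Mathlib.RingTheory.Flat.Stability

set_option autoImplicit false
universe u
open FlatMor

namespace Groth.Agent.S1231

open scoped TensorProduct

/-- Flatness over the top of an étale map is flatness over the bottom. -/
theorem flat_iff {R T : Type u} [CommRing R] [CommRing T] [Algebra R T] [Algebra.Etale R T]
    (L : Type u) [AddCommGroup L] [Module R L] [Module T L] [IsScalarTower R T L] :
    Module.Flat R L ↔ Module.Flat T L := by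
  refine ⟨fun _ => ?_, fun _ => Module.Flat.trans R T L⟩
  obtain ⟨t, ht, ht1⟩ := Algebra.FormallyUnramified.iff_exists_tensorProduct.mp
    (inferInstance : Algebra.FormallyUnramified R T)
  let μ : T ⊗[R] L →ₗ[T] L := (LinearMap.id : L →ₗ[R] L).liftBaseChange T
  -- `t` acting on `n` gives a section of the multiplication
  let act : L →ₗ[R] T ⊗[R] T →ₗ[R] T ⊗[R] L :=
    { toFun := fun n => LinearMap.lTensor T ((LinearMap.toSpanSingleton T L n).restrictScalars R)
      map_add' := fun a b => by
        ext x y
        simp [TensorProduct.tmul_add, smul_add]
      map_smul' := fun r a => by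
        ext x y
        simp [TensorProduct.tmul_smul, smul_comm y r a] }
  have hact : ∀ (b : T) (n : L) (u : T ⊗[R] T), act (b • n) u = act n (u * ((1 : T) ⊗ₜ b)) := by
    intro b n u
    induction u with
    | zero => simp
    | add p q hp hq => rw [add_mul, map_add, map_add, hp, hq]
    | tmul x y => simp [act, mul_smul]
  have hsmul : ∀ (b : T) (n : L) (u : T ⊗[R] T), act n (u * (b ⊗ₜ (1 : T))) = b • act n u := by
    intro b n u
    induction u with
    | zero => simp
    | add p q hp hq => rw [add_mul, map_add, map_add, hp, hq, smul_add]
    | tmul x y => simp [act, TensorProduct.smul_tmul', mul_comm x b]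
  let s : L →ₗ[T] T ⊗[R] L :=
    { toFun := fun n => act n t
      map_add' := fun a b => by simp
      map_smul' := fun b n => by
        rw [RingHom.id_apply, hact, ← hsmul]
        congr 1
        rw [← sub_eq_zero, ← mul_sub, mul_comm]
        exact ht b }
  have hμ : μ ∘ₗ s = LinearMap.id := by
    ext n
    show μ (act n t) = n
    have h : ∀ u : T ⊗[R] T, μ (act n u) = Algebra.TensorProduct.lmul' (S := T) R u • n := by
      intro u
      induction u with
      | zero => simp
      | add p q hp hq => rw [map_add, map_add, hp, hq, map_add, add_smul]
      | tmul x y => simp [act, μ, mul_smul]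
    rw [h, ht1, one_smul]
  exact Module.Flat.of_retract s μ hμ

/-- Let R → T be an étale ring map, C a T-algebra, N a C-module and q a prime of C. Then the
localization N_q is flat over R if and only if it is flat over T. In particular N is flat over R if
and only if it is flat over T. -/
theorem result {R T C : Type u} [CommRing R] [CommRing T] [CommRing C] [Algebra R T] [Algebra.Etale R T]
    [Algebra T C] [Algebra R C] [IsScalarTower R T C]
    (N : Type u) [AddCommGroup N] [Module C N] [Module T N] [Module R N] [IsScalarTower T C N] [IsScalarTower R C N] [IsScalarTower R T N]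
    (q : Ideal C) [q.IsPrime] :
    (FlatCA.FlatAt R q N ↔ FlatCA.FlatAt T q N) ∧ (Module.Flat R N ↔ Module.Flat T N) := by
  exact ⟨flat_iff (LocalizedModule q.primeCompl N), flat_iff N⟩

end Groth.Agent.S1231
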