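import Groth.Statements.S12310
import Groth.Agent.RelLift.Surjective
import Groth.Agent.RelLift.T2Local
import Groth.Agent.ArtFunLib.Functor

set_option autoImplicit false
universe u
open CategoryTheory AlgebraicGeometry
open SGA7

namespace Groth.Agent.S12310

/-- Suppose Λ is a Noetherian local ring, complete for its maximal-ideal-adic topology, whose residue
field is k (so Λ → k is surjective), and work with functors defined on local Artinian Λ-algebras
having residue field k. Take a finite-type k-algebra A₀ that is a local complete intersection over k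
(meaning it admits a presentation as a quotient of a polynomial algebra in finitely many variables
whose kernel is Koszul-regular), and put X₀ = Spec A₀. Then X₀ has a smooth deformation functor (the
functor of isomorphism classes of schemes flat over Spec A whose closed fibre is X₀): given any
surjection A' → A, each deformation over A can be lifted to one over A'. -/
theorem result (Λ k : Type u) [CommRing Λ] [IsLocalRing Λ] [IsNoetherianRing Λ]
    [IsAdicComplete (IsLocalRing.maximalIdeal Λ) Λ] [Field k] [Algebra Λ k]
    (hk : Function.Surjective (algebraMap Λ k))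
    (A₀ : Type u) [CommRing A₀] [Algebra k A₀] (hA : LCI.IsLCI k A₀) :
    ArtFun.IsSmoothFunctor (ArtFun.defFunctor (Λ := Λ) (Spec (CommRingCat.of A₀))
      (Spec.map (CommRingCat.ofHom (algebraMap k A₀)))) := by
  obtain ⟨-, n, f, hf, hreg⟩ := hA
  let G : Algebra.Generators k A₀ (Fin n) := .ofSurjective (fun i => f (MvPolynomial.X i)) (by
    rw [show MvPolynomial.aeval (fun i => f (MvPolynomial.X i)) = f from (MvPolynomial.aeval_unique f).symm]
    exact hf)
  let P : Algebra.Presentation k A₀ (Fin n) G.ker :=
    { __ := G
      relation := Subtype.val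
      span_range_relation_eq_ker := le_antisymm (Ideal.span_le.mpr (by rintro _ ⟨r, rfl⟩; exact r.2))
        fun x hx => Ideal.subset_span ⟨⟨x, hx⟩, rfl⟩ }
  haveI : IsNoetherianRing P.toExtension.Ring := inferInstanceAs (IsNoetherianRing (MvPolynomial (Fin n) k))
  have hker : P.toExtension.ker = RingHom.ker f.toRingHom := by
    ext x
    change algebraMap P.toExtension.Ring A₀ x = 0 ↔ f x = 0
    rw [CotT.algebraMap_toExtension]
    exact iff_of_eq (congrArg (· = 0) (DFunLike.congr_fun (MvPolynomial.aeval_unique f).symm x))
  have hT2 : Subsingleton (CotT.T2 P A₀) :=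
    Groth.Agent.RelLift.subsingleton_T2_of_local P (fun Q _ hle _ =>
      Groth.Agent.RelLift.exists_regStep_of_isKoszulRegularIdeal (hker ▸ hreg) Q hle) A₀
  intro B A μ hμ
  refine Groth.Agent.ArtFunLib.surj_induction
    (P := fun A B (g : B ⟶ A) => Function.Surjective
      ((ArtFun.defFunctor (Λ := Λ) (Spec (CommRingCat.of A₀))
        (Spec.map (CommRingCat.ofHom (algebraMap k A₀)))).map g))
    (fun A B e he => ?_) (fun A B C q s _ hs ihq => ?_) μ hμ
  · haveI := Groth.Agent.ArtFunLib.isIso_of_bijective e he
    exact ((isIso_iff_bijective _).1 inferInstance).2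
  · intro y
    obtain ⟨z, hz⟩ := Groth.Agent.RelLift.surjective_map_of_T2 P hT2 s hs y
    obtain ⟨w, hw⟩ := ihq z
    exact ⟨w, by rw [Groth.Agent.ArtFunLib.map_comp', hw, hz]⟩

end Groth.Agent.S12310
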