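import Groth.Agent.ArtFunLib.Smooth

/-!
# Small prolongations of versal elements
-/

set_option autoImplicit false
set_option maxHeartbeats 800000

universe u v

open CategoryTheory ArtFun ArtFun.Art

namespace Groth.Agent.SmallProl

open Groth.Agent.ArtFunLib

variable {Λ k : Type u} [CommRing Λ] [Field k] [Algebra Λ k]

theorem moduleFinite_of_surjective (hk : Function.Surjective (algebraMap Λ k)) : Module.Finite Λ k :=
  Module.Finite.of_surjective (Algebra.linearMap Λ k) hk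

theorem map_map_algebraMap {A B : Type*} [CommRing A] [CommRing B] [Algebra Λ A] [Algebra Λ B]
    (g : A →ₐ[Λ] B) (J : Ideal Λ) : (J.map (algebraMap Λ A)).map g = J.map (algebraMap Λ B) := by
  rw [← AlgHom.comp_algebraMap g, ← Ideal.map_map]
  rfl

/-- The square-zero generator of `k[ε]`. -/
def epsD : dual Λ k := (TrivSqZeroExt.inr (1 : k) : DualNumber k)

theorem isSmallExt_toBase_dual : IsSmallExt (toBase (dual Λ k)) := by
  have hker : RingHom.ker (toBase (dual Λ k)).toAlgHom = Ideal.span {(epsD : dual Λ k)} := by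
    refine le_antisymm (fun x hx => Ideal.mem_span_singleton'.2 ⟨(TrivSqZeroExt.inl
      (TrivSqZeroExt.snd (show DualNumber k from x)) : DualNumber k), ?_⟩) ?_
    · have h : TrivSqZeroExt.fst (show DualNumber k from x) = 0 := hx
      change (TrivSqZeroExt.inl _ : DualNumber k) * TrivSqZeroExt.inr (1 : k) = (show DualNumber k from x)
      refine TrivSqZeroExt.ext ?_ ?_
      · simp [h]
      · simp
    · refine (Ideal.span_singleton_le_iff_mem _).2 ?_
      rw [RingHom.mem_ker]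
      rfl
  refine ⟨toBase_surjective _, fun h => ?_, ⟨⟨_, hker⟩⟩, ?_⟩
  · have h1 : (epsD : dual Λ k) = 0 := Ideal.span_singleton_eq_bot.1 (hker.symm.trans h)
    exact one_ne_zero (congrArg (fun z : DualNumber k => TrivSqZeroExt.snd z) h1)
  · rw [eq_bot_iff, Ideal.mul_le]
    intro a ha b hb
    have h1 : TrivSqZeroExt.fst (show DualNumber k from a) = 0 := (Art.mem_maximalIdeal_iff _ _).1 ha
    have h2 : TrivSqZeroExt.fst (show DualNumber k from b) = 0 := hb
    change (show DualNumber k from a) * (show DualNumber k from b) = 0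
    refine TrivSqZeroExt.ext ?_ ?_
    · rw [TrivSqZeroExt.fst_mul, h1, zero_mul]; rfl
    · rw [TrivSqZeroExt.snd_mul, h1, h2]; simp

variable [IsNoetherianRing Λ] [Module.Finite Λ k] {F : Art Λ k ⥤ Type v}

theorem exists_map_eq_of_versal (hF : H0 F ∧ S1 F ∧ Heps F) {R R₁ R' : Art Λ k} {π₁ : R₁ ⟶ R}
    (hπ : IsSmallExt π₁) {g : R' ⟶ R} {a : F.obj R} {a₁ : F.obj R₁} {a' : F.obj R'}
    (h₁ : F.map π₁ a₁ = a) (h' : F.map g a' = a)
    (hvers : ∀ R₀ : Art Λ k, IsSmallExt (toBase R₀) → ∀ b : F.obj R₀, ∃ φ : R ⟶ R₀, F.map φ a = b)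
    (f : R' ⟶ R₁) (hf : f ≫ π₁ = g) : ∃ f : R' ⟶ R₁, f ≫ π₁ = g ∧ F.map f a' = a₁ := by
  obtain ⟨Q, p₁, p₂, hQ⟩ := exists_fibreProd π₁ π₁ hπ.1
  obtain ⟨d, hd, -⟩ := exists_torsor hπ hQ
  obtain ⟨w, hw₁, hw₂⟩ := exists_of_surj (hF.2.1 p₁ p₂ π₁ π₁ hQ hπ.1) (F.map f a') a₁
    (by rw [← map_comp', hf, h', h₁])
  obtain ⟨φ, hφ⟩ := hvers _ isSmallExt_toBase_dual (F.map d w)
  obtain ⟨L, hL₁, hL₂⟩ := exists_lift hd (g₁ := f) (g₂ := g ≫ φ) ((eq_toBase _).trans (eq_toBase _).symm)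
  have hw : F.map L a' = w := eq_of_inj (hF.2.2 p₁ d hd).1
    (by rw [← map_comp', hL₁, hw₁]) (by rw [← map_comp', hL₂, map_comp', h', hφ])
  refine ⟨L ≫ p₂, ?_, by rw [map_comp', hw, hw₂]⟩
  rw [Category.assoc, ← hQ.w, ← Category.assoc, hL₁, hf]

theorem isSmooth_comp_iff {F G H : Art Λ k ⥤ Type v} (φ : F ⟶ G) (ψ : G ⟶ H) (hF : H0 F)
    (hG : H0 G ∧ S1 G ∧ Heps G) (hH0 : H0 H) (hH : RS H)
    (hψ : Function.Injective (TangentSpace.map ψ)) : IsSmooth (φ ≫ ψ) ↔ (IsSmooth φ ∧ IsSmooth ψ) := by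
  constructor
  · intro h
    have hinj : ∀ A, Function.Injective (ψ.app A) := app_injective_of_tangent ψ hG.1
      (fun _ _ _ _ p' p'' f' f'' hP hf => hG.2.1 p' p'' f' f'' hP hf.1) hG.2.2
      (fun _ _ _ p₁ p₂ f hP hf => hH p₁ p₂ f f hP hf.1) hψ
    refine ⟨isSmooth_of_small φ fun B A μ hμ x y hxy => ?_, isSmooth_of_small ψ fun B A μ hμ a b hab => ?_⟩
    · obtain ⟨z, hz₁, hz₂⟩ := IsSmooth.lift h hμ.1 x (ψ.app B y)
        ((congrArg (ψ.app A) hxy).trans (nat_apply ψ μ y))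
      exact ⟨z, hz₁, hinj B hz₂⟩
    · obtain ⟨x, hx⟩ := app_surjective_of_smooth (φ ≫ ψ) h (h0_map_surjective hH0 hF _) A (ψ.app A a)
      obtain ⟨z, hz₁, hz₂⟩ := IsSmooth.lift h hμ.1 x b (hx.trans hab)
      refine ⟨φ.app B z, ?_, hz₂⟩
      rw [← nat_apply, hz₁]
      exact hinj A hx
  · rintro ⟨h₁, h₂⟩
    refine isSmooth_of_small _ fun B A μ hμ x b hxb => ?_
    obtain ⟨y, hy₁, hy₂⟩ := IsSmooth.lift h₂ hμ.1 (φ.app A x) b hxb
    obtain ⟨z, hz₁, hz₂⟩ := IsSmooth.lift h₁ hμ.1 x y hy₁.symm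
    exact ⟨z, hz₁, (congrArg (ψ.app B) hz₂).trans hy₂⟩

omit [Module.Finite Λ k]

theorem exists_semismall_versal [IsLocalRing Λ] [IsAdicComplete (IsLocalRing.maximalIdeal Λ) Λ]
    (hk : Function.Surjective (algebraMap Λ k)) (hF : H0 F ∧ S1 F ∧ Heps F)
    (R : Art Λ k) (a : F.obj R)
    (hvers : ∀ R₀ : Art Λ k, IsSmallExt (toBase R₀) → ∀ b : F.obj R₀, ∃ φ : R ⟶ R₀, F.map φ a = b) :
    ∃ (R' : Art Λ k) (q : R' ⟶ R) (a' : F.obj R'), F.map q a' = a ∧
      IsSemismallExt q ∧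
      (∀ x' : R', x' ∈ IsLocalRing.maximalIdeal (R' : Type u) →
        q x' ∈ (IsLocalRing.maximalIdeal (R : Type u)) ^ 2 ⊔ (IsLocalRing.maximalIdeal Λ).map (algebraMap Λ R) →
        x' ∈ (IsLocalRing.maximalIdeal (R' : Type u)) ^ 2 ⊔ (IsLocalRing.maximalIdeal Λ).map (algebraMap Λ R')) ∧
      ∀ (R₁ : Art Λ k) (π₁ : R₁ ⟶ R), IsSmallExt π₁ →
        ∀ a₁ : F.obj R₁, F.map π₁ a₁ = a → ∃ f : R' ⟶ R₁, f ≫ π₁ = q ∧ F.map f a' = a₁ := by
  haveI : Module.Finite Λ k := moduleFinite_of_surjective hk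
  let L : CRing Λ k :=
    { carrier := Λ, res := Algebra.ofId Λ k, res_surjective := hk, isAdicComplete := inferInstance }
  have hmL : ∀ l ∈ IsLocalRing.maximalIdeal Λ, algebraMap Λ k l = 0 := fun l hl =>
    (CRing.mem_maximalIdeal_iff L l).1 hl
  have hKm : ∀ S : Art Λ k, (IsLocalRing.maximalIdeal Λ).map (algebraMap Λ S) ≤ IsLocalRing.maximalIdeal S :=
    fun S => Ideal.map_le_iff_le_comap.2 fun l hl => Ideal.mem_comap.2 ((Art.mem_maximalIdeal_iff S _).2
      ((AlgHom.commutes S.res l).trans (hmL l hl)))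
  obtain ⟨d, x, hx, hind⟩ := exists_minimal_gens (J := IsLocalRing.maximalIdeal (R : Type u))
    (K := IsLocalRing.maximalIdeal (R : Type u) ^ 2 ⊔ (IsLocalRing.maximalIdeal Λ).map (algebraMap Λ R))
    (sup_le (Ideal.pow_le_self two_ne_zero) (hKm R))
  obtain ⟨P⟩ := exists_psRing L d
  have hlift : ∀ {A : Art Λ k} (y : Fin d → A), (∀ i, A.res (y i) = 0) →
      ∃! ψ : HomSet P.ring.carrier P.ring.res A, ∀ i, ψ.1 (P.X i) = y i := fun {A} y hy => by
    obtain ⟨ψ, ⟨-, h2⟩, hu⟩ := P.univ A ⟨Algebra.ofId Λ A, AlgHom.ext fun l => AlgHom.commutes A.res l⟩ y hy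
    exact ⟨ψ, h2, fun ψ' h' => hu ψ' ⟨AlgHom.ext fun l => AlgHom.commutes (ψ'.1.comp P.C) l, h'⟩⟩
  have hXres : ∀ i, P.ring.res (P.X i) = 0 := fun i => by
    rw [P.res_e, P.e_X, MvPowerSeries.constantCoeff_X, map_zero]
  have hxres : ∀ i, R.res (x i) = 0 := fun i =>
    (Art.mem_maximalIdeal_iff R _).1 (hx.le (Ideal.mem_sup_left (Ideal.subset_span ⟨i, rfl⟩)))
  obtain ⟨c, hcX, -⟩ := hlift x hxres
  have hcm : ∀ {A : Art Λ k} (ψ : HomSet P.ring.carrier P.ring.res A),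
      (IsLocalRing.maximalIdeal P.ring.carrier).map ψ.1 ≤ IsLocalRing.maximalIdeal A := fun {A} ψ =>
    Ideal.map_le_iff_le_comap.2 fun b hb => Ideal.mem_comap.2 ((Art.mem_maximalIdeal_iff A _).2
      ((homSet_res ψ b).trans ((CRing.mem_maximalIdeal_iff P.ring b).1 hb)))
  have hc : Function.Surjective c.1 := by
    obtain ⟨N, hN⟩ := exists_trunc_factor c
    let t := truncLift c N (hN N le_rfl)
    have ht : Function.Surjective t := by
      refine surjective_of_cotangent t (hx.ge.trans (sup_le ?_ (sup_le le_sup_right (le_sup_of_le_left ?_))))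
      · refine Ideal.span_le.2 ?_
        rintro _ ⟨i, rfl⟩
        refine Ideal.mem_sup_left ?_
        rw [← hcX i]
        exact Ideal.mem_map_of_mem (x := Ideal.Quotient.mk _ (P.X i)) t.toAlgHom
          ((Art.mem_maximalIdeal_iff _ _).2 ((homSet_res (P.ring.truncHom N) _).trans (hXres i)))
      · refine Ideal.map_le_iff_le_comap.2 fun l hl => Ideal.mem_comap.2 ?_
        rw [← AlgHom.commutes t.toAlgHom l]
        exact Ideal.mem_map_of_mem t.toAlgHom (hKm _ (Ideal.mem_map_of_mem _ hl))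
    intro r
    obtain ⟨z, rfl⟩ := ht r
    obtain ⟨p, rfl⟩ := Ideal.Quotient.mk_surjective z
    exact ⟨p, rfl⟩
  obtain ⟨Q', c', x', f, hc', hf, hfc, hfx, hleast⟩ := exists_least_lift hF.2.1 c hc a
  let I : Ideal Q' := IsLocalRing.maximalIdeal Q' * RingHom.ker f.toAlgHom
  have hI : I ≤ IsLocalRing.maximalIdeal Q' := Ideal.mul_le_left
  let u := quotMk Q' I hI
  let q : quot Q' I hI ⟶ R := quotFactor hI f Ideal.mul_le_right
  have huq : u ≫ q = f := hom_ext' fun z => rfl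
  have hu : Function.Surjective u := quotMk_surjective _ _ _
  have hq : Function.Surjective q := fun r => by
    obtain ⟨z, rfl⟩ := hf r
    exact ⟨u z, rfl⟩
  refine ⟨_, q, F.map u x', by rw [← map_comp', huq, hfx], ⟨hq, ?_⟩, ?_, ?_⟩
  · rw [eq_bot_iff, Ideal.mul_le]
    intro b hb z hz
    obtain ⟨b, rfl⟩ := hu b
    obtain ⟨z, rfl⟩ := hu z
    rw [Ideal.mem_bot, ← map_mul]
    refine Ideal.Quotient.eq_zero_iff_mem.2 (Ideal.mul_mem_mul ?_ hz)
    rw [Art.mem_maximalIdeal_iff] at hb ⊢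
    exact (Art.res_app u b).symm.trans hb
  · intro x₀ hx₀ hqx
    obtain ⟨z, rfl⟩ := hu x₀
    obtain ⟨p, rfl⟩ := hc' z
    have hp : p ∈ IsLocalRing.maximalIdeal P.ring.carrier := by
      rw [Art.mem_maximalIdeal_iff, Art.res_app, homSet_res] at hx₀
      exact (CRing.mem_maximalIdeal_iff P.ring p).2 hx₀
    have hcp : c.1 p ∈ IsLocalRing.maximalIdeal (R : Type u) ^ 2 ⊔
        (IsLocalRing.maximalIdeal Λ).map (algebraMap Λ R) := by
      rw [← hfc]
      exact hqx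
    have hC : Ideal.map P.C.toRingHom (IsLocalRing.maximalIdeal L.carrier) =
        (IsLocalRing.maximalIdeal Λ).map (algebraMap Λ P.ring.carrier) :=
      congrArg (fun g : Λ →+* P.ring.carrier => (IsLocalRing.maximalIdeal Λ).map g)
        (RingHom.ext fun l => AlgHom.commutes P.C l)
    suffices h : p ∈ IsLocalRing.maximalIdeal P.ring.carrier ^ 2 ⊔
        (IsLocalRing.maximalIdeal Λ).map (algebraMap Λ P.ring.carrier) by
      have h' := Ideal.mem_map_of_mem (HomSet.map u c').1 h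
      rw [Ideal.map_sup, Ideal.map_pow, map_map_algebraMap] at h'
      refine SetLike.le_def.1 (sup_le ?_ le_sup_right) h'
      exact le_sup_of_le_left (Ideal.pow_right_mono (hcm _) 2)
    have h1 := psRing_maximal_le P hp
    rw [hC] at h1
    obtain ⟨e, he, b, hb, rfl⟩ := Submodule.mem_sup.mp h1
    obtain ⟨e', he', l, hl, rfl⟩ := Submodule.mem_sup.mp he
    obtain ⟨t, rfl⟩ := (Submodule.mem_span_range_iff_exists_fun _).mp he'
    refine add_mem (add_mem ?_ (Ideal.mem_sup_right hl)) (Ideal.mem_sup_left hb)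
    refine Ideal.sum_mem _ fun j _ => Ideal.mem_sup_left ?_
    have h2 : ∑ i, c.1 (t i) * x i ∈ IsLocalRing.maximalIdeal (R : Type u) ^ 2 ⊔
        (IsLocalRing.maximalIdeal Λ).map (algebraMap Λ R) := by
      rw [map_add, map_add] at hcp
      have hb' : c.1 b ∈ IsLocalRing.maximalIdeal (R : Type u) ^ 2 :=
        Ideal.pow_right_mono (hcm c) 2 ((Ideal.map_pow _ _ 2).le (Ideal.mem_map_of_mem c.1 hb))
      have hl' : c.1 l ∈ (IsLocalRing.maximalIdeal Λ).map (algebraMap Λ R) := by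
        have := Ideal.mem_map_of_mem c.1 hl
        rwa [map_map_algebraMap] at this
      have := (Ideal.add_mem_iff_left _ (Ideal.mem_sup_right hl')).1
        ((Ideal.add_mem_iff_left _ (Ideal.mem_sup_left hb')).1 hcp)
      simpa [map_sum, hcX] using this
    have htj : t j ∈ IsLocalRing.maximalIdeal P.ring.carrier := by
      rw [CRing.mem_maximalIdeal_iff, ← homSet_res c]
      exact (Art.mem_maximalIdeal_iff R _).1 (hind _ h2 j)
    rw [smul_eq_mul, sq]
    exact Ideal.mul_mem_mul htj ((CRing.mem_maximalIdeal_iff P.ring _).2 (hXres j))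
  · intro R₁ π₁ hπ a₁ ha₁
    choose y hy using fun i => hπ.1 (x i)
    obtain ⟨ψ, hψ, -⟩ := hlift y fun i => by rw [← Art.res_app π₁, hy, hxres]
    have hψc : HomSet.map π₁ ψ = c :=
      (hlift x hxres).unique (fun i => (congrArg π₁ (hψ i)).trans (hy i)) hcX
    have hψc' : ∀ p, π₁ (ψ.1 p) = c.1 p := fun p => DFunLike.congr_fun (congrArg Subtype.val hψc) p
    suffices h : ∃ f' : quot Q' I hI ⟶ R₁, f' ≫ π₁ = q by
      obtain ⟨f', hf'⟩ := h
      exact exists_map_eq_of_versal hF hπ ha₁ (by rw [← map_comp', huq, hfx]) hvers f' hf'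
    by_cases hs : Function.Surjective ψ.1
    · have hkill : ∀ b z, R₁.res b = 0 → π₁ z = 0 → b * z = 0 := fun b z hb hz =>
        hπ.2.2.2.le (Ideal.mul_mem_mul ((Art.mem_maximalIdeal_iff R₁ b).2 hb) hz)
      obtain ⟨g, hg⟩ := hleast R₁ π₁ ψ hs hψc hkill ⟨a₁, ha₁⟩
      have hgπ : g ≫ π₁ = f := homSet_cancel c' hc' (by rw [homSet_map_comp, hg, hψc, hfc])
      refine ⟨quotFactor hI g (Ideal.mul_le.2 fun b hb z hz => ?_), hom_ext' fun z => ?_⟩
      · rw [RingHom.mem_ker, map_mul]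
        exact hkill _ _ ((Art.res_app g b).trans ((Art.mem_maximalIdeal_iff Q' b).1 hb))
          ((congr_hom hgπ z).trans hz)
      · obtain ⟨z, rfl⟩ := hu z
        exact congr_hom hgπ z
    · have h0 : ∀ p, c.1 p = 0 → ψ.1 p = 0 := fun p hp => by
        by_contra hne
        obtain ⟨t, ht⟩ := exists_gen hπ
        obtain ⟨b, hb⟩ := exists_mul_gen ht ((hψc' p).trans hp)
        have hb0 : R₁.res b ≠ 0 := fun h => hne (by
          rw [← hb, (mul_gen_eq_iff hπ ht b 0).2 (h.trans (map_zero _).symm), zero_mul])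
        refine hs fun r => ?_
        obtain ⟨p₀, hp₀⟩ := hc (π₁ r)
        obtain ⟨e, he⟩ := exists_mul_gen ht (x := r - ψ.1 p₀) (by rw [map_sub, hψc', hp₀, sub_self])
        obtain ⟨s, hs⟩ := P.ring.res_surjective (R₁.res e / R₁.res b)
        refine ⟨p₀ + s * p, ?_⟩
        rw [map_add, map_mul, ← hb, ← mul_assoc, (mul_gen_eq_iff hπ ht _ e).2 (by
          rw [map_mul, homSet_res, hs, div_mul_cancel₀ _ hb0]), he, add_sub_cancel]
      obtain ⟨σ, hσ⟩ := exists_homSet_factor c hc ψ h0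
      have hσπ : σ ≫ π₁ = 𝟙 R := homSet_cancel c hc (by rw [homSet_map_comp, hσ, hψc, homSet_map_id])
      exact ⟨q ≫ σ, by rw [Category.assoc, hσπ, Category.comp_id]⟩

end Groth.Agent.SmallProl
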