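import Mathlib
import Groth.Statements.S12417
-- import your own Groth.Agent.* helpers here

set_option autoImplicit false
universe u
open CategoryTheory AlgebraicGeometry
open Props

namespace Groth.Agent.S12417

/-- Let X be a quasi-compact quasi-separated scheme and P a property of opens of X such that (a) P holds
for every affine open, and (b) whenever a quasi-compact open U has a finite affine open covering U =
V_1 ∪ … ∪ V_n with P holding for every intersection V_i ∩ V_j, P holds for U. Then P holds for every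
quasi-compact open of X. -/
theorem result (X : Scheme.{u}) [CompactSpace X] [QuasiSeparatedSpace X]
    (P : X.Opens → Prop) (ha : ∀ U : X.Opens, IsAffineOpen U → P U)
    (hb : ∀ (U : X.Opens) (n : ℕ) (V : Fin n → X.Opens), IsCompact (U : Set X) →
      (∀ i, IsAffineOpen (V i)) → ⨆ i, V i = U → (∀ i j, P (V i ⊓ V j)) → P U)
    (U : X.Opens) (hU : IsCompact (U : Set X)) : P U := by
  have key : ∀ (U : X.Opens), IsCompact (U : Set X) → ∀ V : X.Opens, IsAffineOpen V → U ≤ V → P U := by
    intro U hU V hV hUV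
    have hc : ∀ x : U, ∃ f : Γ(X, V), X.basicOpen f ≤ U ∧ (x : X) ∈ X.basicOpen f :=
      fun x => hV.exists_basicOpen_le x (hUV x.2)
    choose f hf hxf using hc
    obtain ⟨t, ht⟩ := hU.elim_finite_subcover (fun x : U => ((X.basicOpen (f x)) : Set X))
      (fun x => (X.basicOpen (f x)).2) (fun x hx => Set.mem_iUnion.2 ⟨⟨x, hx⟩, hxf ⟨x, hx⟩⟩)
    refine hb U t.card (fun i => X.basicOpen (f (t.equivFin.symm i))) hU (fun i => hV.basicOpen _) ?_ ?_
    · apply le_antisymm (iSup_le fun i => hf _)
      intro x hx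
      obtain ⟨y, hy, hxy⟩ := Set.mem_iUnion₂.1 (ht hx)
      exact TopologicalSpace.Opens.mem_iSup.2 ⟨t.equivFin ⟨y, hy⟩, by simpa using hxy⟩
    · intro i j
      apply ha
      rw [← Scheme.basicOpen_mul]
      exact hV.basicOpen _
  have hc : ∀ x : U, ∃ V : X.Opens, IsAffineOpen V ∧ (x : X) ∈ V ∧ V ≤ U := by
    intro x
    obtain ⟨V, hV, hxV, hVU⟩ := TopologicalSpace.Opens.isBasis_iff_nbhd.1 X.isBasis_affineOpens x.2
    exact ⟨V, hV, hxV, hVU⟩
  choose V hV hxV hVU using hc
  obtain ⟨t, ht⟩ := hU.elim_finite_subcover (fun x : U => ((V x) : Set X))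
    (fun x => (V x).2) (fun x hx => Set.mem_iUnion.2 ⟨⟨x, hx⟩, hxV ⟨x, hx⟩⟩)
  refine hb U t.card (fun i => V (t.equivFin.symm i)) hU (fun i => hV _) ?_ ?_
  · apply le_antisymm (iSup_le fun i => hVU _)
    intro x hx
    obtain ⟨y, hy, hxy⟩ := Set.mem_iUnion₂.1 (ht hx)
    exact TopologicalSpace.Opens.mem_iSup.2 ⟨t.equivFin ⟨y, hy⟩, by simpa using hxy⟩
  · intro i j
    refine key _ ?_ _ (hV (t.equivFin.symm i)) inf_le_left
    simpa using QuasiSeparatedSpace.inter_isCompact _ _ (V (t.equivFin.symm i)).2 (hV _).isCompact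
      (V (t.equivFin.symm j)).2 (hV _).isCompact

end Groth.Agent.S12417
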