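import Groth.Statements.S12418
import Mathlib

set_option autoImplicit false
universe u
open CAlg

namespace Groth.Agent.S12418

/-- Let R be a Noetherian ring and b ∈ R; for x outside the ideal (b) put I_x = ((b) : x), the ideal of
r with r x ∈ (b). If s ∉ (b) and I_s is maximal among the I_x (x ∉ (b)), then I_s is prime. -/
theorem result {R : Type u} [CommRing R] [IsNoetherianRing R]
    (b s : R) (hs : s ∉ Ideal.span {b})
    (hmax : ∀ x : R, x ∉ Ideal.span {b} →
      Submodule.colon (Ideal.span {b}) (Ideal.span {s}) ≤ Submodule.colon (Ideal.span {b}) (Ideal.span {x}) →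
      Submodule.colon (Ideal.span {b}) (Ideal.span {x}) = Submodule.colon (Ideal.span {b}) (Ideal.span {s})) :
    (Submodule.colon (Ideal.span {b}) (Ideal.span ({s} : Set R))).IsPrime := by
  have hmem : ∀ {r x : R}, r ∈ Submodule.colon (Ideal.span {b}) (Ideal.span ({x} : Set R)) ↔ r * x ∈ Ideal.span {b} :=
    fun {r x} => Submodule.mem_colon_span_singleton
  constructor
  · intro h
    exact hs (one_mul s ▸ hmem.mp (h ▸ Submodule.mem_top (x := (1 : R))))
  · intro x y hxy
    by_cases hy : y ∈ Submodule.colon (Ideal.span {b}) (Ideal.span ({s} : Set R))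
    · exact .inr hy
    refine .inl ?_
    have hys : y * s ∉ Ideal.span {b} := fun h => hy (hmem.mpr h)
    rw [← hmax (y * s) hys fun r hr => hmem.mpr (by
      rw [mul_left_comm]; exact Ideal.mul_mem_left _ y (hmem.mp hr))]
    exact hmem.mpr (by rw [← mul_assoc]; exact hmem.mp hxy)

end Groth.Agent.S12418
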