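import Groth.Statements.S12419
import Groth.Agent.S14002
-- import your own Groth.Agent.* helpers here

set_option autoImplicit false
universe u
open TensorProduct
open CAlg

namespace Groth.Agent.S12419

open scoped TensorProduct

/-- A module over a local ring with nilpotent maximal ideal which becomes flat over an injective
extension is free. -/
theorem free_of_injective_flat {T U : Type u} [CommRing T] [IsLocalRing T] (hn : IsNilpotent (IsLocalRing.maximalIdeal T))
    [CommRing U] [Algebra T U] (hinj : Function.Injective (algebraMap T U)) (M : Type u) [AddCommGroup M] [Module T M]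
    [Module.Flat U (U ⊗[T] M)] : Module.Free T M := by
  classical
  let m := IsLocalRing.maximalIdeal T
  let mU := m.map (algebraMap T U)
  let _ := Ideal.Quotient.field m
  let Q := M ⧸ (m • ⊤ : Submodule T M)
  let bb := Module.Basis.ofVectorSpace (T ⧸ m) Q
  choose v hv using fun i => Submodule.Quotient.mk_surjective (m • ⊤ : Submodule T M) (bb i)
  let ι : T ⧸ m →+* U ⧸ mU := Ideal.quotientMap mU (algebraMap T U) Ideal.le_comap_map
  let coord : Module.Basis.ofVectorSpaceIndex (T ⧸ m) Q → (M →ₗ[T] U ⧸ mU) := fun i =>
    { toFun := fun x => ι (bb.repr (Submodule.Quotient.mk x) i)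
      map_add' := fun x y => by rw [Submodule.Quotient.mk_add, map_add, Finsupp.add_apply, map_add]
      map_smul' := fun t x => by
        rw [Submodule.Quotient.mk_smul, RingHom.id_apply,
          ← algebraMap_smul (T ⧸ m) t (Submodule.Quotient.mk x : Q), map_smul, Finsupp.smul_apply, smul_eq_mul,
          map_mul, Algebra.smul_def]
        rfl }
  have hcoord : ∀ i j, LinearMap.liftBaseChange U (coord i) ((1 : U) ⊗ₜ[T] v j) = if j = i then 1 else 0 := by
    intro i j
    rw [LinearMap.liftBaseChange_tmul, one_smul]
    show ι (bb.repr (Submodule.Quotient.mk (v j)) i) = _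
    rw [hv, Module.Basis.repr_self, Finsupp.single_apply]
    split_ifs <;> simp
  obtain ⟨d, hd⟩ := hn
  refine Module.Free.of_basis (Module.Basis.mk (v := v) ?_ ?_)
  · rw [linearIndependent_iff']
    intro s t hst i hi
    have h0 : ∑ x : s, algebraMap T U (t x) • ((1 : U) ⊗ₜ[T] v x) = 0 := by
      have he : ∑ x : s, algebraMap T U (t x) • ((1 : U) ⊗ₜ[T] v x) = (1 : U) ⊗ₜ[T] (∑ x : s, t x • v x) := by
        rw [TensorProduct.tmul_sum]
        simp only [TensorProduct.tmul_smul, algebraMap_smul]
      rw [he, Finset.sum_coe_sort s (fun x => t x • v x), hst, TensorProduct.tmul_zero]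
    obtain ⟨n, a, y, hy, ha⟩ := Module.Flat.isTrivialRelation_of_sum_smul_eq_zero
      (R := U) (M := U ⊗[T] M) (f := fun x : s => algebraMap T U (t x)) (x := fun x : s => (1 : U) ⊗ₜ[T] v x) h0
    choose c hc using fun (l : Fin n) (x : s) =>
      Ideal.Quotient.mk_surjective (LinearMap.liftBaseChange U (coord x) (y l))
    have hδ : ∀ x z : s, (if z = x then (1 : U) else 0) - ∑ l, a z l * c l x ∈ mU := by
      intro x z
      rw [← Ideal.Quotient.eq_zero_iff_mem, map_sub, sub_eq_zero, map_sum]
      calc Ideal.Quotient.mk mU (if z = x then (1 : U) else 0)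
          = LinearMap.liftBaseChange U (coord x) ((1 : U) ⊗ₜ[T] v z) := by
            rw [hcoord]
            by_cases h : z = x
            · subst h; simp
            · rw [if_neg h, if_neg (fun h' => h (Subtype.ext h'))]; simp
        _ = _ := by
            rw [show (1 : U) ⊗ₜ[T] v z = _ from hy z, map_sum]
            refine Finset.sum_congr rfl fun l _ => ?_
            rw [map_smul, map_mul, hc, Algebra.smul_def]
            rfl
    have hall : ∀ (j : ℕ) (x : s), algebraMap T U (t x) ∈ mU ^ j := by
      intro j
      induction j with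
      | zero => exact fun x => by simp
      | succ j ih =>
        intro x
        have h1 : algebraMap T U (t x) =
            ∑ z : s, algebraMap T U (t z) * ((if z = x then (1 : U) else 0) - ∑ l, a z l * c l x) := by
          simp only [mul_sub, Finset.sum_sub_distrib, mul_ite, mul_one, mul_zero, Finset.sum_ite_eq', Finset.mem_univ, if_true]
          simp only [Finset.mul_sum]
          rw [Finset.sum_comm]
          simp only [← mul_assoc, ← Finset.sum_mul]
          simp only [ha, zero_mul, Finset.sum_const_zero, sub_zero]
        rw [h1, pow_succ]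
        exact sum_mem fun z _ => Ideal.mul_mem_mul (ih z) (hδ x z)
    have h2 := hall d ⟨i, hi⟩
    rw [← Ideal.map_pow, hd, Ideal.zero_eq_bot, Ideal.map_bot, Ideal.mem_bot] at h2
    exact hinj (h2.trans (map_zero _).symm)
  · have hbase : ⊤ ≤ Submodule.span T (Set.range v) ⊔ m • ⊤ := by
      intro x _
      have hx := bb.mem_span (Submodule.Quotient.mk x : Q)
      rw [← Submodule.restrictScalars_mem T, Submodule.restrictScalars_span T (T ⧸ m) Ideal.Quotient.mk_surjective] at hx
      have hr : Set.range bb = (Submodule.mkQ (m • ⊤ : Submodule T M)) '' Set.range v := by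
        rw [← Set.range_comp]
        exact congrArg Set.range (funext fun i => (hv i).symm)
      rw [hr, Submodule.span_image] at hx
      obtain ⟨y, hy, hyx⟩ := hx
      rw [Submodule.mkQ_apply, Submodule.Quotient.eq] at hyx
      exact Submodule.mem_sup.mpr ⟨y, hy, x - y, neg_sub y x ▸ neg_mem hyx, add_sub_cancel _ _⟩
    have hstep : ∀ j : ℕ, ⊤ ≤ Submodule.span T (Set.range v) ⊔ m ^ j • (⊤ : Submodule T M) := by
      intro j
      induction j with
      | zero => simp
      | succ j ih =>
        refine ih.trans (sup_le le_sup_left ?_)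
        refine (Submodule.smul_mono le_rfl hbase).trans ?_
        rw [Submodule.smul_sup, ← Submodule.mul_smul, ← pow_succ]
        exact sup_le (Submodule.smul_le_right.trans le_sup_left) le_sup_right
    have := hstep d
    rwa [hd, Ideal.zero_eq_bot, Submodule.bot_smul, sup_bot_eq] at this

/-- Let A → B be a local homomorphism of Noetherian local rings, m the maximal ideal of A, and φ : A →
A' a ring homomorphism to a semi-local Noetherian ring A' with Jacobson radical r', such that
φ⁻¹(r') = m and such that every power m^n contains φ⁻¹(r'^N) for some N. Then B is flat over A if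
and only if A' ⊗_A B is flat over A'. (Given φ⁻¹(r') = m, the condition on powers says that the
m-adic topology of A is induced by the r'-adic topology of A', equivalently that the induced
homomorphism of adic completions is injective, which is how the published statement phrases this
hypothesis.) -/
theorem result (A B A' : Type u) [CommRing A] [CommRing B]
    [CommRing A'] [IsNoetherianRing A] [IsLocalRing A] [IsNoetherianRing B] [IsLocalRing B]
    [Algebra A B] [IsLocalHom (algebraMap A B)] [IsNoetherianRing A'] [Finite (MaximalSpectrum A')]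
    [Algebra A A']
    (hrad : (Ideal.jacobson (⊥ : Ideal A')).comap (algebraMap A A') = IsLocalRing.maximalIdeal A)
    (htop : ∀ n : ℕ, ∃ N : ℕ,
      ((Ideal.jacobson (⊥ : Ideal A')) ^ N).comap (algebraMap A A') ≤ (IsLocalRing.maximalIdeal A) ^ n) :
    Module.Flat A B ↔ Module.Flat A' (A' ⊗[A] B) := by
  refine ⟨fun _ => inferInstance, fun hflat => ?_⟩
  let m := IsLocalRing.maximalIdeal A
  have hm : m.map (algebraMap A B) ≤ Ideal.jacobson (⊥ : Ideal B) := by
    rw [IsLocalRing.jacobson_eq_maximalIdeal ⊥ bot_ne_top]
    exact ((IsLocalRing.local_hom_TFAE _).out 0 2).mp ‹IsLocalHom (algebraMap A B)›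
  refine S14002.flat_of_forall_flat_quotient_pow (S := B) m hm fun n => ?_
  rcases Nat.eq_zero_or_pos n with rfl | hn
  · have : Subsingleton (A ⧸ m ^ 0) := Ideal.Quotient.subsingleton_iff.mpr (by simp)
    infer_instance
  obtain ⟨N, hN⟩ := htop n
  let r := Ideal.jacobson (⊥ : Ideal A')
  let U := A' ⧸ r ^ N
  let a : Ideal A := (r ^ N).comap (algebraMap A A')
  have hane : a ≠ ⊤ := ne_top_of_le_ne_top (IsLocalRing.maximalIdeal.isMaximal A).ne_top
    (hN.trans (Ideal.pow_le_self hn.ne'))
  let T := A ⧸ a
  have : Nontrivial T := Ideal.Quotient.nontrivial_iff.mpr hane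
  have : IsLocalRing T := .of_surjective' _ Ideal.Quotient.mk_surjective
  have hnil : IsNilpotent (IsLocalRing.maximalIdeal T) := by
    refine ⟨N, ?_⟩
    rw [← IsLocalRing.map_maximalIdeal_of_surjective (Ideal.Quotient.mk a) Ideal.Quotient.mk_surjective, ← Ideal.map_pow,
      Ideal.zero_eq_bot, Ideal.map_eq_bot_iff_le_ker, Ideal.mk_ker]
    refine Ideal.map_le_iff_le_comap.mp ?_
    rw [Ideal.map_pow]
    exact Ideal.pow_right_mono (Ideal.map_le_iff_le_comap.mpr hrad.ge) N
  let _ : Algebra T U := (Ideal.quotientMap (r ^ N) (algebraMap A A') le_rfl).toAlgebra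
  have : IsScalarTower A T U := .of_algebraMap_eq fun x => rfl
  have : Module.Flat U (U ⊗[A'] (A' ⊗[A] B)) := inferInstance
  have : Module.Flat U (U ⊗[A] B) :=
    Module.Flat.of_linearEquiv (TensorProduct.AlgebraTensorModule.cancelBaseChange A A' U U B).symm
  have : Module.Flat U (U ⊗[T] (T ⊗[A] B)) :=
    Module.Flat.of_linearEquiv (TensorProduct.AlgebraTensorModule.cancelBaseChange A T U U B)
  have : Module.Free T (T ⊗[A] B) := free_of_injective_flat hnil Ideal.quotientMap_injective _
  have : Module.Flat T (T ⊗[A] B) := Module.Flat.of_free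
  let V := A ⧸ m ^ n
  let _ : Algebra T V := (Ideal.Quotient.factor hN).toAlgebra
  have : IsScalarTower A T V := .of_algebraMap_eq fun x => rfl
  exact Module.Flat.of_linearEquiv (TensorProduct.AlgebraTensorModule.cancelBaseChange A T V V B).symm

end Groth.Agent.S12419
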