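import Mathlib
import Groth.Statements.S12421
-- import your own Groth.Agent.* helpers here

set_option autoImplicit false
universe u
open TensorProduct
open Desc

namespace Groth.Agent.S12421

open scoped TensorProduct

/-- Let R → R' be faithfully flat and M an R-module. With δ¹ : M ⊗ R' → M ⊗ (R' ⊗ R'), m ⊗ r ↦ m ⊗ (1 ⊗
r) − m ⊗ (r ⊗ 1), and δ² : M ⊗ (R' ⊗ R') → M ⊗ (R' ⊗ (R' ⊗ R')), m ⊗ x ↦ m ⊗ (1 ⊗ x) − m ⊗ (ins₁ x)
+ m ⊗ (ins₂ x), where ins₁ (r₁ ⊗ r₂) = r₁ ⊗ (1 ⊗ r₂) and ins₂ (r₁ ⊗ r₂) = r₁ ⊗ (r₂ ⊗ 1), the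
sequence M ⊗ R' → M ⊗ R'^{⊗2} → M ⊗ R'^{⊗3} is exact: the kernel of δ² is the image of δ¹. (The
published statement asserts exactness of the whole complex; this row states exactness at M ⊗ R′ ⊗ R′
only.) -/
theorem result (R R' : Type u) [CommRing R] [CommRing R'] [Algebra R R']
    [Module.FaithfullyFlat R R'] (M : Type u) [AddCommGroup M] [Module R M] :
    Function.Exact
      (LinearMap.lTensor M (Algebra.TensorProduct.includeRight : R' →ₐ[R] R' ⊗[R] R').toLinearMap -
        LinearMap.lTensor M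
          (Algebra.TensorProduct.includeLeft : R' →ₐ[R] R' ⊗[R] R').toLinearMap)
      (LinearMap.lTensor M
          (Algebra.TensorProduct.includeRight : R' ⊗[R] R' →ₐ[R] R' ⊗[R] (R' ⊗[R] R')).toLinearMap -
        LinearMap.lTensor M
          (Algebra.TensorProduct.map (AlgHom.id R R')
            (Algebra.TensorProduct.includeRight : R' →ₐ[R] R' ⊗[R] R')).toLinearMap +
        LinearMap.lTensor M
          (Algebra.TensorProduct.map (AlgHom.id R R')
            (Algebra.TensorProduct.includeLeft : R' →ₐ[R] R' ⊗[R] R')).toLinearMap) := by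
  classical
  intro z
  constructor
  · intro hz
    let d1 : M ⊗[R] R' →ₗ[R] M ⊗[R] (R' ⊗[R] R') := LinearMap.lTensor M (Algebra.TensorProduct.includeRight : R' →ₐ[R] R' ⊗[R] R').toLinearMap -
        LinearMap.lTensor M (Algebra.TensorProduct.includeLeft : R' →ₐ[R] R' ⊗[R] R').toLinearMap
    show z ∈ LinearMap.range d1
    rw [← Submodule.Quotient.mk_eq_zero]
    apply Module.FaithfullyFlat.tensorProduct_mk_injective (A := R) (B := R')
    show (1 : R') ⊗ₜ[R] (LinearMap.range d1).mkQ z = (1 : R') ⊗ₜ[R] (0 : (M ⊗[R] (R' ⊗[R] R')) ⧸ LinearMap.range d1)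
    rw [TensorProduct.tmul_zero]
    let s : M ⊗[R] (R' ⊗[R] R') →ₗ[R] R' ⊗[R] (M ⊗[R] R') := (TensorProduct.leftComm R M R' R').toLinearMap
    let Ψ : M ⊗[R] (R' ⊗[R] (R' ⊗[R] R')) →ₗ[R] R' ⊗[R] (M ⊗[R] (R' ⊗[R] R')) := (TensorProduct.leftComm R M R' (R' ⊗[R] R')).toLinearMap
    have key : Ψ ∘ₗ (LinearMap.lTensor M
          (Algebra.TensorProduct.includeRight : R' ⊗[R] R' →ₐ[R] R' ⊗[R] (R' ⊗[R] R')).toLinearMap -
        LinearMap.lTensor M
          (Algebra.TensorProduct.map (AlgHom.id R R')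
            (Algebra.TensorProduct.includeRight : R' →ₐ[R] R' ⊗[R] R')).toLinearMap +
        LinearMap.lTensor M
          (Algebra.TensorProduct.map (AlgHom.id R R')
            (Algebra.TensorProduct.includeLeft : R' →ₐ[R] R' ⊗[R] R')).toLinearMap) =
        TensorProduct.mk R R' (M ⊗[R] (R' ⊗[R] R')) 1 - (d1.lTensor R') ∘ₗ s := by
      refine TensorProduct.ext' fun m w => ?_
      induction w using TensorProduct.induction_on with
      | zero => simp only [TensorProduct.tmul_zero, map_zero]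
      | tmul a b =>
        simp [Ψ, d1, s, TensorProduct.tmul_sub]
        abel
      | add a b ha hb => rw [TensorProduct.tmul_add, map_add, map_add, ha, hb]
    have h := LinearMap.congr_fun key z
    rw [LinearMap.comp_apply, hz, map_zero, LinearMap.sub_apply, LinearMap.comp_apply, eq_comm, sub_eq_zero, TensorProduct.mk_apply] at h
    have h2 := congrArg ((LinearMap.range d1).mkQ.lTensor R') h
    rw [LinearMap.lTensor_tmul, ← LinearMap.comp_apply, ← LinearMap.lTensor_comp, LinearMap.range_mkQ_comp, LinearMap.lTensor_zero, LinearMap.zero_apply] at h2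
    exact h2
  · rintro ⟨y, rfl⟩
    induction y using TensorProduct.induction_on with
    | zero => simp only [map_zero]
    | tmul m r =>
      simp [TensorProduct.tmul_sub, Algebra.TensorProduct.one_def]
    | add a b ha hb => simp only [map_add, ha, hb, add_zero]

end Groth.Agent.S12421
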