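import Groth.Statements.S1244
import Mathlib
-- import your own Groth.Agent.* helpers here

set_option autoImplicit false
universe u
open FlatMor

namespace Groth.Agent.S1244

open AlgebraicGeometry CategoryTheory in
/-- Let A be the limit of an inverse system of rings (A_n) indexed by the natural numbers whose
transition maps are surjective with locally nilpotent kernels. Let T → Spec A be a monomorphism of
schemes which is locally of finite type. If each Spec A_n → Spec A factors through T, then T → Spec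
A is an isomorphism. -/
theorem result {A : Type u} [CommRing A] (A' : ℕ → Type u) [∀ n, CommRing (A' n)]
    (φ : ∀ n, A' (n + 1) →+* A' n) (π : ∀ n, A →+* A' n) (hlim : FlatCA.IsRingLimit A A' φ π)
    (hsurj : ∀ n, Function.Surjective (φ n)) (hnil : ∀ n, ∀ x ∈ RingHom.ker (φ n), IsNilpotent x)
    {T : Scheme.{u}} (h : T ⟶ Spec (CommRingCat.of A)) [Mono h] [LocallyOfFiniteType h]
    (hsec : ∀ n, ∃ g : Spec (CommRingCat.of (A' n)) ⟶ T, g ≫ h = Spec.map (CommRingCat.ofHom (π n))) :
    IsIso h := by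
  classical
  obtain ⟨hφπ, hinjA, hsurA⟩ := hlim
  choose g hg using hsec
  have hπ0 : Function.Surjective (π 0) := by
    intro x
    let xs : ∀ n, A' n := fun n => Nat.rec (motive := A') x (fun m y => (hsurj m y).choose) n
    obtain ⟨a, ha⟩ := hsurA xs (fun n => (hsurj n (xs n)).choose_spec)
    exact ⟨a, ha 0⟩
  have hgcomp : ∀ n, Spec.map (CommRingCat.ofHom (φ n)) ≫ g (n + 1) = g n := fun n => by
    rw [← cancel_mono h, Category.assoc, hg, hg, ← Spec.map_comp, ← CommRingCat.ofHom_comp, hφπ]
  have hsurjSpec : ∀ n, Function.Surjective (Spec.map (CommRingCat.ofHom (φ n))) := by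
    intro n q
    have hker : RingHom.ker (φ n) ≤ q.asIdeal := fun a ha => by
      obtain ⟨k, hk⟩ := hnil n a ha
      exact q.isPrime.mem_of_pow_mem k (hk ▸ zero_mem _)
    exact (range_comap_of_surjective _ _ (hsurj n)).ge hker
  have hrange : ∀ n, Set.range (g n) ⊆ Set.range (g 0) := by
    intro n
    induction n with
    | zero => exact subset_rfl
    | succ n ih =>
      rintro _ ⟨q, rfl⟩
      obtain ⟨p, rfl⟩ := hsurjSpec n q
      refine ih ⟨p, ?_⟩
      rw [← Scheme.Hom.comp_apply, hgcomp]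
  have hcpt : IsCompact (Set.range (g 0)) := isCompact_range (g 0).continuous
  have hcov : ∀ t : T, ∃ O : T.Opens, IsAffineOpen O ∧ t ∈ O := fun t => by
    obtain ⟨O, hO, htO, -⟩ := exists_isAffineOpen_mem_and_subset (U := (⊤ : T.Opens)) (x := t) trivial
    exact ⟨O, hO, htO⟩
  choose O hO htO using hcov
  obtain ⟨s, hs⟩ := hcpt.elim_finite_subcover (fun t => (O t : Set T)) (fun t => (O t).2)
    (fun t _ => Set.mem_iUnion.mpr ⟨t, htO t⟩)
  let W : T.Opens := s.sup O
  have hWc : IsCompact (W : Set T) := by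
    have : (W : Set T) = ⋃ t ∈ s, (O t : Set T) := by simp [W]
    rw [this]; exact s.isCompact_biUnion fun t _ => (hO t).isCompact
  haveI : CompactSpace (W : Scheme.{u}) := isCompact_iff_compactSpace.mp hWc
  have hgW : ∀ n, Set.range (g n) ⊆ Set.range W.ι := fun n x hx => by
    rw [Scheme.Opens.range_ι]
    obtain ⟨t, ht, hxt⟩ := Set.mem_iUnion₂.mp (hs (hrange n hx))
    exact (Finset.le_sup (f := O) ht) hxt
  let k : (W : Scheme.{u}) ⟶ Spec (CommRingCat.of A) := W.ι ≫ h
  haveI : QuasiCompact k := (quasiCompact_iff_compactSpace k).mpr inferInstance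
  haveI : IsAffine k.normalization := isAffine_of_isAffineHom k.fromNormalization
  haveI : (W : Scheme.{u}).IsQuasiAffine := Scheme.IsQuasiAffine.of_isImmersion k.toNormalization
  let j := (W : Scheme.{u}).toSpecΓ
  let g' := fun n => IsOpenImmersion.lift W.ι (g n) (hgW n)
  let c : ∀ n, Γ((W : Scheme.{u}), ⊤) ⟶ CommRingCat.of (A' n) := fun n =>
    (g' n).appTop ≫ (Scheme.ΓSpecIso _).hom
  have hg' : ∀ n, Spec.map (CommRingCat.ofHom (φ n)) ≫ g' (n + 1) = g' n := fun n => by
    rw [← cancel_mono W.ι, Category.assoc, IsOpenImmersion.lift_fac, IsOpenImmersion.lift_fac, hgcomp]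
  have hcφ : ∀ n, c (n + 1) ≫ CommRingCat.ofHom (φ n) = c n := fun n => by
    simp only [c, ← hg' n, Scheme.Hom.comp_appTop, Category.assoc, Scheme.ΓSpecIso_naturality]
  have hlift : ∀ x, ∃ a : A, ∀ n, π n a = (c n).hom x := fun x =>
    hsurA (fun n => (c n).hom x) (fun n => congrArg (fun f => f.hom x) (hcφ n))
  choose sf hsf using hlift
  let sR : Γ((W : Scheme.{u}), ⊤) →+* A :=
    { toFun := sf
      map_one' := hinjA _ _ fun n => by rw [hsf, map_one, map_one]
      map_mul' := fun x y => hinjA _ _ fun n => by rw [hsf, map_mul, map_mul, hsf, hsf]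
      map_zero' := hinjA _ _ fun n => by rw [hsf, map_zero, map_zero]
      map_add' := fun x y => hinjA _ _ fun n => by rw [hsf, map_add, map_add, hsf, hsf] }
  have hcs : ∀ n, Spec.map (CommRingCat.ofHom (π n)) ≫ Spec.map (CommRingCat.ofHom sR) = g' n ≫ j := fun n => by
    rw [← Spec.map_comp, show CommRingCat.ofHom sR ≫ CommRingCat.ofHom (π n) = c n from
      CommRingCat.hom_ext (RingHom.ext fun x => hsf x n), Scheme.toSpecΓ_naturality]
    simp only [c, Spec.map_comp, ← SpecMap_ΓSpecIso_hom]
  have hunit : ∀ a : A, IsUnit (π 0 a) → IsUnit a := by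
    intro a ha
    have hu : ∀ n, IsUnit (π n a) := by
      intro n
      induction n with
      | zero => exact ha
      | succ n ih =>
        haveI : IsLocalHom (φ n) := ⟨fun x hx => by
          obtain ⟨y, hy⟩ := hsurj n ↑(hx.unit⁻¹)
          have hz : IsNilpotent (x * y - 1) := hnil n _ (by
            rw [RingHom.mem_ker, map_sub, map_mul, hy, map_one, hx.mul_val_inv, sub_self])
          exact isUnit_of_mul_isUnit_left (y := y) (by simpa using hz.isUnit_one_add)⟩
        refine (isUnit_map_iff (φ n) _).mp ?_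
        rw [← RingHom.comp_apply, hφπ]
        exact ih
    choose v hv using fun n => (hu n).exists_right_inv
    obtain ⟨b, hb⟩ := hsurA v fun n => by
      apply (hu n).mul_left_cancel
      rw [hv n, ← hφπ, RingHom.comp_apply, ← map_mul, hv (n + 1), map_one]
    exact isUnit_iff_exists_inv.mpr ⟨b, hinjA _ _ fun n => by rw [map_mul, map_one, hb, hv]⟩
  have hjr : Set.range (Spec.map (CommRingCat.ofHom sR)) ⊆ Set.range j := by
    rintro _ ⟨p, rfl⟩
    obtain ⟨m, hm, hpm⟩ := p.asIdeal.exists_le_maximal p.isPrime.ne_top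
    have hker : RingHom.ker (π 0) ≤ m := by
      intro a ha
      by_contra hna
      obtain ⟨b, i, hi, hbi⟩ := hm.exists_inv hna
      have hi' : IsUnit i := hunit i (by
        have := congrArg (π 0) hbi
        rw [map_add, map_mul, RingHom.mem_ker.mp ha, mul_zero, zero_add, map_one] at this
        rw [this]; exact isUnit_one)
      exact hm.ne_top (Ideal.eq_top_of_isUnit_mem _ hi hi')
    obtain ⟨q, hq⟩ := (range_comap_of_surjective _ _ hπ0).ge (show (⟨m, hm.isPrime⟩ : PrimeSpectrum A) ∈ PrimeSpectrum.zeroLocus _ from hker)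
    have hmem : Spec.map (CommRingCat.ofHom sR) ⟨m, hm.isPrime⟩ ∈ Set.range j := by
      refine ⟨g' 0 q, ?_⟩
      rw [← Scheme.Hom.comp_apply, ← hcs 0, Scheme.Hom.comp_apply]
      exact congrArg _ hq
    exact Specializes.mem_open (((PrimeSpectrum.le_iff_specializes p ⟨m, hm.isPrime⟩).mp hpm).map
      (Spec.map (CommRingCat.ofHom sR)).continuous) j.isOpenEmbedding.isOpen_range hmem
  let σ := IsOpenImmersion.lift j (Spec.map (CommRingCat.ofHom sR)) hjr
  have hσ : σ ≫ j = Spec.map (CommRingCat.ofHom sR) := IsOpenImmersion.lift_fac _ _ _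
  let k' : CommRingCat.of A ⟶ Γ((W : Scheme.{u}), ⊤) := (Scheme.ΓSpecIso _).inv ≫ k.appTop
  have hk : j ≫ Spec.map k' = k := by
    simp only [j, k', Spec.map_comp]
    rw [← Scheme.toSpecΓ_naturality_assoc, ← SpecMap_ΓSpecIso_hom, ← Spec.map_comp]
    simp
  have hid : k' ≫ CommRingCat.ofHom sR = 𝟙 _ := by
    refine CommRingCat.hom_ext (RingHom.ext fun a => hinjA _ _ fun n => ?_)
    refine (hsf _ n).trans ?_
    have : g' n ≫ k = Spec.map (CommRingCat.ofHom (π n)) := by
      simp only [g', k, IsOpenImmersion.lift_fac_assoc, hg]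
    have h2 := congrArg (fun f => (Scheme.ΓSpecIso _).inv ≫ f.appTop ≫ (Scheme.ΓSpecIso _).hom) this
    simp only [Scheme.Hom.comp_appTop, Category.assoc, Scheme.ΓSpecIso_naturality, Iso.inv_hom_id_assoc] at h2
    exact congrArg (fun f => f.hom a) h2
  haveI : IsSplitEpi h := ⟨⟨⟨σ ≫ W.ι, by
    rw [Category.assoc, show W.ι ≫ h = k from rfl, ← hk, reassoc_of% hσ, ← Spec.map_comp]
    exact (congrArg Spec.map hid).trans (Spec.map_id _)⟩⟩⟩
  exact isIso_of_mono_of_isSplitEpi h

end Groth.Agent.S1244
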