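import Groth.Statements.S12442
import Mathlib
-- import your own Groth.Agent.* helpers here

set_option autoImplicit false
universe u
open Mor

namespace Groth.Agent.S12442

open AlgebraicGeometry CategoryTheory in
/-- Let f : X → Y and g : Y → S be morphisms of schemes. If the composite X → S is locally of finite
presentation and g is locally of finite type, then f is locally of finite presentation. -/
theorem result {X Y S : Scheme.{u}} (f : X ⟶ Y) (g : Y ⟶ S)
    [LocallyOfFinitePresentation (f ≫ g)] [LocallyOfFiniteType g] :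
    LocallyOfFinitePresentation f := by
  rw [HasRingHomProperty.iff_exists_appLE (P := @LocallyOfFinitePresentation)
    (Q := RingHom.FinitePresentation) (X := X) (Y := Y)]
  swap
  · exact (RingHom.finitePresentation_stableUnderComposition.stableUnderCompositionWithLocalizationAway RingHom.finitePresentation_holdsForLocalizationAway).left
  · intro x
    obtain ⟨_, ⟨(W : S.Opens), hW, rfl⟩, hxW, -⟩ :=
      S.isBasis_affineOpens.exists_subset_of_mem_open (Set.mem_univ (g (f x))) isOpen_univ
    obtain ⟨_, ⟨(V : Y.Opens), hV, rfl⟩, hxV, hVW⟩ :=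
      Y.isBasis_affineOpens.exists_subset_of_mem_open (show f x ∈ g ⁻¹ᵁ W from hxW) (g ⁻¹ᵁ W).2
    obtain ⟨_, ⟨(U : X.Opens), hU, rfl⟩, hxU, hUV⟩ :=
      X.isBasis_affineOpens.exists_subset_of_mem_open (show x ∈ f ⁻¹ᵁ V from hxV) (f ⁻¹ᵁ V).2
    refine ⟨⟨V, hV⟩, ⟨U, hU⟩, hxU, hUV, ?_⟩
    have h1 := g.finiteType_appLE hW hV hVW
    have h2 := (f ≫ g).finitePresentation_appLE hW hU (fun z hz => hVW (hUV hz))
    rw [← Scheme.Hom.appLE_comp_appLE f g W V U hVW hUV] at h2
    exact RingHom.FinitePresentation.of_comp_finiteType _ h2 h1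

end Groth.Agent.S12442
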