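import Mathlib
import Groth.Statements.S12443
-- import your own Groth.Agent.* helpers here

set_option autoImplicit false
universe u
open CategoryTheory TopologicalSpace
open ShSp

namespace Groth.Agent.S12443

set_option backward.isDefEq.respectTransparency false
set_option backward.isDefEq.respectTransparency.types false

/-- Let j : U → X be the inclusion of an open subset (an open embedding) and F a sheaf of sets on U.
Then the counit j⁻¹ j_* F → F is an isomorphism, i.e. j⁻¹ j_* is the identity on sheaves on U. -/
theorem result {U X : TopCat.{u}} (j : U ⟶ X) (hj : Topology.IsOpenEmbedding j)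
    (F : U.Sheaf (Type u)) :
    IsIso ((TopCat.Sheaf.pullbackPushforwardAdjunction (Type u) j).counit.app F) := by
  let adj := hj.isOpenMap.adjunction.op
  let A := Adjunction.whiskerLeft (Type u) adj
  have hiso : ∀ {a b : Opens ↥U} (φ : a ⟶ b), b ≤ a → IsIso φ := fun φ h => ⟨homOfLE h, Subsingleton.elim _ _, Subsingleton.elim _ _⟩
  haveI : IsIso A.counit := by
    rw [NatTrans.isIso_iff_isIso_app]
    intro P
    rw [NatTrans.isIso_iff_isIso_app]
    intro W
    have : IsIso (adj.counit.app W) := by
      haveI : IsIso (hj.isOpenMap.adjunction.unit.app W.unop) := hiso _ (by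
        rintro x ⟨y, hy, hxy⟩
        exact hj.injective hxy ▸ hy)
      change IsIso (hj.isOpenMap.adjunction.unit.app W.unop).op
      infer_instance
    simp [A, Adjunction.whiskerLeft]
    infer_instance
  let hff : (TopCat.Presheaf.pushforward (Type u) j).FullyFaithful := A.fullyFaithfulROfIsIsoCounit
  haveI : (TopCat.Sheaf.pushforward (Type u) j).Faithful := ⟨fun {F G a b} h => by
    apply ObjectProperty.hom_ext
    exact hff.map_injective (congrArg (fun m => m.hom) h)⟩
  haveI : (TopCat.Sheaf.pushforward (Type u) j).Full := ⟨fun {F G} φ =>
    ⟨⟨hff.preimage φ.hom⟩, by apply ObjectProperty.hom_ext; exact hff.map_preimage _⟩⟩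
  infer_instance

end Groth.Agent.S12443
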