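import Groth.Statements.S12445
import Groth.Agent.CatSpace.Basic
import Groth.Agent.S12444
-- import your own Groth.Agent.* helpers here

set_option autoImplicit false
universe u
open CategoryTheory AlgebraicGeometry
open Props

namespace Groth.Agent.S12445

/-- (1) ⇔ (3) ⇔ (4): for a scheme S, the underlying topological space of S is catenary if and only if
the coordinate ring of every affine open of S is a catenary ring, if and only if S is covered by
affine opens with catenary coordinate rings. (Clause (2), openness of catenarity, and the final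
assertion on locally closed subschemes are the topological statement for open coverings and locally
closed subspaces.) -/
theorem result (S : Scheme.{u}) :
    (PtTop.IsCatenarySpace S ↔ ∀ U : S.affineOpens, CAlg.IsCatenary Γ(S, U)) ∧
    (PtTop.IsCatenarySpace S ↔
      ∀ s : S, ∃ U : S.affineOpens, s ∈ (U : S.Opens) ∧ CAlg.IsCatenary Γ(S, U)) := by
    have h1 : PtTop.IsCatenarySpace S → ∀ U : S.affineOpens, CAlg.IsCatenary Γ(S, U) := fun h U =>
      (CatSpace.isCatenarySpace_affineOpen U.2).1 ((S12444.result S).2 h (U.1 : Set S) U.1.2.isLocallyClosed)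
    have h2 : (∀ s : S, ∃ U : S.affineOpens, s ∈ (U : S.Opens) ∧ CAlg.IsCatenary Γ(S, U)) → PtTop.IsCatenarySpace S := fun h =>
      (S12444.result S).1.2 fun s => by
        obtain ⟨U, hs, hU⟩ := h s
        exact ⟨U.1, hs, (CatSpace.isCatenarySpace_affineOpen U.2).2 hU⟩
    have h3 : (∀ U : S.affineOpens, CAlg.IsCatenary Γ(S, U)) → ∀ s : S, ∃ U : S.affineOpens, s ∈ (U : S.Opens) ∧ CAlg.IsCatenary Γ(S, U) := by
      intro h s
      obtain ⟨U, hU, hs, -⟩ := exists_isAffineOpen_mem_and_subset (X := S) (x := s) (U := ⊤) trivial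
      exact ⟨⟨U, hU⟩, hs, h _⟩
    exact ⟨⟨h1, h2 ∘ h3⟩, ⟨h3 ∘ h1, h2⟩⟩

end Groth.Agent.S12445
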