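import Groth.Statements.S12451
import Groth.Agent.DCohPerf.FlatFP
-- import your own Groth.Agent.* helpers here

set_option autoImplicit false
universe u
open CategoryTheory AlgebraicGeometry
open Props

namespace Groth.Agent.S12451

/-- For a commutative ring R and an R-module M, the associated quasi-coherent module M~ on Spec R is a
finite locally free O-module exactly when M is finitely generated and projective over R
(equivalently, a finite locally free R-module). -/
theorem result {R : CommRingCat.{u}} (M : ModuleCat.{u} R) :
    FlatMod.IsFinLocFree (tilde M) ↔ Module.Finite R M ∧ Module.Projective R M := by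
  refine ⟨fun h => ?_, fun ⟨h1, h2⟩ => @Groth.Agent.LocFree.isFinLocFree_tilde R M h1 h2⟩
  have hfp : CohB1.IsFP (tilde M) := DCohPerf.isFP_local fun x => by
    obtain ⟨W, j, hj, w, hw, n, ⟨e⟩⟩ := DCohPerf.exists_free h x
    exact ⟨W, j, hj, w, hw, DCohPerf.isFP_of_iso e.symm (DCohPerf.isFP_free n)⟩
  have : (tilde M).IsQuasicoherent := QCohLib.isQuasicoherent_tilde_obj M
  have hΓ : Module.FinitePresentation R (QCohLib.ΓR (tilde M)) :=
    QCohLib.isFinitePresentation_iff_Spec.1 hfp
  let e : QCohLib.ΓR (tilde M) ≅ M := (tilde.isoTop M).symm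
  have : Module.FinitePresentation R M := @Module.FinitePresentation.of_equiv _ _ _ _ _ _ _ _ e.toLinearEquiv hΓ
  have : Module.Flat R M := DCohPerf.flat_of_isFlat_tilde M (ModGroth.Perf.isFlat_of_isFinLocFree h)
  exact ⟨inferInstance, Module.Flat.projective_of_finitePresentation⟩

end Groth.Agent.S12451
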