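import Mathlib
import Groth.Statements.S12452
-- import your own Groth.Agent.* helpers here

set_option autoImplicit false
universe u
open CategoryTheory TopologicalSpace Opposite
open ShSp

namespace Groth.Agent.S12452

section
variable {X Y : TopCat.{u}} (f : X ⟶ Y) (F : X.Sheaf (Type u)) (G : Y.Sheaf (Type u))

lemma FF {U₁ U₂ U₃ : Opens X} (h₁ : U₂ ≤ U₁) (h₂ : U₃ ≤ U₂) (h₃ : U₃ ≤ U₁) (t : F.presheaf.obj (op U₁)) :
    F.presheaf.map (homOfLE h₂).op (F.presheaf.map (homOfLE h₁).op t) = F.presheaf.map (homOfLE h₃).op t := by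
  rw [← ConcreteCategory.comp_apply, ← Functor.map_comp]
  rfl

lemma GG {U₁ U₂ U₃ : Opens Y} (h₁ : U₂ ≤ U₁) (h₂ : U₃ ≤ U₂) (h₃ : U₃ ≤ U₁) (t : G.presheaf.obj (op U₁)) :
    G.presheaf.map (homOfLE h₂).op (G.presheaf.map (homOfLE h₁).op t) = G.presheaf.map (homOfLE h₃).op t := by
  rw [← ConcreteCategory.comp_apply, ← Functor.map_comp]
  rfl

lemma Gid {U₁ : Opens Y} (h₁ : U₁ ≤ U₁) (t : G.presheaf.obj (op U₁)) :
    G.presheaf.map (homOfLE h₁).op t = t := by
  rw [show (homOfLE h₁).op = 𝟙 (op U₁) from rfl, CategoryTheory.Functor.map_id]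
  rfl

lemma sep {W : Opens X} {ι : Type u} (U : ι → Opens X) (hU : ∀ i, U i ≤ W) (hcov : ∀ x ∈ W, ∃ i, x ∈ U i)
    (a b : F.presheaf.obj (op W)) (h : ∀ i, F.presheaf.map (homOfLE (hU i)).op a = F.presheaf.map (homOfLE (hU i)).op b) : a = b :=
  F.eq_of_locally_eq' U W (fun i => homOfLE (hU i)) (fun x hx => Opens.mem_iSup.2 (hcov x hx)) a b h

end


/-- For sheaves of sets, let f : X → Y be a continuous map, F a sheaf of sets on X, G a sheaf of sets on
Y, and B_X, B_Y bases for the topologies of X and Y. Suppose given, for every V in B_Y and U in B_X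
with U ⊆ f⁻¹V, a map φ_V^U : G(V) → F(U), compatibly with restrictions. Then there is exactly one
morphism of sheaves ψ : G → f_*F (an f-map G → F) such that G(V) → F(f⁻¹V) → F(U) equals φ_V^U for
every such pair. -/
theorem result {X Y : TopCat.{u}} (f : X ⟶ Y) (F : X.Sheaf (Type u)) (G : Y.Sheaf (Type u))
    {BX : Set (Opens X)} (hBX : Opens.IsBasis BX) {BY : Set (Opens Y)} (hBY : Opens.IsBasis BY)
    (φ : ∀ (V : BY) (U : BX), (U : Opens X) ≤ (Opens.map f).obj V →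
      (G.presheaf.obj (op (V : Opens Y)) → F.presheaf.obj (op (U : Opens X))))
    (hφ : ∀ (V V' : BY) (U U' : BX) (hUV : (U : Opens X) ≤ (Opens.map f).obj V)
      (hU'V' : (U' : Opens X) ≤ (Opens.map f).obj V') (hV : (V' : Opens Y) ≤ V) (hU : (U' : Opens X) ≤ U)
      (s : G.presheaf.obj (op (V : Opens Y))),
      F.presheaf.map (homOfLE hU).op (φ V U hUV s) = φ V' U' hU'V' (G.presheaf.map (homOfLE hV).op s)) :
    ∃! ψ : G ⟶ (TopCat.Sheaf.pushforward (Type u) f).obj F,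
      ∀ (V : BY) (U : BX) (hUV : (U : Opens X) ≤ (Opens.map f).obj V) (s : G.presheaf.obj (op (V : Opens Y))),
        F.presheaf.map (homOfLE hUV).op (ψ.1.app (op (V : Opens Y)) s) = φ V U hUV s := by
  classical
  let I : Opens Y → Type u := fun W => {p : BY × BX // (p.1 : Opens Y) ≤ W ∧ (p.2 : Opens X) ≤ (Opens.map f).obj p.1}
  let UI : (W : Opens Y) → I W → Opens X := fun W i => i.1.2
  have hle : ∀ (W : Opens Y) (i : I W), UI W i ≤ (Opens.map f).obj W := fun W i => i.2.2.trans ((Opens.map f).map (homOfLE i.2.1)).le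
  have hcov : ∀ (W : Opens Y), ∀ x ∈ (Opens.map f).obj W, ∃ i : I W, x ∈ UI W i := by
    intro W x hx
    obtain ⟨V, hV, hxV, hVW⟩ := Opens.isBasis_iff_nbhd.1 hBY (U := W) (x := f x) hx
    obtain ⟨U, hU, hxU, hUV⟩ := Opens.isBasis_iff_nbhd.1 hBX (U := (Opens.map f).obj V) (x := x) hxV
    exact ⟨⟨(⟨V, hV⟩, ⟨U, hU⟩), hVW, hUV⟩, hxU⟩
  let sf : (W : Opens Y) → (G.presheaf.obj (op W)) → (i : I W) → F.presheaf.obj (op (UI W i)) :=
    fun W s i => φ i.1.1 i.1.2 i.2.2 (G.presheaf.map (homOfLE i.2.1).op s)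
  have hcompat : ∀ W s, TopCat.Presheaf.IsCompatible F.1 (UI W) (sf W s) := by
    intro W s i j
    refine sep F (ι := {q : BY × BX // (q.1 : Opens Y) ≤ (i.1.1 : Opens Y) ⊓ (j.1.1 : Opens Y) ∧ (q.2 : Opens X) ≤ UI W i ⊓ UI W j ∧ (q.2 : Opens X) ≤ (Opens.map f).obj q.1})
      (fun q => q.1.2) (fun q => q.2.2.1) ?_ _ _ ?_
    · rintro x ⟨hxi, hxj⟩
      obtain ⟨V, hV, hxV, hVW⟩ := Opens.isBasis_iff_nbhd.1 hBY (U := (i.1.1 : Opens Y) ⊓ j.1.1) (x := f x) ⟨i.2.2 hxi, j.2.2 hxj⟩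
      obtain ⟨U, hU, hxU, hUV⟩ := Opens.isBasis_iff_nbhd.1 hBX (U := (Opens.map f).obj V ⊓ (UI W i ⊓ UI W j)) (x := x) ⟨hxV, hxi, hxj⟩
      exact ⟨⟨(⟨V, hV⟩, ⟨U, hU⟩), hVW, hUV.trans inf_le_right, hUV.trans inf_le_left⟩, hxU⟩
    · intro q
      have h1 : (q.1.1 : Opens Y) ≤ i.1.1 := q.2.1.trans inf_le_left
      have h2 : (q.1.1 : Opens Y) ≤ j.1.1 := q.2.1.trans inf_le_right
      have h3 : (q.1.2 : Opens X) ≤ i.1.2 := q.2.2.1.trans inf_le_left
      have h4 : (q.1.2 : Opens X) ≤ j.1.2 := q.2.2.1.trans inf_le_right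
      refine (FF F inf_le_left q.2.2.1 h3 _).trans ?_
      refine Eq.trans ?_ (FF F inf_le_right q.2.2.1 h4 _).symm
      rw [hφ _ _ _ _ i.2.2 q.2.2.2 h1 h3, hφ _ _ _ _ j.2.2 q.2.2.2 h2 h4, GG G i.2.1 h1 (h1.trans i.2.1), GG G j.2.1 h2 (h1.trans i.2.1)]
  choose gl hgl hguniq using fun (W : Opens Y) (s : G.presheaf.obj (op W)) =>
    F.existsUnique_gluing' (UI W) ((Opens.map f).obj W) (fun i => homOfLE (hle W i))
      (fun x hx => Opens.mem_iSup.2 (hcov W x hx)) (sf W s) (hcompat W s)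
  let η : G.1 ⟶ ((TopCat.Sheaf.pushforward (Type u) f).obj F).1 :=
    { app := fun W => TypeCat.ofHom (fun s => gl W.unop s)
      naturality := fun W W' g => by
        refine ConcreteCategory.hom_ext _ _ fun s => ?_
        obtain ⟨W⟩ := W; obtain ⟨W'⟩ := W'
        have hW : W' ≤ W := g.unop.le
        show gl W' (G.presheaf.map (homOfLE hW).op s) = F.presheaf.map (homOfLE ((Opens.map f).map (homOfLE hW)).le).op (gl W s)
        refine (hguniq W' _ _ fun i => ?_).symm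
        refine (FF F _ (hle W' i) ((hle W' i).trans ((Opens.map f).map (homOfLE hW)).le) _).trans ?_
        refine (hgl W s ⟨i.1, i.2.1.trans hW, i.2.2⟩).trans ?_
        show φ _ _ _ _ = φ _ _ _ _
        rw [GG G hW i.2.1 (i.2.1.trans hW)] }
  refine ⟨⟨η⟩, fun V U hUV s => ?_, fun ψ hψ => ?_⟩
  · refine (hgl V s ⟨(V, U), le_rfl, hUV⟩).trans ?_
    show φ _ _ _ _ = _
    rw [Gid]
  · apply CategoryTheory.Sheaf.hom_ext
    apply NatTrans.ext; funext W
    refine ConcreteCategory.hom_ext _ _ fun s => ?_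
    obtain ⟨W⟩ := W
    refine hguniq W s _ fun i => ?_
    refine Eq.trans ?_ (hψ i.1.1 i.1.2 i.2.2 _)
    have hn := ConcreteCategory.congr_hom (ψ.1.naturality (homOfLE i.2.1).op) s
    simp only [ConcreteCategory.comp_apply] at hn
    refine Eq.trans ?_ (congrArg (F.presheaf.map (homOfLE i.2.2).op) hn).symm
    exact (FF F ((Opens.map f).map (homOfLE i.2.1)).le i.2.2 (hle W i) _).symm

end Groth.Agent.S12452
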