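import Groth.Statements.S12456
import Groth.Agent.FSmooth.Thick
import Mathlib


set_option autoImplicit false
universe u
open CategoryTheory AlgebraicGeometry
open OmegaSh

namespace Groth.Agent.S12456

open CategoryTheory AlgebraicGeometry in
theorem ker_sq_eq {T W : Scheme.{u}} (σ : T ⟶ W) [QuasiCompact σ] (J : W.IdealSheafData) (hJ : J = σ.ker ^ 2)
    (e : T ⟶ J.subscheme) [QuasiCompact e] (he : e ≫ J.subschemeι = σ) : e.ker * e.ker = ⊥ := by
  subst hJ
  exact Groth.FSmooth.ker_sq_of_subscheme σ e he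

/-- Let i : Z → X be an immersion, written as the closed subscheme of an open U ⊆ X cut out by an ideal
sheaf I followed by the inclusion of U. Then the first order infinitesimal neighbourhood of Z in X —
the closed subscheme of U cut out by I² — together with Z ⊂ V(I²) and V(I²) → U → X is a universal
first order thickening of Z over X. (The inequality I² ≤ I is carried as an argument h; it always
holds.) -/
theorem result {X : Scheme.{u}} (U : X.Opens) (I : (U : Scheme.{u}).IdealSheafData)
    (h : I ^ 2 ≤ I) :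
    OmegaSh.IsUnivThickening (I.subschemeι ≫ U.ι) (Scheme.IdealSheafData.inclusion h)
      ((I ^ 2).subschemeι ≫ U.ι) := by
  let e : I.subscheme ⟶ (I ^ 2).subscheme := Scheme.IdealSheafData.inclusion h
  have he : e ≫ (I ^ 2).subschemeι = I.subschemeι := Scheme.IdealSheafData.inclusion_subschemeι h
  haveI : IsClosedImmersion (e ≫ (I ^ 2).subschemeι) := he ▸ inferInstance
  haveI : IsClosedImmersion e := IsClosedImmersion.of_comp e (I ^ 2).subschemeι
  have hes : Surjective e := by
    refine ⟨fun z => ?_⟩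
    have hz : (I ^ 2).subschemeι z ∈ Set.range I.subschemeι := by
      rw [Scheme.IdealSheafData.range_subschemeι, ← Scheme.IdealSheafData.support_pow (I := I) 2 two_ne_zero,
        ← Scheme.IdealSheafData.range_subschemeι]
      exact Set.mem_range_self z
    obtain ⟨w, hw⟩ := hz
    refine ⟨w, (I ^ 2).subschemeι.isClosedEmbedding.injective ?_⟩
    rw [← Scheme.Hom.comp_apply, he]
    exact hw
  refine ⟨⟨⟨‹_›, hes⟩, ker_sq_eq I.subschemeι (I ^ 2) (by rw [Scheme.IdealSheafData.ker_subschemeι]) e he⟩,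
    by rw [← Category.assoc]; exact congrArg (· ≫ U.ι) he, fun T T' j b a hj w => ?_⟩
  obtain ⟨⟨hjc, hjs⟩, hjsq⟩ := hj
  have hrange : Set.range b ⊆ Set.range U.ι := by
    rintro _ ⟨t', rfl⟩
    obtain ⟨t, rfl⟩ := hjs.surj t'
    rw [← Scheme.Hom.comp_apply, w, ← Category.assoc, Scheme.Hom.comp_apply]
    exact Set.mem_range_self _
  let b₀ : T' ⟶ (U : Scheme.{u}) := IsOpenImmersion.lift U.ι b hrange
  have w₀ : j ≫ b₀ = a ≫ I.subschemeι := by
    rw [← cancel_mono U.ι, Category.assoc, IsOpenImmersion.lift_fac, w, Category.assoc]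
  have hle := Groth.FSmooth.pow_two_le_ker I.subschemeι j b₀ a hjsq w₀
  rw [Scheme.IdealSheafData.ker_subschemeι] at hle
  let c : T' ⟶ (I ^ 2).subscheme :=
    IsClosedImmersion.lift (I ^ 2).subschemeι b₀ (by rw [Scheme.IdealSheafData.ker_subschemeι]; exact hle)
  have hc : c ≫ (I ^ 2).subschemeι = b₀ := IsClosedImmersion.lift_fac _ _ _
  refine ⟨c, ⟨?_, by rw [reassoc_of% hc, IsOpenImmersion.lift_fac]⟩, fun c' hc' => ?_⟩
  · rw [← cancel_mono (I ^ 2).subschemeι, Category.assoc, hc, w₀, Category.assoc]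
    exact congrArg (a ≫ ·) he.symm
  · rw [← cancel_mono (I ^ 2).subschemeι, hc, ← cancel_mono U.ι, Category.assoc, hc'.2, IsOpenImmersion.lift_fac]

end Groth.Agent.S12456
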