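import Groth.Statements.S12459
import Groth.Agent.CatSpace.Basic
import Groth.Agent.S9126
-- import your own Groth.Agent.* helpers here

set_option autoImplicit false
universe u
open CategoryTheory AlgebraicGeometry
open Props

namespace Groth.Agent.S12459

/-- For a locally Noetherian scheme S, the scheme S is universally catenary — every scheme X locally of
finite type over S has catenary underlying topological space — if and only if all local rings
O_{S,s} are universally catenary rings. (Schemes X over S are taken in the universe of S.) -/
theorem result (S : Scheme.{u}) [IsLocallyNoetherian S] :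
    (∀ (X : Scheme.{u}) (f : X ⟶ S), LocallyOfFiniteType f → PtTop.IsCatenarySpace X) ↔
      ∀ s : S, CAlg.IsUniversallyCatenary (S.presheaf.stalk s) := by
    constructor
    · intro h s
      obtain ⟨U, hU, hs, -⟩ := exists_isAffineOpen_mem_and_subset (X := S) (x := s) (U := ⊤) trivial
      have hR : CAlg.IsUniversallyCatenary Γ(S, U) := by
        refine ⟨IsLocallyNoetherian.component_noetherian ⟨U, hU⟩, fun T _ _ hT => ?_⟩
        let f : Spec (CommRingCat.of T) ⟶ S := Spec.map (CommRingCat.ofHom (algebraMap Γ(S, U) T)) ≫ hU.fromSpec
        have : LocallyOfFiniteType (Spec.map (CommRingCat.ofHom (algebraMap Γ(S, U) T))) :=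
          (HasRingHomProperty.Spec_iff (P := @LocallyOfFiniteType)).2 (RingHom.finiteType_algebraMap.2 hT)
        exact (CatSpace.isCatenarySpace_primeSpectrum T).1 (h (Spec (CommRingCat.of T)) f inferInstance)
      letI := TopCat.Presheaf.algebra_section_stalk S.presheaf ⟨s, hs⟩
      haveI : IsLocalization.AtPrime (S.presheaf.stalk s) (hU.primeIdealOf ⟨s, hs⟩).asIdeal := hU.isLocalization_stalk ⟨s, hs⟩
      haveI : Algebra.EssFiniteType Γ(S, U) (S.presheaf.stalk s) :=
        Algebra.EssFiniteType.of_isLocalization (S.presheaf.stalk s) (hU.primeIdealOf ⟨s, hs⟩).asIdeal.primeCompl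
      exact S9126.result Γ(S, U) _ hR
    · intro h X f hf
      rw [CatSpace.isCatenarySpace_iff_stalk]
      intro x
      haveI := hf
      letI := (f.stalkMap x).hom.toAlgebra
      haveI : Algebra.EssFiniteType (S.presheaf.stalk (f x)) (X.presheaf.stalk x) := LocallyOfFiniteType.stalkMap f x
      exact (S9126.result (S.presheaf.stalk (f x)) (X.presheaf.stalk x) (h (f x))).2 _ inferInstance

end Groth.Agent.S12459
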