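import Groth.Statements.S12460
import Mathlib
-- import your own Groth.Agent.* helpers here

set_option autoImplicit false
universe u
open CategoryTheory AlgebraicGeometry
open Props

namespace Groth.Agent.S12460

/-- (1) ⇔ (3) ⇔ (4): let X be a locally Noetherian scheme. Then X is J-2 — for every morphism Y → X
locally of finite type the set of points y with O_{Y,y} a regular local ring is open in Y — if and
only if for every affine open U of X the ring Γ(X, U) is J-2 (every finite type algebra over it has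
open regular locus), if and only if every point of X lies in such an affine open. (Schemes Y over X
are taken in the universe of X.) -/
theorem result (X : Scheme.{u}) [IsLocallyNoetherian X] :
    ((∀ (Y : Scheme.{u}) (g : Y ⟶ X), LocallyOfFiniteType g →
        IsOpen {y : Y | IsRegularLocalRing (Y.presheaf.stalk y)}) ↔
      ∀ U : X.affineOpens, EGA4.IsJ2 Γ(X, U)) ∧
    ((∀ (Y : Scheme.{u}) (g : Y ⟶ X), LocallyOfFiniteType g →
        IsOpen {y : Y | IsRegularLocalRing (Y.presheaf.stalk y)}) ↔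
      ∀ x : X, ∃ U : X.affineOpens, x ∈ (U : X.Opens) ∧ EGA4.IsJ2 Γ(X, U)) := by
  have loc : ∀ {Y : Scheme.{u}} {W : Y.Opens} (hW : IsAffineOpen W) (y : Y) (hy : y ∈ W),
      IsRegularLocalRing (Y.presheaf.stalk y) ↔
        IsRegularLocalRing (Localization.AtPrime (hW.primeIdealOf ⟨y, hy⟩).asIdeal) := by
    intro Y W hW y hy
    letI := Y.presheaf.algebra_section_stalk (⟨y, hy⟩ : W)
    haveI := hW.isLocalization_stalk ⟨y, hy⟩
    let e := (IsLocalization.algEquiv (hW.primeIdealOf ⟨y, hy⟩).asIdeal.primeCompl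
      (Y.presheaf.stalk ((⟨y, hy⟩ : W) : Y)) (Localization.AtPrime (hW.primeIdealOf ⟨y, hy⟩).asIdeal)).toRingEquiv
    exact ⟨fun h => IsRegularLocalRing.of_ringEquiv e, fun h => IsRegularLocalRing.of_ringEquiv e.symm⟩
  have fwd : (∀ (Y : Scheme.{u}) (g : Y ⟶ X), LocallyOfFiniteType g →
      IsOpen {y : Y | IsRegularLocalRing (Y.presheaf.stalk y)}) → ∀ U : X.affineOpens, EGA4.IsJ2 Γ(X, U) := by
    intro h U B _ _ hB
    let φ : Γ(X, U) ⟶ CommRingCat.of B := CommRingCat.ofHom (algebraMap Γ(X, U) B)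
    haveI : LocallyOfFiniteType (Spec.map φ) := by
      rw [HasRingHomProperty.Spec_iff (P := @LocallyOfFiniteType)]
      exact RingHom.finiteType_algebraMap.2 hB
    have ho := h (Spec (CommRingCat.of B)) (Spec.map φ ≫ U.2.fromSpec) inferInstance
    have heq : {y : Spec (CommRingCat.of B) | IsRegularLocalRing ((Spec (CommRingCat.of B)).presheaf.stalk y)} =
        EGA4.regLocus B := by
      ext p
      letI : Algebra B ((Spec (CommRingCat.of B)).presheaf.stalk p) := (StructureSheaf.toStalk B p).hom.toAlgebra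
      haveI : IsLocalization p.asIdeal.primeCompl ((Spec (CommRingCat.of B)).presheaf.stalk p) :=
        StructureSheaf.IsLocalization.to_stalk B p
      let e := (IsLocalization.algEquiv p.asIdeal.primeCompl
        ((Spec (CommRingCat.of B)).presheaf.stalk p) (Localization.AtPrime p.asIdeal)).toRingEquiv
      exact ⟨fun (h : IsRegularLocalRing _) => IsRegularLocalRing.of_ringEquiv e,
        fun (h : IsRegularLocalRing _) => IsRegularLocalRing.of_ringEquiv e.symm⟩
    exact heq ▸ ho
  have bwd : (∀ x : X, ∃ U : X.affineOpens, x ∈ (U : X.Opens) ∧ EGA4.IsJ2 Γ(X, U)) →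
      ∀ (Y : Scheme.{u}) (g : Y ⟶ X), LocallyOfFiniteType g →
        IsOpen {y : Y | IsRegularLocalRing (Y.presheaf.stalk y)} := by
    intro h Y g hg
    refine isOpen_iff_forall_mem_open.2 fun y hy => ?_
    obtain ⟨U, hyU, hJ⟩ := h (g y)
    obtain ⟨_, ⟨W, hW, rfl⟩, hyW, e⟩ := Y.isBasis_affineOpens.exists_subset_of_mem_open hyU (g ⁻¹ᵁ U.1).2
    algebraize [(g.appLE U.1 W e).hom]
    have hft : Algebra.FiniteType Γ(X, U) Γ(Y, W) := HasRingHomProperty.appLE @LocallyOfFiniteType g hg U ⟨W, hW⟩ e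
    have ho := hJ Γ(Y, W) hft
    have hc : Continuous fun z : W => hW.primeIdealOf z :=
      hW.fromSpec.isOpenEmbedding.isEmbedding.continuous_iff.2
        (by simpa [Function.comp_def, IsAffineOpen.fromSpec_primeIdealOf] using continuous_subtype_val)
    refine ⟨Subtype.val '' ((fun z : W => hW.primeIdealOf z) ⁻¹' EGA4.regLocus Γ(Y, W)), ?_,
      W.isOpen.isOpenMap_subtype_val _ (ho.preimage hc), ⟨y, hyW⟩, (loc hW y hyW).1 hy, rfl⟩
    rintro _ ⟨⟨z, hz⟩, hzr, rfl⟩
    exact (loc hW z hz).2 hzr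
  refine ⟨⟨fwd, fun h => bwd fun x => ?_⟩, ⟨fun h x => ?_, bwd⟩⟩
  · obtain ⟨_, ⟨U, hU, rfl⟩, hxU, -⟩ :=
      X.isBasis_affineOpens.exists_subset_of_mem_open (Set.mem_univ x) isOpen_univ
    exact ⟨⟨U, hU⟩, hxU, h _⟩
  · obtain ⟨_, ⟨U, hU, rfl⟩, hxU, -⟩ :=
      X.isBasis_affineOpens.exists_subset_of_mem_open (Set.mem_univ x) isOpen_univ
    exact ⟨⟨U, hU⟩, hxU, fwd h _⟩

end Groth.Agent.S12460
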