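import Groth.Statements.S12464
-- import your own Groth.Agent.* helpers here

set_option autoImplicit false
universe v' u' u
open CategoryTheory AlgebraicGeometry
open CategoryTheory.Limits
open BigSite

namespace Groth.Agent.S12464

/-- Base change of composites. -/
noncomputable def bcIso {S T S' T' : Scheme.{u}} (f : T ⟶ S) (g : S' ⟶ S) (g' : T' ⟶ T) (f' : T' ⟶ S')
    (hsq : IsPullback g' f' f g) :
    Over.map g ⋙ Over.pullback f ≅ Over.pullback f' ⋙ Over.map g' :=
  have h (A : Over S') : IsPullback (pullback.fst A.hom f') (pullback.snd A.hom f' ≫ g') (A.hom ≫ g) f :=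
    (IsPullback.of_hasPullback A.hom f').paste_vert hsq.flip
  Iso.symm (NatIso.ofComponents (fun A => Over.isoMk (h A).isoPullback (h A).isoPullback_hom_snd)
    (fun {A B} a => by
      refine Over.OverMorphism.ext (pullback.hom_ext ?_ ?_)
      · refine (Category.assoc _ _ _).trans ((congrArg (_ ≫ ·) (h B).isoPullback_hom_fst).trans ?_)
        refine (pullback.lift_fst _ _ _).trans ?_
        refine Eq.trans ?_ (Category.assoc _ _ _).symm
        refine Eq.trans ?_ (congrArg (_ ≫ ·) (pullback.lift_fst _ _ _)).symm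
        exact (congrArg (· ≫ a.left) (h A).isoPullback_hom_fst.symm).trans (Category.assoc _ _ _)
      · refine (Category.assoc _ _ _).trans ((congrArg (_ ≫ ·) (h B).isoPullback_hom_snd).trans ?_)
        refine (Category.assoc _ _ _).symm.trans ((congrArg (· ≫ g') (pullback.lift_snd _ _ _)).trans ?_)
        refine Eq.trans ?_ (Category.assoc _ _ _).symm
        exact (h A).isoPullback_hom_snd.symm.trans (congrArg (_ ≫ ·) (pullback.lift_snd _ _ _).symm)))

/-- The isomorphism of functors. -/
noncomputable def sheafIso (K : Precoverage Scheme.{u})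
    {S T S' T' : Scheme.{u}} (f : T ⟶ S) (g : S' ⟶ S) (g' : T' ⟶ T) (f' : T' ⟶ S')
    (hsq : IsPullback g' f' f g) (A : Type u') [Category.{v'} A]
    [(Over.pullback f).IsContinuous (QuotSh.J K S) (QuotSh.J K T)]
    [(Over.pullback f').IsContinuous (QuotSh.J K S') (QuotSh.J K T')] :
    BigSite.pushBig K f A ⋙ BigSite.pullBig K g A ≅ BigSite.pullBig K g' A ⋙ BigSite.pushBig K f' A :=
  NatIso.ofComponents
    (fun G => (fullyFaithfulSheafToPresheaf _ _).preimageIso
      (Functor.isoWhiskerRight (NatIso.op (bcIso f g g' f' hsq)).symm G.obj))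
    (fun a => by
      apply Sheaf.hom_ext
      ext W
      exact (a.hom.naturality ((bcIso f g g' f' hsq).inv.app W.unop).op).symm)

/-- Let g' : T' → T, f' : T' → S', f : T → S, g : S' → S be a cartesian square of schemes. Then g_big⁻¹
∘ f_big,* ≅ f'_big,* ∘ g'_big⁻¹ as functors from sheaves on Sch/T to sheaves on Sch/S', both for the
big Zariski sites and for the big étale sites. (Existence of natural isomorphisms; the published one
sends both sides to U' ↦ F(U' ×_{S'} T').) -/
theorem result {S T S' T' : Scheme.{u}} (f : T ⟶ S) (g : S' ⟶ S) (g' : T' ⟶ T) (f' : T' ⟶ S') (hsq : IsPullback g' f' f g)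
    (A : Type u') [Category.{v'} A] :
    Nonempty (BigSite.pushBig Scheme.zariskiPrecoverage f A ⋙ BigSite.pullBig Scheme.zariskiPrecoverage g A ≅
        BigSite.pullBig Scheme.zariskiPrecoverage g' A ⋙ BigSite.pushBig Scheme.zariskiPrecoverage f' A) ∧
      Nonempty (BigSite.pushBig Scheme.etalePrecoverage f A ⋙ BigSite.pullBig Scheme.etalePrecoverage g A ≅
        BigSite.pullBig Scheme.etalePrecoverage g' A ⋙ BigSite.pushBig Scheme.etalePrecoverage f' A) := by
  exact ⟨⟨sheafIso _ f g g' f' hsq A⟩, ⟨sheafIso _ f g g' f' hsq A⟩⟩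

end Groth.Agent.S12464
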