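import Groth.Statements.S6184
import Mathlib.CategoryTheory.Adjunction.Triple
import Mathlib.CategoryTheory.Sites.CoverLifting

set_option autoImplicit false
open CategoryTheory CategoryTheory.Limits AlgebraicGeometry Opposite
universe u
open BigSite

namespace Groth.Agent.S6184

/-- The unit for sheaves with values in `A`. -/
theorem isIso_unit (X : Scheme.{u}) (A : Type (u + 2)) [Category.{u + 1} A]
    [∀ F : X.Etaleᵒᵖ ⥤ A, (EtFppf.a X).op.HasPointwiseRightKanExtension F]
    [((EtFppf.a X).sheafPushforwardContinuous A X.smallEtaleTopology
      (QuotSh.J Scheme.etalePrecoverage X)).IsRightAdjoint] :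
    IsIso ((EtFppf.a X).sheafAdjunctionContinuous A X.smallEtaleTopology
      (QuotSh.J Scheme.etalePrecoverage X)).unit := by
  have : (EtFppf.a X).Full := inferInstanceAs (Scheme.Etale.forget X).Full
  have : (EtFppf.a X).Faithful := inferInstanceAs (Scheme.Etale.forget X).Faithful
  let adj₂ := (EtFppf.a X).sheafAdjunctionCocontinuous A X.smallEtaleTopology
    (QuotSh.J Scheme.etalePrecoverage X)
  let t : Adjunction.Triple _ _ _ := ⟨(EtFppf.a X).sheafAdjunctionContinuous A X.smallEtaleTopology
    (QuotSh.J Scheme.etalePrecoverage X), adj₂⟩
  refine t.isIso_unit_iff_isIso_counit.2 ?_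
  have : ∀ F, IsIso (adj₂.counit.app F) := fun F => by
    have : IsIso ((sheafToPresheaf _ _).map (adj₂.counit.app F)) := by
      change IsIso (adj₂.counit.app F).hom
      rw [Functor.sheafAdjunctionCocontinuous_counit_app_hom]
      have : (EtFppf.a X).op.Full := inferInstance
      have : (EtFppf.a X).op.Faithful := inferInstance
      have := Functor.reflective' (EtFppf.a X).op (H := A)
      exact (NatTrans.isIso_iff_isIso_app _).1 this _
    exact isIso_of_fully_faithful (sheafToPresheaf _ _) _
  exact NatIso.isIso_of_isIso_app _

/-- Let X be a scheme, u the inclusion of the small etale site of X into the big etale site (X-schemes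
with the etale topology), u_* restriction of sheaves along it and u^* its left adjoint. For every
sheaf of sets G and every abelian sheaf G on the small etale site, the unit G -> u_* u^* G is an
isomorphism (so u^* is fully faithful). Stated for sheaves of sets (first conjunct, with Mathlib's
sheaf pullback along the inclusion) and for abelian sheaves (second conjunct, the prelude's
adjunction on the big etale site). -/
theorem result (X : Scheme.{u}) :
    (∀ G : EtDesc.Sh X, IsIso (((EtFppf.a X).sheafAdjunctionContinuous (Type (u + 1)) X.smallEtaleTopology
      (QuotSh.J Scheme.etalePrecoverage X)).unit.app G)) ∧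
    (∀ G : EtCoh.Ab X, IsIso ((BigSite.piEtAdj Scheme.etalePrecoverage X).unit.app G)) := by
  refine ⟨fun G => ?_, fun G => ?_⟩
  · have := isIso_unit X (Type (u + 1))
    infer_instance
  · have := isIso_unit X AddCommGrpCat.{u + 1}
    infer_instance

end Groth.Agent.S6184
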