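import Groth.Statements.S6185
import Groth.Agent.EtSite.BigExact
import Groth.Agent.EtMV.ExtAdj
import Groth.Prelude.Def_EtCore

set_option autoImplicit false
open CategoryTheory CategoryTheory.Limits AlgebraicGeometry Opposite
universe u
open BigSite

namespace Groth.Agent.S6185

/-- For a scheme X and an abelian sheaf F on the big etale site of X, the cohomology groups H^p(X_et,
F|) of the restriction of F to the small etale site and H^p of F on the big etale site are
isomorphic for every p. Existence of an additive isomorphism only (the published statement asserts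
that the canonical comparison homomorphism is an isomorphism; that map is not named here). -/
theorem result (X : Scheme.{u})
    (F : BigSite.Ab Scheme.etalePrecoverage X) (p : ℕ) :
    Nonempty (EtCoh.H X ((BigSite.resEt Scheme.etalePrecoverage X).obj F) p ≃+
      BigSite.H Scheme.etalePrecoverage X F p) := by
  let R := BigSite.resEt Scheme.etalePrecoverage X
  let adj := BigSite.piEtAdj Scheme.etalePrecoverage X
  have := Groth.Agent.EtSite.BigExact.piEtPull_mono X
  have : PreservesColimitsOfSize.{0, 0} R :=
    (BigSite.iEtAdj Scheme.etalePrecoverage X).leftAdjoint_preservesColimits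
  have : PreservesFiniteColimits R := PreservesColimitsOfSize.preservesFiniteColimits _
  have : PreservesLimitsOfSize.{0, 0} R := adj.rightAdjoint_preservesLimits
  have : PreservesFiniteLimits R := PreservesLimitsOfSize.preservesFiniteLimits _
  let M := AddCommGrpCat.of (ULift.{u + 1} ℤ)
  have : PreservesFiniteLimits (EtFppf.a X) :=
    inferInstanceAs (PreservesFiniteLimits (Scheme.Etale.forget X))
  let c : (EtFppf.a X).obj (EtCoh.top X) ≅ Over.mk (𝟙 X) :=
    (IsTerminal.isTerminalObj (EtFppf.a X) _ (EtCore.topIsTerminal X) : IsTerminal _).uniqueUpToIso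
      Over.mkIdTerminal
  let g : (sheafSections (QuotSh.J Scheme.etalePrecoverage X) AddCommGrpCat.{u + 1}).obj (op (Over.mk (𝟙 X))) ≅
      R ⋙ EtCore.gsec X :=
    NatIso.ofComponents (fun G => G.obj.mapIso c.op) (fun a => (a.hom.naturality c.hom.op).symm)
  let e := (((EtCore.constAdj X).comp adj).ofNatIsoRight g.symm).leftAdjointUniq
    (constantSheafAdj (QuotSh.J Scheme.etalePrecoverage X) AddCommGrpCat.{u + 1} Over.mkIdTerminal)
  refine ⟨(AddEquiv.ofBijective (EtMV.Φ adj _ F p) (EtMV.Φ_bijective adj _ F p)).symm.trans
    (AddEquiv.ofBijective ((Abelian.Ext.mk₀ (e.app M).inv).precomp F (zero_add p)) ?_)⟩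
  exact Function.bijective_iff_has_inverse.2
    ⟨fun x => (Abelian.Ext.mk₀ (e.app M).hom).comp x (zero_add p), fun x => by simp, fun x => by simp⟩

end Groth.Agent.S6185
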