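import Groth.Statements.S6687
import Groth.Agent.S6185
import Groth.Agent.S6184

set_option autoImplicit false
universe u
open CategoryTheory CategoryTheory.Limits AlgebraicGeometry Opposite
open BigSite

namespace Groth.Agent.S6687

/-- Base change on the big site extends base change on the small site. -/
noncomputable def aBcIso {T S : Scheme.{u}} (f : T ⟶ S) :
    EtFppf.a S ⋙ Over.pullback f ≅ EtCoh.bc f ⋙ EtFppf.a T :=
  NatIso.ofComponents (fun A => Over.isoMk (Iso.refl _))
    (fun {A B} a => by
      refine Over.OverMorphism.ext ?_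
      refine (Category.comp_id _).trans (Eq.trans ?_ (Category.id_comp _).symm)
      refine pullback.hom_ext ?_ ?_
      · exact (pullback.lift_fst _ _ _).trans (EtCoh.isPullback_bc_map f a).w.symm
      · exact (pullback.lift_snd _ _ _).trans
          (Over.w ((EtFppf.a T).map ((EtCoh.bc f).map a))).symm)

/-- Let f : T → S be a morphism of schemes, F an abelian sheaf on the small etale site of S and n ≥ 0.
Write π_S⁻¹ F for the pullback of F to the big etale site of S. Then the cohomology of π_S⁻¹ F over
the object (T → S) of the big site is isomorphic to H^n(T_et, f⁻¹ F). (Existence of an isomorphism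
of abelian groups only; the published statement identifies the two through the restriction of π_S⁻¹
F to the small etale site of T, which is f⁻¹ F.) -/
theorem result {T S : Scheme.{u}} (f : T ⟶ S) (n : ℕ) (F : EtCoh.Ab S) :
    Nonempty (BigSite.HU Scheme.etalePrecoverage ((BigSite.piEtPull Scheme.etalePrecoverage S).obj F) n (Over.mk f) ≃+
      EtCoh.H T ((EtCoh.pull f).obj F) n) := by
  let K := Scheme.etalePrecoverage.{u}
  let ψ := aBcIso f
  let e : BigSite.resEt K T ⋙ EtCoh.push f ≅
      BigSite.pushBig K f AddCommGrpCat.{u + 1} ⋙ BigSite.resEt K S :=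
    NatIso.ofComponents
      (fun G => (fullyFaithfulSheafToPresheaf _ _).preimageIso
        (Functor.isoWhiskerRight (NatIso.op ψ) G.obj))
      (fun a => by
        ext W z
        exact (NatTrans.naturality_apply a.hom (ψ.hom.app W.unop).op z).symm)
  let σ := ((BigSite.piEtAdj K S).comp (BigSite.bigAdj K f AddCommGrpCat.{u + 1})).leftAdjointUniq
    (((EtCoh.pullPushAdj f).comp (BigSite.piEtAdj K T)).ofNatIsoRight e)
  let G := (BigSite.pullBig K f AddCommGrpCat.{u + 1}).obj ((BigSite.piEtPull K S).obj F)
  have := (Groth.Agent.S6184.result T).2 ((EtCoh.pull f).obj F)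
  let i : (BigSite.resEt K T).obj G ≅ (EtCoh.pull f).obj F :=
    (BigSite.resEt K T).mapIso (σ.app F) ≪≫
      (asIso ((BigSite.piEtAdj K T).unit.app ((EtCoh.pull f).obj F))).symm
  obtain ⟨φ⟩ := Groth.Agent.S6185.result T G n
  exact ⟨φ.symm.trans (AddEquiv.ofBijective (Sheaf.H.map i.hom n) (Function.bijective_iff_has_inverse.2
    ⟨Sheaf.H.map i.inv n, fun x => by simp [Sheaf.H.map_apply], fun x => by simp [Sheaf.H.map_apply]⟩))⟩

end Groth.Agent.S6687
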