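import Groth.Statements.S12498
import Mathlib

set_option autoImplicit false
universe u
open Deform

namespace Groth.Agent.S12498

section aux

variable {A B : Type*} [CommRing A] [IsLocalRing A] [CommRing B] [Algebra A B]
  {t : A} (ht0 : t ≠ 0) (htm : ∀ a ∈ IsLocalRing.maximalIdeal A, a * t = 0)

set_option quotPrecheck false in
local notation "M" => Ideal.map (algebraMap A B) (IsLocalRing.maximalIdeal A)

include htm in
lemma mul_eq_zero_of_mem {b : B} (hb : b ∈ M) : algebraMap A B t * b = 0 := by
  induction hb using Submodule.span_induction with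
  | mem x hx =>
    obtain ⟨a, ha, rfl⟩ := hx
    rw [← map_mul, mul_comm, htm a ha, map_zero]
  | zero => exact mul_zero _
  | add x y _ _ h1 h2 => rw [mul_add, h1, h2, add_zero]
  | smul c x _ h1 => rw [smul_eq_mul, mul_left_comm, h1, mul_zero]

include ht0 in
lemma mem_of_mul_eq_zero [Module.Flat A B] {b : B} (hb : algebraMap A B t * b = 0) : b ∈ M := by
  obtain ⟨κ, a, y, h1, h2⟩ := Module.Flat.iff_forall_isTrivialRelation.1 inferInstance (l := 1) (f := fun _ : Fin 1 => t)
    (x := fun _ : Fin 1 => b) (by simpa [Algebra.smul_def] using hb)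
  have h1' : b = ∑ j, a 0 j • y j := h1 0
  rw [h1']
  refine sum_mem fun j _ => ?_
  rw [Algebra.smul_def]
  refine Ideal.mul_mem_right _ _ (Ideal.mem_map_of_mem _ ?_)
  by_contra hm
  obtain ⟨v, hv⟩ := IsLocalRing.notMem_maximalIdeal.1 hm
  refine ht0 ?_
  have := h2 j
  simp only [Fin.sum_univ_one, smul_eq_mul, ← hv] at this
  exact v.isUnit.mul_left_eq_zero.1 this

include ht0 htm in
lemma mk_eq_iff [Module.Flat A B] {b b' : B} :
    Ideal.Quotient.mk M b = Ideal.Quotient.mk M b' ↔ algebraMap A B t * b = algebraMap A B t * b' := by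
  rw [Ideal.Quotient.eq]
  refine ⟨fun h => sub_eq_zero.1 ?_, fun h => mem_of_mul_eq_zero ht0 ?_⟩
  · rw [← mul_sub]; exact mul_eq_zero_of_mem htm h
  · rw [mul_sub, h, sub_self]

end aux

/-- Let k be an algebraically closed field, A a local Artinian k-algebra with residue field k, and t a
nonzero element of the maximal ideal m_A annihilated by m_A, so that A → A/tA is a small extension.
Let B be a flat A-algebra (a deformation over A of its closed fibre B_0 = B/m_A B), and σ an
A-algebra automorphism of B/tB inducing the identity on B_0. Fix an A-algebra automorphism τ of B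
inducing σ (so τ induces the identity on B_0). Then the A-algebra automorphisms η of B inducing σ
correspond bijectively to the k-derivations d of B_0 through the rule η = τ + t·d, meaning η(b) =
τ(b) + t b′ for all b ∈ B and all b′ ∈ B lifting d applied to the image of b in B_0: every such η
determines a unique d, and every d comes from some such η. (The published statement phrases the
conclusion as a free and transitive action of Der_k(B_0, B_0) on the nonempty set of lifts of σ; the
condition that σ induces the identity on B_0 is expressed here through the chosen lift τ.) -/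
theorem result
    {k : Type u} [Field k] [IsAlgClosed k]
    {A : Type u} [CommRing A] [Algebra k A] [IsLocalRing A] [IsArtinianRing A]
    (hres : ∀ a : A, ∃ c : k, a - algebraMap k A c ∈ IsLocalRing.maximalIdeal A)
    (t : A) (ht : t ∈ IsLocalRing.maximalIdeal A) (ht0 : t ≠ 0)
    (htm : ∀ a ∈ IsLocalRing.maximalIdeal A, a * t = 0)
    {B : Type u} [CommRing B] [Algebra A B] [Module.Flat A B] [Algebra k B] [IsScalarTower k A B]
    (σ : (B ⧸ Ideal.span {algebraMap A B t}) ≃ₐ[A] (B ⧸ Ideal.span {algebraMap A B t}))
    (τ : B ≃ₐ[A] B)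
    (hτ : ∀ b : B, Ideal.Quotient.mk (Ideal.span {algebraMap A B t}) (τ b) =
      σ (Ideal.Quotient.mk (Ideal.span {algebraMap A B t}) b))
    (hτ0 : ∀ b : B, τ b - b ∈ (IsLocalRing.maximalIdeal A).map (algebraMap A B)) :
    (∀ η : B ≃ₐ[A] B, (∀ b : B, Ideal.Quotient.mk (Ideal.span {algebraMap A B t}) (η b) =
        σ (Ideal.Quotient.mk (Ideal.span {algebraMap A B t}) b)) →
      ∃! d : Derivation k (B ⧸ (IsLocalRing.maximalIdeal A).map (algebraMap A B))
          (B ⧸ (IsLocalRing.maximalIdeal A).map (algebraMap A B)),
        ∀ b b' : B, Ideal.Quotient.mk ((IsLocalRing.maximalIdeal A).map (algebraMap A B)) b' =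
            d (Ideal.Quotient.mk ((IsLocalRing.maximalIdeal A).map (algebraMap A B)) b) →
          η b = τ b + algebraMap A B t * b') ∧
    (∀ d : Derivation k (B ⧸ (IsLocalRing.maximalIdeal A).map (algebraMap A B))
        (B ⧸ (IsLocalRing.maximalIdeal A).map (algebraMap A B)),
      ∃ η : B ≃ₐ[A] B, (∀ b : B, Ideal.Quotient.mk (Ideal.span {algebraMap A B t}) (η b) =
          σ (Ideal.Quotient.mk (Ideal.span {algebraMap A B t}) b)) ∧
        ∀ b b' : B, Ideal.Quotient.mk ((IsLocalRing.maximalIdeal A).map (algebraMap A B)) b' =
            d (Ideal.Quotient.mk ((IsLocalRing.maximalIdeal A).map (algebraMap A B)) b) →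
          η b = τ b + algebraMap A B t * b') := by
  set M := (IsLocalRing.maximalIdeal A).map (algebraMap A B) with hM
  set π := Ideal.Quotient.mk M with hπ
  set t' := algebraMap A B t with ht'
  have hmk : ∀ {b b' : B}, π b = π b' ↔ t' * b = t' * b' := mk_eq_iff ht0 htm
  have htM : t' ∈ M := Ideal.mem_map_of_mem _ ht
  have htt : t' * t' = 0 := mul_eq_zero_of_mem htm htM
  have hπτ : ∀ b, π (τ b) = π b := fun b => Ideal.Quotient.eq.2 (hτ0 b)
  have hπs : Function.Surjective π := Ideal.Quotient.mk_surjective
  constructor
  · intro η hη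
    have hD0 : ∀ b, ∃ D, η b = τ b + t' * D := fun b => by
      obtain ⟨D, hD⟩ := Ideal.mem_span_singleton'.1 (Ideal.Quotient.eq.1 ((hη b).trans (hτ b).symm))
      exact ⟨D, by linear_combination -hD⟩
    choose D hD using hD0
    have key : ∀ b D', η b = τ b + t' * D' → π (D b) = π D' := fun b D' h => hmk.2 (by
      linear_combination h - hD b)
    have hadd : ∀ b c, π (D (b + c)) = π (D b) + π (D c) := fun b c => by
      rw [← map_add]
      exact key _ _ (by rw [map_add, map_add, hD, hD]; ring)
    have hmul : ∀ b c, π (D (b * c)) = π b * π (D c) + π c * π (D b) := fun b c => by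
      rw [← hπτ b, ← hπτ c, ← map_mul, ← map_mul, ← map_add]
      exact key _ _ (by rw [map_mul, map_mul, hD, hD]; linear_combination (D b * D c) * htt)
    have halg : ∀ a : A, π (D (algebraMap A B a)) = 0 := fun a => by
      rw [← map_zero π]
      exact key _ _ (by rw [AlgEquiv.commutes, AlgEquiv.commutes]; ring)
    have h0 : π (D 0) = 0 := by simpa using halg 0
    have hker : ∀ b ∈ M, π (D b) = 0 := by
      intro b hb
      induction hb using Submodule.span_induction with
      | mem x hx =>
        obtain ⟨a, -, rfl⟩ := hx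
        exact halg a
      | zero => exact h0
      | add x y _ _ h1 h2 => rw [hadd, h1, h2, add_zero]
      | smul c x hx h1 =>
        rw [smul_eq_mul, hmul, h1, show π x = 0 from Ideal.Quotient.eq_zero_iff_mem.2 hx]
        ring
    have hfac : ∀ b c, π b = π c → π (D b) = π (D c) := fun b c h => by
      have h1 := hadd (b - c) c
      rw [sub_add_cancel, hker _ (Ideal.Quotient.eq.1 h), zero_add] at h1
      exact h1
    have hs : ∀ b, π (D (Function.surjInv hπs (π b))) = π (D b) := fun b =>
      hfac _ _ (Function.surjInv_eq hπs _)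
    let d0 : (B ⧸ M) →ₗ[k] (B ⧸ M) :=
      { toFun := fun q => π (D (Function.surjInv hπs q))
        map_add' := fun x y => by
          obtain ⟨b, rfl⟩ := hπs x; obtain ⟨c, rfl⟩ := hπs y
          rw [← map_add, hs, hs, hs, hadd]
        map_smul' := fun c x => by
          obtain ⟨b, rfl⟩ := hπs x
          have e : c • π b = π (algebraMap A B (algebraMap k A c) * b) := by
            rw [← IsScalarTower.algebraMap_apply, ← Algebra.smul_def]; rfl
          rw [RingHom.id_apply, e, hs, hs, hmul, halg, mul_zero, add_zero, ← map_mul,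
            ← IsScalarTower.algebraMap_apply, ← Algebra.smul_def]; rfl }
    let d : Derivation k (B ⧸ M) (B ⧸ M) := Derivation.mk' d0 fun x y => by
      obtain ⟨b, rfl⟩ := hπs x; obtain ⟨c, rfl⟩ := hπs y
      show π (D (Function.surjInv hπs (π b * π c))) = π b * π (D _) + π c * π (D _)
      rw [← map_mul, hs, hs, hs, hmul]
    have hd : ∀ b, d (π b) = π (D b) := hs
    refine ⟨d, fun b b' h => by rw [hD b, hmk.1 (h.trans (hd b))], fun d' h' => ?_⟩
    refine Derivation.ext fun x => ?_
    obtain ⟨b, rfl⟩ := hπs x
    obtain ⟨b', hb'⟩ := hπs (d' (π b))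
    rw [hd, ← hb', key b b' (h' b b' hb')]
  · intro d
    choose L hL using fun b => hπs (d (π b))
    have hdA : ∀ a : A, d (π (algebraMap A B a)) = 0 := fun a => by
      obtain ⟨c, hc⟩ := hres a
      have e : π (algebraMap A B a) = algebraMap k (B ⧸ M) c := by
        have h1 : π (algebraMap A B a) = π (algebraMap A B (algebraMap k A c)) :=
          Ideal.Quotient.eq.2 (by rw [← map_sub]; exact Ideal.mem_map_of_mem _ hc)
        rw [h1, ← IsScalarTower.algebraMap_apply]; rfl
      rw [e, Derivation.map_algebraMap]
    let η0 : B →ₐ[A] B :=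
      { toFun := fun b => τ b + t' * L b
        map_one' := by
          rw [map_one, show t' * L 1 = t' * 0 from hmk.1 (by rw [hL, map_one, map_zero,
            Derivation.map_one_eq_zero]), mul_zero, add_zero]
        map_mul' := fun b c => by
          rw [map_mul, show t' * L (b * c) = t' * (τ b * L c + τ c * L b) from hmk.1 (by
            rw [hL, map_mul π b c, Derivation.leibniz, map_add, map_mul, map_mul, hπτ, hπτ, hL, hL,
              smul_eq_mul, smul_eq_mul])]
          linear_combination (- L b * L c) * htt
        map_zero' := by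
          rw [map_zero, show t' * L 0 = t' * 0 from hmk.1 (by rw [hL, map_zero, map_zero]),
            mul_zero, add_zero]
        map_add' := fun b c => by
          rw [map_add, show t' * L (b + c) = t' * (L b + L c) from hmk.1 (by
            rw [hL, map_add π b c, map_add, map_add, hL, hL])]
          ring
        commutes' := fun a => by
          show τ _ + t' * L _ = _
          rw [AlgEquiv.commutes, show t' * L (algebraMap A B a) = t' * 0 from hmk.1 (by
            rw [hL, hdA, map_zero]), mul_zero, add_zero] }
    have hη0 : ∀ b, η0 b = τ b + t' * L b := fun b => rfl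
    have hbij : Function.Bijective η0 := by
      refine ⟨(injective_iff_map_eq_zero η0).2 fun b hb => ?_, fun y => ?_⟩
      · have hτb : π (τ b) = 0 := by
          have h1 := congrArg π hb
          rw [hη0, map_add, map_mul, show π t' = 0 from Ideal.Quotient.eq_zero_iff_mem.2 htM,
            zero_mul, add_zero, map_zero] at h1
          exact h1
        have hL0 : t' * L b = t' * 0 := hmk.1 (by rw [hL, ← hπτ, hτb, map_zero, map_zero])
        rw [hη0, hL0, mul_zero, add_zero] at hb
        exact τ.injective (hb.trans (map_zero τ).symm)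
      · refine ⟨τ.symm y - t' * τ.symm (L (τ.symm y)), ?_⟩
        rw [map_sub, map_mul, ht', AlgHom.commutes, ← ht', hη0, hη0, τ.apply_symm_apply,
          τ.apply_symm_apply]
        linear_combination (- L (τ.symm (L (τ.symm y)))) * htt
    refine ⟨AlgEquiv.ofBijective η0 hbij, fun b => ?_, fun b b' h => ?_⟩
    · rw [AlgEquiv.ofBijective_apply, hη0, map_add, hτ, map_mul,
        show Ideal.Quotient.mk (Ideal.span {t'}) t' = 0 from
          Ideal.Quotient.eq_zero_iff_mem.2 (Ideal.mem_span_singleton_self _), zero_mul, add_zero]
    · rw [AlgEquiv.ofBijective_apply, hη0, hmk.1 ((hL b).trans h.symm)]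

end Groth.Agent.S12498
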