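import Groth.Statements.S12504
import Groth.Agent.DerAdj.Basic
import Groth.Agent.TriH.KInjExist

set_option autoImplicit false
universe v u
open CategoryTheory CategoryTheory.Limits
attribute [local instance] HasDerivedCategory.standard
open CohDer

namespace Groth.Agent.S12504

/-- A natural transformation out of the homotopy category, from one on complexes. -/
def liftNatTrans {A : Type*} [Category* A] [Abelian A] {H : Type*} [Category* H]
    {P P' : HomotopyCategory A (ComplexShape.up ℤ) ⥤ H}
    (δ : HomotopyCategory.quotient A (ComplexShape.up ℤ) ⋙ P ⟶ HomotopyCategory.quotient A (ComplexShape.up ℤ) ⋙ P') :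
    P ⟶ P' where
  app X := δ.app X.as
  naturality := by
    rintro ⟨X⟩ ⟨Y⟩ f
    obtain ⟨f, rfl⟩ := (HomotopyCategory.quotient A _).map_surjective f
    exact δ.naturality f

/-- Let A and B be abelian categories with B a Grothendieck category, F : A → B an exact additive
functor with right adjoint G, and RG : D(B) → D(A) a right derived functor of G on the unbounded
derived categories, i.e. a functor equipped with a natural transformation α from the composite 'G
termwise on cochain complexes, then localisation' to 'localisation, then RG' that makes (RG, α) a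
right derived functor with respect to quasi-isomorphisms. Then the functor D(A) → D(B) induced by F
is left adjoint to RG (existence of an adjunction; the existence of RG itself is assumed, as a
binder). -/
theorem result
    {A : Type u} [Category.{v} A] [Abelian A] {B : Type u} [Category.{v} B] [Abelian B]
    [IsGrothendieckAbelian.{v} B]
    (F : A ⥤ B) (G : B ⥤ A) (adj : F ⊣ G) [F.Additive] [G.Additive]
    [PreservesFiniteLimits F] [PreservesFiniteColimits F]
    (RG : DerivedCategory B ⥤ DerivedCategory A)
    (α : G.mapHomologicalComplex (ComplexShape.up ℤ) ⋙ DerivedCategory.Q ⟶ DerivedCategory.Q ⋙ RG)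
    [RG.IsRightDerivedFunctor α (HomologicalComplex.quasiIso B (ComplexShape.up ℤ))] :
    Nonempty (F.mapDerivedCategory ⊣ RG) := by
  have hK : ∀ M : CochainComplex B ℤ, ∃ (I : CochainComplex B ℤ) (f : M ⟶ I),
      I.IsKInjective ∧ QuasiIso f := fun M => by
    obtain ⟨I, φ, h1, h2, -⟩ := Groth.Agent.TriH.exists_kInjective_resolution M
    exact ⟨I, φ, h1, h2⟩
  let P := G.mapHomotopyCategory (ComplexShape.up ℤ) ⋙ DerivedCategory.Qh
  let W := HomotopyCategory.quasiIso B (ComplexShape.up ℤ)
  haveI : P.HasPointwiseRightDerivedFunctor W :=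
    Groth.Agent.TriH.hasPointwiseRightDerivedFunctor_of_bijective (L := DerivedCategory.Qh)
      (Groth.Agent.TriH.exists_kInjective_homotopy hK) P
  obtain ⟨a⟩ := Groth.Agent.DerAdj.nonempty_derived_adjunction adj hK
  let R₀ := P.totalRightDerived DerivedCategory.Qh W
  let β := P.totalRightDerivedUnit DerivedCategory.Qh W
  let q := HomotopyCategory.quotient B (ComplexShape.up ℤ)
  let e₁ : G.mapHomologicalComplex (ComplexShape.up ℤ) ⋙ DerivedCategory.Q ≅ q ⋙ P :=
    Functor.isoWhiskerLeft _ (DerivedCategory.quotientCompQhIso A).symm ≪≫ (Functor.associator _ _ _).symm ≪≫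
      Functor.isoWhiskerRight (G.mapHomotopyCategoryFactors (ComplexShape.up ℤ)).symm _ ≪≫ Functor.associator _ _ _
  let e₂ : ∀ K : DerivedCategory B ⥤ DerivedCategory A, q ⋙ DerivedCategory.Qh ⋙ K ≅ DerivedCategory.Q ⋙ K :=
    fun K => (Functor.associator _ _ _).symm ≪≫ Functor.isoWhiskerRight (DerivedCategory.quotientCompQhIso B) K
  let β' : G.mapHomologicalComplex (ComplexShape.up ℤ) ⋙ DerivedCategory.Q ⟶ DerivedCategory.Q ⋙ R₀ :=
    e₁.hom ≫ Functor.whiskerLeft q β ≫ (e₂ R₀).hom
  have hcomp : ∀ (K : DerivedCategory B ⥤ DerivedCategory A) (τ : R₀ ⟶ K),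
      β' ≫ Functor.whiskerLeft DerivedCategory.Q τ =
        e₁.hom ≫ Functor.whiskerLeft q (β ≫ Functor.whiskerLeft DerivedCategory.Qh τ) ≫ (e₂ K).hom := by
    intro K τ
    ext X
    simp only [β', NatTrans.comp_app, Functor.whiskerLeft_app, Category.assoc, e₂, Iso.trans_hom,
      Iso.symm_hom, Functor.associator_inv_app, Functor.isoWhiskerRight_hom, Functor.whiskerRight_app,
      Category.id_comp]
    erw [τ.naturality]
    congr 2
    exact Category.id_comp _
  haveI : R₀.IsRightDerivedFunctor β' (HomologicalComplex.quasiIso B (ComplexShape.up ℤ)) := by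
    refine ⟨⟨⟨Limits.IsInitial.ofUniqueHom (fun E => StructuredArrow.homMk
      (R₀.rightDerivedDesc β W E.right (liftNatTrans (e₁.inv ≫ E.hom ≫ (e₂ E.right).inv))) ?_) ?_⟩⟩⟩
    · refine (hcomp _ _).trans ?_
      rw [Functor.rightDerived_fac]
      ext X
      change e₁.hom.app X ≫ (e₁.inv.app X ≫ E.hom.app X ≫ (e₂ E.right).inv.app X) ≫ (e₂ E.right).hom.app X = _
      simp
    · intro E m
      apply StructuredArrow.hom_ext
      apply R₀.rightDerived_ext β W
      refine (?_ : β ≫ Functor.whiskerLeft DerivedCategory.Qh m.right = _).trans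
        (R₀.rightDerived_fac β W _ _).symm
      ext ⟨X⟩
      have h := (StructuredArrow.w m)
      change β' ≫ Functor.whiskerLeft DerivedCategory.Q m.right = E.hom at h
      rw [hcomp] at h
      have h' := NatTrans.congr_app h X
      change _ = e₁.inv.app X ≫ E.hom.app X ≫ (e₂ E.right).inv.app X
      rw [← h']
      simp [q]
      rfl
  exact ⟨a.ofNatIsoRight (Functor.rightDerivedUnique R₀ RG β' α
    (HomologicalComplex.quasiIso B (ComplexShape.up ℤ)))⟩


end Groth.Agent.S12504
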