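import Groth.Statements.S12515
import Groth.Agent.FunFld.Hyperelliptic
-- import your own Groth.Agent.* helpers here

set_option autoImplicit false
open FunFld

namespace Groth.Agent.S12515

/-- If `char k ≠ 2` and `K` has degree `2` over the rational function field `k(x)`, then `K = k(x)(y)`
for some `y` with `y² = f(x)`, `f` a squarefree polynomial over `k`. -/
theorem result (k K : Type*) [Field k] [Field K] (h2 : ringChar k ≠ 2)
    [Algebra (RatFunc k) K] (hdeg : Module.finrank (RatFunc k) K = 2) :
    ∃ (y : K) (f : Polynomial k), Squarefree f ∧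
      y ^ 2 = algebraMap (RatFunc k) K (algebraMap (Polynomial k) (RatFunc k) f) ∧
      IntermediateField.adjoin (RatFunc k) ({y} : Set K) = ⊤ := by
  classical
  have h2k : (2 : k) ≠ 0 := Ring.two_ne_zero h2
  obtain ⟨w, hw⟩ : ∃ w : K, w ∉ Set.range (algebraMap (RatFunc k) K) := by
    by_contra h
    push Not at h
    have hb : (⊤ : Subalgebra (RatFunc k) K) = ⊥ := by
      rw [eq_comm, eq_top_iff]
      exact fun x _ => Algebra.mem_bot.2 (h x)
    have := Subalgebra.bot_eq_top_iff_finrank_eq_one.1 hb.symm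
    omega
  obtain ⟨a, b, hab⟩ := FunFldLib.quad_repr hdeg hw (w * w)
  have h2K : (2 : K) ≠ 0 := by
    rw [← map_ofNat (algebraMap (RatFunc k) K), ← map_ofNat (algebraMap k (RatFunc k)), map_ne_zero, map_ne_zero]
    exact h2k
  set g : RatFunc k := a + (b / 2) ^ 2 with hg
  set z : K := w - algebraMap (RatFunc k) K (b / 2) with hzdef
  have hz : z ^ 2 = algebraMap (RatFunc k) K g := by
    rw [hzdef, hg, map_add, map_pow, map_div₀, map_ofNat]
    field_simp
    linear_combination 4 * hab
  have hznot : z ∉ Set.range (algebraMap (RatFunc k) K) := fun ⟨c, hc⟩ =>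
    hw ⟨c + b / 2, by rw [map_add, hc, hzdef, sub_add_cancel]⟩
  have key : ∀ (N : ℕ) (n : Polynomial k), n.natDegree ≤ N → n ≠ 0 →
      ∃ s f : Polynomial k, s ≠ 0 ∧ Squarefree f ∧ n = s ^ 2 * f := by
    intro N
    induction N with
    | zero =>
      intro n hN hn
      refine ⟨1, n, one_ne_zero, ?_, by simp⟩
      exact (Polynomial.isUnit_iff_degree_eq_zero.2 (by
        rw [Polynomial.degree_eq_natDegree hn, Nat.le_zero.1 hN]; rfl)).squarefree
    | succ N ih =>
      intro n hN hn
      by_cases hsf : Squarefree n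
      · exact ⟨1, n, one_ne_zero, hsf, by simp⟩
      obtain ⟨q, ⟨r, hr⟩, hq⟩ : ∃ q, q * q ∣ n ∧ ¬ IsUnit q := by
        simpa [Squarefree, and_comm] using hsf
      have hq0 : q ≠ 0 := by rintro rfl; simp [hr] at hn
      have hr0 : r ≠ 0 := by rintro rfl; simp [hr] at hn
      have hdq : q.natDegree ≠ 0 := fun h => hq (Polynomial.isUnit_iff_degree_eq_zero.2 (by
        rw [Polynomial.degree_eq_natDegree hq0, h]; rfl))
      have hdeg' : n.natDegree = q.natDegree + q.natDegree + r.natDegree := by
        rw [hr, Polynomial.natDegree_mul (mul_ne_zero hq0 hq0) hr0, Polynomial.natDegree_mul hq0 hq0]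
      obtain ⟨s, f, hs, hf, rfl⟩ := ih r (by omega) hr0
      exact ⟨q * s, f, mul_ne_zero hq0 hs, hf, by rw [hr]; ring⟩
  have hg0 : g ≠ 0 := fun h => by
    rw [h, map_zero] at hz
    exact hznot ⟨0, by rw [map_zero, eq_zero_of_pow_eq_zero hz]⟩
  obtain ⟨s, f, hs, hf, hsf⟩ := key _ (g.num * g.denom) le_rfl
    (mul_ne_zero (RatFunc.num_ne_zero hg0) g.denom_ne_zero)
  have hsR : algebraMap (Polynomial k) (RatFunc k) s ≠ 0 := by simpa using hs
  have hdR : algebraMap (Polynomial k) (RatFunc k) g.denom ≠ 0 := by simpa using g.denom_ne_zero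
  set c : RatFunc k := algebraMap _ _ g.denom / algebraMap _ _ s with hc
  have hc0 : c ≠ 0 := div_ne_zero hdR hsR
  refine ⟨algebraMap (RatFunc k) K c * z, f, hf, ?_, ?_⟩
  · rw [mul_pow, hz, ← map_pow, ← map_mul]
    congr 1
    have h1 : g = algebraMap _ _ g.num / algebraMap _ _ g.denom := (RatFunc.num_div_denom g).symm
    have h3 := congrArg (algebraMap (Polynomial k) (RatFunc k)) hsf
    rw [map_mul, map_mul, map_pow] at h3
    set N := algebraMap (Polynomial k) (RatFunc k) g.num
    set D := algebraMap (Polynomial k) (RatFunc k) g.denom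
    set S := algebraMap (Polynomial k) (RatFunc k) s
    rw [hc, h1]
    field_simp
    linear_combination h3
  · refine eq_top_iff.2 fun u _ => ?_
    obtain ⟨p, q, rfl⟩ := FunFldLib.quad_repr hdeg hznot u
    set E := IntermediateField.adjoin (RatFunc k) ({algebraMap (RatFunc k) K c * z} : Set K)
    have hz' : z ∈ E := by
      have h1 : z = (algebraMap (RatFunc k) K c)⁻¹ * (algebraMap (RatFunc k) K c * z) := by
        rw [inv_mul_cancel_left₀ (by simpa using hc0)]
      rw [h1]
      exact mul_mem (inv_mem (E.algebraMap_mem c)) (IntermediateField.mem_adjoin_simple_self _ _)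
    exact add_mem (E.algebraMap_mem p) (mul_mem (E.algebraMap_mem q) hz')

end Groth.Agent.S12515
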