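import Groth.Statements.S12517
import Groth.Agent.FunFld.Hyperelliptic
-- import your own Groth.Agent.* helpers here

set_option autoImplicit false
open FunFld

namespace Groth.Agent.S12517

/-- If `k` is perfect of characteristic `2` and `K` is a separable extension of degree `2` of the
rational function field `k(x)`, then `K = k(x)(y)` for some `y` with `y² + y = f(x)`, `f ∈ k(x)`.
The correspondence between such extensions and cosets of `{a² + a}` in `k(x)` is not stated. -/
theorem result (k K : Type*) [Field k] [Field K] [PerfectField k]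
    (h2 : ringChar k = 2) [Algebra (RatFunc k) K] (hdeg : Module.finrank (RatFunc k) K = 2)
    [Algebra.IsSeparable (RatFunc k) K] :
    ∃ (y : K) (f : RatFunc k), y ^ 2 + y = algebraMap (RatFunc k) K f ∧
      IntermediateField.adjoin (RatFunc k) ({y} : Set K) = ⊤ := by
  have : CharP k 2 := ringChar.of_eq h2
  obtain ⟨w, hw⟩ : ∃ w : K, w ∉ Set.range (algebraMap (RatFunc k) K) := by
    by_contra h
    push Not at h
    have hb : (⊤ : Subalgebra (RatFunc k) K) = ⊥ := by
      rw [eq_comm, eq_top_iff]
      exact fun x _ => Algebra.mem_bot.2 (h x)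
    have := Subalgebra.bot_eq_top_iff_finrank_eq_one.1 hb.symm
    omega
  obtain ⟨a, b, hab⟩ := FunFldLib.quad_repr hdeg hw (w * w)
  have : CharP (RatFunc k) 2 := charP_of_injective_algebraMap (algebraMap k (RatFunc k)).injective 2
  have : CharP K 2 := charP_of_injective_algebraMap (algebraMap (RatFunc k) K).injective 2
  have h20 : (2 : K) = 0 := CharP.cast_eq_zero K 2
  have hb : b ≠ 0 := fun hb => by
    have hsep := (Algebra.IsSeparable.isSeparable (RatFunc k) w).aeval_derivative_ne_zero (minpoly.aeval (RatFunc k) w)
    rw [hb, map_zero, zero_mul, add_zero] at hab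
    set q : Polynomial (RatFunc k) := Polynomial.X ^ 2 - Polynomial.C a with hq
    have hq0 : Polynomial.aeval w q = 0 := by rw [hq]; simp [pow_two, hab]
    have hdvd := minpoly.dvd _ _ hq0
    have hint : IsIntegral (RatFunc k) w := ⟨q, Polynomial.monic_X_pow_sub_C a two_ne_zero, hq0⟩
    have heq := Polynomial.eq_of_monic_of_dvd_of_natDegree_le (minpoly.monic hint)
      (Polynomial.monic_X_pow_sub_C a two_ne_zero) hdvd (by
        rw [Polynomial.natDegree_X_pow_sub_C]
        exact (minpoly.two_le_natDegree_iff hint).2 hw)
    rw [← heq] at hsep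
    rw [Polynomial.derivative_sub, Polynomial.derivative_C, sub_zero, Polynomial.derivative_X_pow,
      CharP.cast_eq_zero (RatFunc k) 2, map_zero, zero_mul, map_zero] at hsep
    exact hsep rfl
  refine ⟨w / algebraMap (RatFunc k) K b, a / b ^ 2, ?_, ?_⟩
  · have hbK : algebraMap (RatFunc k) K b ≠ 0 := by simpa using hb
    rw [map_div₀, map_pow]
    field_simp
    linear_combination hab + algebraMap (RatFunc k) K b * w * h20
  · refine eq_top_iff.2 fun u _ => ?_
    obtain ⟨p, q, rfl⟩ := FunFldLib.quad_repr hdeg hw u
    set E := IntermediateField.adjoin (RatFunc k) ({w / algebraMap (RatFunc k) K b} : Set K)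
    have hw' : w ∈ E := by
      have h1 : w = algebraMap (RatFunc k) K b * (w / algebraMap (RatFunc k) K b) := by
        rw [mul_div_cancel₀ _ (by simpa using hb)]
      rw [h1]
      exact mul_mem (E.algebraMap_mem b) (IntermediateField.mem_adjoin_simple_self _ _)
    exact add_mem (E.algebraMap_mem p) (mul_mem (E.algebraMap_mem q) hw')

end Groth.Agent.S12517
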