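import Groth.Statements.S12520
import Groth.Agent.S11003
import Groth.Agent.FunFld.Separating
-- import your own Groth.Agent.* helpers here

set_option autoImplicit false
universe u v
open FunFld

namespace Groth.Agent.S12520

/-- For a geometric function field of one variable `K/k` of characteristic `p > 0` and a geometric
function field `K₀/k₀` with `K₀ ⊆ K` of finite index (and `k₀ ⊆ k` compatibly), the map `Ω_{K₀/k₀} →
Ω_{K/k}` induced by the inclusion vanishes when `K₀ ⊆ kK^p` and is injective otherwise. -/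
theorem result (k₀ k : Type u) (K₀ K : Type v) [Field k₀] [Field k] [Field K₀] [Field K]
    [Algebra k₀ k] [Algebra k₀ K₀] [Algebra k₀ K] [Algebra k K] [Algebra K₀ K]
    [IsScalarTower k₀ k K] [IsScalarTower k₀ K₀ K] [FiniteDimensional K₀ K]
    (p : ℕ) [Fact p.Prime] [CharP K p]
    (hK : FunFld.IsFunctionField k K) (hg : FunFld.IsGeometric k K)
    (hK₀ : FunFld.IsFunctionField k₀ K₀) (hg₀ : FunFld.IsGeometric k₀ K₀) :
    (Set.range (algebraMap K₀ K) ⊆ ↑(IntermediateField.adjoin k (Set.range fun y : K => y ^ p)) →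
      KaehlerDifferential.map k₀ k K₀ K = 0) ∧
    (¬ Set.range (algebraMap K₀ K) ⊆ ↑(IntermediateField.adjoin k (Set.range fun y : K => y ^ p)) →
      Function.Injective (KaehlerDifferential.map k₀ k K₀ K)) := by
  have hp : p.Prime := Fact.out
  have hD0 : ∀ y ∈ IntermediateField.adjoin k (Set.range fun y : K => y ^ p), KaehlerDifferential.D k K y = 0 := by
    intro y hy
    induction hy using IntermediateField.adjoin_induction with
    | mem y hy =>
      obtain ⟨z, rfl⟩ := hy
      show KaehlerDifferential.D k K (z ^ p) = 0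
      rw [Derivation.leibniz_pow, ← Nat.cast_smul_eq_nsmul K, CharP.cast_eq_zero K p, zero_smul]
    | algebraMap c => exact Derivation.map_algebraMap _ c
    | add a b _ _ ha hb => rw [map_add, ha, hb, add_zero]
    | inv a _ ha => rw [Derivation.leibniz_inv, ha, smul_zero]
    | mul a b _ _ ha hb => rw [Derivation.leibniz, ha, hb, smul_zero, smul_zero, add_zero]
  refine ⟨fun hsub => ?_, fun hns => ?_⟩
  · refine LinearMap.ext_on (KaehlerDifferential.span_range_derivation k₀ K₀) ?_
    rintro _ ⟨a, rfl⟩
    rw [KaehlerDifferential.map_D, LinearMap.zero_apply]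
    exact hD0 _ (hsub ⟨a, rfl⟩)
  · obtain ⟨_, ⟨a, rfl⟩, ha⟩ := Set.not_subset.1 hns
    have hne : KaehlerDifferential.D k K (algebraMap K₀ K a) ≠ 0 :=
      FunFldLib.kaehler_D_sepVar_ne_zero hK (fun halg => ha (by
        obtain ⟨c, hc⟩ := hK.2 _ halg
        exact hc ▸ IntermediateField.algebraMap_mem _ c)) (FunFldLib.isSepVar_of_notMem_Epow hK hg p ha)
    have ha0 : KaehlerDifferential.D k₀ K₀ a ≠ 0 := fun h => hne (by
      rw [← KaehlerDifferential.map_D k₀ k K₀ K, h, map_zero])
    rw [injective_iff_map_eq_zero]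
    intro w hw
    obtain ⟨c, rfl⟩ := (finrank_eq_one_iff_of_nonzero' _ ha0).1 (Groth.Agent.S11003.result k₀ K₀ hK₀ hg₀) w
    rw [map_smul, KaehlerDifferential.map_D, ← IsScalarTower.algebraMap_smul K c, smul_eq_zero] at hw
    rw [(map_eq_zero (algebraMap K₀ K)).1 (hw.resolve_right hne), zero_smul]

end Groth.Agent.S12520
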