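import Groth.Statements.S12524
import Mathlib
-- import your own Groth.Agent.* helpers here

set_option autoImplicit false
universe u v
open CAlg

namespace Groth.Agent.S12524

open IsLocalRing in
/-- Let `A` be a complete discrete valuation ring with maximal ideal `m`, containing a field `K` such
that `K → A → A/m` is bijective (a coefficient field), and let `x` be any generator of `m`. Then the
`K`-algebra map `K[X] → A`, `X ↦ x`, extends to a bijective `K`-algebra map `φ : K⟦X⟧ → A`,
characterised by `φ(∑ aᵢ Xⁱ) ≡ ∑_{i<n} aᵢ xⁱ (mod mⁿ)` for every `n`. -/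
theorem result (K : Type u) (A : Type v) [Field K]
    [CommRing A] [IsDomain A] [IsDiscreteValuationRing A] [Algebra K A]
    [IsAdicComplete (maximalIdeal A) A]
    (hK : Function.Bijective ((residue A).comp (algebraMap K A)))
    (x : A) (hx : maximalIdeal A = Ideal.span {x}) :
    ∃ φ : PowerSeries K →ₐ[K] A, φ PowerSeries.X = x ∧ Function.Bijective φ ∧
      ∀ (f : PowerSeries K) (n : ℕ),
        φ f - (Finset.range n).sum (fun i => algebraMap K A (PowerSeries.coeff i f) * x ^ i) ∈
          maximalIdeal A ^ n := by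
  classical
  set m := maximalIdeal A with hm
  have hxm : x ∈ m := by rw [hx]; exact Ideal.mem_span_singleton_self x
  have hxpow : ∀ n, x ^ n ∈ m ^ n := fun n => Ideal.pow_mem_pow hxm n
  have hg : ∀ (n : ℕ) (P Q : Polynomial K), (∀ i < n, P.coeff i = Q.coeff i) →
      Ideal.Quotient.mk (m ^ n) (Polynomial.aeval x P) = Ideal.Quotient.mk (m ^ n) (Polynomial.aeval x Q) := by
    intro n P Q h
    rw [Ideal.Quotient.mk_eq_mk_iff_sub_mem, ← map_sub]
    obtain ⟨R, hR⟩ := Polynomial.X_pow_dvd_iff.mpr (fun i hi => by
      rw [Polynomial.coeff_sub, h i hi, sub_self] : ∀ i < n, (P - Q).coeff i = 0)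
    rw [hR, map_mul, map_pow, Polynomial.aeval_X]
    exact Ideal.mul_mem_right _ _ (hxpow n)
  let f : (n : ℕ) → PowerSeries K →ₐ[K] A ⧸ m ^ n := fun n =>
    AlgHom.ofLinearMap
      { toFun := fun s => Ideal.Quotient.mk (m ^ n) (Polynomial.aeval x (PowerSeries.trunc n s))
        map_add' := fun s t => by simp [map_add]
        map_smul' := fun c s => by
          show Ideal.Quotient.mkₐ K (m ^ n) _ = c • Ideal.Quotient.mkₐ K (m ^ n) _
          rw [← map_smul (Ideal.Quotient.mkₐ K (m ^ n)), ← map_smul]
          exact hg n _ _ fun i hi => by simp [PowerSeries.coeff_trunc, hi] }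
      (by
        show Ideal.Quotient.mk (m ^ n) _ = 1
        rw [← map_one (Ideal.Quotient.mk (m ^ n)), ← map_one (Polynomial.aeval x (R := K))]
        exact hg n _ _ fun i hi => by simp [PowerSeries.coeff_trunc, hi, Polynomial.coeff_one, PowerSeries.coeff_one])
      (fun s t => by
        show Ideal.Quotient.mk (m ^ n) _ = Ideal.Quotient.mk (m ^ n) _ * Ideal.Quotient.mk (m ^ n) _
        rw [← map_mul, ← map_mul]
        refine hg n _ _ fun i hi => ?_
        rw [PowerSeries.coeff_trunc, if_pos hi, PowerSeries.coeff_mul, Polynomial.coeff_mul]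
        refine Finset.sum_congr rfl fun p hp => ?_
        have hp' := Finset.HasAntidiagonal.mem_antidiagonal.mp hp
        rw [PowerSeries.coeff_trunc, PowerSeries.coeff_trunc, if_pos (by omega), if_pos (by omega)])
  have hf : ∀ {a c : ℕ} (hle : a ≤ c),
      (Ideal.Quotient.factorₐ K (Ideal.pow_le_pow_right hle)).comp (f c) = f a := by
    intro a c hle
    refine AlgHom.ext fun s => ?_
    show Ideal.Quotient.mk (m ^ a) _ = Ideal.Quotient.mk (m ^ a) _
    exact hg a _ _ fun i hi => by simp [PowerSeries.coeff_trunc, hi, show i < c by omega]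
  let φ := IsAdicComplete.liftAlgHom m f hf
  have hφ : ∀ s n, φ s - (Finset.range n).sum (fun i => algebraMap K A (PowerSeries.coeff i s) * x ^ i) ∈ m ^ n := by
    intro s n
    rw [← Ideal.Quotient.mk_eq_mk_iff_sub_mem, IsAdicComplete.mk_liftAlgHom]
    show Ideal.Quotient.mk (m ^ n) _ = _
    congr 1
    induction n with
    | zero => simp
    | succ n ih =>
      rw [PowerSeries.trunc_succ, map_add, ih, Finset.sum_range_succ, Polynomial.aeval_monomial]
  have heq : ∀ a c : A, (∀ n, a - c ∈ m ^ n) → a = c := by
    intro a c h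
    refine sub_eq_zero.mp (IsHausdorff.haus (I := m) inferInstance _ fun n => ?_)
    rw [SModEq.zero, smul_eq_mul, Ideal.mul_top]
    exact h n
  have hX : φ PowerSeries.X = x := heq _ _ fun n => by
    have h := hφ PowerSeries.X (n + 2)
    rw [Finset.sum_eq_single 1] at h
    · simp only [PowerSeries.coeff_one_X, map_one, one_mul, pow_one] at h
      exact Ideal.pow_le_pow_right (by omega) h
    · intro i _ hi
      simp [PowerSeries.coeff_X, hi]
    · intro h1
      exact absurd (Finset.mem_range.mpr (by omega)) h1
  have hsurj : Function.Surjective φ := by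
    intro a
    have hstep : ∀ a : A, ∃ c : K, ∃ a' : A, a = algebraMap K A c + x * a' := by
      intro a
      obtain ⟨c, hc⟩ := hK.2 (residue A a)
      have h1 : a - algebraMap K A c ∈ Ideal.span {x} := by
        rw [← hx, hm, ← IsLocalRing.residue_eq_zero_iff, map_sub]
        rw [RingHom.comp_apply] at hc
        rw [hc, sub_self]
      obtain ⟨a', ha'⟩ := Ideal.mem_span_singleton.mp h1
      exact ⟨c, a', by rw [← ha', add_sub_cancel]⟩
    choose c nxt hnxt using hstep
    let seq : ℕ → A := fun n => nxt^[n] a
    refine ⟨PowerSeries.mk fun n => c (seq n), heq _ _ fun n => ?_⟩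
    have hexp : ∀ n, a = (Finset.range n).sum (fun i => algebraMap K A (c (seq i)) * x ^ i) + x ^ n * seq n := by
      intro n
      induction n with
      | zero => simp [seq]
      | succ n ih =>
        have hs : seq (n + 1) = nxt (seq n) := Function.iterate_succ_apply' nxt n a
        conv_lhs => rw [ih, hnxt (seq n)]
        rw [Finset.sum_range_succ, hs]
        ring
    have h := hφ (PowerSeries.mk fun n => c (seq n)) n
    simp only [PowerSeries.coeff_mk] at h
    have h2 := sub_mem h (Ideal.mul_mem_right (seq n) _ (hxpow n))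
    rwa [sub_sub, ← hexp n] at h2
  refine ⟨φ, hX, ⟨?_, hsurj⟩, hφ⟩
  rw [injective_iff_map_eq_zero]
  intro s hs
  by_contra hne
  have hu : IsUnit (PowerSeries.divXPowOrder s) := by
    rw [PowerSeries.isUnit_iff_constantCoeff, isUnit_iff_ne_zero]
    exact PowerSeries.constantCoeff_divXPowOrder_eq_zero_iff.not.mpr hne
  have h1 := congrArg φ (PowerSeries.X_pow_order_mul_divXPowOrder (f := s))
  rw [map_mul, map_pow, hX, hs] at h1
  have hx0 : x = 0 := pow_eq_zero_iff'.mp ((hu.map φ).mul_left_eq_zero.mp h1) |>.1
  exact IsDiscreteValuationRing.not_isField A (IsLocalRing.isField_iff_maximalIdeal_eq.mpr (by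
    rw [← hm, hx, hx0, Ideal.span_singleton_eq_bot]))

end Groth.Agent.S12524
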