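import Groth.Statements.S12526
import Groth.Agent.FunFld.ConstNormal
-- import your own Groth.Agent.* helpers here

set_option autoImplicit false
universe u v
open FunFld TensorProduct
attribute [local instance 2000] Algebra.toModule

namespace Groth.Agent.S12526

/-- Let `K/k` be a geometric function field of one variable, `P` a place of `K`, `k'/k` finite and `K' =
k' ⊗_k K`; let `R` be the integral closure of `O_P` in `K'` and `R̃ = k' ⊗_k O_P = O_P[k']`. Then
`R/R̃` is finite-dimensional over `k`, and `R̃` contains a nonzero ideal of `R`. -/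
theorem result (k k' : Type u) (K K' : Type v) [Field k] [Field k'] [Field K] [Field K']
    [Algebra k k'] [FiniteDimensional k k'] [Algebra k K] [Algebra K K'] [Algebra k' K'] [Algebra k K']
    [IsScalarTower k k' K'] [IsScalarTower k K K']
    (h : Function.Bijective (Algebra.TensorProduct.productMap
      (IsScalarTower.toAlgHom k k' K') (IsScalarTower.toAlgHom k K K')))
    (hK : FunFld.IsFunctionField k K) (hg : FunFld.IsGeometric k K)
    (P : FunFld.Place k K) [Algebra P.O K'] [IsScalarTower P.O K K'] :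
    (∃ V : Submodule k K', FiniteDimensional k V ∧ ∀ r ∈ integralClosure P.O K',
        ∃ s ∈ Algebra.adjoin P.O (Set.range (algebraMap k' K')), r - s ∈ V) ∧
    (∃ c ∈ integralClosure P.O K', c ≠ 0 ∧ ∀ r ∈ integralClosure P.O K',
        c * r ∈ Algebra.adjoin P.O (Set.range (algebraMap k' K'))) := by
  obtain ⟨φ, hφ, hφt⟩ := FunFldLib.exists_constExt_hom h
  have : FiniteDimensional K K' := Module.Finite.of_surjective φ.toLinearMap hφ.2
  obtain ⟨π, C, hπ, hC⟩ := FunFldLib.constExt_bounded hφ hφt hK P
  set A := Algebra.adjoin P.O (Set.range (algebraMap k' K'))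
  have hπ0 : (π : K) ≠ 0 := FunFldLib.ne_zero_of_val P hπ
  refine ⟨?_, ⟨algebraMap K K' ((π : K) ^ C), ?_, by simpa using pow_ne_zero C hπ0, hC⟩⟩
  · obtain ⟨V, hVfin, hV⟩ := FunFldLib.exists_principal_parts hK hπ C
    let b := Module.finBasis k k'
    let W : Submodule k K' := ⨆ i, (V.map ((IsScalarTower.toAlgHom k K K').toLinearMap)).map
      (LinearMap.mulRight k (algebraMap k' K' (b i)))
    refine ⟨W, inferInstance, fun r hr => ?_⟩
    obtain ⟨y, rfl⟩ := hφ.2 r
    let B := Algebra.TensorProduct.basis K b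
    have hyrep : φ y = ∑ i, algebraMap K K' (B.repr y i) * algebraMap k' K' (b i) := by
      conv_lhs => rw [← B.sum_repr y]
      rw [map_sum]
      exact Finset.sum_congr rfl fun i _ => by
        rw [map_smul, Algebra.TensorProduct.basis_apply, hφt, map_one, one_mul, Algebra.smul_def]
    obtain ⟨t, ht⟩ : ∃ t, FunFldLib.inclS k' P t = algebraMap K _ ((π : K) ^ C) * y := by
      have h1 := hC _ hr
      obtain ⟨t, hz⟩ : ∃ t, φ (FunFldLib.inclS k' P t) = algebraMap K K' ((π : K) ^ C) * φ y := by
        generalize algebraMap K K' ((π : K) ^ C) * φ y = x at h1 ⊢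
        induction h1 using Algebra.adjoin_induction with
        | mem x hx =>
          obtain ⟨c, rfl⟩ := hx
          exact ⟨(1 : P.O) ⊗ₜ[k] c, by rw [FunFldLib.inclS_tmul, hφt, OneMemClass.coe_one, map_one, one_mul]⟩
        | algebraMap a =>
          exact ⟨a ⊗ₜ[k] (1 : k'), by
            rw [FunFldLib.inclS_tmul, hφt, map_one, mul_one]
            exact (IsScalarTower.algebraMap_apply P.O K K' a).symm⟩
        | add u v _ _ hu hv =>
          obtain ⟨u, rfl⟩ := hu
          obtain ⟨v, rfl⟩ := hv
          exact ⟨u + v, by rw [map_add, map_add]⟩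
        | mul u v _ _ hu hv =>
          obtain ⟨u, rfl⟩ := hu
          obtain ⟨v, rfl⟩ := hv
          exact ⟨u * v, by rw [map_mul, map_mul]⟩
      refine ⟨t, hφ.1 ?_⟩
      rw [map_mul, AlgHom.commutes]
      exact hz
    have hbnd : ∀ i, P.1 ((π : K) ^ C * B.repr y i) ≤ 1 := fun i => by
      have h1 : (π : K) ^ C * B.repr y i = B.repr (FunFldLib.inclS k' P t) i := by
        rw [ht, ← Algebra.smul_def, map_smul, Finsupp.smul_apply, smul_eq_mul]
      rw [h1]
      clear h1 ht
      induction t using TensorProduct.induction_on with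
      | zero => simp
      | tmul a c =>
        rw [FunFldLib.inclS_tmul, Algebra.TensorProduct.basis_repr_tmul]
        simp only [Finsupp.coe_smul, Pi.smul_apply, Finsupp.mapRange_apply, smul_eq_mul, map_mul]
        exact mul_le_one' a.2 (P.2.1 _)
      | add u v hu hv => rw [map_add, map_add, Finsupp.add_apply]; exact (P.1.map_add _ _).trans (max_le hu hv)
    choose v hv hvle using fun i => hV _ (hbnd i)
    refine ⟨∑ i, algebraMap K K' (B.repr y i - v i) * algebraMap k' K' (b i), ?_, ?_⟩
    · refine Subalgebra.sum_mem _ fun i _ => mul_mem ?_ (Algebra.subset_adjoin ⟨b i, rfl⟩)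
      rw [show algebraMap K K' (B.repr y i - v i) = algebraMap P.O K' ⟨_, hvle i⟩ from
        (IsScalarTower.algebraMap_apply P.O K K' (⟨_, hvle i⟩ : P.O)).symm]
      exact Subalgebra.algebraMap_mem _ _
    · rw [hyrep, ← Finset.sum_sub_distrib]
      refine Submodule.sum_mem _ fun i _ => ?_
      rw [map_sub, sub_mul, sub_sub_cancel]
      exact Submodule.mem_iSup_of_mem i ⟨_, ⟨v i, hv i, rfl⟩, rfl⟩
  · refine (FunFldLib.isIntegral_iff_intAbove hK P _).2 fun Q hQ => ?_
    obtain ⟨e, he⟩ := hQ
    rw [he, map_pow]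
    exact pow_le_one₀ zero_le (pow_le_one₀ zero_le π.2)

end Groth.Agent.S12526
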