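import Groth.Statements.S12527
import Groth.Agent.FunFld.UniformizerSep
import Groth.Agent.FunFld.NonSingular
-- import your own Groth.Agent.* helpers here

set_option autoImplicit false
universe u v
open scoped TensorProduct
open FunFld
attribute [local instance 2000] Algebra.toModule

namespace Groth.Agent.S12527

/-- A geometric function field of one variable `K/k` has at most finitely many singular places, i.e.
places `P` for which, for some finite extension `k'/k`, the integral closure of `O_P` in `k' ⊗_k K`
is strictly larger than `k' ⊗_k O_P`. The existence of a purely inseparable finite `k'` making `k'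
⊗_k K` nonsingular is not stated. -/
theorem result (k : Type u) (K : Type v) [Field k] [Field K] [Algebra k K]
    (hK : FunFld.IsFunctionField k K) (hg : FunFld.IsGeometric k K) :
    {P : FunFld.Place k K | ∃ (k' : Type u) (_ : Field k') (_ : Algebra k k'), FiniteDimensional k k' ∧
      integralClosure (P.O.toSubring.map (Algebra.TensorProduct.includeRight : K →ₐ[k] k' ⊗[k] K).toRingHom) (k' ⊗[k] K) ≠
        Algebra.adjoin (P.O.toSubring.map (Algebra.TensorProduct.includeRight : K →ₐ[k] k' ⊗[k] K).toRingHom)
          (Set.range (Algebra.TensorProduct.includeLeftRingHom : k' →+* k' ⊗[k] K))}.Finite := by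
  obtain ⟨s, hs, hsep⟩ := FunFldLib.exists_sepVar hK hg
  let e := RatFunc.algEquivOfTranscendental s hs
  let i : RatFunc k →ₐ[k] K := (IntermediateField.adjoin k ({s} : Set K)).val.comp e.toAlgHom
  letI : Algebra (RatFunc k) K := i.toRingHom.toAlgebra
  have : IsScalarTower k (RatFunc k) K := IsScalarTower.of_algebraMap_eq fun c => (i.commutes c).symm
  have : FiniteDimensional (RatFunc k) K := by
    have := FunFldLib.finiteDimensional_adjoin hK hs
    refine Module.finite_of_finrank_pos ?_
    rw [Algebra.finrank_eq_of_equiv_equiv e.toRingEquiv (RingEquiv.refl K) (by ext z; rfl)]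
    exact Module.finrank_pos
  have : Algebra.IsSeparable (RatFunc k) K :=
    Algebra.IsSeparable.of_equiv_equiv (A₁ := IntermediateField.adjoin k ({s} : Set K))
      (B₁ := K) e.toRingEquiv.symm (RingEquiv.refl K) (by
        ext z
        show algebraMap (RatFunc k) K (e.symm z) = (z : K)
        exact congrArg Subtype.val (e.apply_symm_apply z))
  obtain ⟨bad, hbad, hgood⟩ := FunFldLib.exists_finite_nonregular.{u} (k := k) (K := K) hK
  refine hbad.subset ?_
  rintro P ⟨k', fk', ak', hfin, hne⟩
  by_contra hP
  refine hne ?_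
  set f : K →ₐ[k] k' ⊗[k] K := Algebra.TensorProduct.includeRight
  set A := P.O.toSubring.map f.toRingHom
  let c := Algebra.TensorProduct.comm k k' K
  let gA : P.O →+* A := (f.toRingHom.comp P.O.subtype).codRestrict A fun a => ⟨a.1, a.2, rfl⟩
  have hgA : Function.Surjective gA := by
    rintro ⟨_, a, ha, rfl⟩
    exact ⟨⟨a, ha⟩, rfl⟩
  refine le_antisymm (fun z hz => ?_) (Algebra.adjoin_le ?_)
  · obtain ⟨p, hpm, hp⟩ := hz
    have hlift : p ∈ Polynomial.lifts gA := (Polynomial.lifts_iff_coeff_lifts _).2 fun n => hgA _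
    obtain ⟨q, hq, -, hqm⟩ := Polynomial.lifts_and_natDegree_eq_and_monic hlift hpm
    have hy : (FunFldLib.toTen k' P).IsIntegralElem (c z) := by
      refine ⟨q, hqm, ?_⟩
      have h1 : FunFldLib.toTen k' P = c.toAlgHom.toRingHom.comp ((algebraMap A (k' ⊗[k] K)).comp gA) :=
        RingHom.ext fun a => rfl
      rw [h1]
      refine (Polynomial.hom_eval₂ q ((algebraMap A (k' ⊗[k] K)).comp gA) c.toAlgHom.toRingHom z).symm.trans ?_
      rw [← Polynomial.eval₂_map, hq, hp]
      exact map_zero _
    obtain ⟨t, ht⟩ := hgood P hP k' (c z) hy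
    have hz' : z = c.symm (FunFldLib.inclS k' P t) := by
      rw [show FunFldLib.inclS k' P t = c z from ht]; exact (c.symm_apply_apply z).symm
    rw [hz']
    clear ht hz'
    induction t using TensorProduct.induction_on with
    | zero => rw [map_zero, map_zero]; exact zero_mem _
    | tmul a b =>
      have h2 : c.symm (FunFldLib.inclS k' P (a ⊗ₜ b)) =
          (b ⊗ₜ[k] (1 : K)) * algebraMap A (k' ⊗[k] K) (gA a) := by
        show (b ⊗ₜ[k] (a : K)) = (b ⊗ₜ[k] (1 : K)) * ((1 : k') ⊗ₜ[k] (a : K))
        rw [Algebra.TensorProduct.tmul_mul_tmul, mul_one, one_mul]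
      rw [h2]
      exact mul_mem (Algebra.subset_adjoin ⟨b, rfl⟩) (Subalgebra.algebraMap_mem _ _)
    | add u v hu hv => rw [map_add, map_add]; exact add_mem hu hv
  · rintro _ ⟨b, rfl⟩
    obtain ⟨p, hpm, hp⟩ := (IsIntegral.of_finite k b).map (Algebra.TensorProduct.includeLeft : k' →ₐ[k] k' ⊗[k] K)
    refine ⟨p.map (gA.comp (algebraMap k P.O)), hpm.map _, ?_⟩
    rw [Polynomial.eval₂_map]
    have h1 : (algebraMap A (k' ⊗[k] K)).comp (gA.comp (algebraMap k P.O)) = algebraMap k (k' ⊗[k] K) :=
      RingHom.ext fun a => f.commutes a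
    rw [h1]
    exact hp

end Groth.Agent.S12527
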