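import Groth.Statements.S12534
import Groth.Agent.FunFld.NsTower
-- import your own Groth.Agent.* helpers here

set_option autoImplicit false
universe u v
open FunFld

namespace Groth.Agent.S12534

/-- Let `K/k` be a geometric function field of one variable, `P` a place of `K`, and `k ⊆ k' ⊆ k''`
finite extensions, `K' = k' ⊗_k K`, `K'' = k'' ⊗_{k'} K'`. Then `P` is nonsingular with respect to
`k''` if and only if `P` is nonsingular with respect to `k'` and every place `Q` of `K'` above `P`
is nonsingular with respect to `k''`. Here 'nonsingular with respect to `k'`' means that the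
integral closure of the valuation ring in `K'` is the ring generated over it by `k'`, both taken
inside `K'` over the image of the valuation ring. -/
theorem result (k k' k'' : Type u) (K K' K'' : Type v) [Field k] [Field k'] [Field k''] [Field K] [Field K'] [Field K'']
    [Algebra k k'] [Algebra k' k''] [Algebra k k''] [IsScalarTower k k' k'']
    [FiniteDimensional k k'] [FiniteDimensional k' k'']
    [Algebra k K] [Algebra K K'] [Algebra k' K'] [Algebra k K'] [IsScalarTower k k' K'] [IsScalarTower k K K']
    [Algebra K' K''] [Algebra k'' K''] [Algebra k' K''] [Algebra k K''] [Algebra K K'']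
    [IsScalarTower k' k'' K''] [IsScalarTower k' K' K''] [IsScalarTower K K' K''] [IsScalarTower k K K'']
    (h1 : Function.Bijective (Algebra.TensorProduct.productMap
      (IsScalarTower.toAlgHom k k' K') (IsScalarTower.toAlgHom k K K')))
    (h2 : Function.Bijective (Algebra.TensorProduct.productMap
      (IsScalarTower.toAlgHom k' k'' K'') (IsScalarTower.toAlgHom k' K' K'')))
    (hK : FunFld.IsFunctionField k K) (hg : FunFld.IsGeometric k K) (P : FunFld.Place k K) :
    (integralClosure (P.O.toSubring.map (algebraMap K K'')) K'' =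
        Algebra.adjoin (P.O.toSubring.map (algebraMap K K'')) (Set.range (algebraMap k'' K''))) ↔
      (integralClosure (P.O.toSubring.map (algebraMap K K')) K' =
          Algebra.adjoin (P.O.toSubring.map (algebraMap K K')) (Set.range (algebraMap k' K')) ∧
        ∀ Q : FunFld.Place k K', FunFld.IsOver Q P →
          integralClosure (Q.O.toSubring.map (algebraMap K' K'')) K'' =
            Algebra.adjoin (Q.O.toSubring.map (algebraMap K' K'')) (Set.range (algebraMap k'' K''))) := by
  classical
  obtain ⟨φ₁, hφ₁, hφt₁⟩ := FunFldLib.exists_constExt_hom h1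
  have : FiniteDimensional K K' := Module.Finite.of_surjective φ₁.toLinearMap hφ₁.2
  obtain ⟨φ₂, hφ₂, hφt₂⟩ := FunFldLib.exists_constExt_hom h2
  have : FiniteDimensional K' K'' := Module.Finite.of_surjective φ₂.toLinearMap hφ₂.2
  have : FiniteDimensional K K'' := Module.Finite.trans K' K''
  have : FiniteDimensional k k'' := Module.Finite.trans k' k''
  have : IsScalarTower k k'' K'' := IsScalarTower.of_algebraMap_eq fun c => by
    rw [IsScalarTower.algebraMap_apply k k' k'', ← IsScalarTower.algebraMap_apply k' k'' K'',
      IsScalarTower.algebraMap_apply k' K' K'', ← IsScalarTower.algebraMap_apply k k' K',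
      IsScalarTower.algebraMap_apply k K K', ← IsScalarTower.algebraMap_apply K K' K'',
      ← IsScalarTower.algebraMap_apply k K K'']
  have : IsScalarTower k K' K'' := IsScalarTower.of_algebraMap_eq fun c => by
    rw [IsScalarTower.algebraMap_apply k K K', ← IsScalarTower.algebraMap_apply K K' K'',
      ← IsScalarTower.algebraMap_apply k K K'']
  let A := FunFldLib.placeAlg P
  let R₁ : Subring K' := P.O.toSubring.map (algebraMap K K')
  let R₂ : Subring K'' := P.O.toSubring.map (algebraMap K K'')
  -- the coefficient ring upstairs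
  let A' : Subalgebra k' K' :=
    { (Algebra.adjoin R₁ (Set.range (algebraMap k' K'))).toSubring.toSubsemiring with
      algebraMap_mem' := fun c => Algebra.subset_adjoin ⟨c, rfl⟩ }
  let R' : Subring K'' := A'.toSubring.map (algebraMap K' K'')
  have hadj : ∀ z : K'', z ∈ Algebra.adjoin R₂ (Set.range (algebraMap k'' K'')) ↔
      z ∈ Algebra.adjoin R' (Set.range (algebraMap k'' K'')) := fun z => by
    constructor
    · intro hz
      induction hz using Algebra.adjoin_induction with
      | mem x hx => exact Algebra.subset_adjoin hx
      | algebraMap r =>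
        obtain ⟨_, a, ha, rfl⟩ := r
        have h0 : algebraMap K K'' a ∈ R' := ⟨algebraMap K K' a,
          Subalgebra.algebraMap_mem (Algebra.adjoin R₁ (Set.range (algebraMap k' K'))) (⟨_, a, ha, rfl⟩ : R₁),
          (IsScalarTower.algebraMap_apply K K' K'' a).symm⟩
        exact Subalgebra.algebraMap_mem _ (⟨_, h0⟩ : R')
      | add u v _ _ hu hv => exact add_mem hu hv
      | mul u v _ _ hu hv => exact mul_mem hu hv
    · intro hz
      induction hz using Algebra.adjoin_induction with
      | mem x hx => exact Algebra.subset_adjoin hx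
      | algebraMap r =>
        obtain ⟨_, a, ha, rfl⟩ := r
        show algebraMap K' K'' a ∈ _
        change a ∈ Algebra.adjoin R₁ (Set.range (algebraMap k' K')) at ha
        induction ha using Algebra.adjoin_induction with
        | mem x hx =>
          obtain ⟨c, rfl⟩ := hx
          rw [← IsScalarTower.algebraMap_apply k' K' K'', IsScalarTower.algebraMap_apply k' k'' K'']
          exact Algebra.subset_adjoin ⟨_, rfl⟩
        | algebraMap s =>
          obtain ⟨_, a, ha, rfl⟩ := s
          show algebraMap K' K'' (algebraMap K K' a) ∈ _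
          rw [← IsScalarTower.algebraMap_apply K K' K'']
          exact Subalgebra.algebraMap_mem (Algebra.adjoin R₂ (Set.range (algebraMap k'' K'')))
            (⟨_, a, ha, rfl⟩ : R₂)
        | add u v _ _ hu hv => rw [map_add]; exact add_mem hu hv
        | mul u v _ _ hu hv => rw [map_mul]; exact mul_mem hu hv
      | add u v _ _ hu hv => exact add_mem hu hv
      | mul u v _ _ hu hv => exact mul_mem hu hv
  let b := Module.finBasis k' k''
  let B := (Algebra.TensorProduct.basis K' b).map (AlgEquiv.ofBijective φ₂ hφ₂).toLinearEquiv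
  have hB : ∀ i, B i = algebraMap k'' K'' (b i) := fun i => by
    show φ₂ ((Algebra.TensorProduct.basis K' b) i) = _
    rw [Algebra.TensorProduct.basis_apply, hφt₂, map_one, one_mul]
  have hcoordP : ∀ z : K'', z ∈ Algebra.adjoin R₂ (Set.range (algebraMap k'' K'')) ↔ ∀ i, B.repr z i ∈ A' :=
    fun z => (hadj z).trans (FunFldLib.mem_adjoin_const_iff hφ₂ hφt₂ b A' z)
  -- a `k'`-algebra version of the valuation rings upstairs
  have hcQ : ∀ (Q : FunFld.Place k K') (c : k'), Q.1 (algebraMap k' K' c) ≤ 1 := fun Q c =>
    FunFldLib.val_algebraic_le_one Q ((IsIntegral.of_finite k c).map (IsScalarTower.toAlgHom k k' K'))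
  let AQ : FunFld.Place k K' → Subalgebra k' K' := fun Q =>
    { Q.O.toSubring.toSubsemiring with algebraMap_mem' := hcQ Q }
  have hcoordQ : ∀ (Q : FunFld.Place k K') (z : K''),
      z ∈ Algebra.adjoin (Q.O.toSubring.map (algebraMap K' K'')) (Set.range (algebraMap k'' K'')) ↔
        ∀ i, Q.1 (B.repr z i) ≤ 1 := fun Q z => FunFldLib.mem_adjoin_const_iff hφ₂ hφt₂ b (AQ Q) z
  have hA'int : ∀ a ∈ A', FunFldLib.IntAbove P a := fun a ha =>
    (FunFldLib.mem_ic_place_iff hK P a).1 (FunFldLib.adjoin_le_integralClosure (k := k) A ha)
  constructor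
  · intro hns
    have hmem : ∀ z : K'', z ∈ integralClosure R₂ K'' → ∀ i, B.repr z i ∈ A' := fun z hz =>
      (hcoordP z).1 (hns ▸ hz)
    refine ⟨le_antisymm (fun z hz => ?_) (FunFldLib.adjoin_le_integralClosure (k := k) A), fun Q hQ => ?_⟩
    · -- descend
      let i₀ : Fin (Module.finrank k' k'') := ⟨0, Module.finrank_pos⟩
      have hw : algebraMap K' K'' z * B i₀ ∈ integralClosure R₂ K'' := by
        refine mul_mem ?_ ?_
        · rw [FunFldLib.mem_ic_place_iff hK] at hz ⊢
          intro R hR
          obtain ⟨Q, e, he⟩ := FunFldLib.exists_below (K := K') R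
          obtain ⟨P', e', he'⟩ := FunFldLib.exists_below (K := K) Q
          have hP : P' = P := FunFldLib.eq_of_isOver ⟨_, FunFldLib.isOverWith_trans he he'⟩ hR
          rw [he]
          exact pow_le_one₀ zero_le (hz Q (hP ▸ ⟨e', he'⟩))
        · rw [hB]
          exact FunFldLib.adjoin_le_integralClosure (k := k) A (Algebra.subset_adjoin ⟨_, rfl⟩)
      have h := hmem _ hw i₀
      rwa [← Algebra.smul_def, map_smul, B.repr_self, Finsupp.smul_apply, Finsupp.single_eq_same, smul_eq_mul,
        mul_one] at h
    · refine le_antisymm (fun z hz => ?_) (FunFldLib.adjoin_le_integralClosure (k := k') (AQ Q))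
      rw [FunFldLib.mem_integralClosure_map_iff] at hz
      obtain ⟨p, hpm, hp⟩ := hz
      set S := (FunFldLib.finite_isOver (K' := K') hK P).toFinset
      obtain ⟨u, hu⟩ := FunFldLib.exists_approx (k := k) (K := K') S (fun R => if R = Q then 1 else 0)
        (fun R => if R = Q then -1 else -∑ i ∈ Finset.range (p.natDegree + 1), |R.ord ((p.coeff i : Q.O) : K')|)
      have huQ : Q.1 u = 1 := by
        have h1 := hu Q ((FunFldLib.finite_isOver hK P).mem_toFinset.2 hQ)
        rw [if_pos rfl, if_pos rfl] at h1
        have h2 : Q.1 (u - 1) < Q.1 1 := by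
          rw [map_one]; exact h1.trans_lt (by rw [← WithZero.exp_zero, WithZero.exp_lt_exp]; norm_num)
        have := Q.1.map_add_eq_of_lt_left h2
        rwa [add_sub_cancel, map_one] at this
      have hscaled : ∀ i ≤ p.natDegree,
          FunFldLib.IntAbove P (((p.coeff i : Q.O) : K') * u ^ (p.natDegree - i)) := fun i hi R hR => by
        rcases eq_or_ne R Q with rfl | hRQ
        · rw [map_mul, map_pow, huQ, one_pow, mul_one]; exact (p.coeff i).2
        rcases eq_or_lt_of_le hi with rfl | hi'
        · rw [hpm.coeff_natDegree]; simp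
        have h1 := hu R ((FunFldLib.finite_isOver hK P).mem_toFinset.2 hR)
        rw [if_neg hRQ, if_neg hRQ, sub_zero] at h1
        set a : K' := ((p.coeff i : Q.O) : K')
        rcases eq_or_ne a 0 with h0 | h0
        · simp [h0]
        rcases eq_or_ne u 0 with hz | hz
        · rw [hz, zero_pow (by omega), mul_zero, map_zero]; exact zero_le
        set M := ∑ j ∈ Finset.range (p.natDegree + 1), |R.ord ((p.coeff j : Q.O) : K')|
        have hle : |R.ord a| ≤ M := Finset.single_le_sum (f := fun j => |R.ord ((p.coeff j : Q.O) : K')|)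
          (fun j _ => abs_nonneg _) (Finset.mem_range.2 (by omega))
        rw [FunFldLib.val_eq_exp R hz, WithZero.exp_le_exp] at h1
        rw [map_mul, map_pow, FunFldLib.val_eq_exp R h0, FunFldLib.val_eq_exp R hz, ← WithZero.exp_nsmul,
          ← WithZero.exp_add, ← WithZero.exp_zero, WithZero.exp_le_exp, nsmul_eq_mul]
        have h3 : (1 : ℤ) ≤ ((p.natDegree - i : ℕ) : ℤ) := by omega
        have := neg_abs_le (R.ord a)
        have := abs_nonneg (R.ord a)
        nlinarith
      let _algP : Algebra P.O K' := ((algebraMap K K').comp P.O.subtype).toAlgebra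
      have : IsScalarTower P.O K K' := IsScalarTower.of_algebraMap_eq fun _ => rfl
      let _algP' : Algebra P.O K'' := ((algebraMap K K'').comp P.O.subtype).toAlgebra
      have : IsScalarTower P.O K' K'' := IsScalarTower.of_algebraMap_eq fun a =>
        IsScalarTower.algebraMap_apply K K' K'' (a : K)
      set w : K'' := algebraMap K' K'' u * z with hw
      have hwint : IsIntegral P.O w := by
        let C := integralClosure P.O K'
        refine isIntegral_trans (A := C) w ?_
        let coef : ℕ → C := fun i => if hi : i ≤ p.natDegree then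
          ⟨_, (FunFldLib.isIntegral_iff_intAbove hK P _).2 (hscaled i hi)⟩ else 0
        refine ⟨Polynomial.X ^ p.natDegree + ∑ i ∈ Finset.range p.natDegree,
          Polynomial.C (coef i) * Polynomial.X ^ i, ?_, ?_⟩
        · refine Polynomial.monic_X_pow_add ((Polynomial.degree_sum_le _ _).trans_lt ?_)
          rw [Finset.sup_lt_iff (WithBot.bot_lt_coe _)]
          intro i hi
          exact (Polynomial.degree_C_mul_X_pow_le _ _).trans_lt (by exact_mod_cast Finset.mem_range.1 hi)
        · rw [Polynomial.eval₂_eq_sum_range] at hp
          have h2 := congrArg (fun s => algebraMap K' K'' u ^ p.natDegree * s) hp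
          simp only [mul_zero] at h2
          rw [Finset.sum_range_succ, hpm.coeff_natDegree, map_one, one_mul, mul_add, Finset.mul_sum, ← mul_pow] at h2
          simp only [Polynomial.eval₂_add, Polynomial.eval₂_X_pow, Polynomial.eval₂_finsetSum, Polynomial.eval₂_mul,
            Polynomial.eval₂_C]
          rw [add_comm, ← h2]
          congr 1
          refine Finset.sum_congr rfl fun i hi => ?_
          rw [Finset.mem_range] at hi
          rw [show algebraMap C K'' (coef i) = algebraMap K' K'' (coef i : K') from rfl]
          simp only [coef, dif_pos hi.le]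
          rw [map_mul, map_pow, hw, mul_pow]
          obtain ⟨l, hl⟩ := Nat.le.dest hi.le
          rw [show p.natDegree - i = l by omega, ← hl, pow_add]
          simp only [RingHom.comp_apply, Subring.coe_subtype]
          ring
      have hwmem : w ∈ integralClosure R₂ K'' := (FunFldLib.mem_integralClosure_map_iff _ _ w).2 hwint
      refine (hcoordQ Q z).2 fun i => ?_
      have h := hA'int _ (hmem w hwmem i) Q hQ
      rwa [hw, ← Algebra.smul_def, map_smul, Finsupp.smul_apply, smul_eq_mul, map_mul, huQ, one_mul] at h
  · rintro ⟨hns, hQs⟩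
    refine le_antisymm (fun z hz => (hcoordP z).2 fun i => ?_) (FunFldLib.adjoin_le_integralClosure (k := k) A)
    show B.repr z i ∈ Algebra.adjoin R₁ (Set.range (algebraMap k' K'))
    rw [← hns, FunFldLib.mem_ic_place_iff hK]
    intro Q hQ
    refine (hcoordQ Q z).1 ?_ i
    rw [← hQs Q hQ, FunFldLib.mem_integralClosure_map_iff]
    rw [FunFldLib.mem_integralClosure_map_iff] at hz
    obtain ⟨p, hpm, hp⟩ := hz
    obtain ⟨e, he⟩ := hQ
    let g : P.O →+* Q.O := ((algebraMap K K').comp P.O.subtype).codRestrict Q.O.toSubring fun a => by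
      show Q.1 (algebraMap K K' (a : K)) ≤ 1
      rw [he]; exact pow_le_one₀ zero_le a.2
    refine ⟨p.map g, hpm.map _, ?_⟩
    rw [Polynomial.eval₂_map]
    have hg' : ((algebraMap K' K'').comp Q.O.toSubring.subtype).comp g = (algebraMap K K'').comp P.O.toSubring.subtype :=
      RingHom.ext fun a => (IsScalarTower.algebraMap_apply K K' K'' (a : K)).symm
    rw [hg']; exact hp

end Groth.Agent.S12534
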