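import Groth.Statements.S12535
import Groth.Agent.FunFld.Hyperelliptic
-- import your own Groth.Agent.* helpers here

set_option autoImplicit false
open FunFld

namespace Groth.Agent.S12535

/-- Let `char k ≠ 2`, `K` of degree `2` over `k(x)`, and `y ∈ K` with `y² = f(x)`, `f` a squarefree
polynomial of degree `≥ 1`. Then a place `P` of `K` is a zero of `y` exactly when it lies over a
finite place of `k(x)` where `f` has a zero, and in that case `ord_P(y) = 1`: the divisor of zeros
of `y` is `Σ P_i`, one place over each irreducible factor of `f`, with multiplicity one. -/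
theorem result (k K : Type*) [Field k] [Field K] (h2 : ringChar k ≠ 2) [Algebra k K]
    [Algebra (RatFunc k) K] [IsScalarTower k (RatFunc k) K]
    (hdeg : Module.finrank (RatFunc k) K = 2) (y : K) (f : Polynomial k) (hf : Squarefree f)
    (hd : 1 ≤ f.natDegree)
    (heq : y ^ 2 = algebraMap (RatFunc k) K (algebraMap (Polynomial k) (RatFunc k) f)) (P : FunFld.Place k K) :
    (0 < P.ord y → P.ord y = 1) ∧
    (0 < P.ord y ↔ ∃ P₀ : FunFld.Place k (RatFunc k), FunFld.IsOver P P₀ ∧ 0 ≤ P₀.ord (RatFunc.X : RatFunc k) ∧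
      0 < P₀.ord (algebraMap (Polynomial k) (RatFunc k) f)) := by
  have : FiniteDimensional (RatFunc k) K := Module.finite_of_finrank_pos (by rw [hdeg]; exact two_pos)
  have hy0 : y ≠ 0 := fun h => FunFldLib.hyper_notMem hf hd heq ⟨0, by rw [map_zero, h]⟩
  have hf0 : f ≠ 0 := by rintro rfl; simp at hd
  have hfR : FunFldLib.polR f ≠ 0 := by simpa [FunFldLib.polR] using hf0
  have hX0 : (RatFunc.X : RatFunc k) ≠ 0 := RatFunc.X_ne_zero
  set P₀ := FunFldLib.below (K := RatFunc k) P
  have hover : IsOver P P₀ := FunFldLib.isOver_below P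
  have he := FunFldLib.isOverWith_ramIdx hover
  have hepos : (0 : ℤ) < (ramIdx P P₀ : ℤ) := by exact_mod_cast FunFldLib.isOverWith_pos he
  have hord : 2 * P.ord y = ramIdx P P₀ * P₀.ord (FunFldLib.polR f) := by
    rw [← FunFldLib.isOverWith_ord he hfR, ← heq, FunFldLib.ord_pow]; norm_num
  have hiff : 0 < P.ord y ↔ 0 < P₀.ord (FunFldLib.polR f) := by
    constructor
    · intro h
      exact pos_of_mul_pos_right (a := (ramIdx P P₀ : ℤ)) (by omega) hepos.le
    · intro h
      have := mul_pos hepos h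
      omega
  have hXle : 0 < P₀.ord (FunFldLib.polR f) → P₀.1 RatFunc.X ≤ 1 := fun h => by
    by_contra hX
    have hlt := (FunFldLib.val_lt_one_iff P₀ hfR).2 h
    rw [FunFldLib.rat_val_pol_inf P₀ (not_le.1 hX) hf0] at hlt
    exact absurd hlt (not_lt.2 (one_le_pow₀ (not_le.1 hX).le))
  refine ⟨fun h => ?_, fun h => ⟨P₀, hover, (FunFldLib.val_le_one_iff P₀ hX0).1 (hXle (hiff.1 h)), hiff.1 h⟩, ?_⟩
  · obtain ⟨p, hp, hpf, hpv⟩ := FunFldLib.rat_exists_prime P₀ hf0 ((FunFldLib.val_lt_one_iff P₀ hfR).2 (hiff.1 h))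
    exact ((FunFldLib.hyper_finite_place hdeg y hf heq hp hpf P₀ hpv).2 P hover).2.2
  · rintro ⟨P₁, hP₁, -, hpos⟩
    rw [FunFldLib.eq_of_isOver hP₁ hover] at hpos
    exact hiff.2 hpos

end Groth.Agent.S12535
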