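import Groth.Statements.S12545
import Groth.Agent.LamMu.Basic

set_option autoImplicit false
universe u
open TensorProduct LaurentPolynomial
open GIT

namespace Groth.Agent.S12545

/-- Let a commutative bialgebra A over a field k coact linearly on affine ι-space, let λ be a
one-parameter subgroup (a bialgebra map to the Laurent polynomial ring) and v ≠ 0 a vector; write
μ(v, λ) = m when t^m · (v moved by λ(t)) extends to the affine line with non-zero value at t = 0.
Then v moved by λ(t) has no limit as t → 0 exactly when μ(v, λ) > 0, has a limit different from the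
origin exactly when μ(v, λ) = 0, and tends to the origin exactly when μ(v, λ) < 0. -/
theorem result (k : Type u) [Field k] (A : Type u) [CommRing A] [Bialgebra k A]
    (ι : Type u) [Fintype ι] [HopfRep.Comod k A (MvPolynomial ι k)] [GLin.IsCoactAlg k A (MvPolynomial ι k)]
    (hlin : GLin.IsLinear k A ι) (lam : A →ₐc[k] k[T;T⁻¹]) (v : ι → k) (hv : v ≠ 0) :
    (¬ GLin.HasLimit k A lam (GLin.vecPt k ι v) ↔ ∃ m : ℤ, GLin.IsMu k A lam v m ∧ 0 < m) ∧
      ((GLin.HasLimit k A lam (GLin.vecPt k ι v) ∧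
          ¬ GLin.IsLimit k A lam (GLin.vecPt k ι v) (GLin.vecPt k ι (fun _ => (0 : k)))) ↔
        GLin.IsMu k A lam v 0) ∧
      (GLin.IsLimit k A lam (GLin.vecPt k ι v) (GLin.vecPt k ι (fun _ => (0 : k))) ↔
        ∃ m : ℤ, GLin.IsMu k A lam v m ∧ m < 0) := by
  obtain ⟨m, hm⟩ := Groth.Agent.LamMu.exists_isMu lam v hv
  obtain ⟨hlow, i, hi⟩ := (Groth.Agent.LamMu.isMu_iff lam v m).1 hm
  have huniq : ∀ m', GLin.IsMu k A lam v m' → m' = m := fun m' h => Groth.Agent.LamMu.isMu_unique lam v h hm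
  have hHas : GLin.HasLimit k A lam (GLin.vecPt k ι v) ↔ m ≤ 0 := by
    rw [Groth.Agent.LamMu.hasLimit_iff]
    refine ⟨fun h => ?_, fun h j n hn => hlow j n (by omega)⟩
    by_contra hc
    exact hi (h i _ (by omega))
  have hZero : GLin.IsLimit k A lam (GLin.vecPt k ι v) (GLin.vecPt k ι (fun _ => (0 : k))) ↔ m < 0 := by
    rw [Groth.Agent.LamMu.isLimit_zero_iff]
    refine ⟨fun h => ?_, fun h => ⟨fun j n hn => hlow j n (by omega), fun j => hlow j 0 (by omega)⟩⟩
    rcases lt_trichotomy m 0 with hc | hc | hc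
    · exact hc
    · exact absurd (h.2 i) (by simpa [hc] using hi)
    · exact absurd (h.1 i _ (by omega)) hi
  refine ⟨⟨fun h => ⟨m, hm, by rw [hHas] at h; omega⟩, ?_⟩, ⟨fun h => ?_, fun h => ?_⟩,
    ⟨fun h => ⟨m, hm, hZero.1 h⟩, ?_⟩⟩
  · rintro ⟨m', h', hlt⟩
    have := huniq _ h'
    rw [hHas]; omega
  · rw [hHas, hZero] at h
    rwa [show m = 0 by omega] at hm
  · have := huniq _ h
    rw [hHas, hZero]; omega
  · rintro ⟨m', h', hlt⟩
    rw [hZero, ← huniq _ h']; exact hlt

end Groth.Agent.S12545
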