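import Groth.Statements.S12549
import Mathlib

set_option autoImplicit false
universe u
open GIT

namespace Groth.Agent.S12549

section

variable {n : ℕ}

/-- The chain sum of a chain starting at `i`. -/
def Chain (e r : Fin (n + 1) → ℝ) (i : Fin (n + 1)) (C : ℝ) : Prop :=
  ∃ (μ : ℕ) (c : Fin (μ + 1) → Fin (n + 1)), StrictMono c ∧ c 0 = i ∧ c (Fin.last μ) = Fin.last n ∧
    ∑ j : Fin μ, (e (c j.succ) - e (c j.castSucc)) * (r (c j.succ) + r (c j.castSucc)) = C

theorem chain_cons {e r : Fin (n + 1) → ℝ} {i j : Fin (n + 1)} {C : ℝ} (hij : i < j) (h : Chain e r j C) :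
    Chain e r i ((e j - e i) * (r j + r i) + C) := by
  obtain ⟨μ, c, hc, h0, hl, hs⟩ := h
  refine ⟨μ + 1, Fin.cons i c, Fin.strictMono_iff_lt_succ.2 fun k => ?_, Fin.cons_zero _ _, ?_, ?_⟩
  · induction k using Fin.cases with
    | zero => simpa [h0] using hij
    | succ k =>
      rw [Fin.cons_succ, Fin.castSucc_succ, Fin.cons_succ]
      exact hc Fin.castSucc_lt_succ
  · rw [← Fin.succ_last, Fin.cons_succ, hl]
  · rw [Fin.sum_univ_succ]
    simp only [Fin.cons_succ, Fin.castSucc_succ, Fin.castSucc_zero, Fin.cons_zero, h0]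
    rw [← hs]

/-- Data of the lower convex hull to the right of `i`. -/
def HullData (x e r : Fin (n + 1) → ℝ) (i : Fin (n + 1)) : Prop :=
  ∃ (c : Fin (n + 1) → ℝ) (C : ℝ), (∀ k, 0 ≤ c k) ∧ (∀ k, k ≤ i → c k = 0) ∧
    r i = r (Fin.last n) + ∑ k, c k * max (x k - x i) 0 ∧
    (∀ q, i ≤ q → r (Fin.last n) + ∑ k, c k * max (x k - x q) 0 ≤ r q) ∧
    (i = Fin.last n ∨ ∃ q, i < q ∧ (∀ k, k < q → c k = 0) ∧
      r q = r (Fin.last n) + ∑ k, c k * max (x k - x q) 0) ∧
    Chain e r i C ∧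
    C ≤ 2 * (x (Fin.last n) - x i) * r (Fin.last n) + (∑ k, c k * (max (x k - x i) 0) ^ 2) +
      2 * r i * (x i - e i)

theorem hullData (x e r : Fin (n + 1) → ℝ) (hx : StrictMono x) (hr : Antitone r) (hex : ∀ k, e k ≤ x k)
    (hlast : e (Fin.last n) = x (Fin.last n)) : ∀ (d : ℕ) (i : Fin (n + 1)), n - (i : ℕ) ≤ d → HullData x e r i := by
  classical
  intro d
  induction d using Nat.strong_induction_on with
  | _ d ih =>
    intro i hd
    by_cases hi : i = Fin.last n
    · subst hi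
      refine ⟨0, 0, fun _ => le_rfl, fun _ _ => rfl, by simp, fun q hq => ?_, Or.inl rfl,
        ⟨0, fun _ => Fin.last n, Fin.strictMono_iff_lt_succ.2 fun k => k.elim0, rfl, rfl, by simp⟩, by
          simp [hlast]⟩
      obtain rfl := le_antisymm hq (Fin.le_last q)
      simp
    have hilast : i < Fin.last n := lt_of_le_of_ne (Fin.le_last i) hi
    let sl : Fin (n + 1) → ℝ := fun k => (r k - r i) / (x k - x i)
    obtain ⟨j, hj, hmin⟩ := (Finset.univ.filter fun k => i < k).exists_min_image sl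
      ⟨Fin.last n, by simp [hilast]⟩
    simp only [Finset.mem_filter, Finset.mem_univ, true_and] at hj hmin
    have hsl : ∀ k, i < k → r i + sl j * (x k - x i) ≤ r k := by
      intro k hk
      have hd' := sub_pos.2 (hx hk)
      have := mul_le_mul_of_nonneg_right (hmin k hk) hd'.le
      simp only [sl, div_mul_cancel₀ _ hd'.ne'] at this ⊢
      linarith
    have hD := sub_pos.2 (hx hj)
    have hrj : r j = r i + sl j * (x j - x i) := by
      simp only [sl, div_mul_cancel₀ _ hD.ne']; ring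
    obtain ⟨c, C, hc0, hcz, hcj, hle, hlin, hchain, hC⟩ :=
      ih (n - (j : ℕ)) (by have : (i : ℕ) < (j : ℕ) := hj; have := j.isLt; omega) j le_rfl
    set S := ∑ k, c k with hS
    have key : ∀ (q j' : Fin (n + 1)), q ≤ j' → (∀ k, k < j' → c k = 0) →
        ∑ k, c k * max (x k - x q) 0 = (∑ k, c k * max (x k - x j') 0) + S * (x j' - x q) := by
      intro q j' hq hz
      rw [hS, Finset.sum_mul, ← Finset.sum_add_distrib]
      refine Finset.sum_congr rfl fun k _ => ?_
      rcases lt_or_ge k j' with hk | hk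
      · rw [hz k hk]; ring
      · rw [max_eq_left (sub_nonneg.2 (hx.monotone (hq.trans hk))),
          max_eq_left (sub_nonneg.2 (hx.monotone hk))]
        ring
    have hcoef : 0 ≤ -sl j - S := by
      rcases hlin with rfl | ⟨q, hq, hqz, hqr⟩
      · have hS0 : S = 0 := Finset.sum_eq_zero fun k _ => hcz k (Fin.le_last k)
        rw [hS0, sub_zero, Left.nonneg_neg_iff]
        exact div_nonpos_of_nonpos_of_nonneg (sub_nonpos.2 (hr hj.le)) hD.le
      · have h1 := key j q hq.le hqz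
        have h2 := hsl q (hj.trans hq)
        have hDq := sub_pos.2 (hx hq)
        have : sl j * (x q - x j) ≤ -S * (x q - x j) := by linarith
        have := le_of_mul_le_mul_right this hDq
        linarith
    set δ := -sl j - S
    have hzj : ∀ k, k < j → c k = 0 := fun k hk => hcz k hk.le
    have hupd : ∀ (f : Fin (n + 1) → ℝ), ∑ k, (c + Pi.single j δ : Fin (n + 1) → ℝ) k * f k =
        (∑ k, c k * f k) + δ * f j := fun f => by
      simp only [Pi.add_apply, add_mul, Finset.sum_add_distrib]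
      congr 1
      rw [Finset.sum_eq_single j (fun k _ hk => by rw [Pi.single_eq_of_ne hk, zero_mul]) (by simp),
        Pi.single_eq_same]
    have hline : ∀ q, q ≤ j → r (Fin.last n) + ∑ k, (c + Pi.single j δ : Fin (n + 1) → ℝ) k * max (x k - x q) 0 =
        r j - sl j * (x j - x q) := by
      intro q hq
      rw [hupd, key q j hq hzj, max_eq_left (sub_nonneg.2 (hx.monotone hq)), ← add_assoc, ← add_assoc, ← hcj]
      simp only [δ]; ring
    refine ⟨c + Pi.single j δ, (e j - e i) * (r j + r i) + C, fun k => ?_, fun k hk => ?_, ?_, fun q hq => ?_,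
      Or.inr ⟨j, hj, fun k hk => ?_, ?_⟩, chain_cons hj hchain, ?_⟩
    · exact add_nonneg (hc0 k) (by
        by_cases hk : k = j
        · subst hk; rw [Pi.single_eq_same]; exact hcoef
        · rw [Pi.single_eq_of_ne hk])
    · rw [Pi.add_apply, hzj k (hk.trans_lt hj), Pi.single_eq_of_ne (hk.trans_lt hj).ne, add_zero]
    · rw [hline i hj.le]; linarith
    · rcases le_or_gt q j with hqj | hqj
      · rw [hline q hqj]
        rcases hq.eq_or_lt with rfl | hq'
        · linarith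
        · have := hsl q hq'
          linarith
      · rw [hupd, max_eq_right (sub_nonpos.2 (hx hqj).le), mul_zero, add_zero]
        exact hle q hqj.le
    · rw [Pi.add_apply, hzj k hk, Pi.single_eq_of_ne hk.ne, add_zero]
    · rw [hline j le_rfl]; ring
    · have h1 : ∑ k, c k * (max (x k - x i) 0) ^ 2 = (∑ k, c k * (max (x k - x j) 0) ^ 2) +
          2 * (x j - x i) * (∑ k, c k * max (x k - x j) 0) + S * (x j - x i) ^ 2 := by
        rw [hS, Finset.mul_sum, Finset.sum_mul, ← Finset.sum_add_distrib, ← Finset.sum_add_distrib]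
        refine Finset.sum_congr rfl fun k _ => ?_
        rcases lt_or_ge k j with hk | hk
        · rw [hzj k hk]; ring
        · rw [max_eq_left (sub_nonneg.2 (hx.monotone (hj.le.trans hk))),
            max_eq_left (sub_nonneg.2 (hx.monotone hk))]
          ring
      rw [hupd, h1, max_eq_left (sub_nonneg.2 (hx hj).le)]
      have hm1 : 0 ≤ (x j - e j) * (r i - r j) :=
        mul_nonneg (sub_nonneg.2 (hex j)) (sub_nonneg.2 (hr hj.le))
      have hm2 : 0 ≤ (x i - e i) * (r i - r j) :=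
        mul_nonneg (sub_nonneg.2 (hex i)) (sub_nonneg.2 (hr hj.le))
      have hS' : δ = -sl j - S := rfl
      have hsum : (∑ k, c k * max (x k - x j) 0) = r j - r (Fin.last n) := by linarith
      rw [hsum, hS']
      have hsub : r i = r j - sl j * (x j - x i) := by linarith
      rw [hsub] at hm1 hm2 ⊢
      nlinarith

theorem moment_lt (n g t : ℕ) (hg : 1 ≤ g) (hn : 2 * g ≤ n) (ht : t ≤ n) (x : Fin (n + 1) → ℝ)
    (hx : ∀ k : Fin (n + 1), x k = if (k : ℕ) ≤ n - g then ((k : ℕ) : ℝ) else ((k : ℕ) : ℝ) + g)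
    (ht0 : 0 < t) (T : ℝ) (hT : T = if t ≤ n - g then (t : ℝ) else (t : ℝ) + g) :
    ((n : ℝ) + 1) * T ^ 2 < 2 * ((n : ℝ) + g) * ∑ k, max (T - x k) 0 := by
  have hsum : ∑ k, max (T - x k) 0 =
      ∑ k ∈ Finset.range t, (T - if k ≤ n - g then (k : ℝ) else (k : ℝ) + g) := by
    simp only [hx]
    rw [Fin.sum_univ_eq_sum_range (fun k => max (T - if k ≤ n - g then (k : ℝ) else (k : ℝ) + g) 0),
      ← Finset.sum_range_add_sum_Ico _ (by omega : t ≤ n + 1)]
    have h2 : ∀ k ∈ Finset.Ico t (n + 1), max (T - if k ≤ n - g then (k : ℝ) else (k : ℝ) + g) 0 = 0 := by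
      intro k hk
      rw [Finset.mem_Ico] at hk
      have hk' : (t : ℝ) ≤ k := Nat.cast_le.2 hk.1
      have hg' : (0 : ℝ) ≤ g := Nat.cast_nonneg g
      refine max_eq_right ?_
      rw [hT]
      split_ifs <;> first | linarith | omega
    rw [Finset.sum_eq_zero h2, add_zero]
    refine Finset.sum_congr rfl fun k hk => max_eq_left ?_
    rw [Finset.mem_range] at hk
    have hk' : (k : ℝ) ≤ t := Nat.cast_le.2 hk.le
    have hg' : (0 : ℝ) ≤ g := Nat.cast_nonneg g
    rw [hT]
    split_ifs <;> first | linarith | omega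
  rw [hsum]
  have gauss : ∀ s : ℕ, 2 * ∑ k ∈ Finset.range s, (k : ℝ) = (s : ℝ) * ((s : ℝ) - 1) := by
    intro s
    induction s with
    | zero => simp
    | succ s ih => rw [Finset.sum_range_succ, mul_add, ih]; push_cast; ring
  have hg1 : (1 : ℝ) ≤ g := Nat.one_le_cast.2 hg
  have hn1 : 2 * (g : ℝ) ≤ n := by exact_mod_cast hn
  have ht1 : (1 : ℝ) ≤ t := Nat.one_le_cast.2 ht0
  have ht2 : (t : ℝ) ≤ n := Nat.cast_le.2 ht
  rw [Finset.sum_sub_distrib, Finset.sum_const, Finset.card_range, nsmul_eq_mul]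
  rcases Nat.lt_or_ge (n - g) t with hlt | hle
  · rw [if_neg (by omega)] at hT
    have hsplit : (∑ k ∈ Finset.range t, if k ≤ n - g then (k : ℝ) else (k : ℝ) + g) =
        (∑ k ∈ Finset.range t, (k : ℝ)) + ((t : ℝ) - ((n : ℝ) - g + 1)) * g := by
      obtain ⟨l, rfl⟩ : ∃ l, t = n - g + 1 + l := ⟨t - (n - g + 1), by omega⟩
      rw [Finset.sum_range_add, Finset.sum_range_add (fun k => (k : ℝ))]
      rw [Finset.sum_congr rfl fun k hk => if_pos (by rw [Finset.mem_range] at hk; omega),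
        Finset.sum_congr rfl fun k (_ : k ∈ Finset.range l) => if_neg (by omega : ¬ n - g + 1 + k ≤ n - g),
        Finset.sum_add_distrib, Finset.sum_const, Finset.card_range, nsmul_eq_mul]
      push_cast [Nat.cast_sub (by omega : g ≤ n)]
      ring
    rw [hsplit, hT]
    have := gauss t
    have h1 : 0 ≤ ((g : ℝ) - 1) * ((n : ℝ) - t) ^ 2 := mul_nonneg (by linarith) (sq_nonneg _)
    have h2 : 0 ≤ ((n : ℝ) - t) * ((n : ℝ) + g) := mul_nonneg (by linarith) (by linarith)
    have h3 : 0 < ((n : ℝ) + g) * (((n : ℝ) + 1) * g - 2 * g * g) :=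
      mul_pos (by linarith) (by nlinarith)
    nlinarith
  · rw [if_pos (by omega)] at hT
    rw [Finset.sum_congr rfl fun k hk => if_pos (by rw [Finset.mem_range] at hk; omega), hT]
    have := gauss t
    have h1 : 0 ≤ ((g : ℝ) - 1) * (t : ℝ) ^ 2 := mul_nonneg (by linarith) (sq_nonneg _)
    have h2 : 0 < ((n : ℝ) + g) * t := mul_pos (by linarith) (by linarith)
    nlinarith

end

/-- Let g ≥ 1 and n ≥ 2g, and let e_0, …, e_n be natural numbers with e_0 = 0, e_n = n + g, e_0 ≤ … ≤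
e_n, e_i ≤ i for i ≤ n − g and e_i ≤ i + g for all i. Then for all real r_0 ≥ r_1 ≥ … ≥ r_n with Σ
r_i = 0, not all zero, some chain 0 = c_0 < c_1 < … < c_μ = n has Σ_j (e_(c_(j+1)) − e_(c_j)) ·
(r_(c_(j+1)) + r_(c_j)) < 0. -/
theorem result (n g : ℕ) (hg : 1 ≤ g) (hn : 2 * g ≤ n)
    (e : Fin (n + 1) → ℕ) (he0 : e 0 = 0) (hen : e (Fin.last n) = n + g) (hmono : Monotone e)
    (hle : ∀ i : Fin (n + 1), (i : ℕ) ≤ n - g → e i ≤ (i : ℕ)) (hle' : ∀ i : Fin (n + 1), e i ≤ (i : ℕ) + g)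
    (r : Fin (n + 1) → ℝ) (hanti : Antitone r) (hsum : ∑ i, r i = 0) (hr : r ≠ 0) :
    ∃ (μ : ℕ) (c : Fin (μ + 1) → Fin (n + 1)), StrictMono c ∧ c 0 = 0 ∧ c (Fin.last μ) = Fin.last n ∧
      ∑ j : Fin μ, ((e (c j.succ) : ℝ) - (e (c j.castSucc) : ℝ)) * (r (c j.succ) + r (c j.castSucc)) < 0 := by
  classical
  let x : Fin (n + 1) → ℝ := fun k => if (k : ℕ) ≤ n - g then ((k : ℕ) : ℝ) else ((k : ℕ) : ℝ) + g
  have hx : StrictMono x := fun a b hab => by
    have h1 : ((a : ℕ) : ℝ) < (b : ℕ) := Nat.cast_lt.2 hab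
    have h2 : (a : ℕ) < (b : ℕ) := hab
    have h3 : (0 : ℝ) ≤ g := Nat.cast_nonneg g
    simp only [x]
    split_ifs <;> first | linarith | omega
  have hex : ∀ k, (e k : ℝ) ≤ x k := fun k => by
    simp only [x]
    split_ifs with h
    · exact_mod_cast hle k h
    · exact_mod_cast hle' k
  have hL : x (Fin.last n) = (n : ℝ) + g := by
    simp only [x, Fin.val_last]
    rw [if_neg (by omega)]
  have hlast : (e (Fin.last n) : ℝ) = x (Fin.last n) := by rw [hL, hen]; push_cast; rfl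
  have hx0 : x 0 = 0 := by simp [x]
  obtain ⟨c, C, hc0, hcz, hci, hlow, -, ⟨μ, ch, hmono', hch0, hchl, hchs⟩, hC⟩ :=
    hullData x (fun k => (e k : ℝ)) r hx hanti hex hlast n 0 (by simp)
  refine ⟨μ, ch, hmono', hch0, hchl, ?_⟩
  rw [hchs]
  simp only [hx0, sub_zero, he0, Nat.cast_zero, mul_zero, add_zero, hL] at hC hci
  refine lt_of_le_of_lt hC ?_
  set ρ := r (Fin.last n)
  -- the hull lies below `r`
  have hA : ((n : ℝ) + 1) * ρ + ∑ k, c k * ∑ q, max (x k - x q) 0 ≤ 0 := by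
    have h := Finset.sum_le_sum fun q (_ : q ∈ (Finset.univ : Finset (Fin (n + 1)))) => hlow q (Fin.zero_le q)
    rw [hsum, Finset.sum_add_distrib, Finset.sum_comm, Finset.sum_const, Finset.card_univ, Fintype.card_fin,
      nsmul_eq_mul] at h
    simp only [← Finset.mul_sum] at h
    push_cast at h
    exact h
  have hxk : ∀ k, max (x k) 0 = x k := fun k => max_eq_left (hx0 ▸ hx.monotone (Fin.zero_le k))
  simp only [hxk] at hci ⊢
  have hmom : ∀ k, k ≠ 0 → ((n : ℝ) + 1) * x k ^ 2 < 2 * ((n : ℝ) + g) * ∑ q, max (x k - x q) 0 := fun k hk =>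
    moment_lt n g k hg hn (Nat.lt_succ_iff.1 k.isLt) x (fun _ => rfl) (Fin.pos_iff_ne_zero.2 hk) (x k) rfl
  obtain ⟨k₁, hk₁⟩ : ∃ k, c k ≠ 0 := by
    by_contra hall
    push Not at hall
    simp only [hall, zero_mul, Finset.sum_const_zero, add_zero] at hci
    have hconst : ∀ k, r k = ρ := fun k =>
      le_antisymm (hci ▸ hanti (Fin.zero_le k)) (hanti (Fin.le_last k))
    simp only [hconst, Finset.sum_const, Finset.card_univ, Fintype.card_fin, nsmul_eq_mul] at hsum
    rcases mul_eq_zero.1 hsum with h | h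
    · exact absurd h (Nat.cast_ne_zero.2 n.succ_ne_zero)
    · exact hr (funext fun k => (hconst k).trans h)
  have hlt : ∑ k, c k * (((n : ℝ) + 1) * x k ^ 2) < ∑ k, c k * (2 * ((n : ℝ) + g) * ∑ q, max (x k - x q) 0) := by
    refine Finset.sum_lt_sum (fun k _ => ?_) ⟨k₁, Finset.mem_univ _, ?_⟩
    · rcases eq_or_ne (c k) 0 with h | h
      · rw [h, zero_mul, zero_mul]
      · exact mul_le_mul_of_nonneg_left (hmom k fun h0 => h (hcz k h0.le)).le (hc0 k)
    · exact mul_lt_mul_of_pos_left (hmom k₁ fun h0 => hk₁ (hcz k₁ h0.le)) ((hc0 k₁).lt_of_ne' hk₁)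
  have e1 : ∑ k, c k * (((n : ℝ) + 1) * x k ^ 2) = ((n : ℝ) + 1) * ∑ k, c k * x k ^ 2 := by
    rw [Finset.mul_sum]; exact Finset.sum_congr rfl fun k _ => by ring
  have e2 : ∑ k, c k * (2 * ((n : ℝ) + g) * ∑ q, max (x k - x q) 0) =
      2 * ((n : ℝ) + g) * ∑ k, c k * ∑ q, max (x k - x q) 0 := by
    rw [Finset.mul_sum (a := 2 * ((n : ℝ) + g))]; exact Finset.sum_congr rfl fun k _ => by ring
  rw [e1, e2] at hlt
  have hn1 : (0 : ℝ) < (n : ℝ) + 1 := by positivity
  have hA' := mul_le_mul_of_nonneg_left hA (by positivity : (0 : ℝ) ≤ 2 * ((n : ℝ) + g))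
  by_contra hneg
  push Not at hneg
  have := mul_le_mul_of_nonneg_left hneg hn1.le
  linarith


end Groth.Agent.S12549
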