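import Groth.Statements.S12550
import Mathlib
-- import your own Groth.Agent.* helpers here

set_option autoImplicit false
universe u
open GIT

namespace Groth.Agent.S12550

/-- Let V be a finite-dimensional vector space over a field K and x_0, …, x_m non-zero vectors, a
configuration of m + 1 points of the projective space P(V). If for every subspace L with 0 ≠ L ≠ V
the number of indices i with x_i ∈ L, multiplied by dim V, is less than dim L · (m + 1) (the
configuration is stable), then no two proper subspaces L', L'' with L' ∩ L'' = 0 contain between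
them all the x_i. -/
theorem result (K : Type u) [Field K]
    (V : Type u) [AddCommGroup V] [Module K V] [FiniteDimensional K V]
    (m : ℕ) (x : Fin (m + 1) → V) (hx : ∀ i, x i ≠ 0)
    (hst : ∀ L : Submodule K V, L ≠ ⊥ → L ≠ ⊤ →
      Set.ncard {i : Fin (m + 1) | x i ∈ L} * Module.finrank K V < Module.finrank K L * (m + 1)) :
    ¬ ∃ L' L'' : Submodule K V, L' ≠ ⊤ ∧ L'' ≠ ⊤ ∧ Disjoint L' L'' ∧ ∀ i, x i ∈ L' ∨ x i ∈ L'' := by
  classical
  rintro ⟨L', L'', h', h'', hd, hcov⟩
  have hne : ∀ L M : Submodule K V, L ≠ ⊤ → M ≠ ⊤ → (∀ i, x i ∈ L ∨ x i ∈ M) → L ≠ ⊥ := by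
    rintro L M - hM hc rfl
    have hall : ∀ i, x i ∈ M := fun i => (hc i).resolve_left fun h => hx i h
    have hM0 : M ≠ ⊥ := fun e => hx 0 (by simpa [e] using hall 0)
    have h1 := hst M hM0 hM
    rw [show {i : Fin (m + 1) | x i ∈ M} = Set.univ from Set.eq_univ_of_forall hall,
      Set.ncard_univ, Nat.card_fin] at h1
    have h2 := Submodule.finrank_le M
    have h3 : Module.finrank K M * (m + 1) ≤ Module.finrank K V * (m + 1) :=
      Nat.mul_le_mul_right _ h2
    rw [mul_comm (m + 1)] at h1
    omega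
  have hb' := hne L' L'' h' h'' hcov
  have hb'' := hne L'' L' h'' h' fun i => (hcov i).symm
  have a' := hst L' hb' h'
  have a'' := hst L'' hb'' h''
  have hsum : m + 1 ≤ Set.ncard {i : Fin (m + 1) | x i ∈ L'} + Set.ncard {i : Fin (m + 1) | x i ∈ L''} := by
    have h1 := Set.ncard_union_le {i : Fin (m + 1) | x i ∈ L'} {i : Fin (m + 1) | x i ∈ L''}
    rwa [show {i : Fin (m + 1) | x i ∈ L'} ∪ {i : Fin (m + 1) | x i ∈ L''} = Set.univ from
      Set.eq_univ_of_forall hcov, Set.ncard_univ, Nat.card_fin] at h1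
  have hdim := Submodule.finrank_add_finrank_le_of_disjoint hd
  nlinarith

end Groth.Agent.S12550
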