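import Groth.Statements.S12553
import Mathlib.RingTheory.Coalgebra.GroupLike
import Mathlib.LinearAlgebra.TensorProduct.Basis
import Mathlib.LinearAlgebra.Basis.Basic
import Mathlib.Algebra.Polynomial.Laurent
import Mathlib.Algebra.MvPolynomial.Basic
-- import your own Groth.Agent.* helpers here

set_option autoImplicit false
universe u
open TensorProduct LaurentPolynomial
open GIT

namespace Groth.Agent.S12553

/-- Let k be a field and T = Spec A a diagonalizable affine group (A a commutative Hopf algebra spanned
by its group-like elements, e.g. a torus) acting linearly on affine ι-space. Then there are finitely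
many characters χ_1, …, χ_N of T (group-like elements of A) such that every vector v ≠ 0 has a
non-empty set I of indices for which, for every one-parameter subgroup λ of T with λ(χ_j) = t^(e_j),
the numerical function μ(v, λ) (the m for which t^m · (v moved by λ(t)) tends to a non-zero vector)
equals the maximum of −e_j over j ∈ I: μ is the maximum of finitely many linear functionals on
one-parameter subgroups. (The published proposition concerns a maximal torus of a reductive group
acting on a proper scheme with an ample linearised invertible sheaf; this row is the case of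
projective space with the hyperplane bundle, for any diagonalizable group acting linearly, stated on
the affine cone.) -/
theorem result (k : Type u) [Field k]
    (A : Type u) [CommRing A] [HopfAlgebra k A] (hdiag : HopfRep.IsDiagonalizable k A)
    (ι : Type u) [Fintype ι] [HopfRep.Comod k A (MvPolynomial ι k)] [GLin.IsCoactAlg k A (MvPolynomial ι k)]
    (hlin : GLin.IsLinear k A ι) :
    ∃ (N : ℕ) (χ : Fin N → A), (∀ j, IsGroupLikeElem k (χ j)) ∧
      ∀ v : ι → k, v ≠ 0 → ∃ I : Finset (Fin N), I.Nonempty ∧
        ∀ (lam : A →ₐc[k] k[T;T⁻¹]) (e : Fin N → ℤ), (∀ j, lam (χ j) = LaurentPolynomial.T (e j)) →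
          ∀ m : ℤ, GLin.IsMu k A lam v m ↔ ((∀ j ∈ I, -e j ≤ m) ∧ ∃ j ∈ I, m = -e j) := by
  classical
  choose μ hμ using hlin
  let s : Set A := {a : A | IsGroupLikeElem k a}
  have hli : LinearIndependent k (fun g : s => (g : A)) := linearIndepOn_isGroupLikeElem
  let b : Module.Basis s k A := Module.Basis.mk hli (by rw [Subtype.range_coe_subtype]; exact hdiag.ge)
  have hb : ∀ g : s, b g = (g : A) := fun g => Module.Basis.mk_apply _ _ g
  let S : Finset s := Finset.univ.biUnion fun i => Finset.univ.biUnion fun j => (b.repr (μ i j)).support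
  let en : S ≃ Fin S.card := S.equivFin
  refine ⟨S.card, fun j => ((en.symm j : s) : A), fun j => (en.symm j : s).2, fun v hv => ?_⟩
  let u : ι → A := fun i => ∑ j, v j • μ i j
  have hu : ∀ i, GLin.orbitHom k A (GLin.vecPt k ι v) (MvPolynomial.X i) = u i := by
    intro i
    simp [GLin.orbitHom, hμ, map_sum, u]
  let w : s → ι → k := fun g i => b.repr (u i) g
  have hsupp : ∀ i, (b.repr (u i)).support ⊆ S := by
    intro i g hg
    simp only [u, map_sum, map_smul] at hg
    obtain ⟨j, _, hj⟩ := Finset.mem_biUnion.1 (Finsupp.support_finsetSum hg)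
    exact Finset.mem_biUnion.2 ⟨i, Finset.mem_univ i, Finset.mem_biUnion.2 ⟨j, Finset.mem_univ j, Finsupp.support_smul hj⟩⟩
  have hexp : ∀ i, u i = ∑ g ∈ S, w g i • (g : A) := by
    intro i
    conv_lhs => rw [← b.linearCombination_repr (u i)]
    rw [Finsupp.linearCombination_apply]
    refine (Finsupp.sum_of_support_subset (b.repr (u i)) (hsupp i) (fun g a => a • b g) (fun g _ => zero_smul k (b g))).trans ?_
    exact Finset.sum_congr rfl fun g _ => by rw [hb]
  -- coassociativity
  have hco : ∀ i, CoalgebraStruct.comul (R := k) (u i) = ∑ j, u j ⊗ₜ[k] μ i j := by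
    intro i
    have h := LinearMap.congr_fun (HopfRep.Comod.coassoc (k := k) (A := A) (V := MvPolynomial ι k)) (MvPolynomial.X i)
    have h2 := congrArg (fun z => (TensorProduct.lid k (A ⊗[k] A)).toLinearMap
      ((GLin.vecPt k ι v).toLinearMap.rTensor (A ⊗[k] A) z)) h
    simp only [LinearMap.comp_apply, hμ, map_sum, LinearMap.rTensor_tmul, LinearMap.lTensor_tmul,
      TensorProduct.sum_tmul, LinearEquiv.coe_coe, TensorProduct.assoc_tmul, TensorProduct.lid_tmul,
      AlgHom.toLinearMap_apply, MvPolynomial.aeval_X, TensorProduct.smul_tmul'] at h2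
    simp only [u, map_sum, map_smul, TensorProduct.sum_tmul]
    exact h2.symm
  have hproj : ∀ (g g' : s) (i : ι), ∑ j, w g j * b.repr (μ i j) g' = if g = g' then w g i else 0 := by
    intro g g' i
    let Φ : A ⊗[k] A →ₗ[k] k := (LinearMap.mul' k k).comp (TensorProduct.map (b.coord g) (b.coord g'))
    have hΦ : Φ.comp (CoalgebraStruct.comul (R := k)) = if g = g' then b.coord g else 0 := by
      refine b.ext fun q => ?_
      rw [LinearMap.comp_apply, hb, (q.2 : IsGroupLikeElem k (q : A)).comul_eq_tmul_self, ← hb]
      simp only [Φ, LinearMap.comp_apply, TensorProduct.map_tmul, LinearMap.mul'_apply, Module.Basis.coord_apply,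
        Module.Basis.repr_self]
      by_cases hgg : g = g'
      · subst hgg
        by_cases hq : q = g
        · subst hq; simp
        · simp [hq]
      · by_cases hq : q = g
        · subst hq; simp [hgg]
        · simp [hq, hgg]
    have := LinearMap.congr_fun hΦ (u i)
    rw [LinearMap.comp_apply, hco] at this
    simp only [Φ, map_sum, LinearMap.comp_apply, TensorProduct.map_tmul, LinearMap.mul'_apply, Module.Basis.coord_apply] at this
    rw [this]
    split_ifs <;> rfl
  -- independence of the weight vectors
  have hindep : ∀ E : Finset s, (∀ i, ∑ g ∈ E, w g i = 0) → ∀ g ∈ E, ∀ i, w g i = 0 := by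
    intro E hE g hg i
    have : ∑ j, (∑ g' ∈ E, w g' j) * b.repr (μ i j) g = w g i := by
      simp only [Finset.sum_mul]
      rw [Finset.sum_comm]
      simp only [hproj]
      simp [hg]
    rw [← this]
    simp [hE]
  let I : Finset (Fin S.card) := Finset.univ.filter fun j => ∃ i, w (en.symm j) i ≠ 0
  refine ⟨I, ?_, fun lam e he m => ?_⟩
  · by_contra hI
    rw [Finset.not_nonempty_iff_eq_empty] at hI
    refine hv (funext fun i => ?_)
    have h1 : CoalgebraStruct.counit (R := k) (u i) = v i := by
      have h := LinearMap.congr_fun (HopfRep.Comod.counit_comp (k := k) (A := A) (V := MvPolynomial ι k)) (MvPolynomial.X i)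
      have h2 := congrArg (fun z => (TensorProduct.lid k k).toLinearMap ((GLin.vecPt k ι v).toLinearMap.rTensor k z)) h
      simp only [LinearMap.comp_apply, hμ, map_sum, LinearMap.rTensor_tmul, LinearMap.lTensor_tmul, LinearEquiv.coe_coe,
        LinearMap.flip_apply, TensorProduct.mk_apply, TensorProduct.lid_tmul, AlgHom.toLinearMap_apply,
        MvPolynomial.aeval_X, smul_eq_mul, mul_one] at h2
      simp only [u, map_sum, map_smul, smul_eq_mul]
      exact h2
    have h0 : ∀ g ∈ S, w g i = 0 := fun g hg => by
      by_contra hne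
      have : en ⟨g, hg⟩ ∈ I := Finset.mem_filter.2 ⟨Finset.mem_univ _, i, by simpa using hne⟩
      rw [hI] at this
      simp at this
    rw [← h1, hexp i, Finset.sum_eq_zero fun g hg => by rw [h0 g hg, zero_smul]]
    simp
  · have hlamu : ∀ i, LaurentPolynomial.T m * GLin.lamOrbit k A lam (GLin.vecPt k ι v) (MvPolynomial.X i) =
        ∑ j ∈ I, w (en.symm j) i • LaurentPolynomial.T (m + e j) := by
      intro i
      have h1 : GLin.lamOrbit k A lam (GLin.vecPt k ι v) (MvPolynomial.X i) = lam (u i) := by
        rw [← hu]; rfl
      rw [h1, hexp i, ← Finset.sum_coe_sort, ← en.symm.sum_comp, map_sum, Finset.mul_sum]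
      rw [Finset.sum_subset (Finset.subset_univ I) (fun j _ hj => by
        have : w (en.symm j) i = 0 := by
          by_contra hne
          exact hj (Finset.mem_filter.2 ⟨Finset.mem_univ _, i, hne⟩)
        rw [this, zero_smul])]
      refine Finset.sum_congr rfl fun j _ => ?_
      rw [map_smul, he j, mul_smul_comm, ← LaurentPolynomial.T_add]
    -- coefficient vanishing
    have hcoef : ∀ r : ℤ, (∀ i, ∑ j ∈ I with m + e j = r, w (en.symm j) i = 0) → ∀ j ∈ I, m + e j ≠ r := by
      intro r hr j hj hjr
      obtain ⟨i, hi⟩ := (Finset.mem_filter.1 hj).2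
      refine hi (hindep ((I.filter fun j => m + e j = r).image fun j => (en.symm j : s)) (fun i' => ?_) _
        (Finset.mem_image.2 ⟨j, Finset.mem_filter.2 ⟨hj, hjr⟩, rfl⟩) i)
      rw [Finset.sum_image fun a _ b _ hab => en.symm.injective (Subtype.ext hab)]
      exact hr i'
    have happ : ∀ i (r : ℤ), (∑ j ∈ I, w (en.symm j) i • (LaurentPolynomial.T (m + e j) : k[T;T⁻¹])).coeff r =
        ∑ j ∈ I with m + e j = r, w (en.symm j) i := by
      intro i r
      rw [Finset.sum_filter (s := I) (fun j => m + e j = r)]
      simp only [AddMonoidAlgebra.coeff_sum, Finsupp.finsetSum_apply, AddMonoidAlgebra.coeff_smul, Finsupp.smul_apply,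
        LaurentPolynomial.T_apply, smul_eq_mul, mul_ite, mul_one, mul_zero]
    constructor
    · rintro ⟨h, hh, hh0⟩
      have hX : ∀ i, Polynomial.toLaurent (h (MvPolynomial.X i)) =
          ∑ j ∈ I, w (en.symm j) i • (LaurentPolynomial.T (m + e j) : k[T;T⁻¹]) := fun i => by
        have := AlgHom.congr_fun hh (MvPolynomial.X i)
        rw [GLin.shiftedOrbit, MvPolynomial.aeval_X, hlamu] at this
        exact this
      have hneg : ∀ r : ℤ, r < 0 → ∀ i, ∑ j ∈ I with m + e j = r, w (en.symm j) i = 0 := by
        intro r hr i
        rw [← happ, ← hX]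
        by_contra hne
        have h3 : r ∈ (Polynomial.toLaurent (h (MvPolynomial.X i))).coeff.support := Finsupp.mem_support_iff.2 hne
        rw [LaurentPolynomial.toLaurent_support] at h3
        obtain ⟨n, _, hn⟩ := Finset.mem_map.1 h3
        simp at hn
        omega
      refine ⟨fun j hj => not_lt.1 fun hlt => hcoef (m + e j) (hneg _ (by omega)) j hj rfl, ?_⟩
      by_contra hno
      push_neg at hno
      refine hh0 (MvPolynomial.algHom_ext fun i => ?_)
      rw [AlgHom.comp_apply, MvPolynomial.aeval_X, Polynomial.coe_aeval_eq_eval, ← Polynomial.coeff_zero_eq_eval_zero]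
      have : (Polynomial.toLaurent (h (MvPolynomial.X i))).coeff ((0 : ℕ) : ℤ) = 0 := by
        rw [hX, happ]
        exact Finset.sum_eq_zero fun j hj => absurd (Finset.mem_filter.1 hj).2 (by
          have := hno j (Finset.mem_filter.1 hj).1
          omega)
      rw [LaurentPolynomial.coeff_toLaurent] at this
      exact (Finsupp.mapDomain_apply Nat.cast_injective _ 0).symm.trans this
    · rintro ⟨hle, j₀, hj₀, hm⟩
      refine ⟨MvPolynomial.aeval fun i => ∑ j ∈ I, w (en.symm j) i • Polynomial.X ^ (m + e j).toNat, ?_, fun h0 => ?_⟩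
      · refine MvPolynomial.algHom_ext fun i => ?_
        rw [GLin.shiftedOrbit, MvPolynomial.aeval_X, hlamu, AlgHom.comp_apply, MvPolynomial.aeval_X, map_sum]
        refine Finset.sum_congr rfl fun j hj => ?_
        rw [map_smul, map_pow]
        congr 1
        have := hle j hj
        simp [LaurentPolynomial.T_pow, max_eq_left (show 0 ≤ m + e j by omega)]
      · refine hcoef 0 (fun i => ?_) j₀ hj₀ (by omega)
        have h1 := AlgHom.congr_fun h0 (MvPolynomial.X i)
        rw [AlgHom.comp_apply, MvPolynomial.aeval_X, MvPolynomial.aeval_X, map_sum] at h1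
        rw [Finset.sum_filter]
        refine Eq.trans (Finset.sum_congr rfl fun j hj => ?_) h1
        have := hle j hj
        rw [map_smul, map_pow, Polynomial.aeval_X, smul_eq_mul, zero_pow_eq, mul_ite, mul_one, mul_zero]
        exact if_congr (by omega) rfl rfl

end Groth.Agent.S12553
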