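import Groth.Statements.S12555
import Groth.Agent.ComodBasic.Reductive


set_option autoImplicit false
universe u
open TensorProduct
open GIT

namespace Groth.Agent.S12555
open Groth.Agent.ComodBasic

/-- Let k be a field, G = Spec A a linearly reductive affine group (A a commutative Hopf algebra whose
finite-dimensional comodules are all semisimple) and V a representation of G of any dimension (an
A-comodule). Then there is exactly one linear map E : V → V commuting with the coaction, with E ∘ E
= E, and with E x = x exactly for the invariant vectors x. -/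
theorem result (k : Type u) [Field k] (A : Type u) [CommRing A] [HopfAlgebra k A]
    (hG : HopfRep.IsLinearlyReductive k A) (V : Type u) [AddCommGroup V] [Module k V] [HopfRep.Comod k A V] :
    ∃! E : V →ₗ[k] V, Hoch.IsComodHom A E ∧ E ∘ₗ E = E ∧ ∀ x : V, E x = x ↔ x ∈ HopfRep.fixedPts k A V := by

  haveI : IsSemisimpleModule (Cv k A) V := isSemisimpleModule_of_finite hG V

  obtain ⟨E, hE, hE'⟩ := exists_reynolds (k := k) (A := A) V
  refine ⟨E.restrictScalars k, ⟨Groth.Agent.ComodBasic.isComodHom_restrict E, LinearMap.ext fun v => hE' _ (hE v), fun x => ⟨fun h => h ▸ hE x, hE' x⟩⟩, ?_⟩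
  rintro F ⟨hF, hF2, hFfix⟩
  have h : Groth.Agent.ComodBasic.toLin F hF = E :=
    Groth.Agent.ComodBasic.eq_of_eq_on_fixed _ _ (fun v => (hFfix _).1 (LinearMap.congr_fun hF2 v)) hE
      fun v hv => ((hFfix v).2 hv).trans (hE' v hv).symm
  exact LinearMap.ext fun v => LinearMap.congr_fun h v

end Groth.Agent.S12555
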