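import Groth.Statements.S12556
import Groth.Agent.ComodBasic.Reductive


set_option autoImplicit false
universe u
open TensorProduct
open GIT

namespace Groth.Agent.S12556
open Groth.Agent.ComodBasic

/-- Let k be a field, G = Spec A a linearly reductive affine group (A a commutative Hopf algebra whose
finite-dimensional comodules are all semisimple) acting on the affine scheme Spec R (a
multiplicative coaction of A on the commutative k-algebra R), and E : R → R a linear map commuting
with the coaction, idempotent, and fixing exactly the invariant elements. Then E(x · y) = E(x) · y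
for all x in R and all invariant y. -/
theorem result (k : Type u) [Field k] (A : Type u) [CommRing A] [HopfAlgebra k A]
    (hG : HopfRep.IsLinearlyReductive k A)
    (R : Type u) [CommRing R] [Algebra k R] [HopfRep.Comod k A R] [GLin.IsCoactAlg k A R]
    (E : R →ₗ[k] R) (h₁ : Hoch.IsComodHom A E) (h₂ : E ∘ₗ E = E)
    (h₃ : ∀ x : R, E x = x ↔ x ∈ GLin.invariants k A R)
    (x y : R) (hy : y ∈ GLin.invariants k A R) : E (x * y) = E x * y := by
  haveI : IsSemisimpleModule (Cv k A) R := isSemisimpleModule_of_finite hG R
  have hEfix : ∀ v, E v ∈ HopfRep.fixedPts k A R := fun v => (h₃ _).1 (LinearMap.congr_fun h₂ v)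
  let m : R →ₗ[Cv k A] R := toLin (LinearMap.mulRight k y)
    (isComodHom_mulRight_of_fixed (GLin.IsCoactAlg.coact_mul (k := k) (A := A)) hy)
  have h := eq_of_eq_on_fixed (toLin E h₁ ∘ₗ m) (m ∘ₗ toLin E h₁) (fun v => hEfix _)
    (fun v => map_mem_fixedPts m (hEfix v)) (fun v hv => by
      show E (v * y) = E v * y
      have hvy : v * y ∈ HopfRep.fixedPts k A R := map_mem_fixedPts m hv
      rw [(h₃ _).2 hvy, (h₃ v).2 hv])
  exact LinearMap.congr_fun h x

end Groth.Agent.S12556
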