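import Groth.Statements.S12557
import Groth.Agent.ComodBasic.Stable


set_option autoImplicit false
universe u
open TensorProduct
open GIT

namespace Groth.Agent.S12557
open Groth.Agent.ComodBasic

/-- Let k be a field, G = Spec A a linearly reductive affine group (A a commutative Hopf algebra whose
finite-dimensional comodules are all semisimple) acting on the affine scheme Spec R, R_0 ⊆ R the
ring of invariants, and (𝔄_i) a family of ideals of R each stable under the coaction. Then the sum
of the 𝔄_i meets R_0 in the sum of the intersections 𝔄_i ∩ R_0. -/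
theorem result (k : Type u) [Field k] (A : Type u) [CommRing A] [HopfAlgebra k A]
    (hG : HopfRep.IsLinearlyReductive k A)
    (R : Type u) [CommRing R] [Algebra k R] [HopfRep.Comod k A R] [GLin.IsCoactAlg k A R]
    (ι : Type u) (𝔄 : ι → Ideal R) (h𝔄 : ∀ i, HopfRep.IsSubcomod (k := k) (A := A) ((𝔄 i).restrictScalars k)) :
    (⨆ i, (𝔄 i).restrictScalars k) ⊓ Subalgebra.toSubmodule (GLin.invariants k A R) =
      ⨆ i, ((𝔄 i).restrictScalars k ⊓ Subalgebra.toSubmodule (GLin.invariants k A R)) := by
  classical
  haveI : IsSemisimpleModule (Cv k A) R := isSemisimpleModule_of_finite hG R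
  obtain ⟨E, hE, hE'⟩ := exists_reynolds (k := k) (A := A) R
  refine le_antisymm ?_ (iSup_le fun i => le_inf (inf_le_left.trans (le_iSup (fun i => (𝔄 i).restrictScalars k) i)) inf_le_right)
  rintro x ⟨hx, hxR⟩
  have hxR' : x ∈ HopfRep.fixedPts k A R := hxR
  obtain ⟨c, hc, rfl⟩ := (Submodule.mem_iSup_iff_exists_finsupp _ x).1 hx
  rw [← hE' _ hxR', Finsupp.sum, map_sum]
  refine Submodule.sum_mem _ fun i _ => Submodule.mem_iSup_of_mem i ⟨?_, hE _⟩
  exact proj_fixed_mem E hE hE' (toSub _ (h𝔄 i)) (v := c i) (hc i)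

end Groth.Agent.S12557
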