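import Groth.Statements.S12584
import Groth.Agent.FunFld.QuadDiff
-- import your own Groth.Agent.* helpers here

set_option autoImplicit false
universe u v w
open FunFld

namespace Groth.Agent.S12584

/-- For `char k ≠ 2` and `K` of degree `2` over `k(x)` with `y² = f(x)`, `f` squarefree of degree `≥ 1`,
the forms `x^i dx/y`, `0 ≤ i < g`, are a `k`-basis of the regular differential forms: each is
regular, and every regular `z dx` has `z = a(x)/y` with `deg a < g`; regularity read through Laurent
expansions over `k` at every place (all places separable). -/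
theorem result (k : Type u) (K : Type v) [Field k] [Field K] [Algebra k K] [Algebra (RatFunc k) K] [IsScalarTower k (RatFunc k) K]
    (hK : FunFld.IsFunctionField k K) (hdeg : Module.finrank (RatFunc k) K = 2) (h2 : ringChar k ≠ 2)
    (y : K) (f : Polynomial k) (hf : Squarefree f) (hd : 1 ≤ f.natDegree)
    (heq : y ^ 2 = algebraMap (RatFunc k) K (algebraMap (Polynomial k) (RatFunc k) f))
    (F : FunFld.Place k K → Type w) [∀ P, Field (F P)] [∀ P, Algebra k (F P)] [∀ P, FiniteDimensional k (F P)]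
    (φ : ∀ P, K →ₐ[k] LaurentSeries (F P)) (hφ : ∀ P, LocRes.IsExpansionAt P.1 (φ P)) :
    (∀ i : ℕ, i < FunFld.genus k K → ∀ P,
      LocRes.vDiff (φ P) (algebraMap (RatFunc k) K RatFunc.X ^ i / y) (algebraMap (RatFunc k) K RatFunc.X) ≤ 1) ∧
    ∀ z : K, (∀ P, LocRes.vDiff (φ P) z (algebraMap (RatFunc k) K RatFunc.X) ≤ 1) →
      ∃ a : Polynomial k, a.degree < (FunFld.genus k K : WithBot ℕ) ∧
        z = algebraMap (RatFunc k) K (algebraMap (Polynomial k) (RatFunc k) a) / y := by
  have : FiniteDimensional (RatFunc k) K := Module.finite_of_finrank_pos (by rw [hdeg]; exact two_pos)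
  have h2k : (2 : k) ≠ 0 := Ring.two_ne_zero h2
  have hy := FunFldLib.hyper_notMem hf hd heq
  have hy0 : y ≠ 0 := fun h => hy ⟨0, by rw [map_zero, h]⟩
  have hg := FunFldLib.genus_hyperelliptic hK h2k hdeg y hf hd heq
  obtain ⟨Pi, hPi⟩ := FunFldLib.rat_exists_inf (k := k)
  have hiff := FunFldLib.regular_iff hφ (x := algebraMap (RatFunc k) K RatFunc.X) (w := y)
    (fun Q => FunFldLib.hyper_val_Dx hK h2 hdeg hf hd heq hPi (hφ Q))
  refine ⟨fun i hi => (hiff _).2 ?_, fun z hz => ?_⟩
  · rw [div_mul_cancel₀ _ hy0, ← map_pow]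
    refine ((FunFldLib.conorm_inf_props hK hdeg hPi (by omega)).2 _
      ((FunFldLib.rat_mem_L_inf hPi).2 ⟨Polynomial.X ^ i, by simp [FunFldLib.polR], Or.inr ?_⟩)).1
    rw [Polynomial.natDegree_X_pow]; omega
  · obtain ⟨a, ha, hza⟩ := FunFldLib.hyper_L_subset h2k hdeg hf hd heq hPi (by omega) ((hiff z).1 hz)
    obtain ⟨a', rfl, ha'⟩ := (FunFldLib.rat_mem_L_inf hPi).1 ha
    refine ⟨a', ?_, by rw [eq_div_iff hy0]; exact hza⟩
    rcases eq_or_ne a' 0 with h | h
    · rw [h, Polynomial.degree_zero]; exact WithBot.bot_lt_coe _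
    · rw [Polynomial.degree_eq_natDegree h]
      have := ha'.resolve_left h
      exact_mod_cast show a'.natDegree < FunFld.genus k K by omega

end Groth.Agent.S12584
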