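import Groth.Statements.S12585
import Groth.Agent.S12515
import Groth.Agent.FunFld.QuadCanonical
-- import your own Groth.Agent.* helpers here

set_option autoImplicit false
universe u v
open FunFld

namespace Groth.Agent.S12585

/-- A function field of one variable `K/k` over a perfect field `k` with `char k ≠ 2` and genus `≥ 2`
has at most one rational subfield `k(x)` with `[K : k(x)] = 2`. (The published statement allows any
field of characteristic `≠ 2`; its argument needs the squarefree polynomial `f` with `y² = f(x)` to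
be prime to its derivative, which holds when `f` is separable; this row takes `k` perfect.) -/
theorem result (k : Type u) (K : Type v) [Field k] [Field K] [Algebra k K] [PerfectField k]
    (hK : FunFld.IsFunctionField k K) (h2 : ringChar k ≠ 2) (hg : 2 ≤ FunFld.genus k K)
    (x x' : K) (hx : Module.finrank (IntermediateField.adjoin k ({x} : Set K)) K = 2)
    (hx' : Module.finrank (IntermediateField.adjoin k ({x'} : Set K)) K = 2) :
    IntermediateField.adjoin k ({x} : Set K) = IntermediateField.adjoin k ({x'} : Set K) := by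
  obtain ⟨i, hiX, himem, hi⟩ := FunFldLib.exists_ratFunc_hom hK (x := x) (by omega)
  obtain ⟨i', hiX', -, hi'⟩ := FunFldLib.exists_ratFunc_hom hK (x := x') (by omega)
  have h2k : (2 : k) ≠ 0 := Ring.two_ne_zero h2
  obtain ⟨Pi, hPi⟩ := FunFldLib.rat_exists_inf (k := k)
  set n : ℤ := (genus k K : ℤ) - 1 with hn
  have key : ∀ j : RatFunc k →ₐ[k] K, (letI := j.toRingHom.toAlgebra; Module.finrank (RatFunc k) K = 2) →
      ∃ D : Divisor k K, D.deg = 2 * (genus k K : ℤ) - 2 ∧ (genus k K : ℤ) ≤ ell D ∧
        (∀ u ∈ L D, ∃ a, j a = u) ∧ (1 : K) ∈ L D ∧ j RatFunc.X ∈ L D := by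
    intro j hdeg
    letI := j.toRingHom.toAlgebra
    have : IsScalarTower k (RatFunc k) K := IsScalarTower.of_algebraMap_eq fun c => (j.commutes c).symm
    have : FiniteDimensional (RatFunc k) K := Module.finite_of_finrank_pos (by rw [hdeg]; exact two_pos)
    obtain ⟨y, f, hf, heq, hytop⟩ := Groth.Agent.S12515.result k K h2 hdeg
    have hd : 1 ≤ f.natDegree := by
      by_contra h0
      obtain ⟨c, rfl⟩ := Polynomial.natDegree_eq_zero.1 (show f.natDegree = 0 by omega)
      rw [← Polynomial.algebraMap_eq, ← IsScalarTower.algebraMap_apply k (Polynomial k) (RatFunc k),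
        ← IsScalarTower.algebraMap_apply k (RatFunc k) K] at heq
      obtain ⟨c', hc'⟩ := hK.2 y (IsAlgebraic.of_pow two_pos (heq ▸ isAlgebraic_algebraMap c))
      have hmem : y ∈ (⊥ : IntermediateField (RatFunc k) K) :=
        IntermediateField.mem_bot.2 ⟨algebraMap k (RatFunc k) c', by rw [← IsScalarTower.algebraMap_apply, hc']⟩
      rw [IntermediateField.adjoin_simple_eq_bot_iff.2 hmem] at hytop
      have := IntermediateField.bot_eq_top_iff_finrank_eq_one.1 hytop
      omega
    have hgen := FunFldLib.genus_hyperelliptic hK h2k hdeg y hf hd heq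
    obtain ⟨hdg, hprop⟩ := FunFldLib.conorm_inf_props hK hdeg hPi (n := n) (by omega)
    obtain ⟨h1L, hXL⟩ := FunFldLib.one_X_mem_L hPi (n := n) (by omega)
    refine ⟨conorm K (Finsupp.single Pi n), by omega, ?_, fun u hu => ?_, ?_, (hprop _ hXL).1⟩
    · have := (hprop _ h1L).2; omega
    · obtain ⟨a, -, rfl⟩ := FunFldLib.hyper_L_subset h2k hdeg hf hd heq hPi (by omega) hu
      exact ⟨a, rfl⟩
    · have := (hprop _ h1L).1
      rwa [map_one] at this
  obtain ⟨D, hD1, hD2, hD3, -, -⟩ := key i (hi.1.trans hx)
  obtain ⟨D', hD1', hD2', -, hD4', hD5'⟩ := key i' (hi'.1.trans hx')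
  refine FunFldLib.adjoin_le_of_L_subset hK hD1 hD2 (fun u hu => ?_) hD1' hD2' hD4' (hiX' ▸ hD5') hx hx'
  obtain ⟨a, rfl⟩ := hD3 u hu
  exact himem a

end Groth.Agent.S12585
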