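import Groth.Statements.S12586
import Groth.Agent.S12518
import Groth.Agent.FunFld.QuadCanonical
-- import your own Groth.Agent.* helpers here

set_option autoImplicit false
universe u v
open FunFld

namespace Groth.Agent.S12586

/-- For `k` perfect of characteristic `2`, a function field of one variable `K/k` of genus `≥ 2` has at
most one rational subfield `k(x)` over which `K` is separable of degree `2`. (The published
statement says: the unique rational subfield of index `2`; the argument given covers the subfields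
over which `K` is separable, which is what is stated here.) -/
theorem result (k : Type u) (K : Type v) [Field k] [Field K] [Algebra k K] [PerfectField k]
    (h2 : ringChar k = 2) (hK : FunFld.IsFunctionField k K) (hg : 2 ≤ FunFld.genus k K)
    (x x' : K) (hx : Module.finrank (IntermediateField.adjoin k ({x} : Set K)) K = 2)
    [Algebra.IsSeparable (IntermediateField.adjoin k ({x} : Set K)) K]
    (hx' : Module.finrank (IntermediateField.adjoin k ({x'} : Set K)) K = 2)
    [Algebra.IsSeparable (IntermediateField.adjoin k ({x'} : Set K)) K] :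
    IntermediateField.adjoin k ({x} : Set K) = IntermediateField.adjoin k ({x'} : Set K) := by
  classical
  have : CharP k 2 := ringChar.of_eq h2
  have hF := FunFldLib.isFunctionField_ratFunc (k := k)
  obtain ⟨i, hiX, himem, hi⟩ := FunFldLib.exists_ratFunc_hom hK (x := x) (by omega)
  obtain ⟨i', hiX', -, hi'⟩ := FunFldLib.exists_ratFunc_hom hK (x := x') (by omega)
  obtain ⟨Pi, hPi⟩ := FunFldLib.rat_exists_inf (k := k)
  set n : ℤ := (genus k K : ℤ) - 1 with hn
  have key : ∀ j : RatFunc k →ₐ[k] K, (letI := j.toRingHom.toAlgebra; Module.finrank (RatFunc k) K = 2) →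
      (letI := j.toRingHom.toAlgebra; Algebra.IsSeparable (RatFunc k) K) →
      ∃ D : Divisor k K, D.deg = 2 * (genus k K : ℤ) - 2 ∧ (genus k K : ℤ) ≤ ell D ∧
        (∀ u ∈ L D, ∃ a, j a = u) ∧ (1 : K) ∈ L D ∧ j RatFunc.X ∈ L D := by
    intro j hdeg hsep
    letI := j.toRingHom.toAlgebra
    have : IsScalarTower k (RatFunc k) K := IsScalarTower.of_algebraMap_eq fun c => (j.commutes c).symm
    have : FiniteDimensional (RatFunc k) K := Module.finite_of_finrank_pos (by rw [hdeg]; exact two_pos)
    have : Algebra.IsSeparable (RatFunc k) K := hsep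
    obtain ⟨y, f, heq, hytop, hodd⟩ := Groth.Agent.S12518.result k K h2 hdeg
    have hy : y ∉ Set.range (algebraMap (RatFunc k) K) := fun h => by
      rw [IntermediateField.adjoin_simple_eq_bot_iff.2 (IntermediateField.mem_bot.2 h)] at hytop
      have := IntermediateField.bot_eq_top_iff_finrank_eq_one.1 hytop
      omega
    obtain ⟨Dp, hDp⟩ : ∃ Dp : Divisor k (RatFunc k), ∀ P : Place k (RatFunc k),
        (0 ≤ P.ord f ∧ Dp P = 0) ∨ (P.ord f < 0 ∧ P.ord f = 1 - 2 * Dp P) := by
      refine ⟨Finsupp.onFinset (FunFldLib.finite_support_ord hF f).toFinset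
        (fun P => if P.ord f < 0 then (1 - P.ord f) / 2 else 0) fun P h => ?_, fun P => ?_⟩
      · simp only [Set.Finite.mem_toFinset, Function.mem_support]
        intro h0; simp [h0] at h
      · rw [Finsupp.onFinset_apply]
        by_cases h : P.ord f < 0
        · rw [if_pos h]
          obtain ⟨m, hm⟩ := hodd P h
          right; exact ⟨h, by omega⟩
        · rw [if_neg h]; left; exact ⟨not_lt.1 h, rfl⟩
    have hgen := FunFldLib.genus_artinSchreier hK hdeg hy heq Dp hDp
    obtain ⟨hdg, hprop⟩ := FunFldLib.conorm_inf_props hK hdeg hPi (n := n) (by omega)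
    obtain ⟨h1L, hXL⟩ := FunFldLib.one_X_mem_L hPi (n := n) (by omega)
    refine ⟨conorm K (Finsupp.single Pi n), by omega, ?_, fun u hu => ?_, ?_, (hprop _ hXL).1⟩
    · have := (hprop _ h1L).2; omega
    · obtain ⟨a, b, rfl⟩ := FunFldLib.quad_repr hdeg hy u
      obtain ⟨-, hb⟩ := (FunFldLib.as_mem_L hdeg hy heq Dp hDp _ a b).1 hu
      have hneg : Divisor.deg (Finsupp.single Pi n - Dp : Divisor k (RatFunc k)) < 0 := by
        rw [FunFldLib.deg_sub, FunFldLib.deg_single, FunFldLib.rat_deg_inf Pi hPi]; push_cast; omega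
      have := FunFldLib.finiteDimensional_L hF (Finsupp.single Pi n - Dp)
      have hb0 : b = 0 := by
        have hbot := Submodule.finrank_eq_zero.1 (FunFldLib.ell_eq_zero_of_deg_neg hF hneg)
        rw [hbot] at hb; exact (Submodule.mem_bot k).1 hb
      exact ⟨a, by rw [hb0, map_zero, zero_mul, add_zero]; rfl⟩
    · have := (hprop _ h1L).1
      rwa [map_one] at this
  obtain ⟨D, hD1, hD2, hD3, -, -⟩ := key i (hi.1.trans hx) (hi.2 inferInstance)
  obtain ⟨D', hD1', hD2', -, hD4', hD5'⟩ := key i' (hi'.1.trans hx') (hi'.2 inferInstance)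
  refine FunFldLib.adjoin_le_of_L_subset hK hD1 hD2 (fun u hu => ?_) hD1' hD2' hD4' (hiX' ▸ hD5') hx hx'
  obtain ⟨a, rfl⟩ := hD3 u hu
  exact himem a

end Groth.Agent.S12586
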