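import Groth.Statements.S12587
import Groth.Agent.FunFld.QuadDiff
-- import your own Groth.Agent.* helpers here

set_option autoImplicit false
universe u v w
open FunFld

namespace Groth.Agent.S12587

/-- For `k` perfect of characteristic `2` and `K = k(x, y)` with `y² + y = f(x)`, all poles of `f` of
odd order `2d_i - 1` at `p_i`, and `q = ∏ p_i^{d_i}` over the finite poles, the forms `x^i dx/q(x)`,
`0 ≤ i < g`, are a `k`-basis of the regular differential forms; regularity read through Laurent
expansions over `k` at every place; `q` is pinned up to a constant by its orders at the finite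
places. -/
theorem result (k : Type u) (K : Type v) [Field k] [Field K] [Algebra k K] [Algebra (RatFunc k) K] [IsScalarTower k (RatFunc k) K]
    (hK : FunFld.IsFunctionField k K) (hdeg : Module.finrank (RatFunc k) K = 2) [PerfectField k] (h2 : ringChar k = 2)
    [Algebra.IsSeparable (RatFunc k) K]
    (y : K) (hy : y ∉ Set.range (algebraMap (RatFunc k) K)) (f : RatFunc k)
    (heq : y ^ 2 + y = algebraMap (RatFunc k) K f)
    (hodd : ∀ p : FunFld.Place k (RatFunc k), 1 < p.1 f → Odd (p.ord f))
    (q : Polynomial k) (hq0 : q ≠ 0)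
    (hq : ∀ p : FunFld.Place k (RatFunc k), p.1 RatFunc.X ≤ 1 →
      p.ord (algebraMap (Polynomial k) (RatFunc k) q) = if 1 < p.1 f then (1 - p.ord f) / 2 else 0)
    (F : FunFld.Place k K → Type w) [∀ P, Field (F P)] [∀ P, Algebra k (F P)] [∀ P, FiniteDimensional k (F P)]
    (φ : ∀ P, K →ₐ[k] LaurentSeries (F P)) (hφ : ∀ P, LocRes.IsExpansionAt P.1 (φ P)) :
    (∀ i : ℕ, i < FunFld.genus k K → ∀ P,
      LocRes.vDiff (φ P) (algebraMap (RatFunc k) K (RatFunc.X ^ i / algebraMap (Polynomial k) (RatFunc k) q))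
        (algebraMap (RatFunc k) K RatFunc.X) ≤ 1) ∧
    ∀ z : K, (∀ P, LocRes.vDiff (φ P) z (algebraMap (RatFunc k) K RatFunc.X) ≤ 1) →
      ∃ a : Polynomial k, a.degree < (FunFld.genus k K : WithBot ℕ) ∧
        z = algebraMap (RatFunc k) K (algebraMap (Polynomial k) (RatFunc k) a / algebraMap (Polynomial k) (RatFunc k) q) := by
  have : FiniteDimensional (RatFunc k) K := Module.finite_of_finrank_pos (by rw [hdeg]; exact two_pos)
  have : CharP k 2 := ringChar.of_eq h2
  have hF := FunFldLib.isFunctionField_ratFunc (k := k)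
  have hiffv : ∀ p : Place k (RatFunc k), 1 < p.1 f ↔ p.ord f < 0 := fun p => by
    rcases eq_or_ne f 0 with h | h
    · simp [h]
    exact FunFldLib.one_lt_val_iff p h
  obtain ⟨D, hD⟩ := FunFldLib.as_exists_D f fun p hp => hodd p ((hiffv p).2 hp)
  have hq' : ∀ p : Place k (RatFunc k), p.1 RatFunc.X ≤ 1 → p.ord (FunFldLib.polR q) = D p := fun p hp => by
    rw [show p.ord (FunFldLib.polR q) = _ from hq p hp]
    rcases hD p with ⟨h1, h3⟩ | ⟨h1, h3⟩
    · rw [if_neg fun h => not_lt.2 h1 ((hiffv p).1 h), h3]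
    · rw [if_pos ((hiffv p).2 h1)]; omega
  have hqK : algebraMap (RatFunc k) K (FunFldLib.polR q) ≠ 0 := by simpa [FunFldLib.polR] using hq0
  have hg := FunFldLib.genus_artinSchreier hK hdeg hy heq D hD
  obtain ⟨Pi, hPi⟩ := FunFldLib.rat_exists_inf (k := k)
  have hiff := FunFldLib.regular_iff hφ (x := algebraMap (RatFunc k) K RatFunc.X)
    (w := algebraMap (RatFunc k) K (FunFldLib.polR q))
    (fun Q => FunFldLib.as_val_Dx hK hdeg hy heq hD hq0 hq' hPi (hφ Q))
  refine ⟨fun i hi => (hiff _).2 ?_, fun z hz => ?_⟩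
  · rw [← map_mul, show algebraMap (Polynomial k) (RatFunc k) q = FunFldLib.polR q from rfl,
      div_mul_cancel₀ _ (by simpa [FunFldLib.polR] using hq0)]
    refine ((FunFldLib.conorm_inf_props hK hdeg hPi (by omega)).2 _
      ((FunFldLib.rat_mem_L_inf hPi).2 ⟨Polynomial.X ^ i, by simp [FunFldLib.polR], Or.inr ?_⟩)).1
    rw [Polynomial.natDegree_X_pow]; omega
  · have hu := (hiff z).1 hz
    obtain ⟨a, b, hab⟩ := FunFldLib.quad_repr hdeg hy (z * algebraMap (RatFunc k) K (FunFldLib.polR q))
    rw [hab] at hu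
    obtain ⟨ha, hb⟩ := (FunFldLib.as_mem_L hdeg hy heq D hD _ a b).1 hu
    have hneg : Divisor.deg (Finsupp.single Pi ((FunFld.genus k K : ℤ) - 1) - D : Divisor k (RatFunc k)) < 0 := by
      rw [FunFldLib.deg_sub, FunFldLib.deg_single, FunFldLib.rat_deg_inf Pi hPi]; push_cast; omega
    rw [FunFldLib.L_eq_bot_of_deg_neg hF hneg, Submodule.mem_bot] at hb
    obtain ⟨a', rfl, ha'⟩ := (FunFldLib.rat_mem_L_inf hPi).1 ha
    refine ⟨a', ?_, ?_⟩
    · rcases eq_or_ne a' 0 with h | h
      · rw [h, Polynomial.degree_zero]; exact WithBot.bot_lt_coe _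
      · rw [Polynomial.degree_eq_natDegree h]
        have := ha'.resolve_left h
        exact_mod_cast show a'.natDegree < FunFld.genus k K by omega
    · rw [map_div₀, eq_div_iff (by simpa [FunFldLib.polR] using hq0)]
      rw [hb, map_zero, zero_mul, add_zero] at hab
      exact hab

end Groth.Agent.S12587
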