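import Groth.Statements.S12588
import Groth.Agent.FunFld.CurveBasic
import Groth.Agent.FunFld.DiffExp
import Groth.Agent.FunFld.ArtinSchreier
-- import your own Groth.Agent.* helpers here

set_option autoImplicit false
universe u v w
open FunFld

namespace Groth.Agent.S12588

/-- For `k` perfect of characteristic `2`, `K` separable of degree `2` over `k(x)` with `y² + y = f(x)`,
and a place `p` of `k(x)` where `f` has a pole whose order `2d - 1` is odd: a place `P` of `K` above
`p` with ramification index `e` (necessarily `e = 2`, `P` unique) has different exponent `d(P|p) =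
2d = 1 - ord_p(f)`; the exponent is computed on `dz` through Laurent expansions over `k` at `p` and
`P`. -/
theorem result (k : Type u) (K : Type v) [Field k] [Field K] [Algebra k K] [Algebra (RatFunc k) K] [IsScalarTower k (RatFunc k) K]
    (hK : FunFld.IsFunctionField k K) (hdeg : Module.finrank (RatFunc k) K = 2) [PerfectField k] (h2 : ringChar k = 2)
    [Algebra.IsSeparable (RatFunc k) K]
    (y : K) (hy : y ∉ Set.range (algebraMap (RatFunc k) K)) (f : RatFunc k)
    (heq : y ^ 2 + y = algebraMap (RatFunc k) K f)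
    (p : FunFld.Place k (RatFunc k)) (hp : 1 < p.1 f) (hodd : Odd (p.ord f))
    (P : FunFld.Place k K) (e : ℕ) (he : FunFld.IsOverWith P p e)
    (F F' : Type w) [Field F] [Algebra k F] [Field F'] [Algebra k F']
    (φ : RatFunc k →ₐ[k] LaurentSeries F) (hφ : LocRes.IsExpansionAt p.1 φ)
    (ψ : K →ₐ[k] LaurentSeries F') (hψ : LocRes.IsExpansionAt P.1 ψ)
    (z : RatFunc k) (hz : LocRes.vDiff φ 1 z ≠ 0) (hz' : LocRes.vDiff ψ 1 (algebraMap (RatFunc k) K z) ≠ 0) :
    LocRes.diffExp φ ψ e z = 1 - p.ord f := by
  have : CharP k 2 := ringChar.of_eq h2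
  have : FiniteDimensional (RatFunc k) K := Module.finite_of_finrank_pos (by rw [hdeg]; exact two_pos)
  have hF := FunFldLib.isFunctionField_ratFunc (k := k)
  have hg := FunFldLib.isGeometric_of_perfect hF
  have hf0 : f ≠ 0 := fun h => by rw [h, map_zero] at hp; exact not_lt_zero hp
  have hneg : p.ord f < 0 := (FunFldLib.one_lt_val_iff p hf0).1 hp
  obtain ⟨he2, -, hyo⟩ := (FunFldLib.as_ramified (K := K) hF hdeg heq hneg hodd).2 P ⟨e, he⟩
  obtain rfl : e = 2 := (FunFldLib.isOverWith_unique he he2).2
  obtain ⟨d, hd⟩ := hodd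
  obtain ⟨c, hc⟩ := FunFldLib.exists_val_eq p (d : ℤ)
  have hc0 := FunFldLib.ne_zero_of_val p hc
  have hy0 : y ≠ 0 := fun h => hy ⟨0, by rw [map_zero, h]⟩
  set s := algebraMap (RatFunc k) K c * y with hs
  have hsv : P.1 s = WithZero.exp (-1) := by
    rw [hs, map_mul, he2, hc, FunFldLib.val_eq_exp P hy0, hyo, hd, ← WithZero.exp_nsmul, ← WithZero.exp_add,
      WithZero.exp_inj, nsmul_eq_mul]
    push_cast; ring
  have hint : IsIntegral (RatFunc k) s := .of_finite _ s
  have hmin : minpoly (RatFunc k) s = Polynomial.X ^ 2 + (Polynomial.C c * Polynomial.X - Polynomial.C (c ^ 2 * f)) := by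
    have hm : (Polynomial.X ^ 2 + (Polynomial.C c * Polynomial.X - Polynomial.C (c ^ 2 * f))).Monic :=
      Polynomial.monic_X_pow_add ((Polynomial.degree_sub_le _ _).trans_lt (max_lt
        ((Polynomial.degree_C_mul_X_le c).trans_lt (by norm_num)) (Polynomial.degree_C_le.trans_lt (by norm_num))))
    refine Polynomial.eq_of_monic_of_dvd_of_natDegree_le (minpoly.monic hint) hm (minpoly.dvd _ _ ?_) ?_ |>.symm
    · simp only [map_add, map_sub, map_pow, map_mul, Polynomial.aeval_X, Polynomial.aeval_C]
      rw [← heq, hs]; ring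
    · refine le_trans ?_ ((minpoly.two_le_natDegree_iff hint).2 ?_)
      · compute_degree
      · rintro ⟨a, ha⟩
        refine hy ⟨a / c, ?_⟩
        rw [map_div₀, ha, hs, mul_div_cancel_left₀ _ (by simpa using hc0)]
  rw [← FunFldLib.diffExp_totallyRamified hF hg he hφ hψ hz hz' hdeg.symm hsv, hmin]
  have h20 : (2 : K) = 0 := FunFldLib.as_two_eq_zero k
  simp only [Polynomial.derivative_add, Polynomial.derivative_sub, Polynomial.derivative_X_pow,
    Polynomial.derivative_C_mul, Polynomial.derivative_X, Polynomial.derivative_C]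
  simp only [map_add, map_sub, map_mul,
    map_pow, Polynomial.aeval_C, Polynomial.aeval_X, map_one, mul_one, map_zero, sub_zero, Nat.cast_ofNat, map_ofNat,
    h20, zero_mul, zero_add]
  rw [FunFldLib.isOverWith_ord he hc0, FunFldLib.ord_eq_of_val p hc, hd]
  push_cast; ring

end Groth.Agent.S12588
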