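import Groth.Statements.S12589
import Groth.Agent.FunFld.ConstNormal
-- import your own Groth.Agent.* helpers here

set_option autoImplicit false
universe u v
open FunFld

namespace Groth.Agent.S12589

/-- If a place `P` of a geometric function field of one variable `K/k` is nonsingular with respect to
the finite extension `k'/k` (the integral closure of `O_P` in `K' = k' ⊗_k K` is `O_P[k']`) and `Q`
is a place of `K'` above `P`, then `F_Q = k' F_P`. -/
theorem result (k k' : Type u) (K K' : Type v) [Field k] [Field k'] [Field K] [Field K']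
    [Algebra k k'] [FiniteDimensional k k'] [Algebra k K] [Algebra K K'] [Algebra k' K'] [Algebra k K']
    [IsScalarTower k k' K'] [IsScalarTower k K K']
    (h : Function.Bijective (Algebra.TensorProduct.productMap
      (IsScalarTower.toAlgHom k k' K') (IsScalarTower.toAlgHom k K K')))
    (hK : FunFld.IsFunctionField k K) (hg : FunFld.IsGeometric k K)
    (P : FunFld.Place k K) [Algebra P.O K'] [IsScalarTower P.O K K']
    (hns : (integralClosure P.O K').toSubring = (Algebra.adjoin P.O (Set.range (algebraMap k' K'))).toSubring)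
    (Q : FunFld.Place k K') [P.1.HasExtension Q.1] (hk' : ∀ c : k', Q.1 (algebraMap k' K' c) ≤ 1) :
    Algebra.adjoin (IsLocalRing.ResidueField P.O)
      (Set.range fun c : k' => IsLocalRing.residue Q.O ⟨algebraMap k' K' c, hk' c⟩) = ⊤ := by
  classical
  obtain ⟨φ, hφ, hφt⟩ := FunFldLib.exists_constExt_hom h
  have : FiniteDimensional K K' := Module.Finite.of_surjective φ.toLinearMap hφ.2
  obtain ⟨P', e, he⟩ := FunFldLib.exists_below (K := K) Q
  have hPP : P' = P := FunFldLib.place_ext fun z hz => by
    have h1 : Q.1 (algebraMap K K' z) ≤ 1 := by rw [he]; exact pow_le_one₀ zero_le hz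
    exact (Valuation.HasExtension.val_map_le_one_iff P.1 Q.1 z).1 h1
  subst hPP
  have hover : IsOver Q P' := ⟨e, he⟩
  set T := Algebra.adjoin (IsLocalRing.ResidueField P'.O)
      (Set.range fun c : k' => IsLocalRing.residue Q.O ⟨algebraMap k' K' c, hk' c⟩)
  refine eq_top_iff.2 fun a _ => ?_
  obtain ⟨a, rfl⟩ := IsLocalRing.residue_surjective a
  obtain ⟨z, hz⟩ := FunFldLib.exists_approx (k := k) (K := K') (FunFldLib.finite_isOver (K' := K') hK P').toFinset
    (fun R => if R = Q then (a : K') else 0) (fun R => if R = Q then -1 else 0)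
  have hzQ : Q.1 (z - a) < 1 := by
    have h1 := hz Q ((FunFldLib.finite_isOver hK P').mem_toFinset.2 hover)
    rw [if_pos rfl, if_pos rfl] at h1
    exact h1.trans_lt (by rw [← WithZero.exp_zero, WithZero.exp_lt_exp]; norm_num)
  have hzint : FunFldLib.IntAbove P' z := fun R hR => by
    rcases eq_or_ne R Q with rfl | hRQ
    · have h1 := (Valuation.map_add _ _ _).trans (max_le hzQ.le a.2)
      rwa [sub_add_cancel] at h1
    · have h1 := hz R ((FunFldLib.finite_isOver hK P').mem_toFinset.2 hR)
      rwa [if_neg hRQ, if_neg hRQ, sub_zero, WithZero.exp_zero] at h1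
  have hzR : z ∈ (integralClosure P'.O K').toSubring := (FunFldLib.isIntegral_iff_intAbove hK P' z).2 hzint
  rw [hns] at hzR
  have key : ∀ w ∈ Algebra.adjoin P'.O (Set.range (algebraMap k' K')),
      ∃ hw : Q.1 w ≤ 1, IsLocalRing.residue Q.O ⟨w, hw⟩ ∈ T := fun w hw => by
    induction hw using Algebra.adjoin_induction with
    | mem w hw =>
      obtain ⟨c, rfl⟩ := hw
      exact ⟨hk' c, Algebra.subset_adjoin ⟨c, rfl⟩⟩
    | algebraMap r =>
      have hr : Q.1 (algebraMap P'.O K' r) ≤ 1 := by
        rw [IsScalarTower.algebraMap_apply P'.O K K', he]; exact pow_le_one₀ zero_le r.2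
      refine ⟨hr, ?_⟩
      have : IsLocalRing.residue Q.O ⟨_, hr⟩ =
          algebraMap (IsLocalRing.ResidueField P'.O) (IsLocalRing.ResidueField Q.O) (IsLocalRing.residue P'.O r) := by
        rw [Valuation.HasExtension.algebraMap_residue_eq_residue_algebraMap]
        congr 1
        exact Subtype.ext (IsScalarTower.algebraMap_apply P'.O K K' r)
      rw [this]; exact T.algebraMap_mem _
    | add u v _ _ hu hv =>
      obtain ⟨hu1, hu2⟩ := hu
      obtain ⟨hv1, hv2⟩ := hv
      refine ⟨(Q.1.map_add _ _).trans (max_le hu1 hv1), ?_⟩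
      have := add_mem hu2 hv2
      rwa [← map_add] at this
    | mul u v _ _ hu hv =>
      obtain ⟨hu1, hu2⟩ := hu
      obtain ⟨hv1, hv2⟩ := hv
      refine ⟨by rw [map_mul]; exact mul_le_one' hu1 hv1, ?_⟩
      have := mul_mem hu2 hv2
      rwa [← map_mul] at this
  obtain ⟨hw, hmem⟩ := key z hzR
  have : IsLocalRing.residue Q.O a = IsLocalRing.residue Q.O ⟨z, hw⟩ := by
    rw [eq_comm, ← sub_eq_zero, ← map_sub, ← FunFldLib.val_lt_one_iff_residue]
    exact hzQ
  rw [this]; exact hmem

end Groth.Agent.S12589
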