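import Groth.Statements.S12590
import Groth.Agent.FunFld.ResiduePairing
-- import your own Groth.Agent.* helpers here

set_option autoImplicit false
universe u v w
open FunFld

namespace Groth.Agent.S12590

/-- At a place `P` of a geometric function field of one variable `K/k` and for a separating variable
`x`, the local residue `Res_P(y dx)` is nonzero for some `y`; stated at a separable place through a
Laurent expansion over `k`, with `y` found in `K` itself. (The companion assertion on the largest
finite extension of `k` inside the completion is not stated.) -/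
theorem result (k : Type u) (K : Type v) [Field k] [Field K] [Algebra k K] (hK : FunFld.IsFunctionField k K) (hg : FunFld.IsGeometric k K)
    (P : FunFld.Place k K) (F : Type w) [Field F] [Algebra k F] [FiniteDimensional k F]
    (φ : K →ₐ[k] LaurentSeries F) (hφ : LocRes.IsExpansionAt P.1 φ)
    (x : K) (hx : KaehlerDifferential.D k K x ≠ 0) :
    ∃ y : K, LocRes.locRes φ y x ≠ 0 := by
  have hDne : LocRes.D F (φ x) ≠ 0 := fun h => by
    obtain ⟨t, ht⟩ := hφ.2.2
    obtain ⟨a, ha⟩ := FunFldLib.exists_kaehler_ratio hK hg hx t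
    have h1 := FunFldLib.val_D_of_val_eq ((hφ.1 t).trans ht)
    rw [FunFldLib.D_smul_expansion φ ha, h, mul_zero, map_zero] at h1
    exact zero_ne_one h1
  obtain ⟨r, -⟩ := FunFldLib.exists_residue_equiv (K' := K) hφ
  have := FunFldLib.isSeparable_of_expansion (K := K) (K' := K) hK hg hφ (x := x) (by simpa using hDne)
  have : Algebra.IsSeparable k F := Algebra.IsSeparable.of_algHom k (IsLocalRing.ResidueField P.O) r.symm.toAlgHom
  obtain ⟨m, U, hU, hw, -⟩ := FunFldLib.exists_normal_form hDne
  obtain ⟨s, hs⟩ : ∃ s : F, Algebra.trace k F s ≠ 0 := by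
    by_contra! h
    exact Algebra.trace_ne_zero k F (LinearMap.ext h)
  have hcm : ∀ n : ℤ, (LocRes.D F (φ x)).coeff n = ((U : PowerSeries F) : LaurentSeries F).coeff (n - m) := fun n => by
    have := HahnSeries.coeff_single_mul_add (r := (1 : F)) (x := ((U : PowerSeries F) : LaurentSeries F)) (a := n - m) (b := m)
    rw [one_mul, show n - m + m = n by ring] at this
    rw [hw, this]
  have hw1 : LocRes.D F (φ x) ∈ FunFldLib.Tate.ordGE k F m := fun n hn => by
    rw [hcm, PowerSeries.coeff_coe, if_pos (by omega)]
  have hw2 : (LocRes.D F (φ x)).coeff m = PowerSeries.constantCoeff U := by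
    rw [hcm, sub_self, PowerSeries.coeff_coe, if_neg (by omega)]
    simp
  obtain ⟨y, hy, hyc⟩ := FunFldLib.exists_coeff_eq (k := k) hφ (-1 - m) (s / PowerSeries.constantCoeff U)
  refine ⟨y, ?_⟩
  show Algebra.trace k F ((φ y * LocRes.D F (φ x)).coeff (-1)) ≠ 0
  rw [show (-1 : ℤ) = (-1 - m) + m by ring, FunFldLib.coeff_mul_lead hy hw1, hyc, hw2, div_mul_cancel₀ _ hU]
  exact hs

end Groth.Agent.S12590
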