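import Groth.Statements.S12595
import Groth.Agent.FunFld.WrOrders
-- import your own Groth.Agent.* helpers here

set_option autoImplicit false
open FunFld

namespace Groth.Agent.S12595

/-- Over an algebraically closed constant field, let `φ` be a birational projective map of the function
field `K` (the ratios `φ i / φ 0` generate `K`), `τ` a `k`-endomorphism of `K` and `H` a total Hasse
derivative. Then the first `τ`-order of `φ` is positive — the column `φ` of `0`-th Hasse derivatives
lies in the `K`-span of the leading column `τ(φ)` — exactly when `τ` is the identity. -/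
theorem result
    (k K : Type*) [Field k] [IsAlgClosed k] [Field K] [Algebra k K]
    (hK : FunFld.IsFunctionField k K) {n : ℕ} (φ : Fin (n + 1) → K) (h0 : φ 0 ≠ 0)
    (hbir : IntermediateField.adjoin k (Set.range fun i => φ i / φ 0) = ⊤)
    (τ : K →ₐ[k] K) (s : K) (H : K →ₐ[k] PowerSeries K) (hH : LocRes.IsHasseFamily s H) :
    ¬ FunFld.IsJump K (FunFld.hcol τ H φ) 1 ↔ τ = AlgHom.id k K := by
  have hset : Set.Iio 1 = ({0} : Set ℕ) := by ext i; simp
  rw [FunFld.IsJump, not_not, hset, Set.image_singleton, Submodule.mem_span_singleton]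
  constructor
  · rintro ⟨a, ha⟩
    have h1 : ∀ i, a * τ (φ i) = φ i := fun i => (congrFun ha i).trans (FunFldLib.hasseD_zero_apply hH (φ i))
    have ha0 : a ≠ 0 := fun h => h0 (by rw [← h1 0, h, zero_mul])
    have h2 : ∀ z ∈ IntermediateField.adjoin k (Set.range fun i => φ i / φ 0), τ z = z := fun z hz => by
      induction hz using IntermediateField.adjoin_induction with
      | mem z hz =>
        obtain ⟨i, rfl⟩ := hz
        show τ (φ i / φ 0) = φ i / φ 0
        rw [map_div₀, ← mul_div_mul_left (τ (φ i)) (τ (φ 0)) ha0, h1, h1]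
      | algebraMap c => exact τ.commutes c
      | add a b _ _ ha hb => rw [map_add, ha, hb]
      | inv a _ ha => rw [map_inv₀, ha]
      | mul a b _ _ ha hb => rw [map_mul, ha, hb]
    exact AlgHom.ext fun z => h2 z (hbir ▸ IntermediateField.mem_top)
  · rintro rfl
    exact ⟨1, funext fun i => (one_mul (φ i)).trans (FunFldLib.hasseD_zero_apply hH (φ i)).symm⟩

end Groth.Agent.S12595
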