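import Groth.Statements.S12599
import Groth.Agent.FunFld.LocalWr
-- import your own Groth.Agent.* helpers here

set_option autoImplicit false
open FunFld

namespace Groth.Agent.S12599

/-- Over an algebraically closed constant field, for a place `P` with local parameter `t`, and a
linearly independent tuple `φ = (φ₀, …, φₙ)` of functions integral at `P`, the matrix of values at
`P` of the Hasse derivatives `D_t^(j)(φᵢ)`, `j = 0, 1, …`, has rank `n + 1`: its rows are linearly
independent over the residue field. -/
theorem result
    (k K : Type*) [Field k] [IsAlgClosed k] [Field K] [Algebra k K]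
    (hK : FunFld.IsFunctionField k K) {n : ℕ} (φ : Fin (n + 1) → K) (hφ : LinearIndependent k φ)
    (P : FunFld.Place k K) (hint : ∀ i, P.1 (φ i) ≤ 1) (t : K) (ht : P.1 t = WithZero.exp (-1))
    (Ht : K →ₐ[k] PowerSeries K) (hHt : LocRes.IsHasseFamily t Ht) :
    LinearIndependent (IsLocalRing.ResidueField P.O)
      (fun i : Fin (n + 1) => fun j : ℕ => FunFld.evalP P (LocRes.hasseD Ht j (φ i))) := by
  obtain ⟨e⟩ := FunFldLib.exists_paramExp hK ht
  rw [Fintype.linearIndependent_iff]
  intro a ha
  choose c hc using fun i => e.residue_surjective (a i)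
  have hf : ∑ i, c i • φ i = 0 := e.eq_zero_of_cf (FunFldLib.val_comb_le_one hint c) fun j => by
    refine (algebraMap k (IsLocalRing.ResidueField P.O)).injective ?_
    rw [← FunFldLib.evalP_comb e hK ht hHt hint, map_zero]
    have h := congrFun ha j
    rw [Finset.sum_apply] at h
    rw [show (0 : IsLocalRing.ResidueField P.O) = (0 : ℕ → IsLocalRing.ResidueField P.O) j from rfl, ← h]
    exact Finset.sum_congr rfl fun i _ => by rw [hc]; rfl
  intro i
  rw [← hc i, Fintype.linearIndependent_iff.1 hφ c hf i, map_zero]

end Groth.Agent.S12599
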