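import Groth.Statements.S12602
import Groth.Agent.FunFld.WrOrders
-- import your own Groth.Agent.* helpers here

set_option autoImplicit false
open FunFld

namespace Groth.Agent.S12602

/-- Over an algebraically closed constant field, for a birational projective map `φ = (φ₀, …, φₙ)`, `n ≥
1`, with orders `j₁ < ⋯ < jₙ`, and `τ ≠ 1`, the `τ`-orders of `φ` are `(0, j₁, …, j_{m-1}, j_{m+1},
…, jₙ)` for some `m`: the jump indices of `[τ(φ) | D^(0) φ | D^(1) φ | ⋯]` after the leading column
are `0` and the `jₗ` with `l ≠ m`. -/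
theorem result
    (k K : Type*) [Field k] [IsAlgClosed k] [Field K] [Algebra k K]
    (hK : FunFld.IsFunctionField k K) {n : ℕ} (hn : 0 < n) (φ : Fin (n + 1) → K) (hφ : LinearIndependent k φ)
    (h0 : φ 0 ≠ 0) (hbir : IntermediateField.adjoin k (Set.range fun i => φ i / φ 0) = ⊤)
    (τ : K →ₐ[k] K) (hτ : τ ≠ AlgHom.id k K) (s : K) (H : K →ₐ[k] PowerSeries K) (hH : LocRes.IsHasseFamily s H)
    (J : Fin n → ℕ) (hJ : FunFld.IsOrders K (FunFld.hcol (AlgHom.id k K) H φ) J) :
    ∃ m : Fin n, ∀ j : ℕ,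
      FunFld.IsJump K (FunFld.hcol τ H φ) (j + 1) ↔ (j = 0 ∨ ∃ l, l ≠ m ∧ J l = j) := by
  classical
  set c : ℕ → Fin (n + 1) → K := fun j i => LocRes.hasseD H j (φ i) with hcdef
  have hc0φ : c 0 = φ := funext fun i => FunFldLib.hasseD_zero_apply hH (φ i)
  set T : Fin (n + 1) → K := fun i => τ (φ i) with hTdef
  have hspanT : ∀ m, FunFldLib.colSpan K (FunFld.hcol τ H φ) (m + 1) =
      FunFldLib.colSpan K c m ⊔ Submodule.span K {T} := fun m => by
    induction m with
    | zero =>
      have e0 : Set.Iio 0 = (∅ : Set ℕ) := by simp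
      have e1 : Set.Iio (0 + 1) = ({0} : Set ℕ) := by ext i; simp
      rw [FunFldLib.colSpan, FunFldLib.colSpan, e0, e1, Set.image_singleton, Set.image_empty,
        Submodule.span_empty, bot_sup_eq]
      rfl
    | succ m ih =>
      rw [FunFldLib.colSpan_succ, ih, FunFldLib.colSpan_succ (c := c), sup_right_comm]
      rfl
  have hspanI : ∀ m, FunFldLib.colSpan K (FunFld.hcol (AlgHom.id k K) H φ) (m + 1) =
      FunFldLib.colSpan K c m ⊔ Submodule.span K {c 0} := fun m => by
    induction m with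
    | zero =>
      have e0 : Set.Iio 0 = (∅ : Set ℕ) := by simp
      have e1 : Set.Iio (0 + 1) = ({0} : Set ℕ) := by ext i; simp
      rw [FunFldLib.colSpan, FunFldLib.colSpan, e0, e1, Set.image_singleton, Set.image_empty,
        Submodule.span_empty, bot_sup_eq, hc0φ]
      rfl
    | succ m ih =>
      rw [FunFldLib.colSpan_succ, ih, FunFldLib.colSpan_succ (c := c), sup_right_comm]
      rfl
  have hU : ∀ j, 1 ≤ j → (FunFld.IsJump K c j ↔ ∃ l, J l = j) := fun j hj => by
    have h1 := hspanI j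
    rw [sup_eq_left.2 ((Submodule.span_singleton_le_iff_mem _ _).2 (FunFldLib.mem_colSpan (c := c) hj))] at h1
    have h2 := hJ.2 j
    unfold FunFld.IsJump at h2 ⊢
    rw [show Submodule.span K (FunFld.hcol (AlgHom.id k K) H φ '' Set.Iio (j + 1)) =
      Submodule.span K (c '' Set.Iio j) from h1] at h2
    exact h2.symm
  -- the leading column is not proportional to `φ`
  have hfirst : c 0 ∉ Submodule.span K {T} := fun h => by
    obtain ⟨a, ha⟩ := Submodule.mem_span_singleton.1 h
    have h1 : ∀ i, a * τ (φ i) = φ i := fun i => (congrFun ha i).trans (congrFun hc0φ i)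
    have ha0 : a ≠ 0 := fun h' => h0 (by rw [← h1 0, h', zero_mul])
    refine hτ (AlgHom.ext fun z => ?_)
    have hz : z ∈ IntermediateField.adjoin k (Set.range fun i => φ i / φ 0) := hbir ▸ IntermediateField.mem_top
    show τ z = z
    induction hz using IntermediateField.adjoin_induction with
    | mem z hz =>
      obtain ⟨i, rfl⟩ := hz
      show τ (φ i / φ 0) = φ i / φ 0
      rw [map_div₀, ← mul_div_mul_left (τ (φ i)) (τ (φ 0)) ha0, h1, h1]
    | algebraMap c => exact τ.commutes c
    | add a b _ _ ha hb => rw [map_add, ha, hb]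
    | inv a _ ha => rw [map_inv₀, ha]
    | mul a b _ _ ha hb => rw [map_mul, ha, hb]
  -- the least stage containing the leading column
  obtain ⟨N, hN⟩ : ∃ N, T ∈ FunFldLib.colSpan K c N := by
    have hT : T ∈ Submodule.span K (Set.range (FunFld.hcol (AlgHom.id k K) H φ)) := by
      rw [FunFldLib.span_hcol_eq_top _ hK hH hφ]; trivial
    have hle : Submodule.span K (Set.range (FunFld.hcol (AlgHom.id k K) H φ)) ≤
        ⨆ N, FunFldLib.colSpan K c N := Submodule.span_le.2 fun x hx => by
      obtain ⟨i, rfl⟩ := hx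
      rcases i with _ | i
      · refine Submodule.mem_iSup_of_mem 1 ?_
        rw [show FunFld.hcol (AlgHom.id k K) H φ 0 = c 0 from hc0φ.symm]
        exact FunFldLib.mem_colSpan one_pos
      · exact Submodule.mem_iSup_of_mem (i + 1) (FunFldLib.mem_colSpan (Nat.lt_succ_self i))
    exact (Submodule.mem_iSup_of_directed _ (fun a b => ⟨max a b,
      FunFldLib.colSpan_mono (le_max_left a b), FunFldLib.colSpan_mono (le_max_right a b)⟩)).1 (hle hT)
  set M := Nat.find (⟨N, hN⟩ : ∃ N, T ∈ FunFldLib.colSpan K c N)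
  have hM : T ∈ FunFldLib.colSpan K c M := Nat.find_spec (⟨N, hN⟩ : ∃ N, T ∈ FunFldLib.colSpan K c N)
  have hMmin : ∀ m, m < M → T ∉ FunFldLib.colSpan K c m := fun m hm =>
    Nat.find_min (⟨N, hN⟩ : ∃ N, T ∈ FunFldLib.colSpan K c N) hm
  have hM2 : 2 ≤ M := by
    by_contra hlt
    have h1 : T ∈ FunFldLib.colSpan K c 1 := FunFldLib.colSpan_mono (show M ≤ 1 by omega) hM
    have e1 : Set.Iio 1 = ({0} : Set ℕ) := by ext i; simp
    rw [FunFldLib.colSpan, e1, Set.image_singleton, Submodule.mem_span_singleton] at h1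
    obtain ⟨a, ha⟩ := h1
    have ha0 : a ≠ 0 := fun h => hφ.ne_zero 0 (τ.injective (by
      rw [map_zero]; show T 0 = 0; rw [← ha, h, zero_smul]; rfl))
    exact hfirst (Submodule.mem_span_singleton.2 ⟨a⁻¹, by rw [← ha, smul_smul, inv_mul_cancel₀ ha0, one_smul]⟩)
  obtain ⟨m, hm⟩ : ∃ l, J l = M - 1 := (hU (M - 1) (by omega)).1 fun h => by
    refine hMmin (M - 1) (by omega) ?_
    have h2 := hM
    rw [show M = M - 1 + 1 by omega, FunFldLib.colSpan_succ,
      sup_eq_left.2 ((Submodule.span_singleton_le_iff_mem _ _).2 h)] at h2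
    exact h2
  refine ⟨m, fun j => ?_⟩
  have hjump : FunFld.IsJump K (FunFld.hcol τ H φ) (j + 1) ↔
      c j ∉ FunFldLib.colSpan K c j ⊔ Submodule.span K {T} := by rw [← hspanT]; rfl
  rw [hjump]
  rcases Nat.eq_zero_or_pos j with rfl | hj
  · have e0 : Set.Iio 0 = (∅ : Set ℕ) := by simp
    rw [FunFldLib.colSpan, e0, Set.image_empty, Submodule.span_empty, bot_sup_eq]
    simp [hfirst]
  rw [or_iff_right hj.ne']
  constructor
  · intro h
    have hjU : FunFld.IsJump K c j := fun h' => h (Submodule.mem_sup_left h')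
    obtain ⟨l, hl⟩ := (hU j hj).1 hjU
    refine ⟨l, fun hlm => h ?_, hl⟩
    subst hlm
    -- exchange
    have h2 := hM
    rw [show M = j + 1 by omega, FunFldLib.colSpan_succ, Submodule.mem_sup] at h2
    obtain ⟨u, hu, w, hw, huw⟩ := h2
    obtain ⟨a, rfl⟩ := Submodule.mem_span_singleton.1 hw
    have ha : a ≠ 0 := fun h' => hMmin j (by omega) (by
      rw [← huw, h', zero_smul, add_zero]; exact hu)
    refine Submodule.mem_sup.2 ⟨-(a⁻¹ • u), neg_mem (Submodule.smul_mem _ _ hu), a⁻¹ • T,
      Submodule.smul_mem _ _ (Submodule.mem_span_singleton_self T), ?_⟩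
    rw [← huw, smul_add, smul_smul, inv_mul_cancel₀ ha, one_smul, ← add_assoc, neg_add_cancel, zero_add]
  · rintro ⟨l, hlm, hl⟩ h
    have hjU : FunFld.IsJump K c j := (hU j hj).2 ⟨l, hl⟩
    rcases lt_or_ge j M with hlt | hge
    · obtain ⟨u, hu, w, hw, huw⟩ := Submodule.mem_sup.1 h
      obtain ⟨a, rfl⟩ := Submodule.mem_span_singleton.1 hw
      rcases eq_or_ne a 0 with rfl | ha
      · rw [zero_smul, add_zero] at huw
        exact hjU (huw ▸ hu)
      · have hne : j ≠ M - 1 := fun h' => hlm (hJ.1.injective (by omega))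
        refine hMmin (j + 1) (by omega) ?_
        rw [show T = a⁻¹ • (c j - u) by rw [← huw, add_sub_cancel_left, smul_smul, inv_mul_cancel₀ ha, one_smul]]
        exact Submodule.smul_mem _ _ (sub_mem (FunFldLib.mem_colSpan (Nat.lt_succ_self j))
          (FunFldLib.colSpan_mono (Nat.le_succ j) hu))
    · rw [sup_eq_left.2 ((Submodule.span_singleton_le_iff_mem _ _).2 (FunFldLib.colSpan_mono hge hM))] at h
      exact hjU h

end Groth.Agent.S12602
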