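import Groth.Statements.S12610
import Groth.Agent.S12608
import Groth.Agent.S12602
import Groth.Agent.FunFld.WDiv
-- import your own Groth.Agent.* helpers here

set_option autoImplicit false
open FunFld

namespace Groth.Agent.S12610

/-- Over an algebraically closed constant field, for a birational projective map `φ`, a `k`-endomorphism
`τ ≠ 1` and a place `P` fixed by `τ`, the place `P` is a Weierstrass point of `φ` with respect to
`τ`: the Weierstrass divisor `W(φ, τ) = [w_s(φ, τ)] + [τ(φ)] + n[φ] + j(φ, τ)[ds]` has positive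
coefficient at `P` (the divisor of `ds` read through a family of Laurent expansions). -/
theorem result
    (k K : Type*) [Field k] [IsAlgClosed k] [Field K] [Algebra k K]
    (hK : FunFld.IsFunctionField k K) {n : ℕ} (φ : Fin (n + 1) → K) (hφ : LinearIndependent k φ)
    (h0 : φ 0 ≠ 0) (hbir : IntermediateField.adjoin k (Set.range fun i => φ i / φ 0) = ⊤)
    (τ : K →ₐ[k] K) (hτ : τ ≠ AlgHom.id k K) (P : FunFld.Place k K) (hP : FunFld.IsFixedPt τ P)
    (s : K) (H : K →ₐ[k] PowerSeries K) (hH : LocRes.IsHasseFamily s H)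
    (J : Fin n → ℕ) (hJ : FunFld.IsOrders K (FunFld.hcol τ H φ) J)
    (Φ : FunFld.Place k K → (K →ₐ[k] LaurentSeries k))
    (hΦ : ∀ P : FunFld.Place k K, LocRes.IsExpansionAt P.1 (Φ P)) :
    0 < FunFld.wDiv τ H Φ s φ J P := by
  classical
  have hn : 0 < n := by
    rcases Nat.eq_zero_or_pos n with rfl | h
    · exfalso
      obtain ⟨x, hx, -⟩ := hK.1
      have hrange : (Set.range fun i : Fin 1 => φ i / φ 0) = {1} := by
        ext z; simp [Fin.exists_fin_one, div_self h0, eq_comm]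
      rw [hrange] at hbir
      have hx1 : x ∈ IntermediateField.adjoin k ({1} : Set K) := hbir ▸ IntermediateField.mem_top
      rw [IntermediateField.adjoin_simple_eq_bot_iff.2 (one_mem _), IntermediateField.mem_bot] at hx1
      obtain ⟨c, rfl⟩ := hx1
      exact hx (isAlgebraic_algebraMap c)
    · exact h
  obtain ⟨t, ht⟩ := FunFldLib.exists_val_eq P (-1)
  obtain ⟨Ht, hHt⟩ := FunFldLib.exists_hasse_param hK ht
  obtain ⟨e⟩ := FunFldLib.exists_paramExp hK ht
  obtain ⟨j, -, hj⟩ := Finset.exists_max_image Finset.univ (fun i => P.1 (φ i)) Finset.univ_nonempty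
  have hy : (φ j)⁻¹ ≠ 0 := inv_ne_zero (hφ.ne_zero j)
  set ψ : Fin (n + 1) → K := (φ j)⁻¹ • φ with hψdef
  have hψ : LinearIndependent k ψ :=
    hφ.map' (LinearMap.mulLeft k (φ j)⁻¹) (LinearMap.ker_eq_bot.2 (mul_right_injective₀ hy))
  have hint : ∀ i, P.1 (ψ i) ≤ 1 := fun i => by
    show P.1 ((φ j)⁻¹ * φ i) ≤ 1
    rw [map_mul, map_inv₀, inv_mul_le_iff₀ (zero_lt_iff.2 (FunFldLib.val_ne_zero P (hφ.ne_zero j))), mul_one]
    exact hj i (Finset.mem_univ i)
  have heff : (1 : K) ∈ Submodule.span k (Set.range ψ) :=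
    Submodule.subset_span ⟨j, inv_mul_cancel₀ (hφ.ne_zero j)⟩
  have hψ0 : ψ 0 ≠ 0 := hψ.ne_zero 0
  have hbir' : IntermediateField.adjoin k (Set.range fun i => ψ i / ψ 0) = ⊤ := by
    convert hbir using 3
    funext i
    exact mul_div_mul_left _ _ hy
  have hg := FunFldLib.isGeometric_of_isAlgClosed (k := k) (K := K)
  have hJψ : FunFld.IsOrders K (FunFld.hcol τ H ψ) J :=
    (FunFldLib.isOrders_congr (FunFldLib.colSpan_smul τ H φ _ hy) J).2 hJ
  have hJt : FunFld.IsOrders K (FunFld.hcol τ Ht ψ) J :=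
    (FunFldLib.isOrders_congr (FunFldLib.colSpan_change τ hK hg hH hHt ψ) J).2 hJψ
  rw [← FunFldLib.wDiv_smul hK τ hφ hH hJ hΦ hy, ← hψdef, ← FunFldLib.wDiv_change hK τ hψ hH hHt hJψ hΦ,
    FunFldLib.wDiv_apply_normalized hK τ J hP hint heff ht hHt hΦ]
  obtain ⟨Jid, hJid⟩ := FunFldLib.exists_orders (AlgHom.id k K) hK hHt hψ
  obtain ⟨J', hJ'⟩ : ∃ J' : Fin n → ℕ,
      FunFld.IsOrders (IsLocalRing.ResidueField P.O) (FunFld.hcolAt P Ht ψ) J' := by
    refine FunFldLib.exists_isOrders (fun h0' => ?_) ?_ (Module.finrank_fin_fun _)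
    · obtain ⟨a, ha⟩ := (Submodule.mem_span_range_iff_exists_fun k).1 heff
      have h2 := FunFldLib.evalP_comb e hK ht hHt hint a 0
      rw [ha, e.cf_one, map_one, Finset.sum_eq_zero fun i _ => by
        rw [FunFldLib.hasseD_zero_apply hHt, show FunFld.evalP P (ψ i) = 0 from congrFun h0' i, mul_zero]] at h2
      exact zero_ne_one h2
    · by_contra hne
      obtain ⟨f, hf, hker⟩ := Submodule.exists_le_ker_of_lt_top _ (lt_top_iff_ne_top.2 hne)
      choose a ha using fun i => e.residue_surjective (f (Pi.single i 1))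
      have hfv : ∀ v, f v = ∑ i, algebraMap k _ (a i) * v i := fun v => by
        conv_lhs => rw [pi_eq_sum_univ' v, map_sum]
        exact Finset.sum_congr rfl fun i _ => by rw [map_smul, smul_eq_mul, ha, mul_comm]
      have hz : ∑ i, a i • ψ i = 0 := e.eq_zero_of_cf (FunFldLib.val_comb_le_one hint a) fun m => by
        have h2 : f (FunFld.hcolAt P Ht ψ (m + 1)) = 0 := hker (Submodule.subset_span ⟨m + 1, rfl⟩)
        refine (algebraMap k (IsLocalRing.ResidueField P.O)).injective ?_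
        rw [← FunFldLib.evalP_comb e hK ht hHt hint, map_zero, ← h2, hfv]
        rfl
      refine hf (LinearMap.ext fun v => ?_)
      rw [hfv, LinearMap.zero_apply]
      exact Finset.sum_eq_zero fun i _ => by rw [Fintype.linearIndependent_iff.1 hψ a hz i, map_zero, zero_mul]
  have h2 := (Groth.Agent.S12608.result k K hK P ψ hψ heff hint t ht Ht hHt Jid hJid J' hJ' Φ hΦ).1
  obtain ⟨m, hm⟩ := Groth.Agent.S12602.result k K hK hn ψ hψ hψ0 hbir' τ hτ t Ht hHt Jid hJid
  have hmem : ∀ q, q = 0 ∨ (∃ l, l ≠ m ∧ Jid l = q) → q ∈ Set.range J := fun q hq => (hJt.2 q).2 ((hm q).2 hq)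
  have hle : ∀ l, J l ≤ Jid l := by
    intro l
    by_contra hlt
    push Not at hlt
    have hsub : insert 0 (((Finset.Iic l).erase m).image Jid) ⊆ (Finset.Iio l).image J := fun q hq => by
      have hq2 : q = 0 ∨ ∃ l' ∈ (Finset.Iic l).erase m, Jid l' = q := by simpa using hq
      obtain ⟨q', hq'⟩ := hmem q (hq2.imp id fun ⟨l', hl', he⟩ => ⟨l', (Finset.mem_erase.1 hl').1, he⟩)
      refine Finset.mem_image.2 ⟨q', Finset.mem_Iio.2 (hJt.1.lt_iff_lt.1 ?_), hq'⟩
      rw [hq']
      rcases hq2 with rfl | ⟨l', hl', rfl⟩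
      · omega
      · exact (hJid.1.monotone (Finset.mem_Iic.1 (Finset.mem_of_mem_erase hl'))).trans_lt hlt
    have h0' : (0 : ℕ) ∉ ((Finset.Iic l).erase m).image Jid := fun h => by
      obtain ⟨q, -, hq⟩ := Finset.mem_image.1 h
      have h1 := (hJid.2 (Jid q)).1 ⟨q, rfl⟩
      rw [hq] at h1
      refine h1 (Submodule.subset_span ⟨0, by simp, ?_⟩)
      exact (funext fun i => FunFldLib.hasseD_zero_apply hHt (ψ i)).symm
    have hc := (Finset.card_le_card hsub).trans Finset.card_image_le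
    rw [Finset.card_insert_of_notMem h0', Finset.card_image_of_injective _ hJid.1.injective, Fin.card_Iio] at hc
    have := Finset.pred_card_le_card_erase (s := Finset.Iic l) (a := m)
    rw [Fin.card_Iic] at this
    omega
  obtain ⟨l₀, hl₀⟩ := hmem 0 (Or.inl rfl)
  have hlt : ∑ l, (0 : ℤ) < ∑ l, ((J' l : ℤ) - J l) := Finset.sum_lt_sum
    (fun l _ => by have := hle l; have := h2 l; omega)
    ⟨l₀, Finset.mem_univ _, by have := FunFldLib.orders_at_pos e hK ht hHt hint hJ' l₀; omega⟩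
  simp only [Finset.sum_const_zero] at hlt
  have hb := (FunFldLib.det_estimate' e ht hHt τ hK hP hψ heff hint hJ' J).1
  rw [FunFldLib.val_le_exp_iff P (FunFldLib.det_orders_ne_zero τ hψ hJt)] at hb
  omega

end Groth.Agent.S12610
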