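import Groth.Statements.S12613
import Groth.Agent.FunFld.PlaneAdjoint
-- import your own Groth.Agent.* helpers here

set_option autoImplicit false
open FunFld

namespace Groth.Agent.S12613

/-- Over an algebraically closed constant field, for a birational plane map `φ = (1 : x : y)` of degree
`e` with irreducible relation `f̂(x, y) = 0`, the adjoint divisor `Δ(φ) = (e - 3)[φ] - [dx/f̂_y]`
has nonnegative coefficient at every place `Q`, and the coefficient is `0` exactly when `φ` is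
nonsingular at `Q`. The order of `dx/f̂_y` at `Q` is read through a Laurent expansion at `Q`,
through which that differential is assumed nonzero. -/
theorem result
    (k K : Type*) [Field k] [IsAlgClosed k] [Field K] [Algebra k K]
    (hK : FunFld.IsFunctionField k K) (x y : K) (hxy : IntermediateField.adjoin k ({x, y} : Set K) = ⊤)
    (f : MvPolynomial (Fin 2) k) (hf : Irreducible f) (hfxy : MvPolynomial.aeval ![x, y] f = 0)
    (Q : FunFld.Place k K) (ΦQ : K →ₐ[k] LaurentSeries k) (hΦQ : LocRes.IsExpansionAt Q.1 ΦQ)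
    (hne : LocRes.vDiff ΦQ (MvPolynomial.aeval ![x, y] (MvPolynomial.pderiv 1 f))⁻¹ x ≠ 0) :
    0 ≤ ((FunFld.mapDiv k ![(1 : K), x, y]).deg - 3) * FunFld.mapDiv k ![(1 : K), x, y] Q -
        LocRes.ordDiff ΦQ (MvPolynomial.aeval ![x, y] (MvPolynomial.pderiv 1 f))⁻¹ x ∧
    (((FunFld.mapDiv k ![(1 : K), x, y]).deg - 3) * FunFld.mapDiv k ![(1 : K), x, y] Q -
        LocRes.ordDiff ΦQ (MvPolynomial.aeval ![x, y] (MvPolynomial.pderiv 1 f))⁻¹ x = 0 ↔
      FunFld.IsNonsingularAt ![(1 : K), x, y] Q) := by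
  obtain ⟨t, ht⟩ := Groth.Agent.FunFldLib.exists_val_eq Q (-1)
  obtain ⟨Ht, hHt⟩ := Groth.Agent.FunFldLib.exists_hasse_param hK ht
  set fy := MvPolynomial.aeval ![x, y] (MvPolynomial.pderiv 1 f) with hfy_def
  have hfy : fy ≠ 0 := fun h => hne (by
    rw [Groth.Agent.FunFldLib.vDiff_eq hK ht hHt hΦQ, h, inv_zero, zero_mul, map_zero])
  obtain ⟨hDx, hnn, hiff⟩ := Groth.Agent.FunFldLib.plane_local hK hxy hfxy hf hfy Q ht hHt
  have heq : Groth.Agent.FunFldLib.adjOrd Q Ht x y f =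
      ((FunFld.mapDiv k ![(1 : K), x, y]).deg - 3) * FunFld.mapDiv k ![(1 : K), x, y] Q -
        LocRes.ordDiff ΦQ fy⁻¹ x := by
    rw [Groth.Agent.FunFldLib.adjOrd, Groth.Agent.FunFldLib.ordDiff_eq hK ht hHt hΦQ,
      inv_mul_eq_div, Groth.Agent.FunFldLib.ord_div Q hDx hfy,
      Groth.Agent.FunFldLib.deg_mapDiv_model hK hxy hfxy hf]
  rw [heq] at hnn hiff
  exact ⟨hnn, hiff⟩

end Groth.Agent.S12613
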