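import Groth.Statements.S12614
import Groth.Agent.FunFld.WDiv
-- import your own Groth.Agent.* helpers here

set_option autoImplicit false
open FunFld

namespace Groth.Agent.S12614

/-- Over an algebraically closed constant field, the Weierstrass divisor `W_s(φ, τ) = [w_s(φ, τ)] +
[τ(φ)] + n[φ] + j(φ, τ)[ds]` does not depend on the separating variable `s` and does not change when
`φ` is replaced by an equivalent map `y · Aφ` (`A` invertible over `k`, `y ≠ 0`). Divisors of
differentials are read through a fixed family of Laurent expansions. -/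
theorem result
    (k K : Type*) [Field k] [IsAlgClosed k] [Field K] [Algebra k K]
    (hK : FunFld.IsFunctionField k K) {n : ℕ} (φ : Fin (n + 1) → K) (hφ : LinearIndependent k φ)
    (τ : K →ₐ[k] K) (s : K) (Hs : K →ₐ[k] PowerSeries K) (hHs : LocRes.IsHasseFamily s Hs)
    (t : K) (Ht : K →ₐ[k] PowerSeries K) (hHt : LocRes.IsHasseFamily t Ht)
    (J : Fin n → ℕ) (hJ : FunFld.IsOrders K (FunFld.hcol τ Hs φ) J)
    (A : Matrix (Fin (n + 1)) (Fin (n + 1)) k) (hA : A.det ≠ 0) (y : K) (hy : y ≠ 0)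
    (φ' : Fin (n + 1) → K) (hφ' : ∀ i, φ' i = y * ∑ j, A i j • φ j)
    (Φ : FunFld.Place k K → (K →ₐ[k] LaurentSeries k))
    (hΦ : ∀ P : FunFld.Place k K, LocRes.IsExpansionAt P.1 (Φ P)) :
    FunFld.wDiv τ Ht Φ t φ' J = FunFld.wDiv τ Hs Φ s φ J := by
  classical
  have hlin : φ' = y • fun i => ∑ j, A i j • φ j := funext hφ'
  set ψ : Fin (n + 1) → K := fun i => ∑ j, A i j • φ j
  have hJψ : FunFld.IsOrders K (FunFld.hcol τ Hs ψ) J :=
    ⟨hJ.1, fun j => (hJ.2 j).trans (FunFldLib.isJump_linear τ Hs φ ψ A hA (fun i => rfl) (j + 1)).symm⟩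
  have hψ : LinearIndependent k ψ := by
    rw [Fintype.linearIndependent_iff]
    intro v hv
    simp only [ψ, Finset.smul_sum, smul_smul] at hv
    rw [Finset.sum_comm] at hv
    simp only [← Finset.sum_smul] at hv
    exact congrFun (Matrix.eq_zero_of_vecMul_eq_zero hA (funext (Fintype.linearIndependent_iff.1 hφ _ hv)))
  have hψy : LinearIndependent k (y • ψ) :=
    hψ.map' (LinearMap.mulLeft k y) (LinearMap.ker_eq_bot.2 (mul_right_injective₀ hy))
  have hJy : FunFld.IsOrders K (FunFld.hcol τ Hs (y • ψ)) J :=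
    (FunFldLib.isOrders_congr (FunFldLib.colSpan_smul τ Hs ψ y hy) J).2 hJψ
  rw [hlin, FunFldLib.wDiv_change hK τ hψy hHs hHt hJy hΦ, FunFldLib.wDiv_smul hK τ hψ hHs hJψ hΦ hy,
    FunFldLib.wDiv_linear hK τ hφ hHs hJ hΦ hA (fun i => rfl)]

end Groth.Agent.S12614
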