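import Groth.Statements.S12617
import Groth.Agent.FunFld.Embedding
import Groth.Agent.FunFld.LocalWr
-- import your own Groth.Agent.* helpers here

set_option autoImplicit false
open FunFld

namespace Groth.Agent.S12617

/-- Over an algebraically closed constant field, if the effective projective map `φ = (φ₀, …, φₙ)`, `n ≥
1`, normalized at `P`, is nonsingular at `P`, then its first order at `P` is `1`. -/
theorem result
    (k K : Type*) [Field k] [IsAlgClosed k] [Field K] [Algebra k K]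
    (hK : FunFld.IsFunctionField k K) (P : FunFld.Place k K) {n : ℕ} (hn : 0 < n) (φ : Fin (n + 1) → K)
    (hφ : LinearIndependent k φ)
    (heff : (1 : K) ∈ Submodule.span k (Set.range φ)) (hnorm : ∀ i, P.1 (φ i) ≤ 1) (hns : FunFld.IsNonsingularAt φ P)
    (t : K) (ht : P.1 t = WithZero.exp (-1))
    (Ht : K →ₐ[k] PowerSeries K) (hHt : LocRes.IsHasseFamily t Ht)
    (J' : Fin n → ℕ) (hJ' : FunFld.IsOrders (IsLocalRing.ResidueField P.O) (FunFld.hcolAt P Ht φ) J') :
    J' ⟨0, hn⟩ = 1 := by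
  obtain ⟨e⟩ := FunFldLib.exists_paramExp hK ht
  have hpos := FunFldLib.orders_at_pos e hK ht hHt hnorm hJ'
  by_contra hne
  have hno : ∀ f ∈ Submodule.span k (Set.range φ), P.1 f ≠ WithZero.exp (-((1 : ℕ) : ℤ)) := fun f hf hv => by
    rcases (FunFldLib.mem_orders_at_iff e hK ht hHt hnorm hJ' heff 1).2 ⟨f, hf, hv⟩ with h | ⟨l, hl⟩
    · omega
    · have : J' ⟨0, hn⟩ ≤ J' l := hJ'.1.monotone (Fin.mk_le_mk.2 (Nat.zero_le _))
      have := hpos ⟨0, hn⟩
      omega
  obtain ⟨j, -, hj⟩ := Finset.exists_max_image Finset.univ (fun i => P.1 (φ i)) Finset.univ_nonempty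
  have hj0 : φ j ≠ 0 := hφ.ne_zero j
  have hext : ∀ i, P.1 (φ i) ≤ P.1 (φ j) := fun i => hj i (Finset.mem_univ i)
  have hju : P.1 (φ j) = 1 := by
    refine le_antisymm (hnorm j) ?_
    obtain ⟨a, ha⟩ := (Submodule.mem_span_range_iff_exists_fun k).1 heff
    calc (1 : WithZero (Multiplicative ℤ)) = P.1 (1 : K) := (map_one _).symm
      _ ≤ P.1 (φ j) := ha ▸ P.1.map_sum_le fun i _ => by
          rw [Algebra.smul_def, map_mul]; exact (mul_le_of_le_one_left' (P.2.1 _)).trans (hext i)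
  have hcj : e.cf 0 (φ j) ≠ 0 := fun h => ((e.lt_one_iff (hnorm j)).2 h).ne hju
  refine FunFldLib.no_uniformizer hj0 hext (fun i => ⟨e.cf 0 (φ i) / e.cf 0 (φ j), ?_⟩) (hns t ?_) ht
  · set c := e.cf 0 (φ i) / e.cf 0 (φ j)
    have hf : φ i - c • φ j ∈ Submodule.span k (Set.range φ) :=
      sub_mem (Submodule.subset_span ⟨i, rfl⟩) (Submodule.smul_mem _ _ (Submodule.subset_span ⟨j, rfl⟩))
    have hf1 : P.1 (φ i - c • φ j) ≤ 1 := P.1.map_sub_le (hnorm i) (by
      rw [Algebra.smul_def, map_mul]; exact mul_le_one' (P.2.1 _) (hnorm j))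
    have hf2 : P.1 (φ i - c • φ j) ≤ WithZero.exp (-((2 : ℕ) : ℤ)) := (e.le_exp_iff 2).2 ⟨hf1, fun m hm => by
      have h0 : e.cf 0 (φ i - c • φ j) = 0 := by
        rw [sub_eq_add_neg, ← neg_smul, e.cf_add, e.cf_smul, neg_mul, div_mul_cancel₀ _ hcj, add_neg_cancel]
      rcases Nat.eq_zero_or_pos m with rfl | hm0
      · exact h0
      · obtain rfl : m = 1 := by omega
        by_contra h1
        exact hno _ hf ((e.eq_exp_iff 1).2 ⟨hf1, fun l hl => by obtain rfl : l = 0 := (by omega); exact h0, h1⟩)⟩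
    rw [show φ i / φ j - algebraMap k K c = (φ i - c • φ j) / φ j by rw [Algebra.smul_def]; field_simp,
      map_div₀, hju, div_one]
    exact hf2
  · rw [ht, ← WithZero.exp_zero, WithZero.exp_le_exp]; omega

end Groth.Agent.S12617
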