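import Mathlib
import Groth.Statements.S12623
-- import your own Groth.Agent.* helpers here

set_option autoImplicit false
universe u v
open CAlg

namespace Groth.Agent.S12623

/-- For a perfect field `K` of characteristic `p > 0` and a commutative `K`-algebra `A`, put `δ_i(x) =
x^(p^i - 1) dx` in `Ω_{A/K}` and let the subsets `Σ^i ⊆ Ω_{A/K}` be given by `Σ^0 = {0}` and
`Σ^(i+1) = {δ_i(x) + σ | x ∈ A, σ ∈ Σ^i}`; then the defect of additivity `δ_i(x + y) - δ_i(x) -
δ_i(y)` lies in `Σ^i` for all `i` and all `x, y ∈ A`. -/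
theorem result (K : Type u) (A : Type v) [Field K] [PerfectField K] (p : ℕ) [Fact p.Prime] [CharP K p]
    [CommRing A] [Algebra K A] (i : ℕ) (x y : A) :
    W4bk4bump814p2.delta K A p i (x + y) - W4bk4bump814p2.delta K A p i x - W4bk4bump814p2.delta K A p i y ∈
      W4bk4bump814p2.sigma K A p i := by
  classical
  have hsig : ∀ (m : ℕ) (T : ℕ → A), ∑ j ∈ Finset.range m, W4bk4bump814p2.delta K A p j (T j) ∈ W4bk4bump814p2.sigma K A p m := by
    intro m T
    induction m with
    | zero => simp
    | succ m ih => exact ⟨T m, by rw [Finset.sum_range_succ, add_sub_cancel_right]; exact ih⟩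
  let ev : Fin 2 × ℕ → MvPolynomial (Fin 2) ℤ := fun bk => if bk.2 = 0 then MvPolynomial.X bk.1 else 0
  let Φ : MvPolynomial (Fin 2) ℤ := MvPolynomial.X 0 + MvPolynomial.X 1
  let s : ℕ → MvPolynomial (Fin 2) ℤ := fun k => MvPolynomial.aeval ev (wittStructureInt p Φ k)
  have hp : p.Prime := Fact.out
  have hrel : ∀ n, ∑ k ∈ Finset.range (n + 1), MvPolynomial.C ((p : ℤ) ^ k) * s k ^ p ^ (n - k) =
      MvPolynomial.X 0 ^ p ^ n + MvPolynomial.X 1 ^ p ^ n := by
    intro n
    have h := congrArg (MvPolynomial.aeval ev) (wittStructureInt_prop p Φ n)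
    rw [MvPolynomial.aeval_bind₁, MvPolynomial.aeval_bind₁, wittPolynomial_eq_sum_C_mul_X_pow] at h
    simp only [Φ, map_add, MvPolynomial.aeval_X, MvPolynomial.aeval_rename, map_sum, map_mul, map_pow,
      MvPolynomial.aeval_C, Function.comp_apply] at h
    simp only [map_pow, map_natCast]
    refine Eq.trans (by simpa [s, Φ] using h) ?_
    congr 1 <;> rw [Finset.sum_eq_single 0] <;> simp +contextual [ev, hp.ne_zero]
  have hs0 : s 0 = MvPolynomial.X 0 + MvPolynomial.X 1 := by simpa using hrel 0
  have hder : ∀ (n : ℕ) (c : Fin 2), ∑ k ∈ Finset.range (n + 1), s k ^ (p ^ (n - k) - 1) * MvPolynomial.pderiv c (s k) =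
      MvPolynomial.X c ^ (p ^ n - 1) := by
    intro n c
    have hpn : ((p : MvPolynomial (Fin 2) ℤ) ^ n) ≠ 0 := pow_ne_zero _ (by exact_mod_cast hp.ne_zero)
    apply mul_left_cancel₀ hpn
    have h := congrArg (MvPolynomial.pderiv c) (hrel n)
    simp only [map_sum, map_add, MvPolynomial.pderiv_C_mul] at h
    simp only [Derivation.leibniz_pow, nsmul_eq_mul, smul_eq_mul,
      MvPolynomial.pderiv_X, Pi.single_apply, MvPolynomial.smul_eq_C_mul, map_pow, map_natCast, Nat.cast_pow] at h
    rw [Finset.mul_sum]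
    refine ((Finset.sum_congr rfl fun k hk => ?_).trans h).trans ?_
    · rw [← mul_assoc, ← mul_assoc, ← mul_assoc, ← pow_add, Nat.add_sub_cancel' (Nat.lt_succ_iff.mp (Finset.mem_range.mp hk))]
    · fin_cases c <;> simp
  let v : Fin 2 → A := ![x, y]
  let S : ℕ → A := fun k => MvPolynomial.aeval v (s k)
  have hD : ∀ P : MvPolynomial (Fin 2) ℤ, KaehlerDifferential.D K A (MvPolynomial.aeval v P) =
      ∑ c, MvPolynomial.aeval v (MvPolynomial.pderiv c P) • KaehlerDifferential.D K A (v c) := by
    intro P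
    induction P using MvPolynomial.induction_on with
    | C a => simp
    | add P Q hP hQ => simp [hP, hQ, add_smul, Finset.sum_add_distrib]
    | mul_X P b hP =>
      rw [map_mul, Derivation.leibniz, hP, MvPolynomial.aeval_X, Finset.smul_sum]
      simp only [MvPolynomial.pderiv_mul, MvPolynomial.pderiv_X, map_add, map_mul, MvPolynomial.aeval_X, add_smul, Finset.sum_add_distrib, smul_smul]
      rw [Finset.sum_eq_single (f := fun c => (MvPolynomial.aeval v P * MvPolynomial.aeval v (Pi.single (M := fun _ => MvPolynomial (Fin 2) ℤ) c 1 b)) • (KaehlerDifferential.D K A) (v c)) b (fun c _ hc => by simp [hc]) (by simp)]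
      simp [mul_comm, add_comm]
  have hsum : ∀ n, ∑ k ∈ Finset.range (n + 1), W4bk4bump814p2.delta K A p (n - k) (S k) =
      W4bk4bump814p2.delta K A p n x + W4bk4bump814p2.delta K A p n y := by
    intro n
    simp only [W4bk4bump814p2.delta, S, hD, Finset.smul_sum, smul_smul]
    rw [Finset.sum_comm]
    simp only [← Finset.sum_smul, ← map_pow, ← map_mul, ← map_sum, hder]
    simp [v, Fin.sum_univ_two]
  have hneg : ∀ (j : ℕ) (a : A), W4bk4bump814p2.delta K A p j (-a) = -W4bk4bump814p2.delta K A p j a := by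
    intro j a
    have h1 : (-1 : A) ^ p ^ j = -1 := by
      haveI : ExpChar K p := ExpChar.prime hp
      have h : ((0 : K) - 1) ^ p ^ j = 0 - 1 := by rw [sub_pow_expChar_pow, zero_pow (pow_ne_zero _ hp.ne_zero), one_pow]
      simpa using congrArg (algebraMap K A) h
    have e : p ^ j - 1 + 1 = p ^ j := Nat.sub_add_cancel (Nat.one_le_pow _ _ hp.pos)
    rw [W4bk4bump814p2.delta, W4bk4bump814p2.delta, map_neg, smul_neg, neg_pow, ← neg_smul, ← neg_smul]
    congr 1
    have h2 : (-1 : A) ^ (p ^ j - 1) = 1 := by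
      have := h1; rw [← e, pow_succ] at this
      linear_combination -this
    rw [h2, one_mul]
  have h := hsum i
  rw [Finset.sum_range_succ', Nat.sub_zero, show S 0 = x + y by simp [S, hs0, v]] at h
  have e : W4bk4bump814p2.delta K A p i (x + y) - W4bk4bump814p2.delta K A p i x - W4bk4bump814p2.delta K A p i y =
      ∑ j ∈ Finset.range i, W4bk4bump814p2.delta K A p j (-S (i - j)) := by
    rw [← Finset.sum_range_reflect (fun j => W4bk4bump814p2.delta K A p j (-S (i - j)))]
    simp only [hneg, Finset.sum_neg_distrib]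
    rw [sub_sub, ← h]
    have : ∑ k ∈ Finset.range i, W4bk4bump814p2.delta K A p (i - (k + 1)) (S (k + 1)) =
        ∑ k ∈ Finset.range i, W4bk4bump814p2.delta K A p (i - 1 - k) (S (i - (i - 1 - k))) :=
      Finset.sum_congr rfl fun k hk => by
        have := Finset.mem_range.mp hk
        rw [show i - (k + 1) = i - 1 - k by omega, show i - (i - 1 - k) = k + 1 by omega]
    rw [this]; abel
  rw [e]
  exact hsig i _

end Groth.Agent.S12623
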