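import Groth.Statements.S12631
import Groth.Agent.FunFld.ResiduePairing
-- import your own Groth.Agent.* helpers here

set_option autoImplicit false
universe u v w
open FunFld

namespace Groth.Agent.S12631

/-- Let `K/k` be a geometric function field of one variable of genus one all of whose places carry a
Laurent expansion over `k` in a local parameter (so every place is separable), and `v ∈ K` with `dv
≠ 0`. Then there is a nonzero `u ∈ K` whose differential `u dv` has divisor zero — the order of
`φ_P(u) · (φ_P v)′` is `0` at every place `P` — and such a `u` is unique up to a factor from `k`.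
(The published statement concerns elliptic curves over algebraically closed fields; this row is the
form for any constant field under the stated separability of all places.) -/
theorem result (k : Type u) (K : Type v) [Field k] [Field K] [Algebra k K]
    (hK : FunFld.IsFunctionField k K) (hg : FunFld.IsGeometric k K) (h1 : FunFld.genus k K = 1)
    (F : FunFld.Place k K → Type w) [∀ P, Field (F P)] [∀ P, Algebra k (F P)] [∀ P, FiniteDimensional k (F P)]
    (φ : ∀ P, K →ₐ[k] LaurentSeries (F P)) (hφ : ∀ P, LocRes.IsExpansionAt P.1 (φ P))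
    (v : K) (hv : KaehlerDifferential.D k K v ≠ 0) :
    (∃ u : K, u ≠ 0 ∧ ∀ P, LocRes.vDiff (φ P) u v = 1) ∧
      ∀ u u' : K, u ≠ 0 → (∀ P, LocRes.vDiff (φ P) u v = 1) → (∀ P, LocRes.vDiff (φ P) u' v = 1) →
        ∃ c : k, u' = c • u := by
  obtain ⟨C, hC, hiff⟩ := FunFldLib.exists_regular_eq_L hK hφ (FunFldLib.exists_kaehler_ratio hK hg hv)
  have hcan : FunFld.IsCanonical k K C := ⟨_, FunFldLib.IsDivOf.ne_zero hK hC, hC⟩
  obtain ⟨hell, hdeg⟩ := FunFldLib.canonical_ell_deg hK hcan
  rw [h1] at hell hdeg
  have hfd := FunFldLib.finiteDimensional_L hK C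
  have hmem : ∀ u : K, (∀ P, LocRes.vDiff (φ P) u v ≤ 1) ↔ u ∈ FunFld.L C := fun u => by
    have h := hiff 0 u
    simpa using h
  have hne : FunFld.L C ≠ ⊥ := fun h => by
    rw [FunFld.ell, h, finrank_bot] at hell; simp at hell
  obtain ⟨u, hu, hu0⟩ := Submodule.exists_mem_ne_zero_of_ne_bot hne
  refine ⟨⟨u, hu0, fun P => ?_⟩, fun w w' hw0 hw hw' => ?_⟩
  · set Z : FunFld.Divisor k K := C + FunFld.div k u with hZdef
    have hZ : 0 ≤ Z := fun Q => by
      have := (FunFldLib.mem_L_iff hu0).1 hu Q
      rw [Finsupp.zero_apply, hZdef, Finsupp.add_apply, FunFldLib.div_apply hK]; omega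
    have hZ0 : Z = 0 := (FunFldLib.eq_of_le_of_deg_le hK hZ (by
      rw [hZdef, FunFldLib.deg_add, FunFldLib.deg_div hK, hdeg, FunFldLib.deg_zero]; norm_num)).symm
    refine le_antisymm ((hmem u).2 hu P) (not_lt.1 fun hlt => ?_)
    have hP := DFunLike.congr_fun hZ0 P
    rw [hZdef, Finsupp.add_apply, FunFldLib.div_apply hK, Finsupp.zero_apply] at hP
    have hle : ∀ Q, LocRes.vDiff (φ Q) u v ≤ WithZero.exp (-((Finsupp.single P 1 : FunFld.Divisor k K) Q)) := fun Q => by
      by_cases hQ : Q = P
      · subst hQ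
        rw [Finsupp.single_eq_same]
        rcases eq_or_ne (LocRes.vDiff (φ Q) u v) 0 with h | h
        · rw [h]; exact zero_le
        rw [← WithZero.exp_log h, ← WithZero.exp_zero, WithZero.exp_lt_exp] at hlt
        rw [← WithZero.exp_log h, WithZero.exp_le_exp]; omega
      · rw [Finsupp.single_eq_of_ne hQ, neg_zero, WithZero.exp_zero]
        exact (hmem u).2 hu Q
    have h2 := (FunFldLib.mem_L_iff hu0).1 ((hiff (Finsupp.single P 1) u).1 hle) P
    rw [Finsupp.sub_apply, Finsupp.single_eq_same] at h2
    omega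
  · have hone : Module.finrank k (FunFld.L C) = 1 := by
      rw [show Module.finrank k (FunFld.L C) = FunFld.ell C from rfl]; exact_mod_cast hell
    obtain ⟨c, hc⟩ := exists_smul_eq_of_finrank_eq_one hone (x := (⟨w, (hmem w).1 fun P => (hw P).le⟩ : FunFld.L C))
      (fun h => hw0 (congrArg Subtype.val h)) ⟨w', (hmem w').1 fun P => (hw' P).le⟩
    exact ⟨c, (congrArg Subtype.val hc).symm⟩

end Groth.Agent.S12631
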