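import Groth.Statements.S12692
import Groth.Agent.SymAlgExist.Locus
import Groth.Agent.SymAlgExist.ImmCritMain
import Groth.Agent.S12146

set_option autoImplicit false
universe u
open CategoryTheory CategoryTheory.Limits AlgebraicGeometry TopologicalSpace Opposite
open scoped HomogeneousIdeal
noncomputable section
open Coh

namespace Groth.Agent.S12692

open Groth.Agent.SymAlgExist Groth.Agent.SymAlgExist.ImmCrit

/-- Let X be a quasi-compact scheme, L an invertible O_X-module with graded symmetric algebra 𝒮L =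
⊕_{d≥0} L^{⊗d} (whose relative Proj PL, given with its charts, is identified with X by its structure
morphism), f : X → Y a quasi-compact morphism to an AFFINE scheme Y, 𝒜 a quasi-coherent graded
O_Y-algebra given with a graded f-morphism u : 𝒜 → f_*𝒮L which is bijective on global sections — so
that Γ(Y, 𝒜) is the graded ring S = ⊕_d Γ(X, L^{⊗d}) and P = Proj(𝒜) (given with its charts) is
Proj(S) — and r : G(u) → P the canonical morphism on its open of definition G(u) ⊆ PL. If G(u) is
all of PL (that is, every point of X lies in an open X_s for some homogeneous s ∈ S_+), then r is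
quasi-compact and has dense image. (The published statement forms the homogeneous spectrum of the
graded ring S itself, with no base scheme; any affine Y under X gives the same graded ring, the same
homogeneous spectrum and the same morphism.) -/
theorem result {X Y P PL : Scheme.{u}} [CompactSpace X]
    (f : X ⟶ Y) [QuasiCompact f] (hY : IsAffineOpen (⊤ : Y.Opens))
    (L : X.Modules) (hL : PicF.IsInvertible L) (hLq : Coh.IsQCoh L)
    (𝒮L : RelProj.QCGrAlg X) (jL : L ⟶ 𝒮L.toModule) (hjL : RelProj.IsGrSymAlg L 𝒮L jL)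
    (pL : PL ⟶ X) (chartL : ∀ (U : X.Opens) (hU : IsAffineOpen U), (((pL ⁻¹ᵁ U : PL.Opens) : Scheme.{u}) ≅ Proj (𝒮L.deg U hU)))
    (hPL : RelProj.IsRelProj 𝒮L pL chartL)
    (𝒜 : RelProj.QCGrAlg Y) (u : RelProj.QGrHom f 𝒜 𝒮L)
    (p : P ⟶ Y) (chart : ∀ (U : Y.Opens) (hU : IsAffineOpen U), (((p ⁻¹ᵁ U : P.Opens) : Scheme.{u}) ≅ Proj (𝒜.deg U hU)))
    (hP : RelProj.IsRelProj 𝒜 p chart)
    (r : ((RelProj.domQ u pL chartL : PL.Opens) : Scheme.{u}) ⟶ P)
    (hr : RelProj.IsProjQMapOn u p chart pL chartL (RelProj.domQ u pL chartL) r)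
    (hu : Function.Bijective (u.app ⊤).hom)
    (htop : RelProj.domQ u pL chartL = ⊤) :
    QuasiCompact r ∧ IsDominant r := by
  have : L.IsQuasicoherent := hLq
  refine ⟨?_, ?_⟩
  · choose n s hn hs hy using fun y : Proj (𝒜.deg ⊤ hY) => exists_homogeneous_not_mem y
    let B : Proj (𝒜.deg ⊤ hY) → P.Opens := fun a => (dplus chart hY (hn a) (s a) (hs a)).opensRange
    have hB : ⨆ a, B a = ⊤ := eq_top_iff.mpr fun x _ => by
      obtain ⟨y, hyx⟩ := Groth.Agent.RelProjBasic.exists_emb_eq (chart := chart) ⊤ hY x trivial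
      exact Opens.mem_iSup.mpr ⟨y, (mem_range_dplus hY (hn y) (s y) (hs y) x).mpr ⟨y, hyx, hy y⟩⟩
    refine HasAffineProperty.of_iSup_eq_top (P := @QuasiCompact) (fun a => ⟨B a, isAffineOpen_opensRange _⟩) hB fun a => ?_
    show CompactSpace (r ⁻¹ᵁ B a : Scheme.{u})
    refine isCompact_iff_compactSpace.mp ?_
    rw [show r ⁻¹ᵁ B a = (RelProj.domQ u pL chartL).ι ⁻¹ᵁ (pL ⁻¹ᵁ locus f u (s a) (n a)) from
      preimage_dplus hL hjL hP hPL hr hY (hn a) (s a) (hs a)]
    have := isIso_pL hL hjL hPL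
    show IsCompact ((RelProj.domQ u pL chartL).ι.base ⁻¹' (pL.base ⁻¹' (locus f u (s a) (n a) : Set X)))
    refine (RelProj.domQ u pL chartL).ι.isOpenEmbedding.isInducing.isCompact_preimage' ?_ ?_
    · exact pL.homeomorph.isCompact_preimage.mpr (isCompact_locus hL hjL hPL hY (hn a) (s a) (hs a))
    · rw [Scheme.Opens.range_ι]
      exact preimage_locus_le hL hjL hPL hY (hn a) (s a) (hs a)
  · refine (Groth.Agent.S12146.result f L hL hLq 𝒜 𝒮L jL hjL u p chart hP pL chartL hPL r hr hY).mpr ?_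
    intro n hn s hs hloc
    have hnil : IsNilpotent ((u.app ⊤).hom s) := by
      choose V hV hxV hN using hloc
      choose k hk using hN
      obtain ⟨S, hS⟩ := isCompact_univ.elim_finite_subcover (fun x => (V x : Set X)) (fun x => (V x).2)
        (fun x _ => Set.mem_iUnion.mpr ⟨x, hxV x⟩)
      refine ⟨S.sup k, ?_⟩
      refine TopCat.Sheaf.eq_of_locally_eq'
        (F := (⟨𝒮L.toQCAlg.toAb, 𝒮L.toQCAlg.isSheaf_toAb⟩ : TopCat.Sheaf AddCommGrpCat.{u} X.carrier))
        (fun x : {x // x ∈ S} => V x.1) (f ⁻¹ᵁ ⊤) (fun x => homOfLE (le_preimage_top (q := f) _))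
        (fun y _ => ?_) _ _ fun x => ?_
      · obtain ⟨x, hx, hyx⟩ := Set.mem_iUnion₂.mp (hS (Set.mem_univ y))
        exact Opens.mem_iSup.mpr ⟨⟨x, hx⟩, hyx⟩
      · show (𝒮L.presheaf.map _).hom ((u.app ⊤).hom s ^ S.sup k) = (𝒮L.presheaf.map _).hom 0
        rw [map_pow, map_zero]
        exact pow_eq_zero_of_le (Finset.le_sup x.2) (hk x.1)
    exact (IsNilpotent.map_iff hu.1).mp hnil


end Groth.Agent.S12692
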