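import Mathlib
import Groth.Statements.S12708
-- import your own Groth.Agent.* helpers here

set_option autoImplicit false
universe u v
open CategoryTheory
open ArtFun

namespace Groth.Agent.S12708

/-- For Λ Noetherian with a finite map to a field k, A a local Λ-algebra whose residue field is k
(through a surjective Λ-algebra map A → k) and M an A-module, the length of M over Λ equals the
degree of k over the image of Λ times the length of M over A. The degree is written as the length of
k as a Λ-module, which is the same number; lengths are in ℕ∞. -/
theorem result {Λ : Type u} {k : Type u} [CommRing Λ] [Field k] [Algebra Λ k]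
    [IsNoetherianRing Λ] [Module.Finite Λ k]
    (A : Type u) [CommRing A] [Algebra Λ A] [IsLocalRing A] [Algebra A k] [IsScalarTower Λ A k]
    (hres : Function.Surjective (algebraMap A k))
    (M : Type v) [AddCommGroup M] [Module A M] [Module Λ M] [IsScalarTower Λ A M] :
    Module.length Λ k * Module.length A M = Module.length Λ M := by
  classical
  have hk0 : Module.length Λ k ≠ 0 := Module.length_pos.ne'
  by_cases hM : Module.length A M = ⊤
  · rw [hM, ENat.mul_top hk0, eq_comm, ← top_le_iff]
    calc (⊤ : ℕ∞) = Module.length A (⊤ : Submodule A M) := by rw [Module.length_top, hM]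
      _ ≤ Module.length Λ ((⊤ : Submodule A M).restrictScalars Λ) := Submodule.length_le_length_restrictScalars Λ _
      _ = _ := by rw [Submodule.restrictScalars_top, Module.length_top]
  rw [← ne_eq, Module.length_ne_top_iff] at hM
  suffices H : ∀ (M : Type v) [AddCommGroup M] [Module A M], IsFiniteLength A M →
      ∀ [Module Λ M] [IsScalarTower Λ A M], Module.length Λ k * Module.length A M = Module.length Λ M from H M hM
  clear hM
  intro M _ _ hM
  induction hM with
  | of_subsingleton => intro _ _; simp [Module.length_eq_zero]
  | @of_simple_quotient M _ _ N _ _ ih =>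
    intro _ _
    have eA := Module.length_eq_add_of_exact N.subtype N.mkQ N.injective_subtype N.mkQ_surjective (LinearMap.exact_subtype_mkQ N)
    have eΛ := Module.length_eq_add_of_exact (N.subtype.restrictScalars Λ) (N.mkQ.restrictScalars Λ) N.injective_subtype N.mkQ_surjective (LinearMap.exact_subtype_mkQ N)
    rw [eA, eΛ, mul_add, ih]
    congr 1
    rw [show Module.length A (M ⧸ N) = 1 from Module.length_eq_one _ _, mul_one]
    obtain ⟨m, hm, ⟨e⟩⟩ := isSimpleModule_iff_quot_maximal.1 (inferInstance : IsSimpleModule A (M ⧸ N))
    have hmax : m = RingHom.ker (algebraMap A k) :=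
      (IsLocalRing.eq_maximalIdeal hm).trans (IsLocalRing.eq_maximalIdeal (RingHom.ker_isMaximal_of_surjective _ hres)).symm
    let f : A →ₗ[A] k := Algebra.linearMap A k
    let e' : (A ⧸ m) ≃ₗ[A] k := (Submodule.quotEquivOfEq m (LinearMap.ker f) hmax) ≪≫ₗ f.quotKerEquivOfSurjective hres
    exact (((e ≪≫ₗ e').restrictScalars Λ).length_eq).symm

end Groth.Agent.S12708
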