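import Groth.Statements.S12709
import Groth.Agent.ArtFunLib.Criteria
import Groth.Agent.ArtFunLib.Trunc
import Mathlib

set_option autoImplicit false
universe u v
open CategoryTheory
open ArtFun ArtFun.Art

namespace Groth.Agent.S12709

/-- Given a morphism f : A → B in the category of Artinian local Λ-algebras with residue field k, three
conditions coincide: (1) surjectivity of f; (2) f induces an onto map from the cotangent space of A
to the cotangent space of B, which in ideal-theoretic form says f(m_A)B + m_B² = m_B; (3) the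
induced map on cotangent spaces relative to Λ is surjective, written as m_Λ B + f(m_A)B + m_B² = m_B
with m_Λ the kernel of Λ → k. -/
theorem result {Λ : Type u} {k : Type u} [CommRing Λ] [Field k] [Algebra Λ k]
    [IsNoetherianRing Λ] [Module.Finite Λ k]
    {A B : ArtFun.Art Λ k} (f : A ⟶ B) :
    List.TFAE [Function.Surjective f,
      Ideal.map f.toAlgHom (IsLocalRing.maximalIdeal A) ⊔ IsLocalRing.maximalIdeal B ^ 2 = IsLocalRing.maximalIdeal B,
      Ideal.map (algebraMap Λ B) (RingHom.ker (algebraMap Λ k)) ⊔ Ideal.map f.toAlgHom (IsLocalRing.maximalIdeal A) ⊔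
        IsLocalRing.maximalIdeal B ^ 2 = IsLocalRing.maximalIdeal B] := by
  open Groth.Agent.ArtFunLib ArtFun ArtFun.Art ArtFun.CRing in
  classical
  set mA := IsLocalRing.maximalIdeal A
  set mB := IsLocalRing.maximalIdeal B
  have hle : Ideal.map f.toAlgHom mA ≤ mB :=
    Ideal.map_le_iff_le_comap.mpr fun a ha => map_mem_maximalIdeal f ha
  have hΛ : Ideal.map (algebraMap Λ B) (RingHom.ker (algebraMap Λ k)) ≤ Ideal.map f.toAlgHom mA :=
    Ideal.map_le_iff_le_comap.mpr fun r hr => by
      rw [Ideal.mem_comap, ← f.toAlgHom.commutes r]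
      refine Ideal.mem_map_of_mem _ ((Art.mem_maximalIdeal_iff A _).mpr ?_)
      rw [A.res.commutes]
      exact hr
  tfae_have 1 → 2 := fun hf => by
    refine le_antisymm (sup_le hle (Ideal.pow_le_self two_ne_zero)) fun b hb => ?_
    obtain ⟨a, rfl⟩ := hf b
    rw [Art.mem_maximalIdeal_iff, res_app] at hb
    exact Submodule.mem_sup_left (Ideal.mem_map_of_mem _ ((Art.mem_maximalIdeal_iff A a).mpr hb))
  tfae_have 2 → 1 := fun h => surjective_of_cotangent f h.ge
  tfae_have 2 → 3 := fun h => le_antisymm (sup_le (sup_le (hΛ.trans hle) hle)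
    (Ideal.pow_le_self two_ne_zero)) (h.ge.trans (sup_le_sup_right le_sup_right _))
  tfae_have 3 → 2 := fun h => le_antisymm (sup_le hle (Ideal.pow_le_self two_ne_zero))
    (h.ge.trans (sup_le_sup_right (sup_le hΛ le_rfl) _))
  tfae_finish

end Groth.Agent.S12709
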