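import Groth.Statements.S12711
import Groth.Agent.ArtFunLib.Criteria
import Mathlib

set_option autoImplicit false
universe u v
open CategoryTheory
open ArtFun ArtFun.Art

namespace Groth.Agent.S12711

/-- If B together with p₁ : B → A₁ and p₂ : B → A₂ is the fibre product A₁ ×_A A₂ in the category of
Artinian local Λ-algebras with residue field k, and f₂ : A₂ → A is a small extension, then the
projection p₁ : B → A₁ is a small extension. -/
theorem result {Λ : Type u} {k : Type u} [CommRing Λ] [Field k] [Algebra Λ k]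
    [IsNoetherianRing Λ] [Module.Finite Λ k]
    {B A A₁ A₂ : ArtFun.Art Λ k} {p₁ : B ⟶ A₁} {p₂ : B ⟶ A₂} {f₁ : A₁ ⟶ A} {f₂ : A₂ ⟶ A}
    (h : ArtFun.Art.IsFibreProd p₁ p₂ f₁ f₂) (hf₂ : ArtFun.Art.IsSmallExt f₂) :
    ArtFun.Art.IsSmallExt p₁ := by
  open Groth.Agent.ArtFunLib ArtFun ArtFun.Art in
  obtain ⟨t, ht⟩ := exists_gen hf₂
  have htk : f₂ t = 0 := (ht ▸ Ideal.mem_span_singleton_self t : t ∈ RingHom.ker f₂.toAlgHom)
  obtain ⟨b, hb₁, hb₂⟩ := h.surj 0 t (by rw [htk, map_zero])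
  have hker : RingHom.ker p₁.toAlgHom = Ideal.span {b} := by
    refine le_antisymm (fun z hz => ?_) ((Ideal.span_singleton_le_iff_mem _).mpr hb₁)
    obtain ⟨c, hc⟩ := exists_mul_gen ht (x := p₂ z) (by
      rw [← h.w_apply, show p₁ z = 0 from hz, map_zero])
    obtain ⟨e, he⟩ := B.res_surjective (A₂.res c)
    refine Ideal.mem_span_singleton'.mpr ⟨e, h.inj _ _ ?_ ?_⟩
    · rw [map_mul, hb₁, mul_zero, show p₁ z = 0 from hz]
    · rw [map_mul, hb₂, ← hc]
      exact (mul_gen_eq_iff hf₂ ht _ _).mpr ((res_app p₂ e).trans he)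
  refine ⟨fibreProd_surjective_fst h hf₂.1, ?_, ⟨⟨b, hker⟩⟩, ?_⟩
  · intro h0
    rw [hker, Ideal.span_singleton_eq_bot] at h0
    apply hf₂.2.1
    rw [ht, Ideal.span_singleton_eq_bot, ← hb₂, h0, map_zero]
  · refine le_bot_iff.mp (Ideal.mul_le.mpr fun m hm z hz => ?_)
    rw [Ideal.mem_bot]
    have hz₂ : f₂ (p₂ z) = 0 := by rw [← h.w_apply, show p₁ z = 0 from hz, map_zero]
    refine h.inj _ _ (by rw [map_mul, show p₁ z = 0 from hz, mul_zero, map_zero]) ?_
    rw [map_mul, map_zero]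
    exact hf₂.2.2.2.le (Ideal.mul_mem_mul (map_mem_maximalIdeal p₂ hm) hz₂)

end Groth.Agent.S12711
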