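import Groth.Statements.S12712
import Groth.Agent.ArtFunLib.Criteria
import Groth.Agent.ArtFunLib.Trunc
import Groth.Agent.ArtFunLib.Separable
import Mathlib

set_option autoImplicit false
universe u v
open CategoryTheory
open ArtFun ArtFun.Art

namespace Groth.Agent.S12712

/-- If k is separable over the image of Λ → k, then for any two morphisms f₁ : A₁ → A and f₂ : A₂ → A in
the category of Artinian local Λ-algebras with residue field k the set-theoretic fibre product A₁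
×_A A₂ is again an object of the category. -/
theorem result {Λ : Type u} {k : Type u} [CommRing Λ] [Field k] [Algebra Λ k]
    [IsNoetherianRing Λ] [Module.Finite Λ k]
    [Algebra.IsSeparable (↥(algebraMap Λ k).range) k]
    {A A₁ A₂ : ArtFun.Art Λ k} (f₁ : A₁ ⟶ A) (f₂ : A₂ ⟶ A) :
    ∃ (B : ArtFun.Art Λ k) (p₁ : B ⟶ A₁) (p₂ : B ⟶ A₂), ArtFun.Art.IsFibreProd p₁ p₂ f₁ f₂ := by
  open Groth.Agent.ArtFunLib ArtFun ArtFun.Art ArtFun.CRing in
  refine exists_fibreProd_of_res f₁ f₂ fun c => ?_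
  obtain ⟨p, hp⟩ := exists_unique_root (Λ := Λ) c
  obtain ⟨r₁, ⟨hr₁, hr₁'⟩, -⟩ := hp A₁
  obtain ⟨r₂, ⟨hr₂, hr₂'⟩, -⟩ := hp A₂
  refine ⟨r₁, r₂, (hp A).unique ⟨?_, ?_⟩ ⟨?_, ?_⟩, hr₁⟩
  · rw [res_app, hr₁]
  · rw [Polynomial.aeval_algHom_apply, hr₁', map_zero]
  · rw [res_app, hr₂]
  · rw [Polynomial.aeval_algHom_apply, hr₂', map_zero]

end Groth.Agent.S12712
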