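import Groth.Statements.S12713
import Groth.Agent.ArtFunLib.Criteria
import Groth.Agent.ArtFunLib.Split
import Mathlib

set_option autoImplicit false
universe u v
open CategoryTheory
open ArtFun ArtFun.Art

namespace Groth.Agent.S12713

/-- A small extension f : B → A in the category of Artinian local Λ-algebras with residue field k is not
an essential surjection (some morphism g : C → B is non-surjective although the composite C → A is
surjective) if and only if f has a section A → B in the category. -/
theorem result {Λ : Type u} {k : Type u} [CommRing Λ] [Field k] [Algebra Λ k]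
    [IsNoetherianRing Λ] [Module.Finite Λ k]
    {A B : ArtFun.Art Λ k} (f : B ⟶ A) (hf : ArtFun.Art.IsSmallExt f) :
    (∃ (C : ArtFun.Art Λ k) (g : C ⟶ B), Function.Surjective (g ≫ f) ∧ ¬ Function.Surjective g) ↔
      ∃ s : A ⟶ B, s ≫ f = 𝟙 A := by
  open Groth.Agent.ArtFunLib ArtFun ArtFun.Art in
  obtain ⟨t, ht⟩ := exists_gen hf
  constructor
  · rintro ⟨C, g, hgf, hg⟩
    have hinj : ∀ c c', f (g c) = f (g c') → g c = g c' := by
      intro c c' he
      by_contra hne
      apply hg
      obtain ⟨b, hb⟩ := exists_mul_gen ht (x := g c - g c') (by rw [map_sub, he, sub_self])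
      have hb0 : B.res b ≠ 0 := fun h0 => hne (sub_eq_zero.mp (by
        rw [← hb, (mul_gen_eq_iff hf ht b 0).mpr (by rw [h0, map_zero]), zero_mul]))
      intro y
      obtain ⟨a, ha⟩ := hgf (f y)
      obtain ⟨d, hd⟩ := exists_mul_gen ht (x := y - g a) (by
        rw [map_sub, show f (g a) = f y from ha, sub_self])
      obtain ⟨e, he'⟩ := C.res_surjective (B.res d / B.res b)
      refine ⟨a + e * (c - c'), ?_⟩
      rw [map_add, map_mul, map_sub, ← hb, ← mul_assoc,
        (mul_gen_eq_iff hf ht (g e * b) d).mpr (by rw [map_mul, res_app, he', div_mul_cancel₀ _ hb0]),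
        hd, add_sub_cancel]
    choose c hc using hgf
    have key : ∀ a x, f (g x) = a → g (c a) = g x := fun a x hx => hinj _ _ ((hc a).trans hx.symm)
    let s : A →ₐ[Λ] B :=
      { toFun := fun a => g (c a)
        map_one' := (key 1 1 (by simp)).trans (map_one _)
        map_zero' := (key 0 0 (by simp)).trans (map_zero _)
        map_add' := fun x y => (key _ (c x + c y) (by rw [map_add, map_add]; exact congrArg₂ (· + ·) (hc x) (hc y))).trans (map_add _ _ _)
        map_mul' := fun x y => (key _ (c x * c y) (by rw [map_mul, map_mul]; exact congrArg₂ (· * ·) (hc x) (hc y))).trans (map_mul _ _ _)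
        commutes' := fun l => (key _ (algebraMap Λ C l) (by simp)).trans (AlgHom.commutes _ _) }
    refine ⟨⟨s, AlgHom.ext fun a => ?_⟩, hom_ext' fun a => hc a⟩
    show B.res (g (c a)) = A.res a
    rw [← res_app f, show f (g (c a)) = a from hc a]
  · rintro ⟨s, hs⟩
    refine ⟨A, s, fun a => ⟨a, congr_hom hs a⟩, fun hsur => hf.2.1 ((injective_iff_ker f).mp ?_)⟩
    intro x y hxy
    obtain ⟨a, rfl⟩ := hsur x
    obtain ⟨b, rfl⟩ := hsur y
    rw [show a = b from (congr_hom hs a).symm.trans (hxy.trans (congr_hom hs b))]

end Groth.Agent.S12713
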