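import Groth.Statements.S12714
import Mathlib
-- import your own Groth.Agent.* helpers here

set_option autoImplicit false
universe u v
open CategoryTheory
open ArtFun ArtFun.CRing

namespace Groth.Agent.S12714

/-- For a morphism f : R → S of complete local Noetherian Λ-algebras with residue field k (compatible
with the augmentations to k), the following are equivalent: (1) f is surjective; (2) m_R/m_R² →
m_S/m_S² is surjective, written as f(m_R)S + m_S² = m_S; (3) the map of cotangent spaces relative to
Λ is surjective, written as m_Λ S + f(m_R)S + m_S² = m_S with m_Λ the kernel of Λ → k. -/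
theorem result {Λ : Type u} {k : Type u} [CommRing Λ] [Field k] [Algebra Λ k]
    [IsNoetherianRing Λ] [Module.Finite Λ k]
    (R S : ArtFun.CRing Λ k) (f : R.carrier →ₐ[Λ] S.carrier) (hf : S.res.comp f = R.res) :
    List.TFAE [Function.Surjective f,
      Ideal.map f (IsLocalRing.maximalIdeal R.carrier) ⊔ IsLocalRing.maximalIdeal S.carrier ^ 2 =
        IsLocalRing.maximalIdeal S.carrier,
      Ideal.map (algebraMap Λ S.carrier) (RingHom.ker (algebraMap Λ k)) ⊔
        Ideal.map f (IsLocalRing.maximalIdeal R.carrier) ⊔ IsLocalRing.maximalIdeal S.carrier ^ 2 =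
        IsLocalRing.maximalIdeal S.carrier] := by
  have hkerR : RingHom.ker R.res = IsLocalRing.maximalIdeal R.carrier :=
    IsLocalRing.eq_maximalIdeal (RingHom.ker_isMaximal_of_surjective R.res R.res_surjective)
  have hkerS : RingHom.ker S.res = IsLocalRing.maximalIdeal S.carrier :=
    IsLocalRing.eq_maximalIdeal (RingHom.ker_isMaximal_of_surjective S.res S.res_surjective)
  have hmap : Ideal.map f (IsLocalRing.maximalIdeal R.carrier) ≤
      IsLocalRing.maximalIdeal S.carrier := by
    rw [Ideal.map_le_iff_le_comap]
    intro x hx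
    rw [← hkerR, RingHom.mem_ker, ← hf, AlgHom.comp_apply] at hx
    rw [Ideal.mem_comap, ← hkerS, RingHom.mem_ker]
    exact hx
  have hΛ : Ideal.map (algebraMap Λ S.carrier) (RingHom.ker (algebraMap Λ k)) ≤
      Ideal.map f (IsLocalRing.maximalIdeal R.carrier) := by
    rw [Ideal.map_le_iff_le_comap]
    intro x hx
    rw [Ideal.mem_comap, ← f.commutes]
    refine Ideal.mem_map_of_mem _ ?_
    rw [← hkerR, RingHom.mem_ker, AlgHom.commutes]
    exact hx
  tfae_have 1 → 2 := by
    intro hs
    have e : Ideal.map f (IsLocalRing.maximalIdeal R.carrier) =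
        IsLocalRing.maximalIdeal S.carrier := by
      refine le_antisymm hmap fun y hy => ?_
      obtain ⟨x, rfl⟩ := hs y
      refine Ideal.mem_map_of_mem _ ?_
      rw [← hkerR, RingHom.mem_ker, ← hf, AlgHom.comp_apply]
      rw [← hkerS] at hy
      exact hy
    rw [e]
    exact sup_eq_left.mpr (Ideal.pow_le_self two_ne_zero)
  tfae_have 2 ↔ 3 := by
    rw [sup_eq_right.mpr hΛ]
  tfae_have 2 → 1 := by
    intro h
    have e : Ideal.map f (IsLocalRing.maximalIdeal R.carrier) =
        IsLocalRing.maximalIdeal S.carrier := by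
      refine le_antisymm hmap ?_
      refine Submodule.le_of_le_smul_of_le_jacobson_bot (I := IsLocalRing.maximalIdeal S.carrier)
        (IsNoetherian.noetherian _) (IsLocalRing.maximalIdeal_le_jacobson _) ?_
      rw [smul_eq_mul, ← pow_two]
      exact h.symm.le
    haveI : IsPrecomplete (IsLocalRing.maximalIdeal R.carrier) R.carrier :=
      R.isAdicComplete.toIsPrecomplete
    haveI : IsHausdorff ((IsLocalRing.maximalIdeal R.carrier).map f.toRingHom) S.carrier := by
      show IsHausdorff (Ideal.map f (IsLocalRing.maximalIdeal R.carrier)) S.carrier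
      rw [e]
      exact S.isAdicComplete.toIsHausdorff
    refine surjective_of_mk_map_comp_surjective (I := IsLocalRing.maximalIdeal R.carrier)
      f.toRingHom fun y => ?_
    obtain ⟨s, rfl⟩ := Ideal.Quotient.mk_surjective y
    obtain ⟨x, hx⟩ := R.res_surjective (S.res s)
    refine ⟨x, ?_⟩
    rw [RingHom.comp_apply, Ideal.Quotient.eq]
    show f x - s ∈ Ideal.map f (IsLocalRing.maximalIdeal R.carrier)
    rw [e, ← hkerS, RingHom.mem_ker, map_sub, sub_eq_zero, ← hx, ← hf]
    rfl
  tfae_finish

end Groth.Agent.S12714
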