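import Groth.Statements.S12715
import Mathlib
-- import your own Groth.Agent.* helpers here

set_option autoImplicit false
universe u v
open CategoryTheory
open ArtFun

namespace Groth.Agent.S12715

/-- For Λ Noetherian with a finite map to the field k and S a complete local Noetherian Λ-algebra with
residue field k (through a surjective map S → k over Λ), the space of Λ-derivations S → k is
finite-dimensional over k. -/
theorem result {Λ : Type u} {k : Type u} [CommRing Λ] [Field k] [Algebra Λ k]
    [IsNoetherianRing Λ] [Module.Finite Λ k]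
    (S : Type u) [CommRing S] [Algebra Λ S] [IsLocalRing S] [IsNoetherianRing S]
    [IsAdicComplete (IsLocalRing.maximalIdeal S) S] [Algebra S k] [IsScalarTower Λ S k]
    (hres : Function.Surjective (algebraMap S k)) :
    Module.Finite k (Derivation Λ S k) := by
  classical
  obtain ⟨r, b, hb⟩ := Module.Finite.exists_fin (R := Λ) (M := k)
  choose c hc using fun i => hres (b i)
  have hm : RingHom.ker (algebraMap S k) = IsLocalRing.maximalIdeal S :=
    have := RingHom.ker_isMaximal_of_surjective _ hres
    IsLocalRing.eq_maximalIdeal this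
  obtain ⟨q, t, ht⟩ := Submodule.fg_iff_exists_fin_generating_family.mp
    (IsNoetherian.noetherian (IsLocalRing.maximalIdeal S))
  have ht0 : ∀ j, algebraMap S k (t j) = 0 := fun j => by
    rw [← RingHom.mem_ker, hm, ← ht]
    exact Submodule.subset_span ⟨j, rfl⟩
  let Φ : Derivation Λ S k →ₗ[k] (Fin r ⊕ Fin q → k) :=
    { toFun := fun D i => D (Sum.elim c t i)
      map_add' := fun D D' => rfl
      map_smul' := fun a D => rfl }
  refine Module.Finite.of_injective Φ ((injective_iff_map_eq_zero Φ).mpr fun D hD => ?_)
  have hDc : ∀ i, D (c i) = 0 := fun i => congrFun hD (Sum.inl i)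
  have hDt : ∀ j, D (t j) = 0 := fun j => congrFun hD (Sum.inr j)
  ext s
  obtain ⟨l, hl⟩ := Submodule.mem_span_range_iff_exists_fun Λ |>.mp
    (show algebraMap S k s ∈ Submodule.span Λ (Set.range b) by rw [hb]; exact Submodule.mem_top)
  have h1 : s - ∑ i, l i • c i ∈ IsLocalRing.maximalIdeal S := by
    rw [← hm, RingHom.mem_ker, map_sub, map_sum, sub_eq_zero, ← hl]
    refine Finset.sum_congr rfl fun i _ => ?_
    rw [← hc i, ← IsScalarTower.coe_toAlgHom' Λ S k, map_smul]
  rw [← ht] at h1
  obtain ⟨a, ha⟩ := Submodule.mem_span_range_iff_exists_fun S |>.mp h1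
  have h2 : s = ∑ i, l i • c i + ∑ j, a j • t j := by rw [ha]; abel
  show D s = 0
  rw [h2, map_add, map_sum, map_sum]
  simp [hDc, Derivation.leibniz, hDt, Algebra.smul_def, ht0]

end Groth.Agent.S12715
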