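import Groth.Statements.S12716
import Mathlib
-- import your own Groth.Agent.* helpers here

set_option autoImplicit false
universe u v
open CategoryTheory
open ArtFun

namespace Groth.Agent.S12716

/-- Let f : R → S be a morphism of complete local Noetherian Λ-algebras with residue field k (Λ
Noetherian, Λ → k finite). If the restriction map Der_Λ(S, k) → Der_Λ(R, k) is injective — two
Λ-derivations S → k that agree after composing with f are equal — then f is surjective. -/
theorem result {Λ : Type u} {k : Type u} [CommRing Λ] [Field k] [Algebra Λ k]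
    [IsNoetherianRing Λ] [Module.Finite Λ k]
    (R : ArtFun.CRing Λ k)
    (S : Type u) [CommRing S] [Algebra Λ S] [IsLocalRing S] [IsNoetherianRing S]
    [IsAdicComplete (IsLocalRing.maximalIdeal S) S] [Algebra S k] [IsScalarTower Λ S k]
    (hres : Function.Surjective (algebraMap S k))
    (f : R.carrier →ₐ[Λ] S) (hf : (IsScalarTower.toAlgHom Λ S k).comp f = R.res)
    (hinj : ∀ D₁ D₂ : Derivation Λ S k, (∀ r : R.carrier, D₁ (f r) = D₂ (f r)) → D₁ = D₂) :
    Function.Surjective f := by
  classical
  set mR := IsLocalRing.maximalIdeal R.carrier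
  set mS := IsLocalRing.maximalIdeal S with hmS
  have hmR : ∀ a, a ∈ mR ↔ R.res a = 0 := fun a => by
    have hmax : (RingHom.ker R.res.toRingHom).IsMaximal := RingHom.ker_isMaximal_of_surjective _ R.res_surjective
    rw [show mR = RingHom.ker R.res.toRingHom from (IsLocalRing.eq_maximalIdeal hmax).symm]
    rfl
  have hmS' : ∀ y, y ∈ mS ↔ algebraMap S k y = 0 := fun y => by
    have hmax : (RingHom.ker (algebraMap S k)).IsMaximal := RingHom.ker_isMaximal_of_surjective _ hres
    rw [hmS, ← IsLocalRing.eq_maximalIdeal hmax]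
    rfl
  have hfres : ∀ a, algebraMap S k (f a) = R.res a := fun a => AlgHom.congr_fun hf a
  choose sec hsec using fun y : S => R.res_surjective (algebraMap S k y)
  have hmem : ∀ y, y - f (sec y) ∈ mS := fun y => by rw [hmS', map_sub, hfres, hsec, sub_self]
  have hfm : ∀ a ∈ mR, f a ∈ mS := fun a ha => by rw [hmS', hfres, ← hmR]; exact ha
  set W : Ideal S := Ideal.map f.toRingHom mR
  have hmain : mS ≤ W ⊔ mS • mS := by
    intro x hx
    by_contra hxW
    let P : Submodule S mS.Cotangent := (Submodule.comap mS.subtype W).map mS.toCotangent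
    let P' : Submodule (IsLocalRing.ResidueField S) (IsLocalRing.CotangentSpace S) :=
      { carrier := P
        add_mem' := fun a b => P.add_mem a b
        zero_mem' := P.zero_mem
        smul_mem' := fun c z hz => by
          obtain ⟨c, rfl⟩ := IsLocalRing.residue_surjective c
          exact P.smul_mem c hz }
    have hxP : (mS.toCotangent ⟨x, hx⟩ : IsLocalRing.CotangentSpace S) ∉ P' := by
      intro hin
      obtain ⟨⟨w, hwm⟩, hwW, hweq⟩ := Submodule.mem_map.1 (show mS.toCotangent ⟨x, hx⟩ ∈ P from hin)
      rw [Ideal.toCotangent_eq] at hweq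
      refine hxW ?_
      rw [show x = w - (w - x) by ring]
      exact sub_mem (Submodule.mem_sup_left hwW) (Submodule.mem_sup_right (by rw [smul_eq_mul, ← pow_two]; exact hweq))
    obtain ⟨φ, hφx, hφP⟩ := Submodule.exists_dual_map_eq_bot_of_notMem hxP inferInstance
    have hφ0 : ∀ z ∈ P', φ z = 0 := fun z hz => by
      have : φ z ∈ P'.map φ := Submodule.mem_map_of_mem hz
      rw [hφP] at this; exact (Submodule.mem_bot _).1 this
    let e : IsLocalRing.ResidueField S →+* k := Ideal.Quotient.lift _ (algebraMap S k) (fun y hy => (hmS' y).1 hy)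
    let Ψ : mS → k := fun z => e (φ (mS.toCotangent z))
    have hΨadd : ∀ z z', Ψ (z + z') = Ψ z + Ψ z' := fun z z' => by
      show e (φ _) = _
      rw [map_add, map_add, map_add]
    have hΨsmul : ∀ (c : S) (z : mS), Ψ (c • z) = algebraMap S k c * Ψ z := fun c z => by
      show e (φ _) = _
      rw [map_smul, show (c • mS.toCotangent z : IsLocalRing.CotangentSpace S) = (IsLocalRing.residue S c) • (mS.toCotangent z : IsLocalRing.CotangentSpace S) from rfl,
        map_smul, smul_eq_mul, map_mul]
      rfl
    have hΨW : ∀ z : mS, (z : S) ∈ W → Ψ z = 0 := fun z hz => by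
      show e (φ _) = 0
      rw [hφ0 _ (show mS.toCotangent z ∈ P from Submodule.mem_map_of_mem (p := Submodule.comap mS.subtype W) hz), map_zero]
    let δ : S → k := fun y => Ψ ⟨y - f (sec y), hmem y⟩
    have hδ : ∀ (y : S) (a : R.carrier) (ha : R.res a = algebraMap S k y),
        δ y = Ψ ⟨y - f a, by rw [hmS', map_sub, hfres, ha, sub_self]⟩ := by
      intro y a ha
      have hd : a - sec y ∈ mR := by rw [hmR, map_sub, ha, hsec, sub_self]
      have := hΨadd ⟨y - f a, by rw [hmS', map_sub, hfres, ha, sub_self]⟩ ⟨f (a - sec y), hfm _ hd⟩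
      rw [hΨW ⟨f (a - sec y), hfm _ hd⟩ (Ideal.mem_map_of_mem f.toRingHom hd), add_zero] at this
      rw [← this]
      exact congrArg Ψ (Subtype.ext (by simp))
    have hδadd : ∀ y z, δ (y + z) = δ y + δ z := fun y z => by
      rw [hδ (y + z) (sec y + sec z) (by rw [map_add, map_add, hsec, hsec]), ← hΨadd]
      exact congrArg Ψ (Subtype.ext (by simp; ring))
    have hδmul : ∀ y z, δ (y * z) = algebraMap S k y * δ z + algebraMap S k z * δ y := fun y z => by
      have h2 : algebraMap S k z * δ y = Ψ (f (sec z) • ⟨y - f (sec y), hmem y⟩) := by rw [hΨsmul, hfres, hsec]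
      have h3 : algebraMap S k y * δ z = Ψ (y • ⟨z - f (sec z), hmem z⟩) := by rw [hΨsmul]
      rw [hδ (y * z) (sec y * sec z) (by rw [map_mul, map_mul, hsec, hsec]), h2, h3, ← hΨadd]
      exact congrArg Ψ (Subtype.ext (by simp; ring))
    have hcy : ∀ (c : Λ) (y : S), algebraMap S k (c • y) = c • algebraMap S k y := fun c y => by
      rw [Algebra.smul_def, Algebra.smul_def, map_mul, ← IsScalarTower.algebraMap_apply]
    have hδΛ : ∀ (c : Λ) y, δ (c • y) = c • δ y := fun c y => by
      rw [hδ (c • y) (c • sec y) (by rw [map_smul R.res, hsec, hcy])]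
      have : (⟨c • y - f (c • sec y), by rw [hmS', map_sub, hfres, hcy, map_smul R.res, hsec, sub_self]⟩ : mS) = algebraMap Λ S c • ⟨y - f (sec y), hmem y⟩ := by
        refine Subtype.ext ?_
        simp [Algebra.smul_def, mul_sub]
      rw [this, hΨsmul, ← IsScalarTower.algebraMap_apply, ← Algebra.smul_def]
    let D₁ : Derivation Λ S k := Derivation.mk'
      { toFun := δ, map_add' := hδadd, map_smul' := hδΛ }
      (fun y z => by
        show δ (y * z) = y • δ z + z • δ y
        rw [hδmul, Algebra.smul_def, Algebra.smul_def])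
    have hzero : ∀ a, D₁ (f a) = (0 : Derivation Λ S k) (f a) := fun a => by
      show δ (f a) = 0
      rw [hδ (f a) a (hfres a).symm]
      refine hΨW _ ?_
      simp
    have hx0 : δ x = 0 := DFunLike.congr_fun (hinj D₁ 0 hzero) x
    rw [hδ x 0 (by rw [map_zero]; exact ((hmS' x).1 hx).symm)] at hx0
    have : Ψ ⟨x, hx⟩ = 0 := (congrArg Ψ (Subtype.ext (by simp))).trans hx0
    exact hφx ((map_eq_zero e).1 this)
  have hWle : W ≤ mS := Ideal.map_le_iff_le_comap.2 fun a ha => hfm a ha
  have hWeq : W = mS := le_antisymm hWle (Submodule.le_of_le_smul_of_le_jacobson_bot (I := mS) (IsNoetherian.noetherian _)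
      (IsLocalRing.jacobson_eq_maximalIdeal ⊥ bot_ne_top).ge hmain)
  have := R.isAdicComplete
  have hh : IsHausdorff (mR.map f.toRingHom) S := by
    rw [show mR.map f.toRingHom = mS from hWeq]
    infer_instance
  refine surjective_of_mk_map_comp_surjective (I := mR) f.toRingHom fun y => ?_
  obtain ⟨y, rfl⟩ := Ideal.Quotient.mk_surjective y
  refine ⟨sec y, Ideal.Quotient.eq.mpr ?_⟩
  rw [show mR.map f.toRingHom = mS from hWeq, ← Ideal.neg_mem_iff, neg_sub]
  exact hmem y

end Groth.Agent.S12716
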