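import Groth.Statements.S12718
import Groth.Agent.ArtFunLib.Criteria
import Groth.Agent.ArtFunLib.Trunc
import Groth.Agent.ArtFunLib.Separable
import Groth.Agent.ArtFunLib.Smooth
import Mathlib

set_option autoImplicit false
universe u v
open CategoryTheory
open ArtFun

namespace Groth.Agent.S12718

/-- Let R → S be a morphism of complete local Noetherian Λ-algebras with residue field k. The induced
morphism h_S → h_R of functors on Artinian local Λ-algebras with residue field k (composition with R
→ S) is smooth if and only if S is isomorphic as an R-algebra to a power series ring R[[X₁, …, Xₙ]]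
for some n. Smoothness of h_S → h_R is written as versality of the corresponding family of h_R over
S. -/
theorem result {Λ : Type u} {k : Type u} [CommRing Λ] [Field k] [Algebra Λ k]
    [IsNoetherianRing Λ] [Module.Finite Λ k]
    (R S : ArtFun.CRing Λ k) [Algebra R.carrier S.carrier] [IsScalarTower Λ R.carrier S.carrier]
    (hRS : S.res.comp (IsScalarTower.toAlgHom Λ R.carrier S.carrier) = R.res) :
    ArtFun.IsVersal ((ArtFun.Family.self R.carrier R.res).along
        (IsScalarTower.toAlgHom Λ R.carrier S.carrier) hRS) ↔
      ∃ n : ℕ, Nonempty (S.carrier ≃ₐ[R.carrier] MvPowerSeries (Fin n) R.carrier) := by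
  open Groth.Agent.ArtFunLib ArtFun ArtFun.Art ArtFun.CRing in
  constructor
  · intro hv
    obtain ⟨n, Q, E, hE⟩ := exists_ps_equiv_of_versal _ hRS hv
    refine ⟨n, ⟨AlgEquiv.ofRingEquiv (f := (E.symm.trans Q.e).toRingEquiv) fun r => ?_⟩⟩
    change Q.e (E.symm (algebraMap R.carrier S.carrier r)) = _
    rw [show algebraMap R.carrier S.carrier r = E (Q.C r) from (hE r).symm, AlgEquiv.symm_apply_apply, Q.e_C]
    rfl
  · rintro ⟨n, ⟨e⟩⟩
    exact versal_of_ps_equiv _ hRS (e.restrictScalars Λ) fun r => e.commutes r

end Groth.Agent.S12718
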