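import Groth.Statements.S12721
import Groth.Agent.ArtFunLib.Criteria
import Groth.Agent.ArtFunLib.Trunc
import Mathlib

set_option autoImplicit false
universe u v
open CategoryTheory
open ArtFun

namespace Groth.Agent.S12721

/-- (1) ⇔ (2): for R a complete local Noetherian Λ-algebra with residue field k, the functor h_R on
Artinian local Λ-algebras with residue field k is smooth (surjective along every surjection) if and
only if Λ → R is formally smooth for the m_R-adic topology. -/
theorem result {Λ : Type u} {k : Type u} [CommRing Λ] [Field k] [Algebra Λ k]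
    [IsNoetherianRing Λ] [Module.Finite Λ k]
    (R : ArtFun.CRing Λ k) :
    ArtFun.IsSmoothFunctor (ArtFun.hR R.carrier R.res) ↔
      CAlgX.IsAdicFormallySmooth Λ R.carrier (IsLocalRing.maximalIdeal R.carrier) := by
  open Groth.Agent.ArtFunLib ArtFun ArtFun.Art ArtFun.CRing in
  constructor
  · intro hs T _ _ J hJ ψ ⟨n, hn⟩
    classical
    -- a finite algebra inside `T ×_{T/J} R/m^(n+1)` covering the truncation
    let D := R.trunc n
    have hψn : ∀ a ∈ mpow R n, ψ a = 0 := fun a ha => hn a (Ideal.pow_le_pow_right n.le_succ ha)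
    let ψD : D →ₐ[Λ] T ⧸ J := Ideal.Quotient.liftₐ (mpow R n) ψ hψn
    let S : Subalgebra Λ (T × D) := AlgHom.equalizer ((Ideal.Quotient.mkₐ Λ J).comp (AlgHom.fst Λ T D))
      (ψD.comp (AlgHom.snd Λ T D))
    have hpull : ∀ d : D, ∃ s : S, s.1.2 = d := fun d => by
      obtain ⟨a, ha⟩ := Ideal.Quotient.mk_surjective (ψD d)
      exact ⟨⟨(a, d), ha⟩, rfl⟩
    choose lft hlft using hpull
    obtain ⟨gens, hgens⟩ := (inferInstance : Module.Finite Λ D).fg_top
    have hint : ∀ s : S, IsIntegral Λ s := fun s => by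
      obtain ⟨p, hp, hpd⟩ := Algebra.IsIntegral.isIntegral (R := Λ) s.1.2
      refine ⟨p ^ 2, hp.pow 2, ?_⟩
      rw [← Polynomial.aeval_def] at hpd ⊢
      rw [map_pow]
      have h2 : (Polynomial.aeval s p).1.2 = 0 :=
        (Polynomial.aeval_algHom_apply ((AlgHom.snd Λ T D).comp S.val) s p).symm.trans hpd
      have h1 : (Polynomial.aeval s p).1.1 ∈ J := by
        have := (Polynomial.aeval s p).2
        rw [← Ideal.Quotient.eq_zero_iff_mem]
        exact this.trans ((congrArg ψD h2).trans (map_zero ψD))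
      refine Subtype.ext (Prod.ext ?_ ?_)
      · have := Ideal.pow_mem_pow h1 2
        rw [hJ, Ideal.mem_bot] at this
        exact this
      · show (Polynomial.aeval s p).1.2 ^ 2 = 0
        rw [h2, zero_pow two_ne_zero]
    let S₀ : Subalgebra Λ S := Algebra.adjoin Λ (lft '' (gens : Set D))
    have hfin : Module.Finite Λ S₀ := Module.Finite.iff_fg.mpr
      (fg_adjoin_of_finite (gens.finite_toSet.image _) fun s _ => hint s)
    let pr : S₀ →ₐ[Λ] D := ((AlgHom.snd Λ T D).comp S.val).comp S₀.val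
    have hpr : Function.Surjective pr := by
      intro d
      have hd : d ∈ Submodule.span Λ (gens : Set D) := hgens ▸ Submodule.mem_top
      induction hd using Submodule.span_induction with
      | mem x hx => exact ⟨⟨lft x, Algebra.subset_adjoin ⟨x, hx, rfl⟩⟩, hlft x⟩
      | zero => exact ⟨0, map_zero _⟩
      | add x y _ _ hx hy =>
        obtain ⟨a, rfl⟩ := hx
        obtain ⟨b, rfl⟩ := hy
        exact ⟨a + b, map_add _ _ _⟩
      | smul c x _ hx =>
        obtain ⟨a, rfl⟩ := hx
        exact ⟨c • a, map_smul _ _ _⟩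
    have hnil : ∀ z : S₀, (D.res.comp pr) z = 0 → IsNilpotent z := fun z hz => by
      obtain ⟨m, hm⟩ := isNilpotent_of_res (A := D) (a := pr z) hz
      refine ⟨m * 2, Subtype.ext (Subtype.ext ?_)⟩
      have h2 : (z.1 ^ m).1.2 = 0 := hm
      have h1 : (z.1 ^ m).1.1 ∈ J := by
        rw [← Ideal.Quotient.eq_zero_iff_mem]
        exact (z.1 ^ m).2.trans ((congrArg ψD h2).trans (map_zero ψD))
      rw [pow_mul]
      refine Prod.ext ?_ ?_
      · have := Ideal.pow_mem_pow h1 2
        rw [hJ, Ideal.mem_bot] at this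
        exact this
      · show (z.1 ^ m).1.2 ^ 2 = 0
        rw [h2, zero_pow two_ne_zero]
    obtain ⟨B, μ, emb, hμ, hemb⟩ := exists_art_over (S₀ : Type u) pr hpr hnil
    obtain ⟨χ, hχ⟩ := hs μ hμ (R.truncHom n)
    refine ⟨(((AlgHom.fst Λ T D).comp S.val).comp S₀.val).comp (emb.comp χ.1), AlgHom.ext fun a => ?_⟩
    refine ((emb (χ.1 a)).1.2).trans ?_
    change ψD (pr (emb (χ.1 a))) = ψD (Ideal.Quotient.mk (mpow R n) a)
    refine congrArg ψD ((hemb (χ.1 a)).trans ?_)
    exact DFunLike.congr_fun (congrArg Subtype.val hχ) a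
  · intro hs B A μ hμ
    refine surj_induction (P := fun A B μ =>
      Function.Surjective (HomSet.map (R := R.carrier) (resR := R.res) μ)) ?_ ?_ μ hμ
    · intro A B e he φ
      exact ⟨HomSet.map (homInv e he) φ, by rw [← homSet_map_comp, homInv_comp, homSet_map_id]⟩
    · intro A B C q s _ hsm ih φ
      obtain ⟨N, hN⟩ := exists_trunc_factor φ
      let E : (C ⧸ RingHom.ker s.toAlgHom) ≃ₐ[Λ] A := Ideal.quotientKerAlgEquivOfSurjective hsm.1
      have hJ : RingHom.ker s.toAlgHom ^ 2 = ⊥ := by
        rw [sq]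
        exact le_bot_iff.mp ((Ideal.mul_mono_left (ker_le_maximalIdeal s)).trans hsm.2.2.2.le)
      obtain ⟨χ, hχ⟩ := hs C (RingHom.ker s.toAlgHom) hJ (E.symm.toAlgHom.comp φ.1) ⟨N + 1, fun a ha => by
        show E.symm (φ.1 a) = 0
        rw [hN N le_rfl a ha, map_zero]⟩
      have hs' : ∀ a, s (χ a) = φ.1 a := fun a => by
        have := congrArg E (DFunLike.congr_fun hχ a)
        exact this.trans (E.apply_symm_apply _)
      obtain ⟨ψ, hψ⟩ := ih ⟨χ, AlgHom.ext fun a => (by
        show C.res (χ a) = _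
        rw [← res_app s, hs', homSet_res])⟩
      exact ⟨ψ, by rw [homSet_map_comp, hψ]; exact Subtype.ext (AlgHom.ext hs')⟩

end Groth.Agent.S12721
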