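import Groth.Statements.S12722
import Groth.Agent.ArtFunLib.Criteria
import Groth.Agent.ArtFunLib.Trunc
import Groth.Agent.ArtFunLib.Separable
import Groth.Agent.ArtFunLib.Smooth
import Mathlib

set_option autoImplicit false
universe u v
open CategoryTheory
open ArtFun

namespace Groth.Agent.S12722

/-- (1) ⇔ (5): let Λ be a complete local Noetherian ring with residue field k. For a complete local
Noetherian Λ-algebra R with residue field k, the functor h_R on Artinian local Λ-algebras with
residue field k is smooth if and only if R is isomorphic over Λ to a power series ring Λ[[x₁, …,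
xₙ]] for some n. -/
theorem result {Λ : Type u} {k : Type u} [CommRing Λ] [Field k] [Algebra Λ k]
    [IsNoetherianRing Λ] [Module.Finite Λ k]
    [IsLocalRing Λ] [IsAdicComplete (IsLocalRing.maximalIdeal Λ) Λ]
    (hk : Function.Surjective (algebraMap Λ k)) (R : ArtFun.CRing Λ k) :
    ArtFun.IsSmoothFunctor (ArtFun.hR R.carrier R.res) ↔
      ∃ n : ℕ, Nonempty (R.carrier ≃ₐ[Λ] MvPowerSeries (Fin n) Λ) := by
  open Groth.Agent.ArtFunLib ArtFun ArtFun.Art ArtFun.CRing in
  let L : CRing Λ k :=
    { carrier := Λ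
      res := Algebra.ofId Λ k
      res_surjective := hk
      isAdicComplete := ‹_› }
  let i : L.carrier →ₐ[Λ] R.carrier := Algebra.ofId Λ R.carrier
  have hi : R.res.comp i = L.res := AlgHom.ext fun r => R.res.commutes r
  have hsub : ∀ {A : Art Λ k} (φ ψ : HomSet L.carrier L.res A), φ = ψ := fun φ ψ =>
    Subtype.ext (AlgHom.ext fun r => (φ.1.commutes r).trans (ψ.1.commutes r).symm)
  constructor
  · intro hs
    obtain ⟨n, Q, E, hE⟩ := exists_ps_equiv_of_versal i hi fun B A μ hμ φ y _ => by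
      obtain ⟨ψ, hψ⟩ := hs μ hμ φ
      exact ⟨ψ, hψ, hsub _ _⟩
    exact ⟨n, ⟨E.symm.trans Q.e⟩⟩
  · rintro ⟨n, ⟨e⟩⟩ B A μ hμ φ
    have hv := versal_of_ps_equiv i hi e fun r => e.commutes r
    let y : HomSet L.carrier L.res B := ⟨Algebra.ofId Λ B, AlgHom.ext fun r => B.res.commutes r⟩
    obtain ⟨ψ, hψ, -⟩ := hv μ hμ φ y (hsub _ _)
    exact ⟨ψ, hψ⟩

end Groth.Agent.S12722
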