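import Groth.Statements.S12729
import Groth.Agent.ArtFunLib.Criteria
import Groth.Agent.ArtFunLib.Trunc
import Groth.Agent.ArtFunLib.Separable
import Mathlib

set_option autoImplicit false
universe u v
open CategoryTheory
open ArtFun

namespace Groth.Agent.S12729

/-- For functors, let F satisfy (S1), let p : B → A be a surjection in the category of Artinian local
Λ-algebras with residue field k whose kernel I is annihilated by m_B, and let x ∈ F(A). Then the set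
of ideals J ⊆ I for which x lifts to F(B/J) along B/J → A has a least element. -/
theorem result {Λ : Type u} {k : Type u} [CommRing Λ] [Field k] [Algebra Λ k]
    [IsNoetherianRing Λ] [Module.Finite Λ k]
    {F : ArtFun.Art Λ k ⥤ Type v} (h1 : ArtFun.S1 F)
    {B A : ArtFun.Art Λ k} (p : B ⟶ A) (hp : ArtFun.Art.IsSemismallExt p) (x : F.obj A) :
    ∃ (J₀ : Ideal B) (hJ₀ : J₀ ≤ RingHom.ker p.toAlgHom) (hJ₀' : J₀ ≤ IsLocalRing.maximalIdeal B),
      (∃ y : F.obj (ArtFun.Art.quot B J₀ hJ₀'), F.map (ArtFun.Art.quotFactor hJ₀' p hJ₀) y = x) ∧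
      ∀ (J : Ideal B) (hJ : J ≤ RingHom.ker p.toAlgHom) (hJ' : J ≤ IsLocalRing.maximalIdeal B),
        (∃ y : F.obj (ArtFun.Art.quot B J hJ'), F.map (ArtFun.Art.quotFactor hJ' p hJ) y = x) → J₀ ≤ J := by
  open Groth.Agent.ArtFunLib ArtFun ArtFun.Art ArtFun.CRing in
  set I := RingHom.ker p.toAlgHom
  have hIm : I ≤ IsLocalRing.maximalIdeal B := ker_le_maximalIdeal p
  let L : Ideal B → Prop := fun J => ∃ (hJ : J ≤ I) (hJ' : J ≤ IsLocalRing.maximalIdeal B),
    ∃ y : F.obj (quot B J hJ'), F.map (quotFactor hJ' p hJ) y = x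
  have hne : L I := by
    refine ⟨le_rfl, hIm, (map_bijective (F := F) (f := quotFactor hIm p le_rfl) ⟨?_, fun a => ?_⟩).2 x⟩
    · rw [injective_iff_ker, eq_bot_iff]
      intro z hz
      obtain ⟨b, rfl⟩ := quotMk_surjective B I hIm z
      exact Ideal.Quotient.eq_zero_iff_mem.mpr hz
    · obtain ⟨b, rfl⟩ := hp.1 a
      exact ⟨quotMk B I hIm b, rfl⟩
  obtain ⟨J₀, hJ₀, hmin⟩ := (wellFounded_lt (α := Ideal B)).has_min {J | L J} ⟨I, hne⟩
  obtain ⟨hJI, hJm, y, hy⟩ := hJ₀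
  refine ⟨J₀, hJI, hJm, ⟨y, hy⟩, fun J hJ hJ' hlift => ?_⟩
  -- enlarge `J` without changing the intersection with `J₀`
  obtain ⟨K, ⟨hJK, hKI, hK₀⟩, hKmax⟩ := (wellFounded_gt (α := Ideal B)).has_min
    {K : Ideal B | J ≤ K ∧ K ≤ I ∧ K ⊓ J₀ ≤ J ⊓ J₀} ⟨J, le_rfl, hJ, le_rfl⟩
  have hsup : I ≤ J₀ ⊔ K := by
    intro a ha
    by_contra hna
    have hlt : K < K ⊔ Ideal.span {a} := left_lt_sup.mpr fun h =>
      hna (Submodule.mem_sup_right (h (Ideal.mem_span_singleton_self a)))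
    refine hKmax _ ⟨hJK.trans hlt.le, sup_le hKI ((Ideal.span_singleton_le_iff_mem I).mpr ha), ?_⟩ hlt
    rintro z ⟨hz, hz₀⟩
    obtain ⟨j, hj, w, hw, rfl⟩ := Submodule.mem_sup.mp hz
    obtain ⟨c, rfl⟩ := Ideal.mem_span_singleton'.mp hw
    by_cases hc : c ∈ IsLocalRing.maximalIdeal B
    · have : c * a = 0 := hp.2.le (Ideal.mul_mem_mul hc ha)
      rw [this, add_zero] at hz₀ ⊢
      exact hK₀ ⟨hj, hz₀⟩
    · refine absurd ?_ hna
      have hu : IsUnit c := by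
        by_contra h
        exact hc ((IsLocalRing.mem_maximalIdeal c).mpr h)
      have : c * a ∈ J₀ ⊔ K := by
        rw [show c * a = (j + c * a) - j by ring]
        exact Submodule.sub_mem _ (Submodule.mem_sup_left hz₀) (Submodule.mem_sup_right hj)
      obtain ⟨u, rfl⟩ := hu
      have h2 := Ideal.mul_mem_left _ (↑u⁻¹ : B) this
      rwa [← mul_assoc, Units.inv_mul, one_mul] at h2
  obtain ⟨y', hy'⟩ := hlift
  -- `B/(J₀ ⊓ K)` is the fibre product of `B/J₀` and `B/K` over `A`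
  have hKm := hKI.trans hIm
  have hIKI : J₀ ⊓ K ≤ I := inf_le_left.trans hJI
  have hIKm := hIKI.trans hIm
  let P := quot B (J₀ ⊓ K) hIKm
  let r₁ : P ⟶ quot B J₀ hJm := quotFactor hIKm (quotMk B J₀ hJm) (by rw [ker_quotMk]; exact inf_le_left)
  let r₂ : P ⟶ quot B K hKm := quotFactor hIKm (quotMk B K hKm) (by rw [ker_quotMk]; exact inf_le_right)
  have hP : IsFibreProd r₁ r₂ (quotFactor hJm p hJI) (quotFactor hKm p hKI) := by
    refine ⟨hom_ext' fun z => ?_, fun z z' h₁ h₂ => ?_, fun a b hab => ?_⟩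
    · obtain ⟨b, rfl⟩ := quotMk_surjective B _ hIKm z
      rfl
    · obtain ⟨b, rfl⟩ := quotMk_surjective B _ hIKm z
      obtain ⟨b', rfl⟩ := quotMk_surjective B _ hIKm z'
      exact Ideal.Quotient.eq.mpr ⟨Ideal.Quotient.eq.mp h₁, Ideal.Quotient.eq.mp h₂⟩
    · obtain ⟨a, rfl⟩ := quotMk_surjective B _ hJm a
      obtain ⟨b, rfl⟩ := quotMk_surjective B _ hKm b
      obtain ⟨j, hj, i, hi, hji⟩ := Submodule.mem_sup.mp
        (hsup (show a - b ∈ I by rw [RingHom.mem_ker, map_sub, sub_eq_zero]; exact hab))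
      refine ⟨quotMk B _ hIKm (b + i), Ideal.Quotient.eq.mpr ?_, Ideal.Quotient.eq.mpr ?_⟩
      · rw [show b + i - a = -j by linear_combination hji]
        exact neg_mem hj
      · rwa [add_sub_cancel_left]
  let s : quot B J hJ' ⟶ quot B K hKm := quotFactor hJ' (quotMk B K hKm) (by rw [ker_quotMk]; exact hJK)
  obtain ⟨z, hz₁, -⟩ := exists_of_surj (h1 r₁ r₂ _ _ hP (fun a => by
      obtain ⟨b, rfl⟩ := hp.1 a
      exact ⟨quotMk B K hKm b, rfl⟩)) y (F.map s y') (by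
    rw [hy, ← map_comp', show s ≫ quotFactor hKm p hKI = quotFactor hJ' p hJ from hom_ext' fun z => by
      obtain ⟨b, rfl⟩ := quotMk_surjective B _ hJ' z
      rfl, hy'])
  have hL : L (J₀ ⊓ K) := ⟨hIKI, hIKm, z, by
    rw [← hy, ← hz₁, ← map_comp']
    exact congrArg (fun g => F.map g z) (hom_ext' fun w => by
      obtain ⟨b, rfl⟩ := quotMk_surjective B _ hIKm w
      rfl)⟩
  have heq : J₀ ⊓ K = J₀ := inf_le_left.eq_of_not_lt (hmin _ hL)
  intro a ha
  have haK : a ∈ J₀ ⊓ K := heq.ge ha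
  exact (hK₀ ⟨haK.2, ha⟩).1

end Groth.Agent.S12729
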