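import Groth.Statements.S12735
import Groth.Agent.ArtFunLib.Criteria
import Groth.Agent.ArtFunLib.Trunc
import Mathlib

set_option autoImplicit false
universe u v
open CategoryTheory
open ArtFun

namespace Groth.Agent.S12735

/-- Let U be a prorepresentable functor on Artinian local Λ-algebras with residue field k and φ : U → U
an endomorphism of functors which is bijective on the tangent space U(k[ε]). Then φ is an
isomorphism: every component is bijective. -/
theorem result {Λ : Type u} {k : Type u} [CommRing Λ] [Field k] [Algebra Λ k]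
    [IsNoetherianRing Λ] [Module.Finite Λ k]
    {U : ArtFun.Art Λ k ⥤ Type v} (hU : ArtFun.IsProrepresentable U)
    (φ : U ⟶ U) (hd : Function.Bijective (ArtFun.TangentSpace.map φ)) (A : ArtFun.Art Λ k) :
    Function.Bijective (φ.app A) := by
  open Groth.Agent.ArtFunLib ArtFun ArtFun.Art ArtFun.CRing in
  obtain ⟨P⟩ := hU
  have h0 : H0 U := h0_of_surjective (P.universal _).2
  have hLE : IsLeftExact U := by
    intro B A A' A'' p' p'' f' f'' h
    refine ⟨cmp_injective fun z z' h₁ h₂ => ?_, cmp_surjective fun x y hxy => ?_⟩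
    · obtain ⟨a, rfl⟩ := (P.universal B).2 z
      obtain ⟨b, rfl⟩ := (P.universal B).2 z'
      rw [← P.family.natural, ← P.family.natural] at h₁ h₂
      exact congrArg _ (Subtype.ext (AlgHom.ext fun r => h.inj _ _
        (DFunLike.congr_fun (congrArg Subtype.val ((P.universal A').1 h₁)) r)
        (DFunLike.congr_fun (congrArg Subtype.val ((P.universal A'').1 h₂)) r)))
    · obtain ⟨a, rfl⟩ := (P.universal A').2 x
      obtain ⟨b, rfl⟩ := (P.universal A'').2 y
      rw [← P.family.natural, ← P.family.natural] at hxy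
      obtain ⟨c, hc₁, hc₂⟩ := exists_homSet_lift h ((P.universal A).1 hxy)
      exact ⟨P.family.app B c, by rw [← P.family.natural, hc₁], by rw [← P.family.natural, hc₂]⟩
  refine ⟨app_injective_of_tangent φ h0 (fun B A A' A'' p' p'' f' f'' h _ => (hLE p' p'' f' f'' h).2)
    (fun B A' p' p'' h => hLE p' p'' _ _ h) (fun B A A' p₁ p₂ f h _ => hLE p₁ p₂ f f h) hd.1 A,
    fun y => ?_⟩
  obtain ⟨ψ, rfl⟩ := (P.universal A).2 y
  obtain ⟨N, hN⟩ := exists_trunc_factor ψ
  obtain ⟨χ, hχ⟩ := (P.universal _).2 (φ.app _ (P.family.app _ (P.ring.truncHom (N + 1))))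
  have hkill : ∀ a ∈ mpow P.ring (N + 1), χ.1 a = 0 := fun a ha => by
    have h1 := homSet_mpow χ (N + 1) ha
    have h2 : IsLocalRing.maximalIdeal (P.ring.trunc (N + 1)) ≤
        (IsLocalRing.maximalIdeal P.ring.carrier).map (Ideal.Quotient.mk (mpow P.ring (N + 1))) :=
      maximalIdeal_quot_le P.ring (N + 1)
    have h3 := Ideal.pow_right_mono h2 (N + 1 + 1) h1
    have h4 : ((IsLocalRing.maximalIdeal P.ring.carrier).map (Ideal.Quotient.mk (mpow P.ring (N + 1)))) ^ (N + 1 + 1) ≤ ⊥ := by
      rw [← Ideal.map_pow]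
      exact (Ideal.map_quotient_self _).le
    exact Ideal.mem_bot.mp (h4 h3)
  set e : P.ring.trunc (N + 1) ⟶ P.ring.trunc (N + 1) := truncLift χ (N + 1) hkill with he
  have hφ : ∀ {B : Art Λ k} (l : P.ring.trunc (N + 1) ⟶ B),
      φ.app B (P.family.app B (HomSet.map l (P.ring.truncHom (N + 1)))) =
        P.family.app B (HomSet.map (e ≫ l) (P.ring.truncHom (N + 1))) := fun l => by
    rw [P.family.natural, nat_apply, ← hχ, homSet_map_comp, he, truncLift_truncHom, P.family.natural]
  have hq : Function.Surjective (e ≫ truncTrans P.ring (show 1 ≤ N + 1 by omega)) := by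
    refine surjective_of_dual_separating _ ?_ fun d d' hdd => ?_
    · refine le_bot_iff.mp ?_
      calc IsLocalRing.maximalIdeal (P.ring.trunc 1) ^ 2
          ≤ ((IsLocalRing.maximalIdeal P.ring.carrier).map (Ideal.Quotient.mk (mpow P.ring 1))) ^ 2 :=
            Ideal.pow_right_mono (maximalIdeal_quot_le P.ring 1) 2
        _ = (mpow P.ring 1).map (Ideal.Quotient.mk (mpow P.ring 1)) := by rw [← Ideal.map_pow]
        _ ≤ ⊥ := (Ideal.map_quotient_self _).le
    · rw [Category.assoc, Category.assoc] at hdd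
      have h1 : φ.app (dual Λ k) (P.family.app _ (HomSet.map (truncTrans P.ring (show 1 ≤ N + 1 by omega) ≫ d) (P.ring.truncHom (N + 1)))) =
          φ.app (dual Λ k) (P.family.app _ (HomSet.map (truncTrans P.ring (show 1 ≤ N + 1 by omega) ≫ d') (P.ring.truncHom (N + 1)))) := by
        rw [hφ, hφ, hdd]
      have h2 := trunc_hom_ext ((P.universal (dual Λ k)).1 (hd.1 h1))
      exact hom_ext' fun x => by
        obtain ⟨z, rfl⟩ := truncTrans_surjective (R := P.ring) (show 1 ≤ N + 1 by omega) x
        exact congr_hom h2 z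
  have he_surj : Function.Surjective e := by
    refine surjective_of_cotangent e fun b hb => ?_
    obtain ⟨z, hz⟩ := hq (truncTrans P.ring (show 1 ≤ N + 1 by omega) b)
    have hz' : z ∈ IsLocalRing.maximalIdeal (P.ring.trunc (N + 1)) := by
      rw [Art.mem_maximalIdeal_iff] at hb ⊢
      rw [← res_app (e ≫ truncTrans P.ring (show 1 ≤ N + 1 by omega)) z, hz, res_app, hb]
    have hdiff : e z - b ∈ IsLocalRing.maximalIdeal (P.ring.trunc (N + 1)) ^ 2 := by
      obtain ⟨a, ha⟩ := Ideal.Quotient.mk_surjective (e z - b)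
      have h0 : truncTrans P.ring (show 1 ≤ N + 1 by omega) (e z - b) = 0 := by
        rw [map_sub]
        exact sub_eq_zero.mpr hz
      rw [← ha] at h0 ⊢
      have ha2 : a ∈ mpow P.ring 1 := Ideal.Quotient.eq_zero_iff_mem.mp h0
      refine Ideal.pow_right_mono (I := (IsLocalRing.maximalIdeal P.ring.carrier).map
        (Ideal.Quotient.mk (mpow P.ring (N + 1)))) (Ideal.map_le_iff_le_comap.mpr fun x hx => ?_) 2 ?_
      · show Ideal.Quotient.mk _ x ∈ IsLocalRing.maximalIdeal (P.ring.trunc (N + 1))
        exact (Art.mem_maximalIdeal_iff (P.ring.trunc (N + 1)) _).mpr ((CRing.mem_maximalIdeal_iff _ x).mp hx)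
      · rw [← Ideal.map_pow]
        exact Ideal.mem_map_of_mem _ ha2
    rw [← sub_sub_cancel (e z) b]
    exact Submodule.sub_mem_sup (Ideal.mem_map_of_mem _ hz') hdiff
  have he_bij : Function.Bijective e :=
    ⟨IsNoetherian.injective_of_surjective_endomorphism e.toAlgHom.toLinearMap he_surj, he_surj⟩
  refine ⟨P.family.app A (HomSet.map (homInv e he_bij ≫ truncLift ψ (N + 1) (hN _ (Nat.le_succ N)))
    (P.ring.truncHom (N + 1))), ?_⟩
  rw [hφ, ← Category.assoc, comp_homInv, Category.id_comp, truncLift_truncHom]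

end Groth.Agent.S12735
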