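import Groth.Statements.S12736
import Groth.Agent.ArtFunLib.Criteria
import Mathlib

set_option autoImplicit false
universe u v
open CategoryTheory
open ArtFun

namespace Groth.Agent.S12736

/-- For functors, let φ : F → G be a morphism of functors on Artinian local Λ-algebras with residue
field k whose values at k are points and which satisfy (S2), with the natural vector space
structures on their tangent spaces. Then the differential dφ : F(k[ε]) → G(k[ε]) is k-linear. -/
theorem result {Λ : Type u} {k : Type u} [CommRing Λ] [Field k] [Algebra Λ k]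
    [IsNoetherianRing Λ] [Module.Finite Λ k]
    {F G : ArtFun.Art Λ k ⥤ Type v} [ArtFun.TangentStr F] [ArtFun.TangentStr G]
    (hF0 : ArtFun.H0 F) (hF2 : ArtFun.Heps F) (hG0 : ArtFun.H0 G) (hG2 : ArtFun.Heps G) (φ : F ⟶ G) :
    ∃ f : ArtFun.TangentSpace F →ₗ[k] ArtFun.TangentSpace G, ⇑f = ArtFun.TangentSpace.map φ := by
  open Groth.Agent.ArtFunLib ArtFun ArtFun.Art in
  let f : TangentSpace F →ₗ[k] TangentSpace G :=
    { toFun := TangentSpace.map φ
      map_add' := fun x y => by
        obtain ⟨z, hz₁, hz₂⟩ := exists_of_surj (hF2 _ _ isFibreProd_dual2).2 x y (H0.eq hF0 _ _)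
        have e1 : TangentSpace.mk (F.map pr₁ z) + TangentSpace.mk (F.map pr₂ z) =
            TangentSpace.mk (F.map plus z) := TangentStr.add_eq z
        have e2 : TangentSpace.mk (G.map pr₁ (φ.app _ z)) + TangentSpace.mk (G.map pr₂ (φ.app _ z)) =
            TangentSpace.mk (G.map plus (φ.app _ z)) :=
          TangentStr.add_eq (φ.app _ z)
        rw [← nat_apply, ← nat_apply, hz₁, hz₂] at e2
        rw [hz₁, hz₂] at e1
        exact (congrArg (φ.app _) e1).trans ((nat_apply φ plus z).trans e2.symm)
      map_smul' := fun c x => by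
        exact (congrArg (φ.app _) (TangentStr.smul_eq (F := F) c x)).trans
          ((nat_apply φ (scale c) x).trans (TangentStr.smul_eq (F := G) c (φ.app _ x)).symm) }
  exact ⟨f, rfl⟩

end Groth.Agent.S12736
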