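import Groth.Statements.S12740
import Groth.Agent.ArtFunLib.Criteria
import Groth.Agent.ArtFunLib.Trunc
import Groth.Agent.ArtFunLib.Separable
import Groth.Agent.ArtFunLib.Pushout
import Mathlib

set_option autoImplicit false
universe u v
open CategoryTheory
open ArtFun ArtFun.CRing

namespace Groth.Agent.S12740

/-- The category of complete local Noetherian Λ-algebras with residue field k (Λ Noetherian, Λ → k
finite; morphisms the Λ-algebra maps compatible with the augmentations) admits pushouts: for R → S₁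
and R → S₂ there is an object P with morphisms from S₁ and S₂ agreeing on R, through which every
compatible pair S₁ → T ← S₂ agreeing on R factors by a unique morphism P → T. -/
theorem result {Λ : Type u} {k : Type u} [CommRing Λ] [Field k] [Algebra Λ k]
    [IsNoetherianRing Λ] [Module.Finite Λ k]
    (R S₁ S₂ : ArtFun.CRing Λ k)
    (f₁ : R.carrier →ₐ[Λ] S₁.carrier) (hf₁ : S₁.res.comp f₁ = R.res)
    (f₂ : R.carrier →ₐ[Λ] S₂.carrier) (hf₂ : S₂.res.comp f₂ = R.res) :
    ∃ (P : ArtFun.CRing Λ k) (i₁ : S₁.carrier →ₐ[Λ] P.carrier) (i₂ : S₂.carrier →ₐ[Λ] P.carrier),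
      P.res.comp i₁ = S₁.res ∧ P.res.comp i₂ = S₂.res ∧ i₁.comp f₁ = i₂.comp f₂ ∧
      ∀ (T : ArtFun.CRing Λ k) (g₁ : S₁.carrier →ₐ[Λ] T.carrier) (g₂ : S₂.carrier →ₐ[Λ] T.carrier),
        T.res.comp g₁ = S₁.res → T.res.comp g₂ = S₂.res → g₁.comp f₁ = g₂.comp f₂ →
          ∃! h : P.carrier →ₐ[Λ] T.carrier, T.res.comp h = P.res ∧ h.comp i₁ = g₁ ∧ h.comp i₂ = g₂ := by
  open Groth.Agent.ArtFunLib ArtFun ArtFun.Art ArtFun.CRing in
  let J : Ideal (TensorProduct Λ S₁.carrier S₂.carrier) := Ideal.span (Set.range fun r =>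
    Algebra.TensorProduct.includeLeft (S := Λ) (f₁ r) - Algebra.TensorProduct.includeRight (f₂ r))
  have hJ : ∀ (T : Type u) [CommRing T] [Algebra Λ T] (g₁ : S₁.carrier →ₐ[Λ] T) (g₂ : S₂.carrier →ₐ[Λ] T),
      g₁.comp f₁ = g₂.comp f₂ ↔ ∀ x ∈ J, Algebra.TensorProduct.productMap g₁ g₂ x = 0 := by
    intro T _ _ g₁ g₂
    have hl := fun x => DFunLike.congr_fun (Algebra.TensorProduct.productMap_left g₁ g₂) x
    have hr := fun x => DFunLike.congr_fun (Algebra.TensorProduct.productMap_right g₁ g₂) x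
    simp only [AlgHom.comp_apply, Algebra.TensorProduct.includeLeft_apply, Algebra.TensorProduct.includeRight_apply] at hl hr
    constructor
    · intro he x hx
      refine (Ideal.span_le (I := RingHom.ker (Algebra.TensorProduct.productMap g₁ g₂))).mpr ?_ hx
      rintro _ ⟨r, rfl⟩
      rw [SetLike.mem_coe, RingHom.mem_ker, map_sub]
      simp only [Algebra.TensorProduct.includeLeft_apply, Algebra.TensorProduct.includeRight_apply, hl, hr]
      rw [sub_eq_zero]
      exact DFunLike.congr_fun he r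
    · intro h
      refine AlgHom.ext fun r => ?_
      have := h _ (Ideal.subset_span ⟨r, rfl⟩)
      rw [map_sub] at this
      simp only [Algebra.TensorProduct.includeLeft_apply, Algebra.TensorProduct.includeRight_apply, hl, hr] at this
      exact sub_eq_zero.mp this
  obtain ⟨P, i₁, i₂, h₁, h₂, hi, hP⟩ := exists_pushout_of S₁ S₂ J
    ((hJ k S₁.res S₂.res).mp (hf₁.trans hf₂.symm))
  exact ⟨P, i₁, i₂, h₁, h₂, (hJ _ i₁ i₂).mpr hi, fun T g₁ g₂ hg₁ hg₂ he => hP T g₁ g₂ hg₁ hg₂ ((hJ _ g₁ g₂).mp he)⟩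

end Groth.Agent.S12740
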