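import Groth.Statements.S12744
import Groth.Agent.ArtFunLib.Criteria
import Groth.Agent.ArtFunLib.Trunc
import Mathlib

set_option autoImplicit false
universe u v
open CategoryTheory
open ArtFun

namespace Groth.Agent.S12744

/-- For functors, if η : F → G is a smooth morphism of functors on Artinian local Λ-algebras with
residue field k and F(k) → G(k) is surjective, then for every complete local Noetherian R with
residue field k the induced map on formal elements over R (compatible systems of elements over the
truncations R/m^(n+1)) is surjective. -/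
theorem result {Λ : Type u} {k : Type u} [CommRing Λ] [Field k] [Algebra Λ k]
    [IsNoetherianRing Λ] [Module.Finite Λ k]
    {F G : ArtFun.Art Λ k ⥤ Type v} (η : F ⟶ G) (hη : ArtFun.IsSmooth η)
    (h0 : Function.Surjective (η.app (ArtFun.Art.base Λ k))) (R : ArtFun.CRing Λ k) :
    Function.Surjective (fun u : ArtFun.FormalElt F R => u.map η) := by
  open Groth.Agent.ArtFunLib ArtFun ArtFun.Art ArtFun.CRing in
  intro u
  have hstep : ∀ n (x : F.obj (R.trunc n)), η.app _ x = u.elt n →
      ∃ y : F.obj (R.trunc (n + 1)), F.map (R.truncMap n) y = x ∧ η.app _ y = u.elt (n + 1) :=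
    fun n x hx => IsSmooth.lift hη (truncMap_surjective n) x _ (hx.trans (u.compat n).symm)
  choose g hg₁ hg₂ using hstep
  obtain ⟨x₀, hx₀⟩ := app_surjective_of_smooth η hη h0 _ (u.elt 0)
  let seq : ∀ n, {x : F.obj (R.trunc n) // η.app _ x = u.elt n} :=
    Nat.rec ⟨x₀, hx₀⟩ fun n x => ⟨g n x.1 x.2, hg₂ n x.1 x.2⟩
  exact ⟨⟨fun n => (seq n).1, fun n => hg₁ n _ _⟩, FormalElt.ext' fun n => (seq n).2⟩

end Groth.Agent.S12744
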