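import Groth.Statements.S12746
import Groth.Agent.ArtFunLib.Criteria
import Mathlib

set_option autoImplicit false
universe u v
open CategoryTheory
open ArtFun

namespace Groth.Agent.S12746

/-- For functors, if F, G, H are functors on Artinian local Λ-algebras with residue field k satisfying
(RS) and f : H → F, g : G → F are morphisms, then the fibre product functor H ×_F G satisfies (RS). -/
theorem result {Λ : Type u} {k : Type u} [CommRing Λ] [Field k] [Algebra Λ k]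
    [IsNoetherianRing Λ] [Module.Finite Λ k]
    {F G H : ArtFun.Art Λ k ⥤ Type v} (f : H ⟶ F) (g : G ⟶ F)
    (hF : (∀ ⦃B A A' A'' : ArtFun.Art Λ k⦄ (p' : B ⟶ A') (p'' : B ⟶ A'') (f' : A' ⟶ A) (f'' : A'' ⟶ A)
        (h : ArtFun.Art.IsFibreProd p' p'' f' f''), Function.Surjective f'' → Function.Bijective (ArtFun.cmp F h))) (hG : (∀ ⦃B A A' A'' : ArtFun.Art Λ k⦄ (p' : B ⟶ A') (p'' : B ⟶ A'') (f' : A' ⟶ A) (f'' : A'' ⟶ A)
        (h : ArtFun.Art.IsFibreProd p' p'' f' f''), Function.Surjective f'' → Function.Bijective (ArtFun.cmp G h))) (hH : (∀ ⦃B A A' A'' : ArtFun.Art Λ k⦄ (p' : B ⟶ A') (p'' : B ⟶ A'') (f' : A' ⟶ A) (f'' : A'' ⟶ A)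
        (h : ArtFun.Art.IsFibreProd p' p'' f' f''), Function.Surjective f'' → Function.Bijective (ArtFun.cmp H h))) :
    (∀ ⦃B A A' A'' : ArtFun.Art Λ k⦄ (p' : B ⟶ A') (p'' : B ⟶ A'') (f' : A' ⟶ A) (f'' : A'' ⟶ A)
        (h : ArtFun.Art.IsFibreProd p' p'' f' f''), Function.Surjective f'' → Function.Bijective (ArtFun.cmp (CategoryTheory.Limits.pullback f g) h)) := by
  open Groth.Agent.ArtFunLib ArtFun ArtFun.Art in
  intro B A A' A'' p' p'' f' f'' hP hs
  refine ⟨cmp_injective fun z z' h₁ h₂ => (pullback_eq_iff f g).mpr ⟨?_, ?_⟩,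
    cmp_surjective fun x₁ x₂ he => ?_⟩
  · refine eq_of_inj (hH p' p'' f' f'' hP hs).1 ?_ ?_
    · rw [← nat_apply, ← nat_apply, h₁]
    · rw [← nat_apply, ← nat_apply, h₂]
  · refine eq_of_inj (hG p' p'' f' f'' hP hs).1 ?_ ?_
    · rw [← nat_apply, ← nat_apply, h₁]
    · rw [← nat_apply, ← nat_apply, h₂]
  · obtain ⟨u, hu₁, hu₂⟩ := exists_of_surj (hH p' p'' f' f'' hP hs).2
      ((Limits.pullback.fst f g).app A' x₁) ((Limits.pullback.fst f g).app A'' x₂)
      (by rw [← nat_apply, he, nat_apply])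
    obtain ⟨v, hv₁, hv₂⟩ := exists_of_surj (hG p' p'' f' f'' hP hs).2
      ((Limits.pullback.snd f g).app A' x₁) ((Limits.pullback.snd f g).app A'' x₂)
      (by rw [← nat_apply, he, nat_apply])
    have he' : f.app B u = g.app B v := eq_of_inj (hF p' p'' f' f'' hP hs).1
      (by rw [← nat_apply, ← nat_apply, hu₁, hv₁, pullback_cond])
      (by rw [← nat_apply, ← nat_apply, hu₂, hv₂, pullback_cond])
    obtain ⟨z, hz₁, hz₂⟩ := pullback_exists f g u v he'
    exact ⟨z, (pullback_eq_iff f g).mpr ⟨by rw [nat_apply, hz₁, hu₁], by rw [nat_apply, hz₂, hv₁]⟩,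
      (pullback_eq_iff f g).mpr ⟨by rw [nat_apply, hz₁, hu₂], by rw [nat_apply, hz₂, hv₂]⟩⟩

end Groth.Agent.S12746
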