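import Groth.Statements.S12747
import Groth.Agent.ArtFunLib.Criteria
import Mathlib

set_option autoImplicit false
universe u v
open CategoryTheory
open ArtFun

namespace Groth.Agent.S12747

/-- For functors, let H₁ → G, H₂ → G and q : G → F be morphisms of functors on Artinian local Λ-algebras
with residue field k where F and G are deformation functors (value at k a point, condition (RS)) and
q is injective on tangent spaces. Then the induced morphism H₁ ×_G H₂ → H₁ ×_F H₂ is smooth. (The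
published statement also assumes that infinitesimal automorphisms of G map onto those of F; for
functors that condition is empty.) -/
theorem result {Λ : Type u} {k : Type u} [CommRing Λ] [Field k] [Algebra Λ k]
    [IsNoetherianRing Λ] [Module.Finite Λ k]
    {F G H₁ H₂ : ArtFun.Art Λ k ⥤ Type v} (p₁ : H₁ ⟶ G) (p₂ : H₂ ⟶ G) (q : G ⟶ F)
    (hF0 : ArtFun.H0 F) (hF : (∀ ⦃B A A' A'' : ArtFun.Art Λ k⦄ (p' : B ⟶ A') (p'' : B ⟶ A'') (f' : A' ⟶ A) (f'' : A'' ⟶ A)
        (h : ArtFun.Art.IsFibreProd p' p'' f' f''), Function.Surjective f'' → Function.Bijective (ArtFun.cmp F h)))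
    (hG0 : ArtFun.H0 G) (hG : (∀ ⦃B A A' A'' : ArtFun.Art Λ k⦄ (p' : B ⟶ A') (p'' : B ⟶ A'') (f' : A' ⟶ A) (f'' : A'' ⟶ A)
        (h : ArtFun.Art.IsFibreProd p' p'' f' f''), Function.Surjective f'' → Function.Bijective (ArtFun.cmp G h)))
    (hq : Function.Injective (ArtFun.TangentSpace.map q)) :
    ArtFun.IsSmooth (CategoryTheory.Limits.pullback.map p₁ p₂ (p₁ ≫ q) (p₂ ≫ q) (𝟙 H₁) (𝟙 H₂) q
      (CategoryTheory.Category.id_comp _).symm (CategoryTheory.Category.id_comp _).symm) := by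
  open Groth.Agent.ArtFunLib ArtFun ArtFun.Art in
  have hinj : ∀ A : Art Λ k, Function.Injective (q.app A) := app_injective_of_tangent q hG0
    (fun B A A' A'' p' p'' f' f'' hP hs => (hG p' p'' f' f'' hP hs.1).2) (heps_of_rs hG)
    (fun B A A' r₁ r₂ g hP hs => hF r₁ r₂ g g hP hs.1) hq
  intro B A μ hμ w
  obtain ⟨⟨a, b⟩, hab⟩ := w
  set m := Limits.pullback.map p₁ p₂ (p₁ ≫ q) (p₂ ≫ q) (𝟙 H₁) (𝟙 H₂) q
      (CategoryTheory.Category.id_comp _).symm (CategoryTheory.Category.id_comp _).symm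
  have hm₁ : ∀ (X : Art Λ k) z, (Limits.pullback.fst (p₁ ≫ q) (p₂ ≫ q)).app X (m.app X z) =
      (Limits.pullback.fst p₁ p₂).app X z := fun X z => by
    rw [← NatTrans.comp_app_apply, show m ≫ Limits.pullback.fst (p₁ ≫ q) (p₂ ≫ q) =
      Limits.pullback.fst p₁ p₂ from (Limits.pullback.lift_fst _ _ _).trans (Category.comp_id _)]
  have hm₂ : ∀ (X : Art Λ k) z, (Limits.pullback.snd (p₁ ≫ q) (p₂ ≫ q)).app X (m.app X z) =
      (Limits.pullback.snd p₁ p₂).app X z := fun X z => by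
    rw [← NatTrans.comp_app_apply, show m ≫ Limits.pullback.snd (p₁ ≫ q) (p₂ ≫ q) =
      Limits.pullback.snd p₁ p₂ from (Limits.pullback.lift_snd _ _ _).trans (Category.comp_id _)]
  have hc := pullback_cond (p₁ ≫ q) (p₂ ≫ q) b
  rw [NatTrans.comp_app_apply, NatTrans.comp_app_apply] at hc
  obtain ⟨z, hz₁, hz₂⟩ := pullback_exists p₁ p₂ ((Limits.pullback.fst (p₁ ≫ q) (p₂ ≫ q)).app B b)
    ((Limits.pullback.snd (p₁ ≫ q) (p₂ ≫ q)).app B b) (hinj B hc)
  have hb : m.app B z = b := (pullback_eq_iff _ _).mpr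
    ⟨(hm₁ B z).trans hz₁, (hm₂ B z).trans hz₂⟩
  refine ⟨z, Subtype.ext (Prod.ext ((pullback_eq_iff p₁ p₂).mpr ⟨?_, ?_⟩) hb)⟩
  · refine ((nat_apply _ μ z).trans (congrArg _ hz₁)).trans ?_
    rw [← nat_apply, ← hab, hm₁]
  · refine ((nat_apply _ μ z).trans (congrArg _ hz₂)).trans ?_
    rw [← nat_apply, ← hab, hm₂]

end Groth.Agent.S12747
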