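import Groth.Statements.S12748
import Groth.Agent.ArtFunLib.Criteria
import Groth.Agent.ArtFunLib.Trunc
import Groth.Agent.ArtFunLib.Separable
import Groth.Agent.ArtFunLib.Minimal
import Mathlib

set_option autoImplicit false
universe u v
open CategoryTheory
open ArtFun ArtFun.CRing

namespace Groth.Agent.S12748

/-- Let R' → R be a morphism of complete local Noetherian Λ-algebras with residue field k with an
R'-algebra retraction ρ : R → R', so that R = R' ⊕ I for the ideal I = ker ρ; let x₁, …, x_r ∈ I map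
to a basis of I/m_R I and let φ : R'[[X₁, …, X_r]] → R be an R'-algebra map sending X_i to x_i. If
for all large n the induced map R'[[X]]/m^n → R/m_R^n has a left inverse — a Λ-algebra map g_n : R →
R'[[X]]/m^n with g_n ∘ φ equal to the quotient map — then φ is an isomorphism. -/
theorem result {Λ : Type u} {k : Type u} [CommRing Λ] [Field k] [Algebra Λ k]
    [IsNoetherianRing Λ] [Module.Finite Λ k]
    (R' R : ArtFun.CRing Λ k) [Algebra R'.carrier R.carrier] [IsScalarTower Λ R'.carrier R.carrier]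
    (hc : R.res.comp (IsScalarTower.toAlgHom Λ R'.carrier R.carrier) = R'.res)
    (ρ : R.carrier →ₐ[R'.carrier] R'.carrier)
    (r : ℕ) (x : Fin r → R.carrier) (hxI : ∀ i, ρ (x i) = 0)
    (hspan : Ideal.span (Set.range x) ⊔ IsLocalRing.maximalIdeal R.carrier * RingHom.ker ρ = RingHom.ker ρ)
    (hli : ∀ c : Fin r → R.carrier, (∑ i, c i * x i) ∈ IsLocalRing.maximalIdeal R.carrier * RingHom.ker ρ →
      ∀ i, c i ∈ IsLocalRing.maximalIdeal R.carrier)
    (φ : MvPowerSeries (Fin r) R'.carrier →ₐ[R'.carrier] R.carrier) (hφ : ∀ i, φ (MvPowerSeries.X i) = x i)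
    (hinv : ∃ N : ℕ, ∀ n, N ≤ n →
      ∃ g : R.carrier →ₐ[Λ] (MvPowerSeries (Fin r) R'.carrier ⧸
          IsLocalRing.maximalIdeal (MvPowerSeries (Fin r) R'.carrier) ^ n),
        ∀ s, g (φ s) = Ideal.Quotient.mk _ s) :
    Function.Bijective φ := by
  open Groth.Agent.ArtFunLib ArtFun ArtFun.Art ArtFun.CRing in
  obtain ⟨Q⟩ := exists_psRing R' r
  let i : R'.carrier →ₐ[Λ] R.carrier := IsScalarTower.toAlgHom Λ R'.carrier R.carrier
  let ρΛ : R.carrier →ₐ[Λ] R'.carrier := ρ.restrictScalars Λ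
  have hρi : ρΛ.comp i = AlgHom.id Λ _ := AlgHom.ext fun a => ρ.commutes a
  have hIm : RingHom.ker ρΛ ≤ IsLocalRing.maximalIdeal R.carrier := IsLocalRing.le_maximalIdeal (RingHom.ker_ne_top _)
  have hρ : R'.res.comp ρΛ = R.res := AlgHom.ext fun a => by
    have h1 : a - i (ρΛ a) ∈ RingHom.ker ρΛ := by
      rw [RingHom.mem_ker, map_sub, show ρΛ (i (ρΛ a)) = ρΛ a from DFunLike.congr_fun hρi _, sub_self]
    have h2 := (CRing.mem_maximalIdeal_iff R _).mp (hIm h1)
    rw [map_sub, sub_eq_zero, res_comp_apply i hc] at h2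
    exact h2.symm
  let Φ : Q.ring.carrier →ₐ[Λ] R.carrier := (φ.restrictScalars Λ).comp Q.e.toAlgHom
  have hΦC : Φ.comp Q.C = i := AlgHom.ext fun a => by
    change φ (Q.e (Q.C a)) = _
    rw [Q.e_C]
    exact φ.commutes a
  have hΦX : ∀ l, Φ (Q.X l) = x l := fun l => by
    change φ (Q.e (Q.X l)) = _
    rw [Q.e_X, hφ]
  have hΦ : R.res.comp Φ = Q.ring.res := AlgHom.ext fun s => by
    rw [Q.res_e]
    exact ps_res_unique (R.res.toRingHom.comp φ.toRingHom) (fun a => by
      change R.res (φ (MvPowerSeries.C a)) = _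
      rw [show φ (MvPowerSeries.C a) = i a from φ.commutes a]
      exact res_comp_apply i hc a) (Q.e s)
  obtain ⟨hs, -⟩ := ps_to_retract i hc ρΛ hρ hρi Q x hxI hspan Φ hΦ hΦC hΦX
  refine ⟨(injective_iff_map_eq_zero φ).mpr fun s hs0 => ?_, fun y => (hs y).elim fun q hq => ⟨Q.e q, hq⟩⟩
  obtain ⟨N, hN⟩ := hinv
  rw [← Ideal.mem_bot, ← Ideal.iInf_pow_eq_bot_of_isLocalRing (IsLocalRing.maximalIdeal _)
    (IsLocalRing.maximalIdeal.isMaximal _).ne_top, Ideal.mem_iInf]
  intro m
  obtain ⟨g, hg⟩ := hN (max N m) (le_max_left _ _)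
  refine Ideal.pow_le_pow_right (le_max_right N m) (Ideal.Quotient.eq_zero_iff_mem.mp ?_)
  rw [← hg s, hs0, map_zero]

end Groth.Agent.S12748
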