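import Groth.Statements.S12749
import Groth.Agent.ArtFunLib.Criteria
import Groth.Agent.ArtFunLib.Trunc
import Groth.Agent.ArtFunLib.Separable
import Mathlib

set_option autoImplicit false
universe u v
open CategoryTheory
open ArtFun

namespace Groth.Agent.S12749

/-- For functors, suppose k admits no nonzero Λ-derivation into itself (that is, k is separable over the
image of Λ in k). Let F be a functor on Artinian local Λ-algebras with residue field k with F(k) a
point which satisfies (S2), and let ξ be a minimal versal family of F over a complete local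
Noetherian R with residue field k: ξ is versal, and every morphism of such coefficient rings R' → R
along which some formal element of F over R' pushes forward to the formal element of ξ is
surjective. Then ξ is a hull of F: it is moreover bijective on tangent spaces. (The published
statement, for arbitrary k, concludes that the tangent map of the minimal versal family is bijective
on orbits under the Λ-derivations of k; when k has no nonzero Λ-derivation into itself the orbits
are points and this is plain bijectivity, which is the case stated here.) -/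
theorem result {Λ : Type u} {k : Type u} [CommRing Λ] [Field k] [Algebra Λ k]
    [IsNoetherianRing Λ] [Module.Finite Λ k]
    (hk : Subsingleton (Derivation Λ k k))
    {F : ArtFun.Art Λ k ⥤ Type v} (h0 : ArtFun.H0 F) (h2 : ArtFun.Heps F)
    {R : ArtFun.CRing Λ k} (ξ : ArtFun.Family R.carrier R.res F) (hξ : ξ.IsMinimalVersal) :
    ArtFun.IsMiniversal ξ := by
  open Groth.Agent.ArtFunLib ArtFun ArtFun.Art ArtFun.CRing in
  refine ⟨hξ.1, ?_, IsVersal.app_surjective hξ.1 h0 _⟩
  intro φa φb hab
  by_contra hne
  have hkill : ∀ χ : HomSet R.carrier R.res (dual Λ k), ∀ r ∈ mpow R 1, χ.1 r = 0 := fun χ r hr => by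
    have := homSet_mpow χ 1 hr
    rw [sq] at this
    refine Submodule.mul_induction_on this (fun u hu v hv => ?_) (fun u v hu hv => by rw [hu, hv, add_zero])
    rw [Art.mem_maximalIdeal_iff] at hu hv
    exact TrivSqZeroExt.ext ((TrivSqZeroExt.fst_mul _ _).trans (by
        rw [show TrivSqZeroExt.fst (show DualNumber k from u) = 0 from hu, zero_mul]; rfl))
      ((TrivSqZeroExt.snd_mul _ _).trans (by
        rw [show TrivSqZeroExt.fst (show DualNumber k from u) = 0 from hu,
          show TrivSqZeroExt.fst (show DualNumber k from v) = 0 from hv]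
        simp only [zero_smul, MulOpposite.op_zero, add_zero]
        rfl))
  set T := R.trunc 1
  let a : T ⟶ dual Λ k := truncLift φa 1 (hkill φa)
  let b : T ⟶ dual Λ k := truncLift φb 1 (hkill φb)
  -- the difference of the two maps
  obtain ⟨c, hca, hcb⟩ := exists_lift (isFibreProd_dual2 (Λ := Λ) (k := k)) (g₁ := a) (g₂ := b)
    ((eq_toBase _).trans (eq_toBase _).symm)
  let minus : dual2 Λ k ⟶ dual Λ k := t2 (LinearMap.fst k k k - LinearMap.snd k k k)
  let d : T ⟶ dual Λ k := c ≫ minus
  have hd : ∀ x, TrivSqZeroExt.snd (show DualNumber k from d x) =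
      TrivSqZeroExt.snd (show DualNumber k from a x) - TrivSqZeroExt.snd (show DualNumber k from b x) := fun x => by
    rw [← congr_hom hca x, ← congr_hom hcb x]
    rfl
  have hdfst : ∀ x, TrivSqZeroExt.fst (show DualNumber k from d x) = T.res x := fun x => Art.res_app d x
  let η₁ := R.truncHom 1
  have hξd : F.map d (ξ.app T η₁) = F.map (toBase T ≫ baseToDual) (ξ.app T η₁) := by
    have e₁ : F.map a (ξ.app T η₁) = ξ.app _ φa := by rw [← ξ.natural, truncLift_truncHom]
    have e₂ : F.map b (ξ.app T η₁) = ξ.app _ φb := by rw [← ξ.natural, truncLift_truncHom]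
    let x := ξ.app (dual Λ k) φa
    let diag : dual Λ k ⟶ dual2 Λ k := ⟨tszeMap (LinearMap.id.prod LinearMap.id), AlgHom.ext fun _ => rfl⟩
    have hz : F.map c (ξ.app T η₁) = F.map diag x := eq_of_inj (h2 _ _ isFibreProd_dual2).1
      (by rw [← map_comp', ← map_comp', hca, e₁, show diag ≫ pr₁ = 𝟙 _ from hom_ext' fun _ => rfl, map_id'])
      (by rw [← map_comp', ← map_comp', hcb, e₂, show diag ≫ pr₂ = 𝟙 _ from hom_ext' fun _ => rfl, map_id']
          exact hab.symm)
    rw [map_comp', hz, ← map_comp', show diag ≫ minus = toBase _ ≫ baseToDual from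
      hom_ext' fun v => TrivSqZeroExt.ext rfl (sub_self _), map_comp', map_comp']
    exact congrArg _ (H0.eq h0 _ _)
  by_cases hW : ∀ t ∈ IsLocalRing.maximalIdeal T, d t = 0
  · -- then the difference is a derivation of the residue field
    choose l hl using T.res_surjective
    have hwd : ∀ x y, T.res x = T.res y → d x = d y := fun x y hxy => by
      rw [← sub_eq_zero, ← map_sub]
      exact hW _ ((Art.mem_maximalIdeal_iff T _).mpr (by rw [map_sub, hxy, sub_self]))
    let D₀ : k → k := fun z => TrivSqZeroExt.snd (show DualNumber k from d (l z))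
    have hD₀ : ∀ x, D₀ (T.res x) = TrivSqZeroExt.snd (show DualNumber k from d x) := fun x => by
      simp only [D₀]
      rw [hwd (l (T.res x)) x (hl _)]
    let Dₗ : k →ₗ[Λ] k :=
      { toFun := D₀
        map_add' := fun y z => by
          rw [← hl y, ← hl z, ← map_add, hD₀, hD₀, hD₀, map_add]
          rfl
        map_smul' := fun r z => by
          rw [← hl z, ← map_smul, hD₀, hD₀, map_smul]
          rfl }
    let D : Derivation Λ k k := Derivation.mk' Dₗ fun y z => by
      change D₀ (y * z) = y • D₀ z + z • D₀ y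
      rw [← hl y, ← hl z, ← map_mul, hD₀, hD₀, hD₀, map_mul, ← hdfst, ← hdfst (l z)]
      exact (TrivSqZeroExt.snd_mul _ _).trans (by simp; ring)
    refine hne (Subtype.ext (AlgHom.ext fun r => ?_))
    let rT : T := η₁.1 r
    have h0 : D₀ (T.res rT) = 0 := DFunLike.congr_fun (Subsingleton.elim D 0) (T.res rT)
    rw [hD₀, hd] at h0
    exact TrivSqZeroExt.ext ((homSet_res φa r).trans (homSet_res φb r).symm) (sub_eq_zero.mp h0)
  · push Not at hW
    obtain ⟨t, htm, htd⟩ := hW
    have htr : T.res t = 0 := (Art.mem_maximalIdeal_iff T t).mp htm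
    have hmt : ∀ u, T.res u = 0 → u * t = 0 := fun u hu => by
      obtain ⟨r, rfl⟩ := Ideal.Quotient.mk_surjective u
      obtain ⟨s, rfl⟩ := Ideal.Quotient.mk_surjective t
      change Ideal.Quotient.mk (mpow R 1) (r * s) = 0
      refine Ideal.Quotient.eq_zero_iff_mem.mpr ?_
      rw [mpow, sq]
      exact Ideal.mul_mem_mul ((CRing.mem_maximalIdeal_iff R r).mpr hu) ((CRing.mem_maximalIdeal_iff R s).mpr htr)
    have hK : Ideal.span {t} ≤ IsLocalRing.maximalIdeal T := (Ideal.span_singleton_le_iff_mem _).mpr htm
    let s := quotMk T _ hK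
    have htd' : TrivSqZeroExt.snd (show DualNumber k from d t) ≠ 0 := fun h =>
      htd (TrivSqZeroExt.ext ((hdfst t).trans htr) h)
    have hP : IsFibreProd s d (toBase _) (toBase _) := by
      refine ⟨(eq_toBase _).trans (eq_toBase _).symm, fun x y hs hdxy => ?_, fun e δ he => ?_⟩
      · obtain ⟨u, hu⟩ := Ideal.mem_span_singleton'.mp (Ideal.Quotient.eq.mp hs)
        by_cases hur : T.res u = 0
        · rw [← sub_eq_zero, ← hu, hmt u hur]
        · exfalso
          have := congrArg TrivSqZeroExt.snd (show (d (u * t) : DualNumber k) = 0 by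
            rw [hu, map_sub, hdxy, sub_self])
          rw [map_mul] at this
          replace this := (TrivSqZeroExt.snd_mul _ _).symm.trans this
          rw [hdfst, hdfst, htr] at this
          replace this : T.res u * TrivSqZeroExt.snd (show DualNumber k from d t) = 0 := by
            rw [MulOpposite.op_zero, zero_smul, add_zero, smul_eq_mul] at this
            exact this
          exact htd' ((mul_eq_zero.mp this).resolve_left hur)
      · obtain ⟨x, rfl⟩ := quotMk_surjective T _ hK e
        obtain ⟨u, hu⟩ := T.res_surjective ((TrivSqZeroExt.snd (show DualNumber k from δ) -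
          TrivSqZeroExt.snd (show DualNumber k from d x)) / TrivSqZeroExt.snd (show DualNumber k from d t))
        refine ⟨x + u * t, ?_, TrivSqZeroExt.ext ?_ ?_⟩
        · exact Ideal.Quotient.eq.mpr (Ideal.mem_span_singleton'.mpr ⟨u, (add_sub_cancel_left x _).symm⟩)
        · rw [hdfst, map_add, map_mul, htr, mul_zero, add_zero]
          exact he
        · rw [map_add, map_mul]
          refine ((TrivSqZeroExt.snd_add _ _).trans (congrArg _ (TrivSqZeroExt.snd_mul _ _))).trans ?_
          rw [hdfst, hdfst, htr, hu]
          simp [div_mul_cancel₀ _ htd']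
    obtain ⟨sec, hsec₁, hsec₂⟩ := exists_lift hP (g₁ := 𝟙 _) (g₂ := toBase _ ≫ baseToDual)
      ((eq_toBase _).trans (eq_toBase _).symm)
    let ψ₁ := HomSet.map (s ≫ sec) η₁
    have hψ₁ : ξ.app T ψ₁ = ξ.app T η₁ := by
      rw [ξ.natural]
      refine eq_of_inj (h2 s d hP).1 ?_ ?_
      · rw [← map_comp', Category.assoc, hsec₁, Category.comp_id]
      · rw [← map_comp', Category.assoc, hsec₂, hξd, ← Category.assoc, eq_toBase (s ≫ toBase _)]
    -- lift `ψ₁` to the whole ring
    have step : ∀ n (φ : HomSet R.carrier R.res (R.trunc (n + 1))),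
        ξ.app _ φ = ξ.app _ (R.truncHom (n + 1)) → ∃ ψ, HomSet.map (R.truncMap (n + 1)) ψ = φ ∧
          ξ.app _ ψ = ξ.app _ (R.truncHom (n + 2)) := fun n φ hφ =>
      hξ.1 (R.truncMap (n + 1)) (truncMap_surjective _) φ _ (by rw [hφ, ← ξ.natural, truncMap_truncHom])
    choose next hnext₁ hnext₂ using step
    let seq' : ∀ n, {φ : HomSet R.carrier R.res (R.trunc (n + 1)) //
        ξ.app _ φ = ξ.app _ (R.truncHom (n + 1))} := fun n =>
      Nat.rec ⟨ψ₁, hψ₁⟩ (fun m p => ⟨next m p.1 p.2, hnext₂ m p.1 p.2⟩) n
    let seq : ∀ n, HomSet R.carrier R.res (R.trunc (n + 1)) := fun n => (seq' n).1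
    have hseq : ∀ n, ξ.app _ (seq n) = ξ.app _ (R.truncHom (n + 1)) := fun n => (seq' n).2
    obtain ⟨g, hg, hmk⟩ := exists_algHom_of_trunc (R := R)
      (fun n => HomSet.map (R.truncMap n) (seq n)) (fun n => congrArg _ (hnext₁ n _ (hseq n)))
    have hpush : (ξ.toFormalElt).push g hg = ξ.toFormalElt := FormalElt.ext' fun n => by
      change F.map (truncMapOfHom g hg n) (ξ.app _ (R.truncHom n)) = ξ.app _ (R.truncHom n)
      rw [← ξ.natural, show HomSet.map (truncMapOfHom g hg n) (R.truncHom n) = HomSet.map (R.truncMap n) (seq n)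
        from Subtype.ext (AlgHom.ext fun x => hmk n x), ξ.natural, hseq, ← ξ.natural, truncMap_truncHom]
    have hgs := hξ.2 R ξ.toFormalElt g hg hpush
    have hsurj : Function.Surjective (s ≫ sec) := fun x => by
      obtain ⟨r, rfl⟩ := Ideal.Quotient.mk_surjective x
      obtain ⟨r', rfl⟩ := hgs r
      refine ⟨η₁.1 r', ((hmk 1 r').trans ?_).symm⟩
      exact DFunLike.congr_fun (congrArg Subtype.val (hnext₁ 0 _ hψ₁)) r'
    obtain ⟨x, hx⟩ := hsurj t
    refine htd' ?_
    rw [← hx, show d ((s ≫ sec) x) = baseToDual ((toBase _) (s x)) from congr_hom hsec₂ (s x)]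
    rfl

end Groth.Agent.S12749
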