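import Groth.Statements.S12750
import Groth.Agent.ArtFunLib.Criteria
import Groth.Agent.ArtFunLib.Trunc
import Groth.Agent.ArtFunLib.Separable
import Mathlib

set_option autoImplicit false
universe u v
open CategoryTheory
open ArtFun ArtFun.Art

namespace Groth.Agent.S12750

/-- (1) ⇔ (3): let f : B → A be a morphism in the category of Artinian local Λ-algebras with residue
field k, and let q_B : B → B', q_A : A → A' be the quotients by m_Λ B + m_B² and m_Λ A + m_A² (m_Λ
the kernel of Λ → k), realised as surjective morphisms with these kernels, with f' : B' → A' the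
induced morphism. Then f is an essential surjection — surjective, and every morphism g into B whose
composite with f is surjective is itself surjective — if and only if f' is. (The intermediate
equivalence with the map B/m_B² → A/m_A² is the special case Λ-structure trivialised and follows by
applying this one twice.) -/
theorem result {Λ : Type u} {k : Type u} [CommRing Λ] [Field k] [Algebra Λ k]
    [IsNoetherianRing Λ] [Module.Finite Λ k]
    {A B A' B' : ArtFun.Art Λ k} (f : B ⟶ A)
    (qB : B ⟶ B') (hqB : Function.Surjective qB)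
    (hkB : RingHom.ker qB.toAlgHom = Ideal.map (algebraMap Λ B) (RingHom.ker (algebraMap Λ k)) ⊔ IsLocalRing.maximalIdeal B ^ 2)
    (qA : A ⟶ A') (hqA : Function.Surjective qA)
    (hkA : RingHom.ker qA.toAlgHom = Ideal.map (algebraMap Λ A) (RingHom.ker (algebraMap Λ k)) ⊔ IsLocalRing.maximalIdeal A ^ 2)
    (f' : B' ⟶ A') (hf' : qB ≫ f' = f ≫ qA) :
    (Function.Surjective f ∧ ∀ (C : ArtFun.Art Λ k) (g : C ⟶ B), Function.Surjective (g ≫ f) → Function.Surjective g) ↔ (Function.Surjective f' ∧ ∀ (C : ArtFun.Art Λ k) (g : C ⟶ B'), Function.Surjective (g ≫ f') → Function.Surjective g) := by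
  open Groth.Agent.ArtFunLib ArtFun ArtFun.Art ArtFun.CRing in
  have hle : ∀ {C : Art Λ k} (g : C ⟶ B), Function.Surjective (g ≫ qB) → Function.Surjective g := by
    intro C g hg
    refine surjective_of_cotangent g fun y hy => ?_
    obtain ⟨a, ha⟩ := hg (qB y)
    have ham : a ∈ IsLocalRing.maximalIdeal C := by
      rw [Art.mem_maximalIdeal_iff] at hy ⊢
      rw [← res_app (g ≫ qB) a, ha, res_app, hy]
    have hker : g a - y ∈ RingHom.ker qB.toAlgHom := by
      rw [RingHom.mem_ker, map_sub, sub_eq_zero]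
      exact ha
    rw [hkB] at hker
    rw [← sub_sub_cancel (g a) y]
    refine Submodule.sub_mem _ (Submodule.mem_sup_left (Ideal.mem_map_of_mem _ ham)) ?_
    refine SetLike.le_def.mp (sup_le_sup_right ?_ _) hker
    refine Ideal.map_le_iff_le_comap.mpr fun r hr => ?_
    rw [Ideal.mem_comap, ← g.toAlgHom.commutes r]
    exact Ideal.mem_map_of_mem _ ((Art.mem_maximalIdeal_iff C _).mpr ((C.res.commutes r).trans hr))
  have hleA : ∀ {C : Art Λ k} (g : C ⟶ A), Function.Surjective (g ≫ qA) → Function.Surjective g := by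
    intro C g hg
    refine surjective_of_cotangent g fun y hy => ?_
    obtain ⟨a, ha⟩ := hg (qA y)
    have ham : a ∈ IsLocalRing.maximalIdeal C := by
      rw [Art.mem_maximalIdeal_iff] at hy ⊢
      rw [← res_app (g ≫ qA) a, ha, res_app, hy]
    have hker : g a - y ∈ RingHom.ker qA.toAlgHom := by
      rw [RingHom.mem_ker, map_sub, sub_eq_zero]
      exact ha
    rw [hkA] at hker
    rw [← sub_sub_cancel (g a) y]
    refine Submodule.sub_mem _ (Submodule.mem_sup_left (Ideal.mem_map_of_mem _ ham)) ?_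
    refine SetLike.le_def.mp (sup_le_sup_right ?_ _) hker
    refine Ideal.map_le_iff_le_comap.mpr fun r hr => ?_
    rw [Ideal.mem_comap, ← g.toAlgHom.commutes r]
    exact Ideal.mem_map_of_mem _ ((Art.mem_maximalIdeal_iff C _).mpr ((C.res.commutes r).trans hr))
  have hcomm : ∀ b, f' (qB b) = qA (f b) := fun b => congr_hom hf' b
  constructor
  · rintro ⟨hf, hess⟩
    refine ⟨fun a => ?_, fun C g hg => ?_⟩
    · obtain ⟨a, rfl⟩ := hqA a
      obtain ⟨b, rfl⟩ := hf a
      exact ⟨qB b, hcomm b⟩
    obtain ⟨P, p₁, p₂, hP⟩ := exists_fibreProd g qB hqB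
    have hp₁ : Function.Surjective p₁ := fibreProd_surjective_fst hP hqB
    have hp₂ : Function.Surjective p₂ := hess P p₂ (hleA (p₂ ≫ f) fun a => by
      obtain ⟨c, rfl⟩ := hg a
      obtain ⟨z, rfl⟩ := hp₁ c
      exact ⟨z, (hcomm (p₂ z)).symm.trans (congrArg f' (hP.w_apply z).symm)⟩)
    intro b'
    obtain ⟨b, rfl⟩ := hqB b'
    obtain ⟨z, rfl⟩ := hp₂ b
    exact ⟨p₁ z, hP.w_apply z⟩
  · rintro ⟨hf, hess⟩
    refine ⟨hleA f fun a => ?_, fun C g hg => hle g (hess C (g ≫ qB) fun a => ?_)⟩
    · obtain ⟨b', rfl⟩ := hf a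
      obtain ⟨b, rfl⟩ := hqB b'
      exact ⟨b, (hcomm b).symm⟩
    · obtain ⟨a, rfl⟩ := hqA a
      obtain ⟨c, rfl⟩ := hg a
      exact ⟨c, hcomm (g c)⟩

end Groth.Agent.S12750
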