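import Groth.Statements.S12751
import Mathlib
import Groth.Agent.ArtFunLib.Criteria
import Groth.Agent.ArtFunLib.Trunc
-- import your own Groth.Agent.* helpers here

set_option autoImplicit false
universe u v
open CategoryTheory
open scoped TensorProduct
open ArtFun ArtFun.Art

namespace Groth.Agent.S12751

/-- A morphism f : B → A in the category of Artinian local Λ-algebras with residue field k is surjective
if and only if Ω_{B/Λ} ⊗_B k → Ω_{A/Λ} ⊗_A k is surjective; by right exactness of the sequence
Ω_{B/Λ} ⊗_B A → Ω_{A/Λ} → Ω_{A/B} → 0 this surjectivity is the vanishing of Ω_{A/B} ⊗_A k, which is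
how it is written here (A a B-algebra through f, k an A-module through the augmentation). -/
theorem result {Λ : Type u} {k : Type u} [CommRing Λ] [Field k] [Algebra Λ k]
    [IsNoetherianRing Λ] [Module.Finite Λ k]
    {A B : ArtFun.Art Λ k} (f : B ⟶ A) :
    letI : Algebra B A := f.toAlgHom.toRingHom.toAlgebra
    letI : Algebra A k := A.res.toRingHom.toAlgebra
    Function.Surjective f ↔ Subsingleton (k ⊗[A] Ω[A⁄B]) := by
  letI : Algebra B A := f.toAlgHom.toRingHom.toAlgebra
  letI : Algebra A k := A.res.toRingHom.toAlgebra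
  haveI : IsScalarTower Λ B A := IsScalarTower.of_algebraMap_eq fun r => (f.toAlgHom.commutes r).symm
  constructor
  · intro hf
    haveI : Subsingleton Ω[A⁄B] := KaehlerDifferential.subsingleton_of_surjective B A hf
    exact subsingleton_of_forall_eq 0 fun x => by
      induction x with
      | zero => rfl
      | tmul a w => rw [Subsingleton.elim w 0, TensorProduct.tmul_zero]
      | add x y hx hy => rw [hx, hy, add_zero]
  · intro hs
    haveI : Module.Finite Λ A := Groth.Agent.ArtFunLib.finite_carrier A
    haveI : Module.Finite B A := Module.Finite.of_restrictScalars_finite Λ B A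
    have hker : LinearMap.ker (Algebra.linearMap A k) = IsLocalRing.maximalIdeal A := by
      ext a
      rw [LinearMap.mem_ker, Art.mem_maximalIdeal_iff]
      rfl
    let e : (A ⧸ IsLocalRing.maximalIdeal A) ≃ₗ[A] k :=
      (Submodule.quotEquivOfEq _ _ hker.symm).trans
        ((Algebra.linearMap A k).quotKerEquivOfSurjective A.res_surjective)
    haveI : Subsingleton ((A ⧸ IsLocalRing.maximalIdeal A) ⊗[A] Ω[A⁄B]) :=
      (TensorProduct.congr e (LinearEquiv.refl A Ω[A⁄B])).toEquiv.subsingleton
    haveI : Subsingleton (Ω[A⁄B] ⧸ (IsLocalRing.maximalIdeal A • ⊤ : Submodule A Ω[A⁄B])) :=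
      (TensorProduct.quotTensorEquivQuotSMul Ω[A⁄B] (IsLocalRing.maximalIdeal A)).symm.toEquiv.subsingleton
    have htop : (⊤ : Submodule A Ω[A⁄B]) = ⊥ := by
      refine Submodule.eq_bot_of_le_smul_of_le_jacobson_bot (IsLocalRing.maximalIdeal A) ⊤ Module.Finite.fg_top ?_
        (IsLocalRing.maximalIdeal_le_jacobson _)
      exact (Submodule.Quotient.subsingleton_iff.mp inferInstance).ge
    haveI : Algebra.FormallyUnramified B A :=
      ⟨subsingleton_of_forall_eq 0 fun x => (Submodule.mem_bot A).mp (htop ▸ Submodule.mem_top)⟩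
    haveI : IsLocalHom (algebraMap B A) := ⟨(Art.isLocalHom f).map_nonunit⟩
    have hm := Algebra.FormallyUnramified.map_maximalIdeal (R := B) (S := A)
    refine Groth.Agent.ArtFunLib.surjective_of_cotangent f fun y hy => ?_
    rw [← hm] at hy
    exact Ideal.mem_sup_left hy

end Groth.Agent.S12751
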