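import Groth.Statements.S12752
import Mathlib
import Groth.Agent.S12751
import Groth.Agent.ArtFunLib.Basic
-- import your own Groth.Agent.* helpers here

set_option autoImplicit false
universe u v
open CategoryTheory
open scoped TensorProduct
open ArtFun ArtFun.Art

namespace Groth.Agent.S12752

section dual
variable (R : Type u) {B : Type u} {k : Type u} [CommRing R] [CommRing B] [Field k] [Algebra R B]
  [Algebra R k] [Algebra B k] [IsScalarTower R B k]

/-- The derivation attached to a functional on `k ⊗ Ω`. -/
noncomputable def dualDer : ((k ⊗[B] Ω[B⁄R]) →ₗ[k] k) →ₗ[k] Derivation R B k where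
  toFun φ := ((φ.restrictScalars B).comp (TensorProduct.mk B k Ω[B⁄R] 1)).compDer (KaehlerDifferential.D R B)
  map_add' φ ψ := by ext b; rfl
  map_smul' c φ := by ext b; rfl

omit [IsScalarTower R B k] in
lemma dualDer_apply [IsScalarTower R B k] (φ : (k ⊗[B] Ω[B⁄R]) →ₗ[k] k) (b : B) :
    dualDer R φ b = φ (1 ⊗ₜ[B] KaehlerDifferential.D R B b) := rfl

lemma dualDer_bijective : Function.Bijective (dualDer R (B := B) (k := k)) := by
  refine ⟨(injective_iff_map_eq_zero _).mpr fun φ hφ => ?_, fun d => ?_⟩
  · refine TensorProduct.AlgebraTensorModule.ext fun c w => ?_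
    have h0 : ∀ w, φ (1 ⊗ₜ[B] w) = 0 := by
      intro w
      have hmem : w ∈ Submodule.span B (Set.range (KaehlerDifferential.D R B)) := by
        rw [KaehlerDifferential.span_range_derivation]; exact Submodule.mem_top
      induction hmem using Submodule.span_induction with
      | mem x hx =>
        obtain ⟨b, rfl⟩ := hx
        exact (dualDer_apply R φ b).symm.trans (DFunLike.congr_fun hφ b)
      | zero => simp
      | add x y _ _ hx hy => rw [TensorProduct.tmul_add, map_add, hx, hy, add_zero]
      | smul a x _ hx =>
        rw [TensorProduct.tmul_smul, ← algebraMap_smul k a, map_smul, hx, smul_zero]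
    rw [show c ⊗ₜ[B] w = c • (1 ⊗ₜ[B] w) by rw [TensorProduct.smul_tmul', smul_eq_mul, mul_one],
      map_smul, h0, smul_zero]
    rfl
  · refine ⟨(d.liftKaehlerDifferential).liftBaseChange k, Derivation.ext fun b => ?_⟩
    rw [dualDer_apply, LinearMap.liftBaseChange_tmul, one_smul, Derivation.liftKaehlerDifferential_comp_D]

lemma finrank_der [FiniteDimensional k (k ⊗[B] Ω[B⁄R])] :
    Module.finrank k (Derivation R B k) = Module.finrank k (k ⊗[B] Ω[B⁄R]) := by
  rw [← (LinearEquiv.ofBijective _ (dualDer_bijective R)).finrank_eq]
  exact Subspace.dual_finrank_eq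

lemma subsingleton_of_der (h : ∀ d : Derivation R B k, d = 0) : Subsingleton (k ⊗[B] Ω[B⁄R]) :=
  subsingleton_of_forall_eq 0 fun x => (Module.forall_dual_apply_eq_zero_iff k x).mp fun φ => by
    rw [(dualDer_bijective R).1 ((h (dualDer R φ)).trans (map_zero _).symm)]
    rfl

end dual

section comap
variable {R : Type u} {B A k : Type u} [CommRing R] [CommRing B] [CommRing A] [Field k]
  [Algebra R B] [Algebra R A] [Algebra R k] [Algebra B A] [Algebra A k] [Algebra B k]
  [IsScalarTower R B A] [IsScalarTower B A k] [IsScalarTower R A k]

/-- Pull back derivations into `k`. -/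
noncomputable def pull : Derivation R A k →ₗ[k] Derivation R B k where
  toFun d := d.compAlgebraMap B
  map_add' d e := by ext b; rfl
  map_smul' c d := by ext b; rfl

lemma pull_apply (d : Derivation R A k) (b : B) : pull d b = d (algebraMap B A b) := rfl

end comap

/-- (a) ⇔ (c): a morphism f : B → A in the category of Artinian local Λ-algebras with residue field k is
an essential surjection (surjective, and any morphism g into B with g followed by f surjective is
surjective) if and only if the map Ω_{B/Λ} ⊗_B k → Ω_{A/Λ} ⊗_A k is an isomorphism of k-vector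
spaces. These spaces are finite-dimensional, so the isomorphism condition is written as: the map is
surjective (that is, Ω_{A/B} ⊗_A k = 0) and the two spaces have equal dimension. -/
theorem result {Λ : Type u} {k : Type u} [CommRing Λ] [Field k] [Algebra Λ k]
    [IsNoetherianRing Λ] [Module.Finite Λ k]
    {A B : ArtFun.Art Λ k} (f : B ⟶ A) :
    letI : Algebra B A := f.toAlgHom.toRingHom.toAlgebra
    letI : Algebra A k := A.res.toRingHom.toAlgebra
    letI : Algebra B k := B.res.toRingHom.toAlgebra
    (Function.Surjective f ∧ ∀ (C : ArtFun.Art Λ k) (g : C ⟶ B), Function.Surjective (g ≫ f) → Function.Surjective g) ↔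
      (Subsingleton (k ⊗[A] Ω[A⁄B]) ∧
        Module.finrank k (k ⊗[B] Ω[B⁄Λ]) = Module.finrank k (k ⊗[A] Ω[A⁄Λ])) := by
  letI : Algebra B A := f.toAlgHom.toRingHom.toAlgebra
  letI : Algebra A k := A.res.toRingHom.toAlgebra
  letI : Algebra B k := B.res.toRingHom.toAlgebra
  haveI : IsScalarTower Λ B A := IsScalarTower.of_algebraMap_eq fun r => (f.toAlgHom.commutes r).symm
  haveI : IsScalarTower Λ A k := IsScalarTower.of_algebraMap_eq fun r => (A.res.commutes r).symm
  haveI : IsScalarTower Λ B k := IsScalarTower.of_algebraMap_eq fun r => (B.res.commutes r).symm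
  haveI : IsScalarTower B A k := IsScalarTower.of_algebraMap_eq fun b => (Art.res_app f b).symm
  haveI : Module.Finite Λ A := Groth.Agent.ArtFunLib.finite_carrier A
  haveI : Module.Finite Λ B := Groth.Agent.ArtFunLib.finite_carrier B
  haveI : Module.Finite k (Derivation Λ A k) :=
    Module.Finite.equiv (LinearEquiv.ofBijective _ (dualDer_bijective Λ (B := A) (k := k)))
  haveI : Module.Finite k (Derivation Λ B k) :=
    Module.Finite.equiv (LinearEquiv.ofBijective _ (dualDer_bijective Λ (B := B) (k := k)))
  have h51 := Groth.Agent.S12751.result f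
  have hinj : Function.Surjective f → Function.Injective (pull (R := Λ) (B := B) (A := A) (k := k)) := by
    intro hf d e hde
    ext a
    obtain ⟨b, rfl⟩ := hf a
    exact DFunLike.congr_fun hde b
  rw [← finrank_der Λ (B := B), ← finrank_der Λ (B := A)]
  constructor
  · rintro ⟨hf, hess⟩
    refine ⟨h51.mp hf, (LinearEquiv.ofBijective pull ⟨hinj hf, fun D => ?_⟩).finrank_eq.symm⟩
    have hD : ∀ t, f t = 0 → D t = 0 := by
      intro t ht
      by_contra hne
      let C : Subalgebra Λ B :=
        { carrier := {b | D b = 0}
          mul_mem' := fun {a b} ha hb => by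
            simp only [Set.mem_ofPred_eq] at ha hb ⊢
            rw [D.leibniz, ha, hb, smul_zero, smul_zero, add_zero]
          one_mem' := D.map_one_eq_zero
          add_mem' := fun {a b} ha hb => by
            simp only [Set.mem_ofPred_eq] at ha hb ⊢
            rw [map_add, ha, hb, add_zero]
          zero_mem' := map_zero D
          algebraMap_mem' := fun r => D.map_algebraMap r }
      have htm : B.res t = 0 := by rw [← Art.res_app f t, ht, map_zero]
      have hcov : ∀ b : B, ∃ c ∈ C, f c = f b := by
        intro b
        obtain ⟨s, hs⟩ := B.res_surjective (D b / D t)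
        refine ⟨b - s * t, ?_, by rw [map_sub, map_mul, ht, mul_zero, sub_zero]⟩
        show D (b - s * t) = 0
        rw [map_sub, D.leibniz]
        have e1 : s • D t = B.res s * D t := rfl
        have e2 : t • D s = B.res t * D s := rfl
        rw [e1, e2, htm, hs, zero_mul, add_zero, div_mul_cancel₀ _ hne, sub_self]
      haveI : Module.Finite Λ C :=
        have : IsNoetherian Λ B := isNoetherian_of_isNoetherianRing_of_finite Λ _
        inferInstanceAs (Module.Finite Λ (Subalgebra.toSubmodule C))
      let Cobj : ArtFun.Art Λ k := Groth.Agent.ArtFunLib.mkArt C (B.res.comp C.val) (fun c => by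
          obtain ⟨b, hb⟩ := B.res_surjective c
          obtain ⟨c', hc', he⟩ := hcov b
          refine ⟨⟨c', hc'⟩, ?_⟩
          show B.res c' = c
          rw [← hb, ← Art.res_app f c', he, Art.res_app])
        (fun c hc => IsNilpotent.map_iff (f := C.val) Subtype.val_injective |>.mp
          (Groth.Agent.ArtFunLib.isNilpotent_of_res hc))
      let g : Cobj ⟶ B := ⟨C.val, rfl⟩
      have hg : Function.Surjective g := hess Cobj g fun a => by
        obtain ⟨b, rfl⟩ := hf a
        obtain ⟨c', hc', he⟩ := hcov b
        exact ⟨(⟨c', hc'⟩ : C), he⟩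
      obtain ⟨c, hc⟩ := hg t
      exact hne (by rw [← hc]; exact c.2)
    obtain ⟨sec, hsec⟩ := hf.hasRightInverse
    have key : ∀ b a, f b = a → D b = D (sec a) := by
      intro b a h
      have := hD (b - sec a) (by rw [map_sub, h, hsec a, sub_self])
      rwa [map_sub, sub_eq_zero] at this
    refine ⟨Derivation.mk'
      { toFun := fun a => D (sec a)
        map_add' := fun a b => by rw [← map_add]; exact (key _ _ (by rw [map_add, hsec, hsec])).symm
        map_smul' := fun r a => by
          rw [RingHom.id_apply, ← D.map_smul]
          exact (key _ _ (by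
            show f (r • sec a) = r • a
            rw [Algebra.smul_def, Algebra.smul_def, map_mul, hsec]
            exact congrArg (· * a) (f.toAlgHom.commutes r))).symm }
      (fun a b => by
        show D (sec (a * b)) = a • D (sec b) + b • D (sec a)
        rw [← key (sec a * sec b) (a * b) (by rw [map_mul, hsec, hsec]), D.leibniz]
        have e : ∀ (a : A) (x : k), sec a • x = a • x := fun a x => by
          show B.res (sec a) * x = A.res a * x
          rw [← Art.res_app f (sec a), hsec]
        rw [e, e]), Derivation.ext fun b => ?_⟩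
    exact (key b (f b) rfl).symm
  · rintro ⟨hsub, hdim⟩
    have hf : Function.Surjective f := h51.mpr hsub
    refine ⟨hf, fun C g hgf => ?_⟩
    have hsur : Function.Surjective (pull (R := Λ) (B := B) (A := A) (k := k)) :=
      (LinearMap.injective_iff_surjective_of_finrank_eq_finrank hdim.symm).mp (hinj hf)
    refine (Groth.Agent.S12751.result g).mpr ?_
    letI : Algebra C B := g.toAlgHom.toRingHom.toAlgebra
    haveI : IsScalarTower Λ C B := IsScalarTower.of_algebraMap_eq fun r => (g.toAlgHom.commutes r).symm
    letI : Algebra C k := C.res.toRingHom.toAlgebra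
    haveI : IsScalarTower C B k := IsScalarTower.of_algebraMap_eq fun b => (Art.res_app g b).symm
    refine subsingleton_of_der C fun d => ?_
    obtain ⟨e, he⟩ := hsur (d.restrictScalars Λ)
    ext b
    obtain ⟨c, hc⟩ := hgf (f b)
    have h1 : d b = e (f b) := (DFunLike.congr_fun he b).symm
    have h2 : d (g c) = e (f (g c)) := (DFunLike.congr_fun he (g c)).symm
    rw [show d (g c) = 0 from d.map_algebraMap c] at h2
    rw [h1, ← hc]
    exact h2.symm

end Groth.Agent.S12752
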