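import Groth.Statements.S12753
import Groth.Agent.ArtFunLib.Criteria
import Groth.Agent.ArtFunLib.Trunc
import Groth.Agent.ArtFunLib.Separable
import Groth.Agent.S12709
import Groth.Agent.S12750
import Groth.Agent.ArtFunLib.Split
import Mathlib

set_option autoImplicit false
universe u v
open CategoryTheory
open ArtFun ArtFun.Art

namespace Groth.Agent.S12753

/-- Suppose k is separable over the image of Λ → k. A morphism f : B → A in the category of Artinian
local Λ-algebras with residue field k is an essential surjection (surjective, and any morphism g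
into B with g followed by f surjective is surjective) if and only if the map of cotangent spaces
relative to Λ, m_B/(m_Λ B + m_B²) → m_A/(m_Λ A + m_A²), is an isomorphism; surjectivity and
injectivity are written out in terms of ideals, m_Λ being the kernel of Λ → k. -/
theorem result {Λ : Type u} {k : Type u} [CommRing Λ] [Field k] [Algebra Λ k]
    [IsNoetherianRing Λ] [Module.Finite Λ k]
    [Algebra.IsSeparable (↥(algebraMap Λ k).range) k]
    {A B : ArtFun.Art Λ k} (f : B ⟶ A) :
    (Function.Surjective f ∧ ∀ (C : ArtFun.Art Λ k) (g : C ⟶ B), Function.Surjective (g ≫ f) → Function.Surjective g) ↔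
      (Ideal.map (algebraMap Λ A) (RingHom.ker (algebraMap Λ k)) ⊔ Ideal.map f.toAlgHom (IsLocalRing.maximalIdeal B) ⊔ IsLocalRing.maximalIdeal A ^ 2 =
          IsLocalRing.maximalIdeal A ∧
        ∀ b ∈ IsLocalRing.maximalIdeal B, f b ∈ Ideal.map (algebraMap Λ A) (RingHom.ker (algebraMap Λ k)) ⊔ IsLocalRing.maximalIdeal A ^ 2 →
          b ∈ Ideal.map (algebraMap Λ B) (RingHom.ker (algebraMap Λ k)) ⊔ IsLocalRing.maximalIdeal B ^ 2) := by
  open Groth.Agent.ArtFunLib ArtFun ArtFun.Art ArtFun.CRing in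
  let KA : Ideal A := Ideal.map (algebraMap Λ A) (RingHom.ker (algebraMap Λ k)) ⊔ IsLocalRing.maximalIdeal A ^ 2
  let KB : Ideal B := Ideal.map (algebraMap Λ B) (RingHom.ker (algebraMap Λ k)) ⊔ IsLocalRing.maximalIdeal B ^ 2
  have hΛm : ∀ X : Art Λ k, Ideal.map (algebraMap Λ X) (RingHom.ker (algebraMap Λ k)) ≤ IsLocalRing.maximalIdeal X :=
    fun X => Ideal.map_le_iff_le_comap.mpr fun r hr =>
      (Art.mem_maximalIdeal_iff X _).mpr ((X.res.commutes r).trans hr)
  have hKA : KA ≤ IsLocalRing.maximalIdeal A := sup_le (hΛm A) (Ideal.pow_le_self two_ne_zero)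
  have hKB : KB ≤ IsLocalRing.maximalIdeal B := sup_le (hΛm B) (Ideal.pow_le_self two_ne_zero)
  let qA := quotMk A KA hKA
  let qB := quotMk B KB hKB
  have hqA : Function.Surjective qA := quotMk_surjective A KA hKA
  have hqB : Function.Surjective qB := quotMk_surjective B KB hKB
  have hk : RingHom.ker qB.toAlgHom ≤ RingHom.ker (f ≫ qA).toAlgHom := fun b hb => by
    rw [ker_quotMk] at hb
    refine Ideal.Quotient.eq_zero_iff_mem.mpr (show f b ∈ KA from ?_)
    refine Ideal.mem_comap.mp ((sup_le ?_ ?_ : KB ≤ Ideal.comap f.toAlgHom KA) hb)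
    · refine Ideal.map_le_iff_le_comap.mpr fun r hr => ?_
      simp only [Ideal.mem_comap]
      rw [f.toAlgHom.commutes]
      exact Ideal.mem_sup_left (Ideal.mem_map_of_mem _ hr)
    · rw [← Ideal.map_le_iff_le_comap, Ideal.map_pow]
      exact le_sup_of_le_right (Ideal.pow_right_mono
        (Ideal.map_le_iff_le_comap.mpr fun x hx => Ideal.mem_comap.mpr (map_mem_maximalIdeal f hx)) 2)
  let f' := factor qB hqB (f ≫ qA) hk
  have hf' : qB ≫ f' = f ≫ qA := comp_factor _ _ _ _
  have h50 := Groth.Agent.S12750.result f qB hqB (ker_quotMk B KB hKB) qA hqA (ker_quotMk A KA hKA) f' hf'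
  have hsurj := Groth.Agent.S12709.result f
  rw [h50]
  constructor
  · rintro ⟨hs, hess⟩
    have hfs : Function.Surjective f := (h50.mpr ⟨hs, hess⟩).1
    refine ⟨(hsurj.out 0 2).mp hfs, fun b hb hfb => ?_⟩
    have hinj : RingHom.ker f'.toAlgHom = ⊥ := by
      by_contra hne
      obtain ⟨E, q, s, hqs, hq, hsmall, -⟩ := exists_factor f' hs hne
      have hKE : ∀ x ∈ KB, q (qB x) = 0 := fun x hx => by
        rw [show qB x = 0 from Ideal.Quotient.eq_zero_iff_mem.mpr hx, map_zero]
      have hE : Ideal.map (algebraMap Λ E) (RingHom.ker (algebraMap Λ k)) = ⊥ := by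
        rw [eq_bot_iff, Ideal.map_le_iff_le_comap]
        intro r hr
        rw [Ideal.mem_comap, Ideal.mem_bot, ← (qB ≫ q).toAlgHom.commutes r]
        exact hKE _ (Submodule.mem_sup_left (Ideal.mem_map_of_mem _ hr))
      obtain ⟨σ⟩ := exists_section E hE
      have hE2 : IsLocalRing.maximalIdeal E ^ 2 = ⊥ := by
        rw [sq]
        refine le_bot_iff.mp (Ideal.mul_le.mpr fun x hx y hy => ?_)
        obtain ⟨x, rfl⟩ := hq.comp hqB x
        obtain ⟨y, rfl⟩ := hq.comp hqB y
        simp only [Function.comp_apply, Art.mem_maximalIdeal_iff, res_app] at hx hy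
        rw [Function.comp_apply, Function.comp_apply, Ideal.mem_bot, ← map_mul, ← map_mul]
        refine hKE _ (Submodule.mem_sup_right ?_)
        rw [sq]
        exact Ideal.mul_mem_mul ((Art.mem_maximalIdeal_iff B x).mpr hx) ((Art.mem_maximalIdeal_iff B y).mpr hy)
      obtain ⟨g, hg⟩ := exists_split_small hsmall σ hE2
      obtain ⟨sec, hsec, -⟩ := exists_lift hg (g₁ := 𝟙 _) (g₂ := toBase _ ≫ baseToDual)
        ((eq_toBase _).trans (eq_toBase _).symm)
      obtain ⟨P, p₁, p₂, hP⟩ := exists_fibreProd sec q hq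
      have hp₁ : Function.Surjective p₁ := fibreProd_surjective_fst hP hq
      have hp₂ : Function.Surjective p₂ := hess P p₂ fun a => by
        obtain ⟨z, rfl⟩ := hp₁ a
        exact ⟨z, ((congr_hom hqs (p₂ z)).symm.trans (congrArg s (hP.w_apply z).symm)).trans
          (congr_hom hsec (p₁ z))⟩
      obtain ⟨t, ht⟩ := exists_gen hsmall
      apply hsmall.2.1
      rw [← injective_iff_ker]
      intro x y hxy
      obtain ⟨u, rfl⟩ := hq.comp hp₂ x
      obtain ⟨v, rfl⟩ := hq.comp hp₂ y
      simp only [Function.comp_apply, ← hP.w_apply] at hxy ⊢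
      rw [show p₁ u = p₁ v from (congr_hom hsec _).symm.trans (hxy.trans (congr_hom hsec _))]
    have h0 : qB b ∈ RingHom.ker f'.toAlgHom := by
      rw [RingHom.mem_ker]
      exact (congr_hom hf' b).trans (Ideal.Quotient.eq_zero_iff_mem.mpr hfb)
    rw [hinj, Ideal.mem_bot] at h0
    exact Ideal.Quotient.eq_zero_iff_mem.mp h0
  · rintro ⟨h1, h2⟩
    have hfs : Function.Surjective f := (hsurj.out 0 2).mpr h1
    have hbij : Function.Bijective f' := by
      refine ⟨(injective_iff_ker f').mpr (le_bot_iff.mp fun z hz => ?_), fun a => ?_⟩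
      · obtain ⟨b, rfl⟩ := hqB z
        have hfb : f b ∈ KA := Ideal.Quotient.eq_zero_iff_mem.mp ((congr_hom hf' b).symm.trans hz)
        refine Ideal.Quotient.eq_zero_iff_mem.mpr (h2 b ?_ hfb)
        have := hKA hfb
        rw [Art.mem_maximalIdeal_iff, res_app] at this
        exact (Art.mem_maximalIdeal_iff B b).mpr this
      · obtain ⟨a, rfl⟩ := hqA a
        obtain ⟨b, rfl⟩ := hfs a
        exact ⟨qB b, congr_hom hf' b⟩
    exact ⟨hbij.2, fun C g hg b' => (hg (f' b')).imp fun c hc => hbij.1 hc⟩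

end Groth.Agent.S12753
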