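import Groth.Statements.S12754
import Mathlib
-- import your own Groth.Agent.* helpers here

set_option autoImplicit false
universe u
open CategoryTheory
open ArtFun

namespace Groth.Agent.S12754

section Aux
open scoped TensorProduct

end Aux

/-- A K-linear functor L from finite-dimensional K-vector spaces to K-vector spaces (K a field) is
isomorphic to the functor V ↦ L(K) ⊗_K V. (Existence of an isomorphism of functors, which is how the
published statement reads; the natural choice sends x ⊗ v to L(f_v)(x) with f_v : K → V, 1 ↦ v.) -/
theorem result (K : Type u) [Field K]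
    (L : FGModuleCat.{u} K ⥤ ModuleCat.{u} K) [L.Additive] [Functor.Linear K L] :
    Nonempty (L ≅ (ModuleCat.isFG.{u} K).ι ⋙ MonoidalCategory.tensorLeft (L.obj (FGModuleCat.of K K))) := by
  let X := L.obj (FGModuleCat.of K K)
  let f : ∀ (V : FGModuleCat.{u} K), V → (FGModuleCat.of K K ⟶ V) := fun V v =>
    ObjectProperty.homMk (ModuleCat.ofHom (LinearMap.toSpanSingleton K V v))
  have f_add : ∀ V v w, f V (v + w) = f V v + f V w := fun V v w => by
    apply FGModuleCat.hom_ext
    refine LinearMap.ext fun c => ?_
    exact smul_add c v w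
  have f_smul : ∀ V (c : K) v, f V (c • v) = c • f V v := fun V c v => by
    apply FGModuleCat.hom_ext
    refine LinearMap.ext fun d => ?_
    simp [f]
    exact smul_comm d c v
  have f_comp : ∀ {V W : FGModuleCat.{u} K} (g : V ⟶ W) (v : V), f V v ≫ g = f W (g.hom.hom v) :=
    fun g v => by
    apply FGModuleCat.hom_ext
    refine LinearMap.ext fun d => ?_
    simp [f]
  let θ : ∀ V : FGModuleCat.{u} K, TensorProduct K X V →ₗ[K] L.obj V := fun V =>
    TensorProduct.lift (LinearMap.mk₂ K (fun x v => (L.map (f V v)).hom x)
      (fun x y v => map_add _ x y) (fun c x v => map_smul _ c x)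
      (fun x v w => by rw [f_add, L.map_add]; rfl)
      (fun c x v => by rw [f_smul, L.map_smul]; rfl))
  have hbij : ∀ V, Function.Bijective (θ V) := by
    intro V
    let b := Module.finBasis K V
    let p : ∀ i : Fin (Module.finrank K V), V ⟶ FGModuleCat.of K K := fun i =>
      ObjectProperty.homMk (ModuleCat.ofHom (b.coord i))
    have hid : 𝟙 V = ∑ i, p i ≫ f V (b i) := by
      apply FGModuleCat.hom_ext
      refine LinearMap.ext fun v => ?_
      have h1 : (∑ i, p i ≫ f V (b i)).hom.hom = ∑ i, (f V (b i)).hom.hom ∘ₗ (p i).hom.hom := by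
        show ((ModuleCat.isFG K).ι.map (∑ i, p i ≫ f V (b i))).hom = _
        rw [Functor.map_sum, ModuleCat.hom_sum]
        rfl
      rw [h1, LinearMap.sum_apply]
      simp only [p, f]
      exact (b.sum_repr v).symm
    let ψ : L.obj V →ₗ[K] TensorProduct K X V :=
      ∑ i, ((TensorProduct.mk K X V).flip (b i)) ∘ₗ (L.map (p i)).hom
    have h1 : ∀ y, θ V (ψ y) = y := by
      intro y
      have := congr_arg (fun g : V ⟶ V => (L.map g).hom y) hid
      simp only [L.map_id, L.map_sum, L.map_comp, ModuleCat.hom_id, LinearMap.id_apply,
        ModuleCat.hom_sum, LinearMap.sum_apply, ModuleCat.hom_comp, LinearMap.comp_apply] at this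
      conv_rhs => rw [this]
      simp [ψ, θ]
    have h2 : ∀ z, ψ (θ V z) = z := by
      intro z
      induction z using TensorProduct.induction_on with
      | zero => simp
      | add a c ha hc => rw [map_add, map_add, ha, hc]
      | tmul x v =>
        have hp : ∀ i, f V v ≫ p i = b.repr v i • 𝟙 (FGModuleCat.of K K) := by
          intro i
          apply FGModuleCat.hom_ext
          refine LinearMap.ext fun d => ?_
          show b.repr (d • v) i = b.repr v i • d
          rw [map_smul]
          exact mul_comm _ _
        simp only [ψ, LinearMap.sum_apply, LinearMap.comp_apply, θ, TensorProduct.lift.tmul,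
          LinearMap.mk₂_apply, LinearMap.flip_apply, TensorProduct.mk_apply]
        have : ∀ i, (L.map (p i)).hom ((L.map (f V v)).hom x) = b.repr v i • x := by
          intro i
          rw [← LinearMap.comp_apply, ← ModuleCat.hom_comp, ← L.map_comp, hp, L.map_smul, L.map_id]
          rfl
        simp only [this, TensorProduct.smul_tmul, ← TensorProduct.tmul_sum]
        exact congr_arg _ (b.sum_repr v)
    exact ⟨(Function.LeftInverse.injective h2), Function.RightInverse.surjective h1⟩
  refine ⟨(NatIso.ofComponents (fun V => (LinearEquiv.ofBijective (θ V) (hbij V)).toModuleIso) ?_).symm⟩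
  intro V W g
  apply ModuleCat.hom_ext
  refine TensorProduct.ext' fun x v => ?_
  show θ W (x ⊗ₜ g.hom.hom v) = (L.map g).hom (θ V (x ⊗ₜ v))
  simp only [θ, TensorProduct.lift.tmul, LinearMap.mk₂_apply]
  rw [← f_comp g v, L.map_comp]
  rfl

end Groth.Agent.S12754
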