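import Groth.Statements.S12757
import Groth.Agent.ArtFunLib.Criteria
import Groth.Agent.ArtFunLib.Trunc
import Mathlib

set_option autoImplicit false
universe u v
open CategoryTheory
open ArtFun

namespace Groth.Agent.S12757

/-- For functors, let F be a functor on Artinian local Λ-algebras with residue field k with F(k) a
point. A versal family of F over a complete local Noetherian R with residue field k which is
bijective on tangent spaces (a hull; bijectivity implies bijectivity on orbits of the derivations of
k) is minimal: every morphism of coefficient rings R' → R along which some formal element over R'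
pushes forward to the formal element of the family is surjective. -/
theorem result {Λ : Type u} {k : Type u} [CommRing Λ] [Field k] [Algebra Λ k]
    [IsNoetherianRing Λ] [Module.Finite Λ k]
    {F : ArtFun.Art Λ k ⥤ Type v} (h0 : ArtFun.H0 F) (P : ArtFun.Hull F) :
    P.family.IsMinimalVersal := by
  open Groth.Agent.ArtFunLib ArtFun ArtFun.Art ArtFun.CRing in
  refine ⟨P.miniversal.1, fun R' u f hf hu => surjective_of_trunc f hf ?_⟩
  refine surjective_of_dual_separating _ ?_ fun d d' hdd => ?_
  · refine le_bot_iff.mp ?_
    calc IsLocalRing.maximalIdeal (P.ring.trunc 1) ^ 2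
        ≤ ((IsLocalRing.maximalIdeal P.ring.carrier).map (Ideal.Quotient.mk (mpow P.ring 1))) ^ 2 :=
          Ideal.pow_right_mono (maximalIdeal_quot_le P.ring 1) 2
      _ = (mpow P.ring 1).map (Ideal.Quotient.mk (mpow P.ring 1)) := by rw [← Ideal.map_pow]
      _ ≤ ⊥ := (Ideal.map_quotient_self _).le
  obtain ⟨χ, hχ⟩ := IsVersal.app_surjective P.miniversal.1 h0 _ (u.elt 1)
  have hu1 : F.map (truncMapOfHom f hf 1) (u.elt 1) = P.family.app _ (P.ring.truncHom 1) :=
    congrArg (fun w : FormalElt F P.ring => w.elt 1) hu
  have key : ∀ dd : P.ring.trunc 1 ⟶ dual Λ k,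
      HomSet.map dd (P.ring.truncHom 1) = HomSet.map (truncMapOfHom f hf 1 ≫ dd) χ := fun dd => by
    refine P.miniversal.2.1 ?_
    rw [P.family.natural, P.family.natural, hχ, map_comp', hu1]
  exact trunc_hom_ext (by rw [key, key, hdd])

end Groth.Agent.S12757
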