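import Groth.Statements.S12759
import Groth.Agent.ArtFunLib.Criteria
import Groth.Agent.ArtFunLib.Trunc
import Groth.Agent.ArtFunLib.Separable
import Groth.Agent.ArtFunLib.Minimal
import Mathlib

set_option autoImplicit false
universe u v
open CategoryTheory
open ArtFun

namespace Groth.Agent.S12759

/-- For functors, any versal family (R, ξ) of a functor F on Artinian local Λ-algebras with residue
field k with F(k) a point is the pushforward of a minimal versal family (R', ξ') along a power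
series extension: there are g : R' → R compatible with the augmentations and an isomorphism R ≅
R'[[X₁, …, Xₙ]] over Λ carrying g to the constants, and the formal element of ξ is that of ξ' pushed
forward along g. -/
theorem result {Λ : Type u} {k : Type u} [CommRing Λ] [Field k] [Algebra Λ k]
    [IsNoetherianRing Λ] [Module.Finite Λ k]
    {F : ArtFun.Art Λ k ⥤ Type v} (h0 : ArtFun.H0 F) (V : ArtFun.VersalPair F) :
    ∃ (R' : ArtFun.CRing Λ k) (ξ' : ArtFun.Family R'.carrier R'.res F), ξ'.IsMinimalVersal ∧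
      ∃ (g : R'.carrier →ₐ[Λ] V.ring.carrier) (hg : V.ring.res.comp g = R'.res)
        (n : ℕ) (e : V.ring.carrier ≃ₐ[Λ] MvPowerSeries (Fin n) R'.carrier),
        (∀ a : R'.carrier, e (g a) = algebraMap R'.carrier (MvPowerSeries (Fin n) R'.carrier) a) ∧
        (ξ'.along g hg).toFormalElt = V.family.toFormalElt := by
  open Groth.Agent.ArtFunLib ArtFun ArtFun.Art ArtFun.CRing in
  obtain ⟨R, ξ, hξ⟩ := V
  obtain ⟨R', j, hj, q, hq, ξ', hqj, hξ'j, hmin⟩ := exists_minimal_retract h0 ξ hξ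
  have hK : IsLocalRing.maximalIdeal R.carrier * RingHom.ker q ≤ RingHom.ker q := Ideal.mul_le_right
  obtain ⟨n, x, hx, hind⟩ := exists_minimal_gens hK
  obtain ⟨Q⟩ := exists_psRing R' n
  have hxI : ∀ l, q (x l) = 0 := fun l => hx.le (Ideal.mem_sup_left (Ideal.subset_span ⟨l, rfl⟩))
  have hxm : ∀ l, R.res (x l) = 0 := fun l => by rw [← res_comp_apply q hq, hxI l, map_zero]
  obtain ⟨Φ, ⟨hΦ, hΦC, hΦX⟩, -⟩ := Q.univC R j hj x hxm
  obtain ⟨hΦs, hb⟩ := ps_to_retract j hj q hq hqj Q x hxI hx Φ hΦ hΦC hΦX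
  have hb := hb hind
  have hQC : Q.ring.res.comp Q.C = R'.res := AlgHom.ext fun r => by
    rw [AlgHom.comp_apply, Q.res_e, Q.e_C, MvPowerSeries.constantCoeff_C]
  let η := ξ'.along Q.C hQC
  have hηΦ : η.along Φ hΦ = ξ := (along_congr ξ' hΦC (by rw [hΦC]; exact hj) hj).trans hξ'j
  -- a splitting to first order, lifted to all orders
  let g₁ : HomSet R.carrier R.res (Q.ring.trunc 1) := HomSet.map (homInv _ hb) (R.truncHom 1)
  have hg₁ : ξ.app _ g₁ = η.app _ (Q.ring.truncHom 1) := by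
    have h1 : ξ.app _ (R.truncHom 1) = F.map (truncMapOfHom Φ hΦ 1) (η.app _ (Q.ring.truncHom 1)) := by
      rw [← η.natural]
      conv_lhs => rw [← hηΦ]
      exact congrArg (η.app _) (Subtype.ext (truncMapOfHom_truncHom Φ hΦ 1).symm)
    rw [ξ.natural, h1, ← map_comp', comp_homInv, map_id']
  have step : ∀ m (φ : HomSet R.carrier R.res (Q.ring.trunc (m + 1))),
      ξ.app _ φ = η.app _ (Q.ring.truncHom (m + 1)) → ∃ ψ, HomSet.map (Q.ring.truncMap (m + 1)) ψ = φ ∧
        ξ.app _ ψ = η.app _ (Q.ring.truncHom (m + 1 + 1)) := fun m φ hφ =>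
    hξ (Q.ring.truncMap (m + 1)) (truncMap_surjective _) φ _ (by rw [hφ, ← η.natural, truncMap_truncHom])
  choose next hn₁ hn₂ using step
  let seq : ∀ m, {φ : HomSet R.carrier R.res (Q.ring.trunc (m + 1)) //
      ξ.app _ φ = η.app _ (Q.ring.truncHom (m + 1))} := fun m =>
    Nat.rec ⟨g₁, hg₁⟩ (fun i p => ⟨next i p.1 p.2, hn₂ i p.1 p.2⟩) m
  obtain ⟨g, hg, hmk⟩ := exists_algHom_of_trunc (R := Q.ring)
    (fun m => HomSet.map (Q.ring.truncMap m) (seq m).1) (fun m => congrArg _ (hn₁ m _ (seq m).2))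
  have hh : Q.ring.res.comp (g.comp Φ) = Q.ring.res := by rw [← AlgHom.comp_assoc, hg, hΦ]
  have h1 : ∀ s, truncMapOfHom (g.comp Φ) hh 1 (Ideal.Quotient.mk _ s) = Ideal.Quotient.mk _ s := fun s => by
    have e1 : Ideal.Quotient.mk (mpow Q.ring 1) (g (Φ s)) = (seq 0).1.1 (Φ s) :=
      (hmk 1 (Φ s)).trans (DFunLike.congr_fun (congrArg Subtype.val (hn₁ 0 g₁ hg₁)) (Φ s))
    exact e1.trans (homInv_apply _ hb (Ideal.Quotient.mk _ s))
  have hhs : Function.Surjective (g.comp Φ) := surjective_of_trunc _ hh fun t => by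
    obtain ⟨s, rfl⟩ := Ideal.Quotient.mk_surjective t
    exact ⟨Ideal.Quotient.mk _ s, h1 s⟩
  have hinj := injective_of_surjective_endo (g.comp Φ).toRingHom hhs
  let E : Q.ring.carrier ≃ₐ[Λ] R.carrier :=
    AlgEquiv.ofBijective Φ ⟨fun a b hab => hinj (congrArg g hab), hΦs⟩
  refine ⟨R', ξ', hmin, j, hj, n, E.symm.trans Q.e, fun a => ?_, congrArg Family.toFormalElt hξ'j⟩
  change Q.e (E.symm (j a)) = _
  rw [show j a = E (Q.C a) from (DFunLike.congr_fun hΦC a).symm, AlgEquiv.symm_apply_apply, Q.e_C]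
  rfl

end Groth.Agent.S12759
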