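import Groth.Statements.S1276
import Groth.Agent.S6284
import Mathlib.RingTheory.FiniteType
import Mathlib.RingTheory.Support

set_option autoImplicit false
universe u
open FlatMor

namespace Groth.Agent.S1276

/-- Let B be a finite type A-algebra, N a finite B-module and p a prime of A. Then there is a finitely
generated ideal J of B annihilating N (so N is a module on the finitely presented closed subscheme
V(J) of Spec B) such that a point of the fibre Spec(κ(p) ⊗ B) lies in V(J) if and only if it lies in
the support of the fibre module of N. -/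
theorem result {A B : Type u} [CommRing A] [CommRing B] [Algebra A B] [Algebra.FiniteType A B]
    (N : Type u) [AddCommGroup N] [Module B N] [Module A N] [IsScalarTower A B N] [Module.Finite B N] (p : Ideal A) [p.IsPrime] :
    ∃ J : Ideal B, J.FG ∧ J ≤ Module.annihilator B N ∧
      ∀ x : PrimeSpectrum (p.Fiber B), FlatCA.fiberIdeal p J ≤ x.asIdeal ↔ x ∈ Module.support (p.Fiber B) (FlatCA.fiberMod p B N) := by
  classical
  let _ : Algebra B (p.Fiber B) := Algebra.TensorProduct.rightAlgebra
  have : Algebra.FiniteType p.ResidueField (p.Fiber B) := inferInstance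
  have hN : IsNoetherianRing (p.Fiber B) := Algebra.FiniteType.isNoetherianRing p.ResidueField _
  let a : Ideal B := Module.annihilator B N
  let ι : B →+* p.Fiber B := (Algebra.TensorProduct.includeRight (R := A) (A := p.ResidueField) (B := B)).toRingHom
  obtain ⟨s, hs, hspan⟩ := Submodule.fg_span_iff_fg_span_finset_subset (ι '' (a : Set B)) |>.mp
    (IsNoetherian.noetherian (Ideal.span (ι '' (a : Set B))))
  choose g hg hgs using fun x : s => hs x.2
  refine ⟨Ideal.span (Set.range g), Submodule.fg_span (Set.finite_range g), Ideal.span_le.mpr ?_, fun x => ?_⟩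
  · rintro _ ⟨i, rfl⟩; exact hg i
  have hmap : FlatCA.fiberIdeal p (Ideal.span (Set.range g)) = a.map ι := by
    show (Ideal.span (Set.range g)).map ι = a.map ι
    rw [Ideal.map_span, Ideal.map, ← Set.range_comp]
    refine Eq.trans (congrArg Ideal.span ?_) hspan.symm
    ext y
    constructor
    · rintro ⟨i, rfl⟩; show ι (g i) ∈ (s : Set _); rw [hgs i]; exact i.2
    · intro hy; exact ⟨⟨y, hy⟩, hgs ⟨y, hy⟩⟩
  have hsupp := S6284.result (R := B) (R' := p.Fiber B) N
  rw [Set.ext_iff] at hsupp
  refine Iff.trans ?_ (hsupp x).symm
  rw [Set.mem_preimage, Module.support_eq_zeroLocus, PrimeSpectrum.mem_zeroLocus, SetLike.coe_subset_coe,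
    hmap, Ideal.map_le_iff_le_comap]
  exact Iff.rfl

end Groth.Agent.S1276
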