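import Groth.Statements.S12773
import Groth.Agent.AlgStLib.LocQStmts
import Groth.Agent.AlgStLib.QcRules
import Groth.Agent.AlgStLib.StkOps
-- import your own Groth.Agent.* helpers here

set_option autoImplicit false
open CategoryTheory AlgebraicGeometry
universe u
open AlgSt

namespace Groth.Agent.S12773

/-- Let `f : 𝒳 ⟶ 𝒴` be a 1-morphism of algebraic stacks over `S`, `V` a scheme over `S` and `y : (Sch/V)
⟶ 𝒴` surjective and smooth. Then there are a scheme `U` over `S`, a morphism `a : U ⟶ V` and a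
surjective smooth `x : (Sch/U) ⟶ 𝒳` such that the square 2-commutes: `f ∘ x ≅ y ∘ a`. -/
theorem result {S : Scheme.{u}} {𝒳 𝒴 : AlgSt.Cat S}
    (h𝒳 : AlgSt.IsAlgStack Scheme.fppfPrecoverage 𝒳) (h𝒴 : AlgSt.IsAlgStack Scheme.fppfPrecoverage 𝒴)
    (f : 𝒳 ⥤ᵇ 𝒴) (V : Over S) (y : FibCat.overCat V ⥤ᵇ 𝒴)
    (hy : AlgSt.RepByAlgSpWith (AlgSp.LocP @Smooth) y) (hy' : AlgSt.RepByAlgSpWith AlgSp.IsSurjectiveMor y) :
    ∃ (U : Over S) (a : U ⟶ V) (x : FibCat.overCat U ⥤ᵇ 𝒳),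
      AlgSt.RepByAlgSpWith (AlgSp.LocP @Smooth) x ∧ AlgSt.RepByAlgSpWith AlgSp.IsSurjectiveMor x ∧
        Nonempty (BasedFunctor.comp x f ≅ BasedFunctor.comp (AlgSt.overMap a) y) := by
  have hV : AlgSt.IsAlgStack Scheme.fppfPrecoverage (FibCat.overCat V) :=
    Groth.Agent.AlgStLib.isAlgStack_of_equiv (Groth.Agent.AlgStLib.toOverCat_isEquivOver V)
      (Groth.Agent.AlgStLib.isAlgStack_ofSch ⟨_, AlgSp.IsAlgSpace.yon_obj V⟩)
  have hF := Groth.Agent.AlgStLib.isAlgStack_fp h𝒴.isStack.1 h𝒴.diag hV h𝒳 y f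
  obtain ⟨U, u, hu, hus⟩ := hF.atlas
  obtain ⟨a, ⟨α⟩⟩ := Groth.Agent.AlgStLib.exists_iso_overMap (BasedFunctor.comp u (FibCat.fpFst y f))
  have hU := Groth.Agent.FibBasics.isFibGrpd_overForget U
  refine ⟨U, a, BasedFunctor.comp u (FibCat.fpSnd y f),
    Groth.Agent.AlgStLib.repWith_smooth_comp hU hF.isStack.1 hu (Groth.Agent.AlgStLib.repWith_fpSnd _ hy),
    Groth.Agent.AlgStLib.repWith_surjective_comp hU hF.isStack.1 hus (Groth.Agent.AlgStLib.repWith_fpSnd _ hy'),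
    ⟨Groth.Agent.FibBasics.bWhiskerL u (FibCat.fpIso y f).symm ≪≫ Groth.Agent.FibBasics.bWhiskerR α y⟩⟩

end Groth.Agent.S12773
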