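import Groth.Statements.S12774
import Groth.Agent.FibBasics.Yoneda
-- import your own Groth.Agent.* helpers here

set_option autoImplicit false
open CategoryTheory AlgebraicGeometry
universe u
open AlgSt

namespace Groth.Agent.S12774

theorem aux {C : Type*} [Category C] {A B U V W : C} (p : A = U) (q : B = V) (h : U ⟶ V) (v : V ⟶ W) :
    (eqToHom p ≫ h ≫ eqToHom q.symm) ≫ (eqToHom q ≫ v) = eqToHom p ≫ (h ≫ v) := by
  subst p; subst q; simp

theorem aux2 {C : Type*} [Category C] {A B M D W : C} (p : A = B) (q : B = M) (r : M = D) (t : A = D)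
    (v : D ⟶ W) : eqToHom p ≫ (eqToHom q ≫ 𝟙 M ≫ eqToHom r) ≫ v = eqToHom t ≫ v := by
  subst p; subst q; subst r; simp

open CategoryTheory.Limits Opposite Groth.Agent.FibBasics in
theorem key {S : Scheme.{u}} {𝒳 𝒴 : AlgSt.Cat S}
    (h𝒴 : FibCat.IsFibGrpd 𝒴.p) (j : 𝒳 ⥤ᵇ 𝒴) (hj : AlgSt.IsMono j) {x x' : 𝒳.obj}
    (g : j.obj x ⟶ j.obj x') : ∃! θ : x ⟶ x', j.map θ = g := by
  haveI := h𝒴
  haveI := isFibered_of_isFibGrpd 𝒴.p h𝒴
  let U := 𝒳.p.obj x
  let U' := 𝒳.p.obj x'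
  let h : U ⟶ U' := eqToHom (j.w_obj x).symm ≫ 𝒴.p.map g ≫ eqToHom (j.w_obj x')
  have hg : 𝒴.p.IsHomLift h g := IsHomLift.of_fac 𝒴.p h g (j.w_obj x) (j.w_obj x') rfl
  obtain ⟨y, -, ⟨c⟩⟩ := exists_evalAtId_iso (𝒳 := 𝒴) (U := U') ⟨j.obj x', j.w_obj x'⟩
  let c' : y.obj (one U') ≅ j.obj x' :=
    ⟨c.hom.1, c.inv.1, congrArg Subtype.val c.hom_inv_id, congrArg Subtype.val c.inv_hom_id⟩
  have hc : 𝒴.p.IsHomLift (𝟙 U') c'.hom := c.hom.2
  let gh : (FibCat.overCat U').obj := (Over.mk h : Over U')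
  have h1 : 𝒴.p.IsHomLift h (y.map (toOne gh)) := based_lift_one y gh
  let m := y.map (toOne gh) ≫ c'.hom
  have hm : 𝒴.p.IsHomLift h m := by
    have : 𝒴.p.IsHomLift (h ≫ 𝟙 U') m := inferInstance
    simpa using this
  haveI := stronglyCartesian_of_isFibGrpd 𝒴.p h𝒴 h m
  let ψ : j.obj x ⟶ y.obj gh :=
    Functor.IsStronglyCartesian.map 𝒴.p h m (g := 𝟙 U) (f' := h) (Category.id_comp h).symm g
  have hψm : ψ ≫ m = g := Functor.IsStronglyCartesian.fac _ _ _ _ _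
  have hψl : 𝒴.p.IsHomLift (𝟙 U) ψ := inferInstance
  haveI := stronglyCartesian_of_isFibGrpd 𝒴.p h𝒴 (𝟙 U) ψ
  haveI : IsIso ψ := Functor.IsStronglyCartesian.isIso_of_base_isIso 𝒴.p (𝟙 U) ψ
  let a : (FibCat.fp y j).obj := ⟨⟨gh, x, (asIso ψ).symm⟩, by
    change 𝒴.p.IsHomLift (𝟙 U) (asIso ψ).inv
    haveI : 𝒴.p.IsHomLift (𝟙 U) (asIso ψ).hom := hψl
    exact IsHomLift.lift_id_inv 𝒴.p U (asIso ψ)⟩
  let b : (FibCat.fp y j).obj := ⟨⟨one U', x', c'⟩, hc⟩
  obtain ⟨F, e, ⟨G, ⟨α⟩, ⟨β⟩⟩, hP⟩ := hj U' y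
  let Φ := BasedFunctor.comp e (FibCat.fpFst y j)
  haveI : Mono (AlgSt.spMapOfOver Φ) := hP
  have hinj : ∀ T, Function.Injective ((AlgSt.spMapOfOver Φ).hom.app T) := fun T => by
    haveI : Mono ((sheafToPresheaf _ _).map (AlgSt.spMapOfOver Φ)) := inferInstance
    exact (mono_iff_injective (((sheafToPresheaf _ _).map (AlgSt.spMapOfOver Φ)).app T)).1 inferInstance
  have comm : ∀ θ : x ⟶ x', j.map θ = g →
      y.map (toOne gh) ≫ c'.hom = (asIso ψ).symm.hom ≫ j.map θ := fun θ hθ => by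
    rw [hθ, Iso.symm_hom, asIso_inv, IsIso.eq_inv_comp]
    exact hψm
  let βn : BasedFunctor.comp G e ≅ BasedFunctor.id _ := β
  have hsec : ∀ z : (FibCat.fp y j).obj,
      AlgSt.secHom Φ (G.obj z) = eqToHom (G.w_obj z) ≫ z.obj.fst.hom := fun z => by
    let φ : e.obj (G.obj z) ⟶ z := βn.hom.toNatTrans.app z
    have hl : (FibCat.fp y j).p.IsHomLift (𝟙 ((FibCat.fp y j).p.obj z)) φ := βn.hom.isHomLift rfl
    have hl' := fp_lift_fst (𝟙 ((FibCat.fp y j).p.obj z)) φ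
    have hw : φ.hom.fst.left ≫ z.obj.fst.hom = (e.obj (G.obj z)).obj.fst.hom := Over.w φ.hom.fst
    have hf : φ.hom.fst.left = eqToHom _ ≫ 𝟙 _ ≫ eqToHom _ :=
      IsHomLift.fac' (FibCat.overCat U').p (𝟙 ((FibCat.fp y j).p.obj z)) φ.hom.fst
    rw [hf] at hw
    simp only [AlgSt.secHom]
    change eqToHom _ ≫ (e.obj (G.obj z)).obj.fst.hom = _
    rw [← hw]
    exact aux2 _ _ _ _ _
  have inj : ∀ {z z' : (FibCat.fp y j).obj} (φ φ' : z ⟶ z'),
      (FibCat.fp y j).p.map φ = (FibCat.fp y j).p.map φ' → φ = φ' := fun {z z'} φ φ' hh => by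
    have e2 : e.map (G.map φ) = e.map (G.map φ') := by
      refine congrArg e.map ?_
      apply Stk.EltObj.hom_ext
      have := Functor.congr_hom G.w φ
      have := Functor.congr_hom G.w φ'
      simp_all
    have n1 := βn.hom.toNatTrans.naturality φ
    have n2 := βn.hom.toNatTrans.naturality φ'
    haveI : IsIso (βn.hom.toNatTrans.app z) :=
      ⟨βn.inv.toNatTrans.app z, congrArg (fun t => t.toNatTrans.app z) βn.hom_inv_id,
        congrArg (fun t => t.toNatTrans.app z) βn.inv_hom_id⟩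
    refine (cancel_epi (βn.hom.toNatTrans.app z)).1 ?_
    exact n1.symm.trans ((congrArg (· ≫ βn.hom.toNatTrans.app z') e2).trans n2)
  have exi : ∃ φ : a ⟶ b, φ.hom.fst = toOne gh := by
    have hsa := hsec a
    have hsb := hsec b
    let sa := G.obj a
    let sb := G.obj b
    let k : sa.base ⟶ sb.base := eqToHom (G.w_obj a) ≫ h ≫ eqToHom (G.w_obj b).symm
    have hk : F.obj.obj.map k.op sb.sec = sa.sec := by
      apply hinj
      rw [NatTrans.naturality_apply]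
      rw [AlgSt.spMapOfOver_app, AlgSt.spMapOfOver_app]
      apply ULift.ext
      change k ≫ AlgSt.secHom Φ sb = AlgSt.secHom Φ sa
      rw [hsa, hsb]
      exact (aux _ _ h _).trans (congrArg (_ ≫ ·) (Category.comp_id h))
    let φ : a ⟶ b := βn.inv.toNatTrans.app a ≫ e.map (⟨k, hk⟩ : sa ⟶ sb) ≫ βn.hom.toNatTrans.app b
    exact ⟨φ, toOne_unique _⟩
  obtain ⟨φ, hφ⟩ := exi
  have hw := φ.hom.w
  rw [hφ] at hw
  have hθ : j.map φ.hom.snd = g := by
    rw [← hψm]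
    exact ((congrArg (fun t => ψ ≫ t) hw).trans
      ((Category.assoc _ _ _).symm.trans ((congrArg (· ≫ j.map φ.hom.snd) (asIso ψ).hom_inv_id).trans
        (Category.id_comp _)))).symm
  refine ⟨φ.hom.snd, hθ, fun θ' hθ' => ?_⟩
  have := inj (fpHom (toOne gh) θ' (comm θ' hθ') : a ⟶ b) φ (by
    change (FibCat.overCat U').p.map (toOne gh) = (FibCat.overCat U').p.map φ.hom.fst
    rw [hφ])
  exact congrArg (fun t => t.hom.snd) this


/-- Take categories `𝒳` and `𝒴` fibred in groupoids over `(Sch/S)` and a 1-morphism `j : 𝒳 ⟶ 𝒴` between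
them which is representable by algebraic spaces and a monomorphism. Then `j` is fully faithful on
fibre categories; for categories fibred in groupoids this is the same as `j` being full and
faithful, which is how it is stated here. -/
theorem result {S : Scheme.{u}} {𝒳 𝒴 : AlgSt.Cat S}
    (h𝒳 : FibCat.IsFibGrpd 𝒳.p) (h𝒴 : FibCat.IsFibGrpd 𝒴.p) (j : 𝒳 ⥤ᵇ 𝒴) (hj : AlgSt.IsMono j) :
    j.toFunctor.Full ∧ j.toFunctor.Faithful := by
  exact ⟨⟨fun g => ⟨(key h𝒴 j hj g).exists.choose, (key h𝒴 j hj g).exists.choose_spec⟩⟩,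
    ⟨fun {x x'} a b hab => (key h𝒴 j hj (j.map b)).unique hab rfl⟩⟩

end Groth.Agent.S12774
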