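import Groth.Agent.FibBasics.Yoneda
import Groth.Prelude.Def_W4stkcategoriessitesFib
import Groth.Statements.S12794
-- import your own Groth.Agent.* helpers here

set_option autoImplicit false
open CategoryTheory
universe w v u
open Stk

namespace Groth.Agent.S12794

open CategoryTheory.Functor Groth.Agent.FibBasics
set_option backward.isDefEq.respectTransparency false
set_option backward.isDefEq.respectTransparency.types false

/-- Let `𝒳`, `𝒴` be stacks in groupoids over `C` for the topology `J` and `F : 𝒳 ⟶ 𝒴` a functor over `C`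
whose underlying functor is fully faithful. Then `F` is an equivalence over `C` if and only if every
object `y` of `𝒴` is locally in the essential image: there is a covering sieve `R` of the object
under `y` such that for every arrow `f` of `R` some object `x` of `𝒳` has a morphism `F x ⟶ y` lying
over `f` (equivalently, the pullback of `y` along `f` is isomorphic in its fibre to an object in the
image of `F`). (The published statement is for stacks over the site, not necessarily in groupoids,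
and 1-morphisms of stacks; this row treats stacks in groupoids.) -/
theorem result {C : Type u} [Category.{v} C] (J : GrothendieckTopology C) {𝒳 𝒴 : BasedCategory.{v, max u v} C}
    (h𝒳 : Stk.IsStack J 𝒳) (h𝒴 : Stk.IsStack J 𝒴) (F : 𝒳 ⥤ᵇ 𝒴) [F.toFunctor.Full] [F.toFunctor.Faithful] :
    FibCat.IsEquivOver F ↔
      ∀ y : 𝒴.obj, ∃ R ∈ J (𝒴.p.obj y), ∀ ⦃V : C⦄ (f : V ⟶ 𝒴.p.obj y), R f →
        ∃ (x : 𝒳.obj) (φ : F.obj x ⟶ y), 𝒴.p.IsHomLift f φ := by
  constructor
  · intro h y
    obtain ⟨-, hes⟩ := (isEquivOver_iff F).1 h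
    refine ⟨⊤, J.top_mem _, fun V f _ => ?_⟩
    obtain ⟨y', φ, hφ⟩ := h𝒴.1.exists_lift f
    obtain ⟨x, e, he⟩ := hes y'
    have := hφ
    have hy : 𝒴.p.obj y' = V := IsHomLift.domain_eq 𝒴.p f φ
    rw [hy] at he
    have := he
    refine ⟨x, e.hom ≫ φ, ?_⟩
    have h' := (inferInstance : 𝒴.p.IsHomLift (𝟙 V ≫ f) (e.hom ≫ φ))
    simpa using h'
  · intro h
    refine isEquivOver_of_essSurjOver F fun y => ?_
    obtain ⟨R, hR, loc⟩ := h y
    have := isFibered_of_isFibGrpd _ h𝒴.1
    let U : C := 𝒴.p.obj y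
    obtain ⟨G, -, ⟨e0⟩⟩ := exists_evalAtId_iso (𝒳 := 𝒴) (U := U) (⟨y, rfl⟩ : 𝒴.p.Fiber U)
    let eh : G.obj (one U) ⟶ y := e0.hom.1
    let ei : y ⟶ G.obj (one U) := e0.inv.1
    have hei : ei ≫ eh = 𝟙 y := congrArg Subtype.val e0.inv_hom_id
    have hie : eh ≫ ei = 𝟙 _ := congrArg Subtype.val e0.hom_inv_id
    have heh : 𝒴.p.IsHomLift (𝟙 U) eh := e0.hom.2
    have hsel : ∀ g : (Stk.sieveCat R).obj, ∃ (x : 𝒳.obj) (ψ : F.obj x ≅ G.obj g.1),
        𝒴.p.IsHomLift (𝟙 ((FibCat.overCat U).p.obj g.1)) ψ.hom := by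
      intro g
      obtain ⟨x, φ, hφ⟩ := loc (hm g.1) g.2
      let ℓ : G.obj g.1 ⟶ y := G.map (toOne g.1) ≫ eh
      have hℓ : 𝒴.p.IsHomLift (hm g.1) ℓ := by
        have := based_lift_one G g.1
        have h' := (inferInstance : 𝒴.p.IsHomLift (hm g.1 ≫ 𝟙 U) ℓ)
        exact (Category.comp_id (hm g.1)) ▸ h'
      have := stronglyCartesian_of_isFibGrpd _ h𝒴.1 (hm g.1) ℓ
      have := hφ
      let ψ := IsStronglyCartesian.map 𝒴.p (hm g.1) ℓ (g := 𝟙 _) (Category.id_comp (hm g.1)).symm φ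
      have : IsIso ψ := isIso_of_isFibGrpd _ h𝒴.1 (𝟙 ((FibCat.overCat U).p.obj g.1)) ψ
      exact ⟨x, asIso ψ, (inferInstance : 𝒴.p.IsHomLift (𝟙 ((FibCat.overCat U).p.obj g.1)) ψ)⟩
    choose x ψ hψ using hsel
    let T : ∀ {g g' : (Stk.sieveCat R).obj} (k : g ⟶ g'), F.obj (x g) ⟶ F.obj (x g') :=
      fun {g g'} k => (ψ g).hom ≫ G.map k.hom ≫ (ψ g').inv
    have hT : ∀ {g g' : (Stk.sieveCat R).obj} (k : g ⟶ g'),
        𝒳.p.IsHomLift ((FibCat.overCat U).p.map k.hom) (F.toFunctor.preimage (T k)) := by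
      intro g g' k
      rw [← BasedFunctor.isHomLift_iff F, Functor.map_preimage]
      have := hψ g
      have := hψ g'
      have := based_lift G k.hom
      have := IsHomLift.lift_id_inv 𝒴.p ((FibCat.overCat U).p.obj g'.1) (ψ g')
      have h' := (inferInstance : 𝒴.p.IsHomLift
        (𝟙 _ ≫ (FibCat.overCat U).p.map k.hom ≫ 𝟙 _) ((ψ g).hom ≫ G.map k.hom ≫ (ψ g').inv))
      rw [Category.id_comp, Category.comp_id] at h'
      exact h'
    let s₀ : (Stk.sieveCat R).obj ⥤ 𝒳.obj :=
      { obj := x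
        map := fun k => F.toFunctor.preimage (T k)
        map_id := fun g => F.toFunctor.map_injective (by
          rw [Functor.map_preimage, F.toFunctor.map_id]
          show (ψ g).hom ≫ G.map (𝟙 g.1) ≫ (ψ g).inv = _
          rw [G.toFunctor.map_id, Category.id_comp, Iso.hom_inv_id])
        map_comp := fun {g g' g''} k k' => F.toFunctor.map_injective (by
          rw [Functor.map_preimage, F.toFunctor.map_comp, Functor.map_preimage, Functor.map_preimage]
          show (ψ g).hom ≫ G.map (k.hom ≫ k'.hom) ≫ (ψ g'').inv =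
            ((ψ g).hom ≫ G.map k.hom ≫ (ψ g').inv) ≫ (ψ g').hom ≫ G.map k'.hom ≫ (ψ g'').inv
          simp) }
    have hx : ∀ g, 𝒳.p.obj (x g) = (FibCat.overCat U).p.obj g.1 := fun g =>
      (F.w_obj (x g)).symm.trans
        (@IsHomLift.domain_eq _ _ _ _ 𝒴.p _ _ _ _ _ (ψ g).hom (hψ g))
    let s : Stk.sieveCat R ⥤ᵇ 𝒳 :=
      { toFunctor := s₀
        w := CategoryTheory.Functor.ext hx fun g g' k =>
          @IsHomLift.fac' _ _ _ _ 𝒳.p _ _ _ _ ((FibCat.overCat U).p.map k.hom) _ (hT k) }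
    have : (Stk.resSieve R 𝒳).IsEquivalence := h𝒳.2 R hR
    have : (Stk.resSieve R 𝒴).IsEquivalence := h𝒴.2 R hR
    let H := (Stk.resSieve R 𝒳).objPreimage s
    let η := (Stk.resSieve R 𝒳).objObjPreimageIso s
    let β : (Stk.resSieve R 𝒴).obj (BasedFunctor.comp H F) ⟶ (Stk.resSieve R 𝒴).obj G :=
      { toNatTrans :=
          { app := fun g => F.map (η.hom.toNatTrans.app g) ≫ (ψ g).hom
            naturality := fun g g' k => by
              show F.map (H.map k.hom) ≫ F.map (η.hom.toNatTrans.app g') ≫ (ψ g').hom =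
                (F.map (η.hom.toNatTrans.app g) ≫ (ψ g).hom) ≫ G.map k.hom
              have hn : H.map k.hom ≫ η.hom.toNatTrans.app g' =
                η.hom.toNatTrans.app g ≫ F.toFunctor.preimage (T k) := η.hom.toNatTrans.naturality k
              rw [← F.toFunctor.map_comp_assoc, hn, F.toFunctor.map_comp, Functor.map_preimage]
              simp [T] }
        isHomLift' := fun g => by
          have := η.hom.isHomLift' g
          have := hψ g
          have hF : 𝒴.p.IsHomLift (𝟙 ((FibCat.overCat U).p.obj g.1)) (F.map (η.hom.toNatTrans.app g)) :=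
            (BasedFunctor.isHomLift_iff F _ _).2 (η.hom.isHomLift' g)
          have h' := (inferInstance : 𝒴.p.IsHomLift
            (𝟙 ((FibCat.overCat U).p.obj g.1) ≫ 𝟙 _) (F.map (η.hom.toNatTrans.app g) ≫ (ψ g).hom))
          rw [Category.comp_id] at h'
          exact h' }
    let α := (Stk.resSieve R 𝒴).preimage β
    let a : F.obj (H.obj (one U)) ⟶ G.obj (one U) := α.toNatTrans.app (one U)
    have ha : 𝒴.p.IsHomLift (𝟙 U) a := α.isHomLift' (one U)
    have : IsIso a := isIso_of_isFibGrpd _ h𝒴.1 (𝟙 U) a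
    refine ⟨H.obj (one U), asIso a ≪≫ ⟨eh, ei, hie, hei⟩, ?_⟩
    have h' := (inferInstance : 𝒴.p.IsHomLift (𝟙 U ≫ 𝟙 U) (a ≫ eh))
    rw [Category.comp_id] at h'
    exact h'


end Groth.Agent.S12794
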