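import Groth.Agent.FibRepr2.Basic
import Groth.Statements.S12800
-- import your own Groth.Agent.* helpers here

set_option autoImplicit false
open CategoryTheory
universe v u
open FibCat

namespace Groth.Agent.S12800

/-- For categories `𝒮`, `𝒯` fibred in groupoids over `C`, a category `ℛ` fibred in setoids over `C`, a
functor `f : 𝒯 ⟶ 𝒮` over `C` with faithful underlying functor and a functor `g : ℛ ⟶ 𝒮` over `C`,
the 2-fibre product `𝒯 ×_𝒮 ℛ` over `C` is fibred in setoids. (The published statement takes stacks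
in groupoids over a site and concludes a stack in setoids; the stack property of the 2-fibre product
is the separate result on 2-fibre products of stacks in groupoids, and the setoid property stated
here needs no topology.) -/
theorem result {C : Type u} [Category.{v} C] {𝒮 𝒯 ℛ : BasedCategory.{v, max u v} C}
    (h𝒮 : FibCat.IsFibGrpd 𝒮.p) (h𝒯 : FibCat.IsFibGrpd 𝒯.p) (hℛ : FibCat.IsFibSetoid ℛ.p) (f : 𝒯 ⥤ᵇ 𝒮) [f.toFunctor.Faithful] (g : ℛ ⥤ᵇ 𝒮) :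
    FibCat.IsFibSetoid (FibCat.fp f g).p := by
  refine ⟨Groth.Agent.FibBasics.fp_isFibGrpd h𝒯 hℛ.1 h𝒮, fun Z a b => ⟨fun φ ψ => ?_⟩⟩
  obtain ⟨φ, hφ⟩ := φ
  obtain ⟨ψ, hψ⟩ := ψ
  apply Functor.Fiber.hom_ext
  change φ = ψ
  have hp : ∀ (χ : a.1 ⟶ b.1) [(FibCat.fp f g).p.IsHomLift (𝟙 Z) χ], ℛ.p.IsHomLift (𝟙 Z) χ.hom.snd :=
    fun χ _ => Groth.Agent.FibBasics.fp_lift_snd _ χ
  have ha : ℛ.p.obj a.1.obj.snd = Z := (Groth.Agent.FibBasics.fp_snd_proj a.1).trans a.2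
  have hb : ℛ.p.obj b.1.obj.snd = Z := (Groth.Agent.FibBasics.fp_snd_proj b.1).trans b.2
  have := hℛ.2 Z
  have := hp φ
  have := hp ψ
  let a' : ℛ.p.Fiber Z := ⟨a.1.obj.snd, ha⟩
  let b' : ℛ.p.Fiber Z := ⟨b.1.obj.snd, hb⟩
  have : Subsingleton (a' ⟶ b') := hℛ.2 Z a' b'
  let χ₁ : a' ⟶ b' := ⟨φ.hom.snd, hp φ⟩
  let χ₂ : a' ⟶ b' := ⟨ψ.hom.snd, hp ψ⟩
  have h2 : φ.hom.snd = ψ.hom.snd := congrArg Subtype.val (Subsingleton.elim χ₁ χ₂)
  refine Groth.Agent.FibBasics.fp_hom_ext ?_ h2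
  apply f.toFunctor.map_injective
  have w1 : f.map φ.hom.fst ≫ b.1.obj.iso.hom = a.1.obj.iso.hom ≫ g.map φ.hom.snd := φ.hom.w
  have w2 : f.map ψ.hom.fst ≫ b.1.obj.iso.hom = a.1.obj.iso.hom ≫ g.map ψ.hom.snd := ψ.hom.w
  apply (cancel_mono b.1.obj.iso.hom).1
  rw [w1, w2, h2]

end Groth.Agent.S12800
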