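import Mathlib
import Groth.Statements.S12801
-- import your own Groth.Agent.* helpers here

set_option autoImplicit false
open CategoryTheory
universe v₂ u₂ v u
open Stk

namespace Groth.Agent.S12801

/-- Let `p : 𝒳 ⥤ C` make `𝒳` fibred in groupoids over `C` and let `J` be a Grothendieck topology on `C`.
A sieve `S` on an object `x` of `𝒳` belongs to the topology on `𝒳` generated by the sieves whose
image under `p` generates a covering sieve if and only if the image of `S` under `p` generates a
covering sieve of `p x`: the sieves whose image covers already satisfy the axioms of a topology (the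
topology on `𝒳` inherited from `C`). (The published statement is for a fibred category, with
coverings the families of strongly cartesian morphisms `{x_i ⟶ x}` such that `{p x_i ⟶ p x}` is a
covering; this row is the case of a category fibred in groupoids, where every morphism is strongly
cartesian, in sieve form.) -/
theorem result {C : Type u} [Category.{v} C] {𝒳 : Type u₂} [Category.{v₂} 𝒳] (p : 𝒳 ⥤ C)
    (hp : FibCat.IsFibGrpd p) (J : GrothendieckTopology C) {x : 𝒳} (S : Sieve x) :
    S ∈ p.restrictedTopology J x ↔ S.functorPushforward p ∈ J (p.obj x) := by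
  refine ⟨fun hS => ?_, fun hS => Functor.mem_restrictedTopology_of_functorPushforward_mem hS⟩
  have hS' : Precoverage.Saturate (Precoverage.comap p J.toPrecoverage) x S := hS
  clear hS
  induction hS' with
  | of X T hT =>
    have : Sieve.generate (T.map p) ∈ J (p.obj X) := hT
    rwa [Sieve.generate_map_eq_functorPushforward] at this
  | top X => rw [Sieve.functorPushforward_top]; exact J.top_mem _
  | pullback X T _ Y φ ih =>
    refine J.superset_covering ?_ (J.pullback_stable (p.map φ) ih)
    rintro Z w ⟨z, s, k, hs, hk⟩
    obtain ⟨z', θ, hθ⟩ := hp.exists_lift k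
    haveI := hp.isStronglyCartesian φ
    haveI : p.IsHomLift k θ := hθ
    have hd : p.obj z' = Z := IsHomLift.domain_eq p k θ
    have hf' : p.map (θ ≫ s) = (eqToHom hd ≫ w) ≫ p.map φ := by
      rw [p.map_comp, IsHomLift.fac' p k θ, Category.assoc, Category.assoc, eqToHom_refl, Category.id_comp, ← hk]
      rw [Category.assoc]
    haveI : p.IsHomLift (p.map (θ ≫ s)) (θ ≫ s) := inferInstance
    obtain ⟨χ, ⟨hχ, hχφ⟩, -⟩ := Functor.IsStronglyCartesian.universal_property p (p.map φ) φ (eqToHom hd ≫ w) _ hf' (θ ≫ s)
    refine ⟨z', χ, eqToHom hd.symm, ?_, ?_⟩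
    · show T (χ ≫ φ)
      rw [hχφ]
      exact T.downward_closed hs θ
    · haveI := hχ
      rw [show p.map χ = eqToHom hd ≫ w by simpa using IsHomLift.fac' p (eqToHom hd ≫ w) χ]
      simp
  | transitive X T R _ _ ihT ihR =>
    refine J.transitive ihT _ ?_
    rintro Z w ⟨z, s, k, hs, rfl⟩
    rw [Sieve.pullback_comp]
    exact J.pullback_stable k (J.superset_covering (Sieve.functorPushforward_pullback_le p s R) (ihR hs))

end Groth.Agent.S12801
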