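import Groth.Statements.S12802
import Groth.Agent.S12801

set_option autoImplicit false
open CategoryTheory
universe v u
open Stk

namespace Groth.Agent.S12802

/-- Let `F : 𝒳 ⟶ 𝒴` be a functor over `C` between categories fibred in groupoids over `C` and endow `𝒳`
and `𝒴` with the topologies inherited from the topology `J` on `C` (generated by the sieves whose
image in `C` covers). Then `F` maps covering sieves to families generating covering sieves, lifts
coverings (it is cocontinuous), and precomposition with `F` sends sheaves of types on `𝒴` to sheaves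
on `𝒳` (it is continuous). (The published statement is for a 1-morphism of fibred categories with
the inherited topologies; this row is the case of categories fibred in groupoids, and the published
statement phrases continuity through the fibre products of covering families and deduces a morphism
of topoi whose inverse image is precomposition with `F`, which is not stated here.) -/
theorem result {C : Type u} [Category.{v} C] (J : GrothendieckTopology C) {𝒳 𝒴 : BasedCategory.{v, max u v} C}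
    (h𝒳 : FibCat.IsFibGrpd 𝒳.p) (h𝒴 : FibCat.IsFibGrpd 𝒴.p) (F : 𝒳 ⥤ᵇ 𝒴) :
    CoverPreserving (𝒳.p.restrictedTopology J) (𝒴.p.restrictedTopology J) F.toFunctor ∧
      F.toFunctor.IsCocontinuous (𝒳.p.restrictedTopology J) (𝒴.p.restrictedTopology J) ∧
      F.toFunctor.IsContinuous (𝒳.p.restrictedTopology J) (𝒴.p.restrictedTopology J) := by
  have hw : ∀ {a b : 𝒳.obj} (φ : a ⟶ b), 𝒳.p.map φ =
      eqToHom (F.w_obj a).symm ≫ 𝒴.p.map (F.map φ) ≫ eqToHom (F.w_obj b) :=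
    fun φ => Functor.congr_hom F.w.symm φ
  have huniq : ∀ {a b c : 𝒴.obj} (φ : b ⟶ c) (u v : a ⟶ b), 𝒴.p.map u = 𝒴.p.map v → u ≫ φ = v ≫ φ → u = v := by
    intro a b c φ u v h1 h2
    haveI := h𝒴.isStronglyCartesian φ
    haveI : 𝒴.p.IsHomLift (𝒴.p.map u) v := h1 ▸ inferInstance
    exact (Functor.IsStronglyCartesian.universal_property 𝒴.p (𝒴.p.map φ) φ (𝒴.p.map u) _
      (𝒴.p.map_comp u φ) (u ≫ φ)).unique ⟨inferInstance, rfl⟩ ⟨inferInstance, h2.symm⟩
  have hlift : ∀ {W : 𝒴.obj} {a : 𝒳.obj} (f : W ⟶ F.obj a), ∃ (z : 𝒳.obj) (θ : z ⟶ a) (hd : 𝒴.p.obj W = 𝒴.p.obj (F.obj z))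
      (σ : W ⟶ F.obj z), 𝒴.p.map σ = eqToHom hd ∧ σ ≫ F.map θ = f := by
    intro W a f
    obtain ⟨z, θ, hθ⟩ := h𝒳.exists_lift (x := a) (𝒴.p.map f ≫ eqToHom (F.w_obj a))
    haveI := hθ
    have hd : 𝒴.p.obj W = 𝒴.p.obj (F.obj z) :=
      (IsHomLift.domain_eq 𝒳.p (𝒴.p.map f ≫ eqToHom (F.w_obj a)) θ).symm.trans (F.w_obj z).symm
    haveI := h𝒴.isStronglyCartesian (F.map θ)
    have hf' : 𝒴.p.map f = eqToHom hd ≫ 𝒴.p.map (F.map θ) := by
      rw [IsHomLift.fac' 𝒴.p (𝒴.p.map f ≫ eqToHom (F.w_obj a)) (F.map θ)]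
      simp
    obtain ⟨σ, ⟨hσ, hσθ⟩, -⟩ := Functor.IsStronglyCartesian.universal_property 𝒴.p (𝒴.p.map (F.map θ))
      (F.map θ) (eqToHom hd) _ hf' f
    haveI := hσ
    exact ⟨z, θ, hd, σ, by rw [IsHomLift.fac' 𝒴.p (eqToHom hd) σ]; simp, hσθ⟩
  have hcp : CoverPreserving (𝒳.p.restrictedTopology J) (𝒴.p.restrictedTopology J) F.toFunctor := ⟨fun {x} S hS => by
    rw [Groth.Agent.S12801.result 𝒳.p h𝒳 J] at hS
    rw [Groth.Agent.S12801.result 𝒴.p h𝒴 J]
    have h1 := J.pullback_stable (eqToHom (F.w_obj x)) hS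
    refine J.superset_covering ?_ h1
    rintro Z w ⟨z, t, k, ht, hk⟩
    refine ⟨F.obj z, F.map t, k ≫ eqToHom (F.w_obj z).symm, Sieve.image_mem_functorPushforward _ _ ht, ?_⟩
    rw [← cancel_mono (eqToHom (F.w_obj x)), hk, hw t]
    simp⟩
  refine ⟨hcp, ⟨fun {x} S hS => ?_⟩, Functor.isContinuous_of_coverPreserving ⟨?_⟩ hcp⟩
  · rw [Groth.Agent.S12801.result 𝒴.p h𝒴 J] at hS
    rw [Groth.Agent.S12801.result 𝒳.p h𝒳 J]
    refine J.superset_covering ?_ (J.pullback_stable (eqToHom (F.w_obj x).symm) hS)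
    rintro Z w ⟨y, s, k, hs, hk⟩
    obtain ⟨y', θ', hθ'⟩ := h𝒴.exists_lift (x := y) k
    haveI := hθ'
    obtain ⟨z, θ, hd, σ, hσ, hσθ⟩ := hlift (θ' ≫ s)
    have hdom : Z = 𝒳.p.obj z := (IsHomLift.domain_eq 𝒴.p k θ').symm.trans (hd.trans (F.w_obj z))
    refine ⟨z, θ, eqToHom hdom, ?_, ?_⟩
    · show S (F.map θ)
      haveI : IsIso σ := by
        haveI := h𝒴.isStronglyCartesian σ
        haveI : IsIso (𝒴.p.map σ) := by rw [hσ]; infer_instance
        exact Functor.IsStronglyCartesian.isIso_of_base_isIso 𝒴.p (𝒴.p.map σ) σ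
      have h3 := S.downward_closed (S.downward_closed hs θ') (inv σ)
      rwa [← hσθ, IsIso.inv_hom_id_assoc] at h3
    · have h4 := congrArg 𝒴.p.map hσθ
      rw [𝒴.p.map_comp, 𝒴.p.map_comp, hσ, IsHomLift.fac' 𝒴.p k θ', Category.assoc, Category.assoc] at h4
      rw [hw θ, ← cancel_mono (eqToHom (F.w_obj x).symm), hk]
      rw [← cancel_epi (eqToHom (IsHomLift.domain_eq 𝒴.p k θ'))]
      simp only [eqToHom_refl, Category.id_comp] at h4
      simp [← h4]
  · intro ℱ Z T f hf Y₁ Y₂ W f₁ f₂ g₁ g₂ hg₁ hg₂ e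
    obtain ⟨z, θ, hd, σ, hσ, hσθ⟩ := hlift f₁
    haveI := h𝒳.isStronglyCartesian g₂
    have hd' : 𝒳.p.obj z = 𝒴.p.obj W := (F.w_obj z).symm.trans hd.symm
    have hf' : 𝒳.p.map (θ ≫ g₁) = (eqToHom hd' ≫ 𝒴.p.map f₂ ≫ eqToHom (F.w_obj Y₂)) ≫ 𝒳.p.map g₂ := by
      have h4 := congrArg 𝒴.p.map e
      rw [← hσθ] at h4
      simp only [Functor.map_comp, hσ, Category.assoc] at h4
      rw [hw (θ ≫ g₁), hw g₂, F.map_comp, 𝒴.p.map_comp]
      simp [← reassoc_of% h4]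
    obtain ⟨ψ, ⟨hψ, hψg⟩, -⟩ := Functor.IsStronglyCartesian.universal_property 𝒳.p (𝒳.p.map g₂) g₂
      (eqToHom hd' ≫ 𝒴.p.map f₂ ≫ eqToHom (F.w_obj Y₂)) _ hf' (θ ≫ g₁)
    haveI := hψ
    have h2 : σ ≫ F.map ψ = f₂ := by
      refine huniq (F.map g₂) _ _ ?_ ?_
      · rw [𝒴.p.map_comp, hσ, IsHomLift.fac' 𝒴.p (eqToHom hd' ≫ 𝒴.p.map f₂ ≫ eqToHom (F.w_obj Y₂)) (F.map ψ)]
        simp
      · rw [Category.assoc, ← F.map_comp, hψg, F.map_comp, reassoc_of% hσθ]
        exact e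
    rw [← hσθ, ← h2, op_comp, op_comp, Functor.map_comp_apply, Functor.map_comp_apply]
    exact congrArg _ (hf θ ψ hg₁ hg₂ hψg.symm)

end Groth.Agent.S12802
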