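import Groth.Statements.S12803
import Mathlib
import Groth.Agent.S12801

set_option autoImplicit false
open CategoryTheory
universe v₂ u₂ v u
open Stk

namespace Groth.Agent.S12803

/-- Let `p : 𝒳 ⥤ C` make `𝒳` fibred in groupoids over `C`, let `J` be a topology on `C` and `x` an
object of `𝒳`. The functor `𝒳/x ⥤ C/p(x)` induced by `p` is an equivalence of categories, and it
identifies the localisation at `x` of the topology on `𝒳` inherited from `J` with the localisation
of `J` at `p x`: a sieve on an object of `𝒳/x` covers if and only if its image covers. -/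
theorem result {C : Type u} [Category.{v} C] {𝒳 : Type u₂} [Category.{v₂} 𝒳] (p : 𝒳 ⥤ C)
    (hp : FibCat.IsFibGrpd p) (J : GrothendieckTopology C) (x : 𝒳) :
    (Over.post p : Over x ⥤ Over (p.obj x)).IsEquivalence ∧
      ∀ (a : Over x) (S : Sieve a), S ∈ (p.restrictedTopology J).over x a ↔
        S.functorPushforward (Over.post p) ∈ (J.over (p.obj x)) ((Over.post p).obj a) := by
  refine ⟨?_, fun a S => ?_⟩
  · haveI : (Over.post (X := x) p).Faithful := ⟨fun {a b} g g' h => by
      have hl : p.map g.left = p.map g'.left := congrArg CommaMorphism.left h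
      haveI := hp.isStronglyCartesian b.hom
      have hf' : p.map a.hom = p.map g.left ≫ p.map b.hom := by rw [← p.map_comp, Over.w g]
      haveI : p.IsHomLift (p.map g.left) g'.left := hl ▸ inferInstance
      haveI : p.IsHomLift (p.map a.hom) a.hom := inferInstance
      exact Over.OverMorphism.ext ((Functor.IsStronglyCartesian.universal_property p (p.map b.hom) b.hom
        (p.map g.left) _ hf' a.hom).unique ⟨inferInstance, Over.w g⟩ ⟨inferInstance, Over.w g'⟩)⟩
    haveI : (Over.post (X := x) p).Full := ⟨fun {a b} k => by
      haveI := hp.isStronglyCartesian b.hom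
      let kl : p.obj a.left ⟶ p.obj b.left := k.left
      have hf' : p.map a.hom = kl ≫ p.map b.hom := (Over.w k).symm
      haveI : p.IsHomLift (p.map a.hom) a.hom := inferInstance
      obtain ⟨χ, ⟨hχ, hχφ⟩, -⟩ := Functor.IsStronglyCartesian.universal_property p (p.map b.hom) b.hom
        kl (p.map a.hom) hf' a.hom
      haveI := hχ
      refine ⟨Over.homMk χ hχφ, Over.OverMorphism.ext ?_⟩
      exact (IsHomLift.fac' p kl χ).trans (by simp [kl] <;> exact Category.comp_id _)⟩
    haveI : (Over.post (X := x) p).EssSurj := ⟨fun c => by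
      obtain ⟨z, θ, hθ⟩ := hp.exists_lift (x := x) c.hom
      haveI := hθ
      refine ⟨Over.mk θ, ⟨Over.isoMk (eqToIso (IsHomLift.domain_eq p c.hom θ)) ?_⟩⟩
      show _ ≫ c.hom = p.map θ
      rw [IsHomLift.fac' p c.hom θ]
      simp
      rfl⟩
    exact { }
  · rw [GrothendieckTopology.mem_over_iff, GrothendieckTopology.mem_over_iff,
      Groth.Agent.S12801.result p hp J]
    suffices (Sieve.overEquiv _ S).functorPushforward p =
        Sieve.overEquiv _ (S.functorPushforward (Over.post p)) by rw [this]; rfl
    apply Sieve.ext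
    intro Z w
    refine Iff.trans ?_ (Sieve.overEquiv_iff (Y := (Over.post p).obj a) _ w).symm
    constructor
    · rintro ⟨z, g, k, hg, rfl⟩
      rw [Sieve.overEquiv_iff] at hg
      refine ⟨Over.mk (g ≫ a.hom), Over.homMk g rfl, Over.homMk k ?_, hg, ?_⟩
      · show k ≫ p.map (g ≫ a.hom) = (k ≫ p.map g) ≫ p.map a.hom
        rw [p.map_comp, Category.assoc]
      · exact Over.OverMorphism.ext rfl
    · rintro ⟨b, g, k, hg, hk⟩
      refine ⟨b.left, g.left, k.left, ?_, congrArg CommaMorphism.left hk⟩
      rw [Sieve.overEquiv_iff]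
      let e : b ≅ Over.mk (g.left ≫ a.hom) := Over.isoMk (Iso.refl _) (by simpa using Over.w g)
      have := S.downward_closed hg e.inv
      convert this using 1
      exact Over.OverMorphism.ext (Category.id_comp _).symm

end Groth.Agent.S12803
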