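import Groth.Agent.FibRepr2.Basic
import Groth.Statements.S12806
-- import your own Groth.Agent.* helpers here

set_option autoImplicit false
open CategoryTheory
universe v u
open FibCat

namespace Groth.Agent.S12806

/-- Let `𝒮` be fibred in groupoids over `C`, `U` an object of `C` and `x, y : C/U ⟶ 𝒮` two functors over
`C` (objects over `U` in 2-Yoneda form), with `e` the 2-isomorphism identifying their composites
with the structure functor. Then the 2-fibre product over `C` of `(x, y) : C/U ⟶ 𝒮 ×_C 𝒮` with the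
diagonal `𝒮 ⟶ 𝒮 ×_C 𝒮` is fibred in setoids over `C/U` through its first projection. (The published
statement is for a fibred category with `x`, `y` the functors given by chosen pullbacks; this row is
the case of a category fibred in groupoids, where every functor over `C` out of `C/U` is of that
kind.) -/
theorem result {C : Type u} [Category.{v} C] {𝒮 : BasedCategory.{v, max u v} C} (h𝒮 : FibCat.IsFibGrpd 𝒮.p)
    (U : C) (x y : FibCat.overCat U ⥤ᵇ 𝒮)
    (e : BasedFunctor.comp x (FibCat.toSelf 𝒮) ≅ BasedFunctor.comp y (FibCat.toSelf 𝒮)) :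
    FibCat.IsFibSetoid (FibCat.fpFst (FibCat.fpLift x y e) (FibCat.diag (FibCat.toSelf 𝒮))).toFunctor := by
  refine ⟨Groth.Agent.FibBasics.fpFst_overCat_isFibGrpd h𝒮 (Groth.Agent.FibBasics.fp_isFibGrpd h𝒮 h𝒮 Groth.Agent.FibBasics.isFibGrpd_selfOver) _ _, fun Z a b => ⟨fun φ ψ => ?_⟩⟩
  obtain ⟨φ, hφ⟩ := φ
  obtain ⟨ψ, hψ⟩ := ψ
  apply Functor.Fiber.hom_ext
  change φ = ψ
  have h1 : φ.hom.fst = ψ.hom.fst :=
    (IsHomLift.fac' (FibCat.fpFst (FibCat.fpLift x y e) (FibCat.diag (FibCat.toSelf 𝒮))).toFunctor (𝟙 Z) φ).trans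
      (IsHomLift.fac' (FibCat.fpFst (FibCat.fpLift x y e) (FibCat.diag (FibCat.toSelf 𝒮))).toFunctor (𝟙 Z) ψ).symm
  let i : x.obj a.1.obj.fst ≅ a.1.obj.snd :=
    (FibCat.fpFst (FibCat.toSelf 𝒮) (FibCat.toSelf 𝒮)).toFunctor.mapIso a.1.obj.iso
  let j : x.obj b.1.obj.fst ≅ b.1.obj.snd :=
    (FibCat.fpFst (FibCat.toSelf 𝒮) (FibCat.toSelf 𝒮)).toFunctor.mapIso b.1.obj.iso
  have w1 : x.map φ.hom.fst ≫ j.hom = i.hom ≫ φ.hom.snd := congrArg (fun k => k.hom.fst) φ.hom.w
  have w2 : x.map ψ.hom.fst ≫ j.hom = i.hom ≫ ψ.hom.snd := congrArg (fun k => k.hom.fst) ψ.hom.w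
  refine Groth.Agent.FibBasics.fp_hom_ext h1 ((cancel_epi i.hom).1 ?_)
  rw [← w1, ← w2, h1]

end Groth.Agent.S12806
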