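import Groth.Agent.FibRepr2.Basic
import Groth.Statements.S12807
-- import your own Groth.Agent.* helpers here

set_option autoImplicit false
open CategoryTheory CategoryTheory.Limits
universe v₃ u₃ v₂ u₂ v u
open FibCat

namespace Groth.Agent.S12807

set_option backward.isDefEq.respectTransparency false
set_option backward.isDefEq.respectTransparency.types false

/-- Let `u : C ⥤ D` be a functor and `𝒮` a category over `D` whose structure functor is a fibred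
category. Then the 2-fibre product `C ×_D 𝒮` of `u` and the structure functor (triples `(U, y, u U ≅
p y)`), with its first projection, is a fibred category over `C`. (The published statement uses the
strict fibre product, pairs with `u U = p y`; for `𝒮` fibred over `D` it is equivalent over `C` to
the 2-fibre product used here.) -/
theorem result {C : Type u} [Category.{v} C] {D : Type u₂} [Category.{v₂} D] (u : C ⥤ D)
    (𝒮 : BasedCategory.{v₃, u₃} D) [𝒮.p.IsFibered] :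
    (CategoricalPullback.π₁ u 𝒮.p).IsFibered := by
  refine Functor.IsFibered.of_exists_isStronglyCartesian fun x R f => ?_
  let i : 𝒮.p.obj x.snd ≅ u.obj x.fst := x.iso.symm
  obtain ⟨b, φ, hφ⟩ := Groth.Agent.FibBasics.exists_stronglyCartesian 𝒮.p (rfl : 𝒮.p.obj x.snd = _) (u.map f ≫ x.iso.hom)
  have hb : 𝒮.p.obj b = u.obj R := IsHomLift.domain_eq 𝒮.p (u.map f ≫ x.iso.hom) φ
  have hm : 𝒮.p.map φ = eqToHom hb ≫ u.map f ≫ x.iso.hom := by
    simpa using IsHomLift.fac' 𝒮.p (u.map f ≫ x.iso.hom) φ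
  let z : CategoricalPullback u 𝒮.p := ⟨R, b, eqToIso hb.symm⟩
  let χ : z ⟶ x := ⟨f, φ, by show u.map f ≫ x.iso.hom = eqToHom hb.symm ≫ 𝒮.p.map φ; rw [hm]; simp⟩
  have hlift : (CategoricalPullback.π₁ u 𝒮.p).IsHomLift f χ := IsHomLift.map (CategoricalPullback.π₁ u 𝒮.p) χ
  refine ⟨z, χ, { toIsHomLift := hlift, universal_property' := fun {w} g ψ hψ => ?_ }⟩
  let g' : w.fst ⟶ R := g
  let ψ₂ : w.snd ⟶ x.snd := ψ.snd
  have h1 : ψ.fst = g' ≫ f := by
    have := IsHomLift.fac' (CategoricalPullback.π₁ u 𝒮.p) (g ≫ f) ψ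
    simpa using this
  have hw : u.map ψ.fst ≫ x.iso.hom = w.iso.hom ≫ 𝒮.p.map ψ₂ := ψ.w
  let h₀ : 𝒮.p.obj w.snd ⟶ u.obj R := w.iso.inv ≫ u.map g'
  have hf' : 𝒮.p.map ψ₂ = h₀ ≫ u.map f ≫ x.iso.hom := by
    rw [← cancel_epi w.iso.hom, ← hw, h1]
    simp [h₀]
  have : 𝒮.p.IsHomLift (𝒮.p.map ψ₂) ψ₂ := IsHomLift.map 𝒮.p ψ₂
  let χ' := Functor.IsStronglyCartesian.map 𝒮.p (u.map f ≫ x.iso.hom) φ (g := h₀) hf' ψ₂
  have hχ' : 𝒮.p.map χ' = h₀ ≫ eqToHom hb.symm := by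
    simpa using IsHomLift.fac' 𝒮.p h₀ χ'
  let κ : w ⟶ z := ⟨g', χ', by
    show u.map g' ≫ eqToHom hb.symm = w.iso.hom ≫ 𝒮.p.map χ'
    rw [hχ']; simp [h₀]⟩
  refine ⟨κ, ⟨IsHomLift.map (CategoricalPullback.π₁ u 𝒮.p) κ, CategoricalPullback.hom_ext h1.symm
    (Functor.IsStronglyCartesian.fac 𝒮.p (u.map f ≫ x.iso.hom) φ hf' ψ₂)⟩, ?_⟩
  rintro μ ⟨hμ, hμc⟩
  have e1 : μ.fst = g' := by
    have := IsHomLift.fac' (CategoricalPullback.π₁ u 𝒮.p) g μ
    simpa using this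
  have e2 : μ.snd ≫ φ = ψ₂ := congrArg (fun k => k.snd) hμc
  refine CategoricalPullback.hom_ext e1 ?_
  let μ₂ : w.snd ⟶ b := μ.snd
  have hμw : u.map μ.fst ≫ eqToHom hb.symm = w.iso.hom ≫ 𝒮.p.map μ₂ := μ.w
  have : 𝒮.p.IsHomLift h₀ μ₂ := IsHomLift.of_fac 𝒮.p h₀ μ₂ rfl hb (by
    rw [e1] at hμw
    rw [eqToHom_refl, Category.id_comp, ← cancel_epi w.iso.hom, ← reassoc_of% hμw]
    simp [h₀])
  exact Functor.IsStronglyCartesian.map_uniq 𝒮.p (u.map f ≫ x.iso.hom) φ hf' ψ₂ μ₂ e2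

end Groth.Agent.S12807
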