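import Mathlib
import Groth.Agent.FibBasics.Gerbe
import Groth.Statements.S12810
-- import your own Groth.Agent.* helpers here

set_option autoImplicit false
open CategoryTheory
universe v u
open Stk

namespace Groth.Agent.S12810

set_option backward.isDefEq.respectTransparency false

/-- If two categories over `C` are equivalent in the 2-category of categories over `C`, then one is a
stack in setoids for the topology `J` (a stack in groupoids fibred in setoids) if and only if the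
other is. -/
theorem result {C : Type u} [Category.{v} C] (J : GrothendieckTopology C) {𝒳 𝒴 : BasedCategory.{v, max u v} C}
    (F : 𝒳 ⥤ᵇ 𝒴) (hF : FibCat.IsEquivOver F) :
    (Stk.IsStack J 𝒳 ∧ FibCat.IsFibSetoid 𝒳.p) ↔ (Stk.IsStack J 𝒴 ∧ FibCat.IsFibSetoid 𝒴.p) := by
  have key : ∀ {𝒳 𝒴 : BasedCategory.{v, max u v} C} (F : 𝒳 ⥤ᵇ 𝒴), FibCat.IsEquivOver F →
      (Stk.IsStack J 𝒴 ∧ FibCat.IsFibSetoid 𝒴.p) → (Stk.IsStack J 𝒳 ∧ FibCat.IsFibSetoid 𝒳.p) := by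
    intro 𝒳 𝒴 F hF h
    obtain ⟨G, hG, -⟩ := Groth.Agent.FibBasics.isEquivOver_symm hF
    have hs := Groth.Agent.FibBasics.isStack_of_equiv J hG h.1
    obtain ⟨⟨_, _⟩, -⟩ := (Groth.Agent.FibBasics.isEquivOver_iff F).1 hF
    refine ⟨hs, hs.1, fun U a b => ⟨fun φ ψ => ?_⟩⟩
    have ha : 𝒴.p.obj (F.obj a.1) = U := (F.w_obj a.1).trans a.2
    have hb : 𝒴.p.obj (F.obj b.1) = U := (F.w_obj b.1).trans b.2
    let a' : 𝒴.p.Fiber U := ⟨F.obj a.1, ha⟩
    let b' : 𝒴.p.Fiber U := ⟨F.obj b.1, hb⟩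
    have : Subsingleton (a' ⟶ b') := h.2.2 U a' b'
    obtain ⟨φ, hφ⟩ := φ
    obtain ⟨ψ, hψ⟩ := ψ
    let χ₁ : a' ⟶ b' := ⟨F.map φ, (BasedFunctor.isHomLift_iff F _ _).2 hφ⟩
    let χ₂ : a' ⟶ b' := ⟨F.map ψ, (BasedFunctor.isHomLift_iff F _ _).2 hψ⟩
    apply Functor.Fiber.hom_ext
    exact F.toFunctor.map_injective (congrArg Subtype.val (Subsingleton.elim χ₁ χ₂))
  obtain ⟨G, hG, -⟩ := Groth.Agent.FibBasics.isEquivOver_symm hF
  exact ⟨key G hG, key F hF⟩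

end Groth.Agent.S12810
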