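import Groth.Statements.S12811
import Groth.Agent.AlgStLib.StackBasics
import Groth.Agent.FibRepr2.Basic
-- import your own Groth.Agent.* helpers here

set_option autoImplicit false
open CategoryTheory
universe v u
open Stk

namespace Groth.Agent.S12811

/-- For stacks in setoids `𝒳`, `𝒴`, `𝒮` over `C` for the topology `J` (stacks in groupoids that are
fibred in setoids) and functors `F : 𝒳 ⟶ 𝒮`, `G : 𝒴 ⟶ 𝒮` over `C`, the 2-fibre product `𝒳 ×_𝒮 𝒴`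
over `C` is again a stack in setoids for `J`. -/
theorem result {C : Type u} [Category.{v} C] (J : GrothendieckTopology C) {𝒳 𝒴 𝒮 : BasedCategory.{v, max u v} C}
    (F : 𝒳 ⥤ᵇ 𝒮) (G : 𝒴 ⥤ᵇ 𝒮) (h𝒳 : Stk.IsStack J 𝒳 ∧ FibCat.IsFibSetoid 𝒳.p) (h𝒴 : Stk.IsStack J 𝒴 ∧ FibCat.IsFibSetoid 𝒴.p)
    (h𝒮 : Stk.IsStack J 𝒮 ∧ FibCat.IsFibSetoid 𝒮.p) :
    Stk.IsStack J (FibCat.fp F G) ∧ FibCat.IsFibSetoid (FibCat.fp F G).p := by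
    refine ⟨AlgStLib.isStack_fp F G h𝒳.1 h𝒴.1 (AlgStLib.isPrestack_of_isStack h𝒮.1),
      FibBasics.fp_isFibGrpd h𝒳.1.1 h𝒴.1.1 h𝒮.1.1, fun Z a b => ⟨fun φ ψ => ?_⟩⟩
    obtain ⟨φ, hφ⟩ := φ
    obtain ⟨ψ, hψ⟩ := ψ
    apply Functor.Fiber.hom_ext
    change φ = ψ
    refine FibBasics.fp_hom_ext ?_ ?_
    · let a' : 𝒳.p.Fiber Z := ⟨a.1.obj.fst, a.2⟩
      let b' : 𝒳.p.Fiber Z := ⟨b.1.obj.fst, b.2⟩
      have : Subsingleton (a' ⟶ b') := h𝒳.2.2 Z a' b'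
      let χ₁ : a' ⟶ b' := ⟨φ.hom.fst, BasedFunctor.preserves_isHomLift (FibCat.fpFst F G) (𝟙 Z) φ⟩
      let χ₂ : a' ⟶ b' := ⟨ψ.hom.fst, BasedFunctor.preserves_isHomLift (FibCat.fpFst F G) (𝟙 Z) ψ⟩
      exact congrArg Subtype.val (Subsingleton.elim χ₁ χ₂)
    · let a' : 𝒴.p.Fiber Z := ⟨a.1.obj.snd, (FibBasics.fp_snd_proj a.1).trans a.2⟩
      let b' : 𝒴.p.Fiber Z := ⟨b.1.obj.snd, (FibBasics.fp_snd_proj b.1).trans b.2⟩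
      have : Subsingleton (a' ⟶ b') := h𝒴.2.2 Z a' b'
      let χ₁ : a' ⟶ b' := ⟨φ.hom.snd, FibBasics.fp_lift_snd _ φ⟩
      let χ₂ : a' ⟶ b' := ⟨ψ.hom.snd, FibBasics.fp_lift_snd _ ψ⟩
      exact congrArg Subtype.val (Subsingleton.elim χ₁ χ₂)

end Groth.Agent.S12811
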