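import Groth.Statements.S12816
import Groth.Agent.FibBasics.Yoneda
-- import your own Groth.Agent.* helpers here

set_option autoImplicit false
open CategoryTheory
universe v u
open Stk

namespace Groth.Agent.S12816

/-- Let `𝒳`, `𝒴` be fibred in groupoids over `C` and `F : 𝒳 ⟶ 𝒴` a functor over `C`. Then the underlying
functor of `F` is fully faithful if and only if, for every object `U` of `C`, postcomposition with
`F` is a fully faithful functor from the category of functors `C/U ⟶ 𝒳` over `C` to that of functors
`C/U ⟶ 𝒴` over `C`; under the 2-Yoneda lemma the latter says that `F` induces bijections between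
morphisms of pullbacks `x|_V ⟶ y|_V` and `F(x)|_V ⟶ F(y)|_V` for all objects `x, y` over `U` and all
`V ⟶ U`, that is, isomorphisms of the presheaves of morphisms. (The published statement is for
stacks over a site, not necessarily in groupoids; the stack property plays no role and is not
assumed here, and this row treats categories fibred in groupoids.) -/
theorem result {C : Type u} [Category.{v} C] {𝒳 𝒴 : BasedCategory.{v, max u v} C}
    (h𝒳 : FibCat.IsFibGrpd 𝒳.p) (h𝒴 : FibCat.IsFibGrpd 𝒴.p) (F : 𝒳 ⟶ 𝒴) :
    (F.toFunctor.Full ∧ F.toFunctor.Faithful) ↔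
      ∀ U : C, (Bicategory.postcomp (FibCat.overCat U) F).Full ∧ (Bicategory.postcomp (FibCat.overCat U) F).Faithful := by
    constructor
    · rintro ⟨hf, hfu⟩ U
      refine ⟨⟨fun {K L} δ => ?_⟩, ⟨fun {K L α β} e => ?_⟩⟩
      · refine ⟨{ app := fun a => F.toFunctor.preimage (δ.app a)
                  naturality := fun a b f => F.toFunctor.map_injective (by
                    rw [Functor.map_comp, Functor.map_comp]
                    erw [Functor.map_preimage, Functor.map_preimage]
                    exact δ.naturality f)
                  isHomLift' := fun a => (BasedFunctor.isHomLift_iff F _ _).1 ?_ }, ?_⟩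
        · erw [Functor.map_preimage]
          exact δ.isHomLift' a
        · apply BasedNatTrans.homCategory.ext
          apply NatTrans.ext
          funext a
          exact F.toFunctor.map_preimage _
      · apply BasedNatTrans.homCategory.ext
        apply NatTrans.ext
        funext a
        exact F.toFunctor.map_injective congr(($e).app a)
    · intro h
      have hc : FibBasics.Cart F := FibBasics.cart_of_isFibGrpd F h𝒴
      have := FibBasics.isFibered_of_isFibGrpd 𝒳.p h𝒳
      have key : ∀ U, (FibCat.fiberFunctor F U).Full ∧ (FibCat.fiberFunctor F U).Faithful := fun U => by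
        haveI := FibBasics.evalAtId_isEquivalence (U := U) h𝒳
        haveI := FibBasics.evalAtId_isEquivalence (U := U) h𝒴
        obtain ⟨_, _⟩ := h U
        let Φ := Bicategory.postcomp (FibCat.overCat U) F ⋙ FibCat.evalAtId 𝒴 U
        let e : FibCat.evalAtId 𝒳 U ⋙ FibCat.fiberFunctor F U ≅ Φ :=
          NatIso.ofComponents (fun _ => Iso.refl _) (fun _ => (Category.comp_id _).trans (Category.id_comp _).symm)
        let e' : (FibCat.evalAtId 𝒳 U).asEquivalence.inverse ⋙ Φ ≅ FibCat.fiberFunctor F U :=
          (Functor.isoWhiskerLeft _ e).symm ≪≫ (FibCat.evalAtId 𝒳 U).asEquivalence.invFunIdAssoc _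
        haveI : Φ.Full := Functor.Full.comp _ _
        haveI : Φ.Faithful := Functor.Faithful.comp _ _
        exact ⟨Functor.Full.of_iso e', Functor.Faithful.of_iso e'⟩
      exact ⟨FibBasics.full_of_fiber F hc fun U => (key U).1, FibBasics.faithful_of_fiber F hc fun U => (key U).2⟩

end Groth.Agent.S12816
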