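import Groth.Statements.S12838
import Groth.Prelude.Def_ChGrp
-- import your own Groth.Agent.* helpers here

set_option autoImplicit false
set_option linter.style.haveILetI false
set_option backward.isDefEq.respectTransparency false
universe u
open CategoryTheory AlgebraicGeometry
open AlgSt

namespace Groth.Agent.S12838

open MonoidalCategory CartesianMonoidalCategory MonObj GrpObj in
/-- Let `G` be a group scheme over `S` acting on an `S`-scheme `X`, `f : T ⟶ T'` a morphism of
`S`-schemes, `x` a `T`-point and `x'` a `T'`-point of `X`. In the quotient category `[X/G]` (scheme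
torsors for the fppf topology with an equivariant morphism to `X`) the canonical functor `X ⟶ [X/G]`
sends `x` to the trivial torsor `G ×_S T ⟶ T`, with `G` acting by left multiplication on the first
factor and the equivariant morphism `(h, t) ↦ h · x(t)`, and likewise for `x'`. The morphisms from
the image of `x` to the image of `x'` lying over `f` are exactly the maps `(h, t) ↦ (h · g(t),
f(t))` for those `T`-points `g` of `G` with `g · (x' ∘ f) = x`: every morphism over `f` is of this
form, and every such `g` defines one. -/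
theorem result (S : Scheme.{u}) (G : Over S) [GrpObj G] (X : Over S)
    (aX : AlgGrp.Action G X) (T T' : Over S) (f : T ⟶ T') (x : T ⟶ X) (x' : T' ⟶ X) :
    (∀ h : (AlgSt.quotMap Scheme.fppfPrecoverage G aX).obj ((AlgSt.ofOverCat X).obj (Over.mk x)) ⟶ (AlgSt.quotMap Scheme.fppfPrecoverage G aX).obj ((AlgSt.ofOverCat X).obj (Over.mk x')),
        h.base = f → ∃ g : T ⟶ G, lift g (f ≫ x') ≫ aX.act = x ∧
          h.top = lift (fst G T * (snd G T ≫ g)) (snd G T ≫ f)) ∧
    (∀ g : T ⟶ G, lift g (f ≫ x') ≫ aX.act = x →
        ∃ h : (AlgSt.quotMap Scheme.fppfPrecoverage G aX).obj ((AlgSt.ofOverCat X).obj (Over.mk x)) ⟶ (AlgSt.quotMap Scheme.fppfPrecoverage G aX).obj ((AlgSt.ofOverCat X).obj (Over.mk x')),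
          h.base = f ∧ h.top = lift (fst G T * (snd G T ≫ g)) (snd G T ≫ f)) := by
  constructor
  · intro h hb
    subst hb
    let s : T ⟶ G ⊗ T := lift (1 : T ⟶ G) (𝟙 T)
    let top : G ⊗ T ⟶ G ⊗ T' := h.top
    let g : T ⟶ G := s ≫ top ≫ fst G T'
    have hπ : top ≫ snd G T' = snd G T ≫ h.base := h.cart.w
    have hsf : s ≫ top = lift g h.base := by
      apply CartesianMonoidalCategory.hom_ext
      · exact (Category.assoc _ _ _).trans (lift_fst g h.base).symm
      · rw [Category.assoc, hπ, lift_snd]; simp [s]
    refine ⟨g, ?_, ?_⟩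
    · have hφ : top ≫ (G ◁ x') ≫ aX.act = (G ◁ x) ≫ aX.act := h.wφ
      have := congrArg (s ≫ ·) hφ
      simp only [reassoc_of% hsf, lift_whiskerLeft_assoc] at this
      rw [this]
      simp only [s, lift_whiskerLeft_assoc, Category.id_comp, AlgGrp.Action.lift_one_act]
    · have he : (AlgSt.leftMul G T).act ≫ top = (G ◁ top) ≫ (AlgSt.leftMul G T').act := h.eqv
      have hl : lift (fst G T) (snd G T ≫ s) ≫ (AlgSt.leftMul G T).act = 𝟙 _ := by
        apply CartesianMonoidalCategory.hom_ext
        · simp only [AlgSt.leftMul, Category.assoc, lift_fst, comp_mul, lift_snd_assoc, Category.id_comp]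
          simp [s, Hom.one_def]
        · simp [AlgSt.leftMul, s]
      have := congrArg (lift (fst G T) (snd G T ≫ s) ≫ ·) he
      simp only [reassoc_of% hl, lift_whiskerLeft_assoc, Category.assoc, hsf] at this
      show top = _
      rw [this, comp_lift]
      apply CartesianMonoidalCategory.hom_ext
      · simp only [AlgSt.leftMul, Category.assoc, lift_fst, comp_mul, lift_snd_assoc]
        exact congrArg (fst G T * ·) (lift_fst _ _)
      · simp only [AlgSt.leftMul, Category.assoc, lift_snd, lift_snd_assoc]
  · intro g hg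
    let top : G ⊗ T ⟶ G ⊗ T' := lift (fst G T * (snd G T ≫ g)) (snd G T ≫ f)
    let e : G ⊗ T ≅ G ⊗ T :=
      { hom := lift (fst G T * (snd G T ≫ g)) (snd G T)
        inv := lift (fst G T * (snd G T ≫ g)⁻¹) (snd G T)
        hom_inv_id := by
          apply CartesianMonoidalCategory.hom_ext <;> simp [comp_mul, GrpObj.comp_inv]
        inv_hom_id := by
          apply CartesianMonoidalCategory.hom_ext <;> simp [comp_mul] }
    have hc : IsPullback top (snd G T) (snd G T') f := by
      refine (AlgSt.isPullback_whiskerLeft (G := G) f).of_iso e.symm (Iso.refl _) (Iso.refl _) (Iso.refl _) ?_ ?_ (by simp) (by simp)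
      · simp only [Iso.refl_hom, Category.comp_id, Iso.symm_hom, Iso.eq_inv_comp]
        apply CartesianMonoidalCategory.hom_ext <;> simp [top, e]
      · simp only [Iso.refl_hom, Category.comp_id, Iso.symm_hom, Iso.eq_inv_comp]
        simp [e]
    refine ⟨{ base := f, top := top, eqv := ?_, cart := hc, wφ := ?_ }, rfl, rfl⟩
    · show (AlgSt.leftMul G T).act ≫ top = (G ◁ top) ≫ (AlgSt.leftMul G T').act
      apply CartesianMonoidalCategory.hom_ext <;>
        simp [AlgSt.leftMul, top, comp_mul, _root_.mul_assoc]
    · show top ≫ (G ◁ x') ≫ aX.act = (G ◁ x) ≫ aX.act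
      simp only [top, lift_whiskerLeft_assoc]
      rw [AlgGrp.Action.lift_mul_act]
      have h1 : lift (snd G T ≫ g) ((snd G T ≫ f) ≫ x') ≫ aX.act = snd G T ≫ x := by
        rw [← hg, comp_lift_assoc, Category.assoc]
      rw [h1]
      congr 1

end Groth.Agent.S12838
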