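import Groth.Statements.S12839
import Groth.Prelude.Def_ChGrp
-- import your own Groth.Agent.* helpers here

set_option autoImplicit false
set_option linter.style.haveILetI false
set_option backward.isDefEq.respectTransparency false
universe u
open CategoryTheory AlgebraicGeometry
open AlgSt

open MonoidalCategory CartesianMonoidalCategory MonObj Limits

namespace Groth.Agent.S12839

/-- Let `G` be a group scheme over `S` acting on an `S`-scheme `X` and let `A` be an object of the
quotient category `[X/G]` over the `S`-scheme `T` — a `G`-torsor `P ⟶ T` for the fppf topology which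
is a scheme, with an equivariant `P ⟶ X`. Then there is an fppf covering family of `T` such that for
every member `f : T' ⟶ T` there are a `T'`-point `x` of `X` and a morphism of `[X/G]` lying over `f`
from the image of `x` under the canonical functor `X ⟶ [X/G]` (the trivial torsor `G ×_S T'` with
`(h, t) ↦ h · x(t)`) to `A`: every object is, fppf-locally on its base, isomorphic to a trivial one. -/
theorem result (S : Scheme.{u}) (G : Over S) [GrpObj G] (X : Over S)
    (aX : AlgGrp.Action G X) (A : AlgSt.QuotObj Scheme.fppfPrecoverage G aX) :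
    ∃ (R : Presieve A.base.left) (_ : R ∈ Scheme.fppfPrecoverage A.base.left),
      ∀ ⦃T' : Scheme.{u}⦄ (f : T' ⟶ A.base.left), R f →
        ∃ (x : Over.mk (f ≫ A.base.hom) ⟶ X)
          (h : (AlgSt.quotMap Scheme.fppfPrecoverage G aX).obj ((AlgSt.ofOverCat X).obj (Over.mk x)) ⟶ A),
          h.base = Over.homMk f rfl := by
  obtain ⟨R, hR, hsec⟩ := A.loc
  refine ⟨R, hR, fun T' f hf => ?_⟩
  obtain ⟨s₀, hs₀⟩ := hsec f hf
  have hw : s₀ ≫ A.π.left = f := hs₀
  let W : Over S := Over.mk (f ≫ A.base.hom)
  let s : W ⟶ A.P := Over.homMk s₀ (by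
    show s₀ ≫ A.P.hom = f ≫ A.base.hom
    rw [← hw, Category.assoc, Over.w A.π])
  let fb : W ⟶ A.base := Over.homMk f rfl
  have hs : s ≫ A.π = fb := Over.OverMorphism.ext hw
  have hc := (AlgSt.isPullback_whiskerLeft (G := G) s).paste_horiz A.cart
  rw [hs] at hc
  refine ⟨s ≫ A.φ, { base := fb, top := (G ◁ s) ≫ A.act.act, eqv := ?_, cart := hc, wφ := ?_ }, rfl⟩
  · show (AlgSt.leftMul G W).act ≫ (G ◁ s) ≫ A.act.act = (G ◁ ((G ◁ s) ≫ A.act.act)) ≫ A.act.act
    apply AlgGrp.Action.hom_ext_lift₂
    intro T a b
    have hb : b = lift (b ≫ fst G W) (b ≫ snd G W) := by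
      apply CartesianMonoidalCategory.hom_ext <;> simp
    simp only [AlgSt.leftMul, comp_lift_assoc, lift_whiskerLeft_assoc, comp_mul, lift_fst, lift_snd, lift_fst_assoc,
      lift_snd_assoc, lift_whiskerLeft, Category.assoc]
    rw [AlgGrp.Action.lift_mul_act]
    congr 2
    conv_rhs => rw [hb, lift_whiskerLeft_assoc]
    simp only [Category.assoc]
  · show ((G ◁ s) ≫ A.act.act) ≫ A.φ = (G ◁ (s ≫ A.φ)) ≫ aX.act
    rw [Category.assoc, A.eqv, MonoidalCategory.whiskerLeft_comp, Category.assoc]

end Groth.Agent.S12839
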