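import Groth.Statements.S12876
import Groth.Agent.S12774
import Groth.Agent.AlgStLib.Mono
-- import your own Groth.Agent.* helpers here

set_option autoImplicit false
open CategoryTheory AlgebraicGeometry
universe u
open AlgSt

namespace Groth.Agent.S12876

/-- Let `i : 𝒳 ⟶ 𝒳'` and `g : 𝒳' ⟶ 𝒴` be 1-morphisms of algebraic stacks over `S` with `i` a
monomorphism. Then the square whose top is the diagonal `𝒳 ⟶ 𝒳 ×_𝒴 𝒳` of `g ∘ i`, whose left side is
`i`, whose right side is the 1-morphism `𝒳 ×_𝒴 𝒳 ⟶ 𝒳' ×_𝒴 𝒳'` induced by `i` on both factors and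
whose bottom is the diagonal of `g` (it commutes strictly, the 2-cell being the identity) is
2-cartesian: the induced 1-morphism from `𝒳` to the 2-fibre product is an equivalence over
`(Sch/S)`. -/
theorem result {S : Scheme.{u}} {𝒳 𝒳' 𝒴 : AlgSt.Cat S}
    (h𝒳 : AlgSt.IsAlgStack Scheme.fppfPrecoverage 𝒳) (h𝒳' : AlgSt.IsAlgStack Scheme.fppfPrecoverage 𝒳') (h𝒴 : AlgSt.IsAlgStack Scheme.fppfPrecoverage 𝒴)
    (i : 𝒳 ⥤ᵇ 𝒳') (g : 𝒳' ⥤ᵇ 𝒴) (hi : AlgSt.IsMono i) :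
    FibCat.IsTwoCartOver
      (F := (FibCat.fpLift (BasedFunctor.comp (FibCat.fpFst (BasedFunctor.comp i g) (BasedFunctor.comp i g)) i)
        (BasedFunctor.comp (FibCat.fpSnd (BasedFunctor.comp i g) (BasedFunctor.comp i g)) i) (FibCat.fpIso (BasedFunctor.comp i g) (BasedFunctor.comp i g))))
      (G := FibCat.diag g) (FibCat.diag (BasedFunctor.comp i g)) i (Iso.refl _) := by
  obtain ⟨hfu, hfa⟩ := Groth.Agent.S12774.result h𝒳.isStack.1 h𝒳'.isStack.1 i hi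
  let F := FibCat.fpLift (BasedFunctor.comp (FibCat.fpFst (BasedFunctor.comp i g) (BasedFunctor.comp i g)) i)
        (BasedFunctor.comp (FibCat.fpSnd (BasedFunctor.comp i g) (BasedFunctor.comp i g)) i)
        (FibCat.fpIso (BasedFunctor.comp i g) (BasedFunctor.comp i g))
  let L : 𝒳 ⥤ᵇ FibCat.fp F (FibCat.diag g) := FibCat.fpLift (FibCat.diag (BasedFunctor.comp i g)) i (Iso.refl _)
  show FibCat.IsEquivOver L
  have : L.toFunctor.Faithful := ⟨fun {x y} s t h => (congrArg (fun m => m.hom.fst.hom.fst) h :)⟩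
  have : L.toFunctor.Full := ⟨fun {x y} m => by
    let s : x ⟶ y := m.hom.fst.hom.fst
    let t : x ⟶ y := m.hom.fst.hom.snd
    let r : i.obj x ⟶ i.obj y := m.hom.snd
    have h1 : i.map s ≫ 𝟙 _ = 𝟙 _ ≫ r := (congrArg (fun k => k.hom.fst) m.hom.w :)
    have h2 : i.map t ≫ 𝟙 _ = 𝟙 _ ≫ r := (congrArg (fun k => k.hom.snd) m.hom.w :)
    rw [Category.comp_id, Category.id_comp] at h1 h2
    have hst : s = t := i.toFunctor.map_injective (h1.trans h2.symm)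
    exact ⟨s, Groth.Agent.FibBasics.fp_hom_ext (Groth.Agent.FibBasics.fp_hom_ext rfl hst) h1⟩⟩
  refine Groth.Agent.FibBasics.isEquivOver_of_essSurjOver _ fun z => ?_
  obtain ⟨⟨⟨⟨a, b, φ⟩, hφ⟩, x', η⟩, hη⟩ := z
  let η₁ : i.obj a ≅ x' := (FibCat.fpFst g g).toFunctor.mapIso η
  let η₂ : i.obj b ≅ x' := (FibCat.fpSnd g g).toFunctor.mapIso η
  have hw : g.map η₁.hom ≫ 𝟙 _ = φ.hom ≫ g.map η₂.hom := η.hom.hom.w
  rw [Category.comp_id] at hw
  obtain ⟨β, hβ⟩ : ∃ β : a ≅ b, i.toFunctor.mapIso β = η₁ ≪≫ η₂.symm :=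
    ⟨i.toFunctor.preimageIso (η₁ ≪≫ η₂.symm), Iso.ext (i.toFunctor.map_preimage _)⟩
  have hb : i.map β.hom = η₁.hom ≫ η₂.inv := congrArg Iso.hom hβ
  have hc : i.map β.hom ≫ η₂.hom = η₁.hom := by
    rw [hb, Category.assoc, Iso.inv_hom_id, Category.comp_id]
  have hgc : g.map (i.map β.hom) ≫ g.map η₂.hom = g.map η₁.hom := by
    rw [← g.toFunctor.map_comp, hc]
  refine ⟨a, ObjectProperty.isoMk _ (Limits.CategoricalPullback.mkIso
    (ObjectProperty.isoMk _ (Limits.CategoricalPullback.mkIso (Iso.refl a) β ?_)) η₁ ?_),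
    Groth.Agent.FibBasics.fp_lift_of_fst _ _ (Groth.Agent.FibBasics.fp_lift_of_fst _ _ (IsHomLift.id rfl))⟩
  · show g.map (i.map (𝟙 a)) ≫ φ.hom = 𝟙 _ ≫ g.map (i.map β.hom)
    rw [i.toFunctor.map_id, g.toFunctor.map_id]
    exact (Category.id_comp _).trans (((cancel_mono (g.map η₂.hom)).1 (hgc.trans hw)).symm.trans
      (Category.id_comp _).symm)
  · refine Groth.Agent.FibBasics.fp_hom_ext ?_ ?_
    · show i.map (𝟙 a) ≫ η₁.hom = 𝟙 _ ≫ η₁.hom
      rw [i.toFunctor.map_id]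
    · show i.map β.hom ≫ η₂.hom = 𝟙 _ ≫ η₁.hom
      rw [hc, Category.id_comp]

end Groth.Agent.S12876
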