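import Groth.Statements.S12890
import Groth.Agent.SubtermOn.Basic
import Groth.Agent.KerDerived.Basic
-- import your own Groth.Agent.* helpers here

set_option autoImplicit false
universe u
open CategoryTheory CategoryTheory.Limits
open ModSite

namespace Groth.Agent.S12890

/-- On a small ringed site (C, J, O) with O commutative, let U be a subterminal object (every object has
at most one morphism to U), Z its closed complement and j_{U*} the direct image of modules along the
localisation C/U → C. Then ℋ^1_Z is isomorphic to the cokernel of the unit M → j_{U*}(M|_U) (so that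
0 → ℋ^0_Z(M) → M → j_{U*}(M|_U) → ℋ^1_Z(M) → 0 is exact), and for every q ≥ 1 the functor ℋ^{q+1}_Z
is isomorphic to M ↦ R^q j_{U*}(M|_U). (Existence of isomorphisms of functors only. The direct image
j_{U*} with its additivity and injective resolutions of modules on C and on C/U are the stated
instance hypotheses, all true.) -/
theorem result {C : Type u} [SmallCategory C] {J : GrothendieckTopology C}
    (O : Sheaf J CommRingCat.{u}) (U : C)
    (hU : ∀ V : C, Subsingleton (V ⟶ U)) [ModSite.HasPushOver O U] [(ModSite.pushOver O U).Additive]
    [HasInjectiveResolutions (ModSite.Mod O)] [HasInjectiveResolutions (ModSite.Mod (O.over U))] :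
    Nonempty (ModSite.HZsh O U 1 ≅ cokernel (ModSite.restrPushOverAdj O U).unit) ∧
      ∀ q : ℕ, 1 ≤ q →
        Nonempty (ModSite.HZsh O U (q + 1) ≅ ModSite.restr O U ⋙ (ModSite.pushOver O U).rightDerived q) := by
  let adj := ModSite.restrPushOverAdj O U
  haveI : EnoughInjectives (ModSite.Mod O) := ModGroth.sheaf_enoughInjectives (ModSite.ringSh O)
  haveI : EnoughInjectives (ModSite.Mod (O.over U)) := ModGroth.sheaf_enoughInjectives (ModSite.ringSh (O.over U))
  haveI : PreservesFiniteColimits (ModSite.restr O U) := by
    haveI := adj.leftAdjoint_preservesColimits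
    infer_instance
  haveI : PreservesFiniteLimits (ModSite.restr O U) := by
    haveI := (ModSite.extZeroAdj O U).rightAdjoint_preservesLimits
    infer_instance
  haveI : PreservesFiniteLimits (ModSite.pushOver O U) := by
    haveI := adj.rightAdjoint_preservesLimits
    infer_instance
  haveI : (ModSite.restr O U).Additive := Functor.additive_of_preserves_binary_products _
  haveI : (ModSite.restr O U ⋙ ModSite.pushOver O U).Additive := inferInstance
  haveI : PreservesFiniteLimits (ModSite.restr O U ⋙ ModSite.pushOver O U) := comp_preservesFiniteLimits _ _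
  have w : ∀ F, (ModSite.sectOnι O U).app F ≫ adj.unit.app F = 0 := fun F => kernel.condition _
  have hlim : ∀ F, IsLimit (KernelFork.ofι ((ModSite.sectOnι O U).app F) (w F)) := fun F => kernelIsKernel _
  have hη : ∀ (I : ModSite.Mod O) [Injective I], Epi (adj.unit.app I) := fun I _ => SubtermOn.epi_unit hU I
  refine ⟨KerDerived.nonempty_rightDerived_one_iso _ _ (ModSite.sectOnι O U) adj.unit w hlim hη, fun q hq => ?_⟩
  obtain ⟨n, rfl⟩ : ∃ n, q = n + 1 := ⟨q - 1, by omega⟩
  obtain ⟨e⟩ := KerDerived.nonempty_rightDerived_succ_iso _ _ (ModSite.sectOnι O U) adj.unit w hlim hη n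
  obtain ⟨e'⟩ := KerDerived.nonempty_comp_iso (ModSite.restr O U) (ModSite.pushOver O U)
    (fun I _ m => by
      haveI := SubtermOn.injective_restr hU I
      exact (ModSite.pushOver O U).isZero_rightDerived_obj_injective_succ m _) (n + 1)
  exact ⟨e ≪≫ e'⟩

end Groth.Agent.S12890
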