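import Groth.Statements.S12903
import Groth.Agent.QCohLib.Cover
import Groth.Agent.QCohLib.Criterion

set_option autoImplicit false
universe u
open CategoryTheory CategoryTheory.Limits AlgebraicGeometry Opposite
open Coherent

namespace Groth.Agent.S12903

section Aux

open Groth.Agent.QCohLib TopologicalSpace

set_option backward.isDefEq.respectTransparency false

theorem aux {U X : Scheme.{u}} (j : U ⟶ X) [IsOpenImmersion j]
    (F : X.Modules) [F.IsQuasicoherent] (V : X.Opens) (hV : IsAffineOpen V)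
    (I : Ideal Γ(X, V)) (hI : I.FG)
    (hZ : ∀ x : X, x ∈ V → (x ∉ Set.range j.base ↔ ∀ f ∈ I, x ∉ X.basicOpen f))
    (s : Γ(F, V)) :
    (∃ c, (kernel.ι ((Scheme.Modules.restrictAdjunction j).unit.app F)).app V c = s) ↔
      ∃ n : ℕ, ∀ a ∈ I ^ n, a • s = 0 := by
  rw [← exists_kernel_app_eq]
  change F.presheaf.map (homOfLE (j.image_preimage_le V)).op s = 0 ↔ _
  constructor
  · intro h
    let J : Ideal Γ(X, V) := LinearMap.ker (LinearMap.toSpanSingleton Γ(X, V) Γ(F, V) s)
    have hJ : I ≤ J.radical := by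
      intro f hf
      have hle : X.basicOpen f ≤ j ''ᵁ j ⁻¹ᵁ V := by
        intro x hx
        have hxV : x ∈ V := X.basicOpen_le f hx
        have : x ∈ Set.range j.base := by
          by_contra hc
          exact (hZ x hxV).mp hc f hf hx
        obtain ⟨y, rfl⟩ := this
        exact ⟨y, hxV, rfl⟩
      obtain ⟨n, hn⟩ := exists_pow_smul_eq_zero hV f (X.basicOpen f) (X.basicOpen_le f) rfl s (by
        rw [← map_map F hle (j.image_preimage_le V), h, map_zero])
      exact ⟨n, hn⟩
    obtain ⟨n, hn⟩ := Ideal.exists_pow_le_of_le_radical_of_fg hJ hI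
    exact ⟨n, fun a ha => hn ha⟩
  · rintro ⟨n, hn⟩
    refine TopCat.Sheaf.eq_of_locally_eq' (C := Ab.{u}) ⟨F.presheaf, F.isSheaf⟩
      (fun f : {f : Γ(X, V) // f ∈ I} => X.basicOpen f.1 ⊓ (j ''ᵁ j ⁻¹ᵁ V)) (j ''ᵁ j ⁻¹ᵁ V)
      (fun f => homOfLE inf_le_right) ?_ _ _ fun f => ?_
    · rintro _ ⟨y, hy, rfl⟩
      by_contra hc
      refine (hZ _ hy).mpr (fun f hf hx => hc ?_) ⟨y, rfl⟩
      exact Opens.mem_iSup.mpr ⟨⟨f, hf⟩, hx, y, hy, rfl⟩
    · change F.presheaf.map (homOfLE inf_le_right).op _ = F.presheaf.map (homOfLE inf_le_right).op 0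
      rw [map_zero, map_map, ← map_map F (inf_le_left : X.basicOpen f.1 ⊓ _ ≤ _)
        (X.basicOpen_le f.1)]
      have h1 : F.presheaf.map (homOfLE (X.basicOpen_le f.1)).op s = 0 := by
        have h2 : F.presheaf.map (homOfLE (X.basicOpen_le f.1)).op ((f.1 ^ n) • s) = 0 := by
          rw [hn _ (Ideal.pow_mem_pow f.2 n), map_zero]
        rw [Scheme.Modules.map_smul, map_pow] at h2
        have hu : IsUnit (X.presheaf.map (homOfLE (X.basicOpen_le f.1)).op f.1) :=
          X.toRingedSpace.isUnit_res_basicOpen f.1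
        exact (IsUnit.smul_eq_zero (hu.pow n)).mp h2
      rw [h1, map_zero]

end Aux

/-- Let X be a scheme, j : U → X a quasi-compact open immersion with closed complement Z, F a
quasi-coherent O_X-module, V an affine open of X and I a finitely generated ideal of Γ(V, O_X)
cutting out Z ∩ V (a point of V lies outside U if and only if it lies in no basic open X_f with f ∈
I). Then a section s of F over V belongs to the subsheaf Γ_Z(F) of sections supported in Z (the
kernel of F → j_*(F|_U)) if and only if I^n s = 0 for some n. -/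
theorem result {U X : Scheme.{u}} (j : U ⟶ X) [IsOpenImmersion j] [QuasiCompact j]
    (F : X.Modules) (hF : Coh.IsQCoh F) (V : X.Opens) (hV : IsAffineOpen V)
    (I : Ideal (X.ringCatSheaf.obj.obj (op V))) (hI : I.FG)
    (hZ : ∀ x : X, x ∈ V → (x ∉ Set.range j.base ↔ ∀ f ∈ I, x ∉ X.basicOpen (f : Γ(X, V))))
    (s : F.val.obj (op V)) :
    s ∈ Set.range ((((CxOX.gammaZι j).app F).val.app (op V)).hom) ↔ ∃ n : ℕ, ∀ a ∈ I ^ n, a • s = 0 := by
  haveI : F.IsQuasicoherent := hF
  exact aux j F V hV I hI hZ s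

end Groth.Agent.S12903
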