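import Groth.Statements.S12905
-- import your own Groth.Agent.* helpers here
import Groth.Agent.HilbPoly.DimVanish
import Groth.Agent.HilbPoly.Tensor
import Groth.Agent.HilbPoly.Cartier
import Groth.Agent.CohVanish.Sections
import Groth.Agent.InvPow.Ample
import Groth.Agent.CohDual.ClosedTwist

set_option autoImplicit false
universe u
open CategoryTheory CategoryTheory.Limits AlgebraicGeometry
open Variety

namespace Groth.Agent.S12905

/-- Let k be a field and φ : F' → F a monomorphism of coherent modules on P^n_k whose cokernel has
support of Krull dimension at most zero (a finite set of closed points, possibly empty). If F' is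
m-regular then F is m-regular. (The published statement is the case of an ideal sheaf contained in
the ideal sheaf of a curve with quotient supported at finitely many points, phrased as an inequality
of regularities; the argument gives the form stated here.) -/
theorem result (k : Type u) [Field k] (n : ℕ)
    (F' F : (CohB1.ProjSpace n k).Modules) (hF' : Coh.IsCoh F') (hF : Coh.IsCoh F) (φ : F' ⟶ F) [Mono φ]
    (hsupp : topologicalKrullDim (CohB1.support (cokernel φ)) ≤ 0) (m : ℤ)
    (h : Curv2.IsMRegular k n F' m) : Curv2.IsMRegular k n F m := by
  intro i hi hin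
  letI : (CohB1.ProjSpace n k).Over (Spec (CommRingCat.of k)) := ⟨CohB1.ProjSpace.toSpec n k⟩
  haveI : IsProper ((CohB1.ProjSpace n k) ↘ Spec (CommRingCat.of k)) := InvPow.isProper_toSpec n k
  have hO : PicF.IsInvertible (Twist.twistProjSpace n k (m - i)) := CohDual.isInvertible_twistProjSpace _
  let S := ShortComplex.mk φ (cokernel.π φ) (cokernel.condition φ)
  have hS : S.ShortExact := CohFinite.shortExact_cokernel φ
  have hQ : Coh.IsCoh (cokernel φ) := QCohLib.isCoh_cokernel φ hF'.1 hF
  have hT := HilbPoly.shortExact_tSC hS hO
  refine CohVanish.subsingleton_HH_of_shortExact₂ hT i (h i hi hin) ?_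
  refine HilbPoly.subsingleton_HH_of_dim (k := k) (HilbPoly.isCoh_tensorMod hQ hO) (d := 0) ?_ hi
  show topologicalKrullDim (CohB1.support (CohB1.tensorMod (cokernel φ) (Twist.twistProjSpace n k (m - i)))) ≤ _
  rw [HilbPoly.support_tensorMod _ hO]
  simpa using hsupp

end Groth.Agent.S12905
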