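import Groth.Statements.S12908
import Mathlib
-- import your own Groth.Agent.* helpers here

set_option autoImplicit false
universe u
open CAlgX

namespace Groth.Agent.S12908

open Matrix Pointwise

/-- maximal minor omitting row `i` -/
noncomputable abbrev minor {R : Type u} [CommRing R] {t : ℕ} (Ψ : Matrix (Fin (t + 1)) (Fin t) R) (i : Fin (t + 1)) : R :=
  (Ψ.submatrix (Fin.succAbove i) id).det

section
variable {R : Type u} [CommRing R] {t : ℕ} (Ψ : Matrix (Fin (t + 1)) (Fin t) R)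


lemma minorIdeal_eq : CAlgX.minorIdeal Ψ t = Ideal.span (Set.range fun i => minor Ψ i) := by
  refine le_antisymm (Ideal.span_le.2 ?_) (Ideal.span_mono ?_)
  · rintro _ ⟨⟨f, g⟩, rfl⟩
    obtain ⟨i, hi⟩ : ∃ i, ∀ j, f j ≠ i := by
      by_contra! h
      simpa using Fintype.card_le_of_surjective f h
    choose σ hσ using fun j => Fin.exists_succAbove_eq (hi j)
    have e : Ψ.submatrix f g = ((1 : Matrix (Fin t) (Fin t) R).submatrix σ id * Ψ.submatrix i.succAbove id) *
        (1 : Matrix (Fin t) (Fin t) R).submatrix id g := by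
      ext a b
      simp [Matrix.mul_apply, Matrix.one_apply, hσ]
    show (Ψ.submatrix f g).det ∈ _
    rw [e, Matrix.det_mul, Matrix.det_mul]
    exact Ideal.mul_mem_right _ _ (Ideal.mul_mem_left _ _ (Ideal.subset_span ⟨i, rfl⟩))
  · rintro _ ⟨i, rfl⟩
    exact ⟨(i.succAbove, id), rfl⟩

/-- `[v | Ψ]` -/
def aug (v : Fin (t + 1) → R) : Matrix (Fin (t + 1)) (Fin (t + 1)) R := Matrix.of fun i => Fin.cons (v i) (Ψ i)

lemma aug_submatrix (v : Fin (t + 1) → R) (i : Fin (t + 1)) :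
    (aug Ψ v).submatrix i.succAbove Fin.succ = Ψ.submatrix i.succAbove id := by
  ext a b; simp [aug]

lemma det_aug (v : Fin (t + 1) → R) : (aug Ψ v).det = ∑ i, v i * ((-1) ^ (i : ℕ) * minor Ψ i) := by
  rw [Matrix.det_succ_column_zero]
  refine Finset.sum_congr rfl fun i _ => ?_
  rw [aug_submatrix]
  simp [aug]; ring

lemma sum_mul_image (w : Fin t → R) : ∑ i, (Ψ *ᵥ w) i * ((-1) ^ (i : ℕ) * minor Ψ i) = 0 := by
  have h : ∀ j, ∑ i, Ψ i j * ((-1) ^ (i : ℕ) * minor Ψ i) = 0 := fun j => by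
    rw [← det_aug Ψ (fun i => Ψ i j)]
    exact Matrix.det_zero_of_column_eq (Fin.succ_ne_zero j) fun k => by simp [aug]
  calc ∑ i, (Ψ *ᵥ w) i * ((-1) ^ (i : ℕ) * minor Ψ i)
      = ∑ j, w j * ∑ i, Ψ i j * ((-1) ^ (i : ℕ) * minor Ψ i) := by
        simp only [Matrix.mulVec, dotProduct, Finset.sum_mul, Finset.mul_sum]
        rw [Finset.sum_comm]
        exact Finset.sum_congr rfl fun j _ => Finset.sum_congr rfl fun i _ => by ring
    _ = 0 := by simp [h]

lemma D_smul_eq_zero (i : Fin (t + 1)) {w : Fin t → R} (h : Ψ *ᵥ w = 0) : (minor Ψ i) • w = 0 := by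
  have h1 : (Ψ.submatrix i.succAbove id) *ᵥ w = 0 := by
    funext a; exact congrFun h (i.succAbove a)
  have h2 := congrArg ((Ψ.submatrix i.succAbove id).adjugate *ᵥ ·) h1
  simpa [Matrix.mulVec_mulVec, Matrix.adjugate_mul, Matrix.smul_mulVec] using h2

lemma D_smul_mem (i : Fin (t + 1)) {v : Fin (t + 1) → R} (h : (aug Ψ v).det = 0) :
    (minor Ψ i) • v ∈ LinearMap.range Ψ.mulVecLin := by
  have h1 : ∀ a, ∑ k, aug Ψ v a k * (aug Ψ v).adjugate k i = 0 := fun a => by
    have := congrFun (congrFun (Matrix.mul_adjugate (aug Ψ v)) a) i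
    simpa [h, Matrix.mul_apply] using this
  refine ⟨fun j => - ((-1) ^ (i : ℕ) * (aug Ψ v).adjugate j.succ i), funext fun a => ?_⟩
  have h2 := h1 a
  rw [Fin.sum_univ_succ, Matrix.adjugate_fin_succ_eq_det_submatrix, Fin.succAbove_zero,
    aug_submatrix] at h2
  simp only [aug, Matrix.of_apply, Fin.cons_zero, Fin.cons_succ, Fin.val_zero, add_zero] at h2
  simp only [Matrix.mulVecLin_apply, Matrix.mulVec, dotProduct, Pi.smul_apply, smul_eq_mul,
    mul_neg, Finset.sum_neg_distrib, aug]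
  rw [show ∑ x, Ψ a x * ((-1) ^ (i : ℕ) * (Matrix.of fun i => Fin.cons (v i) (Ψ i)).adjugate x.succ i) =
      (-1) ^ (i : ℕ) * ∑ x, Ψ a x * (Matrix.of fun i => Fin.cons (v i) (Ψ i)).adjugate x.succ i by
    rw [Finset.mul_sum]; exact Finset.sum_congr rfl fun x _ => by ring]
  have h3 : ((-1 : R) ^ (i : ℕ)) * (-1) ^ (i : ℕ) = 1 := by rw [← mul_pow]; simp
  linear_combination (-((-1 : R) ^ (i : ℕ))) * h2 + (v a * minor Ψ i) * h3

lemma exists_pair (h : 2 ≤ LocCoh.idealDepth (CAlgX.minorIdeal Ψ t) R)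
    (htop : CAlgX.minorIdeal Ψ t ≠ ⊤) :
    ∃ x ∈ CAlgX.minorIdeal Ψ t, ∃ y ∈ CAlgX.minorIdeal Ψ t,
      IsSMulRegular R x ∧ ∀ r, x ∣ y * r → x ∣ r := by
  rw [LocCoh.idealDepth, if_neg (by simpa using htop)] at h
  obtain ⟨rs, hrs, hlen⟩ : ∃ rs : List R, (RingTheory.Sequence.IsWeaklyRegular R rs ∧
      ∀ r ∈ rs, r ∈ CAlgX.minorIdeal Ψ t) ∧ 2 ≤ rs.length := by
    by_contra! hc
    refine absurd h (not_le.2 ((iSup₂_le fun rs hrs => ?_).trans_lt (by norm_num : (1 : ℕ∞) < 2)))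
    exact_mod_cast Nat.le_of_lt_succ (hc rs hrs)
  obtain ⟨x, y, l, rfl⟩ : ∃ x y l, rs = x :: y :: l := by
    match rs, hlen with
    | x :: y :: l, _ => exact ⟨x, y, l, rfl⟩
  obtain ⟨hx, hy⟩ := (RingTheory.Sequence.isWeaklyRegular_cons_iff _ _ _).1 hrs.1
  refine ⟨x, hrs.2 x (by simp), y, hrs.2 y (by simp), hx, fun r hr => ?_⟩
  have hy' := ((RingTheory.Sequence.isWeaklyRegular_cons_iff _ _ _).1 hy).1
  have key : ∀ z : R, (Submodule.Quotient.mk z : QuotSMulTop x R) = 0 ↔ x ∣ z := fun z => by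
    rw [Submodule.Quotient.mk_eq_zero, ← Submodule.ideal_span_singleton_smul, smul_eq_mul,
      Ideal.mul_top, Ideal.mem_span_singleton]
  refine (key r).1 (hy'.right_eq_zero_of_smul ?_)
  rw [← Submodule.Quotient.mk_smul, smul_eq_mul]
  exact (key _).2 hr

lemma span_le_of_smul {M : Type u} [AddCommGroup M] [Module R M] (N : Submodule R M) (v : M)
    (h : ∀ i, (minor Ψ i) • v ∈ N) {c : R} (hc : c ∈ CAlgX.minorIdeal Ψ t) : c • v ∈ N := by
  rw [minorIdeal_eq] at hc
  refine (Ideal.span_le (I := N.comap (LinearMap.toSpanSingleton R M v))).2 ?_ hc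
  rintro _ ⟨i, rfl⟩
  exact h i

theorem core (hdepth : 2 ≤ LocCoh.idealDepth (CAlgX.minorIdeal Ψ t) R) (a : R) (ha : a ∈ nonZeroDivisors R) :
    LinearMap.ker Ψ.mulVecLin = ⊥ ∧
      LinearMap.ker (Fintype.linearCombination R
          (fun i : Fin (t + 1) => a * ((-1 : R) ^ (i : ℕ) * (Ψ.submatrix i.succAbove id).det))) =
        LinearMap.range Ψ.mulVecLin ∧
      LinearMap.range (Fintype.linearCombination R
          (fun i : Fin (t + 1) => a * ((-1 : R) ^ (i : ℕ) * (Ψ.submatrix i.succAbove id).det))) =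
        Ideal.span {a} * CAlgX.minorIdeal Ψ t := by
  have hker : ∀ w, Ψ *ᵥ w = 0 → w = 0 := by
    intro w hw
    have hc : ∀ c ∈ CAlgX.minorIdeal Ψ t, c • w = 0 := fun c hc =>
      (Submodule.mem_bot R).1 (span_le_of_smul Ψ ⊥ w (fun i => (Submodule.mem_bot R).2 (D_smul_eq_zero Ψ i hw)) hc)
    by_cases htop : CAlgX.minorIdeal Ψ t = ⊤
    · simpa using hc 1 (htop ▸ Submodule.mem_top)
    · obtain ⟨x, hx, _, _, hxr, _⟩ := exists_pair Ψ hdepth htop
      funext j
      exact hxr.right_eq_zero_of_smul (congrFun (hc x hx) j)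
  refine ⟨LinearMap.ker_eq_bot'.2 hker, le_antisymm ?_ ?_, ?_⟩
  · intro v hv
    rw [LinearMap.mem_ker, Fintype.linearCombination_apply] at hv
    have hdet : (aug Ψ v).det = 0 := by
      rw [det_aug]
      refine (mem_nonZeroDivisors_iff_right.1 ha) _ ?_
      rw [← hv, Finset.sum_mul]
      exact Finset.sum_congr rfl fun i _ => by rw [smul_eq_mul]; ring
    have hc : ∀ c ∈ CAlgX.minorIdeal Ψ t, c • v ∈ LinearMap.range Ψ.mulVecLin := fun c hc =>
      span_le_of_smul Ψ _ v (fun i => D_smul_mem Ψ i hdet) hc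
    by_cases htop : CAlgX.minorIdeal Ψ t = ⊤
    · simpa using hc 1 (htop ▸ Submodule.mem_top)
    · obtain ⟨x, hx, y, hy, hxr, hxy⟩ := exists_pair Ψ hdepth htop
      obtain ⟨w, hw⟩ := hc x hx
      obtain ⟨w', hw'⟩ := hc y hy
      have e : y • w = x • w' := by
        rw [← sub_eq_zero]
        refine hker _ ?_
        rw [Matrix.mulVec_sub, Matrix.mulVec_smul, Matrix.mulVec_smul]
        change y • Ψ.mulVecLin w - x • Ψ.mulVecLin w' = 0
        rw [hw, hw', smul_comm, sub_self]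
      choose u hu using fun j => hxy (w j) ⟨w' j, by simpa using congrFun e j⟩
      refine ⟨u, funext fun k => hxr ?_⟩
      have hwu : w = x • u := funext fun j => by simp [hu j]
      change x • Ψ.mulVecLin u k = x • v k
      rw [← Pi.smul_apply, ← map_smul, ← hwu, hw, Pi.smul_apply]
  · rintro _ ⟨w, rfl⟩
    rw [LinearMap.mem_ker, Fintype.linearCombination_apply]
    have := sum_mul_image Ψ w
    calc _ = a * ∑ i, (Ψ *ᵥ w) i * ((-1) ^ (i : ℕ) * minor Ψ i) := by
          rw [Finset.mul_sum]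
          exact Finset.sum_congr rfl fun i _ => by simp only [Matrix.mulVecLin_apply, smul_eq_mul]; ring
      _ = 0 := by rw [this, mul_zero]
  · rw [Fintype.range_linearCombination, minorIdeal_eq, Ideal.span_mul_span']
    refine le_antisymm (Submodule.span_le.2 ?_) (Submodule.span_le.2 ?_)
    · rintro _ ⟨i, rfl⟩
      refine (?_ : a * ((-1) ^ (i : ℕ) * minor Ψ i) ∈ Ideal.span (({a} : Set R) * Set.range fun i => minor Ψ i))
      rw [mul_left_comm]
      exact Ideal.mul_mem_left _ _ (Ideal.subset_span ⟨a, rfl, _, ⟨i, rfl⟩, rfl⟩)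
    · rintro _ ⟨b, hb, _, ⟨i, rfl⟩, rfl⟩
      rw [Set.mem_singleton_iff.1 hb]
      have h3 : ((-1 : R) ^ (i : ℕ)) * (-1) ^ (i : ℕ) = 1 := by rw [← mul_pow]; simp
      have := Submodule.smul_mem (Submodule.span R (Set.range fun i : Fin (t + 1) =>
        a * ((-1 : R) ^ (i : ℕ) * minor Ψ i))) ((-1) ^ (i : ℕ)) (Submodule.subset_span ⟨i, rfl⟩)
      rw [smul_eq_mul, show (-1 : R) ^ (i : ℕ) * (a * ((-1) ^ (i : ℕ) * minor Ψ i)) = a * minor Ψ i by
        linear_combination (a * minor Ψ i) * h3] at this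
      exact this

end


/-- Let R be a Noetherian ring, t a natural number, Ψ a (t+1) × t matrix over R such that the
I_t(Ψ)-depth of R is at least 2, where I_t(Ψ) is the ideal generated by the t × t minors of Ψ, and a
a non-zero-divisor of R. Put Δ_i = a · (-1)^i det Ψ_i, where Ψ_i is Ψ with row i deleted. Then 0 →
R^t → R^{t+1} → R, with first map Ψ and second map v ↦ Σ_i Δ_i v_i, is exact: Ψ is injective and the
kernel of the second map equals the image of Ψ; moreover the image of the second map is the ideal a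
· I_t(Ψ). (The published statement adds that this ideal has depth 2 exactly when a is a unit; that
clause is not stated here.) -/
theorem result {R : Type u} [CommRing R] [IsNoetherianRing R] (t : ℕ)
    (Ψ : Matrix (Fin (t + 1)) (Fin t) R) (hdepth : 2 ≤ LocCoh.idealDepth (CAlgX.minorIdeal Ψ t) R)
    (a : R) (ha : a ∈ nonZeroDivisors R) :
    LinearMap.ker Ψ.mulVecLin = ⊥ ∧
      LinearMap.ker (Fintype.linearCombination R
          (fun i : Fin (t + 1) => a * ((-1 : R) ^ (i : ℕ) * (Ψ.submatrix i.succAbove id).det))) =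
        LinearMap.range Ψ.mulVecLin ∧
      LinearMap.range (Fintype.linearCombination R
          (fun i : Fin (t + 1) => a * ((-1 : R) ^ (i : ℕ) * (Ψ.submatrix i.succAbove id).det))) =
        Ideal.span {a} * CAlgX.minorIdeal Ψ t := by
  exact core Ψ hdepth a ha

end Groth.Agent.S12908
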