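import Groth.Statements.S12907
import Mathlib
import Groth.Agent.S12908
-- import your own Groth.Agent.* helpers here

set_option autoImplicit false
universe u
open CAlgX

namespace Groth.Agent.S12907

open Matrix

lemma minorIdeal_eq' {R : Type u} [CommRing R] {n m : ℕ} (Ψ : Matrix (Fin n) (Fin m) R) :
    CAlgX.minorIdeal Ψ m = Ideal.span (Set.range fun f : Fin m → Fin n => (Ψ.submatrix f id).det) := by
  refine le_antisymm (Ideal.span_le.2 ?_) (Ideal.span_mono ?_)
  · rintro _ ⟨⟨f, g⟩, rfl⟩
    have e : Ψ.submatrix f g = Ψ.submatrix f id * (1 : Matrix (Fin m) (Fin m) R).submatrix id g := by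
      ext a b
      simp [Matrix.mul_apply, Matrix.one_apply]
    show (Ψ.submatrix f g).det ∈ _
    rw [e, Matrix.det_mul]
    exact Ideal.mul_mem_right _ _ (Ideal.subset_span ⟨f, rfl⟩)
  · rintro _ ⟨f, rfl⟩
    exact ⟨(f, id), rfl⟩

/-- No associated prime of `R ⧸ J` contains the maximal minors when `Ψ` is injective modulo `J`. -/
lemma minor_not_le {R : Type u} [CommRing R] [IsNoetherianRing R] {n m : ℕ} (Ψ : Matrix (Fin n) (Fin m) R)
    (hmn : m ≤ n) (J : Ideal R) (hinj : ∀ v : Fin m → R, (∀ a, (Ψ *ᵥ v) a ∈ J) → ∀ j, v j ∈ J)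
    (p : Ideal R) (hp : p ∈ associatedPrimes R (R ⧸ J)) : ¬ CAlgX.minorIdeal Ψ m ≤ p := by
  classical
  obtain ⟨hpr, φ, hφ⟩ := (isAssociatedPrime_iff_exists_injective_linearMap p (R ⧸ J)).mp hp
  obtain ⟨z, hz⟩ := Ideal.Quotient.mk_surjective (φ 1)
  have hzp : ∀ r, r * z ∈ J ↔ r ∈ p := fun r => by
    rw [← Ideal.Quotient.eq_zero_iff_mem, map_mul, hz,
      show Ideal.Quotient.mk J r * φ 1 = φ (r • (1 : R ⧸ p)) by rw [map_smul]; rfl,
      map_eq_zero_iff _ hφ, ← Ideal.Quotient.eq_zero_iff_mem]
    rw [Algebra.smul_def, mul_one, Ideal.Quotient.algebraMap_eq]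
  intro hle
  haveI := hpr
  let K := FractionRing (R ⧸ p)
  let g : R →+* K := (algebraMap (R ⧸ p) K).comp (Ideal.Quotient.mk p)
  have hg : ∀ r, g r = 0 ↔ r ∈ p := fun r => by
    rw [RingHom.comp_apply, map_eq_zero_iff _ (IsFractionRing.injective (R ⧸ p) K), Ideal.Quotient.eq_zero_iff_mem]
  have hli : ¬ LinearIndependent K (Ψ.map g).col := by
    intro hli
    have hrank : (Ψ.map g).rank = m := by
      rw [Matrix.rank_eq_finrank_span_cols, finrank_span_eq_card hli, Fintype.card_fin]
    obtain ⟨f, hf⟩ : ∃ f : Fin m → Fin n, IsUnit ((Ψ.map g).submatrix f id).det := by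
      obtain ⟨f, a, hinj, hspan⟩ := Submodule.exists_fun_fin_finrank_span_eq K (Set.range (Ψ.map g).row)
      have hfr : Module.finrank K (Submodule.span K (Set.range (Ψ.map g).row)) = m := by
        rw [← Matrix.rank_eq_finrank_span_row, hrank]
      choose f' hf' using fun i => a i
      refine ⟨fun i => f' (finCongr hfr.symm i), ?_⟩
      rw [← Matrix.isUnit_iff_isUnit_det, ← Matrix.linearIndependent_rows_iff_isUnit]
      have : ((Ψ.map g).submatrix (fun i => f' (finCongr hfr.symm i)) id).row = f ∘ finCongr hfr.symm := by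
        funext i j
        exact congrFun (hf' (finCongr hfr.symm i)) j
      rw [this]
      exact hspan.comp _ (finCongr hfr.symm).injective
    refine hf.ne_zero ?_
    rw [show (Ψ.map g).submatrix f id = (Ψ.submatrix f id).map g from rfl, ← RingHom.mapMatrix_apply,
      ← RingHom.map_det, hg]
    exact hle (by rw [minorIdeal_eq']; exact Ideal.subset_span ⟨f, rfl⟩)
  rw [Fintype.not_linearIndependent_iff] at hli
  obtain ⟨v, hv, j, hj⟩ := hli
  obtain ⟨⟨d, hd⟩, hdv⟩ := IsLocalization.exist_integer_multiples (nonZeroDivisors (R ⧸ p)) Finset.univ v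
  choose w' hw' using fun i => hdv i (Finset.mem_univ i)
  choose w hw using fun i => Ideal.Quotient.mk_surjective (w' i)
  have hgw : ∀ i, g (w i) = algebraMap (R ⧸ p) K d * v i := fun i => by
    rw [RingHom.comp_apply, hw, hw', Algebra.smul_def]
  have hrow : ∀ a, (Ψ *ᵥ w) a ∈ p := fun a => by
    rw [← hg]
    simp only [Matrix.mulVec, dotProduct, map_sum, map_mul, hgw]
    have := congrFun hv a
    simp only [Finset.sum_apply, Pi.smul_apply, smul_eq_mul, Pi.zero_apply] at this
    rw [← mul_zero (algebraMap (R ⧸ p) K d), ← this, Finset.mul_sum]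
    exact Finset.sum_congr rfl fun i _ => by simp [Matrix.col_apply]; ring
  have hzw : ∀ i, w i ∈ p := fun i => (hzp _).mp <| by
    have := hinj (z • w) (fun a => by
      rw [Matrix.mulVec_smul, Pi.smul_apply, smul_eq_mul, mul_comm]
      exact (hzp _).mpr (hrow a)) i
    rwa [Pi.smul_apply, smul_eq_mul, mul_comm] at this
  refine hj (((mul_eq_zero.mp (hgw j ▸ (hg _).mpr (hzw j)))).resolve_left ?_)
  rw [map_eq_zero_iff _ (IsFractionRing.injective (R ⧸ p) K)]
  exact nonZeroDivisors.ne_zero hd

/-- A family of ideals each not below the primes: an element avoiding all of them. -/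
lemma exists_regular {R : Type u} [CommRing R] [IsNoetherianRing R] (J I : Ideal R)
    (h : ∀ p ∈ associatedPrimes R (R ⧸ J), ¬ I ≤ p) :
    ∃ y ∈ I, ∀ z, y * z ∈ J → z ∈ J := by
  classical
  have hfin := associatedPrimes.finite R (R ⧸ J)
  have hns : ¬ (I : Set R) ⊆ ⋃ p ∈ (↑hfin.toFinset : Set (Ideal R)), (p : Set R) := by
    intro hsub
    obtain ⟨p, hp, hle⟩ := (Ideal.subset_union_prime (f := id) (s := hfin.toFinset) (I := I) ⊥ ⊥ fun p hp _ _ => (hfin.mem_toFinset.mp hp).isPrime).mp hsub
    exact h p (hfin.mem_toFinset.mp hp) hle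
  obtain ⟨y, hy, hy'⟩ := Set.not_subset.mp hns
  refine ⟨y, hy, fun z hz => ?_⟩
  rw [hfin.coe_toFinset, biUnion_associatedPrimes_eq_zero_divisors] at hy'
  by_contra hc
  refine hy' ⟨Ideal.Quotient.mk J z, fun h0 => hc (Ideal.Quotient.eq_zero_iff_mem.mp h0), ?_⟩
  rw [Algebra.smul_def, Ideal.Quotient.algebraMap_eq, ← map_mul, Ideal.Quotient.eq_zero_iff_mem]
  exact hz

/-- Let R be a Noetherian ring and I a nonzero ideal admitting a free resolution 0 → R^m → R^n → I → 0:
an injective matrix Ψ with n rows and m columns, and a linear map π : R^n → R with image I whose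
kernel is the image of Ψ. Then n = m + 1; there is a non-zero-divisor a with I = a · I_m(Ψ), where
I_m(Ψ) is the ideal generated by the m × m minors of Ψ; and the I_m(Ψ)-depth of R is at least 2.
(The published statement also asserts that this depth is exactly 2; only the lower bound is stated
here. The hypothesis that I is nonzero is implicit in the published statement.) -/
theorem result {R : Type u} [CommRing R] [IsNoetherianRing R] (m n : ℕ)
    (Ψ : Matrix (Fin n) (Fin m) R) (π : (Fin n → R) →ₗ[R] R)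
    (hΨ : LinearMap.ker Ψ.mulVecLin = ⊥) (hex : LinearMap.ker π = LinearMap.range Ψ.mulVecLin)
    (hI : LinearMap.range π ≠ ⊥) :
    n = m + 1 ∧
      (∃ a : R, a ∈ nonZeroDivisors R ∧ LinearMap.range π = Ideal.span {a} * CAlgX.minorIdeal Ψ m) ∧
      2 ≤ LocCoh.idealDepth (CAlgX.minorIdeal Ψ m) R := by
  classical
  have hker : ∀ w, Ψ *ᵥ w = 0 → w = 0 := LinearMap.ker_eq_bot'.1 hΨ
  let b : Fin n → R := fun i => π (Pi.single i 1)
  have hπ : ∀ v, π v = ∑ i, v i * b i := fun v => by
    conv_lhs => rw [← Finset.univ_sum_single v]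
    rw [map_sum]
    exact Finset.sum_congr rfl fun i _ => by
      rw [show Pi.single i (v i) = v i • (Pi.single i 1 : Fin n → R) by
        funext l; simp [Pi.single_apply], map_smul, smul_eq_mul]
  have hbne : ∃ i, b i ≠ 0 := by
    by_contra! hc
    refine hI (LinearMap.range_eq_bot.2 (LinearMap.ext fun v => ?_))
    rw [hπ, LinearMap.zero_apply]
    exact Finset.sum_eq_zero fun i _ => by rw [hc i, mul_zero]
  haveI : Nontrivial R := by
    obtain ⟨i, hi⟩ := hbne
    exact ⟨⟨_, _, hi⟩⟩
  have hmn : m ≤ n := le_of_fin_injective R Ψ.mulVecLin (LinearMap.ker_eq_bot.1 hΨ)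
  have hbΨ : ∀ w, ∑ i, (Ψ *ᵥ w) i * b i = 0 := fun w => by
    rw [← hπ, ← LinearMap.mem_ker, hex]
    exact ⟨w, rfl⟩
  obtain ⟨x, hx, hxreg⟩ := exists_regular (⊥ : Ideal R) (CAlgX.minorIdeal Ψ m) fun p hp =>
    minor_not_le Ψ hmn ⊥ (fun v hv j => by
      rw [Ideal.mem_bot, hker v (funext fun a => Ideal.mem_bot.1 (hv a))]; rfl) p hp
  simp only [Ideal.mem_bot] at hxreg
  -- the rank
  have hnm : n = m + 1 := by
    by_contra hne
    obtain ⟨i₀, hi₀⟩ := hbne
    have key : ∀ f : Fin m → Fin n, (Ψ.submatrix f id).det ^ 2 * b i₀ = 0 := by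
      intro f
      set δ := (Ψ.submatrix f id).det
      by_cases hf : Function.Injective f
      swap
      · have : δ = 0 := by
          simp only [Function.Injective, not_forall] at hf
          obtain ⟨a, a', haa, hne'⟩ := hf
          exact Matrix.det_zero_of_row_eq hne' (funext fun j => by simp [haa])
        rw [this]; ring
      have hout : ∀ i, i ∉ Finset.univ.image f → δ * b i = 0 := by
        intro i hi
        have hlt : m + 1 < n := by
          rcases Nat.lt_or_ge m n with h | h
          · omega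
          · exfalso
            have : (Finset.univ.image f) = Finset.univ := Finset.eq_univ_of_card _ (by
              rw [Finset.card_image_of_injective _ hf]; simp; omega)
            exact hi (this ▸ Finset.mem_univ i)
        obtain ⟨i', hi'⟩ : ∃ i', i' ∉ insert i (Finset.univ.image f) := by
          by_contra! hall
          have h1 := Finset.card_le_card (fun a _ => hall a : (Finset.univ : Finset (Fin n)) ⊆ insert i (Finset.univ.image f))
          have h2 := Finset.card_insert_le i (Finset.univ.image f)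
          rw [Finset.card_image_of_injective _ hf] at h2
          simp at h1 h2
          omega
        rw [Finset.mem_insert, not_or] at hi'
        obtain ⟨w, hw⟩ : (b i • Pi.single i' 1 - b i' • Pi.single i 1 : Fin n → R) ∈ LinearMap.range Ψ.mulVecLin := by
          rw [← hex, LinearMap.mem_ker, map_sub, map_smul, map_smul, smul_eq_mul, smul_eq_mul]
          show b i * b i' - b i' * b i = 0
          ring
        have h0 : (Ψ.submatrix f id) *ᵥ w = 0 := by
          funext a
          have := congrFun hw (f a)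
          rw [Matrix.mulVecLin_apply] at this
          refine this.trans ?_
          rw [Pi.sub_apply, Pi.smul_apply, Pi.smul_apply,
            Pi.single_eq_of_ne (fun e : f a = i' => hi'.2 (Finset.mem_image.2 ⟨a, Finset.mem_univ _, e⟩)),
            Pi.single_eq_of_ne (fun e : f a = i => hi (Finset.mem_image.2 ⟨a, Finset.mem_univ _, e⟩))]
          simp
        have h1 : δ • w = 0 := by
          have h2 := congrArg ((Ψ.submatrix f id).adjugate *ᵥ ·) h0
          simpa [Matrix.mulVec_mulVec, Matrix.adjugate_mul, Matrix.smul_mulVec] using h2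
        have h3 := congrFun (congrArg Ψ.mulVecLin h1) i'
        rw [map_smul, hw, map_zero] at h3
        simpa [Pi.single_apply, hi'.1] using h3
      by_cases hin : i₀ ∈ Finset.univ.image f
      swap
      · rw [sq, mul_assoc, hout i₀ hin, mul_zero]
      obtain ⟨a, -, rfl⟩ := Finset.mem_image.1 hin
      have h4 : ∀ j, δ * ∑ a', Ψ (f a') j * b (f a') = 0 := fun j => by
        have := congrArg (δ * ·) (hbΨ (Pi.single j 1))
        simp only [Matrix.mulVec_single_one, Matrix.col_apply, mul_zero] at this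
        rw [← Finset.sum_add_sum_compl (Finset.univ.image f), mul_add, Finset.sum_image fun _ _ _ _ h => hf h,
          Finset.mul_sum (s := (Finset.univ.image f)ᶜ)] at this
        have hz : ∀ i ∈ (Finset.univ.image f)ᶜ, δ * (Ψ i j * b i) = 0 := fun i hi => by
          rw [mul_left_comm, hout i (Finset.mem_compl.1 hi), mul_zero]
        rw [Finset.sum_eq_zero hz, add_zero] at this
        exact this
      have h5 : ((δ • fun a' => b (f a')) ᵥ* (Ψ.submatrix f id)) = 0 := funext fun j => by
        rw [Matrix.smul_vecMul, Pi.smul_apply, smul_eq_mul, Pi.zero_apply, ← h4 j]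
        simp [Matrix.vecMul, dotProduct, mul_comm]
      have h6 := congrFun (congrArg (· ᵥ* (Ψ.submatrix f id).adjugate) h5) a
      simp [Matrix.vecMul_vecMul, Matrix.mul_adjugate, Matrix.vecMul_smul] at h6
      linear_combination h6
    have hsq : x ∈ (Ideal.span (Set.range fun f : Fin m → Fin n => (Ψ.submatrix f id).det ^ 2)).radical := by
      refine (show CAlgX.minorIdeal Ψ m ≤ _ from ?_) hx
      rw [minorIdeal_eq', Ideal.span_le]
      rintro _ ⟨f, rfl⟩
      exact ⟨2, Ideal.subset_span ⟨f, rfl⟩⟩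
    obtain ⟨N, hN⟩ := hsq
    have h7 : x ^ N * b i₀ = 0 := by
      refine Submodule.span_induction (p := fun c _ => c * b i₀ = 0) ?_ (zero_mul _)
        (fun a a' _ _ h h' => by rw [add_mul, h, h', add_zero]) (fun r a _ h => by rw [smul_eq_mul, mul_assoc, h, mul_zero]) hN
      rintro _ ⟨f, rfl⟩
      exact key f
    refine hi₀ ?_
    clear hN
    induction N with
    | zero => simpa using h7
    | succ N ih => exact ih (hxreg _ (by rw [← mul_assoc, ← pow_succ']; exact h7))
  subst hnm
  -- the multiplier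
  let D : Fin (m + 1) → R := fun i => (-1) ^ (i : ℕ) * Groth.Agent.S12908.minor Ψ i
  have hbD : ∀ i j, b i * D j = b j * D i := by
    intro i j
    refine sub_eq_zero.1 (hxreg _ ?_)
    let v : Fin (m + 1) → R := D j • Pi.single i 1 - D i • Pi.single j 1
    have hdet : (Groth.Agent.S12908.aug Ψ v).det = 0 := by
      rw [Groth.Agent.S12908.det_aug]
      simp [v, sub_mul, Finset.sum_sub_distrib, Pi.single_apply, D]
      ring
    obtain ⟨w, hw⟩ := Groth.Agent.S12908.span_le_of_smul Ψ _ v
      (fun l => Groth.Agent.S12908.D_smul_mem Ψ l hdet) hx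
    have : π (x • v) = 0 := by rw [← LinearMap.mem_ker, hex]; exact ⟨w, hw⟩
    rw [map_smul, smul_eq_mul, map_sub, map_smul, map_smul] at this
    rw [← this]
    simp only [smul_eq_mul, b]
    ring
  have hspan : CAlgX.minorIdeal Ψ m = Ideal.span (Set.range D) := by
    rw [Groth.Agent.S12908.minorIdeal_eq]
    refine le_antisymm (Ideal.span_le.2 ?_) (Ideal.span_le.2 ?_)
    · rintro _ ⟨i, rfl⟩
      have h3 : ((-1 : R) ^ (i : ℕ)) * (-1) ^ (i : ℕ) = 1 := by rw [← mul_pow]; simp
      show Groth.Agent.S12908.minor Ψ i ∈ Ideal.span (Set.range D)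
      rw [show Groth.Agent.S12908.minor Ψ i = (-1) ^ (i : ℕ) * D i by simp only [D]; rw [← mul_assoc, h3, one_mul]]
      exact Ideal.mul_mem_left _ _ (Ideal.subset_span ⟨i, rfl⟩)
    · rintro _ ⟨i, rfl⟩
      exact Ideal.mul_mem_left _ _ (Ideal.subset_span ⟨i, rfl⟩)
  have hlin : ∀ c ∈ CAlgX.minorIdeal Ψ m, ∃ β, ∀ i, β * D i = c * b i := by
    intro c hc
    rw [hspan, Ideal.mem_span_range_iff_exists_fun] at hc
    obtain ⟨r, rfl⟩ := hc
    refine ⟨∑ j, r j * b j, fun i => ?_⟩
    rw [Finset.sum_mul, Finset.sum_mul]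
    exact Finset.sum_congr rfl fun j _ => by rw [mul_assoc, hbD j i]; ring
  obtain ⟨y, hy, hyreg⟩ := exists_regular (Ideal.span {x}) (CAlgX.minorIdeal Ψ m) fun p hp =>
    minor_not_le Ψ hmn (Ideal.span {x}) (fun v hv j => by
      choose u hu using fun a => Ideal.mem_span_singleton.1 (hv a)
      have hu0 : π u = 0 := hxreg _ (by
        rw [← smul_eq_mul, ← map_smul, ← LinearMap.mem_ker, hex]
        exact ⟨v, funext fun a => hu a⟩)
      obtain ⟨w, hw⟩ : u ∈ LinearMap.range Ψ.mulVecLin := hex ▸ LinearMap.mem_ker.2 hu0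
      have hvw : v = x • w := by
        rw [← sub_eq_zero]
        refine hker _ (funext fun a => ?_)
        rw [Matrix.mulVec_sub, Matrix.mulVec_smul, Pi.sub_apply, Pi.smul_apply, hu a,
          show (Ψ *ᵥ w) a = u a from congrFun hw a, smul_eq_mul, sub_self]
        rfl
      rw [hvw]; exact Ideal.mem_span_singleton.2 ⟨w j, rfl⟩) p hp
  obtain ⟨βx, hβx⟩ := hlin x hx
  obtain ⟨βy, hβy⟩ := hlin y hy
  have hD0 : ∀ r, (∀ i, r * D i = 0) → r = 0 := fun r hr => hxreg r (by
    have h := hx
    rw [hspan, Ideal.mem_span_range_iff_exists_fun] at h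
    obtain ⟨c, hc⟩ := h
    rw [← hc, Finset.sum_mul]
    exact Finset.sum_eq_zero fun i _ => by rw [mul_assoc, mul_comm (D i), hr i, mul_zero])
  have hcross : βx * y = βy * x := sub_eq_zero.1 (hD0 _ fun i => by linear_combination y * hβx i - x * hβy i)
  obtain ⟨a, ha⟩ := Ideal.mem_span_singleton.1 (hyreg βx (Ideal.mem_span_singleton.2 ⟨βy, by rw [mul_comm, hcross, mul_comm]⟩))
  have hba : ∀ i, b i = a * D i := fun i => sub_eq_zero.1 (hxreg _ (by
    have := hβx i
    rw [ha] at this
    linear_combination -this))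
  refine ⟨rfl, ⟨a, ?_, ?_⟩, ?_⟩
  · rw [mem_nonZeroDivisors_iff_right]
    intro r hr
    have hrb : ∀ i, r * b i = 0 := fun i => by rw [hba, ← mul_assoc, hr, zero_mul]
    have hall : ∀ i, (r • Pi.single i 1 : Fin (m + 1) → R) ∈ LinearMap.range Ψ.mulVecLin := fun i => by
      rw [← hex, LinearMap.mem_ker, map_smul, smul_eq_mul]; exact hrb i
    refine hD0 r fun i => ?_
    obtain ⟨w, hw⟩ := hall i
    have := Groth.Agent.S12908.sum_mul_image Ψ w
    rw [show Ψ *ᵥ w = r • Pi.single i 1 from hw] at this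
    simpa [Pi.single_apply, D] using this
  · rw [hspan, Ideal.span_mul_span']
    refine le_antisymm ?_ (Ideal.span_le.2 ?_)
    · rintro _ ⟨v, rfl⟩
      rw [hπ]
      refine Ideal.sum_mem _ fun i _ => Ideal.mul_mem_left _ _ ?_
      rw [hba]
      exact Ideal.subset_span ⟨a, rfl, D i, ⟨i, rfl⟩, rfl⟩
    · rintro _ ⟨a', ha', _, ⟨i, rfl⟩, rfl⟩
      rw [Set.mem_singleton_iff.1 ha']
      exact ⟨Pi.single i 1, hba i⟩
  · rw [LocCoh.idealDepth]
    split_ifs with htop
    · exact le_top
    · refine le_trans ?_ (le_iSup₂ (f := fun (rs : List R) _ => (rs.length : ℕ∞)) [x, y] ⟨?_, by simp [hx, hy]⟩)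
      · simp
      · rw [RingTheory.Sequence.isWeaklyRegular_cons_iff, RingTheory.Sequence.isWeaklyRegular_cons_iff]
        refine ⟨isSMulRegular_iff_right_eq_zero_of_smul.2 fun r hr => hxreg r hr, ?_, RingTheory.Sequence.IsWeaklyRegular.nil _ _⟩
        refine isSMulRegular_iff_right_eq_zero_of_smul.2 fun q hq => ?_
        obtain ⟨z, rfl⟩ := Submodule.Quotient.mk_surjective _ q
        rw [← Submodule.Quotient.mk_smul, Submodule.Quotient.mk_eq_zero, ← Submodule.ideal_span_singleton_smul,
          smul_eq_mul, Ideal.mul_top] at hq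
        rw [Submodule.Quotient.mk_eq_zero, ← Submodule.ideal_span_singleton_smul, smul_eq_mul, Ideal.mul_top]
        exact hyreg z hq

end Groth.Agent.S12907
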