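import Groth.Statements.S12909
import Mathlib
-- import your own Groth.Agent.* helpers here

set_option autoImplicit false
universe u
open CAlgX

namespace Groth.Agent.S12909

section
open IsLocalRing TensorProduct

/-- the Euler characteristic of the tail -/
def chi (n : ℕ → ℕ) (e : ℕ) : ℕ → ℤ
  | 0 => n e
  | k + 1 => n (e - (k + 1)) - chi n e k

theorem free_coker {S : Type u} [CommRing S] [IsLocalRing S] (x0 : S) (hx0 : x0 ≠ 0)
    (hkill : ∀ a ∈ maximalIdeal S, a * x0 = 0) {C P : Type u} [AddCommGroup C] [Module S C]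
    [AddCommGroup P] [Module S P] [Module.Free S C] [Module.Finite S C] [Module.Free S P] [Module.Finite S P]
    (l : C →ₗ[S] P) (hl : Function.Injective l) : Module.Free S (P ⧸ LinearMap.range l) := by
  refine Module.free_of_lTensor_residueField_injective l (LinearMap.range l).mkQ (Submodule.mkQ_surjective _)
    (LinearMap.exact_iff.2 (Submodule.ker_mkQ _)) ?_
  rw [injective_iff_map_eq_zero]
  intro z hz
  have hsurj : ∀ z : (S ⧸ maximalIdeal S) ⊗[S] C, ∃ v, z = 1 ⊗ₜ v := by
    intro z
    induction z using TensorProduct.induction_on with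
    | zero => exact ⟨0, by simp⟩
    | tmul a v =>
      obtain ⟨a, rfl⟩ := Ideal.Quotient.mk_surjective a
      exact ⟨a • v, by rw [← TensorProduct.smul_tmul, Algebra.smul_def, mul_one]; rfl⟩
    | add z w hz hw =>
      obtain ⟨a, rfl⟩ := hz
      obtain ⟨b, rfl⟩ := hw
      exact ⟨a + b, by rw [TensorProduct.tmul_add]⟩
  obtain ⟨v, rfl⟩ := hsurj z
  change LinearMap.lTensor (S ⧸ maximalIdeal S) l ((1 : S ⧸ maximalIdeal S) ⊗ₜ[S] v) = 0 at hz
  have hlv : l v ∈ maximalIdeal S • (⊤ : Submodule S P) := by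
    have h := congrArg (TensorProduct.quotTensorEquivQuotSMul P (maximalIdeal S)) hz
    rw [map_zero, LinearMap.lTensor_tmul] at h
    have h' : (TensorProduct.quotTensorEquivQuotSMul P (maximalIdeal S)) ((1 : S ⧸ maximalIdeal S) ⊗ₜ l v) =
        Submodule.Quotient.mk (l v) := by
      rw [← map_one (Ideal.Quotient.mk (maximalIdeal S))]
      simp
    exact (Submodule.Quotient.mk_eq_zero _).1 (h'.symm.trans h)
  have h0 : ∀ w ∈ maximalIdeal S • (⊤ : Submodule S P), x0 • w = 0 := fun w hw => by
    induction hw using Submodule.smul_induction_on' with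
    | smul a ha m _ => rw [smul_smul, mul_comm, hkill a ha, zero_smul]
    | add a _ b _ ha hb => rw [smul_add, ha, hb, add_zero]
  have hxv : x0 • v = 0 := hl (by rw [map_smul, h0 _ hlv, map_zero])
  let bs := Module.Free.chooseBasis S C
  have hv : v ∈ maximalIdeal S • (⊤ : Submodule S C) := by
    rw [← bs.linearCombination_repr v, Finsupp.linearCombination_apply]
    refine Submodule.sum_mem _ fun i _ => Submodule.smul_mem_smul ?_ Submodule.mem_top
    intro hu
    have h := congrArg (fun w => bs.repr w i) hxv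
    simp only [map_smul, map_zero, Finsupp.smul_apply, Finsupp.coe_zero, Pi.zero_apply, smul_eq_mul] at h
    exact hx0 ((hu.mul_left_eq_zero).1 h)
  change ((1 : S ⧸ maximalIdeal S) ⊗ₜ[S] v : (S ⧸ maximalIdeal S) ⊗[S] C) = 0
  apply (TensorProduct.quotTensorEquivQuotSMul C (maximalIdeal S)).injective
  rw [map_zero, ← map_one (Ideal.Quotient.mk (maximalIdeal S)), quotTensorEquivQuotSMul_mk_tmul, one_smul]
  exact (Submodule.Quotient.mk_eq_zero _).2 hv

theorem finrank_quot {S : Type u} [CommRing S] [Nontrivial S] {C P : Type u} [AddCommGroup C] [Module S C]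
    [AddCommGroup P] [Module S P] [Module.Free S C] [Module.Finite S C] [Module.Free S P] [Module.Finite S P]
    (l : C →ₗ[S] P) (hl : Function.Injective l) [Module.Free S (P ⧸ LinearMap.range l)] :
    (Module.finrank S (P ⧸ LinearMap.range l) : ℤ) = Module.finrank S P - Module.finrank S C := by
  obtain ⟨s, hs⟩ := Module.projective_lifting_property (LinearMap.range l).mkQ LinearMap.id (Submodule.mkQ_surjective _)
  have hs' : ∀ q, (LinearMap.range l).mkQ (s q) = q := fun q => LinearMap.congr_fun hs q
  let φ : C × (P ⧸ LinearMap.range l) →ₗ[S] P := l.coprod s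
  have hq : ∀ c q, (LinearMap.range l).mkQ (l c + s q) = q := fun c q => by
    rw [map_add, hs', Submodule.mkQ_apply, (Submodule.Quotient.mk_eq_zero _).2 (LinearMap.mem_range_self l c), zero_add]
  have hb : Function.Bijective φ := by
    refine ⟨?_, fun y => ?_⟩
    · rintro ⟨c, q⟩ ⟨c', q'⟩ h
      change l c + s q = l c' + s q' at h
      have e : q = q' := by rw [← hq c q, h, hq]
      subst e
      rw [hl (add_right_cancel h)]
    · have h : y - s ((LinearMap.range l).mkQ y) ∈ LinearMap.range l := by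
        rw [← Submodule.Quotient.mk_eq_zero, ← Submodule.mkQ_apply, map_sub, hs', sub_self]
      obtain ⟨c, hc⟩ := h
      exact ⟨(c, (LinearMap.range l).mkQ y), by change l c + s ((LinearMap.range l).mkQ y) = y; rw [hc, sub_add_cancel]⟩
  rw [← (LinearEquiv.ofBijective φ hb).finrank_eq, Module.finrank_prod]
  push_cast
  ring

theorem exact_map {R S : Type u} [CommRing R] [CommRing S] [Algebra R S] (M : Submonoid R) [IsLocalization M S]
    {a b c : ℕ} (A : Matrix (Fin b) (Fin a) R) (B : Matrix (Fin c) (Fin b) R)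
    (h : LinearMap.ker B.mulVecLin = LinearMap.range A.mulVecLin) :
    LinearMap.ker (B.map (algebraMap R S)).mulVecLin = LinearMap.range (A.map (algebraMap R S)).mulVecLin := by
  classical
  refine le_antisymm (fun v hv => ?_) ?_
  · obtain ⟨s, hs⟩ := IsLocalization.exist_integer_multiples_of_finite M v
    choose w hw using hs
    have hBw : ∀ i, algebraMap R S (B.mulVec w i) = 0 := fun i => by
      rw [RingHom.map_mulVec, show algebraMap R S ∘ w = (s : R) • v from funext hw,
        ← algebraMap_smul S (s : R) v, Matrix.mulVec_smul, show (B.map (algebraMap R S)).mulVec v = 0 from hv]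
      simp
    choose t ht using fun i => (IsLocalization.map_eq_zero_iff M S _).1 (hBw i)
    let T : M := ∏ i, t i
    have hT : (T : R) • w ∈ LinearMap.ker B.mulVecLin := by
      rw [LinearMap.mem_ker, map_smul]
      funext i
      obtain ⟨d, hd⟩ := Finset.dvd_prod_of_mem t (Finset.mem_univ i)
      rw [Pi.smul_apply, smul_eq_mul, Pi.zero_apply, Matrix.mulVecLin_apply]
      change ((∏ i, t i : M) : R) * _ = 0
      rw [hd, Submonoid.coe_mul, mul_right_comm, ht i, zero_mul]
    rw [h] at hT
    obtain ⟨u', hu'⟩ := hT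
    have hU : IsUnit (algebraMap R S ((T : R) * s)) := IsLocalization.map_units S (T * s)
    refine ⟨(↑hU.unit⁻¹ : S) • (algebraMap R S ∘ u'), ?_⟩
    rw [map_smul, Matrix.mulVecLin_apply]
    have hmap : (A.map (algebraMap R S)).mulVec (algebraMap R S ∘ u') = algebraMap R S ((T : R) * s) • v := by
      funext i
      have h1 := congrFun hu' i
      rw [Matrix.mulVecLin_apply, Pi.smul_apply, smul_eq_mul] at h1
      rw [← RingHom.map_mulVec, h1, map_mul, hw i, Pi.smul_apply, smul_eq_mul, map_mul, Algebra.smul_def, mul_assoc]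
    rw [hmap, smul_smul, IsUnit.val_inv_mul, one_smul]
  · rintro _ ⟨v, rfl⟩
    have hBA : B * A = 0 := by
      ext i j
      have h1 : A.mulVec (Pi.single j 1) ∈ LinearMap.ker B.mulVecLin := h ▸ LinearMap.mem_range_self A.mulVecLin _
      have h2 := congrFun (LinearMap.mem_ker.1 h1) i
      rw [Matrix.mulVecLin_apply, Matrix.mulVec_mulVec] at h2
      simpa using h2
    rw [LinearMap.mem_ker, Matrix.mulVecLin_apply, Matrix.mulVecLin_apply, Matrix.mulVec_mulVec,
      ← Matrix.map_mul, hBA, Matrix.map_zero _ (map_zero _), Matrix.zero_mulVec]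

theorem exists_inj {R : Type u} [CommRing R] {M N : Type u} [AddCommGroup M] [Module R M] [AddCommGroup N] [Module R N]
    (f : M →ₗ[R] N) : ∃ l : (M ⧸ LinearMap.ker f) →ₗ[R] N, Function.Injective l ∧ LinearMap.range l = LinearMap.range f :=
  ⟨(LinearMap.ker f).liftQ f le_rfl, by rw [← LinearMap.ker_eq_bot, Submodule.ker_liftQ_eq_bot' _ _ rfl],
    Submodule.range_liftQ _ _ _⟩

theorem local_step {R : Type u} [CommRing R] [IsNoetherianRing R]
    (e : ℕ) (he : 1 ≤ e) (n : ℕ → ℕ) (A : (i : ℕ) → Matrix (Fin (n i)) (Fin (n (i + 1))) R)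
    (π : (Fin (n 0) → R) →ₗ[R] R)
    (h0 : LinearMap.ker π = LinearMap.range (A 0).mulVecLin)
    (hA : ∀ i, i + 2 ≤ e → LinearMap.ker (A i).mulVecLin = LinearMap.range (A (i + 1)).mulVecLin)
    (hlast : LinearMap.ker (A (e - 1)).mulVecLin = ⊥)
    (q : Ideal R) (hq : q ∈ associatedPrimes R R) (hor : LinearMap.range π ≤ q ∨ chi n e e = 0) :
    chi n e e = 0 ∧ ∀ y ∈ LinearMap.range π, ∃ t, t ∉ q ∧ t * y = 0 := by
  classical
  have hqp : q.IsPrime := hq.isPrime
  let S := Localization.AtPrime q
  obtain ⟨-, x, hx⟩ := isAssociatedPrime_iff.1 hq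
  let x0 : S := algebraMap R S x
  have hx0 : x0 ≠ 0 := fun h => by
    obtain ⟨⟨t, ht⟩, h'⟩ := (IsLocalization.map_eq_zero_iff q.primeCompl S x).1 h
    exact ht (by rw [hx, SetLike.mem_coe, Submodule.mem_colon_singleton, Submodule.mem_bot, smul_eq_mul]; exact h')
  have hkill : ∀ a ∈ maximalIdeal S, a * x0 = 0 := fun a ha => by
    rw [← Localization.AtPrime.map_eq_maximalIdeal] at ha
    refine Submodule.span_induction ?_ (zero_mul _) (fun a b _ _ ha hb => by rw [add_mul, ha, hb, add_zero])
      (fun r b _ hb => by rw [smul_eq_mul, mul_assoc, hb, mul_zero]) ha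
    rintro _ ⟨r, hr, rfl⟩
    rw [SetLike.mem_coe, hx, Submodule.mem_colon_singleton, Submodule.mem_bot, smul_eq_mul] at hr
    rw [← map_mul, hr, map_zero]
  let f : ∀ i, (Fin (n (i + 1)) → S) →ₗ[S] (Fin (n i) → S) := fun i => ((A i).map (algebraMap R S)).mulVecLin
  have hf : ∀ i, i + 2 ≤ e → LinearMap.ker (f i) = LinearMap.range (f (i + 1)) := fun i hi =>
    exact_map q.primeCompl (A (i + 1)) (A i) (hA i hi)
  have hfl : LinearMap.ker (f (e - 1)) = ⊥ := by
    have h := exact_map q.primeCompl (S := S) (0 : Matrix (Fin (n (e - 1 + 1))) (Fin 0) R) (A (e - 1)) (by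
      rw [hlast, Matrix.mulVecLin_zero, LinearMap.range_zero])
    rw [Matrix.map_zero _ (map_zero _), Matrix.mulVecLin_zero, LinearMap.range_zero] at h
    exact h
  have key : ∀ k i, i + k + 1 = e → Module.Free S ((Fin (n i) → S) ⧸ LinearMap.range (f i)) ∧
      (Module.finrank S ((Fin (n i) → S) ⧸ LinearMap.range (f i)) : ℤ) = chi n e (k + 1) := by
    intro k
    induction k with
    | zero =>
      intro i hi
      obtain rfl : i = e - 1 := by omega
      have hinj := LinearMap.ker_eq_bot.1 hfl
      have := free_coker x0 hx0 hkill (f (e - 1)) hinj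
      refine ⟨this, ?_⟩
      rw [finrank_quot (f (e - 1)) hinj, Module.finrank_fin_fun, Module.finrank_fin_fun, show e - 1 + 1 = e by omega]
      simp [chi]
    | succ k ih =>
      intro i hi
      obtain ⟨hfree, hrank⟩ := ih (i + 1) (by omega)
      obtain ⟨l, hl, hlr⟩ := exists_inj (f i)
      let E := Submodule.quotEquivOfEq _ _ (hf i (by omega))
      have : Module.Free S ((Fin (n (i + 1)) → S) ⧸ LinearMap.ker (f i)) := Module.Free.of_equiv E.symm
      have hfree' := free_coker x0 hx0 hkill l hl
      rw [← hlr]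
      refine ⟨hfree', ?_⟩
      rw [finrank_quot l hl, Module.finrank_fin_fun, E.finrank_eq, hrank, show chi n e (k + 1 + 1) = n (e - (k + 1 + 1)) - chi n e (k + 1) from rfl]
      rw [show e - (k + 1 + 1) = i by omega]
  obtain ⟨hfree, hrank⟩ := key (e - 1) 0 (by omega)
  rw [show e - 1 + 1 = e by omega] at hrank
  let P1 : Matrix (Fin 1) (Fin (n 0)) R := Matrix.of fun _ j => π (Pi.single j 1)
  have hP1 : ∀ v, P1.mulVec v 0 = π v := fun v => by
    conv_rhs => rw [pi_eq_sum_univ' v, map_sum]
    simp [P1, Matrix.mulVec, dotProduct, mul_comm]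
  let g : (Fin (n 0) → S) →ₗ[S] (Fin 1 → S) := (P1.map (algebraMap R S)).mulVecLin
  have hg : LinearMap.ker g = LinearMap.range (f 0) := by
    refine exact_map q.primeCompl (A 0) P1 ?_
    rw [← h0]
    ext v
    simp only [LinearMap.mem_ker, Matrix.mulVecLin_apply, ← hP1 v]
    exact ⟨fun h => congrFun h 0, fun h => funext fun i => by rw [Subsingleton.elim i 0]; exact h⟩
  obtain ⟨l, hl, hlr⟩ := exists_inj g
  let E := Submodule.quotEquivOfEq _ _ hg
  have : Module.Free S ((Fin (n 0) → S) ⧸ LinearMap.ker g) := Module.Free.of_equiv E.symm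
  have hgy : ∀ v, g (algebraMap R S ∘ v) 0 = algebraMap R S (π v) := fun v => by
    rw [Matrix.mulVecLin_apply, ← RingHom.map_mulVec, hP1]
  have hg0 : g = 0 := by
    rcases hor with hor | hor
    · have hfree' := free_coker x0 hx0 hkill l hl
      rw [hlr] at hfree'
      have hmax : ∀ w ∈ LinearMap.range g, w 0 ∈ maximalIdeal S := by
        rintro _ ⟨v, rfl⟩
        simp only [g, Matrix.mulVecLin_apply, Matrix.mulVec, dotProduct]
        refine Submodule.sum_mem _ fun j _ => Ideal.mul_mem_right _ _ ?_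
        rw [Matrix.map_apply, IsLocalization.AtPrime.to_map_mem_maximal_iff S q]
        exact hor (LinearMap.mem_range_self π _)
      obtain ⟨v0, hv0⟩ : ∃ v0, v0 = (fun _ => (1 : S)) := ⟨_, rfl⟩
      let bs := Module.Free.chooseBasis S ((Fin 1 → S) ⧸ LinearMap.range g)
      obtain ⟨i0⟩ : Nonempty (Module.Free.ChooseBasisIndex S ((Fin 1 → S) ⧸ LinearMap.range g)) := by
        by_contra h
        rw [not_nonempty_iff] at h
        have h' : Submodule.Quotient.mk (p := LinearMap.range g) v0 = 0 := bs.ext_elem fun i => h.elim i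
        have := hmax _ ((Submodule.Quotient.mk_eq_zero _).1 h')
        rw [hv0] at this
        exact (maximalIdeal.isMaximal S).ne_top ((Ideal.eq_top_iff_one _).2 this)
      refine LinearMap.ext fun v => funext fun j => ?_
      rw [Subsingleton.elim j 0]
      have hsm : (g v 0) • bs i0 = 0 := by
        obtain ⟨w, hw⟩ := Submodule.mkQ_surjective _ (bs i0)
        rw [← hw, ← map_smul, Submodule.mkQ_apply, Submodule.Quotient.mk_eq_zero]
        refine ⟨w 0 • v, ?_⟩
        rw [map_smul]
        funext j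
        rw [Subsingleton.elim j 0, Pi.smul_apply, Pi.smul_apply, smul_eq_mul, smul_eq_mul, mul_comm]
      have h := congrArg (fun z => bs.repr z i0) hsm
      simpa using h
    · have h2 : Module.finrank S ((Fin (n 0) → S) ⧸ LinearMap.ker g) = 0 := by
        rw [E.finrank_eq]
        exact_mod_cast hrank.trans hor
      have : Subsingleton ((Fin (n 0) → S) ⧸ LinearMap.ker g) :=
        ⟨fun a b => (Module.finBasisOfFinrankEq S _ h2).ext_elem fun i => i.elim0⟩
      refine LinearMap.ext fun v => ?_
      have h3 : (Submodule.Quotient.mk v : (Fin (n 0) → S) ⧸ LinearMap.ker g) = 0 := Subsingleton.elim _ _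
      exact LinearMap.mem_ker.1 ((Submodule.Quotient.mk_eq_zero _).1 h3)
  refine ⟨?_, fun y hy => ?_⟩
  · have : Subsingleton ((Fin (n 0) → S) ⧸ LinearMap.range (f 0)) := by
      rw [← hg, hg0, LinearMap.ker_zero]
      exact Submodule.Quotient.subsingleton_iff.2 rfl
    rw [← hrank]
    exact_mod_cast Module.finrank_zero_of_subsingleton
  · obtain ⟨v, rfl⟩ := hy
    have h := hgy v
    rw [hg0] at h
    obtain ⟨⟨t, ht⟩, h'⟩ := (IsLocalization.map_eq_zero_iff q.primeCompl S (π v)).1 h.symm
    exact ⟨t, ht, h'⟩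

end


/-- Let R be a Noetherian ring and I a nonzero ideal with a finite free resolution 0 → R^{n_e} → … →
R^{n_1} → R^{n_0} → I → 0 with e ≥ 1: the map R^{n_{i+1}} → R^{n_i} is the matrix A_i, the map π :
R^{n_0} → R is linear with image I, the kernel of π is the image of A_0, the kernel of A_i is the
image of A_{i+1} for 0 ≤ i ≤ e - 2, and A_{e-1} is injective. Then I contains a non-zero-divisor of
R. (The hypothesis that I is nonzero is implicit in the published statement: the zero ideal of a
domain has a finite free resolution and contains no non-zero-divisor.) -/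
theorem result {R : Type u} [CommRing R] [IsNoetherianRing R]
    (e : ℕ) (he : 1 ≤ e) (n : ℕ → ℕ) (A : (i : ℕ) → Matrix (Fin (n i)) (Fin (n (i + 1))) R)
    (π : (Fin (n 0) → R) →ₗ[R] R) (hI : LinearMap.range π ≠ ⊥)
    (h0 : LinearMap.ker π = LinearMap.range (A 0).mulVecLin)
    (hA : ∀ i, i + 2 ≤ e → LinearMap.ker (A i).mulVecLin = LinearMap.range (A (i + 1)).mulVecLin)
    (hlast : LinearMap.ker (A (e - 1)).mulVecLin = ⊥) :
    ∃ x : R, x ∈ LinearMap.range π ∧ x ∈ nonZeroDivisors R := by
  classical
  by_contra hno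
  push Not at hno
  set I := LinearMap.range π with hIdef
  -- `I` lies in an associated prime
  obtain ⟨p, hp, hIp⟩ : ∃ p ∈ associatedPrimes R R, I ≤ p := by
    have hfin := associatedPrimes.finite R R
    have hsub : (I : Set R) ⊆ ⋃ p ∈ ↑hfin.toFinset, ((id p : Ideal R) : Set R) := by
      intro y hy
      have h : y ∈ ⋃ p ∈ associatedPrimes R R, (p : Set R) := by
        rw [biUnion_associatedPrimes_eq_compl_nonZeroDivisors]
        exact hno y hy
      simpa using h
    obtain ⟨p, hp, hle⟩ := (Ideal.subset_union_prime (⊥ : Ideal R) (⊥ : Ideal R)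
      (fun q hq _ _ => (hfin.mem_toFinset.1 hq).isPrime)).1 hsub
    exact ⟨p, hfin.mem_toFinset.1 hp, hle⟩
  have hloc : ∀ q (hq : q ∈ associatedPrimes R R), I ≤ q ∨ chi n e e = 0 →
      (chi n e e = 0 ∧ ∀ y ∈ I, ∃ t, t ∉ q ∧ t * y = 0) := by
    intro q hq hor
    exact local_step e he n A π h0 hA hlast q hq hor
  have hchi : chi n e e = 0 := (hloc p hp (Or.inl hIp)).1
  refine hI (eq_bot_iff.2 fun y hy => ?_)
  by_contra hy0
  obtain ⟨q, hq, hle⟩ := exists_le_isAssociatedPrime_of_isNoetherianRing R y hy0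
  obtain ⟨t, ht, hty⟩ := (hloc q hq (Or.inr hchi)).2 y hy
  exact ht (hle (by rw [Submodule.mem_colon_singleton, Submodule.mem_bot, smul_eq_mul]; exact hty))

end Groth.Agent.S12909
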