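import Groth.Statements.S12910
import Groth.Agent.HilbPoly.DimVanish
import Groth.Agent.HilbPoly.PushForm
import Groth.Agent.ProjCoh.Structure
import Groth.Agent.ProjCoh.Syzygy
import Groth.Agent.HilbPoly.Tensor
import Groth.Agent.QCohLib.Coherent
import Groth.Agent.PicTwist.Basic

set_option autoImplicit false
set_option backward.isDefEq.respectTransparency false
universe u
open CategoryTheory CategoryTheory.Limits AlgebraicGeometry
open Variety

open Groth.Agent Groth.Agent.InvBasic Groth.Agent.ProjUniv Groth.Agent.InvPow Groth.Agent.QCohLib Groth.Agent.HilbPoly Groth.Agent.CurveDeg Groth.Agent.CohFinite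
set_option linter.style.haveILetI false

namespace Groth.Agent.S12910

/-- Let k be a field, d an integer, and E a bounded chain complex ⋯ → E_2 → E_1 → E_0 of coherent
modules on P^n_k (E_s = 0 for s large) such that E_s is (d + s)-regular for every s and, for every i
> 0, the homology sheaf H_i(E) has support of Krull dimension at most 1. Then the cokernel of E_1 →
E_0 is d-regular and the image of E_1 → E_0 is (d + 1)-regular. -/
theorem result (k : Type u) [Field k] (n : ℕ)
    (E : ChainComplex ((CohB1.ProjSpace n k).Modules) ℕ) (t : ℕ) (hbdd : ∀ s : ℕ, t < s → IsZero (E.X s))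
    (hcoh : ∀ s : ℕ, Coh.IsCoh (E.X s)) (d : ℤ)
    (hreg : ∀ s : ℕ, Curv2.IsMRegular k n (E.X s) (d + s))
    (hsupp : ∀ i : ℕ, 0 < i → topologicalKrullDim (CohB1.support (E.homology i)) ≤ 1) :
    Curv2.IsMRegular k n (cokernel (E.d 1 0)) d ∧
      Curv2.IsMRegular k n (Abelian.image (E.d 1 0)) (d + 1) := by
  haveI : IsProper ((CohB1.ProjSpace n k) ↘ Spec (CommRingCat.of k)) :=
    Groth.Agent.InvPow.isProper_toSpec n k
  haveI : IsLocallyNoetherian (CohB1.ProjSpace n k) :=
    LocallyOfFiniteType.isLocallyNoetherian ((CohB1.ProjSpace n k) ↘ Spec (CommRingCat.of k))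
  have hO : ∀ e : ℤ, PicF.IsInvertible (Twist.twistProjSpace n k e) := fun e =>
    Groth.Agent.ProjTwist.isInvertible_twist (Groth.Agent.ProjCoh.hasUnit_polyGrading e)
  -- vanishing of the twisted terms in all positive degrees
  have hE : ∀ (s q : ℕ) (e : ℤ), 1 ≤ q → e = d + s - q → Subsingleton
      (Coh.HH (CohB1.ProjSpace n k) (CohB1.tensorMod (E.X s) (Twist.twistProjSpace n k e)) q) :=
    fun s q e hq he => by
      subst he
      by_cases hqn : q ≤ n
      · exact hreg s q hq hqn
      · haveI := (HilbPoly.isCoh_tensorMod (hcoh s) (hO (d + s - q))).1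
        exact Groth.Agent.ProjCoh.subsingleton_HH_of_lt _ q (by omega)
  -- the short exact sequence of the cycles, for a factorisation of the differential
  have hses : ∀ (i j : ℕ) (_ : (ComplexShape.down ℕ).next i = j) (B : (CohB1.ProjSpace n k).Modules)
      (p : E.X i ⟶ B) (ι : B ⟶ E.X j) (hp : Epi p) (hι : Mono ι) (h : p ≫ ι = E.d i j),
      ∃ w : E.iCycles i ≫ p = 0, (ShortComplex.mk (E.iCycles i) p w).ShortExact := fun i j hij B p ι hp hι h => by
    have w : E.iCycles i ≫ p = 0 := by
      rw [← cancel_mono ι, Category.assoc, h, E.iCycles_d, zero_comp]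
    refine ⟨w, { exact := ?_ }⟩
    let φ : ShortComplex.mk (E.iCycles i) p w ⟶ ShortComplex.mk (E.iCycles i) (E.d i j) (E.iCycles_d i j) :=
      { τ₁ := 𝟙 _, τ₂ := 𝟙 _, τ₃ := ι, comm₁₂ := by simp, comm₂₃ := by simpa using h.symm }
    haveI : Epi φ.τ₁ := inferInstanceAs (Epi (𝟙 _))
    haveI : IsIso φ.τ₂ := inferInstanceAs (IsIso (𝟙 _))
    haveI : Mono φ.τ₃ := hι
    rw [ShortComplex.exact_iff_of_epi_of_isIso_of_mono φ]
    exact ShortComplex.exact_of_f_is_kernel _ (E.cyclesIsKernel i j hij)
  have hcyc : ∀ i, Coh.IsCoh (E.cycles (i + 1)) := fun i =>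
    isCoh_of_iso (IsLimit.conePointUniqueUpToIso (kernelIsKernel (E.d (i + 1) i))
      (E.cyclesIsKernel (i + 1) i (by simp))) (isCoh_kernel _ (hcoh _) (hcoh _).1)
  -- vanishing for the cycles, by descending induction
  have hQ : ∀ (r s : ℕ), t ≤ s + r → ∀ (q : ℕ) (e : ℤ), 1 ≤ q → e = d + s + 1 - q → Subsingleton
      (Coh.HH (CohB1.ProjSpace n k) (CohB1.tensorMod (E.cycles (s + 1)) (Twist.twistProjSpace n k e))
        (q + 1)) := by
    intro r
    induction r with
    | zero =>
      intro s hs q e _ _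
      have h0 : IsZero (E.cycles (s + 1)) := IsZero.of_mono (E.iCycles (s + 1)) (hbdd _ (by omega))
      exact Groth.Agent.CohVanish.subsingleton_HH_of_isZero
        (Groth.Agent.QCohLib.isZero_of_subsingleton_stalk fun x => by
          by_contra hx
          have hx' : x ∈ CohB1.support (CohB1.tensorMod (E.cycles (s + 1)) (Twist.twistProjSpace n k e)) := hx
          rw [support_tensorMod _ (hO e)] at hx'
          exact hx' (subsingleton_stalk_of_isZero h0 x)) _
    | succ r ih =>
      intro s hs q e hq he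
      let π := E.homologyπ (s + 1)
      have hτ : E.toCycles (s + 2) (s + 1) ≫ π = 0 := E.toCycles_comp_homologyπ _ _
      let hc := E.homologyIsCokernel (s + 2) (s + 1) (by simp)
      have hex : (ShortComplex.mk _ _ hτ).Exact := ShortComplex.exact_of_g_is_cokernel _ hc
      haveI : Epi π := epi_of_isColimit_cofork hc
      have hψ : Epi (kernel.lift π (E.toCycles (s + 2) (s + 1)) hτ) :=
        (ShortComplex.exact_iff_epi_kernel_lift _).1 hex
      obtain ⟨w, hS⟩ := hses (s + 2) (s + 1) (by simp) (kernel π) _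
        (kernel.ι π ≫ E.iCycles (s + 1)) hψ (mono_comp _ _) (by simp)
      have h1 := Groth.Agent.CohVanish.subsingleton_HH_of_shortExact₃ (shortExact_tSC hS (hO e)) (q + 1)
        (hE (s + 2) (q + 1) e (by omega) (by push_cast; omega))
        (ih (s + 1) (by omega) (q + 1) e (by omega) (by push_cast; omega))
      refine Groth.Agent.CohVanish.subsingleton_HH_of_shortExact₂
        (shortExact_tSC (Groth.Agent.CohVanish.shortExact_of_epi π) (hO e)) (q + 1) h1 ?_
      refine subsingleton_HH_of_dim k (d := 1) ?_ ?_ (by omega)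
      · exact HilbPoly.isCoh_tensorMod (isCoh_of_iso
          (IsColimit.coconePointUniqueUpToIso (cokernelIsCokernel (E.toCycles (s + 2) (s + 1))) hc)
          (isCoh_cokernel _ (hcoh _).1 (hcyc s))) (hO e)
      · exact ((congrArg (fun S : Set _ => topologicalKrullDim S)
          (support_tensorMod (E.homology (s + 1)) (hO e))).le).trans (hsupp (s + 1) (by omega))
  obtain ⟨w, hS⟩ := hses 1 0 (by simp) (Abelian.image (E.d 1 0)) (Abelian.factorThruImage (E.d 1 0))
    (Abelian.image.ι (E.d 1 0)) inferInstance inferInstance (Abelian.image.fac _)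
  have himg : ∀ (q : ℕ) (e : ℤ), 1 ≤ q → e = d + 1 - q → Subsingleton (Coh.HH (CohB1.ProjSpace n k)
      (CohB1.tensorMod (Abelian.image (E.d 1 0)) (Twist.twistProjSpace n k e)) q) := fun q e hq he =>
    Groth.Agent.CohVanish.subsingleton_HH_of_shortExact₃ (shortExact_tSC hS (hO e)) q
      (hE 1 q e hq (by push_cast; omega)) (hQ t 0 (by omega) q e hq (by push_cast; omega))
  refine ⟨fun q hq _ => ?_, fun q hq _ => himg q _ hq rfl⟩
  have hS0 : (ShortComplex.mk (kernel.ι (cokernel.π (E.d 1 0))) (cokernel.π (E.d 1 0))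
      (kernel.condition _)).ShortExact := Groth.Agent.CohVanish.shortExact_of_epi _
  exact Groth.Agent.CohVanish.subsingleton_HH_of_shortExact₃ (shortExact_tSC hS0 (hO (d - q))) q
    (hE 0 q _ hq (by simp)) (himg (q + 1) _ (by omega) (by push_cast; omega))
end Groth.Agent.S12910
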