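import Groth.Statements.S12915
import Mathlib
-- import your own Groth.Agent.* helpers here

set_option autoImplicit false
universe u
open CAlgX

namespace Groth.Agent.S12915

/-- Let k be a field, S = k[x_0, …, x_r], and f a nonzero homogeneous polynomial of degree m. For every
t ≥ m the image in S/(f) of the homogeneous polynomials of degree t is a k-vector space of dimension
C(t + r, r) - C(t + r - m, r). (The published clause states that the hypersurface f = 0 in P^r has
degree m; its proof computes exactly this Hilbert function, whose polynomial has leading term m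
t^(r-1)/(r-1)!, and that computation is what is stated here.) -/
theorem result (k : Type u) [Field k] (r m : ℕ)
    (f : MvPolynomial (Fin (r + 1)) k) (hf : f.IsHomogeneous m) (hf0 : f ≠ 0) (t : ℕ) (ht : m ≤ t) :
    Module.finrank k
        (Submodule.map ((Ideal.Quotient.mkₐ k (Ideal.span {f})).toLinearMap)
          (MvPolynomial.homogeneousSubmodule (Fin (r + 1)) k t)) =
      Nat.choose (t + r) r - Nat.choose (t + r - m) r := by
  classical
  have hpoly : ∀ d : ℕ, Module.finrank k (MvPolynomial.homogeneousSubmodule (Fin (r + 1)) k d) = (d + r).choose r := by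
    intro d
    have hfin : {m : Fin (r + 1) →₀ ℕ | m.degree = d} = ↑((Finset.univ : Finset (Fin (r + 1))).finsuppAntidiag d) := by
      ext m; simp [Finset.mem_finsuppAntidiag, Finsupp.degree_eq_sum]
    haveI : Fintype {m : Fin (r + 1) →₀ ℕ | m.degree = d} := by
      rw [hfin]; infer_instance
    let e : MvPolynomial.homogeneousSubmodule (Fin (r + 1)) k d ≃ₗ[k] ({m : Fin (r + 1) →₀ ℕ | m.degree = d} →₀ k) :=
      (LinearEquiv.ofEq _ _ (MvPolynomial.homogeneousSubmodule_eq_finsupp_supported (Fin (r + 1)) k _)).trans
        (AddMonoidAlgebra.supportedEquivFinsupp _)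
    rw [e.finrank_eq, Module.finrank_finsupp_self, ← Nat.card_eq_fintype_card,
      Nat.card_coe_set_eq, hfin, Set.ncard_coe_finset, Finset.card_finsuppAntidiag_nat_eq_choose]
    simp only [Finset.card_univ, Fintype.card_fin]
    rw [show r + 1 + d - 1 = d + r by omega, Nat.choose_symm_add]
  set H := MvPolynomial.homogeneousSubmodule (Fin (r + 1)) k t
  set g : H →ₗ[k] _ := ((Ideal.Quotient.mkₐ k (Ideal.span {f})).toLinearMap).comp H.subtype with hg
  haveI : FiniteDimensional k H := by
    apply Module.finite_of_finrank_pos
    rw [hpoly]; exact Nat.choose_pos (by omega)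
  have hrange : LinearMap.range g = Submodule.map ((Ideal.Quotient.mkₐ k (Ideal.span {f})).toLinearMap) H := by
    rw [hg, LinearMap.range_comp, Submodule.range_subtype]
  have hmul : ∀ p : MvPolynomial.homogeneousSubmodule (Fin (r + 1)) k (t - m), f * (p : MvPolynomial (Fin (r + 1)) k) ∈ H := by
    intro p
    have := hf.mul ((MvPolynomial.mem_homogeneousSubmodule _ _).1 p.2)
    rwa [show m + (t - m) = t by omega] at this
  let μ : MvPolynomial.homogeneousSubmodule (Fin (r + 1)) k (t - m) →ₗ[k] H :=
    ((LinearMap.mulLeft k f).comp (Submodule.subtype _)).codRestrict H hmul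
  have hμ : Function.Injective μ := by
    intro a b h
    exact Subtype.ext (mul_left_cancel₀ hf0 (congrArg Subtype.val h))
  have hker : LinearMap.range μ = LinearMap.ker g := by
    ext x
    rw [LinearMap.mem_ker, LinearMap.mem_range, hg]
    change _ ↔ Ideal.Quotient.mk (Ideal.span {f}) (x : MvPolynomial (Fin (r + 1)) k) = 0
    rw [Ideal.Quotient.eq_zero_iff_mem, Ideal.mem_span_singleton]
    constructor
    · rintro ⟨p, rfl⟩; exact ⟨p.1, rfl⟩
    · rintro ⟨p, hp⟩
      refine ⟨⟨MvPolynomial.homogeneousComponent (t - m) p, MvPolynomial.homogeneousComponent_mem _ _⟩, Subtype.ext ?_⟩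
      show f * MvPolynomial.homogeneousComponent (t - m) p = x.1
      have hx := MvPolynomial.homogeneousComponent_eq_self ((MvPolynomial.mem_homogeneousSubmodule _ _).1 x.2)
      rw [← hx, hp]
      conv_rhs => rw [← MvPolynomial.sum_homogeneousComponent p, Finset.mul_sum, map_sum]
      have hterm : ∀ i, MvPolynomial.homogeneousComponent t (f * MvPolynomial.homogeneousComponent i p)
          = if i = t - m then f * MvPolynomial.homogeneousComponent (t - m) p else 0 := by
        intro i
        rw [MvPolynomial.homogeneousComponent_of_mem
          (hf.mul (MvPolynomial.homogeneousComponent_isHomogeneous i p))]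
        rcases eq_or_ne i (t - m) with h | h
        · subst h; rw [if_pos (by omega), if_pos rfl]
        · rw [if_neg (by omega), if_neg h]
      simp only [hterm, Finset.sum_ite_eq', Finset.mem_range]
      split_ifs with h
      · rfl
      · rw [MvPolynomial.homogeneousComponent_eq_zero _ _ (by omega), mul_zero]
  have h := LinearMap.finrank_range_add_finrank_ker g
  rw [← hker, LinearMap.finrank_range_of_inj hμ, hrange, hpoly, hpoly] at h
  rw [show t + r - m = t - m + r by omega]
  omega

end Groth.Agent.S12915
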