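import Groth.Statements.S12918
import Groth.Agent.ComodBasic.TotalInt


set_option autoImplicit false
universe u v w
open HopfRep

namespace Groth.Agent.S12918
open Groth.Agent.ComodBasic TensorProduct

/-- Let `k` be a commutative ring, `A` a commutative Hopf algebra over `k`, flat as a `k`-module and `B`
a commutative `k`-algebra with a coaction `ρ : B → B ⊗ A` that is an algebra map (an action of the
affine group scheme `Spec A` on `Spec B`). Then the action admits a total integral — a comodule map
`α : A → B`, for the regular coaction on `A`, with `α 1 = 1` — if and only if `ρ` has a left inverse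
`B ⊗ A → B` which is a comodule map for the coaction `id ⊗ Δ` on `B ⊗ A`. -/
theorem result
    (k : Type u) [CommRing k] (A : Type v) [CommRing A] [HopfAlgebra k A] [Module.Flat k A]
    (B : Type w) [CommRing B] [Algebra k B] [HopfRep.Comod k A B] [GLin.IsCoactAlg k A B] :
    (∃ α : A →ₗ[k] B, Hoch.IsComodHom A α ∧ α 1 = 1) ↔
      ∃ lam : Hoch.Ind k A B →ₗ[k] B, Hoch.IsComodHom A lam ∧ lam ∘ₗ Hoch.toInd k A B = LinearMap.id := by
  haveI : TameAct.IsHopfMod k A B B := isHopfMod_self'
  constructor
  · rintro ⟨α, hα, h1⟩
    let lam : B ⊗[k] A →ₗ[k] B := TensorProduct.lift (LinearMap.mk₂ k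
      (fun (b : B) (a : A) => reynoldsAt α a b)
      (fun b b' a => map_add _ _ _) (fun r b a => map_smul _ _ _)
      (fun b a a' => by
        simp only [reynoldsAt, TameAct.reynolds, LinearMap.comp_apply]
        generalize HopfRep.Comod.coact (k := k) (A := A) b = z
        induction z using TensorProduct.induction_on with
        | zero => simp
        | add p q hp hq => simp only [map_add, hp, hq]; abel
        | tmul x c => simp [mul_add, add_smul])
      (fun r b a => by
        simp only [reynoldsAt, TameAct.reynolds, LinearMap.comp_apply]
        generalize HopfRep.Comod.coact (k := k) (A := A) b = z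
        induction z using TensorProduct.induction_on with
        | zero => simp
        | add p q hp hq => simp only [map_add, smul_add, hp, hq]
        | tmul x c => simp [mul_smul_comm]))
    refine ⟨lam ∘ₗ (Hoch.Ind.equiv k A B).symm.toLinearMap, ?_, ?_⟩
    · refine LinearMap.ext fun w => ?_
      obtain ⟨z, rfl⟩ := (Hoch.Ind.equiv k A B).surjective w
      change HopfRep.Comod.coact (k := k) (A := A) (lam z) = lam.rTensor A (Hoch.Ind.coactAux k A B z)
      induction z using TensorProduct.induction_on with
      | zero => simp
      | add p q hp hq => simp only [map_add, hp, hq]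
      | tmul b a =>
        rw [TensorProduct.lift.tmul, LinearMap.mk₂_apply, coact_reynoldsAt hα, Hoch.Ind.coactAux_tmul]
        have e : ∀ p : A ⊗[k] A, lam.rTensor A ((TensorProduct.assoc k B A A).symm (b ⊗ₜ[k] p)) =
            TensorProduct.lift (LinearMap.mk₂ k (fun (x : B) (c : A) =>
              TameAct.hmSMul k A B B (α.rTensor A (HopfAlgebra.antipode k c ⊗ₜ[k] (1 : A) * p))
                (x ⊗ₜ[k] (1 : A)))
              (fun x y c => by simp [TensorProduct.add_tmul]) (fun r x c => by simp [← TensorProduct.smul_tmul'])
              (fun x c d => by simp [add_mul, TensorProduct.add_tmul])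
              (fun r x c => by simp [TensorProduct.smul_tmul', ← TensorProduct.smul_tmul', smul_mul_assoc]))
              (HopfRep.Comod.coact (k := k) (A := A) b) := by
          intro p
          generalize hz : HopfRep.Comod.coact (k := k) (A := A) b = z
          induction p using TensorProduct.induction_on with
          | zero =>
            simp only [TensorProduct.tmul_zero, map_zero]
            clear hz
            induction z using TensorProduct.induction_on with
            | zero => simp
            | add p q hp hq => simp only [map_add, ← hp, ← hq, add_zero]
            | tmul x c => simp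
          | add p q hp hq =>
            simp only [TensorProduct.tmul_add, map_add, hp, hq]
            clear hp hq hz
            induction z using TensorProduct.induction_on with
            | zero => simp
            | add p' q' hp hq => simp only [map_add, ← hp, ← hq]; abel
            | tmul x c => simp [mul_add]
          | tmul p q =>
            rw [TensorProduct.assoc_symm_tmul, LinearMap.rTensor_tmul, TensorProduct.lift.tmul,
              LinearMap.mk₂_apply, reynoldsAt, TameAct.reynolds, LinearMap.comp_apply, hz]
            clear hz
            induction z using TensorProduct.induction_on with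
            | zero => simp
            | add p' q' hp hq => simp only [map_add, TensorProduct.add_tmul, hp, hq]
            | tmul x c => simp
        exact (e _).symm
    · refine LinearMap.ext fun b => ?_
      change lam (HopfRep.Comod.coact (k := k) (A := A) b) = b
      have h0 := LinearMap.congr_fun (HopfRep.Comod.coassoc (k := k) (A := A) (V := B)) b
      have hc := LinearMap.congr_fun (HopfRep.Comod.counit_comp (k := k) (A := A) (V := B)) b
      simp only [LinearMap.comp_apply, LinearEquiv.coe_coe, LinearMap.flip_apply, TensorProduct.mk_apply] at h0 hc
      let T : B ⊗[k] (A ⊗[k] A) →ₗ[k] B :=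
        LinearMap.mul' k B ∘ₗ ((α ∘ₗ LinearMap.mul' k A ∘ₗ (HopfAlgebra.antipode k).rTensor A)).lTensor B
      have h1' : ∀ z : B ⊗[k] A, lam z =
          T (TensorProduct.assoc k B A A ((HopfRep.Comod.coact (k := k) (A := A) (V := B)).rTensor A z)) := by
        intro z
        induction z using TensorProduct.induction_on with
        | zero => simp
        | add p q hp hq => simp only [map_add, hp, hq]
        | tmul b a =>
          rw [TensorProduct.lift.tmul, LinearMap.mk₂_apply, reynoldsAt, TameAct.reynolds, LinearMap.comp_apply,
            LinearMap.rTensor_tmul]
          generalize HopfRep.Comod.coact (k := k) (A := A) b = y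
          induction y using TensorProduct.induction_on with
          | zero => simp
          | add p q hp hq => simp only [map_add, TensorProduct.add_tmul, hp, hq]
          | tmul x c => simp [T, mul_comm]
      rw [h1', h0]
      generalize HopfRep.Comod.coact (k := k) (A := A) b = z at hc ⊢
      have h2 : T ((CoalgebraStruct.comul (R := k) (A := A)).lTensor B z) =
          TensorProduct.rid k B ((CoalgebraStruct.counit (R := k) (A := A)).lTensor B z) := by
        clear hc h0
        induction z using TensorProduct.induction_on with
        | zero => simp
        | add p q hp hq => simp only [map_add, hp, hq]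
        | tmul x c => simp [T, HopfAlgebra.mul_antipode_rTensor_comul_apply, h1, Algebra.algebraMap_eq_smul_one]
      rw [h2, hc]
      simp
  · rintro ⟨lam, hlam, hid⟩
    refine ⟨lam ∘ₗ (Hoch.Ind.equiv k A B).toLinearMap ∘ₗ TensorProduct.mk k B A 1, ?_, ?_⟩
    · refine LinearMap.ext fun a => ?_
      have h := LinearMap.congr_fun hlam (Hoch.Ind.equiv k A B ((1 : B) ⊗ₜ[k] a))
      refine Eq.trans h ?_
      change (lam ∘ₗ (Hoch.Ind.equiv k A B).toLinearMap).rTensor A (Hoch.Ind.coactAux k A B ((1 : B) ⊗ₜ[k] a)) = _
      rw [Hoch.Ind.coactAux_tmul, LinearMap.comp_apply]
      change _ = (lam ∘ₗ (Hoch.Ind.equiv k A B).toLinearMap ∘ₗ TensorProduct.mk k B A 1).rTensor A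
        (CoalgebraStruct.comul (R := k) a)
      generalize CoalgebraStruct.comul (R := k) a = w
      induction w using TensorProduct.induction_on with
      | zero => simp
      | add p q hp hq => simp only [TensorProduct.tmul_add, map_add, hp, hq]
      | tmul p q => rfl
    · have h := LinearMap.congr_fun hid 1
      refine Eq.trans ?_ h
      change lam ((Hoch.Ind.equiv k A B) ((1 : B) ⊗ₜ[k] (1 : A))) =
        lam ((Hoch.Ind.equiv k A B) (HopfRep.Comod.coact (k := k) (A := A) (1 : B)))
      rw [GLin.IsCoactAlg.coact_one, Algebra.TensorProduct.one_def]

end Groth.Agent.S12918
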