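import Groth.Statements.S12923
import Groth.Agent.ComodBasic.TotalInt
import Mathlib.RingTheory.Spectrum.Prime.RingHom


set_option autoImplicit false
universe u v w
open HopfRep

namespace Groth.Agent.S12923
open Groth.Agent.ComodBasic

/-- Let `k` be a commutative ring, `A` a commutative Hopf algebra over `k`, flat as a `k`-module, `B` a
commutative `k`-algebra with a coaction of `A` that is an algebra map and admits a total integral (a
comodule map `α : A → B` with `α 1 = 1`), `C = B^A`, and `b` an ideal of `B` which is a subcomodule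
(a closed subscheme of `Spec B` stable under the action). Then the image of `V(b)` under `Spec B →
Spec C` is the closed set `V(b ∩ C)`. (The published statement assumes only that taking invariants
is exact on `(B, A)`-modules; a total integral, assumed here, gives that exactness.) -/
theorem result
    (k : Type u) [CommRing k] (A : Type v) [CommRing A] [HopfAlgebra k A] [Module.Flat k A]
    (B : Type w) [CommRing B] [Algebra k B] [HopfRep.Comod k A B] [GLin.IsCoactAlg k A B]
    (htame : ∃ α : A →ₗ[k] B, Hoch.IsComodHom A α ∧ α 1 = 1)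
    (b : Ideal B) (hb : HopfRep.IsSubcomod (k := k) (A := A) (b.restrictScalars k)) :
    PrimeSpectrum.comap (algebraMap (GLin.invariants k A B) B) '' PrimeSpectrum.zeroLocus (b : Set B) =
      PrimeSpectrum.zeroLocus ((b.comap (algebraMap (GLin.invariants k A B) B) : Ideal (GLin.invariants k A B)) : Set (GLin.invariants k A B)) := by
  obtain ⟨α, hα, h1⟩ := htame
  haveI : TameAct.IsHopfMod k A B B := isHopfMod_self'
  set φ := algebraMap (GLin.invariants k A B) B
  apply le_antisymm
  · rintro p ⟨q, hq, rfl⟩
    rw [PrimeSpectrum.mem_zeroLocus] at hq ⊢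
    exact fun y hy => hq hy
  · intro p hp
    rw [PrimeSpectrum.mem_zeroLocus] at hp
    let S : Submonoid B := p.asIdeal.primeCompl.map φ
    have hd : Disjoint ((b ⊔ p.asIdeal.map φ : Ideal B) : Set B) (S : Set B) := by
      rw [Set.disjoint_left]
      rintro _ hx ⟨y, hy, rfl⟩
      refine hy ?_
      obtain ⟨u, hu, v, hv, huv⟩ := Submodule.mem_sup.1 hx
      obtain ⟨z, hz, hzv⟩ := reynolds_mem_of_mem_map hα p.asIdeal hv
      let u' : GLin.invariants k A B := ⟨TameAct.reynolds k A B B α u, reynolds_mem_fixedPts hα u⟩
      have hu' : u' ∈ p.asIdeal := hp (reynolds_mem_of_isSubcomod b hb hu)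
      have : y = u' + z := by
        refine Subtype.ext ?_
        rw [AddMemClass.coe_add, hzv, show (u' : B) = TameAct.reynolds k A B B α u from rfl, ← map_add, huv]
        exact (reynolds_eq_self h1 y.2).symm
      rw [this]
      exact p.asIdeal.add_mem hu' hz
    obtain ⟨q, hq, hle, hqd⟩ := Ideal.exists_le_prime_disjoint _ S hd
    refine ⟨⟨q, hq⟩, (PrimeSpectrum.mem_zeroLocus _ _).2 fun x hx => hle (Ideal.mem_sup_left hx), PrimeSpectrum.ext ?_⟩
    refine le_antisymm (fun y hy => ?_) fun y hy => hle (Ideal.mem_sup_right (Ideal.mem_map_of_mem φ hy))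
    by_contra hyp
    exact Set.disjoint_left.1 hqd hy ⟨y, hyp, rfl⟩

end Groth.Agent.S12923
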