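import Groth.Statements.S12924
import Groth.Agent.ComodBasic.TotalInt
import Groth.Agent.ComodBasic.SchemeQuot


set_option autoImplicit false
universe u
open CategoryTheory AlgebraicGeometry
open HopfRep

namespace Groth.Agent.S12924

open CategoryTheory AlgebraicGeometry TensorProduct HopfRep Groth.Agent Groth.Agent.ComodBasic

set_option maxHeartbeats 1000000


/-- Let `k` be a commutative ring, `A` a commutative Hopf algebra over `k`, flat as a `k`-module, `B` a
commutative `k`-algebra with a coaction `ρ : B → B ⊗ A` that is an algebra map and admits a total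
integral (a comodule map `α : A → B` with `α 1 = 1`), and `C = B^A`. Then `Spec B → Spec C` is a
categorical quotient of the action in the category of schemes: for every scheme `Z` and every
morphism `ψ : Spec B → Z` which is invariant, i.e. has the same composite with `Spec (B ⊗ A) → Spec
B` induced by `ρ` and by `b ↦ b ⊗ 1`, there is exactly one morphism `Spec C → Z` through which `ψ`
factors. (The published statement assumes only that taking invariants is exact on `(B, A)`-modules;
a total integral, assumed here, gives that exactness.) -/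
theorem result
    (k : Type u) [CommRing k] (A : Type u) [CommRing A] [HopfAlgebra k A] [Module.Flat k A]
    (B : Type u) [CommRing B] [Algebra k B] [HopfRep.Comod k A B] [GLin.IsCoactAlg k A B]
    (htame : ∃ α : A →ₗ[k] B, Hoch.IsComodHom A α ∧ α 1 = 1)
    (Z : Scheme.{u}) (ψ : Spec (CommRingCat.of B) ⟶ Z)
    (hψ : Spec.map (CommRingCat.ofHom (GLin.coactAlgHom k A B).toRingHom) ≫ ψ =
      Spec.map (CommRingCat.ofHom
        (Algebra.TensorProduct.includeLeftRingHom : B →+* TensorProduct k B A)) ≫ ψ) :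
    ∃! χ : Spec (CommRingCat.of (GLin.invariants k A B)) ⟶ Z,
      Spec.map (CommRingCat.ofHom (algebraMap (GLin.invariants k A B) B)) ≫ χ = ψ := by
  haveI : TameAct.IsHopfMod k A B B := isHopfMod_self'
  obtain ⟨α, hα, hα1⟩ := htame
  set C := GLin.invariants k A B
  let i : C →+* B := algebraMap C B
  have hinj : Function.Injective i := fun a b h => Subtype.ext h
  have hsurj : Function.Surjective (PrimeSpectrum.comap i) := by
    intro p
    rw [← Set.mem_range, PrimeSpectrum.mem_range_comap_iff]
    exact comap_map_eq_of_totalIntegral hα hα1 p.asIdeal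
  let ρ : B →+* B ⊗[k] A := (GLin.coactAlgHom k A B).toRingHom
  let inc : B →+* B ⊗[k] A := Algebra.TensorProduct.includeLeftRingHom
  let R : B →ₗ[k] B := TameAct.reynolds k A B B α
  let good : C → Prop := fun c => ∃ V : Z.Opens, IsAffineOpen V ∧
    ∀ q : PrimeSpectrum B, i c ∉ q.asIdeal → ψ q ∈ V
  let K : Ideal C := Ideal.span {c | good c}
  let J : Z.Opens → Ideal B := fun V => PrimeSpectrum.vanishingIdeal {q | ψ q ∉ V}
  have hJ : ∀ (V : Z.Opens) (q : PrimeSpectrum B), J V ≤ q.asIdeal ↔ ψ q ∉ V := by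
    intro V q
    have hc : IsClosed {q : PrimeSpectrum B | ψ q ∉ V} :=
      (V.2.isClosed_compl).preimage ψ.continuous
    show q ∈ PrimeSpectrum.zeroLocus (J V : Set B) ↔ _
    rw [PrimeSpectrum.zeroLocus_vanishingIdeal_eq_closure, hc.closure_eq]
    rfl
  have hpow : ∀ V, ∀ j ∈ J V, ∃ N : ℕ, ρ (j ^ N) ∈ (J V).map inc := by
    intro V j hj
    have : ρ j ∈ ((J V).map inc).radical := by
      rw [Ideal.radical_eq_sInf]
      refine Submodule.mem_sInf.2 fun P hP => ?_
      haveI := hP.2
      have h1 : J V ≤ (PrimeSpectrum.comap inc ⟨P, hP.2⟩).asIdeal := Ideal.map_le_iff_le_comap.1 hP.1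
      rw [hJ] at h1
      have h2 : ψ (PrimeSpectrum.comap ρ ⟨P, hP.2⟩) = ψ (PrimeSpectrum.comap inc ⟨P, hP.2⟩) := by
        have := congrArg (fun (f : Spec (CommRingCat.of (B ⊗[k] A)) ⟶ Z) => f ⟨P, hP.2⟩) hψ
        simp only [Scheme.Hom.comp_apply] at this
        exact this
      rw [← h2, ← hJ] at h1
      exact h1 hj
    obtain ⟨N, hN⟩ := this
    exact ⟨N, by rwa [map_pow]⟩
  have hR : ∀ (V : Z.Opens) (z : B ⊗[k] A), z ∈ (J V).map inc →
      TensorProduct.lift (((Algebra.lsmul k k B : B →ₐ[k] Module.End k B).toLinearMap ∘ₗ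
        α ∘ₗ HopfAlgebra.antipode k).flip) z ∈ J V := by
    intro V z hz
    rw [Ideal.map, Submodule.mem_span_set'] at hz
    obtain ⟨n, r, g, rfl⟩ := hz
    rw [map_sum]
    refine Ideal.sum_mem _ fun l _ => ?_
    obtain ⟨j, hj, hjg⟩ := (g l).2
    rw [← hjg]
    generalize r l = y
    induction y using TensorProduct.induction_on with
    | zero => simp
    | add p q hp hq => rw [add_smul, map_add]; exact Ideal.add_mem _ hp hq
    | tmul b a =>
      show TensorProduct.lift _ ((b ⊗ₜ[k] a) * (j ⊗ₜ[k] (1 : A))) ∈ J V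
      simp only [Algebra.TensorProduct.tmul_mul_tmul, mul_one, TensorProduct.lift.tmul,
        LinearMap.flip_apply, LinearMap.comp_apply, AlgHom.toLinearMap_apply, Algebra.lsmul_coe,
        smul_eq_mul]
      exact Ideal.mul_mem_left _ _ (Ideal.mul_mem_left _ _ hj)
  have hK : K = ⊤ := by
    let J' : {V : Z.Opens // IsAffineOpen V} → Ideal B := fun V => ((J V.1).map inc).comap ρ
    have htop : (⨆ V, J' V) = ⊤ := by
      by_contra hne
      obtain ⟨M, hM, hle⟩ := Ideal.exists_le_maximal _ hne
      obtain ⟨V, hV, hx, -⟩ := exists_isAffineOpen_mem_and_subset (X := Z)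
        (x := ψ ⟨M, hM.isPrime⟩) (U := ⊤) trivial
      have : ¬ J V ≤ M := fun h => (hJ V ⟨M, hM.isPrime⟩).1 h hx
      obtain ⟨j, hj, hjM⟩ := SetLike.not_le_iff_exists.1 this
      obtain ⟨N, hN⟩ := hpow V j hj
      have h1 : j ^ N ∈ J' ⟨V, hV⟩ := Ideal.mem_comap.2 hN
      have h2 : J' ⟨V, hV⟩ ≤ M := (le_iSup J' ⟨V, hV⟩).trans hle
      exact hjM (hM.isPrime.mem_of_pow_mem N (h2 h1))
    have key : ∀ x : B, x ∈ (⨆ V, J' V) →
        (⟨R x, reynolds_mem_fixedPts hα x⟩ : C) ∈ K := by
      intro x hx
      induction hx using Submodule.iSup_induction' with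
      | mem V y hy =>
        refine Ideal.subset_span ⟨V.1, V.2, fun q hq => ?_⟩
        by_contra h
        exact hq ((hJ V.1 q).2 h (hR V.1 _ hy))
      | zero =>
        have e : (⟨R 0, reynolds_mem_fixedPts hα 0⟩ : C) = 0 := Subtype.ext (map_zero R)
        rw [e]; exact Submodule.zero_mem K
      | add a b _ _ ha hb =>
        have e : (⟨R (a + b), reynolds_mem_fixedPts hα (a + b)⟩ : C) =
            ⟨R a, reynolds_mem_fixedPts hα a⟩ + ⟨R b, reynolds_mem_fixedPts hα b⟩ := Subtype.ext (map_add R a b)
        rw [e]; exact Submodule.add_mem K ha hb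
    rw [Ideal.eq_top_iff_one]
    have h1 := key 1 (htop ▸ Submodule.mem_top)
    have e : (⟨R 1, reynolds_mem_fixedPts hα 1⟩ : C) = 1 := Subtype.ext (reynolds_eq_self hα1 (by
      show Comod.coact (k := k) (A := A) (1 : B) = (1 : B) ⊗ₜ[k] (1 : A)
      rw [GLin.IsCoactAlg.coact_one (k := k) (A := A) (R := B), Algebra.TensorProduct.one_def]))
    rwa [e] at h1
  let c : {c : C // good c} → C := Subtype.val
  have hc : Ideal.span (Set.range c) = ⊤ := by rw [Subtype.range_coe_subtype]; exact hK
  have hloc : ∀ l : {c : C // good c}, ∃ χ : Spec (CommRingCat.of (Localization.Away (c l))) ⟶ Z,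
      Spec.map (CommRingCat.ofHom (IsLocalization.Away.map (Localization.Away (c l))
        (Localization.Away (algebraMap C B (c l))) (algebraMap C B) (c l))) ≫ χ =
      Spec.map (CommRingCat.ofHom (algebraMap B (Localization.Away (algebraMap C B (c l))))) ≫ ψ := by
    rintro ⟨c, V, hV, hcV⟩
    let b₀ : B := algebraMap C B c
    let T := Localization.Away (inc b₀)
    let Bc := Localization.Away b₀
    have hρb₀ : ρ b₀ = inc b₀ := c.2
    have hu : IsUnit (((algebraMap (B ⊗[k] A) T).comp ρ) b₀) := by
      rw [RingHom.comp_apply, hρb₀]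
      exact IsLocalization.Away.algebraMap_isUnit (S := T) (inc b₀)
    have hu' : IsUnit (((algebraMap (B ⊗[k] A) T).comp inc) b₀) :=
      IsLocalization.Away.algebraMap_isUnit (S := T) (inc b₀)
    let ρc : Bc →+* T := IsLocalization.Away.lift b₀ hu
    let incc : Bc →+* T := IsLocalization.Away.lift b₀ hu'
    have hρc : ρc.comp (algebraMap B Bc) = (algebraMap (B ⊗[k] A) T).comp ρ :=
      IsLocalization.Away.lift_comp _ hu
    have hincc : incc.comp (algebraMap B Bc) = (algebraMap (B ⊗[k] A) T).comp inc :=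
      IsLocalization.Away.lift_comp _ hu'
    have hh : ∀ g : B ⊗[k] A →+* T, Spec.map (CommRingCat.ofHom (g.comp ρ)) ≫ ψ =
        Spec.map (CommRingCat.ofHom (g.comp inc)) ≫ ψ := by
      intro g
      rw [CommRingCat.ofHom_comp, CommRingCat.ofHom_comp, Spec.map_comp, Spec.map_comp, Category.assoc,
        Category.assoc, hψ]
    obtain ⟨φ, hφ⟩ := SchemeQuot.exists_factor
      (Spec.map (CommRingCat.ofHom (algebraMap B Bc)) ≫ ψ) hV (by
        rintro - ⟨q, rfl⟩
        refine hcV (PrimeSpectrum.comap (algebraMap B Bc) q) fun hq => ?_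
        exact q.2.ne_top (Ideal.eq_top_of_isUnit_mem _ hq (IsLocalization.Away.algebraMap_isUnit b₀)))
    have heq : φ ≫ CommRingCat.ofHom ρc = φ ≫ CommRingCat.ofHom incc := by
      apply Spec.map_injective
      rw [← cancel_mono hV.fromSpec, Spec.map_comp, Spec.map_comp, Category.assoc, Category.assoc, hφ,
        ← Category.assoc, ← Category.assoc, ← Spec.map_comp, ← Spec.map_comp, ← CommRingCat.ofHom_comp,
        ← CommRingCat.ofHom_comp, hρc, hincc]
      exact hh (algebraMap (B ⊗[k] A) T)
    let ic := IsLocalization.Away.map (Localization.Away c) Bc (algebraMap C B) c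
    have hrange : ∀ γ, φ.hom γ ∈ ic.range := by
      intro γ
      obtain ⟨n, b, hb⟩ := IsLocalization.Away.surj b₀ (φ.hom γ)
      have h1 : algebraMap (B ⊗[k] A) T (ρ b) = algebraMap (B ⊗[k] A) T (inc b) := by
        rw [← RingHom.comp_apply, ← hρc, RingHom.comp_apply, ← RingHom.comp_apply _ inc b, ← hincc,
          RingHom.comp_apply, ← hb, map_mul, map_mul, map_pow, map_pow]
        congr 1
        · exact DFunLike.congr_fun (congrArg CommRingCat.Hom.hom heq) γ
        · congr 1
          rw [← RingHom.comp_apply, hρc, RingHom.comp_apply, hρb₀, ← RingHom.comp_apply, ← hincc,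
            RingHom.comp_apply]
      obtain ⟨⟨-, m, rfl⟩, hm⟩ := (IsLocalization.eq_iff_exists (Submonoid.powers (inc b₀)) T).1 h1
      have hfix : b₀ ^ m * b ∈ C := by
        show ρ (b₀ ^ m * b) = inc (b₀ ^ m * b)
        rw [map_mul, map_mul, map_pow, map_pow, hρb₀]
        exact hm
      refine ⟨IsLocalization.mk' (Localization.Away c) (⟨b₀ ^ m * b, hfix⟩ : C)
        (⟨c ^ (m + n), m + n, rfl⟩ : Submonoid.powers c), ?_⟩
      refine (IsLocalization.map_mk' _ _ _).trans (IsLocalization.mk'_eq_iff_eq_mul.2 ?_)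
      show algebraMap B Bc (b₀ ^ m * b) = φ.hom γ * algebraMap B Bc (algebraMap C B (c ^ (m + n)))
      rw [map_mul, ← hb, map_pow (algebraMap C B), map_pow, map_pow, pow_add]
      ring
    have hicinj : Function.Injective ic :=
      IsLocalization.map_injective_of_injective _ (Localization.Away c) Bc hinj
    let e := RingEquiv.ofBijective ic.rangeRestrict
      ⟨fun a b h => hicinj (congrArg Subtype.val h), ic.rangeRestrict_surjective⟩
    refine ⟨Spec.map (CommRingCat.ofHom (e.symm.toRingHom.comp (φ.hom.codRestrict ic.range hrange))) ≫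
      hV.fromSpec, ?_⟩
    rw [← Category.assoc, ← Spec.map_comp]
    refine Eq.trans ?_ hφ
    congr 2
    refine CommRingCat.hom_ext (RingHom.ext fun γ => ?_)
    exact congrArg Subtype.val (e.apply_symm_apply ⟨φ.hom γ, hrange γ⟩)
  choose χ hχ using hloc
  exact SchemeQuot.existsUnique_desc hinj hsurj ψ c hc χ hχ

end Groth.Agent.S12924
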