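import Groth.Statements.S12926
import Mathlib.LinearAlgebra.Projection
import Mathlib.RingTheory.Bialgebra.Basic


set_option autoImplicit false
universe u v
open HopfRep

namespace Groth.Agent.S12926

/-- Let `k` be a commutative ring and `A` a commutative bialgebra over `k`, flat as a `k`-module. If the
submodule `k · 1` of the regular comodule `A` has a complement `H` which is a subcomodule — the case
used when `A` is cosemisimple, i.e. every subcomodule of every comodule is a direct summand as a
comodule — then the trivial action of `Spec A` on `Spec k` is tame: there is a comodule map `α : A →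
k`, for the regular coaction on `A` and the trivial coaction `r ↦ r ⊗ 1` on `k`, with `α 1 = 1`. -/
theorem result
    (k : Type u) [CommRing k] (A : Type v) [CommRing A] [Bialgebra k A] [Module.Flat k A]
    (H : Submodule k A) (hH : HopfRep.IsSubcomod (k := k) (A := A) H)
    (hc : IsCompl (Submodule.span k {(1 : A)}) H) :
    ∃ α : A →ₗ[k] k, @Hoch.IsComodHom k _ A _ _ _ A _ _ _ k _ _ (HopfRep.Comod.trivial k A k) α ∧ α 1 = 1 := by
  obtain ⟨e, he⟩ : ∃ e : A →ₗ[k] k, (∀ h ∈ H, e h = 0) ∧ e 1 = 1 := by
    refine ⟨CoalgebraStruct.counit (R := k) (A := A) ∘ₗ (Submodule.span k {(1 : A)}).subtype ∘ₗ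
      (Submodule.span k {(1 : A)}).projectionOnto H hc, fun h hh => ?_, ?_⟩
    · simp [Submodule.projectionOnto_apply_of_mem_right hc hh]
    · have := Submodule.projectionOnto_apply_left hc ⟨1, Submodule.mem_span_singleton_self 1⟩
      simp [this]
  refine ⟨e, ?_, he.2⟩
  refine LinearMap.ext fun x => ?_
  rw [LinearMap.comp_apply, LinearMap.comp_apply]
  obtain ⟨a, ha, h, hh, rfl⟩ := Submodule.mem_sup.1 (hc.sup_eq_top ▸ Submodule.mem_top (x := x))
  obtain ⟨r, rfl⟩ := Submodule.mem_span_singleton.1 ha
  simp only [map_add, map_smul]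
  obtain ⟨z, hz⟩ := hH h hh
  change _ = r • e.rTensor A (CoalgebraStruct.comul (R := k) (1 : A)) +
    e.rTensor A (HopfRep.Comod.coact (k := k) (A := A) h)
  rw [← hz, ← LinearMap.rTensor_comp_apply, show e ∘ₗ H.subtype = 0 from LinearMap.ext fun y => he.1 _ y.2,
    LinearMap.rTensor_zero, LinearMap.zero_apply, Bialgebra.comul_one, Algebra.TensorProduct.one_def,
    LinearMap.rTensor_tmul, he.2, he.1 h hh]
  simp only [map_zero, add_zero]
  rfl

end Groth.Agent.S12926
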