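import Groth.Statements.S16691
import Mathlib
import Groth.Agent.ComodBasic.Basic
import Groth.Agent.ComodRing.Basic
import Groth.Prelude.Def_ComodTens


set_option autoImplicit false
universe u v w w'
open scoped TensorProduct
open ComodTens

namespace Groth.Agent.S16691

section Hom

open Groth.Agent.ComodBasic TensorProduct WithConv CoalgebraStruct HopfRep

variable {k : Type u} [CommRing k] {A : Type v} [CommRing A] [HopfAlgebra k A]
variable {V : Type w'} [AddCommGroup V] [Module k V] [cV : Comod k A V]
variable {W : Type w} [AddCommGroup W] [Module k W] [cW : Comod k A W]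

local notation "S₀" => (HopfAlgebraStruct.antipode (R := k) (A := A))

/-- Multiply two algebra components. -/
noncomputable def mulTwo : (W ⊗[k] A) ⊗[k] A →ₗ[k] W ⊗[k] A :=
  (LinearMap.mul' k A).lTensor W ∘ₗ (TensorProduct.assoc k W A A).toLinearMap

omit cW in
@[simp] theorem mulTwo_tmul (w : W) (a b : A) :
    mulTwo ((w ⊗ₜ[k] a) ⊗ₜ[k] b) = w ⊗ₜ[k] (a * b) := by
  simp [mulTwo]

/-- Twist a map `V → W ⊗ A` with the coaction of `V`, after applying `T` to the algebra part. -/
noncomputable def twist (T : A →ₗ[k] A) (F : V →ₗ[k] W ⊗[k] A) : V →ₗ[k] W ⊗[k] A :=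
  mulTwo ∘ₗ T.lTensor (W ⊗[k] A) ∘ₗ F.rTensor A ∘ₗ Comod.coact (k := k) (A := A)

omit cW in
theorem twist_twist (F : V →ₗ[k] W ⊗[k] A) : twist S₀ (twist LinearMap.id F) = F := by
  refine LinearMap.ext fun v => ?_
  simp only [twist, LinearMap.lTensor_id, LinearMap.id_comp, LinearMap.comp_apply]
  have h := LinearMap.congr_fun (Comod.coassoc (k := k) (A := A) (V := V)) v
  have hc := LinearMap.congr_fun (Comod.counit_comp (k := k) (A := A) (V := V)) v
  simp only [LinearMap.comp_apply, LinearEquiv.coe_coe, LinearMap.flip_apply,
    TensorProduct.mk_apply] at h hc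
  let T : V ⊗[k] (A ⊗[k] A) →ₗ[k] W ⊗[k] A :=
    mulTwo ∘ₗ TensorProduct.map F (LinearMap.mul' k A ∘ₗ (S₀).lTensor A)
  have h1 : ∀ x : V ⊗[k] A,
      mulTwo ((S₀).lTensor (W ⊗[k] A)
        (((mulTwo ∘ₗ F.rTensor A) ∘ₗ Comod.coact (k := k) (A := A) (V := V)).rTensor A x)) =
      T (TensorProduct.assoc k V A A ((Comod.coact (k := k) (A := A) (V := V)).rTensor A x)) := by
    intro x
    induction x using TensorProduct.induction_on with
    | zero => simp
    | add a b ha hb => simp only [map_add, ha, hb]
    | tmul a b =>
      simp only [LinearMap.rTensor_tmul, LinearMap.comp_apply, LinearMap.lTensor_tmul]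
      generalize Comod.coact (k := k) (A := A) a = y
      induction y using TensorProduct.induction_on with
      | zero => simp
      | add c d hc hd => simp only [TensorProduct.add_tmul, map_add, hc, hd]
      | tmul c d =>
        simp only [LinearMap.rTensor_tmul, TensorProduct.assoc_tmul, T, LinearMap.comp_apply,
          TensorProduct.map_tmul, LinearMap.lTensor_tmul, LinearMap.mul'_apply]
        generalize F c = z
        induction z using TensorProduct.induction_on with
        | zero => simp
        | add p q hp hq => simp only [TensorProduct.add_tmul, map_add, hp, hq]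
        | tmul p q => simp [mul_assoc]
  refine (h1 _).trans ?_
  rw [h]
  have h2 : ∀ x : V ⊗[k] A, T ((comul (R := k) (A := A)).lTensor V x) =
      F (TensorProduct.rid k V ((counit (R := k) (A := A)).lTensor V x)) := by
    intro x
    induction x using TensorProduct.induction_on with
    | zero => simp
    | add a b ha hb => simp only [map_add, ha, hb]
    | tmul a b =>
      simp only [T, LinearMap.comp_apply, LinearMap.lTensor_tmul, TensorProduct.map_tmul,
        HopfAlgebra.mul_antipode_lTensor_comul_apply, TensorProduct.rid_tmul, map_smul]
      generalize F a = z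
      induction z using TensorProduct.induction_on with
      | zero => simp
      | add p q hp hq => simp only [TensorProduct.add_tmul, map_add, smul_add, hp, hq]
      | tmul p q => simp [Algebra.algebraMap_eq_smul_one, TensorProduct.tmul_smul]
  rw [h2, hc]
  simp

omit cW in
theorem twist_injective : Function.Injective (twist (k := k) (A := A) (V := V) (W := W) LinearMap.id) :=
  Function.LeftInverse.injective twist_twist

/-- An element of `(W ⊗ V^*) ⊗ A` read as a map `V → W ⊗ A`. -/
noncomputable def evHom : (W ⊗[k] Module.Dual k V) ⊗[k] A →ₗ[k] (V →ₗ[k] W ⊗[k] A) :=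
  dualTensorHom k V (W ⊗[k] A) ∘ₗ (TensorProduct.assoc k (Module.Dual k V) W A).toLinearMap ∘ₗ
    (TensorProduct.comm k W (Module.Dual k V)).toLinearMap.rTensor A

omit cW in
theorem twist_evHom_tmul_one (x : W ⊗[k] Module.Dual k V) :
    twist LinearMap.id (evHom (x ⊗ₜ[k] (1 : A))) =
      (dualTensorHom k V W (TensorProduct.comm k W _ x)).rTensor A ∘ₗ Comod.coact (k := k) (A := A) (V := V) := by
  refine LinearMap.ext fun v => ?_
  simp only [twist, LinearMap.lTensor_id, LinearMap.id_comp, LinearMap.comp_apply]
  generalize Comod.coact (k := k) (A := A) v = y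
  induction y using TensorProduct.induction_on with
  | zero => simp
  | add a b ha hb => simp only [map_add, ha, hb]
  | tmul a b =>
    induction x using TensorProduct.induction_on with
    | zero => simp
    | add p q hp hq =>
      simp only [TensorProduct.add_tmul, map_add, LinearMap.rTensor_tmul, LinearMap.add_apply] at hp hq ⊢
      rw [hp, hq]
    | tmul w g => simp [evHom, TensorProduct.smul_tmul']

/-- The Hom comodule acts on a map by conjugation. -/
theorem twist_evHom_coact (d : Comod k A (Module.Dual k V)) (hd : ComodTens.Comod.IsDual cV d)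
    (x : W ⊗[k] Module.Dual k V) :
    twist LinearMap.id (evHom ((ComodTens.Comod.tensor cW d).coact x)) =
      Comod.coact (k := k) (A := A) (V := W) ∘ₗ dualTensorHom k V W (TensorProduct.comm k W _ x) := by
  induction x using TensorProduct.induction_on with
  | zero =>
    refine LinearMap.ext fun v => ?_
    simp [twist]
  | add p q hp hq =>
    refine LinearMap.ext fun v => ?_
    have hp' := LinearMap.congr_fun hp v
    have hq' := LinearMap.congr_fun hq v
    simp only [twist, LinearMap.lTensor_id, LinearMap.id_comp, LinearMap.comp_apply, map_add,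
      LinearMap.rTensor_add, LinearMap.add_apply] at hp' hq' ⊢
    rw [hp', hq']
  | tmul w g =>
    refine LinearMap.ext fun v => ?_
    simp only [twist, LinearMap.lTensor_id, LinearMap.id_comp, LinearMap.comp_apply,
      TensorProduct.comm_tmul, dualTensorHom_apply, map_smul]
    rw [ComodTens.tensor_coact_tmul]
    set yw := Comod.coact (k := k) (A := A) w with hyw
    clear_value yw
    clear hyw
    have key : ∀ (zg : Module.Dual k V ⊗[k] A) (a : V) (b : A),
        mulTwo ((evHom (TensorProduct.map LinearMap.id (LinearMap.mul' k A)
          (AlgebraTensorModule.tensorTensorTensorComm k k k k W A (Module.Dual k V) A (yw ⊗ₜ[k] zg))) a)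
            ⊗ₜ[k] b) = ((LinearMap.mul k A (dualTensorHom k V A zg a * b)).lTensor W) yw := by
      intro zg a b
      induction zg using TensorProduct.induction_on with
      | zero => simp [LinearMap.lTensor_zero]
      | add p q hp hq =>
        simp only [TensorProduct.tmul_add, TensorProduct.add_tmul, map_add, LinearMap.add_apply] at hp hq ⊢
        simp only [add_mul, map_add, LinearMap.lTensor_add, LinearMap.add_apply, hp, hq]
      | tmul φ c =>
        induction yw using TensorProduct.induction_on with
        | zero => simp
        | add p q hp hq =>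
          simp only [TensorProduct.tmul_add, map_add, LinearMap.add_apply, TensorProduct.add_tmul] at hp hq ⊢
          rw [hp, hq]
        | tmul p q =>
          simp [evHom, TensorProduct.smul_tmul', mul_comm, mul_left_comm]
    have key2 : ∀ y : V ⊗[k] A,
        mulTwo ((evHom (TensorProduct.map LinearMap.id (LinearMap.mul' k A)
          (AlgebraTensorModule.tensorTensorTensorComm k k k k W A (Module.Dual k V) A
            (yw ⊗ₜ[k] d.coact g)))).rTensor A y) =
        ((LinearMap.mul k A (LinearMap.mul' k A
          ((dualTensorHom k V A (d.coact g)).rTensor A y))).lTensor W) yw := by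
      intro y
      induction y using TensorProduct.induction_on with
      | zero => simp [LinearMap.lTensor_zero]
      | add p q hp hq => simp only [map_add, LinearMap.lTensor_add, LinearMap.add_apply, hp, hq]
      | tmul a b => rw [LinearMap.rTensor_tmul, LinearMap.rTensor_tmul, LinearMap.mul'_apply, key]
    rw [key2]
    have key3 : LinearMap.mul' k A ((dualTensorHom k V A (d.coact g)).rTensor A
        (Comod.coact (k := k) (A := A) v)) = g v • (1 : A) := by
      rw [show dualTensorHom k V A (d.coact g) = ComodTens.dualCoactFun cV g from
        hd g]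
      have h := LinearMap.congr_fun (Comod.coassoc (k := k) (A := A) (V := V)) v
      have hc := LinearMap.congr_fun (Comod.counit_comp (k := k) (A := A) (V := V)) v
      simp only [LinearMap.comp_apply, LinearEquiv.coe_coe, LinearMap.flip_apply,
        TensorProduct.mk_apply] at h hc
      let T : V ⊗[k] (A ⊗[k] A) →ₗ[k] A :=
        (TensorProduct.lid k A).toLinearMap ∘ₗ TensorProduct.map g (LinearMap.mul' k A ∘ₗ (S₀).rTensor A)
      have h1 : ∀ x : V ⊗[k] A, LinearMap.mul' k A ((ComodTens.dualCoactFun cV g).rTensor A x) =
          T (TensorProduct.assoc k V A A ((Comod.coact (k := k) (A := A) (V := V)).rTensor A x)) := by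
        intro x
        induction x using TensorProduct.induction_on with
        | zero => simp
        | add a b ha hb => simp only [map_add, ha, hb]
        | tmul a b =>
          simp only [LinearMap.rTensor_tmul, LinearMap.mul'_apply, ComodTens.dualCoactFun_apply]
          generalize Comod.coact (k := k) (A := A) a = y
          induction y using TensorProduct.induction_on with
          | zero => simp
          | add c d hc hd => simp only [TensorProduct.add_tmul, map_add, add_mul, hc, hd]
          | tmul c d => simp [T]
      rw [h1, h]
      generalize Comod.coact (k := k) (A := A) v = y at hc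
      have h2 : T ((comul (R := k) (A := A)).lTensor V y) =
          g (TensorProduct.rid k V ((counit (R := k) (A := A)).lTensor V y)) • (1 : A) := by
        clear hc
        induction y using TensorProduct.induction_on with
        | zero => simp
        | add a b ha hb => simp only [map_add, ha, hb, add_smul]
        | tmul a b =>
          simp [T, HopfAlgebra.mul_antipode_rTensor_comul_apply, Algebra.algebraMap_eq_smul_one,
            smul_smul, mul_comm]
      rw [h2, hc]
      simp
    rw [key3, map_smul, LinearMap.lTensor_smul, LinearMap.smul_apply]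
    congr 1
    have : LinearMap.mul k A (1 : A) = LinearMap.id := LinearMap.ext fun a => one_mul a
    rw [this, LinearMap.lTensor_id, LinearMap.id_apply]

end Hom


/-- Let `k` be a commutative ring, `A` a commutative Hopf algebra over `k`, flat over `k`, `B` a flat
`k`-module with a right `A`-comodule structure, and `M` a finitely presented `k`-module with a right
`A`-comodule structure; let `M^*` carry the contragredient structure `d` (for each form `f`, `d f`
read as a map `M → A` is `m ↦ Σ f(m₀) S(m₁)`) and `B ⊗ M^*` the tensor-product coaction `b ⊗ φ ↦ Σ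
(b₀ ⊗ φ₀) ⊗ b₁ φ₁`. Then `b ⊗ φ ↦ (m ↦ φ(m) b)` restricts to a bijection from the invariants `(B ⊗
M^*)^A` (elements with coaction `x ⊗ 1`) onto the `A`-comodule maps `M → B`. (The published
statement assumes `B` only finitely presented over `k`; for `k = ℤ`, `A = ℤ` the Hopf algebra of the
trivial group and `B = M = ℤ/2` with trivial coactions, `M^* = 0` so the invariants vanish while the
identity of `ℤ/2` is a comodule map, and the published proof uses that `B ⊗ M^* → Hom(M, B)` is
bijective, which holds for `B` flat; so `B` is taken flat here.) -/
theorem result (k : Type u) [CommRing k]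
    (A : Type v) [CommRing A] [HopfAlgebra k A] [Module.Flat k A]
    (B : Type w) [AddCommGroup B] [Module k B] [Module.Flat k B] (cB : HopfRep.Comod k A B)
    (M : Type w') [AddCommGroup M] [Module k M] [Module.FinitePresentation k M]
    (cM : HopfRep.Comod k A M)
    (d : HopfRep.Comod k A (Module.Dual k M)) (hd : ComodTens.Comod.IsDual cM d) :
    Set.BijOn
      (fun x : B ⊗[k] Module.Dual k M => dualTensorHom k M B (TensorProduct.comm k B (Module.Dual k M) x))
      ((@HopfRep.fixedPts k A _ _ _ (B ⊗[k] Module.Dual k M) _ _ (ComodTens.Comod.tensor cB d)) :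
        Set (B ⊗[k] Module.Dual k M))
      {h : M →ₗ[k] B | @Hoch.IsComodHom k _ A _ _ _ M _ _ cM B _ _ cB h} := by
  letI := cB
  letI := cM
  have hev : Function.Injective (evHom (k := k) (A := A) (V := M) (W := B)) := by
    refine (ComodRing.dualTensorHom_bijective_of_finitePresentation (R := k) M (B ⊗[k] A)).1.comp
      ((TensorProduct.assoc k _ B A).injective.comp ?_)
    exact ((TensorProduct.comm k B (Module.Dual k M)).rTensor A).injective
  have hbij : Function.Bijective
      (fun x : B ⊗[k] Module.Dual k M => dualTensorHom k M B (TensorProduct.comm k B (Module.Dual k M) x)) :=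
    (ComodRing.dualTensorHom_bijective_of_finitePresentation (R := k) M B).comp (TensorProduct.comm k B _).bijective
  have hiff : ∀ x : B ⊗[k] Module.Dual k M,
      (ComodTens.Comod.tensor cB d).coact x = x ⊗ₜ[k] (1 : A) ↔
        Hoch.IsComodHom A (dualTensorHom k M B (TensorProduct.comm k B (Module.Dual k M) x)) := fun x => by
    rw [Hoch.IsComodHom, ← twist_evHom_tmul_one x, ← twist_evHom_coact d hd x, twist_injective.eq_iff,
      hev.eq_iff]
  refine ⟨fun x hx => (hiff x).1 hx, hbij.1.injOn, fun h hh => ?_⟩
  obtain ⟨x, rfl⟩ := hbij.2 h
  exact ⟨x, (hiff x).2 hh, rfl⟩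

end Groth.Agent.S16691
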