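import Groth.Statements.S12928
import Groth.Agent.ComodBasic.Dual
import Groth.Agent.S16691

set_option autoImplicit false
universe u
open HopfRep

namespace Groth.Agent.S12928

open TensorProduct WithConv CoalgebraStruct HopfRep Groth.Agent.ComodBasic

section Dual

universe v w

variable {k : Type u} [CommRing k] {A : Type v} [CommRing A] [HopfAlgebra k A] [Module.Finite k A]
  [Module.Projective k A]
variable {V : Type w} [AddCommGroup V] [Module k V] [cV : Comod k A V]

local notation "S₀" => (HopfAlgebraStruct.antipode (R := k) (A := A))

omit cV in
/-- Slices separate. -/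
theorem eq_of_slice' {W : Type*} [AddCommGroup W] [Module k W] {x y : W ⊗[k] A}
    (h : ∀ φ : A →ₗ[k] k, slice φ x = slice φ y) : x = y := by
  classical
  obtain ⟨n, f, g, -, -, eq⟩ := Module.Finite.exists_comp_eq_id_of_projective k A
  have hg : ∀ z : W ⊗[k] A, TensorProduct.piScalarRight k k W (Fin n) (g.lTensor W z) =
      fun i => slice ((LinearMap.proj i).comp g) z := by
    intro z
    induction z using TensorProduct.induction_on with
    | zero => funext i; simp
    | add a b ha hb => funext i; simp [map_add, ha, hb]
    | tmul w a => funext i; simp
  have h1 : g.lTensor W x = g.lTensor W y :=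
    (TensorProduct.piScalarRight k k W (Fin n)).injective (by rw [hg, hg]; funext i; exact h _)
  have h2 := congrArg (f.lTensor W) h1
  rwa [← LinearMap.comp_apply, ← LinearMap.comp_apply, ← LinearMap.lTensor_comp, eq, LinearMap.lTensor_id] at h2

theorem counit_antipode_eq : counit (R := k) (A := A) ∘ₗ S₀ = counit (R := k) (A := A) :=
  LinearMap.ext fun a => HopfAlgebra.counit_antipode a

theorem conv_comp_antipode (φ ψ : A →ₗ[k] k) :
    (toConv φ * toConv ψ : Cv k A).ofConv ∘ₗ S₀ =
      (toConv (ψ ∘ₗ S₀) * toConv (φ ∘ₗ S₀) : Cv k A).ofConv := by
  refine LinearMap.ext fun a => ?_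
  change LinearMap.mul' k k (TensorProduct.map φ ψ (comul (R := k) (HopfAlgebra.antipode k a))) =
    LinearMap.mul' k k (TensorProduct.map (ψ ∘ₗ S₀) (φ ∘ₗ S₀) (comul (R := k) a))
  rw [comul_antipode]
  generalize comul (R := k) a = y
  induction y using TensorProduct.induction_on with
  | zero => simp
  | add a b ha hb => simp [ha, hb]
  | tmul c d => simp [mul_comm]

variable [Module.Finite k V] [Module.Projective k V]

variable (k A V) in
/-- The coaction of the contragredient. -/
noncomputable def dualCoact : Module.Dual k V →ₗ[k] Module.Dual k V ⊗[k] A :=
  (dualTensorHomEquiv k V A).symm.toLinearMap ∘ₗ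
    { toFun := ComodTens.dualCoactFun cV
      map_add' := ComodTens.dualCoactFun_add cV
      map_smul' := ComodTens.dualCoactFun_smul cV }

theorem dualTensorHom_dualCoact (f : Module.Dual k V) :
    dualTensorHom k V A (dualCoact k A V f) = ComodTens.dualCoactFun cV f := by
  exact (dualTensorHomEquiv k V A).apply_symm_apply _

omit cV [Module.Finite k V] [Module.Projective k V] in
theorem slice_dual_apply (φ : A →ₗ[k] k) (z : Module.Dual k V ⊗[k] A) (v : V) :
    slice φ z v = φ (dualTensorHom k V A z v) := by
  induction z using TensorProduct.induction_on with
  | zero => simp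
  | add a b ha hb => simp [ha, hb]
  | tmul g a => simp [mul_comm]

theorem slice_dualCoact (φ : A →ₗ[k] k) (f : Module.Dual k V) :
    slice φ (dualCoact k A V f) = f ∘ₗ act (φ ∘ₗ S₀) := by
  refine LinearMap.ext fun v => ?_
  rw [slice_dual_apply, dualTensorHom_dualCoact, ComodTens.dualCoactFun_apply, LinearMap.comp_apply,
    act_apply]
  generalize Comod.coact (k := k) (A := A) v = y
  induction y using TensorProduct.induction_on with
  | zero => simp
  | add a b ha hb => simp [ha, hb]
  | tmul c d => simp [mul_comm]

variable (k A V) in
/-- The contragredient comodule. -/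
@[reducible] noncomputable def dualComod : Comod k A (Module.Dual k V) where
  coact := dualCoact k A V
  coassoc := by
    refine LinearMap.ext fun f => ?_
    simp only [LinearMap.comp_apply, LinearEquiv.coe_coe]
    refine (LinearEquiv.eq_symm_apply _).1 ?_
    refine eq_of_slice' fun ψ => eq_of_slice' fun φ => ?_
    rw [slice_rTensor, slice_dualCoact φ, slice_dualCoact ψ]
    have key : ∀ x : Module.Dual k V ⊗[k] A, slice φ (slice ψ ((TensorProduct.assoc k _ A A).symm
        ((comul (R := k) (A := A)).lTensor _ x))) =
        slice (toConv φ * toConv ψ : Cv k A).ofConv x := by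
      intro x
      induction x using TensorProduct.induction_on with
      | zero => simp
      | add a b ha hb => simp only [map_add, ha, hb]
      | tmul g a =>
        rw [LinearMap.lTensor_tmul, slice_tmul]
        change _ = (LinearMap.mul' k k (TensorProduct.map φ ψ (comul (R := k) a))) • g
        generalize comul (R := k) a = y
        induction y using TensorProduct.induction_on with
        | zero => simp
        | add a b ha hb => simp only [TensorProduct.tmul_add, map_add, add_smul, ha, hb]
        | tmul c d => simp [smul_smul, mul_comm]
    rw [key, slice_dualCoact, conv_comp_antipode, LinearMap.comp_assoc]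
    congr 1
    exact LinearMap.ext fun v => act_act _ _ v
  counit_comp := by
    refine LinearMap.ext fun f => (TensorProduct.rid k _).injective ?_
    simp only [LinearMap.comp_apply, LinearMap.flip_apply, TensorProduct.mk_apply,
      TensorProduct.rid_tmul, one_smul]
    change slice (counit (R := k) (A := A)) (dualCoact k A V f) = f
    rw [slice_dualCoact, counit_antipode_eq]
    exact LinearMap.ext fun v => congrArg f (act_counit v)

theorem isDual_dualComod : ComodTens.Comod.IsDual cV (dualComod k A V) := dualTensorHom_dualCoact

end Dual


/-- Let `k` be a commutative ring, `A` a commutative Hopf algebra over `k` which is finite locally free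
(finite projective, in particular flat) as a `k`-module, `B` a commutative `k`-algebra with a
coaction of `A` that is an algebra map, and `C = B^A` the ring of invariants; assume `C` Noetherian
and `B` finite and flat over `C`. If taking invariants is exact on `(B, A)`-modules — for
`B`-modules `M`, `N` with compatible `A`-coactions (in the universe of `k`, `A`, `B`) every
surjective `B`-linear comodule map `M → N` maps `M^A` onto `N^A` — then the action is tame: there is
a comodule map `α : A → B` with `α 1 = 1`. Together with the converse (a total integral makes
invariants exact) this says that tameness of the action is the exactness of invariants. (The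
published statement does not assume `B` finite over `C`; its proof uses that finiteness, which is
assumed here.) -/
theorem result
    (k : Type u) [CommRing k] (A : Type u) [CommRing A] [HopfAlgebra k A] [Module.Flat k A]
    [Module.Finite k A] [Module.Projective k A]
    (B : Type u) [CommRing B] [Algebra k B] [HopfRep.Comod k A B] [GLin.IsCoactAlg k A B]
    [IsNoetherianRing (GLin.invariants k A B)] [Module.Finite (GLin.invariants k A B) B] [Module.Flat (GLin.invariants k A B) B]
    (hexact : ∀ (M N : Type u) [AddCommGroup M] [Module k M] [Module B M] [IsScalarTower k B M]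
      [HopfRep.Comod k A M] [TameAct.IsHopfMod k A B M]
      [AddCommGroup N] [Module k N] [Module B N] [IsScalarTower k B N]
      [HopfRep.Comod k A N] [TameAct.IsHopfMod k A B N] (f : M →ₗ[B] N),
      Hoch.IsComodHom A (f.restrictScalars k) → Function.Surjective f →
      ∀ n ∈ HopfRep.fixedPts k A N, ∃ m ∈ HopfRep.fixedPts k A M, f m = n) :
    ∃ α : A →ₗ[k] B, Hoch.IsComodHom A α ∧ α 1 = 1 := by
  letI d : HopfRep.Comod k A (Module.Dual k A) := dualComod k A A
  letI cM : HopfRep.Comod k A (B ⊗[k] Module.Dual k A) :=
    ComodTens.Comod.tensor (inferInstance : HopfRep.Comod k A B) d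
  have hmul : ∀ (x : B) (t : B ⊗[k] Module.Dual k A) , cM.coact (x • t) =
      TameAct.hmSMul k A B (B ⊗[k] Module.Dual k A) (HopfRep.Comod.coact (k := k) (A := A) x) (cM.coact t) := by
    intro x t
    induction t using TensorProduct.induction_on with
    | zero => simp
    | add p q hp hq => rw [smul_add, map_add, map_add, map_add, hp, hq]
    | tmul b φ =>
      rw [TensorProduct.smul_tmul', smul_eq_mul, ComodTens.tensor_coact_tmul, ComodTens.tensor_coact_tmul,
        GLin.IsCoactAlg.coact_mul]
      generalize HopfRep.Comod.coact (k := k) (A := A) b = yb
      generalize d.coact φ = yφ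
      generalize HopfRep.Comod.coact (k := k) (A := A) x = yx
      induction yφ using TensorProduct.induction_on with
      | zero => simp
      | add p q hp hq => simp only [TensorProduct.tmul_add, map_add, hp, hq]
      | tmul φ₀ a =>
        induction yx using TensorProduct.induction_on with
        | zero => simp
        | add p q hp hq => simp only [add_mul, TensorProduct.add_tmul, map_add, LinearMap.add_apply, hp, hq]
        | tmul x₀ c =>
          induction yb using TensorProduct.induction_on with
          | zero => simp
          | add p q hp hq => simp only [mul_add, TensorProduct.add_tmul, map_add, LinearMap.add_apply, hp, hq]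
          | tmul b₀ e =>
            simp [TensorProduct.smul_tmul', mul_assoc, mul_comm, mul_left_comm]
  haveI hM : TameAct.IsHopfMod k A B (B ⊗[k] Module.Dual k A) := ⟨hmul⟩
  haveI hB : TameAct.IsHopfMod k A B B := ⟨fun x y => by
    rw [smul_eq_mul, GLin.IsCoactAlg.coact_mul]
    generalize HopfRep.Comod.coact (k := k) (A := A) x = yx
    generalize HopfRep.Comod.coact (k := k) (A := A) y = yy
    induction yx using TensorProduct.induction_on with
    | zero => simp
    | add p q hp hq => simp only [add_mul, map_add, LinearMap.add_apply, hp, hq]
    | tmul x₀ c =>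
      induction yy using TensorProduct.induction_on with
      | zero => simp
      | add p q hp hq => simp only [mul_add, map_add, LinearMap.add_apply, hp, hq]
      | tmul b₀ e => simp⟩
  let f : B ⊗[k] Module.Dual k A →ₗ[B] B :=
    (TensorProduct.AlgebraTensorModule.rid k B B).toLinearMap.comp
      (TensorProduct.AlgebraTensorModule.map (LinearMap.id : B →ₗ[B] B) (LinearMap.applyₗ (1 : A)))
  have hf : ∀ (b : B) (φ : Module.Dual k A), f (b ⊗ₜ[k] φ) = φ 1 • b := fun b φ => by simp [f]
  have hd1 : ∀ φ : Module.Dual k A, dualTensorHom k A A (d.coact φ) 1 = φ 1 • (1 : A) := fun φ => by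
    change dualTensorHom k A A (dualCoact k A A φ) 1 = _
    rw [dualTensorHom_dualCoact, ComodTens.dualCoactFun_apply]
    change TensorProduct.lid k A (TensorProduct.map φ _ (comul (R := k) (1 : A))) = _
    simp [Algebra.TensorProduct.one_def]
  have hhom : Hoch.IsComodHom A (f.restrictScalars k) := by
    refine TensorProduct.ext' fun b φ => ?_
    simp only [LinearMap.comp_apply, LinearMap.restrictScalars_apply, hf, map_smul]
    rw [ComodTens.tensor_coact_tmul]
    generalize HopfRep.Comod.coact (k := k) (A := A) b = yb
    have key : ∀ yφ : Module.Dual k A ⊗[k] A, (f.restrictScalars k).rTensor A (TensorProduct.map LinearMap.id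
        (LinearMap.mul' k A) (AlgebraTensorModule.tensorTensorTensorComm k k k k B A (Module.Dual k A) A
          (yb ⊗ₜ[k] yφ))) = (LinearMap.mulRight k (dualTensorHom k A A yφ 1)).lTensor B yb := by
      intro yφ
      induction yφ using TensorProduct.induction_on with
      | zero => simp [LinearMap.lTensor_zero]
      | add p q hp hq =>
        rw [TensorProduct.tmul_add, map_add, map_add, map_add, hp, hq]
        simp [← LinearMap.add_apply, ← LinearMap.lTensor_add]
        congr 2
        exact LinearMap.ext fun a => by simp [mul_add]
      | tmul φ₀ a =>
        induction yb using TensorProduct.induction_on with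
        | zero => simp
        | add p q hp hq => simp only [TensorProduct.add_tmul, map_add, hp, hq]
        | tmul b₀ e => simp [hf, TensorProduct.smul_tmul', TensorProduct.tmul_smul]
    rw [key, hd1]
    clear key
    induction yb using TensorProduct.induction_on with
    | zero => simp
    | add p q hp hq => rw [smul_add, map_add, hp, hq]
    | tmul b₀ e => simp [TensorProduct.tmul_smul]
  have hsurj : Function.Surjective f := fun b => ⟨b ⊗ₜ[k] counit (R := k) (A := A), by simp [hf]⟩
  obtain ⟨x, hx, hfx⟩ := hexact (B ⊗[k] Module.Dual k A) B f hhom hsurj 1 (by
    change HopfRep.Comod.coact (k := k) (A := A) (1 : B) = 1 ⊗ₜ[k] (1 : A)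
    rw [GLin.IsCoactAlg.coact_one, Algebra.TensorProduct.one_def])
  refine ⟨dualTensorHom k A B (TensorProduct.comm k B (Module.Dual k A) x), ?_, ?_⟩
  · change cM.coact x = x ⊗ₜ[k] (1 : A) at hx
    have e := Groth.Agent.S16691.twist_evHom_coact (W := B) d isDual_dualComod x
    rw [hx, Groth.Agent.S16691.twist_evHom_tmul_one] at e
    exact e.symm
  · rw [← hfx]
    clear hx hfx
    induction x using TensorProduct.induction_on with
    | zero => simp
    | add p q hp hq => simp only [map_add, LinearMap.add_apply, hp, hq]
    | tmul b φ => simp [hf]

end Groth.Agent.S12928
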