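import Groth.Statements.S12929
import Mathlib
import Groth.Agent.ComodBasic.Basic


set_option autoImplicit false
universe u v w w'
open HopfRep

namespace Groth.Agent.S12929
open Groth.Agent.ComodBasic TensorProduct

/-- Let `k` be a commutative ring, `A` a commutative Hopf algebra over `k`, `M` a right `A`-comodule and
`N` a `k`-module; give `N ⊗ A` the coaction `id ⊗ Δ`. Then for every `k`-linear map `h : M → N` the
composite `(h ⊗ id_A) ∘ ρ_M : M → N ⊗ A` is a comodule map, and every comodule map `f : M → N ⊗ A`
is of this form for exactly one `h` (which is `(id_N ⊗ ε) ∘ f`): comodule maps `M → N ⊗ A`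
correspond bijectively to linear maps `M → N`. -/
theorem result
    (k : Type u) [CommRing k] (A : Type v) [CommRing A] [HopfAlgebra k A]
    (M : Type w) [AddCommGroup M] [Module k M] [HopfRep.Comod k A M]
    (N : Type w') [AddCommGroup N] [Module k N] :
    (∀ h : M →ₗ[k] N, Hoch.IsComodHom A
        ((Hoch.Ind.equiv k A N).toLinearMap ∘ₗ h.rTensor A ∘ₗ HopfRep.Comod.coact (k := k) (A := A))) ∧
      ∀ f : M →ₗ[k] Hoch.Ind k A N, Hoch.IsComodHom A f →
        ∃! h : M →ₗ[k] N,
          f = (Hoch.Ind.equiv k A N).toLinearMap ∘ₗ h.rTensor A ∘ₗ HopfRep.Comod.coact (k := k) (A := A) := by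
  have key : ∀ (h : M →ₗ[k] N) (m : M),
      Hoch.Ind.coactAux k A N (h.rTensor A (HopfRep.Comod.coact (k := k) (A := A) m)) =
        (h.rTensor A ∘ₗ HopfRep.Comod.coact (k := k) (A := A)).rTensor A
          (HopfRep.Comod.coact (k := k) (A := A) m) := by
    intro h m
    have e := LinearMap.congr_fun (HopfRep.Comod.coassoc (k := k) (A := A) (V := M)) m
    simp only [LinearMap.comp_apply, LinearEquiv.coe_coe] at e
    rw [LinearMap.rTensor_comp, LinearMap.comp_apply,
      ← (TensorProduct.assoc k M A A).symm_apply_apply ((HopfRep.Comod.coact (k := k) (A := A)).rTensor A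
        (HopfRep.Comod.coact (k := k) (A := A) m)), e]
    generalize HopfRep.Comod.coact (k := k) (A := A) m = x
    induction x with
    | zero => simp
    | add a b ha hb => simp only [map_add, ha, hb]
    | tmul v a =>
      simp only [LinearMap.rTensor_tmul, LinearMap.lTensor_tmul, Hoch.Ind.coactAux_tmul]
      generalize CoalgebraStruct.comul (R := k) a = y
      induction y with
      | zero => simp
      | add a b ha hb => simp only [tmul_add, map_add, ha, hb]
      | tmul a b => simp
  have h2 : ∀ (h : M →ₗ[k] N) (m : M),
      slice (Coalgebra.counit (R := k)) (h.rTensor A (HopfRep.Comod.coact (k := k) (A := A) m)) = h m := by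
    intro h m
    rw [slice_rTensor, ← act_apply, act_counit]
  refine ⟨fun h => LinearMap.ext fun m => key h m, fun f hf => ?_⟩
  let f' : M →ₗ[k] N ⊗[k] A := f
  refine ⟨slice (Coalgebra.counit (R := k)) ∘ₗ f', ?_, ?_⟩
  · refine LinearMap.ext fun m => ?_
    change f' m = (slice (Coalgebra.counit (R := k)) ∘ₗ f').rTensor A
      (HopfRep.Comod.coact (k := k) (A := A) m)
    have hm : Hoch.Ind.coactAux k A N (f' m) =
        f'.rTensor A (HopfRep.Comod.coact (k := k) (A := A) m) := LinearMap.congr_fun hf m
    rw [LinearMap.rTensor_comp, LinearMap.comp_apply, ← hm]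
    generalize f' m = z
    induction z with
    | zero => simp
    | add a b ha hb => simp only [map_add, ← ha, ← hb]
    | tmul p a =>
      rw [Hoch.Ind.coactAux_tmul]
      conv_lhs => rw [← Coalgebra.rTensor_counit_comul (R := k) a |> congrArg (TensorProduct.lid k A) |>.trans (TensorProduct.lid_tmul a 1 |>.trans (one_smul k a))]
      generalize CoalgebraStruct.comul (R := k) a = y
      induction y with
      | zero => simp
      | add a b ha hb => simp only [tmul_add, map_add, ← ha, ← hb]
      | tmul a b => simp [tmul_smul, smul_tmul']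
  · intro g hg
    refine LinearMap.ext fun m => ?_
    subst hg
    exact (h2 g m).symm

end Groth.Agent.S12929
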