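import Groth.Statements.S1293
import Groth.Agent.FlatDescent.LocalFP.Projective

set_option autoImplicit false
universe u
open FlatMor

namespace Groth.Agent.S1293

open TensorProduct in
/-- Let B be a finitely presented A-algebra, T ⊆ B a multiplicative subset and N a finitely presented
T⁻¹B-module which admits a pure spreadout (FlatCA.HasPureSpreadout). Then (1) every x ∈ N has a
content ideal, i.e. a smallest ideal I of A with x ∈ IN; and (2) every A-linear map u from N to a
flat A-module M such that u ⊗ A/𝔪 is injective for every maximal ideal 𝔪 of A is universally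
injective over A. -/
theorem result {A B : Type u} [CommRing A] [CommRing B] [Algebra A B] [Algebra.FinitePresentation A B]
    (T : Submonoid B) (N : Type u) [AddCommGroup N] [Module (Localization T) N] [Module A N] [IsScalarTower A (Localization T) N]
    [Module.FinitePresentation (Localization T) N] (h : FlatCA.HasPureSpreadout A B T N) :
    (∀ x : N, ∃ I : Ideal A, x ∈ I • (⊤ : Submodule A N) ∧ ∀ J : Ideal A, x ∈ J • (⊤ : Submodule A N) → I ≤ J) ∧
    ∀ (M : Type u) [AddCommGroup M] [Module A M] [Module.Flat A M] (u : N →ₗ[A] M),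
      (∀ (m : Ideal A) [m.IsMaximal], Function.Injective (u.lTensor (A ⧸ m))) → FlatCA.UnivInj A u := by
  classical
  obtain ⟨C, _, _, _, _, _, _, _, _, _, _, N', _, _, _, _, g, -, -, hg, hproj, huniv⟩ := h
  let S := Localization T
  haveI : IsScalarTower A S N := inferInstance
  let gA : N' →ₗ[A] N := g.restrictScalars A
  have hgen : ∀ (W : Type u) [AddCommGroup W] [Module A W] (z : N ⊗[A] W), ∃ t ∈ T, ∃ v : N' ⊗[A] W,
      algebraMap B S t • z = gA.rTensor W v := by
    intro W _ _ z
    have hs : ∀ (t : B) (v : N' ⊗[A] W), gA.rTensor W (algebraMap B C t • v) = algebraMap B S t • gA.rTensor W v := by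
      intro t v
      induction v with
      | zero => simp
      | add a b ha hb => simp only [smul_add, map_add, ha, hb]
      | tmul m w =>
        rw [TensorProduct.smul_tmul', LinearMap.rTensor_tmul, LinearMap.rTensor_tmul, TensorProduct.smul_tmul']
        show g (algebraMap B C t • m) ⊗ₜ[A] w = (algebraMap B S t • g m) ⊗ₜ[A] w
        rw [map_smul, ← algebraMap_smul S (algebraMap B C t) (g m), ← IsScalarTower.algebraMap_apply]
    induction z with
    | zero => exact ⟨1, one_mem _, 0, by simp⟩
    | add a b ha hb =>
      obtain ⟨t, ht, v, hv⟩ := ha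
      obtain ⟨t', ht', v', hv'⟩ := hb
      refine ⟨t' * t, mul_mem ht' ht, algebraMap B C t' • v + algebraMap B C t • v', ?_⟩
      rw [map_add, hs, hs, ← hv, ← hv', smul_add, map_mul, smul_smul, smul_smul, mul_comm (algebraMap B S t)]
    | tmul n w =>
      obtain ⟨z₀, rfl⟩ := hg.equiv.surjective n
      induction z₀ with
      | zero => exact ⟨1, one_mem _, 0, by simp⟩
      | add a b ha hb =>
        obtain ⟨t, ht, v, hv⟩ := ha
        obtain ⟨t', ht', v', hv'⟩ := hb
        refine ⟨t' * t, mul_mem ht' ht, algebraMap B C t' • v + algebraMap B C t • v', ?_⟩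
        rw [map_add, map_add, TensorProduct.add_tmul, hs, hs, ← hv, ← hv', smul_add, map_mul, smul_smul, smul_smul,
          mul_comm (algebraMap B S t)]
      | tmul c m =>
        obtain ⟨⟨b, t⟩, hbt⟩ := IsLocalization.surj T c
        refine ⟨t, t.2, (algebraMap B C b • m) ⊗ₜ w, ?_⟩
        rw [IsBaseChange.equiv_tmul, LinearMap.rTensor_tmul, TensorProduct.smul_tmul']
        show (algebraMap B S t • c • g m) ⊗ₜ[A] w = g (algebraMap B C b • m) ⊗ₜ[A] w
        rw [smul_smul, mul_comm, hbt, map_smul, ← algebraMap_smul S (algebraMap B C b) (g m),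
          ← IsScalarTower.algebraMap_apply]
  refine ⟨fun x => ?_, fun M _ _ _ u hu => fun Q _ _ => ?_⟩
  · obtain ⟨t, ht, v, hv⟩ := hgen A (x ⊗ₜ[A] (1 : A))
    obtain ⟨y, rfl⟩ := (TensorProduct.rid A N').symm.surjective v
    have hxy : algebraMap B S t • x = gA y := by
      have := congrArg (TensorProduct.rid A N) hv
      simpa [TensorProduct.smul_tmul'] using this
    have hS : ∀ (c : S) (J : Ideal A) (w : N), w ∈ J • (⊤ : Submodule A N) → c • w ∈ J • (⊤ : Submodule A N) :=
      fun c J w hw => by
        refine Submodule.smul_induction_on (p := fun w => c • w ∈ J • (⊤ : Submodule A N)) hw (fun r hr n _ => ?_)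
          (fun a b ha hb => by rw [smul_add]; exact add_mem ha hb)
        rw [smul_comm]
        exact Submodule.smul_mem_smul hr trivial
    obtain ⟨I, hI, hmin⟩ := Groth.FlatDescent.LocalFP.exists_content (R := A) y
    refine ⟨I, ?_, fun J hJ => hmin J (Groth.FlatDescent.LocalFP.mem_smul_of_univ gA huniv J ?_)⟩
    · have hu : IsUnit (algebraMap B S t) := IsLocalization.map_units S (⟨t, ht⟩ : T)
      have hgy : gA y ∈ I • (⊤ : Submodule A N) := by
        have := Submodule.mem_map_of_mem (f := gA) hI
        rw [Submodule.map_smul''] at this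
        exact Submodule.smul_mono le_rfl le_top this
      have := hS ↑hu.unit⁻¹ I _ hgy
      rwa [← hxy, smul_smul, IsUnit.val_inv_mul, one_smul] at this
    · rw [← hxy]; exact hS _ J x hJ
  · refine (LinearMap.lTensor_inj_iff_rTensor_inj _ _).2 ((injective_iff_map_eq_zero _).2 fun z hz => ?_)
    obtain ⟨t, ht, v, hv⟩ := hgen Q z
    have hu' : IsUnit (algebraMap B S t) := IsLocalization.map_units S (⟨t, ht⟩ : T)
    let c : S := ↑hu'.unit⁻¹
    let E : N →ₗ[A] N := Algebra.lsmul A A N c
    have hE : ∀ (W : Type u) [AddCommGroup W] [Module A W] (w : N ⊗[A] W), E.rTensor W w = c • w := fun W _ _ w => by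
      induction w with
      | zero => simp
      | add a b ha hb => rw [map_add, smul_add, ha, hb]
      | tmul n q => rfl
    have hv0 : v = 0 := by
      refine Groth.FlatDescent.LocalFP.injective_rTensor_of_projective (u ∘ₗ E ∘ₗ gA) (fun m hm => ?_) ?_
      · rw [LinearMap.rTensor_comp, LinearMap.rTensor_comp, LinearMap.coe_comp, LinearMap.coe_comp]
        refine ((LinearMap.lTensor_inj_iff_rTensor_inj _ _).1 (hu m)).comp
          (Function.Injective.comp ?_ ((LinearMap.lTensor_inj_iff_rTensor_inj _ _).1 (huniv _)))
        intro a b hab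
        rw [hE, hE] at hab
        exact (hu'.unit⁻¹.isUnit.smul_left_cancel).1 hab
      · rw [map_zero, LinearMap.rTensor_comp, LinearMap.rTensor_comp, LinearMap.comp_apply, LinearMap.comp_apply,
          ← hv, hE, smul_smul, IsUnit.val_inv_mul, one_smul, hz]
    rw [hv0, map_zero] at hv
    exact hu'.smul_eq_zero.1 hv

end Groth.Agent.S1293
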