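import Mathlib
import Groth.Statements.S12931
-- import your own Groth.Agent.* helpers here

set_option autoImplicit false
universe u v w
open HopfRep

namespace Groth.Agent.S12931

/-- Let `R` be a commutative ring, `Γ` a finite set and `T` a commutative `R`-algebra which is
connected: nonzero, with no idempotents other than `0` and `1`. Then `γ ↦ (evaluation at γ : (Γ → R)
→ R → T)` is a bijection from `Γ` onto the `R`-algebra maps `(Γ → R) → T`: every such map sends
exactly one of the indicator functions to `1` and the others to `0`. (Only the bijection of sets is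
stated; when `Γ` is a group, the compatibility with the group structures on both sides is not.) -/
theorem result
    (R : Type u) [CommRing R] (Γ : Type v) [Finite Γ]
    (T : Type w) [CommRing T] [Algebra R T] [Nontrivial T]
    (hT : ∀ e : T, IsIdempotentElem e → e = 0 ∨ e = 1) :
    Function.Bijective (fun γ : Γ => (Algebra.ofId R T).comp (Pi.evalAlgHom R (fun _ : Γ => R) γ)) := by
  classical
  have := Fintype.ofFinite Γ
  constructor
  · intro a b hab
    by_contra hne
    have := DFunLike.congr_fun hab (Pi.single a 1)
    simp [Pi.single_eq_of_ne (Ne.symm hne)] at this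
  · intro φ
    have hidem : ∀ γ, φ (Pi.single γ 1) = 0 ∨ φ (Pi.single γ 1) = 1 := fun γ =>
      hT _ (by rw [IsIdempotentElem, ← map_mul, ← Pi.single_mul]; simp)
    have hsum : ∑ γ, φ (Pi.single γ (1 : R)) = 1 := by
      rw [← map_sum, Finset.univ_sum_single (fun _ => (1 : R))]
      exact map_one φ
    obtain ⟨γ, hγ⟩ : ∃ γ, φ (Pi.single γ 1) = 1 := by
      by_contra h
      push Not at h
      rw [Finset.sum_eq_zero fun γ _ => (hidem γ).resolve_right (h γ)] at hsum
      exact zero_ne_one hsum
    have hδ : ∀ δ, δ ≠ γ → φ (Pi.single δ 1) = 0 := by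
      intro δ hne
      rw [← mul_one (φ (Pi.single δ 1)), ← hγ, ← map_mul]
      convert map_zero φ
      ext i
      by_cases h : i = δ
      · subst h; simp [hne]
      · simp [h]
    refine ⟨γ, AlgHom.ext fun x => ?_⟩
    have hx : x = ∑ δ, x δ • (Pi.single δ (1 : R) : Γ → R) := by
      ext i; simp [Pi.single_apply]
    show algebraMap R T (x γ) = φ x
    conv_rhs => rw [hx, map_sum]
    rw [Finset.sum_eq_single γ]
    · rw [map_smul, hγ, Algebra.algebraMap_eq_smul_one]
    · intro δ _ hne
      rw [map_smul, hδ δ hne, smul_zero]
    · simp

end Groth.Agent.S12931
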