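import Groth.Statements.S12932
import Mathlib


set_option autoImplicit false
universe u v
open scoped BigOperators
open InvTh

namespace Groth.Agent.S12932
open scoped Pointwise

/-- Let `B` be a commutative ring with an action of a finite group `Γ` by ring automorphisms, and call a
prime ideal `P` of `B` tame when the order of its inertia group `{γ | γ • x - x ∈ P for all x}` is
not divisible by the characteristic of `B/P` (its ramification group is trivial). Then every prime
of `B` is tame if and only if the trace `b ↦ Σ_γ γ • b`, which takes values in the invariant ring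
`B^Γ` and is `B^Γ`-linear, is onto `B^Γ` — equivalently, some element of `B` has trace `1`. -/
theorem result
    (B : Type u) [CommRing B] (Γ : Type v) [Group Γ] [Fintype Γ] [MulSemiringAction Γ B] :
    (∃ b : B, ∑ γ : Γ, γ • b = 1) ↔
      ∀ P : Ideal B, P.IsPrime → ((Nat.card (P.inertia Γ) : ℕ) : B ⧸ P) ≠ 0 := by
  classical
  have hfib : ∀ (P : Ideal B) (ψ : Γ → (B →* B ⧸ P)), (∀ γ x, ψ γ x = Ideal.Quotient.mk P (γ • x)) →
      ∀ γ₀ : Γ, (Finset.univ.filter fun γ => ψ γ = ψ γ₀).card = Nat.card (P.inertia Γ) := by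
    intro P ψ hψ γ₀
    rw [← Fintype.card_subtype, ← Nat.card_eq_fintype_card]
    refine Nat.card_congr (Equiv.subtypeEquiv (Equiv.mulRight γ₀⁻¹) fun γ => ?_)
    show ψ γ = ψ γ₀ ↔ γ * γ₀⁻¹ ∈ P.inertia Γ
    constructor
    · intro h x
      have := DFunLike.congr_fun h (γ₀⁻¹ • x)
      rw [hψ, hψ, Ideal.Quotient.eq, smul_smul, smul_smul, mul_inv_cancel, one_smul] at this
      exact this
    · intro h
      refine MonoidHom.ext fun x => ?_
      rw [hψ, hψ, Ideal.Quotient.eq]
      have := h (γ₀ • x)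
      rwa [smul_smul, inv_mul_cancel_right] at this
  let ψ : ∀ P : Ideal B, Γ → (B →* B ⧸ P) := fun P γ =>
    (Ideal.Quotient.mk P : B →* B ⧸ P).comp (MulSemiringAction.toRingHom Γ B γ : B →* B)
  have hsum : ∀ (P : Ideal B) (b : B), Ideal.Quotient.mk P (∑ γ : Γ, γ • b) =
      ∑ c ∈ Finset.univ.image (ψ P), ((Nat.card (P.inertia Γ) : ℕ) : B ⧸ P) * c b := by
    intro P b
    rw [map_sum]
    show ∑ γ, ψ P γ b = _
    rw [← Finset.sum_fiberwise_of_maps_to (g := ψ P) (fun γ hγ => Finset.mem_image_of_mem _ hγ)]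
    refine Finset.sum_congr rfl fun c hc => ?_
    obtain ⟨γ₀, -, rfl⟩ := Finset.mem_image.1 hc
    rw [Finset.sum_congr rfl (fun γ hγ => show ψ P γ b = ψ P γ₀ b by rw [(Finset.mem_filter.1 hγ).2]),
      Finset.sum_const, hfib P (ψ P) (fun _ _ => rfl) γ₀, nsmul_eq_mul]
  constructor
  · rintro ⟨b, hb⟩ P hP h0
    have h := hsum P b
    rw [hb, map_one] at h
    simp only [h0, zero_mul, Finset.sum_const_zero] at h
    exact one_ne_zero h
  · intro h
    let R := FixedPoints.subring B Γ
    have htr : ∀ b : B, ∑ γ : Γ, γ • b ∈ R := fun b δ => by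
      rw [Finset.smul_sum]
      simp only [smul_smul]
      exact Equiv.sum_comp (Equiv.mulLeft δ) (fun γ => γ • b)
    let T : Ideal R :=
      { carrier := {r | ∃ b : B, ∑ γ : Γ, γ • b = (r : B)}
        add_mem' := by
          rintro r s ⟨a, ha⟩ ⟨c, hc⟩
          exact ⟨a + c, by simp only [smul_add, Finset.sum_add_distrib, ha, hc, Subring.coe_add]⟩
        zero_mem' := ⟨0, by simp⟩
        smul_mem' := by
          rintro r s ⟨a, ha⟩
          refine ⟨(r : B) * a, ?_⟩
          have : ∀ γ : Γ, γ • ((r : B) * a) = (r : B) * γ • a := fun γ => by rw [smul_mul', r.2 γ]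
          simp only [this, ← Finset.mul_sum, ha, smul_eq_mul, Subring.coe_mul] }
    suffices hT : T = ⊤ by
      obtain ⟨b, hb⟩ := (Ideal.eq_top_iff_one T).1 hT
      exact ⟨b, hb⟩
    by_contra hT
    obtain ⟨m, hm, hTm⟩ := Ideal.exists_le_maximal T hT
    have : Algebra.IsInvariant R B Γ := ⟨fun b hb => ⟨⟨b, hb⟩, rfl⟩⟩
    have : Algebra.IsIntegral R B := Algebra.IsInvariant.isIntegral R B Γ
    obtain ⟨P, hP, hPm⟩ := Ideal.exists_ideal_over_maximal_of_isIntegral (S := B) m
      (by rw [(RingHom.injective_iff_ker_eq_bot _).1 (fun a b h => Subtype.ext h)]; exact bot_le)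
    have := hP.isPrime
    have hz : ∀ b : B, ∑ c ∈ Finset.univ.image (ψ P), ((Nat.card (P.inertia Γ) : ℕ) : B ⧸ P) * c b = 0 := by
      intro b
      rw [← hsum, Ideal.Quotient.eq_zero_iff_mem]
      have h1 : (⟨_, htr b⟩ : R) ∈ P.comap (algebraMap R B) := by rw [hPm]; exact hTm ⟨b, rfl⟩
      exact h1
    have hli := linearIndependent_iff'.1 (linearIndependent_monoidHom B (B ⧸ P))
      (Finset.univ.image (ψ P)) (fun _ => ((Nat.card (P.inertia Γ) : ℕ) : B ⧸ P))
      (funext fun b => by
        rw [Finset.sum_apply]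
        exact hz b) (ψ P 1) (Finset.mem_image_of_mem _ (Finset.mem_univ _))
    exact h P this hli

end Groth.Agent.S12932
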