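import Groth.Statements.S12933
import Mathlib


set_option autoImplicit false
universe u v w w'
open TensorProduct
open InvTh

namespace Groth.Agent.S12933

/-- Let `R` be a commutative ring, `B` a commutative `R`-algebra with an action of a finite group `Γ` by
`R`-algebra automorphisms, and `R'` a flat commutative `R`-algebra; let `Γ` act on `R' ⊗_R B`
through the factor `B`. Then an element of `R' ⊗_R B` is fixed by every element of `Γ` if and only
if it lies in the `R'`-submodule spanned by the tensors `1 ⊗ b` with `b ∈ B^Γ`: taking invariants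
commutes with flat base change (the map `R' ⊗_R B^Γ → R' ⊗_R B` being moreover injective by
flatness). -/
theorem result
    (R : Type u) [CommRing R] (B : Type v) [CommRing B] [Algebra R B]
    (Γ : Type w) [Group Γ] [Finite Γ] [MulSemiringAction Γ B] [SMulCommClass Γ R B]
    (R' : Type w') [CommRing R'] [Algebra R R'] [Module.Flat R R']
    (x : R' ⊗[R] B) :
    (∀ γ : Γ, Algebra.TensorProduct.map (AlgHom.id R R') (MulSemiringAction.toAlgHom R B γ) x = x) ↔
      x ∈ Submodule.span R' ((fun b : B => (1 : R') ⊗ₜ[R] b) '' {b : B | ∀ γ : Γ, γ • b = b}) := by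
  classical
  have : Fintype Γ := Fintype.ofFinite Γ
  let Φ : B →ₗ[R] Γ → B := LinearMap.pi fun γ => (MulSemiringAction.toAlgHom R B γ).toLinearMap - LinearMap.id
  have hΦ : ∀ z : R' ⊗[R] B, Φ.lTensor R' z = 0 ↔ ∀ γ : Γ,
      Algebra.TensorProduct.map (AlgHom.id R R') (MulSemiringAction.toAlgHom R B γ) z = z := by
    intro z
    have hc : ∀ γ : Γ, TensorProduct.piRight R R R' (fun _ : Γ => B) (Φ.lTensor R' z) γ =
        Algebra.TensorProduct.map (AlgHom.id R R') (MulSemiringAction.toAlgHom R B γ) z - z := by
      intro γ
      induction z with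
      | zero => simp
      | add a b ha hb => simp only [map_add, Pi.add_apply, ha, hb]; abel
      | tmul a b => simp [Φ, TensorProduct.tmul_sub]
    rw [← LinearEquiv.map_eq_zero_iff (TensorProduct.piRight R R R' (fun _ : Γ => B)), funext_iff]
    simp only [hc, Pi.zero_apply, sub_eq_zero]
  rw [← hΦ]
  constructor
  · intro hx
    obtain ⟨y, rfl⟩ := (Module.Flat.lTensor_exact R' (LinearMap.exact_subtype_ker_map Φ) x).1 hx
    induction y with
    | zero => simp
    | add a b ha hb =>
      rw [map_add]
      exact add_mem (ha (by rw [← LinearMap.comp_apply, ← LinearMap.lTensor_comp, Φ.comp_ker_subtype, LinearMap.lTensor_zero, LinearMap.zero_apply]))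
        (hb (by rw [← LinearMap.comp_apply, ← LinearMap.lTensor_comp, Φ.comp_ker_subtype, LinearMap.lTensor_zero, LinearMap.zero_apply]))
    | tmul a b =>
      rw [LinearMap.lTensor_tmul, show a ⊗ₜ[R] (LinearMap.ker Φ).subtype b = a • ((1 : R') ⊗ₜ[R] (b : B)) by
        simp [TensorProduct.smul_tmul']]
      refine Submodule.smul_mem _ _ (Submodule.subset_span ⟨(b : B), fun γ => ?_, rfl⟩)
      have := congrFun (LinearMap.mem_ker.1 b.2) γ
      simpa [Φ, sub_eq_zero] using this
  · intro hx
    refine Submodule.span_induction ?_ (by simp) (fun a b _ _ ha hb => by rw [map_add, ha, hb, add_zero])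
      (fun a z hzm hz => ?_) hx
    · rintro _ ⟨b, hb, rfl⟩
      rw [LinearMap.lTensor_tmul, show Φ b = 0 from funext fun γ => by simp [Φ, hb γ], TensorProduct.tmul_zero]
    · clear hx
      have : Φ.lTensor R' (a • z) = a • Φ.lTensor R' z := by
        clear hz hzm
        induction z with
        | zero => simp
        | add p q hp hq => simp only [smul_add, map_add, hp, hq]
        | tmul p q => simp [TensorProduct.smul_tmul']
      rw [this, hz, smul_zero]

end Groth.Agent.S12933
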