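import Groth.Statements.S12934
import Mathlib
-- import your own Groth.Agent.* helpers here

set_option autoImplicit false
universe u v
open InvTh

namespace Groth.Agent.S12934

/-- Let `B` be a local commutative ring with maximal ideal `m` and residue field `k`, and `Γ` a finite
group acting faithfully on `B` by ring automorphisms, such that every element of `Γ` acts trivially
modulo `m` (the whole group is inertia) and maps each principal ideal of `B` into itself (every
ideal is stable). Let `S ⊆ Γ` be the set of `γ` with `γ b ∈ b + b m` for all `b`. Then: if `k` has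
characteristic `0`, `S = {1}`; if `k` has characteristic `p > 0`, `S` is (the underlying set of) a
Sylow `p`-subgroup; every commutator of `Γ` lies in `S`, so `Γ/S` is abelian; and whenever the class
of `γ` in `Γ/S` has order `n` (`γ^n ∈ S`, no smaller positive power in `S`), `k` contains a
primitive `n`-th root of unity. (The published statement also bounds the number of generators of
`Γ/S` by the number of generators of the monoid of principal ideals; that clause is not included.) -/
theorem result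
    (B : Type u) [CommRing B] [IsLocalRing B]
    (Γ : Type v) [Group Γ] [Finite Γ] [MulSemiringAction Γ B] [FaithfulSMul Γ B]
    (hin : ∀ (γ : Γ) (b : B), γ • b - b ∈ IsLocalRing.maximalIdeal B)
    (hst : ∀ (γ : Γ) (b : B), ∃ u : B, γ • b = b * u)
    (S : Set Γ)
    (hS : ∀ γ : Γ, γ ∈ S ↔ ∀ b : B, ∃ x ∈ IsLocalRing.maximalIdeal B, γ • b = b + b * x) :
    (ringChar (IsLocalRing.ResidueField B) = 0 → S = {1}) ∧
      (∀ (p : ℕ) [Fact p.Prime], ringChar (IsLocalRing.ResidueField B) = p →
        ∃ Q : Sylow p Γ, (Q : Set Γ) = S) ∧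
      (∀ γ δ : Γ, γ * δ * γ⁻¹ * δ⁻¹ ∈ S) ∧
      (∀ (γ : Γ) (n : ℕ), 0 < n → γ ^ n ∈ S → (∀ i : ℕ, 0 < i → i < n → γ ^ i ∉ S) →
        ∃ ζ : IsLocalRing.ResidueField B, IsPrimitiveRoot ζ n) := by
  classical
  let k := IsLocalRing.ResidueField B
  let res := IsLocalRing.residue B
  have hres0 : ∀ x, x ∈ IsLocalRing.maximalIdeal B → res x = 0 := fun x hx =>
    (IsLocalRing.residue_eq_zero_iff x).2 hx
  have hres0' : ∀ x, res x = 0 → x ∈ IsLocalRing.maximalIdeal B := fun x hx =>
    (IsLocalRing.residue_eq_zero_iff x).1 hx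
  have hinv : ∀ (γ : Γ) (b : B), res (γ • b) = res b := fun γ b =>
    sub_eq_zero.1 (by rw [← map_sub]; exact hres0 _ (hin γ b))
  choose u hu using hst
  -- uniqueness of the residue of the multiplier
  have huniq : ∀ (γ : Γ) (b w : B), b ≠ 0 → γ • b = b * w → res (u γ b) = res w := by
    intro γ b w hb hw
    by_contra h
    have h1 : IsUnit (u γ b - w) := by
      by_contra h2
      exact h (sub_eq_zero.1 (by rw [← map_sub]; exact hres0 _ ((IsLocalRing.mem_maximalIdeal _).2 h2)))
    exact hb (h1.mul_left_eq_zero.1 (by rw [mul_sub, ← hu, ← hw, sub_self]))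
  have hone : ∀ b : B, b ≠ 0 → res (u 1 b) = 1 := fun b hb => by
    rw [huniq 1 b 1 hb (by rw [one_smul, mul_one]), map_one]
  let Φ : Γ →* ({b : B // b ≠ 0} → k) :=
    { toFun := fun γ b => res (u γ b.1)
      map_one' := funext fun b => hone b.1 b.2
      map_mul' := fun γ δ => funext fun b => by
        have h : (γ * δ) • b.1 = b.1 * (u γ b.1 * γ • u δ b.1) := by
          rw [mul_smul, hu δ b.1, smul_mul', hu γ b.1]; ring
        show res (u (γ * δ) b.1) = res (u γ b.1) * res (u δ b.1)
        rw [huniq _ _ _ b.2 h, map_mul, hinv] }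
  have hmem : ∀ γ : Γ, γ ∈ S ↔ Φ γ = 1 := by
    intro γ
    rw [hS]
    constructor
    · intro h
      funext b
      obtain ⟨x, hx, hγ⟩ := h b.1
      show res (u γ b.1) = 1
      rw [huniq γ b.1 (1 + x) b.2 (by rw [hγ]; ring), map_add, map_one, hres0 x hx, add_zero]
    · intro h b
      by_cases hb : b = 0
      · exact ⟨0, Ideal.zero_mem _, by simp [hb]⟩
      refine ⟨u γ b - 1, hres0' _ ?_, by rw [hu]; ring⟩
      have : res (u γ b) = 1 := congrFun h ⟨b, hb⟩
      rw [map_sub, this, map_one, sub_self]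
  have htriv : ∀ (γ : Γ) (q : ℕ), γ ∈ S → γ ^ q = 1 → (q : k) ≠ 0 → γ = 1 := by
    intro γ q hγ hq hqk
    refine FaithfulSMul.eq_of_smul_eq_smul (α := B) fun b => ?_
    rw [one_smul, ← sub_eq_zero]
    set d := γ • b - b with hd
    have hj : ∀ j : ℕ, ∃ y ∈ IsLocalRing.maximalIdeal B, γ ^ j • d = d + d * y := fun j =>
      (hS _).1 ((hmem _).2 (by rw [map_pow, (hmem γ).1 hγ, one_pow])) d
    choose y hy hyd using hj
    have hsum : ∑ j ∈ Finset.range q, γ ^ j • d = 0 := by
      have h : ∀ j ∈ Finset.range q, γ ^ j • d = γ ^ (j + 1) • b - γ ^ j • b := fun j _ => by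
        rw [hd, smul_sub, ← mul_smul, pow_succ]
      rw [Finset.sum_congr rfl h, Finset.sum_range_sub (fun j => γ ^ j • b), hq, pow_zero, sub_self]
    have h2 : d * ((q : B) + ∑ j ∈ Finset.range q, y j) = 0 := by
      rw [mul_add, Finset.mul_sum, ← hsum, Finset.sum_congr rfl (fun j _ => hyd j),
        Finset.sum_add_distrib, Finset.sum_const, Finset.card_range, nsmul_eq_mul, mul_comm d]
    have h3 : IsUnit ((q : B) + ∑ j ∈ Finset.range q, y j) := by
      by_contra h
      apply hqk
      have h4 := hres0 _ ((IsLocalRing.mem_maximalIdeal _).2 h)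
      rw [map_add, map_natCast, hres0 _ (Ideal.sum_mem _ fun j _ => hy j), add_zero] at h4
      exact h4
    exact h3.mul_left_eq_zero.1 h2
  refine ⟨fun h0 => ?_, fun p hp hpk => ?_, fun γ δ => ?_, fun γ n hn hγn hmin => ?_⟩
  · haveI : CharP k 0 := h0 ▸ ringChar.charP k
    haveI : CharZero k := CharP.charP_to_charZero k
    ext γ
    refine ⟨fun h => htriv γ (orderOf γ) h (pow_orderOf_eq_one γ)
      (Nat.cast_ne_zero.2 (orderOf_pos γ).ne'), ?_⟩
    rintro rfl
    exact (hmem 1).2 (map_one Φ)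
  · haveI : CharP k p := hpk ▸ ringChar.charP k
    have hker : (Φ.ker : Set Γ) = S := Set.ext fun γ => MonoidHom.mem_ker.trans (hmem γ).symm
    refine ⟨⟨Φ.ker, ?_, ?_⟩, hker⟩
    · intro γ
      obtain ⟨e, m', hm', he⟩ := Nat.exists_eq_pow_mul_and_not_dvd (orderOf_pos γ.1).ne' p hp.out.ne_one
      refine ⟨e, Subtype.ext ?_⟩
      show γ.1 ^ p ^ e = 1
      refine htriv _ m' ((hmem _).2 (by rw [map_pow, MonoidHom.mem_ker.1 γ.2, one_pow])) ?_ ?_
      · rw [← pow_mul, ← he, pow_orderOf_eq_one]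
      · rw [Ne, CharP.cast_eq_zero_iff k p]
        exact hm'
    · intro Q hQ hle
      refine le_antisymm (fun γ hγ => MonoidHom.mem_ker.2 ?_) hle
      obtain ⟨e, he⟩ := hQ ⟨γ, hγ⟩
      have he' : γ ^ p ^ e = 1 := by simpa using congrArg Subtype.val he
      funext b
      have h1 : Φ γ b ^ p ^ e = 1 := by rw [← Pi.pow_apply, ← map_pow, he', map_one, Pi.one_apply]
      have h2 : (Φ γ b - 1) ^ p ^ e = 0 := by rw [sub_pow_char_pow, h1, one_pow, sub_self]
      exact sub_eq_zero.1 ((pow_eq_zero_iff (pow_pos hp.out.pos e).ne').1 h2)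
  · rw [hmem, map_mul, map_mul, map_mul, mul_right_comm (Φ γ) (Φ δ), ← map_mul, mul_inv_cancel,
      map_one, one_mul, ← map_mul, mul_inv_cancel, map_one]
  · haveI : NeZero n := ⟨hn.ne'⟩
    obtain ⟨g, hg⟩ := IsCyclic.exists_generator (α := rootsOfUnity n k)
    have hpow : g ^ n = 1 := Subtype.ext ((mem_rootsOfUnity n _).1 g.2)
    have hd0 : 0 < orderOf g := IsOfFinOrder.orderOf_pos (isOfFinOrder_iff_pow_eq_one.2 ⟨n, hn, hpow⟩)
    have hdn : orderOf g ∣ n := orderOf_dvd_of_pow_eq_one hpow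
    have hd : γ ^ orderOf g ∈ S := by
      refine (hmem _).2 (funext fun b => ?_)
      rw [map_pow, Pi.pow_apply, Pi.one_apply]
      have hbn : Φ γ b ^ n = 1 := by rw [← Pi.pow_apply, ← map_pow, (hmem _).1 hγn, Pi.one_apply]
      obtain ⟨i, hi⟩ := Subgroup.mem_zpowers_iff.1
        (hg ⟨(rootsOfUnity.mkOfPowEq (Φ γ b) hbn).1, (rootsOfUnity.mkOfPowEq (Φ γ b) hbn).2⟩)
      have h1 : (⟨(rootsOfUnity.mkOfPowEq (Φ γ b) hbn).1, (rootsOfUnity.mkOfPowEq (Φ γ b) hbn).2⟩
          : rootsOfUnity n k) ^ orderOf g = 1 := by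
        rw [← hi, ← zpow_natCast, ← zpow_mul, mul_comm, zpow_mul, zpow_natCast, pow_orderOf_eq_one,
          one_zpow]
      simpa using congrArg (fun z : rootsOfUnity n k => ((z : kˣ) : k)) h1
    have heq : orderOf g = n := by
      refine le_antisymm (Nat.le_of_dvd hn hdn) ?_
      by_contra h
      exact hmin _ hd0 (not_le.1 h) hd
    refine ⟨((g : kˣ) : k), ?_⟩
    have := IsPrimitiveRoot.orderOf g
    rw [heq] at this
    exact IsPrimitiveRoot.coe_units_iff.2 (this.map_of_injective (f := Subgroup.subtype _) Subtype.val_injective)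

end Groth.Agent.S12934
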