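import Groth.Statements.S12935
import Mathlib
-- import your own Groth.Agent.* helpers here

set_option autoImplicit false
universe u v
open InvTh

namespace Groth.Agent.S12935

open scoped Pointwise


/-- Let `B` be a commutative ring with an action of a finite group `Γ` by ring automorphisms, `Ω` a
normal subgroup of `Γ`, `B^Ω` the subring of `Ω`-invariants (stable under `Γ`, with the induced
action of `Γ/Ω`), and `P` a prime ideal of `B`. Then (decomposition groups) an element `γ` maps `P ∩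
B^Ω` onto itself if and only if `γω` maps `P` onto itself for some `ω ∈ Ω`; and (inertia groups) `γ`
fixes `B^Ω` modulo `P ∩ B^Ω` if and only if `γω` fixes `B` modulo `P` for some `ω ∈ Ω`. In other
words the decomposition and inertia groups of `P ∩ B^Ω` under `Γ/Ω` are the images of those of `P`.
(The published statement also asserts the same for the ramification groups, the Sylow subgroups of
the inertia groups at the residue characteristic; that clause is not included here.) -/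
theorem result
    (B : Type u) [CommRing B] (Γ : Type v) [Group Γ] [Finite Γ] [MulSemiringAction Γ B]
    (Ω : Subgroup Γ) [Ω.Normal] (P : Ideal B) [P.IsPrime] (γ : Γ) :
    ((∀ x : B, (∀ ω ∈ Ω, ω • x = x) → (x ∈ P ↔ γ • x ∈ P)) ↔
        ∃ ω ∈ Ω, ∀ x : B, x ∈ P ↔ (γ * ω) • x ∈ P) ∧
      ((∀ x : B, (∀ ω ∈ Ω, ω • x = x) → γ • x - x ∈ P) ↔
        ∃ ω ∈ Ω, ∀ x : B, (γ * ω) • x - x ∈ P) := by
  classical
  let A := FixedPoints.subring B Ω
  have hA : ∀ a : B, a ∈ A ↔ ∀ ω ∈ Ω, ω • a = a := fun a =>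
    ⟨fun h ω hω => h ⟨ω, hω⟩, fun h ω => h ω.1 ω.2⟩
  have : SMulCommClass Ω A B := ⟨fun ω a b => by
    show ω • ((a : B) * b) = (a : B) * (ω • b)
    rw [smul_mul', a.2 ω]⟩
  have : Algebra.IsInvariant A B Ω := ⟨fun b hb => ⟨⟨b, hb⟩, rfl⟩⟩
  have h1 : (∀ x : B, (∀ ω ∈ Ω, ω • x = x) → (x ∈ P ↔ γ • x ∈ P)) →
      ∃ ω ∈ Ω, ∀ x : B, x ∈ P ↔ (γ * ω) • x ∈ P := by
    intro h
    have hP' : (γ⁻¹ • P).IsPrime := inferInstance
    obtain ⟨g, hg⟩ := Algebra.IsInvariant.exists_smul_of_under_eq A B Ω P (γ⁻¹ • P) (by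
      ext a
      simp only [Ideal.mem_comap, Ideal.under_def, Ideal.mem_inv_pointwise_smul_iff]
      exact h a ((hA a).1 a.2))
    refine ⟨g, g.2, fun x => ?_⟩
    have e : P = γ • ((g : Γ) • P) := by
      calc P = γ • (γ⁻¹ • P) := (smul_inv_smul γ P).symm
        _ = γ • ((g : Γ) • P) := by rw [hg]; rfl
    rw [mul_smul]
    nth_rw 2 [e]
    rw [Ideal.smul_mem_pointwise_smul_iff, Ideal.smul_mem_pointwise_smul_iff]
  refine ⟨⟨h1, ?_⟩, ?_, ?_⟩
  · rintro ⟨ω, hω, h⟩ x hx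
    rw [h x, mul_smul, hx ω hω]
  · intro h
    obtain ⟨ω₀, hω₀, h0⟩ := h1 fun x hx => by
      constructor
      · intro hxP; simpa using add_mem (h x hx) hxP
      · intro hxP; simpa using sub_mem hxP (h x hx)
    set g := γ * ω₀ with hgdef
    let p : Ideal A := P.under A
    have hgP : P = P.map ((MulSemiringAction.toRingEquiv Γ B g : B ≃+* B) : B →+* B) := by
      refine le_antisymm (fun y hy => ?_) (Ideal.map_le_iff_le_comap.2 fun x hx => (h0 x).1 hx)
      rw [← smul_inv_smul g y]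
      exact Ideal.mem_map_of_mem ((MulSemiringAction.toRingEquiv Γ B g : B ≃+* B) : B →+* B) (show g⁻¹ • y ∈ P by rw [h0, smul_inv_smul]; exact hy)
    let e : (B ⧸ P) ≃ₐ[A ⧸ p] (B ⧸ P) := AlgEquiv.ofRingEquiv (f := Ideal.quotientEquiv P P (MulSemiringAction.toRingEquiv Γ B g) hgP) (by
      intro a
      obtain ⟨a, rfl⟩ := Ideal.Quotient.mk_surjective a
      show Ideal.Quotient.mk P (g • (a : B)) = Ideal.Quotient.mk P (a : B)
      rw [Ideal.Quotient.eq, hgdef, mul_smul, (hA a).1 a.2 ω₀ hω₀]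
      exact h a ((hA a).1 a.2))
    obtain ⟨σ, hσ⟩ := Ideal.Quotient.stabilizerHom_surjective Ω p P e
    refine ⟨ω₀ * ((σ : Ω) : Γ)⁻¹, Ω.mul_mem hω₀ (Ω.inv_mem (σ : Ω).2), fun x => ?_⟩
    have h3 : Ideal.Quotient.mk P (((σ : Ω) : Γ) • (((σ : Ω) : Γ)⁻¹ • x)) = Ideal.Quotient.mk P (g • (((σ : Ω) : Γ)⁻¹ • x)) :=
      (Ideal.Quotient.stabilizerHom_apply (p := p) (G := Ω) P σ _).symm.trans (DFunLike.congr_fun hσ _)
    rw [smul_inv_smul, eq_comm, Ideal.Quotient.eq, hgdef, ← mul_smul, mul_assoc] at h3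
    exact h3
  · rintro ⟨ω, hω, h⟩ x hx
    simpa [mul_smul, hx ω hω] using h x

end Groth.Agent.S12935
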