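import Mathlib
import Groth.Statements.S12936
-- import your own Groth.Agent.* helpers here

set_option autoImplicit false
universe u v
open InvTh

namespace Groth.Agent.S12936

/-- Let `B` be a commutative ring with an action of a finite group `Γ` by ring automorphisms and `P` a
maximal ideal of `B`, with decomposition group `D_P = {γ | γP = P}` and decomposition ring `D =
B^{D_P}`. Then `D = B^Γ + (P ∩ D)`: every element of `B` fixed by `D_P` is congruent modulo `P` to a
`Γ`-invariant element. Hence the residue field of `D` at `P ∩ D` is that of `B^Γ` at `P ∩ B^Γ`; for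
an arbitrary prime `P` the same equality of residue fields follows by localising at `P ∩ B^Γ`. (The
published statement prints this residue field as `k(P)`; the proof establishes the equality with the
residue field of `B^Γ` stated here.) -/
theorem result
    (B : Type u) [CommRing B] (Γ : Type v) [Group Γ] [Finite Γ] [MulSemiringAction Γ B]
    (P : Ideal B) [P.IsMaximal] (x : B)
    (hx : ∀ γ : Γ, (∀ y : B, y ∈ P ↔ γ • y ∈ P) → γ • x = x) :
    ∃ c : B, (∀ γ : Γ, γ • c = c) ∧ x - c ∈ P := by
  classical
  let D : Subgroup Γ :=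
    { carrier := {γ | ∀ y : B, y ∈ P ↔ γ • y ∈ P}
      one_mem' := fun y => by simp
      mul_mem' := fun {a b} ha hb y => by rw [mul_smul, ← ha, ← hb]
      inv_mem' := fun {a} ha y => by rw [ha (a⁻¹ • y), smul_inv_smul] }
  haveI : Fintype Γ := Fintype.ofFinite _
  have he : ∀ γ : Γ, γ ∉ D → ∃ e : B, 1 - e ∈ P ∧ γ • e ∈ P := by
    intro γ hγ
    let Q : Ideal B := P.comap (MulSemiringAction.toRingHom Γ B γ)
    haveI : Q.IsMaximal := Ideal.comap_isMaximal_of_surjective _ (MulAction.surjective γ)
    have hne : P ≠ Q := fun e => hγ fun y => by conv_lhs => rw [e]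
                                                exact Iff.rfl
    have ht := Ideal.IsMaximal.coprime_of_ne ‹P.IsMaximal› ‹Q.IsMaximal› hne
    obtain ⟨a, ha, b, hb, hab⟩ := Submodule.mem_sup.1 ((Ideal.eq_top_iff_one _).1 ht)
    exact ⟨b, by rw [← hab]; simpa using ha, hb⟩
  choose! e he1 he2 using he
  set u0 : B := ∏ γ ∈ Finset.univ.filter (fun γ : Γ => γ ∉ D), e γ
  have hu0 : Ideal.Quotient.mk P u0 = 1 := by
    rw [map_prod]
    refine Finset.prod_eq_one fun γ hγ => ?_
    rw [← map_one (Ideal.Quotient.mk P), eq_comm, Ideal.Quotient.eq]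
    exact he1 γ (Finset.mem_filter.1 hγ).2
  set u : B := ∏ δ : D, (δ : Γ) • u0
  have hu : Ideal.Quotient.mk P u = 1 := by
    rw [map_prod]
    refine Finset.prod_eq_one fun δ _ => ?_
    rw [← map_one (Ideal.Quotient.mk P), Ideal.Quotient.eq] at hu0 ⊢
    have := (δ.2 (u0 - 1)).1 hu0
    rwa [smul_sub, smul_one] at this
  have huD : ∀ δ : D, (δ : Γ) • u = u := fun δ => by
    rw [Finset.smul_prod']
    exact Fintype.prod_equiv (Equiv.mulLeft δ) _ _ fun a => (mul_smul (δ : Γ) (a : Γ) u0).symm
  have huP : ∀ γ : Γ, γ ∉ D → γ • u ∈ P := fun γ hγ => by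
    have h1 : γ • u0 ∈ P := by
      rw [Finset.smul_prod']
      exact Ideal.prod_mem P (i := γ) (Finset.mem_filter.2 ⟨Finset.mem_univ _, hγ⟩) (he2 γ hγ)
    rw [Finset.smul_prod']
    exact Ideal.prod_mem P (i := (1 : D)) (Finset.mem_univ _) (by simpa using h1)
  set y := x * u with hy
  have hyD : ∀ δ : D, (δ : Γ) • y = y := fun δ => by rw [hy, smul_mul', huD, hx δ δ.2]
  let F : Γ ⧸ D → B := Quotient.lift (fun γ : Γ => γ • y) fun a b hab => by
    have h : a⁻¹ * b ∈ D := QuotientGroup.leftRel_apply.1 hab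
    show a • y = b • y
    conv_lhs => rw [← hyD ⟨_, h⟩]
    rw [← mul_smul, mul_inv_cancel_left]
  haveI : Fintype (Γ ⧸ D) := Fintype.ofFinite _
  have hF : ∀ (γ : Γ) (q : Γ ⧸ D), γ • F q = F (γ • q) := fun γ q => by
    induction q using QuotientGroup.induction_on with
    | _ a => show γ • a • y = (γ * a) • y; rw [mul_smul]
  refine ⟨∑ q, F q, fun γ => ?_, ?_⟩
  · rw [Finset.smul_sum]
    exact Fintype.sum_equiv (MulAction.toPerm γ) _ _ fun q => hF γ q
  · rw [← Ideal.Quotient.eq, map_sum, Finset.sum_eq_single (QuotientGroup.mk (1 : Γ))]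
    · show _ = Ideal.Quotient.mk P ((1 : Γ) • y)
      rw [one_smul, hy, map_mul, hu, mul_one]
    · intro q _ hq
      induction q using QuotientGroup.induction_on with
      | _ a =>
        have ha : a ∉ D := fun h => hq (QuotientGroup.eq.2 (by simpa using D.inv_mem h))
        show Ideal.Quotient.mk P (a • y) = 0
        rw [Ideal.Quotient.eq_zero_iff_mem, hy, smul_mul']
        exact P.mul_mem_left _ (huP a ha)
    · simp

end Groth.Agent.S12936
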