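import Groth.Statements.S12937
import Mathlib
-- import your own Groth.Agent.* helpers here

set_option autoImplicit false
universe u v
open InvTh

namespace Groth.Agent.S12937

open Polynomial

variable {B : Type u} [CommRing B] {Γ : Type v} [Group Γ] [Finite Γ] [MulSemiringAction Γ B] (P : Ideal B)

/-- inertia invariants -/
def IT : Subring B where
  carrier := {y | ∀ γ : Γ, γ ∈ P.inertia Γ → γ • y = y}
  one_mem' γ _ := smul_one γ
  zero_mem' γ _ := smul_zero γ
  add_mem' ha hb γ h := by rw [smul_add, ha γ h, hb γ h]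
  mul_mem' ha hb γ h := by rw [smul_mul', ha γ h, hb γ h]
  neg_mem' ha γ h := by rw [smul_neg, ha γ h]

/-- the decomposition condition -/
def InD (γ : Γ) : Prop := ∀ b : B, γ • b ∈ P ↔ b ∈ P

theorem inD_one : InD P (1 : Γ) := fun b => by rw [one_smul]

theorem inD_mul {γ δ : Γ} (h : InD P γ) (h' : InD P δ) : InD P (γ * δ) := fun b => by
  rw [mul_smul, h, h']

theorem inD_inv {γ : Γ} (h : InD P γ) : InD P γ⁻¹ := fun b => by
  rw [← h (γ⁻¹ • b), smul_inv_smul]

theorem inD_inertia {γ : Γ} (h : γ ∈ P.inertia Γ) : InD P γ := fun b => by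
  have h' : γ • b - b ∈ P := h b
  exact ⟨fun hb => by simpa using sub_mem hb h', fun hb => by simpa using add_mem h' hb⟩

theorem inD_mul_inertia {γ : Γ} (t : P.inertia Γ) : InD P (γ * t) ↔ InD P γ := by
  refine ⟨fun h => ?_, fun h => inD_mul P h (inD_inertia P t.2)⟩
  simpa [mul_assoc] using inD_mul P h (inD_inv P (inD_inertia P t.2))

theorem mk_smul_congr {γ : Γ} (h : InD P γ) {a b : B} (hab : a - b ∈ P) : γ • a - γ • b ∈ P := by
  rw [← smul_sub]; exact (h _).2 hab

theorem smul_mem_IT {γ : Γ} (h : InD P γ) {y : B} (hy : y ∈ IT (Γ := Γ) P) : γ • y ∈ IT (Γ := Γ) P := by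
  intro t ht
  have h2 : γ⁻¹ * t * γ ∈ P.inertia Γ := fun b => by
    change (γ⁻¹ * t * γ) • b - b ∈ P
    rw [show b = γ⁻¹ • (γ • b) by rw [inv_smul_smul], mul_smul, mul_smul, ← smul_sub]
    refine (inD_inv P h _).2 ?_
    simpa using ht (γ • b)
  rw [← mul_smul, show t * γ = γ * (γ⁻¹ * t * γ) by group, mul_smul, hy _ h2]

theorem smul_coset {γ : Γ} {y : B} (hy : y ∈ IT (Γ := Γ) P) (q : Γ ⧸ P.inertia Γ) :
    (γ • q).out • y = (γ * q.out) • y := by
  have h : ∃ t : P.inertia Γ, (γ • q).out = γ * q.out * t := by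
    conv => congr; ext t; lhs; rw [← q.out_eq']
    exact QuotientGroup.mk_out_eq_mul (P.inertia Γ) (γ * q.out)
  obtain ⟨t, ht⟩ := h
  rw [ht, mul_smul _ (t : Γ), hy _ t.2]

theorem inD_coset {γ : Γ} (hγ : InD P γ) (q : Γ ⧸ P.inertia Γ) : InD P (γ • q).out ↔ InD P q.out := by
  have h : ∃ t : P.inertia Γ, (γ • q).out = γ * q.out * t := by
    conv => congr; ext t; lhs; rw [← q.out_eq']
    exact QuotientGroup.mk_out_eq_mul (P.inertia Γ) (γ * q.out)
  obtain ⟨t, ht⟩ := h
  rw [ht, inD_mul_inertia P t]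
  refine ⟨fun h => ?_, inD_mul P hγ⟩
  simpa using inD_mul P (inD_inv P hγ) h

theorem smul_prod_inertia (a : B) [Fintype (P.inertia Γ)] :
    (∏ t : P.inertia Γ, (t : Γ) • a) ∈ IT (Γ := Γ) P := by
  intro γ hγ
  rw [Finset.smul_prod']
  refine Fintype.prod_equiv (Equiv.mulLeft (⟨γ, hγ⟩ : P.inertia Γ)) _ _ fun t => ?_
  rw [← mul_smul]
  rfl

theorem mk_smul_inertia (a : B) (t : P.inertia Γ) : Ideal.Quotient.mk P ((t : Γ) • a) = Ideal.Quotient.mk P a :=
  Ideal.Quotient.eq.2 (t.2 a)

theorem charpoly_spec (a : B) [Fintype (P.inertia Γ)] :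
    ∀ i, (∏ t : P.inertia Γ, (X - C ((t : Γ) • a))).coeff i ∈ IT (Γ := Γ) P := by
  intro i γ hγ
  rw [← Polynomial.coeff_smul, Finset.smul_prod']
  congr 1
  refine Fintype.prod_equiv (Equiv.mulLeft (⟨γ, hγ⟩ : P.inertia Γ)) _ _ fun t => ?_
  rw [smul_sub, Polynomial.smul_X, Polynomial.smul_C, ← mul_smul]
  rfl

variable [P.IsMaximal]

theorem exists_inv {c : B} (hc : c ∈ IT (Γ := Γ) P) (hc0 : c ∉ P) : ∃ c' ∈ IT (Γ := Γ) P, c * c' - 1 ∈ P := by
  classical
  haveI := Fintype.ofFinite (P.inertia Γ)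
  obtain ⟨b, p, hp, hbp⟩ := Ideal.IsMaximal.exists_inv ‹P.IsMaximal› hc0
  refine ⟨c ^ (Fintype.card (P.inertia Γ) - 1) * ∏ t : P.inertia Γ, (t : Γ) • b,
    mul_mem (pow_mem hc _) (smul_prod_inertia P b), ?_⟩
  rw [← mul_assoc, ← pow_succ', Nat.sub_add_cancel Fintype.card_pos, ← Finset.card_univ, ← Finset.prod_const,
    ← Finset.prod_mul_distrib, ← Ideal.Quotient.eq, map_prod, map_one]
  refine Finset.prod_eq_one fun t _ => ?_
  rw [map_mul, mk_smul_inertia, ← map_mul, ← map_one (Ideal.Quotient.mk P), Ideal.Quotient.eq,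
    show c * b - 1 = -p by linear_combination hbp]
  exact neg_mem hp

theorem mem_inertia_of_fix {γ : Γ} (hγ : InD P γ) (h : ∀ y ∈ IT (Γ := Γ) P, γ • y - y ∈ P) : γ ∈ P.inertia Γ := by
  classical
  haveI := Fintype.ofFinite (P.inertia Γ)
  intro b
  set f := ∏ t : P.inertia Γ, (X - C ((t : Γ) • b)) with hf
  have hfb : f.eval b = 0 := by
    rw [hf, eval_prod]
    exact Finset.prod_eq_zero (Finset.mem_univ (1 : P.inertia Γ)) (by simp)
  have hmap : f.map (Ideal.Quotient.mk P) = (X - C (Ideal.Quotient.mk P b)) ^ Fintype.card (P.inertia Γ) := by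
    rw [hf, Polynomial.map_prod]
    simp [mk_smul_inertia]
  have h2 : Ideal.Quotient.mk P (f.eval (γ • b)) = 0 := by
    have h3 : f.map (Ideal.Quotient.mk P) = (γ • f).map (Ideal.Quotient.mk P) := by
      ext i
      rw [coeff_map, coeff_map, Polynomial.coeff_smul, Ideal.Quotient.eq]
      have := neg_mem (h _ (charpoly_spec P b i))
      simpa [hf] using this
    rw [← eval_map_apply, h3, eval_map_apply, Polynomial.smul_eval_smul, hfb, smul_zero, map_zero]
  rw [← eval_map_apply, hmap, eval_pow, eval_sub, eval_X, eval_C] at h2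
  exact Ideal.Quotient.eq.1 (sub_eq_zero.1 (eq_zero_of_pow_eq_zero h2))

theorem exists_partition : ∃ z ∈ IT (Γ := Γ) P, ∀ s : Finset (Γ ⧸ P.inertia Γ),
    (∀ q, q ∈ s ↔ InD P q.out) → ∑ q ∈ s, q.out • z - 1 ∈ P := by
  classical
  haveI := Fintype.ofFinite (Γ ⧸ P.inertia Γ)
  let s := Finset.univ.filter fun q : Γ ⧸ P.inertia Γ => InD P q.out
  let χ : s → (IT (Γ := Γ) P →* B ⧸ P) := fun q =>
    { toFun := fun y => Ideal.Quotient.mk P (((q : Γ ⧸ P.inertia Γ).out) • (y : B))
      map_one' := by simp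
      map_mul' := fun a b => by simp [smul_mul'] }
  have hinj : Function.Injective χ := by
    intro q q' h
    have hq := (Finset.mem_filter.1 q.2).2
    have hq' := (Finset.mem_filter.1 q'.2).2
    refine Subtype.ext ?_
    rw [← (q : Γ ⧸ P.inertia Γ).out_eq', ← (q' : Γ ⧸ P.inertia Γ).out_eq', QuotientGroup.eq]
    refine mem_inertia_of_fix P (inD_mul P (inD_inv P hq) hq') fun y hy => ?_
    have h' := DFunLike.congr_fun h ⟨y, hy⟩
    have h'' : (q : Γ ⧸ P.inertia Γ).out • y - (q' : Γ ⧸ P.inertia Γ).out • y ∈ P := Ideal.Quotient.eq.1 h'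
    have h3 := neg_mem ((inD_inv P hq _).2 h'')
    rw [smul_sub, inv_smul_smul, ← mul_smul, neg_sub] at h3
    exact h3
  letI := Ideal.Quotient.field P
  have hli := (linearIndependent_monoidHom (IT (Γ := Γ) P) (B ⧸ P)).comp χ hinj
  have hne : ∃ z : IT (Γ := Γ) P, ∑ q : s, χ q z ≠ 0 := by
    by_contra! hall
    have h1 : ((1 : Γ) : Γ ⧸ P.inertia Γ) ∈ s := Finset.mem_filter.2 ⟨Finset.mem_univ _, by
      obtain ⟨t, ht⟩ := QuotientGroup.mk_out_eq_mul (P.inertia Γ) (1 : Γ)
      rw [ht, inD_mul_inertia]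
      exact inD_one P⟩
    have := Fintype.linearIndependent_iff.1 hli (fun _ => 1) (funext fun z => by simpa using hall z) ⟨_, h1⟩
    exact one_ne_zero this
  obtain ⟨z, hz⟩ := hne
  let c := ∑ q ∈ s, q.out • (z : B)
  have hc : c ∈ IT (Γ := Γ) P := Subring.sum_mem _ fun q hq => smul_mem_IT P (Finset.mem_filter.1 hq).2 z.2
  have hc0 : c ∉ P := fun h => hz (by
    refine (Finset.sum_coe_sort s (fun q => Ideal.Quotient.mk P (q.out • (z : B)))).trans ?_
    rw [← map_sum]
    exact Ideal.Quotient.eq_zero_iff_mem.2 h)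
  obtain ⟨c', hc', hcc⟩ := exists_inv P hc hc0
  refine ⟨z * c', mul_mem z.2 hc', fun s' hs' => ?_⟩
  obtain rfl : s' = s := by ext q; simp [s, hs']
  have hfix : ∀ q ∈ s, Ideal.Quotient.mk P (q.out • c') = Ideal.Quotient.mk P c' := by
    intro q hq
    have hD := (Finset.mem_filter.1 hq).2
    have h1 : Ideal.Quotient.mk P (q.out • c) = Ideal.Quotient.mk P c := by
      rw [Finset.smul_sum, map_sum, map_sum]
      refine Finset.sum_equiv (MulAction.toPerm q.out) (fun r => ?_) fun r _ => ?_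
      · simp only [s, Finset.mem_filter, Finset.mem_univ, true_and, MulAction.toPerm_apply]
        exact (inD_coset P hD r).symm
      · rw [MulAction.toPerm_apply, smul_coset P z.2, mul_smul]
    have h2 : Ideal.Quotient.mk P (q.out • c * q.out • c') = 1 := by
      rw [← smul_mul', ← map_one (Ideal.Quotient.mk P), Ideal.Quotient.eq]
      simpa using mk_smul_congr P hD hcc
    have h3 : Ideal.Quotient.mk P c * Ideal.Quotient.mk P c' = 1 := by
      rw [← map_mul, ← map_one (Ideal.Quotient.mk P)]; exact Ideal.Quotient.eq.2 hcc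
    rw [map_mul, h1] at h2
    linear_combination Ideal.Quotient.mk P c' * h2 - Ideal.Quotient.mk P (q.out • c') * h3
  rw [← Ideal.Quotient.eq, map_one, map_sum]
  calc _ = ∑ q ∈ s, Ideal.Quotient.mk P (q.out • (z : B)) * Ideal.Quotient.mk P c' := by
        refine Finset.sum_congr (by simp [s]) fun q hq => ?_
        rw [smul_mul', map_mul, hfix q (by simpa [s] using hq)]
    _ = Ideal.Quotient.mk P (c * c') := by rw [← Finset.sum_mul, map_mul, map_sum]
    _ = 1 := by rw [← map_one (Ideal.Quotient.mk P)]; exact Ideal.Quotient.eq.2 hcc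

theorem exists_sep : ∃ e ∈ IT (Γ := Γ) P, ∀ γ : Γ, (InD P γ → γ • e - 1 ∈ P) ∧ (¬ InD P γ → γ • e ∈ P) := by
  classical
  haveI := Fintype.ofFinite Γ
  haveI := Fintype.ofFinite (P.inertia Γ)
  have ha : ∀ γ : Γ, ∃ a : B, a - 1 ∈ P ∧ (¬ InD P γ → γ • a ∈ P) := by
    intro γ
    by_cases h : InD P γ
    · exact ⟨1, by simp, fun h' => absurd h h'⟩
    let Q : Ideal B := P.comap (MulSemiringAction.toRingHom Γ B γ)
    haveI : Q.IsMaximal := Ideal.comap_isMaximal_of_surjective _ fun b => ⟨γ⁻¹ • b, by simp⟩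
    have hne : Q ≠ P := fun hQ => h fun b => (SetLike.ext_iff.1 hQ b)
    have hsup : Q ⊔ P = ⊤ := Ideal.IsMaximal.coprime_of_ne ‹Q.IsMaximal› ‹P.IsMaximal› hne
    obtain ⟨a, hqa, p, hp, hap⟩ := Submodule.mem_sup.1 (hsup ▸ Submodule.mem_top : (1 : B) ∈ Q ⊔ P)
    exact ⟨a, by rw [show a - 1 = -p by linear_combination hap]; exact neg_mem hp, fun _ => hqa⟩
  choose a ha1 ha2 using ha
  refine ⟨∏ t : P.inertia Γ, (t : Γ) • ∏ γ, a γ, smul_prod_inertia P _, fun γ => ⟨fun h => ?_, fun h => ?_⟩⟩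
  · have h1 : (∏ t : P.inertia Γ, (t : Γ) • ∏ δ, a δ) - 1 ∈ P := by
      rw [← Ideal.Quotient.eq, map_prod, map_one]
      refine Finset.prod_eq_one fun t _ => ?_
      rw [mk_smul_inertia, map_prod]
      exact Finset.prod_eq_one fun δ _ => by rw [← map_one (Ideal.Quotient.mk P), Ideal.Quotient.eq]; exact ha1 δ
    have := mk_smul_congr P h h1
    rwa [smul_one] at this
  · rw [Finset.smul_prod', ← Finset.mul_prod_erase _ _ (Finset.mem_univ (1 : P.inertia Γ)), OneMemClass.coe_one, one_smul,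
      Finset.smul_prod', ← Finset.mul_prod_erase _ _ (Finset.mem_univ γ)]
    exact P.mul_mem_right _ (P.mul_mem_right _ (ha2 γ h))

theorem exists_lift {c : B} (hc : c ∈ IT (Γ := Γ) P) (hfix : ∀ γ : Γ, InD P γ → γ • c - c ∈ P) :
    ∃ w : B, (∀ γ : Γ, γ • w = w) ∧ w - c ∈ P := by
  classical
  haveI := Fintype.ofFinite (Γ ⧸ P.inertia Γ)
  obtain ⟨e, he, he'⟩ := exists_sep (Γ := Γ) P
  obtain ⟨z, hz, hz'⟩ := exists_partition (Γ := Γ) P
  have hm : e * z * c ∈ IT (Γ := Γ) P := mul_mem (mul_mem he hz) hc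
  refine ⟨∑ q : Γ ⧸ P.inertia Γ, q.out • (e * z * c), fun γ => ?_, ?_⟩
  · rw [Finset.smul_sum]
    refine Fintype.sum_equiv (MulAction.toPerm γ) _ _ fun q => ?_
    rw [MulAction.toPerm_apply, smul_coset P hm, mul_smul]
  · rw [← Ideal.Quotient.eq, map_sum, ← Finset.sum_filter_add_sum_filter_not Finset.univ fun q : Γ ⧸ P.inertia Γ => InD P q.out]
    have h0 : ∑ q ∈ Finset.univ.filter (fun q : Γ ⧸ P.inertia Γ => ¬ InD P q.out), Ideal.Quotient.mk P (q.out • (e * z * c)) = 0 :=
      Finset.sum_eq_zero fun q hq => by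
        rw [smul_mul', smul_mul', map_mul, map_mul, Ideal.Quotient.eq_zero_iff_mem.2 ((he' _).2 (Finset.mem_filter.1 hq).2),
          zero_mul, zero_mul]
    rw [h0, add_zero, Finset.sum_congr rfl fun q hq => show Ideal.Quotient.mk P (q.out • (e * z * c)) =
      Ideal.Quotient.mk P (q.out • z) * Ideal.Quotient.mk P c by
        rw [smul_mul', smul_mul', map_mul, map_mul, Ideal.Quotient.eq.2 ((he' _).1 (Finset.mem_filter.1 hq).2),
          map_one, one_mul, Ideal.Quotient.eq.2 (hfix _ (Finset.mem_filter.1 hq).2)],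
      ← Finset.sum_mul, ← map_sum, Ideal.Quotient.eq.2 (hz' _ fun q => by simp), map_one, one_mul]

/-- Let `B` be a commutative ring with an action of a finite group `Γ` by ring automorphisms, `P` a
maximal ideal of `B`, `T = {γ | γ x - x ∈ P for all x}` its inertia group, `B^T` the inertia ring
and `B^Γ` the ring of invariants, so that `k(P ∩ B^Γ) ⊆ k(P ∩ B^T) ⊆ k(P) = B/P`. Then `k(P ∩ B^T)`
is the largest separable extension of `k(P ∩ B^Γ)` inside `k(P)`: an element `x` of `B` is congruent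
modulo `P` to a `T`-invariant element if and only if `x mod P` is a root of some polynomial with
`Γ`-invariant coefficients whose reduction modulo `P` is separable. (The published statement is for
every prime ideal `P`, as an equality of residue fields; this row takes `P` maximal, the case to
which the published proof reduces by localising at `P ∩ B^Γ`.) -/
theorem result
    (B : Type u) [CommRing B] (Γ : Type v) [Group Γ] [Finite Γ] [MulSemiringAction Γ B]
    (P : Ideal B) [P.IsMaximal] (x : B) :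
    (∃ y : B, (∀ γ : Γ, γ ∈ P.inertia Γ → γ • y = y) ∧ x - y ∈ P) ↔
      ∃ g : Polynomial B, (∀ (i : ℕ) (γ : Γ), γ • g.coeff i = g.coeff i) ∧
        (g.map (Ideal.Quotient.mk P)).Separable ∧ Polynomial.aeval x g ∈ P := by
  classical
  open Polynomial in
  constructor
  · rintro ⟨y, hy, hxy⟩
    haveI := Fintype.ofFinite Γ
    letI := Ideal.Quotient.field P
    set s : Finset (B ⧸ P) := (Finset.univ.filter fun γ : Γ => InD P γ).image fun γ => Ideal.Quotient.mk P (γ • y) with hs
    set f : Polynomial (B ⧸ P) := ∏ a ∈ s, (X - C a) with hf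
    have hlift : ∀ i, ∃ w : B, (∀ γ : Γ, γ • w = w) ∧ Ideal.Quotient.mk P w = f.coeff i := by
      intro i
      have hsel : ∀ a ∈ s, ∃ b ∈ IT (Γ := Γ) P, Ideal.Quotient.mk P b = a := fun a ha => by
        obtain ⟨γ, hγ, rfl⟩ := Finset.mem_image.1 ha
        exact ⟨γ • y, smul_mem_IT P (Finset.mem_filter.1 hγ).2 hy, rfl⟩
      choose! r hr1 hr2 using hsel
      let F : Polynomial B := ∏ a ∈ s, (X - C (r a))
      have hFmap : F.map (Ideal.Quotient.mk P) = f := by
        rw [hf, Polynomial.map_prod]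
        refine Finset.prod_congr rfl fun a ha => ?_
        rw [Polynomial.map_sub, map_X, map_C, hr2 a ha]
      have hFIT : ∀ γ : Γ, γ ∈ P.inertia Γ → γ • F = F := fun γ hγ => by
        rw [Finset.smul_prod']
        refine Finset.prod_congr rfl fun a ha => ?_
        rw [smul_sub, Polynomial.smul_X, Polynomial.smul_C, hr1 a ha γ hγ]
      have hc : F.coeff i ∈ IT (Γ := Γ) P := fun γ hγ => by rw [← Polynomial.coeff_smul, hFIT γ hγ]
      obtain ⟨w, hw, hw'⟩ := exists_lift P hc (fun γ hγ => by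
        rw [← Ideal.Quotient.eq, ← Polynomial.coeff_smul, ← coeff_map, ← coeff_map, hFmap]
        congr 1
        rw [Finset.smul_prod', Polynomial.map_prod, hf]
        have hmem : ∀ a ∈ s, Ideal.Quotient.mk P (γ • r a) ∈ s := fun a ha => by
          obtain ⟨δ, hδ, hδ'⟩ := Finset.mem_image.1 ha
          refine Finset.mem_image.2 ⟨γ * δ, Finset.mem_filter.2 ⟨Finset.mem_univ _, inD_mul P hγ (Finset.mem_filter.1 hδ).2⟩, ?_⟩
          rw [mul_smul, Ideal.Quotient.eq]
          exact mk_smul_congr P hγ (Ideal.Quotient.eq.1 (hδ'.trans (hr2 a ha).symm))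
        refine Finset.prod_bij (fun a _ => Ideal.Quotient.mk P (γ • r a)) hmem ?_ ?_ fun a ha => ?_
        · intro a ha b hb h
          rw [← hr2 a ha, ← hr2 b hb, Ideal.Quotient.eq]
          have := (inD_inv P hγ _).2 (Ideal.Quotient.eq.1 h)
          rwa [smul_sub, inv_smul_smul, inv_smul_smul] at this
        · exact fun b hb => Finset.surj_on_of_inj_on_of_card_le (fun a _ => Ideal.Quotient.mk P (γ • r a)) hmem
            (fun a b ha hb h => by
              rw [← hr2 a ha, ← hr2 b hb, Ideal.Quotient.eq]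
              have := (inD_inv P hγ _).2 (Ideal.Quotient.eq.1 h)
              rwa [smul_sub, inv_smul_smul, inv_smul_smul] at this) le_rfl b hb |>.imp fun a h => ⟨h.1, h.2.symm⟩
        · rw [smul_sub, Polynomial.smul_X, Polynomial.smul_C, Polynomial.map_sub, map_X, map_C])
      exact ⟨w, hw, by rw [Ideal.Quotient.eq.2 hw', ← coeff_map, hFmap]⟩
    choose w hw hw' using hlift
    refine ⟨∑ i ∈ Finset.range (f.natDegree + 1), C (w i) * X ^ i, fun i γ => ?_, ?_, ?_⟩
    · rw [finsetSum_coeff]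
      simp only [coeff_C_mul, coeff_X_pow, mul_ite, mul_one, mul_zero, Finset.smul_sum]
      exact Finset.sum_congr rfl fun j _ => by split_ifs <;> simp [hw]
    all_goals
      have hg : (∑ i ∈ Finset.range (f.natDegree + 1), C (w i) * X ^ i).map (Ideal.Quotient.mk P) = f := by
        conv_rhs => rw [f.as_sum_range_C_mul_X_pow]
        simp [Polynomial.map_sum, hw']
    · rw [hg, hf, Polynomial.separable_prod_X_sub_C_iff']
      exact fun a _ b _ h => h
    · rw [← Ideal.Quotient.eq_zero_iff_mem, coe_aeval_eq_eval, ← eval_map_apply, hg, hf, eval_prod]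
      refine Finset.prod_eq_zero (Finset.mem_image.2 ⟨1, Finset.mem_filter.2 ⟨Finset.mem_univ _, inD_one P⟩, rfl⟩) ?_
      rw [eval_sub, eval_X, eval_C, one_smul, Ideal.Quotient.eq.2 hxy, sub_self]
  · rintro ⟨g, hg, hsep, hroot⟩
    haveI := Fintype.ofFinite (P.inertia Γ)
    letI := Ideal.Quotient.field P
    let K : Subfield (B ⧸ P) :=
      { (IT (Γ := Γ) P).map (Ideal.Quotient.mk P) with
        inv_mem' := by
          rintro _ ⟨c, hc, rfl⟩
          by_cases hc0 : c ∈ P
          · exact ⟨0, (IT (Γ := Γ) P).zero_mem, by rw [Ideal.Quotient.eq_zero_iff_mem.2 hc0, inv_zero, map_zero]⟩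
          · obtain ⟨c', hc', hcc⟩ := exists_inv P hc hc0
            refine ⟨c', hc', eq_inv_of_mul_eq_one_right ?_⟩
            rw [← map_mul, ← map_one (Ideal.Quotient.mk P)]
            exact Ideal.Quotient.eq.2 hcc }
    have hK : ∀ (p : Polynomial B), (∀ i, p.coeff i ∈ IT (Γ := Γ) P) → ∃ q : Polynomial K, q.map K.subtype = p.map (Ideal.Quotient.mk P) := fun p hp => by
      rw [← Polynomial.mem_lifts]
      exact (Polynomial.lifts_iff_coeff_lifts _).2 fun i => ⟨⟨_, ⟨p.coeff i, hp i, rfl⟩⟩, by simp⟩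
    obtain ⟨q, hq⟩ := hK g (fun i γ _ => hg i γ)
    obtain ⟨q', hq'⟩ := hK (∏ t : P.inertia Γ, (X - C ((t : Γ) • x))) (charpoly_spec P x)
    set x' := Ideal.Quotient.mk P x
    have hq'x : q'.map K.subtype = (X - C x') ^ Fintype.card (P.inertia Γ) := by
      rw [hq', Polynomial.map_prod]
      simp [mk_smul_inertia, x']
    have hroot' : Polynomial.aeval x' q = 0 := by
      rw [aeval_def, ← eval_map, show algebraMap K (B ⧸ P) = K.subtype from rfl, hq, eval_map_apply,
        Ideal.Quotient.eq_zero_iff_mem, ← coe_aeval_eq_eval]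
      exact hroot
    have hd1 : (minpoly K x').map K.subtype ∣ g.map (Ideal.Quotient.mk P) := hq ▸ Polynomial.map_dvd _ (minpoly.dvd K x' hroot')
    have hd2 : (minpoly K x').map K.subtype ∣ (X - C x') ^ Fintype.card (P.inertia Γ) := by
      rw [← hq'x]
      refine Polynomial.map_dvd _ (minpoly.dvd K x' ?_)
      rw [aeval_def, ← eval_map, show algebraMap K (B ⧸ P) = K.subtype from rfl, hq'x]
      simp [Fintype.card_ne_zero]
    have hdvd : (minpoly K x').map K.subtype ∣ X - C x' :=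
      ((hsep.of_dvd hd1).squarefree.dvd_pow_iff_dvd Fintype.card_ne_zero).1 hd2
    have hdeg := natDegree_le_of_dvd hdvd (X_sub_C_ne_zero x')
    rw [natDegree_map, natDegree_X_sub_C] at hdeg
    have hint : IsIntegral K x' := by
      refine ⟨q', ?_, ?_⟩
      · apply Polynomial.monic_of_injective K.subtype.injective
        rw [hq'x]; exact (monic_X_sub_C x').pow _
      · rw [← eval_map, show algebraMap K (B ⧸ P) = K.subtype from rfl, hq'x]
        simp [Fintype.card_ne_zero]
    obtain ⟨⟨_, y, hy, rfl⟩, hy'⟩ := minpoly.natDegree_eq_one_iff.1 (le_antisymm hdeg (minpoly.natDegree_pos hint))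
    exact ⟨y, hy, Ideal.Quotient.eq.1 hy'.symm⟩

end Groth.Agent.S12937
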