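import Groth.Statements.S12955
import Groth.Agent.AlgStLib.DiagComp
import Groth.Agent.AlgSpLib.FpqcLocalRep
import Mathlib
-- import your own Groth.Agent.* helpers here

set_option autoImplicit false
set_option backward.isDefEq.respectTransparency.types false
universe u
open CategoryTheory AlgebraicGeometry
open AlgSt

namespace Groth.Agent.S12955

/-- The composition of two quasi-separated morphisms of algebraic stacks is quasi-separated
(quasi-separated: the diagonal is representable by algebraic spaces and quasi-compact and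
quasi-separated). -/
theorem result
    (S : Scheme.{u}) (𝒳 : AlgSt.Cat S) (𝒴 : AlgSt.Cat S) (𝒵 : AlgSt.Cat S)
    (h𝒳 : AlgSt.IsAlgStack Scheme.fppfPrecoverage 𝒳)
    (h𝒴 : AlgSt.IsAlgStack Scheme.fppfPrecoverage 𝒴)
    (h𝒵 : AlgSt.IsAlgStack Scheme.fppfPrecoverage 𝒵)
    (f : 𝒳 ⥤ᵇ 𝒴) (g : 𝒴 ⥤ᵇ 𝒵) :
    AlgSt.IsQuasiSeparatedMor f → AlgSt.IsQuasiSeparatedMor g → AlgSt.IsQuasiSeparatedMor (BasedFunctor.comp f g) := by
  have := Groth.Agent.FpqcDescent.quasiCompact_descendsAlong.{u}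
  exact fun hf hg => Groth.Agent.AlgStLib.repWith_diag_comp
    (fun _ _ _ _ hY hZ _ _ ha hb => ⟨Groth.Agent.AlgStLib.isQuasiCompactMor_comp hY hZ ha.1 hb.1,
      Groth.Agent.AlgStLib.isQuasiSeparatedMor_comp ha.2 hb.2⟩)
    (Groth.Agent.AlgStLib.isLocalOnBase_fppf (Groth.Agent.AlgSpLib.isLocalOnBase_and
      Groth.Agent.AlgSpLib.isLocalOnBase_isQuasiCompactMor Groth.Agent.AlgSpLib.isLocalOnBase_repWith_diagonal))
    h𝒳.isStack.1 h𝒴.isStack.1 hf hg

end Groth.Agent.S12955
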