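import Groth.Statements.S12959
import Groth.Agent.AlgStLib.RepDiag
-- import your own Groth.Agent.* helpers here

set_option autoImplicit false
set_option backward.isDefEq.respectTransparency.types false
universe u
open CategoryTheory AlgebraicGeometry
open AlgSt

namespace Groth.Agent.S12959

/-- If the composite of f : 𝒳 → 𝒴 and g : 𝒴 → 𝒵 (morphisms of algebraic stacks) is quasi-separated and
the diagonal of g is quasi-separated (as a morphism representable by algebraic spaces), then f is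
quasi-separated. -/
theorem result
    (S : Scheme.{u}) (𝒳 : AlgSt.Cat S) (𝒴 : AlgSt.Cat S) (𝒵 : AlgSt.Cat S)
    (h𝒳 : AlgSt.IsAlgStack Scheme.fppfPrecoverage 𝒳)
    (h𝒴 : AlgSt.IsAlgStack Scheme.fppfPrecoverage 𝒴)
    (h𝒵 : AlgSt.IsAlgStack Scheme.fppfPrecoverage 𝒵)
    (f : 𝒳 ⥤ᵇ 𝒴) (g : 𝒴 ⥤ᵇ 𝒵) :
    AlgSt.IsQuasiSeparatedMor (BasedFunctor.comp f g) →
      AlgSt.RepByAlgSpWith AlgSp.IsQuasiSeparatedMor (FibCat.diag g) → AlgSt.IsQuasiSeparatedMor f := by
  have := Groth.Agent.FpqcDescent.quasiCompact_descendsAlong.{u}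
  exact fun h hg => Groth.Agent.AlgStLib.repWith_diag_cancel
    (R := AlgSp.IsQuasiCompactMor ⊓ AlgSp.IsQuasiSeparatedMor)
    (fun _ _ _ _ hY hZ _ _ ha hb => ⟨Groth.Agent.AlgStLib.isQuasiCompactMor_comp hY hZ ha.1 hb.1,
      Groth.Agent.AlgStLib.isQuasiSeparatedMor_comp ha.2 hb.2⟩)
    (Groth.Agent.AlgStLib.isLocalOnBase_fppf (Groth.Agent.AlgSpLib.isLocalOnBase_and
      Groth.Agent.AlgSpLib.isLocalOnBase_isQuasiCompactMor Groth.Agent.AlgSpLib.isLocalOnBase_repWith_diagonal))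
    h𝒳.isStack.1 h𝒴.isStack.1 h𝒵.isStack.1 h
    (Groth.Agent.AlgStLib.repWith_diag_of_rep hg fun _ U r hA hr _ c =>
      ⟨Groth.Agent.AlgStLib.isQuasiCompactMor_of_repWith
        (Groth.Agent.AlgSpLib.isAlgSpace_pullback c _ (AlgSp.IsAlgSpace.yon_obj _) hA
          (Groth.Agent.AlgSpLib.isAlgSpace_pullback r r hA hA (AlgSp.IsAlgSpace.yon_obj U)))
        (AlgSp.IsAlgSpace.yon_obj _)
        (Groth.Agent.AlgSpLib.repWith_baseChange (IsPullback.of_hasPullback c _).flip hr),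
      @Groth.Agent.AlgStLib.isQuasiSeparatedMor_of_mono _ _ _ (Limits.pullback.fst c (Limits.pullback.diagonal r)) inferInstance⟩)

end Groth.Agent.S12959
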