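import Groth.Statements.S12972
import Groth.Agent.AlgStLib.InertiaProps
import Groth.Agent.AlgStLib.DiagLft
-- import your own Groth.Agent.* helpers here

set_option autoImplicit false
universe u
open CategoryTheory AlgebraicGeometry
open AlgSt

namespace Groth.Agent.S12972

/-- For a morphism f : 𝒳 → 𝒴 of algebraic stacks the following are equivalent: the relative inertia
𝓘_{𝒳/𝒴} → 𝒳 is separated; the diagonal of f is separated; the neutral section 𝒳 → 𝓘_{𝒳/𝒴} (the
second diagonal) is a closed immersion. All three morphisms are representable by algebraic spaces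
and the properties are the ones of such morphisms. -/
theorem result
    (S : Scheme.{u}) (𝒳 : AlgSt.Cat S) (𝒴 : AlgSt.Cat S)
    (h𝒳 : AlgSt.IsAlgStack Scheme.fppfPrecoverage 𝒳)
    (h𝒴 : AlgSt.IsAlgStack Scheme.fppfPrecoverage 𝒴)
    (f : 𝒳 ⥤ᵇ 𝒴) :
    [AlgSt.RepByAlgSpWith AlgSp.IsSeparatedMor (FibCat.inertiaToBase f),
      AlgSt.RepByAlgSpWith AlgSp.IsSeparatedMor (FibCat.diag f),
      AlgSt.IsClosedImm (FibCat.inertiaNeutral f)].TFAE := by
  have hΔ := Groth.Agent.AlgStLib.rep1_of_with (Groth.Agent.AlgStLib.repWith_lft_diag h𝒳 h𝒴 f)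
  have hI := Groth.Agent.FibBasics.inertia_isFibGrpd h𝒳.isStack.1
    (Groth.Agent.FibBasics.cart_of_isFibGrpd (G := f) h𝒴.isStack.1)
  tfae_have 2 → 1 := fun h => Groth.Agent.AlgStLib.repWith_inertiaToBase h
  tfae_have 1 → 3 := fun h => Groth.Agent.AlgStLib.isClosedImm_neutral_of_sep h𝒳 hI h
  tfae_have 3 → 2 := fun h => ((Groth.Agent.AlgStLib.sep_tfae hΔ).out 0 1).2
    ((Groth.Agent.AlgStLib.repWith_inertiaNeutral_iff f).1 h)
  tfae_finish

end Groth.Agent.S12972
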