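import Groth.Statements.S12975
import Groth.Agent.AlgStLib.InertiaProps
import Groth.Agent.AlgStLib.DiagLft
import Groth.Agent.S10541
-- import your own Groth.Agent.* helpers here

set_option autoImplicit false
universe u
open CategoryTheory AlgebraicGeometry
open AlgSt

namespace Groth.Agent.S12975

/-- For a morphism f : 𝒳 → 𝒴 of algebraic stacks, the relative inertia 𝓘_{𝒳/𝒴} → 𝒳 is locally
quasi-finite if and only if f is quasi-DM. -/
theorem result
    (S : Scheme.{u}) (𝒳 : AlgSt.Cat S) (𝒴 : AlgSt.Cat S)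
    (h𝒳 : AlgSt.IsAlgStack Scheme.fppfPrecoverage 𝒳)
    (h𝒴 : AlgSt.IsAlgStack Scheme.fppfPrecoverage 𝒴)
    (f : 𝒳 ⥤ᵇ 𝒴) :
    AlgSt.RepByAlgSpWith (AlgSp.LocP (@LocallyQuasiFinite ⊓ @LocallyOfFiniteType)) (FibCat.inertiaToBase f) ↔
      AlgSt.IsQuasiDMMor f := by
  refine ⟨fun h => ?_, fun h => Groth.Agent.AlgStLib.repWith_inertiaToBase h⟩
  refine Groth.Agent.AlgStLib.repWith_locP_diag_of_self ?_ (fun X Y k hk hp => ⟨?_, hk⟩)
    (Groth.Agent.AlgStLib.repWith_lft_diag h𝒳 h𝒴 f) h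
  · exact Groth.Agent.AlgStLib.isLocalOnBase_fppf (Groth.Agent.S10541.result S).1
  · have := hk
    exact Groth.Agent.AlgStLib.locallyQuasiFinite_of_self_baseChange k hp.1

end Groth.Agent.S12975
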