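import Groth.Statements.S12979
import Groth.Agent.AlgStLib.SepRep
import Groth.Agent.AlgStLib.DiagLft
import Groth.Agent.AlgSpLib.UnivClosed
-- import your own Groth.Agent.* helpers here

set_option autoImplicit false
universe u
open CategoryTheory AlgebraicGeometry
open AlgSt

namespace Groth.Agent.S12979

/-- If the first and second diagonals of a morphism f of algebraic stacks are both universally closed
(as morphisms representable by algebraic spaces), then f is separated. (The published statement is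
an equivalence; this row states the implication from the two diagonals to separatedness.) -/
theorem result
    (S : Scheme.{u}) (𝒳 : AlgSt.Cat S) (𝒴 : AlgSt.Cat S)
    (h𝒳 : AlgSt.IsAlgStack Scheme.fppfPrecoverage 𝒳)
    (h𝒴 : AlgSt.IsAlgStack Scheme.fppfPrecoverage 𝒴)
    (f : 𝒳 ⥤ᵇ 𝒴) :
    AlgSt.RepByAlgSpWith AlgSp.IsUnivClosedMor (FibCat.diag f) →
      AlgSt.RepByAlgSpWith AlgSp.IsUnivClosedMor (FibCat.diag (FibCat.diag f)) → AlgSt.IsSeparatedMor f := by
  intro h1 h2
  have hl := Groth.Agent.AlgStLib.repWith_lft_diag h𝒳 h𝒴 f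
  have hΔ := Groth.Agent.AlgStLib.rep1_of_with hl
  have hs := ((Groth.Agent.AlgStLib.sep_tfae hΔ).out 0 3).2 h2
  have := Groth.Agent.AlgStLib.repWith_inf_prop
    (Groth.Agent.AlgStLib.isLocalOnBase_fppf (Groth.Agent.AlgSpLib.isLocalOnBase_univSp
      Groth.Agent.AlgSpLib.descendsOnPoints_isClosedMor)) hs h1
  have := Groth.Agent.AlgStLib.repWith_inf_prop (Groth.Agent.AlgStLib.isLocalOnBase_fppf (Groth.Agent.S10526.result S))
    this hl
  exact Groth.Agent.AlgStLib.repWith_mono_prop (fun _ _ _ hF hG ha => ⟨ha.1.1,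
    ⟨ha.2, Groth.Agent.AlgSpLib.isQuasiCompactMor_of_isUnivClosedMor hF hG ha.1.2⟩, ha.1.2⟩) this

end Groth.Agent.S12979
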