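import Groth.Statements.S12980
import Groth.Agent.AlgStLib.SepRep
import Groth.Agent.AlgStLib.DiagLft
import Groth.Agent.AlgSpLib.FpqcLocalRep
-- import your own Groth.Agent.* helpers here

set_option autoImplicit false
universe u
open CategoryTheory AlgebraicGeometry
open AlgSt

namespace Groth.Agent.S12980

/-- A morphism f of algebraic stacks is quasi-separated if and only if its first and second diagonals
are both quasi-compact (as morphisms representable by algebraic spaces). -/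
theorem result
    (S : Scheme.{u}) (𝒳 : AlgSt.Cat S) (𝒴 : AlgSt.Cat S)
    (h𝒳 : AlgSt.IsAlgStack Scheme.fppfPrecoverage 𝒳)
    (h𝒴 : AlgSt.IsAlgStack Scheme.fppfPrecoverage 𝒴)
    (f : 𝒳 ⥤ᵇ 𝒴) :
    AlgSt.IsQuasiSeparatedMor f ↔
      AlgSt.RepByAlgSpWith AlgSp.IsQuasiCompactMor (FibCat.diag f) ∧
        AlgSt.RepByAlgSpWith AlgSp.IsQuasiCompactMor (FibCat.diag (FibCat.diag f)) := by
  have hΔ := Groth.Agent.AlgStLib.rep1_of_with (Groth.Agent.AlgStLib.repWith_lft_diag h𝒳 h𝒴 f)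
  have hqs := (Groth.Agent.AlgStLib.qs_tfae hΔ).out 0 1
  have := Groth.Agent.FpqcDescent.quasiCompact_descendsAlong.{u}
  constructor
  · intro h
    exact ⟨Groth.Agent.AlgStLib.repWith_mono_prop (fun _ _ _ _ _ ha => ha.1) h,
      hqs.1 (Groth.Agent.AlgStLib.repWith_mono_prop (fun _ _ _ _ _ ha => ha.2) h)⟩
  · rintro ⟨h1, h2⟩
    exact Groth.Agent.AlgStLib.repWith_inf_prop
      (Groth.Agent.AlgStLib.isLocalOnBase_fppf Groth.Agent.AlgSpLib.isLocalOnBase_repWith_diagonal) h1 (hqs.2 h2)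

end Groth.Agent.S12980
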