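import Groth.Statements.S13000
import Groth.Agent.AlgStLib.LocQDescend
import Groth.Agent.S10526
-- import your own Groth.Agent.* helpers here

set_option autoImplicit false
universe u
open CategoryTheory AlgebraicGeometry
open AlgSt

namespace Groth.Agent.S13000

/-- Let f : 𝒳 → 𝒴 be a morphism of algebraic stacks and W → 𝒴 a surjective, flat, locally finitely
presented morphism whose source is an algebraic space. Whenever the projection to W from W ×_𝒴 𝒳 is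
locally of finite type, so is f. -/
theorem result
    (S : Scheme.{u}) (𝒳 : AlgSt.Cat S) (𝒴 : AlgSt.Cat S)
    (h𝒳 : AlgSt.IsAlgStack Scheme.fppfPrecoverage 𝒳)
    (h𝒴 : AlgSt.IsAlgStack Scheme.fppfPrecoverage 𝒴)
    (f : 𝒳 ⥤ᵇ 𝒴)
    (W : AlgSp.Space S) (w : AlgSt.ofSp W.obj ⥤ᵇ 𝒴)
    (hw₁ : AlgSt.RepByAlgSpWith (AlgSp.LocP @Flat) w)
    (hw₂ : AlgSt.RepByAlgSpWith (AlgSp.LocP @LocallyOfFinitePresentation) w)
    (hw₃ : AlgSt.RepByAlgSpWith AlgSp.IsSurjectiveMor w) :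
    AlgSt.LocQ (AlgSp.LocP @LocallyOfFiniteType) (FibCat.fpFst w f) → AlgSt.LocQ (AlgSp.LocP @LocallyOfFiniteType) f := by
  exact Groth.Agent.AlgStLib.locQ_descend Groth.Agent.AlgStLib.stLocal_lft
    (Groth.Agent.AlgStLib.isLocalOnBase_fppf (Groth.Agent.S10526.result S)) h𝒳 h𝒴
    (Groth.Agent.AlgStLib.isAlgStack_ofSch W)
    (Groth.Agent.AlgStLib.locQ_of_repWith Groth.Agent.AlgStLib.stLocal_flat.pre Groth.Agent.AlgStLib.stLocal_flat.bc h𝒴 hw₁)
    (Groth.Agent.AlgStLib.locQ_of_repWith Groth.Agent.AlgStLib.stLocal_lfp.pre Groth.Agent.AlgStLib.stLocal_lfp.bc h𝒴 hw₂)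
    (Groth.Agent.AlgStLib.isSurjective_of_repWith h𝒴.isStack.1 hw₃)

end Groth.Agent.S13000
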