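import Groth.Statements.S13018
import Groth.Agent.AlgStLib.StkNoeth
-- import your own Groth.Agent.* helpers here

set_option autoImplicit false
universe u
open CategoryTheory AlgebraicGeometry
open AlgSt

namespace Groth.Agent.S13018

/-- If j : 𝒳 → 𝒴 is an immersion of algebraic stacks and 𝒴 is Noetherian (quasi-compact, quasi-separated
and locally Noetherian) then so is 𝒳. (The published statement uses quasi-separatedness over the
integers; this row uses quasi-separatedness over the base scheme in hypothesis and conclusion.) -/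
theorem result
    (S : Scheme.{u}) (𝒳 : AlgSt.Cat S) (𝒴 : AlgSt.Cat S)
    (h𝒳 : AlgSt.IsAlgStack Scheme.fppfPrecoverage 𝒳)
    (h𝒴 : AlgSt.IsAlgStack Scheme.fppfPrecoverage 𝒴)
    (j : 𝒳 ⥤ᵇ 𝒴) (hj : AlgSt.IsImm j) :
    AlgSt.IsQuasiCompact 𝒴 → AlgSt.IsQuasiSeparatedOver 𝒴 → AlgSt.SmoothLocally (fun T ↦ IsLocallyNoetherian T) 𝒴 →
      AlgSt.IsQuasiCompact 𝒳 ∧ AlgSt.IsQuasiSeparatedOver 𝒳 ∧ AlgSt.SmoothLocally (fun T ↦ IsLocallyNoetherian T) 𝒳 := by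
  intro hq hqs hN
  have hN' := Groth.Agent.AlgStLib.smoothLocally_noetherian_of_lft h𝒳
    (Groth.Agent.AlgStLib.isLocQ_lft_of_isImm h𝒴 hj) hN
  have h := Groth.Agent.AlgStLib.isQuasiCompactMor_of_isImm h𝒳 h𝒴 hj hN 𝒴 h𝒴 hq (BasedFunctor.id 𝒴)
  have hP := Groth.Agent.AlgStLib.isAlgStack_fp h𝒴.isStack.1 h𝒴.diag h𝒴 h𝒳 (BasedFunctor.id 𝒴) j
  have hid : AlgSt.IsSurjective (BasedFunctor.id 𝒴) := fun a =>
    ⟨a, Groth.Agent.AlgStLib.stk_map_id a⟩
  refine ⟨Groth.Agent.AlgStLib.isQuasiCompact_of_surjective hP h𝒳 (FibCat.fpSnd (BasedFunctor.id 𝒴) j)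
    (Groth.Agent.AlgStLib.isSurjective_fpSnd h𝒴.isStack.1 h𝒳.isStack.1 h𝒴.isStack.1 j hid) h, ?_, hN'⟩
  have hjqs : AlgSt.IsQuasiSeparatedMor j := Groth.Agent.AlgStLib.repWith_diag_of_mono
    (fun _ _ _ hF hG hi => by have := hi; exact Groth.Agent.AlgStLib.qcqs_of_isIso hF hG)
    (Groth.Agent.AlgStLib.isMono_of_isImm hj)
  have := Groth.Agent.FpqcDescent.quasiCompact_descendsAlong.{u}
  show AlgSt.IsQuasiSeparatedMor (FibCat.toSelf 𝒳)
  rw [← Groth.Agent.FibBasics.comp_toSelf j]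
  exact Groth.Agent.AlgStLib.repWith_diag_comp
    (fun _ _ _ _ hY hZ _ _ ha hb => ⟨Groth.Agent.AlgStLib.isQuasiCompactMor_comp hY hZ ha.1 hb.1,
      Groth.Agent.AlgStLib.isQuasiSeparatedMor_comp ha.2 hb.2⟩)
    (Groth.Agent.AlgStLib.isLocalOnBase_fppf (Groth.Agent.AlgSpLib.isLocalOnBase_and
      Groth.Agent.AlgSpLib.isLocalOnBase_isQuasiCompactMor Groth.Agent.AlgSpLib.isLocalOnBase_repWith_diagonal))
    h𝒳.isStack.1 h𝒴.isStack.1 hjqs hqs

end Groth.Agent.S13018
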