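import Groth.Statements.S13019
import Groth.Agent.AlgStLib.StkNoeth
-- import your own Groth.Agent.* helpers here

set_option autoImplicit false
universe u
open CategoryTheory AlgebraicGeometry
open AlgSt

namespace Groth.Agent.S13019

/-- If 𝒳 is a locally Noetherian algebraic stack then its space of points is a locally Noetherian
topological space: every point has an open neighbourhood which is a Noetherian topological space. -/
theorem result
    (S : Scheme.{u}) (𝒳 : AlgSt.Cat S)
    (h𝒳 : AlgSt.IsAlgStack Scheme.fppfPrecoverage 𝒳) :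
    AlgSt.SmoothLocally (fun T ↦ IsLocallyNoetherian T) 𝒳 → ∀ x : AlgSt.Points 𝒳, ∃ U : Set (AlgSt.Points 𝒳), IsOpen U ∧ x ∈ U ∧ TopologicalSpace.NoetherianSpace U := by
  intro hN p
  obtain ⟨A, hA, φ, hφ, ho, hp⟩ := Groth.Agent.AlgStLib.exists_noetherian_nhd h𝒳 hN p
  exact ⟨_, ho, hp, Groth.Agent.AlgStLib.noetherianSpace_image hφ⟩

end Groth.Agent.S13019
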