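import Groth.Statements.S13041
import Mathlib
-- import your own Groth.Agent.* helpers here

set_option autoImplicit false
universe u
open MaxMod

namespace Groth.Agent.S13041

/-- Let R be a domain with fraction field K, let A → B be a homomorphism of commutative R-algebras that
are flat over R, with B module-finite over A, such that the induced map K ⊗_R A → K ⊗_R B is
bijective. If the A-linear map Hom_A(B, A) → A evaluating at 1 is surjective, then A → B is
bijective. (The published statement concerns a finite morphism of flat schemes over a discrete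
valuation ring, with locally free relative dualizing sheaves, that is an isomorphism over a
schematically dense open and whose trace map on dualizing sheaves is surjective; this row is the
statement about rings to which the printed proof reduces it and which that proof establishes, and
the argument uses only that R is a domain.) -/
theorem result
    (R K A B : Type u) [CommRing R] [IsDomain R] [Field K] [Algebra R K] [IsFractionRing R K]
    [CommRing A] [CommRing B] [Algebra R A] [Algebra R B] [Algebra A B] [IsScalarTower R A B]
    [Module.Flat R A] [Module.Flat R B] [Module.Finite A B]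
    (hK : Function.Bijective
      (Algebra.TensorProduct.map (AlgHom.id R K) (IsScalarTower.toAlgHom R A B)))
    (htr : Function.Surjective (fun u : B →ₗ[A] A => u 1)) :
    Function.Bijective (algebraMap A B) := by
  obtain ⟨u, (hu : u 1 = 1)⟩ := htr 1
  have hu' : ∀ a : A, u (algebraMap A B a) = a := fun a => by
    rw [Algebra.algebraMap_eq_smul_one, map_smul, hu, smul_eq_mul, mul_one]
  refine ⟨fun a a' h => by rw [← hu' a, h, hu'], fun b => ⟨u b, ?_⟩⟩
  have hden : ∀ z : TensorProduct R K A, ∃ p : A × (nonZeroDivisors R), (p.2 : R) • z = (1 : K) ⊗ₜ[R] p.1 := by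
    intro z
    induction z using TensorProduct.induction_on with
    | zero => exact ⟨⟨0, 1⟩, by simp⟩
    | tmul c a =>
      obtain ⟨⟨n, d⟩, hd⟩ := IsLocalization.surj (nonZeroDivisors R) c
      refine ⟨⟨n • a, d⟩, ?_⟩
      rw [TensorProduct.smul_tmul', Algebra.smul_def, mul_comm, hd, Algebra.algebraMap_eq_smul_one,
        TensorProduct.smul_tmul]
    | add x y hx hy =>
      obtain ⟨⟨a, r⟩, ha⟩ := hx
      obtain ⟨⟨a', r'⟩, ha'⟩ := hy
      refine ⟨⟨(r' : R) • a + (r : R) • a', r * r'⟩, ?_⟩
      simp only [Submonoid.coe_mul, TensorProduct.tmul_add, TensorProduct.tmul_smul, smul_add]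
      rw [← ha, ← ha', smul_smul, smul_smul, mul_comm (r' : R)]
  obtain ⟨z, hz⟩ := hK.2 ((1 : K) ⊗ₜ[R] b)
  obtain ⟨⟨a, r⟩, hr⟩ := hden z
  have h1 : (1 : K) ⊗ₜ[R] ((r : R) • b) = (1 : K) ⊗ₜ[R] algebraMap A B a := by
    rw [TensorProduct.tmul_smul, ← hz, ← map_smul, hr]
    rfl
  have hinj : Function.Injective (fun x : B => (1 : K) ⊗ₜ[R] x) := by
    have := Module.Flat.rTensor_preserves_injective_linearMap (M := B) (Algebra.linearMap R K)
      (IsFractionRing.injective R K)
    intro x y hxy
    refine (TensorProduct.lid R B).symm.injective (this ?_)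
    simpa using hxy
  have h2 : (r : R) • b = algebraMap A B a := hinj h1
  have h3 : (r : R) • algebraMap A B (u b) = algebraMap A B a := by
    rw [← hu' a, ← h2, LinearMap.map_smul_of_tower]
    exact (map_smul (IsScalarTower.toAlgHom R A B) (r : R) (u b)).symm
  refine hinj ?_
  have : (r : R) • ((1 : K) ⊗ₜ[R] algebraMap A B (u b)) = (r : R) • ((1 : K) ⊗ₜ[R] b) := by
    rw [← TensorProduct.tmul_smul, ← TensorProduct.tmul_smul, h2, h3]
  have hru : IsUnit (algebraMap R K r) := IsLocalization.map_units K r
  simp only [← algebraMap_smul K (r : R)] at this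
  exact hru.smul_left_cancel.mp this

end Groth.Agent.S13041
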