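import Groth.Statements.S13042
import Mathlib
-- import your own Groth.Agent.* helpers here

set_option autoImplicit false
universe u
open MaxMod

namespace Groth.Agent.S13042

open MvPolynomial in
/-- Let p be a prime, R a local ring of characteristic p, λ an element of the maximal ideal of R and f ∈
R. Then there is an isomorphism of R-algebras R[W₁, W₂]/(W₁^p − f, W₂^p − f) ≅ R[x, W]/(x^p, W^p −
f) with W₁ ↦ x + W + λ·x·W and W₂ ↦ W; that is, Spec R[W]/(W^p − f) with the action w ↦ x + w + λxw
is a torsor under the group scheme Spec R[x]/(x^p) with law x₁ ∘ x₂ = x₁ + x₂ + λx₁x₂. (The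
published statement is over a complete discrete valuation ring of characteristic p with λ a nonzero
nonunit, and also asserts that for f in the fraction field with negative valuation v(f) > −p·v(λ)
the torsor W^p = f extends to a torsor over R, using the coordinate 1/W; that second case fails: for
p = 2, λ = π a uniformizer and f = 1/π, every model is Spec R[π^a t] with t² = π, and none of these
is a torsor since the coaction sends t to t − π(1 + t)x. Only the case f ∈ R is stated, and the
argument there uses only that R is local of characteristic p.) -/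
theorem result
    (p : ℕ) [Fact p.Prime] (R : Type u) [CommRing R] [IsLocalRing R] [CharP R p]
    (lam f : R) (hlam : lam ∈ IsLocalRing.maximalIdeal R) :
    ∃ e : (MvPolynomial (Fin 2) R ⧸ Ideal.span {(X 0 ^ p - C f : MvPolynomial (Fin 2) R), X 1 ^ p - C f}) ≃ₐ[R]
        (MvPolynomial (Fin 2) R ⧸ Ideal.span {(X 0 ^ p : MvPolynomial (Fin 2) R), X 1 ^ p - C f}),
      e (Ideal.Quotient.mk _ (X 0)) = Ideal.Quotient.mk _ (X 0 + X 1 + C lam * X 0 * X 1) ∧
      e (Ideal.Quotient.mk _ (X 1)) = Ideal.Quotient.mk _ (X 1) := by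
  have hp : p ≠ 0 := (Fact.out : p.Prime).ne_zero
  set I : Ideal (MvPolynomial (Fin 2) R) :=
    Ideal.span {(MvPolynomial.X 0 ^ p - MvPolynomial.C f : MvPolynomial (Fin 2) R), MvPolynomial.X 1 ^ p - MvPolynomial.C f} with hI
  set J : Ideal (MvPolynomial (Fin 2) R) :=
    Ideal.span {(MvPolynomial.X 0 ^ p : MvPolynomial (Fin 2) R), MvPolynomial.X 1 ^ p - MvPolynomial.C f} with hJ
  let x := Ideal.Quotient.mk J (MvPolynomial.X 0)
  let W := Ideal.Quotient.mk J (MvPolynomial.X 1)
  let W1 := Ideal.Quotient.mk I (MvPolynomial.X 0)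
  let W2 := Ideal.Quotient.mk I (MvPolynomial.X 1)
  have hx : x ^ p = 0 := by
    rw [← map_pow, Ideal.Quotient.eq_zero_iff_mem]
    exact Ideal.subset_span (by simp)
  have hW : W ^ p = algebraMap R _ f := by
    rw [← map_pow]
    exact Ideal.Quotient.eq.mpr (Ideal.subset_span (by simp))
  have hW1 : W1 ^ p = algebraMap R _ f := by
    rw [← map_pow]
    exact Ideal.Quotient.eq.mpr (Ideal.subset_span (by simp))
  have hW2 : W2 ^ p = algebraMap R _ f := by
    rw [← map_pow]
    exact Ideal.Quotient.eq.mpr (Ideal.subset_span (by simp))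
  have haddJ : ∀ a b : MvPolynomial (Fin 2) R ⧸ J, (a + b) ^ p = a ^ p + b ^ p := by
    intro a b
    obtain ⟨a, rfl⟩ := Ideal.Quotient.mk_surjective a
    obtain ⟨b, rfl⟩ := Ideal.Quotient.mk_surjective b
    rw [← map_add, ← map_pow, add_pow_char, map_add, map_pow, map_pow]
  have haddI : ∀ a b : MvPolynomial (Fin 2) R ⧸ I, (a + b) ^ p = a ^ p + b ^ p := by
    intro a b
    obtain ⟨a, rfl⟩ := Ideal.Quotient.mk_surjective a
    obtain ⟨b, rfl⟩ := Ideal.Quotient.mk_surjective b
    rw [← map_add, ← map_pow, add_pow_char, map_add, map_pow, map_pow]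
  have hu : IsUnit (1 + lam ^ p * f) := by
    by_contra h
    have h1 : lam ^ p * f ∈ IsLocalRing.maximalIdeal R := Ideal.mul_mem_right _ _ (Ideal.pow_mem_of_mem _ hlam p (Nat.pos_of_ne_zero hp))
    have h2 := sub_mem ((IsLocalRing.mem_maximalIdeal _).mpr h) h1
    rw [add_sub_cancel_right] at h2
    exact (IsLocalRing.maximalIdeal.isMaximal R).ne_top ((Ideal.eq_top_iff_one _).mpr h2)
  have hunit : IsUnit (1 + algebraMap R _ lam * W2) := by
    refine (isUnit_pow_iff hp).mp ?_
    rw [haddI, one_pow, mul_pow, hW2, ← map_pow, ← map_mul, ← map_one (algebraMap R _), ← map_add]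
    exact hu.map _
  obtain ⟨v, hv⟩ := hunit.exists_left_inv
  let F : (MvPolynomial (Fin 2) R ⧸ I) →ₐ[R] (MvPolynomial (Fin 2) R ⧸ J) :=
    Ideal.Quotient.liftₐ I (MvPolynomial.aeval ![x + W + algebraMap R _ lam * x * W, W]) (by
      intro a ha
      refine (Ideal.span_le.mpr ?_ : I ≤ RingHom.ker (MvPolynomial.aeval ![x + W + algebraMap R _ lam * x * W, W])) ha
      rintro _ (rfl | rfl) <;>
        simp [haddJ, mul_pow, hx, hW, zero_pow hp])
  let G : (MvPolynomial (Fin 2) R ⧸ J) →ₐ[R] (MvPolynomial (Fin 2) R ⧸ I) :=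
    Ideal.Quotient.liftₐ J (MvPolynomial.aeval ![(W1 - W2) * v, W2]) (by
      intro a ha
      refine (Ideal.span_le.mpr ?_ : J ≤ RingHom.ker (MvPolynomial.aeval ![(W1 - W2) * v, W2])) ha
      rintro _ (rfl | rfl)
      · have : (W1 - W2) ^ p = 0 := by
          have h := haddI (W1 - W2) W2
          rw [sub_add_cancel, hW1, hW2] at h
          linear_combination -h
        simp [mul_pow, this]
      · simp [hW2])
  have hF0 : F W1 = x + W + algebraMap R _ lam * x * W := by
    show MvPolynomial.aeval _ (MvPolynomial.X 0) = _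
    simp
  have hF1 : F W2 = W := by
    show MvPolynomial.aeval _ (MvPolynomial.X 1) = _
    simp
  have hG0 : G x = (W1 - W2) * v := by
    show MvPolynomial.aeval _ (MvPolynomial.X 0) = _
    simp
  have hG1 : G W = W2 := by
    show MvPolynomial.aeval _ (MvPolynomial.X 1) = _
    simp
  have hFv : F v * (1 + algebraMap R _ lam * W) = 1 := by
    have := congrArg F hv
    rwa [map_mul, map_add, map_one, map_mul, AlgHom.commutes, hF1] at this
  have h1 : F.comp G = AlgHom.id R _ := by
    refine Ideal.Quotient.algHom_ext R (MvPolynomial.algHom_ext fun i => ?_)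
    fin_cases i
    · show F (G x) = x
      rw [hG0, map_mul, map_sub, hF0, hF1]
      linear_combination x * hFv
    · show F (G W) = W
      rw [hG1, hF1]
  have h2 : G.comp F = AlgHom.id R _ := by
    refine Ideal.Quotient.algHom_ext R (MvPolynomial.algHom_ext fun i => ?_)
    fin_cases i
    · show G (F W1) = W1
      rw [hF0, map_add, map_add, map_mul, map_mul, AlgHom.commutes, hG0, hG1]
      linear_combination (W1 - W2) * hv
    · show G (F W2) = W2
      rw [hF1, hG1]
  refine ⟨AlgEquiv.ofAlgHom F G h1 h2, ?_, hF1⟩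
  show F W1 = _
  rw [hF0, map_add, map_add, map_mul, map_mul]
  rfl

end Groth.Agent.S13042
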