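import Groth.Statements.S13045
import Mathlib.LinearAlgebra.DirectSum.Finsupp
import Mathlib.Algebra.Module.Projective
set_option linter.style.haveILetI false

set_option autoImplicit false
universe u
open FrobAlg

namespace Groth.Agent.S13045

theorem injective_pi_lTensor {R : Type*} [CommRing R] {M X : Type*} [AddCommGroup M] [Module R M]
    [Module.Projective R M] [AddCommGroup X] [Module R X] {ι : Type*} {N : ι → Type*}
    [∀ i, AddCommGroup (N i)] [∀ i, Module R (N i)] (f : ∀ i, X →ₗ[R] N i)
    (hf : Function.Injective (LinearMap.pi f)) :
    Function.Injective (LinearMap.pi fun i => LinearMap.lTensor M (f i)) := by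
  classical
  refine (injective_iff_map_eq_zero _).2 fun z hz => ?_
  obtain ⟨s, hs⟩ := Module.Projective.out (R := R) (P := M)
  have hsinj : Function.Injective (LinearMap.rTensor X s) := by
    have h : (Finsupp.linearCombination R (id : M → M)) ∘ₗ s = LinearMap.id := LinearMap.ext hs
    have h' : (LinearMap.rTensor X (Finsupp.linearCombination R (id : M → M))) ∘ₗ LinearMap.rTensor X s =
        LinearMap.id := by rw [← LinearMap.rTensor_comp, h, LinearMap.rTensor_id]
    exact Function.LeftInverse.injective (LinearMap.congr_fun h')
  apply hsinj
  rw [map_zero]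
  apply (TensorProduct.finsuppScalarLeft R X M).injective
  rw [map_zero]
  refine Finsupp.ext fun c => ?_
  rw [TensorProduct.finsuppScalarLeft_apply, ← LinearMap.rTensor_comp_apply, Finsupp.zero_apply]
  apply hf
  rw [map_zero]
  funext i
  have hn : ∀ y : TensorProduct R M X, f i (TensorProduct.lid R X (LinearMap.rTensor X (Finsupp.lapply c ∘ₗ s) y)) =
      TensorProduct.lid R (N i) (LinearMap.rTensor (N i) (Finsupp.lapply c ∘ₗ s) (LinearMap.lTensor M (f i) y)) := by
    intro y
    induction y using TensorProduct.induction_on with
    | zero => simp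
    | tmul m v => simp
    | add u v hu hv => simp [hu, hv]
  show f i _ = 0
  rw [hn, show LinearMap.lTensor M (f i) z = 0 from congrFun hz i, map_zero, map_zero]


open TensorProduct in
/-- Let p be a prime, R a commutative ring of characteristic p and A a commutative R-algebra of
characteristic p, with Frobenius twists A^{p^i/R} = R ⊗_{F^i,R} A, relative Frobenius maps F_i :
A^{p^{i+1}/R} → A^{p^i/R} and preperfection A^{p^∞/R} = lim_i A^{p^i/R} ⊆ Π_i A^{p^i/R}. For every
projective R-module M the natural map M ⊗_R A^{p^∞/R} → Π_i (M ⊗_R A^{p^i/R}), m ⊗ x ↦ (m ⊗ x_i)_i,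
is injective; in particular the base change map M ⊗_R lim_i A^{p^i/R} → lim_i (M ⊗_R A^{p^i/R}) is
injective. (The published statement is phrased for a projective R-algebra R′ in place of M; the
printed argument is the module statement given here.) -/
theorem result
    (p : ℕ) [Fact p.Prime] (R : Type u) [CommRing R] [CharP R p]
    (A : Type u) [CommRing A] [Algebra R A] [CharP A p]
    (M : Type u) [AddCommGroup M] [Module R M] [Module.Projective R M] :
    Function.Injective
      (LinearMap.pi fun i : ℕ =>
        LinearMap.lTensor M
          (((Pi.evalAlgHom R (fun k => W4c1imperftorsors.Twist p R A k) i).comp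
            (W4c1imperftorsors.prePerf p R A).val).toLinearMap) :
        M ⊗[R] ↥(W4c1imperftorsors.prePerf p R A) →ₗ[R] (Π i : ℕ, M ⊗[R] W4c1imperftorsors.Twist p R A i)) := by
  refine injective_pi_lTensor _ fun x y h => Subtype.ext (funext fun i => congrFun h i)

end Groth.Agent.S13045
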