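import Groth.Statements.S13046
import Mathlib
-- import your own Groth.Agent.* helpers here

set_option autoImplicit false
universe u
open FrobAlg

namespace Groth.Agent.S13046

open TensorProduct in
/-- Let p be a prime, R a commutative ring of characteristic p and A a commutative R-algebra of
characteristic p, with Frobenius twists A^{p^i/R} = R ⊗_{F^i,R} A, relative Frobenius maps F_i :
A^{p^{i+1}/R} → A^{p^i/R} and preperfection A^{p^∞/R} = lim_i A^{p^i/R} ⊆ Π_i A^{p^i/R}. For every
finitely generated projective R-module M, a sequence y ∈ Π_i (M ⊗_R A^{p^i/R}) lies in the image of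
the natural map M ⊗_R A^{p^∞/R} → Π_i (M ⊗_R A^{p^i/R}), m ⊗ x ↦ (m ⊗ x_i)_i, if and only if (M ⊗
F_i)(y_{i+1}) = y_i for all i: the image is exactly the module of compatible sequences. Together
with the injectivity of that map, which holds for every projective M, this says that the base change
map M ⊗_R lim_i A^{p^i/R} → lim_i (M ⊗_R A^{p^i/R}) is an isomorphism. (The published statement is
phrased for a finite locally free R-algebra R′ in place of M and identifies the target with the
preperfection of A ⊗_R R′ over R′; the printed argument is the module statement given here, and that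
identification is not part of this row; the injectivity half is stated separately for all projective
M.) -/
theorem result
    (p : ℕ) [Fact p.Prime] (R : Type u) [CommRing R] [CharP R p]
    (A : Type u) [CommRing A] [Algebra R A] [CharP A p]
    (M : Type u) [AddCommGroup M] [Module R M] [Module.Finite R M] [Module.Projective R M]
    (y : Π i : ℕ, M ⊗[R] W4c1imperftorsors.Twist p R A i) :
    y ∈ LinearMap.range
        (LinearMap.pi fun i : ℕ =>
        LinearMap.lTensor M
          (((Pi.evalAlgHom R (fun k => W4c1imperftorsors.Twist p R A k) i).comp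
            (W4c1imperftorsors.prePerf p R A).val).toLinearMap) :
        M ⊗[R] ↥(W4c1imperftorsors.prePerf p R A) →ₗ[R] (Π i : ℕ, M ⊗[R] W4c1imperftorsors.Twist p R A i)) ↔
      ∀ i : ℕ, LinearMap.lTensor M (W4c1imperftorsors.relFrob p R A i).toLinearMap (y (i + 1)) = y i := by
  constructor
  · rintro ⟨z, rfl⟩ i
    induction z using TensorProduct.induction_on with
    | zero => simp
    | add u v hu hv => simp only [map_add, Pi.add_apply, hu, hv]
    | tmul m x =>
      simp only [LinearMap.pi_apply, LinearMap.lTensor_tmul]
      have hx : x.val ∈ W4c1imperftorsors.prePerf p R A := x.2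
      simp only [W4c1imperftorsors.prePerf, Algebra.mem_iInf, AlgHom.mem_equalizer] at hx
      exact congrArg (m ⊗ₜ[R] ·) (hx i)
  · intro hy
    obtain ⟨n, f, g, -, -, hfg⟩ := Module.Finite.exists_comp_eq_id_of_projective R M
    let c : ∀ (T : Type u) [AddCommGroup T] [Module R T], Fin n → (M ⊗[R] T →ₗ[R] T) := fun T _ _ j =>
      (TensorProduct.lid R T).toLinearMap ∘ₗ ((LinearMap.proj j).comp g).rTensor T
    have hc : ∀ (T : Type u) [AddCommGroup T] [Module R T] (z : M ⊗[R] T), z = ∑ j, f (Pi.single j 1) ⊗ₜ[R] c T j z := by
      intro T _ _ z
      induction z using TensorProduct.induction_on with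
      | zero => simp
      | add u v hu hv =>
        conv_lhs => rw [hu, hv]
        rw [← Finset.sum_add_distrib]
        simp [TensorProduct.tmul_add]
      | tmul m t =>
        conv_lhs => rw [show m = f (g m) from (LinearMap.congr_fun hfg m).symm, pi_eq_sum_univ' (g m)]
        rw [map_sum, TensorProduct.sum_tmul]
        refine Finset.sum_congr rfl fun j _ => ?_
        simp [c, TensorProduct.smul_tmul']
    have hnat : ∀ (T T' : Type u) [AddCommGroup T] [Module R T] [AddCommGroup T'] [Module R T'] (φ : T →ₗ[R] T') (j) (z : M ⊗[R] T), φ (c T j z) = c T' j (φ.lTensor M z) := by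
      intro T T' _ _ _ _ φ j z
      induction z using TensorProduct.induction_on with
      | zero => simp
      | add u v hu hv => simp only [map_add, hu, hv]
      | tmul m t => simp [c]
    let x : Fin n → ↥(W4c1imperftorsors.prePerf p R A) := fun j => ⟨fun i => c _ j (y i), by
      simp only [W4c1imperftorsors.prePerf, Algebra.mem_iInf, AlgHom.mem_equalizer]
      intro i
      show W4c1imperftorsors.relFrob p R A i (c _ j (y (i + 1))) = c _ j (y i)
      rw [← hy i]
      exact hnat _ _ (W4c1imperftorsors.relFrob p R A i).toLinearMap j (y (i + 1))⟩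
    refine ⟨∑ j, f (Pi.single j 1) ⊗ₜ[R] x j, funext fun i => ?_⟩
    rw [map_sum, Finset.sum_apply]
    exact (hc _ (y i)).symm

end Groth.Agent.S13046
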