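import Mathlib
import Groth.Statements.S13047
-- import your own Groth.Agent.* helpers here

set_option autoImplicit false
universe u
open FrobAlg

namespace Groth.Agent.S13047

/-- The scalar by which the Frobenius multiplies `α`. -/
def fac (p : ℕ) {R : Type u} [CommRing R] (v : R) (i : ℕ) : R := (v ^ 2) ^ (p ^ i * ((p - 1) / 2))

section

open Polynomial W4c1imperftorsors TensorProduct

variable (p : ℕ) [Fact p.Prime] (R : Type u) [CommRing R] [CharP R p] (u v : R)

local notation "BB" => (R[X] ⧸ Ideal.span {(C u * X : R[X]), X ^ 2 - C (v ^ 2)})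

/-- The image of a polynomial in the twist. -/
noncomputable def im (i : ℕ) : R[X] →+* Twist p R BB i :=
  (Algebra.TensorProduct.includeRight.toRingHom : ASrc p R BB i →+* Twist p R BB i).comp
    (((aEquiv p R BB i).symm : BB →+* ASrc p R BB i).comp (Ideal.Quotient.mk _))

lemma im_apply (i : ℕ) (P : R[X]) :
    im p R u v i P = (1 : R) ⊗ₜ[Src p R i] (aEquiv p R BB i).symm (Ideal.Quotient.mk _ P) := rfl

/-- The class of `α` in the twist. -/
noncomputable def al (i : ℕ) : Twist p R BB i := im p R u v i X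

lemma im_C (i : ℕ) (r : R) : im p R u v i (C r) = algebraMap R (Twist p R BB i) (r ^ p ^ i) := by
  rw [im_apply, Algebra.TensorProduct.algebraMap_apply, Algebra.algebraMap_self, RingHom.id_apply]
  rw [show (r ^ p ^ i : R) = ((srcEquiv p R i).symm r) • (1 : R) from by
    rw [Algebra.smul_def, mul_one, algebraMap_src, RingEquiv.apply_symm_apply]]
  rw [TensorProduct.smul_tmul, Algebra.smul_def, mul_one, algebraMap_aSrc, RingEquiv.apply_symm_apply]
  rfl

lemma al_sq (i : ℕ) : al p R u v i * al p R u v i = algebraMap R (Twist p R BB i) ((v ^ 2) ^ p ^ i) := by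
  rw [al, ← map_mul, ← im_C p R u v i, ← sub_eq_zero, ← map_sub]
  rw [show (X * X - C (v ^ 2) : R[X]) = X ^ 2 - C (v ^ 2) by rw [sq X], im_apply,
    Ideal.Quotient.eq_zero_iff_mem.2 (Ideal.subset_span (Set.mem_insert_of_mem _ (Set.mem_singleton _))), map_zero, TensorProduct.tmul_zero]

lemma al_u (i : ℕ) : algebraMap R (Twist p R BB i) (u ^ p ^ i) * al p R u v i = 0 := by
  rw [al, ← im_C p R u v i, ← map_mul, im_apply,
    Ideal.Quotient.eq_zero_iff_mem.2 (Ideal.subset_span (Set.mem_insert _ _)), map_zero, TensorProduct.tmul_zero]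

lemma exists_coords (i : ℕ) (x : Twist p R BB i) :
    ∃ a b : R, x = algebraMap R _ a + algebraMap R _ b * al p R u v i := by
  induction x using TensorProduct.induction_on with
  | zero => exact ⟨0, 0, by simp⟩
  | add x y hx hy =>
    obtain ⟨a, b, rfl⟩ := hx
    obtain ⟨a', b', rfl⟩ := hy
    exact ⟨a + a', b + b', by rw [map_add, map_add]; ring⟩
  | tmul r z =>
    obtain ⟨P, hP⟩ := Ideal.Quotient.mk_surjective (aEquiv p R BB i z)
    have hz : r ⊗ₜ[Src p R i] z = algebraMap R _ r * im p R u v i P := by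
      rw [im_apply, Algebra.TensorProduct.algebraMap_apply, Algebra.algebraMap_self, RingHom.id_apply,
        Algebra.TensorProduct.tmul_mul_tmul, mul_one, one_mul, hP, RingEquiv.symm_apply_apply]
    rw [hz]
    clear hz hP z
    induction P using Polynomial.induction_on with
    | C s => exact ⟨r * s ^ p ^ i, 0, by rw [im_C, map_mul, map_zero, zero_mul, add_zero]⟩
    | add P Q hP hQ =>
      obtain ⟨a, b, hab⟩ := hP
      obtain ⟨a', b', hab'⟩ := hQ
      exact ⟨a + a', b + b', by rw [map_add (im p R u v i), mul_add, hab, hab', map_add, map_add]; ring⟩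
    | monomial n s hn =>
      obtain ⟨a, b, hab⟩ := hn
      refine ⟨b * (v ^ 2) ^ p ^ i, a, ?_⟩
      rw [show (C s * X ^ (n + 1) : R[X]) = C s * X ^ n * X by ring, map_mul, ← mul_assoc, hab,
        map_mul, ← al_sq p R u v i]
      change _ * al p R u v i = _
      ring

lemma exists_eval {S : Type u} [CommRing S] [Algebra R S] (i : ℕ) (s : S)
    (hu : algebraMap R S (u ^ p ^ i) * s = 0) (hv : s * s = algebraMap R S ((v ^ 2) ^ p ^ i)) :
    ∃ φ : Twist p R BB i →ₐ[R] S, φ (al p R u v i) = s := by
  letI : Algebra (Src p R i) S := ((algebraMap R S).comp (algebraMap (Src p R i) R)).toAlgebra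
  haveI : IsScalarTower (Src p R i) R S := IsScalarTower.of_algebraMap_eq' rfl
  let e : R[X] →+* S := eval₂RingHom ((algebraMap R S).comp (iterateFrobenius R p i)) s
  have he : ∀ a ∈ Ideal.span {(C u * X : R[X]), X ^ 2 - C (v ^ 2)}, e a = 0 := by
    intro a ha
    refine RingHom.mem_ker.1 (Ideal.span_le.2 ?_ ha)
    rintro _ (rfl | rfl)
    · simp only [SetLike.mem_coe, RingHom.mem_ker, e, coe_eval₂RingHom, eval₂_mul, eval₂_X, eval₂_C,
        RingHom.comp_apply, iterateFrobenius_def, hu]
    · simp only [SetLike.mem_coe, RingHom.mem_ker, e, coe_eval₂RingHom, eval₂_sub, eval₂_pow, eval₂_X, eval₂_C,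
        RingHom.comp_apply, iterateFrobenius_def]
      rw [sq s, hv, sub_self]
  let g0 : ASrc p R BB i →+* S := (Ideal.Quotient.lift _ e he).comp (aEquiv p R BB i : ASrc p R BB i →+* BB)
  let g : ASrc p R BB i →ₐ[Src p R i] S :=
    { g0 with
      commutes' := fun c => by
        change g0 (algebraMap (Src p R i) (ASrc p R BB i) c) = _
        simp only [g0, RingHom.comp_apply, algebraMap_aSrc, RingHom.coe_coe, RingEquiv.apply_symm_apply]
        rw [← Ideal.Quotient.mk_algebraMap, Ideal.Quotient.lift_mk]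
        simp only [e, Polynomial.algebraMap_eq, coe_eval₂RingHom, eval₂_C]
        rfl }
  refine ⟨Algebra.TensorProduct.lift (Algebra.ofId R S) g (fun _ _ => Commute.all _ _), ?_⟩
  rw [al, im_apply, Algebra.TensorProduct.lift_tmul, map_one, one_mul]
  change g0 _ = _
  simp only [g0, RingHom.comp_apply, RingHom.coe_coe, RingEquiv.apply_symm_apply, Ideal.Quotient.lift_mk, e,
    coe_eval₂RingHom, eval₂_X]


lemma relFrob_al [CharP BB p] (hp : p ≠ 2) (i : ℕ) :
    relFrob p R BB i (al p R u v (i + 1)) = algebraMap R (Twist p R BB i) (fac p v i) * al p R u v i := by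
  have hodd : p = 2 * ((p - 1) / 2) + 1 := by
    obtain ⟨k, hk⟩ := (Nat.Prime.odd_of_ne_two (Fact.out : p.Prime) hp)
    omega
  have h : relFrob p R BB i (al p R u v (i + 1)) = al p R u v i ^ p := by
    rw [al, al, im_apply, ← map_pow, im_apply]
    change relFrobAux p R BB i _ = _
    rw [relFrobAux, Algebra.TensorProduct.lift_tmul, map_one, one_mul]
    change (1 : R) ⊗ₜ[Src p R i] (aEquiv p R BB i).symm (frobenius BB p _) = _
    simp only [RingHom.coe_coe, RingEquiv.apply_symm_apply, frobenius_def, map_pow]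
  rw [h]
  calc al p R u v i ^ p = (al p R u v i * al p R u v i) ^ ((p - 1) / 2) * al p R u v i := by
        rw [← sq (al p R u v i), ← pow_mul, ← pow_succ, ← hodd]
    _ = _ := by
        rw [al_sq, ← map_pow, ← pow_mul]
        rfl

end

open Polynomial in
/-- Let p be an odd prime, R a commutative ring of characteristic p and u, v ∈ R with uv = 0, such that
for every N ≥ 1 an element of R lying in (v^n) + (u^N) for all n lies in (u^N) (v-adic separatedness
of R/(u^N)). Let B = R[α]/(uα, α² − v²), an R-algebra of characteristic p, with Frobenius twists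
B^{p^i/R} = R ⊗_{F^i,R} B and preperfection B^{p^∞/R} = lim_i B^{p^i/R} along the relative Frobenius
maps. Then the structure map R → B^{p^∞/R} is bijective: the preperfection of B is R. (The published
statement is for R = F_p[[u, v]]/(uv), where B arises as the preperfection of R[x, y, 1/(x − y)]/(xy
− u), so that the second preperfection of that algebra is R although the first is not perfect; the
printed computation uses only the hypotheses listed here, which that R satisfies.) -/
theorem result
    (p : ℕ) [Fact p.Prime] (hp : p ≠ 2) (R : Type u) [CommRing R] [CharP R p]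
    (u v : R) (huv : u * v = 0)
    (hsep : ∀ N : ℕ, 1 ≤ N → ∀ g : R,
      (∀ n : ℕ, g ∈ Ideal.span {v ^ n} ⊔ Ideal.span {u ^ N}) → g ∈ Ideal.span {u ^ N})
    [CharP (R[X] ⧸ Ideal.span {(C u * X : R[X]), X ^ 2 - C (v ^ 2)}) p] :
    Function.Bijective
      (algebraMap R ↥(W4c1imperftorsors.prePerf p R
        (R[X] ⧸ Ideal.span {(C u * X : R[X]), X ^ 2 - C (v ^ 2)}))) := by
  classical
  let T := W4c1imperftorsors.Twist p R (R[X] ⧸ Ideal.span {(C u * X : R[X]), X ^ 2 - C (v ^ 2)})
  let F := fun i => W4c1imperftorsors.relFrob p R (R[X] ⧸ Ideal.span {(C u * X : R[X]), X ^ 2 - C (v ^ 2)}) i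
  have huq : ∀ i, u ^ p ^ i * v ^ p ^ i = 0 := fun i => by
    rw [← mul_pow, huv, zero_pow (pow_ne_zero _ (Fact.out : p.Prime).ne_zero)]
  have hev : ∀ i, ∃ φ : T i →ₐ[R] R, φ (al p R u v i) = v ^ p ^ i := fun i =>
    exists_eval p R u v i _ (huq i) (by rw [Algebra.algebraMap_self, RingHom.id_apply]; ring)
  choose ev hev using hev
  have hevab : ∀ i (a b : R), ev i (algebraMap R _ a + algebraMap R _ b * al p R u v i) = a + b * v ^ p ^ i :=
    fun i a b => by rw [map_add, map_mul, AlgHom.commutes, AlgHom.commutes, hev]; rfl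
  have hFab : ∀ i (a b : R), F i (algebraMap R _ a + algebraMap R _ b * al p R u v (i + 1)) =
      algebraMap R _ a + algebraMap R _ (b * fac p v i) * al p R u v i := by
    intro i a b
    simp only [F, map_add, map_mul, AlgHom.commutes, relFrob_al p R u v hp i]
    ring
  have hevF : ∀ i y, ev i (F i y) = ev (i + 1) y := by
    intro i y
    obtain ⟨a, b, rfl⟩ := exists_coords p R u v (i + 1) y
    rw [hFab, hevab, hevab]
    have hodd : p = 2 * ((p - 1) / 2) + 1 := by
      obtain ⟨k, hk⟩ := (Nat.Prime.odd_of_ne_two (Fact.out : p.Prime) hp)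
      omega
    have hfac : fac p v i * v ^ p ^ i = v ^ p ^ (i + 1) := by
      rw [fac, ← pow_mul, ← pow_add, pow_succ p i]
      congr 1
      generalize (p - 1) / 2 = k at hodd ⊢
      subst hodd
      ring
    rw [← hfac]
    ring
  refine ⟨fun a b hab => ?_, fun x => ?_⟩
  · have := congrArg (fun z : ↥(W4c1imperftorsors.prePerf p R (R[X] ⧸ Ideal.span {(C u * X : R[X]), X ^ 2 - C (v ^ 2)})) => ev 0 (z.1 0)) hab
    exact ((ev 0).commutes a).symm.trans (this.trans ((ev 0).commutes b))
  obtain ⟨x, hx⟩ := x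
  have hF : ∀ i, F i (x (i + 1)) = x i := by
    intro i
    have := (Algebra.mem_iInf.1 hx) i
    exact this
  refine ⟨ev 0 (x 0), Subtype.ext (funext fun i => ?_)⟩
  have hconst : ∀ i, ev i (x i) = ev 0 (x 0) := by
    intro i
    induction i with
    | zero => rfl
    | succ i ih => rw [← ih, ← hF i, hevF]
  change algebraMap R (T i) (ev 0 (x 0)) = x i
  rw [← hconst i]
  -- `x i - ev (x i)` is divisible by every power of `v`
  let G : ∀ i, T i := fun i => x i - algebraMap R (T i) (ev 0 (x 0))
  have hG : ∀ i, F i (G (i + 1)) = G i := fun i => by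
    simp only [G, map_sub, hF i]
    exact congrArg (fun t => x i - t) ((F i).commutes _)
  have hdiv : ∀ n i, ∃ y : T i, G i = algebraMap R (T i) (v ^ n) * y := by
    intro n
    induction n with
    | zero => exact fun i => ⟨G i, by rw [pow_zero, map_one, one_mul]⟩
    | succ n ih =>
      intro i
      obtain ⟨y, hy⟩ := ih (i + 1)
      obtain ⟨a, b, rfl⟩ := exists_coords p R u v (i + 1) y
      have h0 : v ^ n * (a + b * v ^ p ^ (i + 1)) = 0 := by
        have := congrArg (ev (i + 1)) hy
        simp only [G] at this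
        rw [map_mul, AlgHom.commutes, hevab, map_sub, hconst (i + 1), AlgHom.commutes] at this
        simpa using this.symm
      obtain ⟨c, hc⟩ : ∃ c, fac p v i = v * c := by
        refine dvd_trans (dvd_pow_self v (n := 2) two_ne_zero) (dvd_pow_self _ ?_)
        have : 3 ≤ p := by have := (Fact.out : p.Prime).two_le; omega
        exact Nat.mul_ne_zero (pow_ne_zero _ (by omega)) (by omega)
      obtain ⟨w, hw⟩ : ∃ w, v ^ p ^ (i + 1) = v * w := dvd_pow_self v (pow_ne_zero _ (Fact.out : p.Prime).ne_zero)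
      refine ⟨algebraMap R _ (-(b * w)) + algebraMap R _ (b * c) * al p R u v i, ?_⟩
      have h1 : v ^ n * a = v ^ (n + 1) * (-(b * w)) := by
        rw [hw] at h0
        linear_combination h0
      rw [← hG i, hy]
      rw [map_mul, hFab, (F i).commutes, mul_add, ← mul_assoc, ← map_mul, ← map_mul, h1, hc]
      simp only [map_mul, map_neg, pow_succ]
      ring
  obtain ⟨a, b, hab⟩ := exists_coords p R u v i (G i)
  have h0 : a + b * v ^ p ^ i = 0 := by
    have := congrArg (ev i) hab
    simp only [G] at this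
    rw [hevab, map_sub, hconst i, AlgHom.commutes] at this
    simpa using this.symm
  let R' := R ⧸ Ideal.span {u ^ p ^ i}
  let Q : Polynomial R' := X ^ 2 - C (Ideal.Quotient.mk _ ((v ^ 2) ^ p ^ i))
  rcases subsingleton_or_nontrivial R' with hs | hs
  · have hb : b ∈ Ideal.span {u ^ p ^ i} := Ideal.Quotient.eq_zero_iff_mem.1 (@Subsingleton.elim R' hs _ _)
    obtain ⟨d, rfl⟩ := Ideal.mem_span_singleton'.1 hb
    have ha : a = 0 := by linear_combination h0 - d * huq i
    rw [hconst i]
    refine (sub_eq_zero.1 (hab.trans ?_)).symm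
    rw [ha, map_zero, map_mul, mul_assoc, al_u, mul_zero, add_zero]
  have hQ : Q.Monic := monic_X_pow_sub_C _ two_ne_zero
  obtain ⟨χ, hχ⟩ : ∃ χ : T i →ₐ[R] AdjoinRoot Q, χ (al p R u v i) = AdjoinRoot.root Q := by
    refine exists_eval p R u v i _ ?_ ?_
    · rw [IsScalarTower.algebraMap_apply R R' (AdjoinRoot Q), Ideal.Quotient.algebraMap_eq,
        Ideal.Quotient.eq_zero_iff_mem.2 (Ideal.mem_span_singleton_self _), map_zero, zero_mul]
    · have h := AdjoinRoot.eval₂_root Q
      simp only [Q, eval₂_sub, eval₂_X_pow, eval₂_C, sub_eq_zero] at h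
      rw [← sq, h, IsScalarTower.algebraMap_apply R R' (AdjoinRoot Q), Ideal.Quotient.algebraMap_eq,
        AdjoinRoot.algebraMap_eq]
  have hcoef : ∀ a b : R, (AdjoinRoot.modByMonicHom hQ (χ (algebraMap R _ a + algebraMap R _ b * al p R u v i))).coeff 1 =
      Ideal.Quotient.mk _ b := by
    intro a b
    have h : χ (algebraMap R _ a + algebraMap R _ b * al p R u v i) =
        AdjoinRoot.mk Q (C (Ideal.Quotient.mk _ a) + C (Ideal.Quotient.mk _ b) * X) := by
      rw [map_add, map_mul, AlgHom.commutes, AlgHom.commutes, hχ]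
      simp only [map_add, map_mul, AdjoinRoot.mk_C, AdjoinRoot.mk_X,
        IsScalarTower.algebraMap_apply R R' (AdjoinRoot Q), AdjoinRoot.algebraMap_eq]
      rfl
    rw [h, AdjoinRoot.modByMonicHom_mk, (Polynomial.modByMonic_eq_self_iff hQ).2]
    · simp
    · rw [degree_X_pow_sub_C (by norm_num : 0 < 2)]
      exact lt_of_le_of_lt ((degree_add_le _ _).trans (max_le (degree_C_le.trans (by norm_num)) (degree_C_mul_X_le _)))
        (by norm_num)
  have hb : b ∈ Ideal.span {u ^ p ^ i} := by
    refine hsep _ (Nat.one_le_pow _ _ (Fact.out : p.Prime).pos) b fun n => ?_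
    obtain ⟨y, hy⟩ := hdiv n i
    obtain ⟨a', b', rfl⟩ := exists_coords p R u v i y
    have h1 := hcoef a b
    rw [← hab, hy, mul_add, ← mul_assoc, ← map_mul, ← map_mul, hcoef, Ideal.Quotient.eq] at h1
    have : v ^ n * b' ∈ Ideal.span {v ^ n} := Ideal.mul_mem_right _ _ (Ideal.mem_span_singleton_self _)
    have h2 := Submodule.sub_mem _ (Submodule.mem_sup_left this) (Submodule.mem_sup_right h1)
    simpa using h2
  obtain ⟨d, rfl⟩ := Ideal.mem_span_singleton'.1 hb
  have ha : a = 0 := by linear_combination h0 - d * huq i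
  rw [hconst i]
  refine (sub_eq_zero.1 (hab.trans ?_)).symm
  rw [ha, map_zero, map_mul, mul_assoc, al_u, mul_zero, add_zero]

end Groth.Agent.S13047
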