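import Groth.Statements.S13048
import Mathlib.Algebra.CharP.Algebra
import Mathlib.RingTheory.Jacobson.Ring
import Mathlib.RingTheory.Filtration
import Mathlib.RingTheory.Localization.Submodule
import Mathlib.FieldTheory.IsAlgClosed.Basic
import Mathlib.Algebra.CharP.Lemmas

set_option autoImplicit false
universe u
open FrobAlg

namespace Groth.Agent.S13048

/-- Let k be an algebraically closed field of characteristic p > 0 and let A be a reduced finitely
generated commutative k-algebra with connected spectrum (A ≠ 0 and 0, 1 are its only idempotents).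
If x ∈ A is a p^n-th power in A for every n ≥ 0, then x lies in the image of k; that is, ⋂_n A^{p^n}
= k. (The published statement is: for an artinian local ring R of characteristic p and a flat
R-algebra A of finite type, the maps A^ét → O(π₀(A)) → A^{p^∞/R} from the largest étale subalgebra
to the preperfection are isomorphisms. This row is the case R = k algebraically closed and A reduced
with connected spectrum, where A^ét = k and the preperfection is ⋂_n A^{p^n}; the printed proof
reduces to this case and its last step proves it.) -/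
theorem result
    (p : ℕ) [Fact p.Prime] (k : Type u) [Field k] [IsAlgClosed k] [CharP k p]
    (A : Type u) [CommRing A] [Algebra k A] [Algebra.FiniteType k A] [IsReduced A] [Nontrivial A]
    (hconn : ∀ e : A, IsIdempotentElem e → e = 0 ∨ e = 1)
    (x : A) (hx : ∀ n : ℕ, ∃ a : A, a ^ p ^ n = x) :
    x ∈ (algebraMap k A).range := by
  classical
  haveI := charP_of_injective_algebraMap (algebraMap k A).injective p
  haveI : IsNoetherianRing A := Algebra.FiniteType.isNoetherianRing k A
  obtain ⟨m0, hm0⟩ := Ideal.exists_maximal A
  haveI := hm0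
  letI : Field (A ⧸ m0) := Ideal.Quotient.field m0
  haveI : Algebra.FiniteType k (A ⧸ m0) := inferInstance
  haveI : Module.Finite k (A ⧸ m0) := finite_of_finite_type_of_isJacobsonRing k (A ⧸ m0)
  haveI : Algebra.IsIntegral k (A ⧸ m0) := Algebra.IsIntegral.of_finite k _
  obtain ⟨c, hc⟩ := (IsAlgClosed.algebraMap_bijective_of_isIntegral (k := k) (K := A ⧸ m0)).2
    (Ideal.Quotient.mk m0 x)
  set y := x - algebraMap k A c with hy
  have hym0 : y ∈ m0 := by
    rw [← Ideal.Quotient.eq_zero_iff_mem, hy, map_sub, Ideal.Quotient.mk_algebraMap, hc, sub_self]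
  have hroot : ∀ n : ℕ, ∃ a : A, a ^ p ^ n = y := by
    intro n
    obtain ⟨a, ha⟩ := hx n
    obtain ⟨b, hb⟩ := IsAlgClosed.exists_pow_nat_eq c
      (Nat.pow_pos (n := n) (Fact.out : p.Prime).pos)
    refine ⟨a - algebraMap k A b, ?_⟩
    rw [sub_pow_char_pow, ha, ← map_pow, hb]
  let J : Ideal A := Submodule.comap (LinearMap.mulRight A y) (Ideal.span {y ^ 2})
  have hJ : J = ⊤ := by
    by_contra hne
    obtain ⟨m, hm, hle⟩ := Ideal.exists_le_maximal J hne
    by_cases hym : y ∈ m
    · haveI := hm
      haveI : IsNoetherianRing (Localization.AtPrime m) :=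
        IsLocalization.isNoetherianRing m.primeCompl _ inferInstance
      have hpow : algebraMap A (Localization.AtPrime m) y ∈
          ⨅ i : ℕ, IsLocalRing.maximalIdeal (Localization.AtPrime m) ^ i := by
        rw [Submodule.mem_iInf]
        intro i
        obtain ⟨a, ha⟩ := hroot i
        have ham : a ∈ m := hm.isPrime.mem_of_pow_mem _ (ha ▸ hym)
        have h1 : algebraMap A (Localization.AtPrime m) a ∈
            IsLocalRing.maximalIdeal (Localization.AtPrime m) :=
          (IsLocalization.AtPrime.to_map_mem_maximal_iff _ m a).2 ham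
        rw [← ha, map_pow]
        exact Ideal.pow_le_pow_right (Nat.lt_pow_self (Fact.out : p.Prime).one_lt).le
          (Ideal.pow_mem_pow h1 _)
      rw [Ideal.iInf_pow_eq_bot_of_isLocalRing _ (Ideal.IsPrime.ne_top inferInstance),
        Submodule.mem_bot, IsLocalization.map_eq_zero_iff m.primeCompl] at hpow
      obtain ⟨t, ht⟩ := hpow
      refine t.2 (hle ?_)
      show (t : A) * y ∈ Ideal.span {y ^ 2}
      rw [ht]
      exact zero_mem _
    · refine hym (hle ?_)
      show y * y ∈ Ideal.span {y ^ 2}
      rw [← sq]
      exact Ideal.mem_span_singleton_self _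
  have h1 : (1 : A) * y ∈ Ideal.span {y ^ 2} := (J.eq_top_iff_one).1 hJ
  rw [one_mul, Ideal.mem_span_singleton'] at h1
  obtain ⟨a, ha⟩ := h1
  have hidem : IsIdempotentElem (a * y) := by
    show a * y * (a * y) = a * y
    linear_combination a * ha
  rcases hconn _ hidem with h0 | h0
  · have : y = 0 := by linear_combination y * h0 - ha
    exact ⟨c, (sub_eq_zero.1 this).symm⟩
  · exact absurd ((Ideal.eq_top_iff_one _).2 (h0 ▸ m0.mul_mem_left a hym0)) hm0.ne_top

end Groth.Agent.S13048
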