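import Groth.Statements.S13049
import Mathlib
-- import your own Groth.Agent.* helpers here

set_option autoImplicit false
universe u
open FrobAlg

namespace Groth.Agent.S13049

theorem coeff_pow {R : Type u} [CommRing R] (p : ℕ) [Fact p.Prime] [CharP R p] (f : Perfection R p) (n k : ℕ) :
    Perfection.coeff R p (n + k) f ^ p ^ k = Perfection.coeff R p n f := by
  induction k with
  | zero => simp
  | succ k ih => rw [pow_succ', pow_mul, ← add_assoc, Perfection.coeff_pow_p', ih]


/-- Let p be a prime and A a commutative ring of characteristic p whose nilradical N satisfies x^(p^e) =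
0 for all x ∈ N and some fixed e (for instance A Noetherian). Then the map between the inverse-limit
perfections along the absolute Frobenius, lim (⋯ → A → A) → lim (⋯ → A/N → A/N), induced by the
projection A → A/N, is bijective. (The published argument takes A of finite type over a field, where
the nilradical is finitely generated; this row assumes only that the nilradical is killed by one
fixed iterate of Frobenius, which is all that argument uses.) -/
theorem result
    (p : ℕ) [Fact p.Prime] (A : Type u) [CommRing A] [CharP A p]
    [CharP (A ⧸ nilradical A) p] (e : ℕ) (he : ∀ x ∈ nilradical A, x ^ p ^ e = 0) :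
    Function.Bijective (Perfection.map p (Ideal.Quotient.mk (nilradical A))) := by
  have hpw : ∀ a b : A, Ideal.Quotient.mk (nilradical A) a = Ideal.Quotient.mk (nilradical A) b →
      a ^ p ^ e = b ^ p ^ e := fun a b hab => by
    have h := he _ (Ideal.Quotient.eq.mp hab)
    rwa [sub_pow_char_pow, sub_eq_zero] at h
  constructor
  · intro f g hfg
    refine Perfection.ext fun n => ?_
    rw [← coeff_pow p f n e, ← coeff_pow p g n e]
    refine hpw _ _ ?_
    have := congrArg (Perfection.coeff (A ⧸ nilradical A) p (n + e)) hfg
    simpa using this
  · intro x
    choose l hl using fun n => Ideal.Quotient.mk_surjective (Perfection.coeff (A ⧸ nilradical A) p n x)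
    refine ⟨⟨fun n => l (n + e) ^ p ^ e, fun n => ?_⟩, Perfection.ext fun n => ?_⟩
    · show (l (n + 1 + e) ^ p ^ e) ^ p = l (n + e) ^ p ^ e
      rw [← pow_mul, mul_comm, pow_mul]
      refine hpw _ _ ?_
      rw [map_pow, hl, hl, add_right_comm, Perfection.coeff_pow_p']
    · show Ideal.Quotient.mk (nilradical A) (l (n + e) ^ p ^ e) = _
      rw [map_pow, hl, coeff_pow]

end Groth.Agent.S13049
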