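import Groth.Statements.S13052
import Groth.Agent.ZetaPts.Series
-- import your own Groth.Agent.* helpers here

set_option autoImplicit false
universe u
open CategoryTheory AlgebraicGeometry
open Zeta

namespace Groth.Agent.S13052

/-- If X is a scheme of finite type over a finite field k, Y ↪ X a closed subscheme and U = X ∖ Y its
open complement, then Z(X, t) = Z(Y, t) · Z(U, t). Here Y is any scheme with a closed immersion into
X whose image is the complement of U (its scheme structure plays no role), and Y, U are k-schemes
through X. -/
theorem result {k : Type u} [Field k] [Finite k]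
    {X Y : Scheme.{u}} (f : X ⟶ Spec (CommRingCat.of k)) [LocallyOfFiniteType f] [QuasiCompact f]
    (U : X.Opens) (i : Y ⟶ X) [IsClosedImmersion i] (hY : Set.range i.base = (U : Set X)ᶜ) :
    Zeta.zetaFun f = Zeta.zetaFun (i ≫ f) * Zeta.zetaFun (U.ι ≫ f) := by
  let Z : Bool → Scheme.{u} := fun b => Bool.rec (U : Scheme.{u}) Y b
  let g : ∀ b, Z b ⟶ X := fun b => match b with
    | false => U.ι
    | true => i
  have : ∀ b, IsImmersion (g b) := fun b => by
    cases b
    · exact inferInstanceAs (IsImmersion U.ι)
    · exact inferInstanceAs (IsImmersion i)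
  have h := Groth.Agent.ZetaPts.zetaFun_eq_prod f (fun b => g b ≫ f) fun e _ =>
    @Groth.Agent.ZetaPts.degCount_partition k _ _ X f _ _ Bool _ Z g this (fun x _ => by
      by_cases hx : x ∈ U
      · refine ⟨false, show x ∈ Set.range U.ι from U.range_ι.symm ▸ hx, ?_⟩
        intro b hb
        cases b
        · rfl
        · have : x ∈ (U : Set X)ᶜ := hY ▸ hb
          exact absurd hx this
      · refine ⟨true, show x ∈ Set.range i from hY.symm ▸ hx, ?_⟩
        intro b hb
        cases b
        · exact absurd (U.range_ι.le hb) hx
        · rfl) e
  rw [h, Fintype.prod_bool]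

end Groth.Agent.S13052
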