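import Groth.Statements.S13055
import Groth.Agent.ZetaPts.Series
-- import your own Groth.Agent.* helpers here

set_option autoImplicit false
universe u
open CategoryTheory AlgebraicGeometry
open Zeta

namespace Groth.Agent.S13055

/-- Let X be a scheme of finite type over a finite field k with q elements and P = a_d y^d + ⋯ + a_0 ∈
ℤ[y] with N_m = P(q^m) for every m ≥ 1 (X is of polynomial count). Then Z(X, t) = ∏_{i = 0}^{d} (1 −
q^i t)^{−a_i}; stated cleared of denominators, with the factors of positive exponent moved to the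
left. -/
theorem result {k : Type u} [Field k] [Finite k] {X : Scheme.{u}}
    (f : X ⟶ Spec (CommRingCat.of k)) [LocallyOfFiniteType f] [QuasiCompact f] (P : Polynomial ℤ)
    (hP : ∀ m : ℕ, 1 ≤ m → (Zeta.nPts f m : ℤ) = P.eval ((Nat.card k : ℤ) ^ m)) :
    Zeta.zetaFun f * ∏ i ∈ Finset.range (P.natDegree + 1),
        (1 - PowerSeries.C ((Nat.card k : ℚ) ^ i) * PowerSeries.X) ^ (P.coeff i).toNat =
      ∏ i ∈ Finset.range (P.natDegree + 1),
        (1 - PowerSeries.C ((Nat.card k : ℚ) ^ i) * PowerSeries.X) ^ (-P.coeff i).toNat := by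
  have hl := (Groth.Agent.ZetaPts.hasLD_zetaFun f).mul (Groth.Agent.ZetaAlg.HasLD.prod
    (Finset.range (P.natDegree + 1)) fun i _ => Groth.Agent.ZetaPts.HasLD.pow
      (Groth.Agent.ZetaPts.hasLD_one_sub_C_mul_X ((Nat.card k : ℚ) ^ i)) (P.coeff i).toNat)
  have hr := Groth.Agent.ZetaAlg.HasLD.prod (K := ℚ) (Finset.range (P.natDegree + 1)) fun i _ =>
    Groth.Agent.ZetaPts.HasLD.pow
      (Groth.Agent.ZetaPts.hasLD_one_sub_C_mul_X ((Nat.card k : ℚ) ^ i)) (-P.coeff i).toNat
  refine (?_ : Groth.Agent.ZetaAlg.HasLD _ _).ext hr ?_ ?_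
  · convert hl using 1
    ext m
    have hm : (Zeta.nPts f (m + 1) : ℚ) =
        ∑ i ∈ Finset.range (P.natDegree + 1),
          (P.coeff i : ℚ) * ((Nat.card k : ℚ) ^ i) ^ (m + 1) := by
      have h := hP (m + 1) (by omega)
      rw [Polynomial.eval_eq_sum_range] at h
      have h' := congrArg (fun z : ℤ => (z : ℚ)) h
      push_cast at h'
      rw [h']
      exact Finset.sum_congr rfl fun i _ => by rw [← pow_mul, ← pow_mul, mul_comm i]
    simp only [map_add, map_sum, nsmul_eq_mul, ← map_natCast (PowerSeries.C (R := ℚ)),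
      PowerSeries.coeff_C_mul, PowerSeries.coeff_mk, hm]
    rw [← Finset.sum_add_distrib]
    refine Finset.sum_congr rfl fun i _ => ?_
    have e : (((P.coeff i).toNat : ℤ) : ℚ) - (((-P.coeff i).toNat : ℤ) : ℚ) = (P.coeff i : ℚ) := by
      exact_mod_cast Int.toNat_sub_toNat_neg (P.coeff i)
    push_cast at e
    rw [← e]
    ring
  · simp [Groth.Agent.ZetaPts.constantCoeff_zetaFun]
  · simp

end Groth.Agent.S13055
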