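import Groth.Statements.S13057
import Mathlib
import Groth.Agent.ZetaAlg.LogDeriv
import Groth.Agent.ZetaAlg.Pairing


set_option autoImplicit false
universe u
open Zeta

namespace Groth.Agent.S13057

/-- A power series f = ∑_{m ≥ 0} a_m t^m over a field L lies in L(t), i.e. f · Q = P for some
polynomials P, Q with Q ≠ 0, if and only if there are natural numbers M, N such that the vectors
(a_i, a_{i+1}, …, a_{i+N}) ∈ L^{N+1}, i ≥ M, span a proper subspace. -/
theorem result {L : Type u} [Field L]
    (f : PowerSeries L) :
    (∃ P Q : Polynomial L, Q ≠ 0 ∧ f * (Q : PowerSeries L) = (P : PowerSeries L)) ↔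
      ∃ M N : ℕ, Submodule.span L
          {v : Fin (N + 1) → L | ∃ i : ℕ, M ≤ i ∧ v = fun j : Fin (N + 1) => PowerSeries.coeff (i + (j : ℕ)) f} ≠ ⊤ := by
  constructor
  · rintro ⟨P, Q, hQ, h⟩
    refine ⟨P.natDegree + 1, Q.natDegree, fun htop => ?_⟩
    let c : (Fin (Q.natDegree + 1) → L) →ₗ[L] L :=
      ∑ j : Fin (Q.natDegree + 1), Q.coeff (Q.natDegree - (j : ℕ)) • LinearMap.proj j
    have hc : ∀ v, c v = ∑ j : Fin (Q.natDegree + 1), Q.coeff (Q.natDegree - (j : ℕ)) * v j :=
      fun v => by simp [c]
    have hz : c = 0 := by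
      refine LinearMap.ext_on htop ?_
      rintro v ⟨i, hi, rfl⟩
      rw [hc, LinearMap.zero_apply, Fin.sum_univ_eq_sum_range
        (fun j => Q.coeff (Q.natDegree - j) * PowerSeries.coeff (i + j) f)]
      have hn := congrArg (PowerSeries.coeff (i + Q.natDegree)) h
      rw [Polynomial.coeff_coe, Polynomial.coeff_eq_zero_of_natDegree_lt (by omega),
        PowerSeries.coeff_mul,
        Finset.Nat.sum_antidiagonal_eq_sum_range_succ_mk] at hn
      rw [← hn, show (i + Q.natDegree).succ = i + (Q.natDegree + 1) from rfl]
      conv_rhs => rw [Finset.sum_range_add]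
      rw [Finset.sum_eq_zero (s := Finset.range i), zero_add]
      · refine Finset.sum_congr rfl fun j hj => ?_
        rw [Polynomial.coeff_coe, mul_comm, show i + Q.natDegree - (i + j) = Q.natDegree - j by omega]
      · intro a ha
        rw [Finset.mem_range] at ha
        rw [Polynomial.coeff_coe, Polynomial.coeff_eq_zero_of_natDegree_lt (by omega), mul_zero]
    have h1 : c (Pi.single 0 1) = Q.leadingCoeff := by
      rw [hc, Finset.sum_eq_single 0]
      · simp only [Pi.single_eq_same, mul_one, Fin.val_zero, Nat.sub_zero]
        rfl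
      · intro j _ hj; simp [hj]
      · simp
    rw [hz, LinearMap.zero_apply] at h1
    exact Polynomial.leadingCoeff_ne_zero.mpr hQ h1.symm
  · rintro ⟨M, N, h⟩
    obtain ⟨φ, hφ, hle⟩ := Submodule.exists_le_ker_of_lt_top _ (lt_top_iff_ne_top.mpr h)
    let cf : ℕ → L := fun j => if hj : j < N + 1 then φ (Pi.single ⟨j, hj⟩ 1) else 0
    let Q : Polynomial L := ∑ j ∈ Finset.range (N + 1), Polynomial.monomial (N - j) (cf j)
    have hQc : ∀ j, j ≤ N → Q.coeff (N - j) = cf j := by
      intro j hj
      simp only [Q, Polynomial.finsetSum_coeff, Polynomial.coeff_monomial]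
      rw [Finset.sum_eq_single j]
      · rw [if_pos rfl]
      · intro b hb hne
        rw [Finset.mem_range] at hb
        rw [if_neg (by omega)]
      · intro hn; exact absurd (Finset.mem_range.mpr (by omega)) hn
    refine ⟨PowerSeries.trunc (M + N) (f * (Q : PowerSeries L)), Q, fun h0 => hφ ?_, ?_⟩
    · refine LinearMap.pi_ext' fun j => LinearMap.ext_ring ?_
      have := hQc j (by omega)
      rw [h0, Polynomial.coeff_zero] at this
      simp only [cf, dif_pos j.2] at this
      simpa using this.symm
    · ext n
      rw [Polynomial.coeff_coe, PowerSeries.coeff_trunc]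
      split_ifs with hn
      · rfl
      · obtain ⟨i, rfl⟩ : ∃ i, n = i + N := ⟨n - N, by omega⟩
        have hv := hle (Submodule.subset_span ⟨i, by omega, rfl⟩)
        rw [LinearMap.mem_ker] at hv
        rw [← hv]
        rw [PowerSeries.coeff_mul, Finset.Nat.sum_antidiagonal_eq_sum_range_succ_mk,
          show (i + N).succ = i + (N + 1) from rfl, Finset.sum_range_add,
          Finset.sum_eq_zero (s := Finset.range i), zero_add]
        · have e : ∀ j : Fin (N + 1), cf j = φ (Pi.single j 1) := fun j => dif_pos j.2
          rw [LinearMap.pi_apply_eq_sum_univ φ, ← Fin.sum_univ_eq_sum_range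
            (fun j => PowerSeries.coeff (i + j) f * PowerSeries.coeff (i + N - (i + j)) (Q : PowerSeries L))]
          refine Finset.sum_congr rfl fun j _ => ?_
          rw [Polynomial.coeff_coe, show i + N - (i + (j : ℕ)) = N - j by omega, hQc j (by omega), e j,
            smul_eq_mul]
          congr 2
          funext l
          simp [Pi.single_apply, eq_comm]
        · intro a ha
          rw [Finset.mem_range] at ha
          have : Q.coeff (i + N - a) = 0 := by
            simp only [Q, Polynomial.finsetSum_coeff, Polynomial.coeff_monomial]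
            exact Finset.sum_eq_zero fun b hb => if_neg (by omega)
          rw [Polynomial.coeff_coe, this, mul_zero]

end Groth.Agent.S13057
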