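import Groth.Statements.S13059
import Mathlib
import Groth.Agent.ZetaAlg.LogDeriv
import Groth.Agent.ZetaAlg.Pairing


set_option autoImplicit false
universe u
open Zeta

namespace Groth.Agent.S13059

/-- Let B : V × W → K be a perfect pairing of finite-dimensional vector spaces over a field K, c ∈ K
nonzero, and f, g endomorphisms of V, W with B(f v, g w) = c · B(v, w) for all v, w. Then det(Id − t
g) = (−1)^r c^r t^r det(f)^{−1} det(Id − c^{−1} t^{−1} f) with r the common dimension; stated
cleared of denominators as det(f) · det(Id − t g) = (−1)^r c^r · det(t Id − c^{−1} f) in K[t],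
det(Id − t g) being the reverse of the characteristic polynomial of g. -/
theorem result (K : Type u) [Field K] (V W : Type u)
    [AddCommGroup V] [Module K V] [FiniteDimensional K V] [AddCommGroup W] [Module K W]
    [FiniteDimensional K W] (B : V →ₗ[K] W →ₗ[K] K) [B.IsPerfPair] (f : V →ₗ[K] V) (g : W →ₗ[K] W)
    (c : K) (hc : c ≠ 0) (hfg : ∀ (v : V) (w : W), B (f v) (g w) = c * B v w) :
    LinearMap.det f • (LinearMap.charpoly g).reverse =
      ((-1) ^ Module.finrank K W * c ^ Module.finrank K W) • (c⁻¹ • f).charpoly := by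
  rw [Groth.Agent.ZetaAlg.det_smul_reverse_charpoly B f g c hfg,
    Groth.Agent.ZetaAlg.finrank_eq_of_perfPair B]
  classical
  let v := Module.finBasis K V
  let F := LinearMap.toMatrix v v f
  have e : (c⁻¹ • f).charpoly = Polynomial.C (c⁻¹ ^ Module.finrank K V) *
      f.charpoly.comp (Polynomial.C c * Polynomial.X) := by
    rw [← LinearMap.charpoly_toMatrix (c⁻¹ • f) v, ← LinearMap.charpoly_toMatrix f v, map_smul,
      Matrix.charpoly, Matrix.charpoly, ← Polynomial.coe_compRingHom_apply, RingHom.map_det,
      Polynomial.C_pow]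
    rw [← show (Polynomial.C c⁻¹ : Polynomial K) ^ Fintype.card (Fin (Module.finrank K V)) =
      (Polynomial.C c⁻¹) ^ Module.finrank K V by rw [Fintype.card_fin], ← Matrix.det_smul]
    congr 1
    ext i j : 1
    by_cases hij : i = j
    · subst hij
      have hcc : (Polynomial.C c⁻¹ : Polynomial K) * Polynomial.C c = 1 := by
        rw [← Polynomial.C_mul, inv_mul_cancel₀ hc, map_one]
      simp [Matrix.charmatrix, mul_sub, ← mul_assoc, hcc]
    · simp [Matrix.charmatrix, hij]
  rw [e, Groth.Agent.ZetaAlg.finrank_eq_of_perfPair B, Polynomial.smul_eq_C_mul, ← mul_assoc,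
    ← Polynomial.C_mul, mul_assoc, ← mul_pow, mul_inv_cancel₀ hc, one_pow, mul_one]
  simp

end Groth.Agent.S13059
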