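import Mathlib
import Groth.Statements.S13060
-- import your own Groth.Agent.* helpers here

set_option autoImplicit false
universe u v w x
open TensorProduct
open Zeta

namespace Groth.Agent.S13060

/-- Let k be a field, V and W vector spaces over k and G a group acting on V by k-linear automorphisms;
for the induced action on V ⊗_k W (trivial on W) one has (V ⊗_k W)^G = V^G ⊗_k W, i.e. the
invariants of V ⊗ W are the image of V^G ⊗ W → V ⊗ W. -/
theorem result {k : Type u} [Field k] {G : Type v} [Group G]
    {V : Type w} {W : Type x} [AddCommGroup V] [Module k V] [AddCommGroup W] [Module k W]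
    (ρ : Representation k G V) :
    (ρ.tprod (Representation.trivial k G W)).invariants =
      LinearMap.range (TensorProduct.map ρ.invariants.subtype (LinearMap.id : W →ₗ[k] W)) := by
  classical
  apply le_antisymm
  · intro x hx
    let b := Module.Basis.ofVectorSpace k W
    obtain ⟨c, rfl⟩ := TensorProduct.eq_repr_basis_right b x
    have hc : ∀ g : G, c.mapRange (ρ g) (map_zero _) = c := by
      intro g
      apply TensorProduct.sum_tmul_basis_right_injective b
      simp only [Finsupp.coe_lsum, LinearMap.flip_apply, TensorProduct.mk_apply]
      rw [Finsupp.sum_mapRange_index (by simp)]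
      have h1 := hx g
      rw [map_finsuppSum] at h1
      simp [Representation.tprod_apply] at h1 ⊢
      exact h1
    refine Submodule.finsuppSum_mem k _ _ _ fun i _ => ⟨⟨c i, fun g => ?_⟩ ⊗ₜ b i, by simp⟩
    exact DFunLike.congr_fun (hc g) i
  · rintro _ ⟨z, rfl⟩ g
    induction z using TensorProduct.induction_on with
    | zero => simp
    | tmul v w => simp [Representation.tprod_apply, v.2 g]
    | add x y hx hy => rw [map_add, map_add, hx, hy]

end Groth.Agent.S13060
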