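import Mathlib
import Groth.Statements.S13061
-- import your own Groth.Agent.* helpers here

set_option autoImplicit false
universe u v w
open Zeta

namespace Groth.Agent.S13061

/-- Let A be a commutative algebra over a field k, G a finite group acting on A by k-algebra
automorphisms and I ⊆ A an ideal preserved by G. If p^n is the largest power of p = char(k) dividing
|G| (with p^n = 1 when char(k) = 0), then for every G-invariant b ∈ A/I the power b^{p^n} lies in
the image of A^G → (A/I)^G. (The published statement takes A finitely generated over k, which the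
proof does not use.) -/
theorem result {k : Type u} [Field k]
    {A : Type v} [CommRing A] [Algebra k A] {G : Type w} [Group G] [Finite G]
    [MulSemiringAction G A] [SMulCommClass G k A] (I : Ideal A)
    (hI : ∀ (g : G) (a : A), a ∈ I → g • a ∈ I) (u : A) (hu : ∀ g : G, g • u - u ∈ I) :
    ∃ a : A, (∀ g : G, g • a = a) ∧
      Ideal.Quotient.mk I a =
        Ideal.Quotient.mk I u ^ (ringChar k ^ (Nat.card G).factorization (ringChar k)) := by
  classical
  haveI := Fintype.ofFinite G
  set p := ringChar k
  set N := Nat.card G with hNdef
  set v := N.factorization p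
  set q := p ^ v
  have hN : N ≠ 0 := Nat.card_pos.ne'
  have hc : ((N.choose q : ℕ) : k) ≠ 0 := by
    rcases CharP.char_is_prime_or_zero k p with hp | hp
    · haveI : Fact p.Prime := ⟨hp⟩
      haveI : ExpChar (Polynomial k) p := ExpChar.prime hp
      set m := N / q with hmdef
      have hm : N = q * m := (Nat.mul_div_cancel' (Nat.ordProj_dvd N p)).symm
      have e : ((1 : Polynomial k) + Polynomial.X) ^ N = (1 + Polynomial.X ^ q) ^ m := by
        rw [hm, pow_mul, add_pow_expChar_pow, one_pow]
      have h := congrArg (fun f : Polynomial k => f.coeff q) e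
      simp only [Polynomial.coeff_one_add_X_pow] at h
      have e2 : ((1 : Polynomial k) + Polynomial.X ^ q) ^ m = Polynomial.expand k q ((1 + Polynomial.X) ^ m) := by
        simp
      rw [e2] at h
      have hq : 0 < q := pow_pos hp.pos _
      have h' : ((Polynomial.expand k q) ((1 + Polynomial.X) ^ m)).coeff q = (m : k) := by
        rw [Polynomial.coeff_expand hq, if_pos dvd_rfl, Nat.div_self hq, Polynomial.coeff_one_add_X_pow, Nat.choose_one_right]
      rw [h, h']
      intro hz
      exact Nat.not_dvd_ordCompl hp hN ((CharP.cast_eq_zero_iff k p m).mp hz)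
    · haveI : CharP k 0 := hp ▸ ringChar.charP k
      haveI : CharZero k := CharP.charP_to_charZero k
      have hq1 : q = 1 := by simp [q, v, hp]
      rw [hq1, Nat.choose_one_right]
      exact_mod_cast hN
  let c := algebraMap k A (((N.choose q : ℕ) : k)⁻¹)
  let e := ∑ t ∈ (Finset.univ : Finset G).powersetCard q, ∏ g ∈ t, g • u
  refine ⟨c * e, fun g => ?_, ?_⟩
  · rw [smul_mul', show g • c = c from by rw [show c = (((N.choose q : ℕ) : k)⁻¹) • (1 : A) from Algebra.algebraMap_eq_smul_one _, smul_comm, smul_one]]
    congr 1
    simp only [e, Finset.smul_sum, Finset.smul_prod', ← mul_smul]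
    refine Finset.sum_equiv (Equiv.finsetCongr (Equiv.mulLeft g)) (fun t => ?_) (fun t _ => ?_)
    · simp [Finset.mem_powersetCard]
    · simp [Equiv.finsetCongr]
  · have hu' : ∀ g : G, Ideal.Quotient.mk I (g • u) = Ideal.Quotient.mk I u := fun g => Ideal.Quotient.eq.mpr (hu g)
    simp only [e, map_mul, map_sum, map_prod, hu', Finset.prod_const]
    rw [Finset.sum_congr rfl (g := fun _ => Ideal.Quotient.mk I u ^ q) (fun t ht => by rw [(Finset.mem_powersetCard.mp ht).2]),
      Finset.sum_const, Finset.card_powersetCard, Finset.card_univ, ← Nat.card_eq_fintype_card, nsmul_eq_mul, ← mul_assoc]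
    have h1 : c * ((N.choose q : ℕ) : A) = 1 := by
      rw [← map_natCast (algebraMap k A), ← map_mul, inv_mul_cancel₀ hc, map_one]
    rw [← map_natCast (Ideal.Quotient.mk I), ← map_mul, hNdef.symm, h1, map_one, one_mul]

end Groth.Agent.S13061
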