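import Groth.Statements.S13065
import Mathlib.FieldTheory.ChevalleyWarning
import Mathlib.Algebra.MvPolynomial.Expand
import Mathlib.Algebra.CharP.Frobenius
import Mathlib.Algebra.CharP.Lemmas
import Mathlib.RingTheory.MvPolynomial.Homogeneous

set_option autoImplicit false
universe u
open Zeta

namespace Groth.Agent.S13065

open MvPolynomial in
lemma sum_pow_card_sub_one {k : Type*} [Field k] [Fintype k] :
    ∑ x : k, x ^ (Fintype.card k - 1) = -1 := by
  classical
  have hq : Fintype.card k - 1 ≠ 0 := by
    have := Fintype.one_lt_card (α := k); omega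
  rw [← Finset.add_sum_erase _ _ (Finset.mem_univ (0 : k)), zero_pow hq, zero_add,
    Finset.sum_congr rfl (fun x hx => FiniteField.pow_card_sub_one_eq_one x (Finset.mem_erase.mp hx).1)]
  rw [Finset.sum_const, Finset.card_erase_of_mem (Finset.mem_univ _), Finset.card_univ,
    nsmul_one, Nat.cast_sub Fintype.card_pos, FiniteField.cast_card_eq_zero, Nat.cast_one, zero_sub]

open MvPolynomial in
lemma sum_eval_eq {k : Type*} [Field k] [Fintype k] {σ : Type*} [Fintype σ] [DecidableEq σ]
    (g : MvPolynomial σ k) (hg : g.IsHomogeneous (Fintype.card σ * (Fintype.card k - 1))) :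
    ∑ x : σ → k, eval x g =
      g.coeff (Finsupp.equivFunOnFinite.symm fun _ : σ => Fintype.card k - 1) *
        (-1) ^ Fintype.card σ := by
  simp only [eval_eq']
  rw [Finset.sum_comm]
  have hprod : ∀ d : σ →₀ ℕ, ∑ x : σ → k, ∏ i, x i ^ d i = ∏ i, ∑ a : k, a ^ d i := by
    intro d
    rw [Fintype.prod_sum]
  rw [Finset.sum_eq_single (Finsupp.equivFunOnFinite.symm fun _ : σ => Fintype.card k - 1)]
  · rw [← Finset.mul_sum, hprod]
    simp [sum_pow_card_sub_one]
  · intro d hd hne
    rw [← Finset.mul_sum, hprod]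
    have hdeg : ∑ i, d i = Fintype.card σ * (Fintype.card k - 1) := by
      have := hg (mem_support_iff.mp hd)
      rw [Finsupp.weight_apply, Finsupp.sum_fintype _ _ (by simp)] at this
      simpa using this
    obtain ⟨i, hi⟩ : ∃ i, d i < Fintype.card k - 1 := by
      by_contra hcon
      push_neg at hcon
      apply hne
      have hsum : ∑ i : σ, (Fintype.card k - 1) = ∑ i, d i := by rw [hdeg]; simp
      have := (Finset.sum_eq_sum_iff_of_le (fun i _ => hcon i)).mp hsum
      ext i
      simp [this i (Finset.mem_univ i)]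
    rw [Finset.prod_eq_zero (Finset.mem_univ i)
      (FiniteField.sum_pow_lt_card_sub_one k _ hi), mul_zero]
  · intro h
    simp [notMem_support_iff.mp h]


/-- Let k be a finite field with q elements and characteristic p, n ≥ 2, and f ∈ k[x_0, …, x_n]
homogeneous of degree n + 1, defining the hypersurface Z ⊂ P^n_k. Then #Z(F_q) ≢ 1 (mod p) if and
only if the coefficient of (x_0 ⋯ x_n)^{q−1} in f^{q−1} is nonzero. Stated through the affine count:
#Z(F_q) ≡ 1 (mod p) exactly when p divides the number of zeros of f in k^{n+1} (as (q − 1) #Z(F_q) +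
1 is that number). -/
theorem result {k : Type u} [Field k] [Finite k] (p : ℕ)
    [CharP k p] (n : ℕ) (hn : 2 ≤ n) (f : MvPolynomial (Fin (n + 1)) k)
    (hf : f.IsHomogeneous (n + 1)) :
    p ∣ Nat.card {a : Fin (n + 1) → k // MvPolynomial.eval a f = 0} ↔
      MvPolynomial.coeff (Finsupp.equivFunOnFinite.symm fun _ : Fin (n + 1) => Nat.card k - 1)
        (f ^ (Nat.card k - 1)) = 0 := by
  classical
  cases nonempty_fintype k
  rw [Nat.card_eq_fintype_card, Nat.card_eq_fintype_card, ← CharP.cast_eq_zero_iff k p]
  have hq : Fintype.card k - 1 ≠ 0 := by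
    have := Fintype.one_lt_card (α := k); omega
  have key : ((Fintype.card {a : Fin (n + 1) → k // MvPolynomial.eval a f = 0} : ℕ) : k) =
      ∑ x : Fin (n + 1) → k, (1 - MvPolynomial.eval x (f ^ (Fintype.card k - 1))) := by
    rw [Fintype.card_subtype, Finset.card_eq_sum_ones, Nat.cast_sum, Nat.cast_one, Finset.sum_filter]
    refine Finset.sum_congr rfl fun x _ => ?_
    rw [map_pow]
    by_cases h : MvPolynomial.eval x f = 0
    · rw [if_pos h, h, zero_pow hq, sub_zero]
    · rw [if_neg h, FiniteField.pow_card_sub_one_eq_one _ h, sub_self]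
  rw [key, Finset.sum_sub_distrib, sum_eval_eq _ (by simpa using hf.pow (Fintype.card k - 1)),
    Finset.sum_const, Finset.card_univ, Fintype.card_fun, nsmul_one, Nat.cast_pow,
    FiniteField.cast_card_eq_zero, zero_pow (by simp), zero_sub, neg_eq_zero, mul_eq_zero]
  simp

end Groth.Agent.S13065
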