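import Groth.Statements.S13066
import Mathlib.FieldTheory.ChevalleyWarning
import Mathlib.Algebra.MvPolynomial.Expand
import Mathlib.Algebra.CharP.Frobenius
import Mathlib.Algebra.CharP.Lemmas
import Mathlib.RingTheory.MvPolynomial.Homogeneous

set_option autoImplicit false
universe u
open Zeta

namespace Groth.Agent.S13066

open MvPolynomial in
lemma coeff_step {k : Type*} [Field k] (p : ℕ) [Fact p.Prime] [CharP k p] {σ : Type*} [Fintype σ]
    (g h : MvPolynomial σ k) (hg : g.IsHomogeneous (Fintype.card σ * (p - 1))) (N : ℕ) :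
    (g * h ^ p).coeff (Finsupp.equivFunOnFinite.symm fun _ : σ => (p - 1) + p * N) =
      g.coeff (Finsupp.equivFunOnFinite.symm fun _ : σ => p - 1) *
        h.coeff (Finsupp.equivFunOnFinite.symm fun _ : σ => N) ^ p := by
  classical
  have hp : p ≠ 0 := (Fact.out : p.Prime).ne_zero
  have hp0 : 0 < p := Nat.pos_of_ne_zero hp
  have hexp : h ^ p = expand p (map (frobenius k p) h) := by
    induction h using MvPolynomial.induction_on with
    | C a => rw [map_C, expand_C, ← C_pow, frobenius_def]
    | add a b ha hb => rw [add_pow_char, ha, hb, map_add, map_add]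
    | mul_X a i ha => rw [mul_pow, ha, map_mul, map_mul, map_X, expand_X]
  have hc : ∀ m : σ →₀ ℕ, (h ^ p).coeff (p • m) = h.coeff m ^ p := by
    intro m
    rw [hexp, coeff_expand_smul p hp, coeff_map, frobenius_def]
  rw [coeff_mul]
  rw [Finset.sum_eq_single
    ((Finsupp.equivFunOnFinite.symm fun _ : σ => p - 1),
      p • (Finsupp.equivFunOnFinite.symm fun _ : σ => N))]
  · rw [hc]
  · rintro ⟨a, b⟩ hab hne
    rw [Finset.mem_antidiagonal] at hab
    by_contra h0
    have ha : g.coeff a ≠ 0 := left_ne_zero_of_mul h0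
    have hb : (h ^ p).coeff b ≠ 0 := right_ne_zero_of_mul h0
    have hdvd : ∀ i, p ∣ b i := by
      intro i
      by_contra hnd
      exact hb (by rw [hexp]; exact coeff_expand_of_not_dvd _ hnd)
    have hdeg : ∑ i, a i = Fintype.card σ * (p - 1) := by
      have := hg ha
      rw [Finsupp.weight_apply, Finsupp.sum_fintype _ _ (by simp)] at this
      simpa using this
    have hi : ∀ i, a i + b i = (p - 1) + p * N := fun i => by
      have := DFunLike.congr_fun hab i
      simpa using this
    have hge : ∀ i, p - 1 ≤ a i := by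
      intro i
      obtain ⟨c, hc'⟩ := hdvd i
      have h1 := hi i
      rw [hc'] at h1
      by_contra hlt
      rw [not_le] at hlt
      have : (a i + p * c) % p = ((p - 1) + p * N) % p := by rw [h1]
      rw [Nat.add_mul_mod_self_left, Nat.add_mul_mod_self_left, Nat.mod_eq_of_lt (by omega),
        Nat.mod_eq_of_lt (by omega)] at this
      omega
    have heq : ∀ i, a i = p - 1 := by
      have hsum : ∑ i : σ, (p - 1) = ∑ i, a i := by rw [hdeg]; simp
      have := (Finset.sum_eq_sum_iff_of_le (fun i _ => hge i)).mp hsum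
      exact fun i => (this i (Finset.mem_univ i)).symm
    apply hne
    refine Prod.ext (Finsupp.ext fun i => ?_) (Finsupp.ext fun i => ?_)
    · simp [heq i]
    · have := hi i
      rw [heq i] at this
      simp
      omega
  · intro hne
    exfalso
    apply hne
    rw [Finset.mem_antidiagonal]
    ext i
    simp


/-- Let k be a finite field with q elements and characteristic p, n ≥ 2, and f ∈ k[x_0, …, x_n]
homogeneous of degree n + 1. Then the coefficient of (x_0 ⋯ x_n)^{q−1} in f^{q−1} is nonzero if and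
only if the coefficient of (x_0 ⋯ x_n)^{p−1} in f^{p−1} is nonzero. -/
theorem result {k : Type u} [Field k] [Finite k]
    (p : ℕ) [CharP k p] (n : ℕ) (hn : 2 ≤ n) (f : MvPolynomial (Fin (n + 1)) k)
    (hf : f.IsHomogeneous (n + 1)) :
    MvPolynomial.coeff (Finsupp.equivFunOnFinite.symm fun _ : Fin (n + 1) => Nat.card k - 1)
        (f ^ (Nat.card k - 1)) ≠ 0 ↔
      MvPolynomial.coeff (Finsupp.equivFunOnFinite.symm fun _ : Fin (n + 1) => p - 1)
        (f ^ (p - 1)) ≠ 0 := by
  classical
  cases nonempty_fintype k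
  haveI : Fact p.Prime := ⟨CharP.char_is_prime k p⟩
  obtain ⟨e, _, he⟩ := FiniteField.card k p
  rw [Nat.card_eq_fintype_card, he]
  have hp0 : 0 < p := (Fact.out : p.Prime).pos
  have hg : (f ^ (p - 1)).IsHomogeneous (Fintype.card (Fin (n + 1)) * (p - 1)) := by
    simpa using hf.pow (p - 1)
  set c := MvPolynomial.coeff (Finsupp.equivFunOnFinite.symm fun _ : Fin (n + 1) => p - 1)
    (f ^ (p - 1)) with hc
  have key : ∀ m : ℕ, ∃ d : ℕ,
      MvPolynomial.coeff (Finsupp.equivFunOnFinite.symm fun _ : Fin (n + 1) => p ^ m - 1)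
        (f ^ (p ^ m - 1)) = c ^ d ∧ (m ≠ 0 → d ≠ 0) := by
    intro m
    induction m with
    | zero =>
      refine ⟨0, ?_, by simp⟩
      simp only [pow_zero, Nat.sub_self]
      rw [show (Finsupp.equivFunOnFinite.symm fun _ : Fin (n + 1) => 0) = 0 from by ext; simp]
      simp
    | succ m ih =>
      obtain ⟨d, hd, -⟩ := ih
      refine ⟨1 + d * p, ?_, fun _ => by omega⟩
      have hN : p ^ (m + 1) - 1 = (p - 1) + p * (p ^ m - 1) := by
        have : 1 ≤ p ^ m := Nat.one_le_pow _ _ hp0
        rw [pow_succ', Nat.mul_sub]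
        have h2 : p * 1 ≤ p * p ^ m := Nat.mul_le_mul_left p this
        omega
      rw [hN, pow_add, pow_mul', coeff_step p (f ^ (p - 1)) (f ^ (p ^ m - 1)) hg (p ^ m - 1), hd,
        pow_add, pow_one, ← hc, ← pow_mul]
  obtain ⟨d, hd, hd0⟩ := key e
  rw [hd, ne_eq, ne_eq, pow_eq_zero_iff (hd0 (PNat.ne_zero e))]

end Groth.Agent.S13066
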