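import Mathlib
import Groth.Statements.S1307
import Groth.Agent.ThickProps.Basic
-- import your own Groth.Agent.* helpers here

set_option autoImplicit false
universe u
open FlatMor

namespace Groth.Agent.S1307

set_option backward.isDefEq.respectTransparency.types false

open AlgebraicGeometry CategoryTheory Limits in
/-- For a morphism of thickenings, that is a commutative square whose horizontal maps are thickenings
(closed immersions that are surjective on points), the morphism between the thin schemes is
universally injective if and only if the morphism between the thick ones is. -/
theorem result {X X' S S' : Scheme.{u}} (iX : X ⟶ X') (iS : S ⟶ S') (f : X ⟶ S) (f' : X' ⟶ S')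
    (hX : MoreMor.IsThickening iX) (hS : MoreMor.IsThickening iS) (w : iX ≫ f' = f ≫ iS) :
    UniversallyInjective f ↔ UniversallyInjective f' := by
  obtain ⟨hXc, hXs⟩ := hX
  obtain ⟨hSc, hSs⟩ := hS
  haveI := hXc
  haveI := hXs
  haveI := hSc
  haveI := hSs
  constructor
  · intro hf
    haveI : UniversallyInjective (iX ≫ f') := by
      rw [w]
      exact MorphismProperty.comp_mem _ _ _ hf inferInstance
    exact ThickProps.universallyInjective_of_comp_surjective iX f'
  · intro hf
    exact ThickProps.of_comp_mono @UniversallyInjective f iS (by rw [← w]; exact MorphismProperty.comp_mem _ _ _ inferInstance hf)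

end Groth.Agent.S1307
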