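import Groth.Statements.S13075
import Mathlib
import Groth.Agent.ZetaAlg.LogDeriv
import Groth.Agent.ZetaAlg.Pairing


set_option autoImplicit false
open Zeta

namespace Groth.Agent.S13075

/-- For the formal power series exp(t) = ∑_{m ≥ 0} t^m / m! and log(1 + t) = ∑_{m ≥ 1} (−1)^{m+1} t^m /
m over ℚ, log(exp(u)) = u and exp(log(1 + u)) = 1 + u for every u ∈ tℚ⟦t⟧; stated for u = t (the
general case is obtained by substitution): substituting exp(t) − 1 into log(1 + ·) gives t, and
substituting log(1 + t) into exp gives 1 + t. -/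
theorem result :
    PowerSeries.subst (PowerSeries.exp ℚ - 1)
        (PowerSeries.mk fun m : ℕ => if m = 0 then (0 : ℚ) else (-1) ^ (m + 1) / (m : ℚ)) =
      PowerSeries.X ∧
    PowerSeries.subst (PowerSeries.mk fun m : ℕ => if m = 0 then (0 : ℚ) else (-1) ^ (m + 1) / (m : ℚ))
        (PowerSeries.exp ℚ) = 1 + PowerSeries.X := by
  set L : PowerSeries ℚ := PowerSeries.mk fun m : ℕ => if m = 0 then (0 : ℚ) else (-1) ^ (m + 1) / (m : ℚ) with hL
  set h : PowerSeries ℚ := PowerSeries.mk fun m : ℕ => (-1 : ℚ) ^ m with hh
  have hD : PowerSeries.derivative ℚ L = h := by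
    ext m
    rw [PowerSeries.coeff_derivative, hL, hh, PowerSeries.coeff_mk, PowerSeries.coeff_mk,
      if_neg m.succ_ne_zero]
    push_cast
    field_simp
    ring
  have h1 : (1 + PowerSeries.X) * h = 1 := by
    ext m
    rw [add_mul, one_mul, map_add]
    cases m with
    | zero => simp [hh]
    | succ m => simp [hh, PowerSeries.coeff_succ_X_mul, pow_succ]
  have hL0 : PowerSeries.constantCoeff L = 0 := by simp [hL, ← PowerSeries.coeff_zero_eq_constantCoeff_apply]
  have he0 : PowerSeries.constantCoeff (PowerSeries.exp ℚ - 1) = 0 := by simp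
  constructor
  · refine PowerSeries.derivative.ext ?_ ?_
    · have hs := PowerSeries.HasSubst.of_constantCoeff_zero' he0
      have key : PowerSeries.subst (PowerSeries.exp ℚ - 1) h * PowerSeries.exp ℚ = 1 := by
        have := congrArg (PowerSeries.substAlgHom hs) h1
        rw [map_mul, map_add, map_one, PowerSeries.substAlgHom_X hs, add_sub_cancel,
          PowerSeries.coe_substAlgHom, mul_comm] at this
        exact this
      rw [PowerSeries.derivative_subst hs, hD, map_sub, PowerSeries.derivative_exp,
        PowerSeries.derivative_one, sub_zero, key, PowerSeries.derivative_X]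
    · rw [PowerSeries.constantCoeff_X, ← PowerSeries.coeff_zero_eq_constantCoeff_apply,
        PowerSeries.coeff_subst' (PowerSeries.HasSubst.of_constantCoeff_zero' he0), finsum_eq_zero_of_forall_eq_zero]
      intro m
      rcases eq_or_ne m 0 with rfl | hm
      · simp [hL]
      · rw [PowerSeries.coeff_zero_eq_constantCoeff_apply, map_pow, he0, zero_pow hm, smul_zero]
  · refine Groth.Agent.ZetaAlg.HasLD.ext (Groth.Agent.ZetaAlg.hasLD_exp_subst hL0) ?_ ?_ ?_
    · rw [Groth.Agent.ZetaAlg.HasLD, hD, h1]
      simp
    · exact (Groth.Agent.ZetaAlg.constantCoeff_exp_subst (K := ℚ) hL0).trans (by simp)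
    · simp

end Groth.Agent.S13075
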