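import Groth.Statements.S13079
import Groth.Agent.SGA1QuotLib.BaseChange
-- import your own Groth.Agent.* helpers here

set_option autoImplicit false
universe u
open CategoryTheory AlgebraicGeometry Limits
open Zeta

namespace Groth.Agent.S13079

/-- Suppose the finite groups G and H act by algebraic k-automorphisms on schemes X and Y of finite type
over k, both admitting quotients X → X/G and Y → Y/H (equivalently, covered by invariant affine
opens). Then X × Y has the same property for the product action of G × H and (X × Y)/(G × H) ≅ X/G ×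
Y/H: the morphism X ×_k Y → X/G ×_k Y/H with components the two quotient maps is a quotient for the
product action. The product action θ and that morphism π are pinned by their composites with the
projections. -/
theorem result {k : Type u} [Field k] {G H : Type u} [Group G] [Finite G] [Group H]
    [Finite H] {X Y XG YH : Scheme.{u}} (fX : X ⟶ Spec (CommRingCat.of k))
    (fY : Y ⟶ Spec (CommRingCat.of k)) [LocallyOfFiniteType fX] [QuasiCompact fX]
    [LocallyOfFiniteType fY] [QuasiCompact fY] (gX : XG ⟶ Spec (CommRingCat.of k))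
    (gY : YH ⟶ Spec (CommRingCat.of k)) (ρ : G →* Aut X) (σ : H →* Aut Y)
    (hρ : ∀ g, (ρ g).hom ≫ fX = fX) (hσ : ∀ h, (σ h).hom ≫ fY = fY)
    (p : X ⟶ XG) (hp : p ≫ gX = fX) (q : Y ⟶ YH) (hq : q ≫ gY = fY)
    (hP : SGA1.IsQuot ρ p) (hQ : SGA1.IsQuot σ q)
    (θ : G × H →* Aut (pullback fX fY))
    (hθ1 : ∀ gh : G × H, (θ gh).hom ≫ pullback.fst fX fY = pullback.fst fX fY ≫ (ρ gh.1).hom)
    (hθ2 : ∀ gh : G × H, (θ gh).hom ≫ pullback.snd fX fY = pullback.snd fX fY ≫ (σ gh.2).hom)
    (π : pullback fX fY ⟶ pullback gX gY) (hπ1 : π ≫ pullback.fst gX gY = pullback.fst fX fY ≫ p)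
    (hπ2 : π ≫ pullback.snd gX gY = pullback.snd fX fY ≫ q) :
    SGA1.IsQuot θ π := by
  haveI : Flat fY := inferInstance
  haveI : Flat gX := inferInstance
  let p1 : pullback fX fY ⟶ pullback gX fY :=
    pullback.lift (pullback.fst fX fY ≫ p) (pullback.snd fX fY)
      (by rw [Category.assoc, hp, pullback.condition])
  let p2 : pullback gX fY ⟶ pullback gX gY :=
    pullback.lift (pullback.fst gX fY) (pullback.snd gX fY ≫ q)
      (by rw [Category.assoc, hq, pullback.condition])
  have e11 : p1 ≫ pullback.fst gX fY = pullback.fst fX fY ≫ p := pullback.lift_fst _ _ _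
  have e12 : p1 ≫ pullback.snd gX fY = pullback.snd fX fY := pullback.lift_snd _ _ _
  have e21 : p2 ≫ pullback.fst gX gY = pullback.fst gX fY := pullback.lift_fst _ _ _
  have e22 : p2 ≫ pullback.snd gX gY = pullback.snd gX fY ≫ q := pullback.lift_snd _ _ _
  have hπ : π = p1 ≫ p2 := by
    apply pullback.hom_ext
    · rw [hπ1, Category.assoc, e21, e11]
    · rw [hπ2, Category.assoc, e22, reassoc_of% e12]
  have h1 : IsPullback (pullback.fst fX fY) p1 p (pullback.fst gX fY) := by
    refine .of_bot ?_ e11.symm (IsPullback.of_hasPullback gX fY)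
    rw [hp, e12]
    exact IsPullback.of_hasPullback fX fY
  have h2 : IsPullback (pullback.snd gX fY) p2 q (pullback.snd gX gY) := by
    refine .of_bot ?_ e22.symm (IsPullback.of_hasPullback gX gY).flip
    rw [hq, e21]
    exact (IsPullback.of_hasPullback gX fY).flip
  let ρ1 : G →* Aut (pullback fX fY) := θ.comp (MonoidHom.inl G H)
  have hρ1 : SGA1.IsQuot ρ1 p1 :=
    Groth.Agent.SGA1QuotLib.isQuot_of_isPullback_of_flat hP (pullback.fst gX fY) (pullback.fst fX fY) p1 h1 ρ1
      (fun g => hθ1 (g, 1)) (fun g => by
        apply pullback.hom_ext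
        · rw [Category.assoc, e11, ← Category.assoc]
          change ((θ (g, 1)).hom ≫ _) ≫ p = _
          rw [hθ1, Category.assoc, hP.inv]
        · rw [Category.assoc, e12]
          change (θ (g, 1)).hom ≫ _ = _
          rw [hθ2, map_one]
          exact Category.comp_id _)
  let a : H → (pullback gX fY ⟶ pullback gX fY) := fun h =>
    pullback.lift (pullback.fst gX fY) (pullback.snd gX fY ≫ (σ h).hom)
      (by rw [Category.assoc, hσ, pullback.condition])
  have a1 : ∀ h, a h ≫ pullback.fst gX fY = pullback.fst gX fY := fun h => pullback.lift_fst _ _ _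
  have a2 : ∀ h, a h ≫ pullback.snd gX fY = pullback.snd gX fY ≫ (σ h).hom := fun h =>
    pullback.lift_snd _ _ _
  have amul : ∀ h h', a (h * h') = a h' ≫ a h := fun h h' => by
    apply pullback.hom_ext
    · rw [Category.assoc, a1, a1, a1]
    · rw [Category.assoc, a2, a2, reassoc_of% (a2 h'), map_mul]; rfl
  have aone : a 1 = 𝟙 _ := by
    apply pullback.hom_ext
    · rw [a1, Category.id_comp]
    · rw [a2, map_one, Category.id_comp]; exact Category.comp_id _
  let σ' : H →* Aut (pullback gX fY) :=
    { toFun := fun h =>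
        { hom := a h
          inv := a h⁻¹
          hom_inv_id := by rw [← amul, inv_mul_cancel, aone]
          inv_hom_id := by rw [← amul, mul_inv_cancel, aone] }
      map_one' := Iso.ext aone
      map_mul' := fun h h' => Iso.ext (amul h h') }
  have hσ' : SGA1.IsQuot σ' p2 :=
    Groth.Agent.SGA1QuotLib.isQuot_of_isPullback_of_flat hQ (pullback.snd gX gY) (pullback.snd gX fY) p2 h2 σ'
      a2 (fun h => by
        apply pullback.hom_ext
        · rw [Category.assoc, e21]; exact a1 h
        · rw [Category.assoc, e22, ← Category.assoc]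
          change (a h ≫ _) ≫ q = _
          rw [a2, Category.assoc, hQ.inv])
  rw [hπ]
  exact Groth.Agent.SGA1QuotLib.isQuot_comp_prod (fun g => rfl) hρ1 hσ' fun h => by
    change (θ (1, h)).hom ≫ p1 = p1 ≫ a h
    apply pullback.hom_ext
    · rw [Category.assoc, Category.assoc, e11, a1, ← Category.assoc, hθ1, map_one, e11]
      rfl
    · rw [Category.assoc, Category.assoc, e12, a2, reassoc_of% e12, hθ2]

end Groth.Agent.S13079
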