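import Groth.Statements.S13080
import Mathlib
-- import your own Groth.Agent.* helpers here

set_option autoImplicit false
universe u
open CategoryTheory AlgebraicGeometry Limits
open Zeta

namespace Groth.Agent.S13080

/-- Let G be a finite group acting by algebraic automorphisms over k on a scheme X of finite type over k
admitting a quotient p : X → X/G, H ⊆ G a subgroup and Y ⊆ X an open subset preserved by H such that
X is the disjoint union of the translates Y g over the cosets of G mod H. Then the natural morphism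
Y/H → X/G is an isomorphism: Y → X/G is a quotient of Y by H. The action of H on Y is pinned by
compatibility with the inclusion Y → X; the coset condition is stated as: the translates of Y cover
X, and g(Y) is disjoint from Y for g ∉ H. -/
theorem result {k : Type u} [Field k] {G : Type u} [Group G]
    [Finite G] {X XG : Scheme.{u}} (fX : X ⟶ Spec (CommRingCat.of k)) [LocallyOfFiniteType fX]
    [QuasiCompact fX] (ρ : G →* Aut X) (hρ : ∀ g, (ρ g).hom ≫ fX = fX) (p : X ⟶ XG)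
    (hP : SGA1.IsQuot ρ p) (H : Subgroup G) (Y : X.Opens)
    (hcov : ∀ x : X, ∃ g : G, x ∈ (ρ g).hom.base '' (Y : Set X))
    (hdisj : ∀ g : G, g ∉ H → Disjoint ((ρ g).hom.base '' (Y : Set X)) (Y : Set X))
    (ρY : H →* Aut (Y : Scheme.{u})) (hρY : ∀ h : H, (ρY h).hom ≫ Y.ι = Y.ι ≫ (ρ (h : G)).hom) :
    SGA1.IsQuot ρY (Y.ι ≫ p) := by
  classical
  haveI := hP.affine
  -- `Y` is stable under `H` and clopen
  have hH : ∀ h : H, ∀ y ∈ Y, (ρ (h : G)).hom.base y ∈ Y := fun h y hy => by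
    have e : (ρ (h : G)).hom.base y = Y.ι ((ρY h).hom.base ⟨y, hy⟩) := by
      rw [← Scheme.Hom.comp_apply, hρY, Scheme.Hom.comp_apply]; rfl
    rw [e]
    exact ((ρY h).hom.base ⟨y, hy⟩).2
  have hcomp : ∀ (a b : G) (z : X), (ρ b).hom.base ((ρ a).hom.base z) = (ρ (b * a)).hom.base z := by
    intro a b z
    rw [map_mul]
    rfl
  have hone : ∀ z : X, (ρ 1).hom.base z = z := fun z => by rw [map_one]; rfl
  have hcl : IsClosed (Y : Set X) := by
    have : (Y : Set X)ᶜ = ⋃ g ∈ {g : G | g ∉ H}, (ρ g⁻¹).hom.base ⁻¹' (Y : Set X) := by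
      ext z
      simp only [Set.mem_compl_iff, SetLike.mem_coe, Set.mem_iUnion, Set.mem_preimage,
        Set.mem_ofPred_eq, exists_prop]
      refine ⟨fun hz => ?_, ?_⟩
      · obtain ⟨g, y, hy, rfl⟩ := hcov z
        refine ⟨g, fun hg => hz (hH ⟨g, hg⟩ y hy), ?_⟩
        rw [hcomp, inv_mul_cancel, hone]; exact hy
      · rintro ⟨g, hg, hz⟩ hzY
        refine Set.disjoint_left.1 (hdisj g hg) ⟨_, hz, ?_⟩ hzY
        rw [hcomp, mul_inv_cancel, hone]
    rw [← isOpen_compl_iff, this]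
    exact isOpen_biUnion fun g _ => Y.isOpen.preimage (ρ g⁻¹).hom.continuous
  haveI : IsClosedImmersion Y.ι := .of_isPreimmersion _ (by rw [Scheme.Opens.range_ι]; exact hcl)
  have hinv : ∀ h : H, (ρY h).hom ≫ Y.ι ≫ p = Y.ι ≫ p := fun h => by
    rw [reassoc_of% (hρY h), hP.inv]
  -- algebra of translates
  have hle : ∀ (U : XG.Opens) (a : G), (ρ a).hom ⁻¹ᵁ (Y.ι ''ᵁ (Y.ι ⁻¹ᵁ p ⁻¹ᵁ U)) ≤ p ⁻¹ᵁ U := by
    intro U a z hz
    obtain ⟨y, hy, he⟩ := hz
    change p.base z ∈ U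
    have : p.base z = p.base ((ρ a).hom.base z) := by rw [← Scheme.Hom.comp_apply, hP.inv]
    rw [this, ← he]
    exact hy
  have hcover : ∀ (U : XG.Opens), p ⁻¹ᵁ U ≤ ⨆ a : G, (ρ a).hom ⁻¹ᵁ (Y.ι ''ᵁ (Y.ι ⁻¹ᵁ p ⁻¹ᵁ U)) := by
    intro U z hz
    obtain ⟨g, y, hy, rfl⟩ := hcov z
    refine TopologicalSpace.Opens.mem_iSup.2 ⟨g⁻¹, ⟨⟨y, hy⟩, ?_, ?_⟩⟩
    · change p.base y ∈ U
      have e1 : p.base y = p.base ((ρ g).hom.base y) := by rw [← Scheme.Hom.comp_apply, hP.inv]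
      rw [e1]; exact hz
    · change y = _
      rw [hcomp, inv_mul_cancel, hone]
  have hin : ∀ (U : XG.Opens), Y.ι ''ᵁ (Y.ι ⁻¹ᵁ p ⁻¹ᵁ U) ≤ p ⁻¹ᵁ U := by
    rintro U _ ⟨y, hy, rfl⟩
    exact hy
  -- the restriction map
  have hm : ∀ (U : XG.Opens), Function.Bijective
      (Y.ι.appLE (Y.ι ''ᵁ (Y.ι ⁻¹ᵁ p ⁻¹ᵁ U)) (Y.ι ⁻¹ᵁ p ⁻¹ᵁ U)
        (Y.ι.preimage_image_eq _).ge).hom := fun U => by
    rw [Scheme.Opens.ι_appLE]
    have hid : ∀ (W : X.Opens) (e : W ≤ W), Function.Bijective (X.presheaf.map (homOfLE e).op).hom :=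
      fun W e => by
        have : homOfLE e = 𝟙 W := rfl
        rw [this]
        exact ConcreteCategory.bijective_of_isIso (X.presheaf.map (𝟙 W).op)
    exact hid _ _
  have happ : ∀ (U : XG.Opens) (r : Γ(XG, U)), ((Y.ι ≫ p).app U).hom r =
      (Y.ι.appLE (Y.ι ''ᵁ (Y.ι ⁻¹ᵁ p ⁻¹ᵁ U)) (Y.ι ⁻¹ᵁ p ⁻¹ᵁ U) (Y.ι.preimage_image_eq _).ge).hom
        ((X.presheaf.map (homOfLE (hin U)).op).hom ((p.app U).hom r)) := by
    intro U r
    rw [← RingHom.comp_apply, ← RingHom.comp_apply, ← CommRingCat.hom_comp, ← CommRingCat.hom_comp,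
      Scheme.Hom.map_appLE, ← Scheme.Hom.app_eq_appLE, ← Scheme.Hom.comp_app]
    rfl
  refine ⟨inferInstance, hinv, fun U => (injective_iff_map_eq_zero _).2 fun r hr => ?_,
    fun U s => ⟨?_, fun hs => ?_⟩⟩
  · apply hP.injective U
    rw [map_zero]
    rw [happ] at hr
    have h0 := (hm U).1 (hr.trans (map_zero _).symm)
    refine X.sheaf.eq_of_locally_eq' (fun a : G => (ρ a).hom ⁻¹ᵁ (Y.ι ''ᵁ (Y.ι ⁻¹ᵁ p ⁻¹ᵁ U)))
      (p ⁻¹ᵁ U) (fun a => homOfLE (hle U a)) (hcover U) _ _ fun a => ?_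
    change (X.presheaf.map (homOfLE (hle U a)).op).hom ((p.app U).hom r) =
      (X.presheaf.map (homOfLE (hle U a)).op).hom 0
    have e : (X.presheaf.map (homOfLE (hle U a)).op).hom ((p.app U).hom r) =
        ((ρ a).hom.app (Y.ι ''ᵁ (Y.ι ⁻¹ᵁ p ⁻¹ᵁ U))).hom
          ((X.presheaf.map (homOfLE (hin U)).op).hom ((p.app U).hom r)) := by
      simp only [← RingHom.comp_apply, ← CommRingCat.hom_comp, Scheme.Hom.app_eq_appLE,
        Scheme.Hom.appLE_map, Category.assoc, Scheme.Hom.map_appLE, Scheme.Hom.appLE_comp_appLE]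
      simp only [hP.inv a]
    rw [e, h0, map_zero, map_zero]
  · rintro ⟨r, rfl⟩ h
    rw [← RingHom.comp_apply, ← CommRingCat.hom_comp, Scheme.Hom.app_eq_appLE,
      Scheme.Hom.appLE_comp_appLE]
    simp only [hinv h]
  · obtain ⟨s, rfl⟩ := (hm U).2 s
    let Q := Y.ι ''ᵁ (Y.ι ⁻¹ᵁ p ⁻¹ᵁ U)
    have hQ : ∀ h : H, Q ≤ (ρ (h : G)).hom ⁻¹ᵁ Q := by
      rintro h _ ⟨y, hy, rfl⟩
      refine ⟨(ρY h).hom.base y, ?_, ?_⟩
      · exact SGA1.preimage_le_of_inv ρY (Y.ι ≫ p) hinv h U hy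
      · change ((ρY h).hom ≫ Y.ι) y = (Y.ι ≫ (ρ (h : G)).hom) y
        rw [hρY]
    have hfix : ∀ h : H, ((ρ (h : G)).hom.appLE Q Q (hQ h)).hom s = s := fun h => by
      apply (hm U).1
      refine Eq.trans ?_ (hs h)
      have e1 : (ρ (h : G)).hom.appLE Q Q (hQ h) ≫
          Y.ι.appLE Q (Y.ι ⁻¹ᵁ p ⁻¹ᵁ U) (Y.ι.preimage_image_eq _).ge =
          Y.ι.appLE Q (Y.ι ⁻¹ᵁ p ⁻¹ᵁ U) (Y.ι.preimage_image_eq _).ge ≫
            (ρY h).hom.appLE ((Y.ι ≫ p) ⁻¹ᵁ U) ((Y.ι ≫ p) ⁻¹ᵁ U)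
              (SGA1.preimage_le_of_inv ρY (Y.ι ≫ p) hinv h U) := by
        erw [Scheme.Hom.appLE_comp_appLE, Scheme.Hom.appLE_comp_appLE]
        simp only [hρY h]
        rfl
      exact congrArg (fun m => m.hom s) e1
    let t : ∀ a : G, Γ(X, (ρ a).hom ⁻¹ᵁ Q) := fun a => ((ρ a).hom.app Q).hom s
    obtain ⟨T, hT, -⟩ := X.sheaf.existsUnique_gluing' (fun a : G => (ρ a).hom ⁻¹ᵁ Q) (p ⁻¹ᵁ U)
      (fun a => homOfLE (hle U a)) (hcover U) t fun a b => by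
        change (X.presheaf.map (homOfLE _).op).hom (t a) = (X.presheaf.map (homOfLE _).op).hom (t b)
        simp only [t, ← RingHom.comp_apply, ← CommRingCat.hom_comp, Scheme.Hom.app_eq_appLE,
          Scheme.Hom.appLE_map]
        by_cases hab : b * a⁻¹ ∈ H
        · have e : ρ b = ρ (b * a⁻¹) * ρ a := by rw [← map_mul, inv_mul_cancel_right]
          have e' : (ρ b).hom = (ρ a).hom ≫ (ρ (b * a⁻¹)).hom := by rw [e]; rfl
          conv_lhs => rw [← hfix ⟨_, hab⟩]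
          rw [← RingHom.comp_apply, ← CommRingCat.hom_comp, Scheme.Hom.appLE_comp_appLE]
          simp only [e']
        · have hbot : (ρ a).hom ⁻¹ᵁ Q ⊓ (ρ b).hom ⁻¹ᵁ Q = ⊥ := by
            refine TopologicalSpace.Opens.ext (Set.eq_empty_iff_forall_notMem.2 ?_)
            rintro z ⟨⟨y, -, hy⟩, ⟨y', -, hy'⟩⟩
            refine Set.disjoint_left.1 (hdisj _ hab) ⟨_, y.2, ?_⟩ y'.2
            exact ((congrArg (ρ (b * a⁻¹)).hom.base hy).trans
              ((hcomp a (b * a⁻¹) z).trans (by rw [inv_mul_cancel_right]))).trans hy'.symm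
          have : Subsingleton Γ(X, (ρ a).hom ⁻¹ᵁ Q ⊓ (ρ b).hom ⁻¹ᵁ Q) := by
            rw [hbot]
            infer_instance
          exact Subsingleton.elim _ _
    have hT' : ∀ a : G, (X.presheaf.map (homOfLE (hle U a)).op).hom T = ((ρ a).hom.app Q).hom s := hT
    obtain ⟨r, hr⟩ := (hP.range_iff U T).2 fun g => by
      refine X.sheaf.eq_of_locally_eq' (fun a : G => (ρ a).hom ⁻¹ᵁ Q)
        (p ⁻¹ᵁ U) (fun a => homOfLE (hle U a)) (hcover U) _ _ fun c => ?_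
      change (X.presheaf.map (homOfLE (hle U c)).op).hom
          (((ρ g).hom.appLE (p ⁻¹ᵁ U) (p ⁻¹ᵁ U) _).hom T) =
        (X.presheaf.map (homOfLE (hle U c)).op).hom T
      have e' : (ρ c).hom = (ρ g).hom ≫ (ρ (c * g⁻¹)).hom := by
        rw [show ρ c = ρ (c * g⁻¹) * ρ g by rw [← map_mul, inv_mul_cancel_right]]; rfl
      have hsub : (ρ c).hom ⁻¹ᵁ Q ≤ (ρ g).hom ⁻¹ᵁ ((ρ (c * g⁻¹)).hom ⁻¹ᵁ Q) := by
        rw [e']; rfl
      have e2 : ((ρ g).hom.appLE _ _ hsub).hom ((X.presheaf.map (homOfLE (hle U (c * g⁻¹))).op).hom T) =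
          (X.presheaf.map (homOfLE (hle U c)).op).hom
            (((ρ g).hom.appLE (p ⁻¹ᵁ U) (p ⁻¹ᵁ U) (SGA1.preimage_le_of_inv ρ p hP.inv g U)).hom T) := by
        have e3 : X.presheaf.map (homOfLE (hle U (c * g⁻¹))).op ≫ (ρ g).hom.appLE _ _ hsub =
            (ρ g).hom.appLE (p ⁻¹ᵁ U) (p ⁻¹ᵁ U) (SGA1.preimage_le_of_inv ρ p hP.inv g U) ≫
              X.presheaf.map (homOfLE (hle U c)).op := by
          rw [Scheme.Hom.map_appLE, Scheme.Hom.appLE_map]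
        exact congrArg (fun m => m.hom T) e3
      rw [← e2, hT' (c * g⁻¹), hT' c, ← RingHom.comp_apply, ← CommRingCat.hom_comp,
        Scheme.Hom.app_eq_appLE, Scheme.Hom.app_eq_appLE, Scheme.Hom.appLE_comp_appLE]
      simp only [← e']
    refine ⟨r, ?_⟩
    rw [happ, hr]
    refine congrArg _ ?_
    have hQ1 : Q ≤ (ρ 1).hom ⁻¹ᵁ Q := hQ 1
    have h2 := congrArg (X.presheaf.map (homOfLE hQ1).op).hom (hT' 1)
    rw [← RingHom.comp_apply, ← CommRingCat.hom_comp, ← RingHom.comp_apply, ← CommRingCat.hom_comp,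
      Scheme.Hom.app_eq_appLE, Scheme.Hom.appLE_map, ← Functor.map_comp] at h2
    exact h2.trans (hfix 1)

end Groth.Agent.S13080
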