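import Groth.Statements.S13081
import Mathlib
import Groth.Agent.SGA1QuotLib.Finite
-- import your own Groth.Agent.* helpers here

set_option autoImplicit false
universe u
open CategoryTheory AlgebraicGeometry Limits
open Zeta

namespace Groth.Agent.S13081

/-- Let G be a finite group acting by algebraic automorphisms over k on a scheme X of finite type over k
admitting a quotient X → X/G, and H a normal subgroup of G. Then X/H carries an induced action of
G/H and its quotient by this action is X/G: the induced morphism r : X/H → X/G is a quotient of X/H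
by G/H. The induced action ρ̄ is pinned by p_H ≫ ρ̄(ḡ) = ρ(g) ≫ p_H and r by p_H ≫ r = p. -/
theorem result {k : Type u} [Field k] {G : Type u} [Group G]
    [Finite G] {X XG XH : Scheme.{u}} (fX : X ⟶ Spec (CommRingCat.of k)) [LocallyOfFiniteType fX]
    [QuasiCompact fX] (ρ : G →* Aut X) (hρ : ∀ g, (ρ g).hom ≫ fX = fX) (p : X ⟶ XG)
    (hP : SGA1.IsQuot ρ p) (H : Subgroup G) [H.Normal] (pH : X ⟶ XH)
    (hPH : SGA1.IsQuot (ρ.comp H.subtype) pH) (ρbar : G ⧸ H →* Aut XH)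
    (hρbar : ∀ g : G, pH ≫ (ρbar (QuotientGroup.mk g)).hom = (ρ g).hom ≫ pH)
    (r : XH ⟶ XG) (hr : pH ≫ r = p) :
    SGA1.IsQuot ρbar r := by
  subst hr
  haveI := hP.affine
  have hinv : ∀ gb, (ρbar gb).hom ≫ r = r := fun gb => by
    obtain ⟨g, rfl⟩ := QuotientGroup.mk_surjective gb
    refine SGA1QuotLib.hom_ext hPH _ _ ?_
    rw [reassoc_of% (hρbar g), hP.inv g]
  refine ⟨SGA1QuotLib.isAffineHom_of_comp hPH (pH ≫ r) r rfl, hinv, fun U a b hab => ?_, fun U s => ⟨?_, fun hs => ?_⟩⟩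
  · refine hP.injective U ?_
    rw [Scheme.Hom.comp_app]
    exact congrArg (pH.app (r ⁻¹ᵁ U)).hom hab
  · rintro ⟨t, rfl⟩ gb
    rw [← RingHom.comp_apply, ← CommRingCat.hom_comp, Scheme.Hom.app_eq_appLE,
      Scheme.Hom.appLE_comp_appLE]
    simp only [hinv gb]
  · have key : ∀ g : G, ((ρ g).hom.appLE ((pH ≫ r) ⁻¹ᵁ U) ((pH ≫ r) ⁻¹ᵁ U)
        (SGA1.preimage_le_of_inv ρ (pH ≫ r) hP.inv g U)).hom ((pH.app (r ⁻¹ᵁ U)).hom s) =
        (pH.app (r ⁻¹ᵁ U)).hom s := fun g => by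
      conv_rhs => rw [← hs (QuotientGroup.mk g)]
      have e : pH.app (r ⁻¹ᵁ U) ≫ (ρ g).hom.appLE ((pH ≫ r) ⁻¹ᵁ U) ((pH ≫ r) ⁻¹ᵁ U)
          (SGA1.preimage_le_of_inv ρ (pH ≫ r) hP.inv g U) =
          (ρbar (QuotientGroup.mk g)).hom.appLE (r ⁻¹ᵁ U) (r ⁻¹ᵁ U)
            (SGA1.preimage_le_of_inv ρbar r hinv _ U) ≫ pH.app (r ⁻¹ᵁ U) := by
        rw [Scheme.Hom.app_eq_appLE]
        erw [Scheme.Hom.appLE_comp_appLE, Scheme.Hom.appLE_comp_appLE]
        simp only [hρbar g]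
        rfl
      exact congrArg (fun m => m.hom s) e
    obtain ⟨t, ht⟩ := (hP.range_iff U _).2 key
    refine ⟨t, hPH.injective (r ⁻¹ᵁ U) ?_⟩
    rw [Scheme.Hom.comp_app] at ht
    exact ht

end Groth.Agent.S13081
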