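import Groth.Statements.S13082
import Groth.Agent.SGA1QuotLib.Residue
-- import your own Groth.Agent.* helpers here

set_option autoImplicit false
universe u
open CategoryTheory AlgebraicGeometry Limits
open Zeta

namespace Groth.Agent.S13082

section Aux
open Groth.Agent.SGA1QuotLib

/-- Residue field map of a quotient restricted along an immersion is radicial. -/
theorem isPurelyInseparable_aux {G : Type u} [Group G] [Finite G] {X XG W WG : Scheme.{u}}
    (ρ : G →* Aut X) (p : X ⟶ XG) (hP : SGA1.IsQuot ρ p) (j : W ⟶ X) [IsImmersion j]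
    (ρW : G →* Aut W) (hρW : ∀ g, (ρW g).hom ≫ j = j ≫ (ρ g).hom) (pW : W ⟶ WG)
    (hPW : SGA1.IsQuot ρW pW) (φ : WG ⟶ XG) (hφ : pW ≫ φ = j ≫ p) (w : W) :
    (φ.residueFieldMap (pW.base w)).hom.IsPurelyInseparable := by
  have hbij : Function.Bijective (j.residueFieldMap w).hom := by
    refine ⟨RingHom.injective _, fun z => ?_⟩
    obtain ⟨t, rfl⟩ := W.residue_surjective w z
    obtain ⟨s, rfl⟩ := j.stalkMap_surjective w t
    exact ⟨(X.residue _).hom s, congrArg (fun m => m.hom s) (Scheme.residue_residueFieldMap j w)⟩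
  have hK : XG.residueField (φ.base (pW.base w)) = XG.residueField (p.base (j.base w)) := by
    rw [← Scheme.Hom.comp_apply, hφ]; rfl
  have hey : φ.base (pW.base w) = p.base (j.base w) := by
    rw [← Scheme.Hom.comp_apply, hφ]; rfl
  have hcomp : φ.residueFieldMap (pW.base w) ≫ pW.residueFieldMap w =
      (XG.residueFieldCongr hey).hom ≫ p.residueFieldMap (j.base w) ≫ j.residueFieldMap w := by
    rw [← Scheme.residueFieldMap_comp, ← Scheme.residueFieldMap_comp, Scheme.Hom.residueFieldMap_congr hφ]
    rfl
  letI : Algebra (XG.residueField (p.base (j.base w))) (X.residueField (j.base w)) :=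
    (p.residueFieldMap (j.base w)).hom.toAlgebra
  haveI : Normal (XG.residueField (p.base (j.base w))) (X.residueField (j.base w)) :=
    (normal_and_exists_stabilizer hP (j.base w)).1
  let ej := RingEquiv.ofBijective (j.residueFieldMap w).hom hbij
  let ι : WG.residueField (pW.base w) →+* X.residueField (j.base w) :=
    ej.symm.toRingHom.comp (pW.residueFieldMap w).hom
  letI : Algebra (WG.residueField (pW.base w)) (X.residueField (j.base w)) := ι.toAlgebra
  let θ : XG.residueField (p.base (j.base w)) ⟶ WG.residueField (pW.base w) :=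
    (XG.residueFieldCongr hey).inv ≫ φ.residueFieldMap (pW.base w)
  letI : Algebra (XG.residueField (p.base (j.base w))) (WG.residueField (pW.base w)) :=
    θ.hom.toAlgebra
  haveI : IsScalarTower (XG.residueField (p.base (j.base w))) (WG.residueField (pW.base w))
      (X.residueField (j.base w)) := .of_algebraMap_eq fun a => by
    apply hbij.1
    change (j.residueFieldMap w).hom ((p.residueFieldMap (j.base w)).hom a) =
      ej (ej.symm ((pW.residueFieldMap w).hom (θ.hom a)))
    rw [RingEquiv.apply_symm_apply]
    have h1 : θ ≫ pW.residueFieldMap w = p.residueFieldMap (j.base w) ≫ j.residueFieldMap w := by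
      simp only [θ, Category.assoc, hcomp, Iso.inv_hom_id_assoc]
    exact (congrArg (fun m => m.hom a) h1).symm
  have hPI : IsPurelyInseparable (XG.residueField (p.base (j.base w))) (WG.residueField (pW.base w)) := by
    refine isPurelyInseparable_of_fixed (L := X.residueField (j.base w)) fun f a => ?_
    obtain ⟨g, e, he⟩ := (normal_and_exists_stabilizer hP (j.base w)).2
      f.toRingEquiv.toCommRingCatIso (CommRingCat.hom_ext (RingHom.ext f.commutes))
    have eW : (ρW g).hom.base w = w := j.isEmbedding.injective (by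
      rw [← Scheme.Hom.comp_apply, hρW, Scheme.Hom.comp_apply]; exact e)
    have h2 : f.toRingEquiv.toCommRingCatIso.hom ≫ j.residueFieldMap w =
        j.residueFieldMap w ≫ (W.residueFieldCongr eW).inv ≫ (ρW g).hom.residueFieldMap w := by
      rw [he, Category.assoc, Scheme.residueFieldCongr_inv, Scheme.residueFieldCongr_inv,
        Scheme.Hom.residueFieldMap_congr'_assoc (f := j) eW.symm, ← Scheme.residueFieldMap_comp,
        ← Scheme.residueFieldMap_comp, Scheme.Hom.residueFieldMap_congr (hρW g)]
      erw [Scheme.residueFieldCongr_trans_hom_assoc]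
      rfl
    have h3 : pW.residueFieldMap w ≫ (W.residueFieldCongr eW).inv ≫ (ρW g).hom.residueFieldMap w =
        pW.residueFieldMap w := by
      rw [Scheme.residueFieldCongr_inv, Scheme.Hom.residueFieldMap_congr'_assoc (f := pW) eW.symm,
        ← Scheme.residueFieldMap_comp, Scheme.Hom.residueFieldMap_congr (hPW.inv g)]
      erw [Scheme.residueFieldCongr_trans_hom_assoc]
      exact Category.id_comp _
    apply hbij.1
    change (f.toRingEquiv.toCommRingCatIso.hom ≫ j.residueFieldMap w).hom (ι a) =
      ej (ej.symm ((pW.residueFieldMap w).hom a))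
    rw [h2, RingEquiv.apply_symm_apply, CommRingCat.hom_comp, RingHom.comp_apply]
    change ((W.residueFieldCongr eW).inv ≫ (ρW g).hom.residueFieldMap w).hom
      (ej (ej.symm ((pW.residueFieldMap w).hom a))) = _
    rw [RingEquiv.apply_symm_apply]
    exact congrArg (fun m => m.hom a) h3
  have key : ∀ (y' : XG) (e : y' = p.base (j.base w)) (m : XG.residueField y' ⟶ WG.residueField (pW.base w)),
      ((XG.residueFieldCongr e).inv ≫ m).hom.IsPurelyInseparable → m.hom.IsPurelyInseparable := by
    rintro y' rfl m hm
    exact hm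
  exact key _ hey _ hPI

end Aux

/-- Let X be a scheme of finite type over k with an action of a finite group G by algebraic
automorphisms over k admitting a quotient π : X → X/G, and W a locally closed subscheme of X on
which G induces an action. Then the canonical morphism W/G → π(W) is radicial and surjective: the
induced morphism φ : W/G → X/G is universally injective with set-theoretic image π(W). The action on
W is pinned along the immersion j : W → X, φ by p_W ≫ φ = j ≫ π for a quotient p_W : W → W/G. -/
theorem result {k : Type u} [Field k] {G : Type u}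
    [Group G] [Finite G] {X XG W WG : Scheme.{u}} (fX : X ⟶ Spec (CommRingCat.of k))
    [LocallyOfFiniteType fX] [QuasiCompact fX] (ρ : G →* Aut X) (hρ : ∀ g, (ρ g).hom ≫ fX = fX)
    (p : X ⟶ XG) (hP : SGA1.IsQuot ρ p) (j : W ⟶ X) [IsImmersion j] (ρW : G →* Aut W)
    (hρW : ∀ g, (ρW g).hom ≫ j = j ≫ (ρ g).hom) (pW : W ⟶ WG) (hPW : SGA1.IsQuot ρW pW)
    (φ : WG ⟶ XG) (hφ : pW ≫ φ = j ≫ p) :
    UniversallyInjective φ ∧ Set.range φ.base = p.base '' Set.range j.base := by
  refine ⟨?_, ?_⟩
  · have crit : Function.Injective φ ∧ (∀ v, (φ.residueFieldMap v).hom.IsPurelyInseparable) →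
        UniversallyInjective φ := ((tfae_universallyInjective φ).out 2 0).1
    refine crit ⟨fun v₁ v₂ h => ?_, fun v => ?_⟩
    · obtain ⟨w₁, rfl⟩ := Groth.Agent.SGA1QuotLib.surjective hPW v₁
      obtain ⟨w₂, rfl⟩ := Groth.Agent.SGA1QuotLib.surjective hPW v₂
      rw [← Scheme.Hom.comp_apply, ← Scheme.Hom.comp_apply, hφ, Scheme.Hom.comp_apply,
        Scheme.Hom.comp_apply] at h
      obtain ⟨g, hg⟩ := Groth.Agent.SGA1QuotLib.exists_orbit hP h
      have : (ρW g).hom.base w₁ = w₂ := j.isEmbedding.injective (by
        rw [← Scheme.Hom.comp_apply, hρW, Scheme.Hom.comp_apply]; exact hg)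
      rw [← this, ← Scheme.Hom.comp_apply, hPW.inv]
    · obtain ⟨w, rfl⟩ := Groth.Agent.SGA1QuotLib.surjective hPW v
      exact isPurelyInseparable_aux ρ p hP j ρW hρW pW hPW φ hφ w
  · ext y
    constructor
    · rintro ⟨v, rfl⟩
      obtain ⟨w, rfl⟩ := Groth.Agent.SGA1QuotLib.surjective hPW v
      exact ⟨j.base w, ⟨w, rfl⟩, by
        rw [← Scheme.Hom.comp_apply, ← hφ, Scheme.Hom.comp_apply]⟩
    · rintro ⟨_, ⟨w, rfl⟩, rfl⟩
      exact ⟨pW.base w, by rw [← Scheme.Hom.comp_apply, hφ, Scheme.Hom.comp_apply]⟩

end Groth.Agent.S13082
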