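import Groth.Statements.S13087
import Groth.Agent.Lie3Mod.Main

set_option autoImplicit false
universe u
open Lie3Mod

namespace Groth.Agent.S13087

open MvPolynomial Groth.Agent.Lie3Mod

lemma regular_triple {A : Type u} [CommRing A] [Nontrivial A] (m : MonomialOrder (Fin 9))
    (p q r : Lie3Mod.D A) (hp : IsUnit (m.leadingCoeff p)) (hq : IsUnit (m.leadingCoeff q))
    (hr : IsUnit (m.leadingCoeff r))
    (hpq : ∀ s, m.degree p s = 0 ∨ m.degree q s = 0)
    (hpr : ∀ s, m.degree p s = 0 ∨ m.degree r s = 0)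
    (hqr : ∀ s, m.degree q s = 0 ∨ m.degree r s = 0)
    (hp0 : m.degree p ≠ 0) (hq0 : m.degree q ≠ 0) (hr0 : m.degree r ≠ 0) :
    RingTheory.Sequence.IsRegular (Lie3Mod.D A) [p, q, r] := by
  have h0 : IsGB m (∅ : Set (Lie3Mod.D A)) := isGB_empty m
  have cp : Coprime m (∅ : Set (Lie3Mod.D A)) p := ⟨hp, fun b hb => absurd hb (Set.notMem_empty b)⟩
  have h1 : IsGB m ({p} : Set (Lie3Mod.D A)) := by simpa using h0.insert m cp
  have cq : Coprime m ({p} : Set (Lie3Mod.D A)) q := ⟨hq, by rintro b rfl s; exact hpq s⟩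
  have h2 : IsGB m ({q, p} : Set (Lie3Mod.D A)) := h1.insert m cq
  have cr : Coprime m ({q, p} : Set (Lie3Mod.D A)) r := ⟨hr, by
    rintro b (rfl | rfl) s
    exacts [hqr s, hpr s]⟩
  have h3 : IsGB m ({r, q, p} : Set (Lie3Mod.D A)) := h2.insert m cr
  have key : ∀ (l : List (Lie3Mod.D A)) (B : Set (Lie3Mod.D A)) (x : Lie3Mod.D A),
      {y | y ∈ l} = B → IsGB m B → Coprime m B x →
      IsSMulRegular (Lie3Mod.D A ⧸ (Ideal.ofList l • (⊤ : Submodule (Lie3Mod.D A) (Lie3Mod.D A)))) x := by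
    intro l B x hl hB hx
    rw [isSMulRegular_quotient_iff_mem_of_smul_mem]
    intro y hy
    have hI : (Ideal.ofList l • (⊤ : Submodule (Lie3Mod.D A) (Lie3Mod.D A))) = Ideal.span B := by
      rw [Ideal.smul_eq_mul, Ideal.mul_top, Ideal.ofList, hl]
    rw [hI] at hy ⊢
    rw [smul_eq_mul, mul_comm] at hy
    exact hB.mem_of_mul_mem m hx hy
  refine ⟨⟨fun i hi => ?_⟩, fun htop => ?_⟩
  · simp only [List.length_cons, List.length_nil] at hi
    interval_cases i
    · exact key _ _ _ (by simp) h0 cp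
    · exact key _ _ _ (by simp) h1 cq
    · exact key _ _ _ (by ext; simp; tauto) h2 cr
  · have hl : {y : Lie3Mod.D A | y ∈ [p, q, r]} = {r, q, p} := by ext; simp; tauto
    have h1' : (1 : Lie3Mod.D A) ∈ Ideal.ofList [p, q, r] • (⊤ : Submodule (Lie3Mod.D A) (Lie3Mod.D A)) :=
      htop ▸ Submodule.mem_top
    rw [Ideal.smul_eq_mul, Ideal.mul_top, Ideal.ofList, hl] at h1'
    obtain ⟨b, hb, hle⟩ := h3.2 _ h1' one_ne_zero
    rw [← C_1, m.degree_C, nonpos_iff_eq_zero] at hle
    rcases hb with rfl | rfl | rfl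
    exacts [hr0 hle, hq0 hle, hp0 hle]


/-- Let A be a nontrivial commutative ring and D = A[a,b,c,d,e,f,g,h,i] the polynomial ring in nine
variables. Then the linear forms a − i, b + f, d + h form a regular sequence on D, and so do the
three Jacobi polynomials Q1 = ah + di − fg − bg, Q2 = ie + bd − fh − ae, Q3 = hc + dc − af − bi
(each term is a non-zero-divisor on the quotient of D by the preceding terms, and the quotient by
all three is non-zero). (The published statement is made with a regular base ring in force; the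
printed argument does not use that hypothesis, and the statement is given here over every nontrivial
commutative base ring.) -/
theorem result (A : Type u) [CommRing A] [Nontrivial A] :
    RingTheory.Sequence.IsRegular (Lie3Mod.D A) [Lie3Mod.L1 A, Lie3Mod.L2 A, Lie3Mod.L3 A] ∧
      RingTheory.Sequence.IsRegular (Lie3Mod.D A) [Lie3Mod.Q1 A, Lie3Mod.Q2 A, Lie3Mod.Q3 A] := by
  constructor
  · refine regular_triple ord _ _ _ (lead_L1 A).2 (lead_L2 A).2 (lead_L3 A).2 ?_ ?_ ?_ ?_ ?_ ?_ <;>
      simp only [(lead_L1 A).1, (lead_L2 A).1, (lead_L3 A).1]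
    iterate 3 (intro s; fin_cases s <;> simp)
    all_goals simp [Finsupp.ext_iff, Fin.forall_fin_succ]
  · refine regular_triple ord _ _ _ (lead_Q1 A).2 (lead_Q2 A).2 (lead_Q3 A).2 ?_ ?_ ?_ ?_ ?_ ?_ <;>
      simp only [(lead_Q1 A).1, (lead_Q2 A).1, (lead_Q3 A).1]
    iterate 3 (intro s; fin_cases s <;> simp)
    all_goals simp [Finsupp.ext_iff, Fin.forall_fin_succ, Finsupp.single_apply]

end Groth.Agent.S13087
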