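import Groth.Statements.S13095
import Groth.Agent.Lie3Mod.Main
import Mathlib.RingTheory.Flat.TorsionFree
import Mathlib.RingTheory.DedekindDomain.Basic

set_option autoImplicit false
open Lie3Mod

namespace Groth.Agent.S13095

open MvPolynomial in
/-- torsion-freeness criterion for a quotient of the polynomial ring over `ℤ` -/
lemma flat_quotient (K : Ideal (Lie3Mod.D ℤ))
    (h : ∀ (n : ℤ) (f : Lie3Mod.D ℤ), n ≠ 0 → C n * f ∈ K → f ∈ K) :
    Module.Flat ℤ (Lie3Mod.D ℤ ⧸ K) := by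
  haveI : Module.IsTorsionFree ℤ (Lie3Mod.D ℤ ⧸ K) := by
    refine Module.IsTorsionFree.mk fun n hn x y hxy => ?_
    have hn0 : n ≠ 0 := hn.ne_zero
    obtain ⟨x, rfl⟩ := Ideal.Quotient.mk_surjective x
    obtain ⟨y, rfl⟩ := Ideal.Quotient.mk_surjective y
    rw [Ideal.Quotient.eq]
    refine h n _ hn0 ?_
    have h' : Ideal.Quotient.mk K (n • x) = Ideal.Quotient.mk K (n • y) := by
      simpa only [map_zsmul] using hxy
    rw [Ideal.Quotient.eq] at h'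
    rw [eq_intCast, mul_sub, ← zsmul_eq_mul, ← zsmul_eq_mul]
    exact h'
  infer_instance

open MvPolynomial in
lemma torsion_J (n : ℤ) (f : Lie3Mod.D ℤ) (hn : n ≠ 0) (h : C n * f ∈ Lie3Mod.idJ ℤ) :
    f ∈ Lie3Mod.idJ ℤ := by
  refine ((Groth.Agent.Lie3Mod.idJ_isPrime).mem_or_mem h).resolve_left fun hC => ?_
  rw [Groth.Agent.Lie3Mod.idJ_eq_ker, RingHom.mem_ker] at hC
  have h1 : Groth.Agent.Lie3Mod.ι6 (C n : Groth.Agent.Lie3Mod.R6 ℤ) = 0 := by
    rw [← Groth.Agent.Lie3Mod.chart_sec]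
    simpa [Groth.Agent.Lie3Mod.sec] using hC
  exact hn (C_eq_zero.1 (Groth.Agent.Lie3Mod.ι6_injective (by rw [h1, map_zero])))

open MvPolynomial in
lemma torsion_L (n : ℤ) (f : Lie3Mod.D ℤ) (hn : n ≠ 0) (h : C n * f ∈ Lie3Mod.idL ℤ) :
    f ∈ Lie3Mod.idL ℤ := by
  refine ((Groth.Agent.Lie3Mod.idL_isPrime).mem_or_mem h).resolve_left fun hC => ?_
  obtain ⟨b, hb, hle⟩ := (Groth.Agent.Lie3Mod.isGB_L ℤ).2 _ hC (by simpa using hn)
  rw [MonomialOrder.degree_C] at hle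
  rcases hb with rfl | rfl | rfl
  · rw [(Groth.Agent.Lie3Mod.lead_L1 ℤ).1] at hle; simpa using hle 0
  · rw [(Groth.Agent.Lie3Mod.lead_L2 ℤ).1] at hle; simpa using hle 1
  · rw [(Groth.Agent.Lie3Mod.lead_L3 ℤ).1] at hle; simpa using hle 3


/-- The moduli scheme of based three-dimensional Lie algebras is flat over the integers and reduced:
with I = (Q1, Q2, Q3) the Jacobi ideal of Z[a,b,c,d,e,f,g,h,i] (Q1 = ah + di − fg − bg, Q2 = ie + bd
− fh − ae, Q3 = hc + dc − af − bi), the ring Z[a,b,c,d,e,f,g,h,i]/I is a flat Z-module and I is a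
radical ideal. -/
theorem result :
    Module.Flat ℤ (Lie3Mod.D ℤ ⧸ Lie3Mod.idI ℤ) ∧ (Lie3Mod.idI ℤ).IsRadical := by
  refine ⟨flat_quotient _ fun n f hn h => ?_, ?_⟩
  · rw [Groth.Agent.Lie3Mod.idI_eq_inf] at h ⊢
    exact ⟨torsion_J n f hn h.1, torsion_L n f hn h.2⟩
  · rw [Groth.Agent.Lie3Mod.idI_eq_inf]
    exact (Groth.Agent.Lie3Mod.idJ_isPrime).isRadical.inf
      (Groth.Agent.Lie3Mod.idL_isPrime).isRadical

end Groth.Agent.S13095
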