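import Mathlib
import Groth.Statements.S13096
-- import your own Groth.Agent.* helpers here

set_option autoImplicit false
universe u v
open CAlg

namespace Groth.Agent.S13096

/-- Let R be a commutative ring and R' a commutative R-algebra of finite presentation. Then every
surjective R-algebra endomorphism α : R' → R' is bijective (an automorphism). -/
theorem result (R : Type u) [CommRing R]
    (R' : Type v) [CommRing R'] [Algebra R R'] [Algebra.FinitePresentation R R']
    (α : R' →ₐ[R] R') (hα : Function.Surjective α) : Function.Bijective α := by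
  classical
  refine ⟨?_, hα⟩
  obtain ⟨s, hs⟩ := (inferInstance : Algebra.FiniteType R R').out
  have key : ∀ y : R', ∃ C : Finset R, y ∈ Subring.closure ((s : Set R') ∪ algebraMap R R' '' (C : Set R)) := by
    intro y
    have hy : y ∈ Algebra.adjoin R (s : Set R') := by rw [hs]; exact Algebra.mem_top
    have mono : ∀ {C D : Finset R}, C ⊆ D → Subring.closure ((s : Set R') ∪ algebraMap R R' '' (C : Set R)) ≤
        Subring.closure ((s : Set R') ∪ algebraMap R R' '' (D : Set R)) := fun h =>
      Subring.closure_mono (Set.union_subset_union_right _ (Set.image_mono (Finset.coe_subset.mpr h)))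
    induction hy using Algebra.adjoin_induction with
    | mem x hx => exact ⟨∅, Subring.subset_closure (Or.inl hx)⟩
    | algebraMap r => exact ⟨{r}, Subring.subset_closure (Or.inr ⟨r, by simp, rfl⟩)⟩
    | add x y _ _ hx hy =>
      obtain ⟨C, hC⟩ := hx; obtain ⟨D, hD⟩ := hy
      exact ⟨C ∪ D, add_mem (mono Finset.subset_union_left hC) (mono Finset.subset_union_right hD)⟩
    | mul x y _ _ hx hy =>
      obtain ⟨C, hC⟩ := hx; obtain ⟨D, hD⟩ := hy
      exact ⟨C ∪ D, mul_mem (mono Finset.subset_union_left hC) (mono Finset.subset_union_right hD)⟩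
  choose Cf hCf using key
  choose pre hpre using hα
  rw [injective_iff_map_eq_zero]
  intro a ha
  let C : Finset R := ((s.image α ∪ s.image pre ∪ {a}).biUnion fun y => Cf y) ∪ ((s.image α ∪ s.image pre ∪ {a}).biUnion fun y => Cf (pre y))
  let t : Set R' := (s : Set R') ∪ algebraMap R R' '' (C : Set R)
  let T := Subring.closure t
  haveI : IsNoetherianRing T := is_noetherian_subring_closure t (s.finite_toSet.union (C.finite_toSet.image _))
  have hT : ∀ y ∈ s.image α ∪ s.image pre ∪ {a}, y ∈ T := fun y hy =>
    Subring.closure_mono (Set.union_subset_union_right _ (Set.image_mono (Finset.coe_subset.mpr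
      ((Finset.subset_biUnion_of_mem (fun y => Cf y) hy).trans Finset.subset_union_left)))) (hCf y)
  have hmap : T ≤ T.comap α.toRingHom := by
    rw [Subring.closure_le]
    rintro x (hx | ⟨r, hr, rfl⟩)
    · exact hT (α x) (by simp only [Finset.mem_union, Finset.mem_image]; exact Or.inl (Or.inl ⟨x, hx, rfl⟩))
    · change α (algebraMap R R' r) ∈ T
      rw [α.commutes]; exact Subring.subset_closure (Or.inr ⟨r, hr, rfl⟩)
  have himg : T ≤ T.map α.toRingHom := by
    rw [Subring.closure_le]
    rintro x (hx | ⟨r, hr, rfl⟩)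
    · exact ⟨pre x, hT (pre x) (by simp only [Finset.mem_union, Finset.mem_image]; exact Or.inl (Or.inr ⟨x, hx, rfl⟩)), hpre x⟩
    · exact ⟨algebraMap R R' r, Subring.subset_closure (Or.inr ⟨r, hr, rfl⟩), α.commutes r⟩
  let f : T →+* T := (α.toRingHom.comp T.subtype).codRestrict T (fun x => hmap x.2)
  have hf : Function.Surjective f := fun y => by
    obtain ⟨x, hx, hxy⟩ := himg y.2
    exact ⟨⟨x, hx⟩, Subtype.ext hxy⟩
  obtain ⟨N, hN⟩ := monotone_stabilizes_iff_noetherian.mpr (inferInstance : IsNoetherian T T)
    ⟨fun m => RingHom.ker (f ^ m), monotone_nat_of_le_succ fun m x hx => by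
      rw [RingHom.mem_ker] at hx ⊢
      rw [pow_succ', RingHom.mul_def, RingHom.comp_apply, hx, map_zero]⟩
  have hfN : Function.Surjective (f ^ N : T →+* T) := by rw [RingHom.coe_pow]; exact hf.iterate N
  obtain ⟨y, hy⟩ := hfN ⟨a, hT a (by simp)⟩
  have h1 : y ∈ RingHom.ker (f ^ (N + 1)) := by
    rw [RingHom.mem_ker, pow_succ', RingHom.mul_def, RingHom.comp_apply, hy]
    exact Subtype.ext ha
  have h2 : (f ^ N) y = 0 := by
    have e := hN (N + 1) (Nat.le_succ N)
    change RingHom.ker (f ^ N) = RingHom.ker (f ^ (N + 1)) at e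
    rw [← e] at h1; exact h1
  rw [hy] at h2
  exact congrArg Subtype.val h2

end Groth.Agent.S13096
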