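import Groth.Statements.S13097
import Mathlib
-- import your own Groth.Agent.* helpers here

set_option autoImplicit false
universe u
open FlatMor

namespace Groth.Agent.S13097

open CategoryTheory AlgebraicGeometry in
/-- Let f : X → S be a quasi-compact, separated morphism of schemes with a section e : S → X (e followed
by f is the identity of S), and U ⊆ S an open subscheme such that f⁻¹(U) is schematically dense in X
(for every open V of X, restriction of functions from V to V ∩ f⁻¹(U) is injective) and such that
the restriction f⁻¹(U) → U of f is a homeomorphism of underlying spaces. Then f is universally a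
homeomorphism (every base change of f is a homeomorphism), and f is finite as soon as it is locally
of finite type. (The published statement also lists surjectivity of f, which a section forces, and
offers as an alternative to the section the hypothesis that f be flat, still with f⁻¹(U) → U only a
homeomorphism; that flat alternative fails: the spectrum of a separable quadratic field extension
over the spectrum of the ground field, with U the whole base, is flat, surjective, quasi-compact,
separated and a homeomorphism over U, yet not universally injective. Only the case of a section,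
whose published proof is complete, is stated here.) -/
theorem result {X S : Scheme.{u}} (f : X ⟶ S)
    [QuasiCompact f] [IsSeparated f] (U : S.Opens)
    (hdense : CInt.IsSchematicallyDense (f ⁻¹ᵁ U)) (hU : IsHomeomorph (f ∣_ U).base)
    (e : S ⟶ X) (he : e ≫ f = 𝟙 S) :
    FlatMor.IsUnivHomeo f ∧ (LocallyOfFiniteType f → IsFinite f) := by
    have hci : IsClosedImmersion e := by
      have : IsClosedImmersion (e ≫ f) := by rw [he]; infer_instance
      exact IsClosedImmersion.of_comp e f
    have hfe : ∀ s : S, f (e s) = s := by
      intro s
      rw [← Scheme.Hom.comp_apply, he]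
      rfl
    have hsub : ∀ x : X, x ∈ f ⁻¹ᵁ U → x ∈ Set.range e := by
      intro x hx
      refine ⟨f x, ?_⟩
      have hy : e (f x) ∈ f ⁻¹ᵁ U := by
        show f (e (f x)) ∈ U
        rw [hfe]
        exact hx
      have := hU.bijective.injective (a₁ := (⟨e (f x), hy⟩ : (f ⁻¹ᵁ U : X.Opens))) (a₂ := ⟨x, hx⟩) (by
        apply Subtype.ext
        simp only [morphismRestrict_base_coe]
        exact hfe (f x))
      exact congrArg Subtype.val this
    have hdense' : Dense ((f ⁻¹ᵁ U : X.Opens) : Set X) := by
      rw [dense_iff_inter_open]
      intro V hV hne
      by_contra hVU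
      rw [Set.not_nonempty_iff_eq_empty] at hVU
      have hbot : (⟨V, hV⟩ : X.Opens) ⊓ f ⁻¹ᵁ U = ⊥ := TopologicalSpace.Opens.ext hVU
      have hs : Subsingleton Γ(X, (⟨V, hV⟩ : X.Opens) ⊓ f ⁻¹ᵁ U) := by
        rw [hbot]; infer_instance
      have hV0 : Subsingleton Γ(X, (⟨V, hV⟩ : X.Opens)) :=
        (hdense ⟨V, hV⟩).subsingleton
      obtain ⟨x, hx⟩ := hne
      exact (zero_ne_one : (0 : X.presheaf.stalk x) ≠ 1) (by
        rw [← map_zero (X.presheaf.germ ⟨V, hV⟩ x hx).hom, ← map_one (X.presheaf.germ ⟨V, hV⟩ x hx).hom,
          Subsingleton.elim (0 : Γ(X, (⟨V, hV⟩ : X.Opens))) 1])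
    have hsurj : Surjective e := by
      refine ⟨fun x => ?_⟩
      have hr : IsClosed (Set.range e) := e.isClosedEmbedding.isClosed_range
      exact (hr.closure_subset_iff.mpr hsub) (hdense' x)
    have huh : FlatMor.IsUnivHomeo f := by
      intro P S' iX iS fst hsq
      have hl : 𝟙 S' ≫ iS = (iS ≫ e) ≫ f := by simp [he]
      let e' : S' ⟶ P := hsq.lift (𝟙 S') (iS ≫ e) hl
      have h1 : e' ≫ fst = 𝟙 S' := hsq.lift_fst _ _ _
      have h2 : e' ≫ iX = iS ≫ e := hsq.lift_snd _ _ _
      have hpb : IsPullback e' iS iX e := by
        have hout : IsPullback (e' ≫ fst) iS iS (e ≫ f) := by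
          rw [h1, he]; exact IsPullback.of_id_fst
        exact IsPullback.of_right hout h2 hsq
      have : Surjective e' := MorphismProperty.of_isPullback (P := @Surjective) hpb.flip hsurj
      have : IsClosedImmersion e' := MorphismProperty.of_isPullback (P := @IsClosedImmersion) hpb.flip hci
      have hhom : IsHomeomorph e'.base :=
        isHomeomorph_iff_isEmbedding_surjective.mpr ⟨e'.isClosedEmbedding.isEmbedding, e'.surjective⟩
      let φ := hhom.homeomorph
      have : (fst.base : P → S') = φ.symm := by
        funext p
        obtain ⟨s, rfl⟩ := e'.surjective p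
        rw [← Scheme.Hom.comp_apply, h1]
        exact (φ.symm_apply_apply s).symm
      show IsHomeomorph fst.base
      rw [this]
      exact φ.symm.isHomeomorph
    refine ⟨huh, fun hlft => ?_⟩
    have : UniversallyClosed f := ⟨fun P S' iX iS fst hsq => (huh iX iS fst hsq).isClosedMap⟩
    have : IsProper f := {}
    have : LocallyQuasiFinite f := by
      apply LocallyQuasiFinite.of_finite_preimage_singleton
      intro y
      exact (Set.subsingleton_singleton.preimage
        ((huh (𝟙 X) (𝟙 S) f (IsPullback.of_id_snd)).injective)).finite
    exact IsFinite.of_isProper_of_locallyQuasiFinite f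

end Groth.Agent.S13097
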