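import Groth.Statements.S13099
import Mathlib

set_option autoImplicit false
universe u
open GrpSch

namespace Groth.Agent.S13099

open Polynomial in
/-- Let p be a prime and A a commutative ring of characteristic p, and consider the infinitesimal group
scheme Spec A[X]/(X^{p²}) with the additive group law. In coordinates: (1) a polynomial q ∈ A[X] of
degree less than p² satisfies q(Y + Z) − q(Y) − q(Z) ∈ (Y^{p²}, Z^{p²}) in A[Y, Z] (that is, X ↦ q
respects the comultiplication) if and only if q = a₁ X + a_p X^p for some a₁, a_p ∈ A; (2) an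
A-algebra endomorphism of A[X]/(X^{p²}) that sends the class of X to the class of a₁ X + a_p X^p is
bijective if and only if a₁ is a unit of A. (The printed statement is that the automorphism group
scheme of this group scheme is the semidirect product of the additive group by the multiplicative
group, v acting on u by v^{p−1}u; this row records the two computations it consists of, in
coordinates.) -/
theorem result (p : ℕ) [Fact p.Prime] (A : Type u) [CommRing A] [CharP A p] :
    (∀ q : A[X], q.natDegree < p ^ 2 →
      (Polynomial.aeval (MvPolynomial.X 0 + MvPolynomial.X 1 : MvPolynomial (Fin 2) A) q -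
            Polynomial.aeval (MvPolynomial.X 0 : MvPolynomial (Fin 2) A) q -
            Polynomial.aeval (MvPolynomial.X 1 : MvPolynomial (Fin 2) A) q ∈
          Ideal.span ({MvPolynomial.X 0 ^ p ^ 2, MvPolynomial.X 1 ^ p ^ 2} : Set (MvPolynomial (Fin 2) A)) ↔
        ∃ a₁ ap : A, q = Polynomial.C a₁ * X + Polynomial.C ap * X ^ p)) ∧
    (∀ (a₁ ap : A) (φ : (A[X] ⧸ Ideal.span ({X ^ p ^ 2} : Set A[X])) →ₐ[A] (A[X] ⧸ Ideal.span ({X ^ p ^ 2} : Set A[X]))),
      φ (Ideal.Quotient.mk (Ideal.span ({X ^ p ^ 2} : Set A[X])) X) =
          Ideal.Quotient.mk (Ideal.span ({X ^ p ^ 2} : Set A[X])) (Polynomial.C a₁ * X + Polynomial.C ap * X ^ p) →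
        (Function.Bijective φ ↔ IsUnit a₁)) := by
  classical
  have hp : p.Prime := Fact.out
  haveI : Fact p.Prime := ⟨hp⟩
  have hmem : ∀ P : MvPolynomial (Fin 2) A,
      P ∈ Ideal.span ({MvPolynomial.X 0 ^ p ^ 2, MvPolynomial.X 1 ^ p ^ 2} : Set (MvPolynomial (Fin 2) A)) ↔
        ∀ d : Fin 2 →₀ ℕ, d 0 < p ^ 2 → d 1 < p ^ 2 → P.coeff d = 0 := by
    intro P
    rw [show ({MvPolynomial.X 0 ^ p ^ 2, MvPolynomial.X 1 ^ p ^ 2} : Set (MvPolynomial (Fin 2) A)) =
        (fun s => MvPolynomial.monomial s (1 : A)) '' {Finsupp.single 0 (p ^ 2), Finsupp.single 1 (p ^ 2)} by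
      simp [Set.image_insert_eq, MvPolynomial.X_pow_eq_monomial]]
    rw [MvPolynomial.mem_ideal_span_monomial_image]
    constructor
    · intro h d h0 h1
      by_contra hne
      obtain ⟨s, hs, hle⟩ := h d (MvPolynomial.mem_support_iff.2 hne)
      rcases hs with rfl | rfl
      · exact absurd (by simpa using hle 0) (not_le.2 h0)
      · exact absurd (by simpa using hle 1) (not_le.2 h1)
    · intro h d hd
      by_cases h0 : d 0 < p ^ 2
      · refine ⟨_, Or.inr rfl, Finsupp.single_le_iff.2 ?_⟩
        by_contra h1
        exact MvPolynomial.mem_support_iff.1 hd (h d h0 (not_le.1 h1))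
      · exact ⟨_, Or.inl rfl, Finsupp.single_le_iff.2 (not_lt.1 h0)⟩
  refine ⟨fun q hq => ?_, fun a₁ ap φ hφ => ?_⟩
  · constructor
    · intro h
      rw [hmem] at h
      have hco : ∀ m i, i ≤ m → m < p ^ 2 → (0 < i ∧ i < m ∨ m = 0) → q.coeff m * (m.choose i : A) = 0 := by
        intro m i him hm hi
        let d : Fin 2 →₀ ℕ := Finsupp.equivFunOnFinite.symm ![i, m - i]
        have h0 : d 0 = i := by simp [d]
        have h1 : d 1 = m - i := by simp [d]
        have h2 := h d (by omega) (by omega)
        simp only [MvPolynomial.coeff_sub, Polynomial.aeval_eq_sum_range, MvPolynomial.coeff_sum,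
          MvPolynomial.coeff_smul, add_pow, Finset.smul_sum, smul_eq_mul] at h2
        have hterm : ∀ n k, MvPolynomial.coeff d ((MvPolynomial.X 0 : MvPolynomial (Fin 2) A) ^ k * MvPolynomial.X 1 ^ (n - k) * (n.choose k : MvPolynomial (Fin 2) A)) =
            if k = i ∧ n - k = m - i then (n.choose k : A) else 0 := by
          intro n k
          rw [← map_natCast (MvPolynomial.C : A →+* _), MvPolynomial.X_pow_eq_monomial, MvPolynomial.X_pow_eq_monomial,
            MvPolynomial.monomial_mul, mul_comm _ (MvPolynomial.C _), MvPolynomial.C_mul_monomial, MvPolynomial.coeff_monomial]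
          refine if_congr ⟨fun e => ?_, fun e => ?_⟩ (by simp) rfl
          · have e0 := DFunLike.congr_fun e 0
            have e1 := DFunLike.congr_fun e 1
            simp [h0, h1] at e0 e1
            exact ⟨e0, e1⟩
          · obtain ⟨e1, e2⟩ := e
            subst e1
            ext j; fin_cases j <;> simp [h0, h1, e2]
        have hX0 : ∀ n, MvPolynomial.coeff d ((MvPolynomial.X 0 : MvPolynomial (Fin 2) A) ^ n) = if n = i ∧ 0 = m - i then 1 else 0 := by
          intro n
          rw [MvPolynomial.X_pow_eq_monomial, MvPolynomial.coeff_monomial]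
          refine if_congr ⟨fun e => ?_, fun e => ?_⟩ rfl rfl
          · have e0 := DFunLike.congr_fun e 0
            have e1 := DFunLike.congr_fun e 1
            simp [h0, h1] at e0 e1
            exact ⟨e0, by omega⟩
          · ext j; fin_cases j <;> simp [h0, h1, e.1, ← e.2]
        have hX1 : ∀ n, MvPolynomial.coeff d ((MvPolynomial.X 1 : MvPolynomial (Fin 2) A) ^ n) = if 0 = i ∧ n = m - i then 1 else 0 := by
          intro n
          rw [MvPolynomial.X_pow_eq_monomial, MvPolynomial.coeff_monomial]
          refine if_congr ⟨fun e => ?_, fun e => ?_⟩ rfl rfl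
          · have e0 := DFunLike.congr_fun e 0
            have e1 := DFunLike.congr_fun e 1
            simp [h0, h1] at e0 e1
            exact ⟨by omega, e1⟩
          · ext j; fin_cases j <;> simp [h0, h1, ← e.1, e.2]
        simp only [hterm, hX0, hX1, mul_ite, mul_zero, mul_one] at h2
        rcases hi with ⟨hi0, him'⟩ | rfl
        · rw [Finset.sum_eq_zero (f := fun n => if n = i ∧ 0 = m - i then q.coeff n else 0) (fun n _ => if_neg (by omega)),
            Finset.sum_eq_zero (f := fun n => if 0 = i ∧ n = m - i then q.coeff n else 0) (fun n _ => if_neg (by omega)),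
            sub_zero, sub_zero] at h2
          by_cases hmq : m ≤ q.natDegree
          · rw [Finset.sum_eq_single m, Finset.sum_eq_single i, if_pos ⟨rfl, rfl⟩] at h2
            · exact h2
            · intro k _ hk; exact if_neg (by omega)
            · intro hk; exact absurd (Finset.mem_range.2 (by omega)) hk
            · intro n _ hn
              refine Finset.sum_eq_zero fun k hk => if_neg ?_
              have := Finset.mem_range.1 hk
              omega
            · intro hn; exact absurd (Finset.mem_range.2 (by omega)) hn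
          · rw [Polynomial.coeff_eq_zero_of_natDegree_lt (not_le.1 hmq), zero_mul]
        · obtain rfl : i = 0 := by omega
          simp only [Nat.sub_zero, true_and, and_true, eq_self_iff_true] at h2
          rw [Finset.sum_eq_single 0, Finset.sum_ite_eq', if_pos (Finset.mem_range.2 (Nat.succ_pos _))] at h2
          · simpa using h2
          · intro n _ hn
            refine Finset.sum_eq_zero fun k hk => if_neg ?_
            have := Finset.mem_range.1 hk
            omega
          · intro hn; exact absurd (Finset.mem_range.2 (Nat.succ_pos _)) hn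
      refine ⟨q.coeff 1, q.coeff p, Polynomial.ext fun m => ?_⟩
      have hp1 : p ≠ 1 := hp.ne_one
      simp only [Polynomial.coeff_add, Polynomial.coeff_C_mul, Polynomial.coeff_X, Polynomial.coeff_X_pow]
      by_cases hm1 : m = 1
      · subst hm1; simp [hp1.symm]
      by_cases hmp : m = p
      · subst hmp; simp [hp1.symm]
      rw [if_neg (Ne.symm hm1), if_neg hmp, mul_zero, mul_zero, add_zero]
      by_cases hm : m < p ^ 2
      swap
      · exact Polynomial.coeff_eq_zero_of_natDegree_lt (by omega)
      by_cases hm0 : m = 0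
      · subst hm0; simpa using hco 0 0 le_rfl hm (Or.inr rfl)
      have hunit : ∃ i, 0 < i ∧ i < m ∧ IsUnit (m.choose i : A) := by
        have cast_unit : ∀ x : ℕ, ¬ p ∣ x → IsUnit (x : A) := fun x hx =>
          (CharP.isUnit_natCast_iff (R := A) hp).2 hx
        have hdm : p * (m / p) + m % p = m := Nat.div_add_mod m p
        have hrp : m % p < p := Nat.mod_lt _ hp.pos
        have hkp : m / p < p := Nat.div_lt_of_lt_mul (by rwa [← sq])
        by_cases hk : m / p = 0
        · refine ⟨1, one_pos, by omega, ?_⟩
          rw [Nat.choose_one_right]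
          exact cast_unit m (Nat.not_dvd_of_pos_of_lt (by omega) (by by_contra hc; exact absurd (Nat.div_pos (not_lt.1 hc) hp.pos) (by omega)))
        by_cases hr : m % p = 0
        · have hk2 : 2 ≤ m / p := by
            rcases Nat.lt_or_ge (m / p) 2 with h | h
            · exfalso
              have : m / p = 1 := le_antisymm (Nat.lt_succ_iff.1 h) (Nat.pos_of_ne_zero hk)
              rw [this, hr, mul_one, add_zero] at hdm; exact hmp hdm.symm
            · exact h
          refine ⟨p, hp.pos, by nlinarith, cast_unit _ fun hd => ?_⟩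
          have h3 := @Choose.choose_modEq_choose_mod_mul_choose_div_nat m p p _
          rw [hr, Nat.mod_self, Nat.div_self hp.pos, Nat.choose_self, Nat.choose_one_right, one_mul] at h3
          have h4 : p ∣ m / p := Nat.modEq_zero_iff_dvd.1 (h3.symm.trans (Nat.modEq_zero_iff_dvd.2 hd))
          exact Nat.not_dvd_of_pos_of_lt (by omega) hkp h4
        · refine ⟨m % p, by omega, by nlinarith [Nat.pos_of_ne_zero hk, hp.pos], cast_unit _ fun hd => ?_⟩
          have h3 := @Choose.choose_modEq_choose_mod_mul_choose_div_nat m (m % p) p _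
          rw [Nat.mod_mod, Nat.div_eq_of_lt hrp, Nat.choose_self, Nat.choose_zero_right, one_mul] at h3
          exact Nat.not_dvd_of_pos_of_lt one_pos hp.one_lt (Nat.modEq_zero_iff_dvd.1 (h3.symm.trans (Nat.modEq_zero_iff_dvd.2 hd)))
      obtain ⟨i, hi0, him, hu⟩ := hunit
      exact hu.mul_left_eq_zero.1 (hco m i him.le hm (Or.inl ⟨hi0, him⟩))
    · rintro ⟨a₁, ap, rfl⟩
      convert Submodule.zero_mem _ using 1
      simp [add_pow_char, mul_add]
      ring
  · let mk := Ideal.Quotient.mkₐ A (Ideal.span ({X ^ p ^ 2} : Set A[X]))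
    let f : A[X] := Polynomial.C a₁ * X + Polynomial.C ap * X ^ p
    have hφq : ∀ q : A[X], φ (mk q) = mk (q.comp f) := by
      intro q
      have : φ.comp mk = mk.comp (Polynomial.aeval f) := Polynomial.algHom_ext (by simpa [mk, f] using hφ)
      simpa [Polynomial.comp_eq_aeval] using DFunLike.congr_fun this q
    constructor
    · intro hb
      obtain ⟨z, hz⟩ := hb.2 (mk X)
      obtain ⟨q, rfl⟩ := Ideal.Quotient.mkₐ_surjective A _ z
      rw [show (Ideal.Quotient.mkₐ A _) q = mk q from rfl, hφq] at hz
      have h1 : q.comp f - X ∈ Ideal.span ({X ^ p ^ 2} : Set A[X]) := Ideal.Quotient.eq.1 hz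
      obtain ⟨r, hr⟩ := Ideal.mem_span_singleton.1 h1
      have h2 := congrArg (fun u : A[X] => (Polynomial.derivative u).eval 0) hr
      have hp2 : 2 ≤ p ^ 2 := by nlinarith [hp.two_le]
      simp [Polynomial.derivative_comp, f, Polynomial.derivative_pow, zero_pow (show p ^ 2 - 1 ≠ 0 by omega),
        zero_pow (show p - 1 ≠ 0 by have := hp.two_le; omega), zero_pow hp.ne_zero, zero_pow (show p ^ 2 ≠ 0 by omega)] at h2
      exact IsUnit.of_mul_eq_one _ (sub_eq_zero.1 h2)
    · intro hu
      obtain ⟨b, hb⟩ := hu.exists_right_inv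
      let g : A[X] := Polynomial.C b * X + Polynomial.C (-(ap * b ^ p * b)) * X ^ p
      have hle : Ideal.span ({X ^ p ^ 2} : Set A[X]) ≤ RingHom.ker (mk.comp (Polynomial.aeval g)).toRingHom := by
        rw [Ideal.span_le, Set.singleton_subset_iff, SetLike.mem_coe, RingHom.mem_ker]
        show mk (Polynomial.aeval g (X ^ p ^ 2)) = 0
        refine Ideal.Quotient.eq_zero_iff_mem.2 (Ideal.mem_span_singleton.2 ?_)
        rw [Polynomial.aeval_X_pow]
        exact pow_dvd_pow_of_dvd (dvd_add (dvd_mul_left _ _) (Dvd.dvd.mul_left (dvd_pow_self X hp.ne_zero) _)) _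
      let ψ := Ideal.Quotient.liftₐ _ (mk.comp (Polynomial.aeval g)) (fun x hx => hle hx)
      have hmk : mk ((X : A[X]) ^ p ^ 2) = 0 := Ideal.Quotient.eq_zero_iff_mem.2 (Ideal.mem_span_singleton_self _)
      have hψ : ∀ q : A[X], ψ (mk q) = mk (q.comp g) := fun q => by
        simp [ψ, mk, Polynomial.comp_eq_aeval]
      have key : ∀ c cp d dp : A, c * d = 1 → c * dp + cp * d ^ p = 0 →
          mk ((Polynomial.C c * X + Polynomial.C cp * X ^ p).comp (Polynomial.C d * X + Polynomial.C dp * X ^ p)) = mk X := by
        intro c cp d dp h1 h2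
        have e : (Polynomial.C c * X + Polynomial.C cp * X ^ p).comp (Polynomial.C d * X + Polynomial.C dp * X ^ p) =
            Polynomial.C (c * d) * X + Polynomial.C (c * dp + cp * d ^ p) * X ^ p + Polynomial.C (cp * dp ^ p) * X ^ p ^ 2 := by
          simp [add_pow_char, mul_pow, ← pow_mul, sq]
          ring
        rw [e, h1, h2]
        simp only [map_add, map_mul, map_one, map_zero, one_mul, zero_mul, add_zero, hmk, mul_zero]
      refine Function.bijective_iff_has_inverse.2 ⟨ψ, fun z => ?_, fun z => ?_⟩
      · suffices ψ.comp φ = AlgHom.id A _ from DFunLike.congr_fun this z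
        refine Ideal.Quotient.algHom_ext A (Polynomial.algHom_ext ?_)
        show ψ (φ (mk X)) = mk X
        rw [hφq, hψ, X_comp]
        refine key _ _ _ _ hb ?_
        linear_combination (-(ap * b ^ p)) * hb
      · suffices φ.comp ψ = AlgHom.id A _ from DFunLike.congr_fun this z
        refine Ideal.Quotient.algHom_ext A (Polynomial.algHom_ext ?_)
        show φ (ψ (mk X)) = mk X
        rw [hψ, X_comp, hφq]
        refine key _ _ _ _ (by rw [mul_comm]; exact hb) ?_
        have hbp : b ^ p * a₁ ^ p = 1 := by rw [← mul_pow, mul_comm, hb, one_pow]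
        linear_combination (-(ap * b)) * hbp

end Groth.Agent.S13099
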