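import Groth.Statements.S13100
import Mathlib
-- import your own Groth.Agent.* helpers here

set_option autoImplicit false
universe u
open GrpSch

namespace Groth.Agent.S13100

/-- Let k be an algebraically closed field of characteristic different from 2 and K = k((t)) the field
of Laurent series over k. Then a non-zero Laurent series f is a square in K if and only if its order
in t is even; consequently the group Kˣ/Kˣ² of non-zero elements modulo squares has exactly two
elements, represented by 1 and t. -/
theorem result (k : Type u) [Field k] [IsAlgClosed k] (h2 : (2 : k) ≠ 0)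
    (f : LaurentSeries k) (hf : f ≠ 0) : IsSquare f ↔ Even f.order := by
  constructor
  · rintro ⟨g, rfl⟩
    have hg : g ≠ 0 := fun h => hf (by simp [h])
    rw [HahnSeries.order_mul hg hg]
    exact ⟨_, rfl⟩
  · rintro ⟨e, he⟩
    set q := f.powerSeriesPart with hq
    have hq0 : PowerSeries.constantCoeff q ≠ 0 := by
      rw [← PowerSeries.coeff_zero_eq_constantCoeff_apply, hq, LaurentSeries.powerSeriesPart_coeff,
        Nat.cast_zero, add_zero]
      exact HahnSeries.coeff_order_eq_zero.not.mpr hf
    obtain ⟨s, hs⟩ := IsAlgClosed.exists_eq_mul_self (PowerSeries.constantCoeff q)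
    have hs0 : s ≠ 0 := fun h => hq0 (by simp [hs, h])
    have hu : IsUnit (2 * PowerSeries.C s : PowerSeries k) := by
      rw [PowerSeries.isUnit_iff_constantCoeff]
      rw [map_mul, map_ofNat, PowerSeries.constantCoeff_C]
      exact (mul_ne_zero h2 hs0).isUnit
    obtain ⟨a, ha, -⟩ := HenselianRing.is_henselian
      (I := Ideal.span {(PowerSeries.X : PowerSeries k)})
      (Polynomial.X ^ 2 - Polynomial.C q) (Polynomial.monic_X_pow_sub_C q two_ne_zero)
      (PowerSeries.C s)
      (by
        rw [Ideal.mem_span_singleton, PowerSeries.X_dvd_iff]
        simp [hs, sq])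
      (by
        have : (Polynomial.X ^ 2 - Polynomial.C q : Polynomial (PowerSeries k)).derivative.eval
            (PowerSeries.C s) = 2 * PowerSeries.C s := by
          simp
          norm_num
        rw [this]
        exact hu.map _)
    have ha' : q = a * a := by
      have h := ha
      rw [Polynomial.IsRoot.def, Polynomial.eval_sub, Polynomial.eval_pow, Polynomial.eval_X,
        Polynomial.eval_C, sub_eq_zero] at h
      rw [← h, sq]
    refine ⟨HahnSeries.single e 1 * (a : LaurentSeries k), ?_⟩
    conv_lhs => rw [← f.single_order_mul_powerSeriesPart, ← hq, ha', map_mul, he]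
    rw [mul_mul_mul_comm, HahnSeries.single_mul_single, one_mul]

end Groth.Agent.S13100
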