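import Mathlib
import Groth.Statements.S13101
-- import your own Groth.Agent.* helpers here

set_option autoImplicit false
universe u v
open GrpSch

namespace Groth.Agent.S13101

/-- Let A be a commutative ring in which 2 is a unit, and L a Lie algebra over A, free as a module with
basis x = bs 0, y = bs 1, z = bs 2 and brackets [x,y] = y, [x,z] = y + z, [y,z] = 0. Then for every
Lie algebra automorphism φ of L over A there are b, c, h ∈ A and a unit i of A with φ(x) = x + b y +
c z, φ(y) = i y and φ(z) = h y + i z. Only the form of an automorphism is stated, not that every map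
of this form is one. (The published statement identifies the automorphism group scheme with a
semidirect product of two additive groups by the product of the multiplicative and additive group,
for algebras over a field of Laurent series of characteristic not 2, and deduces the vanishing of
its first cohomology; this row records the determination of the automorphisms, over any base ring
with 2 invertible; the cohomological consequence is not restated.) -/
theorem result (A : Type u) [CommRing A] (h2 : IsUnit (2 : A))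
    (L : Type v) [LieRing L] [LieAlgebra A L] (bs : Module.Basis (Fin 3) A L)
    (hxy : ⁅bs 0, bs 1⁆ = bs 1) (hxz : ⁅bs 0, bs 2⁆ = bs 1 + bs 2) (hyz : ⁅bs 1, bs 2⁆ = 0)
    (φ : L ≃ₗ⁅A⁆ L) :
    ∃ b c h i : A, IsUnit i ∧ φ (bs 0) = bs 0 + b • bs 1 + c • bs 2 ∧ φ (bs 1) = i • bs 1 ∧
      φ (bs 2) = h • bs 1 + i • bs 2 := by
  set x := bs 0
  set y := bs 1
  set z := bs 2
  have hrep : ∀ v : L, v = bs.repr v 0 • x + bs.repr v 1 • y + bs.repr v 2 • z := fun v => by
    conv_lhs => rw [← bs.sum_repr v, Fin.sum_univ_three]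
  have hyx : ⁅y, x⁆ = -y := by rw [← lie_skew, hxy]
  have hzx : ⁅z, x⁆ = -(y + z) := by rw [← lie_skew, hxz]
  have hzy : ⁅z, y⁆ = 0 := by rw [← lie_skew, hyz, neg_zero]
  have hbr : ∀ a b c a' b' c' : A, ⁅a • x + b • y + c • z, a' • x + b' • y + c' • z⁆ =
      (a * b' - b * a' + a * c' - c * a') • y + (a * c' - c * a') • z := by
    intro a b c a' b' c'
    simp only [lie_add, add_lie, lie_smul, smul_lie, lie_self, hxy, hxz, hyz, hyx, hzx, hzy, smul_zero]
    module
  have hcoord : ∀ a b c : A, bs.repr (a • x + b • y + c • z) 0 = a ∧ bs.repr (a • x + b • y + c • z) 1 = b ∧ bs.repr (a • x + b • y + c • z) 2 = c := by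
    intro a b c
    simp [x, y, z, Finsupp.single_apply]
  obtain ⟨a, b, c, hφx⟩ : ∃ a b c : A, φ x = a • x + b • y + c • z := ⟨_, _, _, hrep (φ x)⟩
  have hder : ∀ u v : L, ∃ p q : A, φ ⁅u, v⁆ = p • y + q • z := fun u v => by
    rw [LieEquiv.map_lie, hrep (φ u), hrep (φ v), hbr]
    exact ⟨_, _, rfl⟩
  obtain ⟨p, q, hφy⟩ := hder x y
  rw [hxy] at hφy
  obtain ⟨h, i, hφz⟩ : ∃ h i : A, φ z = h • y + i • z := by
    obtain ⟨p', q', h'⟩ := hder x z
    rw [hxz, map_add, hφy] at h'
    exact ⟨p' - p, q' - q, by rw [sub_smul, sub_smul, eq_sub_of_add_eq' h']; abel⟩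
  have e1 := congrArg φ hxy
  rw [LieEquiv.map_lie, hφx, hφy, show p • y + q • z = (0 : A) • x + p • y + q • z by simp, hbr] at e1
  have e1' : (a * p - b * 0 + a * q - c * 0) = p ∧ (a * q - c * 0) = q := by
    have h1 := congrArg (fun v => bs.repr v 1) e1
    have h2 := congrArg (fun v => bs.repr v 2) e1
    simp [x, y, z, Finsupp.single_apply] at h1 h2
    simp only [mul_zero, sub_zero]
    exact ⟨h1, h2⟩
  have e2 := congrArg φ hxz
  rw [LieEquiv.map_lie, map_add, hφx, hφy, hφz, show h • y + i • z = (0 : A) • x + h • y + i • z by simp, hbr] at e2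
  have e2' : (a * h + a * i) = p + h ∧ a * i = q + i := by
    have h1 := congrArg (fun v => bs.repr v 1) e2
    have h2 := congrArg (fun v => bs.repr v 2) e2
    simp [x, y, z, Finsupp.single_apply] at h1 h2
    exact ⟨h1, h2⟩
  obtain ⟨d, hd⟩ : ∃ d, d * (a * (p * i - q * h)) = 1 := by
    have hsurj : ∀ v : L, ∃ α β γ : A, v = (α * a) • x + (α * b + β * p + γ * h) • y + (α * c + β * q + γ * i) • z := by
      intro v
      refine ⟨bs.repr (φ.symm v) 0, bs.repr (φ.symm v) 1, bs.repr (φ.symm v) 2, ?_⟩
      conv_lhs => rw [← φ.apply_symm_apply v, hrep (φ.symm v)]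
      simp only [map_add, map_smul, hφx, hφy, hφz]
      module
    obtain ⟨α, β, γ, hx'⟩ := hsurj x
    obtain ⟨α₁, β₁, γ₁, hy'⟩ := hsurj y
    obtain ⟨α₂, β₂, γ₂, hz'⟩ := hsurj z
    have A0 := congrArg (fun v => bs.repr v 0) hx'
    have B0 := congrArg (fun v => bs.repr v 0) hy'
    have B1 := congrArg (fun v => bs.repr v 1) hy'
    have B2 := congrArg (fun v => bs.repr v 2) hy'
    have C0 := congrArg (fun v => bs.repr v 0) hz'
    have C1 := congrArg (fun v => bs.repr v 1) hz'
    have C2 := congrArg (fun v => bs.repr v 2) hz'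
    simp [x, y, z, Finsupp.single_apply] at A0 B0 B1 B2 C0 C1 C2
    have ha1 : α₁ = 0 := by linear_combination α₁ * A0 - α * B0
    have ha2 : α₂ = 0 := by linear_combination α₂ * A0 - α * C0
    subst ha1 ha2
    simp at B1 B2 C1 C2
    refine ⟨α * (β₁ * γ₂ - γ₁ * β₂), ?_⟩
    linear_combination (-1 : A) * A0 + (-(α * a) * (β₂ * q + γ₂ * i)) * B1 + (α * a * (β₂ * p + γ₂ * h)) * B2 + (0 : A) * C1 + (-(α * a)) * C2
  obtain ⟨e2a, e2b⟩ := e2'
  obtain ⟨e1a, e1b⟩ := e1'
  simp only [mul_zero, sub_zero] at e1a e1b
  have hq0 : (a - 1) * q = 0 := by linear_combination e1b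
  have hdet : a * (p * i - q * h) * d = 1 := by linear_combination hd
  have hp1 : (a - 1) * p = -q := by linear_combination e1a - e1b
  have hi1 : (a - 1) * i = q := by linear_combination e2b
  have hh1 : (a - 1) * h = p - a * i := by linear_combination e2a
  have hqs : q * p + q * i = 0 := by linear_combination i * hp1 - p * hi1
  have hqd : q * p - q * i = 0 := by linear_combination h * hq0 - q * hh1 + i * e1b
  have hqp : q * p = 0 := by
    have h22 : (2 : A) * (q * p) = 0 := by linear_combination hqs + hqd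
    exact (h2.mul_right_eq_zero).1 h22
  have ha : a = 1 := by
    have : (a - 1) * (a * (p * i - q * h)) = 0 := by linear_combination (a * p) * hi1 - (a * h) * hq0 + a * hqp
    linear_combination d * this - (a - 1) * hdet
  subst ha
  have hq : q = 0 := by linear_combination -hi1
  subst hq
  have hpi : p = i := by linear_combination -hh1
  subst hpi
  refine ⟨b, c, h, p, IsUnit.of_mul_eq_one (p * d) (by linear_combination hdet), ?_, ?_, hφz⟩
  · rw [hφx, one_smul]
  · rw [hφy, zero_smul, add_zero]

end Groth.Agent.S13101
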