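import Groth.Statements.S13102
import Mathlib
-- import your own Groth.Agent.* helpers here

set_option autoImplicit false
universe u v w
open GrpSch

namespace Groth.Agent.S13102

/-- Let K be a field, α ∈ K, A a commutative K-algebra and L a Lie algebra over A which is free as an
A-module with basis x = bs 0, y = bs 1, z = bs 2 and brackets [x,y] = y, [x,z] = α z, [y,z] = 0. If
α² ≠ 1 then every Lie algebra automorphism φ of L over A satisfies φ(x) = x + b y + c z, φ(y) = e y,
φ(z) = i z for some b, c ∈ A and units e, i of A. If α = 1 then every such φ satisfies φ(x) = x + b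
y + c z, φ(y) = e y + f z, φ(z) = h y + i z with e i − f h a unit of A. (The printed statement
identifies the automorphism group schemes with the corresponding semidirect products, treats also α
= −1 in characteristic not 2, and computes first cohomology over a field of Laurent series; those
clauses are not restated here.) -/
theorem result (K : Type u) [Field K] (α : K) (A : Type v) [CommRing A] [Algebra K A]
    (L : Type w) [LieRing L] [LieAlgebra A L] (bs : Module.Basis (Fin 3) A L)
    (hxy : ⁅bs 0, bs 1⁆ = bs 1) (hxz : ⁅bs 0, bs 2⁆ = algebraMap K A α • bs 2) (hyz : ⁅bs 1, bs 2⁆ = 0)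
    (φ : L ≃ₗ⁅A⁆ L) :
    (α ^ 2 ≠ 1 → ∃ b c e i : A, IsUnit e ∧ IsUnit i ∧ φ (bs 0) = bs 0 + b • bs 1 + c • bs 2 ∧
        φ (bs 1) = e • bs 1 ∧ φ (bs 2) = i • bs 2) ∧
    (α = 1 → ∃ b c e f h i : A, IsUnit (e * i - f * h) ∧ φ (bs 0) = bs 0 + b • bs 1 + c • bs 2 ∧
        φ (bs 1) = e • bs 1 + f • bs 2 ∧ φ (bs 2) = h • bs 1 + i • bs 2) := by
  classical
  set al := algebraMap K A α with hal
  let m : Fin 3 → Fin 3 → A := fun r c => bs.repr (φ (bs c)) r
  have hexp : ∀ c, φ (bs c) = m 0 c • bs 0 + m 1 c • bs 1 + m 2 c • bs 2 := fun c => by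
    conv_lhs => rw [← bs.sum_repr (φ (bs c)), Fin.sum_univ_three]
  have hbr : ∀ a b c p e f : A, ⁅a • bs 0 + b • bs 1 + c • bs 2, p • bs 0 + e • bs 1 + f • bs 2⁆ =
      (a * e - b * p) • bs 1 + (al * (a * f - c * p)) • bs 2 := fun a b c p e f => by
    have h10 : ⁅bs 1, bs 0⁆ = -bs 1 := by rw [← lie_skew, hxy]
    have h20 : ⁅bs 2, bs 0⁆ = -(al • bs 2) := by rw [← lie_skew, hxz]
    have h21 : ⁅bs 2, bs 1⁆ = 0 := by rw [← lie_skew, hyz, neg_zero]
    simp only [add_lie, lie_add, smul_lie, lie_smul, lie_self, hxy, hxz, hyz, h10, h20, h21, smul_zero,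
      smul_neg, smul_smul]
    module
  have coe : ∀ (u v w u' v' w' : A), u • bs 0 + v • bs 1 + w • bs 2 = u' • bs 0 + v' • bs 1 + w' • bs 2 →
      u = u' ∧ v = v' ∧ w = w' := fun u v w u' v' w' h => by
    have h0 := congrArg (fun t => bs.repr t 0) h
    have h1 := congrArg (fun t => bs.repr t 1) h
    have h2 := congrArg (fun t => bs.repr t 2) h
    simp [map_add, map_smul, Finsupp.single_apply] at h0 h1 h2
    exact ⟨h0, h1, h2⟩
  have hy := congrArg φ hxy
  have hz := congrArg φ hxz
  have h0 := congrArg φ hyz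
  rw [LieEquiv.map_lie, hexp, hexp, hbr] at hy
  rw [LieEquiv.map_lie, show φ (al • bs 2) = al • φ (bs 2) from φ.toLinearEquiv.map_smul _ _, hexp, hexp, hbr, smul_add, smul_add, smul_smul, smul_smul, smul_smul] at hz
  rw [LieEquiv.map_lie, map_zero, hexp, hexp, hbr] at h0
  have pad : ∀ v w : A, (0 : A) • bs 0 + v • bs 1 + w • bs 2 = v • bs 1 + w • bs 2 := fun v w => by
    rw [zero_smul, zero_add]
  obtain ⟨hp, he, hf⟩ := coe 0 _ _ _ _ _ ((pad _ _).trans hy)
  obtain ⟨hg0, hh, hi⟩ := coe 0 _ _ _ _ _ ((pad _ _).trans hz)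
  obtain ⟨-, heg, hfg⟩ := coe 0 _ _ 0 0 0 (((pad _ _).trans h0).trans (by simp))
  have hdet : IsUnit (LinearMap.toMatrix bs bs φ.toLinearEquiv.toLinearMap).det :=
    LinearEquiv.isUnit_det φ.toLinearEquiv bs bs
  have hM : ∀ r c, LinearMap.toMatrix bs bs φ.toLinearEquiv.toLinearMap r c = m r c := fun r c => by
    rw [LinearMap.toMatrix_apply]; rfl
  rw [Matrix.det_fin_three] at hdet
  simp only [hM] at hdet
  have hx0 := hexp 0
  have hx1 := hexp 1
  have hx2 := hexp 2
  generalize m 0 0 = a, m 1 0 = b, m 2 0 = c, m 0 1 = p, m 1 1 = e, m 2 1 = f, m 0 2 = g, m 1 2 = h, m 2 2 = i at *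
  obtain rfl : p = 0 := hp.symm
  have hfg' : f * g = 0 := by linear_combination (-g) * hf - a * hfg
  have heg' : e * g = 0 := by linear_combination -heg
  have hg : g = 0 := by
    refine hdet.mul_left_eq_zero.1 ?_
    linear_combination (a * i) * heg' + (-(a * h)) * hfg' + (g * b) * hfg'
      - (g * c) * heg'
  subst hg
  have hu : IsUnit (a * (e * i - f * h)) := by convert hdet using 1; ring
  obtain ⟨hua, huD⟩ := IsUnit.mul_iff.1 hu
  constructor
  · intro hα
    have hne : IsUnit (1 - al * al) := by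
      rw [show 1 - al * al = algebraMap K A (1 - α ^ 2) by rw [map_sub, map_one, map_pow, hal]; ring]
      exact (IsUnit.mk0 _ (sub_ne_zero.2 (Ne.symm hα))).map _
    have hfh : f * h = 0 := hne.mul_right_eq_zero.1 (by linear_combination (-h) * hf + (al * f) * hh)
    have hei : IsUnit (e * i) := by
      rwa [show e * i - f * h = e * i by rw [hfh, sub_zero]] at huD
    obtain ⟨hue, hui⟩ := IsUnit.mul_iff.1 hei
    have ha : a = 1 := sub_eq_zero.1 (hue.mul_left_eq_zero.1 (by linear_combination he))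
    have h1 : IsUnit (1 - al) := by
      rw [show 1 - al = algebraMap K A (1 - α) by rw [map_sub, map_one]]
      exact (IsUnit.mk0 _ (sub_ne_zero.2 fun h1 => hα (by rw [← h1]; ring))).map _
    subst ha
    have hf0 : f = 0 := h1.mul_right_eq_zero.1 (by linear_combination (-1 : A) * hf)
    have hh0 : h = 0 := h1.mul_right_eq_zero.1 (by linear_combination hh)
    exact ⟨b, c, e, i, hue, hui, by simpa using hx0, by simpa [hf0] using hx1, by simpa [hh0] using hx2⟩
  · rintro rfl
    have ha : a = 1 := sub_eq_zero.1 (huD.mul_left_eq_zero.1 (by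
      have hal1 : al = 1 := map_one _
      linear_combination (i * he) - (h * hf) + (h * a * f) * hal1))
    subst ha
    exact ⟨b, c, e, f, h, i, huD, by simpa using hx0, by simpa using hx1, by simpa using hx2⟩

end Groth.Agent.S13102
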