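import Groth.Statements.S13104
import Mathlib.AlgebraicGeometry.AffineScheme
import Mathlib.AlgebraicGeometry.Gluing
import Mathlib.AlgebraicGeometry.Cover.Open
import Mathlib.RingTheory.Localization.Away.Basic
import Mathlib.Algebra.DualNumber

set_option autoImplicit false
universe u
open GrpSch

namespace Groth.Agent.S13104

section
open CategoryTheory AlgebraicGeometry

/-- An injective ring map which is surjective on spectra gives an epimorphism of schemes. -/
theorem cancel_specMap {R S : Type u} [CommRing R] [CommRing S] (φ : R →+* S) (hinj : Function.Injective φ)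
    (hsurj : Function.Surjective (PrimeSpectrum.comap φ)) {G : Scheme.{u}}
    (a b : Spec (CommRingCat.of R) ⟶ G)
    (h : Spec.map (CommRingCat.ofHom φ) ≫ a = Spec.map (CommRingCat.ofHom φ) ≫ b) : a = b := by
  have hbase : ∀ x, a x = b x := fun x => by
    obtain ⟨y, rfl⟩ := hsurj x
    have := congrArg (fun k => k y) h
    exact this
  have hloc : ∀ x : PrimeSpectrum R, ∃ (U : G.Opens) (r : R), IsAffineOpen U ∧ r ∉ x.asIdeal ∧
      ∀ z, r ∉ z.asIdeal → a z ∈ U := fun x => by
    obtain ⟨U, hU, hxU, -⟩ := exists_isAffineOpen_mem_and_subset (X := G) (x := a x) (U := ⊤) trivial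
    obtain ⟨_, ⟨r, rfl⟩, hxr, hle⟩ := PrimeSpectrum.isTopologicalBasis_basic_opens.exists_subset_of_mem_open
      (u := (fun z : PrimeSpectrum R => a z) ⁻¹' (U : Set G)) hxU (U.isOpen.preimage a.continuous)
    exact ⟨U, r, hU, hxr, fun z hz => hle hz⟩
  choose U r hU hr hle using hloc
  have hspan : Ideal.span (Set.range r) = ⊤ := by
    by_contra hne
    obtain ⟨m, hm, hle'⟩ := Ideal.exists_le_maximal _ hne
    exact hr ⟨m, hm.isPrime⟩ (hle' (Ideal.subset_span ⟨_, rfl⟩))
  refine Scheme.Cover.hom_ext (Scheme.affineOpenCoverOfSpanRangeEqTop (R := CommRingCat.of R) r hspan).openCover _ _ fun i => ?_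
  let ι := Spec.map (CommRingCat.ofHom (algebraMap R (Localization.Away (r i))))
  show ι ≫ a = ι ≫ b
  have hι : ∀ w, r i ∉ (ι w).asIdeal := fun w hw => by
    exact w.2.ne_top (Ideal.eq_top_of_isUnit_mem _ hw (IsLocalization.Away.algebraMap_isUnit (r i)))
  have hra : Set.range (ι ≫ a) ⊆ Set.range (U i).ι := by
    rintro _ ⟨w, rfl⟩
    rw [Scheme.Opens.range_ι]
    exact hle i _ (hι w)
  have hrb : Set.range (ι ≫ b) ⊆ Set.range (U i).ι := by
    rintro _ ⟨w, rfl⟩
    rw [Scheme.Opens.range_ι, Scheme.Hom.comp_apply, ← hbase]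
    exact hle i _ (hι w)
  obtain ⟨α, hα⟩ := Spec.map_surjective (IsOpenImmersion.lift (U i).ι (ι ≫ a) hra ≫ (hU i).isoSpec.hom)
  obtain ⟨β, hβ⟩ := Spec.map_surjective (IsOpenImmersion.lift (U i).ι (ι ≫ b) hrb ≫ (hU i).isoSpec.hom)
  have hea : Spec.map α ≫ (hU i).isoSpec.inv ≫ (U i).ι = ι ≫ a := by
    rw [hα, Category.assoc, Iso.hom_inv_id_assoc, IsOpenImmersion.lift_fac]
  have heb : Spec.map β ≫ (hU i).isoSpec.inv ≫ (U i).ι = ι ≫ b := by
    rw [hβ, Category.assoc, Iso.hom_inv_id_assoc, IsOpenImmersion.lift_fac]
  let ψ := CommRingCat.ofHom (Localization.awayMap φ (r i))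
  have hψ : Spec.map ψ ≫ ι =
      Spec.map (CommRingCat.ofHom (algebraMap S (Localization.Away (φ (r i))))) ≫ Spec.map (CommRingCat.ofHom φ) := by
    rw [← Spec.map_comp, ← Spec.map_comp]
    congr 1
    ext z
    simp [ψ, Localization.awayMap, IsLocalization.Away.map]
  have key : α ≫ ψ = β ≫ ψ := by
    apply Spec.map_injective
    rw [Spec.map_comp, Spec.map_comp, ← cancel_mono ((hU i).isoSpec.inv ≫ (U i).ι), Category.assoc, Category.assoc,
      hea, heb, ← Category.assoc, ← Category.assoc, hψ, Category.assoc, Category.assoc, h]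
  have hψinj : Function.Injective (Localization.awayMap φ (r i)) := by
    have : IsLocalization ((Submonoid.powers (r i)).map φ) (Localization.Away (φ (r i))) := by
      rw [Submonoid.map_powers]; infer_instance
    exact IsLocalization.map_injective_of_injective _ _ _ hinj
  rw [← hea, ← heb, show α = β from CommRingCat.hom_ext (RingHom.ext fun z => hψinj (congrArg (fun k => k.hom z) key))]

end

open CategoryTheory AlgebraicGeometry in
/-- Let B be a commutative ring, B[ε] the ring of dual numbers (ε² = 0) and B[α, β]/(α², β²) the double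
dual numbers, realised as dual numbers over the dual numbers with α the inner and β the outer
generator, and let ψ : B[ε] → B[α, β]/(α², β²) be the B-algebra homomorphism with ψ(ε) = αβ. Then
for every scheme G the map u ↦ Spec(ψ) ≫ u from morphisms Spec B[ε] → G to morphisms Spec
B[α,β]/(α²,β²) → G is injective. (The printed statement is its consequence for a group scheme G: the
map Lie(G)(B) → G(B[α,β]/(α²,β²)), x ↦ exp(αβ x), is injective; the injectivity on all B[ε]-points
stated here is what the printed argument establishes.) -/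
theorem result (B : Type u) [CommRing B]
    (ψ : DualNumber B →+* DualNumber (DualNumber B))
    (hψB : ∀ b : B, ψ (algebraMap B (DualNumber B) b) = algebraMap B (DualNumber (DualNumber B)) b)
    (hψ : ψ DualNumber.eps = algebraMap (DualNumber B) (DualNumber (DualNumber B)) DualNumber.eps * DualNumber.eps)
    (G : Scheme.{u}) :
    Function.Injective (fun u : Spec (CommRingCat.of (DualNumber B)) ⟶ G =>
      Spec.map (CommRingCat.ofHom (R := DualNumber B) (S := DualNumber (DualNumber B)) ψ) ≫ u) := by
  have hdec : ∀ z : DualNumber B, z = algebraMap B (DualNumber B) z.fst + algebraMap B (DualNumber B) z.snd * DualNumber.eps := fun z => by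
    ext <;> simp [TrivSqZeroExt.algebraMap_eq_inl]
  have hψz : ∀ z : DualNumber B, ψ z = algebraMap B _ z.fst +
      algebraMap B _ z.snd * (algebraMap (DualNumber B) (DualNumber (DualNumber B)) DualNumber.eps * DualNumber.eps) := fun z => by
    conv_lhs => rw [hdec z, map_add, map_mul, hψB, hψB, hψ]
  have h1 : ∀ z : DualNumber B, (ψ z).fst.fst = z.fst := fun z => by
    rw [hψz, IsScalarTower.algebraMap_apply B (DualNumber B) (DualNumber (DualNumber B)),
      IsScalarTower.algebraMap_apply B (DualNumber B) (DualNumber (DualNumber B))]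
    simp [TrivSqZeroExt.algebraMap_eq_inl]
  have h2 : ∀ z : DualNumber B, (ψ z).snd.snd = z.snd := fun z => by
    rw [hψz, IsScalarTower.algebraMap_apply B (DualNumber B) (DualNumber (DualNumber B)),
      IsScalarTower.algebraMap_apply B (DualNumber B) (DualNumber (DualNumber B))]
    simp [TrivSqZeroExt.algebraMap_eq_inl]
  have hinj : Function.Injective ψ := fun z w h => by
    ext
    · rw [← h1, h, h1]
    · rw [← h2, h, h2]
  have hsurj : Function.Surjective (PrimeSpectrum.comap (R := DualNumber B) (S := DualNumber (DualNumber B)) ψ) := by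
    intro p
    let p' := PrimeSpectrum.comap (algebraMap B (DualNumber B)) p
    let F : DualNumber (DualNumber B) →+* B :=
      (TrivSqZeroExt.fstHom B B B).toRingHom.comp (TrivSqZeroExt.fstHom (DualNumber B) (DualNumber B) (DualNumber B)).toRingHom
    refine ⟨PrimeSpectrum.comap F p', ?_⟩
    ext z
    show algebraMap B (DualNumber B) (ψ z).fst.fst ∈ p.asIdeal ↔ z ∈ p.asIdeal
    rw [h1]
    have heps : (DualNumber.eps : DualNumber B) ∈ p.asIdeal :=
      (p.2.mem_or_mem (by rw [DualNumber.eps_mul_eps]; exact p.asIdeal.zero_mem)).elim id id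
    conv_rhs => rw [hdec z, Ideal.add_mem_iff_left _ (p.asIdeal.mul_mem_left _ heps)]
  intro a b h
  exact cancel_specMap (R := DualNumber B) (S := DualNumber (DualNumber B)) ψ hinj hsurj a b (by exact h)

end Groth.Agent.S13104
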