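import Groth.Statements.S13105
import Groth.Agent.Lie3Mod.Main
import Mathlib.RingTheory.RegularLocalRing.Polynomial
import Mathlib.RingTheory.KrullDimension.Polynomial
import Mathlib.RingTheory.Ideal.Height
import Mathlib.Tactic.FieldSimp

set_option autoImplicit false
universe u
open Lie3Mod

namespace Groth.Agent.S13105

open MvPolynomial IsLocalization

variable {k : Type u} [Field k]

/-- the point in nine coordinates -/
noncomputable def pt9 (t : k) : Fin 9 → k := ![0, 1, 0, 0, 0, t, 0, 0, 0]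
/-- the point in the six free coordinates a, b, c, e, f, h -/
noncomputable def pt6 (t : k) : Fin 6 → k := ![0, 1, 0, 0, t, 0]

/-- evaluation at the point -/
noncomputable abbrev ev9 (t : k) : D k →+* k := eval (pt9 t)
/-- evaluation at the point -/
noncomputable abbrev ev6 (t : k) : MvPolynomial (Fin 6) k →+* k := eval (pt6 t)

lemma ker_ev9 (t : k) :
    Ideal.span ({X 0, X 1 - 1, X 2, X 3, X 4, X 5 - C t, X 6, X 7, X 8} : Set (D k))
      = RingHom.ker (ev9 t) := by
  refine le_antisymm ?_ fun f hf => ?_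
  · rw [Ideal.span_le]
    intro x hx
    simp only [Set.mem_insert_iff, Set.mem_singleton_iff] at hx
    rcases hx with rfl | rfl | rfl | rfl | rfl | rfl | rfl | rfl | rfl <;>
      simp [ev9, pt9, RingHom.mem_ker]
  · suffices h : ∀ p : D k, p - C (ev9 t p) ∈
        Ideal.span ({X 0, X 1 - 1, X 2, X 3, X 4, X 5 - C t, X 6, X 7, X 8} : Set (D k)) by
      have h' := h f
      rwa [RingHom.mem_ker.1 hf, C_0, sub_zero] at h'
    intro p
    induction p using MvPolynomial.induction_on with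
    | C r => simp [ev9]
    | add p q hp hq =>
      convert add_mem hp hq using 1
      rw [map_add, C_add]; ring
    | mul_X p j hp =>
      have hj : X j - C (pt9 t j) ∈
          Ideal.span ({X 0, X 1 - 1, X 2, X 3, X 4, X 5 - C t, X 6, X 7, X 8} : Set (D k)) := by
        refine Ideal.subset_span ?_
        fin_cases j <;> simp [pt9]
      convert add_mem (Ideal.mul_mem_right (X j) _ hp) (Ideal.mul_mem_left _ (C (ev9 t p)) hj)
        using 1
      simp only [map_mul, ev9, eval_X]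
      ring

instance (t : k) : (RingHom.ker (ev6 t)).IsPrime := RingHom.ker_isPrime _

/-- the model: the local ring of affine six-space at the point -/
abbrev T (t : k) : Type u := Localization.AtPrime (RingHom.ker (ev6 t))

lemma height_ker (t : k) : (RingHom.ker (ev6 t)).height = 6 := by
  let φ : ℕ → MvPolynomial (Fin 6) k →+* MvPolynomial (Fin 6) k := fun i =>
    eval₂Hom C fun j => if (j : ℕ) < i then C (pt6 t j) else X j
  have hker : ∀ i, (RingHom.ker (φ i)).IsPrime := fun i => RingHom.ker_isPrime _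
  have hcomp : ∀ i, (φ (i+1)).comp (φ i) = φ (i+1) := by
    intro i
    apply MvPolynomial.ringHom_ext
    · intro r; simp [φ]
    · intro j
      by_cases h : (j : ℕ) < i
      · have h' : (j : ℕ) < i + 1 := h.trans (Nat.lt_succ_self i)
        simp [φ, h]
        intro hij; exfalso; omega
      · simp [φ, h]
  have hmono : ∀ i : ℕ, i < 6 → RingHom.ker (φ i) < RingHom.ker (φ (i+1)) := by
    intro i hi
    refine lt_of_le_of_ne (fun x hx => ?_) fun he => ?_
    · rw [RingHom.mem_ker] at hx ⊢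
      rw [← hcomp i, RingHom.comp_apply, hx, map_zero]
    · have h1 : (X ⟨i, hi⟩ - C (pt6 t ⟨i, hi⟩) : MvPolynomial (Fin 6) k) ∈ RingHom.ker (φ (i+1)) := by
        simp [φ, RingHom.mem_ker]
      rw [← he, RingHom.mem_ker] at h1
      have h2 : φ i (X ⟨i, hi⟩ - C (pt6 t ⟨i, hi⟩)) = X ⟨i, hi⟩ - C (pt6 t ⟨i, hi⟩) := by simp [φ]
      rw [h2] at h1
      have h3 := congrArg (coeff (Finsupp.single (⟨i, hi⟩ : Fin 6) 1)) h1
      simp [coeff_C, coeff_X, Finsupp.single_eq_zero, eq_comm] at h3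
  have hle : ∀ i : ℕ, i ≤ 6 → (i : ℕ∞) ≤ (RingHom.ker (φ i)).height := by
    intro i
    induction i with
    | zero => simp
    | succ n ih =>
      intro hn
      have := hker n
      have := hker (n+1)
      calc ((n+1 : ℕ) : ℕ∞) = (n : ℕ∞) + 1 := by push_cast; rfl
        _ ≤ (RingHom.ker (φ n)).height + 1 := by gcongr; exact ih (by omega)
        _ ≤ _ := Ideal.height_add_one_le_of_lt_of_isPrime (hmono n (by omega))
  have hsub : RingHom.ker (φ 6) ≤ RingHom.ker (ev6 t) := by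
    intro x hx
    have : (ev6 t).comp (φ 6) = ev6 t := by
      apply MvPolynomial.ringHom_ext
      · intro r; simp [φ, ev6]
      · intro j; simp [φ, ev6, j.isLt]
    rw [RingHom.mem_ker] at hx ⊢
    rw [← this, RingHom.comp_apply, hx, map_zero]
  refine le_antisymm ?_ ((show (6 : ℕ∞) ≤ _ from hle 6 le_rfl).trans (Ideal.height_mono hsub))
  have h := Ideal.height_le_ringKrullDim_of_isPrime (I := RingHom.ker (ev6 t))
  rw [MvPolynomial.ringKrullDim_of_isNoetherianRing, ringKrullDim_eq_zero_of_field,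
    Nat.card_fin, zero_add] at h
  exact WithBot.coe_le_coe.1 h

/-- the three eliminated coordinates are determined by the six others -/
lemma determined {S : Type*} [CommRing S] (a b c e f h d g i d' g' i' : S)
    (p2 : i * e + b * d - f * h - a * e = 0) (p3 : h * c + d * c - a * f - b * i = 0)
    (pG : -(c * h ^ 2) + g * b * f + e * i ^ 2 - g * e * c + h * b * i - i * h * f
      + (a * h + d * i - f * g - b * g) = 0)
    (ei : i' * (b * b + c * e) = b * h * c + c * f * h + a * c * e - a * b * f)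
    (ed : d' * b = f * h + a * e - i' * e)
    (eg : g' * (f + b - b * f + e * c)
      = -(c * h * h) + e * i' * i' + h * b * i' - i' * h * f + a * h + d' * i')
    (u1 : IsUnit (b * b + c * e)) (u2 : IsUnit b) (u3 : IsUnit (f + b - b * f + e * c)) :
    i' = i ∧ d' = d ∧ g' = g := by
  have ri : i' = i := u1.mul_right_cancel (by linear_combination ei + b * p3 - c * p2)
  subst ri
  have rd : d' = d := u2.mul_right_cancel (by linear_combination ed - p2)
  subst rd
  exact ⟨rfl, rfl, u3.mul_right_cancel (by linear_combination eg + pG)⟩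

lemma isUnit_iff_ev (t : k) : ∃ e : T t →+* k,
    e.comp (algebraMap (MvPolynomial (Fin 6) k) (T t)) = ev6 t ∧ ∀ x, IsUnit x ↔ e x ≠ 0 := by
  have hu : ∀ y : (RingHom.ker (ev6 t)).primeCompl, IsUnit (ev6 t (y : MvPolynomial (Fin 6) k)) :=
    fun y => isUnit_iff_ne_zero.2 y.2
  refine ⟨IsLocalization.lift hu, IsLocalization.lift_comp hu, fun x => ?_⟩
  have hsurj : Function.Surjective (IsLocalization.lift hu : T t →+* k) := fun c =>
    ⟨algebraMap (MvPolynomial (Fin 6) k) (T t) (C c), by simp [IsLocalization.lift_eq, ev6]⟩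
  rw [ne_eq, ← RingHom.mem_ker, IsLocalRing.ker_eq_maximalIdeal _ hsurj,
    IsLocalRing.mem_maximalIdeal, mem_nonunits_iff, not_not]


set_option maxHeartbeats 1600000 in
open MvPolynomial in
/-- Let k be a field, t ∈ k, D = k[a,b,c,d,e,f,g,h,i] and J = (Q1, Q2, Q3, det M) with Q1 = ah + di − fg
− bg, Q2 = ie + bd − fh − ae, Q3 = hc + dc − af − bi, det M = −ch² + gbf + ei² − gec + hbi − ihf.
The maximal ideal (a, b − 1, c, d, e, f − t, g, h, i) of D contains J (it is the point given by the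
Lie algebra with [x,y] = y, [x,z] = t z, [y,z] = 0), and the localization of D/J at the
corresponding prime is a regular local ring of Krull dimension 6: the scheme Spec(D/J) has a smooth
k-rational point. -/
theorem result (k : Type u) [Field k] (t : k)
    (P : Ideal (Lie3Mod.D k ⧸ Lie3Mod.idJ k)) [P.IsPrime]
    (hP : P = Ideal.map (Ideal.Quotient.mk (Lie3Mod.idJ k))
      (Ideal.span ({X 0, X 1 - 1, X 2, X 3, X 4, X 5 - C t, X 6, X 7, X 8} : Set (Lie3Mod.D k)))) :
    IsRegularLocalRing (Localization.AtPrime P) ∧ ringKrullDim (Localization.AtPrime P) = 6 := by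
  haveI : P.IsPrime := ‹_›
  obtain ⟨evT, hevT, hunitT⟩ := isUnit_iff_ev t
  let ι := algebraMap (MvPolynomial (Fin 6) k) (T t)
  have hι : ∀ x, evT (ι x) = ev6 t x := fun x => RingHom.congr_fun hevT x
  -- denominators
  obtain ⟨δ, hδ⟩ := ((hunitT (ι (X 1 * X 1 + X 2 * X 3))).2 (by simp [hι, ev6, pt6])).exists_left_inv
  obtain ⟨β, hβ⟩ := ((hunitT (ι (X 1))).2 (by simp [hι, ev6, pt6])).exists_left_inv
  obtain ⟨γ, hγ⟩ := ((hunitT (ι (X 4 + X 1 - X 1 * X 4 + X 3 * X 2))).2
    (by simp [hι, ev6, pt6])).exists_left_inv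
  let ti : T t := δ * ι (X 1 * X 5 * X 2 + X 2 * X 4 * X 5 + X 0 * X 2 * X 3 - X 0 * X 1 * X 4)
  let td : T t := β * (ι (X 4 * X 5 + X 0 * X 3) - ti * ι (X 3))
  let tg : T t := γ * (-(ι (X 2) * ι (X 5) * ι (X 5)) + ι (X 3) * ti * ti + ι (X 5) * ι (X 1) * ti
    - ti * ι (X 5) * ι (X 4) + ι (X 0) * ι (X 5) + td * ti)
  let θ : D k →+* T t := eval₂Hom (ι.comp C)
    ![ι (X 0), ι (X 1), ι (X 2), td, ι (X 3), ι (X 4), tg, ι (X 5), ti]
  have hθ0 : θ (X 0) = ι (X 0) := by simp [θ]
  have hθ1 : θ (X 1) = ι (X 1) := by simp [θ]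
  have hθ2 : θ (X 2) = ι (X 2) := by simp [θ]
  have hθ3 : θ (X 3) = td := by simp [θ]
  have hθ4 : θ (X 4) = ι (X 3) := by simp [θ]
  have hθ5 : θ (X 5) = ι (X 4) := by simp [θ]
  have hθ6 : θ (X 6) = tg := by simp [θ]
  have hθ7 : θ (X 7) = ι (X 5) := by simp [θ]
  have hθ8 : θ (X 8) = ti := by simp [θ]
  simp only [map_add, map_mul, map_sub] at hδ hγ
  have ei : ti * (ι (X 1) * ι (X 1) + ι (X 2) * ι (X 3)) = ι (X 1) * ι (X 5) * ι (X 2)
      + ι (X 2) * ι (X 4) * ι (X 5) + ι (X 0) * ι (X 2) * ι (X 3) - ι (X 0) * ι (X 1) * ι (X 4) := by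
    simp only [ti, map_add, map_mul, map_sub]
    linear_combination (ι (X 1) * ι (X 5) * ι (X 2) + ι (X 2) * ι (X 4) * ι (X 5)
      + ι (X 0) * ι (X 2) * ι (X 3) - ι (X 0) * ι (X 1) * ι (X 4)) * hδ
  have ed : td * ι (X 1) = ι (X 4) * ι (X 5) + ι (X 0) * ι (X 3) - ti * ι (X 3) := by
    simp only [td, map_add, map_mul]
    linear_combination (ι (X 4) * ι (X 5) + ι (X 0) * ι (X 3) - ti * ι (X 3)) * hβ
  have eg : tg * (ι (X 4) + ι (X 1) - ι (X 1) * ι (X 4) + ι (X 3) * ι (X 2))
      = -(ι (X 2) * ι (X 5) * ι (X 5)) + ι (X 3) * ti * ti + ι (X 5) * ι (X 1) * ti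
        - ti * ι (X 5) * ι (X 4) + ι (X 0) * ι (X 5) + td * ti := by
    simp only [tg]
    linear_combination (-(ι (X 2) * ι (X 5) * ι (X 5)) + ι (X 3) * ti * ti
      + ι (X 5) * ι (X 1) * ti - ti * ι (X 5) * ι (X 4) + ι (X 0) * ι (X 5) + td * ti) * hγ
  have hQ2 : θ (Q2 k) = 0 := by
    simp only [Q2, va, vb, vd, ve, vf, vh, vi, map_sub, map_add, map_mul, hθ0, hθ1, hθ3, hθ4,
      hθ5, hθ7, hθ8]
    linear_combination ed
  have hQ3 : θ (Q3 k) = 0 := by
    have hu : IsUnit (ι (X 1)) := (hunitT _).2 (by simp [hι, ev6, pt6])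
    refine (hu.mul_right_eq_zero).1 ?_
    simp only [Q3, va, vb, vc, vd, vf, vh, vi, map_sub, map_add, map_mul, hθ0, hθ1, hθ2, hθ3,
      hθ5, hθ7, hθ8]
    linear_combination ι (X 2) * ed - ei
  have hG : θ (detM k) + θ (Q1 k) = 0 := by
    simp only [detM, Q1, va, vb, vc, vd, ve, vf, vg, vh, vi, map_sub, map_add, map_neg, map_mul,
      map_pow, hθ0, hθ1, hθ2, hθ3, hθ4, hθ5, hθ6, hθ7, hθ8]
    linear_combination -eg
  have hQ1 : θ (Q1 k) = 0 := by
    have hid : detM k * L2 k = (ve * vc - vb * vf) * Q1 k + (vh * vc + vi * vf) * Q2 k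
        - (vh * vb + ve * vi) * Q3 k := by
      simp only [detM, L2, Q1, Q2, Q3]; ring
    have h := congrArg θ hid
    rw [map_sub, map_add, map_mul, map_mul, map_mul, map_mul, hQ2, hQ3, mul_zero, mul_zero,
      add_zero, sub_zero] at h
    have hu : IsUnit (ι (X 3) * ι (X 2) - ι (X 1) * ι (X 4) + (ι (X 1) + ι (X 4))) :=
      (hunitT _).2 (by simp [hι, ev6, pt6])
    refine (hu.mul_right_eq_zero).1 ?_
    simp only [L2, ve, vc, vb, vf, map_sub, map_add, map_mul, hθ1, hθ2, hθ4, hθ5] at h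
    linear_combination -h + (ι (X 1) + ι (X 4)) * hG
  have hdet : θ (detM k) = 0 := by rw [hQ1, add_zero] at hG; exact hG
  have hθJ : ∀ x ∈ idJ k, θ x = 0 := by
    intro x hx
    refine (?_ : idJ k ≤ RingHom.ker θ) hx
    rw [idJ, Ideal.span_le]
    rintro y (rfl | rfl | rfl | rfl)
    exacts [hQ1, hQ2, hQ3, hdet]
  -- the point
  have hevθ : evT.comp θ = ev9 t := by
    have e0 : ∀ x, evT (ι x) = ev6 t x := hι
    have b1 : evT (ι (X 1)) = 1 := by simp [hι, ev6, pt6]
    have hti : evT ti = 0 := by simp [ti, hι, ev6, pt6]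
    have htd : evT td = 0 := by simp [td, hι, ev6, pt6, hti]
    have htg : evT tg = 0 := by simp [tg, hι, ev6, pt6, hti, htd]
    apply MvPolynomial.ringHom_ext
    · intro r; simp [θ, hι, ev6, ev9]
    · intro j
      fin_cases j <;> simp [θ, hι, ev6, ev9, pt6, pt9, hti, htd, htg]
  have hJev : idJ k ≤ RingHom.ker (ev9 t) := fun x hx => by
    rw [RingHom.mem_ker, ← hevθ, RingHom.comp_apply, hθJ x hx, map_zero]
  have hmemP : ∀ x : D k, Ideal.Quotient.mk (idJ k) x ∈ P ↔ ev9 t x = 0 := by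
    intro x
    rw [hP, ker_ev9, ← Ideal.mem_comap,
      Ideal.comap_map_of_surjective _ Ideal.Quotient.mk_surjective, ← RingHom.ker_eq_comap_bot,
      Ideal.mk_ker, sup_eq_left.2 hJev, RingHom.mem_ker]
  -- forwards
  have hf : ∀ y : P.primeCompl,
      IsUnit (Ideal.Quotient.lift (idJ k) θ hθJ (y : D k ⧸ idJ k)) := by
    rintro ⟨y, hy⟩
    obtain ⟨x, rfl⟩ := Ideal.Quotient.mk_surjective y
    rw [Ideal.Quotient.lift_mk, hunitT, ← RingHom.comp_apply, hevθ]
    exact fun h => hy ((hmemP x).2 h)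
  let Φ : Localization.AtPrime P →+* T t := IsLocalization.lift hf
  -- backwards
  let q : D k →+* Localization.AtPrime P :=
    (algebraMap (D k ⧸ idJ k) (Localization.AtPrime P)).comp (Ideal.Quotient.mk (idJ k))
  let ψ : MvPolynomial (Fin 6) k →+* D k := eval₂Hom C ![X 0, X 1, X 2, X 4, X 5, X 7]
  have hevψ : (ev9 t).comp ψ = ev6 t := by
    apply MvPolynomial.ringHom_ext
    · intro r; simp [ψ, ev6, ev9]
    · intro j; fin_cases j <;> simp [ψ, ev6, ev9, pt6, pt9]
  have hg : ∀ y : (RingHom.ker (ev6 t)).primeCompl,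
      IsUnit (q.comp ψ (y : MvPolynomial (Fin 6) k)) := by
    rintro ⟨y, hy⟩
    exact IsLocalization.map_units (Localization.AtPrime P)
      (⟨Ideal.Quotient.mk (idJ k) (ψ y), fun h => hy (by
        show y ∈ RingHom.ker (ev6 t)
        rw [RingHom.mem_ker, ← hevψ]; exact (hmemP _).1 h)⟩ : P.primeCompl)
  let Ψ : T t →+* Localization.AtPrime P := IsLocalization.lift hg
  have hΨι : ∀ x, Ψ (ι x) = q (ψ x) := fun x => IsLocalization.lift_eq hg x
  have hΦq : ∀ x, Φ (q x) = θ x := fun x => by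
    simp [Φ, q, IsLocalization.lift_eq]
  have hΦΨ : Φ.comp Ψ = RingHom.id (T t) := by
    apply IsLocalization.ringHom_ext (RingHom.ker (ev6 t)).primeCompl
    apply MvPolynomial.ringHom_ext
    · intro r
      show Φ (Ψ (ι (C r))) = ι (C r)
      rw [hΨι, hΦq]; simp [θ, ψ]
    · intro j
      show Φ (Ψ (ι (X j))) = ι (X j)
      rw [hΨι, hΦq]
      fin_cases j <;> simp [θ, ψ]
  -- equations in the local ring at `P`
  have hq0 : ∀ x ∈ idJ k, q x = 0 := fun x hx => by
    simp [q, Ideal.Quotient.eq_zero_iff_mem.2 hx]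
  have p2 : q (Q2 k) = 0 := hq0 _ (Ideal.subset_span (by simp))
  have p3 : q (Q3 k) = 0 := hq0 _ (Ideal.subset_span (by simp))
  have pG : q (detM k) + q (Q1 k) = 0 := by
    rw [hq0 _ (Ideal.subset_span (by simp)), hq0 _ (Ideal.subset_span (by simp)), add_zero]
  simp only [Q1, Q2, Q3, detM, va, vb, vc, vd, ve, vf, vg, vh, vi, map_sub, map_add, map_neg,
    map_mul, map_pow] at p2 p3 pG
  have hu1 : ∀ x : D k, ev9 t x ≠ 0 → IsUnit (q x) := fun x hx =>
    IsLocalization.map_units (Localization.AtPrime P)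
      (⟨Ideal.Quotient.mk (idJ k) x, fun h => hx ((hmemP x).1 h)⟩ : P.primeCompl)
  have ei' := congrArg Ψ ei
  have ed' := congrArg Ψ ed
  have eg' := congrArg Ψ eg
  simp only [map_sub, map_add, map_neg, map_mul, hΨι] at ei' ed' eg'
  simp only [ψ, coe_eval₂Hom, eval₂_X, Matrix.cons_val] at ei' ed' eg'
  obtain ⟨ri, rd, rg⟩ := determined (q (X 0)) (q (X 1)) (q (X 2)) (q (X 4)) (q (X 5)) (q (X 7))
    (q (X 3)) (q (X 6)) (q (X 8)) (Ψ td) (Ψ tg) (Ψ ti) p2 p3 pG ei' ed' eg'
    (by rw [← map_mul, ← map_mul, ← map_add]; exact hu1 _ (by simp [ev9, pt9]))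
    (hu1 _ (by simp [ev9, pt9]))
    (by
      have hu := hu1 (X 5 + X 1 - X 1 * X 5 + X 4 * X 2) (by simp [ev9, pt9])
      simp only [map_add, map_sub, map_mul] at hu
      exact hu)
  clear_value ti td tg
  have hΨΦ : Ψ.comp Φ = RingHom.id (Localization.AtPrime P) := by
    apply IsLocalization.ringHom_ext P.primeCompl
    apply Ideal.Quotient.ringHom_ext
    apply MvPolynomial.ringHom_ext
    · intro r
      show Ψ (Φ (q (C r))) = q (C r)
      rw [hΦq]; simp [θ, hΨι, ψ]
    · intro j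
      show Ψ (Φ (q (X j))) = q (X j)
      rw [hΦq]
      fin_cases j <;> simp [θ, hΨι, ψ, ri, rd, rg]
  let e : T t ≃+* Localization.AtPrime P := RingEquiv.ofRingHom Ψ Φ hΨΦ hΦΨ
  refine ⟨IsRegularLocalRing.of_ringEquiv e, ?_⟩
  rw [← ringKrullDim_eq_of_ringEquiv e,
    IsLocalization.AtPrime.ringKrullDim_eq_height (RingHom.ker (ev6 t)) (T t), height_ker]
  rfl

end Groth.Agent.S13105
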