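import Mathlib
import Groth.Statements.S13108
-- import your own Groth.Agent.* helpers here

set_option autoImplicit false
universe u v w
open GrpSch

namespace Groth.Agent.S13108

/-- Let k be a field and t, t' ∈ k both non-zero; let L be a Lie algebra over k with a basis x = b 0, y
= b 1, z = b 2 and brackets [x,y] = y, [x,z] = t z, [y,z] = 0, and L' a Lie algebra over k with a
basis x' = b' 0, y' = b' 1, z' = b' 2 and brackets [x',y'] = y', [x',z'] = t' z', [y',z'] = 0. Then
L and L' are isomorphic Lie algebras over k if and only if t' = t or t' = t⁻¹. -/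
theorem result (k : Type u) [Field k] (t t' : k) (ht : t ≠ 0) (ht' : t' ≠ 0)
    (L : Type v) [LieRing L] [LieAlgebra k L] (b : Module.Basis (Fin 3) k L)
    (h01 : ⁅b 0, b 1⁆ = b 1) (h02 : ⁅b 0, b 2⁆ = t • b 2) (h12 : ⁅b 1, b 2⁆ = 0)
    (L' : Type w) [LieRing L'] [LieAlgebra k L'] (b' : Module.Basis (Fin 3) k L')
    (h01' : ⁅b' 0, b' 1⁆ = b' 1) (h02' : ⁅b' 0, b' 2⁆ = t' • b' 2) (h12' : ⁅b' 1, b' 2⁆ = 0) :
    Nonempty (L ≃ₗ⁅k⁆ L') ↔ (t' = t ∨ t' = t⁻¹) := by
  have form : ∀ {M : Type (max v w)} [LieRing M] [LieAlgebra k M], True := fun {M} _ _ => trivial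
  clear form
  have fL : ∀ a0 a1 a2 c0 c1 c2 : k, ⁅a0 • b 0 + a1 • b 1 + a2 • b 2, c0 • b 0 + c1 • b 1 + c2 • b 2⁆ =
      (a0 * c1 - a1 * c0) • b 1 + (t * (a0 * c2 - a2 * c0)) • b 2 := by
    intro a0 a1 a2 c0 c1 c2
    have h10 : ⁅b 1, b 0⁆ = -b 1 := by rw [← lie_skew, h01]
    have h20 : ⁅b 2, b 0⁆ = -(t • b 2) := by rw [← lie_skew, h02]
    have h21 : ⁅b 2, b 1⁆ = 0 := by rw [← lie_skew, h12, neg_zero]
    simp only [add_lie, lie_add, smul_lie, lie_smul, h01, h02, h12, h10, h20, h21, lie_self, smul_zero]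
    module
  have fL' : ∀ a0 a1 a2 c0 c1 c2 : k, ⁅a0 • b' 0 + a1 • b' 1 + a2 • b' 2, c0 • b' 0 + c1 • b' 1 + c2 • b' 2⁆ =
      (a0 * c1 - a1 * c0) • b' 1 + (t' * (a0 * c2 - a2 * c0)) • b' 2 := by
    intro a0 a1 a2 c0 c1 c2
    have h10 : ⁅b' 1, b' 0⁆ = -b' 1 := by rw [← lie_skew, h01']
    have h20 : ⁅b' 2, b' 0⁆ = -(t' • b' 2) := by rw [← lie_skew, h02']
    have h21 : ⁅b' 2, b' 1⁆ = 0 := by rw [← lie_skew, h12', neg_zero]
    simp only [add_lie, lie_add, smul_lie, lie_smul, h01', h02', h12', h10, h20, h21, lie_self, smul_zero]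
    module
  have sL : ∀ x : L, x = b.repr x 0 • b 0 + b.repr x 1 • b 1 + b.repr x 2 • b 2 := fun x => by
    conv_lhs => rw [← b.sum_repr x, Fin.sum_univ_three]
  have sL' : ∀ x : L', x = b'.repr x 0 • b' 0 + b'.repr x 1 • b' 1 + b'.repr x 2 • b' 2 := fun x => by
    conv_lhs => rw [← b'.sum_repr x, Fin.sum_univ_three]
  constructor
  · rintro ⟨φ⟩
    have hbr : ∀ x y : L', b'.repr ⁅x, y⁆ 0 = 0 ∧
        b'.repr ⁅x, y⁆ 1 = b'.repr x 0 * b'.repr y 1 - b'.repr x 1 * b'.repr y 0 ∧
        b'.repr ⁅x, y⁆ 2 = t' * (b'.repr x 0 * b'.repr y 2 - b'.repr x 2 * b'.repr y 0) := by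
      intro x y
      have := fL' (b'.repr x 0) (b'.repr x 1) (b'.repr x 2) (b'.repr y 0) (b'.repr y 1) (b'.repr y 2)
      rw [← sL' x, ← sL' y] at this
      rw [this]
      simp [Finsupp.single_apply]
    have e1 : φ (b 1) = ⁅φ (b 0), φ (b 1)⁆ := by rw [← LieEquiv.map_lie, h01]
    have e2 : t • φ (b 2) = ⁅φ (b 0), φ (b 2)⁆ := by rw [← LieEquiv.map_lie, h02, map_smul]
    obtain ⟨p0, p1, p2⟩ := hbr (φ (b 0)) (φ (b 1))
    obtain ⟨q0, q1, q2⟩ := hbr (φ (b 0)) (φ (b 2))
    rw [← e1] at p0 p1 p2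
    rw [← e2] at q0 q1 q2
    simp only [map_smul, Finsupp.smul_apply, smul_eq_mul, mul_eq_zero, or_iff_right ht] at q0 q1 q2
    rw [p0, mul_zero, sub_zero] at p1 p2
    rw [q0, mul_zero, sub_zero] at q1 q2
    have inj : ∀ x : L, φ x = 0 → x = 0 := fun x hx => φ.injective (hx.trans (map_zero φ).symm)
    have hdep : ∀ (α β : k), α * b'.repr (φ (b 1)) 1 + β * b'.repr (φ (b 2)) 1 = 0 →
        α * b'.repr (φ (b 1)) 2 + β * b'.repr (φ (b 2)) 2 = 0 → α = 0 ∧ β = 0 := by
      intro α β h1 h2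
      have : α • b 1 + β • b 2 = 0 := inj _ (b'.repr.injective (by
        ext i; fin_cases i <;> simp [p0, q0, h1, h2]))
      have h1' := congrArg (fun z => b.repr z 1) this
      have h2' := congrArg (fun z => b.repr z 2) this
      simp [Finsupp.single_apply] at h1' h2'
      exact ⟨h1', h2'⟩
    generalize b'.repr (φ (b 0)) 0 = c at *
    generalize b'.repr (φ (b 1)) 1 = p at *
    generalize b'.repr (φ (b 1)) 2 = q at *
    generalize b'.repr (φ (b 2)) 1 = r at *
    generalize b'.repr (φ (b 2)) 2 = s at *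
    by_cases hps : p ≠ 0 ∧ s ≠ 0
    · have hc : c = 1 := mul_right_cancel₀ hps.1 (by linear_combination -p1)
      subst hc
      left
      exact mul_right_cancel₀ hps.2 (by linear_combination -q2)
    · have hqr : q ≠ 0 ∧ r ≠ 0 := by
        constructor
        · intro hq
          rcases not_and_or.mp hps with hp | hs
          · rw [not_not] at hp
            exact one_ne_zero (hdep 1 0 (by simp [hp]) (by simp [hq])).1
          · rw [not_not] at hs
            by_cases hp : p = 0
            · exact one_ne_zero (hdep 1 0 (by simp [hp]) (by simp [hq])).1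
            · exact hp (by simpa using (hdep r (-p) (by ring) (by simp [hq, hs])).2)
        · intro hr
          rcases not_and_or.mp hps with hp | hs
          · rw [not_not] at hp
            by_cases hs : s = 0
            · exact one_ne_zero (hdep 0 1 (by simp [hr]) (by simp [hs])).2
            · exact hs ((hdep s (-q) (by simp [hr, hp]) (by ring)).1)
          · rw [not_not] at hs
            exact one_ne_zero (hdep 0 1 (by simp [hr]) (by simp [hs])).2
      have hc : c = t := mul_right_cancel₀ hqr.2 (by linear_combination -q1)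
      subst hc
      right
      have : t' * c = 1 := mul_right_cancel₀ hqr.1 (by linear_combination -p2)
      exact eq_inv_of_mul_eq_one_left this
  · intro h
    have mk : ∀ (u : Fin 3 → L') (hu : LinearIndependent k u),
        (∀ a0 a1 a2 c0 c1 c2 : k, ⁅a0 • u 0 + a1 • u 1 + a2 • u 2, c0 • u 0 + c1 • u 1 + c2 • u 2⁆ =
          (a0 * c1 - a1 * c0) • u 1 + (t * (a0 * c2 - a2 * c0)) • u 2) → Nonempty (L ≃ₗ⁅k⁆ L') := by
      intro u hu hb
      haveI : Module.Finite k L' := Module.Finite.of_basis b'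
      let B' := basisOfLinearIndependentOfCardEqFinrank hu (by simp [Module.finrank_eq_card_basis b'])
      let e := b.equiv B' (Equiv.refl _)
      have he : ∀ i, e (b i) = u i := fun i => by simp [e, B']
      refine ⟨{ e with map_lie' := ?_ }⟩
      intro x y
      change e ⁅x, y⁆ = ⁅e x, e y⁆
      rw [sL x, sL y, fL]
      simp only [map_add, map_smul, he]
      rw [hb]
    rcases h with rfl | rfl
    · exact mk b' b'.linearIndependent fL'
    · refine mk ![t • b' 0, b' 2, b' 1] ?_ ?_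
      · rw [Fintype.linearIndependent_iff]
        intro g hg
        rw [Fin.sum_univ_three] at hg
        have h0 := congrArg (fun z => b'.repr z 0) hg
        have h1 := congrArg (fun z => b'.repr z 1) hg
        have h2 := congrArg (fun z => b'.repr z 2) hg
        simp [Finsupp.single_apply, ht] at h0 h1 h2
        intro i; fin_cases i <;> assumption
      · intro a0 a1 a2 c0 c1 c2
        have := fL' (a0 * t) a2 a1 (c0 * t) c2 c1
        simp only [Matrix.cons_val_zero, Matrix.cons_val_one, Matrix.cons_val_two, Matrix.head_cons,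
          Matrix.tail_cons, smul_smul] at this ⊢
        rw [show (a0 * t) • b' 0 + a1 • b' 2 + a2 • b' 1 = (a0 * t) • b' 0 + a2 • b' 1 + a1 • b' 2 by abel,
          show (c0 * t) • b' 0 + c1 • b' 2 + c2 • b' 1 = (c0 * t) • b' 0 + c2 • b' 1 + c1 • b' 2 by abel, this]
        match_scalars <;> field_simp

end Groth.Agent.S13108
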