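import Groth.Statements.S13111
import Groth.Agent.PtFunLib.Basic
import Groth.Agent.AWN.Normal
-- import your own Groth.Agent.* helpers here

set_option autoImplicit false
universe u
open HTop

open Groth.Agent.PtFunLib CategoryTheory
open Groth.Agent.AWN (eq_of_sq_cube)

namespace Groth.Agent.S13111

open AlgebraicGeometry W4c1hilbchowinc in
/-- Let A be a reduced Noetherian ring whose integral closure in its total ring of fractions is a finite
A-module. Suppose that any pointwise function on Spec A that is algebraic along every discrete
valuation ring (for every discrete valuation ring R and every morphism Spec R → Spec A there is an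
element of R whose values at the two points of Spec R are the images of the chosen values) is the
family of values of exactly one global section. Then A is seminormal: whenever x^3 = y^2 there is
exactly one a with x = a^2 and y = a^3. Test rings range over the universe of A. -/
theorem result
    (A : Type u) [CommRing A] [IsReduced A] [IsNoetherianRing A]
    (hfin : Module.Finite A (integralClosure A (FractionRing A)))
    (h : ∀ f : PtFun (Spec (CommRingCat.of A)), f.VariesAlongDVR →
      ∃! a : Γ(Spec (CommRingCat.of A), ⊤), PtFun.ofSection (Spec (CommRingCat.of A)) a = f) :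
    HTop.IsSeminormalRing A := by
    intro x y hxy
    obtain ⟨s, hs, -⟩ := h _ (varies_div hxy)
    obtain ⟨a, rfl⟩ : ∃ a, (Scheme.ΓSpecIso (CommRingCat.of A)).inv a = s :=
      ⟨(Scheme.ΓSpecIso (CommRingCat.of A)).hom s,
        congrArg (fun k => k.hom s) (Scheme.ΓSpecIso (CommRingCat.of A)).hom_inv_id⟩
    have ha : ∀ p, ev p a = ev p y / ev p x := fun p => congrFun hs p
    have key : ∀ p, ev p x = ev p (a ^ 2) ∧ ev p y = ev p (a ^ 3) := fun p => by
      have he : ev p x ^ 3 = ev p y ^ 2 := by rw [← map_pow, hxy, map_pow]
      rw [map_pow, map_pow, ha]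
      rcases eq_or_ne (ev p x) 0 with h0 | h0
      · rw [h0, zero_pow three_ne_zero, eq_comm, pow_eq_zero_iff two_ne_zero] at he
        simp [h0, he]
      · constructor
        · rw [div_pow, eq_div_iff (pow_ne_zero _ h0), ← he]; ring
        · rw [div_pow, eq_div_iff (pow_ne_zero _ h0), he]; ring
    have h2 : x = a ^ 2 := ext_of_ev fun p => (key p).1
    have h3 : y = a ^ 3 := ext_of_ev fun p => (key p).2
    exact ⟨a, ⟨h2, h3⟩, fun a' ha' => eq_of_sq_cube (ha'.1.symm.trans h2) (ha'.2.symm.trans h3)⟩

end Groth.Agent.S13111
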