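import Groth.Statements.S13112
import Groth.Agent.AWN.Normal
-- import your own Groth.Agent.* helpers here

set_option autoImplicit false
universe u
open HTop

open Groth.Agent.AWN CategoryTheory.Limits

namespace Groth.Agent.S13112

open CategoryTheory AlgebraicGeometry in
/-- Let k be a field, T a seminormal scheme of finite type over k, and f : X → Y a proper universally
injective k-morphism of schemes locally of finite type over k. If a morphism of schemes g : T → Y
lifts through f at every point of T, i.e. for every t the composite Spec κ(t) → T → Y factors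
through f, then g itself factors through f. -/
theorem result
    {k : Type u} [Field k] {T X Y : Scheme.{u}}
    (sT : T ⟶ Spec (CommRingCat.of k)) (sX : X ⟶ Spec (CommRingCat.of k)) (sY : Y ⟶ Spec (CommRingCat.of k))
    [LocallyOfFiniteType sT] [QuasiCompact sT] [LocallyOfFiniteType sX] [LocallyOfFiniteType sY]
    (hT : HTop.IsSeminormal T)
    (f : X ⟶ Y) (hf : f ≫ sY = sX) [IsProper f] [UniversallyInjective f]
    (g : T ⟶ Y)
    (hlift : ∀ t : T, ∃ l : Spec (T.residueField t) ⟶ X, l ≫ f = T.fromSpecResidueField t ≫ g) :
    ∃ h : T ⟶ X, h ≫ f = g := by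
    haveI hT' := (isSeminormal_iff.mp hT).isReduced
    let p₂ := pullback.snd f g
    obtain ⟨P, ν, hP, hν⟩ := exists_reduced_condHom (sn := True) (pullback f g)
    obtain ⟨-, hν2, hν3⟩ := (isUnivHomeo_iff ν).mp hν.1
    haveI : UniversallyInjective p₂ := MorphismProperty.pullback_snd f g ‹_›
    have hsec : ∀ t : T, ∃ l : Spec (T.residueField t) ⟶ pullback f g, l ≫ p₂ = T.fromSpecResidueField t := fun t => by
      obtain ⟨l, hl⟩ := hlift t
      exact ⟨pullback.lift l (T.fromSpecResidueField t) hl, pullback.lift_snd _ _ _⟩
    haveI : Surjective p₂ := ⟨fun t => by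
      obtain ⟨l, hl⟩ := hsec t
      refine ⟨l default, ?_⟩
      rw [← Scheme.Hom.comp_apply, hl]
      exact Scheme.fromSpecResidueField_apply _ _⟩
    have hc : CondHom True p₂ := by
      refine ⟨fun P' T' i j q hsq => ?_, fun _ z => ?_⟩
      · haveI : UniversallyClosed q := MorphismProperty.of_isPullback hsq.flip (inferInstance : UniversallyClosed p₂)
        haveI : UniversallyInjective q := MorphismProperty.of_isPullback hsq.flip (inferInstance : UniversallyInjective p₂)
        haveI : Surjective q := MorphismProperty.of_isPullback hsq.flip (inferInstance : Surjective p₂)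
        exact isHomeomorph_iff_continuous_isClosedMap_bijective.mpr
          ⟨q.continuous, q.isClosedMap, q.injective, q.surjective⟩
      · obtain ⟨l, hl⟩ := hsec (p₂ z)
        have hz : l default = z := p₂.injective (by
          rw [← Scheme.Hom.comp_apply, hl]; exact Scheme.fromSpecResidueField_apply _ _)
        rw [ConcreteCategory.isIso_iff_bijective]
        refine ⟨RingHom.injective _, ?_⟩
        obtain ⟨w, ψ, hψ⟩ : ∃ w, ∃ ψ : (pullback f g).residueField w ⟶ T.residueField (p₂ z),
            Spec.map ψ ≫ (pullback f g).fromSpecResidueField w = l := by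
          obtain ⟨⟨w, ψ⟩, rfl⟩ := (Scheme.SpecToEquivOfField (T.residueField (p₂ z)) (pullback f g)).symm.surjective l
          exact ⟨w, ψ, rfl⟩
        have hw : w = z := by
          rw [← hz, ← hψ, Scheme.Hom.comp_apply]
          exact (Scheme.fromSpecResidueField_apply _ _).symm
        subst hw
        have hcomp : p₂.residueFieldMap w ≫ ψ = 𝟙 _ := by
          apply Spec.map_injective
          rw [← cancel_mono (T.fromSpecResidueField (p₂ w)), Spec.map_comp, Category.assoc,
            Scheme.Hom.SpecMap_residueFieldMap_fromSpecResidueField, ← Category.assoc, hψ, hl, Spec.map_id,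
            Category.id_comp]
        intro x
        refine ⟨ψ.hom x, ψ.hom.injective ?_⟩
        exact RingHom.congr_fun (congrArg CommRingCat.Hom.hom hcomp) (ψ.hom x)
    haveI := (isSeminormal_iff.mp hT).isIso (ν ≫ p₂) (hν.comp hc)
    refine ⟨inv (ν ≫ p₂) ≫ ν ≫ pullback.fst f g, ?_⟩
    rw [Category.assoc, Category.assoc, pullback.condition, ← Category.assoc ν, IsIso.inv_hom_id_assoc]

end Groth.Agent.S13112
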