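import Mathlib
import Groth.Statements.S13114
-- import your own Groth.Agent.* helpers here

set_option autoImplicit false
universe u
open HilbChow

namespace Groth.Agent.S13114

/-- Let k be an algebraically closed field, A a commutative local k-algebra of finite dimension n over k
and u a unit of A. Then the determinant of multiplication by u on the k-vector space A, mapped to
the residue field of A, equals the n-th power of the residue class of u. -/
theorem result
    (k A : Type u) [Field k] [IsAlgClosed k] [CommRing A] [Algebra k A] [IsLocalRing A]
    [Module.Finite k A] (u : Aˣ) :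
    algebraMap k (IsLocalRing.ResidueField A) (Algebra.norm k (u : A)) =
      IsLocalRing.residue A (u : A) ^ Module.finrank k A := by
  haveI : IsArtinianRing A := IsArtinianRing.of_finite k A
  have hbij : Function.Bijective (algebraMap k (IsLocalRing.ResidueField A)) := IsAlgClosed.algebraMap_bijective_of_isIntegral
  obtain ⟨c, hc⟩ := hbij.2 (IsLocalRing.residue A (u : A))
  rw [← hc, ← map_pow]
  congr 1
  have hnil : IsNilpotent (algebraMap k A c - (u : A)) := by
    rw [← mem_nilradical, Ring.KrullDimLE.nilradical_eq_maximalIdeal, ← IsLocalRing.residue_eq_zero_iff,
      map_sub, ← hc]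
    simp [IsScalarTower.algebraMap_apply k A (IsLocalRing.ResidueField A)]
  have h := (hnil.map (Algebra.lmul k A)).charpoly_eq_X_pow_finrank
  have h2 := LinearMap.eval_charpoly (Algebra.lmul k A (algebraMap k A c - (u : A))) c
  rw [h, Polynomial.eval_pow, Polynomial.eval_X] at h2
  rw [h2, Algebra.norm_apply]
  congr 1
  ext x
  simp [Algebra.smul_def, sub_mul]

end Groth.Agent.S13114
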