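import Mathlib
import Groth.Statements.S13115
-- import your own Groth.Agent.* helpers here

set_option autoImplicit false
universe u
open scoped TensorProduct
open HilbChow

namespace Groth.Agent.S13115

/-- Let k be an infinite field, V a k-vector space and m a natural number. Then every symmetric tensor
in the m-fold tensor power of V — one fixed by every permutation of the factors — is a k-linear
combination of pure powers v ⊗ ⋯ ⊗ v with v in V. (The published statement concerns the ring of
functions of an affine scheme over an infinite field, where it gives the uniqueness of the algebra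
map defining the Hilbert-to-Chow morphism for zero-cycles; this row states it for any vector space.) -/
theorem result
    (k V : Type u) [Field k] [Infinite k] [AddCommGroup V] [Module k V] (m : ℕ)
    (x : ⨂[k] _ : Fin m, V)
    (hx : ∀ σ : Equiv.Perm (Fin m), PiTensorProduct.reindex k (fun _ : Fin m => V) σ x = x) :
    x ∈ Submodule.span k (Set.range fun v : V => PiTensorProduct.tprod k (fun _ : Fin m => v)) := by
  classical
  let b := Module.Basis.ofVectorSpace k V
  let I := Module.Basis.ofVectorSpaceIndex k V
  let B := Basis.piTensorProduct (fun _ : Fin m => b)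
  let S : Finset I := (B.repr x).support.biUnion fun p => Finset.univ.image p
  let F : Finset (Fin m → I) := Fintype.piFinset fun _ => S
  let mon : (Fin m → I) → (I →₀ ℕ) := fun f => ∑ i, Finsupp.single (f i) 1
  let c : (Fin m → I) → k := fun f => B.repr x f
  have hsupp : (B.repr x).support ⊆ F := fun p hp => Fintype.mem_piFinset.2 fun i =>
    Finset.mem_biUnion.2 ⟨p, hp, Finset.mem_image.2 ⟨i, Finset.mem_univ _, rfl⟩⟩
  have hxsum : x = ∑ f ∈ F, c f • B f := by
    conv_lhs => rw [← B.linearCombination_repr x, Finsupp.linearCombination_apply, Finsupp.sum]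
    exact Finset.sum_subset hsupp fun f _ hf => by simp [Finsupp.notMem_support_iff.1 hf]
  have hsymm : ∀ (f : Fin m → I) (σ : Equiv.Perm (Fin m)), c (fun i => f (σ i)) = c f := by
    intro f σ
    have hlin : (Finsupp.lapply f).comp B.repr.toLinearMap =
        ((Finsupp.lapply fun i => f (σ i)).comp B.repr.toLinearMap).comp
          (PiTensorProduct.reindex k (fun _ : Fin m => V) σ.symm).toLinearMap := by
      refine PiTensorProduct.ext (MultilinearMap.ext fun v => ?_)
      simp only [LinearMap.compMultilinearMap_apply, LinearMap.comp_apply, LinearEquiv.coe_coe, Finsupp.lapply_apply,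
        PiTensorProduct.reindex_tprod, B, Basis.piTensorProduct_repr_tprod_apply]
      exact (Equiv.prod_comp σ (fun i => (b.repr (v i)) (f i))).symm
    have := LinearMap.congr_fun hlin x
    simp only [LinearMap.comp_apply, LinearEquiv.coe_coe, Finsupp.lapply_apply, hx] at this
    exact this.symm
  have hfib : ∀ f g : Fin m → I, mon f = mon g → c f = c g := by
    intro f g hfg
    have hcard : ∀ a : I, Fintype.card { i // f i = a } = Fintype.card { i // g i = a } := fun a => by
      have := congrArg (fun μ : I →₀ ℕ => μ a) hfg
      simp only [mon, Finsupp.finsetSum_apply, Finsupp.single_apply, Finset.sum_boole, Nat.cast_id] at this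
      simpa [Fintype.card_subtype] using this
    let e : Equiv.Perm (Fin m) := Equiv.ofFiberEquiv fun a => Fintype.equivOfCardEq (hcard a)
    have he : ∀ i, g (e i) = f i := fun i => Equiv.ofFiberEquiv_map _ i
    rw [← hsymm g e]
    exact congrArg c (funext fun i => (he i).symm)
  by_contra hnot
  obtain ⟨φ, hφx, hφ⟩ := Submodule.exists_dual_map_eq_bot_of_notMem hnot inferInstance
  have hpure : ∀ v : V, φ (PiTensorProduct.tprod k fun _ : Fin m => v) = 0 := fun v => by
    have h : φ (PiTensorProduct.tprod k fun _ : Fin m => v) ∈ (Submodule.span k (Set.range fun v : V => PiTensorProduct.tprod k (fun _ : Fin m => v))).map φ :=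
      Submodule.mem_map_of_mem (Submodule.subset_span ⟨v, rfl⟩)
    rw [hφ, Submodule.mem_bot] at h
    exact h
  let P : MvPolynomial I k := ∑ f ∈ F, MvPolynomial.monomial (mon f) (φ (B f))
  have hP : P = 0 := by
    refine MvPolynomial.funext fun t => ?_
    rw [map_zero, map_sum, ← hpure (∑ i ∈ S, t i • b i)]
    rw [MultilinearMap.map_sum_finset, map_sum]
    refine Finset.sum_congr rfl fun f _ => ?_
    rw [MultilinearMap.map_smul_univ, map_smul, smul_eq_mul]
    simp only [B, Basis.piTensorProduct_apply]
    rw [MvPolynomial.eval_monomial, mul_comm]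
    congr 1
    rw [Finsupp.prod_of_support_subset (s := Finset.univ.image f) _ ?_ _ (fun i _ => pow_zero _),
      Finset.prod_comp t f]
    · refine Finset.prod_congr rfl fun a _ => ?_
      simp [mon, Finsupp.finsetSum_apply, Finsupp.single_apply, Finset.sum_boole]
    · intro a ha
      by_contra h
      apply Finsupp.mem_support_iff.1 ha
      simp only [mon, Finsupp.finsetSum_apply, Finsupp.single_apply, Finset.sum_boole, Nat.cast_id, Finset.card_eq_zero, Finset.filter_eq_empty_iff]
      exact fun i _ hi => h (Finset.mem_image.2 ⟨i, Finset.mem_univ _, hi⟩)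
  apply hφx
  rw [hxsum, map_sum, ← Finset.sum_fiberwise_of_maps_to (t := F.image mon) (g := mon) fun f hf => Finset.mem_image_of_mem _ hf]
  refine Finset.sum_eq_zero fun μ hμ => ?_
  obtain ⟨g, hg, rfl⟩ := Finset.mem_image.1 hμ
  have hcoef := congrArg (MvPolynomial.coeff (mon g)) hP
  rw [MvPolynomial.coeff_sum, MvPolynomial.coeff_zero] at hcoef
  simp only [MvPolynomial.coeff_monomial] at hcoef
  rw [← Finset.sum_filter] at hcoef
  have : ∀ f ∈ F.filter (fun f => mon f = mon g), φ (c f • B f) = c g * φ (B f) := fun f hf => by
    rw [map_smul, smul_eq_mul, hfib f g (Finset.mem_filter.1 hf).2]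
  rw [Finset.sum_congr rfl this, ← Finset.mul_sum, hcoef, mul_zero]

end Groth.Agent.S13115
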