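import Groth.Statements.S19022
import Groth.Agent.InvPow.PullBasisLocal
import Groth.Agent.InvBasic.QCoh
import Groth.Agent.InvBasic.OfBasis
import Groth.Agent.QCohLib.Sections
-- import your own Groth.Agent.* helpers here

set_option autoImplicit false
universe u
open CategoryTheory AlgebraicGeometry
open PicF

namespace Groth.Agent.S19022

/-- Let X be a scheme, L an invertible O_X-module and T a finite set of closed points of X that lies in
some affine open of X. Then T lies in an affine open U of X on which L is trivial (L restricted to U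
is isomorphic to the structure sheaf). (The source states this for a smooth quasi-projective complex
surface, where every finite set of points lies in an affine open, and phrases it as: X^n and the
symmetric product S^n X are covered by the opens U^n and S^n U with U affine and L trivial on U; the
printed argument uses only that the finitely many points lie in one affine open, which is taken as
the hypothesis here.) -/
theorem result
    (X : Scheme.{u}) (L : X.Modules) (hL : PicF.IsInvertible L)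
    (T : Finset X) (hT : ∀ x ∈ T, IsClosed ({x} : Set X))
    (hU : ∃ U : X.Opens, IsAffineOpen U ∧ ∀ x ∈ T, x ∈ U) :
    ∃ U : X.Opens, IsAffineOpen U ∧ (∀ x ∈ T, x ∈ U) ∧
      Nonempty (L.restrict U.ι ≅ Coh.structureModule (↑U : Scheme.{u})) := by
  classical
  obtain ⟨U, hU, hTU⟩ := hU
  have hQ := Groth.Agent.InvBasic.isQuasicoherent_of_isInvertible hL
  haveI : L.IsQuasicoherent := hQ
  let gX : ∀ x, x ∈ U → Γ(X, U) → X.presheaf.stalk x := fun x hx r => X.presheaf.germ U x hx r
  have hmem : ∀ x (hx : x ∈ U) (r : Γ(X, U)), x ∈ X.basicOpen r ↔ IsUnit (gX x hx r) :=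
    fun x hx r => X.mem_basicOpen r x hx
  have he : ∀ t : {x // x ∈ T}, ∃ e : Γ(X, U), t.1 ∈ X.basicOpen e ∧
      ∀ y ∈ T, y ≠ t.1 → y ∉ X.basicOpen e := by
    intro t
    have hcl : IsClosed ((T.erase t.1 : Finset X) : Set X) := by
      rw [← Set.biUnion_of_singleton ((T.erase t.1 : Finset X) : Set X)]
      exact (T.erase t.1).finite_toSet.isClosed_biUnion fun y hy => hT y (Finset.mem_of_mem_erase hy)
    obtain ⟨e, he, hte⟩ := hU.exists_basicOpen_le (V := ⟨_, hcl.isOpen_compl⟩)
      ⟨t.1, show t.1 ∉ ((T.erase t.1 : Finset X) : Set X) by simp⟩ (hTU _ t.2)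
    exact ⟨e, hte, fun y hy hne hye => he hye (Finset.mem_erase.2 ⟨hne, hy⟩)⟩
  choose e hex hey using he
  have hs : ∀ t : {x // x ∈ T}, ∃ (D : X.Opens) (_ : t.1 ∈ D) (hD : D ≤ U) (ℓ : Γ(L, D))
      (_ : Groth.Agent.InvBasic.IsBasis L ℓ) (s : Γ(L, U)) (u : Γ(X, D)),
      IsUnit u ∧ L.presheaf.map (homOfLE hD).op s = u • ℓ := by
    intro t
    obtain ⟨V, hxV, ℓ, hℓ⟩ := Groth.Agent.InvBasic.exists_isBasis hL t.1
    obtain ⟨a, haV, hta⟩ := hU.exists_basicOpen_le (V := V) ⟨t.1, hxV⟩ (hTU _ t.2)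
    obtain ⟨n, s, hns⟩ := Groth.Agent.QCohLib.exists_res_eq_pow_smul hU a (X.basicOpen a) (X.basicOpen_le a) rfl
      (L.presheaf.map (homOfLE haV).op ℓ)
    exact ⟨X.basicOpen a, hta, X.basicOpen_le a, _, hℓ.restrict haV, s, _,
      (AlgebraicGeometry.RingedSpace.isUnit_res_basicOpen _ a).pow n, hns⟩
  choose D htD hDU ℓ hℓ s u hu hsu using hs
  let σ : Γ(L, U) := ∑ t, e t • s t
  have hc : ∀ t : {x // x ∈ T}, ∃ c : Γ(X, D t), L.presheaf.map (homOfLE (hDU t)).op σ = c • ℓ t ∧
      IsUnit (X.presheaf.germ (D t) t.1 (htD t) c) := by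
    intro t
    obtain ⟨c, hc⟩ := Groth.Agent.InvPow.exists_coef (hℓ t) (L.presheaf.map (homOfLE (hDU t)).op σ)
    refine ⟨c, hc, ?_⟩
    have hx := hTU _ t.2
    let g := L.presheaf.germ (D t) t.1 (htD t) (ℓ t)
    have hb := (hℓ t).stalk_bijective (htD t)
    choose k hk using fun t' => hb.2 (L.presheaf.germ U t.1 hx (s t'))
    have hk' : ∀ t', L.presheaf.germ U t.1 hx (s t') = k t' • g := fun t' => (hk t').symm
    have hgc : X.presheaf.germ (D t) t.1 (htD t) c = ∑ t', gX t.1 hx (e t') * k t' := by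
      refine hb.1 ?_
      show X.presheaf.germ (D t) t.1 (htD t) c • g = (∑ t', gX t.1 hx (e t') * k t') • g
      rw [← Groth.Agent.InvBasic.germ_smul, ← hc, TopCat.Presheaf.germ_res_apply, Finset.sum_smul, map_sum]
      refine Finset.sum_congr rfl fun t' _ => ?_
      rw [mul_smul, Groth.Agent.InvBasic.germ_smul, hk']
    have hkt : IsUnit (k t) := by
      have h1 : k t = X.presheaf.germ (D t) t.1 (htD t) (u t) := by
        refine hb.1 ?_
        show k t • g = X.presheaf.germ (D t) t.1 (htD t) (u t) • g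
        rw [← hk', ← Groth.Agent.InvBasic.germ_smul, ← hsu, TopCat.Presheaf.germ_res_apply]
      rw [h1]
      exact (hu t).map (X.presheaf.germ (D t) t.1 (htD t)).hom
    rw [hgc, ← Finset.add_sum_erase _ _ (Finset.mem_univ t)]
    rw [← not_not (a := IsUnit _), ← mem_nonunits_iff, ← IsLocalRing.mem_maximalIdeal]
    intro hm
    have h2 : ∑ t' ∈ Finset.univ.erase t, gX t.1 hx (e t') * k t' ∈ IsLocalRing.maximalIdeal (X.presheaf.stalk t.1) := by
      refine Ideal.sum_mem _ fun t' ht' => Ideal.mul_mem_right _ _ ?_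
      rw [IsLocalRing.mem_maximalIdeal, mem_nonunits_iff, ← hmem]
      exact hey t' t.1 t.2 fun h => Finset.ne_of_mem_erase ht' (Subtype.ext h).symm
    exact (IsLocalRing.notMem_maximalIdeal.2 (((hmem _ hx _).1 (hex t)).mul hkt))
      ((Ideal.add_mem_iff_left _ h2).1 hm)
  choose c hc hcu using hc
  have hd : ∀ t : {x // x ∈ T}, ∃ d : Γ(X, U), t.1 ∈ X.basicOpen d ∧ X.basicOpen d ≤ X.basicOpen (c t) := by
    intro t
    obtain ⟨d, hd, htd⟩ := hU.exists_basicOpen_le (V := X.basicOpen (c t))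
      ⟨t.1, (X.mem_basicOpen (c t) t.1 (htD t)).2 (hcu t)⟩ (hTU _ t.2)
    exact ⟨d, htd, hd⟩
  choose d hdt hdle using hd
  let h : Γ(X, U) := ∑ t, d t * e t
  have hWU : X.basicOpen h ≤ U := X.basicOpen_le h
  have hTW : ∀ x ∈ T, x ∈ X.basicOpen h := by
    intro x hx
    rw [hmem x (hTU x hx)]
    show IsUnit (X.presheaf.germ U x (hTU x hx) h)
    rw [map_sum, ← Finset.add_sum_erase _ _ (Finset.mem_univ ⟨x, hx⟩)]
    rw [← not_not (a := IsUnit _), ← mem_nonunits_iff, ← IsLocalRing.mem_maximalIdeal]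
    intro hm
    have h2 : ∑ t ∈ Finset.univ.erase (⟨x, hx⟩ : {x // x ∈ T}), X.presheaf.germ U x (hTU x hx) (d t * e t) ∈
        IsLocalRing.maximalIdeal (X.presheaf.stalk x) := by
      refine Ideal.sum_mem _ fun t' ht' => ?_
      rw [IsLocalRing.mem_maximalIdeal, mem_nonunits_iff, map_mul]
      exact fun h => hey t' x hx (fun h => Finset.ne_of_mem_erase ht' (Subtype.ext h).symm)
        ((hmem x (hTU x hx) _).2 (isUnit_of_mul_isUnit_right h))
    refine IsLocalRing.notMem_maximalIdeal.2 ?_ ((Ideal.add_mem_iff_left _ h2).1 hm)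
    rw [map_mul]
    exact ((hmem x (hTU x hx) _).1 (hdt ⟨x, hx⟩)).mul ((hmem x (hTU x hx) _).1 (hex ⟨x, hx⟩))
  have hB : Groth.Agent.InvBasic.IsBasis L (L.presheaf.map (homOfLE hWU).op σ) := by
    refine Groth.Agent.InvPow.isBasis_of_stalk_span hL fun z hz y => ?_
    obtain ⟨t, hzt⟩ : ∃ t, z ∈ X.basicOpen (c t) := by
      by_contra hcon
      push Not at hcon
      have hzU : z ∈ U := hWU hz
      refine IsLocalRing.notMem_maximalIdeal.2 ((X.mem_basicOpen h z hzU).1 hz) ?_
      rw [map_sum]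
      refine Ideal.sum_mem _ fun t _ => ?_
      rw [map_mul]
      refine Ideal.mul_mem_right _ _ ?_
      rw [IsLocalRing.mem_maximalIdeal, mem_nonunits_iff]
      exact fun hu => hcon t (hdle t ((hmem z hzU _).2 hu))
    have hzD : z ∈ D t := X.basicOpen_le (c t) hzt
    obtain ⟨r, hr⟩ := ((hℓ t).stalk_bijective hzD).2 y
    obtain ⟨v, hv⟩ := (X.mem_basicOpen (c t) z hzD).1 hzt
    refine ⟨r * (↑v⁻¹ : X.presheaf.stalk z), ?_⟩
    have h1 := congrArg (L.presheaf.germ (D t) z hzD) (hc t)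
    rw [TopCat.Presheaf.germ_res_apply, Groth.Agent.InvBasic.germ_smul, ← hv] at h1
    rw [TopCat.Presheaf.germ_res_apply, h1, smul_smul, mul_assoc, Units.inv_mul, mul_one]
    exact hr
  refine ⟨X.basicOpen h, hU.basicOpen h, hTW, ?_⟩
  have : IsIso (Groth.Agent.InvBasic.basisHom L (L.presheaf.map (homOfLE hWU).op σ)) := by
    rw [isIso_iff_mono_and_epi, Groth.Agent.QCohLib.mono_iff_app_injective]
    refine ⟨fun W ↦ (hB _ (Groth.Agent.InvBasic.ι_image_le _ W)).1, ?_⟩
    exact Groth.Agent.QCohLib.epi_of_app_surjective _ (B := Set.univ)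
      (TopologicalSpace.Opens.isBasis_iff_nbhd.mpr fun {W z} hz ↦ ⟨W, trivial, hz, le_rfl⟩)
      fun W _ ↦ (hB _ (Groth.Agent.InvBasic.ι_image_le _ W)).2
  exact ⟨(asIso (Groth.Agent.InvBasic.basisHom L (L.presheaf.map (homOfLE hWU).op σ))).symm⟩

end Groth.Agent.S19022
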