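import Groth.Statements.S13116
import Groth.Agent.S19022
import Groth.Agent.InvPow.PullBasisLocal
import Groth.Agent.InvBasic.OfBasis
import Groth.Agent.InvPow.Locus
import Groth.Agent.InvPow.DualBasis
import Groth.Agent.InvGlue.Components
-- import your own Groth.Agent.* helpers here

set_option autoImplicit false
universe u
open HilbChow

namespace Groth.Agent.S13116

open AlgebraicGeometry CategoryTheory TopologicalSpace Opposite Groth.Agent.InvBasic in
/-- A trivialisation on an open gives a basis there. -/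
theorem exists_isBasis_of_iso {X : Scheme.{u}} (L : X.Modules) (U : X.Opens)
    (e : L.restrict U.ι ≅ Coh.structureModule (U : Scheme.{u})) :
    ∃ ℓ : Γ(L, U.ι ''ᵁ ⊤), IsBasis L ℓ := by
  refine ⟨e.inv.app ⊤ (1 : Γ((U : Scheme), ⊤)), fun W hW ↦ ?_⟩
  obtain ⟨W', rfl⟩ : ∃ W' : (U : Scheme).Opens, U.ι ''ᵁ W' = W := ⟨U.ι ⁻¹ᵁ W, by
    rw [Scheme.Hom.image_preimage_eq_opensRange_inf, Scheme.Opens.opensRange_ι, inf_eq_right]
    exact hW.trans (U.ι_image_top).le⟩
  have key : ∀ r : Γ((U : Scheme), W'),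
      (show Γ(X, U.ι ''ᵁ W') from r) • (L.presheaf.map (homOfLE hW).op (e.inv.app ⊤ (1 : Γ((U : Scheme), ⊤))) :
        Γ(L, U.ι ''ᵁ W')) = e.inv.app W' r := by
    intro r
    have h1 : L.presheaf.map (homOfLE hW).op (e.inv.app ⊤ (1 : Γ((U : Scheme), ⊤))) =
        e.inv.app W' (1 : Γ((U : Scheme), W')) := by
      refine Eq.trans ?_ (congrArg _ (map_one ((U : Scheme).presheaf.map (homOfLE (le_top : W' ≤ ⊤)).op).hom))
      exact (Groth.Agent.QCohLib.app_map e.inv (le_top : W' ≤ ⊤) (1 : Γ((U : Scheme), ⊤))).symm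
    rw [h1]
    refine Eq.trans ?_ (congrArg (e.inv.app W') (mul_one r))
    refine Eq.trans ?_ (Scheme.Modules.Hom.app_smul e.inv r (1 : Γ((U : Scheme), W'))).symm
    have hr : (U.ι.appIso W').inv r = (show Γ(X, U.ι ''ᵁ W') from r) := by
      rw [Scheme.Opens.ι_appIso]; rfl
    refine Eq.trans (congrArg (fun t : Γ(X, U.ι ''ᵁ W') ↦ t •
      (show Γ(L, U.ι ''ᵁ W') from e.inv.app W' (1 : Γ((U : Scheme), W')))) hr).symm ?_
    rfl
  have hbij : Function.Bijective (e.inv.app W') := by
    refine ⟨Function.LeftInverse.injective (g := e.hom.app W') fun r ↦ ?_,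
      Function.RightInverse.surjective (g := e.hom.app W') fun r ↦ ?_⟩
    · exact DFunLike.congr_fun (congrArg (fun φ ↦ (Scheme.Modules.Hom.app φ W').hom) e.inv_hom_id) r
    · exact DFunLike.congr_fun (congrArg (fun φ ↦ (Scheme.Modules.Hom.app φ W').hom) e.hom_inv_id) r
  rw [show (fun r : Γ(X, U.ι ''ᵁ W') ↦ r • (L.presheaf.map (homOfLE hW).op
    (e.inv.app ⊤ (1 : Γ((U : Scheme), ⊤))) : Γ(L, U.ι ''ᵁ W'))) = fun r ↦ e.inv.app W' r from funext key]
  exact hbij

open CategoryTheory CategoryTheory.Limits AlgebraicGeometry in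
/-- Let k be a field, X an integral scheme smooth over k that is a closed subscheme of a projective
space over k, R a discrete valuation ring containing k, Z a subscheme of X ×_k Spec R which is
finite over Spec R, and L an invertible module on X. Then the pullback of L to Z along Z → X ×_k
Spec R → X is isomorphic to the structure sheaf of Z (an isomorphism exists; none is singled out). -/
theorem result
    {k : Type u} [Field k] {X : Scheme.{u}} (sX : X ⟶ Spec (CommRingCat.of k))
    [IsIntegral X] [Smooth sX] (hproj : RelProj.IsHProjective sX)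
    (R : Type u) [CommRing R] [IsDomain R] [IsDiscreteValuationRing R] [Algebra k R]
    {Z : Scheme.{u}}
    (i : Z ⟶ pullback sX (Spec.map (CommRingCat.ofHom (algebraMap k R)))) [IsImmersion i]
    [IsFinite (i ≫ pullback.snd sX (Spec.map (CommRingCat.ofHom (algebraMap k R))))]
    (L : X.Modules) (hL : PicF.IsInvertible L) :
    Nonempty ((Scheme.Modules.pullback
        (i ≫ pullback.fst sX (Spec.map (CommRingCat.ofHom (algebraMap k R))))).obj L ≅
      Coh.structureModule Z) := by
  let g := i ≫ pullback.fst sX (Spec.map (CommRingCat.ofHom (algebraMap k R)))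
  let π := i ≫ pullback.snd sX (Spec.map (CommRingCat.ofHom (algebraMap k R)))
  let M := (Scheme.Modules.pullback g).obj L
  have hM : PicF.IsInvertible M := Groth.Agent.InvBasic.isInvertible_of_isBasis fun z => by
    obtain ⟨U, hU, ℓ, hℓ⟩ := Groth.Agent.InvBasic.exists_isBasis hL (g z)
    exact ⟨g ⁻¹ᵁ U, hU, _, Groth.Agent.InvPow.isBasis_pullLoc g hL hℓ⟩
  haveI : IsFinite π := ‹_›
  haveI : IsAffine Z := isAffine_of_isAffineHom π
  have hcl : ∀ z : Z, IsClosed ({z} : Set Z) → π z = IsLocalRing.closedPoint R := by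
    intro z hz
    have h1 : IsClosed ({π z} : Set (Spec (CommRingCat.of R))) := by
      rw [← Set.image_singleton]
      exact π.isClosedMap _ hz
    exact PrimeSpectrum.ext (IsLocalRing.eq_maximalIdeal
      ((PrimeSpectrum.isClosed_singleton_iff_isMaximal (π z)).1 h1))
  have hfin : {z : Z | IsClosed ({z} : Set Z)}.Finite :=
    (π.finite_preimage_singleton (IsLocalRing.closedPoint R)).subset fun z hz => hcl z hz
  obtain ⟨U, hU, hTU, ⟨e⟩⟩ := Groth.Agent.S19022.result Z M hM hfin.toFinset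
    (fun z hz => hfin.mem_toFinset.1 hz) ⟨⊤, isAffineOpen_top Z, fun z _ => trivial⟩
  have hUtop : ∀ z : Z, z ∈ U := by
    intro z
    by_contra hz
    obtain ⟨c, hc, hcl'⟩ := IsClosed.exists_closed_singleton U.2.isClosed_compl ⟨z, hz⟩
    exact hc (hTU c (hfin.mem_toFinset.2 hcl'))
  have : IsIso U.ι := by
    have hsurj : Surjective U.ι := ⟨fun z => ⟨⟨z, hUtop z⟩, rfl⟩⟩
    exact (isIso_iff_isOpenImmersion_and_epi_base U.ι).2 ⟨inferInstance, (TopCat.epi_iff_surjective _).2 hsurj.surj⟩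
  have htop : U = ⊤ := TopologicalSpace.Opens.ext (Set.eq_univ_of_forall hUtop)
  obtain ⟨ℓ, hℓ⟩ : ∃ ℓ : Γ(M, ⊤), Groth.Agent.InvBasic.IsBasis M ℓ := by
    obtain ⟨ℓ, hℓ⟩ := Groth.Agent.S13116.exists_isBasis_of_iso M U e
    exact ⟨_, hℓ.restrict (show (⊤ : Z.Opens) ≤ U.ι ''ᵁ ⊤ from (U.ι_image_top.trans htop).ge)⟩
  haveI : IsIso (Groth.Agent.ProjTwist.globalHom M ℓ) := by
    refine Groth.Agent.InvGlue.isIso_of_basis _ (fun _ : Unit => ⊤) (fun x => ⟨(), trivial⟩)
      (fun _ => Groth.Agent.InvPow.oneSec Z ⊤) (fun _ => Groth.Agent.InvPow.isBasis_oneSec ⊤) fun _ => ?_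
    convert hℓ using 1
    rw [Groth.Agent.ProjTwist.globalHom_app, Groth.Agent.QCohLib.map_self]
    exact one_smul _ _
  exact ⟨(asIso (Groth.Agent.ProjTwist.globalHom M ℓ)).symm⟩

end Groth.Agent.S13116
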