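import Mathlib
import Groth.Statements.S13117
-- import your own Groth.Agent.* helpers here

set_option autoImplicit false
universe u
open HilbChow

namespace Groth.Agent.S13117

open scoped TensorProduct

/-- Let k be an algebraically closed field, A a finite-dimensional commutative k-algebra (the coordinate
ring of a zero-dimensional subscheme Z of length dim_k A) and f ∈ A. Then the determinant of
multiplication by f on A is the product over the points x of Z — the k-algebra homomorphisms A → k —
of the value f(x) raised to the length of the local ring of Z at x, that length being the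
k-dimension of the localisation of A at the corresponding maximal ideal. This is the formula by
which the Hilbert-to-Chow morphism for zero-cycles sends Z to its fundamental cycle Σ ℓ(O_{Z,x})[x]. -/
theorem result
    (k A : Type u) [Field k] [IsAlgClosed k] [CommRing A] [Algebra k A] [Module.Finite k A] (f : A) :
    Algebra.norm k f =
      ∏ᶠ φ : A →ₐ[k] k, φ f ^ Module.finrank k (Localization.AtPrime (Ideal.comap φ ⊥)) := by
  classical
  haveI : IsArtinianRing A := IsArtinianRing.of_finite k A
  let toP : (A →ₐ[k] k) → PrimeSpectrum A := fun φ => ⟨Ideal.comap φ ⊥, inferInstance⟩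
  have hbij : Function.Bijective toP := by
    constructor
    · intro φ ψ h
      refine AlgHom.ext fun a => ?_
      have : a - algebraMap k A (φ a) ∈ (toP φ).asIdeal := by
        show φ (a - algebraMap k A (φ a)) = 0
        rw [map_sub, AlgHom.commutes]
        exact sub_self _
      rw [h] at this
      have e : ψ a - φ a = 0 := by
        have h' : ψ (a - algebraMap k A (φ a)) = 0 := this
        rwa [map_sub, AlgHom.commutes] at h'
      exact (sub_eq_zero.1 e).symm
    · intro p
      have hb : Function.Bijective (Algebra.ofId k (A ⧸ p.asIdeal)) :=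
        IsAlgClosed.algebraMap_bijective_of_isIntegral
      let e := AlgEquiv.ofBijective _ hb
      refine ⟨e.symm.toAlgHom.comp (Ideal.Quotient.mkₐ k p.asIdeal), PrimeSpectrum.ext ?_⟩
      ext a
      show e.symm (Ideal.Quotient.mk p.asIdeal a) = 0 ↔ a ∈ p.asIdeal
      rw [map_eq_zero_iff _ e.symm.injective, Ideal.Quotient.eq_zero_iff_mem]
  let E := Equiv.ofBijective toP hbij
  haveI : Finite (A →ₐ[k] k) := Finite.of_equiv _ E.symm
  haveI := Fintype.ofFinite (A →ₐ[k] k)
  let L : (A →ₐ[k] k) → Type u := fun φ => Localization.AtPrime (Ideal.comap φ ⊥)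
  let Φ : A →ₐ[k] (∀ φ, L φ) := Pi.algHom k _ fun φ => IsScalarTower.toAlgHom k A (L φ)
  have hΦ : Function.Bijective Φ := by
    have := (PrimeSpectrum.toPiLocalization_bijective (R := A))
    exact ((Equiv.piCongrLeft' (fun p : PrimeSpectrum A => Localization.AtPrime p.asIdeal) E.symm).bijective.comp this :)
  haveI hfin : ∀ φ, Module.Finite k (L φ) := fun φ =>
    Module.Finite.of_surjective ((Pi.evalAlgHom k L φ).comp Φ).toLinearMap
      ((Function.surjective_eval φ).comp hΦ.2)
  rw [finprod_eq_prod_of_fintype, ← Algebra.norm_eq_of_algEquiv (AlgEquiv.ofBijective Φ hΦ) f]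
  show Algebra.norm k (Φ f) = _
  have hpi : ∀ y : (∀ φ, L φ), Algebra.norm k y = ∏ φ, Algebra.norm k (y φ) := by
    intro y
    letI : LinearOrder (A →ₐ[k] k) := LinearOrder.lift' (Fintype.equivFin _) (Equiv.injective _)
    let b := fun φ => Module.Free.chooseBasis k (L φ)
    rw [Algebra.norm_eq_matrix_det (Pi.basis b)]
    have hM : Algebra.leftMulMatrix (Pi.basis b) y = Matrix.blockDiagonal' fun φ => Algebra.leftMulMatrix (b φ) (y φ) := by
      ext ⟨i, x⟩ ⟨j, z⟩
      rw [Algebra.leftMulMatrix_eq_repr_mul, Pi.basis_repr, Pi.basis_apply, Pi.mul_apply, Matrix.blockDiagonal'_apply]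
      rcases eq_or_ne i j with rfl | hij
      · rw [dif_pos rfl, Pi.single_eq_same, cast_eq, Algebra.leftMulMatrix_eq_repr_mul]
      · rw [dif_neg hij, Pi.single_eq_of_ne hij]
        simp
    rw [hM, (Matrix.blockTriangular_blockDiagonal' _).det_fintype]
    refine Finset.prod_congr rfl fun φ _ => ?_
    rw [Algebra.norm_eq_matrix_det (b φ), ← Matrix.det_submatrix_equiv_self (Equiv.sigmaSubtype φ).symm]
    congr 1
    ext x z
    exact Matrix.blockDiagonal'_apply_eq (fun ψ => Algebra.leftMulMatrix (b ψ) (y ψ)) φ x z
  rw [hpi]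
  refine Finset.prod_congr rfl fun φ _ => ?_
  haveI : IsArtinianRing (L φ) := IsArtinianRing.of_finite k (L φ)
  have hm : f - algebraMap k A (φ f) ∈ Ideal.comap φ ⊥ := by
    show φ (f - algebraMap k A (φ f)) = 0
    rw [map_sub, AlgHom.commutes]
    exact sub_self _
  have hnil : IsNilpotent (algebraMap A (L φ) f - algebraMap k (L φ) (φ f)) := by
    rw [IsScalarTower.algebraMap_apply k A (L φ), ← map_sub]
    obtain ⟨n, hn⟩ := IsArtinianRing.isNilpotent_jacobson_bot (R := L φ)
    refine ⟨n, ?_⟩
    have h1 := Ideal.pow_mem_pow (show algebraMap A (L φ) (f - algebraMap k A (φ f)) ∈ (⊥ : Ideal (L φ)).jacobson by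
      rw [IsLocalRing.jacobson_eq_maximalIdeal ⊥ bot_ne_top, ← Localization.AtPrime.map_eq_maximalIdeal]
      exact Ideal.mem_map_of_mem _ hm) n
    rw [hn] at h1
    exact h1
  show Algebra.norm k (algebraMap A (L φ) f) = _
  set N : Module.End k (L φ) := Algebra.lmul k (L φ) (algebraMap k (L φ) (φ f) - algebraMap A (L φ) f) with hN
  have hNnil : IsNilpotent N := by
    rw [hN, ← neg_sub, map_neg]
    exact (hnil.map _).neg
  have h1 := LinearMap.eval_charpoly N (φ f)
  rw [IsNilpotent.charpoly_eq_X_pow_finrank hNnil, Polynomial.eval_pow, Polynomial.eval_X] at h1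
  rw [Algebra.norm_apply, h1]
  congr 1
  refine LinearMap.ext fun z => ?_
  simp [hN, Algebra.smul_def, sub_mul]

end Groth.Agent.S13117
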