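import Mathlib
import Groth.Statements.S13118
-- import your own Groth.Agent.* helpers here

set_option autoImplicit false
universe u
open scoped TensorProduct
open HilbChow

namespace Groth.Agent.S13118

section

open exteriorPower TensorProduct

variable {A : Type*} [CommRing A]

lemma map_smul_pow {n : ℕ} {M N : Type*} [AddCommGroup M] [Module A M] [AddCommGroup N] [Module A N]
    (s : A) (f : M →ₗ[A] N) : exteriorPower.map n (s • f) = s ^ n • exteriorPower.map n f := by
  refine exteriorPower.linearMap_ext (AlternatingMap.ext fun v => ?_)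
  simp only [LinearMap.compAlternatingMap_apply, LinearMap.smul_apply, exteriorPower.map_apply_ιMulti]
  rw [show (⇑(s • f) ∘ v) = fun i => (fun _ : Fin n => s) i • (⇑f ∘ v) i from rfl]
  rw [← AlternatingMap.coe_multilinearMap, MultilinearMap.map_smul_univ]
  simp

lemma map_comp_apply' {n : ℕ} {M N L : Type*} [AddCommGroup M] [Module A M] [AddCommGroup N] [Module A N]
    [AddCommGroup L] [Module A L] (f : M →ₗ[A] N) (g : N →ₗ[A] L) (x : ⋀[A]^n M) :
    exteriorPower.map n g (exteriorPower.map n f x) = exteriorPower.map n (g ∘ₗ f) x := by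
  rw [exteriorPower.map_comp]; rfl

lemma map_id_smul {n : ℕ} {M : Type*} [AddCommGroup M] [Module A M] (s : A) (x : ⋀[A]^n M) :
    exteriorPower.map n (s • (LinearMap.id : M →ₗ[A] M)) x = s ^ n • x := by
  rw [map_smul_pow, exteriorPower.map_id]; rfl

lemma top_scalar [Nontrivial A] {n : ℕ} (F : (Fin n → A) →ₗ[A] (Fin n → A)) :
    ∃ D : A, ∀ x, exteriorPower.map n F x = D • x := by
  have hr : Module.finrank A (⋀[A]^n (Fin n → A)) = 1 := by
    rw [exteriorPower.finrank_eq, Module.finrank_pi, Fintype.card_fin, Nat.choose_self]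
  let b := Module.basisUnique Unit hr
  refine ⟨b.repr (exteriorPower.map n F (b ())) (), fun x => ?_⟩
  have : exteriorPower.map n F = b.repr (exteriorPower.map n F (b ())) () • LinearMap.id := by
    refine b.ext fun _ => b.ext_elem fun _ => ?_
    simp
  conv_lhs => rw [this]
  rfl

lemma exists_free_data {R : Type*} [CommRing R] (S : Submonoid R) (Rₛ : Type*) [CommRing Rₛ] [Algebra R Rₛ]
    [IsLocalization S Rₛ]
    {M : Type*} [AddCommGroup M] [Module R M] [Module.FinitePresentation R M]
    {M' : Type*} [AddCommGroup M'] [Module R M'] [Module Rₛ M'] [IsScalarTower R Rₛ M']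
    (f : M →ₗ[R] M') [IsLocalizedModule S f] {n : ℕ} (b : Module.Basis (Fin n) Rₛ M') :
    ∃ (s : R) (_ : s ∈ S) (e : (Fin n → R) →ₗ[R] M) (h : M →ₗ[R] (Fin n → R)),
      (∀ x, e (h x) = s • x) ∧ (∀ y, h (e y) = s • y) := by
  let g : (Fin n → R) →ₗ[R] (Fin n → Rₛ) := LinearMap.pi fun i => Algebra.linearMap R Rₛ ∘ₗ LinearMap.proj i
  let l : M' ≃ₗ[R] (Fin n → Rₛ) := b.equivFun.restrictScalars R
  obtain ⟨h, s₀, hh⟩ := Module.FinitePresentation.exists_lift_of_isLocalizedModule S g (l.toLinearMap ∘ₗ f)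
  obtain ⟨e, s₁, he⟩ := Module.FinitePresentation.exists_lift_of_isLocalizedModule S f (l.symm.toLinearMap ∘ₗ g)
  have hh' : ∀ x, g (h x) = (s₀ : R) • l (f x) := fun x => LinearMap.congr_fun hh x
  have he' : ∀ y, f (e y) = (s₁ : R) • l.symm (g y) := fun y => LinearMap.congr_fun he y
  obtain ⟨t, ht⟩ := Module.Finite.exists_smul_of_comp_eq_of_isLocalizedModule S f (e ∘ₗ h)
    (((s₁ : R) * s₀) • LinearMap.id) (LinearMap.ext fun x => by
      simp [he', hh', mul_smul])
  obtain ⟨u, hu⟩ := Module.Finite.exists_smul_of_comp_eq_of_isLocalizedModule S g (h ∘ₗ e)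
    (((s₁ : R) * s₀) • LinearMap.id) (LinearMap.ext fun x => by
      simp only [LinearMap.comp_apply, LinearMap.smul_apply, LinearMap.id_apply, hh', he', map_smul,
        LinearEquiv.apply_symm_apply, ← mul_smul, mul_comm (s₀ : R)])
  refine ⟨t * u * (s₁ * s₀), S.mul_mem (S.mul_mem t.2 u.2) (S.mul_mem s₁.2 s₀.2), ((t : R) * u) • e, h,
    fun x => ?_, fun y => ?_⟩
  · have := congrArg ((u : R) • ·) (LinearMap.congr_fun ht x)
    simp only [LinearMap.smul_apply, LinearMap.comp_apply, LinearMap.id_apply, Submonoid.smul_def, ← mul_smul] at this ⊢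
    rw [mul_comm (t : R) u, this]; ring_nf
  · have := congrArg ((t : R) • ·) (LinearMap.congr_fun hu y)
    simp only [LinearMap.smul_apply, LinearMap.comp_apply, LinearMap.id_apply, Submonoid.smul_def, ← mul_smul, map_smul] at this ⊢
    rw [this]; ring_nf

variable {B : Type*} [CommRing B] [Algebra A B]
variable {M N : Type*} [AddCommGroup M] [Module B M] [Module A M] [IsScalarTower A B M]
variable [AddCommGroup N] [Module B N] [Module A N] [IsScalarTower A B N]

variable (A) in
noncomputable def mu (m : M) : B →ₗ[A] M := (LinearMap.toSpanSingleton B M m).restrictScalars A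

variable (A B) in
noncomputable def tau (m : M) : N →ₗ[A] M ⊗[B] N := (TensorProduct.mk B M N m).restrictScalars A

variable (A N) in
noncomputable def cmul (c : B) : N →ₗ[A] N := (LinearMap.lsmul B N c).restrictScalars A

variable (A N) in
noncomputable def gone (g : M →ₗ[B] B) : M ⊗[B] N →ₗ[A] N :=
  ((TensorProduct.lid B N).toLinearMap ∘ₗ LinearMap.rTensor N g).restrictScalars A

lemma exists_line_data [Module.Finite A B] [Module.Finite B M] [Module.Projective B M]
    (h : ∀ q : PrimeSpectrum B, Module.finrank (Localization.AtPrime q.asIdeal) (LocalizedModule q.asIdeal.primeCompl M) = 1)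
    (p : Ideal A) [p.IsPrime] :
    ∃ (s : A) (m : M) (g : M →ₗ[B] B), s ∉ p ∧ (∀ x, g x • m = s • x) ∧ g m = algebraMap A B s := by
  have : Module.FinitePresentation B M := Module.finitePresentation_of_projective B M
  let T := Algebra.algebraMapSubmonoid B p.primeCompl
  let B' := Localization T
  have : Finite (MaximalSpectrum B') := by
    let Ap := Localization.AtPrime p
    have hint : Algebra.IsIntegral Ap B' := Algebra.IsIntegral.of_finite Ap B'
    have hfin : ((IsLocalRing.maximalIdeal Ap).primesOver B').Finite := Algebra.QuasiFinite.finite_primesOver _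
    have := hfin.to_subtype
    refine Finite.of_injective (β := (IsLocalRing.maximalIdeal Ap).primesOver B') (fun P => ⟨P.asIdeal, P.isMaximal.isPrime, ⟨?_⟩⟩) ?_
    · have := P.isMaximal
      exact (IsLocalRing.eq_maximalIdeal (Ideal.isMaximal_comap_of_isIntegral_of_isMaximal P.asIdeal)).symm
    · intro P P' e
      exact MaximalSpectrum.ext (congrArg Subtype.val e)
  have hrk : ∀ P : MaximalSpectrum B', Module.finrank (B' ⧸ P.asIdeal) ((B' ⧸ P.asIdeal) ⊗[B'] (B' ⊗[B] M)) = 1 := by
    intro P
    have := P.isMaximal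
    let _ := Ideal.Quotient.field P.asIdeal
    let q : PrimeSpectrum (B' ⧸ P.asIdeal) := ⟨⊥, Ideal.bot_prime⟩
    have e := Module.rankAtStalk_baseChange (R := B') (M := B' ⊗[B] M) q
    rw [Module.rankAtStalk_baseChange (R := B) (M := M), Module.rankAtStalk_eq_finrank_of_free] at e
    exact e.trans (h _)
  obtain ⟨b⟩ := Module.nonempty_basis_of_flat_of_finrank_eq B' (B' ⊗[B] M) 1 hrk
  obtain ⟨t, ⟨s, hs, rfl⟩, e, hm, h1, h2⟩ := exists_free_data T B' (TensorProduct.mk B B' M 1) b
  refine ⟨s, e 1, (LinearMap.proj 0) ∘ₗ hm, hs, fun x => ?_, ?_⟩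
  · rw [← algebraMap_smul B s x, ← h1 x, ← map_smul]
    congr 1
    funext i
    simp [Subsingleton.elim i 0]
  · simp [h2]

lemma exists_scalar [Module.Finite A B] [Module.Projective A B] [Module.Finite B N] [Module.Projective B N] {n : ℕ}
    (hn : ∀ q : PrimeSpectrum A, Module.finrank (Localization.AtPrime q.asIdeal) (LocalizedModule q.asIdeal.primeCompl B) = n)
    (h : ∀ q : PrimeSpectrum B, Module.finrank (Localization.AtPrime q.asIdeal) (LocalizedModule q.asIdeal.primeCompl N) = 1)
    (p : Ideal A) [p.IsPrime] :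
    ∃ u : A, u ∉ p ∧ ∀ c : B, ∃ D : A, (∀ w : ⋀[A]^n B, u • exteriorPower.map n (cmul A B c) w = D • w) ∧
      ∀ w : ⋀[A]^n N, u • exteriorPower.map n (cmul A N c) w = D • w := by
  have : Nontrivial A := nontrivial_of_ne 0 1 fun e => Ideal.IsPrime.ne_top ‹p.IsPrime› ((Ideal.eq_top_iff_one _).2 (e ▸ p.zero_mem))
  have : Module.Flat A B := inferInstance
  have : Module.FinitePresentation A B := Module.finitePresentation_of_projective A B
  have : Module.Free (Localization.AtPrime p) (LocalizedModule p.primeCompl B) := Module.free_of_flat_of_isLocalRing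
  let b := Module.finBasisOfFinrankEq (Localization.AtPrime p) (LocalizedModule p.primeCompl B) (hn ⟨p, inferInstance⟩)
  obtain ⟨t, ht, e, k, hek, -⟩ := exists_free_data p.primeCompl (Localization.AtPrime p)
    (LocalizedModule.mkLinearMap p.primeCompl B) b
  obtain ⟨s, m, g, hs, hg, hgm⟩ := exists_line_data (A := A) h p
  refine ⟨t ^ n * t ^ n * s ^ n, ?_, fun c => ?_⟩
  · exact p.primeCompl.mul_mem (p.primeCompl.mul_mem (pow_mem ht n) (pow_mem ht n)) (pow_mem (show s ∈ p.primeCompl from hs) n)
  obtain ⟨D, hD⟩ := top_scalar (k ∘ₗ cmul A B c ∘ₗ e)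
  have hek' : e ∘ₗ k = t • LinearMap.id := LinearMap.ext hek
  have key : ∀ w : ⋀[A]^n B, (t ^ n * t ^ n) • exteriorPower.map n (cmul A B c) w = (D * t ^ n) • w := by
    intro w
    have e1 := congrArg (exteriorPower.map n e) (hD (exteriorPower.map n k w))
    simp only [map_smul, map_comp_apply', hek', map_id_smul] at e1
    rw [show e ∘ₗ (k ∘ₗ cmul A B c ∘ₗ e) ∘ₗ k = (e ∘ₗ k) ∘ₗ cmul A B c ∘ₗ (e ∘ₗ k) from rfl, hek',
      LinearMap.smul_comp, LinearMap.id_comp, LinearMap.comp_smul, LinearMap.comp_id, smul_smul, map_smul_pow,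
      LinearMap.smul_apply, mul_pow, smul_smul] at e1
    exact e1
  refine ⟨D * t ^ n * s ^ n, fun w => ?_, fun w => ?_⟩
  · rw [mul_comm _ (s ^ n), mul_smul, key, ← mul_smul, mul_comm (s ^ n)]
  · let g' : N →ₗ[A] B := g.restrictScalars A
    have hμg : mu A m ∘ₗ g' = s • LinearMap.id := LinearMap.ext hg
    have hc : cmul A N c ∘ₗ mu A m = mu A m ∘ₗ cmul A B c := LinearMap.ext fun x => by
      change c • x • m = (c * x) • m
      rw [mul_smul]
    have e1 := congrArg (exteriorPower.map n (mu A m)) (key (exteriorPower.map n g' w))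
    simp only [map_smul, map_comp_apply', hμg, map_id_smul, ← LinearMap.comp_assoc, ← hc] at e1
    rw [LinearMap.comp_assoc, hμg, LinearMap.comp_smul, LinearMap.comp_id, map_smul_pow, LinearMap.smul_apply] at e1
    simp only [smul_smul] at e1 ⊢
    exact e1

lemma mem_of_local {P : Type*} [AddCommGroup P] [Module A P] (S : Submodule A P) (x : P)
    (h : ∀ p : Ideal A, p.IsPrime → ∃ a, a ∉ p ∧ a • x ∈ S) : x ∈ S := by
  by_contra hx
  have hI : S.comap (LinearMap.toSpanSingleton A P x) ≠ ⊤ := fun e => hx (by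
    have h1 : (1 : A) ∈ S.comap (LinearMap.toSpanSingleton A P x) := by rw [e]; trivial
    simpa using h1)
  obtain ⟨p, hp, hle⟩ := Ideal.exists_le_maximal _ hI
  obtain ⟨a, ha, hax⟩ := h p hp.isPrime
  exact ha (hle (by simpa using hax))

lemma self_add_neg_smul {P : Type*} [AddCommMonoid P] [Module A P] (y : P) : y + (-1 : A) • y = 0 := by
  calc y + (-1 : A) • y = (1 + -1 : A) • y := by rw [add_smul, one_smul]
    _ = 0 := by rw [add_neg_cancel, zero_smul]

lemma eq_of_add_neg_smul {P : Type*} [AddCommMonoid P] [Module A P] {x y : P} (h : x + (-1 : A) • y = 0) : x = y := by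
  calc x = x + (y + (-1 : A) • y) := by rw [self_add_neg_smul, add_zero]
    _ = (x + (-1 : A) • y) + y := by rw [add_comm y, add_assoc]
    _ = y := by rw [h, zero_add]

variable (A B M N) in
noncomputable def graph (n : ℕ) :
    Submodule A (((⋀[A]^n M) ⊗[A] (⋀[A]^n N)) × ((⋀[A]^n B) ⊗[A] (⋀[A]^n (M ⊗[B] N)))) :=
  Submodule.span A (Set.range fun x : M × (⋀[A]^n B) × (⋀[A]^n N) =>
    (exteriorPower.map n (mu A x.1) x.2.1 ⊗ₜ[A] x.2.2, x.2.1 ⊗ₜ[A] exteriorPower.map n (tau A B x.1) x.2.2))

lemma graph_mem {n : ℕ} (m : M) (w : ⋀[A]^n B) (w' : ⋀[A]^n N) :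
    (exteriorPower.map n (mu A m) w ⊗ₜ[A] w', w ⊗ₜ[A] exteriorPower.map n (tau A B m) w') ∈ graph A B M N n :=
  Submodule.subset_span ⟨(m, w, w'), rfl⟩

theorem main [Module.Finite A B] [Module.Projective A B] [Module.Finite B M] [Module.Projective B M]
    [Module.Finite B N] [Module.Projective B N] {n : ℕ}
    (hn : ∀ q : PrimeSpectrum A, Module.finrank (Localization.AtPrime q.asIdeal) (LocalizedModule q.asIdeal.primeCompl B) = n)
    (h₁ : ∀ q : PrimeSpectrum B, Module.finrank (Localization.AtPrime q.asIdeal) (LocalizedModule q.asIdeal.primeCompl M) = 1)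
    (h₂ : ∀ q : PrimeSpectrum B, Module.finrank (Localization.AtPrime q.asIdeal) (LocalizedModule q.asIdeal.primeCompl N) = 1) :
    Nonempty ((⋀[A]^n B) ⊗[A] (⋀[A]^n (M ⊗[B] N)) ≃ₗ[A] (⋀[A]^n M) ⊗[A] (⋀[A]^n N)) := by
  let G := graph A B M N n
  have hloc : ∀ p : Ideal A, p.IsPrime → ∃ a : A, a ∉ p ∧ (∀ z ∈ G, z.1 = 0 → a • z.2 = 0) ∧
      (∀ z ∈ G, z.2 = 0 → a • z.1 = 0) ∧ (∀ x, a • x ∈ G.map (LinearMap.fst A _ _)) ∧
      (∀ x, a • x ∈ G.map (LinearMap.snd A _ _)) := by
    intro p hp
    obtain ⟨s, m, g, hs, hg, hgm⟩ := exists_line_data (A := A) h₁ p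
    obtain ⟨u, hu, hD⟩ := exists_scalar hn h₂ p
    let g' : M →ₗ[A] B := g.restrictScalars A
    let φ := TensorProduct.map (exteriorPower.map n g') (exteriorPower.map n (tau A B m : N →ₗ[A] M ⊗[B] N))
    let ψ := TensorProduct.map (exteriorPower.map n (mu A m : B →ₗ[A] M)) (exteriorPower.map n (gone A N g))
    have hgμ : ∀ m', g' ∘ₗ mu A m' = cmul A B (g m') := fun m' => LinearMap.ext fun x => by
      simp [g', mu, cmul, mul_comm]
    have hgτ : ∀ m', gone A N g ∘ₗ tau A B m' = cmul A N (g m') := fun m' => LinearMap.ext fun x => by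
      simp [gone, tau, cmul]
    have hμc : ∀ m', mu A m ∘ₗ cmul A B (g m') = s • mu A m' := fun m' => LinearMap.ext fun x => by
      change (g m' * x) • m = s • x • m'
      rw [mul_comm, mul_smul, hg, smul_comm]
    have hτc : ∀ m', tau A B m ∘ₗ cmul A N (g m') = s • (tau A B m' : N →ₗ[A] _) := fun m' => LinearMap.ext fun x => by
      change m ⊗ₜ[B] (g m' • x) = s • m' ⊗ₜ[B] x
      rw [← TensorProduct.smul_tmul, hg, TensorProduct.smul_tmul']
    have hμg : mu A m ∘ₗ g' = s • LinearMap.id := LinearMap.ext fun x => hg x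
    have hτg : tau A B m ∘ₗ gone A N g = s • LinearMap.id := LinearMap.ext fun x => by
      induction x using TensorProduct.induction_on with
      | zero => simp
      | tmul a b =>
        change m ⊗ₜ[B] (g a • b) = s • a ⊗ₜ[B] b
        rw [← TensorProduct.smul_tmul, hg, TensorProduct.smul_tmul']
      | add a b ha hb => simp only [map_add, ha, hb]
    have key : ∀ z ∈ G, u • φ z.1 = u • s ^ n • z.2 ∧ u • ψ z.2 = u • s ^ n • z.1 := by
      intro z hz
      induction hz using Submodule.span_induction with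
      | mem z hz =>
        obtain ⟨⟨m', w, w'⟩, rfl⟩ := hz
        obtain ⟨D, hB, hN⟩ := hD (g m')
        simp only [φ, ψ, TensorProduct.map_tmul, map_comp_apply', hgμ, hgτ]
        constructor
        · rw [TensorProduct.smul_tmul', hB, TensorProduct.smul_tmul, ← map_smul, ← hN, map_smul, map_comp_apply', hτc,
            map_smul_pow, LinearMap.smul_apply, TensorProduct.tmul_smul, TensorProduct.tmul_smul]
        · rw [← TensorProduct.tmul_smul, hN, ← TensorProduct.smul_tmul, ← map_smul, ← hB, map_smul, map_comp_apply', hμc,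
            map_smul_pow, LinearMap.smul_apply, ← TensorProduct.smul_tmul', ← TensorProduct.smul_tmul']
      | zero => simp
      | add a b _ _ ha hb =>
        simp only [Prod.fst_add, Prod.snd_add, map_add, smul_add, ha.1, ha.2, hb.1, hb.2, and_self]
      | smul a z _ hz =>
        simp only [Prod.smul_fst, Prod.smul_snd, map_smul]
        rw [smul_comm u a, hz.1, smul_comm u a, hz.2, smul_comm (s ^ n) a, smul_comm u a, smul_comm (s ^ n) a, smul_comm u a]
        exact ⟨rfl, rfl⟩
    refine ⟨u * s ^ n, p.primeCompl.mul_mem hu (pow_mem (show s ∈ p.primeCompl from hs) n), ?_, ?_, ?_, ?_⟩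
    · intro z hz h0
      rw [mul_smul, ← (key z hz).1, h0, map_zero, smul_zero]
    · intro z hz h0
      rw [mul_smul, ← (key z hz).2, h0, map_zero, smul_zero]
    · intro x
      induction x using TensorProduct.induction_on with
      | zero => simp
      | tmul a b =>
        rw [mul_smul]
        refine Submodule.smul_mem _ u ⟨_, graph_mem m (exteriorPower.map n g' a) b, ?_⟩
        simp only [LinearMap.fst_apply, map_comp_apply', hμg, map_id_smul, ← TensorProduct.smul_tmul']
      | add a b ha hb => rw [smul_add]; exact add_mem ha hb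
    · intro x
      induction x using TensorProduct.induction_on with
      | zero => simp
      | tmul a b =>
        rw [mul_smul]
        refine Submodule.smul_mem _ u ⟨_, graph_mem m a (exteriorPower.map n (gone A N g) b), ?_⟩
        simp only [LinearMap.snd_apply, map_comp_apply', hτg, map_id_smul, TensorProduct.tmul_smul]
      | add a b ha hb => rw [smul_add]; exact add_mem ha hb
  have hf : Function.Bijective ((LinearMap.fst A _ _).comp G.subtype) := by
    refine ⟨fun z z' e => Subtype.ext (Prod.ext e ?_), fun x => ?_⟩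
    · have e' : z.1.1 = z'.1.1 := e
      have : z.1.2 + (-1 : A) • z'.1.2 = 0 := (Submodule.mem_bot A).1 (mem_of_local (P := (⋀[A]^n B) ⊗[A] (⋀[A]^n (M ⊗[B] N))) ⊥ _ fun p hp => by
        obtain ⟨a, ha, h, -⟩ := hloc p hp
        refine ⟨a, ha, ?_⟩
        rw [Submodule.mem_bot]
        refine h _ (G.add_mem z.2 (G.smul_mem (-1 : A) z'.2)) ?_
        simp only [Prod.fst_add, Prod.smul_fst, e']
        exact self_add_neg_smul _)
      exact eq_of_add_neg_smul this
    · obtain ⟨z, hz, e⟩ := mem_of_local (G.map (LinearMap.fst A _ _)) x fun p hp => by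
        obtain ⟨a, ha, -, -, h, -⟩ := hloc p hp
        exact ⟨a, ha, h x⟩
      exact ⟨⟨z, hz⟩, e⟩
  have hs : Function.Bijective ((LinearMap.snd A _ _).comp G.subtype) := by
    refine ⟨fun z z' e => Subtype.ext (Prod.ext ?_ e), fun x => ?_⟩
    · have e' : z.1.2 = z'.1.2 := e
      have : z.1.1 + (-1 : A) • z'.1.1 = 0 := (Submodule.mem_bot A).1 (mem_of_local (P := (⋀[A]^n M) ⊗[A] (⋀[A]^n N)) ⊥ _ fun p hp => by
        obtain ⟨a, ha, -, h, -⟩ := hloc p hp
        refine ⟨a, ha, ?_⟩
        rw [Submodule.mem_bot]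
        refine h _ (G.add_mem z.2 (G.smul_mem (-1 : A) z'.2)) ?_
        simp only [Prod.snd_add, Prod.smul_snd, e']
        exact self_add_neg_smul _)
      exact eq_of_add_neg_smul this
    · obtain ⟨z, hz, e⟩ := mem_of_local (G.map (LinearMap.snd A _ _)) x fun p hp => by
        obtain ⟨a, ha, -, -, -, h⟩ := hloc p hp
        exact ⟨a, ha, h x⟩
      exact ⟨⟨z, hz⟩, e⟩
  exact ⟨(LinearEquiv.ofBijective _ hs).symm ≪≫ₗ LinearEquiv.ofBijective _ hf⟩

end

/-- Let A → B be a ring homomorphism making B a finite locally free A-module of constant rank n, and let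
M₁, M₂ be locally free B-modules of rank 1. Then, as A-modules, ∧ⁿ_A B ⊗_A ∧ⁿ_A(M₁ ⊗_B M₂) ≅ ∧ⁿ_A M₁
⊗_A ∧ⁿ_A M₂. (The published statement gives a specific, canonical isomorphism and covers any finite
family M₁, …, M_r, with the (r−1)-st tensor power of ∧ⁿ_A B; this row asserts only that an
isomorphism exists, for two modules, the case from which the general one follows by induction.)
Locally free of rank r is expressed as finitely generated projective with all localisations at
primes of rank r. -/
theorem result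
    (A B : Type u) [CommRing A] [CommRing B] [Algebra A B] [Module.Finite A B] [Module.Projective A B]
    (n : ℕ) (hn : ∀ q : PrimeSpectrum A, Module.finrank (Localization.AtPrime q.asIdeal) (LocalizedModule q.asIdeal.primeCompl B) = n)
    (M₁ M₂ : Type u) [AddCommGroup M₁] [Module B M₁] [Module A M₁] [IsScalarTower A B M₁]
    [AddCommGroup M₂] [Module B M₂] [Module A M₂] [IsScalarTower A B M₂]
    [Module.Finite B M₁] [Module.Projective B M₁] [Module.Finite B M₂] [Module.Projective B M₂]
    (h₁ : ∀ q : PrimeSpectrum B, Module.finrank (Localization.AtPrime q.asIdeal) (LocalizedModule q.asIdeal.primeCompl M₁) = 1)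
    (h₂ : ∀ q : PrimeSpectrum B, Module.finrank (Localization.AtPrime q.asIdeal) (LocalizedModule q.asIdeal.primeCompl M₂) = 1) :
    Nonempty ((⋀[A]^n B) ⊗[A] (⋀[A]^n (M₁ ⊗[B] M₂)) ≃ₗ[A] (⋀[A]^n M₁) ⊗[A] (⋀[A]^n M₂)) := by
  exact main hn h₁ h₂

end Groth.Agent.S13118
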