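import Mathlib
import Groth.Statements.S1312
-- import your own Groth.Agent.* helpers here

set_option autoImplicit false
universe u
open FlatMor

namespace Groth.Agent.S1312

set_option backward.isDefEq.respectTransparency.types false

open AlgebraicGeometry CategoryTheory Limits in
/-- Let Y ⟶ Y' be a thickening, let X be the base change to Y of a scheme X' over Y', and assume both X
⟶ Y and X' ⟶ Y' are locally of finite type. Then X ⟶ Y is locally quasi-finite if and only if X' ⟶
Y' is. -/
theorem result {X X' Y Y' : Scheme.{u}} (iX : X ⟶ X') (iY : Y ⟶ Y') (f : X ⟶ Y) (f' : X' ⟶ Y')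
    (hY : MoreMor.IsThickening iY) (hc : IsPullback iX f f' iY) [LocallyOfFiniteType f] [LocallyOfFiniteType f'] :
    LocallyQuasiFinite f ↔ LocallyQuasiFinite f' := by
  refine ⟨fun hf => ?_, fun hf => MorphismProperty.of_isPullback hc hf⟩
  obtain ⟨hYc, hYs⟩ := hY
  haveI := hYc
  haveI := hYs
  haveI : Surjective iX := MorphismProperty.of_isPullback hc.flip hYs
  haveI : IsClosedImmersion iX := MorphismProperty.of_isPullback hc.flip hYc
  rw [locallyQuasiFinite_iff_isDiscrete_preimage_singleton]
  intro y'
  obtain ⟨y, rfl⟩ := iY.surjective y'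
  have e0 : ∀ x, f' (iX x) = iY (f x) := fun x => by
    rw [← Scheme.Hom.comp_apply, hc.w, Scheme.Hom.comp_apply]
  have e : f' ⁻¹' {iY y} = iX '' (f ⁻¹' {y}) := by
    ext x'
    constructor
    · intro hx
      obtain ⟨x, rfl⟩ := iX.surjective x'
      exact ⟨x, iY.isClosedEmbedding.injective ((e0 x).symm.trans hx), rfl⟩
    · rintro ⟨x, hx, rfl⟩
      exact (e0 x).trans (congrArg iY hx)
  rw [e]
  exact (f.isDiscrete_preimage_singleton y).image iX.isClosedEmbedding.isEmbedding.isInducing

end Groth.Agent.S1312
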