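import Groth.Statements.S13120
import Groth.Agent.CharTwoSquares.Basic
-- import your own Groth.Agent.* helpers here

set_option autoImplicit false
universe u
open KumFam

namespace Groth.Agent.S13120

open MvPolynomial Groth.Agent.CharTwoSquares in
theorem main {R : Type u} [CommRing R] [CharP R 2] {l0 l2 l4 s0 s2 s4 τ : R} (hτ : IsUnit τ)
    (L S : MvPolynomial (Fin 2) R) (hL : sqr L = C l0 * X 0 ^ 4 + C l2 * X 0 ^ 2 + C l4)
    (hS : sqr S = C s0 * X 1 ^ 4 + C s2 * X 1 ^ 2 + C s4) (a : MvPolynomial (Fin 2) R)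
    (ha : a ∈ Algebra.adjoin R
      ({X 0 ^ 2, X 0 ^ 3, X 1 ^ 2, X 1 ^ 3} : Set (MvPolynomial (Fin 2) R))) :
    MvPolynomial.mkDerivation R
        (![X 1 ^ 2 * (C l0 * X 0 ^ 4 + C τ * X 0 ^ 3 + C l2 * X 0 ^ 2 + C l4),
          X 0 ^ 2 * (C s0 * X 1 ^ 4 + C τ * X 1 ^ 3 + C s2 * X 1 ^ 2 + C s4)] :
          Fin 2 → MvPolynomial (Fin 2) R) a = 0 ↔
      a ∈ Algebra.adjoin R
        ({X 0 ^ 2, X 1 ^ 2,
          (C s0 * X 1 ^ 4 + C s2 * X 1 ^ 2 + C s4) * X 0 ^ 3 +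
            (C l0 * X 0 ^ 4 + C l2 * X 0 ^ 2 + C l4) * X 1 ^ 3 +
            C τ * X 0 ^ 3 * X 1 ^ 3} : Set (MvPolynomial (Fin 2) R)) := by
  have h2 : (2 : MvPolynomial (Fin 2) R) = 0 := CharTwo.two_eq_zero
  rw [← hL, ← hS]
  set g := sqr S * X 0 ^ 3 + sqr L * X 1 ^ 3 + C τ * X 0 ^ 3 * X 1 ^ 3 with hg
  set D := MvPolynomial.mkDerivation R (![X 1 ^ 2 * (C l0 * X 0 ^ 4 + C τ * X 0 ^ 3 + C l2 * X 0 ^ 2 + C l4),
          X 0 ^ 2 * (C s0 * X 1 ^ 4 + C τ * X 1 ^ 3 + C s2 * X 1 ^ 2 + C s4)] :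
          Fin 2 → MvPolynomial (Fin 2) R) with hD
  have hX0 : D (X 0) = X 1 ^ 2 * (sqr L + C τ * X 0 ^ 3) := by rw [hD, mkDerivation_X, hL]; simp; ring
  have hX1 : D (X 1) = X 0 ^ 2 * (sqr S + C τ * X 1 ^ 3) := by rw [hD, mkDerivation_X, hS]; simp; ring
  have hsq : ∀ i : Fin 2, sqr (X i : MvPolynomial (Fin 2) R) = X i ^ 2 := fun i => by simp [expand_X]
  have hDsq : ∀ i : Fin 2, D (X i ^ 2) = 0 := fun i => by rw [← hsq, derivation_sq]
  have hD3 : ∀ i : Fin 2, D (X i ^ 3) = X i ^ 2 * D (X i) := fun i => by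
    rw [pow_succ (X i) 2, Derivation.leibniz, hDsq, smul_zero, add_zero, smul_eq_mul]
  have hA : ∀ x ∈ Algebra.adjoin R ({X 0 ^ 2, X 0 ^ 3, X 1 ^ 2, X 1 ^ 3} : Set (MvPolynomial (Fin 2) R)),
      ∃ r0 r1 r2 r3, x = sqr r0 + sqr r1 * X 0 ^ 3 + sqr r2 * X 1 ^ 3 + sqr r3 * (X 0 ^ 3 * X 1 ^ 3) := by
    intro x hx
    induction hx using Algebra.adjoin_induction with
    | mem x hx =>
      simp only [Set.mem_insert_iff, Set.mem_singleton_iff] at hx
      rcases hx with rfl | rfl | rfl | rfl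
      · exact ⟨X 0, 0, 0, 0, by simp [hsq]⟩
      · exact ⟨0, 1, 0, 0, by simp⟩
      · exact ⟨X 1, 0, 0, 0, by simp [hsq]⟩
      · exact ⟨0, 0, 1, 0, by simp⟩
    | algebraMap r => exact ⟨C r, 0, 0, 0, by simp⟩
    | add x y _ _ hx hy =>
      obtain ⟨a, b, c, d, rfl⟩ := hx
      obtain ⟨a', b', c', d', rfl⟩ := hy
      exact ⟨a + a', b + b', c + c', d + d', by simp only [map_add]; ring⟩
    | mul x y _ _ hx hy =>
      obtain ⟨a, b, c, d, rfl⟩ := hx
      obtain ⟨a', b', c', d', rfl⟩ := hy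
      exact ⟨a * a' + b * b' * X 0 ^ 3 + c * c' * X 1 ^ 3 + d * d' * (X 0 ^ 3 * X 1 ^ 3),
        a * b' + b * a' + (c * d' + d * c') * X 1 ^ 3,
        a * c' + c * a' + (b * d' + d * b') * X 0 ^ 3,
        a * d' + d * a' + b * c' + c * b', by simp only [map_add, map_mul, map_pow, hsq]; ring⟩
  constructor
  · intro hDa
    obtain ⟨r0, r1, r2, r3, rfl⟩ := hA a ha
    simp only [map_add, Derivation.leibniz, derivation_sq, hD3, hX0, hX1, smul_eq_mul, mul_zero, add_zero,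
      zero_add] at hDa
    obtain ⟨-, h1, h2', -⟩ := decomp_eq_zero (a := X 0 * X 1 * (r1 * L + r2 * S))
      (b := X 0 * (X 0 * (X 1 * (C τ * r1 + r3 * S)))) (c := X 0 * (X 1 * (X 1 * (C τ * r2 + r3 * L)))) (d := 0) (by
        simp only [map_add, map_mul, map_zero, expand_C, hsq]
        linear_combination hDa - C τ * sqr r3 * X 0 ^ 5 * X 1 ^ 5 * h2)
    obtain ⟨t, ht⟩ := hτ
    have htC : C ((↑t⁻¹ : Rˣ) : R) * C τ = (1 : MvPolynomial (Fin 2) R) := by
      rw [← C_mul, ← ht, Units.inv_mul, C_1]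
    set c := C ((↑t⁻¹ : Rˣ) : R) * r3 with hc
    have h1' := X_mul_eq_zero (X_mul_eq_zero (X_mul_eq_zero h1))
    have h2'' := X_mul_eq_zero (X_mul_eq_zero (X_mul_eq_zero h2'))
    have hr1 : r1 = c * S := by
      linear_combination C ((↑t⁻¹ : Rˣ) : R) * h1' - r1 * htC - c * S * h2
    have hr2 : r2 = c * L := by
      linear_combination C ((↑t⁻¹ : Rˣ) : R) * h2'' - r2 * htC - c * L * h2
    have hmem : ∀ f : MvPolynomial (Fin 2) R, sqr f ∈ Algebra.adjoin R ({X 0 ^ 2, X 1 ^ 2, g} : Set (MvPolynomial (Fin 2) R)) := by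
      intro f
      induction f using MvPolynomial.induction_on with
      | C a => simpa using Subalgebra.algebraMap_mem (Algebra.adjoin R ({X 0 ^ 2, X 1 ^ 2, g} : Set (MvPolynomial (Fin 2) R))) a
      | add a b ha hb => simpa using add_mem ha hb
      | mul_X a i ha =>
        rw [map_mul, hsq]
        refine mul_mem ha (Algebra.subset_adjoin ?_)
        fin_cases i <;> simp
    rw [show sqr r0 + sqr r1 * X 0 ^ 3 + sqr r2 * X 1 ^ 3 + sqr r3 * (X 0 ^ 3 * X 1 ^ 3) = sqr r0 + sqr c * g by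
      rw [hr1, hr2, hg, hc]
      simp only [map_mul, expand_C]
      linear_combination -(sqr r3 * X 0 ^ 3 * X 1 ^ 3) * htC]
    exact add_mem (hmem _) (mul_mem (hmem _) (Algebra.subset_adjoin (by simp)))
  · clear ha
    intro hmem
    induction hmem using Algebra.adjoin_induction with
    | mem x hx =>
      simp only [Set.mem_insert_iff, Set.mem_singleton_iff] at hx
      rcases hx with rfl | rfl | rfl
      · exact hDsq 0
      · exact hDsq 1
      · simp only [hg, map_add, Derivation.leibniz, derivation_sq, derivation_C, hD3, hX0, hX1, smul_eq_mul, mul_zero, add_zero,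
          zero_add]
        linear_combination (X 0 ^ 2 * X 1 ^ 2 * (sqr S * sqr L + C τ * sqr S * X 0 ^ 3 + C τ * sqr L * X 1 ^ 3 + C τ ^ 2 * X 0 ^ 3 * X 1 ^ 3)) * h2
    | algebraMap r => exact D.map_algebraMap r
    | add x y hx' hy' hx hy => rw [map_add, hx, hy, add_zero]
    | mul x y hx' hy' hx hy => rw [Derivation.leibniz, hx, hy, smul_zero, smul_zero, add_zero]

open MvPolynomial in
/-- Let R be a commutative ring of characteristic 2 and l0, l2, l4, s0, s2, s4, τ ∈ R with τ a unit.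
Inside R[u, v] (u = X 0, v = X 1) let A = R[u², u³, v², v³] be the coordinate ring of the product of
two cuspidal curves, and let D be the R-derivation of R[u, v] with D(u) = v²(l0 u⁴ + τ u³ + l2 u² +
l4) and D(v) = u²(s0 v⁴ + τ v³ + s2 v² + s4); D is u²v² times the rational vector field (l0 u² + τ u
+ l2 + l4 u⁻²) ∂_u + (s0 v² + τ v + s2 + s4 v⁻²) ∂_v, which maps A into itself, and u²v² is a
non-zero-divisor, so the kernel of that vector field on A is the set of a ∈ A with D(a) = 0. Then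
for a ∈ A: D(a) = 0 if and only if a ∈ R[u², v², g], where g = (s0 v⁴ + s2 v² + s4) u³ + (l0 u⁴ + l2
u² + l4) v³ + τ u³ v³. (The published statement identifies this kernel with the ring of invariants
of the corresponding action of the group scheme of square roots of unity; this row states the kernel
computation that is actually carried out.) -/
theorem result (R : Type u) [CommRing R] [CharP R 2]
    (l0 l2 l4 s0 s2 s4 τ : R) (hτ : IsUnit τ) (a : MvPolynomial (Fin 2) R)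
    (ha : a ∈ Algebra.adjoin R
      ({X 0 ^ 2, X 0 ^ 3, X 1 ^ 2, X 1 ^ 3} : Set (MvPolynomial (Fin 2) R))) :
    MvPolynomial.mkDerivation R
        (![X 1 ^ 2 * (C l0 * X 0 ^ 4 + C τ * X 0 ^ 3 + C l2 * X 0 ^ 2 + C l4),
          X 0 ^ 2 * (C s0 * X 1 ^ 4 + C τ * X 1 ^ 3 + C s2 * X 1 ^ 2 + C s4)] :
          Fin 2 → MvPolynomial (Fin 2) R) a = 0 ↔
      a ∈ Algebra.adjoin R
        ({X 0 ^ 2, X 1 ^ 2,
          (C s0 * X 1 ^ 4 + C s2 * X 1 ^ 2 + C s4) * X 0 ^ 3 +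
            (C l0 * X 0 ^ 4 + C l2 * X 0 ^ 2 + C l4) * X 1 ^ 3 +
            C τ * X 0 ^ 3 * X 1 ^ 3} : Set (MvPolynomial (Fin 2) R)) := by
  open Groth.Agent.CharTwoSquares MvPolynomial in
  exact main hτ (C l0 * X 0 ^ 2 + C l2 * X 0 + C l4) (C s0 * X 1 ^ 2 + C s2 * X 1 + C s4)
    (by simp only [map_add, map_mul, map_pow, expand_C, expand_X]; ring)
    (by simp only [map_add, map_mul, map_pow, expand_C, expand_X]; ring) a ha

end Groth.Agent.S13120
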