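import Groth.Statements.S13121
import Mathlib.RingTheory.MvPolynomial.Basic
import Mathlib.Algebra.MvPolynomial.Expand
import Mathlib.Algebra.CharP.Two
import Mathlib.Algebra.Polynomial.Div
import Mathlib.Tactic.LinearCombination

set_option autoImplicit false
universe u
open KumFam

namespace Groth.Agent.S13121

open MvPolynomial

theorem coeff_expand_mul_monomial {R : Type u} [CommRing R] (P : MvPolynomial (Fin 2) R)
    (n m : Fin 2 →₀ ℕ) (s : R) (i : Fin 2) (hn : ¬ 2 ∣ n i) (hm : 2 ∣ m i) :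
    coeff n (expand 2 P * monomial m s) = 0 := by
  rw [coeff_mul_monomial']
  split
  · next h =>
    rw [coeff_expand_of_not_dvd (i := i), zero_mul]
    rw [Finsupp.tsub_apply]
    intro hd
    exact hn (by simpa [Nat.sub_add_cancel (h i)] using dvd_add hd hm)
  · rfl

theorem C_mul_mono {R : Type u} [CommRing R] (s : R) (a b : ℕ) :
    C s * X 0 ^ a * X 1 ^ b = monomial (Finsupp.single 0 a + Finsupp.single 1 b : Fin 2 →₀ ℕ) s := by
  rw [X_pow_eq_monomial, X_pow_eq_monomial, C_mul_monomial, monomial_mul, mul_one, mul_one]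

theorem eq_zero_of_relation {R : Type u} [CommRing R] (l0 l2 l4 s0 s2 s4 τ : R) (hτ : IsUnit τ)
    (P0 P1 : MvPolynomial (Fin 2) R)
    (h : expand 2 P0 + expand 2 P1 *
      ((C s0 * X 1 ^ 4 + C s2 * X 1 ^ 2 + C s4) * X 0 ^ 3 +
        (C l0 * X 0 ^ 4 + C l2 * X 0 ^ 2 + C l4) * X 1 ^ 3 + C τ * X 0 ^ 3 * X 1 ^ 3) = 0) :
    P0 = 0 ∧ P1 = 0 := by
  have hg : ((C s0 * X 1 ^ 4 + C s2 * X 1 ^ 2 + C s4) * X 0 ^ 3 +
      (C l0 * X 0 ^ 4 + C l2 * X 0 ^ 2 + C l4) * X 1 ^ 3 + C τ * X 0 ^ 3 * X 1 ^ 3 : MvPolynomial (Fin 2) R) =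
      C s0 * X 0 ^ 3 * X 1 ^ 4 + C s2 * X 0 ^ 3 * X 1 ^ 2 + C s4 * X 0 ^ 3 * X 1 ^ 0 +
        C l0 * X 0 ^ 4 * X 1 ^ 3 + C l2 * X 0 ^ 2 * X 1 ^ 3 + C l4 * X 0 ^ 0 * X 1 ^ 3 +
        C τ * X 0 ^ 3 * X 1 ^ 3 := by ring
  rw [hg] at h
  simp only [C_mul_mono] at h
  have h1 : P1 = 0 := by
    ext d
    let m : Fin 2 →₀ ℕ := Finsupp.single 0 3 + Finsupp.single 1 3
    have hc := congrArg (coeff (2 • d + m)) h
    have hodd : ∀ i, ¬ 2 ∣ (2 • d + m) i := fun i => by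
      fin_cases i <;> simp [m] <;> omega
    simp only [mul_add, coeff_add, coeff_zero] at hc
    rw [coeff_expand_of_not_dvd (p := 2) P0 (hodd 0),
      coeff_expand_mul_monomial P1 _ _ _ 1 (hodd 1) (by simp),
      coeff_expand_mul_monomial P1 _ _ _ 1 (hodd 1) (by simp),
      coeff_expand_mul_monomial P1 _ _ _ 1 (hodd 1) (by simp),
      coeff_expand_mul_monomial P1 _ _ _ 0 (hodd 0) (by simp),
      coeff_expand_mul_monomial P1 _ _ _ 0 (hodd 0) (by simp),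
      coeff_expand_mul_monomial P1 _ _ _ 0 (hodd 0) (by simp)] at hc
    simp only [zero_add, add_zero, m, coeff_mul_monomial, coeff_expand_smul 2 P1 two_ne_zero] at hc
    simpa using hτ.mul_left_eq_zero.mp hc
  refine ⟨?_, h1⟩
  rw [h1, map_zero] at h
  simp only [zero_mul, add_zero] at h
  exact expand_injective (by norm_num : 0 < 2) (h.trans (map_zero _).symm)

open MvPolynomial in
/-- Let R be a commutative ring of characteristic 2 and l0, l2, l4, s0, s2, s4, τ ∈ R with τ a unit. In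
R[u, v] (u = X 0, v = X 1) put g = (s0 v⁴ + s2 v² + s4) u³ + (l0 u⁴ + l2 u² + l4) v³ + τ u³ v³. Then
the kernel of the R-algebra homomorphism R[a, b, c] → R[u, v] (a = X 0, b = X 1, c = X 2) with a ↦
u², b ↦ v², c ↦ g is the ideal generated by c² + s0² a³ b⁴ + s2² a³ b² + s4² a³ + l0² a⁴ b³ + l2² a²
b³ + l4² b³ + τ² a³ b³; its image is the subalgebra R[u², v², g], which is therefore presented by
this one equation. -/
theorem result (R : Type u) [CommRing R] [CharP R 2]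
    (l0 l2 l4 s0 s2 s4 τ : R) (hτ : IsUnit τ) :
    RingHom.ker (MvPolynomial.aeval (R := R) (S₁ := MvPolynomial (Fin 2) R)
        ![X 0 ^ 2, X 1 ^ 2,
          (C s0 * X 1 ^ 4 + C s2 * X 1 ^ 2 + C s4) * X 0 ^ 3 +
            (C l0 * X 0 ^ 4 + C l2 * X 0 ^ 2 + C l4) * X 1 ^ 3 +
            C τ * X 0 ^ 3 * X 1 ^ 3]) =
      Ideal.span {(X 2 ^ 2 + C (s0 ^ 2) * X 0 ^ 3 * X 1 ^ 4 + C (s2 ^ 2) * X 0 ^ 3 * X 1 ^ 2 +
        C (s4 ^ 2) * X 0 ^ 3 + C (l0 ^ 2) * X 0 ^ 4 * X 1 ^ 3 + C (l2 ^ 2) * X 0 ^ 2 * X 1 ^ 3 +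
        C (l4 ^ 2) * X 1 ^ 3 + C (τ ^ 2) * X 0 ^ 3 * X 1 ^ 3 : MvPolynomial (Fin 3) R)} := by
  classical
  set g : MvPolynomial (Fin 2) R := (C s0 * X 1 ^ 4 + C s2 * X 1 ^ 2 + C s4) * X 0 ^ 3 +
    (C l0 * X 0 ^ 4 + C l2 * X 0 ^ 2 + C l4) * X 1 ^ 3 + C τ * X 0 ^ 3 * X 1 ^ 3 with hg
  set φ := MvPolynomial.aeval (R := R) (S₁ := MvPolynomial (Fin 2) R) ![X 0 ^ 2, X 1 ^ 2, g]
  set rel : MvPolynomial (Fin 3) R := X 2 ^ 2 + C (s0 ^ 2) * X 0 ^ 3 * X 1 ^ 4 + C (s2 ^ 2) * X 0 ^ 3 * X 1 ^ 2 +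
    C (s4 ^ 2) * X 0 ^ 3 + C (l0 ^ 2) * X 0 ^ 4 * X 1 ^ 3 + C (l2 ^ 2) * X 0 ^ 2 * X 1 ^ 3 +
    C (l4 ^ 2) * X 1 ^ 3 + C (τ ^ 2) * X 0 ^ 3 * X 1 ^ 3 with hrel
  have hrel0 : φ rel = 0 := by
    simp only [φ, hrel, map_add, map_mul, map_pow, aeval_X, aeval_C, Matrix.cons_val_zero,
      Matrix.cons_val_one, Matrix.cons_val, hg, MvPolynomial.algebraMap_eq, CharTwo.add_sq, add_mul, mul_pow,
      ← pow_mul]
    ring_nf
    simp [CharTwo.two_eq_zero]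
  let ι : MvPolynomial (Fin 2) R →ₐ[R] MvPolynomial (Fin 3) R := rename Fin.castSucc
  let K : MvPolynomial (Fin 2) R := C (s0 ^ 2) * X 0 ^ 3 * X 1 ^ 4 + C (s2 ^ 2) * X 0 ^ 3 * X 1 ^ 2 +
    C (s4 ^ 2) * X 0 ^ 3 + C (l0 ^ 2) * X 0 ^ 4 * X 1 ^ 3 + C (l2 ^ 2) * X 0 ^ 2 * X 1 ^ 3 +
    C (l4 ^ 2) * X 1 ^ 3 + C (τ ^ 2) * X 0 ^ 3 * X 1 ^ 3
  have hK : rel = X 2 ^ 2 + ι K := by
    simp only [hrel, ι, K, map_add, map_mul, map_pow, rename_C, rename_X]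
    simp only [Fin.castSucc_zero, Fin.castSucc_one, ← add_assoc]
  have hnorm : ∀ P, ∃ Q P0 P1, P = Q * rel + ι P0 + ι P1 * X 2 := by
    intro P
    induction P using MvPolynomial.induction_on with
    | C r => exact ⟨0, C r, 0, by simp [ι]⟩
    | add p q hp hq =>
      obtain ⟨Q, A, B, rfl⟩ := hp
      obtain ⟨Q', A', B', rfl⟩ := hq
      exact ⟨Q + Q', A + A', B + B', by simp only [map_add]; ring⟩
    | mul_X p i hp =>
      obtain ⟨Q, A, B, rfl⟩ := hp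
      refine Fin.lastCases ?_ (fun j => ?_) i
      · refine ⟨Q * X 2 + ι B, -(B * K), A, ?_⟩
        show _ * X (2 : Fin 3) = _
        rw [hK, map_neg, map_mul]; ring
      · refine ⟨Q * X j.castSucc, A * X j, B * X j, ?_⟩
        simp only [map_mul, ι, rename_X]; ring
  apply le_antisymm
  · intro P hP
    obtain ⟨Q, P0, P1, rfl⟩ := hnorm P
    have hι : ∀ P, φ (ι P) = expand 2 P := fun P => by
      induction P using MvPolynomial.induction_on with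
      | C r => simp [φ, ι]
      | add p q hp hq => simp only [map_add, hp, hq]
      | mul_X p i hp =>
        rw [map_mul, map_mul, map_mul, hp]
        congr 1
        fin_cases i <;> simp [φ, ι]
    rw [RingHom.mem_ker, map_add, map_add, map_mul, hrel0, mul_zero, zero_add, map_mul, hι, hι] at hP
    obtain ⟨rfl, rfl⟩ := eq_zero_of_relation l0 l2 l4 s0 s2 s4 τ hτ P0 P1 (by simpa [φ, hg] using hP)
    simp only [map_zero, zero_mul, add_zero]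
    exact Ideal.mul_mem_left _ _ (Ideal.mem_span_singleton_self _)
  · rw [Ideal.span_le]
    rintro _ rfl
    exact hrel0

end Groth.Agent.S13121
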