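import Groth.Statements.S13122
import Groth.Agent.CharTwoSquares.Basic
-- import your own Groth.Agent.* helpers here

set_option autoImplicit false
universe u
open KumFam

namespace Groth.Agent.S13122

open MvPolynomial Groth.Agent.CharTwoSquares in
theorem main {R : Type u} [CommRing R] [CharP R 2] {l0 l2 l4 s0 s2 s4 τ : R} (hτ : IsUnit τ)
    (L S : MvPolynomial (Fin 2) R) (hL : sqr L = C l4 * X 0 ^ 4 + C l2 * X 0 ^ 2 + C l0)
    (hS : sqr S = C s4 * X 1 ^ 4 + C s2 * X 1 ^ 2 + C s0) :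
    (∀ p : MvPolynomial (Fin 2) R,
      MvPolynomial.mkDerivation R
          (![C l4 * X 0 ^ 4 + C l2 * X 0 ^ 2 + C τ * X 0 + C l0,
            C s4 * X 1 ^ 4 + C s2 * X 1 ^ 2 + C τ * X 1 + C s0] :
            Fin 2 → MvPolynomial (Fin 2) R) p = 0 ↔
        p ∈ (MvPolynomial.aeval (R := R) (S₁ := MvPolynomial (Fin 2) R)
          ![X 0 ^ 2, X 1 ^ 2,
            (C s4 * X 1 ^ 4 + C s2 * X 1 ^ 2 + C s0) * X 0 +
              (C l4 * X 0 ^ 4 + C l2 * X 0 ^ 2 + C l0) * X 1 + C τ * X 0 * X 1]).range) ∧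
    RingHom.ker (MvPolynomial.aeval (R := R) (S₁ := MvPolynomial (Fin 2) R)
        ![X 0 ^ 2, X 1 ^ 2,
          (C s4 * X 1 ^ 4 + C s2 * X 1 ^ 2 + C s0) * X 0 +
            (C l4 * X 0 ^ 4 + C l2 * X 0 ^ 2 + C l0) * X 1 + C τ * X 0 * X 1]) =
      Ideal.span {(X 2 ^ 2 + C (τ ^ 2) * X 0 * X 1 +
        (C (s4 ^ 2) * X 1 ^ 4 + C (s2 ^ 2) * X 1 ^ 2 + C (s0 ^ 2)) * X 0 +
        (C (l4 ^ 2) * X 0 ^ 4 + C (l2 ^ 2) * X 0 ^ 2 + C (l0 ^ 2)) * X 1 : MvPolynomial (Fin 3) R)} := by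
  have h2 : ∀ {σ : Type}, (2 : MvPolynomial σ R) = 0 := CharTwo.two_eq_zero
  rw [← hL, ← hS]
  set h := sqr S * X 0 + sqr L * X 1 + C τ * X 0 * X 1 with hh
  set ev := MvPolynomial.aeval (R := R) (S₁ := MvPolynomial (Fin 2) R) ![X 0 ^ 2, X 1 ^ 2, h] with hev
  set D := MvPolynomial.mkDerivation R (![C l4 * X 0 ^ 4 + C l2 * X 0 ^ 2 + C τ * X 0 + C l0,
            C s4 * X 1 ^ 4 + C s2 * X 1 ^ 2 + C τ * X 1 + C s0] : Fin 2 → MvPolynomial (Fin 2) R) with hD
  have hX0 : D (X 0) = sqr L + C τ * X 0 := by rw [hD, mkDerivation_X, hL]; simp; ring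
  have hX1 : D (X 1) = sqr S + C τ * X 1 := by rw [hD, mkDerivation_X, hS]; simp; ring
  let ι : MvPolynomial (Fin 2) R →ₐ[R] MvPolynomial (Fin 3) R := MvPolynomial.aeval ![X 0, X 1]
  have hι : ∀ f, ev (ι f) = sqr f := fun f => by
    rw [← AlgHom.comp_apply]
    congr 1
    refine MvPolynomial.algHom_ext fun i => ?_
    fin_cases i <;> simp [ι, hev, expand_X]
  have hev2 : ev (X 2) = h := by simp [hev]
  have hDh : D h = 0 := by
    simp only [hh, map_add, Derivation.leibniz, derivation_sq, derivation_C, hX0, hX1, smul_eq_mul, mul_zero, add_zero,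
      zero_add]
    linear_combination (sqr S * sqr L + C τ * sqr S * X 0 + C τ * sqr L * X 1 + C τ ^ 2 * X 0 * X 1) * h2 (σ := Fin 2)
  constructor
  · intro p
    constructor
    · intro hp
      obtain ⟨a, b, c, d, rfl⟩ := exists_decomp p
      simp only [map_add, Derivation.leibniz, derivation_sq, hX0, hX1, smul_eq_mul, mul_zero, add_zero, zero_add] at hp
      obtain ⟨h0, h1, h2', -⟩ := decomp_eq_zero (a := b * L + c * S) (b := C τ * b + d * S) (c := C τ * c + d * L) (d := 0) (by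
        simp only [map_add, map_mul, map_zero, expand_C]
        linear_combination hp - C τ * sqr d * X 0 * X 1 * h2 (σ := Fin 2))
      obtain ⟨t, ht⟩ := hτ
      have htC : C ((↑t⁻¹ : Rˣ) : R) * C τ = (1 : MvPolynomial (Fin 2) R) := by
        rw [← C_mul, ← ht, Units.inv_mul, C_1]
      refine ⟨ι a + ι (C ((↑t⁻¹ : Rˣ) : R) * d) * X 2, ?_⟩
      change ev _ = _
      rw [map_add, map_mul, hι, hι, hev2, hh, map_mul, expand_C]
      have hb : b = C ((↑t⁻¹ : Rˣ) : R) * d * S := by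
        linear_combination C ((↑t⁻¹ : Rˣ) : R) * h1 - b * htC - C ((↑t⁻¹ : Rˣ) : R) * d * S * h2 (σ := Fin 2)
      have hc : c = C ((↑t⁻¹ : Rˣ) : R) * d * L := by
        linear_combination C ((↑t⁻¹ : Rˣ) : R) * h2' - c * htC - C ((↑t⁻¹ : Rˣ) : R) * d * L * h2 (σ := Fin 2)
      rw [hb, hc]
      simp only [map_mul, expand_C]
      linear_combination sqr d * X 0 * X 1 * htC
    · rintro ⟨f, rfl⟩
      change D (ev f) = 0
      induction f using MvPolynomial.induction_on with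
      | C a => simp [hev]
      | add a b ha hb => simp [map_add, ha, hb]
      | mul_X a i ha =>
        rw [map_mul, Derivation.leibniz, ha, smul_zero, add_zero]
        fin_cases i
        · simp [hev, pow_two, ← two_mul, h2]
        · simp [hev, pow_two, ← two_mul, h2]
        · simp [hev2, hDh]
  · have hr : sqr (C (τ ^ 2) * X 0 * X 1 +
        (C (s4 ^ 2) * X 1 ^ 4 + C (s2 ^ 2) * X 1 ^ 2 + C (s0 ^ 2)) * X 0 +
        (C (l4 ^ 2) * X 0 ^ 4 + C (l2 ^ 2) * X 0 ^ 2 + C (l0 ^ 2)) * X 1) = h ^ 2 := by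
      rw [hh, hS, hL]
      simp only [map_add, map_mul, map_pow, expand_C, expand_X, C_pow, CharTwo.add_sq, mul_pow, ← pow_mul]
      ring
    set r : MvPolynomial (Fin 2) R := C (τ ^ 2) * X 0 * X 1 +
        (C (s4 ^ 2) * X 1 ^ 4 + C (s2 ^ 2) * X 1 ^ 2 + C (s0 ^ 2)) * X 0 +
        (C (l4 ^ 2) * X 0 ^ 4 + C (l2 ^ 2) * X 0 ^ 2 + C (l0 ^ 2)) * X 1 with hrd
    rw [show (X 2 ^ 2 + C (τ ^ 2) * X 0 * X 1 +
        (C (s4 ^ 2) * X 1 ^ 4 + C (s2 ^ 2) * X 1 ^ 2 + C (s0 ^ 2)) * X 0 +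
        (C (l4 ^ 2) * X 0 ^ 4 + C (l2 ^ 2) * X 0 ^ 2 + C (l0 ^ 2)) * X 1 : MvPolynomial (Fin 3) R) = X 2 ^ 2 + ι r by
      simp only [hrd, ι, map_add, map_mul, map_pow, aeval_C, aeval_X, algebraMap_eq]
      simp
      ring]
    refine le_antisymm (fun f hf => ?_) ((Ideal.span_singleton_le_iff_mem _).2 ?_)
    · have key : ∀ f : MvPolynomial (Fin 3) R, ∃ a b, f - (ι a + ι b * X 2) ∈ Ideal.span {X 2 ^ 2 + ι r} := by
        intro f
        induction f using MvPolynomial.induction_on with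
        | C a => exact ⟨C a, 0, by simp [ι]⟩
        | add f g hf hg =>
          obtain ⟨a, b, hf⟩ := hf
          obtain ⟨a', b', hg⟩ := hg
          exact ⟨a + a', b + b', by convert add_mem hf hg using 1; simp only [map_add]; ring⟩
        | mul_X f i hf =>
          obtain ⟨a, b, hf⟩ := hf
          fin_cases i
          · exact ⟨a * X 0, b * X 0, by convert Ideal.mul_mem_right (X 0) _ hf using 1; simp [ι]; ring⟩
          · exact ⟨a * X 1, b * X 1, by convert Ideal.mul_mem_right (X 1) _ hf using 1; simp [ι]; ring⟩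
          · refine ⟨-(b * r), a, ?_⟩
            convert add_mem (Ideal.mul_mem_right (X 2) _ hf)
              (Ideal.mul_mem_left _ (ι b) (Ideal.mem_span_singleton_self (X 2 ^ 2 + ι r))) using 1
            simp only [map_neg, map_mul, Fin.reduceFinMk]
            ring
      obtain ⟨a, b, hab⟩ := key f
      have hev0 : ev (X 2 ^ 2 + ι r) = 0 := by
        rw [map_add, map_pow, hev2, hι, hr, ← two_mul, h2, zero_mul]
      obtain ⟨q, hq⟩ := Ideal.mem_span_singleton'.1 hab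
      have h0 := congrArg ev hq
      rw [map_mul, hev0, mul_zero, map_sub, RingHom.mem_ker.1 hf, map_add, map_mul, hι, hι, hev2, zero_sub, eq_comm,
        neg_eq_zero] at h0
      obtain ⟨ha, -, -, hb⟩ := decomp_eq_zero (a := a) (b := b * S) (c := b * L) (d := b * C τ) (by
        simp only [map_mul, expand_C]
        rw [hh] at h0
        linear_combination h0)
      have hb' : b = 0 := (hτ.map (C (σ := Fin 2))).mul_left_eq_zero.1 hb
      rw [ha, hb', map_zero, zero_mul, add_zero, sub_zero] at hab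
      exact hab
    · rw [RingHom.mem_ker, map_add, map_pow, hev2, hι, hr, ← two_mul, h2, zero_mul]

open MvPolynomial in
/-- Let R be a commutative ring of characteristic 2 and l0, l2, l4, s0, s2, s4, τ ∈ R with τ a unit. On
R[x, y] (x = X 0, y = X 1; the coordinates u⁻¹, v⁻¹ of the smooth chart of the product of two
cuspidal curves) let D be the R-derivation with D(x) = l4 x⁴ + l2 x² + τ x + l0 and D(y) = s4 y⁴ +
s2 y² + τ y + s0, and put h = (s4 y⁴ + s2 y² + s0) x + (l4 x⁴ + l2 x² + l0) y + τ x y. Then: (1) for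
p ∈ R[x, y], D(p) = 0 if and only if p lies in the image of the R-algebra homomorphism R[a, b, c] →
R[x, y] (a = X 0, b = X 1, c = X 2) with a ↦ x², b ↦ y², c ↦ h; (2) the kernel of that homomorphism
is the ideal generated by c² + τ² a b + (s4² b⁴ + s2² b² + s0²) a + (l4² a⁴ + l2² a² + l0²) b. (The
published statement asserts that the ring of invariants of the action of the group scheme of square
roots of unity given by this vector field is R[a, b, c] modulo this equation, by the same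
computation as on the other chart; this row pins the generator h and states the kernel computation.) -/
theorem result (R : Type u) [CommRing R]
    [CharP R 2] (l0 l2 l4 s0 s2 s4 τ : R) (hτ : IsUnit τ) :
    (∀ p : MvPolynomial (Fin 2) R,
      MvPolynomial.mkDerivation R
          (![C l4 * X 0 ^ 4 + C l2 * X 0 ^ 2 + C τ * X 0 + C l0,
            C s4 * X 1 ^ 4 + C s2 * X 1 ^ 2 + C τ * X 1 + C s0] :
            Fin 2 → MvPolynomial (Fin 2) R) p = 0 ↔
        p ∈ (MvPolynomial.aeval (R := R) (S₁ := MvPolynomial (Fin 2) R)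
          ![X 0 ^ 2, X 1 ^ 2,
            (C s4 * X 1 ^ 4 + C s2 * X 1 ^ 2 + C s0) * X 0 +
              (C l4 * X 0 ^ 4 + C l2 * X 0 ^ 2 + C l0) * X 1 + C τ * X 0 * X 1]).range) ∧
    RingHom.ker (MvPolynomial.aeval (R := R) (S₁ := MvPolynomial (Fin 2) R)
        ![X 0 ^ 2, X 1 ^ 2,
          (C s4 * X 1 ^ 4 + C s2 * X 1 ^ 2 + C s0) * X 0 +
            (C l4 * X 0 ^ 4 + C l2 * X 0 ^ 2 + C l0) * X 1 + C τ * X 0 * X 1]) =
      Ideal.span {(X 2 ^ 2 + C (τ ^ 2) * X 0 * X 1 +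
        (C (s4 ^ 2) * X 1 ^ 4 + C (s2 ^ 2) * X 1 ^ 2 + C (s0 ^ 2)) * X 0 +
        (C (l4 ^ 2) * X 0 ^ 4 + C (l2 ^ 2) * X 0 ^ 2 + C (l0 ^ 2)) * X 1 : MvPolynomial (Fin 3) R)} := by
  open Groth.Agent.CharTwoSquares MvPolynomial in
  obtain ⟨L, hL⟩ : ∃ L : MvPolynomial (Fin 2) R, sqr L = C l4 * X 0 ^ 4 + C l2 * X 0 ^ 2 + C l0 :=
    ⟨C l4 * X 0 ^ 2 + C l2 * X 0 + C l0, by simp only [map_add, map_mul, map_pow, expand_C, expand_X]; ring⟩
  open Groth.Agent.CharTwoSquares MvPolynomial in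
  obtain ⟨S, hS⟩ : ∃ S : MvPolynomial (Fin 2) R, sqr S = C s4 * X 1 ^ 4 + C s2 * X 1 ^ 2 + C s0 :=
    ⟨C s4 * X 1 ^ 2 + C s2 * X 1 + C s0, by simp only [map_add, map_mul, map_pow, expand_C, expand_X]; ring⟩
  exact main hτ L S hL hS

end Groth.Agent.S13122
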