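import Groth.Statements.S13124
import Mathlib
-- import your own Groth.Agent.* helpers here

set_option autoImplicit false
universe u v w
open KumFam

namespace Groth.Agent.S13124

/-- Let k be a commutative ring, A a commutative k-bialgebra that is flat over k, and R a commutative
k-algebra which is an integrally closed domain, with a coaction R → R ⊗ A that is an algebra
homomorphism. Then the ring of invariants (the elements f with coaction f ⊗ 1) is an integrally
closed domain. (The published statement is for a finite group scheme acting on a normal scheme whose
quotient is, locally, the spectrum of the ring of invariants; this row is the affine integral case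
and allows any commutative bialgebra flat over k, flatness being automatic over a field.) -/
theorem result (k : Type u) [CommRing k]
    (A : Type v) [CommRing A] [Bialgebra k A] [Module.Flat k A]
    (R : Type w) [CommRing R] [Algebra k R] [IsDomain R] [IsIntegrallyClosed R]
    [HopfRep.Comod k A R] [GLin.IsCoactAlg k A R] :
    IsIntegrallyClosed (GLin.invariants k A R) := by
  classical
  set S := GLin.invariants k A R with hS
  have hinj : Function.Injective (algebraMap S R) := Subtype.val_injective
  let φ : FractionRing S →+* FractionRing R := IsFractionRing.map hinj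
  refine (isIntegrallyClosed_iff (FractionRing S)).2 fun {x} hx => ?_
  have hint : IsIntegral R (φ x) := by
    obtain ⟨P, hP, hPx⟩ := hx
    refine ⟨P.map (algebraMap S R), hP.map _, ?_⟩
    have he : (algebraMap R (FractionRing R)).comp (algebraMap S R) = φ.comp (algebraMap S (FractionRing S)) :=
      RingHom.ext fun s => by simp only [RingHom.comp_apply, φ, IsFractionRing.map]; rw [IsLocalization.map_eq]
    rw [Polynomial.eval₂_map, he, ← Polynomial.hom_eval₂, hPx, map_zero]
  obtain ⟨r, hr⟩ := IsIntegrallyClosed.isIntegral_iff.1 hint
  obtain ⟨a, b, hb, rfl⟩ := IsFractionRing.div_surjective S x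
  have hb0 : (b : R) ≠ 0 := fun h => nonZeroDivisors.ne_zero hb (hinj (h.trans (map_zero (algebraMap S R)).symm))
  have hab : (b : R) * r = (a : R) := by
    apply IsFractionRing.injective R (FractionRing R)
    rw [map_div₀] at hr
    have hb1 : φ (algebraMap S (FractionRing S) b) = algebraMap R (FractionRing R) (b : R) := by
      simp only [φ, IsFractionRing.map]; rw [IsLocalization.map_eq]; rfl
    have ha1 : φ (algebraMap S (FractionRing S) a) = algebraMap R (FractionRing R) (a : R) := by
      simp only [φ, IsFractionRing.map]; rw [IsLocalization.map_eq]; rfl
    rw [map_mul, hr, hb1, ha1]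
    field_simp [(map_ne_zero_iff _ (IsFractionRing.injective R (FractionRing R))).2 hb0]
  have hrS : r ∈ S := by
    rw [hS, GLin.mem_invariants_iff]
    apply Module.Flat.isSMulRegular_of_nonZeroDivisors (R := R) (M := TensorProduct k R A) (mem_nonZeroDivisors_of_ne_zero hb0)
    show (b : R) • (HopfRep.Comod.coact (k := k) (A := A) r) = (b : R) • TensorProduct.tmul k r (1 : A)
    rw [Algebra.smul_def, Algebra.TensorProduct.algebraMap_apply, Algebra.algebraMap_self, RingHom.id_apply]
    conv_lhs => rw [show TensorProduct.tmul k (b : R) (1 : A) = HopfRep.Comod.coact (k := k) (A := A) (b : R) from ((GLin.mem_invariants_iff k A R _).1 b.2).symm,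
      ← GLin.IsCoactAlg.coact_mul (k := k) (A := A), hab, (GLin.mem_invariants_iff k A R _).1 a.2, ← hab]
    rw [TensorProduct.smul_tmul', smul_eq_mul]
  refine ⟨⟨r, hrS⟩, ?_⟩
  rw [eq_div_iff (fun h => nonZeroDivisors.ne_zero hb (IsFractionRing.injective S (FractionRing S) (h.trans (map_zero _).symm))), ← map_mul]
  congr 1
  exact Subtype.ext (by rw [← hab]; exact mul_comm r (b : R))

end Groth.Agent.S13124
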