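import Groth.Statements.S13125
import Mathlib.RingTheory.GradedAlgebra.Homogeneous.Ideal


set_option autoImplicit false
universe u v
open KumFam

namespace Groth.Agent.S13125

/-- Let A be a commutative ring graded by an additive monoid ι (an abelian group in the published
statement) through additive subgroups 𝒜 i, and I an ideal of A. Then I is a homogeneous ideal if and
only if A/I carries a structure of ι-graded ring ℬ for which the quotient map sends 𝒜 i into ℬ i for
all i. -/
theorem result (ι : Type u) [DecidableEq ι] [AddMonoid ι]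
    (A : Type v) [CommRing A] (𝒜 : ι → AddSubgroup A) [GradedRing 𝒜] (I : Ideal A) :
    I.IsHomogeneous 𝒜 ↔
      ∃ ℬ : ι → AddSubgroup (A ⧸ I), Nonempty (GradedRing ℬ) ∧
        ∀ i : ι, (𝒜 i).map (Ideal.Quotient.mk I : A →+ A ⧸ I) ≤ ℬ i := by
  classical
  constructor
  · intro hI
    let ℬ : ι → AddSubgroup (A ⧸ I) := fun i => (𝒜 i).map (Ideal.Quotient.mk I : A →+ A ⧸ I)
    haveI : SetLike.GradedMonoid ℬ :=
      { one_mem := ⟨1, SetLike.one_mem_graded 𝒜, map_one (Ideal.Quotient.mk I)⟩
        mul_mem := by
          rintro i j _ _ ⟨a, ha, rfl⟩ ⟨b, hb, rfl⟩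
          exact ⟨a * b, SetLike.mul_mem_graded ha hb, map_mul (Ideal.Quotient.mk I) a b⟩ }
    let Φ : (DirectSum ι fun i => 𝒜 i) →+ DirectSum ι fun i => ℬ i :=
      DirectSum.map fun i =>
        { toFun := fun x => ⟨Ideal.Quotient.mk I (x : A), x, x.2, rfl⟩
          map_zero' := Subtype.ext (map_zero _)
          map_add' := fun x y => Subtype.ext (map_add (Ideal.Quotient.mk I) (x : A) y) }
    have hΦ : ∀ x, DirectSum.coeAddMonoidHom ℬ (Φ x) = Ideal.Quotient.mk I (DirectSum.coeAddMonoidHom 𝒜 x) := by
      intro x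
      induction x using DirectSum.induction_on with
      | zero => simp
      | of i a => simp [Φ]
      | add p q hp hq => simp [hp, hq]
    have hint : DirectSum.IsInternal ℬ := by
      constructor
      · rw [injective_iff_map_eq_zero]
        intro y hy
        obtain ⟨x, rfl⟩ : ∃ x, Φ x = y := by
          refine (DirectSum.map_surjective _).2 (fun i => ?_) y
          rintro ⟨_, a, ha, rfl⟩
          exact ⟨⟨a, ha⟩, rfl⟩
        rw [hΦ, Ideal.Quotient.eq_zero_iff_mem] at hy
        refine DFinsupp.ext fun i => ?_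
        have hx : DirectSum.decompose 𝒜 (DirectSum.coeAddMonoidHom 𝒜 x) = x :=
          (DirectSum.decompose 𝒜).apply_symm_apply x
        have h := hI i hy
        rw [hx] at h
        refine Subtype.ext ?_
        rw [DirectSum.map_apply]
        exact Ideal.Quotient.eq_zero_iff_mem.2 h
      · intro y
        obtain ⟨a, rfl⟩ := Ideal.Quotient.mk_surjective y
        exact ⟨Φ (DirectSum.decompose 𝒜 a), by
          rw [hΦ]; exact congrArg _ ((DirectSum.decompose 𝒜).symm_apply_apply a)⟩
    exact ⟨ℬ, ⟨{ toDecomposition := hint.chooseDecomposition }⟩, fun i => le_rfl⟩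
  · rintro ⟨ℬ, ⟨hB⟩, hle⟩ i a ha
    let f : ∀ j, 𝒜 j →+ ℬ j := fun j =>
      { toFun := fun x => ⟨Ideal.Quotient.mk I (x : A), hle j ⟨x, x.2, rfl⟩⟩
        map_zero' := Subtype.ext (map_zero _)
        map_add' := fun x y => Subtype.ext (map_add (Ideal.Quotient.mk I) (x : A) y) }
    have hΦ : ∀ x, DirectSum.coeAddMonoidHom ℬ (DirectSum.map f x) =
        Ideal.Quotient.mk I (DirectSum.coeAddMonoidHom 𝒜 x) := by
      intro x
      induction x using DirectSum.induction_on with
      | zero => simp
      | of i a => simp [f]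
      | add p q hp hq => simp [hp, hq]
    have h0 : DirectSum.map f (DirectSum.decompose 𝒜 a) = 0 := by
      apply (DirectSum.decompose ℬ).symm.injective
      change DirectSum.coeAddMonoidHom ℬ _ = DirectSum.coeAddMonoidHom ℬ 0
      rw [hΦ, map_zero, show DirectSum.coeAddMonoidHom 𝒜 (DirectSum.decompose 𝒜 a) = a from
        (DirectSum.decompose 𝒜).symm_apply_apply a, Ideal.Quotient.eq_zero_iff_mem]
      exact ha
    have h := DFunLike.congr_fun h0 i
    rw [DirectSum.map_apply] at h
    exact Ideal.Quotient.eq_zero_iff_mem.1 (congrArg Subtype.val h)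

end Groth.Agent.S13125
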