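import Mathlib
import Groth.Statements.S13126
-- import your own Groth.Agent.* helpers here

set_option autoImplicit false
universe u
open KumFam

namespace Groth.Agent.S13126

open Polynomial in
/-- Let R be a commutative ring, n a natural number which is a unit in R, and ζ ∈ R with ζ^n = 1 and 1 −
ζ^i a unit for 0 < i < n (a primitive n-th root of unity in the fibrewise sense: the powers ζ^0, …,
ζ^(n−1) are roots of X^n − 1 with pairwise unit differences; over an integral domain in which n is a
unit this is the same as ζ having multiplicative order n). Then the R-algebra homomorphism R[X] →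
(Fin n → R) sending a polynomial to its values at ζ^0, …, ζ^(n−1) is surjective and its kernel is
the ideal generated by X^n − 1; hence R[X]/(X^n − 1) ≅ R^n as R-algebras, i.e. the scheme of n-th
roots of unity over Spec R is the disjoint union of n copies of Spec R. (The published statement
asks that R contain a primitive n-th root of unity without defining the term; its Chinese-remainder
argument uses that the ideals (X − ζ^i), i < n, are pairwise comaximal, which is the unit-difference
condition taken as the hypothesis here, whereas under the reading 'ζ has multiplicative order n'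
alone the surjectivity fails over a product of two fields. The published statement also asserts that
the isomorphism respects the group-scheme structures of the n-th roots of unity and of the constant
group ℤ/n; this row does not state that.) -/
theorem result (R : Type u) [CommRing R]
    (n : ℕ) (hn : IsUnit (n : R)) (ζ : R) (hζ : ζ ^ n = 1)
    (hprim : ∀ i : ℕ, 0 < i → i < n → IsUnit (1 - ζ ^ i)) :
    Function.Surjective (AlgHom.pi (fun i : Fin n => Polynomial.aeval (R := R) (ζ ^ (i : ℕ)))) ∧
      RingHom.ker (AlgHom.pi (fun i : Fin n => Polynomial.aeval (R := R) (ζ ^ (i : ℕ)))) =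
        Ideal.span {(X ^ n - 1 : R[X])} := by
  classical
  have hζu : 0 < n → IsUnit ζ := fun h => IsUnit.of_pow_eq_one hζ h.ne'
  have hdiff : ∀ i j : Fin n, i ≠ j → IsUnit (ζ ^ (i : ℕ) - ζ ^ (j : ℕ)) := by
    intro i j hij
    have h0 : 0 < n := i.pos
    have main : ∀ a b : ℕ, a < b → b < n → IsUnit (ζ ^ a - ζ ^ b) := fun a b hab hb => by
      have e : ζ ^ a - ζ ^ b = ζ ^ a * (1 - ζ ^ (b - a)) := by
        rw [mul_sub, mul_one, ← pow_add, Nat.add_sub_cancel' hab.le]
      rw [e]
      exact ((hζu h0).pow a).mul (hprim _ (by omega) (by omega))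
    rcases lt_or_gt_of_ne (fun e => hij (Fin.ext e)) with h | h
    · exact main _ _ h j.2
    · rw [← neg_sub]; exact (main _ _ h i.2).neg
  have hcop : ((Finset.univ : Finset (Fin n)) : Set (Fin n)).Pairwise
      (Function.onFun IsCoprime fun i => (X - C (ζ ^ (i : ℕ)) : R[X])) := fun i _ j _ hij =>
    isCoprime_X_sub_C_of_isUnit_sub (hdiff i j hij)
  refine ⟨fun v => ?_, ?_⟩
  · let P : Fin n → R[X] := fun i => ∏ j ∈ Finset.univ.erase i, (X - C (ζ ^ (j : ℕ)))
    have hP : ∀ i : Fin n, IsUnit (aeval (ζ ^ (i : ℕ)) (P i)) := fun i => by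
      simp only [P, map_prod, map_sub, aeval_X, aeval_C, Algebra.algebraMap_self, RingHom.id_apply]
      exact IsUnit.prod_iff.2 fun j hj => hdiff i j (Finset.ne_of_mem_erase hj).symm
    refine ⟨∑ i : Fin n, C (v i * ((hP i).unit⁻¹ : Rˣ)) * P i, funext fun k => ?_⟩
    show aeval (ζ ^ (k : ℕ)) (∑ i : Fin n, C (v i * ((hP i).unit⁻¹ : Rˣ)) * P i) = v k
    rw [map_sum, Finset.sum_eq_single k]
    · rw [map_mul, aeval_C, Algebra.algebraMap_self, RingHom.id_apply, mul_assoc, IsUnit.val_inv_mul, mul_one]
    · intro i _ hik
      rw [map_mul]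
      refine mul_eq_zero_of_right _ ?_
      simp only [P, map_prod]
      exact Finset.prod_eq_zero (Finset.mem_erase.2 ⟨hik.symm, Finset.mem_univ k⟩) (by simp)
    · simp
  · ext f
    rw [RingHom.mem_ker, Ideal.mem_span_singleton]
    have hmem : ∀ g : R[X], (AlgHom.pi (fun i : Fin n => Polynomial.aeval (R := R) (ζ ^ (i : ℕ)))) g = 0 ↔
        ∀ i : Fin n, (X - C (ζ ^ (i : ℕ))) ∣ g := fun g => by
      rw [funext_iff]
      refine forall_congr' fun i => ?_
      rw [dvd_iff_isRoot, IsRoot, ← coe_aeval_eq_eval]
      exact Iff.rfl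
    rcases Nat.eq_zero_or_pos n with h0 | h0
    · subst h0
      have : Subsingleton R := by
        simp only [Nat.cast_zero, isUnit_zero_iff] at hn
        exact subsingleton_of_zero_eq_one hn
      exact iff_of_true (funext fun i => i.elim0) ⟨0, Subsingleton.elim _ _⟩
    have hroot : ∀ i : Fin n, (X - C (ζ ^ (i : ℕ)) : R[X]) ∣ X ^ n - 1 := fun i => by
      rw [dvd_iff_isRoot, IsRoot, eval_sub, eval_pow, eval_X, eval_one, ← pow_mul, mul_comm (i : ℕ) n, pow_mul, hζ, one_pow, sub_self]
    have heq : (∏ i : Fin n, (X - C (ζ ^ (i : ℕ))) : R[X]) = X ^ n - 1 := by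
      cases subsingleton_or_nontrivial R
      · exact Subsingleton.elim _ _
      refine (eq_of_monic_of_dvd_of_natDegree_le (monic_prod_of_monic _ _ fun i _ => monic_X_sub_C _)
        (by simpa using monic_X_pow_sub_C (1 : R) h0.ne') (Finset.prod_dvd_of_coprime hcop fun i _ => hroot i) ?_).symm
      rw [natDegree_prod_of_monic _ _ fun i _ => monic_X_sub_C _, ← C_1, natDegree_X_pow_sub_C]
      simp only [natDegree_X_sub_C]
      simp
    rw [hmem]
    exact ⟨fun h => heq ▸ Finset.prod_dvd_of_coprime hcop fun i _ => h i, fun h i => (hroot i).trans h⟩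

end Groth.Agent.S13126
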