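import Groth.Statements.S13127
import Groth.Agent.PowerSeriesAut.Basic
import Mathlib.Tactic.LinearCombination

set_option autoImplicit false
universe u
open KumFam

namespace Groth.Agent.S13127

open MvPowerSeries in
/-- In characteristic two every series without constant term has the form `q + q^2 + q^3`. -/
theorem exists_cube {R : Type u} [CommRing R] [CharP R 2] (f : MvPowerSeries (Fin 3) R)
    (hf : constantCoeff f = 0) :
    ∃ v : MvPowerSeries (Fin 3) R, constantCoeff v = 1 ∧ v ^ 3 = 1 + f := by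
  have h2 : (2 : MvPowerSeries (Fin 3) R) = 0 := by
    rw [← map_ofNat (C : R →+* MvPowerSeries (Fin 3) R) 2, CharTwo.two_eq_zero, map_zero]
  let a : Fin 3 → MvPowerSeries (Fin 3) R := ![X 0 + X 0 ^ 2 + X 0 ^ 3, X 1, X 2]
  have h0 : ∀ i, constantCoeff (a i) = 0 := by
    intro i; fin_cases i <;> simp [a]
  have hL : IsUnit (Matrix.of fun i j => coeff (Finsupp.single j 1) (a i)) := by
    rw [Matrix.isUnit_iff_isUnit_det, Matrix.det_fin_three]
    simp [a, coeff_X, Finsupp.single_eq_single_iff, pow_succ, PowerSeriesAut.coeff_single_one_mul]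
  set e := PowerSeriesAut.substEquiv a h0 hL with he
  have hq : e.symm (X 0) + e.symm (X 0) ^ 2 + e.symm (X 0) ^ 3 = X 0 := by
    have hX : e (X 0) = X 0 + X 0 ^ 2 + X 0 ^ 3 := by
      rw [he, PowerSeriesAut.substEquiv_X]; rfl
    simpa using congrArg e.symm hX.symm
  have hs : HasSubst ![f, X 1, X 2] := by
    refine hasSubst_of_constantCoeff_zero fun i => ?_
    fin_cases i <;> simp [hf]
  have h := congrArg (substAlgHom hs) hq
  simp only [map_add, map_pow, substAlgHom_X, Matrix.cons_val_zero] at h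
  refine ⟨1 + substAlgHom hs (e.symm (X 0)), ?_, ?_⟩
  · have h' := congrArg constantCoeff h
    have hz : constantCoeff (e.symm (X 0)) = 0 := by
      have h1 := congrArg constantCoeff hq
      simp only [map_add, map_pow, constantCoeff_X] at h1
      have h2 := congrArg constantCoeff (e.apply_symm_apply (X 0))
      rw [constantCoeff_X, he, PowerSeriesAut.substEquiv_apply] at h2
      rw [← he] at h2
      rw [← sub_add_cancel (e.symm (X 0)) (C (constantCoeff (e.symm (X 0)))),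
        subst_add (hasSubst_of_constantCoeff_zero h0), map_add,
        constantCoeff_subst_eq_zero (hasSubst_of_constantCoeff_zero h0) h0 (by simp),
        zero_add, ← coe_substAlgHom (hasSubst_of_constantCoeff_zero h0), c_eq_algebraMap,
        AlgHom.commutes, ← c_eq_algebraMap, constantCoeff_C] at h2
      exact h2
    rw [map_add, map_one, substAlgHom_apply,
      constantCoeff_subst_eq_zero hs (fun i => by fin_cases i <;> simp [hf]) hz, add_zero]
  · linear_combination h + (substAlgHom hs (e.symm (X 0)) + substAlgHom hs (e.symm (X 0)) ^ 2) * h2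

open MvPowerSeries in
/-- Let R be a commutative ring of characteristic 2 and l0, l2, l4, s0, s2, s4, τ, lam, sig ∈ R with l4,
s4, lam, sig units, and let κ₁, κ₂ ∈ R satisfy s4² κ₁³ = sig² and l4² κ₂³ = lam² (cube roots of
sig²/s4² and lam²/l4²). In the power series ring R[[a, b, c]] (a = X 0, b = X 1, c = X 2) put F = c²
+ s0² a³ b⁴ + s2² a³ b² + s4² a³ + l0² a⁴ b³ + l2² a² b³ + l4² b³ + τ² a³ b³ and F₀ = c² + sig² a³ +
lam² b³. Then some R-algebra automorphism of R[[a, b, c]] maps F to F₀; consequently R[[a, b,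
c]]/(F) ≅ R[[a, b, c]]/(F₀). (In the published statement lam, sig are the representatives in the
ground field of the residues of l4, s4 at a rational point, so that F₀ is the equation of the
special fibre made constant; this row takes them to be arbitrary units.) -/
theorem result (R : Type u) [CommRing R] [CharP R 2]
    (l0 l2 l4 s0 s2 s4 τ lam sig κ₁ κ₂ : R) (hl4 : IsUnit l4) (hs4 : IsUnit s4) (hlam : IsUnit lam)
    (hsig : IsUnit sig) (h₁ : s4 ^ 2 * κ₁ ^ 3 = sig ^ 2) (h₂ : l4 ^ 2 * κ₂ ^ 3 = lam ^ 2) :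
    ∃ φ : MvPowerSeries (Fin 3) R ≃ₐ[R] MvPowerSeries (Fin 3) R,
      φ ((X 2 ^ 2 + C (s0 ^ 2) * X 0 ^ 3 * X 1 ^ 4 + C (s2 ^ 2) * X 0 ^ 3 * X 1 ^ 2 +
          C (s4 ^ 2) * X 0 ^ 3 + C (l0 ^ 2) * X 0 ^ 4 * X 1 ^ 3 + C (l2 ^ 2) * X 0 ^ 2 * X 1 ^ 3 +
          C (l4 ^ 2) * X 1 ^ 3 + C (τ ^ 2) * X 0 ^ 3 * X 1 ^ 3 : MvPowerSeries (Fin 3) R)) =
        (X 2 ^ 2 + C (sig ^ 2) * X 0 ^ 3 + C (lam ^ 2) * X 1 ^ 3 : MvPowerSeries (Fin 3) R) := by
  obtain ⟨t, ht⟩ := hs4.exists_right_inv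
  obtain ⟨u, hu⟩ := hl4.exists_right_inv
  have hκ1 : IsUnit κ₁ := by
    refine (isUnit_pow_iff three_ne_zero).1 (isUnit_of_mul_isUnit_right (x := s4 ^ 2) ?_)
    rw [h₁]; exact hsig.pow 2
  have hκ2 : IsUnit κ₂ := by
    refine (isUnit_pow_iff three_ne_zero).1 (isUnit_of_mul_isUnit_right (x := l4 ^ 2) ?_)
    rw [h₂]; exact hlam.pow 2
  obtain ⟨k₁, hk₁⟩ := hκ1.exists_right_inv
  obtain ⟨k₂, hk₂⟩ := hκ2.exists_right_inv
  obtain ⟨v, hv0, hv⟩ := exists_cube (R := R)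
    (C (t ^ 2) * (C (s2 ^ 2) * X 1 ^ 2 + C (τ ^ 2) * X 1 ^ 3 + C (s0 ^ 2) * X 1 ^ 4)) (by simp)
  obtain ⟨w, hw0, hw⟩ := exists_cube (R := R)
    (C (u ^ 2) * (C (l2 ^ 2) * X 0 ^ 2 + C (l0 ^ 2) * X 0 ^ 4)) (by simp)
  let a : Fin 3 → MvPowerSeries (Fin 3) R := ![X 0 * (C k₁ * v), X 1 * (C k₂ * w), X 2]
  have h0 : ∀ i, constantCoeff (a i) = 0 := by
    intro i; fin_cases i <;> simp [a]
  have hL : IsUnit (Matrix.of fun i j => coeff (Finsupp.single j 1) (a i)) := by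
    rw [Matrix.isUnit_iff_isUnit_det, Matrix.det_fin_three]
    simpa [a, PowerSeriesAut.coeff_single_one_mul, coeff_X, Finsupp.single_eq_single_iff, hv0, hw0]
      using (IsUnit.of_mul_eq_one_right _ hk₁).mul (IsUnit.of_mul_eq_one_right _ hk₂)
  refine ⟨(PowerSeriesAut.substEquiv a h0 hL).symm, ?_⟩
  rw [AlgEquiv.symm_apply_eq]
  simp only [map_add, map_mul, map_pow, PowerSeriesAut.substEquiv_X, PowerSeriesAut.substEquiv_C]
  simp only [a, Matrix.cons_val_zero, Matrix.cons_val_one, Matrix.cons_val]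
  have e1 : C sig ^ 2 * C k₁ ^ 3 = (C (s4 ^ 2) : MvPowerSeries (Fin 3) R) := by
    rw [← map_pow, ← map_pow, ← map_mul, ← h₁, mul_assoc, ← mul_pow, hk₁, one_pow, mul_one]
  have e2 : C lam ^ 2 * C k₂ ^ 3 = (C (l4 ^ 2) : MvPowerSeries (Fin 3) R) := by
    rw [← map_pow, ← map_pow, ← map_mul, ← h₂, mul_assoc, ← mul_pow, hk₂, one_pow, mul_one]
  have e3 : (C (s4 ^ 2) * C (t ^ 2) : MvPowerSeries (Fin 3) R) = 1 := by
    rw [← map_mul, ← mul_pow, ht, one_pow, map_one]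
  have e4 : (C (l4 ^ 2) * C (u ^ 2) : MvPowerSeries (Fin 3) R) = 1 := by
    rw [← map_mul, ← mul_pow, hu, one_pow, map_one]
  simp only [map_pow] at e1 e2 e3 e4 hv hw
  linear_combination (-(X 0 ^ 3 * v ^ 3)) * e1 + (-(X 1 ^ 3 * w ^ 3)) * e2 +
    (-(X 0 ^ 3 * C s4 ^ 2)) * hv + (-(X 1 ^ 3 * C l4 ^ 2)) * hw +
    (-(X 0 ^ 3 * (C s2 ^ 2 * X 1 ^ 2 + C τ ^ 2 * X 1 ^ 3 + C s0 ^ 2 * X 1 ^ 4))) * e3 +
    (-(X 1 ^ 3 * (C l2 ^ 2 * X 0 ^ 2 + C l0 ^ 2 * X 0 ^ 4))) * e4

end Groth.Agent.S13127
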