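import Groth.Statements.S13128
import Groth.Agent.PowerSeriesAut.Basic
import Mathlib.Tactic.LinearCombination

set_option autoImplicit false
universe u
open KumFam

namespace Groth.Agent.S13128

open MvPowerSeries in
/-- Let R be a commutative ring of characteristic 2, l0, l2, l4, s0, s2, s4, τ ∈ R with τ a unit, and α,
β ∈ R with l4² α⁴ + l2² α² + τ² α + l0² = 0 and s4² β⁴ + s2² β² + τ² β + s0² = 0. In characteristic
2 these relations give τ² α = (l4 α² + l2 α + l0)² and τ² β = (s4 β² + s2 β + s0)², so α = α′² and β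
= β′² with α′ = (l4 α² + l2 α + l0)/τ and β′ = (s4 β² + s2 β + s0)/τ. In R[[a, b, c]] (a = X 0, b =
X 1, c = X 2) put h = c² + τ² a b + (s4² b⁴ + s2² b²) a + (l4² a⁴ + l2² a²) b + l4² β a⁴ + l2² β a²
+ s4² α b⁴ + s2² α b²; this is the chart equation c² + τ² a b + (s4² b⁴ + s2² b² + s0²) a + (l4² a⁴
+ l2² a² + l0²) b after the substitution a ↦ a + α, b ↦ b + β, c ↦ c + τ α′ β′, which moves the
point (α, β, τ α′ β′) of that surface, where all partial derivatives vanish, to the origin. Then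
some R-algebra automorphism of R[[a, b, c]] maps h to c² + a b; consequently R[[a, b, c]]/(h) ≅
R[[a, b, c]]/(c² + a b), the completed local ring of an ordinary double point, constant over R. (The
published statement translates only a and b, so that its h carries the additional constant term τ² α
β; with that term h is a unit of R[[a, b, c]] whenever τ α β is a unit, for instance c² + a b + 1
over the field with two elements with l0 = s0 = τ = α = β = 1 and l2 = l4 = s2 = s4 = 0, and no ring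
automorphism carries a unit to c² + a b. The published proof begins by shifting c by a polynomial in
a, b whose constant term is τ α′ β′, a substitution of the polynomial ring which removes the term τ²
α β, and the rest of its argument takes place in R[[a, b, c]]; this row states the result for the
fully translated equation, which is what that argument proves.) -/
theorem result (R : Type u) [CommRing R] [CharP R 2]
    (l0 l2 l4 s0 s2 s4 τ α β : R) (hτ : IsUnit τ)
    (hα : l4 ^ 2 * α ^ 4 + l2 ^ 2 * α ^ 2 + τ ^ 2 * α + l0 ^ 2 = 0)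
    (hβ : s4 ^ 2 * β ^ 4 + s2 ^ 2 * β ^ 2 + τ ^ 2 * β + s0 ^ 2 = 0) :
    ∃ φ : MvPowerSeries (Fin 3) R ≃ₐ[R] MvPowerSeries (Fin 3) R,
      φ ((X 2 ^ 2 + C (τ ^ 2) * X 0 * X 1 + (C (s4 ^ 2) * X 1 ^ 4 + C (s2 ^ 2) * X 1 ^ 2) * X 0 +
          (C (l4 ^ 2) * X 0 ^ 4 + C (l2 ^ 2) * X 0 ^ 2) * X 1 + C (l4 ^ 2 * β) * X 0 ^ 4 +
          C (l2 ^ 2 * β) * X 0 ^ 2 + C (s4 ^ 2 * α) * X 1 ^ 4 + C (s2 ^ 2 * α) * X 1 ^ 2 :
          MvPowerSeries (Fin 3) R)) =
        (X 2 ^ 2 + X 0 * X 1 : MvPowerSeries (Fin 3) R) := by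
  obtain ⟨t, ht⟩ := hτ.exists_right_inv
  have h2R : (2 : R) = 0 := CharTwo.two_eq_zero
  have h2 : (2 : MvPowerSeries (Fin 3) R) = 0 := by
    rw [← map_ofNat (C : R →+* MvPowerSeries (Fin 3) R) 2, h2R, map_zero]
  have ht2 : t ^ 2 * τ ^ 2 = 1 := by rw [← mul_pow, mul_comm t τ, ht, one_pow]
  obtain ⟨α', hα'⟩ : ∃ α', α = α' ^ 2 := ⟨t * (l4 * α ^ 2 + l2 * α + l0), by
    linear_combination (-(α : R)) * ht2 + t ^ 2 * hα +
      (-(t ^ 2) * (l4 ^ 2 * α ^ 4 + l2 ^ 2 * α ^ 2 + l0 ^ 2 + l4 * l2 * α ^ 3 + l4 * l0 * α ^ 2 +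
        l2 * l0 * α)) * h2R⟩
  obtain ⟨β', hβ'⟩ : ∃ β', β = β' ^ 2 := ⟨t * (s4 * β ^ 2 + s2 * β + s0), by
    linear_combination (-(β : R)) * ht2 + t ^ 2 * hβ +
      (-(t ^ 2) * (s4 ^ 2 * β ^ 4 + s2 ^ 2 * β ^ 2 + s0 ^ 2 + s4 * s2 * β ^ 3 + s4 * s0 * β ^ 2 +
        s2 * s0 * β)) * h2R⟩
  subst hα' hβ'
  let a : Fin 3 → MvPowerSeries (Fin 3) R := ![
    X 0 * (C (τ ^ 2) + C (s4 ^ 2) * X 1 ^ 3 + C (s2 ^ 2) * X 1 + C (l4 ^ 2) * X 0 ^ 3 +
      C (l2 ^ 2) * X 0),
    X 1,
    X 2 + (C (l4 * β') * X 0 ^ 2 + C (l2 * β') * X 0 + C (s4 * α') * X 1 ^ 2 +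
      C (s2 * α') * X 1)]
  have h0 : ∀ i, constantCoeff (a i) = 0 := by
    intro i; fin_cases i <;> simp [a]
  have hL : IsUnit (Matrix.of fun i j => coeff (Finsupp.single j 1) (a i)) := by
    rw [Matrix.isUnit_iff_isUnit_det, Matrix.det_fin_three]
    simp only [a, Matrix.of_apply, Matrix.cons_val_zero, Matrix.cons_val_one, Matrix.cons_val,
      map_add, PowerSeriesAut.coeff_single_one_mul, pow_succ, pow_zero, one_mul, map_mul,
      constantCoeff_X, constantCoeff_C, coeff_X, Finsupp.single_eq_single_iff,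
      coeff_C, Finsupp.single_eq_zero, Fin.reduceEq, one_ne_zero, and_false, false_and, or_false,
      and_true, if_false, if_true, mul_zero, zero_mul, mul_one, add_zero, zero_add, sub_zero]
    simpa [← sq] using hτ.pow 2
  refine ⟨(PowerSeriesAut.substEquiv a h0 hL).symm, ?_⟩
  rw [AlgEquiv.symm_apply_eq]
  simp only [map_add, map_mul, map_pow, PowerSeriesAut.substEquiv_X]
  simp only [a, Matrix.cons_val_zero, Matrix.cons_val_one, Matrix.cons_val, map_mul, map_pow]
  linear_combination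
    (-(X 2 * (C l4 * C β' * X 0 ^ 2 + C l2 * C β' * X 0 + C s4 * C α' * X 1 ^ 2 +
      C s2 * C α' * X 1)) -
      (C l4 * C β' * X 0 ^ 2 * (C l2 * C β' * X 0 + C s4 * C α' * X 1 ^ 2 + C s2 * C α' * X 1) +
       C l2 * C β' * X 0 * (C s4 * C α' * X 1 ^ 2 + C s2 * C α' * X 1) +
       C s4 * C α' * X 1 ^ 2 * (C s2 * C α' * X 1))) * h2

end Groth.Agent.S13128
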