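import Mathlib
import Groth.Statements.S1313
import Groth.Agent.S1305
import Groth.Agent.ThickProps.Descend
-- import your own Groth.Agent.* helpers here

set_option autoImplicit false
universe u
open FlatMor

namespace Groth.Agent.S1313

set_option backward.isDefEq.respectTransparency.types false

open AlgebraicGeometry CategoryTheory Limits in
/-- Let Y ⟶ Y' be a thickening, let X be the base change to Y of a scheme X' over Y', and assume both X
⟶ Y and X' ⟶ Y' are locally of finite type. Then X ⟶ Y is a closed immersion if and only if X' ⟶ Y'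
is. -/
theorem result {X X' Y Y' : Scheme.{u}} (iX : X ⟶ X') (iY : Y ⟶ Y') (f : X ⟶ Y) (f' : X' ⟶ Y')
    (hY : MoreMor.IsThickening iY) (hc : IsPullback iX f f' iY) [LocallyOfFiniteType f] [LocallyOfFiniteType f'] :
    IsClosedImmersion f ↔ IsClosedImmersion f' := by
  haveI : IsClosedImmersion iY := hY.1
  haveI : Surjective iY := hY.2
  refine ⟨fun hf => ?_, fun hf => MorphismProperty.of_isPullback hc hf⟩
  haveI : IsClosedImmersion iX := MorphismProperty.of_isPullback hc.flip hY.1
  haveI hs : Surjective iX := MorphismProperty.of_isPullback hc.flip hY.2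
  haveI := ThickProps.mono_of_isPullback hc
  haveI : IsIntegralHom f' := (Groth.Agent.S1305.result iX iY f f' ⟨inferInstance, hs⟩ hY hc.w).1 inferInstance
  exact (IsClosedImmersion.iff_isFinite_and_mono f').mpr
    ⟨(IsFinite.iff_isIntegralHom_and_locallyOfFiniteType f').mpr ⟨inferInstance, inferInstance⟩, inferInstance⟩

end Groth.Agent.S1313
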