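import Mathlib
import Groth.Statements.S13130
-- import your own Groth.Agent.* helpers here

set_option autoImplicit false
universe u v
open KumFam

namespace Groth.Agent.S13130

/-- Let R be a nontrivial commutative ring and M a commutative group, with group algebra R[M], the
coordinate ring of the diagonalizable group scheme D(M) over Spec R. Then D(M) is integral over Spec
R, i.e. R[M] is an integral R-algebra, if and only if M is a torsion group. (The published statement
is over an arbitrary base scheme; the question is local and this row is the affine form, with R
nontrivial so that the elements of M are R-linearly independent.) -/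
theorem result (R : Type u) [CommRing R] [Nontrivial R]
    (M : Type v) [CommGroup M] :
    Algebra.IsIntegral R (MonoidAlgebra R M) ↔ IsMulTorsion M := by
  classical
  constructor
  · intro h g
    by_contra hg
    have hinj := injective_pow_iff_not_isOfFinOrder.2 hg
    obtain ⟨p, hp, hp0⟩ := h.isIntegral (MonoidAlgebra.of R M g)
    rw [← Polynomial.aeval_def, Polynomial.aeval_eq_sum_range] at hp0
    have := congrArg (fun z => MonoidAlgebra.coeff z (g ^ p.natDegree)) hp0
    simp [MonoidAlgebra.of_apply, MonoidAlgebra.single_pow, MonoidAlgebra.coeff_sum,
      Finsupp.single_apply, hinj.eq_iff, hp.coeff_natDegree] at this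
  · intro h
    refine ⟨fun x => ?_⟩
    induction x using MonoidAlgebra.induction_on with
    | of g =>
      obtain ⟨n, hn, hgn⟩ := (h g).exists_pow_eq_one
      refine IsIntegral.of_pow hn ?_
      rw [← map_pow, hgn, map_one]
      exact isIntegral_one
    | add x y hx hy => exact hx.add hy
    | smul r x hx => exact hx.smul r

end Groth.Agent.S13130
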