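import Mathlib
import Groth.Statements.S13131
-- import your own Groth.Agent.* helpers here

set_option autoImplicit false
universe u
open CategoryTheory CategoryTheory.Limits AlgebraicGeometry
open KumFam

namespace Groth.Agent.S13131

/-- Let S be a scheme, M a set and p : T → S a scheme over S. The S-morphisms T → ∐_{m ∈ M} S (the
constant S-scheme on M, with its structure map the codiagonal) are in bijection with the locally
constant maps T → M, a morphism f corresponding to the function sending t to the index of the copy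
of S containing f(t). (In the published statement M is a group and ∐_M S the constant group scheme;
the group structures play no role in this description of T-points.) -/
theorem result (S : Scheme.{u}) (M : Type u)
    (T : Scheme.{u}) (p : T ⟶ S) :
    ∃ e : {f : T ⟶ ∐ (fun _ : M => S) // f ≫ Sigma.desc (fun _ : M => 𝟙 S) = p} ≃
        LocallyConstant T M,
      ∀ (f : {f : T ⟶ ∐ (fun _ : M => S) // f ≫ Sigma.desc (fun _ : M => 𝟙 S) = p}) (t : T),
        e f t = ((sigmaMk (fun _ : M => S)).symm (f.1.base t)).1 := by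
  classical
  let idx : (∐ fun _ : M => S : Scheme.{u}) → M := fun z => ((sigmaMk (fun _ : M => S)).symm z).1
  have hidx : ∀ m, IsOpen (idx ⁻¹' {m}) := fun m => by
    have : IsOpen (Sigma.fst ⁻¹' {m} : Set (Σ _ : M, S)) := isOpen_sigma_iff.mpr fun i => by
      show IsOpen {_x : S | i = m}
      exact isOpen_const
    exact this.preimage (sigmaMk (fun _ : M => S)).symm.continuous
  have hι : ∀ m x, idx (Sigma.ι (fun _ : M => S) m x) = m := fun m x => by
    simp only [idx, ← sigmaMk_mk, Homeomorph.symm_apply_apply]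
  have hrange : ∀ z, ∃ x, Sigma.ι (fun _ : M => S) (idx z) x = z := fun z => by
    refine ⟨((sigmaMk (fun _ : M => S)).symm z).2, ?_⟩
    rw [← sigmaMk_mk]
    exact (sigmaMk (fun _ : M => S)).apply_symm_apply z
  let fwd : {f : T ⟶ ∐ (fun _ : M => S) // f ≫ Sigma.desc (fun _ : M => 𝟙 S) = p} → LocallyConstant T M := fun f =>
    ⟨fun t => idx (f.1 t), IsLocallyConstant.iff_isOpen_fiber.mpr fun m => (hidx m).preimage f.1.continuous⟩
  let U : LocallyConstant T M → M → T.Opens := fun L m => ⟨L ⁻¹' {m}, L.isLocallyConstant.isOpen_fiber m⟩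
  have hcol : ∀ L, Nonempty (IsColimit (Cofan.mk T fun m => (U L m).ι)) := fun L => by
    refine nonempty_isColimit_cofanMk_of _ ?_ fun i j hij => ?_
    · refine eq_top_iff.mpr fun t _ => TopologicalSpace.Opens.mem_iSup.mpr ⟨L t, ?_⟩
      rw [Scheme.Opens.opensRange_ι]
      exact Set.mem_singleton _
    · simp only [Function.onFun, Scheme.Opens.opensRange_ι]
      rw [disjoint_iff_inf_le]
      exact fun t ht => hij (ht.1.symm.trans ht.2)
  have hmain : ∀ L, ∃! f : {f : T ⟶ ∐ (fun _ : M => S) // f ≫ Sigma.desc (fun _ : M => 𝟙 S) = p}, fwd f = L := by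
    intro L
    let hc := (hcol L).some
    let f₀ : T ⟶ ∐ (fun _ : M => S) := Cofan.IsColimit.desc hc fun m => (U L m).ι ≫ p ≫ Sigma.ι (fun _ : M => S) m
    have hf₀ : ∀ m, (U L m).ι ≫ f₀ = (U L m).ι ≫ p ≫ Sigma.ι (fun _ : M => S) m := fun m => Cofan.IsColimit.fac hc _ m
    refine ⟨⟨f₀, Cofan.IsColimit.hom_ext hc _ _ fun m => ?_⟩, ?_, fun g hg => ?_⟩
    · show (U L m).ι ≫ f₀ ≫ _ = (U L m).ι ≫ p
      rw [reassoc_of% (hf₀ m), Sigma.ι_desc, Category.comp_id]
    · ext t
      show idx (f₀ t) = L t
      have h1 : f₀ t = ((U L (L t)).ι ≫ f₀) ⟨t, Set.mem_singleton (L t)⟩ := rfl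
      rw [h1, hf₀]
      exact hι _ _
    · refine Subtype.ext (Cofan.IsColimit.hom_ext hc _ _ fun m => ?_)
      show (U L m).ι ≫ g.1 = (U L m).ι ≫ f₀
      rw [hf₀]
      have hr : Set.range ((U L m).ι ≫ g.1) ⊆ Set.range (Sigma.ι (fun _ : M => S) m) := by
        rintro _ ⟨x, rfl⟩
        obtain ⟨y, hy⟩ := hrange (g.1 x.1)
        refine ⟨y, ?_⟩
        have : idx (g.1 x.1) = m := (LocallyConstant.congr_fun hg x.1).trans x.2
        rw [this] at hy
        exact hy
      have hl := IsOpenImmersion.lift_fac (Sigma.ι (fun _ : M => S) m) _ hr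
      have hp := hl =≫ Sigma.desc (fun _ : M => 𝟙 S)
      rw [Category.assoc, Category.assoc, Sigma.ι_desc, Category.comp_id, g.2] at hp
      rw [← Category.assoc, ← hp]
      exact hl.symm
  refine ⟨Equiv.ofBijective fwd ⟨fun a b h => (hmain (fwd b)).unique h rfl, fun L => (hmain L).exists⟩, fun f t => rfl⟩

end Groth.Agent.S13131
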