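import Mathlib
import Groth.Statements.S13132
-- import your own Groth.Agent.* helpers here

set_option autoImplicit false
universe u v
open CAlg

namespace Groth.Agent.S13132

open scoped TensorProduct

/-- Let A' be an Artinian local ring, I a proper ideal of A' and S' a flat A'-algebra. An element f' of
S' is a non-zero-divisor exactly when its image in S'/IS' is one; and when f' is a non-zero-divisor,
the quotient S'/(f') is flat over A'. (The published statement is for local Artinian algebras with a
fixed residue field over a ring of Witt vectors and a surjection between two of them; the argument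
uses only that A' is Artinian local and I is a proper ideal, which is the form taken here.) -/
theorem result
    {A' : Type u} [CommRing A'] [IsArtinianRing A'] [IsLocalRing A'] (I : Ideal A') (hI : I ≠ ⊤)
    {S' : Type v} [CommRing S'] [Algebra A' S'] [Module.Flat A' S'] (f' : S') :
    (f' ∈ nonZeroDivisors S' ↔
      Ideal.Quotient.mk (I.map (algebraMap A' S')) f' ∈ nonZeroDivisors (S' ⧸ I.map (algebraMap A' S'))) ∧
    (f' ∈ nonZeroDivisors S' → Module.Flat A' (S' ⧸ Ideal.span {f'})) := by
  classical
  set m := IsLocalRing.maximalIdeal A'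
  have hcolon : ∀ (J : Ideal A') (a : A'), a ∉ J → (∀ r ∈ m, r * a ∈ J) →
      ∀ y : S', algebraMap A' S' a * y ∈ J.map (algebraMap A' S') ↔ y ∈ m.map (algebraMap A' S') := by
    intro J a ha hma y
    constructor
    · intro hy
      let φ : (A' ⧸ m) →ₗ[A'] (A' ⧸ J) := Submodule.mapQ m J (LinearMap.mulRight A' a) (fun r hr => hma r hr)
      have hφ : Function.Injective φ := by
        rw [injective_iff_map_eq_zero]
        intro z hz
        obtain ⟨z, rfl⟩ := Submodule.Quotient.mk_surjective m z
        rw [Submodule.mapQ_apply, Submodule.Quotient.mk_eq_zero] at hz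
        rw [Submodule.Quotient.mk_eq_zero]
        by_contra hzm
        have hu := IsLocalRing.notMem_maximalIdeal.1 hzm
        exact ha ((J.unit_mul_mem_iff_mem hu).1 hz)
      have hinj := Module.Flat.lTensor_preserves_injective_linearMap (M := S') φ hφ
      have hJ : ∀ (K : Ideal A') (w : S'),
          w ⊗ₜ[A'] (Submodule.Quotient.mk 1 : A' ⧸ K) = 0 ↔ w ∈ K.map (algebraMap A' S') := by
        intro K w
        rw [← (TensorProduct.tensorQuotEquivQuotSMul S' K).map_eq_zero_iff]
        have e : TensorProduct.tensorQuotEquivQuotSMul S' K (w ⊗ₜ[A'] (Submodule.Quotient.mk 1 : A' ⧸ K)) =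
            Submodule.Quotient.mk w := by
          rw [Ideal.Quotient.mk_eq_mk, TensorProduct.tensorQuotEquivQuotSMul_tmul_mk, one_smul]
        rw [e, Submodule.Quotient.mk_eq_zero, Ideal.smul_top_eq_map, Submodule.restrictScalars_mem]
      rw [← hJ]
      apply hinj
      rw [map_zero, LinearMap.lTensor_tmul, Submodule.mapQ_apply, LinearMap.mulRight_apply, one_mul]
      have e : (Submodule.Quotient.mk a : A' ⧸ J) = a • Submodule.Quotient.mk 1 := by
        rw [← Submodule.Quotient.mk_smul, smul_eq_mul, mul_one]
      rw [e, TensorProduct.tmul_smul, TensorProduct.smul_tmul', hJ, Algebra.smul_def]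
      exact hy
    · intro hy
      refine Submodule.span_induction ?_ ?_ ?_ ?_ hy
      · rintro _ ⟨r, hr, rfl⟩
        rw [← map_mul, mul_comm]
        exact Ideal.mem_map_of_mem _ (hma r hr)
      · simp
      · intro u v _ _ hu hv
        rw [mul_add]
        exact add_mem hu hv
      · intro c u _ hu
        rw [smul_eq_mul, mul_left_comm]
        exact Ideal.mul_mem_left _ c hu
  have hsoc : ∀ J : Ideal A', J ≠ ⊤ → ∃ a, a ∉ J ∧ ∀ r ∈ m, r * a ∈ J := by
    intro J hJ
    obtain ⟨n, hn⟩ := IsArtinianRing.isNilpotent_jacobson_bot (R := A')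
    rw [IsLocalRing.jacobson_eq_maximalIdeal ⊥ bot_ne_top] at hn
    have hex : ∃ n, m ^ n ≤ J := ⟨n, by rw [hn]; exact bot_le⟩
    have h0 : Nat.find hex ≠ 0 := by
      intro h
      have := Nat.find_spec hex
      rw [h, pow_zero, Ideal.one_eq_top, top_le_iff] at this
      exact hJ this
    obtain ⟨k, hk⟩ := Nat.exists_eq_succ_of_ne_zero h0
    obtain ⟨a, ha, haJ⟩ := SetLike.not_le_iff_exists.1 (Nat.find_min hex (show k < Nat.find hex by omega))
    refine ⟨a, haJ, fun r hr => ?_⟩
    have hk' := Nat.find_spec hex
    rw [hk] at hk'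
    exact hk' (by rw [pow_succ']; exact Ideal.mul_mem_mul hr ha)
  let Reg : Ideal A' → Prop := fun J => ∀ y : S', f' * y ∈ J.map (algebraMap A' S') → y ∈ J.map (algebraMap A' S')
  have up : ∀ J : Ideal A', J ≠ ⊤ → Reg J → Reg m := by
    intro J hJ hR y hy
    obtain ⟨a, ha, hma⟩ := hsoc J hJ
    rw [← hcolon J a ha hma]
    apply hR
    rw [mul_left_comm, hcolon J a ha hma]
    exact hy
  have down : Reg m → ∀ J, Reg J := by
    intro hR J
    induction J using WellFoundedGT.induction with
    | _ J ih =>
      by_cases hJ : J = ⊤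
      · subst hJ
        intro y _
        simp [Ideal.map_top]
      intro y hy
      obtain ⟨a, ha, hma⟩ := hsoc J hJ
      have hlt : J < J ⊔ Ideal.span {a} :=
        left_lt_sup.2 fun hle => ha (hle (Ideal.mem_span_singleton_self a))
      have h1 := ih _ hlt y ((Ideal.map_mono le_sup_left : _ ≤ _) hy)
      rw [Ideal.map_sup, Ideal.map_span, Set.image_singleton, Submodule.mem_sup] at h1
      obtain ⟨j, hj, w, hw, rfl⟩ := h1
      obtain ⟨z, rfl⟩ := Ideal.mem_span_singleton'.1 hw
      refine add_mem hj ?_
      rw [mul_comm, hcolon J a ha hma]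
      apply hR
      rw [← hcolon J a ha hma]
      have : algebraMap A' S' a * (f' * z) = f' * (j + z * algebraMap A' S' a) - f' * j := by ring
      rw [this]
      exact sub_mem hy (Ideal.mul_mem_left _ _ hj)
  have hb : f' ∈ nonZeroDivisors S' ↔ Reg ⊥ := by
    simp [Reg, mem_nonZeroDivisors_iff_right, mul_comm, Ideal.map_bot]
  have hbot : (⊥ : Ideal A') ≠ ⊤ := bot_ne_top
  refine ⟨?_, ?_⟩
  · rw [hb]
    constructor
    · intro h
      rw [mem_nonZeroDivisors_iff_right]
      intro z hz
      obtain ⟨z, rfl⟩ := Ideal.Quotient.mk_surjective z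
      rw [← map_mul, Ideal.Quotient.eq_zero_iff_mem, mul_comm] at hz
      rw [Ideal.Quotient.eq_zero_iff_mem]
      exact down (up ⊥ hbot h) I z hz
    · intro h
      refine down (up I hI fun y hy => ?_) ⊥
      rw [← Ideal.Quotient.eq_zero_iff_mem] at hy ⊢
      rw [map_mul, mul_comm] at hy
      exact (mem_nonZeroDivisors_iff_right.1 h) _ hy
  · intro hf
    have hreg := down (up ⊥ hbot (hb.1 hf))
    rw [Module.Flat.iff_lTensor_injective']
    intro J
    rw [injective_iff_map_eq_zero]
    intro z hz
    let q : S' →ₗ[A'] S' ⧸ Ideal.span {f'} := (Ideal.Quotient.mkₐ A' _).toLinearMap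
    have hq : Function.Surjective q := Ideal.Quotient.mk_surjective
    obtain ⟨w, rfl⟩ := LinearMap.rTensor_surjective J hq z
    let mu' : S' ⊗[A'] J →ₗ[A'] S' := (TensorProduct.rid A' S').toLinearMap ∘ₗ J.subtype.lTensor S'
    have hmuinj : Function.Injective mu' := (TensorProduct.rid A' S').injective.comp
      (Module.Flat.lTensor_preserves_injective_linearMap (M := S') J.subtype Subtype.val_injective)
    have hmuq : ∀ t, TensorProduct.rid A' _ (J.subtype.lTensor _ (q.rTensor J t)) = q (mu' t) := by
      intro t
      induction t using TensorProduct.induction_on with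
      | zero => simp
      | tmul s j => simp [mu', q, Algebra.smul_def]
      | add a b ha hb => simp only [map_add, ha, hb]
    have hmuJ : ∀ t, mu' t ∈ J.map (algebraMap A' S') := by
      intro t
      induction t using TensorProduct.induction_on with
      | zero => simp
      | tmul s j => simp [mu', Algebra.smul_def]; exact Ideal.mul_mem_right _ _ (Ideal.mem_map_of_mem _ j.2)
      | add a b ha hb => rw [map_add]; exact add_mem ha hb
    have h0 : q (mu' w) = 0 := by rw [← hmuq, hz, map_zero]
    obtain ⟨u, hu⟩ := Ideal.mem_span_singleton'.1 (Ideal.Quotient.eq_zero_iff_mem.1 h0)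
    have huJ : u ∈ J.map (algebraMap A' S') := hreg J u (by rw [mul_comm, hu]; exact hmuJ w)
    have hsurjmu : ∃ t, mu' t = u := by
      refine Submodule.span_induction ?_ ⟨0, map_zero _⟩ ?_ ?_ huJ
      · rintro _ ⟨r, hr, rfl⟩
        exact ⟨1 ⊗ₜ ⟨r, hr⟩, by simp [mu', Algebra.smul_def]⟩
      · rintro a b - - ⟨ta, rfl⟩ ⟨tb, rfl⟩
        exact ⟨ta + tb, map_add _ _ _⟩
      · rintro c a - ⟨t, rfl⟩
        refine ⟨(LinearMap.mulLeft A' c).rTensor J t, ?_⟩
        induction t using TensorProduct.induction_on with
        | zero => simp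
        | tmul s j => simp [mu', Algebra.smul_def, mul_left_comm]
        | add a b ha hb => simp only [map_add, ha, hb, smul_add]
    obtain ⟨t, rfl⟩ := hsurjmu
    have hw : w = (LinearMap.mulRight A' f').rTensor J t := by
      apply hmuinj
      rw [← hu]
      clear hu h0 hz huJ
      induction t using TensorProduct.induction_on with
      | zero => simp
      | tmul s j => simp [mu', Algebra.smul_def, mul_assoc]
      | add a b ha hb => simp only [map_add, add_mul, ← ha, ← hb]
    rw [hw, ← LinearMap.comp_apply, ← LinearMap.rTensor_comp]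
    have hzero : q ∘ₗ LinearMap.mulRight A' f' = 0 := LinearMap.ext fun s => by
      simp [q, Ideal.Quotient.eq_zero_iff_mem, Ideal.mul_mem_left, Ideal.mem_span_singleton_self]
    rw [hzero, LinearMap.rTensor_zero, LinearMap.zero_apply]

end Groth.Agent.S13132
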