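import Groth.Statements.S13133
import Mathlib
import Groth.Agent.S13132
-- import your own Groth.Agent.* helpers here

set_option autoImplicit false
universe u v
open CAlg

namespace Groth.Agent.S13133

/-- Let A' be an Artinian local ring, I a proper ideal of A', S' a flat A'-algebra and f'_1, …, f'_n
elements of S' with n ≥ 1. A family f'_1, …, f'_n in S' is a regular sequence exactly when its
reduction modulo I·S' is a regular sequence of S'/IS'. (Regular sequences are defined in the
published text over Noetherian rings; this row does not assume S' Noetherian, which the argument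
does not use. The published statement is for a surjection of local Artinian algebras with a fixed
residue field over a ring of Witt vectors; only the Artinian local base and the proper ideal are
used, which is the form taken here.) -/
theorem result
    {A' : Type u} [CommRing A'] [IsArtinianRing A'] [IsLocalRing A'] (I : Ideal A') (hI : I ≠ ⊤)
    {S' : Type v} [CommRing S'] [Algebra A' S'] [Module.Flat A' S'] {n : ℕ} (hn : 1 ≤ n)
    (f' : Fin n → S') :
    RingTheory.Sequence.IsRegular S' (List.ofFn f') ↔
      RingTheory.Sequence.IsRegular (S' ⧸ I.map (algebraMap A' S'))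
        (List.ofFn fun i => Ideal.Quotient.mk (I.map (algebraMap A' S')) (f' i)) := by
  classical
  set J := I.map (algebraMap A' S') with hJ
  let K : ℕ → Ideal S' := fun i => Ideal.ofList ((List.ofFn f').take i)
  let P : Ideal S' → S' → Prop := fun L r => ∀ x, r * x ∈ L → x ∈ L
  have hIm : I ≤ IsLocalRing.maximalIdeal A' := IsLocalRing.le_maximalIdeal hI
  have step : ∀ (L : Ideal S') (r : S'), Module.Flat A' (S' ⧸ L) →
      (P L r ↔ P (L ⊔ J) r) ∧ (P L r → Module.Flat A' (S' ⧸ L ⊔ Ideal.span {r})) := by
    intro L r hL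
    obtain ⟨h1, h2⟩ := S13132.result I hI (Ideal.Quotient.mk L r)
    have hmap : I.map (algebraMap A' (S' ⧸ L)) = J.map (Ideal.Quotient.mk L) := by
      rw [hJ, Ideal.map_map]; rfl
    have e1 : P L r ↔ Ideal.Quotient.mk L r ∈ nonZeroDivisors (S' ⧸ L) := by
      rw [mem_nonZeroDivisors_iff_right, Ideal.Quotient.mk_surjective.forall]
      refine forall_congr' fun x => ?_
      rw [← map_mul, Ideal.Quotient.eq_zero_iff_mem, Ideal.Quotient.eq_zero_iff_mem, mul_comm]
    have e2 : P (L ⊔ J) r ↔ Ideal.Quotient.mk (I.map (algebraMap A' (S' ⧸ L))) (Ideal.Quotient.mk L r) ∈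
        nonZeroDivisors ((S' ⧸ L) ⧸ I.map (algebraMap A' (S' ⧸ L))) := by
      rw [mem_nonZeroDivisors_iff_right, Ideal.Quotient.mk_surjective.forall,
        Ideal.Quotient.mk_surjective.forall]
      refine forall_congr' fun x => ?_
      rw [← map_mul, Ideal.Quotient.eq_zero_iff_mem, Ideal.Quotient.eq_zero_iff_mem, ← map_mul, hmap,
        Ideal.mem_quotient_iff_mem_sup, Ideal.mem_quotient_iff_mem_sup, sup_comm J L, mul_comm]
    refine ⟨e1.trans (h1.trans e2.symm), fun hP => ?_⟩
    have := h2 (e1.1 hP)
    have e3 : Ideal.span {Ideal.Quotient.mk L r} = (Ideal.span {r}).map (Ideal.Quotient.mkₐ A' L) := by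
      rw [Ideal.map_span, Set.image_singleton]; rfl
    rw [e3] at this
    exact Module.Flat.of_linearEquiv (DoubleQuot.quotQuotEquivQuotSupₐ A' L (Ideal.span {r})).toLinearEquiv.symm
  have hlen : (List.ofFn f').length = n := List.length_ofFn
  have hflat : ∀ i, i ≤ n → (∀ j, ∀ hj : j < n, j < i → P (K j) (f' ⟨j, hj⟩)) → Module.Flat A' (S' ⧸ K i) := by
    intro i
    induction i with
    | zero =>
      intro _ _
      have : K 0 = ⊥ := by simp [K]
      rw [this]
      exact Module.Flat.of_linearEquiv (AlgEquiv.quotientBot A' S').toLinearEquiv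
    | succ i ih =>
      intro hi h
      have hK : K (i + 1) = K i ⊔ Ideal.span {f' ⟨i, by omega⟩} := by
        simp only [K]
        rw [List.take_succ_eq_append_getElem (by omega), Ideal.ofList_append, Ideal.ofList_singleton]
        simp
      rw [hK]
      exact (step _ _ (ih (by omega) fun j hj hji => h j hj (by omega))).2 (h i (by omega) (by omega))
  have hW : RingTheory.Sequence.IsWeaklyRegular S' (List.ofFn f') ↔ ∀ j, ∀ hj : j < n, P (K j) (f' ⟨j, hj⟩) := by
    rw [RingTheory.Sequence.isWeaklyRegular_iff]
    refine forall_congr' fun j => ?_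
    simp only [hlen, List.getElem_ofFn, isSMulRegular_quotient_iff_mem_of_smul_mem, smul_eq_mul,
      Ideal.mul_top, P, K]
  have hmk : (List.ofFn fun i => Ideal.Quotient.mk J (f' i)) = (List.ofFn f').map (Ideal.Quotient.mk J) := by
    simp [List.map_ofFn, Function.comp_def]
  have hW' : RingTheory.Sequence.IsWeaklyRegular (S' ⧸ J) (List.ofFn fun i => Ideal.Quotient.mk J (f' i)) ↔
      ∀ j, ∀ hj : j < n, P (K j ⊔ J) (f' ⟨j, hj⟩) := by
    rw [RingTheory.Sequence.isWeaklyRegular_iff]
    refine forall_congr' fun j => ?_
    simp only [List.length_ofFn, List.getElem_ofFn, isSMulRegular_quotient_iff_mem_of_smul_mem, smul_eq_mul,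
      Ideal.mul_top, P, K]
    refine forall_congr' fun hj => ?_
    rw [Ideal.Quotient.mk_surjective.forall]
    refine forall_congr' fun x => ?_
    have e : Ideal.ofList (List.take j (List.ofFn fun i => Ideal.Quotient.mk J (f' i))) =
        (Ideal.ofList (List.take j (List.ofFn f'))).map (Ideal.Quotient.mk J) := by
      rw [hmk, ← List.map_take, ← Ideal.map_ofList]
    simp only [e, ← map_mul, Ideal.mem_quotient_iff_mem_sup]
  have hweak : RingTheory.Sequence.IsWeaklyRegular S' (List.ofFn f') ↔
      RingTheory.Sequence.IsWeaklyRegular (S' ⧸ J) (List.ofFn fun i => Ideal.Quotient.mk J (f' i)) := by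
    rw [hW, hW']
    constructor
    · intro h j hj
      exact (step _ _ (hflat j hj.le fun k hk _ => h k hk)).1.1 (h j hj)
    · intro h j hj
      induction j using Nat.strong_induction_on with
      | _ j ih => exact (step _ _ (hflat j hj.le fun k hk hkj => ih k hkj hk)).1.2 (h j hj)
  have hJnil : J ≤ (⊥ : Ideal S').radical := by
    refine Ideal.map_le_iff_le_comap.2 fun a ha => ?_
    obtain ⟨m, hm⟩ := IsArtinianRing.isNilpotent_jacobson_bot (R := A')
    rw [IsLocalRing.jacobson_eq_maximalIdeal ⊥ bot_ne_top] at hm
    refine ⟨m, ?_⟩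
    have : a ^ m = 0 := by simpa [hm] using Ideal.pow_mem_pow (hIm ha) m
    simp [← map_pow, this]
  simp only [RingTheory.Sequence.isRegular_iff]
  refine and_congr hweak (not_congr ?_)
  simp only [smul_eq_mul, Ideal.mul_top]
  rw [hmk, ← Ideal.map_ofList]
  constructor
  · intro h
    rw [← h, Ideal.map_top]
  · intro h
    have h1 := Ideal.comap_map_of_surjective _ (Ideal.Quotient.mk_surjective (I := J)) (Ideal.ofList (List.ofFn f'))
    rw [← h, Ideal.comap_top, ← RingHom.ker_eq_comap_bot, Ideal.mk_ker] at h1
    have h2 : (⊤ : Ideal S') ≤ (Ideal.ofList (List.ofFn f')).radical :=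
      h1 ▸ sup_le Ideal.le_radical (hJnil.trans (Ideal.radical_mono bot_le))
    exact (Ideal.radical_eq_top.1 (top_le_iff.1 h2)).symm

end Groth.Agent.S13133
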