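import Groth.Statements.S13134
import Groth.Agent.ArtinFlat.RegSeq
-- import your own Groth.Agent.* helpers here

set_option autoImplicit false
universe u v
open CAlg

namespace Groth.Agent.S13134

/-- Let A' be an Artinian local ring, I a proper ideal, A = A'/I and f_1, …, f_m ∈ A[x_1, …, x_n]. Every
flat A'-algebra B' equipped with a surjection π onto A[x]/(f_1, …, f_m) with kernel I·B', compatible
with A' → A, is a quotient of A'[x_1, …, x_n] by the ideal generated by some lifts f'_1, …, f'_m of
the f_i, compatibly with π and with reduction of polynomials modulo I. (The published statement is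
for a surjection of local Artinian algebras with a fixed residue field over a ring of Witt vectors;
only the Artinian local base and the proper ideal are used, which is the form taken here.) -/
theorem result
    {A' : Type u} [CommRing A'] [IsArtinianRing A'] [IsLocalRing A'] (I : Ideal A') (hI : I ≠ ⊤)
    {n m : ℕ} (f : Fin m → MvPolynomial (Fin n) (A' ⧸ I))
    {B' : Type v} [CommRing B'] [Algebra A' B'] [Module.Flat A' B']
    (π : B' →+* MvPolynomial (Fin n) (A' ⧸ I) ⧸ Ideal.span (Set.range f))
    (hπ : Function.Surjective π) (hker : RingHom.ker π = I.map (algebraMap A' B'))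
    (hcomp : π.comp (algebraMap A' B') =
      ((Ideal.Quotient.mk (Ideal.span (Set.range f))).comp MvPolynomial.C).comp (Ideal.Quotient.mk I)) :
    ∃ (f' : Fin m → MvPolynomial (Fin n) A') (ψ : MvPolynomial (Fin n) A' →ₐ[A'] B'),
      (∀ i, MvPolynomial.map (Ideal.Quotient.mk I) (f' i) = f i) ∧
      Function.Surjective ψ ∧ RingHom.ker ψ.toRingHom = Ideal.span (Set.range f') ∧
      ∀ q, π (ψ q) = Ideal.Quotient.mk (Ideal.span (Set.range f)) (MvPolynomial.map (Ideal.Quotient.mk I) q) := by
  classical
  let P := MvPolynomial (Fin n) A'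
  let ρ : P →+* MvPolynomial (Fin n) (A' ⧸ I) := MvPolynomial.map (Ideal.Quotient.mk I)
  have hρ : Function.Surjective ρ := MvPolynomial.map_surjective _ Ideal.Quotient.mk_surjective
  choose b hb using fun i : Fin n => hπ (Ideal.Quotient.mk _ (MvPolynomial.X i))
  let ψ : P →ₐ[A'] B' := MvPolynomial.aeval b
  have hψπ : ∀ q, π (ψ q) = Ideal.Quotient.mk (Ideal.span (Set.range f)) (ρ q) := fun q => by
    have he : π.comp ψ.toRingHom = (Ideal.Quotient.mk (Ideal.span (Set.range f))).comp ρ := by
      refine MvPolynomial.ringHom_ext (fun a => ?_) (fun i => ?_)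
      · show π (ψ (MvPolynomial.C a)) = _
        rw [show ψ (MvPolynomial.C a) = algebraMap A' B' a from MvPolynomial.aeval_C b a]
        refine (RingHom.congr_fun hcomp a).trans ?_
        simp [ρ]
      · show π (ψ (MvPolynomial.X i)) = Ideal.Quotient.mk _ (ρ (MvPolynomial.X i))
        rw [show ψ (MvPolynomial.X i) = b i from MvPolynomial.aeval_X b i, hb, show ρ (MvPolynomial.X i) = MvPolynomial.X i from MvPolynomial.map_X _ i]
    exact RingHom.congr_fun he q
  obtain ⟨N, hN⟩ : ∃ N, I ^ N = ⊥ := by
    obtain ⟨N, hN⟩ := Groth.Agent.CodimOneFlat.maximalIdeal_pow_eq_bot (A := A')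
    exact ⟨N, le_bot_iff.1 (hN ▸ Ideal.pow_right_mono (IsLocalRing.le_maximalIdeal hI) N)⟩
  let IP : Ideal P := I.map (algebraMap A' P)
  have hIB : I.map (algebraMap A' B') = IP.map ψ.toRingHom := by
    rw [Ideal.map_map]
    exact congrArg (fun φ => Ideal.map φ I) ψ.comp_algebraMap.symm
  have hψs : Function.Surjective ψ := by
    have hstep : ∀ (k : ℕ) (y : B'), ∃ q, y - ψ q ∈ (I.map (algebraMap A' B')) ^ k := by
      intro k
      induction k with
      | zero => exact fun y => ⟨0, by rw [pow_zero, Ideal.one_eq_top]; trivial⟩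
      | succ k ih =>
        intro y
        obtain ⟨q, hq⟩ := ih y
        have h1 : ∀ z ∈ (I.map (algebraMap A' B')) ^ k, ∃ q, z - ψ q ∈ (I.map (algebraMap A' B')) ^ (k + 1) := by
          intro z hz
          rw [hIB, ← Ideal.map_pow] at hz
          induction hz using Submodule.span_induction with
          | mem z hz =>
            obtain ⟨w, -, rfl⟩ := hz
            exact ⟨w, by rw [show (ψ.toRingHom w : B') = ψ w from rfl, sub_self]; exact zero_mem _⟩
          | zero => exact ⟨0, by rw [map_zero, sub_zero]; exact zero_mem _⟩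
          | add a c _ _ ha hc =>
            obtain ⟨q₁, h₁⟩ := ha
            obtain ⟨q₂, h₂⟩ := hc
            exact ⟨q₁ + q₂, by rw [map_add, add_sub_add_comm]; exact add_mem h₁ h₂⟩
          | smul r a hmem ha =>
            obtain ⟨q₁, h₁⟩ := ha
            obtain ⟨p, hp⟩ := hπ (π r)
            obtain ⟨r', hr'⟩ : ∃ r', r - ψ r' ∈ I.map (algebraMap A' B') := by
              obtain ⟨w, hw⟩ := Ideal.Quotient.mk_surjective (π r)
              obtain ⟨w', rfl⟩ := hρ w
              exact ⟨w', by rw [← hker, RingHom.mem_ker, map_sub, hψπ, hw, sub_self]⟩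
            refine ⟨r' * q₁, ?_⟩
            rw [map_mul, show r • a - ψ r' * ψ q₁ = (r - ψ r') * a + ψ r' * (a - ψ q₁) by rw [smul_eq_mul]; ring]
            refine add_mem ?_ (Ideal.mul_mem_left _ _ h₁)
            rw [pow_succ']
            refine Ideal.mul_mem_mul hr' ?_
            rw [hIB, ← Ideal.map_pow]
            exact hmem
        obtain ⟨q', hq'⟩ := h1 _ hq
        exact ⟨q + q', by rw [map_add, ← sub_sub]; exact hq'⟩
    intro y
    obtain ⟨q, hq⟩ := hstep N y
    rw [← Ideal.map_pow, hN, Ideal.map_bot, Submodule.mem_bot, sub_eq_zero] at hq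
    exact ⟨q, hq.symm⟩
  choose g hg using fun i => hρ (f i)
  have hfix : ∀ i, ∃ w ∈ IP, ψ w = ψ (g i) := fun i => by
    have h : ψ (g i) ∈ IP.map ψ.toRingHom := by
      rw [← hIB, ← hker, RingHom.mem_ker, hψπ, hg, Ideal.Quotient.eq_zero_iff_mem]
      exact Ideal.subset_span ⟨i, rfl⟩
    exact (Ideal.mem_map_iff_of_surjective ψ.toRingHom hψs).1 h
  choose w hwI hw using hfix
  have hρI : IP ≤ RingHom.ker ρ := by
    rw [MvPolynomial.ker_map, Ideal.mk_ker]
    exact le_refl _
  let f' : Fin m → P := fun i => g i - w i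
  have hf' : ∀ i, ρ (f' i) = f i := fun i => by
    rw [map_sub, hg, RingHom.mem_ker.1 (hρI (hwI i)), sub_zero]
  let K : Ideal P := RingHom.ker ψ.toRingHom
  have hle : Ideal.span (Set.range f') ≤ K := Ideal.span_le.2 (by
    rintro _ ⟨i, rfl⟩
    show ψ (g i - w i) = 0
    rw [map_sub, hw, sub_self])
  haveI : Module.Flat A' (P ⧸ K) :=
    Module.Flat.of_linearEquiv (Ideal.quotientKerAlgEquivOfSurjective hψs).toLinearEquiv
  have hKle : K ≤ Ideal.span (Set.range f') ⊔ IP • K := fun y hy => by
    have h1 : ρ y ∈ (Ideal.span (Set.range f')).map ρ := by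
      rw [Ideal.map_span, ← Set.range_comp, show (ρ ∘ f') = f from funext hf']
      rw [← Ideal.Quotient.eq_zero_iff_mem, ← hψπ, show ψ y = 0 from hy, map_zero]
    obtain ⟨z, hz, hzy⟩ := (Ideal.mem_map_iff_of_surjective ρ hρ).1 h1
    have h2 : y - z ∈ IP := by
      have : y - z ∈ RingHom.ker ρ := by rw [RingHom.mem_ker, map_sub, hzy, sub_self]
      rwa [MvPolynomial.ker_map, Ideal.mk_ker] at this
    have h3 := Groth.Agent.ArtinFlat.mem_smul_of_flat_quotient (C := A') K I h2 (K.sub_mem hy (hle hz))
    rw [← add_sub_cancel z y]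
    refine Submodule.add_mem_sup hz ?_
    rwa [smul_eq_mul, mul_comm]
  have hpow : ∀ k : ℕ, K ≤ Ideal.span (Set.range f') ⊔ IP ^ k * K := by
    intro k
    induction k with
    | zero => rw [pow_zero, one_mul]; exact le_sup_right
    | succ k ih =>
      refine ih.trans (sup_le le_sup_left ?_)
      refine (Ideal.mul_mono_right hKle).trans ?_
      rw [Ideal.mul_sup, smul_eq_mul, pow_succ, mul_assoc]
      exact sup_le_sup_right Ideal.mul_le_right _
  refine ⟨f', ψ, hf', hψs, le_antisymm ?_ hle, hψπ⟩
  have := hpow N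
  rwa [← Ideal.map_pow, hN, Ideal.map_bot, Ideal.bot_mul, sup_bot_eq] at this

end Groth.Agent.S13134
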