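import Groth.Statements.S13135
import Groth.Agent.ArtinFlat.DescendArtin
-- import your own Groth.Agent.* helpers here

set_option autoImplicit false
universe u
open CAlg

namespace Groth.Agent.S13135

/-- Let A' be an Artinian local ring, I a proper ideal, A = A'/I and f_1, …, f_m a regular sequence in
A[x_1, …, x_n]. For every choice of lifts f'_1, …, f'_m in A'[x_1, …, x_n] the quotient A'[x]/(f'_1,
…, f'_m) is flat over A' (so it is a flat lifting of A[x]/(f_1, …, f_m)). (The published statement
is for a surjection of local Artinian algebras with a fixed residue field over a ring of Witt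
vectors; only the Artinian local base and the proper ideal are used, which is the form taken here.) -/
theorem result
    {A' : Type u} [CommRing A'] [IsArtinianRing A'] [IsLocalRing A'] (I : Ideal A') (hI : I ≠ ⊤)
    {n m : ℕ} (f : Fin m → MvPolynomial (Fin n) (A' ⧸ I))
    (hreg : RingTheory.Sequence.IsRegular (MvPolynomial (Fin n) (A' ⧸ I)) (List.ofFn f))
    (f' : Fin m → MvPolynomial (Fin n) A') (hf' : ∀ i, MvPolynomial.map (Ideal.Quotient.mk I) (f' i) = f i) :
    Module.Flat A' (MvPolynomial (Fin n) A' ⧸ Ideal.span (Set.range f')) := by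
  haveI : Nontrivial (A' ⧸ I) := Ideal.Quotient.nontrivial_iff.2 hI
  haveI : IsLocalRing (A' ⧸ I) := IsLocalRing.of_surjective' (Ideal.Quotient.mk I) Ideal.Quotient.mk_surjective
  let π : MvPolynomial (Fin n) A' →+* MvPolynomial (Fin n) (A' ⧸ I) := MvPolynomial.map (Ideal.Quotient.mk I)
  have hπ : Function.Surjective π := MvPolynomial.map_surjective _ Ideal.Quotient.mk_surjective
  have hw := (Groth.Agent.ArtinFlat.isWeaklyRegular_iff_regMod _).1 hreg.1
  have hm := (Groth.Agent.ArtinFlat.descend_artinian (C := A' ⧸ I) (List.ofFn f) hw).2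
    (IsLocalRing.maximalIdeal (A' ⧸ I))
  have hmap : (List.ofFn f').map π = List.ofFn f := by
    rw [List.map_ofFn]
    exact congrArg List.ofFn (funext hf')
  rw [← hmap] at hm
  have hm' := Groth.Agent.ArtinFlat.regMod_comap hπ _ _ hm
  have hIm : I ≤ IsLocalRing.maximalIdeal A' := IsLocalRing.le_maximalIdeal hI
  have hK : ((IsLocalRing.maximalIdeal (A' ⧸ I)).map (algebraMap (A' ⧸ I) (MvPolynomial (Fin n) (A' ⧸ I)))).comap π =
      (IsLocalRing.maximalIdeal A').map (algebraMap A' (MvPolynomial (Fin n) A')) := by
    have hmax : (IsLocalRing.maximalIdeal A').map (Ideal.Quotient.mk I) = IsLocalRing.maximalIdeal (A' ⧸ I) :=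
      IsLocalRing.eq_maximalIdeal
        ((Ideal.map_eq_top_or_isMaximal_of_surjective _ Ideal.Quotient.mk_surjective
          (IsLocalRing.maximalIdeal.isMaximal A')).resolve_left fun h => (IsLocalRing.maximalIdeal.isMaximal A').ne_top (by
            have h2 := congrArg (Ideal.comap (Ideal.Quotient.mk I)) h
            rwa [Ideal.comap_map_of_surjective' _ Ideal.Quotient.mk_surjective, Ideal.mk_ker, sup_eq_left.2 hIm,
              Ideal.comap_top] at h2))
    rw [← hmax, Ideal.map_map]
    have hc : (algebraMap (A' ⧸ I) (MvPolynomial (Fin n) (A' ⧸ I))).comp (Ideal.Quotient.mk I) =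
        π.comp (algebraMap A' (MvPolynomial (Fin n) A')) := RingHom.ext fun a => by simp [π, MvPolynomial.algebraMap_eq]
    rw [hc, ← Ideal.map_map, Ideal.comap_map_of_surjective' _ hπ, sup_eq_left, MvPolynomial.ker_map, Ideal.mk_ker]
    exact Ideal.map_mono hIm
  rw [hK] at hm'
  have hfl := (Groth.Agent.ArtinFlat.ascend (C := A') (List.ofFn f') hm').1 (List.ofFn f').length le_rfl
  rw [List.take_length, Groth.Agent.ArtinFlat.ofList_ofFn] at hfl
  exact hfl

end Groth.Agent.S13135
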