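import Groth.Statements.S13139
import Groth.Agent.FrobResid.Basic
import Groth.Agent.FrobResid.Regular
import Groth.Agent.WittTwo.Lift
import Groth.Agent.S13137

set_option autoImplicit false
universe u
open scoped BigOperators
open FrobAlg

namespace Groth.Agent.S13139

/-- Let k be a perfect field of characteristic p and f_1, …, f_m a regular sequence in R = k[x_1, …,
x_n]. The complete intersection A = R/(f_1, …, f_m) lifts to W₂(k) compatibly with Frobenius if and
only if for some lifts f'_1, …, f'_m ∈ R' = W₂(k)[x_1, …, x_n] of the f_i and some h_1, …, h_n ∈ R'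
one has F'(f'_i) − f'_i^p − p·Σ_j (∂f'_i/∂x_j)^p h_j ∈ p·(f'_1, …, f'_m) for every i, F' being the
standard Frobenius lift of R'. In terms of Frobenius residues P(f') = (F'(f') − f'^p)/p ∈ R, which
change by g^p when f' changes by pg, this is the congruence P_{f_i} + g_i^p ≡ Σ_j (∂f_i/∂x_j)^p h_j
modulo (f_1, …, f_m) for some g_i, h_j. -/
theorem result
    (p : ℕ) [Fact p.Prime] (k : Type u) [Field k] [CharP k p] [PerfectRing k p]
    {n m : ℕ} (f : Fin m → MvPolynomial (Fin n) k)
    (hreg : RingTheory.Sequence.IsRegular (MvPolynomial (Fin n) k) (List.ofFn f)) :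
    FrobAlg.IsFLiftable p k (MvPolynomial (Fin n) k ⧸ Ideal.span (Set.range f)) ↔
    ∃ (f' : Fin m → MvPolynomial (Fin n) (FrobAlg.W2 p k)) (h : Fin n → MvPolynomial (Fin n) (FrobAlg.W2 p k)),
      (∀ i, MvPolynomial.map (FrobAlg.res p k) (f' i) = f i) ∧
      ∀ i, FrobAlg.polyFrob p k (Fin n) (f' i) - f' i ^ p
        - (p : MvPolynomial (Fin n) (FrobAlg.W2 p k)) * ∑ j, MvPolynomial.pderiv j (f' i) ^ p * h j
        ∈ Ideal.span {(p : MvPolynomial (Fin n) (FrobAlg.W2 p k))} * Ideal.span (Set.range f') := by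
  classical
  let R' := MvPolynomial (Fin n) (FrobAlg.W2 p k)
  let r : R' →+* MvPolynomial (Fin n) k := MvPolynomial.map (FrobAlg.res p k)
  have hr : Function.Surjective r :=
    MvPolynomial.map_surjective (FrobAlg.res p k) fun a => ⟨Groth.Agent.WittTwo.tm p a, by simp⟩
  have hkr : RingHom.ker r = Ideal.span {(p : R')} := Groth.Agent.FrobResid.ker_map_res p k
  constructor
  · rintro ⟨B, _, ι, π, Φ, hΦ⟩
    have hL := hΦ.toIsLift
    choose b hb using fun j => hL.surj (Ideal.Quotient.mk _ (MvPolynomial.X j))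
    let θ : R' →+* B := MvPolynomial.eval₂Hom ι b
    have hθπ : π.comp θ = (Ideal.Quotient.mk (Ideal.span (Set.range f))).comp r := by
      refine MvPolynomial.ringHom_ext (fun a => ?_) fun j => ?_
      · have := RingHom.congr_fun hL.comm a
        simp only [RingHom.comp_apply, θ, r, MvPolynomial.eval₂Hom_C, MvPolynomial.map_C] at this ⊢
        exact this.trans rfl
      · simp [θ, r, hb]
    have hθ' : ∀ g, π (θ g) = Ideal.Quotient.mk _ (r g) := fun g => RingHom.congr_fun hθπ g
    have happ : ∀ y : B, ∃ g c, y = θ g + (p : B) * c := by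
      intro y
      obtain ⟨g₀, hg₀⟩ := Ideal.Quotient.mk_surjective (π y)
      obtain ⟨g, rfl⟩ := hr g₀
      obtain ⟨c, hc⟩ := (Groth.Agent.WittTwo.proj_eq_zero_iff p hL (b := y - θ g)).1
        (by rw [map_sub, hθ', hg₀, sub_self])
      exact ⟨g, c, by rw [← hc]; ring⟩
    have hθs : Function.Surjective θ := fun y => by
      obtain ⟨g, c, rfl⟩ := happ y
      obtain ⟨g', c', rfl⟩ := happ c
      refine ⟨g + (p : R') * g', ?_⟩
      rw [map_add, map_mul, map_natCast, mul_add, ← mul_assoc (p : B) p c',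
        Groth.Agent.WittTwo.p_sq_of_hom p ι, zero_mul, add_zero]
    have hlift : ∀ i, ∃ g, r g = f i ∧ θ g = 0 := by
      intro i
      obtain ⟨g, hg⟩ := hr (f i)
      obtain ⟨c, hc⟩ := (Groth.Agent.WittTwo.proj_eq_zero_iff p hL (b := θ g)).1
        (by rw [hθ', hg]; exact Ideal.Quotient.eq_zero_iff_mem.2 (Ideal.subset_span ⟨i, rfl⟩))
      obtain ⟨q, rfl⟩ := hθs c
      refine ⟨g - (p : R') * q, ?_, by rw [map_sub, map_mul, map_natCast, hc, sub_self]⟩
      rw [map_sub, hg, map_mul, map_natCast, CharP.cast_eq_zero, zero_mul, sub_zero]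
    choose f' hf' hθf using hlift
    let J : Ideal R' := Ideal.span (Set.range f')
    have hJK : J ≤ RingHom.ker θ := Ideal.span_le.2 (by rintro _ ⟨i, rfl⟩; exact hθf i)
    have hdec : ∀ g, θ g = 0 → ∃ u ∈ J, ∃ q, g = u + (p : R') * q := by
      intro g hg
      have h1 : r g ∈ J.map r := by
        rw [Ideal.map_span, ← Set.range_comp, show r ∘ f' = f from funext hf', ← Ideal.Quotient.eq_zero_iff_mem,
          ← hθ', hg, map_zero]
      rw [← Ideal.mem_comap, Ideal.comap_map_of_surjective' r hr, hkr] at h1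
      obtain ⟨u, hu, v, hv, huv⟩ := Submodule.mem_sup.1 h1
      obtain ⟨q, rfl⟩ := Ideal.mem_span_singleton'.1 hv
      exact ⟨u, hu, q, by rw [← huv, mul_comm q]⟩
    have hker : RingHom.ker θ = J := by
      refine le_antisymm (fun g hg => ?_) hJK
      obtain ⟨u, hu, q, rfl⟩ := hdec g hg
      have h1 : (p : B) * θ q = 0 := by
        have := RingHom.mem_ker.1 hg
        rwa [map_add, RingHom.mem_ker.1 (hJK hu), zero_add, map_mul, map_natCast] at this
      obtain ⟨c, hc⟩ := Groth.Agent.WittTwo.exists_p_mul_of_p_mul_eq_zero p hL h1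
      obtain ⟨s, rfl⟩ := hθs c
      obtain ⟨v, hv, t, ht⟩ := hdec (q - (p : R') * s) (by rw [map_sub, map_mul, map_natCast, hc, sub_self])
      refine add_mem hu ?_
      have hq : (p : R') * q = (p : R') * v := by
        have hpp : (p : R') * p = 0 := Groth.Agent.FrobResid.p_mul_p p k
        linear_combination (p : R') * ht + (s + t) * hpp
      rw [hq]
      exact J.mul_mem_left _ hv
    let e : R' ⧸ J ≃+* B := (Ideal.quotEquivOfEq hker.symm).trans (RingHom.quotientKerEquivOfSurjective hθs)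
    have he : ∀ g, e (Ideal.Quotient.mk J g) = θ g := fun g => rfl
    have hfl : Module.Flat (FrobAlg.W2 p k) (R' ⧸ J) := by
      rw [Groth.Agent.WittTwo.flat_iff p k]
      intro y hy
      obtain ⟨c, hc⟩ := Groth.Agent.WittTwo.exists_p_mul_of_p_mul_eq_zero p hL (b := e y) (by
        rw [← map_natCast e, ← map_mul, ← map_natCast (algebraMap (FrobAlg.W2 p k) (R' ⧸ J)) p,
          ← Algebra.smul_def, hy, map_zero])
      refine ⟨e.symm c, e.injective ?_⟩
      rw [hc]
      rw [Nat.cast_smul_eq_nsmul, map_nsmul, e.apply_symm_apply, nsmul_eq_mul]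
    refine ⟨f', ?_⟩
    obtain ⟨h, hh⟩ := (Groth.Agent.FrobResid.frobLift_iff p k f'
      (le_of_eq ((Groth.Agent.S13137.result p k R' J).1 hfl))).1
      ⟨(e.symm.toRingHom.comp Φ).comp e.toRingHom, RingHom.ext fun a => e.injective (by
          have h1 := RingHom.congr_fun hΦ.semi a
          simp only [RingHom.comp_apply, RingEquiv.toRingHom_eq_coe, RingEquiv.coe_toRingHom,
            RingEquiv.apply_symm_apply] at h1 ⊢
          rw [he, he]
          simp only [show ∀ x, θ (MvPolynomial.C x) = ι x from fun x => MvPolynomial.eval₂Hom_C _ _ x]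
          exact h1), fun y => by
        obtain ⟨g, rfl⟩ := Ideal.Quotient.mk_surjective y
        obtain ⟨w, hw⟩ := Ideal.Quotient.mk_surjective (e.symm (Φ (θ g)))
        have h1 : θ w = Φ (θ g) := by rw [← he, hw, e.apply_symm_apply]
        have h2 := hΦ.red (θ g)
        rw [← h1, hθ', hθ', ← map_pow, Ideal.Quotient.eq] at h2
        simp only [RingHom.comp_apply, RingEquiv.toRingHom_eq_coe, RingEquiv.coe_toRingHom]
        have h3 : e.symm (Φ (e (Ideal.Quotient.mk _ g))) = Ideal.Quotient.mk _ w := by rw [hw]; rfl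
        rw [h3]
        rw [Ideal.quotientMap_mk, Ideal.quotientMap_mk, ← map_pow, Ideal.Quotient.eq]
        rwa [Ideal.map_span, ← Set.range_comp, show MvPolynomial.map (FrobAlg.res p k) ∘ f' = f from funext hf']⟩
    exact ⟨h, hf', hh⟩
  · rintro ⟨f', h, hf', hh⟩
    let J : Ideal R' := Ideal.span (Set.range f')
    have hinf : Ideal.span {(p : R')} ⊓ J ≤ Ideal.span {(p : R')} * J := by
      rw [← hkr]
      refine Groth.Agent.FrobResid.inf_le_mul_of_regular r hr f' fun i x hx => ?_
      have hfe : (fun j => r (f' j)) = f := funext hf'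
      rw [hfe] at hx ⊢
      rw [show r (f' i) = f i from hf' i] at hx
      exact Groth.Agent.FrobResid.mem_prefix_of_mul_mem f hreg.toIsWeaklyRegular i x hx
    have hJ : J.map r = Ideal.span (Set.range f) := by
      rw [Ideal.map_span, ← Set.range_comp, show r ∘ f' = f from funext hf']
    obtain ⟨Φ, hΦ1, hΦ2⟩ := (Groth.Agent.FrobResid.frobLift_iff p k f' hinf).2 ⟨h, hh⟩
    let π : R' ⧸ J →+* (MvPolynomial (Fin n) k ⧸ Ideal.span (Set.range f)) :=
      Ideal.quotientMap _ r (hJ ▸ Ideal.le_comap_map)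
    have hπ : ∀ g, π (Ideal.Quotient.mk J g) = Ideal.Quotient.mk _ (r g) := fun g => rfl
    have hπs : Function.Surjective π := fun z => by
      obtain ⟨z, rfl⟩ := Ideal.Quotient.mk_surjective z
      obtain ⟨g, rfl⟩ := hr z
      exact ⟨_, hπ g⟩
    refine ⟨R' ⧸ J, inferInstance, (Ideal.Quotient.mk J).comp MvPolynomial.C, π, Φ,
      { flat := ?_, surj := hπs, ker_eq := ?_, comm := ?_, semi := hΦ1, red := ?_ }⟩
    · have := (Groth.Agent.S13137.result p k R' J).2 (le_antisymm hinf Ideal.mul_le_inf)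
      exact (RingHom.flat_algebraMap_iff (R := FrobAlg.W2 p k) (S := R' ⧸ J)).2 this
    · rw [Groth.Agent.WittTwo.map_ker_res]
      refine le_antisymm (fun y hy => ?_) ?_
      · obtain ⟨g, rfl⟩ := Ideal.Quotient.mk_surjective y
        rw [RingHom.mem_ker, hπ, Ideal.Quotient.eq_zero_iff_mem, ← hJ, ← Ideal.mem_comap,
          Ideal.comap_map_of_surjective' r hr, hkr] at hy
        obtain ⟨u, hu, v, hv, rfl⟩ := Submodule.mem_sup.1 hy
        rw [map_add, Ideal.Quotient.eq_zero_iff_mem.2 hu, zero_add,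
          ← map_natCast (Ideal.Quotient.mk J), ← Set.image_singleton, ← Ideal.map_span]
        exact Ideal.mem_map_of_mem _ hv
      · rw [Ideal.span_le, Set.singleton_subset_iff, SetLike.mem_coe, RingHom.mem_ker, map_natCast,
          Groth.Agent.WittTwo.p_eq_zero p (k := k)]
    · refine RingHom.ext fun a => ?_
      show π (Ideal.Quotient.mk J (MvPolynomial.C a)) = algebraMap k _ (FrobAlg.res p k a)
      rw [hπ, ← Ideal.Quotient.mk_algebraMap, MvPolynomial.algebraMap_eq]
      exact congrArg _ (MvPolynomial.map_C _ a)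
    · intro y
      obtain ⟨g, rfl⟩ := Ideal.Quotient.mk_surjective y
      obtain ⟨w, hw⟩ := Ideal.Quotient.mk_surjective (Φ (Ideal.Quotient.mk J g))
      have h2 := hΦ2 (Ideal.Quotient.mk J g)
      rw [← hw, Ideal.quotientMap_mk, Ideal.quotientMap_mk, ← map_pow, Ideal.Quotient.eq] at h2
      rw [← hw, hπ, hπ, ← map_pow, Ideal.Quotient.eq, ← hJ]
      exact h2


end Groth.Agent.S13139
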