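import Mathlib
import Groth.Statements.S13140
-- import your own Groth.Agent.* helpers here

set_option autoImplicit false
universe u v w
open GrpAlg

namespace Groth.Agent.S13140

/-- Let G be a finite group, R a commutative ring in which |G| is a unit, and M a module over the group
algebra R[G] whose underlying R-module is projective. Then M is a projective R[G]-module. -/
theorem result
    (R : Type u) [CommRing R] (G : Type v) [Group G] [Finite G] (hG : IsUnit ((Nat.card G : ℕ) : R))
    (M : Type w) [AddCommGroup M] [Module R M] [Module (MonoidAlgebra R G) M]
    [IsScalarTower R (MonoidAlgebra R G) M] [Module.Projective R M] :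
    Module.Projective (MonoidAlgebra R G) M := by
  classical
  have := Fintype.ofFinite G
  obtain ⟨c, hc⟩ := hG.exists_left_inv
  let F := M →₀ MonoidAlgebra R G
  let π : F →ₗ[MonoidAlgebra R G] M := Finsupp.linearCombination _ id
  have hπ : Function.Surjective π := fun m => ⟨Finsupp.single m 1, (Finsupp.linearCombination_single _ _ _).trans (one_smul _ m)⟩
  obtain ⟨s, hs⟩ := Module.projective_lifting_property (π.restrictScalars R) LinearMap.id hπ
  let S : M →ₗ[MonoidAlgebra R G] F := c • s.sumOfConjugatesEquivariant G
  refine Module.Projective.of_split S π (LinearMap.ext fun m => ?_)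
  rw [LinearMap.comp_apply, LinearMap.id_apply, LinearMap.smul_apply, ← algebraMap_smul (MonoidAlgebra R G) c, map_smul,
    algebraMap_smul, LinearMap.sumOfConjugatesEquivariant_apply, map_sum]
  have hsm : ∀ y, π (s y) = y := fun y => LinearMap.congr_fun hs y
  simp only [LinearMap.conjugate_apply, map_smul, hsm, smul_smul, MonoidAlgebra.single_mul_single,
    inv_mul_cancel, one_mul, ← MonoidAlgebra.one_def, one_smul, Finset.sum_const, Finset.card_univ]
  rw [← Nat.cast_smul_eq_nsmul R, smul_smul, ← Nat.card_eq_fintype_card, hc, one_smul]

end Groth.Agent.S13140
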