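import Groth.Statements.S13141
import Mathlib
-- import your own Groth.Agent.* helpers here

set_option autoImplicit false
universe u v w w'
open scoped TensorProduct
open GrpAlg

namespace Groth.Agent.S13141

/-- Let G be a finite group, R a commutative ring with |G| invertible in R, M a projective R-module with
an R-linear G-action and S an R-algebra. The natural map M^G ⊗_R S → M ⊗_R S is injective and its
image is the submodule of G-invariants of M ⊗_R S (G acting on the first factor); that is, M^G ⊗_R S
→ (M ⊗_R S)^G is bijective. -/
theorem result
    (R : Type u) [CommRing R] (G : Type v) [Group G] [Finite G] (hG : IsUnit ((Nat.card G : ℕ) : R))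
    (M : Type w) [AddCommGroup M] [Module R M] [Module.Projective R M] (ρ : Representation R G M)
    (S : Type w') [CommRing S] [Algebra R S] :
    Function.Injective (TensorProduct.map ρ.invariants.subtype (LinearMap.id : S →ₗ[R] S)) ∧
    LinearMap.range (TensorProduct.map ρ.invariants.subtype (LinearMap.id : S →ₗ[R] S)) =
      ⨅ g : G, LinearMap.eqLocus (LinearMap.rTensor S (ρ g)) LinearMap.id := by
  classical
  have := Fintype.ofFinite G
  rw [Nat.card_eq_fintype_card] at hG
  let := hG.invertible
  let r : M →ₗ[R] ρ.invariants := LinearMap.codRestrict ρ.invariants ρ.averageMap ρ.averageMap_invariant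
  have hr : r.comp ρ.invariants.subtype = LinearMap.id := by
    refine LinearMap.ext fun x => Subtype.ext ?_
    exact ρ.averageMap_id x.1 x.2
  change Function.Injective (LinearMap.rTensor S ρ.invariants.subtype) ∧
    LinearMap.range (LinearMap.rTensor S ρ.invariants.subtype) = _
  constructor
  · intro x y hxy
    have := congrArg (LinearMap.rTensor S r) hxy
    simpa only [← LinearMap.comp_apply, ← LinearMap.rTensor_comp, hr, LinearMap.rTensor_id,
      LinearMap.id_coe, id_eq] using this
  apply le_antisymm
  · rintro _ ⟨z, rfl⟩
    refine Submodule.mem_iInf _ |>.mpr fun g => ?_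
    rw [LinearMap.mem_eqLocus, LinearMap.id_coe, id_eq, ← LinearMap.comp_apply, ← LinearMap.rTensor_comp]
    congr 2
    ext x
    exact x.2 g
  · intro z hz
    refine ⟨LinearMap.rTensor S r z, ?_⟩
    have hav : ρ.invariants.subtype.comp r = ⅟(Fintype.card G : R) • ∑ g : G, ρ g := by
      ext x
      simp [r, Representation.averageMap, GroupAlgebra.average]
    rw [← LinearMap.comp_apply, ← LinearMap.rTensor_comp, hav]
    have h1 : ∀ g : G, LinearMap.rTensor S (ρ g) z = z := fun g => by
      have := Submodule.mem_iInf _ |>.mp hz g
      simpa using this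
    rw [LinearMap.rTensor_smul, LinearMap.smul_apply, ← LinearMap.coe_rTensorHom, map_sum,
      LinearMap.sum_apply]
    simp only [LinearMap.coe_rTensorHom, h1, Finset.sum_const, Finset.card_univ]
    rw [← Nat.cast_smul_eq_nsmul R, smul_smul, invOf_mul_self, one_smul]

end Groth.Agent.S13141
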