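import Mathlib
import Groth.Statements.S13142
-- import your own Groth.Agent.* helpers here

set_option autoImplicit false
universe u v
open GrpAlg

namespace Groth.Agent.S13142

/-- Let G be a finite group and R a commutative ring with |G| invertible in R, acting on R[x_1, …, x_n]
by R-algebra automorphisms. The invariant subring R[x_1, …, x_n]^G is a flat R-module (so the
quotient of affine n-space over R by G is flat over R). -/
theorem result
    (R : Type u) [CommRing R] (G : Type v) [Group G] [Finite G] (hG : IsUnit ((Nat.card G : ℕ) : R))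
    (n : ℕ) (ρ : G →* (MvPolynomial (Fin n) R ≃ₐ[R] MvPolynomial (Fin n) R)) :
    Module.Flat R ↥(⨅ g : G, LinearMap.eqLocus (ρ g).toLinearMap (LinearMap.id : MvPolynomial (Fin n) R →ₗ[R] MvPolynomial (Fin n) R)) := by
  classical
  have := Fintype.ofFinite G
  obtain ⟨c, hc⟩ := hG.exists_left_inv
  let P := MvPolynomial (Fin n) R
  let E : P →ₗ[R] P := c • ∑ g : G, (ρ g).toLinearMap
  have hE : ∀ x, E x ∈ ⨅ g : G, LinearMap.eqLocus (ρ g).toLinearMap (LinearMap.id : P →ₗ[R] P) := by
    intro x
    simp only [Submodule.mem_iInf, LinearMap.mem_eqLocus, LinearMap.id_apply]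
    intro h
    simp only [E, LinearMap.smul_apply, LinearMap.sum_apply, map_smul, map_sum]
    congr 1
    exact Fintype.sum_equiv (Equiv.mulLeft h) _ _ fun g => by simp [map_mul]
  refine Module.Flat.of_retract (Submodule.subtype _) (E.codRestrict _ hE) ?_
  refine LinearMap.ext fun x => Subtype.ext ?_
  have hx : ∀ g, (ρ g).toLinearMap (x : P) = x := fun g => (Submodule.mem_iInf _).1 x.2 g
  show E x = x
  simp only [E, LinearMap.smul_apply, LinearMap.sum_apply]
  rw [Finset.sum_congr rfl fun g _ => hx g, Finset.sum_const, Finset.card_univ,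
    ← Nat.cast_smul_eq_nsmul R, smul_smul, ← Nat.card_eq_fintype_card, hc, one_smul]

end Groth.Agent.S13142
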