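import Groth.Statements.S13143
import Groth.Agent.WittTwo.Lift

set_option linter.unusedSectionVars false

set_option autoImplicit false
universe u
open FrobAlg

namespace Groth.Agent.S13143

/-- Let k be a perfect field of characteristic p and A → B a homomorphism of Noetherian k-algebras with
an A-linear retraction B → A. If B lifts flatly to W₂(k), so does A. (The published statement
phrases the descent for finite surjective morphisms of degree prime to p, via a trace splitting; the
argument uses exactly an A-linear splitting of A → B for an affine morphism, which is the hypothesis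
taken here.) -/
theorem result
    (p : ℕ) [Fact p.Prime] (k : Type u) [Field k] [CharP k p] [PerfectRing k p]
    (A B : Type u) [CommRing A] [CommRing B] [Algebra k A] [Algebra k B]
    [IsNoetherianRing A] [IsNoetherianRing B] [Algebra A B] [IsScalarTower k A B]
    (r : B →ₗ[A] A) (hr : ∀ a : A, r (algebraMap A B a) = a)
    (hB : FrobAlg.IsW2Liftable p k B) : FrobAlg.IsW2Liftable p k A := by
  obtain ⟨B', _, ιB, πB, hl⟩ := hB
  let i : A →+* B := algebraMap A B
  have hi : Function.Injective i := fun a b h => by rw [← hr a, ← hr b, h]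
  let e : A ≃+* i.range := RingEquiv.ofBijective i.rangeRestrict
    ⟨fun a b h => hi (congrArg Subtype.val h), i.rangeRestrict_surjective⟩
  let E : Subring B' := i.range.comap πB
  let πE : E →+* A := e.symm.toRingHom.comp
    ((πB.comp E.subtype).codRestrict i.range fun x => x.2)
  have hπE : ∀ x : E, i (πE x) = πB x := fun x => congrArg Subtype.val (e.apply_symm_apply _)
  have hsurjE : Function.Surjective πE := fun a => by
    obtain ⟨b, hb⟩ := hl.surj (i a)
    refine ⟨⟨b, a, hb.symm⟩, hi ?_⟩
    rw [hπE]; exact hb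
  let J : Ideal E :=
    { carrier := {x | ∃ b : B', (x : B') = p * b ∧ r (πB b) = 0}
      zero_mem' := ⟨0, by simp, by simp⟩
      add_mem' := fun {x y} ⟨b, hb, hb'⟩ ⟨c, hc, hc'⟩ =>
        ⟨b + c, by simp [hb, hc, mul_add], by simp [hb', hc']⟩
      smul_mem' := fun x y ⟨b, hb, hb'⟩ => ⟨x * b, by
        simp only [smul_eq_mul, Subring.coe_mul, hb]; ring, by
        rw [map_mul, ← hπE, ← Algebra.smul_def, map_smul, hb', smul_zero]⟩ }
  have hJ : ∀ x ∈ J, πE x = 0 := fun x ⟨b, hb, _⟩ => hi (by
    rw [hπE, hb, map_mul, map_natCast, WittTwo.p_eq_zero p (k := k) B, zero_mul, map_zero])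
  let π : E ⧸ J →+* A := Ideal.Quotient.lift J πE hJ
  have hιE : ∀ x, ιB x ∈ E := fun x =>
    ⟨algebraMap k A (FrobAlg.res p k x), by
      rw [show πB (ιB x) = _ from RingHom.congr_fun hl.comm x, RingHom.comp_apply,
        IsScalarTower.algebraMap_apply k A B]⟩
  let ιE : FrobAlg.W2 p k →+* E := ιB.codRestrict E hιE
  refine ⟨E ⧸ J, inferInstance, (Ideal.Quotient.mk J).comp ιE, π, ⟨?_, ?_, ?_, ?_⟩⟩
  · rw [WittTwo.flat_hom_iff]
    intro m hm
    obtain ⟨x, rfl⟩ := Ideal.Quotient.mk_surjective m
    rw [← map_natCast (Ideal.Quotient.mk J), ← map_mul, Ideal.Quotient.eq_zero_iff_mem] at hm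
    obtain ⟨b, hb, hrb⟩ := hm
    have hb' : (p : B') * (x : B') = p * b := by simpa using hb
    have hx0 : πE x = 0 := by
      have := WittTwo.proj_eq_of_p_mul_eq p hl hb'
      rw [← hπE] at this
      rwa [← this, hr] at hrb
    obtain ⟨c, hc⟩ := (WittTwo.proj_eq_zero_iff p hl (b := (x : B'))).1 (by rw [← hπE, hx0, map_zero])
    obtain ⟨y, hy⟩ := hsurjE (r (πB c))
    refine ⟨Ideal.Quotient.mk J y, ?_⟩
    rw [← map_natCast (Ideal.Quotient.mk J), ← map_mul, Ideal.Quotient.eq]
    exact ⟨c - y, by simp [hc, mul_sub], by rw [map_sub, ← hπE, map_sub, hr, hy, sub_self]⟩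
  · exact fun a => (hsurjE a).imp' (Ideal.Quotient.mk J) fun x hx => hx
  · rw [WittTwo.map_ker_res]
    refine le_antisymm (fun m hm => ?_) ?_
    · obtain ⟨x, rfl⟩ := Ideal.Quotient.mk_surjective m
      replace hm : πE x = 0 := hm
      obtain ⟨c, hc⟩ := (WittTwo.proj_eq_zero_iff p hl (b := (x : B'))).1 (by rw [← hπE, hm, map_zero])
      obtain ⟨y, hy⟩ := hsurjE (r (πB c))
      refine Ideal.mem_span_singleton.2 ⟨Ideal.Quotient.mk J y, ?_⟩
      rw [← map_natCast (Ideal.Quotient.mk J), ← map_mul, Ideal.Quotient.eq]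
      exact ⟨c - y, by simp [hc, mul_sub], by rw [map_sub, ← hπE, map_sub, hr, hy, sub_self]⟩
    · rw [Ideal.span_le, Set.singleton_subset_iff, SetLike.mem_coe, RingHom.mem_ker, map_natCast,
        WittTwo.p_eq_zero p (k := k) A]
  · refine RingHom.ext fun x => hi ?_
    change i (πE (ιE x)) = _
    rw [hπE]
    change πB (ιB x) = _
    rw [show πB (ιB x) = _ from RingHom.congr_fun hl.comm x, RingHom.comp_apply, RingHom.comp_apply,
      IsScalarTower.algebraMap_apply k A B]

end Groth.Agent.S13143
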