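import Groth.Statements.S13144
import Groth.Agent.WittTwo.Lift

set_option linter.unusedSectionVars false

set_option autoImplicit false
universe u
open FrobAlg

namespace Groth.Agent.S13144

/-- Let k be a perfect field of characteristic p, A → B a homomorphism of Noetherian k-algebras with an
A-linear retraction B → A, and A' → B' a homomorphism over W₂(k) between flat liftings of A and B
which reduces to A → B. If the Frobenius of B lifts to B' (a σ₂-semilinear ring endomorphism
reducing to the p-th power map), then the Frobenius of A lifts to A'. (The published statement is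
for an affine morphism whose map on structure sheaves splits linearly; the affine case with an
A-linear splitting is taken here.) -/
theorem result
    (p : ℕ) [Fact p.Prime] (k : Type u) [Field k] [CharP k p] [PerfectRing k p]
    (A B : Type u) [CommRing A] [CommRing B] [Algebra k A] [Algebra k B]
    [IsNoetherianRing A] [IsNoetherianRing B] [Algebra A B] [IsScalarTower k A B]
    (r : B →ₗ[A] A) (hr : ∀ a : A, r (algebraMap A B a) = a)
    (A' B' : Type u) [CommRing A'] [CommRing B']
    (ιA : FrobAlg.W2 p k →+* A') (πA : A' →+* A) (hA : FrobAlg.IsLift p k A A' ιA πA)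
    (ιB : FrobAlg.W2 p k →+* B') (πB : B' →+* B) (hB : FrobAlg.IsLift p k B B' ιB πB)
    (φ' : A' →+* B') (hφι : φ'.comp ιA = ιB) (hφπ : πB.comp φ' = (algebraMap A B).comp πA)
    (ΦB : B' →+* B') (hΦB : FrobAlg.IsFrobLift p k B B' ιB πB ΦB) :
    ∃ ΦA : A' →+* A', FrobAlg.IsFrobLift p k A A' ιA πA ΦA := by
  obtain ⟨θ, hθres, hθι⟩ := WittTwo.exists_hom_of_isFrobLift p hΦB
  have hθ0 : ∀ b, (θ b).coeff 0 = πB b := fun b => by
    have := RingHom.congr_fun hθres b
    simpa using this
  have h0 : ∀ a, (θ (φ' a)).coeff 0 = algebraMap A B (πA a) := fun a => by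
    rw [hθ0]; exact RingHom.congr_fun hφπ a
  have hrA : ∀ (a : A) (b : B), r (algebraMap A B a * b) = a * r b := fun a b => by
    rw [← Algebra.smul_def, map_smul, smul_eq_mul]
  let f : A' → TruncatedWittVector p 2 A := fun a => WittTwo.mk2 p (πA a) (r ((θ (φ' a)).coeff 1))
  let θA : A' →+* TruncatedWittVector p 2 A :=
    { toFun := f
      map_one' := WittTwo.ext2 p (by simp [f, WittTwo.coeff0_one]) (by simp [f, WittTwo.coeff1_one])
      map_zero' := WittTwo.ext2 p (by simp [f]) (by simp [f])
      map_add' := fun x y => WittTwo.ext2 p (by simp [f, WittTwo.coeff0_add]) (by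
        simp only [f, WittTwo.mk2_coeff_one, WittTwo.mk2_coeff_zero, WittTwo.coeff1_add, map_add, h0,
          WittTwo.wc_map, hr])
      map_mul' := fun x y => WittTwo.ext2 p (by simp [f, WittTwo.coeff0_mul]) (by
        simp only [f, WittTwo.mk2_coeff_one, WittTwo.mk2_coeff_zero, WittTwo.coeff1_mul, map_mul, h0,
          WittTwo.p_eq_zero p (k := k) A, WittTwo.p_eq_zero p (k := k) B, zero_mul, add_zero, ← map_pow,
          map_add]
        rw [mul_comm ((θ (φ' x)).coeff 1), hrA, hrA]
        ring) }
  refine ⟨_, WittTwo.isFrobLift_comp p hA θA (RingHom.ext fun a => ?_) (RingHom.ext fun x => ?_)⟩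
  · simp [θA, f]
  · refine WittTwo.ext2 p ?_ ?_
    · rw [WittGrp.coeff_truncMap]
      change πA (ιA x) = _
      simpa using RingHom.congr_fun hA.comm x
    · rw [WittGrp.coeff_truncMap]
      change r ((θ (φ' (ιA x))).coeff 1) = _
      rw [show φ' (ιA x) = ιB x from RingHom.congr_fun hφι x,
        show θ (ιB x) = _ from RingHom.congr_fun hθι x, WittGrp.coeff_truncMap,
        IsScalarTower.algebraMap_apply k A B, hr]

end Groth.Agent.S13144
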