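import Groth.Statements.S13146
import Mathlib.RingTheory.WittVector.Identities
import Mathlib.RingTheory.Flat.EquationalCriterion
import Mathlib.Algebra.MvPolynomial.Expand
import Mathlib.Algebra.MvPolynomial.Eval
import Mathlib.FieldTheory.Perfect
import Mathlib.Algebra.Polynomial.Coeff

set_option autoImplicit false
universe u
open scoped BigOperators
open FrobAlg

namespace Groth.Agent.S13146

noncomputable section

open MvPolynomial

section Witt

variable {p : ℕ} [hp : Fact p.Prime] {k : Type u} [Field k] [CharP k p]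

theorem ker_res_le [PerfectRing k p] : RingHom.ker (FrobAlg.res p k) ≤ Ideal.span {(p : FrobAlg.W2 p k)} := by
  intro x hx
  obtain ⟨X, rfl⟩ := WittVector.truncate_surjective p 2 k x
  rw [RingHom.mem_ker, FrobAlg.res_truncate] at hx
  let Z : WittVector p k := WittVector.mk p fun i => (frobeniusEquiv k p).symm (X.coeff (i + 1))
  have h : X = Z * (p : WittVector p k) := by
    refine WittVector.ext fun i => ?_
    cases i with
    | zero => rw [WittVector.mul_charP_coeff_zero, hx]
    | succ i => rw [WittVector.mul_charP_coeff_succ, WittVector.coeff_mk, frobeniusEquiv_symm_pow_p]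
  rw [Ideal.mem_span_singleton', h]
  exact ⟨WittVector.truncate 2 Z, by rw [map_mul, map_natCast]⟩

theorem natCast_mul_natCast_eq_zero : (p : FrobAlg.W2 p k) * p = 0 := by
  have h : WittVector.truncate (p := p) 2 ((p : WittVector p k) ^ 2) = 0 :=
    RingHom.mem_ker.1 ((WittVector.mem_ker_truncate 2 _).2 fun i hi =>
      WittVector.coeff_p_pow_eq_zero p k hi.ne)
  simpa [pow_two] using h

theorem res_eq_zero_of_mul (x : FrobAlg.W2 p k) (h : (p : FrobAlg.W2 p k) * x = 0) :
    FrobAlg.res p k x = 0 := by
  obtain ⟨X, rfl⟩ := WittVector.truncate_surjective p 2 k x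
  rw [← map_natCast (WittVector.truncate (p := p) (R := k) 2), ← map_mul] at h
  have h1 := (WittVector.mem_ker_truncate 2 _).1 (RingHom.mem_ker.2 h) 1 one_lt_two
  rw [mul_comm, WittVector.mul_charP_coeff_succ] at h1
  rw [FrobAlg.res_truncate]
  exact eq_zero_of_pow_eq_zero h1

/-- In a flat algebra over `W₂(k)` the annihilator of `p` is generated by `p`. -/
theorem exists_eq_mul_of_flat [PerfectRing k p] {B : Type*} [CommRing B] {ι : FrobAlg.W2 p k →+* B}
    (hι : ι.Flat) {x : B} (hx : (p : B) * x = 0) : ∃ y, x = p * y := by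
  let := ι.toAlgebra
  have : Module.Flat (FrobAlg.W2 p k) B := hι
  obtain ⟨m, a, y, hy, ha⟩ := Module.Flat.isTrivialRelation_of_sum_smul_eq_zero
    (R := FrobAlg.W2 p k) (f := fun _ : Fin 1 => (p : FrobAlg.W2 p k)) (x := fun _ => x)
    (by simp [Algebra.smul_def, hx])
  have hy0 : x = ∑ j, a 0 j • y j := hy 0
  have h2 : ∀ j, ∃ w, a 0 j = (p : FrobAlg.W2 p k) * w := fun j => by
    have := ker_res_le (RingHom.mem_ker.2 (res_eq_zero_of_mul (p := p) (k := k) (a 0 j)
      (by simpa using ha j)))
    obtain ⟨w, hw⟩ := Ideal.mem_span_singleton'.1 this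
    exact ⟨w, by rw [← hw, mul_comm]⟩
  choose w hw using h2
  refine ⟨∑ j, ι (w j) * y j, ?_⟩
  rw [hy0, Finset.mul_sum]
  refine Finset.sum_congr rfl fun j _ => ?_
  rw [Algebra.smul_def, hw, map_mul, map_natCast, mul_assoc]
  rfl

end Witt

section Alg

variable (p : ℕ) [hp : Fact p.Prime] {k : Type u} [Field k] [CharP k p] {n : ℕ}

/-- The three-valued evaluation point. -/
def ev (R : Type*) [CommRing R] (a b c : Fin n) : Fin n → Polynomial (Polynomial R) :=
  Pi.single a (Polynomial.C Polynomial.X) + Pi.single b Polynomial.X +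
    Pi.single c (-(Polynomial.X + Polynomial.C Polynomial.X))

theorem ev_sum (R : Type*) [CommRing R] (a b c : Fin n) : ∑ i, ev R a b c i = 0 := by
  simp [ev, Finset.sum_add_distrib]
  ring

theorem ev_pow (R : Type*) [CommRing R] {a b c : Fin n} (hab : a ≠ b) (hac : a ≠ c) (hbc : b ≠ c)
    {m : ℕ} (hm : m ≠ 0) (i : Fin n) :
    ev R a b c i ^ m =
      (Pi.single a ((Polynomial.C Polynomial.X : Polynomial (Polynomial R)) ^ m) +
      Pi.single b ((Polynomial.X : Polynomial (Polynomial R)) ^ m) +
      Pi.single c ((-(Polynomial.X + Polynomial.C Polynomial.X) : Polynomial (Polynomial R)) ^ m) :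
        Fin n → Polynomial (Polynomial R)) i := by
  simp only [ev, Pi.add_apply, Pi.single_apply]
  by_cases h1 : i = a
  · subst h1; simp [hab, hac]
  · by_cases h2 : i = b
    · subst h2; simp [h1, hbc]
    · by_cases h3 : i = c
      · subst h3; simp [h1, h2]
      · simp [h1, h2, h3, hm]

variable (k) in
/-- `{f | X^p divides the coefficients of Y^0 and Y^1}`. -/
def idealI : Ideal (Polynomial (Polynomial k)) where
  carrier := {f | Polynomial.X ^ p ∣ f.coeff 0 ∧ Polynomial.X ^ p ∣ f.coeff 1}
  add_mem' h h' := by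
    constructor <;> rw [Polynomial.coeff_add]
    exacts [dvd_add h.1 h'.1, dvd_add h.2 h'.2]
  zero_mem' := by simp
  smul_mem' g f h := by
    constructor
    · rw [smul_eq_mul, Polynomial.mul_coeff_zero]
      exact h.1.mul_left _
    · rw [smul_eq_mul, Polynomial.mul_coeff_one]
      exact dvd_add (h.2.mul_left _) (h.1.mul_left _)

theorem ev_pow_mem {a b c : Fin n} (hab : a ≠ b) (hac : a ≠ c) (hbc : b ≠ c) (i : Fin n) :
    ev k a b c i ^ p ∈ idealI p k := by
  have hC : Polynomial.C (Polynomial.X : Polynomial k) ^ p ∈ idealI p k :=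
    ⟨by rw [← map_pow, Polynomial.coeff_C_zero],
      by rw [← map_pow, Polynomial.coeff_C]; simp⟩
  have hY : (Polynomial.X : Polynomial (Polynomial k)) ^ p ∈ idealI p k :=
    ⟨by simp [Polynomial.coeff_X_pow, hp.out.ne_zero.symm],
      by simp [Polynomial.coeff_X_pow, hp.out.ne_one.symm]⟩
  have hN : (-(Polynomial.X + Polynomial.C Polynomial.X) : Polynomial (Polynomial k)) ^ p ∈ idealI p k := by
    have e : (-(Polynomial.X + Polynomial.C Polynomial.X) : Polynomial (Polynomial k)) ^ p =
        (-1) ^ p * (Polynomial.X ^ p + Polynomial.C Polynomial.X ^ p) :=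
      (neg_pow (Polynomial.X + Polynomial.C Polynomial.X : Polynomial (Polynomial k)) p).trans
        (congrArg _ (add_pow_char Polynomial.X (Polynomial.C Polynomial.X) p))
    rw [e]
    exact Ideal.mul_mem_left _ _ (add_mem hY hC)
  rw [ev_pow k hab hac hbc hp.out.ne_zero]
  simp only [Pi.add_apply, Pi.single_apply]
  refine add_mem (add_mem ?_ ?_) ?_ <;> split <;>
    first
      | exact Ideal.zero_mem _
      | exact hC
      | exact hY
      | exact hN

variable (k n) in
/-- Projection to the part where the exponents of `x_i` and `y_i` agree. -/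
def proj : MvPolynomial (Fin n × Fin 2) k →ₗ[k] MvPolynomial (Fin n) k :=
  (MvPolynomial.basisMonomials (Fin n × Fin 2) k).constr k fun d =>
    if ∀ i, d (i, 0) = d (i, 1) then monomial (Finsupp.equivFunOnFinite.symm fun i => d (i, 0)) 1
    else 0

theorem proj_monomial (d : Fin n × Fin 2 →₀ ℕ) (c : k) :
    proj k n (monomial d c) = if ∀ i, d (i, 0) = d (i, 1) then
      monomial (Finsupp.equivFunOnFinite.symm fun i => d (i, 0)) c else 0 := by
  rw [show monomial d c = c • MvPolynomial.basisMonomials (Fin n × Fin 2) k d by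
    rw [MvPolynomial.coe_basisMonomials, MvPolynomial.smul_monomial, smul_eq_mul, mul_one],
    map_smul, proj, Module.Basis.constr_basis]
  split
  · rw [MvPolynomial.smul_monomial, smul_eq_mul, mul_one]
  · rw [smul_zero]

theorem proj_mul_pair (h : MvPolynomial (Fin n × Fin 2) k) (i : Fin n) :
    proj k n (h * (X (i, 0) * X (i, 1))) = proj k n h * X i := by
  induction h using MvPolynomial.induction_on' with
  | monomial d c =>
    rw [X, X, X, monomial_mul, monomial_mul, proj_monomial, proj_monomial, one_mul, mul_one]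
    have hiff : (∀ j, (d + (Finsupp.single (i, (0 : Fin 2)) 1 + Finsupp.single (i, (1 : Fin 2)) 1) :
          Fin n × Fin 2 →₀ ℕ) (j, 0) =
        (d + (Finsupp.single (i, (0 : Fin 2)) 1 + Finsupp.single (i, (1 : Fin 2)) 1) :
          Fin n × Fin 2 →₀ ℕ) (j, 1)) ↔
        ∀ j, d (j, 0) = d (j, 1) := by
      refine forall_congr' fun j => ?_
      simp [Finsupp.single_apply]
    simp only [hiff]
    split
    · rw [monomial_mul, mul_one]
      congr 2
      ext j
      simp [Finsupp.single_apply, eq_comm]
    · rw [zero_mul]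
  | add f g hf hg => rw [add_mul, map_add, map_add, hf, hg, add_mul]

variable (k) in
/-- The test functional. -/
def test (a b c : Fin n) (f : MvPolynomial (Fin n × Fin 2) k) : Polynomial (Polynomial k) :=
  MvPolynomial.aeval (ev k a b c) (proj k n f)

/-- The image of the Witt polynomial is not in the ideal. -/
theorem aeval_notMem (hn : 3 ≤ n) (g : MvPolynomial (Fin n) ℤ)
    (hg : (∑ i, X i) ^ p = ∑ i, X i ^ p + (p : MvPolynomial (Fin n) ℤ) * g) :
    MvPolynomial.aeval (fun i => (X (i, 0) * X (i, 1) : MvPolynomial (Fin n × Fin 2) k)) g ∉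
      Ideal.span (insert (∑ i : Fin n, MvPolynomial.X (i, (0 : Fin 2)) * MvPolynomial.X (i, (1 : Fin 2)))
          (Set.range fun v : Fin n × Fin 2 => (MvPolynomial.X v : MvPolynomial (Fin n × Fin 2) k) ^ p)) := by
  intro hmem
  let a : Fin n := ⟨0, by omega⟩
  let b : Fin n := ⟨1, by omega⟩
  let c : Fin n := ⟨2, by omega⟩
  have hab : a ≠ b := by simp [a, b, Fin.ext_iff]
  have hac : a ≠ c := by simp [a, c, Fin.ext_iff]
  have hbc : b ≠ c := by simp [b, c, Fin.ext_iff]
  let T := test k a b c
  have hTadd : ∀ f f', T (f + f') = T f + T f' := fun f f' => by simp [T, test]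
  let K : Ideal (MvPolynomial (Fin n × Fin 2) k) :=
    { carrier := {f | ∀ h, T (h * f) ∈ idealI p k}
      add_mem' := fun {x y} hx hy h => by
        rw [mul_add, hTadd]
        exact add_mem (hx h) (hy h)
      zero_mem' := fun h => by simp [T, test]
      smul_mem' := fun x f hf h => by
        rw [smul_eq_mul, ← mul_assoc]
        exact hf _ }
  have hpair : ∀ h i, T (h * (X (i, 0) * X (i, 1))) = T h * ev k a b c i := fun h i => by
    simp [T, test, proj_mul_pair]
  have hle : Ideal.span (insert (∑ i : Fin n, MvPolynomial.X (i, (0 : Fin 2)) * MvPolynomial.X (i, (1 : Fin 2)))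
      (Set.range fun v : Fin n × Fin 2 => (MvPolynomial.X v : MvPolynomial (Fin n × Fin 2) k) ^ p)) ≤ K := by
    rw [Ideal.span_le, Set.insert_subset_iff]
    refine ⟨fun h => ?_, ?_⟩
    · have : T (h * ∑ i : Fin n, X (i, (0 : Fin 2)) * X (i, (1 : Fin 2))) =
          T h * ∑ i, ev k a b c i := by
        rw [Finset.mul_sum, Finset.mul_sum]
        simp only [← hpair]
        simp [T, test, map_sum]
      rw [this, ev_sum, mul_zero]
      exact Ideal.zero_mem _
    · rintro _ ⟨v, rfl⟩ h
      induction h using MvPolynomial.induction_on' with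
      | add f g hf hg => rw [add_mul, hTadd]; exact add_mem hf hg
      | monomial d r =>
        show T (monomial d r * X v ^ p) ∈ _
        rw [X_pow_eq_monomial, monomial_mul, mul_one]
        show MvPolynomial.aeval (ev k a b c) (proj k n _) ∈ _
        rw [proj_monomial]
        split
        · rename_i hbal
          have hge : Finsupp.single v.1 p ≤
              Finsupp.equivFunOnFinite.symm fun i => (d + Finsupp.single v p) (i, 0) := by
            rw [Finsupp.single_le_iff]
            show p ≤ (d + Finsupp.single v p) (v.1, 0)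
            obtain ⟨i, e⟩ := v
            match e with
            | 0 => simp
            | 1 => rw [hbal i]; simp
          rw [← add_tsub_cancel_of_le hge, ← one_mul r, ← monomial_mul, map_mul, ← X_pow_eq_monomial,
            map_pow, aeval_X]
          exact Ideal.mul_mem_right _ _ (ev_pow_mem p hab hac hbc _)
        · simp
  have h1 : T (MvPolynomial.aeval (fun i => (X (i, 0) * X (i, 1) : MvPolynomial (Fin n × Fin 2) k)) g) =
      MvPolynomial.aeval (ev k a b c) g := by
    suffices ∀ (g : MvPolynomial (Fin n) ℤ) h, T (h * MvPolynomial.aeval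
        (fun i => (X (i, 0) * X (i, 1) : MvPolynomial (Fin n × Fin 2) k)) g) =
        T h * MvPolynomial.aeval (ev k a b c) g by
      have h2 := this g 1
      rw [one_mul] at h2
      rw [h2, show T 1 = 1 by
        show MvPolynomial.aeval (ev k a b c) (proj k n 1) = 1
        rw [← C_1, C_apply, proj_monomial]
        simp [← C_apply]
        rw [show (Finsupp.equivFunOnFinite.symm fun _ : Fin n => 0) = 0 by ext; simp, monomial_zero']
        simp, one_mul]
    intro g h
    induction g using MvPolynomial.induction_on generalizing h with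
    | C z =>
      simp only [MvPolynomial.algebraMap_eq, algebraMap_int_eq, eq_intCast, aeval_C, map_intCast]
      show T _ = _
      rw [show h * (z : MvPolynomial (Fin n × Fin 2) k) = z • h from by
        rw [zsmul_eq_mul]; exact mul_comm _ _]
      show MvPolynomial.aeval (ev k a b c) (proj k n (z • h)) = _
      rw [map_zsmul, map_zsmul, zsmul_eq_mul]
      exact mul_comm _ _
    | add f f' hf hf' => rw [map_add, map_add, mul_add, hTadd, hf, hf', mul_add]
    | mul_X f i hf =>
      rw [map_mul, map_mul, aeval_X, aeval_X, ← mul_assoc, hpair, hf, mul_assoc]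
  have h2 : MvPolynomial.aeval (ev k a b c) g ∈ idealI p k := by
    rw [← h1]
    simpa using hle hmem 1
  -- the integral computation
  let H : Polynomial (Polynomial ℤ) := MvPolynomial.aeval (ev ℤ a b c) g
  have hH := congrArg (fun f => (MvPolynomial.aeval (ev ℤ a b c) f).coeff 1) hg
  simp only [map_pow, map_sum, map_add, map_mul, map_natCast, aeval_X, ev_sum,
    zero_pow hp.out.ne_zero, ev_pow ℤ hab hac hbc hp.out.ne_zero, Pi.add_apply,
    Finset.sum_add_distrib, Finset.sum_pi_single', Finset.mem_univ, if_true,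
    Polynomial.coeff_zero, Polynomial.coeff_add, Polynomial.coeff_natCast_mul] at hH
  rw [← map_pow, Polynomial.coeff_C, if_neg one_ne_zero, zero_add, Polynomial.coeff_X_pow,
    if_neg hp.out.ne_one.symm, zero_add,
    show (-(Polynomial.X + Polynomial.C Polynomial.X) : Polynomial (Polynomial ℤ)) ^ p =
      Polynomial.C ((-1) ^ p) * (Polynomial.X + Polynomial.C Polynomial.X) ^ p from
      (neg_pow (Polynomial.X + Polynomial.C Polynomial.X : Polynomial (Polynomial ℤ)) p).trans
        (congrArg (fun v => v * (Polynomial.X + Polynomial.C Polynomial.X : Polynomial (Polynomial ℤ)) ^ p)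
          (show ((-1 : Polynomial (Polynomial ℤ)) ^ p) = Polynomial.C ((-1) ^ p) by
            rcases neg_one_pow_eq_or (Polynomial (Polynomial ℤ)) p with h | h <;>
              simp [Polynomial.C_pow, Polynomial.C_neg])),
    Polynomial.coeff_C_mul, Polynomial.coeff_X_add_C_pow, Nat.choose_one_right] at hH
  have hcoef : H.coeff 1 = -((-1) ^ p * Polynomial.X ^ (p - 1)) := by
    have hp0 : (p : Polynomial ℤ) ≠ 0 := by exact_mod_cast hp.out.ne_zero
    apply mul_left_cancel₀ hp0
    linear_combination -hH
  let φ : Polynomial (Polynomial ℤ) →+* Polynomial (Polynomial k) :=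
    Polynomial.mapRingHom (Polynomial.mapRingHom (Int.castRingHom k))
  have hev : ∀ i, φ (ev ℤ a b c i) = ev k a b c i := fun i => by
    simp only [ev, Pi.add_apply, map_add, Pi.single_apply, apply_ite φ, map_zero, map_neg]
    simp [φ]
  have hmap : MvPolynomial.aeval (ev k a b c) g = φ H := by
    suffices ∀ f : MvPolynomial (Fin n) ℤ,
        MvPolynomial.aeval (ev k a b c) f = φ (MvPolynomial.aeval (ev ℤ a b c) f) from this g
    intro f
    induction f using MvPolynomial.induction_on with
    | C z => simp
    | add f f' hf hf' => simp [hf, hf']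
    | mul_X f i hf => simp [hf, hev]
  have h3 := h2.2
  rw [hmap] at h3
  simp only [φ, Polynomial.coe_mapRingHom, Polynomial.coeff_map, hcoef] at h3
  simp only [map_neg, map_mul, map_pow, map_one, Polynomial.map_X, Polynomial.map_neg,
    Polynomial.map_mul, Polynomial.map_pow, Polynomial.map_one, dvd_neg] at h3
  rw [IsUnit.dvd_mul_left ((isUnit_one.neg).pow p)] at h3
  have h4 := (Polynomial.X_pow_dvd_iff.1 h3) (p - 1) (Nat.sub_lt hp.out.pos one_pos)
  simp [Polynomial.coeff_X_pow] at h4

end Alg

/-- In an even number of variables — for a perfect field k of characteristic p and n ≥ 3, the local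
Artinian algebra k[x_1, y_1, …, x_n, y_n]/(x_1y_1 + ⋯ + x_ny_n, x_1^p, y_1^p, …, x_n^p, y_n^p)
admits no flat lifting over W₂(k). (The published statement covers every number N ≥ 5 of variables,
using x_1x_2 + ⋯ + x_{N−2}x_{N−1} + x_N² for odd N; the printed argument is written out for even N
and the odd case is said to be analogous, so only even N = 2n ≥ 6 is taken here.) -/
theorem result
    (p : ℕ) [Fact p.Prime] (k : Type u) [Field k] [CharP k p] [PerfectRing k p]
    (n : ℕ) (hn : 3 ≤ n) :
    ¬ FrobAlg.IsW2Liftable p k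
      (MvPolynomial (Fin n × Fin 2) k ⧸ Ideal.span
        (insert (∑ i : Fin n, MvPolynomial.X (i, (0 : Fin 2)) * MvPolynomial.X (i, (1 : Fin 2)))
          (Set.range fun v : Fin n × Fin 2 => (MvPolynomial.X v : MvPolynomial (Fin n × Fin 2) k) ^ p))) := by
  classical
  set J : Ideal (MvPolynomial (Fin n × Fin 2) k) := Ideal.span
    (insert (∑ i : Fin n, MvPolynomial.X (i, (0 : Fin 2)) * MvPolynomial.X (i, (1 : Fin 2)))
      (Set.range fun v : Fin n × Fin 2 => (MvPolynomial.X v : MvPolynomial (Fin n × Fin 2) k) ^ p)) with hJ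
  rintro ⟨B, _, ι, π, hlift⟩
  have hker : ∀ x, π x = 0 → ∃ y, x = (p : B) * y := fun x hx => by
    have h : x ∈ (Ideal.span {(p : FrobAlg.W2 p k)}).map ι :=
      Ideal.map_mono ker_res_le (hlift.ker_eq ▸ hx)
    rw [Ideal.map_span, Set.image_singleton, map_natCast, Ideal.mem_span_singleton'] at h
    obtain ⟨y, rfl⟩ := h
    exact ⟨y, mul_comm _ _⟩
  have hp2 : (p : B) * p = 0 := by
    rw [← map_natCast ι, ← map_mul, natCast_mul_natCast_eq_zero, map_zero]
  choose b hb using fun v : Fin n × Fin 2 => hlift.surj (Ideal.Quotient.mk J (X v))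
  choose a ha using fun v => hker (b v ^ p) (by
    rw [map_pow, hb, ← map_pow, Ideal.Quotient.eq_zero_iff_mem]
    exact Ideal.subset_span (Set.mem_insert_of_mem _ ⟨v, rfl⟩))
  obtain ⟨c, hc⟩ := hker (∑ i, b (i, 0) * b (i, 1)) (by
    simp only [map_sum, map_mul, hb]
    simp only [← map_mul, ← map_sum]
    rw [Ideal.Quotient.eq_zero_iff_mem]
    exact Ideal.subset_span (Set.mem_insert _ _))
  have hdvd : MvPolynomial.C (p : ℤ) ∣
      ((∑ i, X i) ^ p - ∑ i, X i ^ p : MvPolynomial (Fin n) ℤ) := by
    rw [MvPolynomial.C_dvd_iff_zmod, map_sub, map_pow, map_sum, map_sum, sum_pow_char, sub_eq_zero]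
    simp
  obtain ⟨g, hg⟩ := hdvd
  have hg' : (∑ i, X i) ^ p = ∑ i, X i ^ p + (p : MvPolynomial (Fin n) ℤ) * g := by
    rw [show (p : MvPolynomial (Fin n) ℤ) = MvPolynomial.C (p : ℤ) by simp, ← hg]
    ring
  let T : Fin n → B := fun i => b (i, 0) * b (i, 1)
  have h0 : (p : B) * MvPolynomial.aeval T g = 0 := by
    have h := congrArg (MvPolynomial.aeval T) hg'
    simp only [map_pow, map_sum, map_add, map_mul, map_natCast, aeval_X] at h
    have h1 : ∀ i, T i ^ p = 0 := fun i => by
      show (b (i, 0) * b (i, 1)) ^ p = 0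
      rw [mul_pow, ha, ha, mul_mul_mul_comm, hp2, zero_mul]
    simp only [h1, Finset.sum_const_zero, zero_add, T] at h
    rw [hc, mul_pow] at h
    have h2 : (p : B) ^ p = 0 :=
      pow_eq_zero_of_le (Fact.out : p.Prime).two_le (by rw [pow_two]; exact hp2)
    rw [h2, zero_mul] at h
    exact h.symm
  obtain ⟨y, hy⟩ := exists_eq_mul_of_flat hlift.flat h0
  refine aeval_notMem p (k := k) hn g hg' ?_
  rw [← hJ, ← Ideal.Quotient.eq_zero_iff_mem]
  have hq : ∀ f : MvPolynomial (Fin n) ℤ, π (MvPolynomial.aeval T f) = Ideal.Quotient.mk J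
      (MvPolynomial.aeval (fun i => (X (i, 0) * X (i, 1) : MvPolynomial (Fin n × Fin 2) k)) f) := by
    intro f
    induction f using MvPolynomial.induction_on with
    | C z => simp
    | add f f' hf hf' => simp [hf, hf']
    | mul_X f i hf => simp [hf, T, hb]
  have hπp : π (p : B) = 0 := by
    rw [← map_natCast ι, ← RingHom.comp_apply, hlift.comm, RingHom.comp_apply, map_natCast,
      CharP.cast_eq_zero, map_zero]
  rw [← hq, hy, map_mul, hπp, zero_mul]

end

end Groth.Agent.S13146
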