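import Groth.Statements.S13147
import Groth.Agent.WittTwo.Lift

set_option linter.unusedSectionVars false

set_option autoImplicit false
universe u
open FrobAlg

namespace Groth.Agent.S13147

/-- Let k be a perfect field of characteristic p and (A, φ) a k-algebra with a Frobenius splitting (φ
additive, φ(a^p b) = a φ(b), φ(1) = 1). The quotient of W₂(A) by the ideal generated by the Witt
vectors (0, a) with φ(a) = 0 — the ring of twisted Witt vectors of (A, φ) — is a flat lifting of A
over W₂(k): flat over W₂(k), with reduction map onto A induced by (a₀, a₁) ↦ a₀ whose kernel is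
generated by the maximal ideal of W₂(k). (The published statement also asserts that a morphism of
algebras with Frobenius splittings compatible with the splittings induces a ring map between these
quotients; that part is not stated here.) -/
theorem result
    (p : ℕ) [Fact p.Prime] (k : Type u) [Field k] [CharP k p] [PerfectRing k p]
    (A : Type u) [CommRing A] [Algebra k A] (φ : A →+ A)
    (hφ : ∀ a b : A, φ (a ^ p * b) = a * φ b) (hφ1 : φ 1 = 1) :
    FrobAlg.IsLift p k A (FrobAlg.W2 p A ⧸ FrobAlg.splitIdeal p A φ)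
      ((Ideal.Quotient.mk (FrobAlg.splitIdeal p A φ)).comp (WittGrp.truncMap p 2 (algebraMap k A)))
      (FrobAlg.splitRes p A φ) := by
  have hpA : (p : A) = 0 := WittTwo.p_eq_zero p (k := k) A
  have hφp : ∀ a : A, φ (a ^ p) = a := fun a => by simpa [hφ1] using hφ a 1
  let I : Ideal (FrobAlg.W2 p A) :=
    { carrier := {x | x.coeff 0 = 0 ∧ φ (x.coeff 1) = 0}
      zero_mem' := ⟨TruncatedWittVector.coeff_zero p 2 A 0, by simp⟩
      add_mem' := fun {x y} hx hy => ⟨by rw [WittTwo.coeff0_add, hx.1, hy.1, add_zero], by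
        rw [WittTwo.coeff1_add, hx.1, hy.1, map_add, map_add, hx.2, hy.2,
          show WittTwo.wc p (0 : A) 0 = 0 by simp [WittTwo.wc, WittTwo.tm]]
        simp⟩
      smul_mem' := fun c x hx => ⟨by rw [smul_eq_mul, WittTwo.coeff0_mul, hx.1, mul_zero], by
        rw [smul_eq_mul, WittTwo.coeff1_mul, hx.1, zero_pow (Fact.out : p.Prime).ne_zero, mul_zero,
          hpA, zero_mul, add_zero, add_zero, hφ, hx.2, mul_zero]⟩ }
  have hI : FrobAlg.splitIdeal p A φ = I := by
    refine le_antisymm (Ideal.span_le.2 fun x hx => ⟨by simpa using hx.1, hx.2⟩) fun x hx => ?_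
    exact Ideal.subset_span ⟨by simpa using hx.1, hx.2⟩
  set q := Ideal.Quotient.mk (FrobAlg.splitIdeal p A φ)
  have key : ∀ x : FrobAlg.W2 p A, x.coeff 0 = 0 →
      q x = (p : _) * q (WittTwo.tm p (φ (x.coeff 1))) := by
    intro x hx
    rw [← map_natCast q, ← map_mul, WittTwo.p_mul p hpA, WittTwo.tm_coeff_zero, Ideal.Quotient.eq, hI]
    have e : WittTwo.vz p (x.coeff 1) = x := WittTwo.ext2 p (by simp [hx]) (by simp)
    refine ⟨by simpa [hx] using map_sub (FrobAlg.res p A) x (WittTwo.vz p (φ (x.coeff 1) ^ p)), ?_⟩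
    rw [← e, WittTwo.vz_coeff_one, sub_eq_add_neg,
      show -WittTwo.vz p (φ (x.coeff 1) ^ p) = WittTwo.vz p (-φ (x.coeff 1) ^ p) from
        neg_eq_of_add_eq_zero_right (by rw [← WittTwo.vz_add, ← sub_eq_add_neg, sub_self]
                                        exact WittTwo.ext2 p (by simp) (by simp)),
      ← WittTwo.vz_add, WittTwo.vz_coeff_one, map_add, map_neg, hφp, add_neg_cancel]
  refine ⟨?_, ?_, ?_, ?_⟩
  · rw [WittTwo.flat_hom_iff]
    intro m hm
    obtain ⟨x, rfl⟩ := Ideal.Quotient.mk_surjective m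
    rw [← map_natCast q, ← map_mul, Ideal.Quotient.eq_zero_iff_mem, hI] at hm
    have h1 := hm.2
    rw [WittTwo.p_mul p hpA, WittTwo.vz_coeff_one, hφp] at h1
    exact ⟨_, key x h1⟩
  · intro a
    exact ⟨q (WittTwo.tm p a), by simp [FrobAlg.splitRes, q]⟩
  · rw [WittTwo.map_ker_res]
    refine le_antisymm (fun m hm => ?_) ?_
    · obtain ⟨x, rfl⟩ := Ideal.Quotient.mk_surjective m
      have hx : x.coeff 0 = 0 := by simpa [FrobAlg.splitRes] using hm
      exact Ideal.mem_span_singleton.2 ⟨_, key x hx⟩
    · rw [Ideal.span_le, Set.singleton_subset_iff, SetLike.mem_coe, RingHom.mem_ker, map_natCast, hpA]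
  · refine RingHom.ext fun x => ?_
    simp [FrobAlg.splitRes, q]

end Groth.Agent.S13147
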