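import Groth.Statements.S13148
import Groth.Agent.WittTwo.Lift
import Groth.Agent.FrobResid.Basic
import Groth.Agent.S6827
import Mathlib.RingTheory.Smooth.Flat

set_option autoImplicit false
universe u
open FrobAlg

namespace Groth.Agent.S13148

theorem exists_semilinear_lift {W C D : Type u} [CommRing W] [CommRing C] [CommRing D] [Algebra W C]
    [Algebra.FormallySmooth W C] (η : W →+* D) (J : Ideal D) (hJ : IsNilpotent J) (g : C →+* D ⧸ J)
    (hg : ∀ w, g (algebraMap W C w) = Ideal.Quotient.mk J (η w)) :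
    ∃ f : C →+* D, f.comp (algebraMap W C) = η ∧ (Ideal.Quotient.mk J).comp f = g := by
  letI := η.toAlgebra
  obtain ⟨f, hf⟩ := Algebra.FormallySmooth.exists_lift (R := W) J hJ ({ g with commutes' := hg } : C →ₐ[W] D ⧸ J)
  exact ⟨f.toRingHom, RingHom.ext fun w => f.commutes w, RingHom.ext fun c => AlgHom.congr_fun hf c⟩

/-- Over a perfect field k of characteristic p, every smooth affine scheme Spec A admits a flat lifting
over W₂(k) together with a lifting of Frobenius (not necessarily unique). -/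
theorem result
    (p : ℕ) [Fact p.Prime] (k : Type u) [Field k] [CharP k p] [PerfectRing k p]
    (A : Type u) [CommRing A] [Algebra k A] [Algebra.Smooth k A] :
    FrobAlg.IsFLiftable p k A := by
  let W := FrobAlg.W2 p k
  let I : Ideal W := RingHom.ker (FrobAlg.res p k)
  let ε : W ⧸ I →+* k := Ideal.Quotient.lift I (FrobAlg.res p k) fun x hx => hx
  have hε : Function.Bijective ε := by
    refine ⟨(injective_iff_map_eq_zero ε).2 fun x hx => ?_, fun a =>
      ⟨Ideal.Quotient.mk I (Groth.Agent.WittTwo.tm p a), by simp [ε]; exact (FrobAlg.res_apply p k _).trans (Groth.Agent.WittTwo.tm_coeff_zero p a)⟩⟩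
    obtain ⟨x, rfl⟩ := Ideal.Quotient.mk_surjective x
    exact Ideal.Quotient.eq_zero_iff_mem.2 hx
  letI : Algebra (W ⧸ I) k := ε.toAlgebra
  letI : Algebra (W ⧸ I) A := ((algebraMap k A).comp ε).toAlgebra
  haveI : IsScalarTower (W ⧸ I) k A := IsScalarTower.of_algebraMap_eq fun _ => rfl
  haveI : Algebra.Smooth (W ⧸ I) k :=
    Algebra.Smooth.of_equiv (AlgEquiv.ofBijective (Algebra.ofId (W ⧸ I) k) hε)
  haveI : Algebra.Smooth (W ⧸ I) A := Algebra.Smooth.comp (W ⧸ I) k A
  obtain ⟨B, _, _, _, ⟨e⟩⟩ := Groth.Agent.S6827.result (A₀ := A) I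
  let J : Ideal B := I.map (algebraMap W B)
  let ι : W →+* B := algebraMap W B
  have hJp : J = Ideal.span {(p : B)} := Groth.Agent.WittTwo.map_ker_res p ι
  let π : B →+* A := e.toRingEquiv.toRingHom.comp (Ideal.Quotient.mk J)
  have hπs : Function.Surjective π := e.surjective.comp Ideal.Quotient.mk_surjective
  have hker : RingHom.ker π = J := by
    ext x
    show e (Ideal.Quotient.mk J x) = 0 ↔ x ∈ J
    rw [map_eq_zero_iff e e.injective, Ideal.Quotient.eq_zero_iff_mem]
  have hcomm : ∀ w, π (ι w) = algebraMap k A (FrobAlg.res p k w) := fun w =>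
    e.commutes (Ideal.Quotient.mk I w)
  have hJ2 : IsNilpotent J := ⟨2, by
    rw [pow_two, hJp, Ideal.span_singleton_mul_span_singleton, Groth.Agent.WittTwo.p_sq_of_hom p ι,
      Ideal.span_singleton_zero, Ideal.zero_eq_bot]⟩
  -- the Frobenius of `B / J`, semilinear along `σ₂`
  have hq : ∀ z : B ⧸ J, (p : B ⧸ J) = 0 := fun _ => by
    rw [← map_natCast (Ideal.Quotient.mk J), Ideal.Quotient.eq_zero_iff_mem, hJp]
    exact Ideal.mem_span_singleton_self _
  have key : ∃ Φ : B →+* B, Φ.comp ι = ι.comp (FrobAlg.sigma p k) ∧ ∀ b, Φ b - b ^ p ∈ J := by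
    have hadd : ∀ x y : B ⧸ J, (x + y) ^ p = x ^ p + y ^ p := fun x y => by
      obtain ⟨r, hr⟩ := exists_add_pow_prime_eq (Fact.out : p.Prime) x y
      rw [hr, hq 0, zero_mul, zero_mul, zero_mul, add_zero]
    let F : (B ⧸ J) →+* (B ⧸ J) :=
      { toFun := fun x => x ^ p
        map_one' := one_pow p
        map_mul' := fun x y => mul_pow x y p
        map_zero' := zero_pow (Fact.out : p.Prime).ne_zero
        map_add' := hadd }
    have hsig : ∀ w, Ideal.Quotient.mk J (ι w) ^ p = Ideal.Quotient.mk J (ι (FrobAlg.sigma p k w)) := fun w => by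
      rw [← map_pow, Ideal.Quotient.eq, ← map_pow, ← map_sub]
      refine Ideal.mem_map_of_mem _ (RingHom.mem_ker.2 ?_)
      rw [map_sub, map_pow, Groth.Agent.FrobResid.res_sigma, sub_self]
    obtain ⟨f, hf1, hf2⟩ := exists_semilinear_lift (ι.comp (FrobAlg.sigma p k)) J hJ2
      (F.comp (Ideal.Quotient.mk J)) hsig
    exact ⟨f, hf1, fun b =>
      (Ideal.Quotient.eq).1 ((RingHom.congr_fun hf2 b).trans (map_pow _ _ _).symm)⟩
  obtain ⟨Φ, hΦ1, hΦ2⟩ := key
  refine ⟨B, inferInstance, ι, π, Φ, ⟨⟨?_, hπs, hker, RingHom.ext hcomm⟩, hΦ1, fun b => ?_⟩⟩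
  · exact (RingHom.flat_algebraMap_iff (R := W) (S := B)).2 inferInstance
  · rw [← sub_eq_zero, ← map_pow, ← map_sub, ← RingHom.mem_ker, hker]
    exact hΦ2 b


end Groth.Agent.S13148
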