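import Groth.Statements.S13149
import Mathlib.LinearAlgebra.Matrix.NonsingularInverse
import Mathlib.RingTheory.LocalRing.MaximalIdeal.Basic
import Mathlib.Tactic

set_option autoImplicit false
universe u
open CAlg

namespace Groth.Agent.S13149

/-- Let A be a local ring and ρ a map from the points of the projective plane over F_p to the points of
the projective plane over A (vectors with a unit coordinate, up to units) taking collinear triples
to collinear triples (three points are collinear when a vector with a unit coordinate is orthogonal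
to all three). If ρ sends the standard frame (1:0:0), (0:1:0), (0:0:1), (1:1:1) to four points in
general position, then p = 0 in A. (The published statement asks only that ρ preserve collinearity;
a constant map does so over any ring, and the published argument begins by moving the images of the
standard frame to the standard frame, which needs them in general position — that condition is made
a hypothesis here.) -/
theorem result
    (p : ℕ) [Fact p.Prime] (A : Type u) [CommRing A] [IsLocalRing A]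
    (ρ : (Fin 3 → ZMod p) → (Fin 3 → A))
    (hpt : ∀ v : Fin 3 → ZMod p, v ≠ 0 → ∃ i, IsUnit (ρ v i))
    (hcol : ∀ u v w : Fin 3 → ZMod p, u ≠ 0 → v ≠ 0 → w ≠ 0 →
      Matrix.det (Matrix.of ![u, v, w]) = 0 →
      ∃ n : Fin 3 → A, (∃ i, IsUnit (n i)) ∧
        dotProduct (ρ u) n = 0 ∧ dotProduct (ρ v) n = 0 ∧ dotProduct (ρ w) n = 0)
    (hgen : IsUnit (Matrix.det (Matrix.of ![ρ (Pi.single 0 1), ρ (Pi.single 1 1), ρ (Pi.single 2 1)])) ∧
      IsUnit (Matrix.det (Matrix.of ![ρ (Pi.single 0 1), ρ (Pi.single 1 1), ρ (fun _ => 1)])) ∧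
      IsUnit (Matrix.det (Matrix.of ![ρ (Pi.single 0 1), ρ (Pi.single 2 1), ρ (fun _ => 1)])) ∧
      IsUnit (Matrix.det (Matrix.of ![ρ (Pi.single 1 1), ρ (Pi.single 2 1), ρ (fun _ => 1)]))) :
    (p : A) = 0 := by
  classical
  let e : Fin 3 → (Fin 3 → ZMod p) := fun i => Pi.single i 1
  let one : Fin 3 → ZMod p := fun _ => 1
  let B : Matrix (Fin 3) (Fin 3) A := Matrix.of ![ρ (e 0), ρ (e 1), ρ (e 2)]
  have hB : IsUnit B.det := hgen.1
  let l : Fin 3 → A := Matrix.vecMul (ρ one) B⁻¹
  have hlB : Matrix.vecMul l B = ρ one := by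
    rw [Matrix.vecMul_vecMul, Matrix.nonsing_inv_mul _ hB, Matrix.vecMul_one]
  have hrow : ∀ j, ρ one j = l 0 * ρ (e 0) j + l 1 * ρ (e 1) j + l 2 * ρ (e 2) j := fun j => by
    rw [← hlB]; simp [Matrix.vecMul, dotProduct, Fin.sum_univ_three, B]
  have hl : ∀ i, IsUnit (l i) := fun i => by
    fin_cases i
    · show IsUnit (l 0)
      have h := hgen.2.2.2
      rw [Matrix.det_fin_three] at h
      refine isUnit_of_mul_isUnit_left (y := B.det) (?_)
      rw [Matrix.det_fin_three]
      convert h using 1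
      simp only [B, Matrix.of_apply, Matrix.cons_val_zero, Matrix.cons_val_one, Matrix.cons_val]
      simp only [show (fun _ : Fin 3 => (1 : ZMod p)) = one from rfl, hrow, e]
      ring
    · show IsUnit (l 1)
      have h := (hgen.2.2.1).neg
      rw [Matrix.det_fin_three] at h
      refine isUnit_of_mul_isUnit_left (y := B.det) (?_)
      rw [Matrix.det_fin_three]
      convert h using 1
      simp only [B, Matrix.of_apply, Matrix.cons_val_zero, Matrix.cons_val_one, Matrix.cons_val]
      simp only [show (fun _ : Fin 3 => (1 : ZMod p)) = one from rfl, hrow, e]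
      ring
    · show IsUnit (l 2)
      have h := hgen.2.1
      rw [Matrix.det_fin_three] at h
      refine isUnit_of_mul_isUnit_left (y := B.det) (?_)
      rw [Matrix.det_fin_three]
      convert h using 1
      simp only [B, Matrix.of_apply, Matrix.cons_val_zero, Matrix.cons_val_one, Matrix.cons_val]
      simp only [show (fun _ : Fin 3 => (1 : ZMod p)) = one from rfl, hrow, e]
      ring
  let M : Matrix (Fin 3) (Fin 3) A := Matrix.diagonal l * B
  have hM : IsUnit M.det := by
    rw [Matrix.det_mul, Matrix.det_diagonal]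
    exact (IsUnit.prod_univ_iff.2 hl).mul hB
  let c : (Fin 3 → ZMod p) → Fin 3 → A := fun v => Matrix.vecMul (ρ v) M⁻¹
  have hcM : ∀ v, Matrix.vecMul (c v) M = ρ v := fun v => by
    rw [Matrix.vecMul_vecMul, Matrix.nonsing_inv_mul _ hM, Matrix.vecMul_one]
  have hcpt : ∀ v, v ≠ 0 → IsUnit (c v 0) ∨ IsUnit (c v 1) ∨ IsUnit (c v 2) := fun v hv => by
    by_contra hcon
    push Not at hcon
    obtain ⟨i, hi⟩ := hpt v hv
    refine (IsLocalRing.mem_maximalIdeal _).1 ?_ hi
    rw [← hcM v]
    simp only [Matrix.vecMul, dotProduct, Fin.sum_univ_three]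
    exact add_mem (add_mem (Ideal.mul_mem_right _ _ ((IsLocalRing.mem_maximalIdeal _).2 hcon.1))
      (Ideal.mul_mem_right _ _ ((IsLocalRing.mem_maximalIdeal _).2 hcon.2.1)))
      (Ideal.mul_mem_right _ _ ((IsLocalRing.mem_maximalIdeal _).2 hcon.2.2))
  have hdet : ∀ u v w, u ≠ 0 → v ≠ 0 → w ≠ 0 → Matrix.det (Matrix.of ![u, v, w]) = 0 →
      c u 0 * (c v 1 * c w 2 - c v 2 * c w 1) - c u 1 * (c v 0 * c w 2 - c v 2 * c w 0) +
        c u 2 * (c v 0 * c w 1 - c v 1 * c w 0) = 0 := fun u v w hu hv hw hd => by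
    obtain ⟨n, ⟨i, hi⟩, h1, h2, h3⟩ := hcol u v w hu hv hw hd
    let N : Matrix (Fin 3) (Fin 3) A := Matrix.of ![ρ u, ρ v, ρ w]
    have hN : Matrix.mulVec N n = 0 := by
      funext j; fin_cases j <;> simpa [N, Matrix.mulVec]
    have hN0 : N.det = 0 := by
      have h4 := congrArg (Matrix.mulVec N.adjugate) hN
      rw [Matrix.mulVec_mulVec, Matrix.adjugate_mul, Matrix.mulVec_zero, Matrix.smul_mulVec, Matrix.one_mulVec] at h4
      exact (hi.mul_left_eq_zero).1 (congrFun h4 i)
    have hprod : Matrix.of ![c u, c v, c w] = N * M⁻¹ := by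
      ext a b; fin_cases a <;> simp [N, c, Matrix.mul_apply, Matrix.vecMul, dotProduct]
    have h5 := congrArg Matrix.det hprod
    rw [Matrix.det_mul, hN0, zero_mul, Matrix.det_fin_three] at h5
    simp [Matrix.of_apply] at h5
    linear_combination h5
  -- frame
  have hMrow : ∀ i, M i = l i • ρ (e i) := fun i => by
    funext j; fin_cases i <;> simp [M, B, Matrix.diagonal_mul]
  have hce : ∀ i j, l i * c (e i) j = if i = j then 1 else 0 := fun i j => by
    have h : (M * M⁻¹) i j = (1 : Matrix (Fin 3) (Fin 3) A) i j := by rw [Matrix.mul_nonsing_inv _ hM]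
    rw [Matrix.one_apply] at h
    rw [← h, Matrix.mul_apply]
    simp [c, hMrow, Matrix.vecMul, dotProduct, Finset.mul_sum, mul_assoc]
  have he0 : ∀ i j, i ≠ j → c (e i) j = 0 := fun i j hij => by
    have h := hce i j
    rw [if_neg hij] at h
    exact (hl i).mul_right_eq_zero.1 h
  have heu : ∀ i, IsUnit (c (e i) i) := fun i => by
    have h := hce i i
    rw [if_pos rfl] at h
    exact IsUnit.of_mul_eq_one _ (by rw [mul_comm]; exact h)
  have hcone : ∀ j, c one j = 1 := fun j => by
    have h : Matrix.vecMul (fun _ => (1 : A)) M = ρ one := by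
      funext j; rw [hrow]; simp [Matrix.vecMul, dotProduct, Fin.sum_univ_three, hMrow]
    simp only [c]
    rw [← h, Matrix.vecMul_vecMul, Matrix.mul_nonsing_inv _ hM, Matrix.vecMul_one]
  have ne_of : ∀ (v : Fin 3 → ZMod p) (i : Fin 3), v i ≠ 0 → v ≠ 0 := fun v i h h0 => h (congrFun h0 i)
  have hene : ∀ i, e i ≠ 0 := fun i => ne_of _ i (by simp [e])
  have honene : one ≠ 0 := ne_of _ 0 one_ne_zero
  have hline : ∀ v, v ≠ 0 → v 2 = 0 → c v 2 = 0 := fun v hv hv2 => by
    have h := hdet (e 0) (e 1) v (hene 0) (hene 1) hv (by simp [Matrix.det_fin_three, e, hv2])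
    simp [he0] at h
    exact (heu 1).mul_right_eq_zero.1 ((heu 0).mul_right_eq_zero.1 h)
  have hline0 : ∀ v, v ≠ 0 → v 0 = 0 → c v 0 = 0 := fun v hv hv0 => by
    have h := hdet (e 1) (e 2) v (hene 1) (hene 2) hv (by simp [Matrix.det_fin_three, e, hv0])
    simp [he0] at h
    exact (heu 2).mul_right_eq_zero.1 ((heu 1).mul_right_eq_zero.1 h)
  have hline1 : ∀ v, v ≠ 0 → v 1 = 0 → c v 1 = 0 := fun v hv hv1 => by
    have h := hdet (e 0) (e 2) v (hene 0) (hene 2) hv (by simp [Matrix.det_fin_three, e, hv1])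
    simp [he0] at h
    exact (heu 2).mul_right_eq_zero.1 ((heu 0).mul_right_eq_zero.1 h)
  -- (1,1,0), (1,0,1)
  let d2 : Fin 3 → ZMod p := ![1, 1, 0]
  let d1 : Fin 3 → ZMod p := ![1, 0, 1]
  let d0 : Fin 3 → ZMod p := ![0, 1, -1]
  have hd2ne : d2 ≠ 0 := ne_of _ 0 (by simp [d2])
  have hd1ne : d1 ≠ 0 := ne_of _ 0 (by simp [d1])
  have hd0ne : d0 ≠ 0 := ne_of _ 1 (by simp [d0])
  have hd2 : c d2 2 = 0 ∧ c d2 1 = c d2 0 ∧ IsUnit (c d2 0) := by
    have h2 := hline d2 hd2ne (by simp [d2])
    have h := hdet (e 2) one d2 (hene 2) honene hd2ne (by simp [Matrix.det_fin_three, e, one, d2])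
    simp [he0, hcone, h2] at h
    have h' : c d2 1 = c d2 0 := by linear_combination ((heu 2).mul_right_eq_zero.1 h)
    refine ⟨h2, h', ?_⟩
    rcases hcpt d2 hd2ne with h | h | h
    · exact h
    · rwa [h'] at h
    · rw [h2] at h; exact absurd h not_isUnit_zero
  have hd1 : c d1 1 = 0 ∧ c d1 2 = c d1 0 ∧ IsUnit (c d1 0) := by
    have h1 := hline1 d1 hd1ne (by simp [d1])
    have h := hdet (e 1) one d1 (hene 1) honene hd1ne (by simp [Matrix.det_fin_three, e, one, d1])
    simp [he0, hcone, h1] at h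
    have h' : c d1 2 = c d1 0 := by linear_combination ((heu 1).mul_right_eq_zero.1 h)
    refine ⟨h1, h', ?_⟩
    rcases hcpt d1 hd1ne with h | h | h
    · exact h
    · rw [h1] at h; exact absurd h not_isUnit_zero
    · rwa [h'] at h
  have hd0 : c d0 0 = 0 ∧ c d0 1 = - c d0 2 ∧ IsUnit (c d0 2) := by
    have h0 := hline0 d0 hd0ne (by simp [d0])
    have h := hdet d2 d1 d0 hd2ne hd1ne hd0ne (by simp [Matrix.det_fin_three, d0, d1, d2])
    simp only [h0, hd2.1, hd2.2.1, hd1.1, hd1.2.1] at h
    have h' : c d0 1 = - c d0 2 := by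
      refine eq_neg_of_add_eq_zero_left ((hd2.2.2.mul hd1.2.2).mul_right_eq_zero.1 ?_)
      linear_combination -h
    refine ⟨h0, h', ?_⟩
    rcases hcpt d0 hd0ne with h | h | h
    · rw [h0] at h; exact absurd h not_isUnit_zero
    · rw [h'] at h; simpa using h
    · exact h
  have key : ∀ k : ℕ, ∀ v : Fin 3 → ZMod p, v = ![1, (k : ZMod p), 0] →
      c v 2 = 0 ∧ c v 1 = (k : A) * c v 0 ∧ IsUnit (c v 0) := by
    intro k
    induction k with
    | zero =>
      intro v hv
      have hv' : v = e 0 := by rw [hv]; funext i; fin_cases i <;> simp [e]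
      subst hv'
      exact ⟨he0 0 2 (by decide), by simp [he0], heu 0⟩
    | succ k ih =>
      intro v hv
      let q : Fin 3 → ZMod p := ![1, (k : ZMod p), 0]
      let r : Fin 3 → ZMod p := ![1, (k : ZMod p), 1]
      have hqne : q ≠ 0 := ne_of _ 0 (by simp [q])
      have hrne : r ≠ 0 := ne_of _ 0 (by simp [r])
      have hvne : v ≠ 0 := ne_of _ 0 (by simp [hv])
      obtain ⟨hq2, hq1, hq0⟩ := ih q rfl
      have hr : c r 2 = c r 0 ∧ c r 1 = (k : A) * c r 0 ∧ IsUnit (c r 0) := by
        have h := hdet (e 2) q r (hene 2) hqne hrne (by simp [Matrix.det_fin_three, e, q, r])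
        simp [he0, hq2, hq1] at h
        have h1 : c r 1 = (k : A) * c r 0 := by
          refine sub_eq_zero.1 (hq0.mul_right_eq_zero.1 ?_)
          linear_combination ((heu 2).mul_right_eq_zero.1 h)
        have h' := hdet (e 1) d1 r (hene 1) hd1ne hrne (by simp [Matrix.det_fin_three, e, d1, r])
        simp [he0, hd1.2.1, hd1.1] at h'
        have h2 : c r 2 = c r 0 := by
          refine sub_eq_zero.1 (hd1.2.2.mul_right_eq_zero.1 ?_)
          linear_combination ((heu 1).mul_right_eq_zero.1 h')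
        refine ⟨h2, h1, ?_⟩
        rcases hcpt r hrne with h | h | h
        · exact h
        · rw [h1] at h; exact isUnit_of_mul_isUnit_right h
        · rwa [h2] at h
      have hv2 := hline v hvne (by simp [hv])
      have h := hdet r d0 v hrne hd0ne hvne (by simp [Matrix.det_fin_three, hv, d0, r])
      rw [hr.1, hr.2.1, hd0.1, hd0.2.1, hv2] at h
      have h1 : c v 1 = ((k + 1 : ℕ) : A) * c v 0 := by
        refine sub_eq_zero.1 ((hr.2.2.mul hd0.2.2).mul_right_eq_zero.1 ?_)
        push_cast
        linear_combination -h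
      refine ⟨hv2, h1, ?_⟩
      rcases hcpt v hvne with h | h | h
      · exact h
      · rw [h1] at h; exact isUnit_of_mul_isUnit_right h
      · rw [hv2] at h; exact absurd h not_isUnit_zero
  obtain ⟨-, h, -⟩ := key p (e 0) (by funext i; fin_cases i <;> simp [e])
  rw [he0 0 1 (by decide)] at h
  exact (heu 0).mul_left_eq_zero.1 h.symm

end Groth.Agent.S13149
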