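import Groth.Statements.S13151
import Mathlib
-- import your own Groth.Agent.* helpers here

set_option autoImplicit false
universe u
open CAlg

namespace Groth.Agent.S13151

/-- Let A → B be an injective ring homomorphism of integral domains which is integral, with A integrally
closed, and let π be an element of A. Then the contraction to A of the ideal πB is πA, i.e. an
element of A which is a multiple of π in B is already a multiple of π in A; in particular if B/πB is
an integral domain then A/πA is an integral domain. (The published statement is for an integral
dominant morphism of integral schemes flat over a discrete valuation ring, with normal target and π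
a uniformizer; flatness and the valuation ring play no role, so π is an arbitrary element here.) -/
theorem result {A B : Type u} [CommRing A] [CommRing B]
    [IsDomain A] [IsDomain B] [IsIntegrallyClosed A] [Algebra A B] [Algebra.IsIntegral A B]
    (hinj : Function.Injective (algebraMap A B)) (π : A) :
    (Ideal.span {algebraMap A B π}).comap (algebraMap A B) = Ideal.span {π} ∧
      (IsDomain (B ⧸ Ideal.span {algebraMap A B π}) → IsDomain (A ⧸ Ideal.span {π})) := by
  classical
  have hc : (Ideal.span {algebraMap A B π}).comap (algebraMap A B) = Ideal.span {π} := by
    refine le_antisymm (fun a ha => ?_) ?_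
    · obtain ⟨b, hb⟩ := Ideal.mem_span_singleton'.mp ha
      rw [Ideal.mem_span_singleton']
      rcases eq_or_ne π 0 with rfl | hπ
      · exact ⟨0, (hinj (by rw [map_zero, ← hb, map_zero, mul_zero] : algebraMap A B a = algebraMap A B 0)).symm ▸ by simp⟩
      ·
        have hi : Function.Injective (algebraMap A (FractionRing B)) :=
          (IsFractionRing.injective B (FractionRing B)).comp hinj
        let j : FractionRing A →ₐ[A] FractionRing B := IsFractionRing.liftAlgHom (g := Algebra.ofId A (FractionRing B)) hi
        let z : FractionRing A := algebraMap A (FractionRing A) a / algebraMap A (FractionRing A) π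
        have hz : j z = algebraMap B (FractionRing B) b := by
          rw [map_div₀, AlgHom.commutes, AlgHom.commutes, div_eq_iff (fun h0 => hπ (hi (by rw [h0, map_zero]))),
            IsScalarTower.algebraMap_apply A B (FractionRing B) a,
            IsScalarTower.algebraMap_apply A B (FractionRing B) π, ← map_mul, hb]
        have hint : IsIntegral A z := (isIntegral_algHom_iff j j.toRingHom.injective).mp
          (hz ▸ ((Algebra.IsIntegral.isIntegral b).map (IsScalarTower.toAlgHom A B (FractionRing B))))
        obtain ⟨c, hc⟩ := IsIntegrallyClosed.isIntegral_iff.mp hint
        refine ⟨c, IsFractionRing.injective A (FractionRing A) ?_⟩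
        rw [map_mul, hc, div_mul_cancel₀]
        exact fun h0 => hπ (IsFractionRing.injective A (FractionRing A) (by rw [h0, map_zero]))
    · rw [← Ideal.map_le_iff_le_comap, Ideal.map_span, Set.image_singleton]
  refine ⟨hc, fun h => ?_⟩
  have hp : (Ideal.span {algebraMap A B π}).IsPrime := (Ideal.Quotient.isDomain_iff_prime _).mp h
  exact (Ideal.Quotient.isDomain_iff_prime _).mpr (hc ▸ hp.comap _)

end Groth.Agent.S13151
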