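import Groth.Statements.S13153
import Mathlib

set_option autoImplicit false
universe u
open CAlg

namespace Groth.Agent.S13153

open Polynomial in
/-- In characteristic zero a transcendental element has a derivation not killing it. -/
theorem exists_derivation {K L : Type u} [Field K] [CharZero K] [Field L] [Algebra K L] {x : L}
    (hx : Transcendental K x) : ∃ d : L →+ L, (∀ a b, d (a * b) = a * d b + b * d a) ∧
      (∀ k : K, d (algebraMap K L k) = 0) ∧ d x = 1 := by
  let F := FractionRing K[X]
  have hinj : Function.Injective (aeval (R := K) x) := transcendental_iff_injective.mp hx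
  let i : F →ₐ[K] L := IsFractionRing.liftAlgHom hinj
  letI : Algebra F L := i.toRingHom.toAlgebra
  haveI : CharZero F := charZero_of_injective_algebraMap (algebraMap K F).injective
  obtain ⟨s, hs⟩ := exists_isTranscendenceBasis F L
  haveI : Algebra.IsAlgebraic (IntermediateField.adjoin F (Set.range ((↑) : s → L))) L := hs.isAlgebraic_field
  haveI : CharZero (IntermediateField.adjoin F (Set.range ((↑) : s → L))) :=
    charZero_of_injective_algebraMap (algebraMap F _).injective
  haveI : Algebra.IsSeparable (IntermediateField.adjoin F (Set.range ((↑) : s → L))) L :=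
    Algebra.IsAlgebraic.isSeparable_of_perfectField
  haveI : Algebra.FormallySmooth F L := Algebra.FormallySmooth.of_algebraicIndependent_of_isSeparable hs.1
  let T : Type u := TrivSqZeroExt L L
  let ψP : K[X] →ₐ[K] T := aeval (TrivSqZeroExt.inl x + TrivSqZeroExt.inr 1 : T)
  have hfst : ∀ p, TrivSqZeroExt.fst (ψP p) = aeval x p := fun p => by
    rw [show TrivSqZeroExt.fst (ψP p) = (TrivSqZeroExt.fstHom K L L).comp ψP p from rfl]
    congr 1
    ext
    rw [aeval_X]
    show TrivSqZeroExt.fst (ψP X) = x
    simp only [ψP, aeval_X]
    exact (TrivSqZeroExt.fst_add _ _).trans (by simp)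
  have hunit : ∀ p : nonZeroDivisors K[X], IsUnit (ψP p) := fun p => by
    rw [TrivSqZeroExt.isUnit_iff_isUnit_fst, hfst, isUnit_iff_ne_zero, ne_eq, ← map_zero (aeval (R := K) x)]
    exact fun h => nonZeroDivisors.ne_zero p.2 (hinj h)
  let ψ : F →+* T := IsLocalization.lift (g := ψP.toRingHom) hunit
  have hψ : ∀ p, ψ (algebraMap K[X] F p) = ψP p := fun p => IsLocalization.lift_eq _ p
  letI : Algebra F T := ψ.toAlgebra
  let π : T →ₐ[F] L :=
    { (TrivSqZeroExt.fstHom K L L).toRingHom with
      commutes' := fun r => by
        show TrivSqZeroExt.fst (ψ r) = i r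
        have : (TrivSqZeroExt.fstHom K L L).toRingHom.comp ψ = i.toRingHom :=
          IsLocalization.ringHom_ext (nonZeroDivisors K[X]) (RingHom.ext fun p => by
            show TrivSqZeroExt.fst (ψ (algebraMap K[X] F p)) = i (algebraMap K[X] F p)
            rw [hψ, hfst]
            exact (IsLocalization.lift_eq _ p).symm)
        exact RingHom.congr_fun this r }
  have hker : IsNilpotent (RingHom.ker (π : T →+* L)) := ⟨2, by
    rw [Submodule.zero_eq_bot, Submodule.pow_succ, Submodule.pow_one, ← le_bot_iff, Ideal.mul_le]
    intro a ha b hb
    rw [RingHom.mem_ker] at ha hb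
    change TrivSqZeroExt.fst a = 0 at ha
    change TrivSqZeroExt.fst b = 0 at hb
    rw [Submodule.mem_bot]
    ext
    · exact (TrivSqZeroExt.fst_mul a b).trans (by rw [ha, zero_mul]; rfl)
    · exact (TrivSqZeroExt.snd_mul a b).trans (by simp [ha, hb])⟩
  have hsurj : Function.Surjective π := fun l => ⟨TrivSqZeroExt.inl l, rfl⟩
  let l := Algebra.FormallySmooth.liftOfSurjective (AlgHom.id F L) π hsurj hker
  have hl : ∀ a, TrivSqZeroExt.fst (l a) = a := fun a =>
    Algebra.FormallySmooth.liftOfSurjective_apply (AlgHom.id F L) π hsurj hker a
  have hlF : ∀ p, l (aeval x p) = ψP p := fun p => by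
    rw [show aeval x p = algebraMap F L (algebraMap K[X] F p) from (IsLocalization.lift_eq _ p).symm, l.commutes]
    exact hψ p
  refine ⟨AddMonoidHom.mk' (fun a => TrivSqZeroExt.snd (l a)) (fun a b => by rw [map_add, TrivSqZeroExt.snd_add]),
    fun a b => ?_, fun k => ?_, ?_⟩
  · show TrivSqZeroExt.snd (l (a * b)) = a * TrivSqZeroExt.snd (l b) + b * TrivSqZeroExt.snd (l a)
    rw [map_mul, TrivSqZeroExt.snd_mul, hl, hl, op_smul_eq_smul, smul_eq_mul, smul_eq_mul]
  · show TrivSqZeroExt.snd (l (algebraMap K L k)) = 0
    rw [← aeval_C x k, hlF]
    simp only [ψP, aeval_C]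
    rfl
  · show TrivSqZeroExt.snd (l x) = 1
    rw [← aeval_X (R := K) x, hlF]
    simp only [ψP, aeval_X]
    exact (TrivSqZeroExt.snd_add _ _).trans (by simp)

/-- Let R be a discrete valuation ring whose fraction field K has characteristic zero, A an integral
domain which is a faithfully flat R-algebra, with fraction field L, such that K is algebraically
closed in L (every element of L algebraic over K is in the image of K). If f ∈ A has vanishing
differential, df = 0 in Ω_{A/R}, then f is the image of an element of R. (The published statement is
the sheaf form: for a faithfully flat morphism X → Spec R with geometrically integral generic fibre,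
the kernel of d : O_X → Ω¹_{X/R} is the inverse image of O_{Spec R}; for integral X, geometric
integrality of the generic fibre in characteristic zero amounts to K being algebraically closed in
the function field, which is the form used here, and this row is the case of global sections over an
affine X = Spec A.) -/
theorem result (R : Type u) [CommRing R] [IsDomain R]
    [IsDiscreteValuationRing R] [CharZero R] (K : Type u) [Field K] [Algebra R K] [IsFractionRing R K]
    (A : Type u) [CommRing A] [IsDomain A] [Algebra R A] [Module.FaithfullyFlat R A]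
    (L : Type u) [Field L] [Algebra A L] [IsFractionRing A L] [Algebra R L] [Algebra K L]
    [IsScalarTower R A L] [IsScalarTower R K L]
    (hac : ∀ x : L, IsAlgebraic K x → x ∈ (algebraMap K L).range)
    (f : A) (hf : KaehlerDifferential.D R A f = 0) : f ∈ (algebraMap R A).range := by
  haveI : CharZero K := charZero_of_injective_algebraMap (IsFractionRing.injective R K)
  let x := algebraMap A L f
  have halg : IsAlgebraic K x := by
    by_contra hx
    obtain ⟨d, hmul, hK, hd⟩ := exists_derivation hx
    have hdR : ∀ r : R, d (algebraMap R L r) = 0 := fun r => by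
      rw [IsScalarTower.algebraMap_apply R K L, hK]
    let D : Derivation R A L := Derivation.mk'
      { toFun := fun a => d (algebraMap A L a)
        map_add' := fun a b => by rw [map_add, map_add]
        map_smul' := fun r a => by
          rw [RingHom.id_apply, Algebra.smul_def, map_mul, hmul, ← IsScalarTower.algebraMap_apply R A L, hdR, mul_zero,
            add_zero, Algebra.smul_def] }
      fun a b => by
        show d (algebraMap A L (a * b)) = a • d (algebraMap A L b) + b • d (algebraMap A L a)
        rw [map_mul, hmul, Algebra.smul_def, Algebra.smul_def]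
    have h0 : D f = 0 := by rw [← Derivation.liftKaehlerDifferential_comp_D D f, hf, map_zero]
    exact one_ne_zero (hd.symm.trans h0)
  obtain ⟨k, hk⟩ := hac x halg
  obtain ⟨a, b, hb, rfl⟩ := IsFractionRing.div_surjective (A := R) k
  have hb0 : b ≠ 0 := nonZeroDivisors.ne_zero hb
  have hinjA : Function.Injective (algebraMap A L) := IsFractionRing.injective A L
  have hab : algebraMap R A a = algebraMap R A b * f := by
    apply hinjA
    rw [map_mul, ← IsScalarTower.algebraMap_apply, ← IsScalarTower.algebraMap_apply, IsScalarTower.algebraMap_apply R K L,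
      IsScalarTower.algebraMap_apply R K L b]
    show algebraMap K L (algebraMap R K a) = _ * x
    rw [← hk, ← map_mul, mul_div_cancel₀ _ (by simpa using hb0)]
  have hmem : a ∈ Ideal.span {b} := by
    rw [← Ideal.comap_map_eq_self_of_faithfullyFlat (B := A) (Ideal.span {b}), Ideal.mem_comap, Ideal.map_span,
      Set.image_singleton, hab]
    exact Ideal.mul_mem_right _ _ (Ideal.mem_span_singleton_self _)
  obtain ⟨c, rfl⟩ := Ideal.mem_span_singleton'.mp hmem
  refine ⟨c, hinjA ?_⟩
  show _ = x
  rw [← IsScalarTower.algebraMap_apply, IsScalarTower.algebraMap_apply R K L, ← hk, map_mul,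
    mul_div_cancel_right₀ _ (by simpa using hb0)]

end Groth.Agent.S13153
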