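import Groth.Statements.S13154
import Mathlib

set_option autoImplicit false
universe u
open scoped TensorProduct
open CAlg

namespace Groth.Agent.S13154

/-- Let R be a discrete valuation ring with fraction field K, A a faithfully flat R-algebra (an affine
faithfully flat base change S' → S = Spec R) and B₁, B₂ flat R-algebras (two affine S-schemes X₁ =
Spec B₁, X₂ = Spec B₂, flat over S). Suppose given a K-algebra homomorphism φ_K : K ⊗ B₂ → K ⊗ B₁ (a
morphism of the generic fibres X₁,K → X₂,K) and an A-algebra homomorphism φ_A : A ⊗ B₂ → A ⊗ B₁ (a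
morphism X₁ ×_S S' → X₂ ×_S S' over S') which coincide after base change to K ⊗ A, in the sense that
for every b ∈ B₂ the images of φ_K(1 ⊗ b) and φ_A(1 ⊗ b) in (K ⊗ A) ⊗ B₁ agree. Then there is
exactly one R-algebra homomorphism φ : B₂ → B₁ (a morphism X₁ → X₂) whose base changes to K and to A
are φ_K and φ_A. (The published statement assumes only X₂ flat over S; flatness of X₁ is also
needed: with B₂ = R[t], B₁ = R[e]/(e², πe) for a uniformizer π and A = R[x], the maps t ↦ 0 over K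
and t ↦ e x over A agree over K ⊗ A = K[x] but come from no map over R.) -/
theorem result (R : Type u) [CommRing R] [IsDomain R]
    [IsDiscreteValuationRing R] (K : Type u) [Field K] [Algebra R K] [IsFractionRing R K]
    (A : Type u) [CommRing A] [Algebra R A] [Module.FaithfullyFlat R A]
    (B₁ B₂ : Type u) [CommRing B₁] [CommRing B₂] [Algebra R B₁] [Algebra R B₂]
    [Module.Flat R B₁] [Module.Flat R B₂]
    (φK : K ⊗[R] B₂ →ₐ[K] K ⊗[R] B₁) (φA : A ⊗[R] B₂ →ₐ[A] A ⊗[R] B₁)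
    (hcomp : ∀ b : B₂,
      Algebra.TensorProduct.map (Algebra.TensorProduct.includeLeft : K →ₐ[R] K ⊗[R] A) (AlgHom.id R B₁)
          (φK (1 ⊗ₜ b)) =
        Algebra.TensorProduct.map (Algebra.TensorProduct.includeRight : A →ₐ[R] K ⊗[R] A) (AlgHom.id R B₁)
          (φA (1 ⊗ₜ b))) :
    ∃! φ : B₂ →ₐ[R] B₁, (∀ b : B₂, φK (1 ⊗ₜ b) = 1 ⊗ₜ φ b) ∧ (∀ b : B₂, φA (1 ⊗ₜ b) = 1 ⊗ₜ φ b) := by
  let i : K ⊗[R] B₁ →ₐ[R] (K ⊗[R] A) ⊗[R] B₁ :=
    Algebra.TensorProduct.map (Algebra.TensorProduct.includeLeft : K →ₐ[R] K ⊗[R] A) (AlgHom.id R B₁)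
  let j : A ⊗[R] B₁ →ₐ[R] (K ⊗[R] A) ⊗[R] B₁ :=
    Algebra.TensorProduct.map (Algebra.TensorProduct.includeRight : A →ₐ[R] K ⊗[R] A) (AlgHom.id R B₁)
  have hincl : ∀ (X : Type u) [AddCommGroup X] [Module R X] [Module.Flat R X],
      Function.Injective fun x : X => (1 : K) ⊗ₜ[R] x := by
    intro X _ _ _ x x' hxx
    have h := Module.Flat.rTensor_preserves_injective_linearMap (M := X) (Algebra.linearMap R K)
      (IsFractionRing.injective R K)
    have h2 : ∀ x : X, (Algebra.linearMap R K).rTensor X ((1 : R) ⊗ₜ x) = (1 : K) ⊗ₜ[R] x := fun x => by simp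
    have h3 := h ((h2 x).trans (hxx.trans (h2 x').symm))
    simpa using congrArg (TensorProduct.lid R X) h3
  have hj : Function.Injective j :=
    Module.Flat.rTensor_preserves_injective_linearMap (M := B₁)
      (Algebra.TensorProduct.includeRight : A →ₐ[R] K ⊗[R] A).toLinearMap (hincl A)
  have hex : ∀ b : B₂, ∃ c : B₁, φK (1 ⊗ₜ b) = 1 ⊗ₜ c ∧ φA (1 ⊗ₜ b) = 1 ⊗ₜ c := by
    intro b
    obtain ⟨r, hr0, c, hc⟩ : ∃ r : R, r ≠ 0 ∧ ∃ c : B₁, r • φK (1 ⊗ₜ b) = (1 : K) ⊗ₜ[R] c := by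
      generalize φK (1 ⊗ₜ b) = x
      induction x using TensorProduct.induction_on with
      | zero => exact ⟨1, one_ne_zero, 0, by simp⟩
      | tmul k v =>
        obtain ⟨⟨a, s⟩, hs⟩ := IsLocalization.surj (nonZeroDivisors R) k
        refine ⟨s, nonZeroDivisors.ne_zero s.2, a • v, ?_⟩
        rw [TensorProduct.smul_tmul', Algebra.smul_def, mul_comm, hs, Algebra.algebraMap_eq_smul_one, TensorProduct.smul_tmul]
      | add p q hp hq =>
        obtain ⟨r, hr, c, hc⟩ := hp
        obtain ⟨r', hr', c', hc'⟩ := hq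
        refine ⟨r * r', mul_ne_zero hr hr', r' • c + r • c', ?_⟩
        rw [smul_add, mul_comm, mul_smul, hc, mul_comm, mul_smul, hc', TensorProduct.tmul_add, TensorProduct.tmul_smul, TensorProduct.tmul_smul]
    have hA : r • φA (1 ⊗ₜ b) = (1 : A) ⊗ₜ[R] c := hj (by
      rw [map_smul]
      show r • j (φA (1 ⊗ₜ b)) = _
      rw [← hcomp b, ← map_smul, hc]
      simp [i, j, Algebra.TensorProduct.one_def])
    obtain ⟨c', rfl⟩ : ∃ c', r • c' = c := by
      let P := LinearMap.range (LinearMap.lsmul R B₁ r)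
      have h1 : (1 : A) ⊗ₜ[R] P.mkQ c = 0 := by
        rw [← LinearMap.lTensor_tmul, ← hA, map_smul]
        generalize φA (1 ⊗ₜ b) = z
        induction z using TensorProduct.induction_on with
        | zero => simp
        | add p q hp hq => rw [map_add, smul_add, hp, hq, add_zero]
        | tmul a v =>
          rw [LinearMap.lTensor_tmul, ← TensorProduct.tmul_smul, ← map_smul,
            show P.mkQ (r • v) = 0 from (Submodule.Quotient.mk_eq_zero P).mpr ⟨v, rfl⟩, TensorProduct.tmul_zero]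
      have h2 : P.mkQ c = 0 := Module.FaithfullyFlat.tensorProduct_mk_injective (B₁ ⧸ P) (h1.trans (TensorProduct.tmul_zero _ 1).symm)
      exact (Submodule.Quotient.mk_eq_zero P).mp h2
    have h3 : φK (1 ⊗ₜ b) = (1 : K) ⊗ₜ c' := by
      rw [TensorProduct.tmul_smul, ← algebraMap_smul K r, ← algebraMap_smul K r ((1 : K) ⊗ₜ[R] c')] at hc
      have hne : algebraMap R K r ≠ 0 := by simpa using hr0
      calc φK (1 ⊗ₜ b) = (algebraMap R K r)⁻¹ • (algebraMap R K r • φK (1 ⊗ₜ b)) := by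
            rw [smul_smul, inv_mul_cancel₀ hne, one_smul]
        _ = _ := by rw [hc, smul_smul, inv_mul_cancel₀ hne, one_smul]
    refine ⟨c', h3, hj ?_⟩
    show j (φA (1 ⊗ₜ b)) = _
    rw [← hcomp b, h3]
    simp [i, j, Algebra.TensorProduct.one_def]
  choose c hcK hcA using hex
  have hi := hincl B₁
  let φ : B₂ →ₐ[R] B₁ :=
    { toFun := c
      map_one' := hi (by
        show (1 : K) ⊗ₜ[R] c 1 = 1 ⊗ₜ 1
        rw [← hcK, ← Algebra.TensorProduct.one_def, map_one, Algebra.TensorProduct.one_def])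
      map_mul' := fun a b => hi (by
        show (1 : K) ⊗ₜ[R] c (a * b) = 1 ⊗ₜ (c a * c b)
        have h : ((1 : K) ⊗ₜ[R] (a * b)) = (1 ⊗ₜ a) * (1 ⊗ₜ b) := by simp
        rw [← hcK, h, map_mul, hcK, hcK]
        simp)
      map_zero' := hi (by
        show (1 : K) ⊗ₜ[R] c 0 = 1 ⊗ₜ 0
        rw [← hcK, TensorProduct.tmul_zero, map_zero, TensorProduct.tmul_zero])
      map_add' := fun a b => hi (by
        show (1 : K) ⊗ₜ[R] c (a + b) = 1 ⊗ₜ (c a + c b)
        rw [← hcK, TensorProduct.tmul_add, map_add, hcK, hcK, TensorProduct.tmul_add])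
      commutes' := fun r => hi (by
        show (1 : K) ⊗ₜ[R] c (algebraMap R B₂ r) = 1 ⊗ₜ algebraMap R B₁ r
        rw [← hcK, Algebra.algebraMap_eq_smul_one, Algebra.algebraMap_eq_smul_one, TensorProduct.tmul_smul,
          TensorProduct.tmul_smul]
        refine ((φK.restrictScalars R).toLinearMap.map_smul r _).trans (congrArg (r • ·) ?_)
        show φK (1 ⊗ₜ 1) = _
        rw [← Algebra.TensorProduct.one_def, map_one, ← Algebra.TensorProduct.one_def]) }
  refine ⟨φ, ⟨hcK, hcA⟩, fun ψ hψ => AlgHom.ext fun b => hi ?_⟩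
  show (1 : K) ⊗ₜ[R] ψ b = 1 ⊗ₜ c b
  rw [← hψ.1 b, hcK]

end Groth.Agent.S13154
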