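import Mathlib
import Groth.Statements.S13156
-- import your own Groth.Agent.* helpers here

set_option autoImplicit false
universe u
open scoped Polynomial
open CAlg

namespace Groth.Agent.S13156

/-- Let p be a prime number, A a commutative ring in which (p−1)! is invertible, μ an element of A, and
F ∈ A[X] a polynomial of degree at most p − 1 with coefficients a_0, a_1, …. Then the identity
F(S)·F(T) − a_0² = F(S + T + μST) − a_0 holds in the polynomial ring A[S, T] if and only if a_1·F(S)
= F′(S)·(1 + μS) holds in A[S], F′ the formal derivative. (The published statement is over the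
quotient of a discrete valuation ring of residue characteristic p by a nonzero element of its
maximal ideal; only the invertibility of 1, …, p − 1 is used, so an arbitrary such ring A is allowed
here.) -/
theorem result (A : Type u) [CommRing A] (p : ℕ) [Fact p.Prime]
    (hu : IsUnit ((Nat.factorial (p - 1) : ℕ) : A)) (μ : A) (F : A[X]) (hF : F.natDegree < p) :
    (Polynomial.aeval (MvPolynomial.X 0 : MvPolynomial (Fin 2) A) F *
          Polynomial.aeval (MvPolynomial.X 1 : MvPolynomial (Fin 2) A) F - MvPolynomial.C (F.coeff 0 ^ 2) =
        Polynomial.aeval (MvPolynomial.X 0 + MvPolynomial.X 1 +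
            MvPolynomial.C μ * MvPolynomial.X 0 * MvPolynomial.X 1 : MvPolynomial (Fin 2) A) F -
          MvPolynomial.C (F.coeff 0)) ↔
      F * Polynomial.C (F.coeff 1) = Polynomial.derivative F * (1 + Polynomial.C μ * Polynomial.X) := by
  classical
  let e : MvPolynomial (Fin 2) A →ₐ[A] Polynomial (Polynomial A) := MvPolynomial.aeval ![Polynomial.C Polynomial.X, Polynomial.X]
  have he : Function.Injective e := by
    let e' : Polynomial (Polynomial A) →+* MvPolynomial (Fin 2) A :=
      Polynomial.eval₂RingHom (Polynomial.aeval (MvPolynomial.X (0 : Fin 2))).toRingHom (MvPolynomial.X 1)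
    have h : e'.comp e.toRingHom = RingHom.id _ := by
      refine MvPolynomial.ringHom_ext (fun r => ?_) (fun i => ?_)
      · simp [e, e', Polynomial.algebraMap_apply]
      · fin_cases i <;> simp [e, e']
    exact Function.LeftInverse.injective (g := e') (fun x => RingHom.congr_fun h x)
  set a₀ := F.coeff 0
  set a₁ := F.coeff 1
  let F' := Polynomial.derivative F
  let w : Polynomial (Polynomial A) := Polynomial.C Polynomial.X + (Polynomial.C (1 + Polynomial.C μ * Polynomial.X)) * Polynomial.X
  let ι : Polynomial A →+* Polynomial (Polynomial A) := Polynomial.mapRingHom Polynomial.C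
  let G : Polynomial (Polynomial A) := Polynomial.C F * F.map Polynomial.C - Polynomial.C (Polynomial.C (a₀ ^ 2)) -
    (F.map Polynomial.C).comp w + Polynomial.C (Polynomial.C a₀)
  have hev : ∀ (v : Polynomial (Polynomial A)), Polynomial.aeval v F = (F.map Polynomial.C).comp v := fun v => by
    rw [Polynomial.comp, Polynomial.eval₂_map]
    rfl
  have hC : Polynomial.aeval (Polynomial.C Polynomial.X : Polynomial (Polynomial A)) F = Polynomial.C F := by
    rw [hev, Polynomial.comp_C, Polynomial.eval_map, Polynomial.eval₂_C_X]
  have hX : Polynomial.aeval (Polynomial.X : Polynomial (Polynomial A)) F = F.map Polynomial.C := by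
    rw [hev, Polynomial.comp_X]
  have hiff : (Polynomial.aeval (MvPolynomial.X 0 : MvPolynomial (Fin 2) A) F *
          Polynomial.aeval (MvPolynomial.X 1 : MvPolynomial (Fin 2) A) F - MvPolynomial.C (F.coeff 0 ^ 2) =
        Polynomial.aeval (MvPolynomial.X 0 + MvPolynomial.X 1 +
            MvPolynomial.C μ * MvPolynomial.X 0 * MvPolynomial.X 1 : MvPolynomial (Fin 2) A) F -
          MvPolynomial.C (F.coeff 0)) ↔ G = 0 := by
    rw [← he.eq_iff]
    simp only [map_sub, map_mul, map_add, ← Polynomial.aeval_algHom_apply]
    have e0 : e (MvPolynomial.X 0) = Polynomial.C Polynomial.X := by simp [e]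
    have e1 : e (MvPolynomial.X 1) = Polynomial.X := by simp [e]
    have ec : ∀ r, e (MvPolynomial.C r) = Polynomial.C (Polynomial.C r) := fun r => by simp [e, Polynomial.algebraMap_apply]
    rw [e0, e1, ec, ec, ec, hC, hX, hev,
      show Polynomial.C Polynomial.X + Polynomial.X + Polynomial.C (Polynomial.C μ) * Polynomial.C Polynomial.X * Polynomial.X = w by
        simp only [w, map_add, map_mul, map_one]; ring]
    simp only [G]
    constructor <;> intro h <;> linear_combination h
  rw [hiff]
  have hw : Polynomial.derivative w = Polynomial.C (1 + Polynomial.C μ * Polynomial.X) := by simp [w]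
  have hdG : Polynomial.derivative G = Polynomial.C F * F'.map Polynomial.C - Polynomial.C (1 + Polynomial.C μ * Polynomial.X) * (F'.map Polynomial.C).comp w := by
    simp only [G, Polynomial.derivative_add, Polynomial.derivative_sub, Polynomial.derivative_mul, Polynomial.derivative_C, Polynomial.derivative_comp, Polynomial.derivative_map, hw, F']
    ring
  have hw0 : w.eval 0 = Polynomial.X := by simp [w]
  constructor
  · intro hG
    have := congrArg (Polynomial.eval 0) hdG
    rw [hG, map_zero, Polynomial.eval_zero, Polynomial.eval_sub, Polynomial.eval_mul, Polynomial.eval_mul, Polynomial.eval_C, Polynomial.eval_C, Polynomial.eval_comp, hw0,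
      ← Polynomial.coeff_zero_eq_eval_zero, Polynomial.coeff_map, Polynomial.coeff_derivative, Polynomial.eval_map, Polynomial.eval₂_C_X] at this
    simp only [Nat.cast_zero, zero_add, mul_one] at this
    rw [mul_comm F'] 
    exact sub_eq_zero.1 this.symm |>.trans (mul_comm _ _) |>.trans (mul_comm _ _)
  · intro h
    have hfac : ∀ i, 0 < i → i < p → IsUnit ((i : ℕ) : A) := fun i hi hip => by
      refine isUnit_of_dvd_unit ?_ hu
      exact Nat.cast_dvd_cast (Nat.dvd_factorial hi (by omega))
    have hrec : ∀ j : ℕ, ((j : A) + 1) * F.coeff (j + 1) = (a₁ - (j : A) * μ) * F.coeff j := by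
      intro j
      have := congrArg (fun P => Polynomial.coeff P j) h
      simp only [Polynomial.coeff_mul_C, mul_add, mul_one, Polynomial.coeff_add, Polynomial.coeff_derivative] at this
      rcases j with - | j
      · simp at this
        simp only [Nat.cast_zero, zero_add, one_mul, zero_mul, sub_zero]
        linear_combination -this
      · rw [← mul_assoc, mul_comm (Polynomial.derivative F) (Polynomial.C μ), mul_assoc, Polynomial.coeff_C_mul, Polynomial.coeff_mul_X, Polynomial.coeff_derivative] at this
        push_cast at this ⊢
        linear_combination -this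
    have hann : ∀ j, 0 < j → (a₀ - 1) * F.coeff j = 0 := by
      intro j hj
      induction j with
      | zero => omega
      | succ j ih =>
        rcases lt_or_ge (j + 1) p with hjp | hjp
        · have hz : (j + 1 : A) * ((a₀ - 1) * F.coeff (j + 1)) = 0 := by
            rcases j with - | j
            · have := hrec 0
              simp only [Nat.cast_zero, zero_add, zero_mul, sub_zero] at this ⊢
              linear_combination -(this : _) + 0 * μ
            · linear_combination (a₀ - 1) * hrec (j + 1) + (a₁ - (j + 1 : ℕ) * μ) * ih (Nat.succ_pos j)
          have hu' := hfac (j + 1) (Nat.succ_pos j) hjp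
          push_cast at hu'
          exact hu'.mul_right_eq_zero.1 hz
        · rw [Polynomial.coeff_eq_zero_of_natDegree_lt (by omega), mul_zero]
    have hG0 : G.coeff 0 = 0 := by
      rw [Polynomial.coeff_zero_eq_eval_zero]
      simp only [G, Polynomial.eval_add, Polynomial.eval_sub, Polynomial.eval_mul, Polynomial.eval_C, Polynomial.eval_comp, hw0]
      rw [← Polynomial.coeff_zero_eq_eval_zero, Polynomial.coeff_map, Polynomial.eval_map, Polynomial.eval₂_C_X]
      ext j
      rcases j with - | j
      · simp only [Polynomial.coeff_add, Polynomial.coeff_sub, Polynomial.coeff_mul_C, Polynomial.coeff_C_zero, Polynomial.coeff_zero]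
        ring
      · simp only [Polynomial.coeff_add, Polynomial.coeff_sub, Polynomial.coeff_mul_C, Polynomial.coeff_C_succ, Polynomial.coeff_zero]
        linear_combination hann (j + 1) (Nat.succ_pos j)
    have hode : Polynomial.derivative G * (1 + Polynomial.C (Polynomial.C μ) * Polynomial.X) = Polynomial.C (Polynomial.C a₁) * G := by
      have h1 := congrArg (Polynomial.map Polynomial.C) h
      simp only [Polynomial.map_mul, Polynomial.map_add, Polynomial.map_one, Polynomial.map_C, Polynomial.map_X] at h1
      have h2 := congrArg (fun P => Polynomial.comp P w) h1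
      simp only [Polynomial.mul_comp, Polynomial.add_comp, Polynomial.one_comp, Polynomial.C_comp, Polynomial.X_comp] at h2
      have hcoef : (a₀ - 1) * a₁ = 0 := hann 1 one_pos
      have hc : Polynomial.C (Polynomial.C ((a₀ - 1) * a₁)) = (0 : Polynomial (Polynomial A)) := by rw [hcoef, map_zero, map_zero]
      simp only [map_mul, map_sub, map_one] at hc
      rw [hdG]
      simp only [G, w, map_add, map_mul, map_one, map_pow] at h2 ⊢
      linear_combination h2 - Polynomial.C F * h1 + Polynomial.C (Polynomial.C a₀) * hc
    have hdeg : G.natDegree < p := by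
      have hd1 : (F.map (Polynomial.C : A →+* Polynomial A)).natDegree < p := lt_of_le_of_lt Polynomial.natDegree_map_le hF
      have hd2 : ((F.map (Polynomial.C : A →+* Polynomial A)).comp w).natDegree < p := by
        refine lt_of_le_of_lt Polynomial.natDegree_comp_le (lt_of_le_of_lt (Nat.mul_le_mul le_rfl ?_) (lt_of_eq_of_lt (mul_one _) hd1))
        exact (Polynomial.natDegree_add_le _ _).trans (max_le (by simp) ((Polynomial.natDegree_mul_le).trans (by rw [Polynomial.natDegree_C, zero_add]; exact Polynomial.natDegree_X_le)))
      simp only [G]
      refine lt_of_le_of_lt (Polynomial.natDegree_add_le _ _) (max_lt (lt_of_le_of_lt (Polynomial.natDegree_sub_le _ _) (max_lt (lt_of_le_of_lt (Polynomial.natDegree_sub_le _ _) (max_lt ?_ ?_)) hd2)) ?_)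
      · exact lt_of_le_of_lt (Polynomial.natDegree_C_mul_le _ _) hd1
      · simp only [Polynomial.natDegree_C]; omega
      · simp only [Polynomial.natDegree_C]; omega
    ext1 j
    rw [Polynomial.coeff_zero]
    induction j with
    | zero => exact hG0
    | succ j ih =>
      rcases lt_or_ge (j + 1) p with hjp | hjp
      · have := congrArg (fun P => Polynomial.coeff P j) hode
        simp only [Polynomial.coeff_C_mul, ih, mul_zero, mul_add, mul_one, Polynomial.coeff_add, Polynomial.coeff_derivative] at this
        rw [← mul_assoc, mul_comm (Polynomial.derivative G) (Polynomial.C (Polynomial.C μ)), mul_assoc, Polynomial.coeff_C_mul] at this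
        have hz : G.coeff (j + 1) * ((j : Polynomial A) + 1) = 0 := by
          rcases j with - | j
          · simpa using this
          · rw [Polynomial.coeff_mul_X, Polynomial.coeff_derivative, ih] at this
            simp at this
            push_cast
            linear_combination this
        have hu' := (hfac (j + 1) (Nat.succ_pos j) hjp).map (Polynomial.C : A →+* Polynomial A)
        push_cast at hu'
        simp only [map_add, map_natCast, map_one] at hu'
        exact hu'.mul_left_eq_zero.1 hz
      · exact Polynomial.coeff_eq_zero_of_natDegree_lt (by omega)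

end Groth.Agent.S13156
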