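import Mathlib
import Groth.Statements.S13158
-- import your own Groth.Agent.* helpers here

set_option autoImplicit false
universe u
open CAlg

namespace Groth.Agent.S13158

/-- Let R be a discrete valuation ring of characteristic zero whose maximal ideal contains the prime
number p, let n ≥ 1, and let λ be a nonzero element of R such that λ^(p^(n−1)(p−1)) divides p (the
condition v(p) ≥ p^(n−1)(p−1)·v(λ) under which the polynomial ((1 + λT)^(p^n) − 1)/λ^(p^n) has
coefficients in R). Let A be an integrally closed integral domain which is a faithfully flat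
R-algebra. Then for every unit x of A, λ^(p^n) divides x^(p^n) − 1 in A if and only if λ divides x −
1 in A. -/
theorem result (R : Type u) [CommRing R]
    [IsDomain R] [IsDiscreteValuationRing R] [CharZero R] (p n : ℕ) [Fact p.Prime] (hn : 1 ≤ n)
    (hp : (p : R) ∈ IsLocalRing.maximalIdeal R) (lam : R) (hlam : lam ≠ 0)
    (hstar : lam ^ (p ^ (n - 1) * (p - 1)) ∣ (p : R))
    (A : Type u) [CommRing A] [IsDomain A] [IsIntegrallyClosed A] [Algebra R A] [Module.FaithfullyFlat R A]
    (x : Aˣ) :
    (algebraMap R A lam ^ p ^ n ∣ (x : A) ^ p ^ n - 1) ↔ (algebraMap R A lam ∣ (x : A) - 1) := by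
  classical
  have hp' := (Fact.out : p.Prime)
  haveI : FaithfulSMul R A := inferInstance
  have hinjA : Function.Injective (algebraMap R A) := FaithfulSMul.algebraMap_injective R A
  set L := algebraMap R A lam
  have hL : L ≠ 0 := fun h => hlam (hinjA (h.trans (map_zero _).symm))
  set N := p ^ n with hN
  have hN0 : N ≠ 0 := (pow_pos hp'.pos n).ne'
  have hb : ∀ k, 1 ≤ k → k ≤ N → ∃ b : R, (N.choose k : R) * lam ^ k = b * lam ^ N := by
    intro k hk1 hkN
    set e := k.factorization p
    have he : p ^ e ≤ k := Nat.le_of_dvd hk1 (Nat.ordProj_dvd k p)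
    have hen : e ≤ n := (Nat.pow_le_pow_iff_right hp'.one_lt).1 (he.trans hkN)
    have hdvd : p ^ (n - e) ∣ N.choose k := by
      rw [hp'.pow_dvd_iff_le_factorization (Nat.choose_pos hkN).ne', hN, Nat.factorization_choose_prime_pow hp' hkN (by omega)]
    have hle : N ≤ (n - e) * (p ^ (n - 1) * (p - 1)) + k := by
      have : ∀ d, d ≤ n → p ^ n ≤ d * (p ^ (n - 1) * (p - 1)) + p ^ (n - d) := by
        intro d
        induction d with
        | zero => intro _; simp
        | succ d ih =>
          intro hd
          have h1 := ih (by omega)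
          have h2 : p ^ (n - d) ≤ p ^ (n - 1) * (p - 1) + p ^ (n - (d + 1)) := by
            have hh : p ^ (n - (d + 1)) ≤ p ^ (n - 1) := Nat.pow_le_pow_right hp'.pos (by omega)
            have e1 : p ^ (n - d) = p ^ (n - (d + 1)) * (p - 1) + p ^ (n - (d + 1)) := by
              rw [show n - d = (n - (d + 1)) + 1 by omega, pow_succ, ← Nat.mul_succ, Nat.succ_eq_add_one, Nat.sub_add_cancel hp'.one_le]
            rw [e1]
            exact Nat.add_le_add_right (Nat.mul_le_mul_right _ hh) _
          rw [Nat.succ_mul]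
          omega
      have := this (n - e) (Nat.sub_le _ _)
      rw [Nat.sub_sub_self hen] at this
      rw [hN]
      omega
    obtain ⟨c, hc⟩ := hdvd
    obtain ⟨u, hu⟩ := hstar
    refine ⟨(c : R) * u ^ (n - e) * lam ^ ((n - e) * (p ^ (n - 1) * (p - 1)) + k - N), ?_⟩
    rw [mul_assoc ((c : R) * u ^ (n - e)), ← pow_add, Nat.sub_add_cancel hle, hc, Nat.cast_mul, Nat.cast_pow, hu, mul_pow, ← pow_mul, mul_comm (p ^ (n - 1) * (p - 1)) (n - e), pow_add]
    ring
  choose! b hb using hb
  let Q : Polynomial A := ∑ k ∈ Finset.Icc 1 N, Polynomial.monomial k (algebraMap R A (b k))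
  have hQ : ∀ {B : Type u} [CommRing B] (g : A →+* B) (y : B), (1 + g L * y) ^ N - 1 = g L ^ N * Q.eval₂ g y := by
    intro B _ g y
    have hins : Finset.range (N + 1) = insert 0 (Finset.Icc 1 N) := by
      ext i
      simp
      omega
    rw [add_comm 1 (g L * y), add_pow, hins, Finset.sum_insert (by simp)]
    simp only [pow_zero, one_pow, Nat.choose_zero_right, Nat.cast_one, mul_one, add_sub_cancel_left, Q, Polynomial.eval₂_finsetSum, Polynomial.eval₂_monomial, Finset.mul_sum]
    refine Finset.sum_congr rfl fun k hk => ?_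
    obtain ⟨hk1, hk2⟩ := Finset.mem_Icc.1 hk
    have := congrArg (g.comp (algebraMap R A)) (hb k hk1 hk2)
    simp only [map_mul, map_pow, map_natCast, RingHom.comp_apply] at this
    calc (g L * y) ^ k * (N.choose k : B) = ((N.choose k : B) * g L ^ k) * y ^ k := by ring
      _ = g L ^ N * (g (algebraMap R A (b k)) * y ^ k) := by rw [this]; ring
  constructor
  · rintro ⟨d, hd⟩
    set F := FractionRing A
    let g := algebraMap A F
    have hgL : g L ≠ 0 := (map_ne_zero_iff g (IsFractionRing.injective A F)).2 hL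
    let y : F := (g (x : A) - 1) / g L
    have hy : Q.eval₂ g y = g d := by
      refine mul_left_cancel₀ (pow_ne_zero N hgL) ?_
      rw [← hQ g y, mul_div_cancel₀ _ hgL, add_sub_cancel, ← map_pow, ← map_pow, ← map_mul, ← hd, map_sub, map_one]
    have hbN : b N = 1 := by
      have := hb N (Nat.pos_of_ne_zero hN0) le_rfl
      rw [Nat.choose_self, Nat.cast_one, one_mul] at this
      exact mul_right_cancel₀ (pow_ne_zero N hlam) (by rw [one_mul]; exact this.symm)
    have hint : IsIntegral A y := by
      refine ⟨Q - Polynomial.C d, ?_, by rw [Polynomial.eval₂_sub, Polynomial.eval₂_C]; exact sub_eq_zero.2 hy⟩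
      have hsplit : Q = Polynomial.X ^ N + ∑ k ∈ Finset.Ico 1 N, Polynomial.monomial k (algebraMap R A (b k)) := by
        show ∑ k ∈ Finset.Icc 1 N, _ = _
        rw [← Finset.Ico_insert_right (Nat.pos_of_ne_zero hN0), Finset.sum_insert (by simp), hbN, map_one, Polynomial.monomial_one_right_eq_X_pow]
      rw [hsplit, add_sub_assoc]
      refine Polynomial.monic_X_pow_add (lt_of_le_of_lt (Polynomial.degree_sub_le _ _) (max_lt (lt_of_le_of_lt (Polynomial.degree_sum_le _ _) ?_) ?_))
      · refine (Finset.sup_lt_iff (WithBot.bot_lt_coe N)).2 fun j hj => ?_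
        exact lt_of_le_of_lt (Polynomial.degree_monomial_le _ _) (WithBot.coe_lt_coe.2 (Finset.mem_Ico.1 hj).2)
      · exact lt_of_le_of_lt Polynomial.degree_C_le (WithBot.coe_lt_coe.2 (Nat.pos_of_ne_zero hN0))
    obtain ⟨a, ha⟩ := IsIntegrallyClosed.isIntegral_iff.1 hint
    refine ⟨a, IsFractionRing.injective A F ?_⟩
    rw [map_mul, map_sub, map_one]
    show g (x : A) - 1 = g L * g a
    rw [show g a = y from ha, mul_div_cancel₀ _ hgL]
  · rintro ⟨c, hc⟩
    refine ⟨Q.eval₂ (RingHom.id A) c, ?_⟩
    have := hQ (RingHom.id A) c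
    rw [RingHom.id_apply, ← hc, add_sub_cancel] at this
    exact this

end Groth.Agent.S13158
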