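import Mathlib
import Groth.Statements.S13159
-- import your own Groth.Agent.* helpers here

set_option autoImplicit false
universe u
open CAlg

namespace Groth.Agent.S13159

/-- Let R be a discrete valuation ring with fraction field K, C an R-algebra which is finitely generated
as an R-module (the coordinate ring of a finite R-scheme G), and A an integral domain which is an
R-algebra with injective structure map and fraction field L, K → L being compatible, such that every
element of L algebraic over K lies in the image of K (the condition satisfied by the rings of
nonempty opens of an R-scheme with geometrically integral fibres). Then every R-algebra homomorphism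
C → A factors uniquely through the structure map R → A: the points of G with values in A are the
R-points of G. (The published statement is that for Y → Spec R with geometrically integral fibres
and G finite flat, the map H¹(Y, G) → H⁰(Y_Zar, R¹f_*G) from the Leray spectral sequence of Y_fl →
Y_Zar is bijective; this row is the step asserting that G restricted to the Zariski site of Y is the
constant sheaf G(R), for an affine open with function ring A.) -/
theorem result (R : Type u) [CommRing R]
    [IsDomain R] [IsDiscreteValuationRing R] (K : Type u) [Field K] [Algebra R K] [IsFractionRing R K]
    (C : Type u) [CommRing C] [Algebra R C] [Module.Finite R C]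
    (A : Type u) [CommRing A] [IsDomain A] [Algebra R A] (hinj : Function.Injective (algebraMap R A))
    (L : Type u) [Field L] [Algebra A L] [IsFractionRing A L] [Algebra R L] [Algebra K L]
    [IsScalarTower R A L] [IsScalarTower R K L]
    (hac : ∀ x : L, IsAlgebraic K x → x ∈ (algebraMap K L).range)
    (φ : C →ₐ[R] A) : ∃! ψ : C →ₐ[R] R, φ = (Algebra.ofId R A).comp ψ := by
  have hint : ∀ c : C, ∃ r : R, algebraMap R A r = φ c := by
    intro c
    have h1 : IsIntegral R (algebraMap A L (φ c)) := by
      have h0 := (Algebra.IsIntegral.isIntegral (R := R) c).map ((IsScalarTower.toAlgHom R A L).comp φ)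
      simpa using h0
    obtain ⟨k, hk⟩ := hac _ (h1.isAlgebraic.extendScalars (IsFractionRing.injective R K))
    have h2 : IsIntegral R k := by
      rw [← isIntegral_algebraMap_iff (A := K) (B := L) (algebraMap K L).injective, hk]
      exact h1
    obtain ⟨r, hr⟩ := IsIntegrallyClosed.isIntegral_iff.1 h2
    refine ⟨r, IsFractionRing.injective A L ?_⟩
    rw [← hk, ← hr, ← IsScalarTower.algebraMap_apply R A L, ← IsScalarTower.algebraMap_apply R K L]
  choose ψ hψ using hint
  refine ⟨{ toFun := ψ
            map_one' := hinj (by rw [hψ, map_one, map_one])
            map_mul' := fun a b => hinj (by rw [hψ, map_mul φ, map_mul (algebraMap R A), hψ, hψ])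
            map_zero' := hinj (by rw [hψ, map_zero, map_zero])
            map_add' := fun a b => hinj (by rw [hψ, map_add φ, map_add (algebraMap R A), hψ, hψ])
            commutes' := fun r => hinj (by rw [hψ, AlgHom.commutes]; rfl) }, ?_, ?_⟩
  · exact AlgHom.ext fun c => (hψ c).symm
  · intro ψ' h'
    exact AlgHom.ext fun c => hinj ((AlgHom.congr_fun h' c).symm.trans (hψ c).symm)

end Groth.Agent.S13159
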