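import Mathlib
import Groth.Statements.S1316
import Groth.Agent.S1313
import Groth.Agent.ThickProps.Descend
-- import your own Groth.Agent.* helpers here

set_option autoImplicit false
universe u
open FlatMor

namespace Groth.Agent.S1316

set_option backward.isDefEq.respectTransparency.types false

open AlgebraicGeometry CategoryTheory Limits in
/-- Let Y ⟶ Y' be a thickening, let X be the base change to Y of a scheme X' over Y', and assume both X
⟶ Y and X' ⟶ Y' are locally of finite type. Then X ⟶ Y is an immersion if and only if X' ⟶ Y' is. -/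
theorem result {X X' Y Y' : Scheme.{u}} (iX : X ⟶ X') (iY : Y ⟶ Y') (f : X ⟶ Y) (f' : X' ⟶ Y')
    (hY : MoreMor.IsThickening iY) (hc : IsPullback iX f f' iY) [LocallyOfFiniteType f] [LocallyOfFiniteType f'] :
    IsImmersion f ↔ IsImmersion f' := by
  haveI : IsClosedImmersion iY := hY.1
  haveI : Surjective iY := hY.2
  refine ⟨fun hf => ?_, fun hf => MorphismProperty.of_isPullback hc hf⟩
  have hU : IsOpen (iY '' (f.coborderRange : Set Y)) :=
    (ThickProps.universallyOpen_of_surjective_closedImmersion iY).universally_isOpenMap _ _ _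
      IsPullback.of_id_snd _ f.coborderRange.isOpen
  let U : Y'.Opens := ⟨iY '' (f.coborderRange : Set Y), hU⟩
  have hW : iY ⁻¹ᵁ U = f.coborderRange := TopologicalSpace.Opens.ext
    (Set.preimage_image_eq _ iY.isClosedEmbedding.injective)
  have hsub : Set.range f ⊆ (iY ⁻¹ᵁ U : Set Y) := by rw [hW]; exact subset_coborder
  have hbig : IsPullback ((f ⁻¹ᵁ (iY ⁻¹ᵁ U)).ι ≫ iX) (f ∣_ (iY ⁻¹ᵁ U)) f' ((iY ∣_ U) ≫ U.ι) := by
    rw [morphismRestrict_ι]
    exact (isPullback_morphismRestrict f (iY ⁻¹ᵁ U)).flip.paste_horiz hc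
  have hR := (isPullback_morphismRestrict f' U).flip
  have sq : IsPullback (hR.lift ((f ⁻¹ᵁ (iY ⁻¹ᵁ U)).ι ≫ iX) ((f ∣_ (iY ⁻¹ᵁ U)) ≫ (iY ∣_ U))
      (by rw [Category.assoc, Category.assoc]; simpa using hbig.w))
      (f ∣_ (iY ⁻¹ᵁ U)) (f' ∣_ U) (iY ∣_ U) := by
    refine IsPullback.of_right ?_ (hR.lift_snd _ _ _) hR
    rw [hR.lift_fst]
    exact hbig
  haveI : IsClosedImmersion (f ∣_ (iY ⁻¹ᵁ U)) := by
    refine IsClosedImmersion.of_isPreimmersion _ ?_
    rw [morphismRestrict_base]
    show IsClosed (Set.range ((iY ⁻¹ᵁ U : Set Y).restrictPreimage f))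
    rw [Set.range_restrictPreimage]
    have : IsClosed ((Subtype.val : ↥(f.coborderRange : Set Y) → Y) ⁻¹' Set.range f) := isClosed_preimage_val_coborder
    rw [hW]
    exact this
  haveI : IsClosedImmersion (iY ∣_ U) := IsZariskiLocalAtTarget.restrict (P := @IsClosedImmersion) hY.1 U
  haveI : Surjective (iY ∣_ U) := IsZariskiLocalAtTarget.restrict (P := @Surjective) hY.2 U
  haveI : LocallyOfFiniteType (f ∣_ (iY ⁻¹ᵁ U)) := inferInstance
  haveI : IsClosedImmersion (f' ∣_ U) :=
    (Groth.Agent.S1313.result _ _ _ _ ⟨inferInstance, inferInstance⟩ sq).1 inferInstance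
  have htop : f' ⁻¹ᵁ U = ⊤ := by
    haveI : Surjective iX := MorphismProperty.of_isPullback hc.flip hY.2
    refine TopologicalSpace.Opens.ext (Set.eq_univ_of_forall fun x' => ?_)
    obtain ⟨x, rfl⟩ := iX.surjective x'
    show f' (iX x) ∈ U
    rw [← Scheme.Hom.comp_apply, hc.w, Scheme.Hom.comp_apply]
    exact hsub ⟨x, rfl⟩
  haveI : IsIso (f' ⁻¹ᵁ U).ι := by rw [htop]; exact inferInstanceAs (IsIso X'.topIso.hom)
  have : IsImmersion ((f' ⁻¹ᵁ U).ι ≫ f') := by rw [← morphismRestrict_ι]; infer_instance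
  exact (MorphismProperty.cancel_left_of_respectsIso @IsImmersion _ _).mp this

end Groth.Agent.S1316
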