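import Groth.Statements.S13160
import Mathlib.RingTheory.WittVector.Frobenius
import Mathlib.RingTheory.DiscreteValuationRing.Basic
import Mathlib.Algebra.CharP.Quotient
import Mathlib.Algebra.Polynomial.Coeff

set_option autoImplicit false
universe u
open CAlg

namespace Groth.Agent.S13160

open Polynomial

/-- In a torsion-free ring, Witt addition of vectors with coordinates divisible by `t` is additive
modulo `t ^ p`. -/
theorem dvd_coeff_add {P : Type u} [CommRing P] (p : ℕ) [hp : Fact p.Prime] (t : P)
    (hcancel : ∀ (n : ℕ) (g : P), t ^ p ∣ (p : P) ^ n * g → t ^ p ∣ g)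
    (A B : WittVector p P) (hA : ∀ i, t ∣ A.coeff i) (hB : ∀ i, t ∣ B.coeff i) (n : ℕ) :
    t ^ p ∣ (A + B).coeff n - A.coeff n - B.coeff n := by
  induction n using Nat.strong_induction_on with
  | _ n ih =>
    apply hcancel n
    have h := map_add (WittVector.ghostComponent (R := P) n) A B
    simp only [WittVector.ghostComponent_apply, wittPolynomial_eq_sum_C_mul_X_pow, map_sum, map_mul, map_pow,
      MvPolynomial.aeval_C, MvPolynomial.aeval_X, map_natCast] at h
    rw [Finset.sum_range_succ, Finset.sum_range_succ, Finset.sum_range_succ] at h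
    simp only [Nat.sub_self, pow_zero, pow_one] at h
    have hbig : ∀ i ∈ Finset.range n, ∀ x : P, t ∣ x → t ^ p ∣ (p : P) ^ i * x ^ p ^ (n - i) := by
      intro i hi x hx
      refine Dvd.dvd.mul_left ((pow_dvd_pow t ?_).trans (pow_dvd_pow_of_dvd hx _)) _
      exact Nat.le_self_pow (by have := Finset.mem_range.mp hi; omega) p
    have hsum : ∀ X : WittVector p P, (∀ i ∈ Finset.range n, t ∣ X.coeff i) →
        t ^ p ∣ ∑ i ∈ Finset.range n, (p : P) ^ i * X.coeff i ^ p ^ (n - i) :=
      fun X hX => Finset.dvd_sum fun i hi => hbig i hi _ (hX i hi)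
    have hS : ∀ i ∈ Finset.range n, t ∣ (A + B).coeff i := fun i hi => by
      have h1 : t ∣ (A + B).coeff i - A.coeff i - B.coeff i :=
        (dvd_pow_self t hp.out.ne_zero).trans (ih i (Finset.mem_range.mp hi))
      have h2 := dvd_add (dvd_add h1 (hB i)) (hA i)
      rwa [sub_add_cancel, sub_add_cancel] at h2
    have key : (p : P) ^ n * ((A + B).coeff n - A.coeff n - B.coeff n) =
        (∑ i ∈ Finset.range n, (p : P) ^ i * A.coeff i ^ p ^ (n - i)) +
        (∑ i ∈ Finset.range n, (p : P) ^ i * B.coeff i ^ p ^ (n - i)) -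
        (∑ i ∈ Finset.range n, (p : P) ^ i * (A + B).coeff i ^ p ^ (n - i)) := by
      linear_combination h
    rw [key]
    exact dvd_sub (dvd_add (hsum A fun i _ => hA i) (hsum B fun i _ => hB i)) (hsum _ hS)

/-- Let R be a discrete valuation ring, p a prime number and λ an element of R dividing p (so that R/λR
is an 𝔽_p-algebra), and let a and b be p-typical Witt vectors with coefficients in R/λR which are
killed by the Frobenius endomorphism. Then the Witt sum a + b has components a_n + b_n for every n.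
(The published statement allows an arbitrary λ ∈ R and is stated for Witt vectors with finitely many
nonzero components; this row assumes that λ divides p, so that p = 0 in R/λR, and allows all Witt
vectors.) -/
theorem result (R : Type u) [CommRing R] [IsDomain R]
    [IsDiscreteValuationRing R] (p : ℕ) [Fact p.Prime] (lam : R) (hlam : lam ∣ (p : R))
    (a b : WittVector p (R ⧸ Ideal.span {lam})) (ha : WittVector.frobenius a = 0)
    (hb : WittVector.frobenius b = 0) (n : ℕ) : (a + b).coeff n = a.coeff n + b.coeff n := by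
  rcases subsingleton_or_nontrivial (R ⧸ Ideal.span {lam}) with hQ | hQ
  · exact Subsingleton.elim _ _
  have hp : p.Prime := Fact.out
  have hp0 : (p : (R ⧸ Ideal.span {lam})) = 0 := by
    rw [← map_natCast (Ideal.Quotient.mk (Ideal.span {lam})), Ideal.Quotient.eq_zero_iff_mem, Ideal.mem_span_singleton]
    exact hlam
  have : CharP (R ⧸ Ideal.span {lam}) p := by
    obtain ⟨q, hq⟩ := CharP.exists (R ⧸ Ideal.span {lam})
    rcases hp.eq_one_or_self_of_dvd q ((CharP.cast_eq_zero_iff (R ⧸ Ideal.span {lam}) q p).mp hp0) with h | h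
    · subst h; exact absurd (CharP.CharOne.subsingleton (R := R ⧸ Ideal.span {lam})) (not_subsingleton (R ⧸ Ideal.span {lam}))
    · rwa [h] at hq
  have hpow : ∀ (x : WittVector p (R ⧸ Ideal.span {lam})), WittVector.frobenius x = 0 → ∀ i, x.coeff i ^ p = 0 := fun x hx i => by
    have h := congrArg (fun w : WittVector p (R ⧸ Ideal.span {lam}) => w.coeff i) hx
    simpa [WittVector.coeff_frobenius_charP] using h
  -- a common factor `u` with `u ^ p = 0`
  obtain ⟨u, hu, hfac⟩ : ∃ u : (R ⧸ Ideal.span {lam}), u ^ p = 0 ∧ ∀ x : (R ⧸ Ideal.span {lam}), x ^ p = 0 → u ∣ x := by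
    rcases eq_or_ne lam 0 with h0 | h0
    · refine ⟨0, zero_pow hp.ne_zero, fun x hx => ?_⟩
      obtain ⟨y, rfl⟩ := Ideal.Quotient.mk_surjective x
      rw [← map_pow, Ideal.Quotient.eq_zero_iff_mem, Ideal.mem_span_singleton, h0, zero_dvd_iff, pow_eq_zero_iff hp.ne_zero] at hx
      simp [hx]
    obtain ⟨ϖ, hϖ⟩ := IsDiscreteValuationRing.exists_irreducible R
    obtain ⟨e, w, hw⟩ := IsDiscreteValuationRing.eq_unit_mul_pow_irreducible h0 hϖ
    set m := (e + p - 1) / p with hm
    have hem : e ≤ m * p := by
      have h1 := Nat.div_add_mod (e + p - 1) p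
      have h2 := Nat.mod_lt (e + p - 1) hp.pos
      rw [← hm, mul_comm p m] at h1
      omega
    refine ⟨Ideal.Quotient.mk _ (ϖ ^ m), ?_, fun x hx => ?_⟩
    · rw [← map_pow, Ideal.Quotient.eq_zero_iff_mem, Ideal.mem_span_singleton, hw, ← pow_mul,
        Units.mul_left_dvd]
      exact pow_dvd_pow _ hem
    · obtain ⟨y, rfl⟩ := Ideal.Quotient.mk_surjective x
      rcases eq_or_ne y 0 with rfl | hy
      · simp
      obtain ⟨k, v, hv⟩ := IsDiscreteValuationRing.eq_unit_mul_pow_irreducible hy hϖ
      rw [← map_pow, Ideal.Quotient.eq_zero_iff_mem, Ideal.mem_span_singleton, hw, hv, mul_pow, ← pow_mul,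
        Units.mul_left_dvd, ← Units.val_pow_eq_pow_val, Units.dvd_mul_left, pow_dvd_pow_iff hϖ.ne_zero hϖ.not_isUnit] at hx
      refine map_dvd _ ?_
      rw [hv, Units.dvd_mul_left]
      refine pow_dvd_pow _ ?_
      rw [hm, Nat.div_le_iff_le_mul_add_pred hp.pos, mul_comm]
      omega
  choose a' ha' using fun i => hfac _ (hpow a ha i)
  choose b' hb' using fun i => hfac _ (hpow b hb i)
  let P := Polynomial (MvPolynomial (Bool × ℕ) ℤ)
  let Φ : P →+* (R ⧸ Ideal.span {lam}) := Polynomial.eval₂RingHom
    (MvPolynomial.eval₂Hom (Int.castRingHom (R ⧸ Ideal.span {lam})) (fun z => if z.1 then a' z.2 else b' z.2)) u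
  let A : WittVector p P := WittVector.mk p fun i => X * C (MvPolynomial.X (true, i))
  let B : WittVector p P := WittVector.mk p fun i => X * C (MvPolynomial.X (false, i))
  have hcancel : ∀ (m : ℕ) (g : P), (X : P) ^ p ∣ (p : P) ^ m * g → (X : P) ^ p ∣ g := by
    intro m g hg
    rw [X_pow_dvd_iff] at hg ⊢
    intro d hd
    have h := hg d hd
    rw [← Nat.cast_pow, coeff_natCast_mul] at h
    exact (mul_eq_zero.mp h).resolve_left (Nat.cast_ne_zero.mpr (pow_ne_zero _ hp.ne_zero))
  have h := map_dvd Φ (dvd_coeff_add p (X : P) hcancel A B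
    (fun i => by simp [A]) (fun i => by simp [B]) n)
  have hΦX : Φ X = u := Polynomial.eval₂_X _ _
  have hA : WittVector.map Φ A = a := by
    ext i; rw [WittVector.map_coeff]; show Φ (X * C (MvPolynomial.X (true, i))) = _; rw [map_mul, hΦX, ha']; congr 1; exact (Polynomial.eval₂_C _ _).trans (by simp)
  have hB : WittVector.map Φ B = b := by
    ext i; rw [WittVector.map_coeff]; show Φ (X * C (MvPolynomial.X (false, i))) = _; rw [map_mul, hΦX, hb']; congr 1; exact (Polynomial.eval₂_C _ _).trans (by simp)
  rw [map_pow, hΦX, hu, zero_dvd_iff, map_sub, map_sub, ← WittVector.map_coeff, ← WittVector.map_coeff, ← WittVector.map_coeff,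
    map_add, hA, hB, sub_sub, sub_eq_zero] at h
  exact h

end Groth.Agent.S13160
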