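import Mathlib
import Groth.Statements.S13161
-- import your own Groth.Agent.* helpers here

set_option autoImplicit false
universe u
open scoped TensorProduct
open CAlg

namespace Groth.Agent.S13161

/-- Let R be a discrete valuation ring with fraction field K, A an R-algebra which is semireflexive as
an R-module (the map to its double dual is injective: every nonzero a ∈ A has an R-linear form f : A
→ R with f(a) ≠ 0), and B an A-algebra which is finitely generated as an A-module and flat over R.
Suppose B ⊗ K is semireflexive as a module over A ⊗ K, which for such B amounts to: every nonzero b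
∈ B has an A-linear map g : B → A ⊗_R K with g(b) ≠ 0. Then B is semireflexive as an R-module: every
nonzero b ∈ B has an R-linear form h : B → R with h(b) ≠ 0. (The published statement phrases the
hypothesis on B_K as an A_K-module; for B flat over R and finite over A this is the elementwise
condition used here.) -/
theorem result (R : Type u) [CommRing R] [IsDomain R]
    [IsDiscreteValuationRing R] (K : Type u) [Field K] [Algebra R K] [IsFractionRing R K]
    (A B : Type u) [CommRing A] [CommRing B] [Algebra R A] [Algebra R B] [Algebra A B] [IsScalarTower R A B]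
    [Module.Finite A B] [Module.Flat R B]
    (hA : ∀ a : A, a ≠ 0 → ∃ f : A →ₗ[R] R, f a ≠ 0)
    (hBK : ∀ b : B, b ≠ 0 → ∃ g : B →ₗ[A] A ⊗[R] K, g b ≠ 0) :
    ∀ b : B, b ≠ 0 → ∃ h : B →ₗ[R] R, h b ≠ 0 := by
  intro b hb
  obtain ⟨g, hg⟩ := hBK b hb
  classical
  obtain ⟨s, hs⟩ := Module.Finite.fg_top (R := A) (M := B)
  have hfrac : ∀ x : A ⊗[R] K, ∃ r : R, r ≠ 0 ∧ ∃ a : A, r • x = a ⊗ₜ[R] 1 := by
    intro x
    induction x using TensorProduct.induction_on with
    | zero => exact ⟨1, one_ne_zero, 0, by simp⟩
    | tmul a c =>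
      obtain ⟨⟨n, d⟩, h⟩ := IsLocalization.surj (nonZeroDivisors R) c
      refine ⟨d.1, nonZeroDivisors.ne_zero d.2, n • a, ?_⟩
      rw [← TensorProduct.tmul_smul, TensorProduct.smul_tmul, Algebra.smul_def, mul_comm, h, Algebra.smul_def, mul_one]
    | add x y hx hy =>
      obtain ⟨r, hr, a, ha⟩ := hx
      obtain ⟨r', hr', a', ha'⟩ := hy
      refine ⟨r * r', mul_ne_zero hr hr', r' • a + r • a', ?_⟩
      rw [smul_add, TensorProduct.add_tmul, ← TensorProduct.smul_tmul', ← TensorProduct.smul_tmul', ← ha, ← ha',
        smul_smul, smul_smul, mul_comm r']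
  have : Module.IsTorsionFree R A := by
    refine ⟨fun r hr => fun a a' e => sub_eq_zero.1 (by_contra fun h => ?_)⟩
    obtain ⟨φ, hφ⟩ := hA _ h
    refine hφ (hr.left.mul_left_eq_zero_iff.1 ?_)
    rw [← smul_eq_mul, ← map_smul, smul_sub, show r • a = r • a' from e, sub_self, map_zero]
  have : Module.Flat R A := IsDedekindDomain.flat_iff_torsion_eq_bot.2 ((Submodule.isTorsionFree_iff_torsion_eq_bot).1 this)
  let i : A →ₗ[A] A ⊗[R] K := TensorProduct.AlgebraTensorModule.mk R A A K |>.flip 1
  have hi : Function.Injective i := Algebra.TensorProduct.includeLeft_injective (S := R) (IsFractionRing.injective R K)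
  choose r hr a ha using fun x : B => hfrac (g x)
  let r₀ := ∏ x ∈ s, r x
  have hr₀ : r₀ ≠ 0 := Finset.prod_ne_zero_iff.2 fun x _ => hr x
  have hmem : ∀ x : B, r₀ • g x ∈ LinearMap.range i := by
    intro x
    have hx : x ∈ Submodule.span A (s : Set B) := hs ▸ trivial
    induction hx using Submodule.span_induction with
    | mem x hx =>
      refine ⟨(∏ y ∈ s.erase x, r y) • a x, ?_⟩
      show i ((∏ y ∈ s.erase x, r y) • a x) = (∏ y ∈ s, r y) • g x
      rw [← Finset.mul_prod_erase s r hx, mul_comm, mul_smul, ha]
      rfl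
    | zero => simp
    | add x y _ _ hx hy => rw [map_add, smul_add]; exact add_mem hx hy
    | smul c x _ hx => rw [map_smul, smul_comm]; exact Submodule.smul_mem _ c hx
  let g' : B →ₗ[A] A := (LinearEquiv.ofInjective i hi).symm.toLinearMap ∘ₗ (r₀ • g).codRestrict (LinearMap.range i) hmem
  have hne : g' b ≠ 0 := by
    intro h
    have h1 : i (g' b) = r₀ • g b := by
      simp [g', LinearEquiv.ofInjective_symm_apply]
    rw [h, map_zero] at h1
    obtain ⟨r', hr', a', ha'⟩ := hfrac (g b)
    apply hg
    have hu : IsUnit (algebraMap R K r₀) := (map_ne_zero_iff _ (IsFractionRing.injective R K)).2 hr₀ |>.isUnit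
    have hid : ∀ x : A ⊗[R] K, LinearMap.lTensor A (LinearMap.mulLeft R (↑hu.unit⁻¹ : K)) (r₀ • x) = x := fun x => by
      induction x using TensorProduct.induction_on with
      | zero => simp
      | tmul a c =>
        rw [← TensorProduct.tmul_smul, LinearMap.lTensor_tmul, LinearMap.mulLeft_apply, Algebra.smul_def, ← mul_assoc,
          IsUnit.val_inv_mul, one_mul]
      | add x y hx hy => rw [smul_add, map_add, hx, hy]
    have := hid (g b)
    rw [← h1, map_zero] at this
    exact this.symm
  obtain ⟨φ, hφ⟩ := hA _ hne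
  exact ⟨φ ∘ₗ g'.restrictScalars R, hφ⟩

end Groth.Agent.S13161
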