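import Mathlib
import Groth.Statements.S13162
-- import your own Groth.Agent.* helpers here

set_option autoImplicit false
universe u v
open ZeroCyc

namespace Groth.Agent.S13162

/-- Let a finite group G act on a commutative ring A by ring automorphisms and let p be a prime such
that every integer prime to p is a unit in A. If I is an ideal of A and f ∈ A has G-invariant class
modulo I, then f^(p^k) is congruent modulo I to a G-invariant element of A, where p^k is the exact
power of p dividing the order of G. (The published statement assumes I stable under G, so that G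
acts on A/I and the claim reads: the p^k-th power of an invariant of A/I lies in the image of the
invariants of A; the form here asks only that the class of f be invariant.) -/
theorem result {A : Type u} [CommRing A] {G : Type v} [Group G] [Fintype G]
    [MulSemiringAction G A] (p : ℕ) [Fact p.Prime]
    (hA : ∀ m : ℕ, ¬ p ∣ m → IsUnit (m : A))
    (I : Ideal A) (f : A) (hf : ∀ g : G, g • f - f ∈ I) :
    ∃ a : A, (∀ g : G, g • a = a) ∧ a - f ^ (p ^ (Fintype.card G).factorization p) ∈ I := by
  classical
  set k := (Fintype.card G).factorization p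
  have hdvd : p ^ k ∣ Nat.card G := by rw [Nat.card_eq_fintype_card]; exact Nat.ordProj_dvd _ _
  obtain ⟨H, hH⟩ := Sylow.exists_subgroup_card_pow_prime p hdvd
  have hf' : ∀ g : G, Ideal.Quotient.mk I (g • f) = Ideal.Quotient.mk I f := fun g => Ideal.Quotient.eq.2 (hf g)
  set n : A := ∏ h : H, (h : G) • f with hn
  have hnH : ∀ h : H, (h : G) • n = n := fun h => by
    rw [hn, Finset.smul_prod']
    exact Fintype.prod_equiv (Equiv.mulLeft h) _ _ fun a => (mul_smul (h : G) (a : G) f).symm
  have hgn : ∀ g : G, Ideal.Quotient.mk I (g • n) = Ideal.Quotient.mk I f ^ (p ^ k) := fun g => by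
    rw [hn, Finset.smul_prod', map_prod]
    simp only [← mul_smul, hf']
    rw [Finset.prod_const, Finset.card_univ, Fintype.card_eq_nat_card, hH]
  let F : G ⧸ H → A := Quotient.lift (fun g : G => g • n) fun a b hab => by
    have h : a⁻¹ * b ∈ H := QuotientGroup.leftRel_apply.1 hab
    show a • n = b • n
    conv_lhs => rw [← hnH ⟨_, h⟩]
    rw [← mul_smul, mul_inv_cancel_left]
  haveI : Fintype (G ⧸ H) := Fintype.ofFinite _
  set m := Fintype.card (G ⧸ H) with hm
  have hmn : ¬ p ∣ m := by
    have h1 := Subgroup.card_eq_card_quotient_mul_card_subgroup H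
    rw [hH, Nat.card_eq_fintype_card, Nat.card_eq_fintype_card, ← hm] at h1
    have h2 := Nat.not_dvd_ordCompl (n := Fintype.card G) (Fact.out : p.Prime) Fintype.card_ne_zero
    intro h
    apply h2
    show p ∣ Fintype.card G / p ^ k
    rwa [h1, Nat.mul_div_cancel _ (pow_pos (Fact.out : p.Prime).pos _)]
  obtain ⟨c, hc⟩ := (hA m hmn).exists_left_inv
  have hcG : ∀ g : G, g • c = c := fun g => by
    have h := congrArg (g • ·) hc
    simp only [smul_mul', smul_one] at h
    rw [show g • (m : A) = m from map_natCast (MulSemiringAction.toRingHom G A g) m] at h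
    exact (hA m hmn).mul_left_injective (h.trans hc.symm)
  refine ⟨c * ∑ q, F q, fun g => ?_, ?_⟩
  · rw [smul_mul', hcG, Finset.smul_sum]
    congr 1
    refine Fintype.sum_equiv (MulAction.toPerm g) _ _ fun q => ?_
    induction q using QuotientGroup.induction_on with
    | _ a => show g • a • n = (g * a) • n; rw [mul_smul]
  · rw [← Ideal.Quotient.eq, map_mul, map_sum, map_pow]
    rw [Finset.sum_congr rfl (g := fun _ => Ideal.Quotient.mk I f ^ (p ^ k)) (fun q _ => by
      induction q using QuotientGroup.induction_on with
      | _ a => exact hgn a)]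
    rw [Finset.sum_const, Finset.card_univ, ← hm, nsmul_eq_mul, ← mul_assoc, ← map_natCast (Ideal.Quotient.mk I), ← map_mul, hc, map_one, one_mul]

end Groth.Agent.S13162
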