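import Mathlib
import Groth.Statements.S13163
-- import your own Groth.Agent.* helpers here

set_option autoImplicit false
universe u
open ZeroCyc

namespace Groth.Agent.S13163

open Polynomial in
/-- Let P_d(T) = ∏_{0 ≤ i < j ≤ d} (T^i − T^j) − 1 ∈ ℤ[T]. Every residue field of ℤ[T]/(P_d), i.e. every
field receiving a ring homomorphism from it, has at least d + 1 elements. -/
theorem result (d : ℕ) (k : Type u) [Field k]
    (φ : (ℤ[X] ⧸ Ideal.span {(∏ j ∈ Finset.range (d + 1), ∏ i ∈ Finset.range j,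
        ((X : ℤ[X]) ^ i - X ^ j)) - 1}) →+* k) :
    ((d + 1 : ℕ) : Cardinal) ≤ Cardinal.mk k := by
  classical
  let x : k := φ (Ideal.Quotient.mk _ X)
  have h1 : ∏ j ∈ Finset.range (d + 1), ∏ i ∈ Finset.range j, (x ^ i - x ^ j) = 1 := by
    have h := congrArg φ (Ideal.Quotient.eq.mpr (Ideal.mem_span_singleton_self
      ((∏ j ∈ Finset.range (d + 1), ∏ i ∈ Finset.range j, ((X : ℤ[X]) ^ i - X ^ j)) - 1)))
    simpa [x, map_prod] using h
  have hinj : Set.InjOn (fun i => x ^ i) (Finset.range (d + 1) : Set ℕ) := by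
    intro i hi j hj hij
    by_contra hne
    rcases Nat.lt_or_gt_of_ne hne with h | h
    · exact one_ne_zero (h1.symm.trans (Finset.prod_eq_zero (Finset.mem_coe.mp hj) (Finset.prod_eq_zero (Finset.mem_range.mpr h) (sub_eq_zero.mpr hij))))
    · exact one_ne_zero (h1.symm.trans (Finset.prod_eq_zero (Finset.mem_coe.mp hi) (Finset.prod_eq_zero (Finset.mem_range.mpr h) (sub_eq_zero.mpr hij.symm))))
  have h2 := (Finset.card_image_of_injOn hinj).trans (Finset.card_range (d + 1))
  rw [← h2, ← Cardinal.mk_coe_finset]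
  exact Cardinal.mk_set_le _

end Groth.Agent.S13163
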