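import Groth.Statements.S13166
import Mathlib
-- import your own Groth.Agent.* helpers here

set_option autoImplicit false
universe u
open ZeroCyc

namespace Groth.Agent.S13166

open Finset in
theorem exists_notMem {ι K M : Type*} [Field K] [AddCommGroup M] [Module K M] (p : ι → Submodule K M)
    (s : Finset ι) (h1 : ∀ i ∈ s, p i ≠ ⊤) (h2 : (s.card : Cardinal) ≤ Cardinal.mk K) :
    ∃ x, ∀ i ∈ s, x ∉ p i := by
  classical
  induction s using Finset.induction_on with
  | empty => exact ⟨0, by simp⟩
  | insert j s hj ih =>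
    obtain ⟨x, hx⟩ := ih (fun i hi => h1 i (Finset.mem_insert_of_mem hi))
      (le_trans (by exact_mod_cast Finset.card_le_card (Finset.subset_insert j s)) h2)
    by_contra hcon
    push Not at hcon
    have hxj : x ∈ p j := by
      obtain ⟨i, hi, hxi⟩ := hcon x
      rcases Finset.mem_insert.mp hi with rfl | hi
      · exact hxi
      · exact absurd hxi (hx i hi)
    obtain ⟨y, hy⟩ : ∃ y, y ∉ p j := by
      by_contra hy
      push Not at hy
      exact h1 j (Finset.mem_insert_self j s) (eq_top_iff.mpr fun z _ => hy z)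
    obtain ⟨k0, hk0, hyk⟩ : ∃ k0 ∈ s, y ∈ p k0 := by
      obtain ⟨i, hi, hyi⟩ := hcon y
      rcases Finset.mem_insert.mp hi with rfl | hi
      · exact absurd hyi hy
      · exact ⟨i, hi, hyi⟩
    have hg : ∀ t : {t : K // t ≠ 0}, ∃ k : s.erase k0, x + (t : K) • y ∈ p k := by
      rintro ⟨t, ht⟩
      obtain ⟨i, hi, hxy⟩ := hcon (x + t • y)
      rcases Finset.mem_insert.mp hi with rfl | hi
      · exact absurd ((Submodule.smul_mem_iff _ ht).mp ((Submodule.add_mem_iff_right _ hxj).mp hxy)) hy
      · refine ⟨⟨i, Finset.mem_erase.mpr ⟨?_, hi⟩⟩, hxy⟩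
        rintro rfl
        exact hx _ hk0 ((Submodule.add_mem_iff_left _ (Submodule.smul_mem _ t hyk)).mp hxy)
    choose g hg using hg
    have hinj : Function.Injective g := by
      intro t t' he
      by_contra hne
      have hd := Submodule.sub_mem _ (hg t) (he ▸ hg t')
      rw [add_sub_add_left_eq_sub, ← sub_smul] at hd
      have hne' : (t : K) - (t' : K) ≠ 0 := sub_ne_zero.mpr fun h => hne (Subtype.ext h)
      have hyt := (Submodule.smul_mem_iff _ hne').mp hd
      have hs : ((g t : ι) ∈ s) := (Finset.mem_erase.mp (g t).2).2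
      exact hx _ hs ((Submodule.add_mem_iff_left _ (Submodule.smul_mem _ _ hyt)).mp (hg t))
    have : Finite {t : K // t ≠ 0} := Finite.of_injective g hinj
    have hK : Finite K := by
      have hf : ({t : K | t ≠ 0}).Finite := Set.finite_coe_iff.mp this
      exact Set.finite_univ_iff.mp ((hf.insert 0).subset fun t _ => by
        by_cases h : t = 0 <;> simp [h])
    have := Fintype.ofFinite K
    have hc := Fintype.card_le_of_injective g hinj
    rw [Fintype.card_coe, Finset.card_erase_of_mem hk0, Fintype.card_subtype_compl,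
      Fintype.card_subtype_eq] at hc
    rw [Cardinal.mk_fintype, Nat.cast_le, Finset.card_insert_of_notMem hj] at h2
    have : 0 < s.card := Finset.card_pos.mpr ⟨k0, hk0⟩
    omega

/-- Let k be a field, B a k-algebra generated as an algebra by a k-subspace V, k'/k a field extension
and x_1, …, x_d pairwise distinct k'-points of B ⊗_k k' (equivalently, distinct k-algebra
homomorphisms B → k'). If k has at least d(d − 1)/2 elements, then there is b ∈ V whose values at
x_1, …, x_d are pairwise distinct. -/
theorem result {k : Type u} [Field k] {B : Type u} [CommRing B] [Algebra k B] (V : Submodule k B)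
    (hV : Algebra.adjoin k (V : Set B) = ⊤) {k' : Type u} [Field k'] [Algebra k k']
    {d : ℕ} (x : Fin d → (B →ₐ[k] k')) (hx : Function.Injective x)
    (hk : ((d.choose 2 : ℕ) : Cardinal) ≤ Cardinal.mk k) :
    ∃ b ∈ V, Function.Injective fun i => x i b := by
  classical
  let L : Fin d → (V →ₗ[k] k') := fun i => (x i).toLinearMap ∘ₗ V.subtype
  let W : Finset (Fin d) → Submodule k V := fun S => ⨅ a ∈ S, ⨅ c ∈ S, LinearMap.ker (L a - L c)
  have hW : ∀ S ∈ (Finset.univ : Finset (Fin d)).powersetCard 2, W S ≠ ⊤ := by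
    intro S hS hTop
    obtain ⟨a, c, hac, rfl⟩ := Finset.card_eq_two.mp (Finset.mem_powersetCard.mp hS).2
    refine hac (hx (AlgHom.ext_of_adjoin_eq_top hV fun v hv => ?_))
    have hmem : (⟨v, hv⟩ : V) ∈ W {a, c} := hTop ▸ Submodule.mem_top
    simp only [W, Submodule.mem_iInf] at hmem
    exact sub_eq_zero.mp (hmem a (by simp) c (by simp))
  obtain ⟨b, hb⟩ := exists_notMem W _ hW (by
    rwa [Finset.card_powersetCard, Finset.card_univ, Fintype.card_fin])
  refine ⟨b, b.2, fun i j hij => ?_⟩
  by_contra hne
  refine hb {i, j} (Finset.mem_powersetCard.mpr ⟨Finset.subset_univ _, Finset.card_pair hne⟩) ?_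
  simp only [W, Submodule.mem_iInf]
  intro a ha c hc
  simp only [Finset.mem_insert, Finset.mem_singleton] at ha hc
  rw [LinearMap.mem_ker, LinearMap.sub_apply, sub_eq_zero]
  rcases ha with rfl | rfl <;> rcases hc with rfl | rfl
  · rfl
  · exact hij
  · exact hij.symm
  · rfl

end Groth.Agent.S13166
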