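import Groth.Statements.S13167
import Mathlib
-- import your own Groth.Agent.* helpers here

set_option autoImplicit false
universe u
open AlgebraicGeometry
open ZeroCyc

namespace Groth.Agent.S13167

/-- Let B be a graded R-algebra generated by its degree-one part B_1, with B_1 a finitely generated
R-module, and let x_1, …, x_d be points of X = Proj B lying over one and the same prime p of R. If
the residue field of p has at least d elements, then some f ∈ B_1 ⊆ Γ(X, O_X(1)) has all the x_i in
D_+(f). (Without the hypothesis on the residue field such an f exists in some B_n with n ≥ 1; that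
first assertion is a known property of ample sheaves and is not restated here.) -/
theorem result {R A : Type u} [CommRing R] [CommRing A] [Algebra R A] (𝒜 : ℕ → Submodule R A) [GradedAlgebra 𝒜]
    (hgen : Algebra.adjoin R (𝒜 1 : Set A) = ⊤) (hfg : (𝒜 1).FG)
    (p : Ideal R) [p.IsPrime] {d : ℕ} (x : Fin d → Proj 𝒜)
    (hx : ∀ i, ((x i).asHomogeneousIdeal.toIdeal).comap (algebraMap R A) = p)
    (hcard : (d : Cardinal) ≤ Cardinal.mk p.ResidueField) :
    ∃ g ∈ 𝒜 1, ∀ i, x i ∈ Proj.basicOpen 𝒜 g := by
  classical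
  obtain ⟨t, ht⟩ : ∃ t : Fin d → R, ∀ a b, t a - t b ∈ p → a = b := by
    have hc : (d : Cardinal) ≤ Cardinal.mk (R ⧸ p) := by
      rcases finite_or_infinite (R ⧸ p) with h | h
      · haveI : IsDomain (R ⧸ p) := Ideal.Quotient.isDomain p
        have hf : IsField (R ⧸ p) := Finite.isField_of_domain _
        have hsurj := (IsFractionRing.surjective_iff_isField (R := R ⧸ p) (K := p.ResidueField)).2 hf
        exact hcard.trans (by simpa using Cardinal.mk_le_of_surjective hsurj)
      · exact (Cardinal.natCast_le_aleph0 (n := d)).trans (Cardinal.aleph0_le_mk _)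
    obtain ⟨f⟩ : Nonempty (ULift.{u} (Fin d) ↪ R ⧸ p) := by
      rw [← Cardinal.le_def]; simpa using hc
    choose t ht using fun a : Fin d => Ideal.Quotient.mk_surjective (f ⟨a⟩)
    refine ⟨t, fun a b h => ULift.up.inj (f.injective ?_)⟩
    rw [← ht a, ← ht b]
    exact Ideal.Quotient.eq.2 h
  have hne : ∀ i, ∃ y ∈ 𝒜 1, y ∉ (x i).asHomogeneousIdeal.toIdeal := by
    intro i
    by_contra! h
    refine (x i).not_irrelevant_le ?_
    intro a ha
    change GradedRing.proj 𝒜 0 a = 0 at ha
    show a ∈ (x i).asHomogeneousIdeal.toIdeal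
    have key : ∀ b : A, b - GradedRing.proj 𝒜 0 b ∈ (x i).asHomogeneousIdeal.toIdeal := by
      intro b
      have hb : b ∈ Algebra.adjoin R (𝒜 1 : Set A) := hgen ▸ Algebra.mem_top
      induction hb using Algebra.adjoin_induction with
      | mem z hz =>
        rw [GradedRing.proj_apply, DirectSum.decompose_of_mem_ne 𝒜 hz (one_ne_zero), sub_zero]
        exact h z hz
      | algebraMap r =>
        rw [GradedRing.proj_apply, DirectSum.decompose_of_mem_same 𝒜 (SetLike.algebraMap_mem_graded 𝒜 r), sub_self]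
        exact zero_mem _
      | add z w _ _ hz hw => rw [map_add, add_sub_add_comm]; exact add_mem hz hw
      | mul z w _ _ hz hw =>
        have : GradedRing.proj 𝒜 0 (z * w) = GradedRing.proj 𝒜 0 z * GradedRing.proj 𝒜 0 w :=
          map_mul (GradedRing.projZeroRingHom 𝒜) z w
        rw [this, show z * w - GradedRing.proj 𝒜 0 z * GradedRing.proj 𝒜 0 w =
          (z - GradedRing.proj 𝒜 0 z) * w + GradedRing.proj 𝒜 0 z * (w - GradedRing.proj 𝒜 0 w) by ring]
        exact add_mem (Ideal.mul_mem_right _ _ hz) (Ideal.mul_mem_left _ _ hw)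
    simpa [ha] using key a
  suffices ∀ m : ℕ, m ≤ d → ∃ g ∈ 𝒜 1, ∀ i : Fin d, i.val < m → g ∉ (x i).asHomogeneousIdeal.toIdeal by
    obtain ⟨g, hg, hgi⟩ := this d le_rfl
    exact ⟨g, hg, fun i => hgi i i.2⟩
  intro m
  induction m with
  | zero => exact fun _ => ⟨0, zero_mem _, fun i hi => absurd hi (Nat.not_lt_zero _)⟩
  | succ m ih =>
    intro hm
    obtain ⟨g, hg, hgi⟩ := ih (by omega)
    let j : Fin d := ⟨m, by omega⟩
    by_cases hgj : g ∈ (x j).asHomogeneousIdeal.toIdeal
    swap
    · refine ⟨g, hg, fun i hi => ?_⟩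
      rcases Nat.lt_succ_iff_lt_or_eq.1 hi with h | h
      · exact hgi i h
      · rwa [show i = j from Fin.ext h]
    obtain ⟨y, hy, hyj⟩ := hne j
    have hex : ∃ a : Fin d, a.val ≤ m ∧
        ∀ i : Fin d, i.val < m → y + t a • g ∉ (x i).asHomogeneousIdeal.toIdeal := by
      by_contra! hall
      choose F hF1 hF2 using fun a : Fin (m + 1) => hall ⟨a, by omega⟩ (Nat.lt_succ_iff.1 a.2)
      obtain ⟨a, b, hab, heq⟩ := Fintype.exists_ne_map_eq_of_card_lt
        (fun a => (⟨(F a).val, hF1 a⟩ : Fin m)) (by simp)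
      have hFeq : F a = F b := Fin.ext (congrArg Fin.val heq :)
      have h2 := sub_mem (hF2 a) (hFeq.symm ▸ hF2 b : _)
      rw [add_sub_add_left_eq_sub, ← sub_smul, Algebra.smul_def] at h2
      rcases ((x (F a)).isPrime.mem_or_mem h2) with h3 | h3
      · exact hab (Fin.ext (congrArg Fin.val (ht _ _ (by rw [← hx (F a)]; exact h3)) :))
      · exact hgi _ (hF1 a) h3
    obtain ⟨a, -, ha⟩ := hex
    refine ⟨y + t a • g, add_mem hy (Submodule.smul_mem _ _ hg), fun i hi => ?_⟩
    rcases Nat.lt_succ_iff_lt_or_eq.1 hi with h | h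
    · exact ha i h
    · rw [show i = j from Fin.ext h]
      intro hmem
      refine hyj ?_
      have h4 := sub_mem hmem (Submodule.smul_of_tower_mem (x j).asHomogeneousIdeal.toIdeal (t a) hgj)
      rwa [add_sub_cancel_right] at h4

end Groth.Agent.S13167
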