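import Groth.Statements.S13168
import Groth.Agent.GrBasics.Monomial
import Groth.Agent.GrBasics.Core

set_option autoImplicit false
universe u
open AlgebraicGeometry
open ZeroCyc

namespace Groth.Agent.S13168

/-- Let B be a graded R-algebra generated by homogeneous elements f_1, …, f_s of positive degrees d_1,
…, d_s, let l be the least common multiple of the d_i and X = Proj B. For n = a l with a ≥ 1, X is
the union of the opens D_+(g), g ∈ B_n. -/
theorem result {R A : Type u} [CommRing R] [CommRing A] [Algebra R A] (𝒜 : ℕ → Submodule R A) [GradedAlgebra 𝒜]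
    {s : ℕ} (f : Fin s → A) (deg : Fin s → ℕ) (hdeg : ∀ i, 0 < deg i) (hf : ∀ i, f i ∈ 𝒜 (deg i))
    (hgen : Algebra.adjoin R (Set.range f) = ⊤) (a : ℕ) (ha : 0 < a) :
    (⨆ g : 𝒜 (a * Finset.univ.lcm deg), Proj.basicOpen 𝒜 (g : A)) = ⊤ := by
  classical
  rw [eq_top_iff]
  intro x _
  obtain ⟨i, hi⟩ : ∃ i, f i ∉ x.asHomogeneousIdeal.toIdeal := by
    by_contra hc
    push Not at hc
    refine x.not_irrelevant_le ((HomogeneousIdeal.irrelevant_le 𝒜).mpr fun n hn b hb => ?_)
    have hb' := GrBasics.piece_le_span_monomial 𝒜 f deg hf hgen n hb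
    refine Submodule.span_induction ?_ (Submodule.zero_mem _) (fun _ _ _ _ hx hy => add_mem hx hy)
      (fun r y _ hy => by rw [Algebra.smul_def]; exact Ideal.mul_mem_left _ _ hy) hb'
    rintro _ ⟨c, hsum, rfl⟩
    obtain ⟨j, _, hj⟩ := Finset.exists_ne_zero_of_sum_ne_zero (hsum.symm ▸ hn.ne' : ∑ j, c j * deg j ≠ 0)
    rw [← Finset.mul_prod_erase _ _ (Finset.mem_univ j)]
    exact Ideal.mul_mem_right _ _ (Ideal.pow_mem_of_mem _ (hc j) _ (Nat.pos_of_ne_zero (left_ne_zero_of_mul hj)))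
  obtain ⟨q, hq⟩ := Finset.dvd_lcm (f := deg) (Finset.mem_univ i)
  refine TopologicalSpace.Opens.mem_iSup.mpr ⟨⟨f i ^ (q * a), ?_⟩, fun h => hi (x.isPrime.mem_of_pow_mem _ h)⟩
  have := SetLike.pow_mem_graded (q * a) (hf i)
  rwa [smul_eq_mul, show q * a * deg i = a * Finset.univ.lcm deg by rw [hq]; ring] at this

end Groth.Agent.S13168
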