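import Groth.Statements.S13171
import Groth.Agent.ProjTwist.Generated
-- import your own Groth.Agent.* helpers here

set_option autoImplicit false
universe u
open AlgebraicGeometry
open ZeroCyc

namespace Groth.Agent.S13171

/-- Let B be a graded R-algebra generated by homogeneous elements f_1, …, f_s of positive degrees d_1,
…, d_s, let l be the least common multiple of the d_i and X = Proj B. For n ≥ (s − 1)(l − 1), O_X(n)
is generated by its global sections b/1, b ∈ B_n. -/
theorem result {R A : Type u} [CommRing R] [CommRing A] [Algebra R A] (𝒜 : ℕ → Submodule R A) [GradedAlgebra 𝒜]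
    {s : ℕ} (f : Fin s → A) (deg : Fin s → ℕ) (hdeg : ∀ i, 0 < deg i) (hf : ∀ i, f i ∈ 𝒜 (deg i))
    (hgen : Algebra.adjoin R (Set.range f) = ⊤) (n : ℕ) (hn : (s - 1) * (Finset.univ.lcm deg - 1) ≤ n) :
    ProjUP.GeneratedBy (Twist.twist 𝒜 (n : ℤ))
      (fun b : 𝒜 n => (Twist.globalOf 𝒜 b : ProjUP.Γm (Twist.twist 𝒜 (n : ℤ)))) := by
  refine ProjTwist.generatedBy_of_locSpan _ _ (ProjTwist.locSpan_globalOf 𝒜 id fun x i j a t ht hij => ?_)
  set l := Finset.univ.lcm deg with hl
  have hl0 : 0 < l := GrBasics.lcm_pos deg hdeg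
  refine ⟨(l - 1) * j, ⟨t.1 ^ (l - 1), by simpa [smul_eq_mul] using SetLike.pow_mem_graded (l - 1) t.2⟩,
    fun h => ht (x.isPrime.mem_of_pow_mem _ h), ?_⟩
  have e : (l - 1) * j + j = j * l := by
    obtain ⟨m, hm⟩ := Nat.exists_eq_add_of_le hl0
    rw [hm, Nat.add_sub_cancel_left]; ring
  have h1 : t.1 ^ (l - 1) * a.1 ∈ 𝒜 (n + j * l) := by
    have e2 : n + j * l = (l - 1) * j + i := by omega
    rw [e2]
    exact SetLike.mul_mem_graded (by simpa [smul_eq_mul] using SetLike.pow_mem_graded (l - 1) t.2) a.2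
  have h2 := GrBasics.piece_add_mul_lcm_le 𝒜 f deg hdeg hf hgen n hn j h1
  rw [mul_comm (𝒜 n)] at h2
  rw [e]
  refine mul_le_mul' (GrBasics.piece_pow_le 𝒜 l j) ?_ h2
  exact fun c hc => Submodule.subset_span ⟨⟨c, hc⟩, rfl⟩

end Groth.Agent.S13171
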