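import Groth.Statements.S13174
import Mathlib

set_option autoImplicit false
universe u v w
open scoped TensorProduct
open ZeroCyc

namespace Groth.Agent.S13174

section

open TensorProduct LinearMap

variable {A : Type u} [CommRing A] {M : Type v} [AddCommGroup M] [Module A M] {N : Type w}
  [AddCommGroup N] [Module A N]

/-- A family of maps on polynomial rings compatible with substitutions. -/
abbrev Fam (A : Type u) [CommRing A] (M : Type v) [AddCommGroup M] [Module A M] (N : Type w)
    [AddCommGroup N] [Module A N] :=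
  {T : ∀ n : ℕ, MvPolynomial (Fin n) A ⊗[A] M → MvPolynomial (Fin n) A ⊗[A] N //
    ∀ (n m : ℕ) (φ : MvPolynomial (Fin n) A →ₐ[A] MvPolynomial (Fin m) A),
      φ.toLinearMap.rTensor N ∘ T n = T m ∘ φ.toLinearMap.rTensor M}

theorem fam_apply (T : Fam A M N) {n m : ℕ} (φ : MvPolynomial (Fin n) A →ₐ[A] MvPolynomial (Fin m) A)
    (x : MvPolynomial (Fin n) A ⊗[A] M) :
    φ.toLinearMap.rTensor N (T.1 n x) = T.1 m (φ.toLinearMap.rTensor M x) := congrFun (T.2 n m φ) x

theorem rTensor_algHom_comp {X Y Z P : Type*} [Semiring X] [Semiring Y] [Semiring Z] [Algebra A X]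
    [Algebra A Y] [Algebra A Z] [AddCommGroup P] [Module A P] (g : Y →ₐ[A] Z) (f : X →ₐ[A] Y)
    (x : X ⊗[A] P) :
    (g.comp f).toLinearMap.rTensor P x = g.toLinearMap.rTensor P (f.toLinearMap.rTensor P x) := by
  rw [AlgHom.comp_toLinearMap, rTensor_comp, LinearMap.comp_apply]

theorem indep_surj (T : Fam A M N) {B : Type*} [CommRing B] [Algebra A B] {n : ℕ}
    (ψ : MvPolynomial (Fin n) A →ₐ[A] B) (hψ : Function.Surjective ψ)
    (p q : MvPolynomial (Fin n) A ⊗[A] M)
    (h : ψ.toLinearMap.rTensor M p = ψ.toLinearMap.rTensor M q) :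
    ψ.toLinearMap.rTensor N (T.1 n p) = ψ.toLinearMap.rTensor N (T.1 n q) := by
  classical
  have hex := rTensor_exact M (LinearMap.exact_subtype_ker_map ψ.toLinearMap) hψ
  obtain ⟨z, hz⟩ := (hex (q - p)).1 (by rw [map_sub, h, sub_self])
  obtain ⟨s, rfl⟩ := TensorProduct.exists_finset z
  let e := s.equivFin
  let k : Fin s.card → MvPolynomial (Fin n) A := fun i => (e.symm i).1.1.1
  have hk : ∀ i, ψ (k i) = 0 := fun i => (e.symm i).1.1.2
  let ι := MvPolynomial.rename (R := A) (Fin.castAdd s.card : Fin n → Fin (n + s.card))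
  let σ (v : Fin s.card → MvPolynomial (Fin n) A) :
      MvPolynomial (Fin (n + s.card)) A →ₐ[A] MvPolynomial (Fin n) A :=
    MvPolynomial.aeval (Fin.append MvPolynomial.X v)
  have hσι : ∀ v, (σ v).comp ι = AlgHom.id A _ := fun v => MvPolynomial.algHom_ext fun i => by
    simp [σ, ι, Fin.append_left]
  have hσy : ∀ v i, σ v (MvPolynomial.X (Fin.natAdd n i)) = v i := fun v i => by
    simp [σ, Fin.append_right]
  let Z := ι.toLinearMap.rTensor M p +
    ∑ i, (MvPolynomial.X (Fin.natAdd n i) : MvPolynomial (Fin (n + s.card)) A) ⊗ₜ[A] (e.symm i).1.2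
  have hZ : ∀ v, (σ v).toLinearMap.rTensor M Z = p + ∑ i, v i ⊗ₜ[A] (e.symm i).1.2 := fun v => by
    simp only [Z, map_add, map_sum, ← rTensor_algHom_comp, hσι, rTensor_tmul, AlgHom.toLinearMap_apply,
      hσy]
    simp
  have hZ0 : (σ 0).toLinearMap.rTensor M Z = p := by simp [hZ]
  have hZk : (σ k).toLinearMap.rTensor M Z = q := by
    conv_rhs => rw [← add_sub_cancel p q, ← hz, map_sum, ← s.sum_coe_sort, ← e.symm.sum_comp]
    rw [hZ]
    simp [k]
  have hcomp : ψ.comp (σ 0) = ψ.comp (σ k) := MvPolynomial.algHom_ext fun i => by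
    induction i using Fin.addCases with
    | left i => simp [σ, Fin.append_left]
    | right i => simp [σ, Fin.append_right, hk]
  rw [← hZ0, ← hZk, ← fam_apply, ← fam_apply, ← rTensor_algHom_comp, ← rTensor_algHom_comp, hcomp]

theorem indep (T : Fam A M N) {S : Type*} [CommRing S] [Algebra A S] {n m : ℕ}
    (ψ : MvPolynomial (Fin n) A →ₐ[A] S) (ψ' : MvPolynomial (Fin m) A →ₐ[A] S)
    (p : MvPolynomial (Fin n) A ⊗[A] M) (q : MvPolynomial (Fin m) A ⊗[A] M)
    (h : ψ.toLinearMap.rTensor M p = ψ'.toLinearMap.rTensor M q) :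
    ψ.toLinearMap.rTensor N (T.1 n p) = ψ'.toLinearMap.rTensor N (T.1 m q) := by
  classical
  have hfg : ∀ (k : ℕ) (χ : MvPolynomial (Fin k) A →ₐ[A] S), χ.range.FG := fun k χ => by
    rw [← Algebra.map_top]; exact Subalgebra.FG.map _ Algebra.FiniteType.out
  obtain ⟨B, hnB, hmB, ⟨s, hs⟩, hB⟩ := TensorProduct.Algebra.eq_of_fg_of_subtype_eq' (R := A)
    (t := ψ.rangeRestrict.toLinearMap.rTensor M p) (t' := ψ'.rangeRestrict.toLinearMap.rTensor M q)
    (hfg n ψ) (hfg m ψ') (by rwa [← rTensor_algHom_comp, ← rTensor_algHom_comp,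
      AlgHom.val_comp_rangeRestrict, AlgHom.val_comp_rangeRestrict])
  let i₁ : MvPolynomial (Fin n) A →ₐ[A] MvPolynomial (Fin (n + m + s.card)) A :=
    MvPolynomial.rename fun i => Fin.castAdd s.card (Fin.castAdd m i)
  let i₂ : MvPolynomial (Fin m) A →ₐ[A] MvPolynomial (Fin (n + m + s.card)) A :=
    MvPolynomial.rename fun i => Fin.castAdd s.card (Fin.natAdd n i)
  let χ : MvPolynomial (Fin (n + m + s.card)) A →ₐ[A] S :=
    MvPolynomial.aeval (Fin.append (Fin.append (fun i => ψ (.X i)) (fun i => ψ' (.X i)))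
      (fun i => (s.equivFin.symm i : S)))
  have h₁ : χ.comp i₁ = ψ := MvPolynomial.algHom_ext fun i => by simp [χ, i₁, Fin.append_left]
  have h₂ : χ.comp i₂ = ψ' := MvPolynomial.algHom_ext fun i => by
    simp [χ, i₂, Fin.append_left, Fin.append_right]
  have hBχ : B ≤ χ.range := by
    rw [← hs, Algebra.adjoin_le_iff]
    intro x hx
    exact ⟨.X (Fin.natAdd _ (s.equivFin ⟨x, hx⟩)), by simp [χ, Fin.append_right]⟩
  have key := indep_surj T χ.rangeRestrict χ.rangeRestrict_surjective
    (i₁.toLinearMap.rTensor M p) (i₂.toLinearMap.rTensor M q) (by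
      have := congrArg ((Subalgebra.inclusion hBχ).toLinearMap.rTensor M) hB
      simp only [← rTensor_algHom_comp] at this ⊢
      rwa [show χ.rangeRestrict.comp i₁ = (Subalgebra.inclusion hBχ).comp
          ((Subalgebra.inclusion hnB).comp ψ.rangeRestrict) from
          AlgHom.ext fun x => Subtype.ext (DFunLike.congr_fun h₁ x),
        show χ.rangeRestrict.comp i₂ = (Subalgebra.inclusion hBχ).comp
          ((Subalgebra.inclusion hmB).comp ψ'.rangeRestrict) from
          AlgHom.ext fun x => Subtype.ext (DFunLike.congr_fun h₂ x)])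
  have key' := congrArg (χ.range.val.toLinearMap.rTensor N) key
  rwa [← rTensor_algHom_comp, ← rTensor_algHom_comp, AlgHom.val_comp_rangeRestrict, ← fam_apply,
    ← fam_apply, ← rTensor_algHom_comp, ← rTensor_algHom_comp, h₁, h₂] at key'

/-- The value of the law extending a family. -/
noncomputable def ext' (T : Fam A M N) (S : Type u) [CommSemiring S] [Algebra A S] (t : S ⊗[A] M) :
    S ⊗[A] N :=
  (PolynomialLaw.exists_lift t).choose_spec.choose.toLinearMap.rTensor N
    (T.1 _ (PolynomialLaw.exists_lift t).choose_spec.choose_spec.choose)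

theorem ext'_eq (T : Fam A M N) (S : Type u) [CommSemiring S] [Algebra A S] {n : ℕ}
    (ψ : MvPolynomial (Fin n) A →ₐ[A] S) (p : MvPolynomial (Fin n) A ⊗[A] M) :
    ext' T S (ψ.toLinearMap.rTensor M p) = ψ.toLinearMap.rTensor N (T.1 n p) := by
  letI : CommRing S := { Algebra.semiringToRing A, ‹CommSemiring S› with }
  exact indep T _ ψ _ p (PolynomialLaw.exists_lift (ψ.toLinearMap.rTensor M p)).choose_spec.choose_spec.choose_spec

/-- The law extending a family. -/
noncomputable def law (T : Fam A M N) : M →ₚₗ[A] N where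
  toFun' S _ _ := ext' T S
  isCompat' {S} _ _ {S'} _ _ φ := by
    funext t
    obtain ⟨n, ψ, p, rfl⟩ := PolynomialLaw.exists_lift t
    simp only [Function.comp_apply]
    rw [ext'_eq, ← rTensor_algHom_comp, ← rTensor_algHom_comp, ext'_eq]

end

/-- Let M and N be A-modules. Polynomial laws M → N correspond one-to-one, by restriction, to families
of maps T_n : M[t_1, …, t_n] → N[t_1, …, t_n], n ≥ 0, compatible with all A-algebra homomorphisms
A[t_1, …, t_n] → A[t_1, …, t_m]: in the definition of a polynomial law the category of A-algebras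
may be replaced by the polynomial rings in finitely many variables. (Here a polynomial law is given
on all commutative A-algebra semirings of the universe of A.) -/
theorem result {A : Type u} [CommRing A] {M : Type v} [AddCommGroup M] [Module A M] {N : Type w} [AddCommGroup N] [Module A N] :
    Function.Bijective (fun F : M →ₚₗ[A] N =>
      (⟨fun n => F.toFun' (MvPolynomial (Fin n) A), fun n m φ => F.isCompat' φ⟩ :
        {T : ∀ n : ℕ, MvPolynomial (Fin n) A ⊗[A] M → MvPolynomial (Fin n) A ⊗[A] N //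
          ∀ (n m : ℕ) (φ : MvPolynomial (Fin n) A →ₐ[A] MvPolynomial (Fin m) A),
            φ.toLinearMap.rTensor N ∘ T n = T m ∘ φ.toLinearMap.rTensor M})) := by
  refine ⟨fun F G h => ?_, fun T => ⟨law T, Subtype.ext (funext fun n => funext fun p => ?_)⟩⟩
  · refine PolynomialLaw.ext (funext fun S => funext fun iS => funext fun iA => funext fun t => ?_)
    letI := iS
    letI := iA
    obtain ⟨n, ψ, p, rfl⟩ := PolynomialLaw.exists_lift t
    have hn : F.toFun' (MvPolynomial (Fin n) A) p = G.toFun' (MvPolynomial (Fin n) A) p :=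
      congrFun (congrFun (congrArg Subtype.val h) n) p
    rw [← PolynomialLaw.isCompat_apply', ← PolynomialLaw.isCompat_apply', hn]
  · have := ext'_eq T (MvPolynomial (Fin n) A) (AlgHom.id A _) p
    simp only [AlgHom.toLinearMap_id, LinearMap.rTensor_id, LinearMap.id_apply] at this
    exact this


end Groth.Agent.S13174
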