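import Mathlib
import Groth.Statements.S13175
-- import your own Groth.Agent.* helpers here

set_option autoImplicit false
universe u v w
open scoped TensorProduct
open ZeroCyc

namespace Groth.Agent.S13175

/-- Let B and C be A-algebras and F : B → C a polynomial law. If the maps F over the polynomial rings
A[t_1, …, t_n], n ≥ 0, are multiplicative (send 1 to 1 and products to products), then F is a
multiplicative law: F sends 1 to 1 and products to products over every A-algebra. -/
theorem result {A : Type u} [CommRing A] {B : Type v} [CommRing B] [Algebra A B] {C : Type w} [CommRing C] [Algebra A C]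
    (F : B →ₚₗ[A] C)
    (h1 : ∀ n : ℕ, F.toFun' (MvPolynomial (Fin n) A) 1 = 1)
    (hmul : ∀ (n : ℕ) (x y : MvPolynomial (Fin n) A ⊗[A] B),
      F.toFun' (MvPolynomial (Fin n) A) (x * y) = F.toFun' (MvPolynomial (Fin n) A) x * F.toFun' (MvPolynomial (Fin n) A) y) :
    ∀ (S : Type u) [CommRing S] [Algebra A S], F.toFun' S 1 = 1 ∧
      ∀ x y : S ⊗[A] B, F.toFun' S (x * y) = F.toFun' S x * F.toFun' S y := by
  intro S _ _
  have hm : ∀ {T T' : Type u} [CommRing T] [Algebra A T] [CommRing T'] [Algebra A T'] (ψ : T →ₐ[A] T'),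
      (∀ z : T ⊗[A] B, ψ.toLinearMap.rTensor B z = Algebra.TensorProduct.map ψ (AlgHom.id A B) z) ∧
      (∀ z : T ⊗[A] C, ψ.toLinearMap.rTensor C z = Algebra.TensorProduct.map ψ (AlgHom.id A C) z) :=
    fun {T T'} _ _ _ _ ψ => ⟨fun z => rfl, fun z => rfl⟩
  constructor
  · let ψ : MvPolynomial (Fin 0) A →ₐ[A] S := MvPolynomial.aeval (fun i => i.elim0)
    have := PolynomialLaw.isCompat_apply' (f := F) ψ 1
    rw [h1, (hm ψ).1, (hm ψ).2, map_one, map_one] at this
    exact this.symm
  · intro x y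
    obtain ⟨n₁, ψ₁, x₁, rfl⟩ := PolynomialLaw.exists_lift x
    obtain ⟨n₂, ψ₂, y₂, rfl⟩ := PolynomialLaw.exists_lift y
    let ψ : MvPolynomial (Fin (n₁ + n₂)) A →ₐ[A] S :=
      MvPolynomial.aeval (Fin.append (fun i => ψ₁ (MvPolynomial.X i)) (fun i => ψ₂ (MvPolynomial.X i)))
    have e₁ : ψ.comp (MvPolynomial.rename (Fin.castAdd n₂)) = ψ₁ := MvPolynomial.algHom_ext fun i => by simp [ψ]
    have e₂ : ψ.comp (MvPolynomial.rename (Fin.natAdd n₁)) = ψ₂ := MvPolynomial.algHom_ext fun i => by simp [ψ]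
    rw [← e₁, ← e₂]
    simp only [AlgHom.comp_toLinearMap, LinearMap.rTensor_comp, LinearMap.comp_apply]
    generalize LinearMap.rTensor B (MvPolynomial.rename (Fin.castAdd n₂)).toLinearMap x₁ = u
    generalize LinearMap.rTensor B (MvPolynomial.rename (Fin.natAdd n₁)).toLinearMap y₂ = v
    rw [← PolynomialLaw.isCompat_apply' ψ u, ← PolynomialLaw.isCompat_apply' ψ v, (hm ψ).1 u, (hm ψ).1 v, ← map_mul,
      ← (hm ψ).1 (u * v), ← PolynomialLaw.isCompat_apply' ψ (u * v), hmul, (hm ψ).2, (hm ψ).2, (hm ψ).2, map_mul]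

end Groth.Agent.S13175
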