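import Groth.Statements.S13177
import Mathlib
import Groth.Agent.SGA1QuotLib.UnivHomeo
-- import your own Groth.Agent.* helpers here

set_option autoImplicit false
universe u
open CategoryTheory CategoryTheory.Limits AlgebraicGeometry
open ZeroCyc

namespace Groth.Agent.S13177

/-- Let a finite group G act on a scheme X with quotient q : X → Y (affine, G-invariant, O_Y = the
invariant sections), let i : Z → X be a G-stable closed subscheme with the induced action and r : Z
→ W a quotient of Z by G, and let q(Z) be the scheme-theoretic image of Z in Y. Then the morphism W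
→ q(Z) through which Z → q(Z) factors via r is a schematically dominant universal homeomorphism.
(The published statement assumes the quotient of X exists; here both quotients are hypotheses.) -/
theorem result {X Y Z W : Scheme.{u}} {G : Type u} [Group G] [Finite G]
    (ρ : G →* Aut X) (q : X ⟶ Y) (hquot : SGA1.IsQuot ρ q)
    (i : Z ⟶ X) [IsClosedImmersion i] (ρZ : G →* Aut Z) (hρZ : ∀ σ : G, (ρZ σ).hom ≫ i = i ≫ (ρ σ).hom)
    (r : Z ⟶ W) (hr : SGA1.IsQuot ρZ r)
    (m : W ⟶ (i ≫ q).ker.subscheme) (hm : r ≫ m ≫ (i ≫ q).ker.subschemeι = i ≫ q) :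
    FlatMor.IsUnivHomeo m ∧ IsSchemeTheoreticallyDominant m := by
  haveI := Groth.Agent.SGA1QuotLib.isIntegralHom hquot
  let ι := (i ≫ q).ker.subschemeι
  have e : r ≫ m = (i ≫ q).toImage := by
    rw [← cancel_mono (i ≫ q).imageι, Scheme.Hom.toImage_imageι, Category.assoc]
    exact hm
  have hint : IsIntegralHom ((i ≫ q).toImage ≫ (i ≫ q).imageι) := by
    rw [Scheme.Hom.toImage_imageι]; infer_instance
  haveI := hint
  haveI : IsIntegralHom (r ≫ m) := by
    rw [e]; exact IsIntegralHom.of_comp _ (i ≫ q).imageι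
  haveI : Surjective (r ≫ m) := by
    rw [e]
    haveI : IsIntegralHom (i ≫ q).toImage := IsIntegralHom.of_comp _ (i ≫ q).imageι
    refine ⟨fun z => ?_⟩
    have hcl := (i ≫ q).toImage.isClosedMap.isClosed_range
    have := (i ≫ q).toImage.denseRange
    rw [DenseRange, dense_iff_closure_eq, hcl.closure_eq] at this
    exact this.ge (Set.mem_univ z)
  refine ⟨Groth.Agent.SGA1QuotLib.isUnivHomeo_of_isQuot hr m fun K _ a b hab => ?_, ?_⟩
  · have h1 := congrArg (· ≫ (i ≫ q).ker.subschemeι) hab
    simp only [Category.assoc, hm] at h1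
    rw [← Category.assoc, ← Category.assoc] at h1
    obtain ⟨σ, hσ⟩ := Groth.Agent.SGA1QuotLib.exists_geom_of_isQuot hquot _ _ h1
    refine ⟨σ, (cancel_mono i).1 ?_⟩
    rw [Category.assoc, hρZ, ← Category.assoc]
    exact hσ
  · have h1 : (i ≫ q).toImage.ker = ⊥ := by
      refine eq_bot_iff.2 ?_
      refine (Scheme.IdealSheafData.ext_of_iSup_eq_top (fun U : Y.affineOpens =>
        (⟨(i ≫ q).imageι ⁻¹ᵁ U.1, U.2.preimage _⟩ : (i ≫ q).image.affineOpens)) ?_ fun U => ?_).le
      · rw [← Scheme.Hom.preimage_iSup, iSup_affineOpens_eq_top, Scheme.Hom.preimage_top]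
      · rw [Scheme.Hom.ker_apply, Scheme.IdealSheafData.ideal_bot, Pi.bot_apply,
          ← RingHom.injective_iff_ker_eq_bot]
        exact (i ≫ q).toImage_app_injective U
    refine ⟨eq_bot_iff.2 ?_⟩
    rw [← h1, ← e]
    exact r.le_ker_comp m

end Groth.Agent.S13177
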