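import Groth.Statements.S13182
import Groth.Agent.ProjSpaceBC.OfGraded
-- import your own Groth.Agent.* helpers here

set_option autoImplicit false
set_option synthInstance.maxHeartbeats 400000
set_option maxHeartbeats 1600000
universe u
open CategoryTheory CategoryTheory.Limits AlgebraicGeometry
open ZeroCyc

namespace Groth.Agent.S13182

/-- Let B be a graded R-algebra generated by homogeneous elements f_1, …, f_s of positive degrees d_1,
…, d_s, let l be the least common multiple of the d_i and X = Proj B. For n = a l with a ≥ max(1, s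
− 1) there is a closed immersion i of X into a projective space over R, over Spec R, with O_X(n) ≅
i^*O(1); in particular O_X(n) is very ample relative to Spec R. (The published statement takes for i
the canonical morphism into P(B_n) given by the sections B_n; this row asserts only a closed
immersion into some projective space P^N over R with an isomorphism O_X(n) ≅ i^*O(1).) -/
theorem result {R A : Type u} [CommRing R] [CommRing A] [Algebra R A] (𝒜 : ℕ → Submodule R A) [GradedAlgebra 𝒜]
    {s : ℕ} (f : Fin s → A) (deg : Fin s → ℕ) (hdeg : ∀ i, 0 < deg i) (hf : ∀ i, f i ∈ 𝒜 (deg i))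
    (hgen : Algebra.adjoin R (Set.range f) = ⊤) (a : ℕ) (ha : 0 < a) (has : s - 1 ≤ a) :
    ∃ (N : ℕ) (i : Proj 𝒜 ⟶ CohB1.ProjSpaceOver N (Spec (CommRingCat.of R))), IsClosedImmersion i ∧
      i ≫ pullback.snd (CohB1.ProjSpace.toSpec N (ULift.{u} ℤ)) (specULiftZIsTerminal.from (Spec (CommRingCat.of R))) =
        Proj.toSpecZero 𝒜 ≫ Spec.map (CommRingCat.ofHom (algebraMap R (𝒜 0))) ∧
      Nonempty (Twist.twist 𝒜 ((a * Finset.univ.lcm deg : ℕ) : ℤ) ≅
        (Scheme.Modules.pullback i).obj (Twist.twistOver N (Spec (CommRingCat.of R)) 1)) := by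
  classical
  let l := Finset.univ.lcm deg
  have hl : 0 < l := Nat.pos_of_ne_zero fun h0 => by
    obtain ⟨i, -, hi⟩ := Finset.lcm_eq_zero_iff.mp h0
    exact (hdeg i).ne' hi
  have hdvd : ∀ i, deg i ∣ l := fun i => Finset.dvd_lcm (Finset.mem_univ i)
  let K : Set (Fin s → ℕ) := {c | ∑ i, c i * deg i = a * l}
  have hK : K.Finite := (Set.Finite.pi' (t := fun _ : Fin s => Set.Iic (a * l)) fun _ => Set.finite_Iic _).subset fun c (hc : ∑ i, c i * deg i = a * l) => fun i => by
    calc c i ≤ c i * deg i := Nat.le_mul_of_pos_right _ (hdeg i)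
      _ ≤ _ := (Finset.single_le_sum (fun j _ => Nat.zero_le (c j * deg j)) (Finset.mem_univ i)).trans hc.le
  have : Finite K := hK.to_subtype
  have hmon : ∀ c : Fin s → ℕ, (∏ i, f i ^ c i) ∈ 𝒜 (∑ i, c i * deg i) := fun c =>
    SetLike.prod_mem_graded _ _ _ fun i _ => by simpa [smul_eq_mul] using SetLike.pow_mem_graded (c i) (hf i)
  let t : K → 𝒜 (a * l) := fun c => ⟨∏ i, f i ^ c.1 i, (c.2 : ∑ i, c.1 i * deg i = a * l) ▸ hmon c.1⟩
  have hFT : Algebra.FiniteType R A := ⟨⟨Finset.univ.image f, by simpa using hgen⟩⟩
  have peel : ∀ (T : Finset (Fin s)) (q : Fin s → ℕ) (b : ℕ), b ≤ ∑ i ∈ T, q i →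
      ∃ q' : Fin s → ℕ, (∀ i, q' i ≤ q i) ∧ (∀ i, i ∉ T → q' i = 0) ∧ ∑ i ∈ T, q' i = b := by
    intro T
    induction T using Finset.induction_on with
    | empty => intro q b hb; exact ⟨0, fun _ => Nat.zero_le _, fun _ _ => rfl, by simp at hb; simp [hb]⟩
    | insert i T hi ih =>
      intro q b hb
      rw [Finset.sum_insert hi] at hb
      obtain ⟨q', h1, h2, h3⟩ := ih q (b - min b (q i)) (by omega)
      refine ⟨Function.update q' i (min b (q i)), fun j => ?_, fun j hj => ?_, ?_⟩
      · rcases eq_or_ne j i with rfl | hj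
        · simp
        · simpa [hj] using h1 j
      · simp only [Finset.mem_insert, not_or] at hj
        simpa [hj.1] using h2 j hj.2
      · rw [Finset.sum_insert hi, Function.update_self, Finset.sum_congr rfl fun j hj =>
          Function.update_of_ne (show j ≠ i from fun e => hi (by subst e; exact hj)) _ _, h3]
        omega
  have key : ∀ k (c : Fin s → ℕ), ∑ i, c i * deg i = k * (a * l) →
      (∏ i, f i ^ c i) ∈ (Submodule.span R (Set.range fun c => (t c).1)) ^ k := by
    intro k
    induction k with
    | zero =>
      intro c hc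
      have hc0 : ∀ i, c i = 0 := fun i => by
        have h := (Finset.single_le_sum (fun j _ => Nat.zero_le (c j * deg j)) (Finset.mem_univ i)).trans hc.le
        have := hdeg i
        simp only [zero_mul, Nat.le_zero, mul_eq_zero] at h
        omega
      simp only [hc0, pow_zero, Finset.prod_const_one]
      exact Submodule.one_le.mp le_rfl
    | succ k ih =>
      intro c hc
      let e : Fin s → ℕ := fun i => l / deg i
      have he : ∀ i, e i * deg i = l := fun i => Nat.div_mul_cancel (hdvd i)
      have hep : ∀ i, 0 < e i := fun i => Nat.pos_of_ne_zero fun h => by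
        have := he i
        rw [h, zero_mul] at this
        omega
      obtain ⟨c', hle, hc'⟩ : ∃ c' : Fin s → ℕ, (∀ i, c' i ≤ c i) ∧ ∑ i, c' i * deg i = a * l := by
        rcases Nat.eq_zero_or_pos k with rfl | hk
        · exact ⟨c, fun _ => le_rfl, by simpa using hc⟩
        have hs : 0 < s := by
          by_contra h
          have : IsEmpty (Fin s) := by
            obtain rfl : s = 0 := by omega
            infer_instance
          rw [Fintype.sum_empty] at hc
          have : 0 < (k + 1) * (a * l) := by positivity
          omega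
        let q : Fin s → ℕ := fun i => c i / e i
        have hsum : a ≤ ∑ i, q i := by
          by_contra hlt
          push Not at hlt
          have : (k + 1) * (a * l) < (∑ i, q i) * l + s * l := by
            rw [← hc, Finset.sum_mul]
            have hne : (Finset.univ : Finset (Fin s)).Nonempty := ⟨⟨0, hs⟩, Finset.mem_univ _⟩
            calc ∑ i, c i * deg i < ∑ i, (q i * l + l) := by
                  refine Finset.sum_lt_sum_of_nonempty hne fun i _ => ?_
                  have h1 : c i < (q i + 1) * e i := by
                    rw [Nat.add_mul, one_mul]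
                    exact Nat.lt_div_mul_add (hep i)
                  calc c i * deg i < (q i + 1) * e i * deg i := Nat.mul_lt_mul_of_pos_right h1 (hdeg i)
                    _ = q i * l + l := by rw [mul_assoc, he, Nat.add_mul, one_mul]
              _ = _ := by simp [Finset.sum_add_distrib]
          have h2 : (k + 1) * a < (∑ i, q i) + s := by
            refine Nat.lt_of_mul_lt_mul_right (a := l) ?_
            calc (k + 1) * a * l = (k + 1) * (a * l) := mul_assoc _ _ _
              _ < (∑ i, q i) * l + s * l := this
              _ = _ := (Nat.add_mul _ _ _).symm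
          have h3 : 2 * a ≤ (k + 1) * a := Nat.mul_le_mul_right _ (by omega)
          omega
        obtain ⟨q', h1, -, h3⟩ := peel Finset.univ q a hsum
        refine ⟨fun i => q' i * e i, fun i => (Nat.mul_le_mul_right _ (h1 i)).trans (Nat.div_mul_le_self _ _), ?_⟩
        simp only [mul_assoc, he, ← Finset.sum_mul, h3]
      have hsplit : ∑ i, (c i - c' i) * deg i = k * (a * l) := by
        have h : ∑ i, (c i - c' i) * deg i + ∑ i, c' i * deg i = (k + 1) * (a * l) := by
          rw [← hc, ← Finset.sum_add_distrib]
          exact Finset.sum_congr rfl fun i _ => by rw [← Nat.add_mul, Nat.sub_add_cancel (hle i)]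
        rw [hc', Nat.succ_mul] at h
        exact Nat.add_right_cancel h
      have e2 : ∏ i, f i ^ c i = (∏ i, f i ^ (c i - c' i)) * (t ⟨c', hc'⟩).1 := by
        show _ = _ * ∏ i, f i ^ c' i
        rw [← Finset.prod_mul_distrib]
        exact Finset.prod_congr rfl fun i _ => by rw [← pow_add, Nat.sub_add_cancel (hle i)]
      rw [e2, pow_succ]
      exact Submodule.mul_mem_mul (ih _ hsplit) (Submodule.subset_span ⟨_, rfl⟩)
  obtain ⟨N, i, hi, hq, he⟩ := Groth.Agent.ProjSpaceBC.exists_closedImmersion 𝒜
    (Groth.Agent.ProjSpaceBC.surjective_algebraMap_zero 𝒜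
      (by rintro _ ⟨i, rfl⟩; exact ⟨_, hdeg i, hf i⟩) hgen)
    (Nat.mul_pos ha hl) t Set.univ
    (fun x => by
      obtain ⟨i, hi⟩ := Groth.Agent.ProjTwist.exists_generator_notMem 𝒜 f deg hdeg hf hgen x
      obtain ⟨q, hq⟩ := hdvd i
      refine ⟨⟨Pi.single i (a * q), ?_⟩, trivial, ?_⟩
      · show ∑ j, (Pi.single i (a * q) : Fin s → ℕ) j * deg j = a * l
        rw [Finset.sum_eq_single i (fun j _ hj => by simp [hj]) (by simp)]
        simp [hq]
        ring
      · show ∏ j, f j ^ (Pi.single i (a * q) : Fin s → ℕ) j ∉ x.asHomogeneousIdeal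
        rw [Finset.prod_eq_single i (fun j _ hj => by simp [hj]) (by simp), Pi.single_eq_same]
        exact fun h => hi (x.isPrime.mem_of_pow_mem _ h))
    (fun j _ k b hb => ⟨0, by
      rw [pow_zero, mul_one, add_zero]
      refine Submodule.span_le.mpr ?_ (Groth.Agent.ProjSpaceBC.mem_span_monomials 𝒜 f deg hf hgen hb)
      rintro _ ⟨c, hc, rfl⟩
      exact key k c hc⟩)
  exact ⟨N, i, hi, hq, he⟩

end Groth.Agent.S13182
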