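import Groth.Statements.S13183
import Groth.Agent.ProjSpaceBC.OfGraded
-- import your own Groth.Agent.* helpers here

set_option autoImplicit false
set_option synthInstance.maxHeartbeats 400000
set_option maxHeartbeats 1600000
universe u
open CategoryTheory CategoryTheory.Limits AlgebraicGeometry
open ZeroCyc

namespace Groth.Agent.S13183

/-- Let B be a graded R-algebra of finite type, generated by elements of degrees between 1 and d, such
that X = Proj B is covered by the opens D_+(g), g ∈ B_1. For n ≥ d, n ≥ 1, there is a closed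
immersion i of X into a projective space over R, over Spec R, with O_X(n) ≅ i^*O(1); in particular
O_X(n) is very ample relative to Spec R. (The published statement assumes neither finite generation
nor that the generators have positive degree, and its target is P(B_n) with i the canonical morphism
given by B_n; a closed immersion into a projective space of finite type over R needs X proper over
R, so B is taken of finite type with generators of positive degree; existence of the isomorphism
only.) -/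
theorem result {R A : Type u} [CommRing R] [CommRing A] [Algebra R A] (𝒜 : ℕ → Submodule R A) [GradedAlgebra 𝒜]
    (d : ℕ) (hgen : Algebra.adjoin R (⋃ i ∈ Finset.Icc 1 d, (𝒜 i : Set A)) = ⊤)
    (hcov : (⨆ g : 𝒜 1, Proj.basicOpen 𝒜 (g : A)) = ⊤) [Algebra.FiniteType R A] (n : ℕ) (hn : d ≤ n) (hn1 : 0 < n) :
    ∃ (N : ℕ) (i : Proj 𝒜 ⟶ CohB1.ProjSpaceOver N (Spec (CommRingCat.of R))), IsClosedImmersion i ∧
      i ≫ pullback.snd (CohB1.ProjSpace.toSpec N (ULift.{u} ℤ)) (specULiftZIsTerminal.from (Spec (CommRingCat.of R))) =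
        Proj.toSpecZero 𝒜 ≫ Spec.map (CommRingCat.ofHom (algebraMap R (𝒜 0))) ∧
      Nonempty (Twist.twist 𝒜 (n : ℤ) ≅
        (Scheme.Modules.pullback i).obj (Twist.twistOver N (Spec (CommRingCat.of R)) 1)) := by
  classical
  obtain ⟨S, hS⟩ := (inferInstance : Algebra.FiniteType R A).out
  have hP : ∃ P : Finset A, (↑P : Set A) ⊆ (⋃ i ∈ Finset.Icc 1 d, (𝒜 i : Set A)) ∧
      Algebra.adjoin R (↑P : Set A) = ⊤ := by
    have h : ∀ x : A, ∃ P : Finset A, (↑P : Set A) ⊆ (⋃ i ∈ Finset.Icc 1 d, (𝒜 i : Set A)) ∧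
        x ∈ Algebra.adjoin R (↑P : Set A) := by
      intro x
      have hx : x ∈ Algebra.adjoin R (⋃ i ∈ Finset.Icc 1 d, (𝒜 i : Set A)) := hgen ▸ trivial
      induction hx using Algebra.adjoin_induction with
      | mem y hy =>
        exact ⟨{y}, by simpa using hy, Algebra.subset_adjoin (by simp)⟩
      | algebraMap r => exact ⟨∅, by simp, Subalgebra.algebraMap_mem _ r⟩
      | add y z _ _ hy hz =>
        obtain ⟨P, h1, h2⟩ := hy
        obtain ⟨Q, h3, h4⟩ := hz
        exact ⟨P ∪ Q, by rw [Finset.coe_union]; exact Set.union_subset h1 h3, add_mem (Algebra.adjoin_mono (by simp) h2) (Algebra.adjoin_mono (by simp) h4)⟩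
      | mul y z _ _ hy hz =>
        obtain ⟨P, h1, h2⟩ := hy
        obtain ⟨Q, h3, h4⟩ := hz
        exact ⟨P ∪ Q, by rw [Finset.coe_union]; exact Set.union_subset h1 h3, mul_mem (Algebra.adjoin_mono (by simp) h2) (Algebra.adjoin_mono (by simp) h4)⟩
    choose P hP1 hP2 using h
    refine ⟨S.biUnion P, by simpa [Set.iUnion₂_subset_iff] using fun x _ => hP1 x, top_le_iff.mp ?_⟩
    rw [← hS]
    exact Algebra.adjoin_le fun x hx => Algebra.adjoin_mono (by
      rw [Finset.coe_biUnion]; exact Set.subset_biUnion_of_mem (u := fun x => (↑(P x) : Set A)) hx) (hP2 x)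
  obtain ⟨P, hPsub, hPgen⟩ := hP
  let f : P → A := Subtype.val
  choose deg hdeg hfd using fun x : P => (by
    simpa using hPsub x.2 : ∃ i, (1 ≤ i ∧ i ≤ d) ∧ x.1 ∈ 𝒜 i)
  have hgen' : Algebra.adjoin R (Set.range f) = ⊤ := by
    simpa [f] using hPgen
  have hcpt : CompactSpace (Proj 𝒜) :=
    Groth.Agent.ProjTwist.compactSpace_of_finite_cover 𝒜 f deg (fun x => (hdeg x).1) hfd
      (Groth.Agent.ProjTwist.exists_generator_notMem 𝒜 f deg (fun x => (hdeg x).1) hfd hgen')
  obtain ⟨G, hG⟩ := isCompact_univ.elim_finite_subcover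
    (fun g : 𝒜 1 => (Proj.basicOpen 𝒜 (g : A) : Set (Proj 𝒜))) (fun g => (Proj.basicOpen 𝒜 (g : A)).2)
    (fun x _ => Set.mem_iUnion.mpr (TopologicalSpace.Opens.mem_iSup.mp (hcov.ge (TopologicalSpace.Opens.mem_top x))))
  have hg : ∀ (g : 𝒜 1) (e : ℕ), (g : A) ^ e ∈ 𝒜 e := fun g e => by
    simpa using SetLike.pow_mem_graded e g.2
  let t : (P × G) ⊕ G → 𝒜 n := Sum.elim
    (fun pg => ⟨f pg.1 * (pg.2.1 : A) ^ (n - deg pg.1), by
      have := SetLike.mul_mem_graded (hfd pg.1) (hg pg.2.1 (n - deg pg.1))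
      rwa [Nat.add_sub_cancel' ((hdeg pg.1).2.trans hn)] at this⟩)
    (fun g => ⟨(g.1 : A) ^ n, hg g.1 n⟩)
  obtain ⟨N, i, hi, hq, he⟩ := Groth.Agent.ProjSpaceBC.exists_closedImmersion 𝒜
    (Groth.Agent.ProjSpaceBC.surjective_algebraMap_zero 𝒜 (S := Set.range f)
      (by rintro _ ⟨x, rfl⟩; exact ⟨_, (hdeg x).1, hfd x⟩) hgen')
    hn1 t (Set.range Sum.inr)
    (fun x => by
      obtain ⟨g, hgG, hgx⟩ := Set.mem_iUnion₂.mp (hG (Set.mem_univ x))
      exact ⟨_, ⟨⟨g, hgG⟩, rfl⟩, fun h => hgx (x.isPrime.mem_of_pow_mem n h)⟩)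
    (by
      rintro _ ⟨g, rfl⟩ k b hb
      refine ⟨k * n, ?_⟩
      let M := Submodule.span R (Set.range fun j => (t j).1)
      let V : Submodule R A := (M ^ (k + k * n)).comap (LinearMap.mulRight R (((g.1 : A) ^ n) ^ (k * n)))
      show b ∈ V
      refine Submodule.span_le.mpr ?_ (Groth.Agent.ProjSpaceBC.mem_span_monomials 𝒜 f deg hfd hgen' hb)
      rintro _ ⟨c, hc, rfl⟩
      show (∏ p, f p ^ c p) * ((g.1 : A) ^ n) ^ (k * n) ∈ M ^ (k + k * n)
      have hle : ∑ p, c p ≤ k * n :=
        hc ▸ Finset.sum_le_sum fun p _ => Nat.le_mul_of_pos_right _ (hdeg p).1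
      have hM : ∀ (q : (P × G) ⊕ G) (e : ℕ), (t q).1 ^ e ∈ M ^ e := fun q e =>
        Submodule.pow_mem_pow M (Submodule.subset_span ⟨q, rfl⟩) e
      have hprod : ∀ T : Finset P, (∏ p ∈ T, (t (Sum.inl (p, g))).1 ^ c p) ∈ M ^ (∑ p ∈ T, c p) := by
        intro T
        induction T using Finset.induction_on with
        | empty =>
          rw [Finset.prod_empty, Finset.sum_empty, pow_zero]
          exact Submodule.one_le.mp le_rfl
        | insert p T hp ih =>
          rw [Finset.prod_insert hp, Finset.sum_insert hp, pow_add]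
          exact Submodule.mul_mem_mul (hM _ _) ih
      have hexp : ∑ p, (n - deg p) * c p + n * (k + k * n - ∑ p, c p) = n * (k * n) := by
        have h1 : ∑ p, (n - deg p) * c p + ∑ p, c p * deg p = n * ∑ p, c p := by
          rw [Finset.mul_sum, ← Finset.sum_add_distrib]
          exact Finset.sum_congr rfl fun p _ => by
            rw [mul_comm (c p), ← Nat.add_mul, Nat.sub_add_cancel ((hdeg p).2.trans hn)]
        rw [hc] at h1
        have h2 : n * (k + k * n - ∑ p, c p) + n * ∑ p, c p = n * (k * n) + k * n := by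
          rw [← mul_add, Nat.sub_add_cancel (hle.trans (Nat.le_add_left _ _))]
          ring
        omega
      have e : (∏ p, f p ^ c p) * ((g.1 : A) ^ n) ^ (k * n) =
          (∏ p, (t (Sum.inl (p, g))).1 ^ c p) * (t (Sum.inr g)).1 ^ (k + k * n - ∑ p, c p) := by
        simp only [t, Sum.elim_inl, Sum.elim_inr, mul_pow, ← pow_mul, Finset.prod_mul_distrib, Finset.prod_pow_eq_pow_sum]
        rw [mul_assoc, ← pow_add, hexp]
      have h := Submodule.mul_mem_mul (hprod Finset.univ) (hM (Sum.inr g) (k + k * n - ∑ p, c p))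
      rw [← pow_add, Nat.add_sub_cancel' (hle.trans (Nat.le_add_left _ _)), ← e] at h
      exact h)
  exact ⟨N, i, hi, hq, he⟩

end Groth.Agent.S13183
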