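import Groth.Statements.S13184
import Mathlib
-- import your own Groth.Agent.* helpers here

set_option autoImplicit false
universe u
open ZeroCyc

namespace Groth.Agent.S13184

open Polynomial in
theorem sep_iff {k Ω : Type u} [Field k] [Field Ω] [Algebra k Ω] [IsAlgClosed Ω] (p : ℕ) [Fact p.Prime] [CharP Ω p] (e : ℕ)
    (L : IntermediateField k Ω) (hL : ∀ y, y ∈ L ↔ y ^ (p ^ e) ∈ Set.range (algebraMap k Ω)) (x : Ω) :
    IsSeparable L x ↔ IsSeparable k (x ^ (p ^ e)) := by
  let φ : Ω →+* Ω := iterateFrobenius Ω p e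
  let j : L →+* Ω := φ.comp (algebraMap L Ω)
  constructor
  · intro h
    obtain ⟨g, hg⟩ := (mem_lifts _).1 ((lifts_iff_coeff_lifts (f := algebraMap k Ω) ((minpoly L x).map j)).2 (fun n => by
      rw [coeff_map]; exact (hL _).1 ((minpoly L x).coeff n).2))
    have hs : g.Separable := by
      rw [← separable_map (algebraMap k Ω), hg, separable_map]; exact h
    refine hs.of_dvd (minpoly.dvd k _ ?_)
    rw [aeval_def, ← eval_map, hg, ← map_map, show x ^ (p ^ e) = φ x from rfl, eval_map, eval₂_hom, eval_map,
      ← aeval_def, minpoly.aeval, map_zero]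
  · intro h
    obtain ⟨f, hf⟩ := (mem_lifts _).1 ((lifts_iff_coeff_lifts (f := j) ((minpoly k (x ^ (p ^ e))).map (algebraMap k Ω))).2 (fun n => by
      rw [coeff_map]
      obtain ⟨z, hz⟩ := IsAlgClosed.exists_pow_nat_eq (algebraMap k Ω ((minpoly k (x ^ (p ^ e))).coeff n))
        (pow_pos (Fact.out : p.Prime).pos e)
      exact ⟨⟨z, (hL z).2 ⟨_, hz.symm⟩⟩, hz⟩))
    have hs : f.Separable := by
      rw [← separable_map j, hf, separable_map]; exact h
    refine hs.of_dvd (minpoly.dvd L _ ?_)
    apply φ.injective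
    rw [map_zero, aeval_def, ← eval_map, ← eval₂_hom, ← eval_map, map_map]
    change ((f.map j).eval (x ^ (p ^ e))) = 0
    rw [hf, eval_map, ← aeval_def, minpoly.aeval]

/-- Let k ⊆ K be a finite extension of fields of characteristic p > 0, viewed inside an algebraically
closed field Ω, and for e ≥ 0 let k^{p^{-e}} ⊆ Ω be the field of elements whose p^e-th power lies in
k. Then the compositum k^{p^{-e}}K is separable over k^{p^{-e}} if and only if x^{p^e} is separable
over k for every x ∈ K; hence the exponent of K/k (the least n ≥ 1 with K^n separable over k, a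
power of p) is the least p^e for which k^{p^{-e}} ⊆ k^{p^{-e}}K is separable. -/
theorem result {k : Type u} [Field k] (p : ℕ) [Fact p.Prime] [CharP k p]
    {K : Type u} [Field K] [Algebra k K] [FiniteDimensional k K]
    {Ω : Type u} [Field Ω] [Algebra k Ω] [Algebra K Ω] [IsScalarTower k K Ω] [IsAlgClosed Ω] (e : ℕ) :
    (∀ x : Ω, x ∈ IntermediateField.adjoin k {y : Ω | y ^ (p ^ e) ∈ Set.range (algebraMap k Ω)} ⊔
        IntermediateField.adjoin k (Set.range (algebraMap K Ω)) →
      IsSeparable (IntermediateField.adjoin k {y : Ω | y ^ (p ^ e) ∈ Set.range (algebraMap k Ω)}) x) ↔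
    ∀ x : K, x ^ (p ^ e) ∈ separableClosure k K := by
  haveI : CharP Ω p := charP_of_injective_algebraMap (algebraMap k Ω).injective p
  set L := IntermediateField.adjoin k {y : Ω | y ^ (p ^ e) ∈ Set.range (algebraMap k Ω)} with hLdef
  have hL : ∀ y, y ∈ L ↔ y ^ (p ^ e) ∈ Set.range (algebraMap k Ω) := by
    refine fun y => ⟨fun hy => ?_, fun hy => IntermediateField.subset_adjoin k _ hy⟩
    let S : IntermediateField k Ω := ((algebraMap k Ω).fieldRange.comap (iterateFrobenius Ω p e)).toIntermediateField
      (fun c => ⟨c ^ (p ^ e), by rw [map_pow, iterateFrobenius_def]⟩)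
    have : L ≤ S := IntermediateField.adjoin_le_iff.2 (fun z hz => hz)
    exact this hy
  constructor
  · intro h x
    have := (sep_iff p e L hL _).1 (h (algebraMap K Ω x) ((le_sup_right : _ ≤ L ⊔ IntermediateField.adjoin k (Set.range (algebraMap K Ω))) (IntermediateField.subset_adjoin k _ ⟨x, rfl⟩)))
    rw [← map_pow] at this
    exact (map_mem_separableClosure_iff (IsScalarTower.toAlgHom k K Ω)).1 (mem_separableClosure_iff.2 this)
  · intro h x hx
    have : L ⊔ IntermediateField.adjoin k (Set.range (algebraMap K Ω)) ≤ (separableClosure L Ω).restrictScalars k := by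
      refine sup_le (fun y hy => ?_) (IntermediateField.adjoin_le_iff.2 ?_)
      · exact (separableClosure L Ω).algebraMap_mem ⟨y, hy⟩
      · rintro _ ⟨y, rfl⟩
        refine mem_separableClosure_iff.2 ((sep_iff p e L hL _).2 ?_)
        rw [← map_pow]
        exact mem_separableClosure_iff.1 ((map_mem_separableClosure_iff (IsScalarTower.toAlgHom k K Ω)).2 (h y))
    exact mem_separableClosure_iff.1 (this hx)

end Groth.Agent.S13184
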