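import Groth.Statements.S13186
import Groth.Agent.GalDescent.Hilbert90

set_option autoImplicit false
universe u
open GalCoh

namespace Groth.Agent.S13186

/-- Let L/K be a finite Galois extension of fields, n a natural number, and B a map from the Galois
group of L over K to the invertible n × n matrices over L such that B(σ) · σ(B(τ)) = B(στ) for all
σ, τ (σ acting on matrices entrywise, στ applying τ first) and det B(σ) = 1 for every σ. Then there
is an invertible matrix A over L of determinant 1 with B(σ) = A⁻¹ · σ(A) for every σ; that is, every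
1-cocycle of the Galois group with values in SL_n(L) is the coboundary of an element of SL_n(L), so
H¹ of the Galois group with values in SL_n(L) is a point. (The published statement says that every
torsor under the special linear group over K is trivial; this row is the finite-Galois-level cocycle
form that its proof establishes.) -/
theorem result (K L : Type u) [Field K] [Field L]
    [Algebra K L] [FiniteDimensional K L] [IsGalois K L] (n : ℕ)
    (B : (L ≃ₐ[K] L) → GL (Fin n) L)
    (hB : ∀ σ τ : L ≃ₐ[K] L,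
      (B σ : Matrix (Fin n) (Fin n) L) * (B τ : Matrix (Fin n) (Fin n) L).map σ =
        (B (σ * τ) : Matrix (Fin n) (Fin n) L))
    (hdet : ∀ σ : L ≃ₐ[K] L, Matrix.det (B σ : Matrix (Fin n) (Fin n) L) = 1) :
    ∃ A : GL (Fin n) L, Matrix.det (A : Matrix (Fin n) (Fin n) L) = 1 ∧ ∀ σ : L ≃ₐ[K] L,
      (B σ : Matrix (Fin n) (Fin n) L) =
        ((A⁻¹ : GL (Fin n) L) : Matrix (Fin n) (Fin n) L) * (A : Matrix (Fin n) (Fin n) L).map σ := by
  obtain ⟨A, hA⟩ := Agent.GalDescent.gl_cocycle_eq B hB
  rcases Nat.eq_zero_or_pos n with hn | hn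
  · subst hn
    exact ⟨A, Matrix.det_fin_zero, hA⟩
  have hd0 : (A : Matrix (Fin n) (Fin n) L).det ≠ 0 :=
    ((Matrix.isUnit_iff_isUnit_det _).1 A.isUnit).ne_zero
  have hd : ∀ σ : L ≃ₐ[K] L, σ (A : Matrix (Fin n) (Fin n) L).det = (A : Matrix (Fin n) (Fin n) L).det := by
    intro σ
    have h := congrArg Matrix.det (hA σ)
    rw [hdet, Matrix.det_mul] at h
    have h2 : (A : Matrix (Fin n) (Fin n) L).det * ((A⁻¹ : GL (Fin n) L) : Matrix (Fin n) (Fin n) L).det = 1 := by
      rw [← Matrix.det_mul, Units.mul_inv, Matrix.det_one]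
    rw [show σ (A : Matrix (Fin n) (Fin n) L).det = ((A : Matrix (Fin n) (Fin n) L).map σ).det from
      σ.toAlgHom.map_det _]
    calc ((A : Matrix (Fin n) (Fin n) L).map σ).det
        = ((A : Matrix (Fin n) (Fin n) L).det * ((A⁻¹ : GL (Fin n) L) : Matrix (Fin n) (Fin n) L).det) *
            ((A : Matrix (Fin n) (Fin n) L).map σ).det := by rw [h2, one_mul]
      _ = (A : Matrix (Fin n) (Fin n) L).det := by rw [mul_assoc, ← h, mul_one]
  let v : Fin n → L := fun i => if i = ⟨0, hn⟩ then (A : Matrix (Fin n) (Fin n) L).det⁻¹ else 1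
  have hv : IsUnit (Matrix.diagonal v) :=
    (Matrix.isUnit_iff_isUnit_det _).2 (by
      rw [Matrix.det_diagonal]
      exact isUnit_iff_ne_zero.2 (Finset.prod_ne_zero_iff.2 fun i _ => by
        simp only [v]; split <;> simp [hd0]))
  refine ⟨hv.unit * A, ?_, fun σ => ?_⟩
  · rw [Units.val_mul, IsUnit.unit_spec, Matrix.det_mul, Matrix.det_diagonal]
    rw [Finset.prod_eq_single (⟨0, hn⟩ : Fin n) (fun i _ hi => by simp [v, hi]) (by simp)]
    simp [v, hd0]
  · have hvσ : (hv.unit : Matrix (Fin n) (Fin n) L).map σ = hv.unit := by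
      rw [IsUnit.unit_spec, Matrix.diagonal_map (map_zero σ)]
      congr 1
      ext i
      simp only [v]; split <;> simp [hd σ]
    rw [Units.val_mul hv.unit A, Matrix.map_mul, hvσ, mul_inv_rev, Units.val_mul, mul_assoc,
      ← mul_assoc (_ : Matrix (Fin n) (Fin n) L) (hv.unit : Matrix (Fin n) (Fin n) L), Units.inv_mul,
      one_mul, ← hA σ]

end Groth.Agent.S13186
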