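import Mathlib
import Groth.Statements.S13189
-- import your own Groth.Agent.* helpers here

set_option autoImplicit false
universe u
open CAlg

namespace Groth.Agent.S13189

/-- For a finite field K of cardinality q and n ≥ 0, a polynomial p in n variables over K vanishes at
every point of K^n if and only if p belongs to the ideal generated by the X_i^q − X_i, i = 1, …, n;
in other words that ideal is the kernel of the evaluation homomorphism from K[X_1, …, X_n] to the
ring of K-valued functions on K^n. -/
theorem result (K : Type u) [Field K] [Fintype K]
    (n : ℕ) (p : MvPolynomial (Fin n) K) :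
    (∀ a : Fin n → K, MvPolynomial.eval a p = 0) ↔
      p ∈ Ideal.span (Set.range fun i : Fin n =>
        (MvPolynomial.X i ^ Fintype.card K - MvPolynomial.X i : MvPolynomial (Fin n) K)) := by
  classical
  have hprod : ∀ i : Fin n, ∏ r : K, (MvPolynomial.X i - MvPolynomial.C r : MvPolynomial (Fin n) K) =
      MvPolynomial.X i ^ Fintype.card K - MvPolynomial.X i := by
    intro i
    have h1 : ∏ r : K, (Polynomial.X - Polynomial.C r) = (Polynomial.X ^ Fintype.card K - Polynomial.X : Polynomial K) := by
      have hm : (Polynomial.X ^ Fintype.card K - Polynomial.X : Polynomial K).Monic :=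
        Polynomial.monic_X_pow_sub (lt_of_le_of_lt Polynomial.degree_X_le (by exact_mod_cast Fintype.one_lt_card))
      have hr := FiniteField.roots_X_pow_card_sub_X K
      have h2 := Polynomial.prod_multiset_X_sub_C_of_monic_of_roots_card_eq hm
        (by rw [hr, FiniteField.X_pow_card_sub_X_natDegree_eq K Fintype.one_lt_card]; rfl)
      rw [hr] at h2
      exact h2
    have := congrArg (Polynomial.aeval (MvPolynomial.X i : MvPolynomial (Fin n) K)) h1
    simpa [map_prod, MvPolynomial.algebraMap_eq] using this
  constructor
  · intro h
    obtain ⟨c, -, hc⟩ := MvPolynomial.combinatorial_nullstellensatz_exists_linearCombination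
      (fun _ : Fin n => (Finset.univ : Finset K)) (fun _ => Finset.univ_nonempty) p fun x _ => h x
    simp only [hprod] at hc
    rw [hc]
    show _ ∈ Submodule.span (MvPolynomial (Fin n) K) _
    rw [← Finsupp.range_linearCombination]
    exact LinearMap.mem_range_self _ c
  · intro h a
    have hle : Ideal.span (Set.range fun i : Fin n =>
        (MvPolynomial.X i ^ Fintype.card K - MvPolynomial.X i : MvPolynomial (Fin n) K)) ≤
        RingHom.ker (MvPolynomial.eval a) := by
      rw [Ideal.span_le]
      rintro _ ⟨i, rfl⟩
      simp [RingHom.mem_ker, FiniteField.pow_card]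
    exact hle h

end Groth.Agent.S13189
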