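import Mathlib
import Groth.Statements.S13191
-- import your own Groth.Agent.* helpers here

set_option autoImplicit false
universe u v w x
open GalCoh

namespace Groth.Agent.S13191

/-- Let a group G act by automorphisms on a group A, and let E and E' each be a G-equivariant right
A-torsor (a set with a simply transitive right action of A, written m ↦ m·a, and a left action of G
with g(m·a) = (gm)·(ga)). Let m ∈ E and m' ∈ E' be points with attached maps a, a' : G → A (g·m =
m·a(g) and g·m' = m'·a'(g) for all g). Then there is a bijection E ≃ E' commuting with the actions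
of G and of A if and only if a and a' are cohomologous. (The published statement is for a Galois
group acting on discrete modules; this row takes an arbitrary group acting on a group.) -/
theorem result {G : Type u} {A : Type v} {E : Type w} {E' : Type x}
    [Group G] [Group A] [MulDistribMulAction G A]
    [MulAction G E] [MulAction Aᵐᵒᵖ E]
    (hfree : ∀ m₁ m₂ : E, ∃! a : A, m₂ = MulOpposite.op a • m₁)
    (hcompat : ∀ (g : G) (a : A) (m : E), g • (MulOpposite.op a • m) = MulOpposite.op (g • a) • g • m)
    [MulAction G E'] [MulAction Aᵐᵒᵖ E']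
    (hfree' : ∀ m₁ m₂ : E', ∃! a : A, m₂ = MulOpposite.op a • m₁)
    (hcompat' : ∀ (g : G) (a : A) (m : E'), g • (MulOpposite.op a • m) = MulOpposite.op (g • a) • g • m)
    (m : E) (a : G → A) (ha : ∀ g : G, g • m = MulOpposite.op (a g) • m)
    (m' : E') (a' : G → A) (ha' : ∀ g : G, g • m' = MulOpposite.op (a' g) • m') :
    (∃ f : E ≃ E', (∀ (g : G) (e : E), f (g • e) = g • f e) ∧
        ∀ (b : A) (e : E), f (MulOpposite.op b • e) = MulOpposite.op b • f e) ↔
      GpH1.Cohomologous a a' := by
  have hop : ∀ (x y : A) (e : E'), MulOpposite.op x • MulOpposite.op y • e = MulOpposite.op (y * x) • e :=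
    fun x y e => by rw [smul_smul, ← MulOpposite.op_mul]
  have hop' : ∀ (x y : A) (e : E), MulOpposite.op x • MulOpposite.op y • e = MulOpposite.op (y * x) • e :=
    fun x y e => by rw [smul_smul, ← MulOpposite.op_mul]
  have free' : ∀ (x y : A), MulOpposite.op x • m' = MulOpposite.op y • m' → x = y :=
    fun x y h => (hfree' m' _).unique rfl h
  constructor
  · rintro ⟨f, hfG, hfA⟩
    obtain ⟨c, hc, -⟩ := hfree' m' (f m)
    refine ⟨c, fun g => ?_⟩
    have h := hfG g m
    rw [ha g, hfA, hc, hop, hcompat', ha', hop] at h
    rw [mul_assoc, eq_inv_mul_iff_mul_eq]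
    exact free' _ _ h
  · rintro ⟨c, hc⟩
    have b1 : Function.Bijective (fun x : A => MulOpposite.op x • m) :=
      ⟨fun x y h => (hfree m _).unique rfl h, fun e => ⟨_, (hfree m e).exists.choose_spec.symm⟩⟩
    have b2 : Function.Bijective (fun x : A => MulOpposite.op (c * x) • m') := by
      refine ⟨fun x y h => mul_left_cancel (free' _ _ h), fun e => ?_⟩
      obtain ⟨d, hd, -⟩ := hfree' m' e
      exact ⟨c⁻¹ * d, by simp [hd]⟩
    let f : E ≃ E' := (Equiv.ofBijective _ b1).symm.trans (Equiv.ofBijective _ b2)
    have hf : ∀ x : A, f (MulOpposite.op x • m) = MulOpposite.op (c * x) • m' := fun x => by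
      have : (Equiv.ofBijective _ b1).symm (MulOpposite.op x • m) = x :=
        (Equiv.ofBijective _ b1).symm_apply_eq.2 rfl
      show (Equiv.ofBijective _ b2) ((Equiv.ofBijective _ b1).symm (MulOpposite.op x • m)) = _
      rw [this]; rfl
    refine ⟨f, fun g e => ?_, fun b e => ?_⟩ <;> obtain ⟨x, hx⟩ := b1.2 e <;> subst hx <;> dsimp only
    · rw [hcompat, ha, hop', hf, hf, hcompat', ha', hop, hc g, smul_mul']
      congr 2
      group
    · rw [hop', hf, hf, hop, mul_assoc]

end Groth.Agent.S13191
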