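import Groth.Statements.S13192


set_option autoImplicit false
universe u v
open GalCoh

namespace Groth.Agent.S13192

/-- Let a group G act by automorphisms on a group A and let a : G → A be a 1-cocycle. Then there exist a
G-equivariant right A-torsor E (a set with a simply transitive right action of A, written m ↦ m·a,
and a left action of G with g(m·a) = (gm)·(ga)) and a point m of E whose attached map is a, i.e. g·m
= m·a(g) for every g in G. (E is taken in the universe of A. The published statement is for a Galois
group acting on discrete modules; this row takes an arbitrary group acting on a group.) -/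
theorem result {G : Type u} {A : Type v}
    [Group G] [Group A] [MulDistribMulAction G A] (a : G → A) (ha : GpH1.IsOneCocycle a) :
    ∃ (E : Type v) (_ : MulAction G E) (_ : MulAction Aᵐᵒᵖ E) (m : E),
      (∀ m₁ m₂ : E, ∃! b : A, m₂ = MulOpposite.op b • m₁) ∧
      (∀ (g : G) (b : A) (e : E), g • (MulOpposite.op b • e) = MulOpposite.op (g • b) • g • e) ∧
      ∀ g : G, g • m = MulOpposite.op (a g) • m := by
  refine ⟨A, { smul := fun g b => a g * g • b, one_smul := fun b => ?one, mul_smul := fun g h b => ?mul },
    inferInstance, 1, fun m₁ m₂ => ⟨m₁⁻¹ * m₂, ?_, fun b hb => ?_⟩, fun g b e => ?_, fun g => ?_⟩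
  case one =>
    have h := ha 1 1
    simp only [one_mul, one_smul] at h
    have h1 : a 1 = 1 := mul_right_cancel (b := a 1) (by rw [one_mul]; exact h.symm)
    change a 1 * (1 : G) • b = b
    rw [h1, one_smul, one_mul]
  case mul =>
    change a (g * h) * (g * h) • b = a g * g • (a h * h • b)
    rw [ha g h, smul_mul', mul_assoc, mul_smul]
  · change m₂ = m₁ * (m₁⁻¹ * m₂); group
  · have hb : m₂ = m₁ * b := hb
    rw [hb]; group
  · change a g * g • (e * b) = a g * g • e * g • b
    rw [smul_mul', mul_assoc]
  · change a g * g • (1 : A) = 1 * a g
    rw [smul_one, mul_one, one_mul]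

end Groth.Agent.S13192
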