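import Mathlib
import Groth.Agent.GalH90Cont.Basic
import Groth.Statements.S13194
-- import your own Groth.Agent.* helpers here

set_option autoImplicit false
universe u
open GalCoh

namespace Groth.Agent.S13194

/-- Let K be a field of characteristic p > 0, L a separable closure of K, and χ a locally constant map
from the automorphism group of L over K (Krull topology) to Z/pZ with χ(στ) = χ(σ) + χ(τ) for all σ,
τ — a continuous 1-cocycle for the trivial action. Then there is an element x of L with x^p − x in K
such that σ(x) − x equals χ(σ), read in the prime field of L, for every σ. Together with the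
elementary facts that σ ↦ σ(x) − x is such a cocycle for every x with x^p − x in K and vanishes
exactly when x lies in K, this identifies the first continuous cohomology group of the absolute
Galois group of K with coefficients Z/pZ with K/℘(K), ℘(y) = y^p − y. -/
theorem result (p : ℕ) [Fact p.Prime]
    (K L : Type u) [Field K] [Field L] [Algebra K L] [CharP K p] [IsSepClosure K L]
    (χ : (L ≃ₐ[K] L) → ZMod p) (hχ : ∀ σ τ : L ≃ₐ[K] L, χ (σ * τ) = χ σ + χ τ)
    (hlc : IsLocallyConstant χ) :
    ∃ x : L, x ^ p - x ∈ Set.range (algebraMap K L) ∧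
      ∀ σ : L ≃ₐ[K] L, σ x - x = ((χ σ).val : L) := by
  haveI : CharP L p := charP_of_injective_algebraMap (algebraMap K L).injective p
  let f : ZMod p →+* L := ZMod.castHom dvd_rfl L
  have hf : ∀ z : ZMod p, f z = (z.val : L) := fun z => by
    conv_lhs => rw [← ZMod.natCast_zmod_val z]
    exact map_natCast f _
  obtain ⟨x, hx⟩ := GalH90Cont.exists_eq_sub (fun σ : L ≃ₐ[K] L => f (χ σ))
    (fun σ τ => by simp only [hχ, map_add, hf (χ τ), map_natCast]) (hlc.comp _)
  have hx' : ∀ σ : L ≃ₐ[K] L, σ x - x = ((χ σ).val : L) := fun σ => (hx σ).symm.trans (hf _)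
  refine ⟨x, ?_, hx'⟩
  rw [InfiniteGalois.mem_range_algebraMap_iff_fixed]
  intro σ
  have e : σ x = x + f (χ σ) := by linear_combination -(hx σ)
  rw [map_sub, map_pow, e, add_pow_char, ← map_pow, ZMod.pow_card]
  ring

end Groth.Agent.S13194
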