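import Groth.Statements.S13198
import Groth.Agent.SHensel17.Henselian

set_option autoImplicit false
set_option linter.style.haveILetI false
universe u
open scoped TensorProduct
open Hensel

namespace Groth.Agent.S13198

/-- Let R be a local ring which is strictly henselian (henselian, with separably closed residue field),
A a local ring which is an integral R-algebra with local structure map and whose residue field is
purely inseparable over that of R, and B a local ring with a local homomorphism R → B. Then A ⊗_R B
is a local ring, the map B → A ⊗_R B is local, and the residue field extension of A ⊗_R B over B is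
purely inseparable: every element of A ⊗_R B has a p^n-th power, p the characteristic exponent of
the residue field of B, congruent modulo the maximal ideal to an element 1 ⊗ b. -/
theorem result
    (R A B : Type u) [CommRing R] [HenselianLocalRing R] [IsSepClosed (IsLocalRing.ResidueField R)]
    [CommRing A] [IsLocalRing A] [Algebra R A] [IsLocalHom (algebraMap R A)] [Algebra.IsIntegral R A]
    [IsPurelyInseparable (IsLocalRing.ResidueField R) (IsLocalRing.ResidueField A)]
    [CommRing B] [IsLocalRing B] [Algebra R B] [IsLocalHom (algebraMap R B)] :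
    ∃ _ : IsLocalRing (A ⊗[R] B),
      IsLocalHom (Algebra.TensorProduct.includeRight : B →ₐ[R] A ⊗[R] B).toRingHom ∧
      ∀ x : A ⊗[R] B, ∃ (n : ℕ) (b : B),
        x ^ (ringExpChar (IsLocalRing.ResidueField B)) ^ n - (1 : A) ⊗ₜ[R] b ∈ IsLocalRing.maximalIdeal (A ⊗[R] B) := by
  let κR := IsLocalRing.ResidueField R
  let κA := IsLocalRing.ResidueField A
  let κB := IsLocalRing.ResidueField B
  let Ω := AlgebraicClosure κB
  letI : Algebra κR Ω := ((algebraMap κB Ω).comp (algebraMap κR κB)).toAlgebra
  let j : κA →ₐ[κR] Ω := Classical.arbitrary _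
  let jA : A →ₐ[R] Ω :=
    { (j.toRingHom.comp (IsLocalRing.residue A)) with
      commutes' := fun r => by
        show j (algebraMap R κA r) = algebraMap R Ω r
        rw [IsScalarTower.algebraMap_apply R κR κA, j.commutes]
        show algebraMap κB Ω (algebraMap κR κB (algebraMap R κR r)) = _
        rw [← IsScalarTower.algebraMap_apply R κR κB, ← IsScalarTower.algebraMap_apply R κB Ω] }
  let w : B ⊗[R] A →ₐ[R] Ω :=
    Algebra.TensorProduct.lift (IsScalarTower.toAlgHom R B Ω) jA (fun _ _ => Commute.all _ _)
  haveI : Nontrivial (B ⊗[R] A) := RingHom.domain_nontrivial w.toRingHom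
  obtain ⟨hloc, hint⟩ := Groth.Agent.SHensel17.isLocalRing_tensor R A B
  haveI := hloc
  haveI := hint
  let c : A ⊗[R] B ≃ₐ[R] B ⊗[R] A := Algebra.TensorProduct.comm R A B
  haveI : IsLocalRing (A ⊗[R] B) := c.symm.toRingEquiv.isLocalRing
  have hlB : IsLocalHom (Algebra.TensorProduct.includeRight : B →ₐ[R] A ⊗[R] B).toRingHom := ⟨fun b hb => by
    by_contra h
    have h1 : IsUnit (algebraMap B (B ⊗[R] A) b) := by
      have h2 := hb.map c.toRingEquiv.toRingHom
      simpa [c] using h2
    have hcomap : (IsLocalRing.maximalIdeal (B ⊗[R] A)).comap (algebraMap B (B ⊗[R] A)) =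
        IsLocalRing.maximalIdeal B :=
      IsLocalRing.eq_maximalIdeal (Ideal.isMaximal_comap_of_isIntegral_of_isMaximal (R := B) _)
    have h3 : b ∈ (IsLocalRing.maximalIdeal (B ⊗[R] A)).comap (algebraMap B (B ⊗[R] A)) := by
      rw [hcomap]; exact h
    exact h3 h1⟩
  refine ⟨‹_›, hlB, ?_⟩
  let π := IsLocalRing.residue (A ⊗[R] B)
  let iB : B →+* A ⊗[R] B := (Algebra.TensorProduct.includeRight : B →ₐ[R] A ⊗[R] B).toRingHom
  let iA : A →+* A ⊗[R] B := Algebra.TensorProduct.includeLeftRingHom
  let q := ringExpChar κB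
  haveI : IsLocalHom iA := ⟨fun a ha => by
    by_contra h
    have h1 : IsUnit (w (c (a ⊗ₜ[R] (1 : B)))) := (ha.map c.toRingEquiv.toRingHom).map w
    refine h1.ne_zero ?_
    simp [w, c, jA, (IsLocalRing.residue_eq_zero_iff a).2 h]⟩
  haveI : IsLocalHom iB := hlB
  let kB : κB →+* IsLocalRing.ResidueField (A ⊗[R] B) := IsLocalRing.ResidueField.map iB
  haveI : ExpChar κR q := RingHom.expChar (algebraMap κR κB) (algebraMap κR κB).injective q
  haveI : ExpChar (IsLocalRing.ResidueField (A ⊗[R] B)) q := expChar_of_injective_ringHom kB.injective q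
  suffices h : ∀ x : A ⊗[R] B, ∃ (n : ℕ) (b : B), π x ^ q ^ n = π (iB b) from fun x => by
    obtain ⟨n, b, hb⟩ := h x
    refine ⟨n, b, (IsLocalRing.residue_eq_zero_iff _).1 ?_⟩
    rw [map_sub, map_pow, sub_eq_zero]
    exact hb
  intro x
  induction x using TensorProduct.induction_on with
  | zero => exact ⟨0, 0, by simp⟩
  | add x y hx hy =>
    obtain ⟨n, b, hb⟩ := hx
    obtain ⟨m, b', hb'⟩ := hy
    refine ⟨n + m, b ^ q ^ m + b' ^ q ^ n, ?_⟩
    rw [map_add, add_pow_expChar_pow, map_add, map_add, map_pow iB, map_pow π, map_pow iB, map_pow π,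
      ← hb, ← hb', ← pow_mul, ← pow_mul, ← pow_add, ← pow_add, Nat.add_comm m n]
  | tmul a b =>
    obtain ⟨n, z, hz⟩ := IsPurelyInseparable.pow_mem κR q (IsLocalRing.residue A a)
    obtain ⟨r, rfl⟩ := IsLocalRing.residue_surjective z
    refine ⟨n, algebraMap R B r * b ^ q ^ n, ?_⟩
    rw [show a ⊗ₜ[R] b = iA a * iB b by simp [iA, iB], map_mul, mul_pow, map_mul iB, map_mul π, map_pow iB,
      map_pow π]
    congr 1
    have h1 := congrArg (IsLocalRing.ResidueField.map iA) hz
    rw [map_pow] at h1
    refine h1.symm.trans ?_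
    show π (iA (algebraMap R A r)) = π (iB (algebraMap R B r))
    congr 1
    exact (Algebra.TensorProduct.includeLeft : A →ₐ[R] A ⊗[R] B).commutes r |>.trans
      ((Algebra.TensorProduct.includeRight : B →ₐ[R] A ⊗[R] B).commutes r).symm

end Groth.Agent.S13198
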