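import Groth.Statements.S13199
import Groth.Agent.UnibFib.UnramUnib
import Groth.Agent.UnibFib.HenselConn
import Mathlib.RingTheory.RingHom.LocallyStandardSmooth

set_option autoImplicit false
universe u
open Hensel

namespace Groth.Agent.S13199

/-- Let R be a Noetherian integral domain which is a strictly henselian local ring (henselian with
separably closed residue field), R' a smooth R-algebra and p a prime ideal of R' lying over the
maximal ideal of R (that is, containing its image). Then the local ring R'_p is an integral domain
and is geometrically unibranch: the integral closure of R'_p in its fraction field is a local ring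
whose residue field is purely inseparable over that of R'_p. (The published statement concludes that
every strict henselization of R'_p is an integral domain; for a local ring this is equivalent to
being an integral domain which is geometrically unibranch, the conclusion stated here.) -/
theorem result
    (R R' : Type u) [CommRing R] [IsDomain R] [IsNoetherianRing R] [HenselianLocalRing R]
    [IsSepClosed (IsLocalRing.ResidueField R)]
    [CommRing R'] [Algebra R R'] [Algebra.Smooth R R']
    (p : Ideal R') [p.IsPrime] (hp : (IsLocalRing.maximalIdeal R).map (algebraMap R R') ≤ p) :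
    IsDomain (Localization.AtPrime p) ∧ CAlg2.IsGeomUnibranch (Localization.AtPrime p) := by
  let K := FractionRing R
  have hgR : CAlg2.IsGeomUnibranch R :=
    Groth.Agent.GeomUnib.isGeomUnibranch_of_radicialAt (K := K) (integralClosure R K)
      (Groth.Agent.UnibFib.radicialAt_of_henselian_sepClosed R (integralClosure R K))
  have hsm : (algebraMap R R').Smooth := RingHom.smooth_algebraMap.2 inferInstance
  obtain ⟨t, ht, hstd⟩ := hsm.locally_isStandardSmooth
  obtain ⟨g₀, hg₀t, hg₀⟩ : ∃ g₀ ∈ t, g₀ ∉ p := by
    by_contra h
    push Not at h
    exact (inferInstance : p.IsPrime).ne_top (eq_top_iff.2 (ht ▸ Ideal.span_le.2 h))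
  let T := Localization.Away g₀
  obtain ⟨n, φ, hφC, hφ⟩ := RingHom.IsStandardSmooth.exists_etale_mvPolynomial (hstd g₀ hg₀t)
  let P := MvPolynomial (Fin n) R
  letI : Algebra P T := φ.toAlgebra
  haveI : Algebra.Etale P T := RingHom.etale_algebraMap.1 hφ
  have hdisj : Disjoint (Submonoid.powers g₀ : Set R') p := Set.disjoint_left.mpr fun z hz hzp => by
    obtain ⟨m, rfl⟩ := hz
    exact hg₀ (Ideal.IsPrime.mem_of_pow_mem inferInstance m hzp)
  let pT : Ideal T := p.map (algebraMap R' T)
  haveI : pT.IsPrime := IsLocalization.isPrime_of_isPrime_disjoint (Submonoid.powers g₀) T p inferInstance hdisj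
  have hpT : pT.comap (algebraMap R' T) = p :=
    IsLocalization.comap_map_of_isPrime_disjoint (Submonoid.powers g₀) T ‹_› hdisj
  let Q : Ideal P := pT.comap (algebraMap P T)
  haveI : Q.IsPrime := Ideal.IsPrime.comap _
  have hQ : Q.comap MvPolynomial.C = IsLocalRing.maximalIdeal R := by
    rw [Ideal.comap_comap, show (algebraMap P T).comp MvPolynomial.C = (algebraMap R' T).comp (algebraMap R R') from hφC,
      ← Ideal.comap_comap, hpT]
    exact ((IsLocalRing.maximalIdeal.isMaximal R).eq_of_le (Ideal.IsPrime.comap _).ne_top (Ideal.map_le_iff_le_comap.1 hp)).symm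
  haveI hdP : IsDomain (Localization.AtPrime Q) :=
    IsLocalization.isDomain_localization (Ideal.primeCompl_le_nonZeroDivisors Q)
  have hgP : CAlg2.IsGeomUnibranch (Localization.AtPrime Q) :=
    Groth.Agent.GeomUnib.isGeomUnibranch_mvPolynomial hgR (RingHom.id R) Function.surjective_id
      (by rw [(RingHom.injective_iff_ker_eq_bot _).1 Function.injective_id]; exact bot_le) Q hQ
  obtain ⟨hd, hg⟩ := Groth.Agent.UnibFib.etale_atPrime Q pT rfl hdP hgP
  haveI hloc : IsLocalization.AtPrime (Localization.AtPrime pT) (pT.comap (algebraMap R' T)) :=
    IsLocalization.isLocalization_isLocalization_atPrime_isLocalization (Submonoid.powers g₀) _ pT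
  haveI : IsLocalization p.primeCompl (Localization.AtPrime pT) := by
    have e : (pT.comap (algebraMap R' T)).primeCompl = p.primeCompl := by ext x; simp [hpT]
    exact e ▸ hloc
  let e := (IsLocalization.algEquiv p.primeCompl (Localization.AtPrime p) (Localization.AtPrime pT)).toRingEquiv
  haveI := hd
  exact ⟨e.toMulEquiv.isDomain _, Groth.Agent.GeomUnib.isGeomUnibranch_of_ringEquiv e hg⟩

end Groth.Agent.S13199
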