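import Groth.Statements.S17730
import Groth.Agent.SHensel17.GeomUnib
import Groth.Agent.S13199
import Groth.Agent.GorLib.FlatLocal

set_option autoImplicit false
universe u
open Hensel

namespace Groth.Agent.S17730

open IsLocalRing TensorProduct

open IsLocalRing in
/-- Let R be a Noetherian local ring which is strictly henselian (henselian with separably closed
residue field), Δ a prime element of R, R' a smooth R-algebra, q a prime ideal of R' containing the
image of the maximal ideal of R, and T a strict henselization of the localization R'_q. Then the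
image of Δ in T is a prime element of T. (This is the published statement, that a prime element of
the étale local ring of the base at a geometric point remains prime in the étale local ring of a
smooth scheme over it at a geometric point above, written for the base the spectrum of R; the
published hypothesis that the base be smooth-factorial, meaning that all its smooth schemes are
locally factorial, is not used by the argument and is omitted; R is taken Noetherian, which the
published statement does not state and the argument requires.) -/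
theorem result
    (R R' T : Type u) [CommRing R] [IsNoetherianRing R] [HenselianLocalRing R]
    [IsSepClosed (ResidueField R)]
    [CommRing R'] [Algebra R R'] [Algebra.Smooth R R']
    (q : Ideal R') [q.IsPrime] (hq : (maximalIdeal R).map (algebraMap R R') ≤ q)
    [CommRing T] [IsLocalRing T] [Algebra (Localization.AtPrime q) T]
    [IsLocalHom (algebraMap (Localization.AtPrime q) T)]
    [Hensel.IsStrictHenselization (Localization.AtPrime q) T]
    (Δ : R) (hΔ : Prime Δ) :
    Prime (algebraMap (Localization.AtPrime q) T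
      (algebraMap R' (Localization.AtPrime q) (algebraMap R R' Δ))) := by
  have hΔm : Δ ∈ maximalIdeal R := hΔ.not_unit
  let A := Localization.AtPrime q
  let δ : A := algebraMap R' A (algebraMap R R' Δ)
  let R₁ := R ⧸ Ideal.span {Δ}
  haveI : (Ideal.span {Δ}).IsPrime := (Ideal.span_singleton_prime hΔ.ne_zero).2 hΔ
  haveI : Nontrivial R₁ := inferInstance
  haveI : IsLocalRing R₁ := IsLocalRing.of_surjective' _ Ideal.Quotient.mk_surjective
  haveI : Algebra.IsIntegral R R₁ := ⟨fun t => by
    obtain ⟨s, rfl⟩ := Ideal.Quotient.mk_surjective t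
    exact isIntegral_algebraMap⟩
  obtain ⟨_, _, -⟩ := Groth.Agent.SHensel17.integral_local (H := R) (C := R₁)
  let J : Ideal R' := (Ideal.span {Δ}).map (algebraMap R R')
  have hJ : J = Ideal.span {algebraMap R R' Δ} := by simp [J, Ideal.map_span, Set.image_singleton]
  have hJq : J ≤ q := (Ideal.map_mono ((Ideal.span_singleton_le_iff_mem _).2 hΔm)).trans hq
  let R₁' := R₁ ⊗[R] R'
  let e₁ : R₁' ≃+* R' ⧸ J :=
    (Algebra.TensorProduct.comm R R₁ R').toRingEquiv.trans
      (Algebra.TensorProduct.quotIdealMapEquivTensorQuot R' (Ideal.span {Δ})).symm.toRingEquiv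
  let π : R₁' →+* R' ⧸ J := e₁.toRingHom
  haveI hqb : (q.map (Ideal.Quotient.mk J)).IsPrime :=
    Ideal.map_isPrime_of_surjective Ideal.Quotient.mk_surjective (by rw [Ideal.mk_ker]; exact hJq)
  let qb : Ideal (R' ⧸ J) := q.map (Ideal.Quotient.mk J)
  have hqbc : qb.comap (Ideal.Quotient.mk J) = q := Ideal.comap_map_mk hJq
  let p₁ : Ideal R₁' := qb.comap π
  haveI : p₁.IsPrime := Ideal.IsPrime.comap _
  have hp₁ : (maximalIdeal R₁).map (algebraMap R₁ R₁') ≤ p₁ := by
    refine Ideal.map_le_iff_le_comap.2 fun r hr => ?_
    obtain ⟨r, rfl⟩ := Ideal.Quotient.mk_surjective r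
    have hr' : r ∈ maximalIdeal R := fun hu => hr (hu.map _)
    show e₁ (algebraMap R₁ R₁' (Ideal.Quotient.mk _ r)) ∈ qb
    have he : e₁ (algebraMap R₁ R₁' (Ideal.Quotient.mk _ r)) = Ideal.Quotient.mk J (algebraMap R R' r) := by
      rw [show algebraMap R₁ R₁' (Ideal.Quotient.mk _ r) = algebraMap R R₁' r from
        (IsScalarTower.algebraMap_apply R R₁ R₁' r).symm]
      show ((Algebra.TensorProduct.comm R R₁ R').trans
        ((Algebra.TensorProduct.quotIdealMapEquivTensorQuot R' (Ideal.span {Δ})).symm.restrictScalars R))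
          (algebraMap R R₁' r) = _
      rw [AlgEquiv.commutes]
      rfl
    rw [he]
    exact Ideal.mem_map_of_mem _ (hq (Ideal.mem_map_of_mem _ hr'))
  obtain ⟨hdom, hgu⟩ := Groth.Agent.S13199.result R₁ R₁' p₁ hp₁
  -- the local ring of the quotient
  let I : Ideal A := J.map (algebraMap R' A)
  have hI : I ≤ maximalIdeal A := by
    rw [← Localization.AtPrime.map_eq_maximalIdeal]
    exact Ideal.map_mono hJq
  haveI : IsLocalRing (A ⧸ I) := Groth.Agent.GorLib.isLocalRing_quotient hI
  letI : Algebra (R' ⧸ J) (A ⧸ I) := (Ideal.quotientMap I (algebraMap R' A) Ideal.le_comap_map).toAlgebra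
  haveI hloc : IsLocalization (Algebra.algebraMapSubmonoid (R' ⧸ J) q.primeCompl) (A ⧸ I) :=
    IsLocalization.of_surjective q.primeCompl A (Ideal.Quotient.mk J) Ideal.Quotient.mk_surjective
      (Ideal.Quotient.mk I) Ideal.Quotient.mk_surjective (RingHom.ext fun x => rfl)
      (by rw [Ideal.mk_ker, Ideal.mk_ker])
  have hsub : Algebra.algebraMapSubmonoid (R' ⧸ J) q.primeCompl = qb.primeCompl := by
    ext z
    constructor
    · rintro ⟨s, hs, rfl⟩ h
      exact hs (hqbc.le h)
    · intro h
      obtain ⟨s, rfl⟩ := Ideal.Quotient.mk_surjective z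
      exact ⟨s, fun hs => h (Ideal.mem_map_of_mem _ hs), rfl⟩
  haveI : IsLocalization.AtPrime (A ⧸ I) qb := by
    show IsLocalization qb.primeCompl (A ⧸ I)
    rw [← hsub]
    exact hloc
  let e₂ : Localization.AtPrime qb ≃+* A ⧸ I := (IsLocalization.algEquiv qb.primeCompl _ _).toRingEquiv
  let e₃ : Localization.AtPrime p₁ ≃+* Localization.AtPrime qb :=
    IsLocalization.ringEquivOfRingEquiv (M := p₁.primeCompl) (T := qb.primeCompl) _ _ e₁ (by
      ext z
      constructor
      · rintro ⟨w, hw, rfl⟩
        exact hw
      · intro hz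
        exact ⟨e₁.symm z, fun h => hz (by simpa [p₁, π] using h), by simp⟩)
  haveI : IsDomain (A ⧸ I) := (e₃.trans e₂).symm.toMulEquiv.isDomain _
  have hguI : CAlg2.IsGeomUnibranch (A ⧸ I) := Groth.Agent.GeomUnib.isGeomUnibranch_of_ringEquiv (e₃.trans e₂).symm hgu
  have hIne : I ≠ ⊤ := ne_top_of_le_ne_top (maximalIdeal.isMaximal A).ne_top hI
  obtain ⟨_, _, _⟩ := Groth.Agent.SHensel17.exists_strictHenselization_quotient A T I hIne
  haveI : IsDomain ((A ⧸ I) ⊗[A] T) :=
    Groth.Agent.SHensel17.isDomain_of_geomUnibranch (A ⧸ I) ((A ⧸ I) ⊗[A] T) hguI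
  let e₄ : ((A ⧸ I) ⊗[A] T) ≃+* T ⧸ I.map (algebraMap A T) :=
    (Algebra.TensorProduct.comm A (A ⧸ I) T).toRingEquiv.trans
      (Algebra.TensorProduct.quotIdealMapEquivTensorQuot T I).symm.toRingEquiv
  haveI : IsDomain (T ⧸ I.map (algebraMap A T)) := by
    let f : (T ⧸ I.map (algebraMap A T)) →+* ((A ⧸ I) ⊗[A] T) := RingHomClass.toRingHom e₄.symm
    have hf : Function.Injective f := e₄.symm.injective
    exact hf.isDomain f
  have hIT : I.map (algebraMap A T) = Ideal.span {algebraMap A T δ} := by
    simp [I, hJ, δ, Ideal.map_span, Set.image_singleton]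
  have hprime : (Ideal.span {algebraMap A T δ}).IsPrime := by
    rw [← hIT]
    exact (Ideal.Quotient.isDomain_iff_prime _).1 inferInstance
  have hne : algebraMap A T δ ≠ 0 := by
    haveI : IsLocalHom (algebraMap R A) := by
      refine ((local_hom_TFAE (algebraMap R A)).out 0 2).2 ?_
      rw [IsScalarTower.algebraMap_eq R R' A, ← Ideal.map_map, ← Localization.AtPrime.map_eq_maximalIdeal]
      exact Ideal.map_mono hq
    haveI : Module.Flat R A := Module.Flat.trans R R' A
    haveI : Module.FaithfullyFlat R A := Module.FaithfullyFlat.of_flat_of_isLocalHom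
    haveI := Groth.Agent.SHensel17.weaklyEtale_of_isStrictHenselization A T
    haveI : Module.FaithfullyFlat A T := Module.FaithfullyFlat.of_flat_of_isLocalHom
    refine (map_ne_zero_iff _ (FaithfulSMul.algebraMap_injective A T)).2 ?_
    show algebraMap R' A (algebraMap R R' Δ) ≠ 0
    rw [← IsScalarTower.algebraMap_apply]
    exact (map_ne_zero_iff _ (FaithfulSMul.algebraMap_injective R A)).2 hΔ.ne_zero
  exact (Ideal.span_singleton_prime hne).1 hprime

end Groth.Agent.S17730
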