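import Groth.Statements.S7127
import Groth.Agent.EtAlgLib.Weakly
-- import your own Groth.Agent.* helpers here

set_option autoImplicit false
universe u
open EtAlg

namespace Groth.Agent.S7127

/-- Let A be a ring and B → C an A-algebra homomorphism between weakly étale A-algebras. Then C is
weakly étale over B. -/
theorem result (A B C : Type u) [CommRing A] [CommRing B] [CommRing C]
    [Algebra A B] [Algebra A C] [Algebra B C] [IsScalarTower A B C] [Algebra.WeaklyEtale A B]
    [Algebra.WeaklyEtale A C] : Algebra.WeaklyEtale B C := by
  haveI : Module.Flat B C :=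
    Groth.Agent.EtAlgLib.flat_of_flat_lmul A (Algebra.WeaklyEtale.flat_lmul' A B) C
  refine ⟨inferInstance, ?_⟩
  let p : TensorProduct A C C →ₐ[A] TensorProduct B C C := Algebra.TensorProduct.mapOfCompatibleSMul ..
  have hcomp : ((Algebra.TensorProduct.lmul' B (S := C)).toRingHom).comp p.toRingHom =
      (Algebra.TensorProduct.lmul' A (S := C)).toRingHom := by
    have : ((Algebra.TensorProduct.lmul' B (S := C)).restrictScalars A).comp p =
        Algebra.TensorProduct.lmul' A (S := C) := by
      apply Algebra.TensorProduct.ext'
      intro x y
      simp [p]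
    exact congrArg AlgHom.toRingHom this
  have hp : Function.Surjective p := TensorProduct.mapOfCompatibleSMul_surjective B A A C C
  have h := Algebra.WeaklyEtale.flat_lmul' A C
  change ((Algebra.TensorProduct.lmul' A (S := C)).toRingHom).Flat at h
  rw [← hcomp] at h
  show ((Algebra.TensorProduct.lmul' B (S := C)).toRingHom).Flat
  exact Groth.Agent.EtAlgLib.flat_of_comp_surjective (f := p.toRingHom) hp h

end Groth.Agent.S7127
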