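import Groth.Statements.S13202
import Groth.Agent.S17730
import Groth.Agent.SHensel17.Hom
import Groth.Agent.HenselLib.HenselizationAlg

set_option autoImplicit false
universe u
open Hensel

namespace Groth.Agent.S13202

open IsLocalRing TensorProduct


/-- Let R be a Noetherian regular ring (every localization at a prime ideal is a regular local ring) and
Δ ∈ R. The element Δ is étale-universally prime — meaning that for every prime ideal p of R
containing Δ and every strict henselization T of R_p, the image of Δ in T is a prime element —
exactly when for every smooth R-algebra R', every prime ideal q of R' and every strict henselization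
T of R'_q, the image of Δ in T is either invertible or a prime element. (Smooth R-algebras and their
strict henselizations are taken in the universe of R.) -/
theorem result
    (R : Type u) [CommRing R] [IsNoetherianRing R]
    (hreg : ∀ (p : Ideal R) [p.IsPrime], IsRegularLocalRing (Localization.AtPrime p)) (Δ : R) :
    (∀ (p : Ideal R) [p.IsPrime], Δ ∈ p →
        ∀ (T : Type u) [CommRing T] [IsLocalRing T] [Algebra (Localization.AtPrime p) T]
          [IsLocalHom (algebraMap (Localization.AtPrime p) T)]
          [Hensel.IsStrictHenselization (Localization.AtPrime p) T],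
          Prime (algebraMap (Localization.AtPrime p) T (algebraMap R (Localization.AtPrime p) Δ))) ↔
    (∀ (R' : Type u) [CommRing R'] [Algebra R R'] [Algebra.Smooth R R'] (q : Ideal R') [q.IsPrime]
        (T : Type u) [CommRing T] [IsLocalRing T] [Algebra (Localization.AtPrime q) T]
          [IsLocalHom (algebraMap (Localization.AtPrime q) T)]
          [Hensel.IsStrictHenselization (Localization.AtPrime q) T],
        IsUnit (algebraMap (Localization.AtPrime q) T (algebraMap R' (Localization.AtPrime q) (algebraMap R R' Δ))) ∨
          Prime (algebraMap (Localization.AtPrime q) T (algebraMap R' (Localization.AtPrime q) (algebraMap R R' Δ)))) := by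
  constructor
  · intro h R' _ _ _ q _ T _ _ _ _ _
    let A' := Localization.AtPrime q
    by_cases hΔ : algebraMap R R' Δ ∈ q
    · right
      let p : Ideal R := q.comap (algebraMap R R')
      let A := Localization.AtPrime p
      letI : Algebra R' T := ((algebraMap A' T).comp (algebraMap R' A')).toAlgebra
      haveI : IsScalarTower R' A' T := .of_algebraMap_eq fun _ => rfl
      letI : Algebra R T := ((algebraMap R' T).comp (algebraMap R R')).toAlgebra
      haveI : IsScalarTower R R' T := .of_algebraMap_eq fun _ => rfl
      haveI hT : Hensel.IsStrictHenselization A' T := inferInstance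
      haveI := hT.henselian
      haveI : IsSepClosed (ResidueField T) := hT.isSepClosure.sep_closed
      obtain ⟨T₀, _, _, _, _, _⟩ := HenselLib.exists_strictHenselization A
      haveI hT₀ : Hensel.IsStrictHenselization A T₀ := inferInstance
      haveI := hT₀.henselian
      haveI : IsSepClosed (ResidueField T₀) := hT₀.isSepClosure.sep_closed
      haveI : IsNoetherianRing T₀ :=
        (HenselLib.exists_colim_of_isStrictHenselization A T₀).isNoetherianRing
          fun r hr => HenselLib.algebraMap_eq_zero_of_tower hr
      let φ : A →+* T := (algebraMap A' T).comp (Localization.localRingHom p q (algebraMap R R') rfl)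
      haveI : IsLocalHom (Localization.localRingHom p q (algebraMap R R') rfl) :=
        Localization.isLocalHom_localRingHom p q (algebraMap R R') rfl
      haveI : IsLocalHom φ := RingHom.isLocalHom_comp _ _
      letI : Algebra (ResidueField A) (ResidueField T) := (ResidueField.map φ).toAlgebra
      haveI := hT₀.isSepClosure
      haveI : Algebra.IsSeparable (ResidueField A) (ResidueField T₀) := hT₀.isSepClosure.separable
      let τ : ResidueField T₀ →ₐ[ResidueField A] ResidueField T := IsSepClosed.lift
      obtain ⟨g, ⟨hg, hgr⟩, -⟩ := hT₀.universal T φ τ.toRingHom (RingHom.ext fun x => τ.commutes x)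
      have hgloc : ∀ x : T₀, IsUnit (g x) → IsUnit x := fun x hx => by
        by_contra hnu
        refine (hx.map (residue T)).ne_zero ?_
        rw [hgr, (residue_eq_zero_iff x).2 hnu, map_zero]
      letI : Algebra R T₀ := ((algebraMap A T₀).comp (algebraMap R A)).toAlgebra
      haveI : IsScalarTower R A T₀ := .of_algebraMap_eq fun _ => rfl
      haveI : Algebra.WeaklyEtale R T₀ := SHensel17.weaklyEtale_of_atPrime p T₀
      haveI : Algebra.WeaklyEtale R' T := SHensel17.weaklyEtale_of_atPrime q T
      let gR : T₀ →ₐ[R] T :=
        { g with
          commutes' := fun r => by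
            show g (algebraMap A T₀ (algebraMap R A r)) = algebraMap A' T (algebraMap R' A' (algebraMap R R' r))
            rw [show g (algebraMap A T₀ (algebraMap R A r)) = φ (algebraMap R A r) from RingHom.congr_fun hg _]
            exact congrArg (algebraMap A' T) (Localization.localRingHom_to_map p q (algebraMap R R') rfl r) }
      let T₁ := T₀ ⊗[R] R'
      let ψ : T₁ →ₐ[R] T :=
        Algebra.TensorProduct.lift gR (IsScalarTower.toAlgHom R R' T) fun _ _ => Commute.all _ _
      let Q : Ideal T₁ := (maximalIdeal T).comap ψ.toRingHom
      haveI : Q.IsPrime := Ideal.IsPrime.comap _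
      have hQ : (maximalIdeal T₀).map (algebraMap T₀ T₁) ≤ Q := by
        refine Ideal.map_le_iff_le_comap.2 fun x hx hu => hx (hgloc x ?_)
        have h1 : ψ (algebraMap T₀ T₁ x) = g x := by
          show (Algebra.TensorProduct.lift gR (IsScalarTower.toAlgHom R R' T) fun _ _ => Commute.all _ _)
            (x ⊗ₜ[R] (1 : R')) = g x
          rw [Algebra.TensorProduct.lift_tmul, map_one, mul_one]
          rfl
        rw [← h1]
        exact hu
      let Q' := Localization.AtPrime Q
      have hu : ∀ y : Q.primeCompl, IsUnit (ψ y) := fun y => not_not.1 y.2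
      let θ : Q' →+* T := IsLocalization.lift (g := ψ.toRingHom) hu
      have hθ : ∀ y, θ (algebraMap T₁ Q' y) = ψ y := fun y => IsLocalization.lift_eq _ y
      letI : Algebra Q' T := θ.toAlgebra
      haveI : IsLocalHom (algebraMap Q' T) := ⟨fun z hz => by
        obtain ⟨a, s, rfl⟩ := IsLocalization.exists_mk'_eq Q.primeCompl z
        refine (IsLocalization.AtPrime.isUnit_mk'_iff Q' Q a s).2 fun ha => ha ?_
        show IsUnit (ψ a)
        rw [← hθ, ← IsLocalization.mk'_spec Q' a s, map_mul, hθ]
        exact hz.mul (hu s)⟩
      haveI : Algebra.WeaklyEtale Q' T := by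
        refine SHensel17.RWE.weaklyEtale (f := θ) ?_ rfl
        refine SHensel17.RWE.cancel (f := (algebraMap T₁ Q').comp
          (Algebra.TensorProduct.includeRight : R' →ₐ[R] T₁).toRingHom) ?_ ?_
        · rw [show θ.comp ((algebraMap T₁ Q').comp
              (Algebra.TensorProduct.includeRight : R' →ₐ[R] T₁).toRingHom) = algebraMap R' T from
            RingHom.ext fun r => by
              show θ (algebraMap T₁ Q' ((1 : T₀) ⊗ₜ[R] r)) = algebraMap R' T r
              rw [hθ]
              show (Algebra.TensorProduct.lift gR (IsScalarTower.toAlgHom R R' T) fun _ _ => Commute.all _ _)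
                ((1 : T₀) ⊗ₜ[R] r) = algebraMap R' T r
              rw [Algebra.TensorProduct.lift_tmul, map_one, one_mul]
              rfl]
          exact SHensel17.rwe_algebraMap R' T
        · haveI : Algebra.WeaklyEtale T₁ Q' := WEtaleVal.weaklyEtale_of_isLocalization Q.primeCompl
          exact SHensel17.RWE.comp (SHensel17.rwe_algebraMap T₁ Q') (SHensel17.rwe_includeRight R T₀ R')
      haveI := SHensel17.isStrictHenselization_of_weaklyEtale Q' T
      have hp : Prime (algebraMap A T₀ (algebraMap R A Δ)) := h p (show Δ ∈ p from hΔ) T₀
      have := S17730.result T₀ T₁ T Q hQ (algebraMap A T₀ (algebraMap R A Δ)) hp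
      convert! this using 1
      show algebraMap A' T (algebraMap R' A' (algebraMap R R' Δ)) = θ (algebraMap T₁ Q' (algebraMap T₀ T₁ _))
      rw [hθ]
      show _ = ψ (algebraMap T₀ T₁ (algebraMap R T₀ Δ))
      rw [show algebraMap T₀ T₁ (algebraMap R T₀ Δ) = algebraMap R T₁ Δ from
        (IsScalarTower.algebraMap_apply R T₀ T₁ Δ).symm, ψ.commutes]
      rfl
    · left
      exact (IsLocalization.map_units A' (⟨algebraMap R R' Δ, hΔ⟩ : q.primeCompl)).map _
  · intro h p _ hΔ T _ _ _ _ _
    refine (h R p T).resolve_left fun hu => ?_
    have h1 := IsLocalHom.map_nonunit (f := algebraMap (Localization.AtPrime p) T) _ hu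
    exact (IsLocalization.AtPrime.isUnit_to_map_iff (Localization.AtPrime p) p _).1 h1 hΔ

end Groth.Agent.S13202
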