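import Groth.Statements.S17731
import Mathlib
-- import your own Groth.Agent.* helpers here

set_option autoImplicit false
universe u
open Neron

open CategoryTheory.Limits

namespace Groth.Agent.S17731

open CategoryTheory AlgebraicGeometry in
/-- Let S be a scheme, U ⊆ S a schematically dense open subscheme and N → S a smooth S-scheme having
uniqueness in the Néron mapping property with respect to U: for every smooth S-scheme Y, restriction
to U is injective on S-morphisms Y → N. Then for every smooth morphism g : S' → S the base change N
×_S S' → S' has uniqueness in the Néron mapping property with respect to g⁻¹(U): for every smooth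
S'-scheme Y', restriction to g⁻¹(U) is injective on S'-morphisms Y' → N ×_S S'. (The published
statement is for models which are algebraic spaces, tested against smooth algebraic spaces; this row
states the case of a scheme model tested against smooth schemes. The companion assertion that Néron
models are preserved by smooth base change is not restated here.) -/
theorem result
    {S S' : Scheme.{u}} (g : S' ⟶ S) [Smooth g]
    (U : S.Opens) (hU : CInt.IsSchematicallyDense U) (N : Over S) [Smooth N.hom]
    (hN : ∀ Y : Over S, Smooth Y.hom →
      Function.Injective (fun f : Y ⟶ N => (Over.pullback U.ι).map f))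
    (Y' : Over S') [Smooth Y'.hom] :
    Function.Injective (fun f : Y' ⟶ (Over.pullback g).obj N => (Over.pullback (g ⁻¹ᵁ U).ι).map f) := by
  intro f₁ f₂ h
  let P := pullback (Y'.hom ≫ g) U.ι
  have hr : Set.range (pullback.fst (Y'.hom ≫ g) U.ι) ⊆ Set.range (pullback.fst Y'.hom (g ⁻¹ᵁ U).ι) := by
    rw [Scheme.Pullback.range_fst, Scheme.Pullback.range_fst, Scheme.Opens.range_ι, Scheme.Opens.range_ι]
    exact fun y hy => hy
  let k := IsOpenImmersion.lift (pullback.fst Y'.hom (g ⁻¹ᵁ U).ι) _ hr
  have hk : k ≫ pullback.fst Y'.hom (g ⁻¹ᵁ U).ι = pullback.fst (Y'.hom ≫ g) U.ι := IsOpenImmersion.lift_fac _ _ _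
  let F : ∀ _ : Y' ⟶ (Over.pullback g).obj N, Over.mk (Y'.hom ≫ g) ⟶ N := fun f =>
    Over.homMk (f.left ≫ pullback.fst N.hom g) (by
      rw [Category.assoc, pullback.condition]
      exact congrArg (· ≫ g) (Over.w f) |>.trans (by rfl) |> (Category.assoc _ _ _).symm.trans)
  have h' : pullback.fst Y'.hom (g ⁻¹ᵁ U).ι ≫ f₁.left = pullback.fst Y'.hom (g ⁻¹ᵁ U).ι ≫ f₂.left := by
    have := congrArg (fun m => m.left ≫ pullback.fst _ _) h
    simp only [Over.pullback, Over.homMk_left] at this
    erw [pullback.lift_fst, pullback.lift_fst] at this
    exact this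
  have hF : F f₁ = F f₂ := by
    refine hN _ (inferInstanceAs (Smooth (Y'.hom ≫ g))) ?_
    ext : 1
    apply pullback.hom_ext
    · simp only [Over.pullback, Over.homMk_left]
      erw [pullback.lift_fst, pullback.lift_fst]
      show pullback.fst (Y'.hom ≫ g) U.ι ≫ f₁.left ≫ _ = pullback.fst (Y'.hom ≫ g) U.ι ≫ f₂.left ≫ _
      rw [← hk, Category.assoc, Category.assoc, reassoc_of% h']
    · simp only [Over.pullback, Over.homMk_left]
      erw [pullback.lift_snd, pullback.lift_snd]
  ext : 1
  apply pullback.hom_ext
  · exact congrArg CommaMorphism.left hF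
  · exact (Over.w f₁).trans (Over.w f₂).symm

end Groth.Agent.S17731
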