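import Groth.Statements.S13203
import Groth.Agent.S17731
-- import your own Groth.Agent.* helpers here

set_option autoImplicit false
universe u
open CategoryTheory AlgebraicGeometry
open Neron

open CategoryTheory.Limits

namespace Groth.Agent.S13203

/-- Let S be a scheme, U ⊆ S a schematically dense open subscheme and N → S a smooth S-scheme with the
Néron mapping property with respect to U: for every smooth S-scheme Y, sending an S-morphism Y → N
to its restriction Y ×_S U → N ×_S U is a bijection onto the U-morphisms. Then for every smooth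
morphism g : S' → S the base change N ×_S S' → S' (again smooth) has the Néron mapping property with
respect to g⁻¹(U): for every smooth S'-scheme Y', restriction to g⁻¹(U) is a bijection from
S'-morphisms Y' → N ×_S S' onto g⁻¹(U)-morphisms. (The published statement is for models which are
algebraic spaces, tested against smooth algebraic spaces, and also says that separatedness is
preserved; this row states the case of a smooth scheme model tested against smooth schemes.) -/
theorem result
    {S S' : Scheme.{u}} (g : S' ⟶ S) [Smooth g]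
    (U : S.Opens) (hU : CInt.IsSchematicallyDense U) (N : Over S) [Smooth N.hom]
    (hN : ∀ Y : Over S, Smooth Y.hom →
      Function.Bijective (fun f : Y ⟶ N => (Over.pullback U.ι).map f))
    (Y' : Over S') [Smooth Y'.hom] :
    Function.Bijective (fun f : Y' ⟶ (Over.pullback g).obj N => (Over.pullback (g ⁻¹ᵁ U).ι).map f) := by
  refine ⟨Groth.Agent.S17731.result g U hU N (fun Y hY => (hN Y hY).1) Y', fun h => ?_⟩
  let V := g ⁻¹ᵁ U
  have hr : Set.range (pullback.fst (Y'.hom ≫ g) U.ι) ⊆ Set.range (pullback.fst Y'.hom V.ι) := by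
    rw [Scheme.Pullback.range_fst, Scheme.Pullback.range_fst, Scheme.Opens.range_ι, Scheme.Opens.range_ι]
    exact fun y hy => hy
  have hr' : Set.range (pullback.fst Y'.hom V.ι) ⊆ Set.range (pullback.fst (Y'.hom ≫ g) U.ι) := by
    rw [Scheme.Pullback.range_fst, Scheme.Pullback.range_fst, Scheme.Opens.range_ι, Scheme.Opens.range_ι]
    exact fun y hy => hy
  let k := IsOpenImmersion.lift (pullback.fst Y'.hom V.ι) _ hr
  have hk : k ≫ pullback.fst Y'.hom V.ι = pullback.fst (Y'.hom ≫ g) U.ι := IsOpenImmersion.lift_fac _ _ _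
  let m := IsOpenImmersion.lift (pullback.fst (Y'.hom ≫ g) U.ι) _ hr'
  have hm : m ≫ pullback.fst (Y'.hom ≫ g) U.ι = pullback.fst Y'.hom V.ι := IsOpenImmersion.lift_fac _ _ _
  have hmk : m ≫ k = 𝟙 _ := by
    rw [← cancel_mono (pullback.fst Y'.hom V.ι), Category.assoc, hk, hm, Category.id_comp]
  let hl : pullback Y'.hom V.ι ⟶ pullback (pullback.snd N.hom g) V.ι := h.left
  have hsnd : hl ≫ pullback.snd (pullback.snd N.hom g) V.ι = pullback.snd Y'.hom V.ι := Over.w h
  have e1 : hl ≫ pullback.fst (pullback.snd N.hom g) V.ι ≫ pullback.snd N.hom g = pullback.fst Y'.hom V.ι ≫ Y'.hom := by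
    rw [pullback.condition, reassoc_of% hsnd, pullback.condition]
  have e2 : (k ≫ hl ≫ pullback.fst (pullback.snd N.hom g) V.ι ≫ pullback.fst N.hom g) ≫ N.hom = pullback.snd (Y'.hom ≫ g) U.ι ≫ U.ι := by
    simp only [Category.assoc]
    rw [pullback.condition, reassoc_of% e1, reassoc_of% hk, pullback.condition]
  let P' : (Over.pullback U.ι).obj (Over.mk (Y'.hom ≫ g)) ⟶ (Over.pullback U.ι).obj N :=
    Over.homMk (pullback.lift (k ≫ hl ≫ pullback.fst (pullback.snd N.hom g) V.ι ≫ pullback.fst N.hom g) (pullback.snd (Y'.hom ≫ g) U.ι) e2)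
      (pullback.lift_snd _ _ _)
  obtain ⟨F, hF⟩ := (hN (Over.mk (Y'.hom ≫ g)) (inferInstanceAs (Smooth (Y'.hom ≫ g)))).2 P'
  have hF' : pullback.fst (Y'.hom ≫ g) U.ι ≫ F.left = k ≫ hl ≫ pullback.fst (pullback.snd N.hom g) V.ι ≫ pullback.fst N.hom g := by
    have := congrArg (fun q => q.left ≫ pullback.fst _ _) hF
    simp only [Over.pullback, Over.homMk_left, P'] at this
    erw [pullback.lift_fst, pullback.lift_fst] at this
    exact this
  let Fl : Y'.left ⟶ N.left := F.left
  have hFw : Fl ≫ N.hom = Y'.hom ≫ g := Over.w F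
  refine ⟨Over.homMk (pullback.lift Fl Y'.hom hFw) (pullback.lift_snd _ _ _), ?_⟩
  ext : 1
  apply pullback.hom_ext
  · simp only [Over.pullback, Over.homMk_left]
    erw [pullback.lift_fst]
    show pullback.fst Y'.hom V.ι ≫ pullback.lift Fl Y'.hom hFw = hl ≫ pullback.fst (pullback.snd N.hom g) V.ι
    apply pullback.hom_ext
    · rw [Category.assoc, pullback.lift_fst, ← hm, Category.assoc, show pullback.fst (Y'.hom ≫ g) U.ι ≫ Fl = _ from hF', reassoc_of% hmk, Category.assoc]
    · rw [Category.assoc, pullback.lift_snd, Category.assoc, e1]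
  · simp only [Over.pullback, Over.homMk_left]
    erw [pullback.lift_snd]
    exact hsnd.symm

end Groth.Agent.S13203
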