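import Groth.Statements.S13206
import Mathlib

set_option autoImplicit false
universe u
open CategoryTheory AlgebraicGeometry
open AlgGrp

namespace Groth.Agent.S13206
open CategoryTheory.Limits

/-- Let X → S be a separated morphism of schemes and let a finite group G act on X through
S-automorphisms. Then the functor of G-fixed points is represented by a closed subscheme of X: there
are a scheme Z and a closed immersion i : Z → X with i ∘ g = i for all g ∈ G such that every
morphism x : T → X with g ∘ x = x for all g ∈ G factors uniquely through i. (The published statement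
is for an algebraic space X over S, also treats the locally separated case and notes compatibility
with base change; this row is the separated case for schemes.) -/
theorem result
    {X S : Scheme.{u}} (p : X ⟶ S) [IsSeparated p]
    (G : Type u) [Group G] [Finite G] (ρ : G →* Aut X) (hρ : ∀ g : G, (ρ g).hom ≫ p = p) :
    ∃ (Z : Scheme.{u}) (i : Z ⟶ X), IsClosedImmersion i ∧ (∀ g : G, i ≫ (ρ g).hom = i) ∧
      ∀ (T : Scheme.{u}) (x : T ⟶ X), (∀ g : G, x ≫ (ρ g).hom = x) → ∃! z : T ⟶ Z, z ≫ i = x := by
  classical
  have key : ∀ s : Finset G, ∃ (Z : Scheme.{u}) (i : Z ⟶ X), IsClosedImmersion i ∧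
      ∀ (T : Scheme.{u}) (x : T ⟶ X), (∃ z, z ≫ i = x) ↔ ∀ g ∈ s, x ≫ (ρ g).hom = x := by
    intro s
    induction s using Finset.induction with
    | empty => exact ⟨X, 𝟙 X, inferInstance, fun T x => by simp⟩
    | @insert a s _ ih =>
      obtain ⟨Z, i, hi, hZ⟩ := ih
      let d : Z ⟶ Limits.pullback p p := Limits.pullback.lift (i ≫ (ρ a).hom) i (by rw [Category.assoc, hρ])
      let e := Limits.pullback.snd (Limits.pullback.diagonal p) d
      refine ⟨_, e ≫ i, inferInstance, fun T x => ⟨?_, fun h => ?_⟩⟩
      · rintro ⟨z, rfl⟩
        intro g hg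
        rcases Finset.mem_insert.mp hg with rfl | hg
        · have h1 : e ≫ d ≫ Limits.pullback.fst p p = e ≫ d ≫ Limits.pullback.snd p p := by
            simp only [e, ← Limits.pullback.condition_assoc, Limits.pullback.diagonal_fst, Limits.pullback.diagonal_snd]
          simp only [d, Limits.pullback.lift_fst, Limits.pullback.lift_snd] at h1
          simp only [Category.assoc]
          rw [h1]
        · exact (hZ T _).mp ⟨z ≫ e, by simp⟩ g hg
      · obtain ⟨z, rfl⟩ := (hZ T x).mpr fun g hg => h g (Finset.mem_insert_of_mem hg)
        refine ⟨Limits.pullback.lift (z ≫ i) z ?_, Limits.pullback.lift_snd_assoc _ _ _ _⟩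
        have h3 := h a (Finset.mem_insert_self a s)
        rw [Category.assoc] at h3
        apply Limits.pullback.hom_ext
        · simp only [Category.assoc, Limits.pullback.diagonal_fst, Category.comp_id, d]
          erw [Limits.pullback.lift_fst]
          exact h3.symm
        · simp only [Category.assoc, Limits.pullback.diagonal_snd, Category.comp_id, d]
          erw [Limits.pullback.lift_snd]
  cases nonempty_fintype G
  obtain ⟨Z, i, hi, hZ⟩ := key Finset.univ
  refine ⟨Z, i, hi, fun g => (hZ Z i).mp ⟨𝟙 Z, Category.id_comp i⟩ g (Finset.mem_univ g), fun T x hx => ?_⟩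
  obtain ⟨z, hz⟩ := (hZ T x).mpr fun g _ => hx g
  exact ⟨z, hz, fun z' hz' => (cancel_mono i).mp (hz'.trans hz.symm)⟩

end Groth.Agent.S13206
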