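import Groth.Statements.S1321
import Groth.Agent.ThickProps.DeformLFP
import Groth.Agent.ThickProps.Deform
import Groth.Agent.ThickProps.DeformSmooth
import Groth.Agent.S1317
-- import your own Groth.Agent.* helpers here

set_option autoImplicit false
universe u
open FlatMor

namespace Groth.Agent.S1321

open AlgebraicGeometry CategoryTheory Limits in
/-- Let S ⟶ S' be a finite order thickening, let X' ⟶ Y' be a morphism of schemes over S' with X' flat
over S', and let X ⟶ Y be its base change to S. Then X ⟶ Y is smooth if and only if X' ⟶ Y' is. -/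
theorem result {X X' Y Y' S S' : Scheme.{u}} (iX : X ⟶ X') (iY : Y ⟶ Y') (iS : S ⟶ S')
    (f : X ⟶ Y) (f' : X' ⟶ Y') (g : Y ⟶ S) (g' : Y' ⟶ S')
    (hS : MoreMor.IsFiniteOrderThickening iS) (hcX : IsPullback iX (f ≫ g) (f' ≫ g') iS) (hcY : IsPullback iY g g' iS)
    (w : iX ≫ f' = f ≫ iY) [Flat (f' ≫ g')] :
    Smooth f ↔ Smooth f' := by
  haveI : IsClosedImmersion iS := hS.1.1
  haveI : Surjective iS := hS.1.2
  have sqi : IsPullback iX f f' iY := IsPullback.of_bot hcX w hcY
  haveI : IsClosedImmersion iY := MorphismProperty.of_isPullback (P := @IsClosedImmersion) hcY.flip inferInstance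
  haveI : Surjective iY := MorphismProperty.of_isPullback (P := @Surjective) hcY.flip inferInstance
  refine ⟨fun hf => ?_, fun hf => MorphismProperty.of_isPullback (P := @Smooth) sqi hf⟩
  haveI := hf
  haveI : LocallyOfFiniteType f' := Groth.Agent.ThickProps.locallyOfFiniteType_of_isPullback sqi
    (Groth.Agent.ThickProps.isNilpotent_ker_of_isPullback hcY hS.2)
  haveI : LocallyOfFinitePresentation f' := Groth.Agent.ThickProps.locallyOfFinitePresentation_of_deform hS.2 hcX hcY sqi
  haveI : Flat f' := (Groth.Agent.S1317.result iX iY iS f f' g g' hS hcX hcY w).1 inferInstance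
  exact Groth.Agent.ThickProps.smooth_of_isPullback sqi

end Groth.Agent.S1321
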