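import Groth.Statements.S1323
import Groth.Agent.ThickProps.DeformLFP
import Groth.Agent.ThickProps.Deform
import Groth.Agent.S1305
import Groth.Agent.S1317
import Mathlib.AlgebraicGeometry.Morphisms.FlatRank
-- import your own Groth.Agent.* helpers here

set_option autoImplicit false
universe u
open FlatMor

namespace Groth.Agent.S1323

open AlgebraicGeometry CategoryTheory Limits in
/-- Let S ⟶ S' be a finite order thickening, let X' ⟶ Y' be a morphism of schemes over S' with X' flat
over S', and let X ⟶ Y be its base change to S. Then X ⟶ Y is finite locally free of rank d if and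
only if X' ⟶ Y' is. -/
theorem result (d : ℕ) {X X' Y Y' S S' : Scheme.{u}} (iX : X ⟶ X') (iY : Y ⟶ Y') (iS : S ⟶ S')
    (f : X ⟶ Y) (f' : X' ⟶ Y') (g : Y ⟶ S) (g' : Y' ⟶ S')
    (hS : MoreMor.IsFiniteOrderThickening iS) (hcX : IsPullback iX (f ≫ g) (f' ≫ g') iS) (hcY : IsPullback iY g g' iS)
    (w : iX ≫ f' = f ≫ iY) [Flat (f' ≫ g')] :
    Mor2.IsFinLocFreeOfDeg d f ↔ Mor2.IsFinLocFreeOfDeg d f' := by
  haveI : IsClosedImmersion iS := hS.1.1
  haveI : Surjective iS := hS.1.2
  have sqi : IsPullback iX f f' iY := IsPullback.of_bot hcX w hcY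
  haveI : IsClosedImmersion iY := MorphismProperty.of_isPullback (P := @IsClosedImmersion) hcY.flip inferInstance
  haveI : Surjective iY := MorphismProperty.of_isPullback (P := @Surjective) hcY.flip inferInstance
  refine ⟨fun hf => ?_, fun hf => ?_⟩
  · obtain ⟨⟨hfin, hfl, hfp⟩, hd⟩ := hf
    haveI := hfin
    haveI := hfl
    haveI := hfp
    haveI : LocallyOfFiniteType f' := Groth.Agent.ThickProps.locallyOfFiniteType_of_isPullback sqi
      (Groth.Agent.ThickProps.isNilpotent_ker_of_isPullback hcY hS.2)
    haveI : LocallyOfFinitePresentation f' := Groth.Agent.ThickProps.locallyOfFinitePresentation_of_deform hS.2 hcX hcY sqi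
    haveI : Flat f' := (Groth.Agent.S1317.result iX iY iS f f' g g' hS hcX hcY w).1 inferInstance
    haveI : IsClosedImmersion iX := MorphismProperty.of_isPullback (P := @IsClosedImmersion) sqi.flip inferInstance
    haveI : Surjective iX := MorphismProperty.of_isPullback (P := @Surjective) sqi.flip inferInstance
    haveI : IsIntegralHom f' :=
      (Groth.Agent.S1305.result iX iY f f' ⟨inferInstance, inferInstance⟩ ⟨inferInstance, inferInstance⟩ w).1 inferInstance
    haveI : IsFinite f' := (IsFinite.iff_isIntegralHom_and_locallyOfFiniteType f').mpr ⟨inferInstance, inferInstance⟩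
    refine ⟨⟨inferInstance, inferInstance, inferInstance⟩, fun y' => ?_⟩
    obtain ⟨y, rfl⟩ := iY.surjective y'
    rw [← Scheme.Hom.finrank_of_isPullback iX f f' iY sqi y, hd y]
  · obtain ⟨⟨hfin, hfl, hfp⟩, hd⟩ := hf
    haveI := hfin
    haveI := hfl
    refine ⟨⟨MorphismProperty.of_isPullback sqi hfin, MorphismProperty.of_isPullback sqi hfl,
      MorphismProperty.of_isPullback sqi hfp⟩, fun y => ?_⟩
    rw [Scheme.Hom.finrank_of_isPullback iX f f' iY sqi y, hd (iY y)]

end Groth.Agent.S1323
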