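import Groth.Statements.S1327
import Groth.Agent.GeomUnib.SectionConnFlat
-- import your own Groth.Agent.* helpers here

set_option autoImplicit false
universe u
open FlatMor

namespace Groth.Agent.S1327

open AlgebraicGeometry CategoryTheory Limits in
/-- Let f be flat and of finite presentation with a section s, and let y be a point of the target whose
fibre is geometrically reduced. Then the section components of (f, s) contain an open neighbourhood
of the connected component of s y in the fibre over y. -/
theorem result {X Y : Scheme.{u}} (f : X ⟶ Y) (s : Y ⟶ X) (hs : s ≫ f = 𝟙 Y)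
    [LocallyOfFinitePresentation f] [QuasiCompact f] [QuasiSeparated f] [Flat f] (y : Y)
    (hy : GeometricallyReduced (f.fiberToSpecResidueField y)) :
    connectedComponentIn (f ⁻¹' {y}) (s y) ⊆ interior (MoreMor.sectionComponents f s) := by
  refine Groth.Agent.GeomUnib.SectionConnFlat.subset_interior hs (fun U hU => ?_) fun a ha => ?_
  · haveI : QuasiSeparatedSpace ↥(f ⁻¹ᵁ U : Scheme.{u}) := by
      haveI : QuasiSeparatedSpace ↥(U : Scheme.{u}) := hU.isQuasiSeparated |> fun h =>
        (isQuasiSeparated_iff_quasiSeparatedSpace _ U.2).1 h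
      exact quasiSeparatedSpace_of_quasiSeparated (f ∣_ U)
    exact (isQuasiSeparated_iff_quasiSeparatedSpace _ (f ⁻¹ᵁ U).2).2 ‹QuasiSeparatedSpace ↥(f ⁻¹ᵁ U : Scheme.{u})›
  · have hy' : f.base a = y := Groth.Agent.GeomUnib.SectionComp.apply_of_mem_X0 ha
    subst hy'
    intro K _ _ w _
    haveI : IsReduced (FBase.bc (f.fiberToSpecResidueField (f.base a)) K) :=
      hy.geometrically_isReduced (Spec.map (CommRingCat.ofHom
        (algebraMap (IsLocalRing.ResidueField (Y.presheaf.stalk (f.base a))) K))) _ _ (IsPullback.of_hasPullback _ _)
    infer_instance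

end Groth.Agent.S1327
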