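import Groth.Statements.S13341
import Groth.Prelude.Def_FSch4
-- import your own Groth.Agent.* helpers here

set_option autoImplicit false
open CategoryTheory
universe u
open FCompl

namespace Groth.Agent.S13341

section
open CategoryTheory CategoryTheory.Limits AlgebraicGeometry

theorem isPullback_section {X X' P P' : Scheme.{u}} (ιX : X ⟶ X') (ιP : P ⟶ P') (γ : X ⟶ P) (γ' : X' ⟶ P')
    (r : P ⟶ X) (r' : P' ⟶ X') [Mono ιP] (h1 : γ ≫ r = 𝟙 _) (h2 : γ' ≫ r' = 𝟙 _) (h3 : r ≫ ιX = ιP ≫ r')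
    (wsq : ιX ≫ γ' = γ ≫ ιP) : IsPullback ιX γ γ' ιP := by
  have key : ∀ (s : PullbackCone γ' ιP), (s.snd ≫ r) ≫ ιX = s.fst := fun s => by
    rw [Category.assoc, h3, ← Category.assoc, ← s.condition, Category.assoc, h2, Category.comp_id]
  refine ⟨⟨wsq⟩, ⟨PullbackCone.IsLimit.mk _ (fun s => s.snd ≫ r) key (fun s => ?_) (fun s m h₁ h₂ => ?_)⟩⟩
  · rw [← cancel_mono ιP, ← s.condition, Category.assoc, ← wsq, ← Category.assoc, key s]
  · rw [← h₂, Category.assoc, h1, Category.comp_id]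

theorem mono_pullback_map {A B C A' B' C' : Scheme.{u}} (a : A ⟶ C) (b : B ⟶ C) (a' : A' ⟶ C') (b' : B' ⟶ C')
    (i : A ⟶ A') (j : B ⟶ B') (k : C ⟶ C') (h : a ≫ k = i ≫ a') (h' : b ≫ k = j ≫ b') [Mono i] [Mono j] :
    Mono (pullback.map a b a' b' i j k h h') := ⟨fun {T} s t hst => by
  apply pullback.hom_ext
  · have := congrArg (· ≫ pullback.fst a' b') hst
    simp only [pullback.map, Category.assoc, pullback.lift_fst] at this
    rw [← cancel_mono i, Category.assoc, Category.assoc]; exact this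
  · have := congrArg (· ≫ pullback.snd a' b') hst
    simp only [pullback.map, Category.assoc, pullback.lift_snd] at this
    rw [← cancel_mono j, Category.assoc, Category.assoc]; exact this⟩

theorem isClosedImmersion_section {X P : Scheme.{u}} (γ : X ⟶ P) (r : P ⟶ X) [IsSeparated r] (h : γ ≫ r = 𝟙 _) :
    IsClosedImmersion γ := by
  haveI : IsClosedImmersion (γ ≫ r) := by rw [h]; infer_instance
  exact IsClosedImmersion.of_comp γ r

end

open CategoryTheory AlgebraicGeometry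

open AlgebraicGeometry in
/-- Formal schemes are presented as locally Noetherian adic systems of thickenings and the fibre product
is taken levelwise (it presents the fibre product of formal schemes since one factor is adic over
the base). Let 𝔖 be a locally Noetherian formal system, 𝔛 and 𝔜 locally Noetherian formal systems
over 𝔖 such that 𝔛 or 𝔜 is of finite type over 𝔖, and 𝔜 separated over 𝔖 at level 0. Then for every
𝔖-morphism f : 𝔛 → 𝔜 the graph morphism 𝔛 → 𝔛 ×_𝔖 𝔜 is a closed immersion: adic, with level 0 a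
closed immersion. -/
theorem result {𝔛 𝔜 𝔖 : FSch.Sys.{u}} (h𝔖 : 𝔖.IsLocNoethFormal) (h𝔛 : 𝔛.IsLocNoethFormal)
    (h𝔜 : 𝔜.IsLocNoethFormal) (p : 𝔛 ⟶ 𝔖) (q : 𝔜 ⟶ 𝔖) (hpq : FSch.IsFiniteTypeHom p ∨ FSch.IsFiniteTypeHom q)
    (hq : IsSeparated ((q : FSch.Hom 𝔜 𝔖).app 0)) (f : 𝔛 ⟶ 𝔜) (w : f ≫ q = p) :
    FSch.IsClosedImmHom (FSch.graph f p q w) := by
  refine ⟨fun n => ?_, ?_⟩
  · haveI := (h𝔛.1 n).1
    haveI := (h𝔜.1 n).1
    haveI hm : Mono ((FSch.pullbackSys p q).ι n) :=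
      mono_pullback_map _ _ _ _ (𝔛.ι n) (𝔜.ι n) (𝔖.ι n) ((p : FSch.Hom 𝔛 𝔖).comm n) ((q : FSch.Hom 𝔜 𝔖).comm n)
    exact @isPullback_section _ _ _ _ _ _ _ _
      ((FSch.pullbackFst p q : FSch.Hom _ _).app n) ((FSch.pullbackFst p q : FSch.Hom _ _).app (n + 1)) hm
      (Limits.pullback.lift_fst _ _ _) (Limits.pullback.lift_fst _ _ _) ((FSch.pullbackFst p q : FSch.Hom _ _).comm n)
      ((FSch.graph f p q w : FSch.Hom _ _).comm n).symm
  · exact @isClosedImmersion_section _ _ _ (Limits.pullback.fst ((p : FSch.Hom 𝔛 𝔖).app 0) ((q : FSch.Hom 𝔜 𝔖).app 0))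
      (MorphismProperty.pullback_fst (P := @IsSeparated) _ _ hq) (Limits.pullback.lift_fst _ _ _)

end Groth.Agent.S13341
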