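import Groth.Statements.S1335
import Groth.Agent.GeomCount.Compose
import Groth.Agent.GeomIrr.Components

set_option autoImplicit false
universe u
open FlatMor

namespace Groth.Agent.S1335

open AlgebraicGeometry CategoryTheory Limits in
/-- The function on the target counting the connected components of the geometric fibres is compatible
with base change: for a cartesian square it is obtained on the new base by composing with the map to
the old base. -/
theorem result {X Y X' Y' : Scheme.{u}} (f : X ⟶ Y) (f' : X' ⟶ Y') (g' : X' ⟶ X) (g : Y' ⟶ Y)
    (hc : IsPullback g' f' f g) (y' : Y') :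
    MoreMor.nGeomConnComp f' y' = MoreMor.nGeomConnComp f (g y') := by
  let K₀ := SeparableClosure (Y.residueField (g y'))
  let K' := SeparableClosure (Y'.residueField y')
  letI : Algebra (Y.residueField (g y')) (Y'.residueField y') := (g.residueFieldMap y').hom.toAlgebra
  letI : Algebra (Y.residueField (g y')) K' :=
    ((algebraMap (Y'.residueField y') K').comp (g.residueFieldMap y').hom).toAlgebra
  let ι : K₀ →ₐ[Y.residueField (g y')] K' := IsSepClosed.lift
  letI : Algebra K₀ K' := ι.toRingHom.toAlgebra
  have hsq : Groth.Agent.GeomCount.sepPt y' ≫ g =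
      Spec.map (CommRingCat.ofHom ι.toRingHom) ≫ Groth.Agent.GeomCount.sepPt (g y') := by
    simp only [Groth.Agent.GeomCount.sepPt, Category.assoc]
    rw [← g.SpecMap_residueFieldMap_fromSpecResidueField y', ← Category.assoc, ← Category.assoc,
      ← Spec.map_comp, ← Spec.map_comp]
    congr 2
    exact CommRingCat.hom_ext ι.comp_algebraMap.symm
  let f₀ := pullback.snd f (Groth.Agent.GeomCount.sepPt (g y'))
  rw [Groth.Agent.GeomCount.nGeomConnComp_eq, Groth.Agent.GeomCount.nGeomConnComp_eq,
    Groth.Agent.GeomCount.card_components_iso
      (((IsPullback.of_hasPullback f' (Groth.Agent.GeomCount.sepPt y')).paste_horiz hc).isoPullback ≪≫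
        pullback.congrHom rfl hsq ≪≫
        (pullbackLeftPullbackSndIso f (Groth.Agent.GeomCount.sepPt (g y'))
          (Spec.map (CommRingCat.ofHom ι.toRingHom))).symm)]
  exact ENat.card_congr (Equiv.ofBijective _
    (Groth.Agent.GeomIrr.bijective_connectedComponentsMap f₀ K'))

end Groth.Agent.S1335
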