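import Groth.Statements.S13356
import Groth.Agent.GaDualLib.Char
import Mathlib.RingTheory.PowerSeries.Exp

set_option autoImplicit false
universe u
open GaDual

namespace Groth.Agent.S13356

/-- Over a commutative algebra A over the rationals, the polynomials f with f(0) = 1 and f(X+Y) =
f(X)f(Y) (the characters of the additive group into the multiplicative group over A) are exactly the
polynomials exp(aX) with a in A nilpotent. -/
theorem result (A : Type u) [CommRing A] [Algebra ℚ A] (f : Polynomial A) :
    (f.eval 0 = 1 ∧
      Polynomial.aeval (MvPolynomial.X 0 + MvPolynomial.X 1 : MvPolynomial (Fin 2) A) f =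
        Polynomial.aeval (MvPolynomial.X 0 : MvPolynomial (Fin 2) A) f *
          Polynomial.aeval (MvPolynomial.X 1 : MvPolynomial (Fin 2) A) f) ↔
      ∃ a : A, IsNilpotent a ∧ (f : PowerSeries A) = PowerSeries.rescale a (PowerSeries.exp A) := by
  rw [Groth.Agent.GaDualLib.poly_mul_iff]
  have hfac : ∀ k : ℕ, algebraMap ℚ A (1 / k.factorial) * (k.factorial : A) = 1 := fun k => by
    rw [← map_natCast (algebraMap ℚ A), ← map_mul, one_div_mul_cancel (Nat.cast_ne_zero.2 k.factorial_ne_zero), map_one]
  constructor
  · rintro ⟨h0, hmul⟩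
    rw [← Polynomial.coeff_zero_eq_eval_zero] at h0
    have hk : ∀ k : ℕ, (k.factorial : A) * f.coeff k = f.coeff 1 ^ k := by
      intro k
      induction k with
      | zero => simp [h0]
      | succ k ih =>
        have h := hmul k 1
        rw [Nat.choose_succ_self_right] at h
        rw [Nat.factorial_succ, Nat.cast_mul, mul_assoc, mul_left_comm, h, ← mul_assoc, ih, pow_succ]
    refine ⟨f.coeff 1, ⟨f.natDegree + 1, ?_⟩, PowerSeries.ext fun k => ?_⟩
    · rw [← hk, Polynomial.coeff_eq_zero_of_natDegree_lt (Nat.lt_succ_self _), mul_zero]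
    · rw [Polynomial.coeff_coe, PowerSeries.coeff_rescale, PowerSeries.coeff_exp, ← hk k,
        mul_comm ((k.factorial : A)), mul_assoc, mul_comm (k.factorial : A), hfac, mul_one]
  · rintro ⟨a, -, hf⟩
    have hc : ∀ k, f.coeff k = a ^ k * algebraMap ℚ A (1 / k.factorial) := fun k => by
      rw [← Polynomial.coeff_coe, hf, PowerSeries.coeff_rescale, PowerSeries.coeff_exp]
    refine ⟨by rw [← Polynomial.coeff_zero_eq_eval_zero, hc]; simp, fun i j => ?_⟩
    simp only [hc, pow_add]
    have e : ((i + j).choose i : A) * (i.factorial : A) * (j.factorial : A) = ((i + j).factorial : A) := by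
      rw [← Nat.cast_mul, ← Nat.cast_mul, Nat.choose_symm_add, Nat.add_choose_mul_factorial_mul_factorial]
    have u1 := hfac i
    have u2 := hfac j
    have u3 := hfac (i + j)
    generalize algebraMap ℚ A (1 / i.factorial) = x at *
    generalize algebraMap ℚ A (1 / j.factorial) = y at *
    generalize algebraMap ℚ A (1 / (i + j).factorial) = z at *
    linear_combination (-(((i + j).choose i : A) * z * (a ^ i * a ^ j))) * (x * (i.factorial : A) * u2 + u1) +
      (a ^ i * a ^ j * z * x * y) * e + (a ^ i * a ^ j * x * y) * u3

end Groth.Agent.S13356
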