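import Groth.Statements.S13357
import Groth.Agent.GaGm.Basic

set_option autoImplicit false
universe u
open GaDual

namespace Groth.Agent.S13357

open Polynomial Groth.Agent.GaGm

private theorem lucas_block {p : ℕ} [Fact p.Prime] (n a b r s : ℕ) (hr : r < p ^ n) (hs : s < p ^ n) :
    (r + p ^ n * a).choose (s + p ^ n * b) ≡ r.choose s * a.choose b [MOD p] := by
  induction n generalizing r s with
  | zero =>
    obtain rfl : r = 0 := by simpa using hr
    obtain rfl : s = 0 := by simpa using hs
    simp [Nat.ModEq]
  | succ n ih =>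
    have hp : 0 < p := (Fact.out : p.Prime).pos
    have h1 : ∀ r a, (r + p ^ (n + 1) * a) % p = r % p := fun r a => by
      rw [pow_succ', mul_assoc, Nat.add_mul_mod_self_left]
    have h2 : ∀ r a, (r + p ^ (n + 1) * a) / p = r / p + p ^ n * a := fun r a => by
      rw [pow_succ', mul_assoc, Nat.add_mul_div_left _ _ hp]
    have hd : ∀ r, r < p ^ (n + 1) → r / p < p ^ n := fun r hr =>
      Nat.div_lt_of_lt_mul (by rwa [← pow_succ'])
    refine Choose.choose_modEq_choose_mod_mul_choose_div_nat.trans ?_
    rw [h1, h1, h2, h2]
    refine ((ih _ _ (hd r hr) (hd s hs)).mul_left _).trans ?_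
    rw [← mul_assoc]
    exact Choose.choose_modEq_choose_mod_mul_choose_div_nat.symm.mul_right _

private theorem lucas_cast {p : ℕ} [Fact p.Prime] {A : Type u} [CommRing A] [CharP A p]
    (n a b r s : ℕ) (hr : r < p ^ n) (hs : s < p ^ n) :
    (((r + p ^ n * a).choose (s + p ^ n * b) : ℕ) : A) = ((r.choose s : ℕ) : A) * ((a.choose b : ℕ) : A) := by
  rw [← Nat.cast_mul]
  exact (CharP.natCast_eq_natCast A p).2 (lucas_block n a b r s hr hs)

/-- The truncated exponential of `a * X ^ q`. -/
private noncomputable def E {A : Type u} [CommRing A] (p q : ℕ) (a : A) : Polynomial A :=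
  ∑ j ∈ Finset.range p, C (Ring.inverse (j.factorial : A) * a ^ j) * X ^ (j * q)

private theorem coeff_E {A : Type u} [CommRing A] (p q : ℕ) (hq : 0 < q) (a : A) (n : ℕ) :
    (E p q a).coeff n = if q ∣ n ∧ n / q < p then Ring.inverse ((n / q).factorial : A) * a ^ (n / q) else 0 := by
  rw [E, finsetSum_coeff]
  simp only [coeff_C_mul_X_pow]
  split_ifs with h
  · obtain ⟨⟨j, rfl⟩, hj⟩ := h
    rw [Nat.mul_div_cancel_left _ hq] at hj ⊢
    rw [Finset.sum_eq_single j]
    · rw [if_pos (mul_comm q j)]
    · intro k _ hk
      rw [if_neg fun e => hk (Nat.eq_of_mul_eq_mul_right hq (by rw [← e, mul_comm]))]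
    · exact fun h => absurd (Finset.mem_range.2 hj) h
  · refine Finset.sum_eq_zero fun k hk => if_neg fun e => h ?_
    subst e
    exact ⟨dvd_mul_left q k, by rw [Nat.mul_div_cancel _ hq]; exact Finset.mem_range.1 hk⟩

/-- Over a commutative algebra A of prime characteristic p, the polynomials f with f(0) = 1 and f(X+Y) =
f(X)f(Y) (the characters of the additive group into the multiplicative group over A) are exactly the
finite products of truncated exponentials exp_p(a_n X^(p^n)) = Σ_{j<p} a_n^j X^(j p^n)/j! with a_n^p
= 0. -/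
theorem result (p : ℕ) [Fact p.Prime] (A : Type u) [CommRing A] [CharP A p]
    (f : Polynomial A) :
    (f.eval 0 = 1 ∧
      Polynomial.aeval (MvPolynomial.X 0 + MvPolynomial.X 1 : MvPolynomial (Fin 2) A) f =
        Polynomial.aeval (MvPolynomial.X 0 : MvPolynomial (Fin 2) A) f *
          Polynomial.aeval (MvPolynomial.X 1 : MvPolynomial (Fin 2) A) f) ↔
      ∃ (N : ℕ) (a : ℕ → A), (∀ n, a n ^ p = 0) ∧
        f = ∏ n ∈ Finset.range N, ∑ j ∈ Finset.range p,
          Polynomial.C (Ring.inverse (j.factorial : A) * a n ^ j) * Polynomial.X ^ (j * p ^ n) := by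
  classical
  have hp : p.Prime := Fact.out
  have hfac : ∀ j, j < p → IsUnit ((j.factorial : A)) := fun j hj => by
    refine (CharP.isUnit_natCast_iff (R := A) hp).2 fun h => ?_
    exact absurd (hp.dvd_factorial.1 h) (not_le.2 hj)
  -- the coefficient criterion for multiplicativity
  have crit : ∀ g : Polynomial A,
      (Polynomial.aeval (MvPolynomial.X 0 + MvPolynomial.X 1 : MvPolynomial (Fin 2) A) g =
        Polynomial.aeval (MvPolynomial.X 0 : MvPolynomial (Fin 2) A) g *
          Polynomial.aeval (MvPolynomial.X 1 : MvPolynomial (Fin 2) A) g) ↔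
      ∀ i j, ((i + j).choose i : A) * g.coeff (i + j) = g.coeff i * g.coeff j := fun g => by
    constructor
    · intro h i j
      rw [← coeff_aeval_add, ← coeff_aeval_mul, h]
    · intro h
      refine MvPolynomial.ext _ _ fun m => ?_
      rw [← ix_eq m, coeff_aeval_add, coeff_aeval_mul, h]
  constructor
  · rintro ⟨h0, hmul⟩
    rw [crit] at hmul
    rw [← coeff_zero_eq_eval_zero] at h0
    let a : ℕ → A := fun n => f.coeff (p ^ n)
    have hc : ∀ n j, j < p → (j.factorial : A) * f.coeff (j * p ^ n) = a n ^ j := by
      intro n j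
      induction j with
      | zero => intro _; simp [h0]
      | succ j ih =>
        intro hj
        have h := hmul (j * p ^ n) (p ^ n)
        rw [← add_one_mul] at h
        have e : (((j + 1) * p ^ n).choose (j * p ^ n) : A) = ((j + 1 : ℕ) : A) := by
          have := lucas_cast (p := p) (A := A) n (j + 1) j 0 0 (Nat.pow_pos hp.pos) (Nat.pow_pos hp.pos)
          rw [zero_add, zero_add, Nat.choose_self, Nat.cast_one, one_mul, mul_comm _ (j + 1),
            mul_comm _ j] at this
          rw [this, Nat.choose_succ_self_right]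
        rw [e] at h
        rw [Nat.factorial_succ, Nat.cast_mul, mul_assoc, mul_left_comm, h, ← mul_assoc,
          ih (by omega), pow_succ]
    have hap : ∀ n, a n ^ p = 0 := by
      intro n
      have h := hmul ((p - 1) * p ^ n) (p ^ n)
      rw [← add_one_mul, Nat.sub_add_cancel hp.one_le] at h
      have e : ((p * p ^ n).choose ((p - 1) * p ^ n) : A) = 0 := by
        have := lucas_cast (p := p) (A := A) n p (p - 1) 0 0 (Nat.pow_pos hp.pos) (Nat.pow_pos hp.pos)
        rw [zero_add, zero_add, Nat.choose_self, Nat.cast_one, one_mul, mul_comm _ p,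
          mul_comm _ (p - 1)] at this
        rw [this, Nat.choose_symm hp.one_le, Nat.choose_one_right, CharP.cast_eq_zero]
      rw [e, zero_mul] at h
      rw [← Nat.sub_add_cancel hp.one_le, pow_succ, ← hc n (p - 1) (by have := hp.pos; omega),
        mul_assoc, ← h, mul_zero]
    have hEc : ∀ n j, j < p → (E p (p ^ n) (a n)).coeff (j * p ^ n) = f.coeff (j * p ^ n) := by
      intro n j hj
      rw [coeff_E p _ (Nat.pow_pos hp.pos), Nat.mul_div_cancel _ (Nat.pow_pos hp.pos),
        if_pos ⟨dvd_mul_left _ _, hj⟩, ← hc n j hj, ← mul_assoc, Ring.inverse_mul_cancel _ (hfac j hj), one_mul]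
    refine ⟨f.natDegree + 1, a, hap, ?_⟩
    have hprod : ∀ N, (∏ n ∈ Finset.range N, E p (p ^ n) (a n)) =
        ∑ m ∈ Finset.range (p ^ N), C (f.coeff m) * X ^ m := by
      intro N
      induction N with
      | zero => simp [h0]
      | succ N ih =>
        rw [Finset.prod_range_succ, ih, E, Finset.mul_sum, pow_succ']
        have : ∀ j, j ≤ p → ∑ i ∈ Finset.range j, (∑ m ∈ Finset.range (p ^ N), C (f.coeff m) * X ^ m) *
            (C (Ring.inverse (i.factorial : A) * a N ^ i) * X ^ (i * p ^ N)) =
            ∑ m ∈ Finset.range (j * p ^ N), C (f.coeff m) * X ^ m := by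
          intro j hj
          induction j with
          | zero => simp
          | succ j ihj =>
            rw [Finset.sum_range_succ, ihj (by omega), add_one_mul j, Finset.sum_range_add,
              Finset.sum_mul]
            congr 1
            refine Finset.sum_congr rfl fun m hm => ?_
            have hm' := Finset.mem_range.1 hm
            have key : f.coeff (j * p ^ N + m) = f.coeff m * (Ring.inverse (j.factorial : A) * a N ^ j) := by
              have h := hmul m (j * p ^ N)
              have e := lucas_cast (p := p) (A := A) N j 0 m m hm' hm'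
              rw [Nat.choose_self, Nat.choose_zero_right, Nat.cast_one, mul_one, mul_zero, add_zero,
                mul_comm (p ^ N) j] at e
              rw [e, one_mul] at h
              rw [add_comm, h, ← hc N j (by omega), ← mul_assoc _ (j.factorial : A),
                Ring.inverse_mul_cancel _ (hfac j (by omega)), one_mul]
            rw [key, pow_add]
            simp only [map_mul]
            ring
        exact this p le_rfl
    show f = ∏ n ∈ Finset.range (f.natDegree + 1), E p (p ^ n) (a n)
    rw [hprod]
    conv_lhs => rw [f.as_sum_range' (p ^ (f.natDegree + 1))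
      ((Nat.lt_pow_self hp.one_lt).trans_le' (Nat.le_succ _))]
    simp [C_mul_X_pow_eq_monomial]
  · rintro ⟨N, a, ha, rfl⟩
    have hE : ∀ n, Polynomial.aeval (MvPolynomial.X 0 + MvPolynomial.X 1 : MvPolynomial (Fin 2) A) (E p (p ^ n) (a n)) =
        Polynomial.aeval (MvPolynomial.X 0 : MvPolynomial (Fin 2) A) (E p (p ^ n) (a n)) *
          Polynomial.aeval (MvPolynomial.X 1 : MvPolynomial (Fin 2) A) (E p (p ^ n) (a n)) := by
      intro n
      rw [crit]
      intro i j
      have hq : 0 < p ^ n := Nat.pow_pos hp.pos
      simp only [coeff_E p _ hq]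
      by_cases hi : p ^ n ∣ i
      · obtain ⟨α, rfl⟩ := hi
        rw [Nat.mul_div_cancel_left _ hq]
        by_cases hj : p ^ n ∣ j
        · obtain ⟨β, rfl⟩ := hj
          rw [← mul_add, Nat.mul_div_cancel_left _ hq, Nat.mul_div_cancel_left _ hq]
          simp only [dvd_mul_right, true_and]
          by_cases hab : α + β < p
          · rw [if_pos hab, if_pos (by omega), if_pos (by omega)]
            have e := lucas_cast (p := p) (A := A) n (α + β) α 0 0 hq hq
            rw [zero_add, zero_add, Nat.choose_self, Nat.cast_one, one_mul] at e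
            have hfac' : ((α + β).choose α : A) * (α.factorial : A) * (β.factorial : A) = ((α + β).factorial : A) := by
              rw [← Nat.cast_mul, ← Nat.cast_mul, Nat.choose_symm_add, Nat.add_choose_mul_factorial_mul_factorial]
            rw [e, pow_add]
            have u1 := Ring.inverse_mul_cancel _ (hfac α (by omega))
            have u2 := Ring.inverse_mul_cancel _ (hfac β (by omega))
            have u3 := Ring.mul_inverse_cancel _ (hfac _ hab)
            generalize Ring.inverse (α.factorial : A) = x at *
            generalize Ring.inverse (β.factorial : A) = y at *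
            generalize Ring.inverse ((α + β).factorial : A) = z at *
            linear_combination (-(((α + β).choose α : A) * z * (a n ^ α * a n ^ β))) * (x * (α.factorial : A) * u2 + u1) +
              (a n ^ α * a n ^ β * z * x * y) * hfac' + (a n ^ α * a n ^ β * x * y) * u3
          · rw [if_neg hab, mul_zero]
            split_ifs
            · rw [mul_mul_mul_comm, ← pow_add, pow_eq_zero_of_le (le_of_not_gt hab) (ha n), mul_zero]
            all_goals simp
        · rw [if_neg (fun h => hj ((Nat.dvd_add_right (dvd_mul_right _ _)).1 h.1)), mul_zero,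
            if_neg (c := p ^ n ∣ j ∧ _) (fun h => hj h.1), mul_zero]
      · rw [if_neg (c := p ^ n ∣ i ∧ _) (fun h => hi h.1), zero_mul]
        split_ifs with h
        · obtain ⟨⟨γ, hγ⟩, -⟩ := h
          have e := lucas_cast (p := p) (A := A) n γ (i / p ^ n) 0 (i % p ^ n) hq (Nat.mod_lt _ hq)
          rw [zero_add, Nat.mod_add_div, ← hγ, Nat.choose_eq_zero_of_lt (Nat.pos_of_ne_zero fun h0 => hi (Nat.dvd_of_mod_eq_zero h0)),
            Nat.cast_zero, zero_mul] at e
          rw [e, zero_mul]
        · rw [mul_zero]
    show (∏ n ∈ Finset.range N, E p (p ^ n) (a n)).eval 0 = 1 ∧ _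
    refine ⟨?_, ?_⟩
    · rw [eval_prod]
      refine Finset.prod_eq_one fun n _ => ?_
      rw [← coeff_zero_eq_eval_zero, coeff_E p _ (Nat.pow_pos hp.pos)]
      simp [hp.pos]
    · show Polynomial.aeval (MvPolynomial.X 0 + MvPolynomial.X 1 : MvPolynomial (Fin 2) A) (∏ n ∈ Finset.range N, E p (p ^ n) (a n)) =
        Polynomial.aeval (MvPolynomial.X 0 : MvPolynomial (Fin 2) A) (∏ n ∈ Finset.range N, E p (p ^ n) (a n)) *
          Polynomial.aeval (MvPolynomial.X 1 : MvPolynomial (Fin 2) A) (∏ n ∈ Finset.range N, E p (p ^ n) (a n))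
      simp only [map_prod, hE, Finset.prod_mul_distrib]

end Groth.Agent.S13357
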