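import Mathlib
import Groth.Statements.S13358


set_option autoImplicit false
universe u
open GaDual

namespace Groth.Agent.S13358

open MvPolynomial

section Num
variable {p : ℕ} [Fact p.Prime]

lemma choose_add_pow_mul (a : ℕ) : ∀ r q : ℕ, r < p ^ a → (r + p ^ a * q).choose r ≡ 1 [MOD p] := by
  induction a with
  | zero => intro r q h; simp at h; subst h; simp [Nat.ModEq.refl]
  | succ a ih =>
    intro r q h
    have hp := (Fact.out : p.Prime).pos
    refine (Choose.choose_modEq_choose_mod_mul_choose_div_nat).trans ?_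
    have h1 : (r + p ^ (a + 1) * q) % p = r % p := by
      rw [pow_succ', mul_assoc, Nat.add_mul_mod_self_left]
    have h2 : (r + p ^ (a + 1) * q) / p = r / p + p ^ a * q := by
      rw [pow_succ', mul_assoc, Nat.add_mul_div_left _ _ hp]
    rw [h1, h2, Nat.choose_self, one_mul]
    exact ih _ _ (Nat.div_lt_of_lt_mul (by rwa [← pow_succ']))

variable {R : Type u} [CommRing R] [CharP R p]

lemma cast_choose_one (a r q : ℕ) (h : r < p ^ a) : ((r + p ^ a * q).choose r : R) = 1 := by
  have := (CharP.natCast_eq_natCast R p).2 (choose_add_pow_mul a r q h)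
  rwa [Nat.cast_one] at this

lemma isUnit_cast (q : ℕ) (hq : ¬ p ∣ q) : IsUnit (q : R) := by
  have h : IsUnit (q : ZMod p) := Ne.isUnit fun h => hq ((ZMod.natCast_eq_zero_iff q p).1 h)
  have := h.map (ZMod.castHom dvd_rfl R)
  rwa [map_natCast] at this

lemma cast_choose_pow (a q : ℕ) : ((p ^ a * q).choose (p ^ a) : R) = q := by
  have := (CharP.natCast_eq_natCast R p).2 (Choose.choose_pow_mul_pow_mul_modEq_choose_nat (k := a) (a := q) (b := 1) (p := p))
  rwa [mul_one, Nat.choose_one_right] at this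

lemma vanish (n : ℕ) (c : ℕ → R)
    (hA : ∀ i j, 1 ≤ i → 1 ≤ j → i + j < n →
      ((n - i).choose j : R) * c i = ((i + j).choose i : R) * c (i + j))
    (hB : ∀ i, i ≤ n → c (n - i) = c i)
    (hI : ∀ e, n = p ^ (e + 1) → c (p ^ e) = 0)
    (hII : ∀ a q, n = p ^ a * q → ¬ p ∣ q → 2 ≤ q → c (p ^ a) = 0)
    (m : ℕ) (h1 : 1 ≤ m) (h2 : m < n) : c m = 0 := by
  have hp : p.Prime := Fact.out
  have hlow : ∀ a q b, n = p ^ a * q → 2 ≤ q → c (p ^ a) = 0 → b < a → c (p ^ b) = 0 := by
    intro a q b hn hq hc hba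
    have hlt : p ^ b < p ^ a := Nat.pow_lt_pow_right hp.one_lt hba
    have hpos : 0 < p ^ b := pow_pos hp.pos b
    have hle : p ^ a * 2 ≤ n := hn ▸ Nat.mul_le_mul_left _ hq
    have hj := hA (p ^ b) (p ^ a - p ^ b) hpos (by omega) (by omega)
    rw [Nat.add_sub_cancel' hlt.le, hc, mul_zero] at hj
    have he : n - p ^ b = (p ^ a - p ^ b) + p ^ a * (q - 1) := by
      have : p ^ a * q = p ^ a * (q - 1) + p ^ a := by rw [← Nat.mul_succ, show (q - 1).succ = q by omega]
      omega
    rw [he, cast_choose_one a (p ^ a - p ^ b) (q - 1) (by omega), one_mul] at hj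
    exact hj
  have hpow : ∀ b, p ^ b < n → c (p ^ b) = 0 := by
    intro b hb
    obtain ⟨a, q, hq, hn⟩ := Nat.exists_eq_pow_mul_and_not_dvd (show n ≠ 0 by omega) p hp.ne_one
    by_cases hq2 : 2 ≤ q
    · have hc := hII a q hn hq hq2
      rcases lt_trichotomy b a with hba | hba | hba
      · exact hlow a q b hn hq2 hc hba
      · rw [hba]; exact hc
      · have hk : p ^ b = p ^ a * p ^ (b - a) := by rw [← pow_add, Nat.add_sub_cancel' hba.le]
        have hlt : p ^ (b - a) < q := by
          by_contra hle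
          have := Nat.mul_le_mul_left (p ^ a) (not_lt.1 hle)
          omega
        have hnb : n - p ^ b = p ^ a * (q - p ^ (b - a)) := by rw [hn, hk, Nat.mul_sub]
        have hunit : IsUnit (((q - p ^ (b - a) : ℕ)) : R) := isUnit_cast _ fun h => hq <| by
          have hd : p ∣ p ^ (b - a) := dvd_pow_self p (by omega)
          have := Nat.dvd_add h hd
          rwa [Nat.sub_add_cancel hlt.le] at this
        have hsym := hB (p ^ b) hb.le
        rw [← hsym]
        have hge : p ^ a ≤ n - p ^ b := hnb ▸ Nat.le_mul_of_pos_right _ (by omega)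
        rcases eq_or_lt_of_le hge with heq | hgt
        · rw [← heq]; exact hc
        · have hpa : 0 < p ^ a := pow_pos hp.pos a
          have hbpos : 0 < p ^ b := pow_pos hp.pos b
          have hj := hA (p ^ a) (n - p ^ b - p ^ a) hpa (by omega) (by omega)
          rw [Nat.add_sub_cancel' hge, hc, mul_zero, hnb, cast_choose_pow] at hj
          rw [hnb]
          exact hunit.mul_left_eq_zero.mp (by rw [mul_comm]; exact hj.symm)
    · have hq1 : q = 1 := by
        rcases Nat.eq_zero_or_pos q with h0 | h0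
        · exact absurd (h0 ▸ dvd_zero p) hq
        · omega
      rw [hq1, mul_one] at hn
      rw [hn] at hb
      have hba : b < a := (Nat.pow_lt_pow_iff_right hp.one_lt).1 hb
      obtain ⟨e, rfl⟩ : ∃ e, a = e + 1 := ⟨a - 1, by omega⟩
      have hc := hI e hn
      rcases eq_or_lt_of_le (Nat.le_of_lt_succ hba) with rfl | hbe
      · exact hc
      · exact hlow e p b (by rw [hn, pow_succ]) hp.two_le hc hbe
  obtain ⟨b, q, hq, hm⟩ := Nat.exists_eq_pow_mul_and_not_dvd (show m ≠ 0 by omega) p hp.ne_one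
  have hq0 : 1 ≤ q := Nat.pos_of_ne_zero fun h => hq (h ▸ dvd_zero p)
  have hle : p ^ b ≤ m := hm ▸ Nat.le_mul_of_pos_right _ hq0
  have hb : c (p ^ b) = 0 := hpow b (lt_of_le_of_lt hle h2)
  rcases eq_or_lt_of_le hle with heq | hlt
  · rw [← heq]; exact hb
  · have hj := hA (p ^ b) (m - p ^ b) (pow_pos hp.pos b) (by omega) (by omega)
    rw [Nat.add_sub_cancel' hle, hb, mul_zero, hm, cast_choose_pow] at hj
    rw [hm]
    exact (isUnit_cast q hq).mul_right_eq_zero.mp hj.symm

end Num

section Poly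
variable {R : Type u} [CommRing R]

noncomputable def m2 (i j : ℕ) : Fin 2 →₀ ℕ := Finsupp.single 0 i + Finsupp.single 1 j
noncomputable def m3 (i j k : ℕ) : Fin 3 →₀ ℕ :=
  Finsupp.single 0 i + Finsupp.single 1 j + Finsupp.single 2 k

lemma m2_inj {i j i' j' : ℕ} : m2 i j = m2 i' j' ↔ i = i' ∧ j = j' := by
  simp [m2, Finsupp.ext_iff, Fin.forall_fin_two]

lemma m3_inj {i j k i' j' k' : ℕ} : m3 i j k = m3 i' j' k' ↔ i = i' ∧ j = j' ∧ k = k' := by
  simp [m3, Finsupp.ext_iff, Fin.forall_fin_succ]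

lemma eq_m2 (d : Fin 2 →₀ ℕ) : d = m2 (d 0) (d 1) := by
  ext i; fin_cases i <;> simp [m2]

lemma X2_eq (i j : ℕ) (r : R) :
    MvPolynomial.C r * (X 0 : MvPolynomial (Fin 2) R) ^ i * X 1 ^ j = monomial (m2 i j) r := by
  simp [X_pow_eq_monomial, C_mul_monomial, monomial_mul, m2]

lemma X3_eq (i j k : ℕ) (r : R) :
    MvPolynomial.C r * (X 0 : MvPolynomial (Fin 3) R) ^ i * X 1 ^ j * X 2 ^ k = monomial (m3 i j k) r := by
  simp [X_pow_eq_monomial, C_mul_monomial, monomial_mul, m3]

/-- Reduce a linear identity to monomials. -/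
lemma ind2 {P : MvPolynomial (Fin 2) R → Prop} (F : MvPolynomial (Fin 2) R)
    (h : ∀ a b r, P (monomial (m2 a b) r)) (ha : ∀ f g, P f → P g → P (f + g)) : P F := by
  induction F using MvPolynomial.induction_on' with
  | monomial u a => rw [eq_m2 u]; exact h _ _ _
  | add f g hf hg => exact ha f g hf hg

lemma aeval_m2 {S : Type*} [CommRing S] [Algebra R S] (x y : S) (a b : ℕ) (r : R) :
    aeval ![x, y] (monomial (m2 a b) r) = algebraMap R S r * (x ^ a * y ^ b) := by
  rw [← X2_eq]
  simp [mul_assoc]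

lemma coeff_T1 (F : MvPolynomial (Fin 2) R) (i j k : ℕ) :
    coeff (m3 i j k) (aeval ![(X 0 : MvPolynomial (Fin 3) R), X 1 + X 2] F) =
      ((j + k).choose j : R) * coeff (m2 i (j + k)) F := by
  refine ind2 (P := fun F => coeff (m3 i j k) (aeval ![(X 0 : MvPolynomial (Fin 3) R), X 1 + X 2] F) =
      ((j + k).choose j : R) * coeff (m2 i (j + k)) F) F (fun a b r => ?_) (fun f g hf hg => ?_)
  · rw [aeval_m2, add_pow, Finset.mul_sum, Finset.mul_sum, coeff_sum, MvPolynomial.coeff_monomial]
    rw [Finset.sum_congr rfl (fun x hx => show coeff (m3 i j k) _ =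
        if a = i ∧ x = j ∧ b - x = k then r * (b.choose x : R) else 0 by
      rw [← map_natCast (MvPolynomial.C : R →+* MvPolynomial (Fin 3) R), MvPolynomial.algebraMap_eq,
        show MvPolynomial.C r * ((X 0 : MvPolynomial (Fin 3) R) ^ a * (X 1 ^ x * X 2 ^ (b - x) * MvPolynomial.C ((b.choose x : ℕ) : R)))
          = MvPolynomial.C (r * (b.choose x : R)) * X 0 ^ a * X 1 ^ x * X 2 ^ (b - x) by rw [map_mul]; ring,
        X3_eq, MvPolynomial.coeff_monomial]
      simp only [m3_inj])]
    simp only [m2_inj]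
    by_cases h : a = i ∧ b = j + k
    · obtain ⟨rfl, rfl⟩ := h
      rw [Finset.sum_eq_single j]
      · simp [mul_comm]
      · intro x _ hx; simp [hx]
      · intro hj; exact absurd (Finset.mem_range.2 (by omega)) hj
    · rw [if_neg h, mul_zero]
      refine Finset.sum_eq_zero fun x hx => if_neg ?_
      rintro ⟨rfl, rfl, rfl⟩
      exact h ⟨rfl, by simp at hx; omega⟩
  · simp only [map_add, coeff_add, hf, hg, mul_add]

lemma coeff_T3 (F : MvPolynomial (Fin 2) R) (i j k : ℕ) :
    coeff (m3 i j k) (aeval ![(X 0 : MvPolynomial (Fin 3) R) + X 1, X 2] F) =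
      ((i + j).choose i : R) * coeff (m2 (i + j) k) F := by
  refine ind2 (P := fun F => coeff (m3 i j k) (aeval ![(X 0 : MvPolynomial (Fin 3) R) + X 1, X 2] F) =
      ((i + j).choose i : R) * coeff (m2 (i + j) k) F) F (fun a b r => ?_) (fun f g hf hg => ?_)
  · rw [aeval_m2, add_pow, Finset.sum_mul, Finset.mul_sum, coeff_sum, MvPolynomial.coeff_monomial]
    rw [Finset.sum_congr rfl (fun x hx => show coeff (m3 i j k) _ =
        if x = i ∧ a - x = j ∧ b = k then r * (a.choose x : R) else 0 by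
      rw [← map_natCast (MvPolynomial.C : R →+* MvPolynomial (Fin 3) R), MvPolynomial.algebraMap_eq,
        show MvPolynomial.C r * ((X 0 : MvPolynomial (Fin 3) R) ^ x * X 1 ^ (a - x) * MvPolynomial.C ((a.choose x : ℕ) : R) * X 2 ^ b)
          = MvPolynomial.C (r * (a.choose x : R)) * X 0 ^ x * X 1 ^ (a - x) * X 2 ^ b by rw [map_mul]; ring,
        X3_eq, MvPolynomial.coeff_monomial]
      simp only [m3_inj])]
    simp only [m2_inj]
    by_cases h : a = i + j ∧ b = k
    · obtain ⟨rfl, rfl⟩ := h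
      rw [Finset.sum_eq_single i]
      · simp [mul_comm]
      · intro x _ hx; simp [hx]
      · intro hj; exact absurd (Finset.mem_range.2 (by omega)) hj
    · rw [if_neg h, mul_zero]
      refine Finset.sum_eq_zero fun x hx => if_neg ?_
      rintro ⟨rfl, rfl, rfl⟩
      exact h ⟨by simp at hx; omega, rfl⟩
  · simp only [map_add, coeff_add, hf, hg, mul_add]

lemma coeff_T2 (F : MvPolynomial (Fin 2) R) (i j k : ℕ) :
    coeff (m3 i j k) (aeval ![(X 1 : MvPolynomial (Fin 3) R), X 2] F) =
      if i = 0 then coeff (m2 j k) F else 0 := by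
  refine ind2 (P := fun F => coeff (m3 i j k) (aeval ![(X 1 : MvPolynomial (Fin 3) R), X 2] F) =
      if i = 0 then coeff (m2 j k) F else 0) F (fun a b r => ?_) (fun f g hf hg => ?_)
  · rw [aeval_m2, MvPolynomial.algebraMap_eq, ← mul_assoc,
      show MvPolynomial.C r * (X 1 : MvPolynomial (Fin 3) R) ^ a = MvPolynomial.C r * X 0 ^ 0 * X 1 ^ a by simp,
      X3_eq, MvPolynomial.coeff_monomial, MvPolynomial.coeff_monomial]
    simp only [m3_inj, m2_inj]
    by_cases hi : i = 0 <;> simp [hi, eq_comm]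
  · simp only [map_add, coeff_add, hf, hg]
    split_ifs <;> simp

lemma coeff_T4 (F : MvPolynomial (Fin 2) R) (i j k : ℕ) :
    coeff (m3 i j k) (aeval ![(X 0 : MvPolynomial (Fin 3) R), X 1] F) =
      if k = 0 then coeff (m2 i j) F else 0 := by
  refine ind2 (P := fun F => coeff (m3 i j k) (aeval ![(X 0 : MvPolynomial (Fin 3) R), X 1] F) =
      if k = 0 then coeff (m2 i j) F else 0) F (fun a b r => ?_) (fun f g hf hg => ?_)
  · rw [aeval_m2, MvPolynomial.algebraMap_eq, ← mul_assoc,
      show MvPolynomial.C r * (X 0 : MvPolynomial (Fin 3) R) ^ a * X 1 ^ b =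
        MvPolynomial.C r * X 0 ^ a * X 1 ^ b * X 2 ^ 0 by simp,
      X3_eq, MvPolynomial.coeff_monomial, MvPolynomial.coeff_monomial]
    simp only [m3_inj, m2_inj]
    by_cases hk : k = 0 <;> simp [hk, eq_comm]
  · simp only [map_add, coeff_add, hf, hg]
    split_ifs <;> simp

lemma coeff_symm (F : MvPolynomial (Fin 2) R) (i j : ℕ) :
    coeff (m2 i j) (aeval ![(X 1 : MvPolynomial (Fin 2) R), X 0] F) = coeff (m2 j i) F := by
  refine ind2 (P := fun F => coeff (m2 i j) (aeval ![(X 1 : MvPolynomial (Fin 2) R), X 0] F) = coeff (m2 j i) F)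
    F (fun a b r => ?_) (fun f g hf hg => ?_)
  · rw [aeval_m2, MvPolynomial.algebraMap_eq, mul_comm (X 1 ^ a), ← mul_assoc, X2_eq,
      MvPolynomial.coeff_monomial, MvPolynomial.coeff_monomial]
    simp only [m2_inj, and_comm]
  · simp only [map_add, coeff_add, hf, hg]

def IsCocycle (F : MvPolynomial (Fin 2) R) : Prop :=
  aeval ![X 1, X 0] F = F ∧
      aeval ![X 0, X 1 + X 2] F + aeval ![X 1, X 2] F
        - aeval ![X 0 + X 1, X 2] F - aeval ![X 0, X 1] F = (0 : MvPolynomial (Fin 3) R)

lemma IsCocycle.add {F G : MvPolynomial (Fin 2) R} (hF : IsCocycle F) (hG : IsCocycle G) :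
    IsCocycle (F + G) := by
  refine ⟨by rw [map_add, hF.1, hG.1], ?_⟩
  simp only [map_add]
  linear_combination hF.2 + hG.2

lemma IsCocycle.C_mul {F : MvPolynomial (Fin 2) R} (hF : IsCocycle F) (r : R) :
    IsCocycle (MvPolynomial.C r * F) := by
  refine ⟨by rw [map_mul, hF.1, aeval_C, MvPolynomial.algebraMap_eq], ?_⟩
  simp only [map_mul, aeval_C, MvPolynomial.algebraMap_eq]
  linear_combination (MvPolynomial.C r) * hF.2

lemma IsCocycle.zero : IsCocycle (0 : MvPolynomial (Fin 2) R) := ⟨map_zero _, by simp⟩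

noncomputable def dG (G : Polynomial R) : MvPolynomial (Fin 2) R :=
  Polynomial.aeval (X 0 + X 1 : MvPolynomial (Fin 2) R) G
    - Polynomial.aeval (X 0 : MvPolynomial (Fin 2) R) G
    - Polynomial.aeval (X 1 : MvPolynomial (Fin 2) R) G

lemma isCocycle_dG (G : Polynomial R) : IsCocycle (dG G) := by
  constructor
  · simp only [dG, map_sub, ← Polynomial.aeval_algHom_apply, map_add, aeval_X,
      Matrix.cons_val_zero, Matrix.cons_val_one]
    rw [add_comm (X 1)]; ring
  · simp only [dG, map_sub, ← Polynomial.aeval_algHom_apply, map_add, aeval_X,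
      Matrix.cons_val_zero, Matrix.cons_val_one]
    rw [← add_assoc (X 0 : MvPolynomial (Fin 3) R)]
    ring

lemma coeff_dG (G : Polynomial R) (i j : ℕ) :
    coeff (m2 i j) (dG G) = ((i + j).choose i : R) * G.coeff (i + j)
      - (if j = 0 then G.coeff i else 0) - (if i = 0 then G.coeff j else 0) := by
  induction G using Polynomial.induction_on' with
  | add f g hf hg =>
    have : dG (f + g) = dG f + dG g := by simp only [dG, map_add]; ring
    rw [this, coeff_add, hf, hg]
    simp only [Polynomial.coeff_add]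
    split_ifs <;> ring
  | monomial n r =>
    simp only [dG, Polynomial.aeval_monomial, MvPolynomial.algebraMap_eq, coeff_sub, Polynomial.coeff_monomial]
    congr 1
    congr 1
    · rw [add_pow, Finset.mul_sum, coeff_sum]
      rw [Finset.sum_congr rfl (fun x hx => show coeff (m2 i j) _ =
          if x = i ∧ n - x = j then r * (n.choose x : R) else 0 by
        rw [← map_natCast (MvPolynomial.C : R →+* MvPolynomial (Fin 2) R),
          show MvPolynomial.C r * ((X 0 : MvPolynomial (Fin 2) R) ^ x * X 1 ^ (n - x) * MvPolynomial.C ((n.choose x : ℕ) : R))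
            = MvPolynomial.C (r * (n.choose x : R)) * X 0 ^ x * X 1 ^ (n - x) by rw [map_mul]; ring,
          X2_eq, MvPolynomial.coeff_monomial]
        simp only [m2_inj])]
      by_cases h : n = i + j
      · subst h
        rw [Finset.sum_eq_single i]
        · simp [mul_comm]
        · intro x _ hx; simp [hx]
        · intro hj; exact absurd (Finset.mem_range.2 (by omega)) hj
      · rw [if_neg h, mul_zero]
        refine Finset.sum_eq_zero fun x hx => if_neg ?_
        rintro ⟨rfl, rfl⟩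
        exact h (by simp at hx; omega)
    · rw [show MvPolynomial.C r * (X 0 : MvPolynomial (Fin 2) R) ^ n = MvPolynomial.C r * X 0 ^ n * X 1 ^ 0 by simp,
        X2_eq, MvPolynomial.coeff_monomial]
      simp only [m2_inj]
      by_cases hj : j = 0 <;> simp [hj, eq_comm]
    · rw [show MvPolynomial.C r * (X 1 : MvPolynomial (Fin 2) R) ^ n = MvPolynomial.C r * X 0 ^ 0 * X 1 ^ n by simp,
        X2_eq, MvPolynomial.coeff_monomial]
      simp only [m2_inj]
      by_cases hi : i = 0 <;> simp [hi, eq_comm]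

end Poly

section S
variable (p : ℕ)

/-- `((a+b)^p - a^p - b^p)/p` -/
def sv {S : Type*} [CommRing S] (a b : S) : S :=
  ∑ j ∈ Finset.Ioo 0 p, ((p.choose j / p : ℕ) : S) * a ^ j * b ^ (p - j)

lemma map_sv {S T : Type*} [CommRing S] [CommRing T] (f : S →+* T) (a b : S) :
    f (sv p a b) = sv p (f a) (f b) := by
  simp [sv]

lemma p_mul_sv [Fact p.Prime] {S : Type*} [CommRing S] (a b : S) :
    (p : S) * sv p a b = (a + b) ^ p - a ^ p - b ^ p := by
  have hp : p.Prime := Fact.out
  have h : Finset.range (p + 1) = insert 0 (insert p (Finset.Ioo 0 p)) := by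
    ext x; simp; omega
  rw [add_pow, h, Finset.sum_insert (by simp; exact hp.pos.ne), Finset.sum_insert (by simp), sv, Finset.mul_sum]
  have e : ∑ j ∈ Finset.Ioo 0 p, (p : S) * (((p.choose j / p : ℕ) : S) * a ^ j * b ^ (p - j)) =
      ∑ j ∈ Finset.Ioo 0 p, a ^ j * b ^ (p - j) * (p.choose j : S) := by
    refine Finset.sum_congr rfl fun j hj => ?_
    simp only [Finset.mem_Ioo] at hj
    conv_rhs => rw [← Nat.mul_div_cancel' (hp.dvd_choose_self hj.1.ne' hj.2)]
    push_cast
    ring
  rw [e]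
  simp
  ring

lemma map_sv' {S T : Type*} [CommRing S] [CommRing T] [Algebra ℤ S] [Algebra ℤ T] (f : S →ₐ[ℤ] T) (a b : S) :
    f (sv p a b) = sv p (f a) (f b) := map_sv p f.toRingHom a b

lemma sv_comm [Fact p.Prime] {S : Type*} [CommRing S] (a b : S) : sv p a b = sv p b a := by
  let P := MvPolynomial (Fin 2) ℤ
  have h : sv p (X 0 : P) (X 1) = sv p (X 1) (X 0) := by
    refine mul_left_cancel₀ (show (p : P) ≠ 0 from Nat.cast_ne_zero.2 (Fact.out : p.Prime).ne_zero) ?_
    rw [p_mul_sv, p_mul_sv]; ring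
  have := congrArg (aeval ![a, b] : P →ₐ[ℤ] S).toRingHom h
  simpa [map_sv] using this

lemma sv_cocycle [Fact p.Prime] {S : Type*} [CommRing S] (a b c : S) :
    sv p a (b + c) + sv p b c - sv p (a + b) c - sv p a b = 0 := by
  let P := MvPolynomial (Fin 3) ℤ
  have h : sv p (X 0 : P) (X 1 + X 2) + sv p (X 1) (X 2) - sv p (X 0 + X 1) (X 2) - sv p (X 0) (X 1) = 0 := by
    refine mul_left_cancel₀ (show (p : P) ≠ 0 from Nat.cast_ne_zero.2 (Fact.out : p.Prime).ne_zero) ?_
    simp only [mul_add, mul_sub, mul_zero, p_mul_sv]; ring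
  have := congrArg (aeval ![a, b, c] : P →ₐ[ℤ] S) h
  simpa [map_sv'] using this

variable (R : Type u) [CommRing R]

noncomputable def Sq (q : ℕ) : MvPolynomial (Fin 2) R :=
  aeval ![X 0 ^ q, X 1 ^ q]
    (∑ j ∈ Finset.Ioo 0 p, MvPolynomial.C ((p.choose j / p : ℕ) : R) *
      X 0 ^ j * X 1 ^ (p - j) : MvPolynomial (Fin 2) R)

lemma Sq_eq (q : ℕ) : Sq p R q = sv p ((X 0 : MvPolynomial (Fin 2) R) ^ q) (X 1 ^ q) := by
  simp [Sq, sv]

lemma isCocycle_Sq [Fact p.Prime] [CharP R p] (i : ℕ) : IsCocycle (Sq p R (p ^ i)) := by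
  rw [Sq_eq]
  constructor
  · have h := map_sv p (aeval ![(X 1 : MvPolynomial (Fin 2) R), X 0]).toRingHom
      ((X 0 : MvPolynomial (Fin 2) R) ^ p ^ i) (X 1 ^ p ^ i)
    simp only [AlgHom.toRingHom_eq_coe, RingHom.coe_coe, map_pow, aeval_X, Matrix.cons_val_zero, Matrix.cons_val_one] at h
    rw [h, sv_comm]
  · have h : ∀ (u v : MvPolynomial (Fin 3) R), aeval ![u, v] (sv p ((X 0 : MvPolynomial (Fin 2) R) ^ p ^ i) (X 1 ^ p ^ i))
        = sv p (u ^ p ^ i) (v ^ p ^ i) := fun u v => by
      have h := map_sv p (aeval ![u, v]).toRingHom ((X 0 : MvPolynomial (Fin 2) R) ^ p ^ i) (X 1 ^ p ^ i)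
      simpa using h
    rw [h, h, h, h, add_pow_char_pow, add_pow_char_pow]
    exact sv_cocycle p _ _ _

lemma coeff_Sq (q a b : ℕ) : coeff (m2 a b) (Sq p R q) =
    ∑ j ∈ Finset.Ioo 0 p, if q * j = a ∧ q * (p - j) = b then ((p.choose j / p : ℕ) : R) else 0 := by
  rw [Sq_eq, sv, coeff_sum]
  refine Finset.sum_congr rfl fun j _ => ?_
  rw [← map_natCast (MvPolynomial.C : R →+* MvPolynomial (Fin 2) R), ← pow_mul, ← pow_mul, X2_eq,
    MvPolynomial.coeff_monomial]
  simp only [m2_inj]

lemma coeff_Sq_eq_zero (q a b : ℕ) (h : q * p ≠ a + b) : coeff (m2 a b) (Sq p R q) = 0 := by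
  rw [coeff_Sq]
  refine Finset.sum_eq_zero fun j hj => if_neg ?_
  rintro ⟨rfl, rfl⟩
  simp only [Finset.mem_Ioo] at hj
  exact h (by rw [← mul_add, Nat.add_sub_cancel' hj.2.le])

lemma coeff_Sq_one [Fact p.Prime] (q : ℕ) (hq : 0 < q) :
    coeff (m2 q (q * p - q)) (Sq p R q) = 1 := by
  have hp : p.Prime := Fact.out
  rw [coeff_Sq, Finset.sum_eq_single 1]
  · rw [if_pos ⟨mul_one q, by rw [Nat.mul_sub, mul_one]⟩, Nat.choose_one_right, Nat.div_self hp.pos, Nat.cast_one]
  · intro j _ hj
    refine if_neg fun h => hj ?_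
    have := h.1
    exact Nat.eq_of_mul_eq_mul_left hq (by rw [this, mul_one])
  · intro h; exact absurd (Finset.mem_Ioo.2 ⟨one_pos, hp.one_lt⟩) h

end S

section Main
variable {p : ℕ} [Fact p.Prime] {R : Type u} [CommRing R] [CharP R p]

lemma eq_zero_of_normalized (H : MvPolynomial (Fin 2) R) (hH : IsCocycle H)
    (h0 : coeff (m2 0 0) H = 0)
    (hI : ∀ e, coeff (m2 (p ^ e) (p ^ (e + 1) - p ^ e)) H = 0)
    (hII : ∀ a q, ¬ p ∣ q → 2 ≤ q → coeff (m2 (p ^ a) (p ^ a * q - p ^ a)) H = 0) : H = 0 := by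
  have key : ∀ i j k, ((j + k).choose j : R) * coeff (m2 i (j + k)) H + (if i = 0 then coeff (m2 j k) H else 0)
      - ((i + j).choose i : R) * coeff (m2 (i + j) k) H - (if k = 0 then coeff (m2 i j) H else 0) = 0 := by
    intro i j k
    have := congrArg (coeff (m3 i j k)) hH.2
    rwa [coeff_sub, coeff_sub, coeff_add, coeff_T1, coeff_T2, coeff_T3, coeff_T4, coeff_zero] at this
  have sym : ∀ i j, coeff (m2 i j) H = coeff (m2 j i) H := fun i j => by
    conv_lhs => rw [← hH.1]
    exact coeff_symm H i j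
  have hi0 : ∀ i, coeff (m2 i 0) H = 0 := fun i => by
    rcases Nat.eq_zero_or_pos i with rfl | hi
    · exact h0
    · have := key i 0 0
      rw [if_neg hi.ne', if_pos rfl] at this
      simpa using this
  refine MvPolynomial.ext _ _ fun d => ?_
  rw [eq_m2 d, coeff_zero]
  generalize d 0 = i
  generalize d 1 = j
  rcases Nat.eq_zero_or_pos j with rfl | hj
  · exact hi0 i
  rcases Nat.eq_zero_or_pos i with rfl | hi
  · rw [sym]; exact hi0 j
  have := vanish (p := p) (i + j) (fun t => coeff (m2 t (i + j - t)) H) ?_ ?_ ?_ ?_ i hi (by omega)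
  · simpa using this
  · intro a b ha hb hab
    have := key a b (i + j - a - b)
    rw [if_neg (by omega), if_neg (by omega), add_zero, sub_zero, show b + (i + j - a - b) = i + j - a by omega, sub_eq_zero] at this
    rwa [show i + j - a - b = i + j - (a + b) by omega] at this
  · intro a ha
    show coeff (m2 (i + j - a) (i + j - (i + j - a))) H = coeff (m2 a (i + j - a)) H
    rw [show i + j - (i + j - a) = a by omega, sym]
  · intro e he
    show coeff (m2 (p ^ e) (i + j - p ^ e)) H = 0
    rw [he]; exact hI e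
  · intro a q he hq hq2
    show coeff (m2 (p ^ a) (i + j - p ^ a)) H = 0
    rw [he]; exact hII a q hq hq2

lemma exists_form (F : MvPolynomial (Fin 2) R) (hF : IsCocycle F) :
    ∃ (G : Polynomial R) (N : ℕ) (r : ℕ → R),
      F = dG G + ∑ i ∈ Finset.range N, MvPolynomial.C (r i) * Sq p R (p ^ i) := by
  classical
  have hp : p.Prime := Fact.out
  let g : ℕ → R := fun n =>
    if n = 0 then - coeff (m2 0 0) F else
      coeff (m2 (p ^ padicValNat p n) (n - p ^ padicValNat p n)) F *
        Ring.inverse ((n.choose (p ^ padicValNat p n) : ℕ) : R) *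
        (if n = p ^ padicValNat p n then 0 else 1)
  let N := F.totalDegree + 2
  let G : Polynomial R := ∑ n ∈ Finset.range N, Polynomial.monomial n (g n)
  let r : ℕ → R := fun i => coeff (m2 (p ^ i) (p ^ (i + 1) - p ^ i)) F
  have hdeg : ∀ i j, F.totalDegree < i + j → coeff (m2 i j) F = 0 := by
    intro i j h
    refine coeff_eq_zero_of_totalDegree_lt ?_
    have : ∑ x ∈ (m2 i j).support, (m2 i j) x = i + j := by
      show (m2 i j).sum (fun _ e => e) = i + j
      rw [Finsupp.sum_fintype _ _ (fun _ => rfl), Fin.sum_univ_two]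
      simp [m2]
    omega
  have hGc : ∀ n, G.coeff n = g n := by
    intro n
    simp only [G, Polynomial.finsetSum_coeff, Polynomial.coeff_monomial]
    rw [Finset.sum_ite_eq']
    split_ifs with hn
    · rfl
    · simp only [Finset.mem_range, not_lt] at hn
      have hle : p ^ padicValNat p n ≤ n := Nat.le_of_dvd (by omega) pow_padicValNat_dvd
      simp only [g]
      rw [if_neg (by omega), hdeg _ _ (by omega), zero_mul, zero_mul]
  refine ⟨G, N, r, ?_⟩
  let T := ∑ i ∈ Finset.range N, MvPolynomial.C (r i) * Sq p R (p ^ i)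
  have hT : IsCocycle T := Finset.sum_induction _ IsCocycle (fun _ _ => IsCocycle.add) IsCocycle.zero
    (fun i _ => (isCocycle_Sq p R i).C_mul (r i))
  have hneg : IsCocycle (MvPolynomial.C (-1 : R) * (dG G + T)) := ((isCocycle_dG G).add hT).C_mul _
  have hH := eq_zero_of_normalized (p := p) _ (hF.add hneg) ?_ ?_ ?_
  · rw [map_neg, map_one] at hH
    linear_combination hH
  · simp only [coeff_add, coeff_C_mul, coeff_dG, hGc, T, coeff_sum]
    rw [Finset.sum_eq_zero (fun i _ => by rw [coeff_Sq_eq_zero p R _ 0 0 (Nat.mul_ne_zero (pow_ne_zero i hp.ne_zero) hp.ne_zero), mul_zero])]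
    simp [g]
  · intro e
    have hlt : p ^ e < p ^ (e + 1) := Nat.pow_lt_pow_right hp.one_lt (by omega)
    have hpos : 0 < p ^ e := pow_pos hp.pos e
    simp only [coeff_add, coeff_C_mul, coeff_dG, hGc, T, coeff_sum, Nat.add_sub_cancel' hlt.le]
    have hg : g (p ^ (e + 1)) = 0 := by
      simp only [g]
      rw [if_neg (pow_ne_zero _ hp.ne_zero), padicValNat.prime_pow, if_pos rfl, mul_zero]
    rw [hg, mul_zero, if_neg (by omega), if_neg hpos.ne', Finset.sum_eq_single e]
    · have h1 := coeff_Sq_one p R (p ^ e) hpos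
      rw [← pow_succ] at h1
      simp [h1, r]
    · intro b _ hb
      rw [coeff_Sq_eq_zero p R _ _ _ ?_, mul_zero]
      rw [Nat.add_sub_cancel' hlt.le, ← pow_succ]
      exact fun h => hb (by simpa using Nat.pow_right_injective hp.two_le h)
    · intro he
      simp only [Finset.mem_range, not_lt] at he
      have : e < p ^ (e + 1) := (Nat.lt_succ_self e).trans (Nat.lt_pow_self hp.one_lt)
      simp only [r]
      rw [hdeg _ _ (by omega), zero_mul]
  · intro a q hq hq2
    have hpos : 0 < p ^ a := pow_pos hp.pos a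
    have hle : p ^ a * 2 ≤ p ^ a * q := Nat.mul_le_mul_left _ hq2
    have hsum : p ^ a + (p ^ a * q - p ^ a) = p ^ a * q := by omega
    simp only [coeff_add, coeff_C_mul, coeff_dG, hGc, T, coeff_sum, hsum]
    have hv : padicValNat p (p ^ a * q) = a := by
      rw [padicValNat.mul (pow_ne_zero _ hp.ne_zero) (by omega), padicValNat.prime_pow,
        padicValNat.eq_zero_of_not_dvd hq, add_zero]
    have hne : p ^ a * q ≠ p ^ a := by omega
    have hg : ((p ^ a * q).choose (p ^ a) : R) * g (p ^ a * q) = coeff (m2 (p ^ a) (p ^ a * q - p ^ a)) F := by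
      simp only [g]
      rw [if_neg (by omega), hv, if_neg hne, mul_one, ← mul_assoc, mul_comm _ (coeff _ F), mul_assoc,
        Ring.mul_inverse_cancel _ (by rw [cast_choose_pow]; exact isUnit_cast q hq), mul_one]
    rw [hg, if_neg (by omega), if_neg hpos.ne', Finset.sum_eq_zero (fun b _ => ?_)]
    · ring
    · rw [coeff_Sq_eq_zero p R _ _ _ ?_, mul_zero]
      rw [hsum, ← pow_succ]
      intro h
      refine hq ?_
      have hab : a < b + 1 := by
        by_contra hab
        have := Nat.pow_le_pow_right hp.pos (not_lt.1 hab)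
        omega
      obtain ⟨c, hc⟩ := Nat.exists_eq_add_of_lt hab
      rw [hc, add_assoc, pow_add] at h
      rw [← Nat.eq_of_mul_eq_mul_left hpos h]
      exact dvd_pow_self p (by omega)

end Main

/-- Over a commutative algebra R of prime characteristic p, a polynomial F(X,Y) is symmetric and
satisfies the two-cocycle identity F(X,Y+Z) + F(Y,Z) − F(X+Y,Z) − F(X,Y) = 0 if and only if it has
the form G(X+Y) − G(X) − G(Y) + Σ_i r_i S(X^(p^i), Y^(p^i)) with G a one-variable polynomial, r_i in
R and S(X,Y) = Σ_{0<j<p} (C(p,j)/p) X^j Y^(p−j) the reduction mod p of ((X+Y)^p − X^p − Y^p)/p. -/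
theorem result (p : ℕ) [Fact p.Prime] (R : Type u) [CommRing R] [CharP R p]
    (F : MvPolynomial (Fin 2) R) :
    (MvPolynomial.aeval ![MvPolynomial.X 1, MvPolynomial.X 0] F = F ∧
      MvPolynomial.aeval ![MvPolynomial.X 0, MvPolynomial.X 1 + MvPolynomial.X 2] F
          + MvPolynomial.aeval ![MvPolynomial.X 1, MvPolynomial.X 2] F
          - MvPolynomial.aeval ![MvPolynomial.X 0 + MvPolynomial.X 1, MvPolynomial.X 2] F
          - MvPolynomial.aeval ![MvPolynomial.X 0, MvPolynomial.X 1] F = (0 : MvPolynomial (Fin 3) R)) ↔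
      ∃ (G : Polynomial R) (N : ℕ) (r : ℕ → R),
        F = Polynomial.aeval (MvPolynomial.X 0 + MvPolynomial.X 1 : MvPolynomial (Fin 2) R) G
              - Polynomial.aeval (MvPolynomial.X 0 : MvPolynomial (Fin 2) R) G
              - Polynomial.aeval (MvPolynomial.X 1 : MvPolynomial (Fin 2) R) G
            + ∑ i ∈ Finset.range N, MvPolynomial.C (r i) *
                MvPolynomial.aeval ![MvPolynomial.X 0 ^ p ^ i, MvPolynomial.X 1 ^ p ^ i]
                  (∑ j ∈ Finset.Ioo 0 p, MvPolynomial.C ((p.choose j / p : ℕ) : R) *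
                    MvPolynomial.X 0 ^ j * MvPolynomial.X 1 ^ (p - j) : MvPolynomial (Fin 2) R) := by
  constructor
  · exact fun h => exists_form (p := p) F h
  · rintro ⟨G, N, r, rfl⟩
    exact (isCocycle_dG G).add (Finset.sum_induction _ IsCocycle (fun _ _ => IsCocycle.add) IsCocycle.zero
      (fun i _ => (isCocycle_Sq p R i).C_mul (r i)))

end Groth.Agent.S13358
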