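import Mathlib
import Groth.Statements.S13359
-- import your own Groth.Agent.* helpers here

set_option autoImplicit false
set_option synthInstance.maxHeartbeats 200000
set_option maxHeartbeats 1000000
universe u
open UltraProd

namespace Groth.Agent.S13359

/-- If (R_i) is a nonempty family of integrally closed domains, then the localization of the product
ring ∏ R_i at any prime ideal is an integrally closed domain. -/
theorem result {ι : Type u} [Nonempty ι] (R : ι → Type u)
    [∀ i, CommRing (R i)] [∀ i, IsDomain (R i)] [∀ i, IsIntegrallyClosed (R i)]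
    (P : Ideal (∀ i, R i)) [P.IsPrime] :
    IsDomain (Localization.AtPrime P) ∧ IsIntegrallyClosed (Localization.AtPrime P) := by
  classical
  set S := Localization.AtPrime P
  have hsplit : ∀ e : ∀ i, R i, e ∉ P ∨ 1 - e ∉ P := fun e => by
    by_contra h; push Not at h
    exact (Ideal.IsPrime.ne_top ‹P.IsPrime›) ((Ideal.eq_top_iff_one P).2 (by simpa using P.add_mem h.1 h.2))
  haveI : NoZeroDivisors S := ⟨fun {x y} h => by
      obtain ⟨a, s, rfl⟩ := IsLocalization.exists_mk'_eq P.primeCompl x
      obtain ⟨b, t, rfl⟩ := IsLocalization.exists_mk'_eq P.primeCompl y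
      rw [← IsLocalization.mk'_mul, IsLocalization.mk'_eq_zero_iff] at h
      obtain ⟨⟨v, hv⟩, hvab⟩ := h
      rw [IsLocalization.mk'_eq_zero_iff, IsLocalization.mk'_eq_zero_iff]
      let e : ∀ i, R i := fun i => if a i = 0 then 1 else 0
      rcases hsplit e with he | he
      · exact Or.inl ⟨⟨e, he⟩, funext fun i => by by_cases h : a i = 0 <;> simp [e, h]⟩
      · refine Or.inr ⟨⟨v * (1 - e), fun h => (Ideal.IsPrime.mem_or_mem ‹_› h).elim hv he⟩, funext fun i => ?_⟩
        have := congrFun hvab i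
        by_cases h : a i = 0
        · simp [e, h]
        · simp [e, h] at this ⊢
          tauto⟩
  haveI : IsDomain S := NoZeroDivisors.to_isDomain _
  refine ⟨inferInstance, (isIntegrallyClosed_iff (FractionRing S)).2 fun {x} hx => ?_⟩
  obtain ⟨m, hm⟩ := IsIntegral.exists_multiple_integral_of_isLocalization P.primeCompl x hx
  obtain ⟨q, hq, hq0⟩ := hm
  obtain ⟨A0, B0, hB0, rfl⟩ := IsFractionRing.div_surjective (A := S) x
  obtain ⟨a, s, rfl⟩ := IsLocalization.exists_mk'_eq P.primeCompl A0
  obtain ⟨b, t, rfl⟩ := IsLocalization.exists_mk'_eq P.primeCompl B0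
  set K := FractionRing S
  let φ : (∀ i, R i) →+* K := algebraMap (∀ i, R i) K
  have hφ : ∀ u, φ u = algebraMap S K (algebraMap (∀ i, R i) S u) := fun u => IsScalarTower.algebraMap_apply _ S K u
  have hunit : ∀ u : P.primeCompl, φ u ≠ 0 := fun u => by
    rw [hφ]; exact ((IsLocalization.map_units S u).map (algebraMap S K)).ne_zero
  have hb : φ b ≠ 0 := fun h => by
    rw [hφ, IsFractionRing.to_map_eq_zero_iff] at h
    exact nonZeroDivisors.ne_zero hB0 (by rw [IsLocalization.mk'_eq_mul_mk'_one, h, zero_mul])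
  have hmk : ∀ (u : ∀ i, R i) (d : P.primeCompl), algebraMap S K (IsLocalization.mk' S u d) = φ u / φ d := fun u d => by
    rw [eq_div_iff (hunit d), hφ, hφ, ← map_mul, IsLocalization.mk'_spec]
  let a' : ∀ i, R i := (m : ∀ i, R i) * a * t
  let b' : ∀ i, R i := (s : ∀ i, R i) * b
  have hb' : φ b' ≠ 0 := by rw [map_mul]; exact mul_ne_zero (hunit s) hb
  have hy : Polynomial.eval₂ φ (φ a' / φ b') q = 0 := by
    refine Eq.trans ?_ hq0
    congr 1
    rw [Submonoid.smul_def, Algebra.smul_def, hmk, hmk]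
    simp only [a', b', map_mul]
    show _ = φ m * _
    rw [mul_assoc (φ m), mul_div_assoc]
    field_simp
  set n := q.natDegree
  have key : ∀ (L : Type u) [Field L] (χ : (∀ i, R i) →+* L) (p r : ∀ i, R i), χ r ≠ 0 →
      χ (∑ k ∈ Finset.range (n + 1), q.coeff k * p ^ k * r ^ (n - k)) = χ r ^ n * Polynomial.eval₂ χ (χ p / χ r) q := by
    intro L _ χ p r hr
    rw [Polynomial.eval₂_eq_sum_range, map_sum, Finset.mul_sum]
    refine Finset.sum_congr rfl fun k hk => ?_
    rw [Finset.mem_range] at hk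
    rw [map_mul, map_mul, map_pow, map_pow, div_pow, ← pow_sub_mul_pow (χ r) (show k ≤ n by omega)]
    have hrk := pow_ne_zero k hr
    field_simp
  let hh : ∀ i, R i := ∑ k ∈ Finset.range (n + 1), q.coeff k * a' ^ k * b' ^ (n - k)
  have hh0 : φ hh = 0 := (key K φ a' b' hb').trans (by rw [hy, mul_zero])
  rw [hφ, IsFractionRing.to_map_eq_zero_iff] at hh0
  obtain ⟨⟨v, hv⟩, hvh⟩ := (IsLocalization.map_eq_zero_iff P.primeCompl S hh).1 hh0
  let e : ∀ i, R i := fun i => if b' i ≠ 0 ∧ v i ≠ 0 then 1 else 0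
  have he : e ∉ P := by
    refine fun he => (hsplit e).elim (fun h => h he) fun he' => ?_
    apply hb'
    have : b' * (v * (1 - e)) = 0 := funext fun i => by
      by_cases h : b' i = 0
      · simp [h]
      · by_cases h' : v i = 0 <;> simp [e, h, h']
    have h2 := congrArg φ this
    rw [map_mul, map_zero, mul_eq_zero] at h2
    exact h2.resolve_right (hunit ⟨v * (1 - e), fun h => (Ideal.IsPrime.mem_or_mem ‹_› h).elim hv he'⟩)
  have hc : ∀ i, ∃ c : R i, b' i ≠ 0 → v i ≠ 0 → a' i = b' i * c := by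
    intro i
    by_cases h : b' i ≠ 0 ∧ v i ≠ 0
    · let ψ : (∀ i, R i) →+* FractionRing (R i) := (algebraMap (R i) (FractionRing (R i))).comp (Pi.evalRingHom R i)
      have hψb : ψ b' ≠ 0 := fun e => h.1 (IsFractionRing.to_map_eq_zero_iff.1 e)
      have h0 : ψ hh = 0 := by
        have hi : v i * hh i = 0 := congrFun hvh i
        show algebraMap _ _ (hh i) = 0
        rw [(mul_eq_zero.1 hi).resolve_left h.2, map_zero]
      have hint : IsIntegral (R i) (ψ a' / ψ b') := by
        refine ⟨q.map (Pi.evalRingHom R i), hq.map _, ?_⟩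
        rw [Polynomial.eval₂_map]
        exact (mul_eq_zero.1 ((key (FractionRing (R i)) ψ a' b' hψb).symm.trans h0)).resolve_left (pow_ne_zero n hψb)
      obtain ⟨c, hc⟩ := IsIntegrallyClosed.isIntegral_iff.1 hint
      refine ⟨c, fun _ _ => IsFractionRing.injective (R i) (FractionRing (R i)) ?_⟩
      rw [map_mul, hc]
      show ψ a' = ψ b' * _
      field_simp
    · exact ⟨0, fun h1 h2 => absurd ⟨h1, h2⟩ h⟩
  choose c hc using hc
  have heq : φ a' = φ b' * φ c := by
    have : e * a' = e * (b' * c) := funext fun i => by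
      by_cases h : b' i ≠ 0 ∧ v i ≠ 0
      · simp [e, h, hc i h.1 h.2]
      · simp [e, h]
    have h2 := congrArg φ this
    exact mul_left_cancel₀ (hunit ⟨e, he⟩)
      ((map_mul φ e a').symm.trans (h2.trans ((map_mul φ e _).trans (congrArg (φ e * ·) (map_mul φ b' c)))))
  refine ⟨IsLocalization.mk' S c m, ?_⟩
  rw [hmk, hmk, hmk]
  simp only [a', b', map_mul] at heq
  rw [div_div_div_eq, div_eq_div_iff (hunit m) (mul_ne_zero (hunit s) hb)]
  linear_combination -heq

end Groth.Agent.S13359
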