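import Mathlib
import Groth.Statements.S13360
-- import your own Groth.Agent.* helpers here

set_option autoImplicit false
universe u
open UltraProd

namespace Groth.Agent.S13360

/-- If (R_i) is a nonempty family of valuation rings, then the localization of the product ring ∏ R_i at
any prime ideal is a valuation ring: a domain in which, of any two elements, one divides the other. -/
theorem result {ι : Type u} [Nonempty ι] (R : ι → Type u)
    [∀ i, CommRing (R i)] [∀ i, IsDomain (R i)] [∀ i, ValuationRing (R i)]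
    (P : Ideal (∀ i, R i)) [P.IsPrime] :
    IsDomain (Localization.AtPrime P) ∧ PreValuationRing (Localization.AtPrime P) := by
  classical
  have hz : ∀ (w : ∀ i, R i), (∃ v : ∀ i, R i, v ∉ P ∧ v * w = 0) → algebraMap (∀ i, R i) (Localization.AtPrime P) w = 0 :=
    fun w ⟨v, hv, hvw⟩ => (IsLocalization.map_eq_zero_iff P.primeCompl _ w).2 ⟨⟨v, hv⟩, hvw⟩
  have hsplit : ∀ e : ∀ i, R i, e ∉ P ∨ 1 - e ∉ P := fun e => by
    by_contra h; push Not at h
    exact (Ideal.IsPrime.ne_top ‹P.IsPrime›) ((Ideal.eq_top_iff_one P).2 (by simpa using P.add_mem h.1 h.2))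
  refine ⟨?_, ?_⟩
  rotate_left
  · refine ⟨fun x y => ?_⟩
    obtain ⟨a, s, rfl⟩ := IsLocalization.exists_mk'_eq P.primeCompl x
    obtain ⟨b, t, rfl⟩ := IsLocalization.exists_mk'_eq P.primeCompl y
    obtain ⟨c, hc⟩ : ∃ c : ∀ i, R i, ∀ i, (a i ∣ b i → a i * c i = b i) ∧ (¬ a i ∣ b i → b i * c i = a i) := by
      have : ∀ i, ∃ c, (a i ∣ b i → a i * c = b i) ∧ (¬ a i ∣ b i → b i * c = a i) := fun i => by
        by_cases h : a i ∣ b i
        · obtain ⟨c, hc⟩ := h; exact ⟨c, fun _ => hc.symm, fun h' => absurd ⟨c, hc⟩ h'⟩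
        · obtain ⟨c, hc⟩ := (PreValuationRing.cond (a i) (b i)).choose_spec.resolve_left (fun h' => h ⟨_, h'.symm⟩) |> fun h' => (⟨_, h'⟩ : ∃ c, b i * c = a i)
          exact ⟨c, fun h' => absurd h' h, fun _ => hc⟩
      choose c hc using this
      exact ⟨c, hc⟩
    let e : ∀ i, R i := fun i => if a i ∣ b i then 1 else 0
    have key : ∀ (p q : ∀ i, R i) (s t : P.primeCompl), (∃ v : ∀ i, R i, v ∉ P ∧ v * (p * c - q) = 0) →
        IsLocalization.mk' (Localization.AtPrime P) p s ∣ IsLocalization.mk' (Localization.AtPrime P) q t := by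
      intro p q s t hv
      have h0 := hz _ hv
      rw [map_sub, sub_eq_zero, map_mul] at h0
      rw [IsLocalization.mk'_eq_mul_mk'_one (M := P.primeCompl) q t, ← h0]
      refine Dvd.dvd.mul_right (Dvd.dvd.mul_right ⟨algebraMap _ _ (s : ∀ i, R i), ?_⟩ _) _
      exact (IsLocalization.mk'_spec _ _ _).symm
    rcases hsplit e with he | he
    · obtain ⟨z, hz'⟩ := key a b s t ⟨e, he, funext fun i => by
        by_cases h : a i ∣ b i
        · simp [e, h, (hc i).1 h]
        · simp [e, h]⟩
      exact ⟨z, Or.inl hz'.symm⟩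
    · obtain ⟨z, hz'⟩ := key b a t s ⟨1 - e, he, funext fun i => by
        by_cases h : a i ∣ b i
        · simp [e, h]
        · simp [e, h, (hc i).2 h]⟩
      exact ⟨z, Or.inr hz'.symm⟩
  · haveI : NoZeroDivisors (Localization.AtPrime P) := ⟨fun {x y} h => by
      obtain ⟨a, s, rfl⟩ := IsLocalization.exists_mk'_eq P.primeCompl x
      obtain ⟨b, t, rfl⟩ := IsLocalization.exists_mk'_eq P.primeCompl y
      rw [← IsLocalization.mk'_mul, IsLocalization.mk'_eq_zero_iff] at h
      obtain ⟨⟨v, hv⟩, hvab⟩ := h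
      rw [IsLocalization.mk'_eq_zero_iff, IsLocalization.mk'_eq_zero_iff]
      let e : ∀ i, R i := fun i => if a i = 0 then 1 else 0
      rcases hsplit e with he | he
      · exact Or.inl ⟨⟨e, he⟩, funext fun i => by by_cases h : a i = 0 <;> simp [e, h]⟩
      · refine Or.inr ⟨⟨v * (1 - e), fun h => (Ideal.IsPrime.mem_or_mem ‹_› h).elim hv he⟩, funext fun i => ?_⟩
        have := congrFun hvab i
        by_cases h : a i = 0
        · simp [e, h]
        · simp [e, h] at this ⊢
          tauto⟩
    exact NoZeroDivisors.to_isDomain _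

end Groth.Agent.S13360
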