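import Mathlib
import Groth.Statements.S13361
-- import your own Groth.Agent.* helpers here

set_option autoImplicit false
universe u
open ProCompl

namespace Groth.Agent.S13361

/-- A finite abelian group with a nonzero element contained in every nonzero subgroup is isomorphic to a
cyclic group of prime-power order Z/p^n. -/
theorem result {A : Type u} [AddCommGroup A] [Finite A]
    (a : A) (ha : a ≠ 0) (h : ∀ B : AddSubgroup A, B ≠ ⊥ → a ∈ B) :
    ∃ p n : ℕ, p.Prime ∧ Nonempty (A ≃+ ZMod (p ^ n)) := by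
  classical
  obtain ⟨ι, _, p, hp, e, ⟨φ⟩⟩ := AddCommGroup.equiv_directSum_zmod_of_finite A
  obtain ⟨i, hi⟩ : ∃ i, φ a i ≠ 0 := by
    by_contra h; push Not at h
    exact ha (φ.injective (by rw [map_zero]; exact DFinsupp.ext h))
  have hsub : ∀ j, j ≠ i → ∀ z : ZMod (p j ^ e j), z = 0 := by
    intro j hj z
    by_contra hz
    let g : ZMod (p j ^ e j) →+ A := φ.symm.toAddMonoidHom.comp (DirectSum.of (fun t => ZMod (p t ^ e t)) j)
    have hg : g.range ≠ ⊥ := by
      intro h
      apply hz
      have h1 : g z ∈ g.range := ⟨z, rfl⟩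
      rw [h, AddSubgroup.mem_bot] at h1
      exact DirectSum.of_injective j (φ.symm.injective (h1.trans (by simp)))
    obtain ⟨w, hw⟩ := h _ hg
    apply hi
    rw [← hw]
    simp [g, DirectSum.of_eq_of_ne _ _ _ hj.symm]
  refine ⟨p i, e i, hp i, ⟨φ.trans (AddEquiv.ofBijective (DFinsupp.evalAddMonoidHom (β := fun t => ZMod (p t ^ e t)) i) ⟨fun u v huv => ?_, fun z => ⟨DirectSum.of (fun t => ZMod (p t ^ e t)) i z, by show (DirectSum.of (fun t => ZMod (p t ^ e t)) i z) i = z; exact DirectSum.of_eq_same (β := fun t => ZMod (p t ^ e t)) i z⟩⟩)⟩⟩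
  refine DFinsupp.ext fun j => ?_
  by_cases hj : j = i
  · subst hj; exact huv
  · rw [hsub j hj (u j), hsub j hj (v j)]

end Groth.Agent.S13361
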