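import Mathlib
import Groth.Statements.S13362
-- import your own Groth.Agent.* helpers here

set_option autoImplicit false
universe u
open ProCompl

namespace Groth.Agent.S13362

/-- An abelian group of finite exponent having a nonzero element contained in every nonzero subgroup is
finite. -/
theorem result {A : Type u} [AddCommGroup A]
    (hA : AddMonoid.exponent A ≠ 0) (a : A) (ha : a ≠ 0) (h : ∀ B : AddSubgroup A, B ≠ ⊥ → a ∈ B) :
    Finite A := by
  classical
  have hfo : IsOfFinAddOrder a := AddMonoid.ExponentExists.isOfFinAddOrder (AddMonoid.exponent_ne_zero.1 hA)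
  have hC : (AddSubgroup.zmultiples a : Set A).Finite := finite_zmultiples.2 hfo
  have hpr : ∀ q : ℕ, q.Prime → {x : A | q • x = 0}.Finite := by
    intro q hq
    refine (hC.insert 0).subset fun x hx => ?_
    by_cases x0 : x = 0
    · exact Set.mem_insert_iff.2 (Or.inl x0)
    refine Set.mem_insert_of_mem _ ?_
    obtain ⟨k, hk⟩ := AddSubgroup.mem_zmultiples_iff.1 (h (AddSubgroup.zmultiples x) (by simpa using x0))
    have hx' : (q : ℤ) • x = 0 := by rw [natCast_zsmul]; exact hx
    have hnd : ¬ (q : ℤ) ∣ k := by
      rintro ⟨l, rfl⟩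
      rw [mul_comm, mul_zsmul] at hk
      exact ha (by rw [← hk, hx', zsmul_zero])
    obtain ⟨u, v, huv⟩ := ((Nat.prime_iff_prime_int.1 hq).coprime_iff_not_dvd).2 hnd
    refine AddSubgroup.mem_zmultiples_iff.2 ⟨v, ?_⟩
    rw [← hk, ← mul_zsmul]
    conv_rhs => rw [← one_zsmul x, ← huv, add_zsmul, mul_zsmul, hx', zsmul_zero, zero_add]
  have main : ∀ n : ℕ, n ≠ 0 → {x : A | n • x = 0}.Finite := by
    intro n
    induction n using induction_on_primes with
    | zero => simp
    | one => intro _; simp
    | prime_mul p m hp ih =>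
      intro hn
      have hm := ih (right_ne_zero_of_mul hn)
      refine Set.Finite.subset ((hpr p hp).biUnion (t := fun y => {x : A | m • x = y}) fun y _ => ?_) fun x hx => ?_
      · by_cases hne : ∃ x0, m • x0 = y
        · obtain ⟨x0, h0⟩ := hne
          refine (hm.image (x0 + ·)).subset fun x hx => ⟨x - x0, ?_, add_sub_cancel x0 x⟩
          show m • (x - x0) = 0
          rw [nsmul_sub, show m • x = y from hx, h0, sub_self]
        · exact Set.Finite.subset Set.finite_empty fun x hx => (hne ⟨x, hx⟩).elim
      · refine Set.mem_biUnion (x := m • x) ?_ rfl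
        show p • (m • x) = 0
        rw [← mul_nsmul']
        exact hx
  exact Set.finite_univ_iff.1 ((main _ hA).subset fun x _ => AddMonoid.exponent_nsmul_eq_zero x)

end Groth.Agent.S13362
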