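import Mathlib
import Groth.Statements.S13363
-- import your own Groth.Agent.* helpers here

set_option autoImplicit false
universe u
open ProCompl

namespace Groth.Agent.S13363

/-- Let A be a topological abelian group such that the subgroup n·A is open for each n > 0, and a ∈ A.
Then A has an open subgroup of finite index not containing a if and only if a does not lie in the
subgroup of divisible elements ∩_n nA. -/
theorem result {A : Type u} [AddCommGroup A]
    [TopologicalSpace A] [IsTopologicalAddGroup A]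
    (hn : ∀ n : ℕ, 0 < n → IsOpen (Set.range (fun x : A => n • x))) (a : A) :
    (∃ B : AddSubgroup A, IsOpen (B : Set A) ∧ B.FiniteIndex ∧ a ∉ B) ↔
      ¬ (∀ n : ℕ, 0 < n → ∃ b : A, n • b = a) := by
  constructor
  · rintro ⟨B, -, hB, ha⟩ hdiv
    obtain ⟨b, rfl⟩ := hdiv B.index (Nat.pos_of_ne_zero hB.index_ne_zero)
    exact ha (AddSubgroup.nsmul_index_mem B b)
  · intro h
    push Not at h
    obtain ⟨n, hn0, hna⟩ := h
    let N : AddSubgroup A := (nsmulAddMonoidHom n : A →+ A).range
    have haN : (a : A ⧸ N) ≠ 0 := by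
      rw [Ne, QuotientAddGroup.eq_zero_iff]
      rintro ⟨b, hb⟩
      exact hna b hb
    obtain ⟨χ, hχ⟩ := CharacterModule.exists_character_apply_ne_zero_of_ne_zero haN
    let ψ : A →+ AddCircle (1 : ℚ) := AddMonoidHom.comp χ (QuotientAddGroup.mk' N)
    have hψN : ∀ x, ψ (n • x) = 0 := fun x => by
      show χ ((n • x : A) : A ⧸ N) = 0
      rw [(QuotientAddGroup.eq_zero_iff (n • x)).2 (show n • x ∈ N from AddMonoidHom.mem_range.2 ⟨x, rfl⟩)]
      exact map_zero χ
    refine ⟨ψ.ker, ?_, ?_, fun h' => hχ h'⟩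
    · refine AddSubgroup.isOpen_of_mem_nhds _ (g := 0) (Filter.mem_of_superset ((hn n hn0).mem_nhds ⟨0, by simp⟩) ?_)
      rintro _ ⟨x, rfl⟩
      exact hψN x
    · have hfin : (ψ.range : Set (AddCircle (1 : ℚ))).Finite := by
        refine Set.Finite.subset (Set.finite_range (fun k : Fin n => ((((k : ℕ) : ℚ) / (n : ℚ) : ℚ) : AddCircle (1 : ℚ)))) ?_
        rintro _ ⟨x, rfl⟩
        obtain ⟨q, hq⟩ := QuotientAddGroup.mk_surjective (ψ x)
        have h1 : ((n • q : ℚ) : AddCircle (1 : ℚ)) = 0 := by
          rw [AddCircle.coe_nsmul]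
          show n • (QuotientAddGroup.mk q : AddCircle (1 : ℚ)) = 0
          rw [hq, ← map_nsmul, hψN]
        obtain ⟨z, hz⟩ := (AddCircle.coe_eq_zero_iff (1 : ℚ)).1 h1
        have hnz : (0 : ℤ) < n := by exact_mod_cast hn0
        refine ⟨⟨(z % n).toNat, ?_⟩, ?_⟩
        · have := Int.emod_lt_of_pos z hnz
          have := Int.emod_nonneg z hnz.ne'
          omega
        · show (((((z % n).toNat : ℕ) : ℚ) / (n : ℚ) : ℚ) : AddCircle (1 : ℚ)) = ψ x
          rw [← hq]
          refine (QuotientAddGroup.eq (s := AddSubgroup.zmultiples (1 : ℚ))).2 ⟨z / n, ?_⟩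
          have h2 : (((z % n).toNat : ℕ) : ℚ) = ((z % n : ℤ) : ℚ) := by
            exact_mod_cast Int.toNat_of_nonneg (Int.emod_nonneg z hnz.ne')
          have h3 : ((z % n : ℤ) : ℚ) + n * ((z / n : ℤ) : ℚ) = z := by exact_mod_cast (by linarith [Int.emod_add_ediv_mul z n] : z % n + n * (z / n) = z)
          simp only [zsmul_eq_mul, mul_one, nsmul_eq_mul] at hz ⊢
          rw [h2]
          field_simp
          linarith [hz, h3]
      have : Finite ψ.range := hfin.to_subtype
      exact AddSubgroup.finiteIndex_ker ψ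

end Groth.Agent.S13363
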