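import Mathlib
import Groth.Statements.S13365
-- import your own Groth.Agent.* helpers here

set_option autoImplicit false
universe u
open ProCompl

namespace Groth.Agent.S13365

/-- The quotient of a profinite (compact, Hausdorff, totally disconnected) abelian topological group by
a compact subgroup is profinite. -/
theorem result {A : Type u} [AddCommGroup A] [TopologicalSpace A]
    [IsTopologicalAddGroup A] [CompactSpace A] [T2Space A] [TotallyDisconnectedSpace A]
    (B : AddSubgroup A) (hB : IsCompact (B : Set A)) :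
    CompactSpace (A ⧸ B) ∧ T2Space (A ⧸ B) ∧ TotallyDisconnectedSpace (A ⧸ B) := by
  have hc : IsClosed (B : Set A) := hB.isClosed
  have : IsClosed (B : Set A) := hc
  have : T2Space (A ⧸ B) := inferInstance
  refine ⟨inferInstance, inferInstance, ?_⟩
  have hsep : ∀ z : A ⧸ B, z ≠ 0 → ∃ H : AddSubgroup (A ⧸ B), IsOpen (H : Set (A ⧸ B)) ∧ z ∉ H := by
    intro z hz
    obtain ⟨a, rfl⟩ := QuotientAddGroup.mk_surjective z
    rw [Ne, QuotientAddGroup.eq_zero_iff] at hz
    have hW : IsOpen ((fun u => a + u) ⁻¹' (B : Set A)ᶜ) := hc.isOpen_compl.preimage (continuous_const_add a)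
    obtain ⟨V, hV, h0V, hVW⟩ := compact_exists_isClopen_in_isOpen hW (x := (0 : A)) (by simpa using hz)
    obtain ⟨U, hU⟩ := IsTopologicalAddGroup.exist_openAddSubgroup_sub_clopen_nhds_of_zero hV h0V
    refine ⟨(U : AddSubgroup A).map (QuotientAddGroup.mk' B), QuotientAddGroup.isOpenMap_coe _ U.isOpen, ?_⟩
    rintro ⟨u, hu, hua⟩
    have h := hVW (hU (neg_mem hu : -u ∈ (U : AddSubgroup A)))
    refine h ?_
    have h2 := QuotientAddGroup.eq.1 (show (u : A ⧸ B) = (a : A ⧸ B) from hua)
    show a + -u ∈ B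
    simpa [add_comm] using h2
  have : TotallySeparatedSpace (A ⧸ B) := by
    refine totallySeparatedSpace_iff_exists_isClopen.2 fun x y hxy => ?_
    obtain ⟨H, hH, hz⟩ := hsep (y - x) (sub_ne_zero.2 hxy.symm)
    refine ⟨(fun v => v - x) ⁻¹' (H : Set (A ⧸ B)),
      ⟨(AddSubgroup.isClosed_of_isOpen H hH).preimage (continuous_sub_right x), hH.preimage (continuous_sub_right x)⟩,
      by simp, hz⟩
  infer_instance

end Groth.Agent.S13365
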