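import Groth.Statements.S13366
import Mathlib
import Groth.Agent.SigmaLang.Basic
import Groth.Agent.HenselLib.Newton
-- import your own Groth.Agent.* helpers here

set_option autoImplicit false
universe u v
open FrobMod

namespace Groth.Agent.S13366

section
open Groth.Agent MvPolynomial

variable (p : ℕ) [Fact p.Prime] {R : Type u} [CommRing R] [HenselianLocalRing R]
  [IsSepClosed (IsLocalRing.ResidueField R)] [CharP R p] {n : ℕ}

def twist (A : Matrix (Fin n) (Fin n) R) (x : Fin n → R) : Fin n → R := A.mulVec (fun j => x j ^ p)

theorem coords (A : Matrix (Fin n) (Fin n) R) (hA : ∀ y, ∃ x, A.mulVec x = y) :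
    (∀ c, ∃ x, twist p A x - x = c) ∧ Nat.card {x : Fin n → R // twist p A x = x} = p ^ n := by
  classical
  set κ := IsLocalRing.ResidueField R
  set res := IsLocalRing.residue R with hres
  haveI : CharP κ p := by
    obtain ⟨q, hq⟩ := CharP.exists κ
    have hp0 : (p : κ) = 0 := by rw [← map_natCast res, CharP.cast_eq_zero, map_zero]
    have hqp : q ∣ p := (CharP.cast_eq_zero_iff κ q p).1 hp0
    rcases (Nat.dvd_prime (Fact.out : p.Prime)).1 hqp with rfl | rfl
    · exact absurd rfl (CharP.char_ne_one κ 1)
    · exact hq
  have hp1 : 1 < p := (Fact.out : p.Prime).one_lt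
  let σ : κ →+* κ := frobenius κ p
  have hσ : ∀ x, σ x = x ^ p ^ 1 := fun x => by rw [pow_one]; exact frobenius_def _ _
  let Ab : Matrix (Fin n) (Fin n) κ := A.map res
  let Tb : (Fin n → κ) →ₛₗ[σ] (Fin n → κ) :=
    { toFun := fun v => Ab.mulVec (fun j => v j ^ p)
      map_add' := fun v w => by
        rw [← Matrix.mulVec_add]; congr 1; funext j; exact add_pow_char (v j) (w j) p
      map_smul' := fun c v => by
        rw [← Matrix.mulVec_smul]; congr 1; funext j
        simp [σ, frobenius_def, mul_pow] }
  have hmv : ∀ y : Fin n → R, Ab.mulVec (fun i => res (y i)) = fun i => res (A.mulVec y i) :=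
    fun y => funext fun i => (RingHom.map_mulVec res A y i).symm
  have hspan : Submodule.span κ (Set.range ⇑Tb) = ⊤ := by
    rw [eq_top_iff]
    intro v hv
    clear hv
    choose v' hv' using fun i => IsLocalRing.residue_surjective (v i)
    obtain ⟨x, hx⟩ := hA v'
    have hv : v = ∑ j, res (x j) • Ab.mulVec (Pi.single j 1) := by
      have : v = Ab.mulVec (fun i => res (x i)) := by rw [hmv, hx]; exact (funext hv').symm
      rw [this]
      funext i
      simp [Matrix.mulVec, dotProduct, Finset.sum_apply, Pi.single_apply, mul_comm]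
    rw [hv]
    refine Submodule.sum_mem _ fun j _ => Submodule.smul_mem _ _ (Submodule.subset_span ⟨Pi.single j 1, ?_⟩)
    show Ab.mulVec _ = _
    congr 1
    funext i
    rcases eq_or_ne i j with rfl | h
    · simp
    · simp [Pi.single_eq_of_ne h, (Fact.out : p.Prime).ne_zero]
  have h2 := SigmaLang.twistRoots_powq (k := κ) p one_pos hσ
  have h3 := SigmaLang.subSurj_powq (k := κ) p one_pos hσ
  have hTb : ∀ x : Fin n → R, Tb (fun i => res (x i)) = fun i => res (twist p A x i) := fun x => by
    show Ab.mulVec _ = _
    rw [twist, ← hmv]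
    simp [map_pow]
  obtain ⟨bA, hbA⟩ : ∃ B : Matrix (Fin n) (Fin n) R, A * B = 1 := by
    choose B hB using fun j => hA (Pi.single j 1)
    refine ⟨Matrix.of fun i j => B j i, ?_⟩
    ext i j
    simpa [Matrix.mul_apply, Matrix.mulVec, dotProduct, Matrix.one_apply, Pi.single_apply] using congrFun (hB j) i
  have hlift : ∀ (c : Fin n → R) (v : Fin n → κ), Tb v - v = (fun i => res (c i)) →
      ∃ x : Fin n → R, twist p A x - x = c ∧ ∀ i, res (x i) = v i := by
    intro c v hv
    choose a₀ ha₀ using fun i => IsLocalRing.residue_surjective (v i)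
    let P : Fin n → MvPolynomial (Fin n) R := fun i => (∑ j, C (A i j) * X j ^ p) - X i - C (c i)
    have hev : ∀ (x : Fin n → R) i, eval x (P i) = twist p A x i - x i - c i := fun x i => by
      simp [P, twist, Matrix.mulVec, dotProduct]
    obtain ⟨x, hx, hxa⟩ := HenselLib.exists_root_of_jacobian (IsLocalRing.maximalIdeal R) P a₀
      (fun i => by
        rw [← IsLocalRing.residue_eq_zero_iff, hev, map_sub, map_sub]
        have := congrFun (hTb a₀) i
        rw [show (fun i => res (a₀ i)) = v from funext ha₀] at this
        rw [← hres, ← this, ha₀, ← congrFun hv i, Pi.sub_apply]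
        ring)
      (by
        have hmat : (Matrix.of fun i j => eval a₀ (pderiv j (P i))) = -1 := by
          ext i j
          simp [P, CharP.cast_eq_zero, Matrix.one_apply, pderiv_X, Pi.single_apply, eq_comm]
        rw [hmat, Matrix.det_neg, Matrix.det_one, mul_one]
        exact (isUnit_one.neg).pow _)
    refine ⟨x, funext fun i => ?_, fun i => ?_⟩
    · have := hx i
      rw [hev, sub_eq_zero] at this
      exact this
    · rw [← ha₀ i, ← sub_eq_zero, ← map_sub, hres, IsLocalRing.residue_eq_zero_iff]
      exact hxa i
  refine ⟨fun c => ?_, ?_⟩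
  · obtain ⟨v, hv⟩ := SigmaLang.sub_surjective h2 h3 Tb hspan (fun i => -res (c i))
    obtain ⟨x, hx, -⟩ := hlift c v (by
      have := congrArg Neg.neg hv
      simp only [neg_sub] at this
      rw [this]
      funext i
      simp)
    exact ⟨x, hx⟩
  · let red : {x : Fin n → R // twist p A x = x} → {v : Fin n → κ // Tb v = v} := fun x =>
      ⟨fun i => res (x.1 i), by rw [hTb, x.2]⟩
    have hbij : Function.Bijective red := by
      refine ⟨fun x y hxy => ?_, fun v => ?_⟩
      · set d : Fin n → R := x.1 - y.1 with hd
        have hTd : twist p A d = d := by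
          rw [twist, show (fun j => d j ^ p) = (fun j => x.1 j ^ p) - (fun j => y.1 j ^ p) from
            funext fun j => sub_pow_char (x.1 j) (y.1 j), Matrix.mulVec_sub]
          show twist p A x.1 - twist p A y.1 = d
          rw [x.2, y.2]
        have hdm : ∀ i, d i ∈ IsLocalRing.maximalIdeal R := fun i => by
          rw [← IsLocalRing.residue_eq_zero_iff, hd, Pi.sub_apply, map_sub, sub_eq_zero]
          exact congrFun (congrArg Subtype.val hxy) i
        let D := Ideal.span (Set.range d)
        have hD : D ≤ IsLocalRing.maximalIdeal R • D := by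
          rw [Ideal.span_le]
          rintro _ ⟨i, rfl⟩
          rw [← congrFun hTd i]
          show (A.mulVec fun j => d j ^ p) i ∈ IsLocalRing.maximalIdeal R • D
          simp only [Matrix.mulVec, dotProduct]
          refine Submodule.sum_mem _ fun j _ => Ideal.mul_mem_left _ _ ?_
          obtain ⟨q, hq⟩ : ∃ q, p = q + 2 := ⟨p - 2, by omega⟩
          rw [hq, pow_succ]
          exact Submodule.smul_mem_smul (Ideal.pow_mem_of_mem _ (hdm j) _ (Nat.succ_pos q)) (Ideal.subset_span ⟨j, rfl⟩)
        have hbot : D = ⊥ := Submodule.eq_bot_of_le_smul_of_le_jacobson_bot _ _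
          (Submodule.fg_span (Set.finite_range d)) hD (IsLocalRing.maximalIdeal_le_jacobson _)
        refine Subtype.ext (funext fun i => sub_eq_zero.1 ?_)
        exact (Submodule.mem_bot R).1 (hbot ▸ (Ideal.subset_span ⟨i, rfl⟩ : d i ∈ D))
      · obtain ⟨x, hx, hxv⟩ := hlift 0 v.1 (by rw [v.2, sub_self]; funext i; simp)
        exact ⟨⟨x, sub_eq_zero.1 hx⟩, Subtype.ext (funext hxv)⟩
    rw [Nat.card_eq_of_bijective red hbij]
    obtain ⟨b, hb⟩ := SigmaLang.exists_basis_fixed h2 h3 Tb hspan
    have e : {v : Fin n → κ // Tb v = v} ≃ (Fin (Module.finrank κ (Fin n → κ)) → (⊥ : Subfield κ)) :=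
      { toFun := fun v i => ⟨b.repr v.1 i, (Subfield.mem_bot_iff_pow_eq_self (F := κ) (p := p)).2
          (by rw [← frobenius_def]; exact (SigmaLang.repr_fixed Tb b hb).1 v.2 i)⟩
        invFun := fun c => ⟨b.equivFun.symm (fun i => (c i : κ)), (SigmaLang.repr_fixed Tb b hb).2 fun i => by
          rw [← b.equivFun_apply, LinearEquiv.apply_symm_apply]
          exact (Subfield.mem_bot_iff_pow_eq_self (F := κ) (p := p)).1 (c i).2⟩
        left_inv := fun v => Subtype.ext (b.equivFun.symm_apply_apply v.1)
        right_inv := fun c => funext fun i => Subtype.ext (congrFun (b.equivFun.apply_symm_apply fun i => (c i : κ)) i) }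
    rw [Nat.card_congr e, Nat.card_fun, Subfield.card_bot κ p, Nat.card_fin, Module.finrank_fin_fun]

end

/-- Over a strictly Henselian local ring R of prime characteristic p (Henselian, separably closed
residue field), let M be a free module of finite rank n and T an additive Frobenius-semilinear
self-map of M (T(rm) = r^p T(m)) whose values generate M as an R-module; for a basis (e_i) this says
that the matrix of coefficients of the elements T(e_i) is invertible. Then the map T − 1 is
surjective and its kernel has cardinality p^n. (The published statement calls T a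
Frobenius-semilinear isomorphism; this row asks only that the values of T generate M over R, which
is the property of T the published proof uses. Requiring T itself to be bijective would, for M ≠ 0,
force the Frobenius of R to be surjective.) -/
theorem result (p : ℕ) [Fact p.Prime] {R : Type u} [CommRing R]
    [HenselianLocalRing R] [IsSepClosed (IsLocalRing.ResidueField R)] [CharP R p]
    {M : Type v} [AddCommGroup M] [Module R M] [Module.Free R M] [Module.Finite R M]
    (T : M →+ M) (hT : ∀ (r : R) (m : M), T (r • m) = r ^ p • T m)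
    (hspan : Submodule.span R (Set.range T) = ⊤) :
    Function.Surjective (fun m => T m - m) ∧ Nat.card {m : M // T m = m} = p ^ Module.finrank R M := by
  classical
  let b := Module.finBasis R M
  let A : Matrix (Fin (Module.finrank R M)) (Fin (Module.finrank R M)) R := Matrix.of fun i j => b.repr (T (b j)) i
  have hT' : ∀ x, b.equivFun (T (b.equivFun.symm x)) = twist p A x := by
    intro x
    rw [b.equivFun_symm_apply, map_sum, map_sum]
    funext i
    simp [hT, twist, A, Matrix.mulVec, dotProduct, Finset.sum_apply, mul_comm]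
  have hA : ∀ y, ∃ x, A.mulVec x = y := by
    intro y
    have hmem : b.equivFun.symm y ∈ Submodule.span R (Set.range T) := hspan ▸ Submodule.mem_top
    have : Submodule.span R (Set.range T) ≤ (LinearMap.range A.mulVecLin).comap b.equivFun.toLinearMap := by
      rw [Submodule.span_le]
      rintro _ ⟨m, rfl⟩
      exact ⟨fun j => b.equivFun m j ^ p, (hT' _).symm.trans (by rw [b.equivFun.symm_apply_apply]; rfl)⟩
    obtain ⟨x, hx⟩ := this hmem
    exact ⟨x, hx.trans (b.equivFun.apply_symm_apply y)⟩
  obtain ⟨h1, h2⟩ := coords p A hA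
  refine ⟨fun m => ?_, ?_⟩
  · obtain ⟨x, hx⟩ := h1 (b.equivFun m)
    exact ⟨b.equivFun.symm x, b.equivFun.injective (by rw [map_sub, hT', b.equivFun.apply_symm_apply, hx])⟩
  · rw [← h2]
    refine Nat.card_congr (Equiv.subtypeEquiv b.equivFun.toEquiv fun m => ?_)
    show T m = m ↔ twist p A (b.equivFun m) = b.equivFun m
    rw [← hT', b.equivFun.symm_apply_apply, b.equivFun.injective.eq_iff]

end Groth.Agent.S13366
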