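import Groth.Statements.S13367
import Mathlib
import Groth.Agent.S13366
-- import your own Groth.Agent.* helpers here

set_option autoImplicit false
universe u v
open FrobMod

namespace Groth.Agent.S13367

section
open MvPolynomial Groth.Agent Groth.Agent.S13366

variable (p : ℕ) [Fact p.Prime] {R : Type u} [CommRing R] [HenselianLocalRing R] [CharP R p] {n : ℕ}

theorem fixed_lift (A : Matrix (Fin n) (Fin n) R) (a₀ : Fin n → R)
    (h : ∀ i, twist p A a₀ i - a₀ i ∈ IsLocalRing.maximalIdeal R) :
    ∃ x, twist p A x = x ∧ ∀ i, x i - a₀ i ∈ IsLocalRing.maximalIdeal R := by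
  classical
  let P : Fin n → MvPolynomial (Fin n) R := fun i => (∑ j, C (A i j) * X j ^ p) - X i
  have hev : ∀ (x : Fin n → R) i, eval x (P i) = twist p A x i - x i := fun x i => by
    simp [P, twist, Matrix.mulVec, dotProduct]
  obtain ⟨x, hx, hxa⟩ := HenselLib.exists_root_of_jacobian (IsLocalRing.maximalIdeal R) P a₀
    (fun i => by rw [hev]; exact h i)
    (by
      have hmat : (Matrix.of fun i j => eval a₀ (pderiv j (P i))) = -1 := by
        ext i j
        simp [P, CharP.cast_eq_zero, Matrix.one_apply, pderiv_X, Pi.single_apply, eq_comm]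
      rw [hmat, Matrix.det_neg, Matrix.det_one, mul_one]
      exact (isUnit_one.neg).pow _)
  exact ⟨x, funext fun i => sub_eq_zero.1 (by rw [← hev]; exact hx i), hxa⟩

end

/-- Over a strictly Henselian discrete valuation ring R of prime characteristic p with residue field κ,
for a finitely generated module M with n = dim_κ(κ ⊗ M) and a Frobenius-semilinear additive
bijection T of M (T(rm) = r^p T(m)), the map T − 1 is surjective and its kernel has cardinality p^n. -/
theorem result (p : ℕ) [Fact p.Prime] {R : Type u} [CommRing R] [IsDomain R]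
    [IsDiscreteValuationRing R] [HenselianLocalRing R] [IsSepClosed (IsLocalRing.ResidueField R)] [CharP R p]
    {M : Type v} [AddCommGroup M] [Module R M] [Module.Finite R M]
    (T : M →+ M) (hT : ∀ (r : R) (m : M), T (r • m) = r ^ p • T m) (hbij : Function.Bijective T) :
    Function.Surjective (fun m => T m - m) ∧
      Nat.card {m : M // T m = m} =
        p ^ Module.finrank (IsLocalRing.ResidueField R) (TensorProduct R (IsLocalRing.ResidueField R) M) := by
  classical
  set κ := IsLocalRing.ResidueField R
  set 𝔪 := IsLocalRing.maximalIdeal R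
  let B := Module.finBasis κ (TensorProduct R κ M)
  set n := Module.finrank κ (TensorProduct R κ M) with hn
  choose g hg using fun i => TensorProduct.mk_surjective R M κ IsLocalRing.residue_surjective (B i)
  have hgen : Submodule.span R (Set.range g) = ⊤ := by
    refine IsLocalRing.map_tensorProduct_mk_eq_top.1 ?_
    rw [Submodule.map_span, ← Set.range_comp, show (TensorProduct.mk R κ M 1) ∘ g = B from funext hg, eq_top_iff]
    intro z hz
    clear hz
    rw [← B.sum_repr z]
    refine Submodule.sum_mem _ fun i _ => ?_
    obtain ⟨c, hc⟩ := IsLocalRing.residue_surjective (B.repr z i)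
    rw [← hc]
    exact Submodule.smul_mem _ c (Submodule.subset_span ⟨i, rfl⟩)
  let π : (Fin n → R) →ₗ[R] M := Fintype.linearCombination R g
  have hπ : Function.Surjective π := fun m => by
    obtain ⟨c, hc⟩ := (Submodule.mem_span_range_iff_exists_fun R).1 (hgen.ge (Submodule.mem_top : m ∈ ⊤))
    exact ⟨c, by simpa [π, Fintype.linearCombination_apply] using hc⟩
  have hres : ∀ x : Fin n → R, (1 : κ) ⊗ₜ[R] π x = ∑ i, IsLocalRing.residue R (x i) • B i := fun x => by
    simp only [π, Fintype.linearCombination_apply, TensorProduct.tmul_sum, TensorProduct.tmul_smul, ← hg]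
    exact Finset.sum_congr rfl fun i _ => (IsScalarTower.algebraMap_smul κ (x i) _).symm
  have hmem : ∀ x y : Fin n → R, π x = π y → ∀ i, x i - y i ∈ 𝔪 := fun x y hxy i => by
    have h := congrArg (fun m => B.repr ((1 : κ) ⊗ₜ[R] m) i) hxy
    simp only [hres, B.repr_sum_self] at h
    rw [← IsLocalRing.residue_eq_zero_iff, map_sub, h, sub_self]
  choose Acol hAcol using fun j => hπ (T (g j))
  let A : Matrix (Fin n) (Fin n) R := Matrix.of fun i j => Acol j i
  have hT' : ∀ x, T (π x) = π (S13366.twist p A x) := fun x => by
    have hx : T (π x) = ∑ j, x j ^ p • π (Acol j) := by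
      simp [π, Fintype.linearCombination_apply, hT, ← hAcol]
    rw [hx]
    simp only [← map_smul, ← map_sum]
    congr 1
    funext i
    simp [S13366.twist, A, Matrix.mulVec, dotProduct, Finset.sum_apply, mul_comm]
  have hAu : IsUnit A.det := by
    choose y hy using fun k => hbij.2 (g k)
    choose x hx using fun k => hπ (y k)
    let X : Matrix (Fin n) (Fin n) R := Matrix.of fun j k => x k j ^ p
    have hAX : (A * X).map (IsLocalRing.residue R) = 1 := by
      ext i k
      have h1 : π (S13366.twist p A (x k)) = π (Pi.single k 1) := by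
        rw [← hT', hx, hy]
        simp [π]
      have := hmem _ _ h1 i
      rw [← IsLocalRing.residue_eq_zero_iff, map_sub, sub_eq_zero] at this
      have e : (A * X) i k = S13366.twist p A (x k) i := by simp [Matrix.mul_apply, X, S13366.twist, Matrix.mulVec, dotProduct]
      rw [Matrix.map_apply, e, this, Matrix.one_apply, Pi.single_apply]
      split_ifs <;> simp
    have hdet : IsLocalRing.residue R A.det * IsLocalRing.residue R X.det = 1 := by
      rw [← map_mul, ← Matrix.det_mul, RingHom.map_det, RingHom.mapMatrix_apply, hAX, Matrix.det_one]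
    exact (isUnit_map_iff (IsLocalRing.residue R) _).1 (IsUnit.of_mul_eq_one _ hdet)
  obtain ⟨hsurj, hcard⟩ := S13366.coords p A fun y => ⟨A⁻¹.mulVec y, by
    rw [Matrix.mulVec_mulVec, Matrix.mul_nonsing_inv _ hAu, Matrix.one_mulVec]⟩
  refine ⟨fun m => ?_, ?_⟩
  · obtain ⟨c, rfl⟩ := hπ m
    obtain ⟨x, hx⟩ := hsurj c
    refine ⟨π x, ?_⟩
    show T (π x) - π x = π c
    rw [hT', ← map_sub, hx]
  · rw [← hcard]
    have hdown : ∀ d : Fin n → R, S13366.twist p A d = d → (∀ i, d i ∈ 𝔪) → d = 0 := by
      intro d hd hdm
      have hk : ∀ k i, d i ∈ 𝔪 ^ k := by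
        intro k
        induction k with
        | zero => intro i; simp
        | succ k ih =>
          intro i
          rw [← congrFun hd i]
          show ∑ j, A i j * d j ^ p ∈ 𝔪 ^ (k + 1)
          refine Submodule.sum_mem _ fun j _ => Ideal.mul_mem_left _ _ ?_
          obtain ⟨q, hq⟩ : ∃ q, p = q + 2 := ⟨p - 2, by have := (Fact.out : p.Prime).two_le; omega⟩
          show d j ^ p ∈ 𝔪 ^ (k + 1)
          rw [hq, pow_succ (d j) (q + 1), pow_succ 𝔪 k, mul_comm (𝔪 ^ k)]
          exact Ideal.mul_mem_mul (Ideal.pow_mem_of_mem _ (hdm j) _ (Nat.succ_pos q)) (ih j)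
      funext i
      have := (Ideal.iInf_pow_eq_bot_of_isLocalRing 𝔪 (IsLocalRing.maximalIdeal.isMaximal R).ne_top)
      have h2 : d i ∈ ⨅ k : ℕ, 𝔪 ^ k := (Submodule.mem_iInf _).2 fun k => hk k i
      rw [this] at h2
      exact (Submodule.mem_bot R).1 h2
    refine (Nat.card_eq_of_bijective (fun x : {x // S13366.twist p A x = x} => (⟨π x.1, by rw [hT', x.2]⟩ : {m : M // T m = m})) ⟨fun x y hxy => ?_, fun m => ?_⟩).symm
    · refine Subtype.ext (sub_eq_zero.1 (hdown (x.1 - y.1) ?_ fun i => hmem _ _ (congrArg Subtype.val hxy) i))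
      rw [S13366.twist, show (fun j => (x.1 - y.1) j ^ p) = (fun j => x.1 j ^ p) - (fun j => y.1 j ^ p) from
        funext fun j => sub_pow_char (x.1 j) (y.1 j), Matrix.mulVec_sub]
      show S13366.twist p A x.1 - S13366.twist p A y.1 = _
      rw [x.2, y.2]
    · obtain ⟨a, ha⟩ := hπ m.1
      obtain ⟨x, hx, hxa⟩ := fixed_lift p A a (fun i => hmem _ _ (by rw [← hT', ha, m.2]) i)
      refine ⟨⟨x, hx⟩, Subtype.ext ?_⟩
      show π x = m.1
      -- both are fixed points congruent modulo the maximal ideal
      have hd : T (π x - m.1) = π x - m.1 := by rw [map_sub, hT', hx, m.2]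
      have hin : ∀ k : ℕ, π x - m.1 ∈ 𝔪 ^ k • (⊤ : Submodule R M) := by
        intro k
        induction k with
        | zero => simp
        | succ k ih =>
          rcases Nat.eq_zero_or_pos k with rfl | hk
          · rw [pow_one, ← ha, ← map_sub]
            show π (x - a) ∈ _
            simp only [π, Fintype.linearCombination_apply]
            exact Submodule.sum_mem _ fun i _ => Submodule.smul_mem_smul (hxa i) Submodule.mem_top
          rw [← hd]
          generalize π x - m.1 = z at ih ⊢
          induction ih using Submodule.smul_induction_on' with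
          | smul r hr z _ =>
            rw [hT]
            refine Submodule.smul_mem_smul ?_ Submodule.mem_top
            have := (Fact.out : p.Prime).two_le
            refine Ideal.pow_le_pow_right (show k + 1 ≤ k * p by nlinarith) ?_
            rw [pow_mul]
            exact Ideal.pow_mem_pow hr p
          | add a _ b _ ha hb => rw [map_add]; exact Submodule.add_mem _ ha hb
      have h0 := Ideal.iInf_pow_smul_eq_bot_of_isLocalRing (M := M) 𝔪 (IsLocalRing.maximalIdeal.isMaximal R).ne_top
      exact sub_eq_zero.1 ((Submodule.mem_bot R).1 (h0 ▸ (Submodule.mem_iInf _).2 hin))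

end Groth.Agent.S13367
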