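import Mathlib
import Groth.Statements.S13368
-- import your own Groth.Agent.* helpers here

set_option autoImplicit false
universe u
open GaDual

namespace Groth.Agent.S13368

variable (p : ℕ) [Fact p.Prime] {R : Type u} [CommRing R] [IsDomain R] [IsDiscreteValuationRing R]

theorem dvd_of_pow_dvd_sum {π : R} (hπ : Irreducible π) (d : Fin p → R)
    (h : π ^ p ∣ ∑ i : Fin p, π ^ (i : ℕ) * d i ^ p) (i : Fin p) : π ∣ d i := by
  classical
  induction hn : i.1 using Nat.strong_induction_on generalizing i with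
  | _ k ih =>
  subst hn
  have hi : (i : ℕ) + 1 ≤ p := i.2
  have h1 : π ^ ((i : ℕ) + 1) ∣ π ^ (i : ℕ) * d i ^ p := by
    rw [← Finset.add_sum_erase _ _ (Finset.mem_univ i)] at h
    refine (dvd_add_left ?_).mp ((pow_dvd_pow π hi).trans h)
    refine Finset.dvd_sum fun j hj => ?_
    rcases lt_or_gt_of_ne (Fin.val_ne_of_ne (Finset.ne_of_mem_erase hj)) with hlt | hgt
    · exact dvd_mul_of_dvd_right ((pow_dvd_pow π hi).trans (pow_dvd_pow_of_dvd (ih _ hlt j rfl) p)) _
    · exact dvd_mul_of_dvd_left (pow_dvd_pow π hgt) _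
  rw [pow_succ, mul_dvd_mul_iff_left (pow_ne_zero _ hπ.ne_zero)] at h1
  exact hπ.prime.dvd_of_dvd_pow h1

theorem eq_zero_of_sum {π : R} (hπ : Irreducible π) (d : Fin p → R)
    (h : ∑ i : Fin p, π ^ (i : ℕ) * d i ^ p = 0) (i : Fin p) : d i = 0 := by
  have key : ∀ (N : ℕ) (d : Fin p → R), ∑ i : Fin p, π ^ (i : ℕ) * d i ^ p = 0 → ∀ i, π ^ N ∣ d i := by
    intro N
    induction N with
    | zero => intro d _ i; simp
    | succ N ih =>
      intro d hd
      choose e he using dvd_of_pow_dvd_sum p hπ d (hd ▸ dvd_zero _)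
      have : π ^ p * ∑ i : Fin p, π ^ (i : ℕ) * e i ^ p = 0 := by
        rw [← hd, Finset.mul_sum]
        refine Finset.sum_congr rfl fun i _ => ?_
        rw [he i, mul_pow]; ring
      intro i
      rw [he i, pow_succ']
      exact mul_dvd_mul_left π (ih e ((mul_eq_zero.mp this).resolve_left (pow_ne_zero _ hπ.ne_zero)) i)
  by_contra hne
  obtain ⟨n, u, hu⟩ := IsDiscreteValuationRing.eq_unit_mul_pow_irreducible hne hπ
  have h2 := key (n + 1) d h i
  rw [hu, Units.dvd_mul_left, pow_succ] at h2
  exact hπ.not_isUnit (isUnit_of_dvd_one ((mul_dvd_mul_iff_left (pow_ne_zero n hπ.ne_zero)).mp (by simpa using h2)))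

theorem ext_of_sum [CharP R p] {π : R} (hπ : Irreducible π) {c e : Fin p → R}
    (h : ∑ i : Fin p, π ^ (i : ℕ) * c i ^ p = ∑ i : Fin p, π ^ (i : ℕ) * e i ^ p) : c = e := by
  funext i
  refine sub_eq_zero.mp (eq_zero_of_sum p hπ (fun i => c i - e i) ?_ i)
  simp only [sub_pow_expChar, mul_sub, Finset.sum_sub_distrib, h, sub_self]

/-- Let R be a discrete valuation ring of prime characteristic p whose fraction field k has degree p
over its subfield k^p of p-th powers, and π a uniformizer. Then every element of R is, in a unique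
way, a sum of π^i c_i^p over 0 ≤ i < p with c_i in R, and the Kähler differentials of R (absolute,
i.e. over the integers, equivalently over the prime field) form a free module of rank one generated
by dπ. -/
theorem result (p : ℕ) [Fact p.Prime] {R : Type u} [CommRing R]
    [IsDomain R] [IsDiscreteValuationRing R] [CharP R p]
    (kp : Subfield (FractionRing R)) (hkp : ∀ x : FractionRing R, x ∈ kp ↔ ∃ y : FractionRing R, y ^ p = x)
    (hdeg : Module.finrank kp (FractionRing R) = p)
    (π : R) (hπ : Irreducible π) :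
    (∀ r : R, ∃! c : Fin p → R, r = ∑ i : Fin p, π ^ (i : ℕ) * c i ^ p) ∧
      Function.Bijective (fun r : R => r • KaehlerDifferential.D ℤ R π) := by
  classical
  have hp : p.Prime := Fact.out
  let K := FractionRing R
  let v : Fin p → K := fun i => algebraMap R K π ^ (i : ℕ)
  have hclear : ∀ y : Fin p → K, ∃ (b : R) (d : Fin p → R), b ≠ 0 ∧ ∀ i, algebraMap R K (d i) = algebraMap R K b * y i := by
    intro y
    obtain ⟨b, hb⟩ := IsLocalization.exist_integer_multiples_of_finite (nonZeroDivisors R) y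
    choose d hd using hb
    exact ⟨b, d, nonZeroDivisors.coe_ne_zero b, fun i => (hd i).trans (Algebra.smul_def _ _)⟩
  have hli : LinearIndependent kp v := by
    rw [Fintype.linearIndependent_iff]
    intro g hg i
    choose y hy using fun i => (hkp (g i : K)).mp (g i).2
    obtain ⟨b, d, hb, hd⟩ := hclear y
    have h0 : ∑ i : Fin p, π ^ (i : ℕ) * d i ^ p = 0 := by
      apply IsFractionRing.injective R K
      rw [map_sum, map_zero, ← mul_zero (algebraMap R K b ^ p), ← hg, Finset.mul_sum]
      refine Finset.sum_congr rfl fun i _ => ?_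
      rw [map_mul, map_pow, map_pow, hd, mul_pow, hy, Subfield.smul_def, smul_eq_mul]
      ring
    have := hd i
    rw [eq_zero_of_sum p hπ d h0 i, map_zero, eq_comm, mul_eq_zero] at this
    rcases this with h | h
    · exact absurd ((map_eq_zero_iff _ (IsFractionRing.injective R K)).mp h) hb
    · exact Subtype.ext (by rw [← hy, h, zero_pow hp.ne_zero]; rfl)
  have hex : ∀ r : R, ∃ c : Fin p → R, r = ∑ i : Fin p, π ^ (i : ℕ) * c i ^ p := by
    intro r
    have : FiniteDimensional kp K := FiniteDimensional.of_finrank_pos (hdeg ▸ hp.pos)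
    obtain ⟨g, hg⟩ := (Submodule.mem_span_range_iff_exists_fun kp).mp
      ((LinearIndependent.span_eq_top_of_card_eq_finrank' hli (by rw [Fintype.card_fin]; exact hdeg.symm)).symm ▸
        Submodule.mem_top : algebraMap R K r ∈ Submodule.span kp (Set.range v))
    choose y hy using fun i => (hkp (g i : K)).mp (g i).2
    obtain ⟨b, d, hb, hd⟩ := hclear y
    obtain ⟨N, u, rfl⟩ := IsDiscreteValuationRing.eq_unit_mul_pow_irreducible hb hπ
    have h1 : ∑ i : Fin p, π ^ (i : ℕ) * ((↑u⁻¹ : R) * d i) ^ p = (π ^ N) ^ p * r := by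
      have h2 : ∑ i : Fin p, π ^ (i : ℕ) * d i ^ p = ((u : R) * π ^ N) ^ p * r := by
        apply IsFractionRing.injective R K
        rw [map_sum, map_mul, map_pow _ _ p, ← hg, Finset.mul_sum]
        refine Finset.sum_congr rfl fun i _ => ?_
        rw [map_mul, map_pow, map_pow, hd, mul_pow, hy, Subfield.smul_def, smul_eq_mul]
        ring
      rw [show ∑ i : Fin p, π ^ (i : ℕ) * ((↑u⁻¹ : R) * d i) ^ p = (↑u⁻¹ : R) ^ p * ∑ i : Fin p, π ^ (i : ℕ) * d i ^ p by
        rw [Finset.mul_sum]; exact Finset.sum_congr rfl fun i _ => by ring, h2, ← mul_assoc, ← mul_pow, ← mul_assoc,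
        Units.inv_mul, one_mul]
    replace h1 : ∃ d' : Fin p → R, ∑ i : Fin p, π ^ (i : ℕ) * d' i ^ p = (π ^ N) ^ p * r := ⟨_, h1⟩
    obtain ⟨d', h1⟩ := h1
    clear hd hb hy hg hclear
    induction N generalizing d' with
    | zero => exact ⟨d', by simpa using h1.symm⟩
    | succ N ih =>
      choose e he using dvd_of_pow_dvd_sum p hπ d' (h1 ▸ dvd_mul_of_dvd_left (pow_dvd_pow_of_dvd (dvd_pow_self π (Nat.succ_ne_zero N)) p) r)
      refine ih e (mul_left_cancel₀ (pow_ne_zero p hπ.ne_zero) ?_)
      rw [← mul_assoc, ← mul_pow, ← pow_succ', ← h1, Finset.mul_sum]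
      exact Finset.sum_congr rfl fun i _ => by rw [he i]; ring
  refine ⟨fun r => (hex r).elim fun c hc => ⟨c, hc, fun e he => ext_of_sum p hπ (he.symm.trans hc)⟩, ?_⟩
  choose c hc using hex
  let dl : R → R := fun r => ∑ i : Fin p, ((i : ℕ) : R) * π ^ ((i : ℕ) - 1) * c r i ^ p
  have hadd : ∀ r s, dl (r + s) = dl r + dl s := by
    intro r s
    have : c (r + s) = fun i => c r i + c s i := ext_of_sum p hπ (by
      simp only [add_pow_expChar, mul_add, Finset.sum_add_distrib, ← hc])
    simp only [dl, this, add_pow_expChar, mul_add, Finset.sum_add_distrib]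
  let δ : R →+ R := AddMonoidHom.mk' dl hadd
  have hmono : ∀ (k : ℕ) (x : R), δ (π ^ k * x ^ p) = (k : R) * π ^ (k - 1) * x ^ p := by
    intro k x
    have hlt : k % p < p := Nat.mod_lt _ hp.pos
    have hcc : c (π ^ k * x ^ p) = Pi.single ⟨k % p, hlt⟩ (π ^ (k / p) * x) := ext_of_sum p hπ (by
      rw [← hc, Finset.sum_eq_single ⟨k % p, hlt⟩ (fun j _ hj => by simp [hj, hp.ne_zero]) (by simp),
        Pi.single_eq_same, mul_pow, ← pow_mul, ← mul_assoc, ← pow_add, Nat.mod_add_div'])
    show dl _ = _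
    simp only [dl, hcc]
    rw [Finset.sum_eq_single ⟨k % p, hlt⟩ (fun j _ hj => by simp [hj, hp.ne_zero]) (by simp), Pi.single_eq_same]
    have hk : (k : R) = ((k % p : ℕ) : R) := by
      conv_lhs => rw [← Nat.mod_add_div' k p]
      simp
    rw [hk]
    rcases Nat.eq_zero_or_pos (k % p) with h0 | h0
    · simp [h0]
    · have : k - 1 = (k % p - 1) + k / p * p := by have := Nat.mod_add_div' k p; omega
      rw [this, pow_add, pow_mul]
      ring
  have hlei : ∀ i j : ℕ, ((i + j : ℕ) : R) * π ^ (i + j - 1) = π ^ i * ((j : R) * π ^ (j - 1)) + π ^ j * ((i : R) * π ^ (i - 1)) := by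
    intro i j
    rcases i with _ | i
    · simp
    rcases j with _ | j
    · simp
    rw [show i + 1 + (j + 1) - 1 = i + j + 1 by omega]
    push_cast
    ring
  have hleib : ∀ r s : R, δ (r * s) = r * δ s + s * δ r := by
    intro r s
    have hr : ∀ r, δ r = ∑ i : Fin p, ((i : ℕ) : R) * π ^ ((i : ℕ) - 1) * c r i ^ p := fun r => rfl
    rw [hr r, hr s]
    have er := hc r
    have es := hc s
    generalize c r = cr at er ⊢
    generalize c s = cs at es ⊢
    subst er es
    simp only [map_sum, Finset.sum_mul_sum]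
    rw [Finset.sum_comm (γ := Fin p) (f := fun i j => π ^ (i : ℕ) * cs i ^ p * _), ← Finset.sum_add_distrib]
    refine Finset.sum_congr rfl fun i _ => ?_
    rw [← Finset.sum_add_distrib]
    refine Finset.sum_congr rfl fun j _ => ?_
    rw [show π ^ (i : ℕ) * cr i ^ p * (π ^ (j : ℕ) * cs j ^ p) = π ^ ((i : ℕ) + j) * (cr i * cs j) ^ p by ring,
      hmono, hlei]
    ring
  let dd : Derivation ℤ R R := Derivation.mk' δ.toIntLinearMap hleib
  have hdπ : dd π = 1 := by
    show δ π = 1
    simpa using hmono 1 1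
  constructor
  · intro r s h
    have := congrArg dd.liftKaehlerDifferential h
    simpa [hdπ] using this
  · intro ω
    refine (Submodule.span_le (p := LinearMap.range (LinearMap.toSpanSingleton R _ (KaehlerDifferential.D ℤ R π)))).mpr ?_
      ((KaehlerDifferential.span_range_derivation ℤ R).symm ▸ Submodule.mem_top : ω ∈ _)
    rintro _ ⟨r, rfl⟩
    refine ⟨dl r, ?_⟩
    rw [LinearMap.toSpanSingleton_apply]
    conv_rhs => rw [hc r, map_sum]
    simp only [dl, Finset.sum_smul]
    refine Finset.sum_congr rfl fun i _ => ?_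
    rw [Derivation.leibniz, Derivation.leibniz_pow, Derivation.leibniz_pow, ← Nat.cast_smul_eq_nsmul R,
      ← Nat.cast_smul_eq_nsmul R, CharP.cast_eq_zero R p, zero_smul, smul_zero, zero_add, smul_smul, smul_smul]
    congr 1
    ring

end Groth.Agent.S13368
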