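import Groth.Statements.S13369
import Groth.Agent.EGA41Lib.FieldCrit
import Groth.Agent.EGA41Lib.FrobLI
-- import your own Groth.Agent.* helpers here

set_option autoImplicit false
universe u
open GaDual

namespace Groth.Agent.S13369

theorem exists_pow_eq_of_D_eq_zero (p : ℕ) [Fact p.Prime] {K : Type u} [Field K] [CharP K p] (s : K)
    (hs : KaehlerDifferential.D ℤ K s = 0) : ∃ c : K, c ^ p = s := by
  have hmem : s ∈ EGA41Lib.pSub p ℤ K := by
    by_contra hnot
    have hind := EGA41Lib.ind_single (p := p) (EGA41Lib.pow_mem_pSub p ℤ) hnot
    have hli := (EGA41Lib.isPIndependent_iff_linearIndependent (p := p) (k := ℤ)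
      (fun _ : PUnit.{u + 1} => s)).1 hind
    exact hli.ne_zero PUnit.unit hs
  rw [EGA41Lib.pSub_int_eq_range] at hmem
  obtain ⟨c, hc⟩ := hmem
  exact ⟨c, by rwa [frobenius_def] at hc⟩

theorem D_fractionRing {A K : Type u} [CommRing A] [Field K] [Algebra A K] (s : A)
    (hs : KaehlerDifferential.D ℤ A s = 0) : KaehlerDifferential.D ℤ K (algebraMap A K s) = 0 := by
  have := congrArg (KaehlerDifferential.map ℤ ℤ A K) hs
  rwa [KaehlerDifferential.map_D, map_zero] at this

theorem exists_pow_eq_domain (p : ℕ) [Fact p.Prime] {A K : Type u} [CommRing A] [IsDomain A]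
    [IsIntegrallyClosed A] [CharP A p] [Field K] [Algebra A K] [IsFractionRing A K] (s : A)
    (hs : KaehlerDifferential.D ℤ A s = 0) : ∃ f : A, f ^ p = s := by
  haveI : CharP K p := charP_of_injective_ringHom (IsFractionRing.injective A K) p
  obtain ⟨c, hc⟩ := exists_pow_eq_of_D_eq_zero p (algebraMap A K s) (D_fractionRing s hs)
  have hint : IsIntegral A c := by
    refine IsIntegral.of_pow (Fact.out : p.Prime).pos ?_
    rw [hc]
    exact isIntegral_algebraMap
  obtain ⟨f, rfl⟩ := IsIntegrallyClosed.isIntegral_iff.1 hint
  exact ⟨f, IsFractionRing.injective A K (by rw [map_pow, hc])⟩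


/-- For a normal Noetherian domain A of prime characteristic p, an element whose differential vanishes
in the absolute Kähler differentials of A is a p-th power; that is, the sequence F : A → A, d : A →
Ω_A (F the Frobenius) is exact at the middle term. (The published statement is for normal locally
Noetherian schemes of characteristic p; this row is the case of the spectrum of a normal Noetherian
domain.) -/
theorem result (p : ℕ) [Fact p.Prime] {A : Type u} [CommRing A] [IsDomain A]
    [IsNoetherianRing A] [IsIntegrallyClosed A] [CharP A p] (s : A) (hs : KaehlerDifferential.D ℤ A s = 0) :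
    ∃ f : A, f ^ p = s := by
  exact exists_pow_eq_domain p (K := FractionRing A) s hs

end Groth.Agent.S13369
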