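import Groth.Statements.S13373
import Groth.Agent.GaDualLib.Char

set_option autoImplicit false
universe u
open GaDual

namespace Groth.Agent.S13373

/-- Over a commutative algebra A of prime characteristic p, the formal characters (power series χ with
constant term 1 and χ(X+Y) = χ(X)χ(Y)) are exactly the infinite products ∏_n exp_p(a_n X^(p^n)) with
a_n^p = 0, where exp_p(Y) = Σ_{j<p} Y^j/j!; the infinite product is expressed through its
truncations: χ mod X^(p^m) equals the finite product over n < m. -/
theorem result (p : ℕ) [Fact p.Prime] (A : Type u) [CommRing A] [CharP A p]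
    (χ : PowerSeries A) :
    (PowerSeries.constantCoeff χ = 1 ∧
      PowerSeries.subst (MvPowerSeries.X 0 + MvPowerSeries.X 1 : MvPowerSeries (Fin 2) A) χ =
        PowerSeries.subst (MvPowerSeries.X 0 : MvPowerSeries (Fin 2) A) χ *
          PowerSeries.subst (MvPowerSeries.X 1 : MvPowerSeries (Fin 2) A) χ) ↔
      ∃ a : ℕ → A, (∀ n, a n ^ p = 0) ∧ ∀ m : ℕ,
        PowerSeries.trunc (p ^ m) χ = ∏ n ∈ Finset.range m, ∑ j ∈ Finset.range p,
          Polynomial.C (Ring.inverse (j.factorial : A) * a n ^ j) * Polynomial.X ^ (j * p ^ n) := by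
  classical
  constructor
  · rintro ⟨h0, hmul⟩
    rw [Groth.Agent.GaDualLib.series_mul_iff] at hmul
    have hc0 : PowerSeries.coeff 0 χ = 1 := by rw [PowerSeries.coeff_zero_eq_constantCoeff_apply, h0]
    refine ⟨fun i => PowerSeries.coeff (p ^ i) χ, fun i => ?_, fun m => ?_⟩
    · exact (Groth.Agent.GaDualLib.prod_E_eq (fun k => PowerSeries.coeff k χ) (i + 1) hc0 (fun a b _ _ => hmul a b)).1 i i.lt_succ_self
    · have h := (Groth.Agent.GaDualLib.prod_E_eq (fun k => PowerSeries.coeff k χ) m hc0 (fun a b _ _ => hmul a b)).2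
      refine Eq.trans ?_ h.symm
      ext k
      simp [PowerSeries.coeff_trunc, Polynomial.finsetSum_coeff]
  · rintro ⟨a, ha, htr⟩
    have key : ∀ m k, k < p ^ m → PowerSeries.coeff k χ =
        (∏ n ∈ Finset.range m, Groth.Agent.GaDualLib.E p (p ^ n) (a n)).coeff k := fun m k hk => by
      have h := congrArg (fun P => Polynomial.coeff P k) (htr m)
      simp only [PowerSeries.coeff_trunc, if_pos hk] at h
      exact h
    refine ⟨?_, ?_⟩
    · have h := key 0 0 (by simp)
      rw [PowerSeries.coeff_zero_eq_constantCoeff_apply] at h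
      simpa using h
    · rw [Groth.Agent.GaDualLib.series_mul_iff]
      intro i j
      have hm : i + j < p ^ (i + j) := Nat.lt_pow_self (Fact.out : p.Prime).one_lt
      rw [key (i + j) (i + j) hm, key (i + j) i (by omega), key (i + j) j (by omega)]
      exact (Groth.Agent.GaDualLib.prod_E_mul a ha (i + j)).2 i j

end Groth.Agent.S13373
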