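import Groth.Statements.S13374
import Groth.Agent.GaDualLib.Char

set_option autoImplicit false
universe u
open GaDual

namespace Groth.Agent.S13374

/-- Over a commutative algebra A of prime characteristic p, every character of the kernel α_(p^n) of the
n-th Frobenius of the additive group — i.e. every polynomial f of degree < p^n with f(0) = 1 and
f(X+Y) ≡ f(X)f(Y) modulo (X^(p^n), Y^(p^n)) — is the product ∏_{i<n} exp_p(a_i X^(p^i)) for some a_i
with a_i^p = 0, exp_p(Y) = Σ_{j<p} Y^j/j!. -/
theorem result (p : ℕ) [Fact p.Prime] (A : Type u) [CommRing A] [CharP A p]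
    (n : ℕ) (f : Polynomial A) (hdeg : f.natDegree < p ^ n) (h0 : f.eval 0 = 1)
    (hmul : Ideal.Quotient.mk
        (Ideal.span {(MvPolynomial.X 0 ^ p ^ n : MvPolynomial (Fin 2) A), MvPolynomial.X 1 ^ p ^ n})
        (Polynomial.aeval (MvPolynomial.X 0 + MvPolynomial.X 1 : MvPolynomial (Fin 2) A) f) =
      Ideal.Quotient.mk
        (Ideal.span {(MvPolynomial.X 0 ^ p ^ n : MvPolynomial (Fin 2) A), MvPolynomial.X 1 ^ p ^ n})
        (Polynomial.aeval (MvPolynomial.X 0 : MvPolynomial (Fin 2) A) f *
          Polynomial.aeval (MvPolynomial.X 1 : MvPolynomial (Fin 2) A) f)) :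
    ∃ a : ℕ → A, (∀ i, a i ^ p = 0) ∧
      f = ∏ i ∈ Finset.range n, ∑ j ∈ Finset.range p,
          Polynomial.C (Ring.inverse (j.factorial : A) * a i ^ j) * Polynomial.X ^ (j * p ^ i) := by
  classical
  rw [← Polynomial.coeff_zero_eq_eval_zero] at h0
  have hms : Groth.Agent.GaDualLib.MulSeq (p ^ n) f.coeff := by
    intro i j hi hj
    rw [Ideal.Quotient.eq, Ideal.mem_span_pair] at hmul
    obtain ⟨u, v, huv⟩ := hmul
    have h := congrArg (MvPolynomial.coeff (Groth.Agent.GaGm.ix i j)) huv
    rw [MvPolynomial.coeff_sub, Groth.Agent.GaGm.coeff_aeval_add, Groth.Agent.GaGm.coeff_aeval_mul,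
      MvPolynomial.coeff_add, MvPolynomial.X_pow_eq_monomial, MvPolynomial.X_pow_eq_monomial,
      MvPolynomial.coeff_mul_monomial', MvPolynomial.coeff_mul_monomial', if_neg, if_neg, zero_add,
      eq_comm, sub_eq_zero] at h
    · exact h
    · intro hle
      have := hle 1
      simp at this
      omega
    · intro hle
      have := hle 0
      simp at this
      omega
  obtain ⟨hap, hprod⟩ := Groth.Agent.GaDualLib.prod_E_eq f.coeff n h0 hms
  refine ⟨fun i => if i < n then f.coeff (p ^ i) else 0, fun i => ?_, ?_⟩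
  · by_cases hi : i < n
    · simp only [if_pos hi]; exact hap i hi
    · simp only [if_neg hi]; exact zero_pow (Fact.out : p.Prime).ne_zero
  · conv_lhs => rw [f.as_sum_range' (p ^ n) hdeg]
    simp only [← Polynomial.C_mul_X_pow_eq_monomial]
    rw [← hprod]
    refine Finset.prod_congr rfl fun i hi => ?_
    simp only [if_pos (Finset.mem_range.1 hi)]
    rfl

end Groth.Agent.S13374
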