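import Groth.Statements.S13378
import Mathlib.Algebra.Module.CharacterModule
import Mathlib.Topology.Instances.AddCircle.Defs
import Mathlib.GroupTheory.Index

set_option autoImplicit false
universe u
open ProCompl

namespace Groth.Agent.S13378
open CategoryTheory

/-- For an abelian group A (written multiplicatively, discrete) and a subgroup A' such that the quotient
A/A' has no nontrivial divisible element and its torsion elements are killed by one positive
integer, the map induced on profinite completions by the inclusion of A' in A is injective. (The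
published statement is for topological abelian groups in which every nA is open, with completions
formed from open subgroups of finite index; this row is the case of the discrete topology.) -/
theorem result (A : Type u) [CommGroup A] (A' : Subgroup A)
    (hdiv : ∀ x : A ⧸ A', (∀ n : ℕ, 0 < n → ∃ y : A ⧸ A', y ^ n = x) → x = 1)
    (htors : ∃ N : ℕ, 0 < N ∧ ∀ x : A ⧸ A', IsOfFinOrder x → x ^ N = 1) :
    Function.Injective (ProfiniteGrp.profiniteCompletion.map (GrpCat.ofHom A'.subtype)).hom := by
  classical
  obtain ⟨N, hN, htors⟩ := htors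
  have hB : ∀ B : FiniteIndexNormalSubgroup A', ∃ C : FiniteIndexNormalSubgroup A,
      ∀ a : A', (a : A) ∈ C.toSubgroup → a ∈ B.toSubgroup := by
    intro B
    let m := B.toSubgroup.index
    have hm : m ≠ 0 := Subgroup.FiniteIndex.index_ne_zero
    let M := N * m
    have hM : 0 < M := Nat.mul_pos hN (Nat.pos_of_ne_zero hm)
    let B' : Subgroup A := B.toSubgroup.map A'.subtype
    let K : Subgroup A := (powMonoidHom M : A →* A).range
    let J : Subgroup A := B' ⊔ K
    -- the image of A' in A / J is finite
    let j : A' →* A ⧸ J := (QuotientGroup.mk' J).comp A'.subtype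
    have hjker : B.toSubgroup ≤ j.ker := fun b hb => by
      rw [MonoidHom.mem_ker]
      exact (QuotientGroup.eq_one_iff _).2 (Subgroup.mem_sup_left ⟨b, hb, rfl⟩)
    haveI : Finite (A' ⧸ B.toSubgroup) := Subgroup.finite_quotient_of_finiteIndex
    haveI : Finite j.range := Finite.of_surjective
      (fun q : A' ⧸ B.toSubgroup => (⟨QuotientGroup.lift B.toSubgroup j hjker q, by
        induction q using QuotientGroup.induction_on with | H z => exact ⟨z, rfl⟩⟩ : j.range))
      (by rintro ⟨_, z, rfl⟩; exact ⟨QuotientGroup.mk z, rfl⟩)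
    have hMD : ∀ d : A ⧸ J, d ^ M = 1 := by
      intro d
      induction d using QuotientGroup.induction_on with
      | H x => exact (QuotientGroup.eq_one_iff _).2 (Subgroup.mem_sup_right ⟨x, rfl⟩)
    choose c hc using fun d : {d : A ⧸ J // d ∈ j.range ∧ d ≠ 1} =>
      CharacterModule.exists_character_apply_ne_zero_of_ne_zero
        (a := Additive.ofMul d.1) (fun h => d.2.2 h)
    let χ : {d : A ⧸ J // d ∈ j.range ∧ d ≠ 1} → A →* Multiplicative (AddCircle (1 : ℚ)) :=
      fun d => (AddMonoidHom.toMultiplicativeRight (c d)).comp (QuotientGroup.mk' J)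
    haveI : Finite {d : A ⧸ J // d ∈ j.range ∧ d ≠ 1} :=
      Finite.of_injective (fun d => (⟨d.1, d.2.1⟩ : j.range))
        (fun _ _ h => Subtype.ext (congrArg (fun z : j.range => z.1) h))
    have hfin : ∀ d, (χ d).ker.FiniteIndex := by
      intro d
      haveI : Finite (χ d).range := by
        refine Set.Finite.to_subtype (Set.Finite.subset ((AddCircle.finite_torsion (1 : ℚ) hM).image Multiplicative.ofAdd) (t := ((χ d).range : Set _)) ?_)
        rintro _ ⟨x, rfl⟩
        refine ⟨c d (Additive.ofMul (QuotientGroup.mk x : A ⧸ J)), ?_, rfl⟩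
        show M • c d _ = 0
        rw [← map_nsmul, ← ofMul_pow, hMD, ofMul_one, map_zero]
      exact Subgroup.finiteIndex_ker _
    haveI : (⨅ d, (χ d).ker).FiniteIndex := Subgroup.finiteIndex_iInf hfin
    haveI : (⨅ d, (χ d).ker).Normal := inferInstance
    refine ⟨FiniteIndexNormalSubgroup.ofSubgroup (⨅ d, (χ d).ker), fun a ha => ?_⟩
    have haJ : (a : A) ∈ J := by
      by_contra hne
      have hne' : (QuotientGroup.mk (a : A) : A ⧸ J) ≠ 1 := fun h => hne ((QuotientGroup.eq_one_iff _).1 h)
      let d : {d : A ⧸ J // d ∈ j.range ∧ d ≠ 1} := ⟨QuotientGroup.mk (a : A), ⟨a, rfl⟩, hne'⟩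
      exact hc d ((Subgroup.mem_iInf.1 ha d : (a : A) ∈ (χ d).ker))
    obtain ⟨_, ⟨b, hb, rfl⟩, _, ⟨x, rfl⟩, hbx⟩ := Subgroup.mem_sup.1 haJ
    rw [powMonoidHom_apply, Subgroup.coe_subtype] at hbx
    have hxM : x ^ M ∈ A' := by
      have : x ^ M = (b : A)⁻¹ * (a : A) := by rw [← hbx, inv_mul_cancel_left]
      rw [this]
      exact mul_mem (inv_mem b.2) a.2
    have hxN : x ^ N ∈ A' := by
      rw [← QuotientGroup.eq_one_iff, QuotientGroup.mk_pow]
      refine htors _ (isOfFinOrder_iff_pow_eq_one.2 ⟨M, hM, ?_⟩)
      rw [← QuotientGroup.mk_pow, QuotientGroup.eq_one_iff]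
      exact hxM
    have : a = b * (⟨x ^ N, hxN⟩ : A') ^ m := Subtype.ext (by
      rw [Subgroup.coe_mul, Subgroup.coe_pow, ← pow_mul]
      exact hbx.symm)
    rw [this]
    exact mul_mem hb (Subgroup.pow_index_mem _ _)
  rw [injective_iff_map_eq_one]
  intro z hz
  refine Subtype.ext (funext fun B => ?_)
  obtain ⟨C, hC⟩ := hB B
  let C' : FiniteIndexNormalSubgroup A' := C.comap A'.subtype
  have hle : C' ≤ B := fun a ha => hC a ha
  let q : A' ⧸ C'.toSubgroup →* A ⧸ C.toSubgroup :=
    QuotientGroup.map _ _ A'.subtype (fun a ha => ha)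
  have key : (fun w : ProfiniteGrp.ProfiniteCompletion.completion (GrpCat.of A') =>
      ((ProfiniteGrp.profiniteCompletion.map (GrpCat.ofHom A'.subtype)).hom w).val C) =
      (fun w => q (w.val C')) := by
    refine (ProfiniteGrp.ProfiniteCompletion.denseRange (GrpCat.of A')).equalizer ?_ ?_ ?_
    · exact ((continuous_apply C).comp continuous_subtype_val).comp
        (ProfiniteGrp.profiniteCompletion.map (GrpCat.ofHom A'.subtype)).hom.continuous_toFun
    · haveI : DiscreteTopology ((ProfiniteGrp.ProfiniteCompletion.diagram (GrpCat.of A')).obj C') := ⟨rfl⟩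
      let F : ((ProfiniteGrp.ProfiniteCompletion.diagram (GrpCat.of A')).obj C') →
          ((ProfiniteGrp.ProfiniteCompletion.diagram (GrpCat.of A)).obj C) := fun v => q v
      have hF : Continuous F := continuous_of_discreteTopology
      exact hF.comp ((continuous_apply C').comp continuous_subtype_val)
    · funext y
      have h := CategoryTheory.ConcreteCategory.congr_hom (ProfiniteGrp.ProfiniteCompletion.lift_eta
        (GrpCat.ofHom A'.subtype ≫ ProfiniteGrp.ProfiniteCompletion.eta (GrpCat.of A))) y
      exact congrArg (fun w => w.val C) h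
  have h1 : q (z.val C') = 1 := by
    rw [← congrFun key z]
    exact congrArg (fun w => w.val C) hz
  have h2 : z.val C' = 1 := by
    obtain ⟨a, ha⟩ := QuotientGroup.mk_surjective (z.val C')
    rw [← ha] at h1 ⊢
    exact (QuotientGroup.eq_one_iff a).2 ((QuotientGroup.eq_one_iff (a : A)).1 (h1 : (QuotientGroup.mk (a : A) : A ⧸ C.toSubgroup) = 1))
  have h3 := z.property (CategoryTheory.homOfLE hle)
  rw [← h3, h2]
  exact map_one _

end Groth.Agent.S13378
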