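import Groth.Statements.S13387
import Groth.Agent.GammaSpan.Basic

set_option autoImplicit false
universe u
open ZeroCyc

namespace Groth.Agent.S13387

/-- Let A be a commutative ring, M an A-module and d ≥ 0. Suppose that at each prime p of A either k(p)
has d or more elements, or the localisation M_p is a cyclic A_p-module. Then the degree-d piece
Γ^d_A(M) of the divided power algebra Γ_A(M) is spanned over A by the d-th divided powers γ_d(m), m
∈ M. -/
theorem result {A M : Type u} [CommRing A] [AddCommGroup M]
    [Module A M] (d : ℕ)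
    (h : ∀ p : PrimeSpectrum A, (d : Cardinal) ≤ Cardinal.mk p.asIdeal.ResidueField ∨
      ∃ x : LocalizedModule p.asIdeal.primeCompl M, Submodule.span (Localization.AtPrime p.asIdeal) {x} = ⊤) :
    Submodule.span A (Set.range (DividedPowerAlgebra.dp A d : M → DividedPowerAlgebra A M)) =
      PolLaw.gammaPiece A M d := by
  refine le_antisymm (Submodule.span_le.2 ?_) (Submodule.span_le.2 ?_)
  · rintro _ ⟨m, rfl⟩
    exact Submodule.subset_span ⟨1, fun _ => d, fun _ => m, by simp, by simp⟩
  rintro y ⟨n, k, m, hk, rfl⟩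
  set S := Submodule.span A (Set.range (DividedPowerAlgebra.dp A d : M → DividedPowerAlgebra A M))
  let J : Ideal A := (⊤ : Submodule A A).comap (LinearMap.id) ⊓
    S.comap (LinearMap.toSpanSingleton A _ (∏ i, DividedPowerAlgebra.dp A (k i) (m i)))
  have hJ : J = ⊤ := by
    by_contra hne
    obtain ⟨q, hq, hJq⟩ := Ideal.exists_le_maximal J hne
    haveI := hq.isPrime
    have hmem : (∏ i, DividedPowerAlgebra.dp A (k i) (m i)) ∈ Groth.Agent.GammaSpan.sat q d := by
      rcases h ⟨q, hq.isPrime⟩ with hc | ⟨x, hx⟩
      · obtain ⟨t, ht0, ht⟩ := Groth.Agent.GammaSpan.exists_residues q hc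
        have := Groth.Agent.GammaSpan.prod_mem_of_residues (M := M) q t ht0 ht n k m hk.le
        rwa [hk] at this
      · obtain ⟨⟨x₀, t₀⟩, rfl⟩ : ∃ z : M × q.primeCompl, LocalizedModule.mk z.1 z.2 = x := by
          induction x using LocalizedModule.induction_on with
          | h a b => exact ⟨(a, b), rfl⟩
        have := Groth.Agent.GammaSpan.prod_mem_of_cyclic q x₀ (fun z => ?_) n k m
        · rwa [hk] at this
        obtain ⟨c, hc⟩ := Submodule.mem_span_singleton.1 (hx ▸ Submodule.mem_top (x := LocalizedModule.mk z 1))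
        obtain ⟨⟨a, s⟩, rfl⟩ := IsLocalization.mk'_surjective q.primeCompl c
        rw [← Localization.mk_eq_mk', LocalizedModule.mk_smul_mk, LocalizedModule.mk_eq] at hc
        obtain ⟨w, hw⟩ := hc
        refine ⟨(w : A) * ((s : A) * t₀), (w * (s * t₀)).2, (w : A) * a, ?_⟩
        simp only [Submonoid.smul_def, Submonoid.coe_mul, Submonoid.coe_one, one_smul, smul_smul] at hw
        simpa only [mul_assoc, one_mul, mul_one] using hw.symm
    obtain ⟨s, hs, hs'⟩ := hmem
    exact hs (hJq ⟨trivial, hs'⟩)
  have h1 : (1 : A) ∈ J := hJ ▸ trivial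
  simpa using h1.2


end Groth.Agent.S13387
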