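import Groth.Statements.S13388
import Groth.Agent.GammaSpan.Converse

set_option autoImplicit false
universe u
open ZeroCyc

namespace Groth.Agent.S13388

/-- Let A be a commutative ring, M a finitely generated A-module and d ≥ 0. If the degree-d piece
Γ^d_A(M) of Γ_A(M) is spanned over A by the divided powers γ_d(m), m ∈ M, then at each prime p of A
either k(p) has d or more elements, or the localisation M_p is a cyclic A_p-module. -/
theorem result {A M : Type u} [CommRing A] [AddCommGroup M]
    [Module A M] [Module.Finite A M] (d : ℕ)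
    (h : Submodule.span A (Set.range (DividedPowerAlgebra.dp A d : M → DividedPowerAlgebra A M)) =
      PolLaw.gammaPiece A M d)
    (p : PrimeSpectrum A) :
    (d : Cardinal) ≤ Cardinal.mk p.asIdeal.ResidueField ∨
      ∃ x : LocalizedModule p.asIdeal.primeCompl M, Submodule.span (Localization.AtPrime p.asIdeal) {x} = ⊤ := by
  rcases lt_or_ge (Cardinal.mk p.asIdeal.ResidueField) (d : Cardinal) with hlt | hge
  swap
  · exact Or.inl hge
  haveI := p.isPrime
  haveI : Finite p.asIdeal.ResidueField :=
    Cardinal.lt_aleph0_iff_finite.1 (hlt.trans Cardinal.natCast_lt_aleph0)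
  letI := Fintype.ofFinite p.asIdeal.ResidueField
  rw [Cardinal.mk_fintype, Nat.cast_lt] at hlt
  rcases Groth.Agent.GammaSpan.exists_functional_or_cyclic (M := M) p.asIdeal with hc | ⟨g, m₁, m₂, h₁, h₂⟩
  · exact Or.inr hc
  exfalso
  refine Groth.Agent.GammaSpan.not_span_of_functional hlt g m₁ m₂ h₁ h₂ ?_
  rw [h]
  have h1 : 1 < Fintype.card p.asIdeal.ResidueField := Fintype.one_lt_card
  exact Submodule.subset_span ⟨2, ![1, d - 1], ![m₁, m₂], by simp [Fin.sum_univ_two]; omega, by simp [Fin.prod_univ_two]⟩


end Groth.Agent.S13388
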