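import Groth.Statements.S13389
import Mathlib.LinearAlgebra.Vandermonde
import Mathlib.LinearAlgebra.Matrix.NonsingularInverse

set_option autoImplicit false
universe u
open ZeroCyc

namespace Groth.Agent.S13389

section
open DividedPowerAlgebra
variable {A M : Type u} [CommRing A] [AddCommGroup M] [Module A M]

theorem mul_mem (d : ℕ) (t : A) (ht : ∀ i j, i < j → j ≤ d → IsUnit (t ^ i - t ^ j)) {a b : ℕ}
    (hab : a + b ≤ d) (m n : M) :
    dp A a m * dp A b n ∈ Submodule.span A (Set.range (dp A (a + b) : M → DividedPowerAlgebra A M)) := by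
  classical
  let e := a + b
  let V : Matrix (Fin (e + 1)) (Fin (e + 1)) A := Matrix.vandermonde fun j : Fin (e + 1) => t ^ (j : ℕ)
  have hV : IsUnit V.det := by
    rw [Matrix.det_vandermonde]
    refine IsUnit.prod_iff.2 fun i _ => IsUnit.prod_iff.2 fun j hj => ?_
    rw [← IsUnit.neg_iff, neg_sub]
    exact ht _ _ (Fin.lt_def.1 (Finset.mem_Ioi.1 hj)) (le_trans (Nat.le_of_lt_succ j.2) hab)
  let c : Fin (e + 1) → DividedPowerAlgebra A M := fun i => dp A (e - (i : ℕ)) m * dp A (i : ℕ) n
  have hw : ∀ j, ∑ i, V j i • c i = dp A e (m + t ^ (j : ℕ) • n) := by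
    intro j
    rw [dp_add, Finset.Nat.sum_antidiagonal_eq_sum_range_succ_mk, ← Fin.sum_univ_eq_sum_range
      (fun k => dp A k m * dp A (e - k) (t ^ (j : ℕ) • n)), ← Equiv.sum_comp Fin.revPerm]
    refine Finset.sum_congr rfl fun i _ => ?_
    have hi : e - (e - (i : ℕ)) = i := by omega
    simp only [Fin.revPerm_apply, Fin.val_rev, Nat.add_sub_add_right, dp_smul, hi, V, c,
      Matrix.vandermonde_apply, mul_smul_comm]
  have key : ∀ l, c l ∈ Submodule.span A (Set.range (dp A e : M → DividedPowerAlgebra A M)) := by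
    intro l
    have h : ∑ j, V⁻¹ l j • ∑ i, V j i • c i = c l := by
      simp only [Finset.smul_sum, smul_smul]
      rw [Finset.sum_comm]
      simp only [← Finset.sum_smul, ← Matrix.mul_apply, Matrix.nonsing_inv_mul V hV, Matrix.one_apply,
        ite_smul, one_smul, zero_smul, Finset.sum_ite_eq, Finset.mem_univ, if_true]
    rw [← h]
    exact sum_mem fun j _ => Submodule.smul_mem _ _ (hw j ▸ Submodule.subset_span ⟨_, rfl⟩)
  have h2 := key ⟨b, by omega⟩
  simpa [c, e] using h2

theorem prod_mem (d : ℕ) (t : A) (ht : ∀ i j, i < j → j ≤ d → IsUnit (t ^ i - t ^ j)) :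
    ∀ (n : ℕ) (k : Fin n → ℕ) (m : Fin n → M), (∑ i, k i) ≤ d →
      ∏ i, dp A (k i) (m i) ∈
        Submodule.span A (Set.range (dp A (∑ i, k i) : M → DividedPowerAlgebra A M)) := by
  intro n
  induction n with
  | zero => intro k m _; exact Submodule.subset_span ⟨0, by simp [dp_zero]⟩
  | succ n ih =>
    intro k m hk
    rw [Fin.sum_univ_succ] at hk ⊢
    rw [Fin.prod_univ_succ]
    have h := ih (fun i => k i.succ) (fun i => m i.succ) (by omega)
    refine Submodule.span_induction (p := fun x _ => dp A (k 0) (m 0) * x ∈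
      Submodule.span A (Set.range (dp A (k 0 + ∑ i : Fin n, k i.succ) : M → DividedPowerAlgebra A M)))
      (fun x hx => ?_) (by simp) (fun x y _ _ hx hy => by rw [mul_add]; exact add_mem hx hy)
      (fun r x _ hx => by rw [mul_smul_comm]; exact Submodule.smul_mem _ r hx) h
    obtain ⟨y, rfl⟩ := hx
    exact mul_mem d t ht hk _ _

end


open Polynomial in
/-- Let P_d(T) = ∏_{0 ≤ i < j ≤ d} (T^i − T^j) − 1 ∈ ℤ[T]. If A is an algebra over ℤ[T]/(P_d), i.e.
receives a ring homomorphism from it, then for every A-module M the degree-d piece Γ^d_A(M) of the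
divided power algebra Γ_A(M) is spanned over A by the d-th divided powers γ_d(m), m ∈ M. (The
published statement adds that consequently every ring has a finite faithfully flat extension,
independent of M, over which this holds; that clause is not restated.) -/
theorem result {A M : Type u} [CommRing A] [AddCommGroup M]
    [Module A M] (d : ℕ)
    (φ : (ℤ[X] ⧸ Ideal.span {(∏ j ∈ Finset.range (d + 1), ∏ i ∈ Finset.range j,
        ((X : ℤ[X]) ^ i - X ^ j)) - 1}) →+* A) :
    Submodule.span A (Set.range (DividedPowerAlgebra.dp A d : M → DividedPowerAlgebra A M)) =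
      PolLaw.gammaPiece A M d := by
  refine le_antisymm (Submodule.span_le.2 ?_) (Submodule.span_le.2 ?_)
  · rintro _ ⟨m, rfl⟩
    exact Submodule.subset_span ⟨1, fun _ => d, fun _ => m, by simp, by simp⟩
  · rintro _ ⟨n, k, m, hk, rfl⟩
    subst hk
    refine prod_mem _ (φ (Ideal.Quotient.mk _ X)) (fun i j hij hj => ?_) n k m le_rfl
    have h1 : φ (Ideal.Quotient.mk _ (∏ j ∈ Finset.range ((∑ i, k i) + 1), ∏ i ∈ Finset.range j,
        ((X : ℤ[X]) ^ i - X ^ j))) = 1 := by
      rw [show Ideal.Quotient.mk _ (∏ j ∈ Finset.range ((∑ i, k i) + 1), ∏ i ∈ Finset.range j,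
        ((X : ℤ[X]) ^ i - X ^ j)) = 1 from (Ideal.Quotient.mk_eq_mk_iff_sub_mem _ _).2
          (Ideal.mem_span_singleton_self _), map_one]
    simp only [map_prod, map_sub, map_pow] at h1
    exact IsUnit.prod_iff.1 (IsUnit.prod_iff.1 (h1 ▸ isUnit_one) j (Finset.mem_range.2 (by omega))) i
      (Finset.mem_range.2 hij)

end Groth.Agent.S13389
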