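import Groth.Statements.S13393
import Mathlib
import Groth.Agent.S13176
import Groth.Agent.SGA1QuotLib.SymBaseChange
import Groth.Agent.SGA1QuotLib.BaseChangeUnit
import Groth.Agent.SGA1QuotLib.Residue
-- import your own Groth.Agent.* helpers here

set_option autoImplicit false
universe u
open CategoryTheory CategoryTheory.Limits AlgebraicGeometry
open ZeroCyc

namespace Groth.Agent.S13393

section Aux
open Groth.Agent.SGA1QuotLib
open scoped TensorProduct

set_option linter.style.haveILetI false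

theorem appLE_congr' {A B : Scheme.{u}} {f₁ f₂ : A ⟶ B} (h : f₁ = f₂) (U : B.Opens) (V : A.Opens)
    (e₁ : V ≤ f₁ ⁻¹ᵁ U) (e₂ : V ≤ f₂ ⁻¹ᵁ U) : f₁.appLE U V e₁ = f₂.appLE U V e₂ := by
  subst h; rfl

theorem flat_tensor {X S S' : Scheme.{u}} (f : X ⟶ S) (gS : S' ⟶ S) [Flat (pullback.snd f gS)]
    {U : S.Opens} (hU : IsAffineOpen U) {U' : S'.Opens} (hU' : IsAffineOpen U') (hU'U : U' ≤ gS ⁻¹ᵁ U)
    {W : X.Opens} (hW : IsAffineOpen W) (hWU : W ≤ f ⁻¹ᵁ U) :
    letI := (gS.appLE U U' hU'U).hom.toAlgebra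
    letI := (f.appLE U W hWU).hom.toAlgebra
    Module.Flat Γ(S', U') (Γ(S', U') ⊗[Γ(S, U)] Γ(X, W)) := by
  have H := IsPullback.of_hasPullback f gS
  let O := pullback.fst f gS ⁻¹ᵁ W ⊓ pullback.snd f gS ⁻¹ᵁ U'
  haveI : IsAffine (U : Scheme.{u}) := hU
  haveI : IsAffine (U' : Scheme.{u}) := hU'
  haveI : IsAffine (W : Scheme.{u}) := hW
  have hO : IsAffineOpen O :=
    .of_isIso (Scheme.Hom.isPullback_resLE H hU'U hWU (rfl : O = _)).isoPullback.hom
  have hflat : ((pullback.snd f gS).appLE U' O inf_le_right).hom.Flat :=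
    (pullback.snd f gS).flat_appLE hU' hO inf_le_right
  have hpo := (isIso_pushoutSection_iff H hU'U hWU (rfl : O = _)).1
    (isIso_pushoutSection_of_isAffineOpen H hU'U hWU rfl hU hU' hW)
  algebraize [(gS.appLE U U' hU'U).hom, (f.appLE U W hWU).hom,
    ((pullback.snd f gS).appLE U' O inf_le_right).hom, ((pullback.fst f gS).appLE W O inf_le_left).hom,
    (((pullback.snd f gS).appLE U' O inf_le_right).hom.comp (gS.appLE U U' hU'U).hom)]
  haveI : IsScalarTower Γ(S, U) Γ(X, W) Γ(pullback f gS, O) :=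
    IsScalarTower.of_algebraMap_eq' (congrArg CommRingCat.Hom.hom hpo.w).symm
  haveI : Algebra.IsPushout Γ(S, U) Γ(S', U') Γ(X, W) Γ(pullback f gS, O) :=
    CommRingCat.isPushout_iff_isPushout.mp hpo.flip
  haveI : Module.Flat Γ(S', U') Γ(pullback f gS, O) := hflat
  exact Module.Flat.of_linearEquiv
    (Algebra.IsPushout.equiv Γ(S, U) Γ(S', U') Γ(X, W) Γ(pullback f gS, O)).toLinearEquiv

theorem fixed_mem {X S S' Y : Scheme.{u}} (f : X ⟶ S) (d : ℕ)
    (q : SymProd.fibPow f d ⟶ Y) (g : Y ⟶ S) (hq : SymProd.IsSymProd f d q g) (gS : S' ⟶ S)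
    (ρ' : ULift.{u} (Equiv.Perm (Fin d)) →* Aut (pullback (WidePullback.base fun _ : Fin d => f) gS))
    (hρ' : ∀ σ, (ρ' σ).hom ≫ pullback.fst (WidePullback.base fun _ : Fin d => f) gS =
        pullback.fst (WidePullback.base fun _ : Fin d => f) gS ≫ SymProd.permHom f d σ.down ∧
      (ρ' σ).hom ≫ pullback.snd (WidePullback.base fun _ : Fin d => f) gS =
        pullback.snd (WidePullback.base fun _ : Fin d => f) gS)
    {U : S.Opens} (hU : IsAffineOpen U) {V : Y.Opens} (hV : IsAffineOpen V) (hVU : V ≤ g ⁻¹ᵁ U)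
    {U' : S'.Opens} (hU' : IsAffineOpen U') (hU'U : U' ≤ gS ⁻¹ᵁ U)
    (E : (pullback (WidePullback.base fun _ : Fin d => f) gS).Opens)
    (hE : E = pullback.fst (WidePullback.base fun _ : Fin d => f) gS ⁻¹ᵁ (q ⁻¹ᵁ V) ⊓
      pullback.snd (WidePullback.base fun _ : Fin d => f) gS ⁻¹ᵁ U')
    (hEst : ∀ σ, E ≤ (ρ' σ).hom ⁻¹ᵁ E)
    {A T : Type u} [CommRing A] [CommRing T] (χ : Γ(S', U') →+* A)
    (hA : letI := (χ.comp (gS.appLE U U' hU'U).hom).toAlgebra
      ∀ W : X.Opens, IsAffineOpen W → ∀ h : W ≤ f ⁻¹ᵁ U,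
        letI := (f.appLE U W h).hom.toAlgebra
        Module.Flat A (A ⊗[Γ(S, U)] Γ(X, W)))
    (θ : A →+* T) (ξ : Γ(pullback (WidePullback.base fun _ : Fin d => f) gS, E) →+* T)
    (hθ : θ.comp χ = ξ.comp ((pullback.snd (WidePullback.base fun _ : Fin d => f) gS).appLE U' E
      (hE.le.trans inf_le_right)).hom)
    (K : Subring T) (hK1 : ∀ c, θ c ∈ K)
    (hK2 : ∀ p, ξ (((pullback.fst (WidePullback.base fun _ : Fin d => f) gS).appLE (q ⁻¹ᵁ V) E
      (hE.le.trans inf_le_left)).hom ((q.app V).hom p)) ∈ K)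
    (s : Γ(pullback (WidePullback.base fun _ : Fin d => f) gS, E))
    (hs : ∀ σ, ((ρ' σ).hom.appLE E E (hEst σ)).hom s = s) : ξ s ∈ K := by
  haveI := hq.isQuot.affine
  let b := WidePullback.base (fun _ : Fin d => f)
  have hb : b = WidePullback.base (fun _ : Fin d => f) := rfl
  have hD : IsAffineOpen (q ⁻¹ᵁ V) := hV.preimage q
  have hDb : q ⁻¹ᵁ V ≤ b ⁻¹ᵁ U := fun z hz => by
    rw [hb, ← hq.over]
    exact hVU hz
  have H := IsPullback.of_hasPullback b gS
  have hpo := (isIso_pushoutSection_iff H hU'U hDb hE).1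
    (isIso_pushoutSection_of_isAffineOpen H hU'U hDb hE hU hU' hD)
  let sn := ((pullback.snd b gS).appLE U' E (hE.le.trans inf_le_right)).hom
  let fs := ((pullback.fst b gS).appLE (q ⁻¹ᵁ V) E (hE.le.trans inf_le_left)).hom
  letI := (gS.appLE U U' hU'U).hom.toAlgebra
  letI := (b.appLE U (q ⁻¹ᵁ V) hDb).hom.toAlgebra
  letI := (g.appLE U V hVU).hom.toAlgebra
  letI := sn.toAlgebra
  letI := fs.toAlgebra
  letI := (sn.comp (gS.appLE U U' hU'U).hom).toAlgebra
  haveI : IsScalarTower Γ(S, U) Γ(S', U') Γ(pullback b gS, E) := IsScalarTower.of_algebraMap_eq' rfl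
  haveI : IsScalarTower Γ(S, U) Γ(SymProd.fibPow f d, q ⁻¹ᵁ V) Γ(pullback b gS, E) :=
    IsScalarTower.of_algebraMap_eq' (congrArg CommRingCat.Hom.hom hpo.w).symm
  haveI : Algebra.IsPushout Γ(S, U) Γ(S', U') Γ(SymProd.fibPow f d, q ⁻¹ᵁ V) Γ(pullback b gS, E) :=
    CommRingCat.isPushout_iff_isPushout.mp hpo.flip
  let e := Algebra.IsPushout.equiv Γ(S, U) Γ(S', U') Γ(SymProd.fibPow f d, q ⁻¹ᵁ V) Γ(pullback b gS, E)
  let τ : Equiv.Perm (Fin d) → (Γ(SymProd.fibPow f d, q ⁻¹ᵁ V) →ₐ[Γ(S, U)] Γ(SymProd.fibPow f d, q ⁻¹ᵁ V)) :=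
    fun σ => secHom b hDb (SymProd.permHom f d σ) (SymProd.permHom_base f d σ)
      (SGA1.preimage_le_of_inv (SymProd.permActU f d) q hq.isQuot.inv ⟨σ⟩ V)
  have he : ∀ (σ : Equiv.Perm (Fin d)) (z), e ((τ σ).toLinearMap.lTensor Γ(S', U') z) =
      ((ρ' ⟨σ⟩).hom.appLE E E (hEst _)).hom (e z) := fun σ z => by
    induction z with
    | zero => simp
    | add x y hx hy => simp only [map_add, hx, hy]
    | tmul a m =>
      rw [LinearMap.lTensor_tmul, Algebra.IsPushout.equiv_tmul, Algebra.IsPushout.equiv_tmul, map_mul]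
      congr 1
      · change sn a = ((pullback.snd b gS).appLE U' E _ ≫ (ρ' ⟨σ⟩).hom.appLE E E _).hom a
        rw [Scheme.Hom.appLE_comp_appLE]
        exact congrArg (fun k : Γ(S', U') ⟶ Γ(pullback b gS, E) => k.hom a)
          (appLE_congr' (hρ' ⟨σ⟩).2.symm U' E _ _)
      · change ((SymProd.permHom f d σ).appLE _ _ _ ≫ (pullback.fst b gS).appLE _ E _).hom m =
          ((pullback.fst b gS).appLE (q ⁻¹ᵁ V) E _ ≫ (ρ' ⟨σ⟩).hom.appLE E E _).hom m
        rw [Scheme.Hom.appLE_comp_appLE, Scheme.Hom.appLE_comp_appLE]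
        exact congrArg (fun k : Γ(SymProd.fibPow f d, q ⁻¹ᵁ V) ⟶ Γ(pullback b gS, E) => k.hom m)
          (appLE_congr' (hρ' ⟨σ⟩).1.symm (q ⁻¹ᵁ V) E _ _)
  obtain ⟨z₀, rfl⟩ := e.surjective s
  letI iA : Algebra Γ(S, U) A := (χ.comp (gS.appLE U U' hU'U).hom).toAlgebra
  let χa : Γ(S', U') →ₐ[Γ(S, U)] A := { χ with commutes' := fun r => rfl }
  let π := χa.toLinearMap.rTensor Γ(SymProd.fibPow f d, q ⁻¹ᵁ V)
  have hπ : ∀ σ z, (τ σ).toLinearMap.lTensor A (π z) = π ((τ σ).toLinearMap.lTensor Γ(S', U') z) :=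
    fun σ z => by
      induction z with
      | zero => simp
      | add x y hx hy => simp only [map_add, hx, hy]
      | tmul a m => rfl
  let L : Γ(Y, V) →ₗ[Γ(S, U)] Γ(SymProd.fibPow f d, q ⁻¹ᵁ V) :=
    { toFun := (q.app V).hom
      map_add' := map_add _
      map_smul' := fun r p => by
        rw [Algebra.smul_def, Algebra.smul_def, map_mul, RingHom.id_apply]
        congr 1
        change (g.appLE U V hVU ≫ q.app V).hom r = (b.appLE U (q ⁻¹ᵁ V) hDb).hom r
        rw [Scheme.Hom.app_eq_appLE, Scheme.Hom.appLE_comp_appLE]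
        simp only [hq.over, ← hb] }
  obtain ⟨w, hw⟩ := fixed_mem_range_of_isSymProd f d q g hq hU hV hVU hDb A hA τ (fun σ s => rfl) L
    (fun p => rfl) (π z₀) fun σ => by
      rw [hπ, show (τ σ).toLinearMap.lTensor Γ(S', U') z₀ = z₀ from e.injective ((he σ z₀).trans (hs _))]
  letI : Algebra Γ(S, U) T := (θ.comp (algebraMap Γ(S, U) A)).toAlgebra
  let θa : A →ₐ[Γ(S, U)] T := { θ with commutes' := fun r => rfl }
  let ξa : Γ(SymProd.fibPow f d, q ⁻¹ᵁ V) →ₐ[Γ(S, U)] T :=
    { ξ.comp fs with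
      commutes' := fun r => by
        refine (congrArg ξ (congrArg (fun k => k.hom r) hpo.w)).trans ?_
        exact (RingHom.congr_fun hθ _).symm }
  let Θ := Algebra.TensorProduct.lift θa ξa fun _ _ => Commute.all _ _
  have hΘ : ∀ z, Θ (π z) = ξ (e z) := fun z => by
    induction z with
    | zero => simp
    | add x y hx hy => simp only [map_add, hx, hy]
    | tmul a m =>
      rw [Algebra.IsPushout.equiv_tmul, map_mul]
      exact (Algebra.TensorProduct.lift_tmul _ _ _ _ _).trans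
        (congrArg (· * ξ (fs m)) (RingHom.congr_fun hθ a))
  rw [← hΘ, ← hw]
  clear hw
  induction w with
  | zero => simp
  | add x y hx hy => simp only [map_add]; exact add_mem hx hy
  | tmul a p =>
    rw [LinearMap.lTensor_tmul, Algebra.TensorProduct.lift_tmul]
    exact mul_mem (hK1 a) (hK2 p)

end Aux

/-- Scheme case. Let f : X → S be separated and let (Y, q, g) be a d-th symmetric product of X over S: q
: (X/S)^d → Y is a quotient of the d-fold fibre product by the symmetric group permuting the factors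
and g : Y → S its structure map. Let S' → S be a morphism, let the symmetric group act on (X/S)^d
×_S S' through the first factor (this is the d-fold fibre product of X' = X ×_S S' over S' with its
permutation action), let r : (X/S)^d ×_S S' → Y' be a quotient by that action, i.e. a symmetric
product Sym^d(X'/S'), and let m : Y' → Y ×_S S' be the morphism with r ≫ m = q × id. Then m induces
an isomorphism on residue fields at every point of Y' (trivial residue field extensions); if every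
positive integer is invertible in Γ(S', O_{S'}) then m is an isomorphism; and if X' → S' is flat
then m is a closed immersion. (The published statement is for X a separated algebraic space over S,
where the symmetric products always exist as algebraic spaces; this row is the case of schemes in
which both quotients exist as schemes, taken as hypotheses, and leaves the universal-homeomorphism
clause to the general finite-group statement.) -/
theorem result {X S S' Y Y' : Scheme.{u}} (f : X ⟶ S) [IsSeparated f] (d : ℕ)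
    (q : SymProd.fibPow f d ⟶ Y) (g : Y ⟶ S) (hq : SymProd.IsSymProd f d q g)
    (gS : S' ⟶ S)
    (ρ' : ULift.{u} (Equiv.Perm (Fin d)) →* Aut (pullback (WidePullback.base fun _ : Fin d => f) gS))
    (hρ' : ∀ σ, (ρ' σ).hom ≫ pullback.fst (WidePullback.base fun _ : Fin d => f) gS =
        pullback.fst (WidePullback.base fun _ : Fin d => f) gS ≫ SymProd.permHom f d σ.down ∧
      (ρ' σ).hom ≫ pullback.snd (WidePullback.base fun _ : Fin d => f) gS =
        pullback.snd (WidePullback.base fun _ : Fin d => f) gS)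
    (r : pullback (WidePullback.base fun _ : Fin d => f) gS ⟶ Y') (hr : SGA1.IsQuot ρ' r)
    (m : Y' ⟶ pullback g gS)
    (hm : r ≫ m = pullback.map (WidePullback.base fun _ : Fin d => f) gS g gS q (𝟙 S') (𝟙 S)
      ((Category.comp_id _).trans hq.over.symm) ((Category.comp_id gS).trans (Category.id_comp gS).symm)) :
    (∀ y : Y', IsIso (m.residueFieldMap y)) ∧
    ((∀ n : ℕ, 0 < n → IsUnit ((n : ℕ) : Γ(S', ⊤))) → IsIso m) ∧
    (Flat (pullback.snd f gS) → IsClosedImmersion m) := by
  classical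
  let b := WidePullback.base (fun _ : Fin d => f)
  let μ := pullback.map b gS g gS q (𝟙 S') (𝟙 S)
    ((Category.comp_id _).trans hq.over.symm) ((Category.comp_id gS).trans (Category.id_comp gS).symm)
  have e1 : μ ≫ pullback.fst g gS = pullback.fst b gS ≫ q := pullback.lift_fst _ _ _
  have e2 : μ ≫ pullback.snd g gS = pullback.snd b gS :=
    (pullback.lift_snd _ _ _).trans (Category.comp_id _)
  have hpb : IsPullback (pullback.fst b gS) μ q (pullback.fst g gS) := by
    refine .of_bot ?_ e1.symm (IsPullback.of_hasPullback g gS)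
    rw [hq.over, e2]
    exact IsPullback.of_hasPullback b gS
  have hρμ : ∀ σ, (ρ' σ).hom ≫ μ = μ := fun σ => by
    apply pullback.hom_ext
    · rw [Category.assoc, e1, ← Category.assoc, (hρ' σ).1, Category.assoc]
      exact congrArg _ (hq.isQuot.inv σ)
    · rw [Category.assoc, e2]
      exact (hρ' σ).2
  have huh := Groth.Agent.S13176.result (SymProd.permActU f d) b (fun σ => SymProd.permHom_base f d σ.down)
    q g hq.over hq.isQuot gS ρ' hρ' r hr m hm
  have hhom : IsHomeomorph m.base := huh _ _ _ (IsPullback.of_id_snd (f := m))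
  haveI : IsAffineHom m := isAffineHom_of_isInducing m hhom.isEmbedding.isInducing
    (by rw [hhom.surjective.range_eq]; exact isClosed_univ)
  -- local data
  have hloc : ∀ w : ↥(pullback g gS), ∃ (U : S.Opens) (V : Y.Opens) (U' : S'.Opens),
      IsAffineOpen U ∧ IsAffineOpen V ∧ IsAffineOpen U' ∧ V ≤ g ⁻¹ᵁ U ∧ U' ≤ gS ⁻¹ᵁ U ∧
        w ∈ pullback.fst g gS ⁻¹ᵁ V ⊓ pullback.snd g gS ⁻¹ᵁ U' := fun w => by
    obtain ⟨U, hU, hwU, -⟩ := exists_isAffineOpen_mem_and_subset
      (TopologicalSpace.Opens.mem_top (g.base ((pullback.fst g gS).base w)))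
    obtain ⟨V, hV, hwV, hVU⟩ := exists_isAffineOpen_mem_and_subset (U := g ⁻¹ᵁ U) hwU
    obtain ⟨U', hU', hwU', hU'U⟩ := exists_isAffineOpen_mem_and_subset (U := gS ⁻¹ᵁ U)
      (x := (pullback.snd g gS).base w) (by
        change gS.base ((pullback.snd g gS).base w) ∈ U
        rw [← Scheme.Hom.comp_apply, ← pullback.condition]
        exact hwU)
    exact ⟨U, V, U', hU, hV, hU', hVU, hU'U, hwV, hwU'⟩
  have hE : ∀ (V : Y.Opens) (U' : S'.Opens),
      r ⁻¹ᵁ (m ⁻¹ᵁ (pullback.fst g gS ⁻¹ᵁ V ⊓ pullback.snd g gS ⁻¹ᵁ U')) =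
        pullback.fst b gS ⁻¹ᵁ (q ⁻¹ᵁ V) ⊓ pullback.snd b gS ⁻¹ᵁ U' := fun V U' => by
    rw [← Scheme.Hom.comp_preimage, hm, Scheme.Hom.preimage_inf, ← Scheme.Hom.comp_preimage,
      ← Scheme.Hom.comp_preimage, ← Scheme.Hom.comp_preimage, ← e1, ← e2]
  have hrm : r ≫ m ≫ pullback.snd g gS = pullback.snd b gS := by rw [← Category.assoc, hm]; exact e2
  have hrm' : r ≫ m ≫ pullback.fst g gS = pullback.fst b gS ≫ q := by rw [← Category.assoc, hm]; exact e1
  refine ⟨fun y => ?_, fun hu => ?_, fun hflat => ?_⟩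
  · obtain ⟨x, rfl⟩ := Groth.Agent.SGA1QuotLib.surjective hr y
    obtain ⟨U, V, U', hU, hV, hU', hVU, hU'U, hwV⟩ := hloc (m.base (r.base x))
    let V'' := pullback.fst g gS ⁻¹ᵁ V ⊓ pullback.snd g gS ⁻¹ᵁ U'
    have hB : IsAffineOpen V'' := by
      haveI : IsAffine (U : Scheme.{u}) := hU
      haveI : IsAffine (U' : Scheme.{u}) := hU'
      haveI : IsAffine (V : Scheme.{u}) := hV
      exact .of_isIso (Scheme.Hom.isPullback_resLE (IsPullback.of_hasPullback g gS) hU'U hVU
        (rfl : V'' = _)).isoPullback.hom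
    let φ := (m.residueFieldMap (r.base x)).hom
    let ψ := (r.residueFieldMap x).hom
    let η := ((pullback.snd g gS).residueFieldMap (m.base (r.base x))).hom
    let K : Subring ((pullback b gS).residueField x) := (ψ.comp φ).range
    let ξ := ((pullback b gS).evaluation (r ⁻¹ᵁ (m ⁻¹ᵁ V'')) x hwV).hom
    have hev : ∀ t, ψ (φ (((pullback g gS).evaluation V'' _ hwV).hom t)) =
        ξ ((r.app (m ⁻¹ᵁ V'')).hom ((m.app V'').hom t)) := fun t => by
      have h1 : φ (((pullback g gS).evaluation V'' _ hwV).hom t) =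
          (Y'.evaluation (m ⁻¹ᵁ V'') (r.base x) hwV).hom ((m.app V'').hom t) :=
        Scheme.evaluation_naturality_apply m _ hwV t
      rw [h1]
      exact Scheme.evaluation_naturality_apply r x hwV _
    let χ := (S'.evaluation U' ((pullback.snd g gS).base (m.base (r.base x))) hwV.2).hom
    have hsn : ∀ c, ψ (φ (η (χ c))) = ξ (((pullback.snd b gS).appLE U' (r ⁻¹ᵁ (m ⁻¹ᵁ V''))
        ((hE V U').le.trans inf_le_right)).hom c) := fun c => by
      rw [show η (χ c) = ((pullback g gS).evaluation V'' _ hwV).hom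
          (((pullback.snd g gS).appLE U' V'' inf_le_right).hom c) from
        Groth.Agent.SGA1QuotLib.residueFieldMap_evaluation (pullback.snd g gS) inf_le_right _ hwV c, hev]
      refine congrArg ξ ?_
      change (((pullback.snd g gS).appLE U' V'' _ ≫ m.app V'') ≫ r.app _).hom c = _
      simp only [Scheme.Hom.app_eq_appLE, Scheme.Hom.appLE_comp_appLE, Category.assoc, hrm]
    have hfs : ∀ p, ξ (((pullback.fst b gS).appLE (q ⁻¹ᵁ V) (r ⁻¹ᵁ (m ⁻¹ᵁ V''))
        ((hE V U').le.trans inf_le_left)).hom ((q.app V).hom p)) ∈ K := fun p => by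
      refine ⟨((pullback g gS).evaluation V'' _ hwV).hom
        (((pullback.fst g gS).appLE V V'' inf_le_left).hom p), (hev _).trans ?_⟩
      refine congrArg ξ ?_
      change (((pullback.fst g gS).appLE V V'' _ ≫ m.app V'') ≫ r.app _).hom p =
        (q.app V ≫ (pullback.fst b gS).appLE _ _ _).hom p
      simp only [Scheme.Hom.app_eq_appLE, Scheme.Hom.appLE_comp_appLE, Category.assoc, hrm']
    have key : ∀ a, ψ ((Y'.evaluation (m ⁻¹ᵁ V'') (r.base x) hwV).hom a) ∈ K := fun a => by
      rw [show ψ ((Y'.evaluation (m ⁻¹ᵁ V'') (r.base x) hwV).hom a) = ξ ((r.app (m ⁻¹ᵁ V'')).hom a) from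
        Scheme.evaluation_naturality_apply r x hwV a]
      refine fixed_mem f d q g hq gS ρ' hρ' hU hV hVU hU' hU'U _ (hE V U')
        (fun σ => SGA1.preimage_le_of_inv ρ' r hr.inv σ _) χ (fun W _ _ => inferInstance)
        ((ψ.comp φ).comp η) ξ (RingHom.ext hsn) K (fun c => ⟨η c, rfl⟩) hfs _
        fun σ => Groth.Agent.SGA1QuotLib.act_app hr _ σ a
    have hbij : Function.Bijective φ := ⟨φ.injective, fun z => by
      obtain ⟨a, c, -, rfl⟩ := Groth.Agent.SGA1QuotLib.exists_evaluation_div (hB.preimage m) hwV z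
      obtain ⟨a', ha⟩ := key a
      obtain ⟨c', hc'⟩ := key c
      exact ⟨a' / c', by rw [map_div₀, ψ.injective ha, ψ.injective hc']⟩⟩
    exact (ConcreteCategory.isIso_iff_bijective _).2 hbij
  · have hμ : SGA1.IsQuot ρ' μ := Groth.Agent.SGA1QuotLib.isQuot_of_isPullback_of_isUnit' hq.isQuot
      (by
        have := (hu (Nat.card (ULift.{u} (Equiv.Perm (Fin d)))) Nat.card_pos).map
          (pullback.snd g gS).appTop.hom
        rwa [map_natCast] at this)
      (pullback.fst g gS) (pullback.fst b gS) μ hpb ρ' (fun σ => (hρ' σ).1) hρμ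
    obtain ⟨n, hn⟩ := Groth.Agent.SGA1QuotLib.exists_desc hμ r hr.inv
    refine ⟨⟨n, Groth.Agent.SGA1QuotLib.hom_ext hr _ _ ?_, Groth.Agent.SGA1QuotLib.hom_ext hμ _ _ ?_⟩⟩
    · rw [← Category.assoc, hm]; exact hn.trans (Category.comp_id _).symm
    · rw [← Category.assoc, hn, hm]; exact (Category.comp_id _).symm
  · refine (IsZariskiLocalAtTarget.iff_of_iSup_eq_top (P := @IsClosedImmersion)
      (U := fun w : ↥(pullback g gS) => pullback.fst g gS ⁻¹ᵁ (hloc w).choose_spec.choose ⊓
        pullback.snd g gS ⁻¹ᵁ (hloc w).choose_spec.choose_spec.choose) ?_).2 fun w => ?_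
    · exact eq_top_iff.2 fun w _ => TopologicalSpace.Opens.mem_iSup.2
        ⟨w, (hloc w).choose_spec.choose_spec.choose_spec.2.2.2.2.2⟩
    generalize hV0 : (hloc w).choose_spec.choose = V, hU0 : (hloc w).choose_spec.choose_spec.choose = U'
    obtain ⟨hU, hV, hU', hVU, hU'U, -⟩ := (hloc w).choose_spec.choose_spec.choose_spec
    rw [hV0] at hV hVU
    rw [hU0] at hU' hU'U
    generalize (hloc w).choose = U at hU hVU hU'U
    let V'' := pullback.fst g gS ⁻¹ᵁ V ⊓ pullback.snd g gS ⁻¹ᵁ U'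
    have hB : IsAffineOpen V'' := by
      haveI : IsAffine (U : Scheme.{u}) := hU
      haveI : IsAffine (U' : Scheme.{u}) := hU'
      haveI : IsAffine (V : Scheme.{u}) := hV
      exact .of_isIso (Scheme.Hom.isPullback_resLE (IsPullback.of_hasPullback g gS) hU'U hVU
        (rfl : V'' = _)).isoPullback.hom
    let rm := ((r.app (m ⁻¹ᵁ V'')).hom.comp (m.app V'').hom)
    have hsurj : Function.Surjective (m.app V'') := fun s => by
      have h1 : (r.app (m ⁻¹ᵁ V'')).hom s ∈ rm.range := by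
        refine fixed_mem f d q g hq gS ρ' hρ' hU hV hVU hU' hU'U _ (hE V U')
          (fun σ => SGA1.preimage_le_of_inv ρ' r hr.inv σ _) (RingHom.id _)
          (fun W hW h => flat_tensor f gS hU hU' hU'U hW h)
          ((pullback.snd b gS).appLE U' _ ((hE V U').le.trans inf_le_right)).hom (RingHom.id _) rfl
          rm.range (fun c => ⟨((pullback.snd g gS).appLE U' V'' inf_le_right).hom c, ?_⟩)
          (fun p => ⟨((pullback.fst g gS).appLE V V'' inf_le_left).hom p, ?_⟩) _
          fun σ => Groth.Agent.SGA1QuotLib.act_app hr _ σ s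
        · change (((pullback.snd g gS).appLE U' V'' _ ≫ m.app V'') ≫ r.app _).hom c = _
          simp only [Scheme.Hom.app_eq_appLE, Scheme.Hom.appLE_comp_appLE, Category.assoc, hrm]
          rfl
        · change (((pullback.fst g gS).appLE V V'' _ ≫ m.app V'') ≫ r.app _).hom p =
            (q.app V ≫ (pullback.fst b gS).appLE _ _ _).hom p
          simp only [Scheme.Hom.app_eq_appLE, Scheme.Hom.appLE_comp_appLE, Category.assoc, hrm']
      obtain ⟨t, ht⟩ := h1
      exact ⟨t, hr.injective _ ht⟩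
    haveI : IsAffine (V'' : Scheme.{u}) := hB
    haveI : IsAffine ((m ⁻¹ᵁ V'' : Y'.Opens) : Scheme.{u}) := hB.preimage m
    refine IsClosedImmersion.of_surjective_of_isAffine (m ∣_ V'') ?_
    have hO : ∀ O, O = V'' → Function.Surjective (m.app O) := fun O h => h ▸ hsurj
    rw [Scheme.Hom.appTop, morphismRestrict_app]
    exact Function.Surjective.comp
      (g := ConcreteCategory.hom (Y'.presheaf.map (eqToHom (image_morphismRestrict_preimage m V'' ⊤)).op))
      (ConcreteCategory.bijective_of_isIso _).2 (hO _ (Scheme.Opens.ι_image_top V''))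

end Groth.Agent.S13393
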