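import Groth.Statements.S13394
import Mathlib
import Groth.Agent.SGA1QuotLib.SymLift
import Groth.Agent.SGA1QuotLib.Finite
import Groth.Agent.SGA1QuotLib.Residue
-- import your own Groth.Agent.* helpers here

set_option autoImplicit false
universe u
open CategoryTheory CategoryTheory.Limits AlgebraicGeometry
open ZeroCyc

namespace Groth.Agent.S13394

section Aux
open Groth.Agent.SGA1QuotLib
open scoped TensorProduct

set_option linter.style.haveILetI false

theorem fixed_mem {X Z S Y : Scheme.{u}} (f : X ⟶ S) (d : ℕ) (q : SymProd.fibPow f d ⟶ Y) (g : Y ⟶ S)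
    (hq : SymProd.IsSymProd f d q g) (i : Z ⟶ X) [IsClosedImmersion i]
    {U : S.Opens} (hU : IsAffineOpen U) {V : Y.Opens} (hV : IsAffineOpen V) (hVU : V ≤ g ⁻¹ᵁ U)
    (E : (SymProd.fibPow (i ≫ f) d).Opens)
    (hE : E = SymProd.fibPowMap (i ≫ f) d f i rfl ⁻¹ᵁ (q ⁻¹ᵁ V))
    (hEb : E ≤ (WidePullback.base (fun _ : Fin d => i ≫ f)) ⁻¹ᵁ U)
    (hEst : ∀ σ, E ≤ SymProd.permHom (i ≫ f) d σ ⁻¹ᵁ E)
    {A T : Type u} [CommRing A] [CommRing T] [Algebra Γ(S, U) A]
    (hA : ∀ W : Z.Opens, IsAffineOpen W → ∀ h : W ≤ (i ≫ f) ⁻¹ᵁ U,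
        letI := ((i ≫ f).appLE U W h).hom.toAlgebra
        Module.Flat A (A ⊗[Γ(S, U)] Γ(Z, W)))
    (θ : A →+* T) (ξ : Γ(SymProd.fibPow (i ≫ f) d, E) →+* T)
    (hθ : ∀ r, θ (algebraMap Γ(S, U) A r) =
      ξ (((WidePullback.base (fun _ : Fin d => i ≫ f)).appLE U E hEb).hom r))
    (K : Subring T) (hK1 : ∀ c, θ c ∈ K)
    (hK2 : ∀ p, ξ (((SymProd.fibPowMap (i ≫ f) d f i rfl).appLE (q ⁻¹ᵁ V) E hE.le).hom ((q.app V).hom p)) ∈ K)
    (s : Γ(SymProd.fibPow (i ≫ f) d, E))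
    (hs : ∀ σ, ((SymProd.permHom (i ≫ f) d σ).appLE E E (hEst σ)).hom s = s) : ξ s ∈ K := by
  subst hE
  have hDX : q ⁻¹ᵁ V ≤ (WidePullback.base (fun _ : Fin d => f)) ⁻¹ᵁ U := fun z hz => by
    rw [← hq.over]
    exact hVU hz
  let bZ := WidePullback.base (fun _ : Fin d => i ≫ f)
  let jq := (SymProd.fibPowMap (i ≫ f) d f i rfl).appLE (q ⁻¹ᵁ V) _ le_rfl
  letI := (bZ.appLE U _ hEb).hom.toAlgebra
  letI := (g.appLE U V hVU).hom.toAlgebra
  let L : Γ(Y, V) →ₗ[Γ(S, U)]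
      Γ(SymProd.fibPow (i ≫ f) d, SymProd.fibPowMap (i ≫ f) d f i rfl ⁻¹ᵁ (q ⁻¹ᵁ V)) :=
    { toFun := fun p => ((SymProd.fibPowMap (i ≫ f) d f i rfl).app (q ⁻¹ᵁ V)).hom ((q.app V).hom p)
      map_add' := fun x y => by simp only [map_add]
      map_smul' := fun r p => by
        rw [Algebra.smul_def, Algebra.smul_def, map_mul, map_mul, RingHom.id_apply]
        congr 1
        change ((g.appLE U V hVU ≫ q.app V) ≫ (SymProd.fibPowMap (i ≫ f) d f i rfl).app _).hom r =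
          (bZ.appLE U _ hEb).hom r
        simp only [Scheme.Hom.app_eq_appLE, Scheme.Hom.appLE_comp_appLE, hq.over, SymProd.fibPowMap_base]
        rfl }
  obtain ⟨w, hw⟩ := fixed_mem_range_closed f i U q g hq hU hV hVU hEb A hA L (fun _ => rfl)
    ((1 : A) ⊗ₜ s) fun σ hσ => by
      rw [LinearMap.lTensor_tmul]
      exact congrArg _ (hs σ)
  letI : Algebra Γ(S, U) T := (θ.comp (algebraMap Γ(S, U) A)).toAlgebra
  let θa : A →ₐ[Γ(S, U)] T := { θ with commutes' := fun r => rfl }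
  let ξa : Γ(SymProd.fibPow (i ≫ f) d, SymProd.fibPowMap (i ≫ f) d f i rfl ⁻¹ᵁ (q ⁻¹ᵁ V)) →ₐ[Γ(S, U)] T :=
    { ξ with commutes' := fun r => (hθ r).symm }
  let Θ := Algebra.TensorProduct.lift θa ξa fun _ _ => Commute.all _ _
  have h1 : Θ ((1 : A) ⊗ₜ s) = ξ s :=
    (Algebra.TensorProduct.lift_tmul _ _ _ _ _).trans (by rw [map_one, one_mul]; rfl)
  rw [← h1, ← hw]
  clear hw h1
  induction w with
  | zero => simp
  | add x y hx hy => simp only [map_add]; exact add_mem hx hy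
  | tmul a p =>
    rw [LinearMap.lTensor_tmul, Algebra.TensorProduct.lift_tmul]
    refine mul_mem (hK1 a) ?_
    change ξ (((SymProd.fibPowMap (i ≫ f) d f i rfl).app (q ⁻¹ᵁ V)).hom ((q.app V).hom p)) ∈ K
    have := hK2 p
    rwa [← Scheme.Hom.app_eq_appLE] at this

theorem ker_comp_eq {A B C : Scheme.{u}} (r : A ⟶ B) (φ : B ⟶ C) [QuasiCompact φ] [QuasiCompact r]
    (hr : ∀ O, Function.Injective (r.app O).hom) : (r ≫ φ).ker = φ.ker := by
  refine Scheme.IdealSheafData.ext (funext fun V => ?_)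
  rw [Scheme.Hom.ker_apply, Scheme.Hom.ker_apply, Scheme.Hom.comp_app]
  exact RingHom.ker_comp_of_injective (φ.app V).hom (hr (φ ⁻¹ᵁ V.1))

end Aux

/-- Scheme case. Let f : X → S be separated, let (Y, q, g) be a d-th symmetric product of X over S (q :
(X/S)^d → Y a quotient of the d-fold fibre product by the symmetric group, g : Y → S), let i : Z → X
be a closed immersion and (W, r, g_W) a d-th symmetric product of Z over S, let q((Z/S)^d) ⊆ Y be
the scheme-theoretic image of the composite (Z/S)^d → (X/S)^d → Y, and let m : W → q((Z/S)^d) be the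
morphism through which that composite factors via r. Then m induces an isomorphism on residue fields
at every point of W (trivial residue field extensions); if every positive integer is invertible in
Γ(S, O_S) then m is an isomorphism; and if Z → S is flat then m is a closed immersion. (The
published statement is for X a separated algebraic space over S; this row is the case of schemes in
which both symmetric products exist as schemes, taken as hypotheses, and leaves the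
universal-homeomorphism clause to the general finite-group statement.) -/
theorem result {X Z S Y W : Scheme.{u}} (f : X ⟶ S) [IsSeparated f] (d : ℕ)
    (q : SymProd.fibPow f d ⟶ Y) (g : Y ⟶ S) (hq : SymProd.IsSymProd f d q g)
    (i : Z ⟶ X) [IsClosedImmersion i]
    (r : SymProd.fibPow (i ≫ f) d ⟶ W) (gW : W ⟶ S) (hr : SymProd.IsSymProd (i ≫ f) d r gW)
    (m : W ⟶ (SymProd.fibPowMap (i ≫ f) d f i rfl ≫ q).ker.subscheme)
    (hm : r ≫ m ≫ (SymProd.fibPowMap (i ≫ f) d f i rfl ≫ q).ker.subschemeι =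
      SymProd.fibPowMap (i ≫ f) d f i rfl ≫ q) :
    (∀ w : W, IsIso (m.residueFieldMap w)) ∧
    ((∀ n : ℕ, 0 < n → IsUnit ((n : ℕ) : Γ(S, ⊤))) → IsIso m) ∧
    (Flat (i ≫ f) → IsClosedImmersion m) := by
  classical
  let j := SymProd.fibPowMap (i ≫ f) d f i rfl
  let bZ := WidePullback.base (fun _ : Fin d => i ≫ f)
  haveI : IsClosedImmersion j := Groth.Agent.SGA1QuotLib.isClosedImmersion_fibPowMap f i d
  haveI := hq.isQuot.affine
  haveI := hr.isQuot.affine
  let φ : W ⟶ Y := m ≫ (SymProd.fibPowMap (i ≫ f) d f i rfl ≫ q).ker.subschemeι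
  have hφ : r ≫ φ = j ≫ q := hm
  haveI : IsAffineHom φ := Groth.Agent.SGA1QuotLib.isAffineHom_of_comp hr.isQuot (j ≫ q) φ hφ
  have hbase : r ≫ φ ≫ g = bZ := by
    rw [← Category.assoc, hφ, Category.assoc, hq.over]
    exact SymProd.fibPowMap_base _ _ _ _ _
  have hloc : ∀ y : Y, ∃ (U : S.Opens) (V : Y.Opens), IsAffineOpen U ∧ IsAffineOpen V ∧ V ≤ g ⁻¹ᵁ U ∧ y ∈ V :=
    fun y => by
      obtain ⟨U, hU, hyU, -⟩ := exists_isAffineOpen_mem_and_subset (TopologicalSpace.Opens.mem_top (g.base y))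
      obtain ⟨V, hV, hyV, hVU⟩ := exists_isAffineOpen_mem_and_subset (U := g ⁻¹ᵁ U) hyU
      exact ⟨U, V, hU, hV, hVU, hyV⟩
  have hE : ∀ V : Y.Opens, r ⁻¹ᵁ (φ ⁻¹ᵁ V) = j ⁻¹ᵁ (q ⁻¹ᵁ V) := fun V => by
    rw [← Scheme.Hom.comp_preimage, hφ, Scheme.Hom.comp_preimage]
  have hEb : ∀ (U : S.Opens) (V : Y.Opens), V ≤ g ⁻¹ᵁ U → r ⁻¹ᵁ (φ ⁻¹ᵁ V) ≤ bZ ⁻¹ᵁ U := fun U V h z hz => by
    change bZ.base z ∈ U
    rw [← hbase, Scheme.Hom.comp_apply, Scheme.Hom.comp_apply]
    exact h hz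
  have hinv : ∀ (V : Y.Opens) (σ : Equiv.Perm (Fin d)),
      r ⁻¹ᵁ (φ ⁻¹ᵁ V) ≤ SymProd.permHom (i ≫ f) d σ ⁻¹ᵁ (r ⁻¹ᵁ (φ ⁻¹ᵁ V)) :=
    fun V σ => SGA1.preimage_le_of_inv (SymProd.permActU (i ≫ f) d) r hr.isQuot.inv ⟨σ⟩ _
  -- closed immersion from surjectivity on sections
  have hcl : (∀ (U : S.Opens) (V : Y.Opens), IsAffineOpen U → IsAffineOpen V → V ≤ g ⁻¹ᵁ U →
      Function.Surjective (φ.app V)) → IsIso m := fun hsurj => by
    haveI : IsClosedImmersion φ := by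
      refine (IsZariskiLocalAtTarget.iff_of_iSup_eq_top (P := @IsClosedImmersion)
        (U := fun y : Y => (hloc y).choose_spec.choose) ?_).2 fun y => ?_
      · exact eq_top_iff.2 fun y _ => TopologicalSpace.Opens.mem_iSup.2
          ⟨y, (hloc y).choose_spec.choose_spec.2.2.2⟩
      generalize hV0 : (hloc y).choose_spec.choose = V
      obtain ⟨hU, hV, hVU, -⟩ := (hloc y).choose_spec.choose_spec
      rw [hV0] at hV hVU
      haveI : IsAffine (V : Scheme.{u}) := hV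
      haveI : IsAffine ((φ ⁻¹ᵁ V : W.Opens) : Scheme.{u}) := hV.preimage φ
      refine IsClosedImmersion.of_surjective_of_isAffine (φ ∣_ V) ?_
      have hO : ∀ O, O = V → Function.Surjective (φ.app O) := fun O h => h ▸ hsurj _ _ hU hV hVU
      rw [Scheme.Hom.appTop, morphismRestrict_app]
      exact Function.Surjective.comp
        (g := ConcreteCategory.hom (W.presheaf.map (eqToHom (image_morphismRestrict_preimage φ V ⊤)).op))
        (ConcreteCategory.bijective_of_isIso _).2 (hO _ (Scheme.Opens.ι_image_top V))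
    refine IsClosedImmersion.isIso_of_ker_eq φ _ m rfl ?_
    rw [Scheme.IdealSheafData.ker_subschemeι, ← ker_comp_eq r φ hr.isQuot.injective, hφ]
  refine ⟨fun w => ?_, fun hu => hcl ?_, fun hflat => ?_⟩
  · obtain ⟨x, rfl⟩ := Groth.Agent.SGA1QuotLib.surjective hr.isQuot w
    obtain ⟨U, V, hU, hV, hVU, hyV⟩ := hloc (φ.base (r.base x))
    let φr := (φ.residueFieldMap (r.base x)).hom
    let ψ := (r.residueFieldMap x).hom
    let η := (g.residueFieldMap (φ.base (r.base x))).hom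
    let K : Subring ((SymProd.fibPow (i ≫ f) d).residueField x) := (ψ.comp φr).range
    let ξ := ((SymProd.fibPow (i ≫ f) d).evaluation (r ⁻¹ᵁ (φ ⁻¹ᵁ V)) x hyV).hom
    have hev : ∀ t, ψ (φr ((Y.evaluation V _ hyV).hom t)) =
        ξ ((r.app (φ ⁻¹ᵁ V)).hom ((φ.app V).hom t)) := fun t => by
      have h1 : φr ((Y.evaluation V _ hyV).hom t) =
          (W.evaluation (φ ⁻¹ᵁ V) (r.base x) hyV).hom ((φ.app V).hom t) :=
        Scheme.evaluation_naturality_apply φ _ hyV t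
      rw [h1]
      exact Scheme.evaluation_naturality_apply r x hyV _
    letI := (S.evaluation U (g.base (φ.base (r.base x))) (hVU hyV)).hom.toAlgebra
    have key : ∀ a, ψ ((W.evaluation (φ ⁻¹ᵁ V) (r.base x) hyV).hom a) ∈ K := fun a => by
      rw [show ψ ((W.evaluation (φ ⁻¹ᵁ V) (r.base x) hyV).hom a) = ξ ((r.app (φ ⁻¹ᵁ V)).hom a) from
        Scheme.evaluation_naturality_apply r x hyV a]
      refine fixed_mem f d q g hq i hU hV hVU _ (hE V) (hEb U V hVU) (hinv V)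
        (A := S.residueField (g.base (φ.base (r.base x)))) (fun W' _ _ => inferInstance)
        ((ψ.comp φr).comp η) ξ (fun c => ?_) K (fun c => ⟨η c, rfl⟩) (fun p => ?_) _
        fun σ => Groth.Agent.SGA1QuotLib.act_app hr.isQuot _ ⟨σ⟩ a
      · change ψ (φr (η ((S.evaluation U _ (hVU hyV)).hom c))) = _
        rw [show η ((S.evaluation U _ (hVU hyV)).hom c) = (Y.evaluation V _ hyV).hom ((g.appLE U V hVU).hom c) from
          Groth.Agent.SGA1QuotLib.residueFieldMap_evaluation g hVU _ hyV c, hev]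
        refine congrArg ξ ?_
        change ((g.appLE U V hVU ≫ φ.app V) ≫ r.app _).hom c = (bZ.appLE U _ _).hom c
        simp only [Scheme.Hom.app_eq_appLE, Scheme.Hom.appLE_comp_appLE, hbase]
      · refine ⟨(Y.evaluation V _ hyV).hom p, (hev _).trans ?_⟩
        refine congrArg ξ ?_
        change (φ.app V ≫ r.app _).hom p = (q.app V ≫ (SymProd.fibPowMap (i ≫ f) d f i rfl).appLE _ _ _).hom p
        simp only [Scheme.Hom.app_eq_appLE, Scheme.Hom.appLE_comp_appLE, hφ]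
        rfl
    have hsurj : Function.Surjective φr := fun z => by
      obtain ⟨a, c, -, rfl⟩ := Groth.Agent.SGA1QuotLib.exists_evaluation_div (hV.preimage φ) hyV z
      obtain ⟨a', ha⟩ := key a
      obtain ⟨c', hc'⟩ := key c
      exact ⟨a' / c', by rw [map_div₀, ψ.injective ha, ψ.injective hc']⟩
    refine (ConcreteCategory.isIso_iff_bijective _).2 ⟨(m.residueFieldMap (r.base x)).hom.injective, fun z => ?_⟩
    obtain ⟨c, hc⟩ := hsurj z
    refine ⟨((SymProd.fibPowMap (i ≫ f) d f i rfl ≫ q).ker.subschemeι.residueFieldMap (m.base (r.base x))).hom c, ?_⟩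
    rw [← hc]
    simp only [φr, φ, Scheme.residueFieldMap_comp]
    rfl
  · intro U V hU hV hVU s
    have hE' := hE V
    let s' := (r.app (φ ⁻¹ᵁ V)).hom s
    obtain ⟨y, hy⟩ := j.app_surjective (q ⁻¹ᵁ V) (hV.preimage q)
      (((SymProd.fibPow (i ≫ f) d).presheaf.map (eqToHom hE'.symm).op).hom s')
    cases nonempty_fintype (ULift.{u} (Equiv.Perm (Fin d)))
    obtain ⟨p, hp⟩ := (hq.isQuot.range_iff V (∑ σ, Groth.Agent.SGA1QuotLib.act hq.isQuot V σ y)).2 fun τ => by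
      change Groth.Agent.SGA1QuotLib.act hq.isQuot V τ _ = _
      rw [map_sum]
      refine Fintype.sum_equiv (Equiv.mulRight τ) _ _ fun σ => ?_
      rw [Equiv.coe_mulRight, Groth.Agent.SGA1QuotLib.act_mul]
      rfl
    have hn : IsUnit ((Fintype.card (ULift.{u} (Equiv.Perm (Fin d))) : ℕ) : Γ(Y, V)) := by
      have := (hu (Fintype.card (ULift.{u} (Equiv.Perm (Fin d)))) Fintype.card_pos).map (g.appLE ⊤ V le_top).hom
      rwa [map_natCast] at this
    obtain ⟨v, hv⟩ := hn.exists_left_inv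
    refine ⟨v * p, hr.isQuot.injective _ ?_⟩
    have key : (j.appLE (q ⁻¹ᵁ V) (r ⁻¹ᵁ (φ ⁻¹ᵁ V)) hE'.le).hom y = s' := by
      have e : j.appLE (q ⁻¹ᵁ V) (r ⁻¹ᵁ (φ ⁻¹ᵁ V)) hE'.le =
          j.app (q ⁻¹ᵁ V) ≫ (SymProd.fibPow (i ≫ f) d).presheaf.map (eqToHom hE').op := rfl
      rw [e]
      change ((SymProd.fibPow (i ≫ f) d).presheaf.map (eqToHom hE').op).hom ((j.app (q ⁻¹ᵁ V)).hom y) = s'
      rw [show (j.app (q ⁻¹ᵁ V)).hom y = _ from hy, ← RingHom.comp_apply, ← CommRingCat.hom_comp, ← Functor.map_comp]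
      have h0 : ((eqToHom hE'.symm).op ≫ (eqToHom hE').op) = 𝟙 _ := Subsingleton.elim _ _
      rw [h0, CategoryTheory.Functor.map_id]
      rfl
    have h2 : ∀ σ, (j.appLE (q ⁻¹ᵁ V) (r ⁻¹ᵁ (φ ⁻¹ᵁ V)) hE'.le).hom (Groth.Agent.SGA1QuotLib.act hq.isQuot V σ y) = s' :=
      fun σ => by
        refine (Groth.Agent.SGA1QuotLib.mapHom_comm j _ _ (Groth.Agent.SGA1QuotLib.fibPowMap_perm f i σ.down) _ _
          (hinv V σ.down) y).trans ?_
        rw [key]
        exact Groth.Agent.SGA1QuotLib.act_app hr.isQuot _ σ s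
    have h3 : ∀ t, (r.app (φ ⁻¹ᵁ V)).hom ((φ.app V).hom t) =
        (j.appLE (q ⁻¹ᵁ V) (r ⁻¹ᵁ (φ ⁻¹ᵁ V)) hE'.le).hom ((q.app V).hom t) := fun t => by
      change (φ.app V ≫ r.app _).hom t = (q.app V ≫ j.appLE _ _ _).hom t
      simp only [Scheme.Hom.app_eq_appLE, Scheme.Hom.appLE_comp_appLE, hφ]
    refine (h3 _).trans ?_
    rw [map_mul, map_mul, show (q.app V).hom p = _ from hp, map_sum, Finset.sum_congr rfl (fun σ _ => h2 σ),
      Finset.sum_const, Finset.card_univ, nsmul_eq_mul, ← mul_assoc]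
    have h4 := congrArg (fun t => (j.appLE (q ⁻¹ᵁ V) (r ⁻¹ᵁ (φ ⁻¹ᵁ V)) hE'.le).hom ((q.app V).hom t)) hv
    simp only [map_mul, map_natCast, map_one] at h4
    rw [h4, one_mul]
  · refine (?_ : IsIso m → IsClosedImmersion m) (hcl ?_)
    · intro _; infer_instance
    intro U V hU hV hVU s
    let rm := ((r.app (φ ⁻¹ᵁ V)).hom.comp (φ.app V).hom)
    have h1 : (r.app (φ ⁻¹ᵁ V)).hom s ∈ rm.range := by
      refine fixed_mem f d q g hq i hU hV hVU _ (hE V) (hEb U V hVU) (hinv V)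
        (A := Γ(S, U)) (fun W' hW' h => ?_)
        (bZ.appLE U _ (hEb U V hVU)).hom (RingHom.id _) (fun _ => rfl) rm.range
        (fun c => ⟨(g.appLE U V hVU).hom c, ?_⟩) (fun p => ⟨p, ?_⟩) _
        fun σ => Groth.Agent.SGA1QuotLib.act_app hr.isQuot _ ⟨σ⟩ s
      · letI := ((i ≫ f).appLE U W' h).hom.toAlgebra
        haveI : Module.Flat Γ(S, U) Γ(Z, W') := (i ≫ f).flat_appLE hU hW' h
        infer_instance
      · change ((g.appLE U V hVU ≫ φ.app V) ≫ r.app _).hom c = (bZ.appLE U _ _).hom c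
        simp only [Scheme.Hom.app_eq_appLE, Scheme.Hom.appLE_comp_appLE, hbase]
      · change (φ.app V ≫ r.app _).hom p = (q.app V ≫ (SymProd.fibPowMap (i ≫ f) d f i rfl).appLE _ _ _).hom p
        simp only [Scheme.Hom.app_eq_appLE, Scheme.Hom.appLE_comp_appLE, hφ]
        rfl
    obtain ⟨t, ht⟩ := h1
    exact ⟨t, hr.isQuot.injective _ ht⟩

end Groth.Agent.S13394
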