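import Groth.Statements.S13502
import Groth.Agent.MultMap.Finite

set_option autoImplicit false
universe u
open CategoryTheory CategoryTheory.Limits AlgebraicGeometry Opposite
open Constr

namespace Groth.Agent.MultMap

lemma exists_wideIso {S X : Scheme.{u}} (p : X ⟶ S) (n : ℕ) :
    ∃ e : widePullback S (fun _ : Fin (n + 1) => X) (fun _ => p) ⟶
        pullback p (WidePullback.base (fun _ : Fin n => p)),
      IsIso e ∧ e ≫ pullback.fst _ _ ≫ p = WidePullback.base (fun _ : Fin (n + 1) => p) := by
  let e : widePullback S (fun _ : Fin (n + 1) => X) (fun _ => p) ⟶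
      pullback p (WidePullback.base (fun _ : Fin n => p)) :=
    pullback.lift (WidePullback.π _ 0)
      (WidePullback.lift (WidePullback.base (fun _ : Fin (n + 1) => p))
        (fun j => WidePullback.π (fun _ : Fin (n + 1) => p) j.succ)
        (fun j => WidePullback.π_arrow (fun _ : Fin (n + 1) => p) j.succ))
      ((WidePullback.π_arrow (fun _ : Fin (n + 1) => p) 0).trans (WidePullback.lift_base _ _ _ _).symm)
  let e' : pullback p (WidePullback.base (fun _ : Fin n => p)) ⟶
      widePullback S (fun _ : Fin (n + 1) => X) (fun _ => p) :=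
    WidePullback.lift (pullback.snd _ _ ≫ WidePullback.base (fun _ : Fin n => p))
      (Fin.cons (pullback.fst _ _) fun j => pullback.snd _ _ ≫ WidePullback.π (fun _ : Fin n => p) j)
      (fun j => by
        induction j using Fin.cases with
        | zero => exact pullback.condition
        | succ j => simp)
  have h0 : ∀ j, e' ≫ WidePullback.π (fun _ : Fin (n + 1) => p) j =
      (Fin.cons (pullback.fst _ _) fun j => pullback.snd _ _ ≫ WidePullback.π (fun _ : Fin n => p) j :
        Fin (n + 1) → (pullback p (WidePullback.base (fun _ : Fin n => p)) ⟶ X)) j :=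
    fun j => WidePullback.lift_π _ _ _ _ j
  have hb : e' ≫ WidePullback.base (fun _ : Fin (n + 1) => p) =
      pullback.snd _ _ ≫ WidePullback.base (fun _ : Fin n => p) := WidePullback.lift_base _ _ _ _
  have e1 : e ≫ pullback.fst _ _ = WidePullback.π (fun _ : Fin (n + 1) => p) 0 := pullback.lift_fst _ _ _
  have e2 : ∀ j, e ≫ pullback.snd _ _ ≫ WidePullback.π (fun _ : Fin n => p) j =
      WidePullback.π (fun _ : Fin (n + 1) => p) j.succ := fun j => by
    rw [← Category.assoc]
    exact (congrArg (· ≫ _) (pullback.lift_snd _ _ _)).trans (WidePullback.lift_π _ _ _ _ j)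
  have e3 : e ≫ pullback.snd _ _ ≫ WidePullback.base (fun _ : Fin n => p) =
      WidePullback.base (fun _ : Fin (n + 1) => p) := by
    rw [← Category.assoc]
    exact (congrArg (· ≫ _) (pullback.lift_snd _ _ _)).trans (WidePullback.lift_base _ _ _ _)
  refine ⟨e, ⟨e', WidePullback.hom_ext _ _ _ (fun j => ?_) ?_, pullback.hom_ext ?_ (WidePullback.hom_ext _ _ _ (fun j => ?_) ?_)⟩, ?_⟩
  · rw [Category.assoc, h0, Category.id_comp]
    induction j using Fin.cases with
    | zero => rw [Fin.cons_zero, e1]
    | succ j => rw [Fin.cons_succ, e2]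
  · rw [Category.assoc, hb, e3, Category.id_comp]
  · rw [Category.assoc, e1, h0, Fin.cons_zero, Category.id_comp]
  · simp only [Category.assoc, e2, h0, Fin.cons_succ, Category.id_comp]
  · simp only [Category.assoc, e3, hb, Category.id_comp]
  · rw [← Category.assoc, e1]
    exact WidePullback.π_arrow (fun _ : Fin (n + 1) => p) 0

end Groth.Agent.MultMap

namespace Groth.Agent.S13502

/-- For a scheme S and n ≥ 0 there exists a finite surjective S-morphism from the n-fold fibre product
P^1_S ×_S ⋯ ×_S P^1_S to P^n_S (existence of such a morphism only; the published statement names the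
morphism sending ((x_1 : y_1), …, (x_n : y_n)) to the coefficients (F_0 : ⋯ : F_n) of the product of
the x_i t + y_i). (The published statement is over an affine base Spec A; this row allows any base
scheme S: the morphism is defined over the integers and base-changed, and finiteness and
surjectivity are stable under base change.) -/
theorem result (S : Scheme.{u}) (n : ℕ) :
    ∃ φ : widePullback S (fun _ : Fin n => CohB1.ProjSpaceOver 1 S) (fun _ => CohB1.ProjSpaceOver.toBase 1 S) ⟶
        CohB1.ProjSpaceOver n S,
      IsFinite φ ∧ Surjective φ ∧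
        φ ≫ CohB1.ProjSpaceOver.toBase n S = WidePullback.base (fun _ => CohB1.ProjSpaceOver.toBase 1 S) := by
  induction n with
  | zero =>
    have := MultMap.isIso_toBase_zero S
    let b := WidePullback.base (fun _ : Fin 0 => CohB1.ProjSpaceOver.toBase 1 S)
    have : IsIso b := ⟨WidePullback.lift (𝟙 S) (fun j => j.elim0) (fun j => j.elim0),
      WidePullback.hom_ext _ _ _ (fun j => j.elim0) (by rw [Category.assoc, WidePullback.lift_base, Category.comp_id, Category.id_comp]),
      WidePullback.lift_base _ _ _ _⟩
    refine ⟨b ≫ inv (CohB1.ProjSpaceOver.toBase 0 S), inferInstance, inferInstance, ?_⟩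
    rw [Category.assoc, IsIso.inv_hom_id, Category.comp_id]
  | succ n ih =>
    obtain ⟨φ, hφ, hφ', hφb⟩ := ih
    obtain ⟨μ, ⟨hμ, hμ'⟩, hμb⟩ := MultMap.exists_mult n S
    obtain ⟨e, he, he'⟩ := MultMap.exists_wideIso (CohB1.ProjSpaceOver.toBase 1 S) n
    let ρ : pullback (CohB1.ProjSpaceOver.toBase 1 S) (WidePullback.base (fun _ : Fin n => CohB1.ProjSpaceOver.toBase 1 S)) ⟶
        pullback (CohB1.ProjSpaceOver.toBase 1 S) (CohB1.ProjSpaceOver.toBase n S) :=
      pullback.map _ _ _ _ (𝟙 _) φ (𝟙 _) (by simp) (by rw [Category.comp_id]; exact hφb.symm)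
    have hρ : IsPullback ρ (pullback.snd _ _) (pullback.snd _ _) φ := by
      refine IsPullback.of_right ?_ (pullback.lift_snd _ _ _) (IsPullback.of_hasPullback _ _)
      simp only [ρ, pullback.lift_fst, Category.comp_id, hφb]
      exact IsPullback.of_hasPullback _ _
    have : IsFinite ρ := MorphismProperty.of_isPullback hρ.flip hφ
    have : Surjective ρ := MorphismProperty.of_isPullback hρ.flip hφ'
    refine ⟨(e ≫ ρ) ≫ μ, inferInstance, inferInstance, ?_⟩
    rw [Category.assoc, hμb, Category.assoc, ← Category.assoc ρ]
    simp only [ρ, pullback.lift_fst, Category.comp_id]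
    exact he'

end Groth.Agent.S13502
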