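import Groth.Statements.S13395
import Mathlib
import Groth.Agent.S13502
import Groth.Agent.SGA1QuotLib.BaseChange
import Groth.Agent.SGA1QuotLib.BaseChangeUnit
import Groth.Agent.SGA1QuotLib.SymFlat
-- import your own Groth.Agent.* helpers here

set_option autoImplicit false
universe u
open CategoryTheory CategoryTheory.Limits AlgebraicGeometry
open ZeroCyc

namespace Groth.Agent.S13395

section Aux
open Groth.Agent.SGA1QuotLib

set_option linter.style.haveILetI false

theorem flat_base {U V : Scheme.{u}} (g : U ⟶ V) [Flat g] (n : ℕ) :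
    Flat (WidePullback.base (fun _ : Fin n => g)) := by
  induction n with
  | zero =>
    have : IsIso (WidePullback.base (fun _ : Fin 0 => g)) := by
      refine ⟨WidePullback.lift (𝟙 V) (fun j => Fin.elim0 j) (fun j => Fin.elim0 j), ?_, WidePullback.lift_base _ _ _ _⟩
      refine WidePullback.hom_ext (fun _ : Fin 0 => g) _ _ (fun j => Fin.elim0 j) ?_
      rw [Category.assoc, WidePullback.lift_base, Category.id_comp, Category.comp_id]
    infer_instance
  | succ n ih =>
    obtain ⟨e, he, h⟩ := Groth.Agent.MultMap.exists_wideIso g n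
    rw [← h]
    haveI : Flat (pullback.fst g (WidePullback.base (fun _ : Fin n => g))) :=
      MorphismProperty.of_isPullback (P := (@Flat : MorphismProperty Scheme.{u})) (IsPullback.of_hasPullback g _).flip ih
    infer_instance

theorem reindex {X Y : Scheme.{u}} {G K : Type u} [Group G] [Group K] {θ : G →* Aut X} {p : X ⟶ Y}
    (h : SGA1.IsQuot θ p) (ρ : K →* Aut X) (e : K ≃* G) (he : ∀ k, ρ k = θ (e k)) :
    SGA1.IsQuot ρ p := by
  have hinv : ∀ k, (ρ k).hom ≫ p = p := fun k => by rw [he]; exact h.inv _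
  refine ⟨h.affine, hinv, h.injective, fun U s => (h.range_iff U s).trans ⟨fun H k => ?_, fun H g => ?_⟩⟩
  · simp only [he]; exact H (e k)
  · have := H (e.symm g)
    simp only [he, e.apply_symm_apply] at this
    exact this

theorem map_fst {W X Y Z S T : Scheme.{u}} (f₁ : W ⟶ S) (f₂ : X ⟶ S) (g₁ : Y ⟶ T) (g₂ : Z ⟶ T)
    (i₁ : W ⟶ Y) (i₂ : X ⟶ Z) (i₃ : S ⟶ T) (h₁ : f₁ ≫ i₃ = i₁ ≫ g₁) (h₂ : f₂ ≫ i₃ = i₂ ≫ g₂) :
    pullback.map f₁ f₂ g₁ g₂ i₁ i₂ i₃ h₁ h₂ ≫ pullback.fst g₁ g₂ = pullback.fst f₁ f₂ ≫ i₁ :=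
  pullback.lift_fst _ _ _

theorem map_snd {W X Y Z S T : Scheme.{u}} (f₁ : W ⟶ S) (f₂ : X ⟶ S) (g₁ : Y ⟶ T) (g₂ : Z ⟶ T)
    (i₁ : W ⟶ Y) (i₂ : X ⟶ Z) (i₃ : S ⟶ T) (h₁ : f₁ ≫ i₃ = i₁ ≫ g₁) (h₂ : f₂ ≫ i₃ = i₂ ≫ g₂) :
    pullback.map f₁ f₂ g₁ g₂ i₁ i₂ i₃ h₁ h₂ ≫ pullback.snd g₁ g₂ = pullback.snd f₁ f₂ ≫ i₂ :=
  pullback.lift_snd _ _ _


end Aux

/-- Scheme case. Let f : X → S and g : Z → S be separated morphisms and suppose that either both are
flat or every positive integer is invertible in Γ(S, O_S) (S is a scheme over the rationals). Let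
(P, q_X) be a d-th symmetric product of X over S and (Q, q_Z) an e-th symmetric product of Z over S,
i.e. quotients of the fibre powers (X/S)^d and (Z/S)^e by the symmetric groups permuting the
factors, and let S_d × S_e act on (X/S)^d ×_S (Z/S)^e factorwise. Then q_X × q_Z : (X/S)^d ×_S
(Z/S)^e → P ×_S Q is a quotient by S_d × S_e (affine, invariant, with sections of P ×_S Q the
invariant sections): the mixed symmetric product Sym^{d,e}(X, Z) is Sym^d(X/S) ×_S Sym^e(Z/S). (The
published statement is for separated algebraic spaces, where these quotients always exist, and adds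
the identification with Γ^d(X/S) ×_S Γ^e(Z/S); this row is the scheme case with the two symmetric
products taken as hypotheses.) -/
theorem result {X Z S P Q : Scheme.{u}} (f : X ⟶ S) (g : Z ⟶ S)
    [IsSeparated f] [IsSeparated g] (d e : ℕ)
    (h : (Flat f ∧ Flat g) ∨ ∀ n : ℕ, 0 < n → IsUnit ((n : ℕ) : Γ(S, ⊤)))
    (qX : SymProd.fibPow f d ⟶ P) (pP : P ⟶ S) (hqX : SymProd.IsSymProd f d qX pP)
    (qZ : SymProd.fibPow g e ⟶ Q) (pQ : Q ⟶ S) (hqZ : SymProd.IsSymProd g e qZ pQ)
    (ρ : ULift.{u} (Equiv.Perm (Fin d) × Equiv.Perm (Fin e)) →*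
      Aut (pullback (WidePullback.base fun _ : Fin d => f) (WidePullback.base fun _ : Fin e => g)))
    (hρ : ∀ σ, (ρ σ).hom ≫ pullback.fst (WidePullback.base fun _ : Fin d => f) (WidePullback.base fun _ : Fin e => g) =
        pullback.fst (WidePullback.base fun _ : Fin d => f) (WidePullback.base fun _ : Fin e => g) ≫
          SymProd.permHom f d σ.down.1 ∧
      (ρ σ).hom ≫ pullback.snd (WidePullback.base fun _ : Fin d => f) (WidePullback.base fun _ : Fin e => g) =
        pullback.snd (WidePullback.base fun _ : Fin d => f) (WidePullback.base fun _ : Fin e => g) ≫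
          SymProd.permHom g e σ.down.2) :
    SGA1.IsQuot ρ (pullback.map (WidePullback.base fun _ : Fin d => f) (WidePullback.base fun _ : Fin e => g) pP pQ
      qX qZ (𝟙 S) ((Category.comp_id _).trans hqX.over.symm) ((Category.comp_id _).trans hqZ.over.symm)) := by
  let bA := WidePullback.base (fun _ : Fin d => f)
  let bB := WidePullback.base (fun _ : Fin e => g)
  let π₁ : pullback bA bB ⟶ pullback pP bB :=
    pullback.map bA bB pP bB qX (𝟙 _) (𝟙 S) ((Category.comp_id _).trans hqX.over.symm)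
      ((Category.comp_id _).trans (Category.id_comp _).symm)
  let π₂ : pullback pP bB ⟶ pullback pP pQ :=
    pullback.map pP bB pP pQ (𝟙 _) qZ (𝟙 S) ((Category.comp_id _).trans (Category.id_comp _).symm)
      ((Category.comp_id _).trans hqZ.over.symm)
  have h12 : pullback.map bA bB pP pQ qX qZ (𝟙 S) ((Category.comp_id _).trans hqX.over.symm)
      ((Category.comp_id _).trans hqZ.over.symm) = π₁ ≫ π₂ := by
    apply pullback.hom_ext
    · rw [map_fst, Category.assoc, map_fst, Category.comp_id, map_fst]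
    · rw [map_snd, Category.assoc, map_snd, reassoc_of% (map_snd bA bB pP bB qX (𝟙 _) (𝟙 S)
        ((Category.comp_id _).trans hqX.over.symm) ((Category.comp_id _).trans (Category.id_comp _).symm))]
  rw [h12]
  let toK : ULift.{u} (Equiv.Perm (Fin d)) × ULift.{u} (Equiv.Perm (Fin e)) ≃*
      ULift.{u} (Equiv.Perm (Fin d) × Equiv.Perm (Fin e)) :=
    (MulEquiv.prodCongr MulEquiv.ulift MulEquiv.ulift).trans MulEquiv.ulift.symm
  let θ : ULift.{u} (Equiv.Perm (Fin d)) × ULift.{u} (Equiv.Perm (Fin e)) →* Aut (pullback bA bB) :=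
    ρ.comp toK.toMonoidHom
  let ρ₁ : ULift.{u} (Equiv.Perm (Fin d)) →* Aut (pullback bA bB) := θ.comp (MonoidHom.inl _ _)
  let σ₂ : ULift.{u} (Equiv.Perm (Fin e)) → (pullback pP bB ≅ pullback pP bB) := fun t =>
    asIso (pullback.map pP bB pP bB (𝟙 _) (SymProd.permActU g e t).hom (𝟙 S)
      ((Category.comp_id _).trans (Category.id_comp _).symm)
      (by rw [Category.comp_id, SymProd.permActU_hom, SymProd.permHom_base]))
  let σ : ULift.{u} (Equiv.Perm (Fin e)) →* Aut (pullback pP bB) :=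
    { toFun := σ₂
      map_one' := Aut.ext (by
        change (σ₂ 1).hom = 𝟙 _
        apply pullback.hom_ext
        · simp only [σ₂, asIso_hom, map_fst, Category.comp_id, Category.id_comp]
        · simp only [σ₂, asIso_hom, map_snd, Category.id_comp, map_one]
          exact Category.comp_id _)
      map_mul' := fun t t' => Aut.ext (by
        change (σ₂ (t * t')).hom = (σ₂ t').hom ≫ (σ₂ t).hom
        apply pullback.hom_ext
        · simp only [σ₂, asIso_hom, Category.assoc, map_fst, Category.comp_id]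
        · simp only [σ₂, asIso_hom, Category.assoc, map_snd]
          rw [reassoc_of% (map_snd pP bB pP bB (𝟙 _) (SymProd.permActU g e t').hom (𝟙 S) _ _),
            map_mul]
          rfl) }
  have hσ₁ : ∀ t, (σ t).hom ≫ pullback.fst pP bB = pullback.fst pP bB := fun t => by
    simp only [σ, MonoidHom.coe_mk, OneHom.coe_mk, σ₂, asIso_hom, map_fst, Category.comp_id]
  have hσ₂ : ∀ t, (σ t).hom ≫ pullback.snd pP bB = pullback.snd pP bB ≫ (SymProd.permActU g e t).hom :=
    fun t => by simp only [σ, MonoidHom.coe_mk, OneHom.coe_mk, σ₂, asIso_hom, map_snd]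
  have sq₁ : IsPullback (pullback.fst bA bB) π₁ qX (pullback.fst pP bB) := by
    refine (IsPullback.of_right ?_ ?_ (IsPullback.of_hasPullback pP bB).flip).flip
    · simp only [π₁, map_snd, Category.comp_id]
      rw [hqX.over]
      exact (IsPullback.of_hasPullback bA bB).flip
    · exact map_fst _ _ _ _ _ _ _ _ _
  have sq₂ : IsPullback (pullback.snd pP bB) π₂ qZ (pullback.snd pP pQ) := by
    refine (IsPullback.of_right ?_ ?_ (IsPullback.of_hasPullback pP pQ)).flip
    · simp only [π₂, map_fst, Category.comp_id]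
      rw [hqZ.over]
      exact IsPullback.of_hasPullback pP bB
    · exact map_snd _ _ _ _ _ _ _ _ _
  have hρ₁a : ∀ s, (ρ₁ s).hom ≫ pullback.fst bA bB = pullback.fst bA bB ≫ (SymProd.permActU f d s).hom :=
    fun s => (hρ (toK (s, 1))).1
  have hρ₁b : ∀ s, (ρ₁ s).hom ≫ π₁ = π₁ := fun s => by
    apply pullback.hom_ext
    · simp only [π₁, Category.assoc, map_fst]
      rw [reassoc_of% (hρ₁a s), hqX.isQuot.inv s]
    · simp only [π₁, Category.assoc, map_snd, Category.comp_id]
      refine ((hρ (toK (s, 1))).2).trans ?_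
      rw [show (toK (s, 1)).down.2 = 1 from rfl, SymProd.permHom_one, Category.comp_id]
  have hθ : ∀ t, (θ (1, t)).hom ≫ π₁ = π₁ ≫ (σ t).hom := fun t => by
    have e1 : (θ (1, t)).hom ≫ pullback.fst bA bB = pullback.fst bA bB := by
      refine ((hρ (toK (1, t))).1).trans ?_
      rw [show (toK (1, t)).down.1 = 1 from rfl, SymProd.permHom_one, Category.comp_id]
    have e2 : (θ (1, t)).hom ≫ pullback.snd bA bB = pullback.snd bA bB ≫ (SymProd.permActU g e t).hom :=
      (hρ (toK (1, t))).2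
    apply pullback.hom_ext
    · simp only [π₁, Category.assoc, hσ₁, map_fst]
      rw [reassoc_of% e1]
    · simp only [π₁, Category.assoc, hσ₂, map_snd, Category.comp_id]
      rw [reassoc_of% (map_snd bA bB pP bB qX (𝟙 _) (𝟙 S) _ _)]
      exact e2
  have hσπ₂ : ∀ t, (σ t).hom ≫ π₂ = π₂ := fun t => by
    apply pullback.hom_ext
    · simp only [π₂, Category.assoc, map_fst, Category.comp_id, hσ₁]
    · simp only [π₂, Category.assoc, map_snd]
      rw [reassoc_of% (hσ₂ t), hqZ.isQuot.inv t]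
  have hq₁₂ : SGA1.IsQuot ρ₁ π₁ ∧ SGA1.IsQuot σ π₂ := by
    rcases h with ⟨hf, hg⟩ | hu
    · haveI := flat_base g e
      haveI := Groth.Agent.SGA1QuotLib.flat_of_isSymProd f d qX pP hqX
      exact ⟨Groth.Agent.SGA1QuotLib.isQuot_of_isPullback_of_flat hqX.isQuot (pullback.fst pP bB) _ π₁ sq₁ ρ₁ hρ₁a hρ₁b,
        Groth.Agent.SGA1QuotLib.isQuot_of_isPullback_of_flat hqZ.isQuot (pullback.snd pP pQ) _ π₂ sq₂ σ hσ₂ hσπ₂⟩
    · have hunit : ∀ {Y : Scheme.{u}} (p : Y ⟶ S) (n : ℕ), 0 < n → IsUnit ((n : ℕ) : Γ(Y, ⊤)) :=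
        fun p n hn => by
          have := (hu n hn).map p.appTop.hom
          rwa [map_natCast] at this
      exact ⟨Groth.Agent.SGA1QuotLib.isQuot_of_isPullback_of_isUnit hqX.isQuot (hunit pP _ Nat.card_pos) (pullback.fst pP bB) _ π₁
          sq₁ ρ₁ hρ₁a hρ₁b,
        Groth.Agent.SGA1QuotLib.isQuot_of_isPullback_of_isUnit hqZ.isQuot (hunit pQ _ Nat.card_pos) (pullback.snd pP pQ) _ π₂
          sq₂ σ hσ₂ hσπ₂⟩
  exact reindex (Groth.Agent.SGA1QuotLib.isQuot_comp_prod (θ := θ) (fun _ => rfl) hq₁₂.1 hq₁₂.2 hθ) ρ toK.symm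
    (fun k => congrArg ρ (toK.apply_symm_apply k).symm)

end Groth.Agent.S13395
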