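import Groth.Statements.S13399
import Groth.Agent.ZeroCyc.Flat
import Groth.Agent.ZeroCyc.Iversen
-- import your own Groth.Agent.* helpers here

set_option autoImplicit false
universe u
open scoped TensorProduct
open ZeroCyc

namespace Groth.Agent.S13399

/-- Let A be a commutative ring, B an A-algebra and e ≥ 0; let (C_{e+1}, γ_{e+1}) and (C_e, γ_e) be the
divided power algebras Γ^{e+1}_A(B) and Γ^e_A(B) of B with their universal multiplicative laws of
degrees e + 1 and e (every multiplicative law of that degree out of B factors uniquely through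
them), and let ω : Γ^{e+1}_A(B) ⊗_A B → Γ^e_A(B) ⊗_A B be Iversen's canonical algebra homomorphism,
taken here as data characterised by ω(γ_{e+1}(x) ⊗ y) = γ_e(x) ⊗ x·y for all x, y ∈ S ⊗_A B and
every base change A → S. Then ω is surjective. -/
theorem result {A B Cd Ce : Type u} [CommRing A] [CommRing B] [Algebra A B]
    [CommRing Cd] [Algebra A Cd] [CommRing Ce] [Algebra A Ce] (e : ℕ)
    (γd : PolLaw.MulLaw A B Cd (e + 1)) (hγd : PolLaw.IsGammaD γd)
    (γe : PolLaw.MulLaw A B Ce e) (hγe : PolLaw.IsGammaD γe)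
    (ω : Cd ⊗[A] B →ₐ[A] Ce ⊗[A] B)
    (hω : ∀ (S : Type u) [CommSemiring S] [Algebra A S] (x y : S ⊗[A] B),
      ω.toLinearMap.lTensor S
        ((Algebra.TensorProduct.includeLeft : Cd →ₐ[A] Cd ⊗[A] B).toLinearMap.lTensor S (γd.law.toFun' S x) *
          (Algebra.TensorProduct.includeRight : B →ₐ[A] Cd ⊗[A] B).toLinearMap.lTensor S y) =
      (Algebra.TensorProduct.includeLeft : Ce →ₐ[A] Ce ⊗[A] B).toLinearMap.lTensor S (γe.law.toFun' S x) *
        (Algebra.TensorProduct.includeRight : B →ₐ[A] Ce ⊗[A] B).toLinearMap.lTensor S (x * y)) :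
    Function.Surjective ω := by
  intro w
  suffices h : ∀ c : Ce, c ⊗ₜ[A] (1 : B) ∈ ω.range by
    induction w using TensorProduct.induction_on with
    | zero => exact ⟨0, map_zero ω⟩
    | add a b ha hb =>
      obtain ⟨u, rfl⟩ := ha
      obtain ⟨v, rfl⟩ := hb
      exact ⟨u + v, map_add ω u v⟩
    | tmul c b =>
      have h1 : (1 : Ce) ⊗ₜ[A] b ∈ ω.range := by
        refine ⟨(1 : Cd) ⊗ₜ[A] b, ?_⟩
        have h0 := hω A 1 ((1 : A) ⊗ₜ[A] b)
        rw [one_mul, (γd.mult A).1, (γe.mult A).1] at h0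
        simp only [← ZeroCyc.lT_eq, map_one, one_mul, ZeroCyc.lT_tmul,
          Algebra.TensorProduct.includeRight_apply] at h0
        have := congr_arg (TensorProduct.lid A _) h0
        simpa using this
      have hmem := mul_mem (h c) h1
      rw [Algebra.TensorProduct.tmul_mul_tmul, mul_one, one_mul] at hmem
      exact hmem
  intro c
  have hc : c ∈ ZeroCyc.coefSub γe := (ZeroCyc.coefSub_eq_top hγe).symm ▸ Submodule.mem_top
  suffices hle : ZeroCyc.coefSub γe ≤ (Subalgebra.toSubmodule ω.range).comap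
      (Algebra.TensorProduct.includeLeft : Ce →ₐ[A] Ce ⊗[A] B).toLinearMap from hle hc
  rw [ZeroCyc.coefSub, Submodule.span_le]
  rintro y ⟨R, _, _, _, φ, x, rfl⟩
  show (Algebra.TensorProduct.includeLeft : Ce →ₐ[A] Ce ⊗[A] B).toLinearMap _ ∈ ω.range
  let S := Polynomial R
  let t : S ⊗[A] B := ZeroCyc.rT B (IsScalarTower.toAlgHom A R S) x
  let x' : S ⊗[A] B := 1 + (Polynomial.X : S) • t
  let : CommRing (S ⊗[A] B) := inferInstance
  let y' : S ⊗[A] B := ∑ i ∈ Finset.range (e + 1), (-((Polynomial.X : S) • t)) ^ i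
  have hxy : x' * y' = 1 + (Polynomial.X : S) ^ (e + 1) • (-((-t) ^ (e + 1))) := by
    have h1 := mul_neg_geom_sum (-((Polynomial.X : S) • t)) (e + 1)
    rw [sub_neg_eq_add] at h1
    rw [show x' * y' = _ from h1, ← smul_neg, smul_pow, smul_neg, sub_eq_add_neg]
  have h2 := hω S x' y'
  rw [hxy] at h2
  have h3 := congr_arg (ZeroCyc.cf (ZeroCyc.topFun φ e)) h2
  rw [ZeroCyc.cf_lTensor] at h3
  refine ⟨_, h3.trans ?_⟩
  simp only [← ZeroCyc.lT_eq]
  rw [map_add, map_one, map_smul, mul_add, mul_one, mul_smul_comm, map_add,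
    ZeroCyc.cf_topFun_smul, add_zero, ZeroCyc.lT_eq, ZeroCyc.cf_lTensor,
    ZeroCyc.cf_top_one_add γe φ x]

end Groth.Agent.S13399
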