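import Groth.Statements.S1340
import Mathlib
-- import your own Groth.Agent.* helpers here

set_option autoImplicit false
universe u
open FlatMor

open AlgebraicGeometry CategoryTheory Limits Opposite TopologicalSpace
namespace Groth.Agent.S1340

open AlgebraicGeometry CategoryTheory Limits in
/-- Stein factorization, universally closed case: let f : X ⟶ S be universally closed and
quasi-separated, and let X ⟶ X' ⟶ S be its factorization through the normalization X' of S in X.
Then the canonical morphism X ⟶ X' identifies the structure sheaf of X' with the pushforward of the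
structure sheaf of X: for every open U of X' the induced map from O_{X'}(U) to the sections of O_X
over the inverse image of U is an isomorphism. (That X ⟶ X' is surjective and universally closed and
that X' ⟶ S is integral are separate facts not restated here.) -/
theorem result {X S : Scheme.{u}} (f : X ⟶ S) [UniversallyClosed f] [QuasiSeparated f]
    (U : f.normalization.Opens) : IsIso (f.toNormalization.app U) := by
  -- affine opens of the form `π ⁻¹ U₀`
  have hA : ∀ U₀ : S.Opens, IsAffineOpen U₀ →
      IsIso (f.toNormalization.app (f.fromNormalization ⁻¹ᵁ U₀)) := by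
    intro U₀ hU
    letI := (f.app U₀).hom.toAlgebra
    have hint : (f.app U₀).hom.IsIntegral := by
      have : IsAffine U₀ := hU
      have h := isIntegral_appTop_of_universallyClosed (f ∣_ U₀)
      rw [morphismRestrict_appTop] at h
      have hi := RingHom.isIntegral_respectsIso
      have e1 : U₀.ι ''ᵁ ⊤ = U₀ := by simp
      have h' : (f.app (U₀.ι ''ᵁ ⊤)).hom.IsIntegral := by
        have := hi.cancel_right_isIso (f.app (U₀.ι ''ᵁ ⊤))
          (X.presheaf.map (eqToHom (image_morphismRestrict_preimage f U₀ ⊤)).op)
        exact this.1 h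
      rwa [e1] at h'
    have htop : integralClosure Γ(S, U₀) Γ(X, f ⁻¹ᵁ U₀) = ⊤ :=
      integralClosure_eq_top_iff.2 (algebraMap_isIntegral_iff.1 hint)
    have : IsIso (CommRingCat.ofHom (integralClosure Γ(S, U₀) Γ(X, f ⁻¹ᵁ U₀)).val.toRingHom) := by
      rw [ConcreteCategory.isIso_iff_bijective]
      exact ⟨Subtype.val_injective, fun x => ⟨⟨x, htop ▸ trivial⟩, rfl⟩⟩
    have h2 := f.normalizationObjIso_hom_val hU
    have : IsIso (f.toNormalization.appLE (f.fromNormalization ⁻¹ᵁ U₀) (f ⁻¹ᵁ U₀)
        (by simp [← Scheme.Hom.comp_preimage])) := by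
      rw [← h2]; infer_instance
    rw [Scheme.Hom.app_eq_appLE]
    convert this using 2 <;> simp [← Scheme.Hom.comp_preimage]
  -- basic opens of these
  have hB : ∀ (U₀ : S.affineOpens) (r : Γ(f.normalization, f.fromNormalization ⁻¹ᵁ U₀.1)),
      IsIso (f.toNormalization.app (f.normalization.basicOpen r)) := by
    intro U₀ r
    have hV : IsAffineOpen (f.fromNormalization ⁻¹ᵁ U₀.1) := U₀.2.preimage _
    have hiso := hA U₀.1 U₀.2
    have hbij := (ConcreteCategory.isIso_iff_bijective _).1 hiso
    have : QuasiSeparated (f.toNormalization ≫ f.fromNormalization) := by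
      rw [Scheme.Hom.toNormalization_fromNormalization]; infer_instance
    have : QuasiSeparated f.toNormalization := .of_comp _ f.fromNormalization
    let W := f.toNormalization ⁻¹ᵁ f.fromNormalization ⁻¹ᵁ U₀.1
    let s : Γ(X, W) := f.toNormalization.app _ r
    have hWc : IsCompact (W : Set X) := f.toNormalization.isCompact_preimage hV.isCompact
    have hWs : IsQuasiSeparated (W : Set X) :=
      f.toNormalization.isQuasiSeparated_preimage hV.isQuasiSeparated
    have hD : f.toNormalization ⁻¹ᵁ f.normalization.basicOpen r = X.basicOpen s :=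
      f.toNormalization.preimage_basicOpen r
    let res : Γ(f.normalization, f.fromNormalization ⁻¹ᵁ U₀.1) →+*
        Γ(f.normalization, f.normalization.basicOpen r) :=
      (f.normalization.presheaf.map (homOfLE (f.normalization.basicOpen_le r)).op).hom
    let res' : Γ(X, W) →+* Γ(X, f.toNormalization ⁻¹ᵁ f.normalization.basicOpen r) :=
      (X.presheaf.map (homOfLE (f.toNormalization.preimage_mono
        (f.normalization.basicOpen_le r))).op).hom
    have hsq : ∀ c, f.toNormalization.app (f.normalization.basicOpen r) (res c) =
        res' (f.toNormalization.app _ c) :=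
      fun c => ConcreteCategory.congr_hom (f.toNormalization.naturality
        (homOfLE (f.normalization.basicOpen_le r)).op) c
    letI := res.toAlgebra
    have hloc : IsLocalization.Away r Γ(f.normalization, f.normalization.basicOpen r) :=
      hV.isLocalization_basicOpen r
    letI := res'.toAlgebra
    have hloc' : IsLocalization.Away s Γ(X, f.toNormalization ⁻¹ᵁ f.normalization.basicOpen r) := by
      have key : ∀ (O : X.Opens) (hO : O = X.basicOpen s) (hle : O ≤ W),
          letI := (X.presheaf.map (homOfLE hle).op).hom.toAlgebra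
          IsLocalization.Away s Γ(X, O) := by
        rintro _ rfl hle
        exact isLocalization_basicOpen_of_qcqs hWc hWs s
      exact key _ hD _
    rw [ConcreteCategory.isIso_iff_bijective]
    refine ⟨(injective_iff_map_eq_zero _).2 fun z hz => ?_, fun y => ?_⟩
    · obtain ⟨⟨c, t⟩, hc⟩ := IsLocalization.surj (Submonoid.powers r) z
      have h0 : res' (f.toNormalization.app _ c) = 0 := by
        rw [← hsq, show res c = z * res t from hc.symm, map_mul, hz, zero_mul]
      obtain ⟨⟨_, n, rfl⟩, hn⟩ := (IsLocalization.map_eq_zero_iff (Submonoid.powers s)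
        Γ(X, f.toNormalization ⁻¹ᵁ f.normalization.basicOpen r) _).1 h0
      have h1 : r ^ n * c = 0 := hbij.1 (by rw [map_mul, map_pow, map_zero]; exact hn)
      have h2 : res c = 0 := (IsLocalization.map_eq_zero_iff (Submonoid.powers r)
        Γ(f.normalization, f.normalization.basicOpen r) c).2 ⟨⟨r ^ n, n, rfl⟩, h1⟩
      rw [show res c = z * res t from hc.symm] at h2
      exact (IsLocalization.map_units _ t).mul_left_eq_zero.1 h2
    · obtain ⟨⟨a, ⟨_, n, rfl⟩⟩, ha⟩ := IsLocalization.surj (Submonoid.powers s) y
      obtain ⟨c, rfl⟩ := hbij.2 a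
      refine ⟨IsLocalization.mk' _ c (⟨r ^ n, n, rfl⟩ : Submonoid.powers r), ?_⟩
      refine (IsLocalization.map_units _ (⟨s ^ n, n, rfl⟩ : Submonoid.powers s)).mul_right_cancel ?_
      refine Eq.trans ?_ ha.symm
      show _ * res' (s ^ n) = res' _
      rw [show res' (s ^ n) = f.toNormalization.app _ (res (r ^ n)) by
        rw [hsq]; simp only [map_pow, s], ← map_mul, ← hsq]
      congr 1
      exact IsLocalization.mk'_spec _ c _
  -- conclude by the sheaf property
  let B : (Σ U₀ : S.affineOpens, Γ(f.normalization, f.fromNormalization ⁻¹ᵁ U₀.1)) →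
      f.normalization.Opens := fun i => f.normalization.basicOpen i.2
  have hbasis : Opens.IsBasis (Set.range B) := by
    rw [Opens.isBasis_iff_nbhd]
    intro O x hx
    obtain ⟨U₀, hU, hxU, -⟩ := exists_isAffineOpen_mem_and_subset
      (X := S) (x := f.fromNormalization.base x) (U := ⊤) trivial
    obtain ⟨r, hr, hxr⟩ := (hU.preimage f.fromNormalization).exists_basicOpen_le ⟨x, hx⟩ hxU
    exact ⟨_, ⟨⟨⟨U₀, hU⟩, r⟩, rfl⟩, hxr, hr⟩
  let α : f.normalization.sheaf ⟶
      (TopCat.Sheaf.pushforward CommRingCat f.toNormalization.base).obj X.sheaf :=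
    ⟨f.toNormalization.c⟩
  have : IsIso α := TopCat.Sheaf.isIso_iff_isIso_basis hbasis fun i => hB i.1 i.2
  have h : IsIso α.hom := inferInstanceAs (IsIso ((TopCat.Sheaf.forget _ _).map α))
  exact ((NatTrans.isIso_iff_isIso_app α.hom).1 h (op U) :)

end Groth.Agent.S1340
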