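import Groth.Statements.S13402
import Mathlib


set_option autoImplicit false
universe u v w
open Hopf

namespace Groth.Agent.S13402
open TensorProduct WithConv

theorem isEpi (k : Type u) [Field k] (A : Type v) (B : Type w)
    [CommRing A] [HopfAlgebra k A] [CommRing B] [HopfAlgebra k B] (f : B →ₐc[k] A)
    [Algebra B A] (hf : ∀ b, algebraMap B A b = f b) [IsScalarTower k B A]
    (hker : Ideal.map f (RingHom.ker (Bialgebra.counitAlgHom k B)) = RingHom.ker (Bialgebra.counitAlgHom k A)) :
    Algebra.IsEpi B A := by
  let ι₁ : A →ₐ[k] A ⊗[B] A := (Algebra.TensorProduct.includeLeft : A →ₐ[B] A ⊗[B] A).restrictScalars k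
  let ι₂ : A →ₐ[k] A ⊗[B] A := (Algebra.TensorProduct.includeRight : A →ₐ[B] A ⊗[B] A).restrictScalars k
  have hι : ∀ b, ι₂ (f b) = ι₁ (f b) := fun b => by
    show (1 : A) ⊗ₜ[B] f b = f b ⊗ₜ[B] (1 : A)
    rw [← hf, Algebra.algebraMap_eq_smul_one, TensorProduct.smul_tmul]
  let Θ : A →ₐ[k] A ⊗[B] A :=
    (toConv (ι₁.comp (HopfAlgebra.antipodeAlgHom k A)) * toConv ι₂).ofConv
  have happly : ∀ a, Θ a = Algebra.TensorProduct.lmul' k
      (Algebra.TensorProduct.map (ι₁.comp (HopfAlgebra.antipodeAlgHom k A)) ι₂ (Coalgebra.comul (R := k) a)) :=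
    fun a => rfl
  have hb : ∀ b : B, Θ (f b) = algebraMap k _ (Coalgebra.counit (R := k) b) := by
    intro b
    rw [happly, ← CoalgHomClass.map_comp_comul_apply f b]
    have h : ∀ z : B ⊗[k] B, Algebra.TensorProduct.lmul' k
        (Algebra.TensorProduct.map (ι₁.comp (HopfAlgebra.antipodeAlgHom k A)) ι₂
          (TensorProduct.map (f : B →ₗ[k] A) (f : B →ₗ[k] A) z)) =
        ι₁ (LinearMap.mul' k A ((HopfAlgebraStruct.antipode (R := k) (A := A)).rTensor A
          (TensorProduct.map (f : B →ₗ[k] A) (f : B →ₗ[k] A) z))) := by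
      intro z
      induction z with
      | zero => simp
      | add p q hp hq => simp only [map_add, hp, hq]
      | tmul p q => simp [hι]
    rw [h, CoalgHomClass.map_comp_comul_apply f b, HopfAlgebra.mul_antipode_rTensor_comul_apply,
      CoalgHomClass.counit_comp_apply, AlgHom.commutes]
  have h0 : ∀ c ∈ RingHom.ker (Bialgebra.counitAlgHom k A), Θ c = 0 := by
    intro c hc
    rw [← hker] at hc
    refine Submodule.span_induction ?_ (map_zero Θ) (fun p q _ _ hp hq => by rw [map_add, hp, hq, add_zero])
      (fun p q _ hq => by rw [smul_eq_mul, map_mul, hq, mul_zero]) hc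
    rintro _ ⟨b, hb0, rfl⟩
    rw [hb, show Coalgebra.counit (R := k) b = 0 from hb0, map_zero]
  have hone : Θ = (Algebra.ofId k (A ⊗[B] A)).comp (Bialgebra.counitAlgHom k A) := by
    refine AlgHom.ext fun c => ?_
    have := h0 (c - algebraMap k A (Coalgebra.counit (R := k) c)) (by simp [RingHom.mem_ker])
    rw [map_sub, sub_eq_zero, AlgHom.commutes] at this
    exact this
  have heq : toConv ι₁ = toConv ι₂ := by
    have hS : toConv (AlgHom.id k A) * toConv (HopfAlgebra.antipodeAlgHom k A) = 1 :=
      mul_eq_one_comm.1 AlgHom.antipode_id_cancel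
    have h1 : toConv ι₁ * toConv (ι₁.comp (HopfAlgebra.antipodeAlgHom k A)) = 1 := by
      refine WithConv.ofConv_injective ?_
      have := AlgHom.comp_convMul_distrib ι₁ (toConv (AlgHom.id k A)) (toConv (HopfAlgebra.antipodeAlgHom k A))
      rw [hS] at this
      refine Eq.trans (congrArg WithConv.ofConv ?_) (AlgHom.ext fun a => ?_ : ι₁.comp (1 : WithConv (A →ₐ[k] A)).ofConv = (1 : WithConv (A →ₐ[k] A ⊗[B] A)).ofConv)
      · exact (WithConv.ofConv_injective (this.trans (by simp))).symm
      · exact ι₁.commutes _
    have h : toConv (ι₁.comp (HopfAlgebra.antipodeAlgHom k A)) * toConv ι₂ = 1 :=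
      WithConv.ofConv_injective (show Θ = _ from hone)
    calc toConv ι₁ = toConv ι₁ * (toConv (ι₁.comp (HopfAlgebra.antipodeAlgHom k A)) * toConv ι₂) := by
          rw [h, mul_one]
      _ = toConv ι₂ := by rw [← mul_assoc, h1, one_mul]
  exact (Algebra.isEpi_iff_forall_one_tmul_eq B A).2 fun a =>
    (DFunLike.congr_fun (congrArg WithConv.ofConv heq) a).symm



/-- Let k be a field and let A and B be finite-dimensional commutative and cocommutative Hopf algebras
over k (finite commutative k-group schemes G = Spec A and H = Spec B). Let f : B → A be a bialgebra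
map (a homomorphism G → H) which is injective and such that the ideal of A generated by the image of
the augmentation ideal of B is the augmentation ideal of A (the homomorphism G → H has trivial
kernel). Then f is bijective, so G → H is an isomorphism; this is what makes the category of finite
commutative k-group schemes abelian. -/
theorem result (k : Type u) [Field k] (A : Type v) (B : Type w)
    [CommRing A] [HopfAlgebra k A] [Module.Finite k A] [Coalgebra.IsCocomm k A]
    [CommRing B] [HopfAlgebra k B] [Module.Finite k B] [Coalgebra.IsCocomm k B]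
    (f : B →ₐc[k] A) (hinj : Function.Injective f)
    (hker : Ideal.map f (RingHom.ker (Bialgebra.counitAlgHom k B)) = RingHom.ker (Bialgebra.counitAlgHom k A)) :
    Function.Bijective f := by
  let : Algebra B A := f.toAlgHom.toRingHom.toAlgebra
  have hf : ∀ b, algebraMap B A b = f b := fun b => rfl
  have : IsScalarTower k B A := IsScalarTower.of_algebraMap_eq fun x => (f.toAlgHom.commutes x).symm
  have : Module.Finite B A := Module.Finite.of_restrictScalars_finite k B A
  exact ⟨hinj, Algebra.isEpi_iff_surjective_algebraMap_of_finite.1 (isEpi k A B f hf hker)⟩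

end Groth.Agent.S13402
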