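import Groth.Statements.S13404
import Mathlib
import Groth.Agent.HenselLib.Ops
-- import your own Groth.Agent.* helpers here

set_option autoImplicit false
universe u v
open Hopf
open scoped TensorProduct

namespace Groth.Agent.S13404
set_option maxHeartbeats 1600000

universe v' in
open IsLocalRing in
theorem henselian_of_integral {H : Type u} {C : Type v'} [CommRing H] [HenselianLocalRing H] [CommRing C]
    [IsLocalRing C] [Algebra H C] [Algebra.IsIntegral H C] : HenselianLocalRing C := by
  have hc : (maximalIdeal C).comap (algebraMap H C) = maximalIdeal H :=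
    IsLocalRing.eq_maximalIdeal (Ideal.isMaximal_comap_of_isIntegral_of_isMaximal (R := H) _)
  haveI := Groth.Agent.HenselLib.henselianRing_of_isIntegral (maximalIdeal H) C
  haveI := Groth.Agent.HenselLib.henselianRing_radical ((maximalIdeal H).map (algebraMap H C))
  have hrad : ((maximalIdeal H).map (algebraMap H C)).radical = maximalIdeal C := by
    refine le_antisymm ((Ideal.IsPrime.radical_le_iff (maximalIdeal.isMaximal C).isPrime).2
      (Ideal.map_le_iff_le_comap.2 hc.ge)) ?_
    rw [Ideal.radical_eq_sInf]
    refine le_sInf fun P ⟨hle, hP⟩ => ?_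
    haveI := hP
    have : (P.comap (algebraMap H C)).IsMaximal := by
      rw [← (maximalIdeal.isMaximal H).eq_of_le (Ideal.comap_ne_top _ hP.ne_top)
        (Ideal.map_le_iff_le_comap.1 hle)]
      infer_instance
    rw [IsLocalRing.eq_maximalIdeal (Ideal.isMaximal_of_isIntegral_of_isMaximal_comap (R := H) P this)]
  haveI : HenselianRing C (maximalIdeal C) := hrad ▸
    Groth.Agent.HenselLib.henselianRing_radical ((maximalIdeal H).map (algebraMap H C))
  exact Groth.Agent.HenselLib.henselianLocalRing_of_henselianRing


open scoped TensorProduct in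
theorem idem_eq_one_tensor {R : Type u} {B : Type v} [CommRing R] [IsLocalRing R] [CommRing B] [IsLocalRing B] [Algebra R B]
    [Module.Finite R B] (εB : B →ₐ[R] R) (z : B ⊗[R] B) (hz : IsIdempotentElem z)
    (h1 : Algebra.TensorProduct.lift εB εB (fun _ _ => Commute.all _ _) z = 1) : z = 1 := by
  set ψ := Algebra.TensorProduct.lift εB εB (fun _ _ => Commute.all _ _) with hψ
  haveI : Nontrivial (B ⊗[R] B) := RingHom.domain_nontrivial ψ.toRingHom
  have hl : ∀ M : Ideal (B ⊗[R] B), M.IsMaximal → ∀ b : B, εB b = 0 → b ⊗ₜ[R] (1 : B) ∈ M := by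
    intro M hM b hb
    haveI := hM
    have hm : (M.comap (algebraMap B (B ⊗[R] B))).IsMaximal := Ideal.isMaximal_comap_of_isIntegral_of_isMaximal M
    have : b ∈ M.comap (algebraMap B (B ⊗[R] B)) := by
      rw [IsLocalRing.eq_maximalIdeal hm]
      exact IsLocalRing.le_maximalIdeal (RingHom.ker_ne_top εB) hb
    exact this
  have hr : ∀ M : Ideal (B ⊗[R] B), M.IsMaximal → ∀ b : B, εB b = 0 → (1 : B) ⊗ₜ[R] b ∈ M := by
    intro M hM b hb
    haveI := hM
    have := hl (M.comap (Algebra.TensorProduct.comm R B B).toRingEquiv.toRingHom)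
      (Ideal.comap_isMaximal_of_surjective _ (Algebra.TensorProduct.comm R B B).surjective) b hb
    simpa using this
  have key : ∀ M : Ideal (B ⊗[R] B), M.IsMaximal → ∀ x, x - algebraMap R _ (ψ x) ∈ M := by
    intro M hM x
    induction x using TensorProduct.induction_on with
    | zero => simp
    | add x y hx hy =>
      rw [map_add, map_add]
      convert M.add_mem hx hy using 1
      abel
    | tmul b c =>
      have h : b ⊗ₜ[R] c - algebraMap R (B ⊗[R] B) (ψ (b ⊗ₜ[R] c)) =
          ((b - algebraMap R B (εB b)) ⊗ₜ[R] 1) * (1 ⊗ₜ[R] c) +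
            algebraMap R (B ⊗[R] B) (εB b) * (1 ⊗ₜ[R] (c - algebraMap R B (εB c))) := by
        rw [hψ, Algebra.TensorProduct.lift_tmul, map_mul]
        simp only [Algebra.TensorProduct.algebraMap_apply, TensorProduct.sub_tmul, TensorProduct.tmul_sub, sub_mul, mul_sub,
          Algebra.TensorProduct.tmul_mul_tmul, one_mul, mul_one]
        rw [show algebraMap R B (εB b) ⊗ₜ[R] algebraMap R B (εB c) = (algebraMap R B (εB b) * algebraMap R B (εB c)) ⊗ₜ[R] (1 : B) by
          rw [Algebra.algebraMap_eq_smul_one (εB c), ← TensorProduct.smul_tmul, mul_smul_comm, mul_one]]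
        abel
      rw [h]
      exact M.add_mem (M.mul_mem_right _ (hl M hM _ (by rw [map_sub, AlgHom.commutes]; simp)))
        (M.mul_mem_left _ (hr M hM _ (by rw [map_sub, AlgHom.commutes]; simp)))
  by_contra hne
  obtain ⟨M, hM, hzM⟩ := exists_max_ideal_of_mem_nonunits (a := z) (fun hu => hne ((IsIdempotentElem.iff_eq_one_of_isUnit hu).1 hz))
  have h0 := M.sub_mem hzM (key M hM z)
  rw [h1, map_one, sub_sub_cancel] at h0
  exact hM.ne_top ((Ideal.eq_top_iff_one M).2 h0)

/-- Let R be a henselian local ring and G = Spec A a finite flat group scheme over R (A a commutative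
Hopf algebra over R, finite and flat as an R-module; G need not be commutative). Let e be an
idempotent of A on which the counit takes the value 1 and such that A/(1 - e) is a local ring, so
that Spec A/(1 - e) is the connected component G⁰ of G containing the unit section. Then the ideal
(1 - e) is a Hopf ideal (G⁰ is a closed subgroup scheme of G), A/(1 - e) is a henselian local ring
with the same residue field as R (the composite R → A/(1 - e) → residue field is surjective), and
A/(1 - e) is flat over R. (The published statement also asserts that G⁰ is normal in G; this row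
does not state normality.) -/
theorem result (R : Type u) [CommRing R] [HenselianLocalRing R]
    (A : Type v) [CommRing A] [HopfAlgebra R A] [Module.Finite R A] [Module.Flat R A]
    (e : A) (he : IsIdempotentElem e) (hε : Bialgebra.counitAlgHom R A e = 1)
    [IsLocalRing (A ⧸ Ideal.span ({1 - e} : Set A))] :
    (Ideal.span ({1 - e} : Set A)).IsHopfIdeal R ∧ HenselianLocalRing (A ⧸ Ideal.span ({1 - e} : Set A)) ∧
      Function.Surjective (⇑(IsLocalRing.residue (A ⧸ Ideal.span ({1 - e} : Set A))) ∘ ⇑(algebraMap R (A ⧸ Ideal.span ({1 - e} : Set A)))) ∧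
      Module.Flat R (A ⧸ Ideal.span ({1 - e} : Set A)) := by
  set E := Ideal.span ({1 - e} : Set A) with hE
  have hEε : ∀ a ∈ E, Bialgebra.counitAlgHom R A a = 0 := by
    intro a ha
    rw [hE, Ideal.mem_span_singleton'] at ha
    obtain ⟨c, rfl⟩ := ha
    rw [map_mul, map_sub, map_one, hε, sub_self, mul_zero]
  let εB : (A ⧸ E) →ₐ[R] R := Ideal.Quotient.liftₐ E (Bialgebra.counitAlgHom R A) hEε
  haveI : Algebra.IsIntegral R (A ⧸ E) := Algebra.IsIntegral.of_finite R _
  refine ⟨?_, henselian_of_integral (H := R), ?_, ?_⟩
  · let mk := Ideal.Quotient.mkₐ R E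
    let q : A →ₐ[R] (A ⧸ E) ⊗[R] (A ⧸ E) := (Algebra.TensorProduct.map mk mk).comp (Bialgebra.comulAlgHom R A)
    have hψ : ∀ a, Algebra.TensorProduct.lift εB εB (fun _ _ => Commute.all _ _) (q a) = Bialgebra.counitAlgHom R A a := by
      intro a
      have h : ∀ x : A ⊗[R] A, Algebra.TensorProduct.lift εB εB (fun _ _ => Commute.all _ _) (Algebra.TensorProduct.map mk mk x) =
          Bialgebra.counitAlgHom R A (TensorProduct.lid R A (LinearMap.rTensor A (Coalgebra.counit : A →ₗ[R] R) x)) := by
        intro x
        induction x using TensorProduct.induction_on with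
        | zero => simp
        | add x y hx hy => rw [map_add, map_add, map_add, map_add, map_add, hx, hy]
        | tmul b c =>
          rw [Algebra.TensorProduct.map_tmul, Algebra.TensorProduct.lift_tmul, LinearMap.rTensor_tmul, TensorProduct.lid_tmul, map_smul, smul_eq_mul]
          rfl
      exact (h (Coalgebra.comul (R := R) a)).trans (by rw [Coalgebra.rTensor_counit_comul, TensorProduct.lid_tmul, one_smul])
    have hqe : q e = 1 := idem_eq_one_tensor εB (q e) (he.map q) (by rw [hψ, hε])
    have hS : Ideal.Quotient.mk E (HopfAlgebra.antipodeAlgHom R A e) = 1 := by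
      have hi := (he.map (HopfAlgebra.antipodeAlgHom R A)).map (Ideal.Quotient.mk E)
      rcases IsLocalRing.isUnit_or_isUnit_one_sub_self (Ideal.Quotient.mk E (HopfAlgebra.antipodeAlgHom R A e)) with h | h
      · exact (IsIdempotentElem.iff_eq_one_of_isUnit h).1 hi
      · exfalso
        have h' := (IsIdempotentElem.iff_eq_one_of_isUnit h).1 hi.one_sub
        rw [sub_eq_self] at h'
        have h2 : Bialgebra.counitAlgHom R A (HopfAlgebra.antipodeAlgHom R A e) = 1 := (HopfAlgebra.counit_antipode e).trans hε
        rw [hEε _ (Ideal.Quotient.eq_zero_iff_mem.1 h')] at h2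
        exact zero_ne_one h2
    have hco : (E.restrictScalars R).IsCoideal := by
      refine ⟨fun x hx => hEε x hx, fun x hx => ?_⟩
      obtain ⟨c, rfl⟩ := Ideal.mem_span_singleton'.1 hx
      let g : (A ⧸ E) →ₗ[R] (A ⧸ E.restrictScalars R) := (Submodule.Quotient.restrictScalarsEquiv R E).symm.toLinearMap
      have h : ∀ y : A ⊗[R] A, TensorProduct.map (E.restrictScalars R).mkQ (E.restrictScalars R).mkQ y =
          TensorProduct.map g g (Algebra.TensorProduct.map mk mk y) := by
        intro y
        induction y using TensorProduct.induction_on with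
        | zero => simp
        | add x y hx hy => simp only [map_add, hx, hy]
        | tmul b c => rfl
      rw [h]
      show TensorProduct.map g g (q (c * (1 - e))) = 0
      rw [map_mul, map_sub, map_one, hqe, sub_self, mul_zero, map_zero]
    exact (Ideal.isHopfIdeal_iff R E).2 ⟨hco, fun x hx => by
      obtain ⟨c, rfl⟩ := Ideal.mem_span_singleton'.1 hx
      show HopfAlgebra.antipodeAlgHom R A (c * (1 - e)) ∈ E
      rw [← Ideal.Quotient.eq_zero_iff_mem, map_mul, map_mul, map_sub, map_sub, map_one, map_one, hS, sub_self, mul_zero]⟩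
  · intro k
    obtain ⟨b, rfl⟩ := IsLocalRing.residue_surjective k
    refine ⟨εB b, ?_⟩
    rw [Function.comp_apply, ← sub_eq_zero, ← map_sub, IsLocalRing.residue_eq_zero_iff]
    refine IsLocalRing.le_maximalIdeal (RingHom.ker_ne_top εB) ?_
    rw [RingHom.mem_ker, map_sub, AlgHom.commutes]
    simp
  · have hEker : E ≤ LinearMap.ker (LinearMap.mul A A e) := by
      rw [hE, Ideal.span, Submodule.span_le, Set.singleton_subset_iff]
      show e * (1 - e) = 0
      rw [mul_sub, mul_one, he.eq, sub_self]
    let s : (A ⧸ E) →ₗ[R] A := (Submodule.liftQ E (LinearMap.mul A A e) hEker).restrictScalars R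
    refine Module.Flat.of_retract s (Ideal.Quotient.mkₐ R E).toLinearMap ?_
    ext q
    obtain ⟨a, rfl⟩ := Ideal.Quotient.mk_surjective q
    show Ideal.Quotient.mk E (e * a) = Ideal.Quotient.mk E a
    rw [Ideal.Quotient.eq, hE, Ideal.mem_span_singleton']
    exact ⟨-a, by ring⟩

end Groth.Agent.S13404
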