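import Mathlib
import Groth.Statements.S13409
-- import your own Groth.Agent.* helpers here

set_option autoImplicit false
universe u v
open CombGraph

namespace Groth.Agent.S13409

/-- Let `A` be an abelian group and `G` a finite connected simple graph on `V` that is bipartite for a
two-colouring `c : V → Bool` (adjacent vertices get different colours). If `a : V → A` has the same
sum over the vertices of each colour, then some labelling `x` of the edges by elements of `A` has,
at every vertex `v`, the sum of `x` over the edges incident to `v` equal to `a v`. (The published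
statement concerns finite bipartite graphs in general; this row treats simple graphs.) -/
theorem result {V : Type u} [Fintype V] [DecidableEq V]
    (G : SimpleGraph V) [DecidableRel G.Adj] (hconn : G.Connected) (c : V → Bool)
    (hbip : ∀ v w : V, G.Adj v w → c v ≠ c w) (A : Type v) [AddCommGroup A] (a : V → A)
    (hsum : ∑ v ∈ Finset.univ.filter (fun v => c v = true), a v =
      ∑ v ∈ Finset.univ.filter (fun v => c v = false), a v) :
    ∃ x : Sym2 V → A, ∀ v : V, ∑ e ∈ G.incidenceFinset v, x e = a v := by
  classical
  let d : (Sym2 V → A) →+ (V → A) :=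
    { toFun := fun x v => ∑ e ∈ G.incidenceFinset v, x e
      map_zero' := by ext v; simp
      map_add' := fun x y => by ext v; simp [Finset.sum_add_distrib] }
  let σ : V → A → A := fun v z => if c v then z else -z
  have hadj : ∀ u w : V, G.Adj u w → ∀ z : A, Pi.single u (σ u z) - Pi.single w (σ w z) ∈ d.range := by
    intro u w h z
    refine ⟨Pi.single s(u, w) (σ u z), ?_⟩
    have hσ : σ w z = -σ u z := by
      have := hbip u w h
      cases hu : c u <;> cases hw : c w <;> simp_all [σ]
    ext v
    simp only [d, AddMonoidHom.coe_mk, ZeroHom.coe_mk, Finset.sum_pi_single', hσ, Pi.sub_apply, Pi.single_apply]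
    have hne := h.ne
    by_cases h1 : v = u
    · subst h1; simp [hne, SimpleGraph.mem_incidenceFinset, SimpleGraph.mk'_mem_incidenceSet_iff, h]
    · by_cases h2 : v = w
      · subst h2; simp [h1, SimpleGraph.mem_incidenceFinset, SimpleGraph.mk'_mem_incidenceSet_iff, h]
      · simp [h1, h2, SimpleGraph.mem_incidenceFinset, SimpleGraph.mk'_mem_incidenceSet_iff, h]
  have hwalk : ∀ u w : V, ∀ _ : G.Walk u w, ∀ z : A, Pi.single u (σ u z) - Pi.single w (σ w z) ∈ d.range := by
    intro u w p
    induction p with
    | nil => intro z; simp
    | @cons x y z' h q ih =>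
      intro z
      have := add_mem (hadj x y h z) (ih z)
      simpa using this
  obtain ⟨r⟩ := hconn.nonempty
  have hσσ : ∀ v z, σ v (σ v z) = z := fun v z => by cases hv : c v <;> simp [σ, hv]
  have h0 : ∑ v, σ v (a v) = 0 := by
    rw [← Finset.sum_filter_add_sum_filter_not Finset.univ (fun v => c v = true)]
    have e1 : ∑ v ∈ Finset.univ.filter (fun v => c v = true), σ v (a v) =
        ∑ v ∈ Finset.univ.filter (fun v => c v = true), a v :=
      Finset.sum_congr rfl fun v hv => by simp [σ, (Finset.mem_filter.1 hv).2]
    have e2 : ∑ v ∈ Finset.univ.filter (fun v => ¬ c v = true), σ v (a v) =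
        ∑ v ∈ Finset.univ.filter (fun v => c v = false), -a v :=
      Finset.sum_congr (by simp) fun v hv => by simp [σ, (Finset.mem_filter.1 hv).2]
    rw [e1, e2, Finset.sum_neg_distrib, hsum, add_neg_cancel]
  have hmem : a ∈ d.range := by
    have hmem' : ∑ v, (Pi.single v (σ v (σ v (a v))) - Pi.single r (σ r (σ v (a v)))) ∈ d.range :=
      sum_mem fun v _ => hwalk v r (hconn.preconnected v r).some _
    have hr : ∑ v, (Pi.single r (σ r (σ v (a v))) : V → A) = 0 := by
      ext w
      by_cases hw : w = r
      · subst hw
        cases hc : c w <;> simp [σ, hc, h0, Finset.sum_neg_distrib] <;> simpa [σ] using h0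
      · simp [hw]
    rw [Finset.sum_sub_distrib, hr, sub_zero] at hmem'
    simp only [hσσ, Finset.univ_sum_single] at hmem'
    exact hmem'
  obtain ⟨x, hx⟩ := hmem
  exact ⟨x, fun v => congrFun hx v⟩

end Groth.Agent.S13409
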