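import Mathlib
import Groth.Statements.S13410
-- import your own Groth.Agent.* helpers here

set_option autoImplicit false
universe u v
open CombGraph

namespace Groth.Agent.S13410

/-- Let `A` be an abelian group and `G` a finite connected simple graph on `V`, bipartite for a
two-colouring `c`. Consider the additive group of labellings `x : Sym2 V → A` vanishing off the edge
set and with `∑_{e ∋ v} x e = 0` at every vertex `v`. If `e₀` is an edge whose deletion leaves `G`
connected, then evaluation at `e₀` restricted to this group is surjective and split: there is an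
additive map `φ : A → (Sym2 V → A)` with values in this group and with `φ a e₀ = a` for all `a`.
(The published statement concerns finite bipartite graphs in general; this row treats simple
graphs.) -/
theorem result {V : Type u} [Fintype V]
    [DecidableEq V] (G : SimpleGraph V) [DecidableRel G.Adj] (hconn : G.Connected) (c : V → Bool)
    (hbip : ∀ v w : V, G.Adj v w → c v ≠ c w) (A : Type v) [AddCommGroup A] (e₀ : Sym2 V)
    (he₀ : e₀ ∈ G.edgeSet) (hdel : (G.deleteEdges {e₀}).Connected) :
    ∃ φ : A →+ (Sym2 V → A),
      (∀ a : A, (∀ e : Sym2 V, e ∉ G.edgeSet → φ a e = 0) ∧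
        ∀ v : V, ∑ e ∈ G.incidenceFinset v, φ a e = 0) ∧
      ∀ a : A, φ a e₀ = a := by
  classical
  let s : V → ℤ := fun v => if c v then 1 else -1
  have hs : ∀ x y, G.Adj x y → s y = -s x := fun x y h => by
    have := hbip x y h
    revert this
    simp only [s]
    cases c x <;> cases c y <;> simp
  let F : ∀ {u w : V}, G.Walk u w → A → Sym2 V → A := fun p a e =>
    (p.darts.map fun d => if d.edge = e then s d.fst • a else 0).sum
  have hout : ∀ {u w : V} (p : G.Walk u w) a (e : Sym2 V), e ∉ p.edges → F p a e = 0 := by
    intro u w p a e he
    refine List.sum_eq_zero fun x hx => ?_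
    obtain ⟨d, hd, rfl⟩ := List.mem_map.1 hx
    rw [if_neg]
    rintro rfl
    exact he (List.mem_map_of_mem (f := SimpleGraph.Dart.edge) hd)
  have hflow : ∀ {u w : V} (p : G.Walk u w) a (v : V), ∑ e ∈ G.incidenceFinset v, F p a e =
      s v • ((if u = v then a else 0) - (if w = v then a else 0)) := by
    intro u w p a v
    induction p with
    | nil => simp [F]
    | @cons x y z h p ih =>
      simp only [F, SimpleGraph.Walk.darts_cons, List.map_cons, List.sum_cons,
        Finset.sum_add_distrib, Finset.sum_ite_eq] at ih ⊢
      rw [ih]
      have hne : x ≠ y := h.ne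
      by_cases hx : x = v
      · subst hx
        have hm : s(x, y) ∈ G.incidenceFinset x := by
          rw [SimpleGraph.mem_incidenceFinset]; exact ⟨h, Sym2.mem_mk_left _ _⟩
        simp [SimpleGraph.Dart.edge, hm, hne.symm, smul_sub]
        abel
      · by_cases hy : y = v
        · subst hy
          have hm : s(x, y) ∈ G.incidenceFinset y := by
            rw [SimpleGraph.mem_incidenceFinset]; exact ⟨h, Sym2.mem_mk_right _ _⟩
          simp [SimpleGraph.Dart.edge, hm, hx, smul_sub, hs x y h]
          abel
        · have hm : s(x, y) ∉ G.incidenceFinset v := by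
            simp [SimpleGraph.mem_incidenceSet, SimpleGraph.incidenceSet, Ne.symm hx, Ne.symm hy]
          simp [SimpleGraph.Dart.edge, hm, hx, hy]
  induction e₀ using Sym2.ind with
  | h x y =>
    have hadj : G.Adj x y := he₀
    obtain ⟨q⟩ := hdel y x
    let p : G.Walk x x := SimpleGraph.Walk.cons hadj (q.mapLe (G.deleteEdges_le _))
    refine ⟨AddMonoidHom.mk' (fun a => F p (s x • a)) (fun a b => ?_), fun a => ⟨fun e he => ?_, fun v => ?_⟩, fun a => ?_⟩
    · funext e
      simp only [F, Pi.add_apply, ← List.sum_map_add]
      congr 1
      refine List.map_congr_left fun d _ => ?_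
      split_ifs <;> simp [smul_add]
    · exact hout p _ e fun h => he (p.edges_subset_edgeSet h)
    · simp only [AddMonoidHom.mk'_apply]
      rw [hflow]; simp
    · have hq : s(x, y) ∉ (q.mapLe (G.deleteEdges_le _)).edges := by
        rw [SimpleGraph.Walk.edges_mapLe_eq_edges]
        intro h
        have := q.edges_subset_edgeSet h
        simp at this
      have hsx : s x * s x = 1 := by simp only [s]; split_ifs <;> simp
      simp only [AddMonoidHom.mk'_apply, F, p, SimpleGraph.Walk.darts_cons, List.map_cons, List.sum_cons]
      rw [if_pos (by rfl)]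
      have h0 := hout _ (s x • a) _ hq
      simp only [F] at h0
      rw [h0]
      rw [add_zero, smul_smul, hsx, one_smul]

end Groth.Agent.S13410
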