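import Groth.Statements.S13411
import Mathlib.LinearAlgebra.Dimension.RankNullity
import Mathlib.LinearAlgebra.FreeModule.PID
import Mathlib.LinearAlgebra.Dimension.Localization
import Mathlib.LinearAlgebra.Dimension.Constructions
import Mathlib.LinearAlgebra.InvariantBasisNumber
import Mathlib.LinearAlgebra.FreeModule.StrongRankCondition
set_option linter.unusedVariables false

set_option autoImplicit false
universe u v
open CombGraph

namespace Groth.Agent.S13411

/-- Let `A` be an abelian group and `G` a finite connected simple graph on `V`, bipartite for a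
two-colouring `c`, with cyclomatic number `n` (number of edges minus number of vertices plus one).
Then the additive group of labellings `x : Sym2 V → A` vanishing off the edge set and with `∑_{e ∋
v} x e = 0` at every vertex `v` is isomorphic to `A^n`: it is the range of an injective additive map
`(Fin n → A) → (Sym2 V → A)`. (The published statement concerns finite bipartite graphs in general;
this row treats simple graphs.) -/
theorem result {V : Type u} [Fintype V]
    [DecidableEq V] (G : SimpleGraph V) [DecidableRel G.Adj] (hconn : G.Connected) (c : V → Bool)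
    (hbip : ∀ v w : V, G.Adj v w → c v ≠ c w) (A : Type v) [AddCommGroup A] (n : ℕ)
    (hn : G.edgeFinset.card + 1 = Fintype.card V + n) :
    ∃ f : (Fin n → A) →+ (Sym2 V → A), Function.Injective f ∧
      Set.range f = {x : Sym2 V → A | (∀ e : Sym2 V, e ∉ G.edgeSet → x e = 0) ∧
        ∀ v : V, ∑ e ∈ G.incidenceFinset v, x e = 0} := by
  classical
  let Ed := {e : Sym2 V // e ∈ G.edgeFinset}
  let D : (Ed → ℤ) →ₗ[ℤ] (V → ℤ) :=
    { toFun := fun x v => ∑ e, if v ∈ e.1 then x e else 0
      map_add' := fun x y => by
        funext v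
        simp only [Pi.add_apply, ← Finset.sum_add_distrib]
        exact Finset.sum_congr rfl fun e _ => by split <;> simp
      map_smul' := fun a x => by
        funext v
        simp only [Pi.smul_apply, RingHom.id_apply, Finset.smul_sum]
        exact Finset.sum_congr rfl fun e _ => by split <;> simp }
  have hDapp : ∀ x v, D x v = ∑ e, if v ∈ e.1 then x e else 0 := fun _ _ => rfl
  let ε : V → ℤ := fun v => if c v then 1 else -1
  have hε : ∀ v, ε v * ε v = 1 := fun v => by simp only [ε]; split <;> norm_num
  have hεadj : ∀ a b, G.Adj a b → ε a = - ε b := fun a b h => by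
    have := hbip a b h
    simp only [ε]; cases ha : c a <;> cases hb : c b <;> simp_all
  have hDsingle : ∀ (e : Ed) (v : V), D (Pi.single e 1) v = if v ∈ e.1 then 1 else 0 := by
    intro e v
    rw [hDapp, Finset.sum_eq_single e]
    · simp
    · intro b _ hb; simp [hb]
    · simp
  have hwalk : ∀ {a b : V}, G.Walk a b → ∃ z : Ed → ℤ, ∀ u,
      D z u = (if u = b then ε b else 0) - (if u = a then ε a else 0) := by
    intro a b p
    induction p with
    | nil => exact ⟨0, fun u => by simp⟩
    | @cons a m b h p ih =>
      obtain ⟨z, hz⟩ := ih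
      refine ⟨z + ε m • Pi.single ⟨s(a, m), by simpa using h⟩ 1, fun u => ?_⟩
      rw [map_add, map_smul, Pi.add_apply, Pi.smul_apply, hz, hDsingle]
      have hne : a ≠ m := G.ne_of_adj h
      simp only [Sym2.mem_iff, smul_eq_mul]
      rw [hεadj a m h]
      by_cases h1 : u = a
      · subst h1; simp [hne]
      · by_cases h2 : u = m
        · subst h2; simp [h1]
        · simp [h1, h2]
  haveI : Nonempty V := hconn.nonempty
  obtain ⟨r⟩ := (inferInstance : Nonempty V)
  choose z hz using fun v => hwalk (Classical.choice (hconn.preconnected r v))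
  let S : (V → ℤ) →ₗ[ℤ] ℤ := ∑ v, ε v • LinearMap.proj v
  have hSapp : ∀ f, S f = ∑ v, ε v * f v := fun f => by simp [S]
  have hSD : ∀ x, ∑ v, ε v * D x v = 0 := by
    intro x
    simp only [hDapp, Finset.mul_sum]
    rw [Finset.sum_comm]
    refine Finset.sum_eq_zero fun e _ => ?_
    obtain ⟨e, he⟩ := e
    induction e using Sym2.ind with
    | _ a b =>
      have hab : G.Adj a b := by simpa using he
      have : ∀ v, (ε v * if v ∈ s(a, b) then x ⟨s(a, b), he⟩ else 0) =
          (if v = a then ε a * x ⟨s(a, b), he⟩ else 0) + (if v = b then ε b * x ⟨s(a, b), he⟩ else 0) := by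
        intro v
        by_cases h1 : v = a
        · subst h1; simp [G.ne_of_adj hab]
        · by_cases h2 : v = b
          · subst h2; simp [h1]
          · simp [Sym2.mem_iff, h1, h2]
      rw [Finset.sum_congr rfl fun v _ => this v, Finset.sum_add_distrib]
      simp [hεadj a b hab]
  let σ : (V → ℤ) →ₗ[ℤ] (Ed → ℤ) := ∑ v, (ε v • LinearMap.proj v).smulRight (z v)
  have hσ : ∀ f u, D (σ f) u = f u - (if u = r then ε r * ∑ v, ε v * f v else 0) := by
    intro f u
    have h1 : σ f = ∑ v, (ε v * f v) • z v := by simp [σ]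
    rw [h1, map_sum, Finset.sum_apply]
    simp only [map_smul, Pi.smul_apply, hz, smul_eq_mul, mul_sub, Finset.sum_sub_distrib]
    congr 1
    · rw [Finset.sum_eq_single u]
      · rw [if_pos rfl, mul_comm (ε u) (f u), mul_assoc, hε, mul_one]
      · intro b _ hb; simp [Ne.symm hb]
      · simp
    · split
      · rw [Finset.mul_sum]; exact Finset.sum_congr rfl fun v _ => by ring
      · simp
  let N : Submodule ℤ (Ed → ℤ) := LinearMap.ker D
  let P : (Ed → ℤ) →ₗ[ℤ] N := (LinearMap.id - σ.comp D).codRestrict N (fun x => by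
    rw [LinearMap.mem_ker]
    funext u
    simp [hσ, hSD])
  have hP : ∀ x, (P x : Ed → ℤ) = x - σ (D x) := fun x => rfl
  have hrank : Module.finrank ℤ N = n := by
    have hrange : LinearMap.range D = LinearMap.ker S := by
      apply le_antisymm
      · rintro _ ⟨x, rfl⟩
        rw [LinearMap.mem_ker, hSapp]; exact hSD x
      · intro f hf
        rw [LinearMap.mem_ker, hSapp] at hf
        exact ⟨σ f, funext fun u => by simp [hσ, hf]⟩
    have hSsurj : Function.Surjective S := fun a => ⟨Pi.single r (ε r * a), by
      rw [hSapp, Finset.sum_eq_single r] <;> simp +contextual [← mul_assoc, hε]⟩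
    have e1 := Submodule.finrank_quotient_add_finrank (R := ℤ) N
    have e2 := Submodule.finrank_quotient_add_finrank (R := ℤ) (LinearMap.ker S)
    rw [LinearEquiv.finrank_eq (LinearMap.quotKerEquivRange D), hrange, Module.finrank_pi,
      Fintype.card_coe] at e1
    rw [LinearEquiv.finrank_eq (LinearMap.quotKerEquivOfSurjective S hSsurj), Module.finrank_self,
      Module.finrank_pi] at e2
    omega
  let b : Module.Basis (Fin n) ℤ N := (Module.finBasisOfFinrankEq ℤ N hrank)
  let cc : Ed → Fin n → ℤ := fun e i => b.repr (P (Pi.single e 1)) i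
  have hPsum : ∀ x, P x = ∑ e, x e • P (Pi.single e 1) := by
    intro x
    have hxs : x = ∑ e, x e • (Pi.single e 1 : Ed → ℤ) := by
      funext e'
      rw [Finset.sum_apply, Finset.sum_eq_single e']
      · simp
      · intro b _ hb; simp [Ne.symm hb]
      · simp
    conv_lhs => rw [hxs]
    rw [map_sum]
    exact Finset.sum_congr rfl fun e _ => map_smul P _ _
  have hPN : ∀ y : N, P y = y := fun y => Subtype.ext (by
    rw [hP, show D (y : Ed → ℤ) = 0 from y.2, map_zero, sub_zero])
  have hLB : ∀ i j, ∑ e, (b j : Ed → ℤ) e * cc e i = if i = j then 1 else 0 := by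
    intro i j
    have := congrArg (fun y : N => b.repr y i) ((hPsum (b j : Ed → ℤ)).symm.trans (hPN (b j)))
    simpa [cc, Finsupp.single_apply, eq_comm] using this
  let F : (Fin n → A) →+ (Sym2 V → A) :=
    { toFun := fun a e => if h : e ∈ G.edgeFinset then ∑ i, (b i : Ed → ℤ) ⟨e, h⟩ • a i else 0
      map_zero' := by funext e; simp
      map_add' := fun a a' => by
        funext e; simp only [Pi.add_apply]
        split <;> simp [smul_add, Finset.sum_add_distrib] }
  have hF : ∀ a (e : Ed), F a e.1 = ∑ i, (b i : Ed → ℤ) e • a i := fun a e => by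
    change (if h : e.1 ∈ G.edgeFinset then ∑ i, (b i : Ed → ℤ) ⟨e.1, h⟩ • a i else 0) = _
    rw [dif_pos e.2]
  have hinc : ∀ (x : Sym2 V → A) v, ∑ e ∈ G.incidenceFinset v, x e = ∑ e : Ed, if v ∈ e.1 then x e.1 else 0 := by
    intro x v
    rw [SimpleGraph.incidenceFinset_eq_filter, Finset.sum_filter, ← Finset.sum_coe_sort]
  refine ⟨F, ?_, ?_⟩
  · have : ∀ a i, ∑ e : Ed, cc e i • F a e.1 = a i := by
      intro a i
      simp only [hF, Finset.smul_sum, smul_smul]
      rw [Finset.sum_comm, Finset.sum_eq_single i]
      · rw [← Finset.sum_smul]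
        simp_rw [mul_comm (cc _ i)]
        rw [hLB, if_pos rfl, one_smul]
      · intro j _ hj
        rw [← Finset.sum_smul]
        simp_rw [mul_comm (cc _ i)]
        rw [hLB, if_neg (Ne.symm hj), zero_smul]
      · simp
    intro a a' h
    funext i
    rw [← this a i, ← this a' i, h]
  · ext x
    constructor
    · rintro ⟨a, rfl⟩
      refine ⟨fun e he => dif_neg (by simpa using he), fun v => ?_⟩
      rw [hinc]
      simp only [hF]
      calc _ = ∑ e : Ed, ∑ i, (if v ∈ e.1 then (b i : Ed → ℤ) e else 0) • a i := by
            refine Finset.sum_congr rfl fun e _ => ?_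
            split <;> simp
        _ = 0 := by
            rw [Finset.sum_comm]
            refine Finset.sum_eq_zero fun i _ => ?_
            rw [← Finset.sum_smul, ← hDapp, show D (b i : Ed → ℤ) = 0 from (b i).2]
            simp
    · rintro ⟨hx1, hx2⟩
      refine ⟨fun i => ∑ e : Ed, cc e i • x e.1, ?_⟩
      funext e0
      by_cases he : e0 ∈ G.edgeFinset
      swap
      · rw [hx1 e0 (by simpa using he)]; exact dif_neg he
      rw [hF _ ⟨e0, he⟩]
      simp only [Finset.smul_sum, smul_smul]
      rw [Finset.sum_comm]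
      have hcol : ∀ e : Ed, ∑ i, (b i : Ed → ℤ) ⟨e0, he⟩ * cc e i =
          (Pi.single e 1 : Ed → ℤ) ⟨e0, he⟩ - σ (D (Pi.single e 1)) ⟨e0, he⟩ := by
        intro e
        rw [← Pi.sub_apply, ← hP]
        conv_rhs => rw [← b.sum_repr (P (Pi.single e 1))]
        rw [Submodule.coe_sum, Finset.sum_apply]
        refine Finset.sum_congr rfl fun i _ => ?_
        rw [Submodule.coe_smul, Pi.smul_apply, smul_eq_mul, mul_comm]
      simp only [← Finset.sum_smul, hcol, sub_smul, Finset.sum_sub_distrib]
      have h1 : ∑ e : Ed, (Pi.single e 1 : Ed → ℤ) ⟨e0, he⟩ • x e.1 = x e0 := by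
        rw [Finset.sum_eq_single (⟨e0, he⟩ : Ed)]
        · simp
        · intro b _ hb; simp [Ne.symm hb]
        · simp
      have h2 : ∑ e : Ed, σ (D (Pi.single e 1)) ⟨e0, he⟩ • x e.1 = 0 := by
        have hσ' : ∀ f, σ f ⟨e0, he⟩ = ∑ v, f v * (ε v * z v ⟨e0, he⟩) := fun f => by
          simp [σ, Finset.sum_apply]; exact Finset.sum_congr rfl fun v _ => by ring
        simp only [hσ', Finset.sum_smul]
        rw [Finset.sum_comm]
        refine Finset.sum_eq_zero fun v _ => ?_
        calc ∑ e : Ed, (D (Pi.single e 1) v * (ε v * z v ⟨e0, he⟩)) • x e.1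
            = (ε v * z v ⟨e0, he⟩) • ∑ e : Ed, (if v ∈ e.1 then x e.1 else 0) := by
              rw [Finset.smul_sum]
              refine Finset.sum_congr rfl fun e _ => ?_
              rw [hDsingle]; split <;> simp
          _ = 0 := by rw [← hinc, hx2, smul_zero]
      rw [h1, h2, sub_zero]

end Groth.Agent.S13411
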