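import Groth.Statements.S13419
import Mathlib.AlgebraicGeometry.Morphisms.Smooth
import Mathlib.CategoryTheory.Adjunction.FullyFaithful
-- import your own Groth.Agent.* helpers here

set_option autoImplicit false
universe u
open CategoryTheory AlgebraicGeometry
open NeronHD

namespace Groth.Agent.S13419

/-- Let S be a locally Noetherian scheme over a field of characteristic 0, S₀ ⊆ S₁ ⊆ S opens with S₀
scheme-theoretically dense in S, and N a smooth S-scheme. If N has the Néron mapping property for S₁
⊆ S and the restriction N|S₁ has the Néron mapping property for S₀ ⊆ S₁ (in both cases: restriction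
of morphisms from smooth schemes over the base is bijective), then N has the Néron mapping property
for S₀ ⊆ S. (Case of schemes, with smooth test schemes, of a statement about algebraic spaces.) -/
theorem result {k : Type u} [Field k] [CharZero k] {S : Scheme.{u}} (σ : S ⟶ Spec (CommRingCat.of k)) [IsLocallyNoetherian S] (S₀ S₁ : S.Opens) (h01 : S₀ ≤ S₁) (hS₀ : CInt.IsSchematicallyDense S₀)
    (N : Over S) [Smooth N.hom]
    (hN1 : ∀ Z : Over S, Smooth Z.hom → Function.Bijective (fun g : Z ⟶ N => (Over.pullback S₁.ι).map g))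
    (hN10 : ∀ Z : Over (S₁ : Scheme.{u}), Smooth Z.hom → Function.Bijective (fun g : Z ⟶ (Over.pullback S₁.ι).obj N => (Over.pullback (S₁.ι ⁻¹ᵁ S₀).ι).map g)) :
    ∀ Z : Over S, Smooth Z.hom → Function.Bijective (fun g : Z ⟶ N => (Over.pullback S₀.ι).map g) := by
  intro Z hZ
  let j := (S₁.ι ⁻¹ᵁ S₀).ι
  let E := IsOpenImmersion.isoOfRangeEq S₀.ι (j ≫ S₁.ι) (by
    simp only [j, Scheme.Hom.comp_base, TopCat.coe_comp, Set.range_comp, Scheme.Opens.range_ι]
    exact (Set.inter_eq_left.2 h01).symm.trans ((Set.image_preimage_eq_inter_range (f := S₁.ι)).trans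
      (congrArg ((S₀ : Set S) ∩ ·) S₁.range_ι)).symm)
  have hE : E.hom ≫ j ≫ S₁.ι = S₀.ι := IsOpenImmersion.isoOfRangeEq_hom_fac _ _ _
  have key : ∀ (f g : (S₀ : Scheme.{u}) ⟶ S), f = g → Nonempty (Over.pullback f ≅ Over.pullback g) := by
    rintro f _ rfl
    exact ⟨Iso.refl _⟩
  let η : Over.pullback S₀.ι ≅ (Over.pullback S₁.ι ⋙ Over.pullback j) ⋙ Over.pullback E.hom :=
    (key _ _ hE.symm).some ≪≫ Over.pullbackComp E.hom (j ≫ S₁.ι) ≪≫
      Functor.isoWhiskerRight (Over.pullbackComp j S₁.ι) _
  have : Smooth Z.hom := hZ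
  have hZ1 : Smooth ((Over.pullback S₁.ι).obj Z).hom := inferInstanceAs (Smooth (Limits.pullback.snd Z.hom S₁.ι))
  let F := Over.pullback E.hom
  have : (Over.map E.hom).IsEquivalence := (Over.mapIso E).isEquivalence_functor
  have : F.IsEquivalence := (Over.mapPullbackAdj E.hom).isEquivalence_right_of_isEquivalence_left
  let A : ((Over.pullback j).obj ((Over.pullback S₁.ι).obj Z) ⟶ (Over.pullback j).obj ((Over.pullback S₁.ι).obj N)) ≃
      ((Over.pullback S₀.ι).obj Z ⟶ (Over.pullback S₀.ι).obj N) :=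
    (Functor.FullyFaithful.ofFullyFaithful F).homEquiv.trans ((η.app Z).homCongr (η.app N)).symm
  have e : (fun g : Z ⟶ N => (Over.pullback S₀.ι).map g) =
      A ∘ (fun g => (Over.pullback j).map g) ∘ (fun g : Z ⟶ N => (Over.pullback S₁.ι).map g) := by
    funext g
    simp only [A, Function.comp_apply, Equiv.trans_apply, Functor.FullyFaithful.homEquiv_apply, Iso.homCongr_symm,
      Iso.homCongr_apply, Iso.app_hom, Iso.app_inv, Iso.symm_hom, Iso.symm_inv]
    exact (η.hom.naturality_assoc g (η.inv.app N)).symm.trans (by simp) |>.symm |>.trans (by simp [Functor.comp_map]; rfl)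
  rw [e]
  exact A.bijective.comp ((hN10 _ hZ1).comp (hN1 Z hZ))

end Groth.Agent.S13419
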