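import Groth.Statements.S13421
import Mathlib.CategoryTheory.Comma.Over.Pullback
import Mathlib.AlgebraicGeometry.Morphisms.Etale
-- import your own Groth.Agent.* helpers here

set_option autoImplicit false
set_option backward.isDefEq.respectTransparency.types false
universe u
open CategoryTheory AlgebraicGeometry
open NeronHD

namespace Groth.Agent.S13421

theorem pb_fst {X Y : Scheme.{u}} (j : X ⟶ Y) {A B : Over Y} (u : A ⟶ B) :
    ((Over.pullback j).map u).left ≫ Limits.pullback.fst B.hom j = Limits.pullback.fst A.hom j ≫ u.left :=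
  Limits.pullback.lift_fst _ _ _

theorem pb_ext {X Y : Scheme.{u}} (j : X ⟶ Y) {A B : Over Y}
    (x y : (Over.pullback j).obj A ⟶ (Over.pullback j).obj B)
    (h : x.left ≫ Limits.pullback.fst B.hom j = y.left ≫ Limits.pullback.fst B.hom j) : x = y :=
  Over.OverMorphism.ext (Limits.pullback.hom_ext h ((Over.w x).trans (Over.w y).symm))

/-- Let T be a locally Noetherian scheme over a field of characteristic 0 and T₀ ⊆ T a
scheme-theoretically dense open. Let f : S → T be étale and such that S, viewed as a T-scheme, has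
the Néron mapping property for T₀ ⊆ T, and let g : N → S be smooth and such that N, viewed as an
S-scheme, has the Néron mapping property for f⁻¹(T₀) ⊆ S (restriction of morphisms from smooth
schemes over the base is bijective). Then N → T, the composite g ≫ f, has the Néron mapping property
for T₀ ⊆ T. (Case of schemes, with smooth test schemes, of a statement about algebraic spaces.) -/
theorem result {k : Type u} [Field k] [CharZero k] {T : Scheme.{u}} (τ : T ⟶ Spec (CommRingCat.of k)) [IsLocallyNoetherian T] (T₀ : T.Opens) (hT₀ : CInt.IsSchematicallyDense T₀)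
    {S N : Scheme.{u}} (f : S ⟶ T) [Etale f] (g : N ⟶ S) [Smooth g]
    (hS : ∀ Z : Over T, Smooth Z.hom → Function.Bijective (fun g : Z ⟶ Over.mk f => (Over.pullback T₀.ι).map g))
    (hN : ∀ Z : Over S, Smooth Z.hom → Function.Bijective (fun g : Z ⟶ Over.mk g => (Over.pullback (f ⁻¹ᵁ T₀).ι).map g)) :
    ∀ Z : Over T, Smooth Z.hom → Function.Bijective (fun g : Z ⟶ Over.mk (g ≫ f) => (Over.pullback T₀.ι).map g) := by
  intro Z hZ
  have : Smooth Z.hom := hZ
  let N' : Over T := Over.mk (g ≫ f)
  let gO : N' ⟶ Over.mk f := Over.homMk g rfl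
  let F := Over.pullback T₀.ι
  let S₀ := f ⁻¹ᵁ T₀
  have hfst : ∀ {A B : Over T} (u : A ⟶ B), (F.map u).left ≫ Limits.pullback.fst B.hom T₀.ι =
      Limits.pullback.fst A.hom T₀.ι ≫ u.left := fun u => Limits.pullback.lift_fst _ _ _
  have hsm : ∀ s : Z ⟶ Over.mk f, Smooth s.left := fun s => by
    have w : (𝟙 Z.left) ≫ Z.hom = s.left ≫ f := (Category.id_comp _).trans (Over.w s).symm
    let σ := Limits.pullback.lift (𝟙 Z.left) s.left w
    have : Etale σ := by
      refine MorphismProperty.HasOfPostcompProperty.of_postcomp (W := @Etale) σ (Limits.pullback.fst Z.hom f)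
        (show Etale (Limits.pullback.fst Z.hom f) from inferInstance) ?_
      rw [Limits.pullback.lift_fst]
      infer_instance
    rw [← (Limits.pullback.lift_snd _ _ w : σ ≫ Limits.pullback.snd Z.hom f = s.left)]
    infer_instance
  -- comparison of the two restrictions
  have comparison : ∀ s : Z ⟶ Over.mk f, ∃ m : Limits.pullback s.left S₀.ι ⟶ Limits.pullback Z.hom T₀.ι,
      m ≫ Limits.pullback.fst Z.hom T₀.ι = Limits.pullback.fst s.left S₀.ι ∧ Epi m := fun s => by
    have hs : s.left ≫ f = Z.hom := Over.w s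
    have w1 : Limits.pullback.fst s.left S₀.ι ≫ Z.hom = (Limits.pullback.snd s.left S₀.ι ≫ f.resLE T₀ S₀ le_rfl) ≫ T₀.ι := by
      rw [Category.assoc, Scheme.Hom.resLE_comp_ι, ← Category.assoc (Limits.pullback.snd s.left S₀.ι), ← Limits.pullback.condition,
        Category.assoc, hs]
    have hr : Set.range (Limits.pullback.fst Z.hom T₀.ι ≫ s.left) ⊆ Set.range S₀.ι := by
      rw [Scheme.Opens.range_ι]
      rintro _ ⟨b, rfl⟩
      show f ((Limits.pullback.fst Z.hom T₀.ι ≫ s.left) b) ∈ T₀
      rw [← Scheme.Hom.comp_apply, Category.assoc, hs, Limits.pullback.condition, Scheme.Hom.comp_apply]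
      exact Set.mem_of_mem_of_subset (Set.mem_range_self _) (Scheme.Opens.range_ι T₀).le
    let k := IsOpenImmersion.lift S₀.ι (Limits.pullback.fst Z.hom T₀.ι ≫ s.left) hr
    let r : Limits.pullback Z.hom T₀.ι ⟶ Limits.pullback s.left S₀.ι :=
      Limits.pullback.lift (Limits.pullback.fst Z.hom T₀.ι) k (IsOpenImmersion.lift_fac _ _ _).symm
    refine ⟨Limits.pullback.lift _ _ w1, Limits.pullback.lift_fst _ _ _, ?_⟩
    have hr' : r ≫ Limits.pullback.lift _ _ w1 = 𝟙 _ := by
      apply Limits.pullback.hom_ext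
      · rw [Category.assoc, Limits.pullback.lift_fst, Limits.pullback.lift_fst, Category.id_comp]
      · rw [← cancel_mono T₀.ι, Category.assoc, Category.assoc, Category.assoc, ← Limits.pullback.condition,
          Limits.pullback.lift_fst_assoc, Limits.pullback.lift_fst_assoc, Category.id_comp, Limits.pullback.condition]
    have : Epi (r ≫ Limits.pullback.lift _ _ w1) := hr' ▸ inferInstance
    exact epi_of_epi r _
  refine ⟨fun g₁ g₂ e => ?_, fun x => ?_⟩
  · dsimp only at e
    have es : g₁ ≫ gO = g₂ ≫ gO := (hS Z hZ).1 (by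
      show F.map (g₁ ≫ gO) = F.map (g₂ ≫ gO)
      rw [F.map_comp, F.map_comp]
      exact congrArg (· ≫ F.map gO) e)
    let s : Z ⟶ Over.mk f := g₁ ≫ gO
    let h₁ : Over.mk s.left ⟶ Over.mk g := Over.homMk g₁.left rfl
    let h₂ : Over.mk s.left ⟶ Over.mk g := Over.homMk g₂.left (congrArg (fun u => u.left) es).symm
    obtain ⟨m, hm, -⟩ := comparison s
    have e' : (F.map g₁).left ≫ Limits.pullback.fst N'.hom T₀.ι = (F.map g₂).left ≫ Limits.pullback.fst N'.hom T₀.ι :=
      congrArg (fun u : F.obj Z ⟶ F.obj N' => u.left ≫ Limits.pullback.fst N'.hom T₀.ι) e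
    rw [hfst g₁, hfst g₂] at e'
    have e'' : Limits.pullback.fst s.left S₀.ι ≫ g₁.left = Limits.pullback.fst s.left S₀.ι ≫ g₂.left := by
      rw [← hm, Category.assoc, Category.assoc, e']
    have eh : h₁ = h₂ := (hN _ (hsm s)).1 (pb_ext S₀.ι _ _ ((pb_fst S₀.ι h₁).trans (e''.trans (pb_fst S₀.ι h₂).symm)))
    exact Over.OverMorphism.ext (congrArg (fun u : Over.mk s.left ⟶ Over.mk g => u.left) eh)
  · obtain ⟨s, hs⟩ := (hS Z hZ).2 (x ≫ F.map gO)
    dsimp only at hs
    obtain ⟨m, hm, hepi⟩ := comparison s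
    let nA := m ≫ x.left ≫ Limits.pullback.fst (g ≫ f) T₀.ι
    have hn : nA ≫ g = Limits.pullback.fst s.left S₀.ι ≫ s.left := by
      rw [← hm, Category.assoc (m) (Limits.pullback.fst Z.hom T₀.ι)]
      simp only [nA, Category.assoc]
      refine congrArg (m ≫ ·) ?_
      refine Eq.trans ?_ (hfst s)
      refine Eq.trans ?_ (congrArg (fun u => u.left ≫ Limits.pullback.fst f T₀.ι) hs).symm
      exact (congrArg (x.left ≫ ·) (hfst gO).symm).trans (Category.assoc _ _ _).symm
    let y : (Over.pullback S₀.ι).obj (Over.mk s.left) ⟶ (Over.pullback S₀.ι).obj (Over.mk g) :=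
      Over.homMk (Limits.pullback.lift nA (Limits.pullback.snd s.left S₀.ι)
        (hn.trans Limits.pullback.condition)) (Limits.pullback.lift_snd _ _ _)
    obtain ⟨h, hh⟩ := (hN _ (hsm s)).2 y
    dsimp only at hh
    have hw : h.left ≫ g ≫ f = Z.hom := by
      rw [← Category.assoc, show h.left ≫ g = s.left from Over.w h]
      exact Over.w s
    refine ⟨Over.homMk h.left hw, Over.OverMorphism.ext (Limits.pullback.hom_ext ?_ ((Over.w _).trans (Over.w x).symm))⟩
    refine (hfst _).trans ?_
    show Limits.pullback.fst Z.hom T₀.ι ≫ h.left = _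
    rw [← cancel_epi m, ← Category.assoc, hm]
    refine Eq.trans ?_ (Limits.pullback.lift_fst nA (Limits.pullback.snd s.left S₀.ι) (hn.trans Limits.pullback.condition))
    exact (Limits.pullback.lift_fst _ _ _).symm.trans (congrArg (fun u => u.left ≫ Limits.pullback.fst g S₀.ι) hh)

end Groth.Agent.S13421
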