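import Groth.Statements.S13423
import Groth.Agent.UnibFib.EtaleConn
import Groth.Agent.UnibFib.SchemeConn
import Groth.Agent.FibrewiseCrit.EtaleOrder
import Groth.Agent.SmoothQF.Basic

set_option autoImplicit false
universe u
open CategoryTheory AlgebraicGeometry
open NeronHD

namespace Groth.Agent.S13423

/-- Let S be a reduced, locally Noetherian scheme over a field of characteristic 0 whose local rings are
all geometrically unibranch, and let f : X → S be quasi-finite (locally of finite type,
quasi-compact, with finite discrete fibres), separated and dominant, with X connected and nonempty,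
such that every fibre X_s over the residue field k(s) is smooth. Then f is étale. (Case of schemes
of a statement about algebraic spaces.) -/
theorem formallyUnramified_of_smooth_quasiFinite_field {K : Type u} [Field K] {Z : Scheme.{u}}
    (g : Z ⟶ Spec (CommRingCat.of K)) [Smooth g] [LocallyQuasiFinite g] : FormallyUnramified g := by
  rw [HasRingHomProperty.iff_appLE (P := @FormallyUnramified)]
  intro U V e
  have hsm : (g.appLE U.1 V.1 e).hom.Smooth :=
    HasRingHomProperty.appLE @Smooth g inferInstance U V e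
  have hqf : (g.appLE U.1 V.1 e).hom.QuasiFinite := LocallyQuasiFinite.quasiFinite_appLE U.2 V.2 e
  algebraize [(g.appLE U.1 V.1 e).hom]
  show Algebra.FormallyUnramified Γ(Spec (CommRingCat.of K), U.1) Γ(Z, V.1)
  rcases isEmpty_or_nonempty U.1 with hU | hU
  · haveI : Subsingleton Γ(Spec (CommRingCat.of K), U.1) := by
      have : U.1 = ⊥ := by
        ext x
        exact ⟨fun hx => (hU.false ⟨x, hx⟩).elim, fun hx => hx.elim⟩
      rw [this]; infer_instance
    haveI : Subsingleton Γ(Z, V.1) := (algebraMap Γ(Spec (CommRingCat.of K), U.1) Γ(Z, V.1)).codomain_trivial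
    infer_instance
  · have htop : U.1 = ⊤ := by
      ext x
      obtain ⟨u, hu⟩ := hU
      haveI : Subsingleton ↥(Spec (CommRingCat.of K)) := inferInstanceAs (Subsingleton (PrimeSpectrum K))
      exact ⟨fun _ => trivial, fun _ => Subsingleton.elim u x ▸ hu⟩
    have hF : IsField Γ(Spec (CommRingCat.of K), U.1) := by
      rw [htop]
      exact MulEquiv.isField (Field.toIsField K) (Scheme.ΓSpecIso (CommRingCat.of K)).commRingCatIsoToRingEquiv.toMulEquiv
    letI := hF.toField
    haveI : Module.Finite Γ(Spec (CommRingCat.of K), U.1) Γ(Z, V.1) := Module.Finite.of_quasiFinite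
    exact Groth.Agent.SmoothQF.formallyUnramified_of_finite

theorem result {k : Type u} [Field k] [CharZero k] {S : Scheme.{u}} (σ : S ⟶ Spec (CommRingCat.of k)) [IsLocallyNoetherian S] [IsReduced S]
    (hS : ∀ s : S, CAlg2.IsGeomUnibranch (S.presheaf.stalk s))
    {X : Scheme.{u}} (f : X ⟶ S) [LocallyOfFiniteType f] [QuasiCompact f] [LocallyQuasiFinite f] [IsSeparated f] [IsDominant f]
    [ConnectedSpace X]
    (hfib : ∀ s : S, Smooth (Limits.pullback.snd f (S.fromSpecResidueField s))) :
    Etale f := by
  haveI : FormallyUnramified f := by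
    refine Groth.FibrewiseCrit.formallyUnramified_of_fiberToSpecResidueField f fun s => ?_
    haveI : Smooth (f.fiberToSpecResidueField s) := hfib s
    haveI : LocallyQuasiFinite (f.fiberToSpecResidueField s) :=
      inferInstanceAs (LocallyQuasiFinite (Limits.pullback.snd f _))
    exact @formallyUnramified_of_smooth_quasiFinite_field _ _ _ (f.fiberToSpecResidueField s) (hfib s) ‹_›
  have hdom : ∀ s : S, IsDomain (S.presheaf.stalk s) := fun s => by
    have h : IsDomain (CAlg2.red (S.presheaf.stalk s)) := (hS s).1.1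
    have e : nilradical (S.presheaf.stalk s) = ⊥ := nilradical_eq_zero _
    haveI : (⊥ : Ideal (S.presheaf.stalk s)).IsPrime := e ▸ (Ideal.Quotient.isDomain_iff_prime _).1 h
    exact IsDomain.of_bot_isPrime _
  obtain ⟨x₀⟩ := (inferInstance : Nonempty X)
  obtain ⟨η, -, hηs, hηm⟩ := Groth.Agent.UnibFib.exists_gen_mem_of_mem_closure (X := S) isOpen_univ
    (subset_closure (Set.mem_univ (f.base x₀)))
  have hC : IsOpen (closure ({η} : Set S)) := isOpen_iff_forall_mem_open.2 fun y hy => by
    obtain ⟨U₀, hy₀, hU₀⟩ := Groth.Agent.GeomUnib.exists_opens_subset_closure y η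
      (specializes_iff_mem_closure.2 hy) hηm (hS y).1.1
    exact ⟨U₀, hU₀, U₀.2, hy₀⟩
  have hpre : f.base ⁻¹' closure ({η} : Set S) = Set.univ :=
    IsClopen.eq_univ ⟨isClosed_closure.preimage f.continuous, hC.preimage f.continuous⟩ ⟨x₀, hηs.mem_closure⟩
  have huniv : closure ({η} : Set S) = Set.univ := by
    refine Set.eq_univ_of_univ_subset ?_
    rw [← f.denseRange.closure_range]
    exact closure_minimal (by rintro _ ⟨x, rfl⟩; exact (hpre.ge trivial : x ∈ f.base ⁻¹' _)) isClosed_closure
  haveI : IrreducibleSpace S := (irreducibleSpace_def _).2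
    (show IsIrreducible (Set.univ : Set S) from huniv ▸ isIrreducible_singleton.closure)
  haveI : IsIntegral S := isIntegral_of_irreducibleSpace_of_isReduced S
  obtain ⟨V, hV⟩ : ∃ V : S.Opens, IsAffineOpen V ∧ genericPoint S ∈ V := by
    obtain ⟨_, ⟨V, hV, rfl⟩, hxV, -⟩ :=
      S.isBasis_affineOpens.exists_subset_of_mem_open (Set.mem_univ (genericPoint S)) isOpen_univ
    exact ⟨V, hV, hxV⟩
  have hdomrange : ∃ x : X, f.base x = genericPoint S := by
    haveI : IsLocallyNoetherian X := LocallyOfFiniteType.isLocallyNoetherian f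
    have hcpt : IsCompact (f.base ⁻¹' (V : Set S)) := QuasiCompact.isCompact_preimage _ V.2 hV.1.isCompact
    let P : Set X := {z | f.base z ∈ V ∧ ∀ z', z' ⤳ z → z ⤳ z'}
    have hP : ∀ x ∈ f.base ⁻¹' (V : Set S), ∃ z ∈ P, z ⤳ x := fun x hx => by
      obtain ⟨z, hz, hzx, hm⟩ := Groth.Agent.UnibFib.exists_gen_mem_of_mem_closure (X := X)
        (V.2.preimage f.continuous) (subset_closure hx)
      exact ⟨z, ⟨hz, hm⟩, hzx⟩
    have hfin : P.Finite := by
      haveI : CompactSpace (f ⁻¹ᵁ V : X.Opens).toScheme := isCompact_iff_compactSpace.1 hcpt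
      haveI : IsNoetherian (f ⁻¹ᵁ V : X.Opens).toScheme := { }
      haveI : TopologicalSpace.NoetherianSpace ↥(f ⁻¹ᵁ V : X.Opens).toScheme := inferInstance
      refine ((TopologicalSpace.NoetherianSpace.finite_irreducibleComponents
        (α := ↥(f ⁻¹ᵁ V : X.Opens).toScheme)).image (fun Z => closure ((f ⁻¹ᵁ V).ι.base '' Z))).of_injOn
        (f := fun z => closure ({z} : Set X)) ?_ fun z hz z' hz' e => ?_
      · rintro z ⟨hz, hm⟩
        let u : ↥(f ⁻¹ᵁ V : X.Opens).toScheme := ⟨z, hz⟩
        refine ⟨closure {u}, ⟨isIrreducible_singleton.closure, fun T hT hsub => ?_⟩, ?_⟩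
        · obtain ⟨g, hg⟩ := QuasiSober.sober hT.closure isClosed_closure
          have hgu : g ⤳ u := hg.specializes (subset_closure (hsub (subset_closure rfl)))
          have hug : u ⤳ g :=
            ((f ⁻¹ᵁ V).ι.isOpenEmbedding.toIsInducing.specializes_iff).1 (hm _ (hgu.map (f ⁻¹ᵁ V).ι.continuous))
          exact subset_closure.trans (hg.symm.le.trans (closure_minimal (Set.singleton_subset_iff.2 hug.mem_closure) isClosed_closure))
        · show closure ((f ⁻¹ᵁ V).ι.base '' closure {u}) = closure {z}
          rw [closure_image_closure (f ⁻¹ᵁ V).ι.continuous, Set.image_singleton]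
          rfl
      · exact ((specializes_iff_mem_closure.2 (e.symm.le (subset_closure rfl) : z' ∈ closure {z}))).antisymm
          (specializes_iff_mem_closure.2 (e.le (subset_closure rfl) : z ∈ closure {z'})) |>.eq
    have hη : genericPoint S ∈ closure (f.base '' (f.base ⁻¹' (V : Set S))) := by
      rw [Set.image_preimage_eq_inter_range]
      refine closure_mono le_rfl (V.2.inter_closure ⟨hV.2, ?_⟩)
      rw [f.denseRange.closure_range]; trivial
    have hsub : f.base '' (f.base ⁻¹' (V : Set S)) ⊆ ⋃ z ∈ P, closure {f.base z} := by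
      rintro _ ⟨x, hx, rfl⟩
      obtain ⟨z, hz, hzx⟩ := hP x hx
      exact Set.mem_iUnion₂.2 ⟨z, hz, (hzx.map f.continuous).mem_closure⟩
    obtain ⟨z, -, hz⟩ := Set.mem_iUnion₂.1 (closure_minimal hsub (hfin.isClosed_biUnion fun _ _ => isClosed_closure) hη)
    exact ⟨z, ((specializes_iff_mem_closure.2 hz).antisymm ((genericPoint_spec S).specializes trivial)).eq⟩
  exact (Groth.Agent.UnibFib.etale_of_connected f hS hdomrange).1

end Groth.Agent.S13423
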