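import Groth.Statements.S13425
import Groth.Agent.BirQF.Basic
-- import your own Groth.Agent.* helpers here

set_option autoImplicit false
universe u
open CategoryTheory CategoryTheory.Limits AlgebraicGeometry
open NeronHD

namespace Groth.Agent.S13425

/-- Let k be a characteristic-zero algebraically closed field and X, Y integral schemes, separated and
of finite type over k, with Y normal, and let f : X → Y be a dominant k-morphism which is injective
on k-rational points. Then f is an open immersion. (Case of schemes of a statement about algebraic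
spaces.) -/
theorem result {k : Type u} [Field k] [IsAlgClosed k] [CharZero k]
    {X Y : Scheme.{u}} (sX : X ⟶ Spec (CommRingCat.of k)) (sY : Y ⟶ Spec (CommRingCat.of k))
    [IsIntegral X] [IsIntegral Y] [IsSeparated sX] [IsSeparated sY]
    [LocallyOfFiniteType sX] [QuasiCompact sX] [LocallyOfFiniteType sY] [QuasiCompact sY]
    (hY : Pi1.IsNormalScheme Y)
    (f : X ⟶ Y) (hf : f ≫ sY = sX) [IsDominant f]
    (hinj : ∀ a b : Spec (CommRingCat.of k) ⟶ X, a ≫ sX = 𝟙 _ → b ≫ sX = 𝟙 _ → a ≫ f = b ≫ f → a = b) :
    IsOpenImmersion f := by
  haveI : LocallyOfFiniteType f := by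
    haveI : LocallyOfFiniteType (f ≫ sY) := hf ▸ ‹LocallyOfFiniteType sX›
    exact locallyOfFiniteType_of_comp f sY
  haveI : IsSeparated f := by
    haveI : IsSeparated (f ≫ sY) := hf ▸ ‹IsSeparated sX›
    exact IsSeparated.of_comp f sY
  haveI : QuasiCompact f := by
    haveI : QuasiCompact (f ≫ sY) := hf ▸ ‹QuasiCompact sX›
    exact QuasiCompact.of_comp f sY
  haveI : UniversallyInjective f := by
    rw [UniversallyInjective.iff_diagonal]
    let s := pullback.fst f f ≫ sX
    haveI : LocallyOfFiniteType s := inferInstance
    haveI : JacobsonSpace (pullback f f : Scheme.{u}) := LocallyOfFiniteType.jacobsonSpace s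
    refine ⟨fun z => ?_⟩
    have hsub : closedPoints ↥(pullback f f : Scheme.{u}) ⊆ Set.range (pullback.diagonal f) := by
      intro z hz
      let p := pointOfClosedPoint s z hz
      have hp : p ≫ pullback.fst f f ≫ sX = 𝟙 _ := pointOfClosedPoint_comp s z hz
      have hab : p ≫ pullback.fst f f = p ≫ pullback.snd f f :=
        hinj _ _ (by rw [Category.assoc, hp]) (by
          rw [Category.assoc, ← hf, ← pullback.condition_assoc, hf, hp]) (by simp [pullback.condition])
      have hpd : p = (p ≫ pullback.fst f f) ≫ pullback.diagonal f := by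
        apply pullback.hom_ext
        · simp
        · simp [hab]
      let o : Spec (CommRingCat.of k) := IsLocalRing.closedPoint k
      refine ⟨(p ≫ pullback.fst f f) o, ?_⟩
      change ((p ≫ pullback.fst f f) ≫ pullback.diagonal f) o = z
      rw [← hpd]
      exact pointOfClosedPoint_apply s z hz _
    have hcl : IsClosed (Set.range (pullback.diagonal f)) := (pullback.diagonal f).isClosedEmbedding.isClosed_range
    have h : closure (closedPoints ↥(pullback f f : Scheme.{u})) ⊆ Set.range (pullback.diagonal f) := closure_minimal hsub hcl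
    exact h (by rw [closure_closedPoints]; trivial)
  haveI : LocallyQuasiFinite f := .of_finite_preimage_singleton f fun y =>
    (Set.finite_singleton y).preimage f.injective.injOn
  refine BirQF.isOpenImmersion_of_birational f (fun y => (hY y).2) ?_
  let ξ := genericPoint X
  have hξ : f ξ = genericPoint Y :=
    (((genericPoint_spec X).image f.continuous).eq (by
      simpa [f.denseRange.closure_range] using genericPoint_spec Y))
  have hFY : IsField (Y.presheaf.stalk (f ξ)) := by rw [hξ]; exact Field.toIsField Y.functionField
  letI := hFY.toField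
  have hres : Function.Bijective (f.residueFieldMap ξ).hom := by
    refine ⟨RingHom.injective _, ?_⟩
    have hpi : (f.residueFieldMap ξ).hom.IsPurelyInseparable :=
      ((List.TFAE.out (tfae_universallyInjective (f := f)) 0 2 (a := UniversallyInjective f)
        (b := Function.Injective f ∧ ∀ x, (f.residueFieldMap x).hom.IsPurelyInseparable) rfl rfl).1 inferInstance).2 ξ
    letI := (f.residueFieldMap ξ).hom.toAlgebra
    haveI : CharZero (Y.residueField (f ξ)) := by
      let φ : CommRingCat.of k ⟶ Y.residueField (f ξ) := Spec.preimage (Y.fromSpecResidueField (f ξ) ≫ sY)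
      exact charZero_of_injective_ringHom φ.hom.injective
    haveI : IsPurelyInseparable (Y.residueField (f ξ)) (X.residueField ξ) := hpi
    exact IsPurelyInseparable.surjective_algebraMap_of_isSeparable _ _
  have hXf : IsField (X.presheaf.stalk ξ) := Field.toIsField X.functionField
  rw [ConcreteCategory.isIso_iff_bijective]
  refine ⟨RingHom.injective (f.stalkMap ξ).hom, fun a => ?_⟩
  obtain ⟨b, hb⟩ := hres.2 (X.residue ξ a)
  obtain ⟨c, rfl⟩ := Y.residue_surjective _ b
  refine ⟨c, ?_⟩
  have h2 : X.residue ξ (f.stalkMap ξ c - a) = 0 := by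
    rw [map_sub, sub_eq_zero, ← hb]
    exact (ConcreteCategory.congr_hom (Scheme.residue_residueFieldMap f ξ) c).symm
  have h3 := (IsLocalRing.residue_eq_zero_iff _).1 h2
  rw [IsLocalRing.isField_iff_maximalIdeal_eq.1 hXf, Ideal.mem_bot, sub_eq_zero] at h3
  exact h3

end Groth.Agent.S13425
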