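import Groth.Statements.S13441
import Mathlib.LinearAlgebra.Dimension.Finite
import Mathlib.Tactic.FinCases
-- import your own Groth.Agent.* helpers here

set_option autoImplicit false
universe u
open W4c1hilbpn

namespace Groth.Agent.S13441

open W4c1hilbpn in
/-- Let k be an infinite field, S = k[x,y,z] with variables ordered x > y > z, and I a strongly stable
ideal of finite colength, with staircase numbers b^z_{i,j} = the number of c with x^i y^j z^c
outside I and b^y_{i,j} = the number of b with x^i y^b z^j outside I. Then b^z_{i+1,j} ≤ b^z_{i,j+1}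
and b^y_{i+1,j} ≤ b^y_{i,j+1} for all i and j (equivalently the maximum of the two neighbouring
staircase numbers is the second one). -/
theorem result (k : Type u) [Field k] [Infinite k]
    (I : Ideal (MvPolynomial (Fin 3) k)) (hI : IsStronglyStable I) [Module.Finite k (MvPolynomial (Fin 3) k ⧸ I)] (i j : ℕ) :
    stairZ I (i + 1) j ≤ stairZ I i (j + 1) ∧ stairY I (i + 1) j ≤ stairY I i (j + 1) := by
  classical
  -- only finitely many monomials lie outside `I` along a line
  have fin : ∀ E : ℕ → (Fin 3 →₀ ℕ), Function.Injective E → Finite {c : ℕ // E c ∉ exps I} := by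
    intro E hE
    have hli : LinearIndependent k (fun c : {c : ℕ // E c ∉ exps I} =>
        Ideal.Quotient.mk I (MvPolynomial.monomial (E c.1) (1 : k))) := by
      rw [linearIndependent_iff]
      intro l hl
      let P : MvPolynomial (Fin 3) k := Finsupp.linearCombination k
        (fun c : {c : ℕ // E c ∉ exps I} => MvPolynomial.monomial (E c.1) (1 : k)) l
      have hP : P ∈ I := by
        rw [← Ideal.Quotient.eq_zero_iff_mem]
        change (Ideal.Quotient.mkₐ k I).toLinearMap P = 0
        rw [Finsupp.apply_linearCombination]
        exact hl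
      ext c
      have hcoef : MvPolynomial.coeff (E c.1) P = l c := by
        simp only [P, Finsupp.linearCombination_apply, Finsupp.sum, MvPolynomial.coeff_sum,
          MvPolynomial.coeff_smul, MvPolynomial.coeff_monomial, smul_eq_mul, mul_ite, mul_one, mul_zero]
        rw [Finset.sum_eq_single c (fun d _ hd => if_neg fun h => hd (Subtype.ext (hE h)))
          (fun hc => by rw [if_pos rfl]; exact Finsupp.notMem_support_iff.1 hc), if_pos rfl]
      by_contra hne
      exact c.2 (hI.1 P hP (E c.1) (MvPolynomial.mem_support_iff.2 (by rwa [hcoef])))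
    exact hli.finite
  constructor
  · have h2 : Finite {c : ℕ // e3 i (j + 1) c ∉ exps I} := fin _ fun a b h => by
      simpa [e3] using DFunLike.congr_fun h 2
    refine Nat.card_le_card_of_injective (fun c => ⟨c.1, fun h => c.2 ?_⟩)
      fun a b h => Subtype.ext (congrArg (fun z => z.1) h)
    have h' := hI.2 _ h 0 1 (by decide) (by simp [e3])
    convert h' using 1
    ext l
    fin_cases l <;> simp [e3, Matrix.vecHead, Matrix.vecTail]
  · have h2 : Finite {b : ℕ // e3 i b (j + 1) ∉ exps I} := fin _ fun a b h => by
      simpa [e3] using DFunLike.congr_fun h 1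
    refine Nat.card_le_card_of_injective (fun c => ⟨c.1, fun h => c.2 ?_⟩)
      fun a b h => Subtype.ext (congrArg (fun z => z.1) h)
    have h' := hI.2 _ h 0 2 (by decide) (by simp [e3])
    convert h' using 1
    ext l
    fin_cases l <;> simp [e3, Matrix.vecHead, Matrix.vecTail]

end Groth.Agent.S13441
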