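import Groth.Statements.S13453
import Mathlib.RingTheory.MvPolynomial.Ideal
import Mathlib.Algebra.MvPolynomial.Rename
import Mathlib.Tactic.FinCases
-- import your own Groth.Agent.* helpers here

set_option autoImplicit false
universe u
open W4c1hilbpn

namespace Groth.Agent.S13453

open W4c1hilbpn in
/-- Let k be an infinite field, S = k[x,y,z] with variables ordered x > y > z, and I a strongly stable
ideal of finite colength; write I_i for the ideal of polynomials f in k[y,z] with x^i f in I (so I
is the direct sum of the x^i I_i). Then each I_i is a strongly stable ideal of k[y,z] (with y > z)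
and the ideal quotient (I_i : y) is contained in I_{i+1}. -/
theorem result (k : Type u) [Field k] [Infinite k]
    (I : Ideal (MvPolynomial (Fin 3) k)) (hI : IsStronglyStable I) [Module.Finite k (MvPolynomial (Fin 3) k ⧸ I)] (i : ℕ) :
    IsStronglyStable (sliceX I i) ∧
      (sliceX I i).colon {(MvPolynomial.X 0 : MvPolynomial (Fin 2) k)} ≤ sliceX I (i + 1) := by
  classical
  let Ex : (Fin 2 →₀ ℕ) → (Fin 3 →₀ ℕ) := fun β => e3 i (β 0) (β 1)
  have hExinj : Function.Injective Ex := by
    intro a b h
    ext l
    fin_cases l
    · simpa [Ex, e3] using DFunLike.congr_fun h 1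
    · simpa [Ex, e3] using DFunLike.congr_fun h 2
  have hmap : ∀ (a : ℕ) (β : Fin 2 →₀ ℕ),
      Finsupp.mapDomain Fin.succ β + Finsupp.single (0 : Fin 3) a = e3 a (β 0) (β 1) := by
    intro a β
    ext l
    fin_cases l
    · simp [e3, Finsupp.mapDomain_notin_range, Fin.succ_ne_zero]
    · have := Finsupp.mapDomain_apply (Fin.succ_injective 2) β 0
      simp_all [e3]
    · have := Finsupp.mapDomain_apply (Fin.succ_injective 2) β 1
      simp_all [e3]
  -- membership in a slice, monomial by monomial
  have key : ∀ (a : ℕ) (f : MvPolynomial (Fin 2) k),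
      f ∈ sliceX I a ↔ ∀ β ∈ f.support, e3 a (β 0) (β 1) ∈ exps I := by
    intro a f
    have hmul : MvPolynomial.rename Fin.succ f * MvPolynomial.X 0 ^ a =
        ∑ β ∈ f.support, MvPolynomial.monomial (e3 a (β 0) (β 1)) (MvPolynomial.coeff β f) := by
      conv_lhs => rw [MvPolynomial.as_sum f]
      rw [map_sum, Finset.sum_mul]
      refine Finset.sum_congr rfl fun β _ => ?_
      rw [MvPolynomial.rename_monomial, MvPolynomial.X_pow_eq_monomial, MvPolynomial.monomial_mul,
        mul_one, hmap]
    have hmem : f ∈ sliceX I a ↔ MvPolynomial.rename Fin.succ f * MvPolynomial.X 0 ^ a ∈ I := by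
      simp [sliceX, Ideal.mem_comap, Submodule.mem_colon_singleton]
    rw [hmem, hmul]
    constructor
    · intro h β hβ
      refine hI.1 _ h _ ?_
      rw [MvPolynomial.mem_support_iff, MvPolynomial.coeff_sum]
      simp only [MvPolynomial.coeff_monomial]
      rw [Finset.sum_eq_single β ?_ (fun hb => absurd hβ hb), if_pos rfl]
      · exact MvPolynomial.mem_support_iff.1 hβ
      · intro b _ hb
        refine if_neg fun he => hb ?_
        ext l
        fin_cases l
        · simpa [e3] using DFunLike.congr_fun he 1
        · simpa [e3] using DFunLike.congr_fun he 2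
    · intro h
      refine Ideal.sum_mem _ fun β hβ => ?_
      rw [← mul_one (MvPolynomial.coeff β f), ← smul_eq_mul (a := MvPolynomial.coeff β f),
        ← MvPolynomial.smul_monomial]
      exact Submodule.smul_of_tower_mem _ _ (h β hβ)
  have hexps : ∀ (a : ℕ) (β : Fin 2 →₀ ℕ),
      β ∈ exps (sliceX I a) ↔ e3 a (β 0) (β 1) ∈ exps I := by
    intro a β
    change MvPolynomial.monomial β (1 : k) ∈ sliceX I a ↔ _
    rw [key, MvPolynomial.support_monomial, if_neg one_ne_zero]
    simp
  refine ⟨⟨?_, ?_⟩, ?_⟩
  · intro f hf β hβ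
    exact (hexps i β).2 ((key i f).1 hf β hβ)
  · intro β hβ a b hab hb
    rw [hexps] at hβ ⊢
    have ha : a = 0 := by fin_cases a <;> fin_cases b <;> simp_all
    have hb1 : b = 1 := by fin_cases a <;> fin_cases b <;> simp_all
    subst ha hb1
    have h' := hI.2 _ hβ 1 2 (by decide) (by simpa [e3] using hb)
    convert h' using 1
    ext l
    fin_cases l <;> simp [e3, Matrix.vecHead, Matrix.vecTail]
  · intro f hf
    rw [Submodule.mem_colon_singleton, smul_eq_mul, key] at hf
    rw [key]
    intro β hβ
    have h1 := hf (β + Finsupp.single 0 1) (by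
      rw [MvPolynomial.mem_support_iff, MvPolynomial.coeff_mul_X]
      exact MvPolynomial.mem_support_iff.1 hβ)
    have h' := hI.2 _ h1 0 1 (by decide) (by simp [e3])
    convert h' using 1
    ext l
    fin_cases l <;> simp [e3, Matrix.vecHead, Matrix.vecTail]

end Groth.Agent.S13453
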