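import Groth.Statements.S13455
import Mathlib
-- import your own Groth.Agent.* helpers here

set_option autoImplicit false
universe u
open W4c1hilbpn

namespace Groth.Agent.S13455

/-- Let k be an algebraically closed field of characteristic different from 2, k0 ≥ 1 and n ≥ 2k0 - 1
natural numbers, S = k[x_0, ..., x_n], and e1 ≤ e2 ≤ k0 - 1. The ideal generated by all products x_p
x_q with e1 ≤ p, q ≤ e2 together with the products x_p x_{n-k0+1+q} for e1 ≤ p < q ≤ e2 is the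
intersection, over j from e1 to e2, of the ideals generated by the variables x_i with e1 ≤ i ≤ e2
and i ≠ j, the square x_j^2, and the variables x_{n-k0+1+q} for j < q ≤ e2 (a primary decomposition
of this monomial ideal). -/
theorem result (k : Type u) [Field k] [IsAlgClosed k] (hchar : ringChar k ≠ 2)
    (n k0 e1 e2 : ℕ) (hk : 1 ≤ k0) (hn : 2 * k0 ≤ n + 1) (he : e1 ≤ e2) (he2 : e2 + 1 ≤ k0) :
    Ideal.span ({f : MvPolynomial (Fin (n + 1)) k | ∃ p q : Fin (n + 1), e1 ≤ p.val ∧ p.val ≤ e2 ∧ e1 ≤ q.val ∧ q.val ≤ e2 ∧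
        f = MvPolynomial.X p * MvPolynomial.X q} ∪
      {f : MvPolynomial (Fin (n + 1)) k | ∃ p q m : Fin (n + 1), e1 ≤ p.val ∧ p.val < q.val ∧ q.val ≤ e2 ∧
        m.val + k0 = n + 1 + q.val ∧ f = MvPolynomial.X p * MvPolynomial.X m}) =
    ⨅ j : Fin (n + 1), ⨅ (_ : e1 ≤ j.val ∧ j.val ≤ e2),
      Ideal.span ({f : MvPolynomial (Fin (n + 1)) k | ∃ i : Fin (n + 1), e1 ≤ i.val ∧ i.val ≤ e2 ∧ i ≠ j ∧ f = MvPolynomial.X i} ∪
        {MvPolynomial.X j ^ 2} ∪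
        {f : MvPolynomial (Fin (n + 1)) k | ∃ q m : Fin (n + 1), j.val < q.val ∧ q.val ≤ e2 ∧ m.val + k0 = n + 1 + q.val ∧
          f = MvPolynomial.X m}) := by
  classical
  let e : Fin (n + 1) → Fin (n + 1) →₀ ℕ := fun i => Finsupp.single i 1
  let L : Set (Fin (n + 1) →₀ ℕ) :=
    {d | ∃ p q : Fin (n + 1), e1 ≤ p.val ∧ p.val ≤ e2 ∧ e1 ≤ q.val ∧ q.val ≤ e2 ∧ d = e p + e q} ∪
    {d | ∃ p q m : Fin (n + 1), e1 ≤ p.val ∧ p.val < q.val ∧ q.val ≤ e2 ∧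
        m.val + k0 = n + 1 + q.val ∧ d = e p + e m}
  let Q : Fin (n + 1) → Set (Fin (n + 1) →₀ ℕ) := fun j =>
    {d | ∃ i : Fin (n + 1), e1 ≤ i.val ∧ i.val ≤ e2 ∧ i ≠ j ∧ d = e i} ∪ {e j + e j} ∪
    {d | ∃ q m : Fin (n + 1), j.val < q.val ∧ q.val ≤ e2 ∧ m.val + k0 = n + 1 + q.val ∧ d = e m}
  have hX : ∀ i : Fin (n + 1), (MvPolynomial.X i : MvPolynomial (Fin (n + 1)) k) =
      MvPolynomial.monomial (e i) 1 := fun i => rfl
  have hXX : ∀ i j : Fin (n + 1), (MvPolynomial.X i * MvPolynomial.X j : MvPolynomial (Fin (n + 1)) k) =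
      MvPolynomial.monomial (e i + e j) 1 := fun i j => by rw [hX, hX, MvPolynomial.monomial_mul, one_mul]
  have hL : ({f : MvPolynomial (Fin (n + 1)) k | ∃ p q : Fin (n + 1), e1 ≤ p.val ∧ p.val ≤ e2 ∧ e1 ≤ q.val ∧ q.val ≤ e2 ∧
        f = MvPolynomial.X p * MvPolynomial.X q} ∪
      {f : MvPolynomial (Fin (n + 1)) k | ∃ p q m : Fin (n + 1), e1 ≤ p.val ∧ p.val < q.val ∧ q.val ≤ e2 ∧
        m.val + k0 = n + 1 + q.val ∧ f = MvPolynomial.X p * MvPolynomial.X m}) =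
      (fun d => MvPolynomial.monomial d (1 : k)) '' L := by
    ext f
    constructor
    · rintro (⟨p, q, a, b, c, d, rfl⟩ | ⟨p, q, m, a, b, c, d, rfl⟩)
      · exact ⟨_, Or.inl ⟨p, q, a, b, c, d, rfl⟩, (hXX _ _).symm⟩
      · exact ⟨_, Or.inr ⟨p, q, m, a, b, c, d, rfl⟩, (hXX _ _).symm⟩
    · rintro ⟨_, (⟨p, q, a, b, c, d, rfl⟩ | ⟨p, q, m, a, b, c, d, rfl⟩), rfl⟩
      · exact Or.inl ⟨p, q, a, b, c, d, (hXX _ _).symm⟩
      · exact Or.inr ⟨p, q, m, a, b, c, d, (hXX _ _).symm⟩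
  have hQ : ∀ j : Fin (n + 1),
      ({f : MvPolynomial (Fin (n + 1)) k | ∃ i : Fin (n + 1), e1 ≤ i.val ∧ i.val ≤ e2 ∧ i ≠ j ∧ f = MvPolynomial.X i} ∪
        {MvPolynomial.X j ^ 2} ∪
        {f : MvPolynomial (Fin (n + 1)) k | ∃ q m : Fin (n + 1), j.val < q.val ∧ q.val ≤ e2 ∧ m.val + k0 = n + 1 + q.val ∧
          f = MvPolynomial.X m}) = (fun d => MvPolynomial.monomial d (1 : k)) '' Q j := by
    intro j
    ext f
    constructor
    · rintro ((⟨i, a, b, c, rfl⟩ | hf) | ⟨q, m, a, b, c, rfl⟩)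
      · exact ⟨_, Or.inl (Or.inl ⟨i, a, b, c, rfl⟩), rfl⟩
      · exact ⟨_, Or.inl (Or.inr rfl), by rw [Set.mem_singleton_iff.1 hf, pow_two, hXX]⟩
      · exact ⟨_, Or.inr ⟨q, m, a, b, c, rfl⟩, rfl⟩
    · rintro ⟨d, ((⟨i, a, b, c, rfl⟩ | hd) | ⟨q, m, a, b, c, rfl⟩), rfl⟩
      · exact Or.inl (Or.inl ⟨i, a, b, c, rfl⟩)
      · exact Or.inl (Or.inr (by rw [Set.mem_singleton_iff, Set.mem_singleton_iff.1 hd, pow_two, hXX]))
      · exact Or.inr ⟨q, m, a, b, c, rfl⟩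
  have h1 : ∀ (i : Fin (n + 1)) (d : Fin (n + 1) →₀ ℕ), e i ≤ d ↔ 1 ≤ d i := fun i d =>
    Finsupp.single_le_iff
  have h2 : ∀ (i j : Fin (n + 1)) (d : Fin (n + 1) →₀ ℕ), i ≠ j → (e i + e j ≤ d ↔ 1 ≤ d i ∧ 1 ≤ d j) := by
    intro i j d hij
    refine ⟨fun h => ⟨(h1 i d).1 (le_trans le_self_add h), (h1 j d).1 (le_trans le_add_self h)⟩, fun h l => ?_⟩
    simp only [e, Finsupp.add_apply, Finsupp.single_apply]
    split_ifs with a b <;> subst_vars <;> first | exact absurd rfl hij | omega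
  have h3 : ∀ (i : Fin (n + 1)) (d : Fin (n + 1) →₀ ℕ), e i + e i ≤ d ↔ 2 ≤ d i := by
    intro i d
    simp only [e, ← Finsupp.single_add]
    exact Finsupp.single_le_iff
  rw [hL]
  simp only [hQ]
  ext f
  simp only [Submodule.mem_iInf, MvPolynomial.mem_ideal_span_monomial_image]
  constructor
  · intro h j hj d hd
    obtain ⟨_, (⟨p, q, a, b, c, c', rfl⟩ | ⟨p, q, m, a, b, c, c', rfl⟩), hle⟩ := h d hd
    · by_cases hp : p = j
      · by_cases hq : q = j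
        · subst hp hq; exact ⟨_, Or.inl (Or.inr rfl), hle⟩
        · exact ⟨_, Or.inl (Or.inl ⟨q, c, c', hq, rfl⟩), le_trans le_add_self hle⟩
      · exact ⟨_, Or.inl (Or.inl ⟨p, a, b, hp, rfl⟩), le_trans le_self_add hle⟩
    · by_cases hp : p = j
      · subst hp; exact ⟨_, Or.inr ⟨q, m, b, c, c', rfl⟩, le_trans le_add_self hle⟩
      · exact ⟨_, Or.inl (Or.inl ⟨p, a, by omega, hp, rfl⟩), le_trans le_self_add hle⟩
  · intro h d hd
    by_contra hno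
    have hA : ∀ p q : Fin (n + 1), e1 ≤ p.val → p.val ≤ e2 → e1 ≤ q.val → q.val ≤ e2 →
        ¬ e p + e q ≤ d := fun p q a b c c' hle => hno ⟨_, Or.inl ⟨p, q, a, b, c, c', rfl⟩, hle⟩
    have hj : ∀ j : Fin (n + 1), e1 ≤ j.val → j.val ≤ e2 →
        (∃ i : Fin (n + 1), e1 ≤ i.val ∧ i.val ≤ e2 ∧ i ≠ j ∧ 1 ≤ d i) ∨
        ∃ q m : Fin (n + 1), j.val < q.val ∧ q.val ≤ e2 ∧ m.val + k0 = n + 1 + q.val ∧ 1 ≤ d m := by
      intro j a b
      obtain ⟨_, ((⟨i, a', b', c, rfl⟩ | hd') | ⟨q, m, a', b', c, rfl⟩), hle⟩ := h j ⟨a, b⟩ d hd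
      · exact Or.inl ⟨i, a', b', c, (h1 i d).1 hle⟩
      · exact absurd (Set.mem_singleton_iff.1 hd' ▸ hle) (hA j j a b a b)
      · exact Or.inr ⟨q, m, a', b', c, (h1 m d).1 hle⟩
    rcases hj ⟨e2, by omega⟩ he le_rfl with ⟨i, a, b, -, hi⟩ | ⟨q, m, a, b, -⟩
    · rcases hj i a b with ⟨i', a', b', hne, hi'⟩ | ⟨q, m, hiq, hq, hm, hdm⟩
      · exact hA i i' a b a' b' ((h2 i i' d hne.symm).2 ⟨hi, hi'⟩)
      · refine hno ⟨_, Or.inr ⟨i, q, m, a, hiq, hq, hm, rfl⟩, (h2 i m d ?_).2 ⟨hi, hdm⟩⟩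
        intro him
        have := congrArg Fin.val him
        omega
    · exact absurd a (by simp only []; omega)

end Groth.Agent.S13455
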