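import Groth.Statements.S13460
import Mathlib
-- import your own Groth.Agent.* helpers here

set_option autoImplicit false
universe u
open CategoryTheory CategoryTheory.Limits AlgebraicGeometry TopologicalSpace
open WDiv

namespace Groth.Agent.S13460

/-- Let A be a Noetherian integral domain which is a unique factorization domain, and X = Spec A. Then
the divisor class group of X vanishes: every Weil divisor D on X, an integer-valued function on the
points of X with finite support inside the points of coheight 1 (codimension one), is the divisor of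
a nonzero rational function f on X, i.e. the order of vanishing of f at every point x of coheight 1
is D(x). (The published statement assumes only that A is a unique factorization domain; this row
also assumes A Noetherian.) -/
theorem result (A : Type u) [CommRing A] [IsDomain A] [IsNoetherianRing A]
    [UniqueFactorizationMonoid A]
    (D : ↥(Spec (CommRingCat.of A)) → ℤ) (hD : ∀ x, Order.coheight x ≠ 1 → D x = 0) (hfin : {x | D x ≠ 0}.Finite) :
    ∃ f : ↑(Spec (CommRingCat.of A)).functionField, f ≠ 0 ∧
      ∀ x : ↥(Spec (CommRingCat.of A)), Order.coheight x = 1 → Scheme.ord f x = D x := by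
  classical
  let R := CommRingCat.of A
  let X := Spec R
  let η : X := genericPoint X
  let φ : A → X.functionField := fun a => StructureSheaf.toStalk A η a
  have hφ : ∀ (x : X) (a : A), φ a = algebraMap (X.presheaf.stalk x) X.functionField (StructureSheaf.toStalk A x a) :=
    fun x a => (ConcreteCategory.congr_hom
      (StructureSheaf.toStalk_stalkSpecializes (R := A) (x := η) (y := x) (genericPoint_specializes x)) a).symm
  have hφ0 : ∀ a : A, a ≠ 0 → φ a ≠ 0 := by
    intro a ha
    let _ : Algebra A X.functionField := StructureSheaf.stalkAlgebra A η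
    haveI : IsLocalization.AtPrime X.functionField η.asIdeal := StructureSheaf.IsLocalization.to_stalk A η
    have hinj := IsLocalization.injective X.functionField (Ideal.primeCompl_le_nonZeroDivisors η.asIdeal)
    intro h
    exact ha (hinj (a₁ := a) (a₂ := 0) (h.trans (map_zero _).symm))
  have hht : ∀ x : X, Order.coheight x = 1 → x.asIdeal.height = 1 := fun x hx =>
    (idealHeight_eq_coheight R x).trans hx
  have hgen : ∀ x : X, ∃ q : A, q ≠ 0 ∧ (Order.coheight x = 1 → x.asIdeal = Ideal.span {q}) := by
    intro x
    by_cases hx : Order.coheight x = 1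
    · have hne : x.asIdeal ≠ ⊥ := fun h => by
        have := hht x hx
        rw [h, Ideal.height_bot] at this
        exact zero_ne_one this
      obtain ⟨q, hq, hqp⟩ := x.isPrime.exists_mem_prime_of_ne_bot hne
      refine ⟨q, hqp.ne_zero, fun _ => ?_⟩
      haveI : (Ideal.span {q}).IsPrime := (Ideal.span_singleton_prime hqp.ne_zero).2 hqp
      by_contra hne'
      have hlt : Ideal.span {q} < x.asIdeal :=
        lt_of_le_of_ne ((Ideal.span_singleton_le_iff_mem _).2 hq) (Ne.symm hne')
      have h1 := Ideal.height_strict_mono_of_isPrime hlt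
      rw [hht x hx, Ideal.height_span_singleton_eq_one_of_mem_nonZeroDivisors
        (mem_nonZeroDivisors_of_ne_zero hqp.ne_zero) hqp.not_isUnit] at h1
      exact lt_irrefl _ h1
    · exact ⟨1, one_ne_zero, fun h => absurd h hx⟩
  choose q hq0 hq using hgen
  have hord : ∀ (y : X) (hy : Order.coheight y = 1) (x : X), Order.coheight x = 1 →
      X.ordHom y hy (φ (q x)) = ((Multiplicative.ofAdd (α := ℤ) (if x = y then (1 : ℤ) else (0 : ℤ)) : Multiplicative ℤ) : WithZero (Multiplicative ℤ)) := by
    intro y hy x hx
    let _ : Algebra A (X.presheaf.stalk y) := StructureSheaf.stalkAlgebra A y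
    haveI : IsLocalization.AtPrime (X.presheaf.stalk y) y.asIdeal := StructureSheaf.IsLocalization.to_stalk A y
    have : Ring.KrullDimLE 1 (X.presheaf.stalk y) := krullDimLE_of_coheight_le hy.le
    have hinj : Function.Injective (algebraMap A (X.presheaf.stalk y)) :=
      IsLocalization.injective _ (Ideal.primeCompl_le_nonZeroDivisors y.asIdeal)
    have h0 : algebraMap A (X.presheaf.stalk y) (q x) ≠ 0 := fun h => hq0 x (hinj (h.trans (map_zero _).symm))
    have e : X.ordHom y hy (φ (q x)) =
        Ring.ordMonoidWithZeroHom _ (algebraMap A (X.presheaf.stalk y) (q x)) := by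
      rw [hφ y]
      exact Ring.ordFrac_eq_ord _ h0
    rw [e]
    split_ifs with hxy
    · subst hxy
      refine Ring.ordMonoidWithZeroHom_eq_coe _ (mem_nonZeroDivisors_of_ne_zero h0) (n := 1) ?_
      have hm : Ideal.span {algebraMap A (X.presheaf.stalk x) (q x)} = IsLocalRing.maximalIdeal _ := by
        rw [← Set.image_singleton, ← Ideal.map_span, ← hq x hx,
          IsLocalization.AtPrime.map_eq_maximalIdeal x.asIdeal (X.presheaf.stalk x)]
      rw [Ring.ord, Nat.cast_one, Module.length_eq_one_iff, hm, isSimpleModule_iff_isCoatom]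
      exact (IsLocalRing.maximalIdeal.isMaximal _).out
    · refine Ring.ordMonoidWithZeroHom_eq_coe _ (mem_nonZeroDivisors_of_ne_zero h0) (n := 0) ?_
      rw [Nat.cast_zero]
      refine Ring.ord_of_isUnit ((IsLocalization.AtPrime.isUnit_to_map_iff _ y.asIdeal _).2 fun hmem => hxy ?_)
      have hle : x.asIdeal ≤ y.asIdeal := by
        rw [hq x hx]; exact (Ideal.span_singleton_le_iff_mem _).2 hmem
      refine PrimeSpectrum.ext ?_
      by_contra hne
      haveI : x.asIdeal.IsPrime := x.isPrime
      have h1 := Ideal.height_strict_mono_of_isPrime (lt_of_le_of_ne hle hne)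
      rw [hht x hx, hht y hy] at h1
      exact lt_irrefl _ h1
  refine ⟨∏ x ∈ hfin.toFinset, φ (q x) ^ D x,
    Finset.prod_ne_zero_iff.2 fun x _ => zpow_ne_zero _ (hφ0 _ (hq0 x)), fun y hy => ?_⟩
  rw [Scheme.ord_eq_iff hy (Finset.prod_ne_zero_iff.2 fun x _ => zpow_ne_zero _ (hφ0 _ (hq0 x))),
    map_prod]
  have hs : ∀ x ∈ hfin.toFinset, X.ordHom y hy (φ (q x) ^ D x) =
      ((Multiplicative.ofAdd (α := ℤ) (if x = y then D x else (0 : ℤ)) : Multiplicative ℤ) : WithZero (Multiplicative ℤ)) := by
    intro x hx
    have hxc : Order.coheight x = 1 := by_contra fun h => (hfin.mem_toFinset.1 hx) (hD x h)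
    rw [map_zpow₀, hord y hy x hxc, ← WithZero.coe_zpow]
    congr 1
    split_ifs <;> simp [← ofAdd_zsmul]
  rw [Finset.prod_congr rfl hs, Finset.prod_eq_single y (fun x _ h => by simp [h]) (fun h => by
    have : D y = 0 := by simpa using h
    simp [this])]
  simp

end Groth.Agent.S13460
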