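import Groth.Statements.S1347
import Groth.Agent.CMFieldBC.Basic
-- import your own Groth.Agent.* helpers here

set_option autoImplicit false
universe u
open FlatMor

namespace Groth.Agent.S1347

open AlgebraicGeometry CategoryTheory Limits in
/-- Let f have locally Noetherian fibres and let f' be its base change along a morphism g locally of
finite type. Given a point x' at which f' is Cohen–Macaulay, with g flat at f'(x'), the morphism f
is Cohen–Macaulay at the image g'(x') of x'. -/
theorem result {X Y X' Y' : Scheme.{u}} (f : X ⟶ Y) (hN : ∀ y : Y, IsLocallyNoetherian (f.fiber y))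
    (f' : X' ⟶ Y') (g' : X' ⟶ X) (g : Y' ⟶ Y) [LocallyOfFiniteType g] (hc : IsPullback g' f' f g) (x' : X')
    (hflat : (g.stalkMap (f' x')).hom.Flat) (h : MoreMor.IsCMAt f' x') : MoreMor.IsCMAt f (g' x') := by
  haveI := hN (g (f' x'))
  refine ⟨?_, (Groth.Agent.CMFieldBC.cm_fibre_iff f g f' g' hc x').1 h.2⟩
  have hg' : (g'.stalkMap x').hom.Flat := Groth.FlatDescent.flat_stalkMap_of_isPullback hc.flip x' hflat
  refine Groth.FlatDescent.flat_stalkMap_of_comp g' f x' hg' ?_
  rw [Groth.FlatDescent.flat_stalkMap_congr hc.w x']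
  exact Groth.FlatDescent.flat_stalkMap_comp f' g x' h.1 hflat

end Groth.Agent.S1347
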