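import Groth.Statements.S1348
import Groth.Agent.FlatDescent.Slicing.Chart

set_option autoImplicit false
universe u
open FlatMor

namespace Groth.Agent.S1348

open AlgebraicGeometry CategoryTheory Limits in
/-- Let f be locally of finite presentation and flat at a point x with image s, and let h be an element
of the maximal ideal of the local ring at x whose image in the local ring of the fibre (the local
ring at x modulo the ideal generated by the maximal ideal at s) is a nonzerodivisor. Then there is
an affine open neighbourhood U of x and a nonzerodivisor of its coordinate ring with germ h at x (so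
its zero locus is an effective Cartier divisor of U through x) whose zero scheme is flat and locally
of finite presentation over the base. -/
theorem result {X S : Scheme.{u}} (f : X ⟶ S) [LocallyOfFinitePresentation f] (x : X)
    (hflat : (f.stalkMap x).hom.Flat) (h : X.presheaf.stalk x) (hm : h ∈ IsLocalRing.maximalIdeal (X.presheaf.stalk x))
    (hreg : Ideal.Quotient.mk (Ideal.map (f.stalkMap x).hom (IsLocalRing.maximalIdeal (S.presheaf.stalk (f x)))) h ∈
      nonZeroDivisors (X.presheaf.stalk x ⧸ Ideal.map (f.stalkMap x).hom (IsLocalRing.maximalIdeal (S.presheaf.stalk (f x))))) :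
    ∃ (U : X.Opens) (hU : IsAffineOpen U) (hx : x ∈ U) (h' : Γ(X, U)), X.presheaf.germ U x hx h' = h ∧ h' ∈ nonZeroDivisors Γ(X, U) ∧
      Flat (Spec.map (CommRingCat.ofHom (Ideal.Quotient.mk (Ideal.span {h'}))) ≫ hU.fromSpec ≫ f) ∧
      LocallyOfFinitePresentation (Spec.map (CommRingCat.ofHom (Ideal.Quotient.mk (Ideal.span {h'}))) ≫ hU.fromSpec ≫ f) := by
  have hreg' : RingTheory.Sequence.IsWeaklyRegular
      (X.presheaf.stalk x ⧸ Ideal.map (f.stalkMap x).hom (IsLocalRing.maximalIdeal (S.presheaf.stalk (f x))))
      ([h].map (Ideal.Quotient.mk (Ideal.map (f.stalkMap x).hom (IsLocalRing.maximalIdeal (S.presheaf.stalk (f x)))))) := by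
    rw [List.map_singleton, RingTheory.Sequence.isWeaklyRegular_singleton_iff]
    exact fun a c hac => (mul_cancel_left_mem_nonZeroDivisors hreg).mp hac
  obtain ⟨V, U, hV, hU, e, hx, n, b, hb, hbm, hfl⟩ :=
    Groth.FlatDescent.Slicing.exists_slice f x hflat [h] (fun a ha => by rw [List.mem_singleton.mp ha]; exact hm) hreg'
  have hn : n = 1 := by simpa using congrArg List.length hb
  subst hn
  have hJ : Ideal.span {b 0} = Ideal.span (Set.range b) := by rw [Set.range_unique]; rfl
  refine ⟨U, hU, hx, b 0, ?_, ?_, Groth.FlatDescent.Slicing.flat_slice f hV hU e b hfl _ hJ,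
    Groth.FlatDescent.Slicing.lfp_slice f hV hU e b _ hJ⟩
  · simpa using hb
  · have hw := Groth.FlatDescent.Slicing.isWeaklyRegular_of_flat _ hfl
    rw [List.ofFn_succ, List.ofFn_zero, RingTheory.Sequence.isWeaklyRegular_singleton_iff,
      MvPolynomial.eval₂Hom_X'] at hw
    exact mem_nonZeroDivisors_iff_right.mpr fun a ha => hw (by
      show b 0 * a = b 0 * 0
      rw [mul_zero, mul_comm]; exact ha)

end Groth.Agent.S1348
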