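import Groth.Statements.S13486
import Groth.Agent.DerCompSec.Tensor

set_option autoImplicit false
universe u
open CategoryTheory CategoryTheory.Limits Opposite
attribute [local instance] HasDerivedCategory.standard
open DerComp

namespace Groth.Agent.S13486

/-- On a ringed site (C, O) with a sheaf of ideals I, if L in D(O) is derived complete with respect to I
then so is RHom_O(K, L) for every K in D(O). Here K is given by a cochain complex P of O-modules and
RHom_O(P, -) is the right adjoint of the derived tensor product with P, assumed to exist. -/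
theorem result {C : Type u} [SmallCategory C] {J : GrothendieckTopology C} (O : Sheaf J CommRingCat.{u}) (I : DerComp.IdealSh O) (P : CochainComplex (ModSite.Mod O) ℤ) [ModSite.HasLTensorCx P] [DerComp.HasRHom P] (L : DerivedCategory (ModSite.Mod O)) (hL : DerComp.IsDerComp O I L) : DerComp.IsDerComp O I ((DerComp.RHom P).obj L) := by
  obtain ⟨A, hA, hinj, ⟨e⟩⟩ := DerCompSec.exists_model L
  rw [DerCompSec.isDerComp_iff_le A hinj e] at hL
  intro U f hf n
  have hgood : ∀ ⦃V : C⦄ (g : V ⟶ U), DerCompSec.GoodL A V ((O.obj.map g.op).hom f) := fun V g =>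
    (DerCompSec.goodL_iff_goodH O A hinj V _).2 (hL U hf V g)
  let X := (ModSite.extZero O U).obj (awayOver O U f)
  let E : (SiteCmp.inD O X ⟶ ((DerComp.RHom P).obj L)⟦n⟧) ≃
      ((ModSite.LTensorCx P).obj (DerivedCategory.Q.obj ((CochainComplex.singleFunctor (ModSite.Mod O) n).obj X)) ⟶ L) :=
    ((((DerivedCategory.singleFunctors (ModSite.Mod O)).shiftIso n 0 n (add_zero n)).app X).symm.homFromEquiv).trans
      ((Functor.FullyFaithful.ofFullyFaithful (shiftFunctor (DerivedCategory (ModSite.Mod O)) n)).homEquiv.symm.trans
        ((((DerivedCategory.singleFunctorIsoCompQ (ModSite.Mod O) n).app X).homFromEquiv).trans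
          ((DerComp.RHomAdj P).homEquiv _ _).symm))
  refine E.subsingleton_congr.2 ⟨fun a b => e.symm.homToEquiv.injective ?_⟩
  exact (DerCompSec.eq_zero_ltensor U f A hgood n _).trans (DerCompSec.eq_zero_ltensor U f A hgood n _).symm

end Groth.Agent.S13486
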