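import Groth.Statements.S1349
import Groth.Agent.FlatDescent.Slicing.QuasiFinite

set_option autoImplicit false
universe u
open FlatMor

namespace Groth.Agent.S1349

open AlgebraicGeometry CategoryTheory Limits in
/-- Let f be locally of finite presentation and Cohen–Macaulay at a point x which is closed in its
fibre. Then there are an open neighbourhood V of x and a regular closed immersion i into V whose
image contains x, such that the composite Z ⟶ V ⟶ X ⟶ S is flat, locally of finite presentation and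
locally quasi-finite, and x is the only point of (the image of) Z lying over the image of x. -/
theorem result {X S : Scheme.{u}} (f : X ⟶ S) [LocallyOfFinitePresentation f] (x : X)
    (hcm : MoreMor.IsCMAt f x) (hcl : IsClosed ({f.asFiber x} : Set ↑(f.fiber (f x)))) :
    ∃ (V : X.Opens) (Z : Scheme.{u}) (i : Z ⟶ (V : Scheme.{u})), Mor2.IsRegularClosedImmersion i ∧ x ∈ Set.range ⇑(i ≫ V.ι) ∧
      Flat (i ≫ V.ι ≫ f) ∧ LocallyOfFinitePresentation (i ≫ V.ι ≫ f) ∧ LocallyQuasiFinite (i ≫ V.ι ≫ f) ∧
      ∀ z : Z, f (V.ι (i z)) = f x → V.ι (i z) = x := by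
  obtain ⟨W, U, hW, hU, e, n, b, hfl, hx, hqf, huniq⟩ :=
    Groth.FlatDescent.Slicing.exists_quasiFinite_slice f x hcm hcl
  have hι : ∀ {T : Scheme.{u}} (g : T ⟶ Spec Γ(X, U)), (g ≫ hU.isoSpec.inv) ≫ U.ι = g ≫ hU.fromSpec := fun g => by
    rw [Category.assoc, IsAffineOpen.isoSpec_inv_ι]
  refine ⟨U, _, _, Groth.FlatDescent.Slicing.isRegularClosedImmersion_slice f hU e b hfl _ rfl, ?_, ?_, ?_, ?_, ?_⟩
  · rw [hι]; exact hx
  · rw [← Category.assoc, hι, Category.assoc]
    exact Groth.FlatDescent.Slicing.flat_slice f hW hU e b hfl _ rfl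
  · rw [← Category.assoc, hι, Category.assoc]
    exact Groth.FlatDescent.Slicing.lfp_slice f hW hU e b _ rfl
  · rw [← Category.assoc, hι, Category.assoc]
    exact hqf
  · intro z hz
    have e2 := congr($(hι (Spec.map (CommRingCat.ofHom (Ideal.Quotient.mk (Ideal.span (Set.range b)))))) z)
    rw [Scheme.Hom.comp_apply _ U.ι] at e2
    rw [e2] at hz ⊢
    exact huniq _ ⟨z, rfl⟩ hz

end Groth.Agent.S1349
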