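import Groth.Prelude.Def_PBC
import Groth.Agent.EtSite.Torsion
-- import your own Groth.Agent.* helpers here

set_option autoImplicit false
universe u
open CategoryTheory CategoryTheory.Limits AlgebraicGeometry Opposite

namespace Groth.Agent.S13501

/-- Let X be a quasi-compact and quasi-separated scheme and F a torsion abelian sheaf on X_et. If Hom(F,
-) commutes with filtered colimits (of shape any small filtered category in the universe of the
sheaf category's morphisms), then F is constructible. This is the converse of the compactness of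
constructible sheaves. -/
theorem result (X : Scheme.{u}) [CompactSpace X]
    [QuasiSeparatedSpace X] (F : EtCoh.Ab X) (hF : EtCoh.IsTorsion F)
    (hc : ∀ (J : Type (u + 1)) [SmallCategory J] [IsFiltered J],
      PreservesColimitsOfShape J (coyoneda.obj (op F))) :
    EtPBC.IsConstructible F := by
  obtain ⟨J, _, _, D, c, hcol, hD, ⟨e⟩⟩ := EtSite.Torsion.exists_filtered_colimit F hF
  have := hc J
  obtain ⟨j, s, hs⟩ := Types.jointly_surjective _ (isColimitOfPreserves (coyoneda.obj (op F)) hcol) e.inv
  let p : D.obj j ⟶ F := c.ι.app j ≫ e.hom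
  have hsp : s ≫ p = 𝟙 F := by
    change s ≫ c.ι.app j ≫ e.hom = 𝟙 F
    rw [← Category.assoc]
    exact (congrArg (· ≫ e.hom) hs).trans e.inv_hom_id
  have hsm : s ≫ (𝟙 _ - p ≫ s) = 0 := by
    rw [Preadditive.comp_sub, Category.comp_id, ← Category.assoc, hsp, Category.id_comp, sub_self]
  have hk : kernel.ι (𝟙 _ - p ≫ s) ≫ p ≫ s = kernel.ι (𝟙 _ - p ≫ s) := by
    have := kernel.condition (𝟙 _ - p ≫ s)
    rw [Preadditive.comp_sub, Category.comp_id, sub_eq_zero] at this
    exact this.symm
  exact EtSite.PushConstr.isConstructible_of_iso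
    (⟨kernel.ι _ ≫ p, kernel.lift _ s hsm, by
      refine (cancel_mono (kernel.ι (𝟙 _ - p ≫ s))).1 ?_
      refine (Category.assoc _ _ _).trans ?_
      refine (congrArg ((kernel.ι _ ≫ p) ≫ ·) (kernel.lift_ι _ _ _)).trans ?_
      exact ((Category.assoc _ _ _).trans hk).trans (Category.id_comp _).symm,
      by rw [← Category.assoc, kernel.lift_ι, hsp]⟩ : kernel (𝟙 _ - p ≫ s) ≅ F)
    (EtSite.StrataAb.isConstructible_kernel _ (hD j) (hD j))

end Groth.Agent.S13501
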