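import Groth.Prelude.Def_PBC
import Mathlib.AlgebraicGeometry.Morphisms.QuasiSeparated
import Groth.Agent.EtSite.Efface
-- import your own Groth.Agent.* helpers here

set_option autoImplicit false
universe u
open CategoryTheory CategoryTheory.Limits AlgebraicGeometry
open EtPBC

namespace Groth.Agent.S13504

/-- Let X be a quasi-compact and quasi-separated scheme. For every constructible abelian sheaf F on the
small étale site of X, every q > 0 and every class α in H^q(X, F) there are a constructible abelian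
sheaf G and a monomorphism u : F → G such that H^q(u) sends α to 0. -/
theorem result (X : Scheme.{u}) [CompactSpace X] [QuasiSeparatedSpace X]
    (F : EtCoh.Ab X) (hF : EtPBC.IsConstructible F) (q : ℕ) (hq : 0 < q) (α : EtCoh.H X F q) :
    ∃ (G : EtCoh.Ab X) (u : F ⟶ G), EtPBC.IsConstructible G ∧ Mono u ∧
      (EtCoh.HF X q).map u α = 0 := by
  obtain ⟨n, hn, hk⟩ := Groth.Agent.EtSite.Compact.exists_killed F hF
  obtain ⟨T, v, hv, hT, hac⟩ := Groth.Agent.EtSite.Efface.exists_efface F hn hk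
  obtain ⟨J, _, _, D, c, hc, hD, ⟨e⟩⟩ := Groth.Agent.EtSite.Torsion.exists_filtered_colimit T hT
  obtain ⟨j, ψ, hψ⟩ := Groth.Agent.EtSite.Compact.exists_fac hc hF (v ≫ e.inv)
  obtain ⟨q, rfl⟩ := Nat.exists_eq_succ_of_ne_zero hq.ne'
  let y := (EtCoh.HF X (q + 1)).map ψ α
  have h0 : (EtCoh.HF X (q + 1)).map (c.ι.app j) y = 0 := by
    have h1 : (EtCoh.HF X (q + 1)).map (ψ ≫ c.ι.app j) α =
        (EtCoh.HF X (q + 1)).map e.inv ((EtCoh.HF X (q + 1)).map v α) := by
      rw [hψ, Functor.map_comp]; rfl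
    rw [Functor.map_comp] at h1
    exact h1.trans ((congrArg _ (hac q _)).trans (map_zero _))
  obtain ⟨k, a, ha⟩ := Groth.Agent.EtSite.ColimCohom.exists_zero_H hc (q + 1) y h0
  refine ⟨D.obj k, ψ ≫ D.map a, hD k, ?_, ?_⟩
  · have : Mono ((ψ ≫ D.map a) ≫ c.ι.app k) := by
      rw [Category.assoc, c.w, hψ]; infer_instance
    exact mono_of_mono _ (c.ι.app k)
  · rw [Functor.map_comp]
    exact ha

end Groth.Agent.S13504
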