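import Groth.Statements.S1354
import Groth.Agent.EtaleNbhdLib.QuasiFinite
-- import your own Groth.Agent.* helpers here

set_option autoImplicit false
universe u
open FlatMor

namespace Groth.Agent.S1354

open AlgebraicGeometry CategoryTheory Limits in
/-- Let f be locally of finite type, s a point of the target, and x_1, ..., x_n points over s at each of
which f is quasi-finite. Then there are an elementary étale neighbourhood (U, u) of (S, s) and, for
each i, an open V_i of the base change of X to U which is finite over U, has exactly one point v_i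
over u, and v_i maps to x_i inducing a bijection of residue fields. -/
theorem result {X S : Scheme.{u}} (f : X ⟶ S) [LocallyOfFiniteType f] (s : S) {ι : Type} [Finite ι]
    (x : ι → ↑X) (hs : ∀ i, f (x i) = s) (hx : ∀ i, f.QuasiFiniteAt (x i)) :
    ∃ (U : Scheme.{u}) (g : U ⟶ S) (u : U), Hens2.IsEtaleNbhd g u s ∧
      ∃ (V : ι → (pullback f g).Opens) (v : ι → ↑(pullback f g)), ∀ i, v i ∈ V i ∧ IsFinite ((V i).ι ≫ pullback.snd f g) ∧
        pullback.snd f g (v i) = u ∧ (∀ w : ↑(pullback f g), w ∈ V i → pullback.snd f g w = u → w = v i) ∧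
        pullback.fst f g (v i) = x i ∧ Function.Bijective ((pullback.fst f g).residueFieldMap (v i)) := by
  classical
  cases nonempty_fintype ι
  suffices H : ∀ t : Finset ι, ∃ (U : Scheme.{u}) (g : U ⟶ S) (u : U), Hens2.IsEtaleNbhd g u s ∧
      ∀ i ∈ t, EtaleNbhdLib.IsolatedFinite f g u (x i) by
    obtain ⟨U, g, u, hg, H⟩ := H Finset.univ
    choose V v h using fun i => H i (Finset.mem_univ i)
    exact ⟨U, g, u, hg, V, v, h⟩
  intro t
  induction t using Finset.induction_on with
  | empty => exact ⟨S, 𝟙 S, s, ⟨inferInstance, rfl, by rw [Scheme.residueFieldMap_id]; exact Function.bijective_id⟩, by simp⟩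
  | @insert a t ha IH =>
    obtain ⟨U₁, g₁, u₁, hg₁, H₁⟩ := IH
    obtain ⟨U₂, g₂, u₂, hg₂, H₂⟩ := EtaleNbhdLib.exists_isolatedFinite f (x a) (hx a)
    have := hg₁.etale
    have := hg₂.etale
    obtain ⟨u, hu₁, hu₂, -, hb⟩ := EtaleNbhdLib.exists_unique_point g₁ g₂ u₁ u₂
      (hg₁.base_eq.trans ((hs a).symm.trans hg₂.base_eq.symm)) hg₂.residue_bijective
    have hb₁ : Function.Bijective ((pullback.fst g₁ g₂ ≫ g₁).residueFieldMap u) := by
      haveI : IsIso ((pullback.fst g₁ g₂).residueFieldMap u) := (ConcreteCategory.isIso_iff_bijective _).2 hb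
      subst hu₁
      haveI : IsIso (g₁.residueFieldMap (pullback.fst g₁ g₂ u)) :=
        (ConcreteCategory.isIso_iff_bijective _).2 hg₁.residue_bijective
      rw [Scheme.residueFieldMap_comp]
      exact (ConcreteCategory.isIso_iff_bijective _).1 (IsIso.comp_isIso' ‹_› ‹_›)
    refine ⟨pullback g₁ g₂, pullback.fst g₁ g₂ ≫ g₁, u,
      ⟨inferInstance, (congrArg g₁.base hu₁).trans hg₁.base_eq, hb₁⟩, fun i hi => ?_⟩
    rcases Finset.mem_insert.1 hi with rfl | hi
    · have e : pullback.fst g₁ g₂ ≫ g₁ = pullback.snd g₁ g₂ ≫ g₂ := pullback.condition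
      revert hb₁
      rw [e]
      exact fun hb₁ => H₂.comp hg₂.residue_bijective _ u hu₂ hb₁
    · exact (H₁ i hi).comp hg₁.residue_bijective _ u hu₁ hb₁

end Groth.Agent.S1354
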