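import Groth.Statements.S13575
import Groth.Agent.S12838
import Groth.Agent.FibBasics.Basic
import Groth.Agent.FibBasics.Fp
import Groth.Prelude.Def_ChGrp
-- import your own Groth.Agent.* helpers here

set_option autoImplicit false
set_option linter.style.haveILetI false
set_option backward.isDefEq.respectTransparency false
universe u
open CategoryTheory AlgebraicGeometry MonoidalCategory
open AlgSt

open MonoidalCategory CartesianMonoidalCategory MonObj

namespace Groth.Agent.S13575

open MonoidalCategory CartesianMonoidalCategory MonObj in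
/-- Right multiplication by `g` on trivial torsors. -/
noncomputable def rightMul {S : Scheme.{u}} {G : Over S} [GrpObj G] {X : Over S} {aX : AlgGrp.Action G X}
    {T : Over S} (g : T ⟶ G) (x x' : T ⟶ X) (hg : lift g x' ≫ aX.act = x) :
    (AlgSt.quotMap Scheme.fppfPrecoverage G aX).obj ((AlgSt.ofOverCat X).obj (Over.mk x)) ⟶
      (AlgSt.quotMap Scheme.fppfPrecoverage G aX).obj ((AlgSt.ofOverCat X).obj (Over.mk x')) :=
  ((S12838.result S G X aX T T (𝟙 T) x x').2 g (by rw [Category.id_comp]; exact hg)).choose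

open MonoidalCategory CartesianMonoidalCategory MonObj in
lemma rightMul_base {S : Scheme.{u}} {G : Over S} [GrpObj G] {X : Over S} {aX : AlgGrp.Action G X}
    {T : Over S} (g : T ⟶ G) (x x' : T ⟶ X) (hg : lift g x' ≫ aX.act = x) :
    (rightMul g x x' hg).base = 𝟙 T :=
  ((S12838.result S G X aX T T (𝟙 T) x x').2 g (by rw [Category.id_comp]; exact hg)).choose_spec.1

open MonoidalCategory CartesianMonoidalCategory MonObj in
lemma rightMul_top {S : Scheme.{u}} {G : Over S} [GrpObj G] {X : Over S} {aX : AlgGrp.Action G X}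
    {T : Over S} (g : T ⟶ G) (x x' : T ⟶ X) (hg : lift g x' ≫ aX.act = x) :
    (rightMul g x x' hg).top = lift (fst G T * (snd G T ≫ g)) (snd G T) :=
  ((S12838.result S G X aX T T (𝟙 T) x x').2 g (by rw [Category.id_comp]; exact hg)).choose_spec.2.trans
    (congrArg _ (Category.comp_id _))

open MonoidalCategory CartesianMonoidalCategory MonObj in
/-- Right multiplication as an isomorphism. -/
noncomputable def rightMulIso {S : Scheme.{u}} {G : Over S} [GrpObj G] {X : Over S} {aX : AlgGrp.Action G X}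
    {T : Over S} (g : T ⟶ G) (x x' : T ⟶ X) (hg : lift g x' ≫ aX.act = x) :
    (AlgSt.quotMap Scheme.fppfPrecoverage G aX).obj ((AlgSt.ofOverCat X).obj (Over.mk x)) ≅
      (AlgSt.quotMap Scheme.fppfPrecoverage G aX).obj ((AlgSt.ofOverCat X).obj (Over.mk x')) where
  hom := rightMul g x x' hg
  inv := rightMul g⁻¹ x' x (by rw [← hg, ← AlgGrp.Action.lift_mul_act, inv_mul_cancel, AlgGrp.Action.lift_one_act])
  hom_inv_id := by
    refine AlgSt.QuotObj.hom_ext ?_ ?_
    · simp only [AlgSt.QuotObj.comp_base, rightMul_base, AlgSt.QuotObj.id_base]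
      exact Category.comp_id _
    · show (rightMul g x x' hg).top ≫ (rightMul g⁻¹ x' x _).top = 𝟙 (G ⊗ T)
      rw [rightMul_top, rightMul_top]
      apply CartesianMonoidalCategory.hom_ext <;> simp [comp_mul, GrpObj.comp_inv]
  inv_hom_id := by
    refine AlgSt.QuotObj.hom_ext ?_ ?_
    · simp only [AlgSt.QuotObj.comp_base, rightMul_base, AlgSt.QuotObj.id_base]
      exact Category.comp_id _
    · show (rightMul g⁻¹ x' x _).top ≫ (rightMul g x x' hg).top = 𝟙 (G ⊗ T)
      rw [rightMul_top, rightMul_top]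
      apply CartesianMonoidalCategory.hom_ext <;> simp [comp_mul, GrpObj.comp_inv]

/-- For a group action: let a group scheme `G` over `S` act on a scheme `X` over `S` and let `π : X ⟶
[X/G]` be the canonical morphism to the quotient stack. Then the square with vertices `G ×_S X`,
`X`, `X`, `[X/G]`, whose sides are the action and the projection `G ×_S X ⟶ X` followed by `π`, is
2-cartesian for some 2-isomorphism `π ∘ a ≅ π ∘ pr₂`: the induced functor from `G ×_S X` to the
2-fibre product `X ×_{[X/G]} X` is an equivalence over `(Sch/S)`. Existence of the 2-isomorphism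
only; the canonical one is right multiplication by the group element. (The published statement is
for a groupoid in algebraic spaces; this row is the action groupoid of a group scheme, with torsors
given as schemes.) -/
theorem result {S : Scheme.{u}} (G : Over S) [GrpObj G]
    (X : Over S) (aX : AlgGrp.Action G X) :
    ∃ e : BasedFunctor.comp (AlgSt.ofSpMap ((AlgSp.yon S).map aX.act)) (AlgSt.quotMap Scheme.fppfPrecoverage G aX) ≅
        BasedFunctor.comp (AlgSt.ofSpMap ((AlgSp.yon S).map (CartesianMonoidalCategory.snd G X)))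
          (AlgSt.quotMap Scheme.fppfPrecoverage G aX),
      FibCat.IsTwoCartOver (AlgSt.ofSpMap ((AlgSp.yon S).map aX.act))
        (AlgSt.ofSpMap ((AlgSp.yon S).map (CartesianMonoidalCategory.snd G X))) e := by
  let F := AlgSt.quotMap Scheme.fppfPrecoverage G aX
  let A := AlgSt.ofSpMap ((AlgSp.yon S).map aX.act)
  let B := AlgSt.ofSpMap ((AlgSp.yon S).map (CartesianMonoidalCategory.snd G X))
  let comp : ∀ w, (BasedFunctor.comp A F).obj w ≅ (BasedFunctor.comp B F).obj w := fun w =>
    rightMulIso (w.sec.down ≫ CartesianMonoidalCategory.fst G X) (w.sec.down ≫ aX.act)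
      (w.sec.down ≫ CartesianMonoidalCategory.snd G X)
      (by rw [← CartesianMonoidalCategory.comp_lift, CartesianMonoidalCategory.lift_fst_snd, Category.comp_id])
  have hgw : ∀ w : (AlgSt.ofSp ((AlgSp.yon S).obj (G ⊗ X))).obj, lift (w.sec.down ≫ fst G X) (w.sec.down ≫ snd G X) ≫ aX.act = w.sec.down ≫ aX.act :=
    fun w => by rw [← CartesianMonoidalCategory.comp_lift, CartesianMonoidalCategory.lift_fst_snd, Category.comp_id]
  have cb : ∀ w, (comp w).hom.base = 𝟙 w.base := fun w => rightMul_base _ _ _ (hgw w)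
  have ct : ∀ w, (comp w).hom.top = lift (fst G w.base * (snd G w.base ≫ w.sec.down ≫ fst G X)) (snd G w.base) :=
    fun w => rightMul_top _ _ _ (hgw w)
  have hlift : ∀ w, AlgSt.QuotObj.forget Scheme.fppfPrecoverage G aX |>.IsHomLift (𝟙 w.base) (comp w).hom := fun w => by
    have hb : (comp w).hom.base = 𝟙 w.base := cb w
    rw [← hb]
    exact IsHomLift.map (AlgSt.QuotObj.forget Scheme.fppfPrecoverage G aX) (comp w).hom
  let e : BasedFunctor.comp A F ≅ BasedFunctor.comp B F := BasedNatIso.mkNatIso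
    (NatIso.ofComponents comp (fun {w w'} m => by
      refine AlgSt.QuotObj.hom_ext ?_ ?_
      · show m.hom ≫ (comp w').hom.base = (comp w).hom.base ≫ m.hom
        rw [cb w', cb w]
        exact (Category.comp_id _).trans (Category.id_comp _).symm
      · show (G ◁ m.hom) ≫ (comp w').hom.top = (comp w).hom.top ≫ (G ◁ m.hom)
        rw [ct w', ct w]
        have hs : m.hom ≫ w'.sec.down = w.sec.down := congrArg ULift.down m.map_sec
        apply CartesianMonoidalCategory.hom_ext
        · simp only [comp_lift, comp_mul, Category.assoc, whiskerLeft_fst, whiskerLeft_snd_assoc]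
          erw [lift_fst, whiskerLeft_fst, lift_fst, reassoc_of% hs]
        · simp)) hlift
  refine ⟨e, ?_⟩
  let L := FibCat.fpLift A B e
  show FibCat.IsEquivOver L
  haveI : L.toFunctor.Faithful := ⟨fun {w w'} m m' h => Stk.EltObj.hom_ext ((congrArg (fun n => n.hom.fst.hom) h :))⟩
  haveI : L.toFunctor.Full := ⟨fun {w w'} n => by
    let h₁ := n.hom.fst.hom
    let h₂ := n.hom.snd.hom
    have hw := n.hom.w
    have hb := congrArg AlgSt.QuotObj.Hom.base hw
    have ht := congrArg AlgSt.QuotObj.Hom.top hw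
    have e12 : h₁ = h₂ := by
      have : h₁ ≫ (comp w').hom.base = (comp w).hom.base ≫ h₂ := hb
      rw [cb w', cb w] at this
      exact (Category.comp_id _).symm.trans (this.trans (Category.id_comp _))
    have ht' : (G ◁ h₁) ≫ (comp w').hom.top = (comp w).hom.top ≫ (G ◁ h₂) := ht
    rw [ct w', ct w,
      ← e12] at ht'
    have hs2 : h₁ ≫ w'.sec.down ≫ snd G X = w.sec.down ≫ snd G X := by
      rw [e12]; exact congrArg ULift.down n.hom.snd.map_sec
    have hs1 : h₁ ≫ w'.sec.down ≫ fst G X = w.sec.down ≫ fst G X := by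
      have := congrArg (fun q => lift (1 : w.base ⟶ G) (𝟙 w.base) ≫ q ≫ fst G w'.base) ht'
      simp [comp_mul, comp_lift_assoc, lift_whiskerLeft_assoc] at this
      erw [lift_fst, lift_fst, lift_snd_assoc, _root_.one_mul] at this
      exact this
    have hs : h₁ ≫ w'.sec.down = w.sec.down := by
      apply CartesianMonoidalCategory.hom_ext
      · rw [Category.assoc, hs1]
      · rw [Category.assoc, hs2]
    exact ⟨⟨h₁, congrArg ULift.up hs⟩, Groth.Agent.FibBasics.fp_hom_ext (Stk.EltObj.hom_ext rfl) (Stk.EltObj.hom_ext e12)⟩⟩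
  refine Groth.Agent.FibBasics.isEquivOver_of_essSurjOver L fun z => ?_
  obtain ⟨⟨a₁, a₂, φ⟩, hφ⟩ := z
  obtain ⟨T, ⟨x⟩⟩ := a₁
  obtain ⟨T₂, ⟨x'⟩⟩ := a₂
  haveI : (AlgSt.QuotObj.forget Scheme.fppfPrecoverage G aX).IsHomLift (𝟙 T) φ.hom := hφ
  have hT : T₂ = T := IsHomLift.codomain_eq (AlgSt.QuotObj.forget Scheme.fppfPrecoverage G aX) (𝟙 T) φ.hom
  subst hT
  have hb : φ.hom.base = 𝟙 T₂ := by
    have := IsHomLift.fac' (AlgSt.QuotObj.forget Scheme.fppfPrecoverage G aX) (𝟙 T₂) φ.hom
    exact this.trans ((Category.id_comp _).trans (Category.id_comp _))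
  obtain ⟨g, hg, htop⟩ := (S12838.result S G X aX _ _ (𝟙 _) x x').1 φ.hom hb
  rw [Category.id_comp] at hg
  let w : (AlgSt.ofSp ((AlgSp.yon S).obj (G ⊗ X))).obj := ⟨_, ⟨lift g x'⟩⟩
  have h1 : w.sec.down ≫ aX.act = x := hg
  have h2 : w.sec.down ≫ snd G X = x' := lift_snd g x'
  let mk : ∀ (u v : (_ ⟶ X)), u = v → ((⟨_, ⟨u⟩⟩ : (AlgSt.ofSch X).obj) ≅ ⟨w.base, ⟨v⟩⟩) := fun u v huv =>
    { hom := ⟨𝟙 _, congrArg ULift.up ((Category.id_comp _).trans huv.symm)⟩
      inv := ⟨𝟙 _, congrArg ULift.up ((Category.id_comp _).trans huv)⟩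
      hom_inv_id := Stk.EltObj.hom_ext (Category.comp_id _)
      inv_hom_id := Stk.EltObj.hom_ext (Category.comp_id _) }
  let i₁ : A.obj w ≅ (⟨_, ⟨x⟩⟩ : (AlgSt.ofSch X).obj) := mk _ _ h1
  let i₂ : B.obj w ≅ (⟨_, ⟨x'⟩⟩ : (AlgSt.ofSch X).obj) := mk _ _ h2
  refine ⟨w, ObjectProperty.isoMk _ (Limits.CategoricalPullback.mkIso i₁ i₂ ?_),
    Groth.Agent.FibBasics.fp_lift_of_fst _ _ (IsHomLift.map (Stk.EltObj.forget _) i₁.hom)⟩
  refine AlgSt.QuotObj.hom_ext ?_ ?_
  · show 𝟙 w.base ≫ φ.hom.base = (comp w).hom.base ≫ 𝟙 w.base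
    rw [cb w, hb]
  · show (G ◁ 𝟙 w.base) ≫ φ.hom.top = (comp w).hom.top ≫ (G ◁ 𝟙 w.base)
    rw [ct w, htop, show w.sec.down ≫ fst G X = g from lift_fst g x', MonoidalCategory.whiskerLeft_id]
    exact (Category.id_comp _).trans ((congrArg (lift _) (Category.comp_id _)).trans (Category.comp_id _).symm)

end Groth.Agent.S13575
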