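import Groth.Statements.S13582
import Groth.Agent.SSExist.QuotZ
import Groth.Agent.SSExist.ExtNatural
-- import your own Groth.Agent.* helpers here

set_option autoImplicit false
universe u
open CategoryTheory CategoryTheory.Limits
open ExtSupp

namespace Groth.Agent.S13582

/-- On a ringed site, for an object `U` with closed complement `Z` and a sheaf of modules `M`, the
`q`-th right derived functor of `N ↦ Γ_Z(ℋom_O(M, N))`, which is the definition of Ext with supports
`Ext^q_{O,Z}(M, -)` as a derived functor, is isomorphic as a functor of `N` to `N ↦ Ext^q_O(M ⊗ O_Z,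
N) = Ext^q_O(M/M_U, N)`. Existence of an isomorphism of functors only. The internal hom out of `M`,
the right adjoint of restriction to `U` and injective resolutions of sheaves of modules are assumed
to exist. -/
theorem result {C : Type u} [SmallCategory C]
    {J : GrothendieckTopology C} {O : Sheaf J CommRingCat.{u}} [HasExt.{u} (ModSite.Mod O)]
    (U : C) [ModSite.HasPushOver O U] (M : ModSite.Mod O) [ModSite.HasSheafHom M]
    [HasInjectiveResolutions (ModSite.Mod O)] (q : ℕ) :
    Nonempty (ExtSupp.ExtZR U M q ≅ Abelian.extFunctorObj ((ModSite.quotOn O U).obj M) q) := by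
  let e : ExtSupp.gammaZHom U M ≅ preadditiveCoyoneda.obj (Opposite.op ((ModSite.quotOn O U).obj M)) :=
    Functor.isoWhiskerLeft (ModSite.sheafHom M) (Functor.isoWhiskerLeft (ModSite.sectOn O U)
      (Groth.Agent.SSExist.unitConstIso O)) ≪≫ Groth.Agent.SSExist.sheafHomSectIso U M
  exact ⟨Groth.Agent.SSExist.rightDerivedIso e q ≪≫ Groth.Agent.SSExist.rightDerivedExtIso _ q⟩

end Groth.Agent.S13582
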