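import Groth.Statements.S13583
import Groth.Agent.KerDerived.Local
import Groth.Agent.KerDerived.ExtNat
-- import your own Groth.Agent.* helpers here

set_option autoImplicit false
universe u
open CategoryTheory TopologicalSpace
open SuppFam

namespace Groth.Agent.S13583

section
universe w' v' u'
open KerDerived

/-- Effaceable connected functors in degree zero `T` are the derived functors of `T`. -/
theorem nonempty_rightDerived_iso_of_effaceable {C : Type u'} [Category.{v'} C] [Abelian C] [EnoughInjectives C]
    [HasInjectiveResolutions C] {D : Type*} [Category* D] [Abelian D] (T : C ⥤ D) [T.Additive]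
    [Limits.PreservesFiniteLimits T] (Q : ℕ → C ⥤ D) (e₀ : T ≅ Q 0)
    (δ : ∀ n F, (Q n).obj (emb F).X₃ ⟶ (Q (n + 1)).obj F) (hepi : ∀ n F, Epi (δ n F))
    (hdesc : ∀ n F {Z : D} (k : (Q n).obj (emb F).X₃ ⟶ Z), (∃ y, δ n F ≫ y = k) ↔ (Q n).map (emb F).g ≫ k = 0)
    (hnat : ∀ n {F G : C} (f : F ⟶ G), δ n F ≫ (Q (n + 1)).map f = (Q n).map (embMap f).τ₃ ≫ δ n G)
    (n : ℕ) : Nonempty (T.rightDerived n ≅ Q n) := by
  induction n with
  | zero => exact ⟨T.rightDerivedZeroIsoSelf ≪≫ e₀⟩
  | succ n ih =>
    obtain ⟨e⟩ := ih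
    refine natIso_of_cokernels _ _ (fun F => (T.rightDerived n).obj (emb F).X₃)
      (fun F => dl T n F) (fun F => e.hom.app _ ≫ δ n F) inferInstance
      (fun F => by haveI := hepi n F; infer_instance) (fun F Z k => ?_) (fun {F F'} f => ?_)
    · rw [dl_desc_iff]
      have h2 := hdesc n F (e.inv.app (emb F).X₃ ≫ k)
      rw [e.inv.naturality_assoc, Preadditive.IsIso.comp_left_eq_zero] at h2
      rw [← h2]
      refine exists_congr fun y => ?_
      constructor
      · intro h; rw [Category.assoc, h, e.hom_inv_id_app_assoc]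
      · intro h
        rw [← h]
        simp
    · refine ⟨_, dl_natural T n f, ?_⟩
      rw [Category.assoc, hnat, e.hom.naturality_assoc]

end

section
open Limits Opposite Abelian KerDerived
variable {X : TopCat.{u}} {W V : Opens X} (h : W ≤ V)

abbrev pr (V' : Opens X) : W ⊓ V' ≤ V ⊓ V' := inf_le_inf_right V' h

/-- The presheaves `HZpre` as a functor of the sheaf. -/
noncomputable def preF (q : ℕ) : CohTop.Ab X ⥤ ((Opens X)ᵒᵖ ⥤ AddCommGrpCat.{u}) where
  obj F := SuppFam.HZpre F q h
  map {F G} φ :=
    { app := fun V' => (extFunctorObj (LocCohZ.zq (pr h V'.unop)) q).map φ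
      naturality := fun V' V'' g => by
        refine AddCommGrpCat.ext fun x => ?_
        exact Ext.comp_assoc_of_third_deg_zero _ x _ (zero_add q) }
  map_id F := NatTrans.ext (funext fun V' => (extFunctorObj (LocCohZ.zq (pr h V'.unop)) q).map_id F)
  map_comp φ ψ := NatTrans.ext (funext fun V' => (extFunctorObj (LocCohZ.zq (pr h V'.unop)) q).map_comp φ ψ)

/-- The connecting map. -/
noncomputable def preδ (q : ℕ) (F : CohTop.Ab X) : (preF h q).obj (emb F).X₃ ⟶ (preF h (q + 1)).obj F where
  app V' := extDl (LocCohZ.zq (pr h V'.unop)) q F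
  naturality V' V'' g := by
    refine AddCommGrpCat.ext fun x => ?_
    exact Ext.comp_assoc _ x _ (zero_add q) rfl (by omega)

theorem epi_preδ (q : ℕ) (F : CohTop.Ab X) : Epi (preδ h q F) := by
  haveI : ∀ V', Epi ((preδ h q F).app V') := fun V' => epi_extDl _ q F
  exact NatTrans.epi_of_epi_app _

/-- The three-term sequence. -/
noncomputable abbrev preSC (q : ℕ) (F : CohTop.Ab X) : ShortComplex ((Opens X)ᵒᵖ ⥤ AddCommGrpCat.{u}) :=
  ShortComplex.mk ((preF h q).map (emb F).g) (preδ h q F) (NatTrans.ext (funext fun V' => by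
    refine AddCommGrpCat.ext fun x => ?_
    show (x.comp (Ext.mk₀ (emb F).g) (add_zero q)).comp (emb_shortExact F).extClass rfl = 0
    rw [Ext.comp_assoc_of_second_deg_zero, ShortComplex.ShortExact.comp_extClass, Ext.comp_zero]))

theorem exact_preSC (q : ℕ) (F : CohTop.Ab X) : (preSC h q F).Exact := by
  rw [ShortComplex.exact_iff_isZero_homology]
  refine Functor.isZero _ fun V' => ?_
  refine IsZero.of_iso ?_ ((preSC h q F).mapHomologyIso ((evaluation _ _).obj V')).symm
  rw [← ShortComplex.exact_iff_isZero_homology]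
  exact Ext.covariant_sequence_exact₃' (X := LocCohZ.zq (pr h V'.unop)) (emb_shortExact F) q (q + 1) rfl

theorem exists_iota0 (F : CohTop.Ab X) (V' : Opens X) (t : ((SuppFam.sectSuppLC h).obj F).obj.obj (op V')) :
      ∃ x : LocCohZ.HZ F 0 (pr h V'), z0 (pr h V') x =
        F.obj.map (eqToHom (show (op (V.isOpenEmbedding.isOpenMap.functor.obj
          ((Opens.map (CohCx.incl V)).obj V'))) = op (V ⊓ V') from congrArg op ((Opens.functor_map_eq_inf V V').trans (inf_comm _ _))))
          (suppSec (SuppFam.inOpen V W) (F := CohTop.restr F V) ((Opens.map (CohCx.incl V)).obj V') t) := by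
  refine exists_z0 _ _ ?_
  have hm := (SSExist.mem_sectSupp_iff (SuppFam.inOpen V W) (CohTop.restr F V)
    ((Opens.map (CohCx.incl V)).obj V') _).1 ⟨t, rfl⟩
  have e : W ⊓ V' ≤ V.isOpenEmbedding.isOpenMap.functor.obj
      ((Opens.map (CohCx.incl V)).obj V' ⊓ SuppFam.inOpen V W) :=
    fun x hx => ⟨⟨x, h hx.1⟩, ⟨hx.2, hx.1⟩, rfl⟩
  have h' := (congrArg (F.obj.map (homOfLE e).op) hm).trans (map_zero (F.obj.map (homOfLE e).op).hom)
  refine Eq.trans ?_ h'
  rw [← ConcreteCategory.comp_apply, ← F.obj.map_comp]
  refine Eq.trans ?_ (ConcreteCategory.comp_apply _ _ _)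
  erw [← F.obj.map_comp]
  rfl

/-- Degree zero. -/
noncomputable def iota0 (F : CohTop.Ab X) :
    ((SuppFam.sectSuppLC h).obj F).obj ⟶ (preF h 0).obj F := by
  classical
  have hmem := exists_iota0 h F
  refine
    { app := fun V' => AddCommGrpCat.ofHom (AddMonoidHom.mk' (fun t => (hmem V'.unop t).choose) (fun t t' => ?_))
      naturality := fun V' V'' g => ?_ }
  · apply z0_injective
    rw [(hmem V'.unop (t + t')).choose_spec]
    refine Eq.trans ?_ ((congrArg₂ (· + ·) (hmem V'.unop t).choose_spec (hmem V'.unop t').choose_spec).symm.trans ?_)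
    · rw [← map_add]
      congr 1
      exact map_add _ t t'
    · exact (congrArg Subtype.val (map_add (LocCohZ.sect0Equiv F (pr h V'.unop)) _ _)).symm
  · refine AddCommGrpCat.ext fun t => ?_
    apply z0_injective
    refine (hmem V''.unop _).choose_spec.trans ?_
    refine Eq.trans ?_ (z0_resZ _ _ _ _ _).symm
    refine Eq.trans ?_ (congrArg (F.obj.map _) (hmem V'.unop t).choose_spec).symm
    rw [← ConcreteCategory.comp_apply, ← F.obj.map_comp]
    have hs := suppSec_res (SuppFam.inOpen V W) (F := CohTop.restr F V)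
      (W := (Opens.map (CohCx.incl V)).obj V''.unop) (V := (Opens.map (CohCx.incl V)).obj V'.unop)
      (fun z hz => leOfHom g.unop hz) t
    refine (congrArg _ hs).trans ?_
    refine ((ConcreteCategory.comp_apply _ _ _).symm).trans ?_
    erw [← F.obj.map_comp]
    rfl

theorem iota0_spec (F : CohTop.Ab X) (V' : Opens X) (t : ((SuppFam.sectSuppLC h).obj F).obj.obj (op V')) :
    z0 (pr h V') ((iota0 h F).app (op V') t) =
      F.obj.map (eqToHom (show (op (V.isOpenEmbedding.isOpenMap.functor.obj
        ((Opens.map (CohCx.incl V)).obj V'))) = op (V ⊓ V') from congrArg op ((Opens.functor_map_eq_inf V V').trans (inf_comm _ _))))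
        (suppSec (SuppFam.inOpen V W) (F := CohTop.restr F V) ((Opens.map (CohCx.incl V)).obj V') t) :=
  (exists_iota0 h F V' t).choose_spec

theorem iota0_bijective (F : CohTop.Ab X) (V' : Opens X) : Function.Bijective ((iota0 h F).app (op V')) := by
  constructor
  · intro t t' ht
    refine suppSec_injective (SuppFam.inOpen V W) (F := CohTop.restr F V) _ ?_
    have := (iota0_spec h F V' t).symm.trans ((congrArg (z0 (pr h V')) ht).trans (iota0_spec h F V' t'))
    exact (ConcreteCategory.bijective_of_isIso (F.obj.map (eqToHom _))).1 this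
  · intro x
    let e : op (V ⊓ V') = op (V.isOpenEmbedding.isOpenMap.functor.obj ((Opens.map (CohCx.incl V)).obj V')) :=
      congrArg op ((Opens.functor_map_eq_inf V V').trans (inf_comm _ _)).symm
    obtain ⟨t, ht⟩ : ∃ t, suppSec (SuppFam.inOpen V W) (F := CohTop.restr F V) ((Opens.map (CohCx.incl V)).obj V') t =
        F.obj.map (eqToHom e) (z0 (pr h V') x) := by
      refine (SSExist.mem_sectSupp_iff (SuppFam.inOpen V W) (CohTop.restr F V) _ _).2 ?_
      have e' : V.isOpenEmbedding.isOpenMap.functor.obj
          ((Opens.map (CohCx.incl V)).obj V' ⊓ SuppFam.inOpen V W) ≤ W ⊓ V' := by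
        rintro _ ⟨y, ⟨hy₁, hy₂⟩, rfl⟩
        exact ⟨hy₂, hy₁⟩
      have h' := congrArg (F.obj.map (homOfLE e').op) (LocCohZ.sect0Equiv F (pr h V') x).2
      refine Eq.trans ?_ (h'.trans (map_zero _))
      refine ((ConcreteCategory.comp_apply _ _ _).symm).trans (Eq.trans ?_ (ConcreteCategory.comp_apply _ _ _))
      erw [← F.obj.map_comp, ← F.obj.map_comp]
      rfl
    refine ⟨t, z0_injective _ ?_⟩
    rw [iota0_spec, ht, ← ConcreteCategory.comp_apply, ← F.obj.map_comp, eqToHom_trans, eqToHom_refl,
      F.obj.map_id]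
    rfl

/-- The sheaf of sections with support is the degree zero presheaf. -/
noncomputable def iso0 : SuppFam.sectSuppLC h ⋙ sheafToPresheaf _ _ ≅ preF h 0 :=
  NatIso.ofComponents (fun F =>
    haveI : ∀ V', IsIso ((iota0 h F).app V') := fun V' =>
      (ConcreteCategory.isIso_iff_bijective _).2 (iota0_bijective h F V'.unop)
    haveI : IsIso (iota0 h F) := NatIso.isIso_of_isIso_app _
    asIso (iota0 h F)) fun {F G} φ => NatTrans.ext (funext fun V' => AddCommGrpCat.ext fun t => by
      apply z0_injective
      refine (iota0_spec h G V'.unop _).trans ?_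
      refine Eq.trans ?_ (z0_map φ (pr h V'.unop) ((iota0 h F).app V' t)).symm
      rw [iota0_spec]
      refine (congrArg (G.obj.map _) (suppSec_map (SuppFam.inOpen V W) ((CohTop.restrFunctor V).map φ) _ t)).trans ?_
      exact (NatTrans.naturality_apply φ.hom _ _).symm)

end

/-- For an abelian sheaf `F` on a topological space `X` and a locally closed `Z = V ∖ W` (`W ≤ V`
opens), the local cohomology sheaf `ℋ^q_Z(F)`, the `q`-th right derived functor of the sheaf of
sections with supports in `Z`, is isomorphic to the sheaf associated to the presheaf `V' ↦ H^q_{Z ∩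
V'}(V', F)` (here written through the Ext groups with supports for the pair `W ∩ V' ≤ V ∩ V'`).
Existence of an isomorphism only; the canonical comparison map is not named. -/
theorem result {X : TopCat.{u}} (F : CohTop.Ab X) {W V : Opens X} (h : W ≤ V)
    (q : ℕ) :
    Nonempty ((SuppFam.HZshLC h q).obj F ≅
      (presheafToSheaf (Opens.grothendieckTopology X) AddCommGrpCat.{u}).obj (SuppFam.HZpre F q h)) := by
  open Limits KerDerived in
  let J := Opens.grothendieckTopology X
  let Q : ℕ → CohTop.Ab X ⥤ CohTop.Ab X := fun n => preF h n ⋙ presheafToSheaf J AddCommGrpCat.{u}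
  haveI : IsIso (sheafificationAdjunction J AddCommGrpCat.{u}).counit := inferInstance
  let e₀ : SuppFam.sectSuppLC h ≅ Q 0 :=
    (Functor.rightUnitor _).symm ≪≫ Functor.isoWhiskerLeft (SuppFam.sectSuppLC h)
      (asIso (sheafificationAdjunction J AddCommGrpCat.{u}).counit).symm ≪≫
      (Functor.associator _ _ _).symm ≪≫ Functor.isoWhiskerRight (iso0 h) _
  haveI : Limits.PreservesFiniteLimits (CohTop.restrFunctor V) :=
    Limits.preservesFiniteLimits_of_natIso (F := CohTop.pull (CohCx.incl V)) (KerDerived.pullIsoRestr V)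
  haveI : Limits.PreservesFiniteLimits (SuppFam.sectSuppLC h) := by
    haveI := KerDerived.preservesFiniteLimits_push (CohCx.incl V)
    haveI := KerDerived.preservesFiniteLimits_sectSuppF (X := TopCat.of V) (SuppFam.inOpen V W)
    haveI := Limits.comp_preservesFiniteLimits (LocCohZ.sectSuppF (SuppFam.inOpen V W)) (CohTop.push (CohCx.incl V))
    exact Limits.comp_preservesFiniteLimits _ _
  obtain ⟨e⟩ := nonempty_rightDerived_iso_of_effaceable (SuppFam.sectSuppLC h) Q e₀
    (fun n F => (presheafToSheaf J AddCommGrpCat.{u}).map (preδ h n F))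
    (fun n F => by haveI := epi_preδ h n F; infer_instance)
    (fun n F Z k => by
      haveI := epi_preδ h n F
      haveI : Epi ((preSC h n F).map (presheafToSheaf J AddCommGrpCat.{u})).g :=
        inferInstanceAs (Epi ((presheafToSheaf J AddCommGrpCat.{u}).map (preδ h n F)))
      exact KerDerived.desc_iff ((exact_preSC h n F).map (presheafToSheaf J AddCommGrpCat.{u})) k)
    (fun n F G f => by
      show (presheafToSheaf J AddCommGrpCat.{u}).map _ ≫ (presheafToSheaf J AddCommGrpCat.{u}).map _ = _
      rw [← Functor.map_comp]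
      refine Eq.trans ?_ (Functor.map_comp _ _ _)
      congr 1
      exact NatTrans.ext (funext fun V' => KerDerived.extDl_natural _ n f)) q
  exact ⟨e.app F⟩

end Groth.Agent.S13583
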