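import Groth.Statements.S13584
import Groth.Agent.LocClosedSupp.Basic
import Groth.Agent.KerDerived.Flasque
import Groth.Agent.S13583
-- import your own Groth.Agent.* helpers here

set_option autoImplicit false
universe u
open CategoryTheory TopologicalSpace AlgebraicGeometry
open SuppFam

namespace Groth.Agent.S13584

section
open Limits Opposite CohVanish LocClosedSupp

theorem exists_factor {X : TopCat.{u}} {P Q A : CohTop.Ab X} (a : P ⟶ A) (b : Q ⟶ A)
    (hb : ∀ O, Function.Injective (b.hom.app (op O)))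
    (h : ∀ O (s : P.obj.obj (op O)), ∃ t, b.hom.app (op O) t = a.hom.app (op O) s) : ∃ c : P ⟶ Q, c ≫ b = a := by
  choose t ht using h
  refine ⟨ObjectProperty.homMk
    { app := fun O => AddCommGrpCat.ofHom (AddMonoidHom.mk' (t O.unop) fun s s' => hb _ (by rw [map_add, ht, ht, ht, map_add]))
      naturality := fun O O' g => AddCommGrpCat.ext fun s => hb O'.unop ?_ }, ObjectProperty.hom_ext _ (NatTrans.ext (funext fun O => AddCommGrpCat.ext fun s => ht _ s))⟩
  refine (ht _ _).trans ((ConcreteCategory.congr_hom (a.hom.naturality g) s).trans ?_)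
  exact ((ConcreteCategory.congr_hom (b.hom.naturality g) _).trans (congrArg (A.obj.map g) (ht _ s))).symm

variable {Y : Scheme.{u}} {V₂ V₁ : Y.Opens} (h : V₂ ≤ V₁)

/-- The common ambient sheaf. -/
noncomputable abbrev amb (M : Y.Modules) : CohTop.Ab (sp Y) :=
  (CohTop.push (CohCx.incl (X := sp Y) V₁)).obj ((CohTop.restrFunctor (X := sp Y) V₁).obj (Coh.toAb M))

noncomputable def incA (M : Y.Modules) : (toAbF Y).obj ((GM h).obj M) ⟶ amb (V₁ := V₁) M :=
  (toAbF Y).map ((ι₁ h).app M)

noncomputable def incB (M : Y.Modules) :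
    (SuppFam.sectSuppLC (X := sp Y) h).obj (Coh.toAb M) ⟶ amb (V₁ := V₁) M :=
  (CohTop.push (CohCx.incl (X := sp Y) V₁)).map
    ((KerDerived.suppι (SuppFam.inOpen (X := sp Y) V₁ V₂)).app ((CohTop.restrFunctor (X := sp Y) V₁).obj (Coh.toAb M)))

theorem incA_injective (M : Y.Modules) (O : Opens (sp Y)) : Function.Injective ((incA h M).hom.app (op O)) := by
  haveI : Mono ((ι₁ h).app M) := inferInstanceAs (Mono (kernel.ι _))
  exact (QCohLib.mono_iff_app_injective ((ι₁ h).app M)).1 inferInstance O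

theorem incB_injective (M : Y.Modules) (O : Opens (sp Y)) : Function.Injective ((incB h M).hom.app (op O)) :=
  SSExist.sectSupp_injective (SuppFam.inOpen (X := sp Y) V₁ V₂) _ _

theorem mem_incA (M : Y.Modules) (O : Y.Opens) (s : (amb (V₁ := V₁) M).obj.obj (op O)) :
    (∃ t, (incA h M).hom.app (op O) t = s) ↔
      M.presheaf.map (homOfLE (image_le h O)).op (show Γ((P V₁).obj M, O) from s) = 0 := by
  constructor
  · rintro ⟨t, rfl⟩
    refine (r_app_apply h M O _).symm.trans ?_
    exact congr($(congrArg (fun z => Scheme.Modules.Hom.app z O) (kernel.condition ((r h).app M))) t)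
  · intro hs
    let S := ShortComplex.mk ((ι₁ h).app M) ((r h).app M) (kernel.condition _)
    have hS : S.Exact := ShortComplex.exact_of_f_is_kernel _ (kernelIsKernel _)
    let T := toAbF Y ⋙ SSExist.secAb (Opens.grothendieckTopology (sp Y)) O
    haveI : Mono S.f := inferInstanceAs (Mono (kernel.ι _))
    have hT := (ShortComplex.ab_exact_iff _).1
      ((hS.map_of_mono_of_preservesKernel (toAbF Y) ‹_› inferInstance).map_of_mono_of_preservesKernel
        (SSExist.secAb (Opens.grothendieckTopology (sp Y)) O) (inferInstanceAs (Mono ((toAbF Y).map S.f))) inferInstance)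
    exact hT s ((r_app_apply h M O _).trans hs)

theorem mem_incB (M : Y.Modules) (O : Y.Opens) (s : (amb (V₁ := V₁) M).obj.obj (op O)) :
    (∃ t, (incB h M).hom.app (op O) t = s) ↔
      M.presheaf.map (homOfLE (image_le h O)).op (show Γ((P V₁).obj M, O) from s) = 0 := by
  refine (SSExist.mem_sectSupp_iff (SuppFam.inOpen (X := sp Y) V₁ V₂) _ _ _).trans ?_
  have e : V₁.ι ''ᵁ (V₁.ι ⁻¹ᵁ O ⊓ SuppFam.inOpen (X := sp Y) V₁ V₂) = V₂.ι ''ᵁ (V₂.ι ⁻¹ᵁ O) := by
    ext x
    constructor
    · rintro ⟨y, ⟨hy₁, hy₂⟩, rfl⟩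
      exact ⟨⟨y.1, hy₂⟩, hy₁, rfl⟩
    · rintro ⟨y, hy, rfl⟩
      exact ⟨⟨y.1, h y.2⟩, ⟨hy, y.2⟩, rfl⟩
  have hm : M.presheaf.map (V₁.ι.opensFunctor.map (homOfLE (inf_le_left : V₁.ι ⁻¹ᵁ O ⊓ SuppFam.inOpen (X := sp Y) V₁ V₂ ≤ V₁.ι ⁻¹ᵁ O))).op ≫
      M.presheaf.map (eqToHom (congrArg op e)) = M.presheaf.map (homOfLE (image_le h O)).op := by
    rw [← Functor.map_comp]
    exact congrArg M.presheaf.map (Subsingleton.elim _ _)
  rw [← hm, ConcreteCategory.comp_apply]
  exact (map_eq_zero_iff (M.presheaf.map (eqToHom (congrArg op e))).hom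
    (ConcreteCategory.bijective_of_isIso (M.presheaf.map (eqToHom (congrArg op e)))).1).symm

/-- The comparison. -/
theorem nonempty_toAb_GM : Nonempty (GM h ⋙ toAbF Y ≅ toAbF Y ⋙ SuppFam.sectSuppLC (X := sp Y) h) := by
  choose c hc using fun M => exists_factor (incA h M) (incB h M) (incB_injective h M)
    fun O s => (mem_incB h M O _).2 ((mem_incA h M O _).1 ⟨s, rfl⟩)
  choose d hd using fun M => exists_factor (incB h M) (incA h M) (incA_injective h M)
    fun O s => (mem_incA h M O _).2 ((mem_incB h M O _).1 ⟨s, rfl⟩)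
  haveI hA : ∀ M, Mono (incA h M) := fun M => by
    haveI : Mono ((ι₁ h).app M) := inferInstanceAs (Mono (kernel.ι _))
    exact inferInstanceAs (Mono ((toAbF Y).map ((ι₁ h).app M)))
  haveI hB : ∀ M, Mono (incB h M) := fun M => by
    haveI := KerDerived.preservesFiniteLimits_push (CohCx.incl (X := sp Y) V₁)
    haveI : Mono ((KerDerived.suppι (SuppFam.inOpen (X := sp Y) V₁ V₂)).app
      ((CohTop.restrFunctor (X := sp Y) V₁).obj (Coh.toAb M))) := inferInstanceAs (Mono (kernel.ι _))
    exact Functor.map_mono _ _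
  refine ⟨NatIso.ofComponents (fun M => ⟨c M, d M, (cancel_mono (incA h M)).1 ?_, (cancel_mono (incB h M)).1 ?_⟩)
    fun {M N} f => (cancel_mono (incB h N)).1 ?_⟩
  · rw [Category.assoc, hd, hc]; exact (Category.id_comp _).symm
  · rw [Category.assoc, hc, hd]; exact (Category.id_comp _).symm
  · have hA' : (toAbF Y).map ((GM h).map f) ≫ incA h N = incA h M ≫
        (CohTop.push (CohCx.incl (X := sp Y) V₁)).map ((CohTop.restrFunctor (X := sp Y) V₁).map ((toAbF Y).map f)) :=
      ((toAbF Y).map_comp _ _).symm.trans ((congrArg (toAbF Y).map ((ι₁ h).naturality f)).trans ((toAbF Y).map_comp _ _))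
    have hB' : (SuppFam.sectSuppLC (X := sp Y) h).map ((toAbF Y).map f) ≫ incB h N = incB h M ≫
        (CohTop.push (CohCx.incl (X := sp Y) V₁)).map ((CohTop.restrFunctor (X := sp Y) V₁).map ((toAbF Y).map f)) :=
      ((CohTop.push (CohCx.incl (X := sp Y) V₁)).map_comp _ _).symm.trans ((congrArg _
        ((KerDerived.suppι (SuppFam.inOpen (X := sp Y) V₁ V₂)).naturality ((CohTop.restrFunctor (X := sp Y) V₁).map ((toAbF Y).map f)))).trans
        ((CohTop.push (CohCx.incl (X := sp Y) V₁)).map_comp _ _))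
    simp only [Functor.comp_map, Category.assoc]
    rw [hc, hB', reassoc_of% (hc M)]
    exact hA'

end

/-- Let `Y` be a scheme, `V₂ ≤ V₁` opens of `Y` whose inclusion morphisms into `Y` are quasi-compact, `Z
= V₁ ∖ V₂`, and `F` a quasi-coherent `O_Y`-module. Then the local cohomology sheaves `ℋ^i_Z(F)` are
quasi-coherent: the `i`-th right derived functor of sections with supports in `Z`, applied to the
underlying abelian sheaf of `F`, is isomorphic to the underlying abelian sheaf of a quasi-coherent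
`O_Y`-module. Existence of the module structure and of the isomorphism only. -/
theorem result (Y : Scheme.{u}) {V₂ V₁ : Y.Opens} (h : V₂ ≤ V₁)
    [QuasiCompact V₁.ι] [QuasiCompact V₂.ι] (F : Y.Modules) (hF : Coh.IsQCoh F) (i : ℕ) :
    ∃ M : Y.Modules, Coh.IsQCoh M ∧
      Nonempty (Coh.toAb M ≅ (SuppFam.HZshLC (X := Y.carrier) h i).obj (Coh.toAb F)) := by
  open Limits CohVanish in
  haveI := ModPush.enoughInjectives Y
  haveI := ModPush.hasInjectiveResolutions Y
  haveI : F.IsQuasicoherent := hF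
  haveI : PreservesFiniteLimits (LocClosedSupp.P V₁) := comp_preservesFiniteLimits _ _
  haveI hGlim : PreservesFiniteLimits (SuppFam.sectSuppLC (X := sp Y) h) := by
    haveI : PreservesFiniteLimits (CohTop.restrFunctor (X := sp Y) V₁) :=
      preservesFiniteLimits_of_natIso (F := CohTop.pull (CohCx.incl (X := sp Y) V₁)) (KerDerived.pullIsoRestr (X := sp Y) V₁)
    haveI := KerDerived.preservesFiniteLimits_push (CohCx.incl (X := sp Y) V₁)
    let G := LocCohZ.sectSuppF (SuppFam.inOpen (X := sp Y) V₁ V₂)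
    haveI : PreservesFiniteLimits G := KerDerived.preservesFiniteLimits_sectSuppF _
    haveI := comp_preservesFiniteLimits G (CohTop.push (CohCx.incl (X := sp Y) V₁))
    exact comp_preservesFiniteLimits _ _
  obtain ⟨e⟩ := nonempty_toAb_GM h
  haveI : PreservesFiniteLimits (toAbF Y ⋙ SuppFam.sectSuppLC (X := sp Y) h) := comp_preservesFiniteLimits _ _
  haveI : PreservesFiniteLimits (LocClosedSupp.GM h) := by
    haveI : PreservesFiniteLimits (LocClosedSupp.GM h ⋙ toAbF Y) := preservesFiniteLimits_of_natIso e.symm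
    haveI : (toAbF Y).ReflectsIsomorphisms := inferInstance
    exact preservesFiniteLimits_of_reflects_of_preserves _ (toAbF Y)
  obtain ⟨e1⟩ := KerDerived.nonempty_postcomp_iso (LocClosedSupp.GM h) (toAbF Y) i
  obtain ⟨e2⟩ := KerDerived.nonempty_comp_iso (toAbF Y) (SuppFam.sectSuppLC (X := sp Y) h)
    (fun I _ m => by
      haveI := ModPush.isFlasque_toAb_of_injective I
      obtain ⟨g⟩ := S13583.result (X := sp Y) (Coh.toAb I) h (m + 1)
      refine IsZero.of_iso ?_ g
      refine Functor.map_isZero _ ?_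
      exact Functor.isZero _ fun V' => @AddCommGrpCat.isZero_of_subsingleton _
        (KerDerived.subsingleton_HZ_of_flasque (X := sp Y) (Coh.toAb I) (inf_le_inf_right V'.unop h) m)) i
  haveI := LocClosedSupp.isQuasicoherent_rightDerived_GM h i F
  exact ⟨((LocClosedSupp.GM h).rightDerived i).obj F, ‹_›,
    ⟨(e1.symm ≪≫ SSExist.rightDerivedIso e i ≪≫ e2).app F⟩⟩

end Groth.Agent.S13584
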