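import Groth.Statements.S13590
import Groth.Agent.ClosedPush.Basic
import Groth.Agent.SSExist.PullTop
import Groth.Agent.SSExist.OverInj
-- import your own Groth.Agent.* helpers here

set_option autoImplicit false
universe u
open CategoryTheory TopologicalSpace
open SuppFam

namespace Groth.Agent.S13590

/-- For an abelian sheaf `F` on a topological space `X` and a locally closed `Z = V ∖ W` (`W ≤ V`
opens), if `F` is injective then the sheaf `Γ_Z(F) = i_* i^!(F)` of sections of `F` with supports in
`Z` is injective. -/
theorem result {X : TopCat.{u}} (F : CohTop.Ab X) {W V : Opens X} (h : W ≤ V)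
    (hF : Injective F) : Injective ((SuppFam.sectSuppLC h).obj F) := by
    haveI := hF
    let e := V.sheafEquivOver (A := AddCommGrpCat.{u})
    haveI : Injective ((CohTop.restrFunctor V).obj F) := by
      haveI := Groth.Agent.SSExist.injective_restrictOver (Opens.grothendieckTopology X) V F
      exact Injective.injective_of_adjoint (e.symm.toAdjunction)
        ((CohSite.push (Opens.grothendieckTopology X) ((Opens.grothendieckTopology X).over V) (Over.forget V)).obj F)
    let Z := TopCat.of V
    let U := SuppFam.inOpen V W
    haveI := Groth.Agent.SSExist.preservesInjectiveObjects_pushTop (CohCx.inclCompl U)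
    haveI := Groth.Agent.SSExist.preservesInjectiveObjects_pushTop (CohCx.incl V)
    let L := CohTop.push (CohCx.inclCompl U)
    haveI : L.IsRightAdjoint := (TopCat.Sheaf.pullbackPushforwardAdjunction AddCommGrpCat.{u} (CohCx.inclCompl U)).isRightAdjoint
    let G := (LocCohZ.sectSuppF U).obj ((CohTop.restrFunctor V).obj F)
    haveI : Injective ((CohTop.pull (CohCx.inclCompl U)).obj G) :=
      Injective.injective_of_adjoint (Groth.Agent.ClosedPush.suppAdj U) ((CohTop.restrFunctor V).obj F)
    haveI : Injective G :=
      haveI : IsIso ((TopCat.Sheaf.pullbackPushforwardAdjunction AddCommGrpCat.{u} (CohCx.inclCompl U)).unit.app G) :=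
      Groth.Agent.ClosedPush.isIso_unit_sectSupp U ((CohTop.restrFunctor V).obj F)
      Injective.of_iso (asIso ((TopCat.Sheaf.pullbackPushforwardAdjunction AddCommGrpCat.{u} (CohCx.inclCompl U)).unit.app G)).symm
          (L.injective_obj_of_injective inferInstance)
    exact (CohTop.push (CohCx.incl V)).injective_obj_of_injective (inferInstance : Injective G)

end Groth.Agent.S13590
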