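import Groth.Statements.S13598
import Groth.Agent.HenselLib.HenselizationLocal

set_option autoImplicit false
universe u
open Hensel

namespace Groth.Agent.S13598

/-- For a local ring A, a henselization A ⟶ S of A (S a henselian local ring, the structure map local,
and initial among local homomorphisms from A to henselian local rings) and an ideal I of A inside
the maximal ideal, the quotient S/IS with its induced algebra structure over A/I is a henselization
of A/I. (The local-ring and local-homomorphism instances on the quotients hold automatically; they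
are taken as hypotheses only so that the conclusion can be stated.) -/
theorem result {A S : Type u} [CommRing A] [IsLocalRing A] [CommRing S]
    [IsLocalRing S] [Algebra A S] [IsLocalHom (algebraMap A S)] [Hensel.IsHenselization A S]
    (I : Ideal A) (hI : I ≤ IsLocalRing.maximalIdeal A)
    [IsLocalRing (A ⧸ I)] [IsLocalRing (S ⧸ I.map (algebraMap A S))]
    [IsLocalHom (algebraMap (A ⧸ I) (S ⧸ I.map (algebraMap A S)))] :
    Hensel.IsHenselization (A ⧸ I) (S ⧸ I.map (algebraMap A S)) := by
  haveI := (inferInstance : Hensel.IsHenselization A S).henselian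
  set J := I.map (algebraMap A S)
  refine ⟨?_, fun T _ _ f hf => ?_⟩
  · haveI : HenselianRing (S ⧸ J) (IsLocalRing.maximalIdeal (S ⧸ J)) := by
      rw [← IsLocalRing.map_maximalIdeal_of_surjective (Ideal.Quotient.mk J) Ideal.Quotient.mk_surjective]
      exact Groth.Agent.HenselLib.henselianRing_quotient J (IsLocalRing.maximalIdeal S)
    exact Groth.Agent.HenselLib.henselianLocalRing_of_henselianRing
  · haveI := hf
    haveI : IsLocalHom (Ideal.Quotient.mk I) := 
      isLocalHom_of_le_jacobson_bot I (hI.trans (IsLocalRing.maximalIdeal_le_jacobson _))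
    haveI : IsLocalHom (f.comp (Ideal.Quotient.mk I)) := RingHom.isLocalHom_comp _ _
    obtain ⟨g, hg, huniq⟩ := Hensel.IsHenselization.universal (R := A) (S := S) T
      (f.comp (Ideal.Quotient.mk I)) inferInstance
    have hker : J ≤ RingHom.ker g := Ideal.map_le_iff_le_comap.mpr fun a ha => by
      show g (algebraMap A S a) = 0
      rw [← RingHom.comp_apply, hg, RingHom.comp_apply, Ideal.Quotient.eq_zero_iff_mem.mpr ha, map_zero]
    refine ⟨Ideal.Quotient.lift J g hker, RingHom.ext fun x => ?_, fun g' hg' => ?_⟩
    · obtain ⟨a, rfl⟩ := Ideal.Quotient.mk_surjective x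
      exact RingHom.congr_fun hg a
    · refine Ideal.Quotient.ringHom_ext ?_
      rw [huniq (g'.comp (Ideal.Quotient.mk J)) (RingHom.ext fun a => by
        rw [RingHom.comp_apply, RingHom.comp_apply, RingHom.comp_apply, ← hg']
        rfl)]
      exact RingHom.ext fun x => rfl

end Groth.Agent.S13598
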