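import Groth.Statements.S13602
import Groth.Agent.GrpdBasic.NormOpen
import Groth.Agent.S13502

set_option autoImplicit false
universe u
open CategoryTheory AlgebraicGeometry
open SymProd

namespace Groth.Agent.S13602

open CategoryTheory.Limits

theorem isAffineHom_base {U V : Scheme.{u}} (g : U ⟶ V) [IsAffineHom g] (n : ℕ) :
    IsAffineHom (WidePullback.base (fun _ : Fin n => g)) := by
  induction n with
  | zero =>
    have : IsIso (WidePullback.base (fun _ : Fin 0 => g)) := by
      refine ⟨WidePullback.lift (𝟙 V) (fun j => Fin.elim0 j) (fun j => Fin.elim0 j), ?_, WidePullback.lift_base _ _ _ _⟩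
      refine WidePullback.hom_ext (fun _ : Fin 0 => g) _ _ (fun j => Fin.elim0 j) ?_
      rw [Category.assoc, WidePullback.lift_base, Category.id_comp, Category.comp_id]
    infer_instance
  | succ n ih =>
    obtain ⟨e, he, h⟩ := Groth.Agent.MultMap.exists_wideIso g n
    rw [← h]
    haveI : IsAffineHom (pullback.fst g (WidePullback.base (fun _ : Fin n => g))) :=
      MorphismProperty.of_isPullback (P := (@IsAffineHom : MorphismProperty Scheme.{u})) (IsPullback.of_hasPullback g _).flip ih
    infer_instance

/-- Let f : X ⟶ S be a morphism of schemes satisfying (AF): every finite set of points of X over a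
single point of S lies in an affine open of X. Then for every d ≥ 0 and every point x of the d-fold
fibre power X ×_S ⋯ ×_S X, some affine open of the fibre power contains the whole orbit of x under
the symmetric group on d letters permuting the factors. (With the existence of a quotient by a
finite group whose orbits lie in affine opens, this is the existence of the symmetric power
Sym^d(X/S) for X/S satisfying (AF).) -/
theorem result {X S : Scheme.{u}} (f : X ⟶ S) (hAF : SymProd.IsAF f)
    (d : ℕ) (x : ↥(SymProd.fibPow f d)) :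
    ∃ U : (SymProd.fibPow f d).Opens, IsAffineOpen U ∧
      ∀ σ : Equiv.Perm (Fin d), (SymProd.permHom f d σ).base x ∈ U := by
  open CategoryTheory.Limits in
  classical
  let s := (WidePullback.base (fun _ : Fin d => f)).base x
  let T : Finset X := Finset.univ.image fun i : Fin d => (WidePullback.π (fun _ : Fin d => f) i).base x
  have hT : ∀ a ∈ T, f.base a = s := fun a ha => by
    obtain ⟨i, -, rfl⟩ := Finset.mem_image.1 ha
    exact congrArg (fun F : SymProd.fibPow f d ⟶ S => F.base x) (WidePullback.π_arrow (fun _ : Fin d => f) i)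
  obtain ⟨U, hU, hTU⟩ := hAF s T hT
  obtain ⟨V, hV, hsV, -⟩ := exists_isAffineOpen_mem_and_subset (U := (⊤ : S.Opens)) (x := s) trivial
  haveI : IsAffine U := hU
  let ib : {b // b ∈ T} → ↥(U : Scheme.{u}) := fun b => ⟨b.1, hTU b.1 b.2⟩
  obtain ⟨a, haW, haT⟩ := Groth.Agent.GrpdBasic.exists_basicOpen_subset_of_finite (V := (U : Scheme.{u}))
    (U.ι ⁻¹ᵁ (f ⁻¹ᵁ V)) (T.attach.image ib) (by
      intro z hz
      obtain ⟨b, -, rfl⟩ := Finset.mem_image.1 hz
      show f.base b.1 ∈ V
      rw [hT b.1 b.2]; exact hsV)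
  let U' : X.Opens := U.ι ''ᵁ (U : Scheme).basicOpen a
  have hU' : IsAffineOpen U' := ((isAffineOpen_top (U : Scheme)).basicOpen a).image_of_isOpenImmersion U.ι
  have hU'V : U' ≤ f ⁻¹ᵁ V := by
    rintro _ ⟨z, hz, rfl⟩
    exact haW hz
  have hTU' : ∀ b ∈ T, b ∈ U' := fun b hb => ⟨⟨b, hTU b hb⟩,
    haT _ (Finset.mem_image.2 ⟨⟨b, hb⟩, Finset.mem_attach _ _, rfl⟩), rfl⟩
  let g : (U' : Scheme) ⟶ V := f.resLE V U' hU'V
  haveI : IsAffine U' := hU'
  haveI : IsAffine V := hV
  haveI : IsAffineHom g := inferInstance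
  haveI := isAffineHom_base g d
  haveI : IsAffine (widePullback (V : Scheme) (fun _ : Fin d => (U' : Scheme)) (fun _ => g)) :=
    isAffine_of_isAffineHom (WidePullback.base (fun _ : Fin d => g))
  have hg : g ≫ V.ι = U'.ι ≫ f := Scheme.Hom.resLE_comp_ι _ _
  let W : (SymProd.fibPow f d).Opens :=
    ⟨((WidePullback.base (fun _ : Fin d => f)).base ⁻¹' V) ∩
      ⋂ i : Fin d, (WidePullback.π (fun _ : Fin d => f) i).base ⁻¹' U',
      (V.isOpen.preimage (Scheme.Hom.continuous _)).inter
        (isOpen_iInter_of_finite fun i => U'.isOpen.preimage (Scheme.Hom.continuous _))⟩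
  have hb : Set.range (W.ι ≫ WidePullback.base (fun _ : Fin d => f)).base ⊆ Set.range V.ι.base := by
    rintro _ ⟨w, rfl⟩
    rw [Scheme.Opens.range_ι]
    exact w.2.1
  have hp : ∀ i, Set.range (W.ι ≫ WidePullback.π (fun _ : Fin d => f) i).base ⊆ Set.range U'.ι.base := by
    rintro i _ ⟨w, rfl⟩
    rw [Scheme.Opens.range_ι]
    exact Set.mem_iInter.1 w.2.2 i
  let φ : (W : Scheme) ⟶ widePullback (V : Scheme) (fun _ : Fin d => (U' : Scheme)) (fun _ => g) :=
    WidePullback.lift (IsOpenImmersion.lift V.ι _ hb) (fun i => IsOpenImmersion.lift U'.ι _ (hp i)) fun i => by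
      rw [← cancel_mono V.ι, Category.assoc, hg, IsOpenImmersion.lift_fac, IsOpenImmersion.lift_fac_assoc,
        Category.assoc, WidePullback.π_arrow]
  let m : widePullback (V : Scheme) (fun _ : Fin d => (U' : Scheme)) (fun _ => g) ⟶ SymProd.fibPow f d :=
    WidePullback.lift (WidePullback.base (fun _ : Fin d => g) ≫ V.ι)
      (fun i => WidePullback.π (fun _ : Fin d => g) i ≫ U'.ι) fun i => by
        rw [Category.assoc, ← hg, WidePullback.π_arrow_assoc]
  have hm : Set.range m.base ⊆ Set.range W.ι.base := by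
    rintro _ ⟨y, rfl⟩
    rw [Scheme.Opens.range_ι]
    refine ⟨?_, Set.mem_iInter.2 fun i => ?_⟩
    · show (m ≫ WidePullback.base (fun _ : Fin d => f)).base y ∈ V
      rw [WidePullback.lift_base]
      exact ((WidePullback.base (fun _ : Fin d => g)).base y).2
    · show (m ≫ WidePullback.π (fun _ : Fin d => f) i).base y ∈ U'
      rw [WidePullback.lift_π]
      exact ((WidePullback.π (fun _ : Fin d => g) i).base y).2
  haveI : IsIso φ := by
    refine ⟨IsOpenImmersion.lift W.ι m hm, ?_, ?_⟩
    · rw [← cancel_mono W.ι, Category.assoc, IsOpenImmersion.lift_fac, Category.id_comp]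
      refine WidePullback.hom_ext (fun _ : Fin d => f) _ _ (fun i => ?_) ?_
      · rw [Category.assoc, WidePullback.lift_π, ← Category.assoc, WidePullback.lift_π, IsOpenImmersion.lift_fac]
      · rw [Category.assoc, WidePullback.lift_base, ← Category.assoc, WidePullback.lift_base, IsOpenImmersion.lift_fac]
    · refine WidePullback.hom_ext (fun _ : Fin d => g) _ _ (fun i => ?_) ?_
      · rw [Category.assoc, WidePullback.lift_π, Category.id_comp, ← cancel_mono U'.ι, Category.assoc,
          IsOpenImmersion.lift_fac, IsOpenImmersion.lift_fac_assoc, WidePullback.lift_π]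
      · rw [Category.assoc, WidePullback.lift_base, Category.id_comp, ← cancel_mono V.ι, Category.assoc,
          IsOpenImmersion.lift_fac, IsOpenImmersion.lift_fac_assoc, WidePullback.lift_base]
  refine ⟨W, IsAffine.of_isIso φ, fun σ => ⟨?_, Set.mem_iInter.2 fun i => ?_⟩⟩
  · show (SymProd.permHom f d σ ≫ WidePullback.base (fun _ : Fin d => f)).base x ∈ V
    rw [SymProd.permHom, WidePullback.lift_base]
    exact hsV
  · show (SymProd.permHom f d σ ≫ WidePullback.π (fun _ : Fin d => f) i).base x ∈ U'
    rw [SymProd.permHom, WidePullback.lift_π]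
    exact hTU' _ (Finset.mem_image.2 ⟨σ.symm i, Finset.mem_univ _, rfl⟩)

end Groth.Agent.S13602
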