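import Groth.Statements.S13605
import Mathlib
import Groth.Agent.GrpdBasic.NormOpen
import Groth.Agent.SGA1QuotLib.Finite
import Groth.Agent.SGA1QuotLib.SymChart
-- import your own Groth.Agent.* helpers here

set_option autoImplicit false
universe u
open CategoryTheory AlgebraicGeometry
open CategoryTheory.Limits
open SymProd

namespace Groth.Agent.S13605

/-- Let f : X ⟶ S be a morphism of schemes satisfying (AF) (every finite set of points of X over a
single point of S lies in an affine open of X), let 𝒮 be a cover of S by affine opens, let d ≥ 1 and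
let (Y, q, g) be a d-th symmetric power of X over S: q : X ×_S ⋯ ×_S X ⟶ Y is a quotient by the
symmetric group on d letters permuting the factors (affine, invariant, sections of O_Y = invariant
sections) and q ≫ g is the structure map of the fibre power. Then Y is covered by affine opens of
the form Sym^d(U/V) with V in the given cover: for every point y of Y there are V ∈ 𝒮 and an affine
open U ⊆ f⁻¹V of X such that the open W = ⋂_i pr_i⁻¹ U of the fibre power (the fibre power of U over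
V) is affine and stable under every permutation of the factors, and an affine open W' of Y
containing y with q⁻¹ W' = W. (The published statement also fixes an affine open cover of X
subordinate to the cover of S, in which any d points over a common point of a member V lie in a
common member mapping into V, and concludes that the corresponding opens Sym^d(U/V) cover Y; this
row states the pointwise form, producing U for each y.) -/
theorem result {X S Y : Scheme.{u}} (f : X ⟶ S) (hAF : SymProd.IsAF f)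
    (𝒮 : Set S.Opens) (h𝒮 : ∀ V ∈ 𝒮, IsAffineOpen V) (hcov : ∀ s : S, ∃ V ∈ 𝒮, s ∈ V)
    (d : ℕ) (hd : 0 < d) (q : SymProd.fibPow f d ⟶ Y) (g : Y ⟶ S) (hq : SymProd.IsSymProd f d q g) (y : Y) :
    ∃ V ∈ 𝒮, ∃ U : X.Opens, IsAffineOpen U ∧ U ≤ f ⁻¹ᵁ V ∧
      ∃ W : (SymProd.fibPow f d).Opens,
        (W : Set ↥(SymProd.fibPow f d)) =
          ⋂ i : Fin d, (WidePullback.π (fun _ : Fin d => f) i).base ⁻¹' (U : Set X) ∧
        IsAffineOpen W ∧ (∀ σ : Equiv.Perm (Fin d), (SymProd.permHom f d σ) ⁻¹ᵁ W = W) ∧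
        ∃ W' : Y.Opens, y ∈ W' ∧ IsAffineOpen W' ∧ q ⁻¹ᵁ W' = W := by
  open Groth.Agent.SGA1QuotLib in
  classical
  haveI := hq.isQuot.affine
  haveI := isIntegralHom hq.isQuot
  obtain ⟨x, rfl⟩ := surjective hq.isQuot y
  let s := (WidePullback.base (fun _ : Fin d => f)).base x
  obtain ⟨V, hV𝒮, hsV⟩ := hcov s
  let T : Finset X := Finset.univ.image fun i : Fin d => (WidePullback.π (fun _ : Fin d => f) i).base x
  have hT : ∀ a ∈ T, f.base a = s := fun a ha => by
    obtain ⟨i, -, rfl⟩ := Finset.mem_image.1 ha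
    exact congrArg (fun F : SymProd.fibPow f d ⟶ S => F.base x) (WidePullback.π_arrow (fun _ : Fin d => f) i)
  obtain ⟨U₀, hU₀, hTU⟩ := hAF s T hT
  haveI : IsAffine U₀ := hU₀
  let ib : {b // b ∈ T} → ↥(U₀ : Scheme.{u}) := fun b => ⟨b.1, hTU b.1 b.2⟩
  obtain ⟨a, haW, haT⟩ := Groth.Agent.GrpdBasic.exists_basicOpen_subset_of_finite (V := (U₀ : Scheme.{u}))
    (U₀.ι ⁻¹ᵁ (f ⁻¹ᵁ V)) (T.attach.image ib) (by
      intro z hz
      obtain ⟨b, -, rfl⟩ := Finset.mem_image.1 hz
      show f.base b.1 ∈ V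
      rw [hT b.1 b.2]; exact hsV)
  let U : X.Opens := U₀.ι ''ᵁ (U₀ : Scheme).basicOpen a
  have hU : IsAffineOpen U := ((isAffineOpen_top (U₀ : Scheme)).basicOpen a).image_of_isOpenImmersion U₀.ι
  have hUV : U ≤ f ⁻¹ᵁ V := by
    rintro _ ⟨z, hz, rfl⟩
    exact haW hz
  have hTU' : ∀ b ∈ T, b ∈ U := fun b hb => ⟨⟨b, hTU b hb⟩,
    haT _ (Finset.mem_image.2 ⟨⟨b, hb⟩, Finset.mem_attach _ _, rfl⟩), rfl⟩
  let col : Fin d → PUnit.{u + 1} := fun _ => PUnit.unit
  obtain ⟨hW, -⟩ := exists_chart_presentation f (fun _ : PUnit.{u + 1} => U) V col (h𝒮 V hV𝒮)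
    (fun _ => hU) (fun _ => hUV)
  let W := chartOpen f (fun _ : PUnit.{u + 1} => U) V col
  have hσ : ∀ σ : Equiv.Perm (Fin d), σ ∈ colourStab col := fun σ i => rfl
  have hWle : ∀ σ, W ≤ SymProd.permHom f d σ ⁻¹ᵁ W := fun σ => chartOpen_stable f _ V col (hσ σ)
  have hinv : ∀ σ : Equiv.Perm (Fin d), SymProd.permHom f d σ ⁻¹ᵁ W = W := fun σ => by
    refine le_antisymm (fun z hz => ?_) (hWle σ)
    have h1 := hWle σ⁻¹ hz
    change (SymProd.permHom f d σ⁻¹).base ((SymProd.permHom f d σ).base z) ∈ W at h1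
    rwa [← Scheme.Hom.comp_apply, ← SymProd.permHom_mul, inv_mul_cancel, SymProd.permHom_one] at h1
  have hsat : q.base ⁻¹' (q.base '' ((W : Set ↥(SymProd.fibPow f d))ᶜ)) = (W : Set ↥(SymProd.fibPow f d))ᶜ :=
    preimage_image_eq hq.isQuot _ fun σ z hz hσz => hz (by
      have : z ∈ SymProd.permHom f d σ.down ⁻¹ᵁ W := hσz
      rwa [hinv] at this)
  let W' : Y.Opens := ⟨(q.base '' ((W : Set ↥(SymProd.fibPow f d))ᶜ))ᶜ,
    (q.isClosedMap _ W.isOpen.isClosed_compl).isOpen_compl⟩
  have hqW : q ⁻¹ᵁ W' = W := TopologicalSpace.Opens.ext (by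
    change q.base ⁻¹' ((q.base '' ((W : Set ↥(SymProd.fibPow f d))ᶜ))ᶜ) = _
    rw [Set.preimage_compl, hsat, compl_compl])
  refine ⟨V, hV𝒮, U, hU, hUV, W, ?_, hW, hinv, W', ?_, ?_, hqW⟩
  · ext z
    rw [Set.mem_iInter]
    exact ⟨fun hz i => ((mem_chartOpen f _ V col).1 hz).2 i, fun hz => (mem_chartOpen f _ V col).2 ⟨by
      rw [← WidePullback.π_arrow (fun _ : Fin d => f) ⟨0, hd⟩, Scheme.Hom.comp_apply]
      exact hUV (hz ⟨0, hd⟩), hz⟩⟩
  · change x ∈ q ⁻¹ᵁ W'
    rw [hqW]
    exact (mem_chartOpen f _ V col).2 ⟨hsV, fun i => hTU' _ (Finset.mem_image.2 ⟨i, Finset.mem_univ _, rfl⟩)⟩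
  · haveI : IsAffine (q ⁻¹ᵁ W').toScheme := by rw [hqW]; exact hW
    exact isAffine_of_isAffine (isQuot_restrict hq.isQuot W' (restrictAut hq.isQuot W')
      (restrictAut_ι hq.isQuot W'))

end Groth.Agent.S13605
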