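import Groth.Statements.S13607
import Mathlib
import Groth.Agent.H4TrClass.Basic
-- import your own Groth.Agent.* helpers here

set_option autoImplicit false
open CategoryTheory CategoryTheory.Limits Opposite
universe w v u
open ARSys

namespace Groth.Agent.S13607

/-- In an abelian category linear over a commutative ring A with an ideal J, let X be a J-adic
projective system indexed by the natural numbers and Y a projective system whose n-th term is killed
by J^(n+1) for every n. Then for every r, every morphism from the translate X[r] to Y factors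
uniquely through the canonical translation map X[r] ⟶ X: there is exactly one morphism g : X ⟶ Y
whose n-th component, precomposed with the transition map X_(n+r) ⟶ X_n, is the n-th component of
the given morphism. In particular morphisms X ⟶ Y up to translation are the same as morphisms X ⟶ Y.
(The published statement is for systems of finitely generated modules over a Noetherian ring, and
for systems of sheaves of modules on the small etale site; this row states it in any linear abelian
category, which is all the argument uses.) -/
theorem result {C : Type u} [Category.{v} C] [Abelian C] {A : Type w} [CommRing A] [Linear A C]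
    (J : Ideal A) (X Y : ARSys.PS C) (hX : ARSys.IsAdic J X) (hY : ARSys.TermKilled J Y) (r : ℕ)
    (f : (ARSys.shift C r).obj X ⟶ Y) :
    ∃! g : X ⟶ Y, ∀ n : ℕ, f.app (op n) = ARSys.shiftMap X r n ≫ g.app (op n) := by
  have hk : ∀ n : ℕ, ARSys.HomKilledBy (J ^ (n + 1)) (f.app (op n)) := fun n a ha => by
    rw [← Category.comp_id (f.app (op n)), ← Linear.comp_smul, hY n a ha, comp_zero]
  have hq : ∀ n : ℕ, ∃! ψ : X.obj (op n) ⟶ Y.obj (op n),
      ARSys.shiftMap X r n ≫ ψ = f.app (op n) :=
    fun n => (hX.2 n (n + r) (Nat.le_add_right n r)).2 _ _ (hk n)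
  choose g hg huniq using hq
  have cancel : ∀ (n : ℕ) (Z : C), ARSys.KilledBy (J ^ (n + 1)) Z → ∀ a b : X.obj (op n) ⟶ Z,
      ARSys.shiftMap X r n ≫ a = ARSys.shiftMap X r n ≫ b → a = b := fun n Z hZ a b h => by
    obtain ⟨ψ, -, hψ⟩ := (hX.2 n (n + r) (Nat.le_add_right n r)).2 Z (ARSys.shiftMap X r n ≫ a)
      (fun c hc => by
        have h0 : c • a = 0 := by rw [← Category.comp_id a, ← Linear.comp_smul, hZ c hc, comp_zero]
        exact (Linear.comp_smul _ _ _ _ _ _).symm.trans ((congrArg _ h0).trans comp_zero))
    exact (hψ a rfl).trans (hψ b h.symm).symm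
  refine ⟨{ app := fun n => g n.unop, naturality := fun m n φ => ?_ }, fun n => (hg n).symm,
    fun g' hg' => ?_⟩
  · obtain ⟨m⟩ := m
    obtain ⟨n⟩ := n
    have hnm : n ≤ m := leOfHom φ.unop
    refine cancel m _ ?_ _ _ ?_
    · exact fun a ha => hY n a (Ideal.pow_le_pow_right (by omega) ha)
    have h1 : ((ARSys.shift C r).obj X).map φ ≫ ARSys.shiftMap X r n =
        ARSys.shiftMap X r m ≫ X.map φ :=
      (H4TrClass.tau r X).naturality φ
    calc ARSys.shiftMap X r m ≫ X.map φ ≫ g n
        = ((ARSys.shift C r).obj X).map φ ≫ ARSys.shiftMap X r n ≫ g n :=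
          (Category.assoc _ _ _).symm.trans
            ((congrArg (· ≫ g n) h1.symm).trans (Category.assoc _ _ _))
      _ = f.app (op m) ≫ Y.map φ := by rw [hg n]; exact f.naturality φ
      _ = ARSys.shiftMap X r m ≫ g m ≫ Y.map φ := by rw [← Category.assoc, hg m]
  · ext ⟨n⟩
    exact huniq n _ (hg' n).symm

end Groth.Agent.S13607
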