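import Groth.Statements.S13608
import Mathlib
-- import your own Groth.Agent.* helpers here

set_option autoImplicit false
universe u v
open CAlg

namespace Groth.Agent.S13608

open Finset

theorem precomplete_of_limit (A : Type u) [CommRing A] (I : Ideal A) (hI : I.FG)
    (M : ℕ → Type v) [∀ n, AddCommGroup (M n)] [∀ n, Module A (M n)]
    (f : ∀ n, M (n + 1) →ₗ[A] M n)
    (hkill : ∀ n, I ^ (n + 1) • (⊤ : Submodule A (M n)) = ⊥)
    (L : Type v) [AddCommGroup L] [Module A L] (π : ∀ n, L →ₗ[A] M n)
    (hπ : ∀ n, f n ∘ₗ π (n + 1) = π n)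
    (hinj : ∀ x : L, (∀ n, π n x = 0) → x = 0)
    (hlift : ∀ y : (∀ n, M n), (∀ n, f n (y (n + 1)) = y n) → ∃ x : L, ∀ n, π n x = y n) :
    IsPrecomplete I L := by
  have hzero : ∀ k n, n + 1 ≤ k → ∀ z ∈ (I ^ k • ⊤ : Submodule A L), π n z = 0 := by
    intro k n hk z hz
    rw [← Submodule.mem_bot A, ← hkill n]
    have := Submodule.mem_map_of_mem (f := π n) hz
    rw [Submodule.map_smul''] at this
    exact Submodule.smul_mono (Ideal.pow_le_pow_right hk) le_top this
  -- limits of series with `j`-th term in `I ^ j L`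
  have lim : ∀ d : ℕ → L, (∀ j, d j ∈ (I ^ j • ⊤ : Submodule A L)) →
      ∃ S : L, ∀ n p, n + 1 ≤ p → π n S = π n (∑ j ∈ range p, d j) := by
    intro d hd
    have hst : ∀ n p, n + 1 ≤ p → π n (∑ j ∈ range p, d j) = π n (∑ j ∈ range (n + 1), d j) := by
      intro n p hp
      rw [← sum_range_add_sum_Ico _ hp, map_add, map_sum (π n) _ (Ico _ _),
        sum_eq_zero fun j hj => hzero j n (mem_Ico.mp hj).1 _ (hd j), add_zero]
    obtain ⟨S, hS⟩ := hlift (fun n => π n (∑ j ∈ range (n + 1), d j)) fun n => by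
      rw [← LinearMap.comp_apply, hπ, hst n (n + 1 + 1) (by omega)]
    exact ⟨S, fun n p hp => (hS n).trans (hst n p hp).symm⟩
  refine ⟨fun g hg => ?_⟩
  have step : ∀ k, g (k + 1) - g k ∈ (I ^ k • ⊤ : Submodule A L) := fun k =>
    SModEq.sub_mem.mp (hg (Nat.le_succ k)).symm
  obtain ⟨S, hS⟩ := lim (fun j => g (j + 1) - g j) step
  refine ⟨g 0 + S, fun n => ?_⟩
  obtain ⟨t, ht⟩ : (I ^ n).FG := Submodule.FG.pow hI n
  have dec : ∀ j, ∃ y : A → L, (∀ a, y a ∈ (I ^ j • ⊤ : Submodule A L)) ∧
      g (n + j + 1) - g (n + j) = ∑ a ∈ t, a • y a := by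
    intro j
    have h := step (n + j)
    rw [pow_add, ← smul_eq_mul, Submodule.smul_assoc, ← ht] at h
    refine Submodule.smul_induction_on h (fun r hr m hm => ?_) ?_
    · obtain ⟨c, -, hc⟩ := Submodule.mem_span_finset.mp hr
      refine ⟨fun a => c a • m, fun a => Submodule.smul_mem _ _ hm, ?_⟩
      conv_lhs => rw [← hc]
      rw [Finset.sum_smul]
      exact Finset.sum_congr rfl fun a _ => by rw [smul_eq_mul, mul_comm, mul_smul]
    · rintro x y ⟨u, hu, rfl⟩ ⟨v, hv, rfl⟩
      exact ⟨u + v, fun a => Submodule.add_mem _ (hu a) (hv a), by simp [Finset.sum_add_distrib]⟩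
  choose y hy hys using dec
  choose Y hY using fun a => lim (fun j => y j a) (fun j => hy j a)
  have key : g 0 + S - g n = ∑ a ∈ t, a • Y a := by
    refine sub_eq_zero.mp (hinj _ fun m => ?_)
    have e1 : π m S = π m (g (n + (m + 1))) - π m (g 0) := by
      rw [hS m (n + (m + 1)) (by omega), sum_range_sub (fun j => g j), map_sub]
    have e2 : ∀ q, g (n + q) - g n = ∑ a ∈ t, a • ∑ j ∈ range q, y j a := by
      intro q
      induction q with
      | zero => simp
      | succ q ih =>
        simp only [sum_range_succ, smul_add, sum_add_distrib]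
        rw [← hys, ← ih, ← add_assoc]
        abel
    have e3 : π m (∑ a ∈ t, a • Y a) = π m (g (n + (m + 1))) - π m (g n) := by
      rw [← map_sub, e2, map_sum, map_sum]
      exact sum_congr rfl fun a _ => by rw [map_smul, map_smul, hY a m (m + 1) le_rfl]
    rw [map_sub, map_sub, map_add, e1, e3]
    abel
  refine (SModEq.sub_mem.mpr ?_).symm
  rw [key]
  exact Submodule.sum_mem _ fun a ha => Submodule.smul_mem_smul (ht ▸ Submodule.subset_span ha)
    Submodule.mem_top


/-- Let A be a commutative ring, I a finitely generated ideal of A and (M_n) an inverse system of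
A-modules with transition maps f_n : M_(n+1) → M_n such that I^(n+1) M_n = 0 for every n. If L is an
inverse limit of the system (projections π_n compatible with the f_n, jointly injective, and such
that every compatible family of elements lifts to L), then L is complete and separated for the
I-adic topology. No surjectivity of the transition maps is assumed. -/
theorem result
    (A : Type u) [CommRing A] (I : Ideal A) (hI : I.FG)
    (M : ℕ → Type v) [∀ n, AddCommGroup (M n)] [∀ n, Module A (M n)]
    (f : ∀ n, M (n + 1) →ₗ[A] M n)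
    (hkill : ∀ n, I ^ (n + 1) • (⊤ : Submodule A (M n)) = ⊥)
    (L : Type v) [AddCommGroup L] [Module A L] (π : ∀ n, L →ₗ[A] M n)
    (hπ : ∀ n, f n ∘ₗ π (n + 1) = π n)
    (hinj : ∀ x : L, (∀ n, π n x = 0) → x = 0)
    (hlift : ∀ y : (∀ n, M n), (∀ n, f n (y (n + 1)) = y n) → ∃ x : L, ∀ n, π n x = y n) :
    IsAdicComplete I L := by
  haveI := precomplete_of_limit A I hI M f hkill L π hπ hinj hlift
  haveI : IsHausdorff I L := ⟨fun x hx => hinj x fun n => by
    have h := SModEq.sub_mem.mp (hx (n + 1))
    rw [sub_zero] at h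
    have := Submodule.mem_map_of_mem (f := π n) h
    rw [Submodule.map_smul''] at this
    rw [← Submodule.mem_bot A, ← hkill n]
    exact Submodule.smul_mono le_rfl le_top this⟩
  exact {}

end Groth.Agent.S13608
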