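import Groth.Statements.S13609
import Mathlib

set_option autoImplicit false
universe u v
open CAlg

namespace Groth.Agent.S13609

/-- A direct summand of a module that is complete and separated for the I-adic topology is again
complete and separated: for a commutative ring A, an ideal I and A-modules M₁, M₂, if M₁ × M₂ is
I-adically complete then so is M₁. -/
theorem result (A : Type u) [CommRing A] (I : Ideal A)
    (M₁ M₂ : Type v) [AddCommGroup M₁] [Module A M₁] [AddCommGroup M₂] [Module A M₂]
    [IsAdicComplete I (M₁ × M₂)] : IsAdicComplete I M₁ := by
  have key : ∀ (n : ℕ) (x : M₁), x ∈ (I ^ n • ⊤ : Submodule A M₁) ↔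
      (x, (0 : M₂)) ∈ (I ^ n • ⊤ : Submodule A (M₁ × M₂)) := by
    intro n x
    constructor
    · intro h
      have := Submodule.mem_map_of_mem (f := LinearMap.inl A M₁ M₂) h
      rw [Submodule.map_smul''] at this
      exact Submodule.smul_mono le_rfl le_top this
    · intro h
      have := Submodule.mem_map_of_mem (f := LinearMap.fst A M₁ M₂) h
      rw [Submodule.map_smul''] at this
      exact Submodule.smul_mono le_rfl le_top this
  refine { haus' := fun x hx => ?_, prec' := fun f hf => ?_ }
  · have := IsHausdorff.haus (I := I) (M := M₁ × M₂) inferInstance (x, 0) fun n => by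
      rw [SModEq.zero, ← key, ← SModEq.zero]; exact hx n
    exact congrArg Prod.fst this
  · obtain ⟨L, hL⟩ := IsPrecomplete.prec (I := I) (M := M₁ × M₂) inferInstance
      (f := fun n => (f n, 0)) (fun {m n} h => by
        have := hf h
        rw [SModEq.sub_mem] at this ⊢
        simpa using (key m _).1 this)
    refine ⟨L.1, fun n => ?_⟩
    have := hL n
    rw [SModEq.sub_mem] at this ⊢
    have h2 := Submodule.mem_map_of_mem (f := LinearMap.fst A M₁ M₂) this
    rw [Submodule.map_smul''] at h2
    exact Submodule.smul_mono le_rfl le_top h2

end Groth.Agent.S13609
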