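import Mathlib
import Groth.Statements.S13621
-- import your own Groth.Agent.* helpers here

set_option autoImplicit false
open CategoryTheory CategoryTheory.Limits Opposite
universe v u
open ARSys

namespace Groth.Agent.S13621

open CategoryTheory

/-- The inverse limit is a well-defined functor on projective systems up to translation. Concretely: in
an abelian category with limits of shape ℕᵒᵖ, a morphism u : X ⟶ Y of projective systems indexed by
the natural numbers whose kernel and cokernel are null up to translation induces an isomorphism lim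
X ⟶ lim Y. (The published statement is the functoriality of lim on the category of systems up to
translation; combined with the description of isomorphisms there as the morphisms with null kernel
and cokernel, this is the form stated.) -/
theorem result {C : Type u} [Category.{v} C] [Abelian C] [HasLimitsOfShape ℕᵒᵖ C]
    {X Y : ARSys.PS C} (u : X ⟶ Y) (hu : ARSys.IsARIso u) : IsIso (limMap u) := by
  obtain ⟨⟨r, hr0⟩, s, hs0⟩ := hu
  have hr : ∀ n : ℕ, (kernel u).map (homOfLE (Nat.le_add_right n r)).op = 0 := hr0
  have hs : ∀ n : ℕ, (cokernel u).map (homOfLE (Nat.le_add_right n s)).op = 0 := hs0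
  have hK : ∀ (n : ℕ) {T : C} (x : T ⟶ X.obj (Opposite.op (n + r))), x ≫ u.app _ = 0 → x ≫ X.map (homOfLE (Nat.le_add_right n r)).op = 0 := by
    intro n T x hx
    let S := (ShortComplex.mk (kernel.ι u) u (kernel.condition u)).map ((evaluation ℕᵒᵖ C).obj (Opposite.op (n + r)))
    have hS : S.Exact := (ShortComplex.exact_of_f_is_kernel _ (kernelIsKernel u)).map _
    obtain ⟨A', π, hπ, x', hx'⟩ := hS.exact_up_to_refinements x hx
    change π ≫ x = x' ≫ (kernel.ι u).app _ at hx'
    rw [← cancel_epi π, comp_zero, ← Category.assoc, hx', Category.assoc]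
    have h3 : (kernel.ι u).app (Opposite.op (n + r)) ≫ X.map (homOfLE (Nat.le_add_right n r)).op = 0 := by
      rw [← NatTrans.naturality, hr n, zero_comp]
    exact (congrArg (fun z => x' ≫ z) h3).trans comp_zero
  have hC : ∀ (n : ℕ) {T : C} (y : T ⟶ Y.obj (Opposite.op (n + s))),
      ∃ (A' : C) (π : A' ⟶ T) (_ : Epi π) (x : A' ⟶ X.obj (Opposite.op n)), π ≫ y ≫ Y.map (homOfLE (Nat.le_add_right n s)).op = x ≫ u.app _ := by
    intro n T y
    let S := (ShortComplex.mk u (cokernel.π u) (cokernel.condition u)).map ((evaluation ℕᵒᵖ C).obj (Opposite.op n))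
    have hS : S.Exact := (ShortComplex.exact_of_g_is_cokernel _ (cokernelIsCokernel u)).map _
    refine hS.exact_up_to_refinements (y ≫ Y.map (homOfLE (Nat.le_add_right n s)).op) ?_
    change (y ≫ Y.map _) ≫ (cokernel.π u).app _ = 0
    rw [Category.assoc, NatTrans.naturality, hs n, comp_zero]
    exact comp_zero
  have hmono : Mono (limMap u) := by
    refine Preadditive.mono_of_cancel_zero _ fun {T} x hx => limit.hom_ext fun n => ?_
    have h1 : (x ≫ limit.π X (Opposite.op (n.unop + r))) ≫ u.app _ = 0 := by
      rw [Category.assoc, ← limMap_π, ← Category.assoc, hx, zero_comp]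
    have := hK _ _ h1
    rw [Category.assoc, limit.w] at this
    rw [zero_comp]
    exact this
  have hw : ∀ n : ℕ, ∃ w : limit Y ⟶ X.obj (Opposite.op n), ∀ (A : C) (q : A ⟶ limit Y) (x : A ⟶ X.obj (Opposite.op (n + r))),
      q ≫ limit.π Y _ = x ≫ u.app _ → x ≫ X.map (homOfLE (Nat.le_add_right n r)).op = q ≫ w := by
    intro n
    obtain ⟨A', p, hp, x', hx'⟩ := hC (n + r) (limit.π Y _)
    rw [limit.w] at hx'
    have hk : kernel.ι p ≫ x' ≫ X.map (homOfLE (Nat.le_add_right n r)).op = 0 := by
      rw [← Category.assoc]
      exact hK n _ (by rw [Category.assoc, ← hx', ← Category.assoc, kernel.condition, zero_comp])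
    refine ⟨Abelian.epiDesc p (x' ≫ X.map (homOfLE (Nat.le_add_right n r)).op) hk, fun A q x hx => ?_⟩
    rw [← cancel_epi (pullback.snd p q)]
    have h2 := hK n (pullback.fst p q ≫ x' - pullback.snd p q ≫ x) (by
      rw [Preadditive.sub_comp, Category.assoc, Category.assoc, ← hx', ← hx, ← Category.assoc, ← Category.assoc,
        pullback.condition, sub_self])
    rw [Preadditive.sub_comp, sub_eq_zero, Category.assoc, Category.assoc] at h2
    rw [← h2, ← Category.assoc (pullback.snd p q) q, ← pullback.condition, Category.assoc, Abelian.comp_epiDesc]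
  choose w hw using hw
  have hex : ∀ n : ℕ, ∃ (A : C) (p : A ⟶ limit Y) (_ : Epi p) (x : A ⟶ X.obj (Opposite.op (n + r))),
      p ≫ limit.π Y _ = x ≫ u.app _ := fun n => by
    obtain ⟨A', p, hp, x', hx'⟩ := hC (n + r) (limit.π Y _)
    rw [limit.w] at hx'
    exact ⟨A', p, hp, x', hx'⟩
  let c : Cone X :=
    { pt := limit Y
      π :=
        { app := fun n => w n.unop
          naturality := by
            intro a b φ
            obtain ⟨A, p, hp, x, hx⟩ := hex a.unop
            change 𝟙 _ ≫ w b.unop = w a.unop ≫ X.map φ
            rw [Category.id_comp, ← cancel_epi p, ← Category.assoc, ← hw a.unop A p x hx]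
            have hle : b.unop + r ≤ a.unop + r := Nat.add_le_add_right (leOfHom φ.unop) r
            have hx2 : p ≫ limit.π Y (Opposite.op (b.unop + r)) = (x ≫ X.map (homOfLE hle).op) ≫ u.app _ := by
              rw [Category.assoc, u.naturality, ← Category.assoc, ← hx, Category.assoc, limit.w]
            rw [← hw b.unop A p _ hx2, Category.assoc, Category.assoc]
            congr 1
            change X.map _ ≫ X.map _ = X.map _ ≫ X.map _
            rw [← X.map_comp, ← X.map_comp]
            congr 1 } }
  haveI : IsSplitEpi (limMap u) := ⟨⟨⟨limit.lift X c, limit.hom_ext fun n => by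
    obtain ⟨A, p, hp, x, hx⟩ := hex n.unop
    rw [Category.assoc, limMap_π, ← Category.assoc, limit.lift_π, Category.id_comp]
    change w n.unop ≫ _ = _
    rw [← cancel_epi p, ← Category.assoc, ← hw n.unop A p x hx, Category.assoc, NatTrans.naturality,
      ← Category.assoc, ← hx, Category.assoc, limit.w]⟩⟩⟩
  exact isIso_of_mono_of_isSplitEpi _

end Groth.Agent.S13621
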