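import Groth.Statements.S13622
import Mathlib
-- import your own Groth.Agent.* helpers here

set_option autoImplicit false
universe u v
open CAlg

namespace Groth.Agent.S13622

/-- Let A be a commutative ring, I a finitely generated ideal and (M_n) an inverse system of finitely
generated A-modules whose transition maps f_n : M_(n+1) → M_n are surjective with kernel I^(n+1)
M_(n+1), and with I^(n+1) M_n = 0 for all n. If L is an inverse limit of the system (projections π_n
compatible with the f_n, jointly injective, every compatible family lifting to L), endowed with a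
module structure over the I-adic completion A^ of A that is compatible with its A-module structure,
then L is finitely generated as an A^-module. No completeness of A is assumed. -/
theorem result
    (A : Type u) [CommRing A] (I : Ideal A) (hI : I.FG)
    (M : ℕ → Type v) [∀ n, AddCommGroup (M n)] [∀ n, Module A (M n)] [∀ n, Module.Finite A (M n)]
    (f : ∀ n, M (n + 1) →ₗ[A] M n) (hf : ∀ n, Function.Surjective (f n))
    (hker : ∀ n, LinearMap.ker (f n) = I ^ (n + 1) • (⊤ : Submodule A (M (n + 1))))
    (hkill : ∀ n, I ^ (n + 1) • (⊤ : Submodule A (M n)) = ⊥)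
    (L : Type v) [AddCommGroup L] [Module A L] (π : ∀ n, L →ₗ[A] M n)
    (hπ : ∀ n, f n ∘ₗ π (n + 1) = π n)
    (hinj : ∀ x : L, (∀ n, π n x = 0) → x = 0)
    (hlift : ∀ y : (∀ n, M n), (∀ n, f n (y (n + 1)) = y n) → ∃ x : L, ∀ n, π n x = y n)
    [Module (AdicCompletion I A) L] [IsScalarTower A (AdicCompletion I A) L] :
    Module.Finite (AdicCompletion I A) L := by
  classical
  have hsurj : ∀ m : M 0, ∃ x : L, π 0 x = m := by
    intro m
    let y : ∀ n, M n := fun n => Nat.rec m (fun i yi => (hf i yi).choose) n
    obtain ⟨x, hx⟩ := hlift y (fun n => (hf n (y n)).choose_spec)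
    exact ⟨x, hx 0⟩
  obtain ⟨r, g, hg⟩ := Module.Finite.exists_fin (R := A) (M := M 0)
  choose l hl using fun i => hsurj (g i)
  have hfπ : ∀ n x, f n (π (n + 1) x) = π n x := fun n x => LinearMap.congr_fun (hπ n) x
  have hspan : ∀ n, Submodule.span A (Set.range fun i => π n (l i)) = ⊤ := by
    intro n
    induction n with
    | zero => simp_rw [hl]; exact hg
    | succ n ih =>
      set P := Submodule.span A (Set.range fun i => π (n + 1) (l i))
      have hmap : P.map (f n) = ⊤ := by
        rw [Submodule.map_span, ← Set.range_comp]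
        simp only [Function.comp_def, hfπ]
        exact ih
      have h1 : P ⊔ I ^ (n + 1) • (⊤ : Submodule A (M (n + 1))) = ⊤ := by
        rw [← hker, ← Submodule.comap_map_eq, hmap, Submodule.comap_top]
      have h2 : I ^ (n + 1) • (⊤ : Submodule A (M (n + 1))) ≤ P := by
        calc I ^ (n + 1) • (⊤ : Submodule A (M (n + 1)))
            = I ^ (n + 1) • (P ⊔ I ^ (n + 1) • (⊤ : Submodule A (M (n + 1)))) := by rw [h1]
          _ ≤ P := by
            rw [Submodule.smul_sup]
            refine sup_le Submodule.smul_le_right ?_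
            rw [← Submodule.smul_assoc, smul_eq_mul, ← pow_add]
            refine le_trans (le_of_eq_of_le ?_ le_rfl) (bot_le (a := P))
            rw [eq_bot_iff, ← hkill (n + 1)]
            exact Submodule.smul_mono_left (Ideal.pow_le_pow_right (by omega))
      rw [← h1, sup_eq_left.2 h2]
  refine ⟨⟨Finset.univ.image l, eq_top_iff.2 fun x _ => ?_⟩⟩
  have hstep : ∀ n (a : Fin r → A), π n x = ∑ i, a i • π n (l i) →
      ∃ b : Fin r → A, π (n + 1) x = ∑ i, b i • π (n + 1) (l i) ∧ ∀ i, b i - a i ∈ I ^ (n + 1) := by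
    intro n a ha
    have hmem : π (n + 1) x - ∑ i, a i • π (n + 1) (l i) ∈
        I ^ (n + 1) • Submodule.span A (Set.range fun i => π (n + 1) (l i)) := by
      rw [hspan, ← hker, LinearMap.mem_ker, map_sub, map_sum, hfπ, ha, sub_eq_zero]
      simp only [map_smul, hfπ]
    obtain ⟨c, hc, hcs⟩ := (Submodule.mem_ideal_smul_span_iff_exists_sum _ _ _).1 hmem
    refine ⟨fun i => a i + c i, ?_, fun i => by simpa using hc i⟩
    rw [Finsupp.sum_fintype c (fun i a => a • π (n + 1) (l i)) (fun i => zero_smul _ _)] at hcs
    simp only [add_smul, Finset.sum_add_distrib, hcs]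
    abel
  have h0 : ∃ a : Fin r → A, π 0 x = ∑ i, a i • π 0 (l i) := by
    obtain ⟨a, ha⟩ := (Submodule.mem_span_range_iff_exists_fun A).1 ((hspan 0).symm ▸ Submodule.mem_top (x := π 0 x))
    exact ⟨a, ha.symm⟩
  choose next hnext using hstep
  let a : ∀ n, {a : Fin r → A // π n x = ∑ i, a i • π n (l i)} := fun n => Nat.rec
    (motive := fun n => {a : Fin r → A // π n x = ∑ i, a i • π n (l i)}) ⟨h0.choose, h0.choose_spec⟩
    (fun m am => ⟨next m am.1 am.2, (hnext m am.1 am.2).1⟩) n
  have ha : ∀ n i, (a (n + 1)).1 i - (a n).1 i ∈ I ^ (n + 1) := fun n i => (hnext n (a n).1 (a n).2).2 i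
  let s : Fin r → AdicCompletion I A := fun i => AdicCompletion.mk I A
    (AdicCompletion.AdicCauchySequence.mk I A (fun n => (a n).1 i) fun n => by
      rw [SModEq.sub_mem, smul_eq_mul, Ideal.mul_top, ← Ideal.neg_mem_iff, neg_sub]
      exact Ideal.pow_le_pow_right (Nat.le_succ n) (ha n i))
  have hkillL : ∀ n, ∀ z ∈ I ^ (n + 1) • (⊤ : Submodule A (AdicCompletion I A)), ∀ w : L, π n (z • w) = 0 := by
    intro n z hz w
    refine Submodule.smul_induction_on hz (fun c hc z _ => ?_) (fun z₁ z₂ h₁ h₂ => ?_)
    · rw [smul_assoc, map_smul]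
      exact (Submodule.mem_bot A).1 (hkill n ▸ Submodule.smul_mem_smul hc Submodule.mem_top)
    · rw [add_smul, map_add, h₁, h₂, add_zero]
  have hx : x = ∑ i, s i • l i := by
    rw [← sub_eq_zero]
    refine hinj _ fun n => ?_
    rw [map_sub, map_sum, sub_eq_zero, (a n).2]
    refine Finset.sum_congr rfl fun i _ => ?_
    have hmem : s i - algebraMap A (AdicCompletion I A) ((a n).1 i) ∈ I ^ (n + 1) • (⊤ : Submodule A (AdicCompletion I A)) := by
      rw [AdicCompletion.pow_smul_top_eq_ker_eval hI, LinearMap.mem_ker, map_sub, sub_eq_zero]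
      change Submodule.Quotient.mk ((a (n + 1)).1 i) = Submodule.Quotient.mk ((a n).1 i)
      rw [Submodule.Quotient.eq, smul_eq_mul, Ideal.mul_top]
      exact ha n i
    have := hkillL n _ hmem (l i)
    rw [sub_smul, map_sub, sub_eq_zero, algebraMap_smul] at this
    rw [this, map_smul]
  rw [hx]
  exact Submodule.sum_mem _ fun i _ => Submodule.smul_mem _ _ (Submodule.subset_span (by simp))

end Groth.Agent.S13622
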