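import Groth.Statements.S13623
import Mathlib.RingTheory.Support
import Mathlib.FieldTheory.IsAlgClosed.AlgebraicClosure
import Mathlib.RingTheory.Flat.FaithfullyFlat.Basic
import Mathlib.RingTheory.LocalRing.Module
-- import your own Groth.Agent.* helpers here

set_option autoImplicit false
universe u
open TensorProduct
open CAlg

namespace Groth.Agent.S13623

/-- Let A be a commutative ring and B a commutative A-algebra, graded by A-submodules B_m (m ≥ 0)
forming a graded-algebra structure, such that every B_m is a finitely generated A-module. If for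
every algebraically closed field k and every A-algebra structure on k the k-algebra k ⊗_A B is
generated by the image of B_1 under b ↦ 1 ⊗ b, then its degree-one part B_1 generates the A-algebra
B. (Algebraically closed fields are taken in the universe of A.) -/
theorem result
    (A : Type u) [CommRing A] (B : Type u) [CommRing B] [Algebra A B]
    (𝒜 : ℕ → Submodule A B) [GradedAlgebra 𝒜]
    (hfin : ∀ m : ℕ, Module.Finite A (𝒜 m))
    (hgen : ∀ (k : Type u) [Field k] [IsAlgClosed k] [Algebra A k],
      Algebra.adjoin k ((Algebra.TensorProduct.includeRight : B →ₐ[A] k ⊗[A] B) '' (𝒜 1 : Set B)) = ⊤) :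
    Algebra.adjoin A (𝒜 1 : Set B) = ⊤ := by
  classical
  set C := Algebra.adjoin A (𝒜 1 : Set B) with hC
  have hhom : ∀ c ∈ C, ∀ m, GradedRing.proj 𝒜 m c ∈ C := by
    intro c hc m
    have hmon : ∀ y ∈ Submonoid.closure (𝒜 1 : Set B), ∃ i, y ∈ 𝒜 i ∧ y ∈ C := by
      intro y hy
      induction hy using Submonoid.closure_induction with
      | mem x hx => exact ⟨1, hx, Algebra.subset_adjoin hx⟩
      | one => exact ⟨0, SetLike.one_mem_graded 𝒜, one_mem _⟩
      | mul x y _ _ hx hy =>
        obtain ⟨i, hi, hi'⟩ := hx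
        obtain ⟨j, hj, hj'⟩ := hy
        exact ⟨i + j, SetLike.mul_mem_graded hi hj, mul_mem hi' hj'⟩
    have hc' : c ∈ Submodule.span A (Submonoid.closure (𝒜 1 : Set B) : Set B) := by
      rw [← Algebra.adjoin_eq_span]; exact hc
    clear hc
    induction hc' using Submodule.span_induction with
    | mem y hy =>
      obtain ⟨i, hi, hi'⟩ := hmon y hy
      rw [GradedRing.proj_apply, DirectSum.decompose_of_mem 𝒜 hi]
      by_cases him : i = m
      · subst him; simpa using hi'
      · simp [DirectSum.of_eq_of_ne _ _ _ (Ne.symm him), DirectSum.of_eq_of_ne _ _ _ him]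
    | zero => simp
    | add x y _ _ hx hy => rw [map_add]; exact add_mem hx hy
    | smul r x _ hx =>
      rw [GradedRing.proj_apply, DirectSum.decompose_smul]
      exact C.smul_mem (by simpa [GradedRing.proj_apply] using hx) r
  have hm : ∀ m, 𝒜 m ≤ Subalgebra.toSubmodule C := by
    intro m
    haveI := hfin m
    let D : Submodule A (𝒜 m) := (Subalgebra.toSubmodule C).comap (𝒜 m).subtype
    let p : B →ₗ[A] (𝒜 m ⧸ D) := D.mkQ ∘ₗ (DFinsupp.lapply m) ∘ₗ
      (DirectSum.decomposeLinearEquiv 𝒜).toLinearMap
    have hp0 : ∀ c ∈ C, p c = 0 := fun c hc =>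
      (Submodule.Quotient.mk_eq_zero D).2 (show _ ∈ C from hhom c hc m)
    have hps : Function.Surjective p := fun q => by
      obtain ⟨x, rfl⟩ := D.mkQ_surjective q
      refine ⟨x, ?_⟩
      show D.mkQ (DirectSum.decompose 𝒜 (x : B) m) = D.mkQ x
      rw [DirectSum.decompose_coe, DirectSum.of_eq_same]
    have hsub : Subsingleton (𝒜 m ⧸ D) := by
      by_contra hne
      haveI := not_subsingleton_iff_nontrivial.1 hne
      obtain ⟨q, hq⟩ := Module.nonempty_support_of_nontrivial (R := A) (M := 𝒜 m ⧸ D)
      rw [Module.mem_support_iff_nontrivial_residueField_tensorProduct] at hq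
      let K := q.asIdeal.ResidueField
      let k := AlgebraicClosure K
      haveI : Nontrivial (k ⊗[K] (K ⊗[A] (𝒜 m ⧸ D))) :=
        Module.FaithfullyFlat.lTensor_nontrivial K k _
      haveI h2 : Nontrivial (k ⊗[A] (𝒜 m ⧸ D)) :=
        (TensorProduct.AlgebraTensorModule.cancelBaseChange A K K k (𝒜 m ⧸ D)).symm.nontrivial
      have hzero : ∀ z ∈ Algebra.adjoin k
          ((Algebra.TensorProduct.includeRight : B →ₐ[A] k ⊗[A] B) '' (𝒜 1 : Set B)),
          p.lTensor k z = 0 := by
        intro z hz
        have hrange : z ∈ (Algebra.TensorProduct.map (AlgHom.id k k) C.val).range := by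
          refine Algebra.adjoin_le ?_ hz
          rintro _ ⟨b, hb, rfl⟩
          exact ⟨1 ⊗ₜ ⟨b, Algebra.subset_adjoin hb⟩, by simp⟩
        obtain ⟨w, rfl⟩ := hrange
        clear hz
        induction w using TensorProduct.induction_on with
        | zero => simp
        | tmul a c => simp [hp0 c c.2]
        | add x y hx hy => rw [map_add, map_add, hx, hy, add_zero]
      obtain ⟨z, hz⟩ := exists_ne (0 : k ⊗[A] (𝒜 m ⧸ D))
      obtain ⟨w, rfl⟩ := LinearMap.lTensor_surjective k hps z
      exact hz (hzero w (by rw [hgen k]; trivial))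
    intro x hx
    exact (Submodule.Quotient.mk_eq_zero D (x := ⟨x, hx⟩)).1 (Subsingleton.elim _ _)
  refine eq_top_iff.2 fun b _ => ?_
  rw [← DirectSum.sum_support_decompose 𝒜 b]
  exact sum_mem fun i _ => hm i (DirectSum.decompose 𝒜 b i).2

end Groth.Agent.S13623
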