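import Groth.Statements.S13628
import Groth.Agent.GeomIrr.Basic
-- import your own Groth.Agent.* helpers here

set_option autoImplicit false
universe u
open CategoryTheory CategoryTheory.Limits AlgebraicGeometry Opposite
open FBase

namespace Groth.Agent.S13628

/-- Let P be a property of schemes over fields, invariant under isomorphisms of schemes over the base
field and invariant in both directions under every field extension k → K (Z over k has P if and only
if Z ×_k Spec K over K has P). Let f : X → T be a morphism of schemes, h : T' → T a surjective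
morphism of schemes and f' : X' → T' a base change of f along h. If for every algebraically closed
field k and every Spec k → T' the fibre X' ×_{T'} Spec k has P, then for every algebraically closed
field k and every Spec k → T the fibre X ×_T Spec k has P. (Fields are taken in the universe of the
schemes. The published statement is that families of del Pezzo surfaces form a stack for the étale
topology; this row is the step of its proof that descends the condition on geometric fibres along a
surjective base change, stated for any fibre property with the invariance above.) -/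
theorem result
    (P : ∀ (k : Type u) [Field k] (Z : Scheme.{u}), (Z ⟶ Spec (CommRingCat.of k)) → Prop)
    (hiso : ∀ (k : Type u) [Field k] (Z Z' : Scheme.{u}) (e : Z ≅ Z') (g : Z' ⟶ Spec (CommRingCat.of k)),
      P k Z' g → P k Z (e.hom ≫ g))
    (hext : ∀ (k K : Type u) [Field k] [Field K] (i : k →+* K) (Z : Scheme.{u}) (g : Z ⟶ Spec (CommRingCat.of k)),
      P k Z g ↔ P K (pullback g (Spec.map (CommRingCat.ofHom i))) (pullback.snd g (Spec.map (CommRingCat.ofHom i))))
    {X T X' T' : Scheme.{u}} (f : X ⟶ T) (h : T' ⟶ T) [Surjective h] (f' : X' ⟶ T') (h' : X' ⟶ X)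
    (sq : IsPullback h' f' f h)
    (H : ∀ (k : Type u) [Field k] [IsAlgClosed k] (σ' : Spec (CommRingCat.of k) ⟶ T'),
        P k (pullback f' σ') (pullback.snd f' σ'))
    (k : Type u) [Field k] [IsAlgClosed k] (σ : Spec (CommRingCat.of k) ⟶ T) :
    P k (pullback f σ) (pullback.snd f σ) := by
  obtain ⟨⟨t, j⟩, rfl⟩ := (Scheme.SpecToEquivOfField k T).symm.surjective σ
  obtain ⟨t', rfl⟩ := h.surjective t
  let κ := T.residueField (h t')
  let i := h.residueFieldMap t'
  let : Algebra ↥κ k := j.hom.toAlgebra
  let : Algebra ↥κ ↥(T'.residueField t') := i.hom.toAlgebra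
  obtain ⟨M, _, _, _, ⟨a⟩, ⟨b⟩⟩ := GeomIrr.exists_common_algClosed (k := ↥κ) k ↥(T'.residueField t')
  let σ' := Spec.map (CommRingCat.ofHom b.toRingHom) ≫ T'.fromSpecResidueField t'
  have hcomp : Spec.map (CommRingCat.ofHom a.toRingHom) ≫ (Scheme.SpecToEquivOfField k T).symm ⟨h t', j⟩ = σ' ≫ h := by
    show Spec.map (CommRingCat.ofHom a.toRingHom) ≫ Spec.map j ≫ T.fromSpecResidueField (h t') = _
    simp only [σ', Category.assoc, ← Scheme.Hom.SpecMap_residueFieldMap_fromSpecResidueField, ← Spec.map_comp_assoc]
    congr 2
    ext x
    exact (a.commutes x).trans (b.commutes x).symm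
  have sq' := (IsPullback.of_hasPullback f' σ').paste_horiz sq
  have h2 := hiso M _ _ sq'.isoPullback.symm _ (H M σ')
  rw [Iso.symm_hom, IsPullback.isoPullback_inv_snd, ← hcomp] at h2
  refine (hext k M a.toRingHom _ _).2 ?_
  have h3 := hiso M _ _ (pullbackLeftPullbackSndIso f _ (Spec.map (CommRingCat.ofHom a.toRingHom))) _ h2
  rwa [pullbackLeftPullbackSndIso_hom_snd] at h3

end Groth.Agent.S13628
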