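import Mathlib
import Groth.Statements.S13631
-- import your own Groth.Agent.* helpers here

set_option autoImplicit false
universe u v w
open CAlg

namespace Groth.Agent.S13631

/-- Let k be a field, R an integral domain which is a k-algebra of infinite dimension over k, M a finite
free R-module, σ a ring automorphism of R mapping the image of k onto itself, and φ : M → M a
σ-semilinear map. If the cokernel of φ is finite-dimensional over k, in the sense that some finitely
generated k-subspace N of M satisfies M = N + φ(M), then φ is injective. -/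
theorem result
    {k : Type u} {R : Type v} {M : Type w} [Field k] [CommRing R] [IsDomain R] [Algebra k R]
    (hR : ¬ Module.Finite k R)
    [AddCommGroup M] [Module R M] [Module k M] [IsScalarTower k R M]
    [Module.Finite R M] [Module.Free R M]
    (σ : R ≃+* R)
    (hσ : ∀ x : k, ∃ y : k, σ (algebraMap k R x) = algebraMap k R y)
    (hσ' : ∀ y : k, ∃ x : k, σ (algebraMap k R x) = algebraMap k R y)
    (φ : M →ₛₗ[(σ : R →+* R)] M)
    (hcoker : ∃ N : Submodule k M, N.FG ∧ ∀ m : M, ∃ n ∈ N, ∃ m' : M, m = n + φ m') :
    Function.Injective φ := by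
  classical
  rw [injective_iff_map_eq_zero]
  intro v hv
  by_contra hv0
  let b := Module.Free.chooseBasis R M
  let Φ : Matrix (Module.Free.ChooseBasisIndex R M) (Module.Free.ChooseBasisIndex R M) R :=
    Matrix.of fun i j => b.repr (φ (b j)) i
  have hexp : ∀ x, φ x = ∑ j, σ (b.repr x j) • φ (b j) := fun x => by
    conv_lhs => rw [← b.sum_repr x, map_sum]
    exact Finset.sum_congr rfl fun j _ => by rw [LinearMap.map_smulₛₗ]; rfl
  have hc : Φ.mulVec (fun j => σ (b.repr v j)) = 0 := by
    funext i
    have := congrArg (fun x => b.repr x i) (hexp v)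
    simp [hv] at this
    simp only [Matrix.mulVec, dotProduct, Φ, Matrix.of_apply, Pi.zero_apply]
    rw [this]
    exact Finset.sum_congr rfl fun j _ => mul_comm _ _
  have hne : (fun j => σ (b.repr v j)) ≠ 0 := by
    intro h
    apply hv0
    apply b.ext_elem
    intro j
    have := congrFun h j
    simpa using this
  have hdet : Φ.det = 0 := Matrix.exists_mulVec_eq_zero_iff.1 ⟨_, hne, hc⟩
  obtain ⟨w, hw0, hw⟩ := Matrix.exists_vecMul_eq_zero_iff.2 hdet
  let ψ : M →ₗ[R] R := b.constr R w
  have hψb : ∀ j, ψ (b j) = w j := fun j => b.constr_basis R w j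
  have hψφ : ∀ x, ψ (φ x) = 0 := by
    intro x
    have h0 : ∀ j, ψ (φ (b j)) = 0 := fun j => by
      have := congrFun hw j
      simp only [Matrix.vecMul, dotProduct, Φ, Matrix.of_apply, Pi.zero_apply] at this
      conv_lhs => rw [← b.sum_repr (φ (b j))]
      rw [map_sum]
      simp only [map_smul, hψb, smul_eq_mul]
      rw [← this]
      exact Finset.sum_congr rfl fun i _ => mul_comm _ _
    rw [hexp x, map_sum]
    simp [h0]
  obtain ⟨N, hN, hcover⟩ := hcoker
  have : Module.Finite k N := Module.Finite.iff_fg.2 hN
  obtain ⟨j, hj⟩ := Function.ne_iff.1 hw0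
  apply hR
  let T : Submodule k R := LinearMap.range ((ψ.restrictScalars k).comp N.subtype)
  have hmem : ∀ r : R, r * w j ∈ T := by
    intro r
    obtain ⟨n, hn, m', e⟩ := hcover (r • b j)
    refine ⟨⟨n, hn⟩, ?_⟩
    have := congrArg ψ e
    rw [map_smul, hψb, map_add, hψφ, add_zero, smul_eq_mul] at this
    exact this.symm
  let μ : R →ₗ[k] T := ((LinearMap.mulRight k (w j)).codRestrict T hmem)
  exact Module.Finite.of_injective μ fun a c h => mul_right_cancel₀ hj (congrArg Subtype.val h)

end Groth.Agent.S13631
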