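import Groth.Statements.S13632
import Mathlib

set_option autoImplicit false
universe u
open TensorProduct
open CAlg
open TensorProduct

namespace Groth.Agent.S13632

open TensorProduct in
theorem inj_aux {R A B : Type u} [CommRing R] [CommRing A] [CommRing B]
    [Algebra R A] [Algebra R B] [Module.Flat R A] (f : B →ₐ[R] A) (hf : Function.Surjective f)
    (N : Type u) [AddCommGroup N] [Module R N] :
    Function.Injective (LinearMap.lTensor N (LinearMap.ker f.toLinearMap).subtype) :=
  by
  let L : (N →₀ R) →ₗ[R] N := Finsupp.linearCombination R (id : N → N)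
  let J : Submodule R (N →₀ R) := L.ker
  have eJ : Function.Exact J.subtype L := LinearMap.exact_subtype_ker_map L
  refine lTensor_injective_of_exact_of_exact_of_rTensor_injective
    (M₁ := J) (f₂ := L) (f₁ := J.subtype)
    (g₂ := f.toLinearMap) (g₁ := (LinearMap.ker f.toLinearMap).subtype)
    eJ (fun y => ⟨Finsupp.single y 1, by simp [L]⟩)
    (LinearMap.exact_subtype_ker_map _) hf ?_ ?_
  · apply Module.Flat.rTensor_preserves_injective_linearMap
    exact Submodule.subtype_injective _
  · apply Module.Flat.lTensor_preserves_injective_linearMap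
    exact Submodule.subtype_injective _

open TensorProduct in
theorem key {R R' A B : Type u} [CommRing R] [CommRing R'] [Algebra R R'] [CommRing A] [CommRing B]
    [Algebra R A] [Algebra R B] [Module.Flat R A] [Algebra.FiniteType R B]
    [Algebra.FinitePresentation R' (R' ⊗[R] A)]
    (f : B →ₐ[R] A) (hf : Function.Surjective f)
    (hfib : ∀ q : PrimeSpectrum R, Function.Injective (LinearMap.lTensor q.asIdeal.ResidueField f.toLinearMap))
    (x : B) (hx : f x = 0) : (1 : R') ⊗ₜ[R] x = 0 := by
  let f' := Algebra.TensorProduct.map (AlgHom.id R' R') f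
  have hf' : Function.Surjective f' := LinearMap.lTensor_surjective _ hf
  let K' : Ideal (R' ⊗[R] B) := RingHom.ker f'.toRingHom
  have hfg : K'.FG := by
    obtain ⟨n, g, hg⟩ := Algebra.FiniteType.iff_quotient_mvPolynomial''.mp
      (inferInstance : Algebra.FiniteType R' (R' ⊗[R] B))
    have := (Algebra.FinitePresentation.ker_fG_of_surjective (f'.comp g) (hf'.comp hg)).map g.toRingHom
    convert this using 1
    exact (Ideal.map_comap_of_surjective g.toRingHom hg (RingHom.ker f'.toRingHom)).symm
  have hK : K' = (RingHom.ker f).map (Algebra.TensorProduct.includeRight : B →ₐ[R] R' ⊗[R] B) :=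
    Algebra.TensorProduct.lTensor_ker f hf
  let K : Submodule R B := LinearMap.ker f.toLinearMap
  have hmem : ∀ k : K, (1 : R') ⊗ₜ[R] (k : B) ∈ K' := fun k => by
    rw [hK]; exact Ideal.mem_map_of_mem _ k.2
  by_contra hne
  obtain ⟨n, hn, hle⟩ := Ideal.exists_le_maximal (K'.annihilator) (by
    intro h
    rw [Submodule.annihilator_eq_top_iff] at h
    exact hne (by simpa [h] using hmem ⟨x, hx⟩))
  have hKn : K' ≤ n • K' := by
    conv_lhs => rw [hK]
    rw [Ideal.map_le_iff_le_comap]
    intro k hk
    let q : PrimeSpectrum R := ⟨n.comap (algebraMap R _), inferInstance⟩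
    letI := Ideal.Quotient.field n
    let φ : q.asIdeal.ResidueField →+* (R' ⊗[R] B) ⧸ n := Ideal.ResidueField.lift q.asIdeal
      ((Ideal.Quotient.mk n).comp (algebraMap R _))
      (fun r hr => Ideal.Quotient.eq_zero_iff_mem.mpr hr)
      (fun r hr => isUnit_iff_ne_zero.mpr (fun h => hr (show algebraMap R _ r ∈ n from Ideal.Quotient.eq_zero_iff_mem.mp h)))
    have hφ : ∀ r, φ (algebraMap R _ r) = Ideal.Quotient.mk n (algebraMap R _ r) := fun r => Ideal.ResidueField.lift_algebraMap _ _ _ _ r
    let ψ : K →ₗ[R] K' ⧸ (n • ⊤ : Submodule (R' ⊗[R] B) K') :=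
      { toFun := fun k => Submodule.Quotient.mk ⟨_, hmem k⟩
        map_add' := fun a b => by rw [← Submodule.Quotient.mk_add]; congr 1; ext; simp [tmul_add]
        map_smul' := fun r a => by rw [RingHom.id_apply, ← Submodule.Quotient.mk_smul]; congr 1; ext; simp }
    let β : q.asIdeal.ResidueField ⊗[R] K →+ K' ⧸ (n • ⊤ : Submodule (R' ⊗[R] B) K') :=
      TensorProduct.liftAddHom (AddMonoidHom.mk' (fun c => AddMonoidHom.mk' (fun k => φ c • ψ k)
          (fun a b => by simp [smul_add])) (fun a b => by ext; simp [add_smul]))
        (fun r c k => by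
          show φ (r • c) • ψ k = φ c • ψ (r • k)
          rw [Algebra.smul_def, map_mul, hφ, mul_smul, map_smul, smul_comm, ← algebraMap_smul (R' ⊗[R] B) r (ψ k)]
          rfl)
    have hexact : Function.Exact K.subtype f.toLinearMap := LinearMap.exact_subtype_ker_map _
    have h1 : (1 : q.asIdeal.ResidueField) ⊗ₜ[R] (⟨k, hk⟩ : K) = 0 := by
      apply inj_aux f hf q.asIdeal.ResidueField
      apply hfib q
      simp only [LinearMap.lTensor_tmul, map_zero]
      rw [show f.toLinearMap (K.subtype ⟨k, hk⟩) = 0 from hk, tmul_zero]
    have h2 := congrArg β h1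
    rw [map_zero] at h2
    have h3 : ψ ⟨k, hk⟩ = 0 := by
      rw [← h2]
      show ψ ⟨k, hk⟩ = φ 1 • ψ ⟨k, hk⟩
      rw [map_one, one_smul]
    exact (Submodule.mem_smul_top_iff n K' _).mp ((Submodule.Quotient.mk_eq_zero _).mp h3)
  obtain ⟨r, hr1, hr0⟩ := Submodule.exists_sub_one_mem_and_smul_eq_zero_of_fg_of_le_smul n K' hfg hKn
  have : r ∈ n := hle (Submodule.mem_annihilator.mpr hr0)
  exact hn.ne_top ((Ideal.eq_top_iff_one n).mpr (by simpa using n.sub_mem this hr1))

/-- Let S = Spec R, X = Spec A finite and flat over S, Y = Spec B of finite type over S, and φ : X → Y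
an S-morphism given by f : B → A. If for every point s of S the fibres X_s and Y_s have the same
order (the κ(s)-dimension of their rings of global sections κ(s) ⊗ A and κ(s) ⊗ B; equivalently at
every geometric point) and φ is an isomorphism over every closed point of S (κ(m) ⊗ f bijective for
every maximal ideal m), then φ is an isomorphism, i.e. f is bijective. (The published statement
allows an arbitrary base scheme S and Y separated of finite type over S; this row is the case of an
affine base with X and Y affine, the case its proof treats directly. Over a base with no closed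
points the general statement fails: the hypothesis at closed points is then empty.) -/
theorem result
    {R A B : Type u} [CommRing R] [CommRing A] [CommRing B] [Algebra R A] [Algebra R B]
    [Module.Finite R A] [Module.Flat R A] [Algebra.FiniteType R B]
    (f : B →ₐ[R] A)
    (hrank : ∀ p : PrimeSpectrum R,
      Module.rank p.asIdeal.ResidueField (p.asIdeal.ResidueField ⊗[R] B) =
        Module.rank p.asIdeal.ResidueField (p.asIdeal.ResidueField ⊗[R] A))
    (hmax : ∀ (m : Ideal R) [m.IsMaximal],
      Function.Bijective (LinearMap.lTensor m.ResidueField f.toLinearMap)) :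
    Function.Bijective f := by
  have hsurj : Function.Surjective f := by
    have : LinearMap.range f.toLinearMap = ⊤ := by
      by_contra hne
      have : Nontrivial (A ⧸ LinearMap.range f.toLinearMap) := Submodule.Quotient.nontrivial_iff.mpr hne
      obtain ⟨p, hp⟩ := (Module.nonempty_support_iff (R := R)).mpr this
      obtain ⟨m, hm, hpm⟩ := Ideal.exists_le_maximal p.asIdeal p.isPrime.ne_top
      have hm' : (⟨m, hm.isPrime⟩ : PrimeSpectrum R) ∈ Module.support R (A ⧸ LinearMap.range f.toLinearMap) :=
        Module.mem_support_mono hpm hp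
      rw [Module.mem_support_iff_nontrivial_residueField_tensorProduct] at hm'
      apply not_subsingleton_iff_nontrivial.mpr hm'
      refine subsingleton_of_forall_eq 0 fun y => ?_
      obtain ⟨z, rfl⟩ := LinearMap.lTensor_surjective m.ResidueField (Submodule.mkQ_surjective _) y
      obtain ⟨w, rfl⟩ := (hmax m).2 z
      rw [← LinearMap.comp_apply, ← LinearMap.lTensor_comp,
        show (LinearMap.range f.toLinearMap).mkQ ∘ₗ f.toLinearMap = 0 from LinearMap.range_le_ker_iff.mp (le_of_eq (Submodule.ker_mkQ _).symm)]
      simp
    exact fun a => LinearMap.range_eq_top.mp this a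
  refine ⟨?_, hsurj⟩
  have hfib : ∀ q : PrimeSpectrum R, Function.Injective (LinearMap.lTensor q.asIdeal.ResidueField f.toLinearMap) := by
    intro q
    let g := f.toLinearMap.baseChange q.asIdeal.ResidueField
    have hgs : Function.Surjective g := LinearMap.lTensor_surjective _ hsurj
    haveI : Module.Finite q.asIdeal.ResidueField (q.asIdeal.ResidueField ⊗[R] B) := by
      rw [← Module.rank_lt_aleph0_iff, hrank q]
      exact Module.rank_lt_aleph0 _ _
    have := (LinearMap.injective_iff_surjective_of_finrank_eq_finrank
      (f := g) (by simp [Module.finrank, hrank q])).mpr hgs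
    exact this
  rw [injective_iff_map_eq_zero]
  intro x hx
  by_contra hx0
  obtain ⟨p, hp, hxp⟩ := Ideal.exists_le_maximal (LinearMap.ker (LinearMap.toSpanSingleton R B x)) (by
    intro h
    exact hx0 (by simpa using (show (1 : R) ∈ LinearMap.ker (LinearMap.toSpanSingleton R B x) by rw [h]; trivial)))
  haveI : p.IsPrime := hp.isPrime
  haveI : Module.Free (Localization.AtPrime p) (Localization.AtPrime p ⊗[R] A) :=
    Module.free_of_flat_of_isLocalRing
  haveI : Module.FinitePresentation (Localization.AtPrime p) (Localization.AtPrime p ⊗[R] A) :=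
    Module.finitePresentation_of_projective _ _
  haveI : Algebra.FinitePresentation (Localization.AtPrime p) (Localization.AtPrime p ⊗[R] A) :=
    Algebra.FinitePresentation.of_finitePresentation _ _
  have h0 : (1 : Localization.AtPrime p) ⊗ₜ[R] x = 0 := key f hsurj hfib x hx
  obtain ⟨⟨s, hs⟩, hsx⟩ := (IsLocalizedModule.eq_zero_iff p.primeCompl
    (TensorProduct.mk R (Localization.AtPrime p) B 1)).mp h0
  exact hs (hxp (by simpa using hsx))

end Groth.Agent.S13632
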