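import Groth.Statements.S13634
import Mathlib.CategoryTheory.Sites.EpiMono
-- import your own Groth.Agent.* helpers here

set_option autoImplicit false
universe u
open CategoryTheory CategoryTheory.Limits MonoidalCategory CartesianMonoidalCategory MonObj AlgebraicGeometry
open MultSch

namespace Groth.Agent.S13634

/-- Let π : M → M'' be a homomorphism of commutative group schemes over a scheme S which is an
epimorphism of fppf sheaves, H a commutative group scheme over S and φ : (M'')^r → H a multilinear
morphism. If the composite of φ with π^r : M^r → (M'')^r is alternating, then φ is alternating. (The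
published statement is for module schemes over a ring R and an R-multilinear φ; the ring action
plays no role, so this row states it for commutative group schemes, which contains that case.) -/
theorem result
    {S : Scheme.{u}} {M M'' H : Over S}
    [GrpObj M] [IsCommMonObj M] [GrpObj M''] [IsCommMonObj M''] [GrpObj H] [IsCommMonObj H]
    (π : M ⟶ M'') [IsMonHom π] (hπ : Epi (CGrpSh.ptsMap Scheme.fppfPrecoverage π))
    {r : ℕ} (φ : MultSch.pow M'' r ⟶ H) (hφ : MultSch.IsMultilinear φ)
    (halt : ∀ (T : Over S) (x : Fin r → (T ⟶ M)) (i j : Fin r), i ≠ j → x i = x j →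
      MultSch.tuple (fun l => x l ≫ π) ≫ φ = 1) :
    MultSch.IsAlternating φ := by
  intro T x i j hij hx
  haveI := hπ
  have hs : Sheaf.IsLocallySurjective (CGrpSh.ptsMap Scheme.fppfPrecoverage π) :=
    (Sheaf.isLocallySurjective_iff_epi' _ _).2 hπ
  let J := QuotSh.J Scheme.fppfPrecoverage S
  let Sv : Fin r → Sieve T := fun l =>
    Presheaf.imageSieve (CGrpSh.ptsMap Scheme.fppfPrecoverage π).hom (U := T) (ULift.up (Additive.ofMul (x l)))
  have hmem : (Finset.univ.inf Sv) ∈ J T :=
    Finset.inf_induction (J.top_mem T) (fun a ha b hb => J.intersection_covering ha hb)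
      (fun l _ => Presheaf.imageSieve_mem _ _ _)
  have hsep : Presieve.IsSheaf J (yoneda.obj H) :=
    GrothendieckTopology.Subcanonical.isSheaf_of_isRepresentable (J := J) (yoneda.obj H)
  refine (hsep _ hmem).isSeparatedFor.ext fun T' f hf => ?_
  have hl : ∀ l, ∃ y : T' ⟶ M, y ≫ π = f ≫ x l := fun l => by
    have h' : Finset.univ.inf Sv ≤ Sv l := Finset.inf_le (Finset.mem_univ l)
    obtain ⟨y, hy⟩ := h' f hf
    exact ⟨y.down.toMul, congrArg (fun z => z.down.toMul) hy⟩
  choose y hy using hl
  let y' : Fin r → (T' ⟶ M) := fun l => if l = j then y i else y l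
  have hy' : ∀ l, y' l ≫ π = f ≫ x l := fun l => by
    by_cases hlj : l = j
    · simp only [y', hlj, if_true, hy, hx]
    · simp only [y', hlj, if_false, hy]
  have key : ∀ (n : ℕ) (z : Fin n → (T ⟶ M'')), f ≫ MultSch.tuple z = MultSch.tuple fun l => f ≫ z l := by
    intro n
    induction n with
    | zero => intro z; exact toUnit_unique _ _
    | succ n ih =>
      intro z
      show f ≫ lift (z 0) (MultSch.tuple fun l => z l.succ) = lift (f ≫ z 0) _
      rw [comp_lift, ih]
  show f ≫ MultSch.tuple x ≫ φ = f ≫ 1
  rw [MonObj.comp_one, ← Category.assoc, key]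
  simp only [← hy']
  exact halt T' y' i j hij (by simp [y', hij])

end Groth.Agent.S13634
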