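import Groth.Statements.S13635
import Mathlib.CategoryTheory.Sites.EpiMono
import Mathlib.Algebra.Homology.ShortComplex.Ab
import Mathlib.Data.Finset.Piecewise
-- import your own Groth.Agent.* helpers here

set_option autoImplicit false
universe u w
open CategoryTheory CategoryTheory.Limits MonoidalCategory CartesianMonoidalCategory MonObj AlgebraicGeometry
open MultSch

namespace Groth.Agent.S13635

/-- Let M₁ → M₂ → M₃ → 0 be a sequence of R-module schemes over a scheme S, with R-linear homomorphisms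
j : M₁ → M₂ and π : M₂ → M₃, exact as a sequence of fppf sheaves. For n ≥ 1 and an R-module scheme
N, the sequence 0 → Alt(M₃^n, N) → Alt(M₂^n, N) → Alt(M₁ × M₂^(n-1), N) of R-multilinear alternating
morphisms is exact: an R-multilinear alternating φ : M₂^n → N which is trivial on all points with
first coordinate in the image of j is of the form φ' ∘ π^n for a unique morphism φ' : M₃^n → N
(unique among all morphisms), and this φ' is R-multilinear and alternating. -/
theorem result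
    {S : Scheme.{u}} {R : Type w} [CommRing R] {M₁ M₂ M₃ N : Over S}
    [GrpObj M₁] [IsCommMonObj M₁] [GrpObj M₂] [IsCommMonObj M₂] [GrpObj M₃] [IsCommMonObj M₃]
    [GrpObj N] [IsCommMonObj N]
    (ρ₁ : MultSch.RMod R M₁) (ρ₂ : MultSch.RMod R M₂) (ρ₃ : MultSch.RMod R M₃) (ρN : MultSch.RMod R N)
    (j : M₁ ⟶ M₂) (π : M₂ ⟶ M₃) [IsMonHom j] [IsMonHom π]
    (hj : ∀ a : R, j ≫ ρ₂.act a = ρ₁.act a ≫ j) (hπ : ∀ a : R, π ≫ ρ₃.act a = ρ₂.act a ≫ π)
    (w : j ≫ π = 1) (hex : (CGrpSh.seq Scheme.fppfPrecoverage j π w).Exact)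
    (hepi : Epi (CGrpSh.ptsMap Scheme.fppfPrecoverage π))
    {n : ℕ} (hn : 1 ≤ n) (φ : MultSch.pow M₂ n ⟶ N)
    (hmult : MultSch.IsMultilinear φ) (hlin : MultSch.IsRLinear ρ₂ ρN φ) (halt : MultSch.IsAlternating φ)
    (hvan : ∀ (T : Over S) (y : T ⟶ M₁) (x : Fin n → (T ⟶ M₂)), x ⟨0, hn⟩ = y ≫ j →
      MultSch.tuple x ≫ φ = 1) :
    ∃ φ' : MultSch.pow M₃ n ⟶ N,
      (∀ (T : Over S) (x : Fin n → (T ⟶ M₂)), MultSch.tuple x ≫ φ = MultSch.tuple (fun l => x l ≫ π) ≫ φ') ∧
      MultSch.IsMultilinear φ' ∧ MultSch.IsRLinear ρ₃ ρN φ' ∧ MultSch.IsAlternating φ' ∧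
      ∀ φ'' : MultSch.pow M₃ n ⟶ N,
        (∀ (T : Over S) (x : Fin n → (T ⟶ M₂)), MultSch.tuple x ≫ φ = MultSch.tuple (fun l => x l ≫ π) ≫ φ'') →
          φ'' = φ' := by
  let J := QuotSh.J Scheme.fppfPrecoverage S
  have hN : Presieve.IsSheaf J (yoneda.obj N) :=
    GrothendieckTopology.Subcanonical.isSheaf_of_isRepresentable (J := J) (yoneda.obj N)
  have sep : ∀ {T : Over S} (Sv : Sieve T), Sv ∈ J T → ∀ a b : T ⟶ N,
      (∀ {T' : Over S} (f : T' ⟶ T), Sv f → f ≫ a = f ≫ b) → a = b := fun Sv hSv a b h =>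
    (hN Sv hSv).isSeparatedFor.ext fun _ f hf => h f hf
  haveI := hepi
  haveI hs : Sheaf.IsLocallySurjective (CGrpSh.ptsMap Scheme.fppfPrecoverage π) :=
    (Sheaf.isLocallySurjective_iff_epi' _ _).2 hepi
  let Sπ : ∀ {T : Over S}, (T ⟶ M₃) → Sieve T := fun {T} m =>
    Presheaf.imageSieve (CGrpSh.ptsMap Scheme.fppfPrecoverage π).hom (U := T) (ULift.up (Additive.ofMul m))
  have Smem : ∀ {T : Over S} (m : T ⟶ M₃), Sπ m ∈ J T := fun m => Presheaf.imageSieve_mem _ _ _
  have Sget : ∀ {T : Over S} (m : T ⟶ M₃) {T' : Over S} (f : T' ⟶ T), Sπ m f → ∃ y : T' ⟶ M₂, y ≫ π = f ≫ m := by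
    rintro T m T' f ⟨y, hy⟩
    exact ⟨y.down.toMul, congrArg (fun z => z.down.toMul) hy⟩
  have loc : ∀ {T : Over S} (z : T ⟶ M₂), z ≫ π = 1 →
      ∃ Sv : Sieve T, Sv ∈ J T ∧ ∀ {T' : Over S} (f : T' ⟶ T), Sv f → ∃ y : T' ⟶ M₁, y ≫ j = f ≫ z := by
    intro T z hz
    let C := CGrpSh.seq Scheme.fppfPrecoverage j π w
    let F := sheafToPresheaf J AddCommGrpCat.{u + 1} ⋙ (evaluation _ _).obj (Opposite.op T)
    have hk : (ShortComplex.mk C.iCycles C.g C.iCycles_g).Exact :=
      ShortComplex.exact_of_f_is_kernel _ C.cyclesIsKernel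
    have hmk : Mono (ShortComplex.mk C.iCycles C.g C.iCycles_g).f := inferInstanceAs (Mono C.iCycles)
    have hk' := (ShortComplex.ab_exact_iff _).1 (hk.map_of_mono_of_preservesKernel F hmk inferInstance)
    obtain ⟨c, hc⟩ := hk' (ULift.up (Additive.ofMul z)) (ULift.ext _ _ (congrArg Additive.ofMul hz))
    haveI : Epi C.toCycles := hex.epi_toCycles
    haveI : Sheaf.IsLocallySurjective C.toCycles := (Sheaf.isLocallySurjective_iff_epi' _ _).2 inferInstance
    refine ⟨Presheaf.imageSieve C.toCycles.hom (U := T) c, Presheaf.imageSieve_mem _ _ _, ?_⟩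
    rintro T' f ⟨y, hy⟩
    refine ⟨y.down.toMul, congrArg (fun v => v.down.toMul) (?_ : C.f.hom.app (Opposite.op T') y =
      C.X₂.obj.map f.op (ULift.up (Additive.ofMul z)))⟩
    have e : C.f.hom.app (Opposite.op T') y = C.iCycles.hom.app _ (C.toCycles.hom.app _ y) :=
      congrArg (fun φ : C.X₁ ⟶ C.X₂ => φ.hom.app (Opposite.op T') y) C.toCycles_i.symm
    rw [e, hy]
    exact (NatTrans.naturality_apply C.iCycles.hom f.op _).trans (congrArg (C.X₂.obj.map f.op) hc)
  classical
  have key : ∀ {M : Over S} {T T' : Over S} (f : T' ⟶ T) {m : ℕ} (z : Fin m → (T ⟶ M)),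
      f ≫ MultSch.tuple z = MultSch.tuple fun l => f ≫ z l := by
    intro M T T' f m
    induction m with
    | zero => intro z; exact toUnit_unique _ _
    | succ m ih =>
      intro z
      show f ≫ lift (z 0) (MultSch.tuple fun l => z l.succ) = lift (f ≫ z 0) _
      rw [comp_lift, ih]
  have proj : ∀ (M : Over S) (m : ℕ), ∃ pr : Fin m → (MultSch.pow M m ⟶ M), MultSch.tuple pr = 𝟙 _ := by
    intro M m
    induction m with
    | zero => exact ⟨fun l => l.elim0, toUnit_unique _ _⟩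
    | succ m ih =>
      obtain ⟨pr, hpr⟩ := ih
      refine ⟨Fin.cases (fst _ _) (fun l => snd _ _ ≫ pr l), ?_⟩
      show lift _ (MultSch.tuple fun l : Fin m => Fin.cases (fst _ _) (fun l => snd _ _ ≫ pr l) l.succ) = _
      simp only [Fin.cases_zero, Fin.cases_succ]
      rw [← key, hpr, Category.comp_id]
      exact lift_fst_snd
  obtain ⟨pr, hpr⟩ := proj M₃ n
  have ext3 : ∀ {T : Over S} (f : T ⟶ MultSch.pow M₃ n), f = MultSch.tuple fun l => f ≫ pr l := fun f => by
    rw [← key, hpr, Category.comp_id]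
  have evf : ∀ {T T' : Over S} (f : T' ⟶ T) (z : Fin n → (T ⟶ M₂)),
      f ≫ MultSch.tuple z ≫ φ = MultSch.tuple (fun l => f ≫ z l) ≫ φ := fun f z => by
    rw [← Category.assoc, key]
  have upd : ∀ {T T' : Over S} (f : T' ⟶ T) (z : Fin n → (T ⟶ M₂)) (i : Fin n) (a : T ⟶ M₂),
      (fun l => f ≫ Function.update z i a l) = Function.update (fun l => f ≫ z l) i (f ≫ a) := fun f z i a => by
    funext l
    by_cases h : l = i <;> simp [Function.update, h]
  have van : ∀ {T : Over S} (i : Fin n) (y : T ⟶ M₁) (z : Fin n → (T ⟶ M₂)), z i = y ≫ j →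
      MultSch.tuple z ≫ φ = 1 := by
    intro T i y z hz
    by_cases hi : i = ⟨0, hn⟩
    · exact hvan T y z (hi ▸ hz)
    let o : Fin n := ⟨0, hn⟩
    let g : (T ⟶ M₂) → (T ⟶ M₂) → (T ⟶ N) := fun a b =>
      MultSch.tuple (Function.update (Function.update z o a) i b) ≫ φ
    have gr : ∀ a b c, g a (b * c) = g a b * g a c := fun a b c => hmult T _ i b c
    have gl : ∀ a b c, g (a * b) c = g a c * g b c := fun a b c => by
      simp only [g, Function.update_comm hi]
      rw [Function.update_comm (Ne.symm hi), Function.update_comm (Ne.symm hi), Function.update_comm (Ne.symm hi)]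
      exact hmult T _ o a b
    have gd : ∀ a, g a a = 1 := fun a => halt T _ o i (Ne.symm hi) (by simp [o, Function.update, Ne.symm hi])
    have h0 : g (z i) (z o) = 1 := hvan T y _ (by simp [o, Function.update, Ne.symm hi, hz])
    have hz' : MultSch.tuple z ≫ φ = g (z o) (z i) := by
      simp only [g, Function.update_eq_self]
    have := gd (z o * z i)
    rw [gl, gr, gr, gd, gd, h0, _root_.one_mul, _root_.mul_one, _root_.mul_one] at this
    rw [hz', this]
  have one : ∀ {T : Over S} (z : Fin n → (T ⟶ M₂)) (i : Fin n) (a b : T ⟶ M₂), a ≫ π = b ≫ π →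
      MultSch.tuple (Function.update z i a) ≫ φ = MultSch.tuple (Function.update z i b) ≫ φ := by
    intro T z i a b hab
    have hd : (a * b⁻¹) ≫ π = 1 := by rw [MonObj.mul_comp, GrpObj.inv_comp, hab, mul_inv_cancel]
    obtain ⟨Sv, hSv, hl⟩ := loc _ hd
    have h1 : MultSch.tuple (Function.update z i (a * b⁻¹)) ≫ φ = 1 := sep Sv hSv _ _ fun f hf => by
      obtain ⟨y', hy'⟩ := hl f hf
      rw [evf, upd, MonObj.comp_one, van i y' _ (by simp [hy'])]
    conv_lhs => rw [← inv_mul_cancel_right a b, hmult, h1, _root_.one_mul]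
  have indep : ∀ {T : Over S} (z z' : Fin n → (T ⟶ M₂)), (∀ l, z l ≫ π = z' l ≫ π) →
      MultSch.tuple z ≫ φ = MultSch.tuple z' ≫ φ := by
    intro T z z' h
    have H : ∀ s : Finset (Fin n), MultSch.tuple (s.piecewise z' z) ≫ φ = MultSch.tuple z ≫ φ := by
      intro s
      induction s using Finset.induction_on with
      | empty => simp
      | insert a s ha ih =>
        rw [Finset.piecewise_insert, ← ih, one _ a _ (s.piecewise z' z a) (by simp [ha, h a]),
          Function.update_eq_self]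
    simpa using (H Finset.univ).symm
  let Sv : ∀ {T : Over S}, (Fin n → (T ⟶ M₃)) → Sieve T := fun m => Finset.univ.inf fun l => Sπ (m l)
  have Svmem : ∀ {T : Over S} (m : Fin n → (T ⟶ M₃)), Sv m ∈ J T := fun m =>
    Finset.inf_induction (J.top_mem _) (fun a ha b hb => J.intersection_covering ha hb) (fun l _ => Smem _)
  have Svget : ∀ {T : Over S} (m : Fin n → (T ⟶ M₃)) {T' : Over S} (f : T' ⟶ T), Sv m f →
      ∃ y : Fin n → (T' ⟶ M₂), ∀ l, y l ≫ π = f ≫ m l := fun m T' f hf => by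
    have : ∀ l, ∃ y : T' ⟶ M₂, y ≫ π = f ≫ m l := fun l =>
      Sget _ f ((Finset.inf_le (Finset.mem_univ l) : Sv m ≤ Sπ (m l)) f hf)
    choose y hy using this
    exact ⟨y, hy⟩
  let x : Presieve.FamilyOfElements (yoneda.obj N) (Sv pr).arrows := fun T' f hf =>
    MultSch.tuple (Svget pr f hf).choose ≫ φ
  have hx : x.Compatible := by
    intro Y₁ Y₂ Z g₁ g₂ f₁ f₂ h₁ h₂ heq
    show g₁ ≫ MultSch.tuple _ ≫ φ = g₂ ≫ MultSch.tuple _ ≫ φ
    rw [evf, evf]
    refine indep _ _ fun l => ?_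
    rw [Category.assoc, Category.assoc, (Svget pr f₁ h₁).choose_spec, (Svget pr f₂ h₂).choose_spec,
      ← Category.assoc, heq, Category.assoc]
  obtain ⟨φ', hφ', -⟩ := hN (Sv pr) (Svmem pr) x hx
  have ev3 : ∀ {T T' : Over S} (f : T' ⟶ T) (z : Fin n → (T ⟶ M₃)) (χ : MultSch.pow M₃ n ⟶ N),
      f ≫ MultSch.tuple z ≫ χ = MultSch.tuple (fun l => f ≫ z l) ≫ χ := fun f z χ => by
    rw [← Category.assoc, key]
  have upd3 : ∀ {T T' : Over S} (f : T' ⟶ T) (z : Fin n → (T ⟶ M₃)) (i : Fin n) (a : T ⟶ M₃),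
      (fun l => f ≫ Function.update z i a l) = Function.update (fun l => f ≫ z l) i (f ≫ a) := fun f z i a => by
    funext l
    by_cases h : l = i <;> simp [Function.update, h]
  have updπ : ∀ {T : Over S} (z : Fin n → (T ⟶ M₂)) (i : Fin n) (a : T ⟶ M₂),
      (fun l => Function.update z i a l ≫ π) = Function.update (fun l => z l ≫ π) i (a ≫ π) := fun z i a => by
    funext l
    by_cases h : l = i <;> simp [Function.update, h]
  have prl : ∀ {T : Over S} (m : ℕ) (z : Fin m → (T ⟶ M₃)) (q : Fin m → (MultSch.pow M₃ m ⟶ M₃)),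
      MultSch.tuple q = 𝟙 _ → (fun l => MultSch.tuple z ≫ q l) = z := by
    intro T m z q hq
    have inj : ∀ {m : ℕ} (a b : Fin m → (T ⟶ M₃)), MultSch.tuple a = MultSch.tuple b → a = b := by
      intro m
      induction m with
      | zero => intro a b _; funext l; exact l.elim0
      | succ m ih =>
        intro a b e
        funext l
        refine Fin.cases ?_ (fun l => ?_) l
        · simpa [MultSch.tuple] using congrArg (fun u => u ≫ fst _ _) e
        · exact congrFun (ih (fun l => a l.succ) (fun l => b l.succ)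
            (by simpa [MultSch.tuple] using congrArg (fun u => u ≫ snd _ _) e)) l
    apply inj
    rw [← key, hq, Category.comp_id]
  have star : ∀ (T : Over S) (z : Fin n → (T ⟶ M₂)),
      MultSch.tuple z ≫ φ = MultSch.tuple (fun l => z l ≫ π) ≫ φ' := by
    intro T z
    refine sep _ (J.pullback_stable (MultSch.tuple fun l => z l ≫ π) (Svmem pr)) _ _ fun {T'} f hf => ?_
    have hv : (f ≫ MultSch.tuple fun l => z l ≫ π) ≫ φ' = MultSch.tuple (Svget pr _ hf).choose ≫ φ := hφ' _ hf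
    rw [evf, ← Category.assoc, hv]
    refine indep _ _ fun l => ?_
    rw [(Svget pr _ hf).choose_spec, Category.assoc, Category.assoc, congrFun (prl n (fun l => z l ≫ π) pr hpr) l]
  refine ⟨φ', star, fun T z i a b => ?_, fun T z i a => ?_, fun T z i i' hii hz => ?_, fun χ hχ => ?_⟩
  · refine sep _ (J.intersection_covering (Svmem z) (J.intersection_covering (Smem a) (Smem b))) _ _ fun f hf => ?_
    obtain ⟨Z, hZ⟩ := Svget z f hf.1
    obtain ⟨A, hA⟩ := Sget a f hf.2.1
    obtain ⟨B, hB⟩ := Sget b f hf.2.2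
    rw [ev3, MonObj.comp_mul, ev3, ev3, upd3, upd3, upd3, MonObj.comp_mul, ← hA, ← hB, ← MonObj.mul_comp]
    simp only [← hZ]
    rw [← updπ, ← updπ, ← updπ, ← star, ← star, ← star, hmult]
  · refine sep _ (Svmem z) _ _ fun f hf => ?_
    obtain ⟨Z, hZ⟩ := Svget z f hf
    rw [ev3, upd3, ← Category.assoc f (MultSch.tuple z ≫ φ'), ev3, ← Category.assoc f (z i)]
    simp only [← hZ]
    rw [Category.assoc, hπ, ← Category.assoc, ← updπ, ← star, ← star, hlin]
  · refine sep _ (Svmem z) _ _ fun f hf => ?_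
    obtain ⟨Z, hZ⟩ := Svget z f hf
    rw [ev3, MonObj.comp_one]
    have e : (fun l => f ≫ z l) = fun l => Function.update Z i (Z i') l ≫ π := by
      funext l
      by_cases h : l = i
      · simp [h, hZ, hz]
      · simp [h, hZ]
    rw [e, ← star]
    exact halt _ _ i i' hii (by simp [Function.update, Ne.symm hii])
  · refine sep _ (Svmem pr) _ _ fun f hf => ?_
    obtain ⟨Z, hZ⟩ := Svget pr f hf
    rw [ext3 f]
    simp only [← hZ]
    rw [← hχ, ← star]

end Groth.Agent.S13635
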