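import Groth.Statements.S13636
import Mathlib.Algebra.Homology.ShortComplex.Ab
import Mathlib.CategoryTheory.Sites.EpiMono
-- import your own Groth.Agent.* helpers here

set_option autoImplicit false
universe u w
open CategoryTheory CategoryTheory.Limits MonoidalCategory CartesianMonoidalCategory MonObj AlgebraicGeometry
open MultSch

namespace Groth.Agent.S13636

/-- Let M' → M → M'' → 0 be a sequence of R-module schemes over a scheme S, with R-linear homomorphisms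
j and π, exact as fppf sheaves, and let ψ : P × M × Q → N be a morphism to an R-module scheme N
which is additive and R-linear in the coordinate M (on T-valued points) and trivial on all points
whose M-coordinate lies in the image of j. Then ψ = ψ' ∘ (id × π × id) for a unique morphism ψ' : P
× M'' × Q → N, and ψ' is additive and R-linear in the coordinate M''. (The published statement has a
product M₁ × ⋯ × M_r of R-module schemes with the exact sequence in the i-th factor and ψ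
R-multilinear; here the factors before and after the i-th are collected into single S-schemes P and
Q, and only linearity in the i-th coordinate, the one the statement is about, is carried; linearity
in the other coordinates passes between ψ and ψ' formally.) -/
theorem result
    {S : Scheme.{u}} {R : Type w} [CommRing R] {P Q M' M M'' N : Over S}
    [GrpObj M'] [IsCommMonObj M'] [GrpObj M] [IsCommMonObj M] [GrpObj M''] [IsCommMonObj M'']
    [GrpObj N] [IsCommMonObj N]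
    (ρ' : MultSch.RMod R M') (ρ : MultSch.RMod R M) (ρ'' : MultSch.RMod R M'') (ρN : MultSch.RMod R N)
    (j : M' ⟶ M) (π : M ⟶ M'') [IsMonHom j] [IsMonHom π]
    (hj : ∀ a : R, j ≫ ρ.act a = ρ'.act a ≫ j) (hπ : ∀ a : R, π ≫ ρ''.act a = ρ.act a ≫ π)
    (w : j ≫ π = 1) (hex : (CGrpSh.seq Scheme.fppfPrecoverage j π w).Exact)
    (hepi : Epi (CGrpSh.ptsMap Scheme.fppfPrecoverage π))
    (ψ : P ⊗ (M ⊗ Q) ⟶ N)
    (hadd : ∀ (T : Over S) (p : T ⟶ P) (q : T ⟶ Q) (y z : T ⟶ M),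
      lift p (lift (y * z) q) ≫ ψ = (lift p (lift y q) ≫ ψ) * (lift p (lift z q) ≫ ψ))
    (hlin : ∀ (T : Over S) (p : T ⟶ P) (q : T ⟶ Q) (y : T ⟶ M) (a : R),
      lift p (lift (y ≫ ρ.act a) q) ≫ ψ = (lift p (lift y q) ≫ ψ) ≫ ρN.act a)
    (hvan : ∀ (T : Over S) (p : T ⟶ P) (q : T ⟶ Q) (y' : T ⟶ M'), lift p (lift (y' ≫ j) q) ≫ ψ = 1) :
    ∃ ψ' : P ⊗ (M'' ⊗ Q) ⟶ N,
      (P ◁ (π ▷ Q)) ≫ ψ' = ψ ∧
      (∀ (T : Over S) (p : T ⟶ P) (q : T ⟶ Q) (y z : T ⟶ M''),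
        lift p (lift (y * z) q) ≫ ψ' = (lift p (lift y q) ≫ ψ') * (lift p (lift z q) ≫ ψ')) ∧
      (∀ (T : Over S) (p : T ⟶ P) (q : T ⟶ Q) (y : T ⟶ M'') (a : R),
        lift p (lift (y ≫ ρ''.act a) q) ≫ ψ' = (lift p (lift y q) ≫ ψ') ≫ ρN.act a) ∧
      ∀ ψ'' : P ⊗ (M'' ⊗ Q) ⟶ N, (P ◁ (π ▷ Q)) ≫ ψ'' = ψ → ψ'' = ψ' := by
  let J := QuotSh.J Scheme.fppfPrecoverage S
  have hN : Presieve.IsSheaf J (yoneda.obj N) :=
    GrothendieckTopology.Subcanonical.isSheaf_of_isRepresentable (J := J) (yoneda.obj N)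
  have sep : ∀ {T : Over S} (Sv : Sieve T), Sv ∈ J T → ∀ a b : T ⟶ N,
      (∀ {T' : Over S} (f : T' ⟶ T), Sv f → f ≫ a = f ≫ b) → a = b := fun Sv hSv a b h =>
    (hN Sv hSv).isSeparatedFor.ext fun _ f hf => h f hf
  haveI := hepi
  haveI hs : Sheaf.IsLocallySurjective (CGrpSh.ptsMap Scheme.fppfPrecoverage π) :=
    (Sheaf.isLocallySurjective_iff_epi' _ _).2 hepi
  let Sπ : ∀ {T : Over S}, (T ⟶ M'') → Sieve T := fun {T} m =>
    Presheaf.imageSieve (CGrpSh.ptsMap Scheme.fppfPrecoverage π).hom (U := T) (ULift.up (Additive.ofMul m))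
  have Smem : ∀ {T : Over S} (m : T ⟶ M''), Sπ m ∈ J T := fun m => Presheaf.imageSieve_mem _ _ _
  have Sget : ∀ {T : Over S} (m : T ⟶ M'') {T' : Over S} (f : T' ⟶ T), Sπ m f → ∃ y : T' ⟶ M, y ≫ π = f ≫ m := by
    rintro T m T' f ⟨y, hy⟩
    exact ⟨y.down.toMul, congrArg (fun z => z.down.toMul) hy⟩
  have loc : ∀ {T : Over S} (z : T ⟶ M), z ≫ π = 1 →
      ∃ Sv : Sieve T, Sv ∈ J T ∧ ∀ {T' : Over S} (f : T' ⟶ T), Sv f → ∃ y : T' ⟶ M', y ≫ j = f ≫ z := by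
    intro T z hz
    let C := CGrpSh.seq Scheme.fppfPrecoverage j π w
    let F := sheafToPresheaf J AddCommGrpCat.{u + 1} ⋙ (evaluation _ _).obj (Opposite.op T)
    have hk : (ShortComplex.mk C.iCycles C.g C.iCycles_g).Exact :=
      ShortComplex.exact_of_f_is_kernel _ C.cyclesIsKernel
    have hmk : Mono (ShortComplex.mk C.iCycles C.g C.iCycles_g).f := inferInstanceAs (Mono C.iCycles)
    have hk' := (ShortComplex.ab_exact_iff _).1 (hk.map_of_mono_of_preservesKernel F hmk inferInstance)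
    obtain ⟨c, hc⟩ := hk' (ULift.up (Additive.ofMul z)) (ULift.ext _ _ (congrArg Additive.ofMul hz))
    haveI : Epi C.toCycles := hex.epi_toCycles
    haveI : Sheaf.IsLocallySurjective C.toCycles := (Sheaf.isLocallySurjective_iff_epi' _ _).2 inferInstance
    refine ⟨Presheaf.imageSieve C.toCycles.hom (U := T) c, Presheaf.imageSieve_mem _ _ _, ?_⟩
    rintro T' f ⟨y, hy⟩
    refine ⟨y.down.toMul, congrArg (fun v => v.down.toMul) (?_ : C.f.hom.app (Opposite.op T') y =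
      C.X₂.obj.map f.op (ULift.up (Additive.ofMul z)))⟩
    have e : C.f.hom.app (Opposite.op T') y = C.iCycles.hom.app _ (C.toCycles.hom.app _ y) :=
      congrArg (fun φ : C.X₁ ⟶ C.X₂ => φ.hom.app (Opposite.op T') y) C.toCycles_i.symm
    rw [e, hy]
    exact (NatTrans.naturality_apply C.iCycles.hom f.op _).trans (congrArg (C.X₂.obj.map f.op) hc)
  have ev : ∀ {T T' : Over S} (f : T' ⟶ T) (p : T ⟶ P) (y : T ⟶ M) (q : T ⟶ Q),
      f ≫ lift p (lift y q) ≫ ψ = lift (f ≫ p) (lift (f ≫ y) (f ≫ q)) ≫ ψ := fun f p y q => by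
    rw [← Category.assoc, comp_lift, comp_lift]
  have indep : ∀ {T : Over S} (p : T ⟶ P) (q : T ⟶ Q) (y₁ y₂ : T ⟶ M), y₁ ≫ π = y₂ ≫ π →
      lift p (lift y₁ q) ≫ ψ = lift p (lift y₂ q) ≫ ψ := by
    intro T p q y₁ y₂ hy
    have hz : (y₂ * y₁⁻¹) ≫ π = 1 := by rw [MonObj.mul_comp, GrpObj.inv_comp, hy, mul_inv_cancel]
    obtain ⟨Sv, hSv, hl⟩ := loc _ hz
    have h1 : lift p (lift (y₂ * y₁⁻¹) q) ≫ ψ = 1 := sep Sv hSv _ _ fun f hf => by
      obtain ⟨y', hy'⟩ := hl f hf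
      rw [ev, ← hy', hvan, MonObj.comp_one]
    conv_rhs => rw [← inv_mul_cancel_right y₂ y₁, hadd, h1, _root_.one_mul]
  -- the glued morphism
  let p₀ : P ⊗ (M'' ⊗ Q) ⟶ P := fst _ _
  let q₀ : P ⊗ (M'' ⊗ Q) ⟶ Q := snd _ _ ≫ snd _ _
  let m₀ : P ⊗ (M'' ⊗ Q) ⟶ M'' := snd _ _ ≫ fst _ _
  let x : Presieve.FamilyOfElements (yoneda.obj N) (Sπ m₀).arrows := fun T' f hf =>
    lift (f ≫ p₀) (lift (Sget m₀ f hf).choose (f ≫ q₀)) ≫ ψ
  have hx : x.Compatible := by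
    intro Y₁ Y₂ Z g₁ g₂ f₁ f₂ h₁ h₂ heq
    show g₁ ≫ lift _ _ ≫ ψ = g₂ ≫ lift _ _ ≫ ψ
    rw [ev, ev]
    simp only [← Category.assoc, heq]
    refine indep _ _ _ _ ?_
    rw [Category.assoc, Category.assoc, (Sget m₀ f₁ h₁).choose_spec, (Sget m₀ f₂ h₂).choose_spec,
      ← Category.assoc, heq, Category.assoc]
  obtain ⟨ψ', hψ', -⟩ := hN (Sπ m₀) (Smem m₀) x hx
  have pt : ∀ {T : Over S} (p : T ⟶ P) (q : T ⟶ Q) (y : T ⟶ M) (φ : P ⊗ (M'' ⊗ Q) ⟶ N),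
      lift p (lift y q) ≫ (P ◁ (π ▷ Q)) ≫ φ = lift p (lift (y ≫ π) q) ≫ φ := fun p q y φ => by
    simp
  have e₀ : (P ◁ (π ▷ Q)) ≫ ψ' = ψ := by
    refine sep _ (J.pullback_stable (P ◁ (π ▷ Q)) (Smem m₀)) _ _ fun {T'} f hf => ?_
    have hv : (f ≫ (P ◁ (π ▷ Q))) ≫ ψ' =
        lift ((f ≫ (P ◁ (π ▷ Q))) ≫ p₀) (lift (Sget m₀ _ hf).choose ((f ≫ (P ◁ (π ▷ Q))) ≫ q₀)) ≫ ψ := hψ' _ hf
    have hd : f = lift (f ≫ fst _ _) (lift (f ≫ snd _ _ ≫ fst _ _) (f ≫ snd _ _ ≫ snd _ _)) := by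
      simp [← comp_lift, Category.assoc]
    rw [← Category.assoc, hv]
    conv_rhs => rw [hd]
    simp only [p₀, q₀, Category.assoc, whiskerLeft_fst, whiskerLeft_snd_assoc, whiskerRight_snd]
    refine indep _ _ _ _ ((Sget m₀ _ hf).choose_spec.trans ?_)
    simp [m₀, Category.assoc]
  have star : ∀ {T : Over S} (p : T ⟶ P) (q : T ⟶ Q) (y : T ⟶ M) (φ : P ⊗ (M'' ⊗ Q) ⟶ N),
      (P ◁ (π ▷ Q)) ≫ φ = ψ → lift p (lift (y ≫ π) q) ≫ φ = lift p (lift y q) ≫ ψ := fun p q y φ h => by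
    rw [← pt, h]
  have ev' : ∀ {T T' : Over S} (f : T' ⟶ T) (p : T ⟶ P) (y : T ⟶ M'') (q : T ⟶ Q) (φ : P ⊗ (M'' ⊗ Q) ⟶ N),
      f ≫ lift p (lift y q) ≫ φ = lift (f ≫ p) (lift (f ≫ y) (f ≫ q)) ≫ φ := fun f p y q φ => by
    rw [← Category.assoc, comp_lift, comp_lift]
  refine ⟨ψ', e₀, fun T p q y z => ?_, fun T p q y a => ?_, fun ψ'' hψ'' => ?_⟩
  · refine sep _ (J.intersection_covering (Smem y) (Smem z)) _ _ fun f hf => ?_
    obtain ⟨Y, hY⟩ := Sget y f hf.1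
    obtain ⟨Z, hZ⟩ := Sget z f hf.2
    rw [ev', MonObj.comp_mul, MonObj.comp_mul, ev', ev', ← hY, ← hZ, ← MonObj.mul_comp, star _ _ _ _ e₀,
      star _ _ _ _ e₀, star _ _ _ _ e₀, hadd]
  · refine sep _ (Smem y) _ _ fun f hf => ?_
    obtain ⟨Y, hY⟩ := Sget y f hf
    rw [ev', ← Category.assoc f (lift p (lift y q) ≫ ψ'), ev', ← Category.assoc f y, ← hY, Category.assoc, hπ,
      ← Category.assoc Y, star _ _ _ _ e₀, star _ _ _ _ e₀, hlin]
  · refine sep _ (Smem m₀) _ _ fun f hf => ?_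
    obtain ⟨Y, hY⟩ := Sget m₀ f hf
    have hd : f = lift (f ≫ p₀) (lift (Y ≫ π) (f ≫ q₀)) := by
      rw [hY]
      simp [p₀, q₀, m₀, ← comp_lift, Category.assoc]
    rw [hd, star _ _ _ _ hψ'', star _ _ _ _ e₀]

end Groth.Agent.S13636
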