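import Groth.Statements.S13663
import Mathlib
-- import your own Groth.Agent.* helpers here

set_option autoImplicit false
universe u
open GrRing

namespace Groth.Agent.S13663

/-- Let A be a commutative ring graded by the integers whose ideal generated by the homogeneous elements
of positive degree has homogeneous generators f_1, …, f_p, of positive degrees d_1, …, d_p, and let
d be a positive integer divisible by each d_i. Then A_N = A_d · A_{N-d} for every integer N > dp -
(d_1 + ⋯ + d_p). -/
theorem result {R A : Type u} [CommRing R] [CommRing A] [Algebra R A]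
    (𝒜 : ℤ → Submodule R A) [GradedAlgebra 𝒜]
    {p : ℕ} (f : Fin p → A) (deg : Fin p → ℤ) (hdeg : ∀ i, 0 < deg i) (hf : ∀ i, f i ∈ 𝒜 (deg i))
    (hgen : Ideal.span {a : A | ∃ n : ℤ, 0 < n ∧ a ∈ 𝒜 n} = Ideal.span (Set.range f))
    (d : ℤ) (hd : 0 < d) (hdvd : ∀ i, deg i ∣ d) (N : ℤ) (hN : d * p - ∑ i, deg i < N) :
    𝒜 N = 𝒜 d * 𝒜 (N - d) := by
  classical
  let mm : Fin p → ℕ := fun i => (d / deg i).toNat
  have hmd : ∀ i, (mm i : ℤ) * deg i = d := fun i => by
    rw [Int.toNat_of_nonneg (Int.ediv_nonneg hd.le (hdeg i).le), Int.ediv_mul_cancel (hdvd i)]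
  have hmpos : ∀ i, 1 ≤ mm i := fun i => by
    by_contra hlt
    have h0 : mm i = 0 := by omega
    have := hmd i
    rw [h0] at this
    simp at this
    omega
  have hexp : ∀ (n : ℤ), 0 < n → ∀ a ∈ 𝒜 n, ∃ c : Fin p → A, (∀ i, c i ∈ 𝒜 (n - deg i)) ∧ a = ∑ i, f i * c i := by
    intro n hn a ha
    have hmem : a ∈ Ideal.span (Set.range f) := hgen ▸ Ideal.subset_span ⟨n, hn, ha⟩
    obtain ⟨c, hc⟩ := (Submodule.mem_span_range_iff_exists_fun A).1 hmem
    refine ⟨fun i => ((DirectSum.decompose 𝒜 (c i) (n - deg i) : 𝒜 (n - deg i)) : A), fun i => (DirectSum.decompose 𝒜 (c i) (n - deg i)).2, ?_⟩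
    conv_lhs => rw [← DirectSum.decompose_of_mem_same 𝒜 ha, ← hc]
    rw [DirectSum.decompose_sum, DFinsupp.finsetSum_apply, AddSubmonoidClass.coe_finsetSum]
    refine Finset.sum_congr rfl fun i _ => ?_
    rw [smul_eq_mul, mul_comm]
    have h := DirectSum.coe_decompose_mul_add_of_left_mem 𝒜 (i := deg i) (j := n - deg i) (a := f i) (b := c i) (hf i)
    rw [add_sub_cancel] at h
    exact h
  have key : ∀ (s : ℕ) (e : Fin p → ℕ), (∑ i, (mm i - e i)) = s →
      ∀ a ∈ 𝒜 (N - ∑ i, (e i : ℤ) * deg i), (∏ i, f i ^ e i) * a ∈ 𝒜 d * 𝒜 (N - d) := by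
    intro s
    induction s using Nat.strong_induction_on with
    | _ s ih =>
      intro e hs a ha
      by_cases hbig : ∃ i, mm i ≤ e i
      · obtain ⟨i, hi⟩ := hbig
        have h1 : f i ^ mm i ∈ 𝒜 d := by
          have := SetLike.pow_mem_graded (mm i) (hf i)
          rwa [nsmul_eq_mul, hmd i] at this
        let e' := Function.update e i (e i - mm i)
        have h2 : ∏ j, f j ^ e j = f i ^ mm i * ∏ j, f j ^ e' j := by
          rw [← Finset.mul_prod_erase _ _ (Finset.mem_univ i), ← Finset.mul_prod_erase _ (fun j => f j ^ e' j) (Finset.mem_univ i), ← mul_assoc]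
          congr 1
          · simp only [e', Function.update_self]; rw [← pow_add, Nat.add_sub_cancel' hi]
          · exact Finset.prod_congr rfl fun j hj => by simp only [e']; rw [Function.update_of_ne (Finset.ne_of_mem_erase hj)]
        have h3 : ∑ j, (e' j : ℤ) * deg j = (∑ j, (e j : ℤ) * deg j) - d := by
          rw [← Finset.add_sum_erase _ _ (Finset.mem_univ i), ← Finset.add_sum_erase _ (fun j => (e j : ℤ) * deg j) (Finset.mem_univ i)]
          rw [Finset.sum_congr rfl (fun j hj => by simp only [e']; rw [Function.update_of_ne (Finset.ne_of_mem_erase hj)] : ∀ j ∈ Finset.univ.erase i, (e' j : ℤ) * deg j = (e j : ℤ) * deg j)]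
          simp only [e', Function.update_self]
          rw [Nat.cast_sub hi, sub_mul, hmd]
          ring
        rw [h2, mul_assoc]
        refine Submodule.mul_mem_mul h1 ?_
        have hp : ∏ j, f j ^ e' j ∈ 𝒜 (∑ j, (e' j) • deg j) := SetLike.prod_mem_graded 𝒜 (fun j => (e' j) • deg j) (fun j => f j ^ e' j) fun j _ => SetLike.pow_mem_graded _ (hf j)
        have := SetLike.mul_mem_graded hp ha
        rwa [show (∑ j, (e' j) • deg j) + (N - ∑ j, (e j : ℤ) * deg j) = N - d by simp only [nsmul_eq_mul]; rw [h3]; ring] at this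
      · push Not at hbig
        have hpos : 0 < N - ∑ i, (e i : ℤ) * deg i := by
          have h1 : ∑ i, (e i : ℤ) * deg i ≤ ∑ i, (d - deg i) := Finset.sum_le_sum fun i _ => by
            have h2 : (e i : ℤ) + 1 ≤ mm i := by exact_mod_cast hbig i
            nlinarith [hmd i, hdeg i]
          rw [Finset.sum_sub_distrib, Finset.sum_const, Finset.card_univ, Fintype.card_fin, nsmul_eq_mul, mul_comm] at h1
          linarith
        obtain ⟨c, hc, rfl⟩ := hexp _ hpos a ha
        rw [Finset.mul_sum]
        refine Submodule.sum_mem _ fun i _ => ?_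
        let e' := Function.update e i (e i + 1)
        have h2 : (∏ j, f j ^ e j) * (f i * c i) = (∏ j, f j ^ e' j) * c i := by
          rw [← Finset.mul_prod_erase _ _ (Finset.mem_univ i), ← Finset.mul_prod_erase _ (fun j => f j ^ e' j) (Finset.mem_univ i)]
          rw [Finset.prod_congr rfl (fun j hj => by simp only [e']; rw [Function.update_of_ne (Finset.ne_of_mem_erase hj)] : ∀ j ∈ Finset.univ.erase i, f j ^ e' j = f j ^ e j)]
          simp only [e', Function.update_self, pow_succ]
          ring
        have h3 : ∑ j, (e' j : ℤ) * deg j = (∑ j, (e j : ℤ) * deg j) + deg i := by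
          rw [← Finset.add_sum_erase _ _ (Finset.mem_univ i), ← Finset.add_sum_erase _ (fun j => (e j : ℤ) * deg j) (Finset.mem_univ i)]
          rw [Finset.sum_congr rfl (fun j hj => by simp only [e']; rw [Function.update_of_ne (Finset.ne_of_mem_erase hj)] : ∀ j ∈ Finset.univ.erase i, (e' j : ℤ) * deg j = (e j : ℤ) * deg j)]
          simp only [e', Function.update_self]
          push_cast
          ring
        rw [h2]
        refine ih _ ?_ e' rfl (c i) ?_
        · rw [← hs]
          refine Finset.sum_lt_sum (fun j _ => ?_) ⟨i, Finset.mem_univ i, ?_⟩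
          · rcases eq_or_ne j i with rfl | hne
            · simp only [e', Function.update_self]; omega
            · simp only [e', Function.update_of_ne hne]; exact le_rfl
          · simp only [e', Function.update_self]; have := hbig i; omega
        · rw [h3, ← sub_sub]; exact hc i
  apply le_antisymm
  · intro a ha
    simpa using key _ (fun _ => 0) rfl a (by simpa using ha)
  · rw [Submodule.mul_le]
    intro x hx y hy
    have := SetLike.mul_mem_graded hx hy
    rwa [add_sub_cancel] at this

end Groth.Agent.S13663
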