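import Groth.Statements.S13664
import Mathlib
-- import your own Groth.Agent.* helpers here

set_option autoImplicit false
universe u
open GrRing

namespace Groth.Agent.S13664

/-- Let A be a commutative ring graded by the integers whose ideal I generated by the homogeneous
elements of positive degree has homogeneous generators f_1, …, f_p, of positive degrees d_1, …, d_p,
let d be a positive integer divisible by each d_i, and let x be an element of an A-module M. The
following are equivalent: x is annihilated by some power of I; x is annihilated by (A_d)^n for all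
sufficiently large n; there is an integer s such that A_n x = 0 for all n ≥ s. (The published
statement is for a homogeneous element of a graded module; this row drops both the grading of M and
the homogeneity of x, which play no role.) -/
theorem result {R A : Type u} [CommRing R] [CommRing A] [Algebra R A]
    (𝒜 : ℤ → Submodule R A) [GradedAlgebra 𝒜]
    {p : ℕ} (f : Fin p → A) (deg : Fin p → ℤ) (hdeg : ∀ i, 0 < deg i) (hf : ∀ i, f i ∈ 𝒜 (deg i))
    (hgen : Ideal.span {a : A | ∃ n : ℤ, 0 < n ∧ a ∈ 𝒜 n} = Ideal.span (Set.range f))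
    (d : ℤ) (hd : 0 < d) (hdvd : ∀ i, deg i ∣ d)
    {M : Type u} [AddCommGroup M] [Module A M] (x : M) :
    [x ∈ GrLC.gam (Ideal.span (Set.range f)) M,
     ∃ n₀ : ℕ, ∀ n : ℕ, n₀ ≤ n → ∀ r ∈ (𝒜 d) ^ n, r • x = 0,
     ∃ s : ℤ, ∀ n : ℤ, s ≤ n → ∀ r ∈ 𝒜 n, r • x = 0].TFAE := by
  classical
  set J : Ideal A := Ideal.span (Set.range f) with hJ
  obtain ⟨D, hD⟩ := Finite.exists_le deg
  tfae_have 1 → 3 := by
    rintro ⟨k, hk⟩
    have key : ∀ (k : ℕ) (n : ℤ), (k : ℤ) * max D 0 < n → ∀ r ∈ 𝒜 n, r ∈ J ^ k := by
      intro k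
      induction k with
      | zero => intros; rw [pow_zero, Ideal.one_eq_top]; trivial
      | succ k ih =>
        intro n hn r hr
        have hn0 : 0 < n := by
          have : (0 : ℤ) ≤ ((k + 1 : ℕ) : ℤ) * max D 0 := mul_nonneg (by positivity) (le_max_right _ _)
          omega
        have hrJ : r ∈ Ideal.span (Set.range f) := hgen.le (Ideal.subset_span ⟨n, hn0, hr⟩)
        obtain ⟨c, hc⟩ := (Ideal.mem_span_range_iff_exists_fun).1 hrJ
        have hr' : r = ∑ i, GradedRing.proj 𝒜 n (c i * f i) := by
          rw [← map_sum, hc, GradedRing.proj_apply, DirectSum.decompose_of_mem_same 𝒜 hr]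
        rw [hr']
        refine sum_mem fun i _ => ?_
        have hi : GradedRing.proj 𝒜 n (c i * f i) = (DirectSum.decompose 𝒜 (c i) (n - deg i) : A) * f i := by
          rw [GradedRing.proj_apply]
          conv_lhs => rw [show n = (n - deg i) + deg i by ring]
          exact DirectSum.coe_decompose_mul_add_of_right_mem 𝒜 (hf i)
        rw [hi, pow_succ]
        refine Ideal.mul_mem_mul (ih (n - deg i) ?_ _ (DirectSum.decompose 𝒜 (c i) (n - deg i)).2) (Ideal.subset_span ⟨i, rfl⟩)
        have h1 := hD i
        have h2 : ((k + 1 : ℕ) : ℤ) * max D 0 = (k : ℤ) * max D 0 + max D 0 := by push_cast; ring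
        have h3 := le_max_left D 0
        omega
    exact ⟨(k : ℤ) * max D 0 + 1, fun n hn r hr => hk r (key k n (by omega) r hr)⟩
  tfae_have 3 → 2 := by
    rintro ⟨s, hs⟩
    have hpow : ∀ n : ℕ, (𝒜 d) ^ n ≤ if n = 0 then (𝒜 d) ^ n else 𝒜 (n * d) := by
      intro n
      induction n with
      | zero => simp
      | succ n ih =>
        rcases Nat.eq_zero_or_pos n with rfl | hn
        · simp
        · rw [if_neg (by omega)] at ih
          rw [if_neg (Nat.succ_ne_zero n), pow_succ]
          refine Submodule.mul_le.2 fun p hp q hq => ?_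
          rw [show ((n + 1 : ℕ) : ℤ) * d = (n : ℤ) * d + d by push_cast; ring]
          exact SetLike.GradedMul.mul_mem (ih hp) hq
    refine ⟨s.toNat + 1, fun n hn r hr => hs ((n : ℤ) * d) ?_ r ?_⟩
    · have : (n : ℤ) ≤ n * d := le_mul_of_one_le_right (by positivity) hd
      omega
    · have := hpow n hr
      rwa [if_neg (by omega)] at this
  tfae_have 2 → 1 := by
    rintro ⟨n₀, h⟩
    have hle : J ≤ (Submodule.span A {x}).annihilator.radical := Ideal.span_le.2 (by
      rintro _ ⟨i, rfl⟩
      obtain ⟨e, he⟩ := hdvd i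
      have he0 : 0 ≤ e := by
        by_contra hlt
        have := mul_neg_of_pos_of_neg (hdeg i) (not_le.1 hlt)
        omega
      lift e to ℕ using he0
      refine ⟨e * n₀, (Submodule.mem_annihilator_span_singleton x _).2 (h n₀ le_rfl _ ?_)⟩
      rw [pow_mul]
      refine Submodule.pow_mem_pow _ ?_ n₀
      have hp : f i ^ e ∈ 𝒜 (e • deg i) := SetLike.pow_mem_graded e (hf i)
      rwa [nsmul_eq_mul, mul_comm, ← he] at hp)
    obtain ⟨N, hN⟩ := Ideal.exists_pow_le_of_le_radical_of_fg hle (Submodule.fg_span (Set.finite_range f))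
    exact ⟨N, fun r hr => (Submodule.mem_annihilator_span_singleton x r).1 (hN hr)⟩
  tfae_finish

end Groth.Agent.S13664
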