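import Groth.Statements.S13665
import Mathlib
-- import your own Groth.Agent.* helpers here

set_option autoImplicit false
universe u
open GrRing

namespace Groth.Agent.S13665

section
open DirectSum

variable {R A : Type u} [CommRing R] [CommRing A] [Algebra R A] (𝒜 : ℤ → Submodule R A) [GradedAlgebra 𝒜]

omit [GradedAlgebra 𝒜] in
theorem finite_sub_span {A : Type u} [CommRing A] {S : Set A} (h : (Ideal.span S).FG) :
    ∃ t : Finset A, ↑t ⊆ S ∧ Ideal.span S = Ideal.span (↑t : Set A) := by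
  classical
  obtain ⟨g, hg⟩ := h
  have hx : ∀ x ∈ g, ∃ t : Finset A, ↑t ⊆ S ∧ x ∈ Ideal.span (↑t : Set A) := fun x hx =>
    Submodule.mem_span_finite_of_mem_span (hg ▸ Submodule.subset_span hx : x ∈ Ideal.span S)
  choose! t ht hxt using hx
  refine ⟨g.biUnion t, fun a ha => ?_, le_antisymm (hg.symm.le.trans (Submodule.span_le.2 fun x hx => ?_)) (Ideal.span_mono fun a ha => ?_)⟩
  · obtain ⟨x, hx, hxa⟩ := Finset.mem_biUnion.1 (Finset.mem_coe.1 ha)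
    exact ht x hx hxa
  · exact Ideal.span_mono (Finset.coe_subset.2 (Finset.subset_biUnion_of_mem t hx)) (hxt x hx)
  · obtain ⟨x, hx, hxa⟩ := Finset.mem_biUnion.1 (Finset.mem_coe.1 ha)
    exact ht x hx hxa

theorem homog_coeffs {n : ℕ} (f : Fin n → A) (d : Fin n → ℤ) (hf : ∀ i, f i ∈ 𝒜 (d i)) {m : ℤ} {x : A}
    (hx : x ∈ 𝒜 m) (hspan : x ∈ Ideal.span (Set.range f)) :
    ∃ c : Fin n → A, (∀ i, c i ∈ 𝒜 (m - d i)) ∧ x = ∑ i, c i * f i := by
  classical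
  obtain ⟨c, hc⟩ := (Submodule.mem_span_range_iff_exists_fun A).1 hspan
  refine ⟨fun i => (decompose 𝒜 (c i) (m - d i) : A), fun i => SetLike.coe_mem _, ?_⟩
  have h : GradedRing.proj 𝒜 m x = ∑ i, GradedRing.proj 𝒜 m (c i * f i) := by
    rw [← map_sum]
    exact congrArg _ hc.symm
  rw [GradedRing.proj_apply, decompose_of_mem_same 𝒜 hx] at h
  refine h.trans (Finset.sum_congr rfl fun i _ => ?_)
  rw [GradedRing.proj_apply]
  have := coe_decompose_mul_add_of_right_mem 𝒜 (a := c i) (i := m - d i) (hf i)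
  rwa [sub_add_cancel] at this

variable (hI : ∀ I : Ideal A, I.IsHomogeneous 𝒜 → I.FG)

include hI in
theorem exists_gens (S : Set A) (hS : ∀ a ∈ S, SetLike.IsHomogeneousElem 𝒜 a) :
    ∃ (n : ℕ) (f : Fin n → A), (∀ i, f i ∈ S) ∧ ∀ a ∈ S, a ∈ Ideal.span (Set.range f) := by
  obtain ⟨t, ht, he⟩ := finite_sub_span (hI _ (Ideal.homogeneous_span 𝒜 S hS))
  refine ⟨t.card, fun i => (t.equivFin.symm i).1, fun i => ht (t.equivFin.symm i).2, fun a ha => ?_⟩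
  have : Set.range (fun i => ((t.equivFin.symm i).1 : A)) = (↑t : Set A) := by
    ext a
    exact ⟨fun ⟨i, hi⟩ => hi ▸ (t.equivFin.symm i).2, fun ha => ⟨t.equivFin ⟨a, ha⟩, by simp⟩⟩
  rw [this, ← he]
  exact Ideal.subset_span ha

include hI in
theorem zero_noeth : IsNoetherianRing (𝒜 0) := by
  classical
  rw [isNoetherianRing_iff_ideal_fg]
  intro J
  let S : Set A := (fun a : 𝒜 0 => (a : A)) '' (J : Set (𝒜 0))
  obtain ⟨n, f, hfS, hf⟩ := exists_gens 𝒜 hI S (by rintro _ ⟨a, -, rfl⟩; exact ⟨0, a.2⟩)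
  choose g hgJ hgf using hfS
  refine Submodule.fg_iff_exists_fin_generating_family.2 ⟨n, g, le_antisymm (Submodule.span_le.2 ?_) fun a ha => ?_⟩
  · rintro _ ⟨i, rfl⟩; exact hgJ i
  · obtain ⟨c, hc, e⟩ := homog_coeffs 𝒜 f (fun _ => 0) (fun i => hgf i ▸ (g i).2) a.2 (hf _ ⟨a, ha, rfl⟩)
    refine (Submodule.mem_span_range_iff_exists_fun (𝒜 0)).2 ⟨fun i => ⟨c i, by simpa using hc i⟩, ?_⟩
    refine Subtype.ext ?_
    rw [e]
    simp [← hgf]

include hI in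
theorem side (s : ℤ) (hs : s ≠ 0) :
    (Algebra.adjoin (𝒜 0) {a : A | ∃ n : ℕ, a ∈ 𝒜 (s * n)}).FG := by
  classical
  obtain ⟨N, f, hfS, hf⟩ := exists_gens 𝒜 hI {a : A | ∃ n : ℕ, 1 ≤ n ∧ a ∈ 𝒜 (s * n)}
    (fun a ⟨n, _, hn⟩ => ⟨_, hn⟩)
  choose d hd1 hd using hfS
  let D := ∑ i, d i
  have hdeg : ∀ n : ℕ, ∃ t : Finset A, (∀ a ∈ t, a ∈ 𝒜 (s * n)) ∧
      ∀ x ∈ 𝒜 (s * n), x ∈ Algebra.adjoin (𝒜 0) (↑t : Set A) := by
    intro n
    obtain ⟨M, g, hg, hgspan⟩ := exists_gens 𝒜 hI (𝒜 (s * n) : Set A) (fun a ha => ⟨_, ha⟩)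
    refine ⟨Finset.univ.image g, fun a ha => ?_, fun x hx => ?_⟩
    · obtain ⟨i, -, rfl⟩ := Finset.mem_image.1 ha
      exact hg i
    · obtain ⟨c, hc, e⟩ := homog_coeffs 𝒜 g (fun _ => s * n) hg hx (hgspan x hx)
      rw [e]
      refine sum_mem fun i _ => mul_mem ?_ (Algebra.subset_adjoin (by simp))
      exact Subalgebra.algebraMap_mem (Algebra.adjoin (𝒜 0) _) (⟨c i, by simpa using hc i⟩ : 𝒜 0)
  choose t htmem ht using hdeg
  let G : Finset A := (Finset.range (D + 1)).biUnion t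
  refine ⟨G, le_antisymm (Algebra.adjoin_le fun a ha => ?_) (Algebra.adjoin_le ?_)⟩
  · obtain ⟨n, hn, han⟩ := Finset.mem_biUnion.1 (Finset.mem_coe.1 ha)
    exact Algebra.subset_adjoin ⟨n, htmem n a han⟩
  rintro x ⟨n, hx⟩
  induction n using Nat.strong_induction_on generalizing x with
  | _ n ih =>
    by_cases hn : n ≤ D
    · exact Algebra.adjoin_mono (Finset.coe_subset.2 (Finset.subset_biUnion_of_mem t
        (Finset.mem_range.2 (Nat.lt_succ_of_le hn)))) (ht n x hx)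
    obtain ⟨c, hc, e⟩ := homog_coeffs 𝒜 f (fun i => s * d i) hd hx (hf x ⟨n, by omega, hx⟩)
    rw [e]
    refine sum_mem fun i _ => mul_mem ?_ ?_
    · have hdi : d i ≤ D := Finset.single_le_sum (fun j _ => Nat.zero_le (d j)) (Finset.mem_univ i)
      refine ih (n - d i) (by have := hd1 i; omega) ?_
      have := hc i
      rw [← mul_sub, ← Nat.cast_sub (by omega : d i ≤ n)] at this
      exact this
    · have hdi : d i ≤ D := Finset.single_le_sum (fun j _ => Nat.zero_le (d j)) (Finset.mem_univ i)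
      exact ih (d i) (by omega) (hd i)

end

/-- For a commutative ring A graded by the integers, with degree-zero subring A_0, the following are
equivalent: A is Noetherian; each homogeneous ideal of A has a finite generating set; A_0 is
Noetherian and the subalgebras A_{≥0}, A_{≤0} are each of finite type over A_0; A_0 is Noetherian
and A is an A_0-algebra of finite type. -/
theorem result {R A : Type u} [CommRing R] [CommRing A] [Algebra R A]
    (𝒜 : ℤ → Submodule R A) [GradedAlgebra 𝒜] :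
    [IsNoetherianRing A,
     ∀ I : Ideal A, I.IsHomogeneous 𝒜 → I.FG,
     IsNoetherianRing (𝒜 0) ∧ (Algebra.adjoin (𝒜 0) {a : A | ∃ n : ℤ, 0 ≤ n ∧ a ∈ 𝒜 n}).FG ∧
       (Algebra.adjoin (𝒜 0) {a : A | ∃ n : ℤ, n ≤ 0 ∧ a ∈ 𝒜 n}).FG,
     IsNoetherianRing (𝒜 0) ∧ Algebra.FiniteType (𝒜 0) A].TFAE := by
  classical
  have hp : {a : A | ∃ n : ℤ, 0 ≤ n ∧ a ∈ 𝒜 n} = {a : A | ∃ n : ℕ, a ∈ 𝒜 (1 * n)} := by
    ext a
    refine ⟨fun ⟨n, hn, ha⟩ => ⟨n.toNat, by rwa [one_mul, Int.toNat_of_nonneg hn]⟩,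
      fun ⟨n, ha⟩ => ⟨n, Int.natCast_nonneg n, by rwa [one_mul] at ha⟩⟩
  have hm : {a : A | ∃ n : ℤ, n ≤ 0 ∧ a ∈ 𝒜 n} = {a : A | ∃ n : ℕ, a ∈ 𝒜 (-1 * n)} := by
    ext a
    refine ⟨fun ⟨n, hn, ha⟩ => ⟨(-n).toNat, by rwa [Int.toNat_of_nonneg (by omega), neg_one_mul, neg_neg]⟩,
      fun ⟨n, ha⟩ => ⟨-1 * n, by omega, ha⟩⟩
  tfae_have 1 → 2 := fun h I _ => IsNoetherian.noetherian I
  tfae_have 2 → 3 := fun h => ⟨zero_noeth 𝒜 h, hp ▸ side 𝒜 h 1 one_ne_zero, hm ▸ side 𝒜 h (-1) (by omega)⟩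
  tfae_have 3 → 4 := by
    rintro ⟨h0, hP, hN⟩
    refine ⟨h0, ⟨?_⟩⟩
    have : (⊤ : Subalgebra (𝒜 0) A) = Algebra.adjoin (𝒜 0) {a : A | ∃ n : ℤ, 0 ≤ n ∧ a ∈ 𝒜 n} ⊔
        Algebra.adjoin (𝒜 0) {a : A | ∃ n : ℤ, n ≤ 0 ∧ a ∈ 𝒜 n} := by
      refine (eq_top_iff.2 fun x hx => ?_).symm
      clear hx
      rw [← DirectSum.sum_support_decompose 𝒜 x]
      refine sum_mem fun i _ => ?_
      rcases le_total 0 i with hi | hi
      · exact (le_sup_left : _ ≤ Algebra.adjoin (𝒜 0) _ ⊔ _) (Algebra.subset_adjoin ⟨i, hi, SetLike.coe_mem _⟩)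
      · exact (le_sup_right : _ ≤ _ ⊔ Algebra.adjoin (𝒜 0) _) (Algebra.subset_adjoin ⟨i, hi, SetLike.coe_mem _⟩)
    rw [this]
    exact hP.sup hN
  tfae_have 4 → 1 := by
    rintro ⟨h0, h⟩
    exact Algebra.FiniteType.isNoetherianRing (𝒜 0) A
  tfae_finish

end Groth.Agent.S13665
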