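import Mathlib
import Groth.Statements.S13682
-- import your own Groth.Agent.* helpers here

set_option autoImplicit false
universe u v w
open scoped BigOperators
open BTGrp

namespace Groth.Agent.S13682

/-- Let A be a commutative ring, α ∈ A a non-zero-divisor, M_1, …, M_r and N modules over A and φ : M_1
× ⋯ × M_r → N an A-multilinear map. Let n be a natural number and let y_{i,j} (j < n) and w_{i,j} (j
≤ n) be elements of M_i with w_{i,j+1} = w_{i,j} + α y_{i,j} for all i and all j < n. Then Σ_i
Σ_{j<n} φ(w_{1,j+1}, …, w_{i-1,j+1}, y_{i,j}, w_{i+1,j}, …, w_{r,j}) = Σ_i Σ_{j<n} φ(w_{1,n}, …,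
w_{i-1,n}, y_{i,j}, w_{i+1,0}, …, w_{r,0}). (The published statement takes n ≥ 1; for n = 0 both
sides are empty sums. The families y, w are indexed by all natural numbers here and only the indices
named above enter.) -/
theorem result {A : Type u} [CommRing A] (α : A) (hα : α ∈ nonZeroDivisors A)
    {r : ℕ} (M : Fin r → Type v) (N : Type w) [∀ i, AddCommGroup (M i)] [∀ i, Module A (M i)]
    [AddCommGroup N] [Module A N] (φ : MultilinearMap A M N) (n : ℕ)
    (y w : ∀ i, ℕ → M i) (hw : ∀ i, ∀ j < n, w i (j + 1) = w i j + α • y i j) :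
    (∑ i : Fin r, ∑ j ∈ Finset.range n,
        φ (fun k => if k < i then w k (j + 1) else if k = i then y k j else w k j)) =
      ∑ i : Fin r, ∑ j ∈ Finset.range n,
        φ (fun k => if k < i then w k n else if k = i then y k j else w k 0) := by
  classical
  have tele : ∀ (r : ℕ) (a b : Fin r → A), (∑ i, ∏ k, (if k < i then a k else if k = i then a k - b k else b k)) =
      (∏ k, a k) - ∏ k, b k := by
    intro r
    induction r with
    | zero => intro a b; simp
    | succ r ih =>
      intro a b
      rw [Fin.sum_univ_succ]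
      simp only [Fin.prod_univ_succ, Fin.succ_ne_zero, if_false, Fin.not_lt_zero, if_true, Fin.succ_pos,
        Fin.succ_lt_succ_iff, Fin.succ_inj]
      rw [← Finset.mul_sum, ih (fun k => a k.succ) (fun k => b k.succ)]
      ring
  let g : ∀ i, Option (Fin n) → M i := fun i o => o.elim (w i 0) (fun l => y i l)
  let W : ℕ → Option (Fin n) → A := fun j o => o.elim 1 (fun l => if (l : ℕ) < j then α else 0)
  let Y : ℕ → Option (Fin n) → A := fun j o => o.elim 0 (fun l => if (l : ℕ) = j then 1 else 0)
  have hY : ∀ i, ∀ j < n, y i j = ∑ t, Y j t • g i t := by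
    intro i j hj
    rw [Fintype.sum_option, Finset.sum_eq_single (⟨j, hj⟩ : Fin n)]
    · simp [Y, g]
    · intro l _ hl
      have hne : ¬ (l : ℕ) = j := fun h => hl (Fin.ext h)
      simp [Y, hne]
    · simp
  have hWs : ∀ j t, W (j + 1) t = W j t + α * Y j t := by
    rintro j (_ | l)
    · simp [W, Y]
    · rcases lt_trichotomy (l : ℕ) j with h | h | h
      · simp [W, Y, h, h.ne, Nat.lt_succ_of_lt h]
      · simp [W, Y, h]
      · simp [W, Y, h.ne', not_lt.2 h.le, not_lt.2 (Nat.succ_le_of_lt h)]
  have hW : ∀ i, ∀ j ≤ n, w i j = ∑ t, W j t • g i t := by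
    intro i j hj
    induction j with
    | zero => rw [Fintype.sum_option]; simp [W, g]
    | succ j ih =>
      rw [hw i j hj, ih (Nat.le_of_succ_le hj), hY i j hj, Finset.smul_sum, ← Finset.sum_add_distrib]
      exact Finset.sum_congr rfl fun t _ => by rw [hWs, add_smul, mul_smul]
  have expand : ∀ (c : Fin r → Option (Fin n) → A) (v : ∀ k, M k), (∀ k, v k = ∑ t, c k t • g k t) →
      φ v = ∑ s : Fin r → Option (Fin n), (∏ k, c k (s k)) • φ (fun k => g k (s k)) := by
    intro c v hv
    rw [funext hv, MultilinearMap.map_sum]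
    exact Finset.sum_congr rfl fun s _ => φ.map_smul_univ (fun k => c k (s k)) (fun k => g k (s k))
  let L : Fin r → ℕ → (Fin r → Option (Fin n) → A) := fun i j k =>
    if k < i then W (j + 1) else if k = i then Y j else W j
  let R : Fin r → ℕ → (Fin r → Option (Fin n) → A) := fun i j k =>
    if k < i then W n else if k = i then Y j else W 0
  have e1 : ∀ i, ∀ j ∈ Finset.range n, φ (fun k => if k < i then w k (j + 1) else if k = i then y k j else w k j) =
      ∑ s : Fin r → Option (Fin n), (∏ k, L i j k (s k)) • φ (fun k => g k (s k)) := by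
    intro i j hj
    rw [Finset.mem_range] at hj
    refine expand _ _ fun k => ?_
    dsimp only [L]
    split_ifs <;> first | exact hW k _ hj | exact hY k j hj | exact hW k _ hj.le
  have e2 : ∀ i, ∀ j ∈ Finset.range n, φ (fun k => if k < i then w k n else if k = i then y k j else w k 0) =
      ∑ s : Fin r → Option (Fin n), (∏ k, R i j k (s k)) • φ (fun k => g k (s k)) := by
    intro i j hj
    rw [Finset.mem_range] at hj
    refine expand _ _ fun k => ?_
    dsimp only [R]
    split_ifs <;> first | exact hW k _ le_rfl | exact hY k j hj | exact hW k 0 (Nat.zero_le _)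
  rw [Finset.sum_congr rfl fun i _ => Finset.sum_congr rfl (e1 i),
    Finset.sum_congr rfl fun i _ => Finset.sum_congr rfl (e2 i)]
  simp only [Finset.sum_comm (s := Finset.range n) (t := (Finset.univ : Finset (Fin r → Option (Fin n))))]
  rw [Finset.sum_comm]
  conv_rhs => rw [Finset.sum_comm]
  refine Finset.sum_congr rfl fun s _ => ?_
  simp only [← Finset.sum_smul]
  congr 1
  rw [← mul_cancel_left_mem_nonZeroDivisors hα]
  have hd : ∀ (i : Fin r) (j : ℕ) (p q : Fin r → A),
      α * ∏ k, (if k < i then p k else if k = i then Y j (s k) else q k) =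
        ∏ k, (if k < i then p k else if k = i then α * Y j (s k) else q k) := by
    intro i j p q
    rw [← Finset.mul_prod_erase _ _ (Finset.mem_univ i), ← Finset.mul_prod_erase _ _ (Finset.mem_univ i)]
    simp only [lt_irrefl, if_false, if_true, ← mul_assoc]
    congr 1
    refine Finset.prod_congr rfl fun k hk => ?_
    simp [Finset.ne_of_mem_erase hk]
  have hsum : ∀ t, ∑ j ∈ Finset.range n, α * Y j t = W n t - W 0 t := fun t => by
    rw [← Finset.sum_range_sub (fun j => W j t)]
    exact Finset.sum_congr rfl fun j _ => by rw [hWs]; ring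
  have lhs : α * ∑ i : Fin r, ∑ j ∈ Finset.range n, ∏ k, L i j k (s k) =
      (∏ k, W n (s k)) - ∏ k, W 0 (s k) := by
    rw [Finset.sum_comm, ← Finset.sum_range_sub (fun j => ∏ k, W j (s k)), Finset.mul_sum]
    refine Finset.sum_congr rfl fun j _ => ?_
    rw [Finset.mul_sum, ← tele r (fun k => W (j + 1) (s k)) (fun k => W j (s k))]
    refine Finset.sum_congr rfl fun i _ => ?_
    have h4 : ∀ k, L i j k (s k) =
        if k < i then W (j + 1) (s k) else if k = i then Y j (s k) else W j (s k) := fun k => by
      simp only [L]; split_ifs <;> rfl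
    simp only [h4]
    rw [hd i j]
    refine Finset.prod_congr rfl fun k _ => ?_
    split_ifs <;> first | rfl | (rw [hWs]; ring)
  have rhs : α * ∑ i : Fin r, ∑ j ∈ Finset.range n, ∏ k, R i j k (s k) =
      (∏ k, W n (s k)) - ∏ k, W 0 (s k) := by
    rw [← tele r (fun k => W n (s k)) (fun k => W 0 (s k)), Finset.mul_sum]
    refine Finset.sum_congr rfl fun i _ => ?_
    rw [Finset.mul_sum]
    have hR : ∀ j, α * ∏ k, R i j k (s k) =
        (α * Y j (s i)) * ∏ k ∈ Finset.univ.erase i, (if k < i then W n (s k) else W 0 (s k)) := by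
      intro j
      rw [← Finset.mul_prod_erase _ _ (Finset.mem_univ i)]
      simp only [R, lt_irrefl, if_false, if_true, ← mul_assoc]
      congr 1
      refine Finset.prod_congr rfl fun k hk => ?_
      simp [Finset.ne_of_mem_erase hk]
      split_ifs <;> rfl
    rw [Finset.sum_congr rfl fun j _ => hR j, ← Finset.sum_mul, hsum, ← Finset.mul_prod_erase _ _ (Finset.mem_univ i)]
    simp only [lt_irrefl, if_false, if_true]
    congr 1
    refine Finset.prod_congr rfl fun k hk => ?_
    simp [Finset.ne_of_mem_erase hk]
  rw [lhs, rhs]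

end Groth.Agent.S13682
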