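import Groth.Statements.S13685
import Groth.Agent.DispTwenty.VSharp
import Mathlib.LinearAlgebra.ExteriorPower.Basic
-- import your own Groth.Agent.* helpers here

set_option autoImplicit false
universe u v w
open Disp

namespace Groth.Agent.S13685

theorem universal_extPow {p : ℕ} [Fact p.Prime] {R : Type u} [CommRing R]
    {P : Type v} [AddCommGroup P] [Module (WittVector p R) P] {D : W4c1extbt610.Display3n p R P}
    {r : ℕ} {E : W4c1extbt610.Display3n p R (⋀[WittVector p R]^r P)} (hE : W4c1extbt610.IsExtPow D r E) :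
    W4c1extbt610.IsAltMult D E (exteriorPower.ιMulti (WittVector p R) r) ∧
      ∀ (P' : Type w) [AddCommGroup P'] [Module (WittVector p R) P'] (D' : W4c1extbt610.Display3n p R P')
        (φ : P [⋀^Fin r]→ₗ[WittVector p R] P'), W4c1extbt610.IsAltMult D D' φ →
        ∃! ψ : ⋀[WittVector p R]^r P →ₗ[WittVector p R] P',
          W4c1extbt610.IsHom E D' ψ ∧ ψ.compAlternatingMap (exteriorPower.ιMulti (WittVector p R) r) = φ := by
  have hmem : ∀ q : Fin r → D.Q, exteriorPower.ιMulti (WittVector p R) r (fun i => (q i : P)) ∈ E.Q :=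
    fun q => hE.1 ▸ Submodule.subset_span ⟨q, rfl⟩
  have hF : ∀ {M : Type (max u v)} [AddCommGroup M] [Module (WittVector p R) M]
      (E : W4c1extbt610.Display3n p R M) (x : M), E.F x = E.Vinv ⟨WittVector.verschiebung (1 : WittVector p R) • x,
        Groth.Agent.DispTwenty.mem_Q_smul E (W4c1extbt610.verschiebung_mem_IV p R 1) x⟩ := fun E x => by
    rw [Groth.Agent.DispTwenty.Vinv_V_smul, one_smul]
  refine ⟨⟨hmem, fun q => hE.2 q _, fun i x q => ?_⟩, fun P' _ _ D' φ hφ => ?_⟩
  · have hq : ∀ j, Function.update (fun j => (q j : P)) i (WittVector.verschiebung (1 : WittVector p R) • x) j ∈ D.Q := fun j => by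
      rcases eq_or_ne j i with rfl | hj
      · rw [Function.update_self]
        exact Groth.Agent.DispTwenty.mem_Q_smul D (W4c1extbt610.verschiebung_mem_IV p R 1) x
      · rw [Function.update_of_ne hj]
        exact (q j).2
    have h1 := hE.2 (fun j => ⟨_, hq j⟩) (hmem _)
    rw [hF]
    refine (congrArg E.Vinv (Subtype.ext ((AlternatingMap.map_update_smul _ _ _ _ _).symm))).trans (h1.trans ?_)
    congr 1
    funext j
    rcases eq_or_ne j i with rfl | hj
    · conv_rhs => rw [Function.update_self]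
      refine (congrArg D.Vinv (Subtype.ext ((Function.update_self (f := fun j => (q j : P)) _ _)))).trans
        ((Groth.Agent.DispTwenty.Vinv_V_smul D 1 x
          (Groth.Agent.DispTwenty.mem_Q_smul D (W4c1extbt610.verschiebung_mem_IV p R 1) x)).trans (one_smul _ _))
    · conv_rhs => rw [Function.update_of_ne hj]
      exact congrArg D.Vinv (Subtype.ext (Function.update_of_ne hj _ (fun j => (q j : P))))
  · set ψ := exteriorPower.alternatingMapLinearEquiv φ with hψ
    have hψa : ∀ a, ψ (exteriorPower.ιMulti _ r a) = φ a := exteriorPower.alternatingMapLinearEquiv_apply_ιMulti φ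
    have key : ∀ y ∈ E.Q, ∃ h : ψ y ∈ D'.Q, ∀ hy : y ∈ E.Q, ψ (E.Vinv ⟨y, hy⟩) = D'.Vinv ⟨ψ y, h⟩ := by
      intro y hy
      have hy0 := hy
      rw [hE.1] at hy0
      clear hy
      induction hy0 using Submodule.span_induction with
      | mem z hz =>
        obtain ⟨q, rfl⟩ := hz
        refine ⟨hψa _ ▸ hφ.mapsTo q, fun hy => ?_⟩
        rw [hE.2 q hy, hψa]
        exact (hφ.vCond q).symm.trans (congrArg D'.Vinv (Subtype.ext (hψa _).symm))
      | zero =>
        refine ⟨(map_zero ψ).symm ▸ zero_mem _, fun hy => ?_⟩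
        rw [show (⟨0, hy⟩ : E.Q) = 0 from rfl, map_zero]
        exact (map_zero ψ).trans ((map_zero D'.Vinv).symm.trans (congrArg D'.Vinv (Subtype.ext (map_zero ψ).symm)))
      | add a b ha hb iha ihb =>
        obtain ⟨h1, e1⟩ := iha
        obtain ⟨h2, e2⟩ := ihb
        refine ⟨by rw [map_add]; exact add_mem h1 h2, fun hy => ?_⟩
        rw [show (⟨a + b, hy⟩ : E.Q) = ⟨a, hE.1 ▸ ha⟩ + ⟨b, hE.1 ▸ hb⟩ from rfl, map_add, map_add, e1, e2,
          ← map_add]
        exact congrArg D'.Vinv (Subtype.ext (map_add ψ a b).symm)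
      | smul c a ha iha =>
        obtain ⟨h1, e1⟩ := iha
        refine ⟨by rw [map_smul]; exact D'.Q.smul_mem _ h1, fun hy => ?_⟩
        rw [show (⟨c • a, hy⟩ : E.Q) = c • ⟨a, hE.1 ▸ ha⟩ from rfl, map_smulₛₗ, map_smul, e1, ← map_smulₛₗ]
        exact congrArg D'.Vinv (Subtype.ext (map_smul ψ c a).symm)
    refine ⟨ψ, ⟨⟨fun y hy => (key y hy).1, fun x => ?_, fun y => (key y y.2).2 y.2⟩,
      exteriorPower.alternatingMapLinearEquiv_comp_ιMulti φ⟩, fun ψ' h' => ?_⟩
    · have hx := Groth.Agent.DispTwenty.mem_Q_smul E (W4c1extbt610.verschiebung_mem_IV p R 1) x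
      obtain ⟨h, he⟩ := key _ hx
      rw [hF, he hx, ← one_smul (WittVector p R) (D'.F (ψ x)),
        ← Groth.Agent.DispTwenty.Vinv_V_smul D' 1 (ψ x)
          (Groth.Agent.DispTwenty.mem_Q_smul D' (W4c1extbt610.verschiebung_mem_IV p R 1) _)]
      exact congrArg D'.Vinv (Subtype.ext (map_smul ψ _ x))
    · exact exteriorPower.linearMap_ext (h'.2.trans (exteriorPower.alternatingMapLinearEquiv_comp_ιMulti φ).symm)

/-- Let p be a prime, R a commutative ring, W its ring of p-typical Witt vectors, D = (P, Q, F, V⁻¹) a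
3n-display over R with a normal decomposition P = L ⊕ T, Q = L + I_R T in which T is free of rank
one over W, and E the 3n-display structure on ⋀^r P whose distinguished submodule is spanned by the
wedges of elements of Q and whose V⁻¹ sends q_1 ∧ ⋯ ∧ q_r to V⁻¹q_1 ∧ ⋯ ∧ V⁻¹q_r. Then the wedge map
λ : P^r → ⋀^r P is an alternating multilinear morphism of 3n-displays from D to E, and for every
3n-display D' = (P', Q', F', V'⁻¹) and every alternating multilinear morphism of 3n-displays φ : P^r
→ P' (W-multilinear alternating, φ(Q^r) ⊆ Q', V'⁻¹(φ(q)) = φ(V⁻¹q_1, …, V⁻¹q_r), F'(φ(q_1, …, x_i,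
…, q_r)) = φ(V⁻¹q_1, …, F x_i, …, V⁻¹q_r)) there is a unique W-linear ψ : ⋀^r P → P' that is a
morphism of 3n-displays from E to D' (ψ maps E's submodule into Q' and commutes with F and V⁻¹) with
ψ ∘ λ = φ. (The published statement has T projective of rank one; this row takes T free of rank
one.) -/
theorem result (p : ℕ) [Fact p.Prime] (R : Type u) [CommRing R]
    (P : Type v) [AddCommGroup P] [Module (WittVector p R) P] (D : W4c1extbt610.Display3n p R P)
    (hT : ∃ L T : Submodule (WittVector p R) P, IsCompl L T ∧ D.Q = L ⊔ W4c1extbt610.IV p R • T ∧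
      Nonempty (T ≃ₗ[WittVector p R] WittVector p R))
    (r : ℕ) (E : W4c1extbt610.Display3n p R (⋀[WittVector p R]^r P)) (hE : W4c1extbt610.IsExtPow D r E) :
    W4c1extbt610.IsAltMult D E (exteriorPower.ιMulti (WittVector p R) r) ∧
      ∀ (P' : Type w) [AddCommGroup P'] [Module (WittVector p R) P'] (D' : W4c1extbt610.Display3n p R P')
        (φ : P [⋀^Fin r]→ₗ[WittVector p R] P'), W4c1extbt610.IsAltMult D D' φ →
        ∃! ψ : ⋀[WittVector p R]^r P →ₗ[WittVector p R] P',
          W4c1extbt610.IsHom E D' ψ ∧ ψ.compAlternatingMap (exteriorPower.ιMulti (WittVector p R) r) = φ := by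
  exact universal_extPow hE

end Groth.Agent.S13685
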