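import Groth.Statements.S13686
import Groth.Agent.DispExt.Exterior
-- import your own Groth.Agent.* helpers here

set_option autoImplicit false
universe u v
open Disp

namespace Groth.Agent.S13686

theorem exists_normal_extPow {p : ℕ} [Fact p.Prime] {R : Type u} [CommRing R] [Nontrivial (WittVector p R)]
    {P : Type v} [AddCommGroup P] [Module (WittVector p R) P] {D : W4c1extbt610.Display3n p R P} (m : ℕ)
    (L T : Submodule (WittVector p R) P) (hLT : IsCompl L T) (hQ : D.Q = L ⊔ W4c1extbt610.IV p R • T)
    (hL : Module.Free (WittVector p R) L) (hLr : Module.finrank (WittVector p R) L = m)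
    (hT : Nonempty (T ≃ₗ[WittVector p R] WittVector p R))
    (r : ℕ) (hr : 1 ≤ r) {E : W4c1extbt610.Display3n p R (⋀[WittVector p R]^r P)} (hE : W4c1extbt610.IsExtPow D r E) :
    ∃ L' T' : Submodule (WittVector p R) (⋀[WittVector p R]^r P), IsCompl L' T' ∧
      E.Q = L' ⊔ W4c1extbt610.IV p R • T' ∧ Module.Free (WittVector p R) T' ∧
      Module.finrank (WittVector p R) T' = m.choose (r - 1) := by
  classical
  obtain ⟨eT⟩ := hT
  let t : P := (eT.symm 1 : P)
  have ht : T = Submodule.span (WittVector p R) {t} := by
    refine le_antisymm (fun x hx => Submodule.mem_span_singleton.2 ⟨eT ⟨x, hx⟩, ?_⟩)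
      (Submodule.span_le.2 (by simp [t]))
    rw [← Submodule.coe_smul, ← map_smul, smul_eq_mul, mul_one, eT.symm_apply_apply]
  obtain ⟨S, h1, h2, h3, h4⟩ := Groth.Agent.DispExt.exists_split_rank_one hLT hQ t ht
  set πe := Groth.Agent.DispExt.extT S r
  set πl := Groth.Agent.DispExt.extL S r
  have hTT : ∀ z, πe (πe z) = πe z := fun z => by
    simp [πe, Groth.Agent.DispExt.extT, Groth.Agent.DispExt.extL_extL]
  have hTL : ∀ z, πe (πl z) = 0 := fun z => by
    simp [πe, πl, Groth.Agent.DispExt.extT, Groth.Agent.DispExt.extL_extL]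
  refine ⟨LinearMap.range πl, LinearMap.range πe, ⟨?_, ?_⟩, hE.1.trans (Groth.Agent.DispExt.Q_eq S h1 r).symm, ?_⟩
  · rw [Submodule.disjoint_def]
    rintro _ ⟨a, rfl⟩ ⟨b, hb⟩
    rw [← hb, ← hTT, hb, hTL]
  · rw [codisjoint_iff, eq_top_iff]
    intro z _
    rw [show z = πl z + πe z by simp [πl, πe, Groth.Agent.DispExt.extT]]
    exact Submodule.add_mem_sup ⟨z, rfl⟩ ⟨z, rfl⟩
  haveI := D.finite
  haveI : Module.Finite (WittVector p R) L :=
    Module.Finite.of_surjective (Submodule.projectionOnto L T hLT) (Submodule.projectionOnto_surjective hLT)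
  let bL : Module.Basis (Fin m) (WittVector p R) L := Module.finBasisOfFinrankEq _ _ hLr
  let bT : Module.Basis (Fin 1) (WittVector p R) T := (Module.Basis.singleton (Fin 1) (WittVector p R)).map eT.symm
  let e : Module.Basis (Fin (m + 1)) (WittVector p R) P :=
    ((bL.prod bT).map (Submodule.prodEquivOfIsCompl L T hLT)).reindex finSumFinEquiv
  have hlast : S.πL (e (Fin.last m)) = 0 := by
    have : e (Fin.last m) = t := by
      rw [show Fin.last m = finSumFinEquiv (Sum.inr (0 : Fin 1)) from Fin.ext (by simp)]
      simp [e, bT, t]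
    rw [this, h2]
  have hother : ∀ i, i ≠ Fin.last m → S.πL (e i) = e i := by
    intro i hi
    obtain ⟨j, rfl⟩ := Fin.exists_castSucc_eq.2 hi
    rw [show j.castSucc = finSumFinEquiv (Sum.inl j) from Fin.ext (by simp)]
    refine h4 _ ?_
    simp [e]
  let B := Module.Basis.exteriorPower r e
  have hB : ∀ s, πe (B s) = if Fin.last m ∈ (s : Finset (Fin (m + 1))) then B s else 0 := by
    intro s
    have hBs : B s = exteriorPower.ιMulti_family (WittVector p R) r e s := by simp [B]
    have hπl : πl (B s) = if Fin.last m ∈ (s : Finset (Fin (m + 1))) then 0 else B s := by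
      rw [hBs]
      unfold exteriorPower.ιMulti_family
      show exteriorPower.map r S.πL _ = _
      rw [exteriorPower.map_apply_ιMulti]
      split_ifs with h
      · obtain ⟨i, hi⟩ : ∃ i, Set.powersetCard.ofFinEmbEquiv.symm s i = Fin.last m := by
          have := (Set.powersetCard.mem_range_ofFinEmbEquiv_symm_iff_mem s _).2 h
          exact this
        exact AlternatingMap.map_coord_zero _ i (by simp [hi, hlast])
      · congr 1
        funext i
        refine hother _ fun hi => h ?_
        exact (Set.powersetCard.mem_range_ofFinEmbEquiv_symm_iff_mem s _).1 ⟨i, hi⟩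
    have : πe (B s) = B s - πl (B s) := rfl
    rw [this, hπl]
    split_ifs <;> simp
  let I : Set (Set.powersetCard (Fin (m + 1)) r) := {s | Fin.last m ∈ (s : Finset (Fin (m + 1)))}
  have hr' : LinearMap.range πe = Submodule.span (WittVector p R) (Set.range fun s : I => B s) := by
    rw [LinearMap.range_eq_map, ← B.span_eq, Submodule.map_span]
    refine le_antisymm (Submodule.span_le.2 ?_) (Submodule.span_le.2 ?_)
    · rintro _ ⟨_, ⟨s, rfl⟩, rfl⟩
      rw [SetLike.mem_coe, hB]
      split_ifs with h
      · exact Submodule.subset_span ⟨⟨s, h⟩, rfl⟩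
      · exact zero_mem _
    · rintro _ ⟨⟨s, hs⟩, rfl⟩
      refine Submodule.subset_span ⟨B s, ⟨s, rfl⟩, ?_⟩
      rw [hB, if_pos (show Fin.last m ∈ (s : Finset (Fin (m + 1))) from hs)]
  have hli : LinearIndependent (WittVector p R) fun s : I => B s :=
    B.linearIndependent.comp Subtype.val Subtype.val_injective
  rw [hr']
  refine ⟨Module.Free.of_basis (Module.Basis.span hli), ?_⟩
  rw [Module.finrank_eq_card_basis (Module.Basis.span hli), ← Nat.card_eq_fintype_card]
  obtain ⟨r, rfl⟩ := Nat.exists_eq_add_of_le' hr
  have hI : Nat.card I + Nat.card (Iᶜ : Set _) = Nat.card (Set.powersetCard (Fin (m + 1)) (r + 1)) := by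
    rw [← Nat.card_sum]
    exact Nat.card_congr (Equiv.Set.sumCompl I)
  have hc : Nat.card (Iᶜ : Set (Set.powersetCard (Fin (m + 1)) (r + 1))) = Nat.card (Set.powersetCard {i // i ≠ Fin.last m} (r + 1)) := by
    refine Nat.card_congr
      { toFun := fun s => Set.powersetCard.ofCard (s := (s.1.1 : Finset (Fin (m + 1))).subtype (· ≠ Fin.last m))
          (by rw [Finset.card_subtype]
              refine (congrArg Finset.card (Finset.filter_eq_self.2 fun x hx => ?_)).trans (Set.powersetCard.card_eq s.1)
              exact fun h => s.2 (show Fin.last m ∈ (s.1.1 : Finset (Fin (m + 1))) by rwa [h] at hx))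
        invFun := fun s => ⟨Set.powersetCard.ofCard (s := (s.1 : Finset _).map (Function.Embedding.subtype _))
          (by rw [Finset.card_map]; exact Set.powersetCard.card_eq s), fun h => by
            obtain ⟨x, -, hx⟩ := Finset.mem_map.1 h
            exact x.2 hx⟩
        left_inv := fun s => Subtype.ext (Subtype.ext ((Finset.subtype_map_of_mem fun x hx h => s.2 (by rwa [h] at hx))))
        right_inv := fun s => Subtype.ext (Finset.ext fun x => by simp [Set.powersetCard.ofCard, x.2]) }
  rw [Set.powersetCard.card, Nat.card_fin] at hI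
  rw [Set.powersetCard.card, Nat.card_eq_fintype_card (α := {i // i ≠ Fin.last m}), Fintype.card_subtype_compl,
    Fintype.card_fin, Fintype.card_subtype_eq, Nat.add_sub_cancel] at hc
  rw [Nat.choose_succ_succ, hc] at hI
  simp only [Nat.succ_eq_add_one] at hI
  simp only [Nat.add_sub_cancel]
  omega

/-- Let p be a prime, R a nontrivial commutative ring, W its ring of p-typical Witt vectors and D = (P,
Q, F, V⁻¹) a 3n-display over R with a normal decomposition P = L ⊕ T, Q = L + I_R T in which L is
free of rank m and T is free of rank one over W (so P is free of rank m + 1, the height). For r ≥ 1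
let E be the 3n-display structure on ⋀^r P whose distinguished submodule is spanned by the wedges of
elements of Q and whose V⁻¹ acts factorwise on them. Then E admits a normal decomposition ⋀^r P = L'
⊕ T', with distinguished submodule L' + I_R T', in which T' is free of rank (m choose r−1) over W:
with h = m + 1 the height, the tangent module of the exterior power has rank (h−1 choose r−1). (The
published statement has T projective of rank one and P of height h; this row takes L and T free, R
nontrivial and r ≥ 1.) -/
theorem result (p : ℕ) [Fact p.Prime] (R : Type u) [CommRing R] [Nontrivial R]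
    (P : Type v) [AddCommGroup P] [Module (WittVector p R) P] (D : W4c1extbt610.Display3n p R P) (m : ℕ)
    (L T : Submodule (WittVector p R) P) (hLT : IsCompl L T) (hQ : D.Q = L ⊔ W4c1extbt610.IV p R • T)
    (hL : Module.Free (WittVector p R) L) (hLr : Module.finrank (WittVector p R) L = m)
    (hT : Nonempty (T ≃ₗ[WittVector p R] WittVector p R))
    (r : ℕ) (hr : 1 ≤ r) (E : W4c1extbt610.Display3n p R (⋀[WittVector p R]^r P)) (hE : W4c1extbt610.IsExtPow D r E) :
    ∃ L' T' : Submodule (WittVector p R) (⋀[WittVector p R]^r P), IsCompl L' T' ∧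
      E.Q = L' ⊔ W4c1extbt610.IV p R • T' ∧ Module.Free (WittVector p R) T' ∧
      Module.finrank (WittVector p R) T' = m.choose (r - 1) := by
  haveI : Nontrivial (WittVector p R) :=
    (WittVector.constantCoeff : WittVector p R →+* R).domain_nontrivial
  exact exists_normal_extPow m L T hLT hQ hL hLr hT r hr hE

end Groth.Agent.S13686
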