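import Groth.Statements.S13692
import Groth.Agent.GalDescent.UnitsH90

set_option autoImplicit false
universe u v w
open scoped TensorProduct
attribute [local instance] CSAGal.tensorAction GpH1.unitsAction
open GalCoh

namespace Groth.Agent.S13692

/-- Let K be a finite Galois extension of a field k with Galois group G = Aut_k(K), and A a
finite-dimensional associative unital k-algebra, not assumed simple or central. Then H¹(G, (K ⊗_k
A)ˣ) is trivial, G acting on K ⊗_k A through the first factor. (The published statement allows any
Galois extension and reduces to the finite case by a direct limit; the finite case is stated.) -/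
theorem result (k : Type u) [Field k] (K : Type v)
    [Field K] [Algebra k K] [FiniteDimensional k K] [IsGalois k K]
    (A : Type w) [Ring A] [Algebra k A] [FiniteDimensional k A] :
    GpH1.H1.IsTrivial (K ≃ₐ[k] K) (K ⊗[k] A)ˣ := by
  intro x
  obtain ⟨a, rfl⟩ := GpH1.OneCocycle.cl_surjective x
  refine (GpH1.OneCocycle.cl_eq_cl_iff a GpH1.OneCocycle.trivial).2 ?_
  have hone : a 1 = 1 := by
    have h := a.2 1 1
    rw [one_mul, one_smul] at h
    exact mul_right_cancel (b := a 1) (by rw [one_mul]; exact h.symm)
  obtain ⟨f, ⟨u, rfl⟩, hf⟩ := Groth.Agent.GalDescent.exists_unit_fixed (fun σ => (a σ : K ⊗[k] A))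
    (fun σ τ => congrArg Units.val (a.2 σ τ)) (congrArg Units.val hone)
  refine ⟨u⁻¹, fun σ => ?_⟩
  have h : a σ * σ • u = u := Units.ext (hf σ)
  change a σ = (u⁻¹)⁻¹ * 1 * σ • u⁻¹
  rw [inv_inv, mul_one, smul_inv', eq_mul_inv_iff_mul_eq, h]

end Groth.Agent.S13692
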