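import Groth.Statements.S13697
import Groth.Agent.ZeroCyc.Apps
-- import your own Groth.Agent.* helpers here

set_option autoImplicit false
universe u
open scoped TensorProduct
open ZeroCyc

namespace Groth.Agent.S13697

/-- Let F : B → A be a multiplicative polynomial law homogeneous of degree d over the commutative ring
A, and let A' be any commutative A-algebra. The kernel of the base change of F to A' (an ideal of A'
⊗_A B) and the extension to A' ⊗_A B of the kernel of F have the same radical. In other words the
support (reduced image) of a family of zero-cycles of degree d on Spec B over Spec A commutes with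
every base change Spec A' → Spec A. (The published statement is for X affine over an algebraic space
S; this row is the case of an affine base, to which the general case reduces.) -/
theorem result {A : Type u} [CommRing A] {B : Type u} [CommRing B] [Algebra A B]
    {d : ℕ} (F : PolLaw.MulLaw A B A d) (A' : Type u) [CommRing A'] [Algebra A A'] :
    (PolLaw.kerBC F.law A').radical =
      ((PolLaw.ker F.law).map (Algebra.TensorProduct.includeRight : B →ₐ[A] A' ⊗[A] B)).radical := by
  refine le_antisymm ?_ (Ideal.radical_mono (map_ker_le_kerBC F A'))
  rw [Ideal.radical_le_radical_iff, Ideal.radical_eq_sInf]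
  intro b' hb'
  rw [Submodule.mem_sInf]
  rintro Q ⟨hle, hQ⟩
  let K := AlgebraicClosure (Ideal.ResidueField Q)
  let ψ : A' ⊗[A] B →ₐ[A] K := IsScalarTower.toAlgHom A _ K
  have hψ : ∀ z, ψ z = 0 ↔ z ∈ Q := fun z => by
    show algebraMap _ K z = 0 ↔ _
    rw [IsScalarTower.algebraMap_apply (A' ⊗[A] B) (Ideal.ResidueField Q) K, map_eq_zero,
      Ideal.algebraMap_residueField_eq_zero]
  obtain ⟨β, hβ⟩ := exists_points F (Algebra.ofId A K)
  obtain ⟨l, hl⟩ := exists_point_eq F hβ (ψ.comp Algebra.TensorProduct.includeRight) fun b hb =>
    (hψ _).mpr (hle (Ideal.mem_map_of_mem _ hb))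
  rw [← hψ]
  have h0 := point_kerBC F hβ (ψ.comp Algebra.TensorProduct.includeLeft) hb' l
  rw [hl] at h0
  rw [← h0]
  clear h0 hb'
  induction b' using TensorProduct.induction_on with
  | zero => simp
  | add a b ha hb => simp only [map_add, ha, hb]
  | tmul a b => simp [← map_mul]

end Groth.Agent.S13697
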