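import Mathlib
import Groth.Statements.S13702
-- import your own Groth.Agent.* helpers here

set_option autoImplicit false
universe u
open ZeroCyc

namespace Groth.Agent.S13702

/-- Let A be a local ring with residue field of characteristic p > 0, let g ∈ A[X] be monic and
separable of degree n, so that A' = A[X]/(g) is an étale A-algebra, and let q = p^s with s ≥ 0. Then
the powers 1, t^q, t^{2q}, …, t^{(n-1)q} of the class t of X form a basis of A' as an A-module. -/
theorem result {A : Type u} [CommRing A] [IsLocalRing A] (p : ℕ) [Fact p.Prime]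
    [CharP (IsLocalRing.ResidueField A) p] (g : Polynomial A) (hg : g.Monic) (hsep : g.Separable) (s : ℕ) :
    ∃ b : Module.Basis (Fin g.natDegree) A (AdjoinRoot g),
      ∀ i : Fin g.natDegree, b i = AdjoinRoot.root g ^ (p ^ s * (i : ℕ)) := by
  classical
  let pb := AdjoinRoot.powerBasis' hg
  let b0 : Module.Basis (Fin g.natDegree) A (AdjoinRoot g) := pb.basis.reindex (finCongr (by simp [pb]))
  have hb0 : ∀ i, b0 i = AdjoinRoot.root g ^ (i : ℕ) := by intro i; simp [b0, pb, PowerBasis.basis_eq_pow]
  set q := p ^ s
  let M : Matrix (Fin g.natDegree) (Fin g.natDegree) A := fun i j => b0.repr (AdjoinRoot.root g ^ (q * (j : ℕ))) i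
  let res := IsLocalRing.residue A
  let k := IsLocalRing.ResidueField A
  have hunit : IsUnit M.det := by
    rw [← IsLocalRing.notMem_maximalIdeal, ← IsLocalRing.residue_eq_zero_iff, RingHom.map_det]
    intro h0
    obtain ⟨c, hc0, hc⟩ := Matrix.exists_mulVec_eq_zero_iff.mpr h0
    apply hc0
    choose c' hc' using fun j => IsLocalRing.residue_surjective (c j)
    let P : Polynomial A := ∑ j, Polynomial.C (c' j) * Polynomial.X ^ (q * (j : ℕ))
    let Q : Polynomial A := ∑ i, Polynomial.C (M.mulVec c' i) * Polynomial.X ^ (i : ℕ)
    have hPQ : AdjoinRoot.mk g P = AdjoinRoot.mk g Q := by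
      simp only [P, Q, map_sum, map_mul, map_pow, AdjoinRoot.mk_X, AdjoinRoot.mk_C, Matrix.mulVec, dotProduct,
        Finset.sum_mul]
      rw [Finset.sum_comm]
      refine Finset.sum_congr rfl fun j _ => ?_
      conv_lhs => rw [← b0.sum_repr (AdjoinRoot.root g ^ (q * (j : ℕ))), Finset.mul_sum]
      refine Finset.sum_congr rfl fun i _ => ?_
      rw [hb0, Algebra.smul_def, AdjoinRoot.algebraMap_eq]
      simp only [M]
      ring
    obtain ⟨r, hr⟩ := AdjoinRoot.mk_eq_mk.mp hPQ
    have hQ : Q.map res = 0 := by
      have e : ∀ i, res (M.mulVec c' i) = 0 := fun i => by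
        rw [RingHom.map_mulVec, show (res ∘ c') = c from funext hc']
        exact congrFun hc i
      simp [Q, Polynomial.map_sum, e]
    have hP : P.map res = g.map res * r.map res := by
      rw [← Polynomial.map_mul, ← hr, Polynomial.map_sub, hQ, sub_zero]
    let h : Polynomial (IsLocalRing.ResidueField A) := ∑ j : Fin g.natDegree, Polynomial.C (c j) * Polynomial.X ^ (j : ℕ)
    have hexp : Polynomial.expand _ q h = P.map res := by
      simp [h, P, Polynomial.map_sum, hc', res, ← pow_mul]
    let Ω := AlgebraicClosure (IsLocalRing.ResidueField A)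
    haveI : CharP Ω p := charP_of_injective_algebraMap (algebraMap (IsLocalRing.ResidueField A) Ω).injective p
    have hgm : (g.map res).Monic := hg.map _
    have hroots : ((g.map res).rootSet Ω).ncard = g.natDegree := by
      rw [Set.ncard_eq_toFinset_card', Set.toFinset_card, Polynomial.card_rootSet_eq_natDegree hsep.map
        (IsAlgClosed.splits _), hg.natDegree_map]
    have hzero : h = 0 := by
      by_contra hne
      have hsub : (fun z : Ω => z ^ q) '' ((g.map res).rootSet Ω) ⊆ h.rootSet Ω := by
        rintro _ ⟨z, hz, rfl⟩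
        rw [Polynomial.mem_rootSet] at hz
        rw [Polynomial.mem_rootSet]
        exact ⟨hne, by rw [← Polynomial.expand_aeval, hexp, hP, map_mul, hz.2, zero_mul]⟩
      haveI : ExpChar Ω p := ExpChar.prime Fact.out
      have := Set.ncard_le_ncard hsub (Polynomial.rootSet_finite _ _)
      have hinj : Function.Injective (fun z : Ω => z ^ q) := fun a b hab =>
        iterateFrobenius_inj Ω p s (by simpa [iterateFrobenius_def] using hab)
      rw [Set.ncard_image_of_injective _ hinj, hroots] at this
      have h2 : (h.rootSet Ω).ncard ≤ h.natDegree := Polynomial.ncard_rootSet_le h Ω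
      have h3 : h.natDegree < g.natDegree := by
        rcases Nat.eq_zero_or_pos g.natDegree with h0 | hpos
        · exfalso
          apply hne
          haveI : IsEmpty (Fin g.natDegree) := by rw [h0]; exact Fin.isEmpty
          simp [h]
        · refine (Polynomial.natDegree_lt_iff_degree_lt hne).mpr ?_
          exact Polynomial.degree_sum_fin_lt c
      omega
    funext j
    have := congrArg (fun f : Polynomial (IsLocalRing.ResidueField A) => f.coeff j) hzero
    simpa [h, Polynomial.finsetSum_coeff, Polynomial.coeff_C_mul, Polynomial.coeff_X_pow, Fin.val_inj] using this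
  refine ⟨b0.map (Matrix.toLinearEquiv b0 M hunit), fun j => ?_⟩
  rw [Module.Basis.map_apply]
  change Matrix.toLin b0 b0 M (b0 j) = _
  rw [Matrix.toLin_self]
  exact b0.sum_repr _

end Groth.Agent.S13702
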