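import Groth.Statements.S13703
import Groth.Agent.ZeroCyc.Apps
-- import your own Groth.Agent.* helpers here

set_option autoImplicit false
universe u
open scoped TensorProduct
open ZeroCyc

namespace Groth.Agent.S13703

/-- Let A be an integral domain, B a commutative A-algebra and F : B → A a multiplicative polynomial law
homogeneous of degree d. For every prime ideal P of B minimal among those containing the kernel of
F, the contraction of P to A is zero and every prime of A is the contraction of a prime of B
containing P. Geometrically: every irreducible component of the support of the family of zero-cycles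
on Spec B defined by F maps onto Spec A. (The published statement is over an arbitrary algebraic
space S, every irreducible component of the support mapping onto an irreducible component of S, and
its proof reduces to an integral affine base; this row is that case.) -/
theorem result {A : Type u} [CommRing A] [IsDomain A] {B : Type u} [CommRing B] [Algebra A B]
    {d : ℕ} (F : PolLaw.MulLaw A B A d) {P : Ideal B} (hP : P ∈ (PolLaw.ker F.law).minimalPrimes) :
    P.comap (algebraMap A B) = ⊥ ∧
      ∀ q : Ideal A, q.IsPrime → ∃ Q : Ideal B, Q.IsPrime ∧ P ≤ Q ∧ Q.comap (algebraMap A B) = q := by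
  have hPp : P.IsPrime := hP.1.1
  have hker : PolLaw.ker F.law ≤ P := hP.1.2
  let mk := Ideal.Quotient.mkₐ A (PolLaw.ker F.law)
  let Pb : Ideal (PolLaw.image F.law) := P.map mk
  have hsurj : Function.Surjective mk := Ideal.Quotient.mkₐ_surjective A _
  have hPb : Pb.comap mk = P := by
    rw [Ideal.comap_map_of_surjective _ hsurj, sup_eq_left]
    intro b hb
    exact hker (Ideal.Quotient.eq_zero_iff_mem.mp (by simpa [mk] using hb))
  have hPbp : Pb.IsPrime := Ideal.map_isPrime_of_surjective hsurj fun b hb =>
    hker (Ideal.Quotient.eq_zero_iff_mem.mp ((RingHom.mem_ker).mp hb))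
  let e := Algebra.TensorProduct.lid A (PolLaw.image F.law)
  obtain ⟨P1, hP1, hle, hcomap⟩ := exists_generization F (A' := A) (q1 := ⊥)
    (P2 := Pb.comap e.toRingEquiv.toRingHom) bot_le
  let P' : Ideal B := (P1.comap e.symm.toRingEquiv.toRingHom).comap mk
  have hP' : P'.IsPrime := inferInstance
  have hP'le : P' ≤ P := fun b hb => by
    have := hle hb
    rw [← hPb]
    simpa using this
  have hP'ker : PolLaw.ker F.law ≤ P' := fun b hb => by
    have h0 : mk b = 0 := Ideal.Quotient.eq_zero_iff_mem.mpr hb
    simp [P', Ideal.mem_comap, h0]
  have hPP' : P = P' := le_antisymm (hP.2 ⟨hP', hP'ker⟩ hP'le) hP'le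
  have hbot : P.comap (algebraMap A B) = ⊥ := by
    rw [eq_bot_iff, ← hcomap, hPP']
    intro a ha
    have : e.symm (mk (algebraMap A B a)) ∈ P1 := ha
    rw [mk.commutes, e.symm.commutes] at this
    exact this
  refine ⟨hbot, fun q hq => ?_⟩
  have := image_isIntegral F
  have hc : Pb.comap (algebraMap A (PolLaw.image F.law)) ≤ q := by
    have : Pb.comap (algebraMap A (PolLaw.image F.law)) = (Pb.comap mk).comap (algebraMap A B) := by
      ext a
      simp [Ideal.mem_comap, mk.commutes]
    rw [this, hPb, hbot]
    exact bot_le
  obtain ⟨Q, hQle, hQp, hQ⟩ := Ideal.exists_ideal_over_prime_of_isIntegral q Pb hc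
  refine ⟨Q.comap mk, inferInstance, hPb ▸ Ideal.comap_mono hQle, ?_⟩
  rw [← hQ]
  ext a
  simp [Ideal.mem_comap, mk.commutes]

end Groth.Agent.S13703
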