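import Groth.Statements.S13706
import Groth.Agent.ZeroCyc.Apps
-- import your own Groth.Agent.* helpers here

set_option autoImplicit false
universe u
open scoped TensorProduct
open ZeroCyc

namespace Groth.Agent.S13706

/-- Let A be a commutative ring, B an A-algebra of finite type and F : B → A a multiplicative polynomial
law homogeneous of degree d. Then there is a finitely generated ideal J of B, contained in the
kernel of F and with the same radical; thus the support of the family of zero-cycles defined by F is
carried by a bijective closed immersion into Spec(B/J), a scheme of finite presentation over A. -/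
theorem result {A : Type u} [CommRing A] {B : Type u} [CommRing B] [Algebra A B]
    [Algebra.FiniteType A B] {d : ℕ} (F : PolLaw.MulLaw A B A d) :
    ∃ J : Ideal B, J.FG ∧ J ≤ PolLaw.ker F.law ∧ J.radical = (PolLaw.ker F.law).radical := by
  classical
  obtain ⟨s, hs⟩ := ‹Algebra.FiniteType A B›.out
  let e : Fin s.card → B := fun j => (s.equivFin.symm j : B)
  have hmem := genVal_mem F e
  obtain ⟨T, hT, hgT⟩ := Submodule.mem_span_finite_of_mem_span hmem
  obtain ⟨J0, hJ0, hJT⟩ := Finset.subset_set_image_iff.mp hT
  refine ⟨Ideal.span (J0 : Set B), ⟨J0, rfl⟩, Ideal.span_le.mpr hJ0, ?_⟩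
  refine le_antisymm (Ideal.radical_mono (Ideal.span_le.mpr hJ0)) ?_
  rw [Ideal.radical_le_radical_iff, Ideal.radical_eq_sInf]
  intro b hb
  rw [Submodule.mem_sInf]
  rintro Q ⟨hle, hQ⟩
  let K := AlgebraicClosure (Ideal.ResidueField Q)
  let ψ : B →ₐ[A] K := IsScalarTower.toAlgHom A _ K
  have hψ : ∀ z, ψ z = 0 ↔ z ∈ Q := fun z => by
    show algebraMap _ K z = 0 ↔ _
    rw [IsScalarTower.algebraMap_apply B (Ideal.ResidueField Q) K, map_eq_zero,
      Ideal.algebraMap_residueField_eq_zero]
  obtain ⟨β, hβ⟩ := exists_points F (Algebra.ofId A K)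
  obtain ⟨l, hl⟩ := exists_point_agree F hβ ψ e (by
    have hle' : Submodule.span (Polynomial A ⊗[A] B) (T : Set (Polynomial A ⊗[A] B)) ≤
        (RingHom.ker (evMap ((IsScalarTower.toAlgHom A K (Polynomial K)).comp ψ)).toRingHom).comap
          (Algebra.TensorProduct.map (Polynomial.aeval (Polynomial.X : Polynomial K) :
            Polynomial A →ₐ[A] Polynomial K) (AlgHom.id A B)) := by
      rw [Submodule.span_le]
      intro t ht
      rw [← hJT] at ht
      simp only [Finset.coe_image, Set.mem_image, SetLike.mem_coe] at ht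
      obtain ⟨c, hc, rfl⟩ := ht
      have h0 : ψ c = 0 := (hψ c).mpr (hle (Ideal.subset_span hc))
      simp [Ideal.mem_comap, h0]
    exact hle' hgT)
  have hψl : β l = ψ := AlgHom.ext_of_adjoin_eq_top hs fun b hb => by
    have := hl (s.equivFin ⟨b, hb⟩)
    simpa [e] using this
  rw [← hψ, ← hψl]
  exact point_eq_zero_of_ker hβ hb l

end Groth.Agent.S13706
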