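import Mathlib
import Groth.Statements.S13708
-- import your own Groth.Agent.* helpers here

set_option autoImplicit false
universe u
open CategoryTheory CategoryTheory.Limits AlgebraicGeometry
open ZeroCyc

namespace Groth.Agent.S13708

/-- Let X be a scheme over S such that every finite set of points of X over a common point of S lies in
some affine open subscheme of X (the condition (AF)). Then X is separated over S. (The published
condition (AF) asks for an open U with U → S quasi-affine rather than U affine; with U affine, as
here, the same argument applies verbatim, and the two conditions agree over a quasi-separated base.) -/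
theorem result {X S : Scheme.{u}} (f : X ⟶ S) (hX : SymProd.IsAF f) :
    IsSeparated f := by
  refine ⟨IsClosedImmersion.of_isPreimmersion _ ?_⟩
  rw [← isOpen_compl_iff, isOpen_iff_forall_mem_open]
  intro z hz
  classical
  obtain ⟨U, hU, hmem⟩ := hX (f (pullback.fst f f z)) {pullback.fst f f z, pullback.snd f f z} (by
    intro x hx
    simp only [Finset.mem_insert, Finset.mem_singleton] at hx
    rcases hx with rfl | rfl
    · rfl
    · rw [← Scheme.Hom.comp_apply, ← pullback.condition, Scheme.Hom.comp_apply])
  haveI : IsAffine U.toScheme := hU
  let a := U.ι ≫ f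
  haveI : IsSeparated a := IsSeparated.of_comp a (terminal.from S)
  let m := pullback.map a a f f U.ι U.ι (𝟙 S) (by simp [a]) (by simp [a])
  haveI : IsOpenImmersion m := MorphismProperty.pullbackMap (P := @IsOpenImmersion) (h₁ := inferInstance) (h₂ := inferInstance) (e₁ := by simp [a]) (e₂ := by simp [a])
  have hzm : z ∈ Set.range m := by
    simp only [m]
    rw [Scheme.Pullback.range_map]
    simp only [Scheme.Opens.range_ι, Set.mem_inter_iff, Set.mem_preimage]
    exact ⟨hmem _ (by simp), hmem _ (by simp)⟩
  obtain ⟨w, rfl⟩ := hzm
  have hdiag : ∀ u, m (pullback.diagonal a u) = pullback.diagonal f (U.ι u) := by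
    intro u
    rw [← Scheme.Hom.comp_apply, ← Scheme.Hom.comp_apply]
    congr 5
    apply pullback.hom_ext <;> simp only [m, a, pullback.map, pullback.diagonal, Category.assoc, pullback.lift_fst, pullback.lift_snd, pullback.lift_fst_assoc, pullback.lift_snd_assoc, Category.id_comp, Category.comp_id]
  refine ⟨m '' (Set.range (pullback.diagonal a))ᶜ, ?_,
    m.isOpenEmbedding.isOpenMap _ (pullback.diagonal a).isClosedEmbedding.isClosed_range.isOpen_compl, ⟨w, ?_, rfl⟩⟩
  · rintro _ ⟨v, hv, rfl⟩ ⟨x, hx⟩
    have hxU : x = U.ι (pullback.fst a a v) := by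
      have := congrArg (pullback.fst f f) hx
      rwa [← Scheme.Hom.comp_apply, pullback.diagonal_fst, ← Scheme.Hom.comp_apply, pullback.lift_fst,
        Scheme.Hom.comp_apply] at this
    subst hxU
    rw [← hdiag] at hx
    exact hv ⟨_, m.isOpenEmbedding.injective hx⟩
  · rintro ⟨u, rfl⟩
    exact hz ⟨U.ι u, (hdiag u).symm⟩

end Groth.Agent.S13708
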