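import Groth.Statements.S13711
import Groth.Agent.ChevAffine.Local
import Groth.Agent.FpqcDescent.Affine

set_option autoImplicit false
universe u
open CategoryTheory CategoryTheory.Limits AlgebraicGeometry
open ZeroCyc

namespace Groth.Agent.S13711

/-- Affineness over each local ring of the base. -/
lemma isAffine_stalk {X Y Y' : Scheme.{u}} (f : X ⟶ Y) (g : Y' ⟶ Y) [Flat g]
    [QuasiCompact f] [QuasiSeparated f] [IsAffineHom (pullback.snd f g)] (y' : Y') :
    IsAffine (pullback f (Y.fromSpecStalk (g y'))) := by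
  let φ := g.stalkMap y'
  haveI : Flat (Spec.map φ) := (HasRingHomProperty.Spec_iff (P := @Flat)).mpr (Flat.stalkMap g y')
  haveI : Surjective (Spec.map φ) := by
    refine ⟨?_⟩
    algebraize [φ.hom]
    haveI : Module.Flat (Y.presheaf.stalk (g y')) (Y'.presheaf.stalk y') := Flat.stalkMap g y'
    haveI : IsLocalHom (algebraMap (Y.presheaf.stalk (g y')) (Y'.presheaf.stalk y')) := g.toLRSHom.prop y'
    haveI := Module.FaithfullyFlat.of_flat_of_isLocalHom (A := Y.presheaf.stalk (g y')) (B := Y'.presheaf.stalk y')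
    exact PrimeSpectrum.comap_surjective_of_faithfullyFlat (A := Y.presheaf.stalk (g y'))
  let p := pullback.snd f (Y.fromSpecStalk (g y'))
  haveI : IsAffine (pullback p (Spec.map φ)) := by
    haveI : IsAffineHom (pullback.snd (pullback.snd f g) (Y'.fromSpecStalk y')) := inferInstance
    haveI : IsAffine (pullback (pullback.snd f g) (Y'.fromSpecStalk y')) := isAffine_of_isAffineHom (pullback.snd _ _)
    haveI : IsAffine (pullback f (Y'.fromSpecStalk y' ≫ g)) :=
      .of_isIso (pullbackLeftPullbackSndIso f g (Y'.fromSpecStalk y')).inv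
    haveI : IsAffine (pullback f (Spec.map φ ≫ Y.fromSpecStalk (g y'))) :=
      .of_isIso (pullback.congrHom (f₁ := f) rfl (Scheme.SpecMap_stalkMap_fromSpecStalk g (x := y'))).hom
    exact .of_isIso (pullbackLeftPullbackSndIso f (Y.fromSpecStalk (g y')) (Spec.map φ)).hom
  exact FpqcDescent.isAffine_of_isAffine_pullback φ p

/-- Let f : X → Y be a morphism of schemes and g : Y' → Y a faithfully flat morphism (flat and
surjective, not assumed quasi-compact). Then f is affine exactly when it is quasi-compact,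
quasi-separated, and its base change X ×_Y Y' → Y' along g is affine. -/
theorem result {X Y Y' : Scheme.{u}} (f : X ⟶ Y) (g : Y' ⟶ Y)
    [Flat g] [Surjective g] :
    IsAffineHom f ↔ QuasiCompact f ∧ QuasiSeparated f ∧ IsAffineHom (pullback.snd f g) := by
  refine ⟨fun h => have : IsAffineHom f := h; ⟨inferInstance, inferInstance, MorphismProperty.pullback_snd (P := @IsAffineHom) f g this⟩, fun h => ?_⟩
  haveI := h.1
  haveI := h.2.1
  haveI := h.2.2
  refine ⟨fun V hV => ?_⟩
  suffices IsAffine (pullback f hV.fromSpec) by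
    have hr : Set.range (pullback.fst f hV.fromSpec) = (f ⁻¹ᵁ V : Set X) := by
      rw [Scheme.Pullback.range_fst, hV.range_fromSpec]; rfl
    have : (pullback.fst f hV.fromSpec).opensRange = f ⁻¹ᵁ V := TopologicalSpace.Opens.ext hr
    rw [← this]
    exact isAffineOpen_opensRange _
  refine ChevAffine.isAffine_of_forall_atPrime (pullback.snd f hV.fromSpec) fun P => ?_
  let y : V := ⟨hV.fromSpec P, hV.range_fromSpec.le ⟨P, rfl⟩⟩
  obtain ⟨y', hy'⟩ := g.surjective (y : Y)
  haveI : IsAffine (pullback f (Y.fromSpecStalk (y : Y))) := hy' ▸ isAffine_stalk f g y'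
  letI := TopCat.Presheaf.algebra_section_stalk Y.presheaf y
  haveI := hV.isLocalization_stalk y
  have hP : hV.primeIdealOf y = P := hV.fromSpec.isEmbedding.injective (hV.fromSpec_primeIdealOf y)
  rw [← hP]
  let e := (IsLocalization.algEquiv (hV.primeIdealOf y).asIdeal.primeCompl
    (Localization.AtPrime (hV.primeIdealOf y).asIdeal) (Y.presheaf.stalk (y : Y))).toRingEquiv.toCommRingCatIso
  have he : Spec.map (CommRingCat.ofHom
      (algebraMap Γ(Y, V) (Localization.AtPrime (hV.primeIdealOf y).asIdeal))) ≫ hV.fromSpec =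
      Spec.map e.inv ≫ Y.fromSpecStalk (y : Y) := by
    rw [← hV.fromSpecStalk_eq_fromSpecStalk y.2, IsAffineOpen.fromSpecStalk, ← Spec.map_comp_assoc]
    congr 2
    ext a
    exact (AlgEquiv.commutes (IsLocalization.algEquiv (hV.primeIdealOf y).asIdeal.primeCompl
      (Localization.AtPrime (hV.primeIdealOf y).asIdeal) (Y.presheaf.stalk (y : Y))).symm a).symm
  have h₁ : f ≫ 𝟙 Y = 𝟙 X ≫ f := by simp
  have h₂ : (Spec.map e.inv ≫ Y.fromSpecStalk (y : Y)) ≫ 𝟙 Y = Spec.map e.inv ≫ Y.fromSpecStalk (y : Y) := by simp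
  haveI : IsAffine (pullback f (Spec.map e.inv ≫ Y.fromSpecStalk (y : Y))) := by
    haveI : IsIso (pullback.map f (Spec.map e.inv ≫ Y.fromSpecStalk (y : Y)) f (Y.fromSpecStalk (y : Y))
      (𝟙 X) (Spec.map e.inv) (𝟙 Y) h₁ h₂) := pullback.map_isIso _ _ _ _ _ _ _ _ _
    exact .of_isIso (pullback.map f (Spec.map e.inv ≫ Y.fromSpecStalk (y : Y)) f (Y.fromSpecStalk (y : Y))
      (𝟙 X) (Spec.map e.inv) (𝟙 Y) h₁ h₂)
  haveI : IsAffine (pullback f (Spec.map (CommRingCat.ofHom
      (algebraMap Γ(Y, V) (Localization.AtPrime (hV.primeIdealOf y).asIdeal))) ≫ hV.fromSpec)) :=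
    .of_isIso (pullback.congrHom (f₁ := f) rfl he).hom
  exact .of_isIso (pullbackLeftPullbackSndIso f hV.fromSpec _).hom

end Groth.Agent.S13711
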