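import Groth.Statements.S13712
import Groth.Agent.ChevAffine.Basic

set_option autoImplicit false
universe u
open CategoryTheory CategoryTheory.Limits AlgebraicGeometry
open ZeroCyc

namespace Groth.Agent.S13712

/-- Let f : X → Y and g : Y → S be morphisms of schemes with g separated, such that the composite X → S
is integral with topologically finite fibres (every fibre is a finite set). Then the
scheme-theoretic image Y' of f, with its closed immersion Y' → Y, is integral over S, and Y' → S
again has topologically finite fibres. (The published statement is for algebraic spaces; this row is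
the case of schemes.) -/
theorem result {X Y S : Scheme.{u}} (f : X ⟶ Y) (g : Y ⟶ S)
    [IsSeparated g] [IsIntegralHom (f ≫ g)] (hfin : ∀ s : S, Set.Finite ((f ≫ g).base ⁻¹' {s})) :
    IsIntegralHom (f.imageι ≫ g) ∧ ∀ s : S, Set.Finite ((f.imageι ≫ g).base ⁻¹' {s}) := by
  haveI : IsSeparated (f.imageι ≫ g) := inferInstance
  haveI : IsIntegralHom (f.toImage ≫ f.imageι ≫ g) := by
    rw [f.toImage_imageι_assoc]; infer_instance
  haveI : QuasiCompact f := by
    haveI : IsIntegralHom f := IsIntegralHom.of_comp f g
    infer_instance
  haveI : IsIntegralHom f.toImage := IsIntegralHom.of_comp f.toImage (f.imageι ≫ g)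
  haveI : Surjective f.toImage :=
    ⟨Set.range_eq_univ.mp (f.toImage.isClosedMap.isClosed_range.closure_eq ▸ f.toImage.denseRange.closure_range)⟩
  have hfib : ∀ s : S, ((f.toImage ≫ f.imageι ≫ g) ⁻¹' {s}).Finite := by
    rw [f.toImage_imageι_assoc]; exact hfin
  refine ⟨ChevAffine.isIntegralHom_of_surjective f.toImage (f.imageι ≫ g) hfib, fun s => ?_⟩
  refine ((hfib s).image f.toImage).subset fun y hy => ?_
  obtain ⟨x, rfl⟩ := f.toImage.surjective y
  exact ⟨x, by rwa [Set.mem_preimage, Scheme.Hom.comp_apply], rfl⟩

end Groth.Agent.S13712
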