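import Groth.Statements.S13719
import Groth.Agent.ZeroCyc.Prod
-- import your own Groth.Agent.* helpers here

set_option autoImplicit false
universe u
open scoped TensorProduct
open ZeroCyc

namespace Groth.Agent.S13719

/-- Let A be a commutative ring whose prime spectrum is connected, B₁, B₂ commutative A-algebras and F :
B₁ × B₂ → A a multiplicative polynomial law homogeneous of degree d (a family of zero-cycles of
degree d on the disjoint union Spec B₁ ⊔ Spec B₂ over Spec A). Then there are natural numbers d₁ +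
d₂ = d, the multiplicities of the family on the two pieces, and multiplicative laws F₁ : B₁ → A, F₂
: B₂ → A homogeneous of degrees d₁, d₂ with F(x) = F₁(x₁) F₂(x₂) for every test algebra S and x ∈ S
⊗ (B₁ × B₂) with components x₁, x₂; and the degrees d₁, d₂ of any such factorisation are uniquely
determined. (The published statement is for finitely many algebraic spaces affine over a connected
algebraic space S; this row is the case of two pieces over an affine base.) -/
theorem result {A : Type u} [CommRing A] [ConnectedSpace (PrimeSpectrum A)]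
    {B₁ : Type u} [CommRing B₁] [Algebra A B₁] {B₂ : Type u} [CommRing B₂] [Algebra A B₂]
    {d : ℕ} (F : PolLaw.MulLaw A (B₁ × B₂) A d) :
    ∃ d₁ d₂ : ℕ, d₁ + d₂ = d ∧
      (∃ (F₁ : PolLaw.MulLaw A B₁ A d₁) (F₂ : PolLaw.MulLaw A B₂ A d₂),
        ∀ (S : Type u) [CommSemiring S] [Algebra A S] (x : S ⊗[A] (B₁ × B₂)),
          F.law.toFun' S x = F₁.law.toFun' S (LinearMap.lTensor S (LinearMap.fst A B₁ B₂) x) *
            F₂.law.toFun' S (LinearMap.lTensor S (LinearMap.snd A B₁ B₂) x)) ∧
      ∀ (e₁ e₂ : ℕ) (G₁ : PolLaw.MulLaw A B₁ A e₁) (G₂ : PolLaw.MulLaw A B₂ A e₂),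
        (∀ (S : Type u) [CommSemiring S] [Algebra A S] (x : S ⊗[A] (B₁ × B₂)),
          F.law.toFun' S x = G₁.law.toFun' S (LinearMap.lTensor S (LinearMap.fst A B₁ B₂) x) *
            G₂.law.toFun' S (LinearMap.lTensor S (LinearMap.snd A B₁ B₂) x)) → e₁ = d₁ ∧ e₂ = d₂ := by
  have : Nontrivial A := by
    obtain ⟨q⟩ := (inferInstance : Nonempty (PrimeSpectrum A))
    exact ⟨⟨0, 1, fun h => q.isPrime.ne_top ((Ideal.eq_top_iff_one _).mpr (h ▸ zero_mem _))⟩⟩
  obtain ⟨m, hm⟩ := exists_degree (A := A)
    (fun S _ _ s => nrm F S (pairT (s • (1 : S ⊗[A] B₁)) (1 : S ⊗[A] B₂)))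
    (fun h s => by rw [← nrm_natural, rT_pairT, rT_smul, map_one, map_one])
    (fun S _ _ s t => by
      rw [← ev_eq_nrm F (Algebra.ofId A S), ← ev_eq_nrm F (Algebra.ofId A S),
        ← ev_eq_nrm F (Algebra.ofId A S), ← ev_mul, pairT_mul, one_mul, smul_mul_smul_comm, one_mul])
    (fun S _ _ => by rw [one_smul]; exact nrm_one_prod F S)
  obtain ⟨n, hn⟩ := exists_degree (A := A)
    (fun S _ _ s => nrm F S (pairT (1 : S ⊗[A] B₁) (s • (1 : S ⊗[A] B₂))))
    (fun h s => by rw [← nrm_natural, rT_pairT, rT_smul, map_one, map_one])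
    (fun S _ _ s t => by
      rw [← ev_eq_nrm F (Algebra.ofId A S), ← ev_eq_nrm F (Algebra.ofId A S),
        ← ev_eq_nrm F (Algebra.ofId A S), ← ev_mul, pairT_mul, one_mul, smul_mul_smul_comm, one_mul])
    (fun S _ _ => by rw [one_smul]; exact nrm_one_prod F S)
  have hmn : m + n = d := by
    have h : (Polynomial.X : Polynomial A) ^ (m + n) = Polynomial.X ^ d := by
      rw [pow_add, ← hm, ← hn, ← ev_eq_nrm F (Algebra.ofId A _), ← ev_eq_nrm F (Algebra.ofId A _),
        ← ev_mul, pairT_mul, one_mul, mul_one, ← pairT_smul, ev_smul, pairT_one_one, ev_one, mul_one]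
    have := congrArg Polynomial.natDegree h
    rwa [Polynomial.natDegree_X_pow, Polynomial.natDegree_X_pow] at this
  refine ⟨m, n, hmn, ⟨(fstFam F m hm).toLaw, (sndFam F n hn).toLaw, fun S _ _ x => ?_⟩,
    fun e₁ e₂ G₁ G₂ hG => ?_⟩
  · let : CommRing S := testRing A S
    rw [toFun_eq_nrm, toFun_eq_nrm, toFun_eq_nrm, Algebra.TensorProduct.tmul_mul_tmul, one_mul]
    congr 1
    conv_lhs => rw [← pairT_fst_snd x]
    rw [show ∀ z, nrm (fstFam F m hm).toLaw S z = nrm F S (pairT z 1) from fun z => Fam.ev_toLaw _ _ z,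
      show ∀ z, nrm (sndFam F n hn).toLaw S z = nrm F S (pairT 1 z) from fun z => Fam.ev_toLaw _ _ z,
      ← ev_eq_nrm F (Algebra.ofId A S), ← ev_eq_nrm F (Algebra.ofId A S),
      ← ev_eq_nrm F (Algebra.ofId A S), ← ev_mul, pairT_mul, one_mul, mul_one]
  · have hprod : ∀ (u : (Polynomial A) ⊗[A] B₁) (v : (Polynomial A) ⊗[A] B₂),
        nrm F (Polynomial A) (pairT u v) = nrm G₁ _ u * nrm G₂ _ v := by
      intro u v
      have h := hG (Polynomial A) (pairT u v)
      have hu : (LinearMap.fst A B₁ B₂).lTensor (Polynomial A) (pairT u v) = u := by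
        rw [pairT, map_add, ← LinearMap.comp_apply, ← LinearMap.comp_apply, ← LinearMap.lTensor_comp,
          ← LinearMap.lTensor_comp, LinearMap.fst_comp_inl, LinearMap.fst_comp_inr]
        simp
      have hv : (LinearMap.snd A B₁ B₂).lTensor (Polynomial A) (pairT u v) = v := by
        rw [pairT, map_add, ← LinearMap.comp_apply, ← LinearMap.comp_apply, ← LinearMap.lTensor_comp,
          ← LinearMap.lTensor_comp, LinearMap.snd_comp_inl, LinearMap.snd_comp_inr]
        simp
      rw [hu, hv, toFun_eq_nrm, toFun_eq_nrm, toFun_eq_nrm, Algebra.TensorProduct.tmul_mul_tmul,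
        one_mul] at h
      have := congrArg (TensorProduct.rid A (Polynomial A)) h
      simpa using this
    have h1 := hprod ((Polynomial.X : Polynomial A) • 1) 1
    have h2 := hprod 1 ((Polynomial.X : Polynomial A) • 1)
    simp only [hm, hn, nrm, ev_smul, ev_one, mul_one, one_mul] at h1 h2
    have d1 := congrArg Polynomial.natDegree h1
    have d2 := congrArg Polynomial.natDegree h2
    have e1 := hm (Polynomial A) Polynomial.X
    have e2 := hn (Polynomial A) Polynomial.X
    simp only [nrm] at e1 e2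
    rw [e1, Polynomial.natDegree_X_pow, Polynomial.natDegree_X_pow] at d1
    rw [e2, Polynomial.natDegree_X_pow, Polynomial.natDegree_X_pow] at d2
    exact ⟨d1.symm, d2.symm⟩

end Groth.Agent.S13719
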