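import Groth.Statements.S1372
import Groth.Agent.UnivOpenCrit.Basic
-- import your own Groth.Agent.* helpers here

set_option autoImplicit false
universe u
open FlatMor

namespace Groth.Agent.S1372

open AlgebraicGeometry CategoryTheory Limits in
/-- Let A → B be a ring map and b_1, ..., b_d elements generating B as an A-module. Let h = Σ x_i b_i in
the polynomial ring B[x_1, ..., x_d]. Then universal openness of Spec B → Spec A is equivalent to
openness of the image in Spec A[x_1, ..., x_d] of the basic open D(h). -/
theorem result {A B : Type u} [CommRing A] [CommRing B] [Algebra A B] {d : ℕ} (b : Fin d → B)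
    (hb : Submodule.span A (Set.range b) = ⊤) :
    UniversallyOpen (Spec.map (CommRingCat.ofHom (algebraMap A B))) ↔
      IsOpen (PrimeSpectrum.comap (MvPolynomial.map (σ := Fin d) (algebraMap A B)) ''
        (PrimeSpectrum.basicOpen (∑ i : Fin d, MvPolynomial.X i * MvPolynomial.C (b i)) : Set (PrimeSpectrum (MvPolynomial (Fin d) B)))) := by
  constructor
  · intro h
    have ho : IsOpenMap (AffineSpace.map (ULift.{u} (Fin d)) (Spec.map (CommRingCat.ofHom (algebraMap A B)))) := by
      haveI : UniversallyOpen (AffineSpace.map (ULift.{u} (Fin d))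
          (Spec.map (CommRingCat.ofHom (algebraMap A B)))) :=
        MorphismProperty.of_isPullback (AffineSpace.isPullback_map _).flip h
      exact Scheme.Hom.isOpenMap _
    have ho' : IsOpenMap (PrimeSpectrum.comap (MvPolynomial.map (σ := ULift.{u} (Fin d)) (algebraMap A B))) := by
      have := (MorphismProperty.arrow_mk_iso_iff (topologically @IsOpenMap)
        (AffineSpace.mapSpecMap (n := ULift.{u} (Fin d)) (CommRingCat.ofHom (algebraMap A B)))).mp ho
      exact this
    exact (Groth.Agent.UnivOpenCrit.isOpenMap_comap_map_of_equiv (Equiv.ulift) ho')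
      _ PrimeSpectrum.isOpen_basicOpen
  · intro h
    refine Groth.Agent.UnivOpenCrit.universallyOpen_Spec fun R _ _ => ?_
    refine PrimeSpectrum.isTopologicalBasis_basic_opens.isOpenMap_iff.mpr ?_
    rintro _ ⟨g, rfl⟩
    obtain ⟨r, hr⟩ : ∃ r : Fin d → R, g = ∑ i, r i ⊗ₜ[A] b i :=
      Groth.Agent.UnivOpenCrit.exists_repr_of_span b hb g
    rw [hr]
    exact Groth.Agent.UnivOpenCrit.isOpen_image_basicOpen r b h

end Groth.Agent.S1372
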