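import Groth.Statements.S13725
import Groth.Agent.ZeroCyc.PowLaw
-- import your own Groth.Agent.* helpers here

set_option autoImplicit false
universe u
open scoped TensorProduct
open ZeroCyc

namespace Groth.Agent.S13725

/-- Let k be a field of characteristic p > 0 and let F : k → k be the law x ↦ x^p, multiplicative and
homogeneous of degree p over k. The kernel of F is the zero ideal, but after the flat base change k
→ A' = k[X]/(X^p) the kernel of the base-changed law on A' ⊗_k k is not zero (the class of X lies in
it). So in characteristic p, forming the kernel of a multiplicative law is not compatible with flat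
base change. -/
theorem result {k : Type u} [Field k] (p : ℕ) [Fact p.Prime] [CharP k p] :
    PolLaw.ker (PolLaw.MulLaw.pow k k p).law = ⊥ ∧
      PolLaw.kerBC (PolLaw.MulLaw.pow k k p).law (AdjoinRoot ((Polynomial.X : Polynomial k) ^ p)) ≠ ⊥ := by
  have hk : (p : k) = 0 := CharP.cast_eq_zero k p
  refine ⟨(Ideal.eq_bot_or_top _).resolve_right fun h => one_notMem_ker_pow (A := k) p (h ▸ trivial), fun h => ?_⟩
  let z : AdjoinRoot ((Polynomial.X : Polynomial k) ^ p) ⊗[k] k :=
    AdjoinRoot.root ((Polynomial.X : Polynomial k) ^ p) ⊗ₜ[k] (1 : k)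
  have hz : z ∈ PolLaw.kerBC (PolLaw.MulLaw.pow k k p).law
      (AdjoinRoot ((Polynomial.X : Polynomial k) ^ p)) := by
    intro R _ _ _ _ x w
    let : CommRing R := (algebraMap k R).commSemiringToCommRing
    show (x + w * Algebra.TensorProduct.map _ _ z) ^ p = x ^ p
    refine add_mul_pow_eq p ?_ _ _ _ ?_
    · rw [← map_natCast (algebraMap k (R ⊗[k] k)), hk, map_zero]
    · rw [← map_pow, Algebra.TensorProduct.tmul_pow, root_X_pow_pow p, TensorProduct.zero_tmul, map_zero]
  rw [h, Ideal.mem_bot] at hz
  refine root_X_pow_ne_zero (k := k) p ?_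
  simpa [z] using congrArg (TensorProduct.rid k _) hz

end Groth.Agent.S13725
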