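import Groth.Statements.S13726
import Groth.Agent.ZeroCyc.PowLaw
import Mathlib.RingTheory.MvPolynomial.Ideal
-- import your own Groth.Agent.* helpers here

set_option autoImplicit false
universe u
open scoped TensorProduct
open ZeroCyc

namespace Groth.Agent.S13726

/-- Let k be a field of characteristic p > 0 and A = k[t_i : i ∈ ℕ]/(t_i^p : i ∈ ℕ). The law x ↦ x^p
from A to A is multiplicative and homogeneous of degree p over A; its kernel is the ideal generated
by the classes of the variables t_i, and this ideal is not finitely generated. Hence the image of a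
family of zero-cycles need not be of finite presentation over the base even when X → S is. -/
theorem result {k : Type u} [Field k] (p : ℕ) [Fact p.Prime] [CharP k p] :
    PolLaw.ker (PolLaw.MulLaw.pow
        (MvPolynomial ℕ k ⧸ Ideal.span (Set.range fun i : ℕ => (MvPolynomial.X i : MvPolynomial ℕ k) ^ p))
        (MvPolynomial ℕ k ⧸ Ideal.span (Set.range fun i : ℕ => (MvPolynomial.X i : MvPolynomial ℕ k) ^ p)) p).law =
      (Ideal.span (Set.range fun i : ℕ => (MvPolynomial.X i : MvPolynomial ℕ k))).map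
        (Ideal.Quotient.mk (Ideal.span (Set.range fun i : ℕ => (MvPolynomial.X i : MvPolynomial ℕ k) ^ p))) ∧
    ¬ (PolLaw.ker (PolLaw.MulLaw.pow
        (MvPolynomial ℕ k ⧸ Ideal.span (Set.range fun i : ℕ => (MvPolynomial.X i : MvPolynomial ℕ k) ^ p))
        (MvPolynomial ℕ k ⧸ Ideal.span (Set.range fun i : ℕ => (MvPolynomial.X i : MvPolynomial ℕ k) ^ p)) p).law).FG := by
  classical
  let I : Ideal (MvPolynomial ℕ k) :=
    Ideal.span (Set.range fun i : ℕ => (MvPolynomial.X i : MvPolynomial ℕ k) ^ p)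
  let A := MvPolynomial ℕ k ⧸ I
  let m : Ideal A := (Ideal.span (Set.range fun i : ℕ => (MvPolynomial.X i : MvPolynomial ℕ k))).map
    (Ideal.Quotient.mk I)
  have hA : ((p : ℕ) : A) = 0 := by
    rw [← map_natCast (algebraMap k A), CharP.cast_eq_zero, map_zero]
  have hI : I ≤ RingHom.ker (MvPolynomial.constantCoeff : MvPolynomial ℕ k →+* k) := by
    rw [Ideal.span_le]
    rintro _ ⟨i, rfl⟩
    simp [zero_pow (Fact.out : p.Prime).ne_zero]
  let ε : A →+* k := Ideal.Quotient.lift I MvPolynomial.constantCoeff fun a ha => hI ha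
  have hεm : RingHom.ker ε ≤ m := by
    intro a ha
    obtain ⟨a, rfl⟩ := Ideal.Quotient.mk_surjective a
    refine Ideal.mem_map_of_mem _ ?_
    rw [← Set.image_univ, MvPolynomial.mem_ideal_span_X_image]
    intro s hs
    by_contra hcon
    push Not at hcon
    have hs0 : s = 0 := Finsupp.ext fun i => by simpa using hcon i (Set.mem_univ i)
    rw [hs0, MvPolynomial.mem_support_iff] at hs
    exact hs ha
  have hnt : Nontrivial A := ε.domain_nontrivial
  have hker : PolLaw.ker (PolLaw.MulLaw.pow A A p).law = m := by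
    refine le_antisymm (fun a ha => hεm ?_) ?_
    · by_contra hne
      have hle : m ≤ PolLaw.ker (PolLaw.MulLaw.pow A A p).law := by
        rw [Ideal.map_le_iff_le_comap, Ideal.span_le]
        rintro _ ⟨i, rfl⟩
        refine mem_ker_pow p hA ?_
        rw [← map_pow]
        exact Ideal.Quotient.eq_zero_iff_mem.mpr (Ideal.subset_span ⟨i, rfl⟩)
      refine one_notMem_ker_pow (A := A) p ?_
      have hu : a * algebraMap k A (ε a)⁻¹ - 1 ∈ m := hεm (by
        have : ε (algebraMap k A (ε a)⁻¹) = (ε a)⁻¹ := MvPolynomial.constantCoeff_C _ _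
        rw [RingHom.mem_ker, map_sub, map_mul, this, map_one, mul_inv_cancel₀ hne, sub_self])
      have := Ideal.sub_mem _ (Ideal.mul_mem_right (algebraMap k A (ε a)⁻¹) _ ha) (hle hu)
      rwa [sub_sub_cancel] at this
    · rw [Ideal.map_le_iff_le_comap, Ideal.span_le]
      rintro _ ⟨i, rfl⟩
      refine mem_ker_pow p hA ?_
      rw [← map_pow]
      exact Ideal.Quotient.eq_zero_iff_mem.mpr (Ideal.subset_span ⟨i, rfl⟩)
  refine ⟨hker, fun hfg => ?_⟩
  rw [hker] at hfg
  simp only [m, Ideal.map_span, ← Set.range_comp] at hfg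
  obtain ⟨T, hT, hTeq⟩ := Submodule.fg_span_iff_fg_span_finset_subset _ |>.mp hfg
  choose idx hidx using fun t : T => hT t.2
  obtain ⟨i, hi⟩ := Infinite.exists_notMem_finset (Finset.univ.image idx)
  let R := AdjoinRoot ((Polynomial.X : Polynomial k) ^ p)
  let φ0 : MvPolynomial ℕ k →ₐ[k] R :=
    MvPolynomial.aeval fun j => if j = i then AdjoinRoot.root _ else 0
  have hφ : I ≤ RingHom.ker φ0 := by
    rw [Ideal.span_le]
    rintro _ ⟨j, rfl⟩
    rw [SetLike.mem_coe, RingHom.mem_ker, map_pow, MvPolynomial.aeval_X]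
    split_ifs
    · exact root_X_pow_pow p
    · exact zero_pow (Fact.out : p.Prime).ne_zero
  let φ : A →ₐ[k] R := Ideal.Quotient.liftₐ I φ0 fun a ha => hφ ha
  have hle : Ideal.span (T : Set A) ≤ RingHom.ker φ := by
    rw [Ideal.span_le]
    intro t ht
    rw [SetLike.mem_coe, RingHom.mem_ker, show t = _ from (hidx ⟨t, ht⟩).symm]
    show φ0 (MvPolynomial.X _) = 0
    rw [MvPolynomial.aeval_X, if_neg]
    exact fun h => hi (h ▸ Finset.mem_image_of_mem idx (Finset.mem_univ _))
  have hmem : Ideal.Quotient.mk I (MvPolynomial.X i) ∈ Ideal.span (T : Set A) := by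
    rw [Ideal.span, ← hTeq]
    exact Submodule.subset_span ⟨i, rfl⟩
  have h0 : φ0 (MvPolynomial.X i) = 0 := hle hmem
  rw [MvPolynomial.aeval_X, if_pos rfl] at h0
  exact root_X_pow_ne_zero (k := k) p h0

end Groth.Agent.S13726
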