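import Groth.Statements.S13727
import Groth.Agent.ZeroCyc.Apps
import Mathlib.Topology.Sets.Closeds
import Mathlib.Topology.Connected.TotallyDisconnected
-- import your own Groth.Agent.* helpers here

set_option autoImplicit false
universe u
open scoped TensorProduct
open ZeroCyc

namespace Groth.Agent.S13727

/-- Let A be a commutative ring whose prime spectrum is connected, B a commutative A-algebra and F : B →
A a multiplicative polynomial law homogeneous of degree d. Then Spec(B/ker F), the support of the
family of zero-cycles of degree d defined by F, has at most d connected components (in particular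
finitely many). -/
theorem result {A : Type u} [CommRing A] [ConnectedSpace (PrimeSpectrum A)]
    {B : Type u} [CommRing B] [Algebra A B] {d : ℕ} (F : PolLaw.MulLaw A B A d) :
    Finite (ConnectedComponents (PrimeSpectrum (PolLaw.image F.law))) ∧
      Nat.card (ConnectedComponents (PrimeSpectrum (PolLaw.image F.law))) ≤ d := by
  classical
  let Z := PolLaw.image F.law
  let X := PrimeSpectrum Z
  let e := (Algebra.TensorProduct.lid A Z).toRingEquiv
  let h := PrimeSpectrum.homeomorphOfRingEquiv e
  let f : X → PrimeSpectrum A := PrimeSpectrum.comap (algebraMap A Z)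
  have := image_isIntegral F
  have hf : f = PrimeSpectrum.comap (algebraMap A (A ⊗[A] Z)) ∘ h.symm := by
    funext P
    refine PrimeSpectrum.ext ?_
    ext a
    show algebraMap A Z a ∈ P.asIdeal ↔ e (algebraMap A (A ⊗[A] Z) a) ∈ P.asIdeal
    simp [e, Algebra.algebraMap_eq_smul_one]
  have hopen : IsOpenMap f := hf ▸ (isOpenMap_comap F).comp h.symm.isOpenMap
  have hclosed : IsClosedMap f :=
    PrimeSpectrum.isClosedMap_comap_of_isIntegral _ (algebraMap_isIntegral_iff.mpr inferInstance)
  obtain ⟨q⟩ := (inferInstance : Nonempty (PrimeSpectrum A))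
  obtain ⟨hfin, hcard⟩ := finite_over F (A' := A) q.asIdeal
  let S0 := {P : X // f P = q}
  let toS : S0 → {P : PrimeSpectrum (A ⊗[A] Z) // P.asIdeal.comap (algebraMap A _) = q.asIdeal} :=
    fun P => ⟨h.symm P.1, by
      have := (congrFun hf P.1).symm.trans P.2
      exact congrArg PrimeSpectrum.asIdeal this⟩
  have htoS : Function.Injective toS := fun P P' hP =>
    Subtype.ext (h.symm.injective (congrArg Subtype.val hP))
  have : Finite S0 := Finite.of_injective _ htoS
  have hS0 : Nat.card S0 ≤ d := (Nat.card_le_card_of_injective _ htoS).trans hcard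
  have hmeet : ∀ U : Set X, IsClopen U → U.Nonempty → ∃ P : S0, P.1 ∈ U := by
    intro U hU hne
    have hu : f '' U = Set.univ :=
      IsClopen.eq_univ ⟨hclosed _ hU.1, hopen _ hU.2⟩ (hne.image f)
    obtain ⟨P, hPU, hPq⟩ : q ∈ f '' U := hu ▸ Set.mem_univ q
    exact ⟨⟨P, hPq⟩, hPU⟩
  have hinj : Function.Injective fun U : TopologicalSpace.Clopens X => {P : S0 | P.1 ∈ U} := by
    intro U V hUV
    by_contra hne
    have key : ∀ U V : TopologicalSpace.Clopens X, {P : S0 | P.1 ∈ U} = {P : S0 | P.1 ∈ V} →
        (U : Set X) ⊆ V := by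
      intro U V hUV x hxU
      by_contra hxV
      obtain ⟨P, hPU, hPV⟩ := hmeet ((U : Set X) ∩ (V : Set X)ᶜ) (U.2.inter V.2.compl) ⟨x, hxU, hxV⟩
      exact hPV ((Set.ext_iff.mp hUV P).mp hPU)
    exact hne (SetLike.coe_injective ((key U V hUV).antisymm (key V U hUV.symm)))
  have : Finite (TopologicalSpace.Clopens X) := Finite.of_injective _ hinj
  have hsurj : Function.Surjective fun P : S0 => (ConnectedComponents.mk P.1 : ConnectedComponents X) := by
    intro c
    obtain ⟨x, rfl⟩ := ConnectedComponents.surjective_coe c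
    let T : Set X := ⋂ U : {U : TopologicalSpace.Clopens X // x ∈ U}, (U.1 : Set X)
    have hT : IsClopen T := isClopen_iInter_of_finite fun U => U.1.2
    have hxT : x ∈ T := Set.mem_iInter.mpr fun U => U.2
    have hTc : IsPreconnected T := by
      rintro u v hu hv hcov ⟨a, haT, hau⟩ ⟨b, hbT, hbv⟩
      by_contra hemp
      have hdisj : ∀ z ∈ T, z ∈ u → z ∉ v := fun z hz h1 h2 => hemp ⟨z, hz, h1, h2⟩
      have hu' : IsClopen (T ∩ u) := by
        refine ⟨?_, hT.2.inter hu⟩
        have : T ∩ u = T ∩ vᶜ := by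
          ext z
          exact ⟨fun hz => ⟨hz.1, hdisj z hz.1 hz.2⟩, fun hz => ⟨hz.1, (hcov hz.1).resolve_right hz.2⟩⟩
        rw [this]
        exact hT.1.inter hv.isClosed_compl
      by_cases hxu : x ∈ u
      · have := Set.mem_iInter.mp hbT ⟨⟨T ∩ u, hu'⟩, hxT, hxu⟩
        exact hdisj b hbT this.2 hbv
      · have hc : IsClopen (T ∩ (T ∩ u)ᶜ) := hT.inter hu'.compl
        have := Set.mem_iInter.mp haT ⟨⟨T ∩ (T ∩ u)ᶜ, hc⟩, hxT, fun h => hxu h.2⟩
        exact this.2 ⟨haT, hau⟩
    obtain ⟨P, hP⟩ := hmeet T hT ⟨x, hxT⟩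
    exact ⟨P, ConnectedComponents.coe_eq_coe'.mpr (hTc.subset_connectedComponent hxT hP)⟩
  exact ⟨Finite.of_surjective _ hsurj, (Nat.card_le_card_of_surjective _ hsurj).trans hS0⟩

end Groth.Agent.S13727
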