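import Groth.Statements.S13728
import Mathlib
-- import your own Groth.Agent.* helpers here

set_option autoImplicit false
universe u
open scoped TensorProduct
open ZeroCyc

namespace Groth.Agent.S13728

/-- The functor B ↦ TS^d_A(B) (symmetric tensors of degree d, the invariants of the symmetric group in
the d-fold tensor power) commutes with filtered direct limits. Concretely, let B be the direct limit
of a directed system (B_i, t_ij : B_i → B_j) of commutative algebras over the commutative ring A
(t_ii the identity, t_jk ∘ t_ij = t_ik) with structure maps φ_i : B_i → B (compatible with the t_ij,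
jointly surjective, and an element of B_i vanishing in B vanishes in some B_j). Then every element
of TS^d_A(B) is the image of an element of some TS^d_A(B_i), and an element of TS^d_A(B_i) whose
image in TS^d_A(B) is zero has image zero in TS^d_A(B_j) for some j ≥ i. -/
theorem result {A : Type u} [CommRing A] {B : Type u} [CommRing B] [Algebra A B]
    {ι : Type u} [Preorder ι] [IsDirected ι (fun i j => i ≤ j)] [Nonempty ι]
    (Bi : ι → Type u) [∀ i, CommRing (Bi i)] [∀ i, Algebra A (Bi i)]
    (t : ∀ i j : ι, i ≤ j → (Bi i →ₐ[A] Bi j)) (φ : ∀ i : ι, Bi i →ₐ[A] B)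
    (hcomp : ∀ (i j : ι) (h : i ≤ j), (φ j).comp (t i j h) = φ i)
    (hsurj : ∀ b : B, ∃ (i : ι) (x : Bi i), φ i x = b)
    (hzero : ∀ (i : ι) (x : Bi i), φ i x = 0 → ∃ (j : ι) (h : i ≤ j), t i j h x = 0)
    (hid : ∀ (i : ι) (h : i ≤ i), t i i h = AlgHom.id A (Bi i))
    (htrans : ∀ (i j k : ι) (hij : i ≤ j) (hjk : j ≤ k), (t j k hjk).comp (t i j hij) = t i k (hij.trans hjk)) (d : ℕ) :
    (∀ z : SymTen.TS A B d, ∃ (i : ι) (y : SymTen.TS A (Bi i) d), SymTen.TSmap A d (φ i) y = z) ∧
      ∀ (i : ι) (y : SymTen.TS A (Bi i) d), SymTen.TSmap A d (φ i) y = 0 →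
        ∃ (j : ι) (h : i ≤ j), SymTen.TSmap A d (t i j h) y = 0 := by
  classical
  let G : ι → Type u := fun j => ⨂[A] _ : Fin d, Bi j
  let f : ∀ i j, i ≤ j → G i →ₗ[A] G j := fun i j h => (SymTen.tmap A d (t i j h)).toLinearMap
  have htm : ∀ {X Y : Type u} [CommRing X] [Algebra A X] [CommRing Y] [Algebra A Y] (g : X →ₐ[A] Y)
      {Z : Type u} [CommRing Z] [Algebra A Z] (g' : Y →ₐ[A] Z) (z : ⨂[A] _ : Fin d, X),
      SymTen.tmap A d g' (SymTen.tmap A d g z) = SymTen.tmap A d (g'.comp g) z := by
    intro X Y _ _ _ _ g Z _ _ g' z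
    induction z using PiTensorProduct.induction_on with
    | smul_tprod r x => simp
    | add x y hx hy => simp [hx, hy]
  haveI : DirectedSystem G (fun i j h => f i j h) :=
    { map_self := fun i z => by
        show SymTen.tmap A d (t i i le_rfl) z = z
        rw [hid]
        induction z using PiTensorProduct.induction_on with
        | smul_tprod r x => simp
        | add x y hx hy => simp [hx, hy]
      map_map := fun k j i hij hjk z => by
        show SymTen.tmap A d (t j k hjk) (SymTen.tmap A d (t i j hij) z) = SymTen.tmap A d (t i k _) z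
        rw [htm, htrans] }
  have hφt : ∀ (i j : ι) (h : i ≤ j) (x : Bi i), φ j (t i j h x) = φ i x :=
    fun i j h x => AlgHom.congr_fun (hcomp i j h) x
  let of := Module.DirectLimit.of A ι G f
  have hof : ∀ (i j : ι) (h : i ≤ j) (z : G i), of j (SymTen.tmap A d (t i j h) z) = of i z :=
    fun i j h z => Module.DirectLimit.of_f
  -- independence of lifts
  have key : ∀ (i j : ι) (a : Fin d → Bi i) (b : Fin d → Bi j), (∀ m, φ i (a m) = φ j (b m)) →
      of i (PiTensorProduct.tprod A a) = of j (PiTensorProduct.tprod A b) := by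
    intro i j a b hab
    obtain ⟨k, hik, hjk⟩ := directed_of (· ≤ ·) i j
    have hz : ∀ m, ∃ (l : ι) (h : k ≤ l), t k l h (t i k hik (a m) - t j k hjk (b m)) = 0 := fun m =>
      hzero k _ (by rw [map_sub, hφt, hφt, hab, sub_self])
    choose l hkl hl using hz
    obtain ⟨K, hK⟩ := Finite.exists_le l
    obtain ⟨K', hKK, hkK⟩ := directed_of (· ≤ ·) K k
    have hik' := hik.trans hkK
    have hjk' := hjk.trans hkK
    rw [← hof i K' hik', ← hof j K' hjk', SymTen.tmap_tprod, SymTen.tmap_tprod]
    congr 2
    funext m
    have h1 := congr_arg (t (l m) K' ((hK m).trans hKK)) (hl m)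
    rw [map_zero, ← AlgHom.comp_apply, htrans, map_sub, ← AlgHom.comp_apply, htrans,
      ← AlgHom.comp_apply, htrans, sub_eq_zero] at h1
    exact h1
  have hlift : ∀ x : Fin d → B, ∃ (i : ι) (a : Fin d → Bi i), ∀ m, φ i (a m) = x m := by
    intro x
    choose i a ha using fun m => hsurj (x m)
    obtain ⟨K, hK⟩ := Finite.exists_le i
    exact ⟨K, fun m => t (i m) K (hK m) (a m), fun m => by rw [hφt, ha]⟩
  choose I L hL using hlift
  let P : (Fin d → B) → Module.DirectLimit G f := fun x => of (I x) (PiTensorProduct.tprod A (L x))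
  have hP : ∀ (x : Fin d → B) (j : ι) (b : Fin d → Bi j), (∀ m, φ j (b m) = x m) →
      P x = of j (PiTensorProduct.tprod A b) :=
    fun x j b hb => key _ _ _ _ fun m => by rw [hL, hb]
  let μ : MultilinearMap A (fun _ : Fin d => B) (Module.DirectLimit G f) :=
    { toFun := P
      map_update_add' := by
        intro inst x m u v
        obtain rfl : inst = instDecidableEqFin d := Subsingleton.elim _ _
        obtain ⟨iu, au, hau⟩ := hsurj u
        obtain ⟨iv, av, hav⟩ := hsurj v
        obtain ⟨k, hk1, hk2⟩ := directed_of (· ≤ ·) iu iv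
        obtain ⟨k', hk3, hk4⟩ := directed_of (· ≤ ·) k (I x)
        set a := fun n => t (I x) k' hk4 (L x n)
        set cu := t iu k' (hk1.trans hk3) au
        set cv := t iv k' (hk2.trans hk3) av
        have hu : ∀ n, φ k' (Function.update a m cu n) = Function.update x m u n := fun n => by
          rcases eq_or_ne n m with rfl | h
          · simp [cu, hφt, hau]
          · simp [h, a, hφt, hL]
        have hv : ∀ n, φ k' (Function.update a m cv n) = Function.update x m v n := fun n => by
          rcases eq_or_ne n m with rfl | h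
          · simp [cv, hφt, hav]
          · simp [h, a, hφt, hL]
        have huv : ∀ n, φ k' (Function.update a m (cu + cv) n) = Function.update x m (u + v) n :=
          fun n => by
            rcases eq_or_ne n m with rfl | h
            · simp [cu, cv, hφt, hau, hav]
            · simp [h, a, hφt, hL]
        rw [hP _ _ _ hu, hP _ _ _ hv, hP _ _ _ huv, MultilinearMap.map_update_add, map_add]
      map_update_smul' := by
        intro inst x m r u
        obtain rfl : inst = instDecidableEqFin d := Subsingleton.elim _ _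
        obtain ⟨iu, au, hau⟩ := hsurj u
        obtain ⟨k', hk3, hk4⟩ := directed_of (· ≤ ·) iu (I x)
        set a := fun n => t (I x) k' hk4 (L x n)
        set cu := t iu k' hk3 au
        have hu : ∀ n, φ k' (Function.update a m cu n) = Function.update x m u n := fun n => by
          rcases eq_or_ne n m with rfl | h
          · simp [cu, hφt, hau]
          · simp [h, a, hφt, hL]
        have hru : ∀ n, φ k' (Function.update a m (r • cu) n) = Function.update x m (r • u) n :=
          fun n => by
            rcases eq_or_ne n m with rfl | h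
            · simp [cu, hφt, hau]
            · simp [h, a, hφt, hL]
        rw [hP _ _ _ hu, hP _ _ _ hru, MultilinearMap.map_update_smul, map_smul] }
  let Ψ := PiTensorProduct.lift μ
  have hΨ : ∀ (i : ι) (z : G i), Ψ (SymTen.tmap A d (φ i) z) = of i z := by
    intro i z
    induction z using PiTensorProduct.induction_on with
    | smul_tprod r a =>
      simp only [map_smul, SymTen.tmap_tprod, Ψ, PiTensorProduct.lift.tprod]
      exact congr_arg (r • ·) (hP _ i a fun m => rfl)
    | add x y hx hy => simp [hx, hy]
  have hinj : ∀ (i : ι) (z : G i), SymTen.tmap A d (φ i) z = 0 →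
      ∃ (j : ι) (h : i ≤ j), SymTen.tmap A d (t i j h) z = 0 := by
    intro i z hz
    have h0 : of i z = 0 := by rw [← hΨ, hz, map_zero]
    obtain ⟨j, h, hj⟩ := Module.DirectLimit.of.zero_exact h0
    exact ⟨j, h, hj⟩
  have hsur : ∀ w : ⨂[A] _ : Fin d, B, ∃ (i : ι) (z : G i), SymTen.tmap A d (φ i) z = w := by
    intro w
    induction w using PiTensorProduct.induction_on with
    | smul_tprod r x =>
      exact ⟨I x, r • PiTensorProduct.tprod A (L x), by simp [hL]⟩
    | add x y hx hy =>
      obtain ⟨i, a, rfl⟩ := hx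
      obtain ⟨j, b, rfl⟩ := hy
      obtain ⟨k, hik, hjk⟩ := directed_of (· ≤ ·) i j
      exact ⟨k, SymTen.tmap A d (t i k hik) a + SymTen.tmap A d (t j k hjk) b, by
        rw [map_add, htm, htm, hcomp, hcomp]⟩
  refine ⟨fun z => ?_, fun i y hy => ?_⟩
  · obtain ⟨i, w, hw⟩ := hsur z.1
    have hσ : ∀ σ : Equiv.Perm (Fin d), ∃ (j : ι) (h : i ≤ j),
        SymTen.tmap A d (t i j h) (PiTensorProduct.reindex A (fun _ : Fin d => Bi i) σ w - w) = 0 :=
      fun σ => hinj i _ (by rw [map_sub, SymTen.tmap_reindex, hw, z.2 σ, sub_self])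
    choose j hij hj using hσ
    obtain ⟨K, hK⟩ := Finite.exists_le j
    have hiK : i ≤ K := (hij 1).trans (hK 1)
    refine ⟨K, ⟨SymTen.tmap A d (t i K hiK) w, fun σ => ?_⟩, Subtype.ext ?_⟩
    · have h1 := congr_arg (SymTen.tmap A d (t (j σ) K (hK σ))) (hj σ)
      rw [map_zero, htm, htrans, map_sub, SymTen.tmap_reindex, sub_eq_zero] at h1
      exact h1
    · show SymTen.tmap A d (φ K) (SymTen.tmap A d (t i K hiK) w) = z.1
      rw [htm, hcomp, hw]
  · obtain ⟨j, h, hj⟩ := hinj i y.1 (congr_arg Subtype.val hy)
    exact ⟨j, h, Subtype.ext hj⟩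

end Groth.Agent.S13728
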