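import Groth.Statements.S13729
import Groth.Agent.ZeroCyc.Flat
-- import your own Groth.Agent.* helpers here

set_option autoImplicit false
universe u
open scoped TensorProduct
open ZeroCyc

namespace Groth.Agent.S13729

/-- Let (C, γ) be the algebra of divided powers Γ^d_A(B) of a commutative A-algebra B with its universal
multiplicative law γ : B → C homogeneous of degree d (every multiplicative law B → C' homogeneous of
degree d factors uniquely through γ by an algebra map C → C'). If B is flat over A then C = Γ^d_A(B)
is flat over A. (The published statement is that Γ^d(X/S) → S inherits flatness from X → S for any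
separated algebraic space X over S; this row is the case X and S affine, where Γ^d(X/S) = Spec
Γ^d_A(B).) -/
theorem result {A : Type u} [CommRing A] {B : Type u} [CommRing B] [Algebra A B] {C : Type u} [CommRing C] [Algebra A C]
    {d : ℕ} (γ : PolLaw.MulLaw A B C d) (hγ : PolLaw.IsGammaD γ) [Module.Flat A B] :
    Module.Flat A C := by
  obtain ⟨f, hf, -⟩ := hγ _ (ZeroCyc.tau A B d)
  obtain ⟨g, hg, -⟩ := ZeroCyc.isGammaD_tau (Or.inl inferInstance) C γ
  have hf' : γ.postcomp f = ZeroCyc.tau A B d := PolLaw.MulLaw.ext hf
  have hg' : (ZeroCyc.tau A B d).postcomp g = γ := PolLaw.MulLaw.ext hg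
  have hgf : g.comp f = AlgHom.id A C := by
    refine ZeroCyc.algHom_ext_of_coefSub (ZeroCyc.coefSub_eq_top hγ) ?_
    refine ZeroCyc.mulLaw_ext_free fun R _ _ _ x => ?_
    show (g.comp f).toLinearMap.lTensor R _ = (AlgHom.id A C).toLinearMap.lTensor R _
    rw [AlgHom.comp_toLinearMap, LinearMap.lTensor_comp, LinearMap.comp_apply]
    refine ((congrArg (fun G : PolLaw.MulLaw A B (SymTen.TS A B d) d =>
      g.toLinearMap.lTensor R (G.law.toFun' R x)) hf').trans ?_)
    refine (congrArg (fun G : PolLaw.MulLaw A B C d => G.law.toFun' R x) hg').trans ?_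
    simp
  have := ZeroCyc.flat_TS (A := A) (B := B) (d := d)
  exact Module.Flat.of_retract f.toLinearMap g.toLinearMap
    (LinearMap.ext fun c => AlgHom.congr_fun hgf c)

end Groth.Agent.S13729
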