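import Groth.Statements.S1373
import Groth.Agent.UnivOpenCrit.Basic
-- import your own Groth.Agent.* helpers here

set_option autoImplicit false
universe u
open FlatMor

namespace Groth.Agent.S1373

open AlgebraicGeometry CategoryTheory Limits in
/-- (1) ⇔ (3): a morphism f : X → S is universally open if and only if for every n the induced morphism
from affine n-space over X to affine n-space over S is open. -/
theorem result {X S : Scheme.{u}} (f : X ⟶ S) :
    UniversallyOpen f ↔ ∀ n : ℕ, IsOpenMap ⇑(AffineSpace.map (ULift.{u} (Fin n)) f) := by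
  constructor
  · intro h n
    haveI : UniversallyOpen (AffineSpace.map (ULift.{u} (Fin n)) f) :=
      MorphismProperty.of_isPullback (AffineSpace.isPullback_map _).flip h
    exact Scheme.Hom.isOpenMap _
  · intro h
    have key : ∀ x : X, ∃ U : X.Opens, x ∈ U ∧ UniversallyOpen (U.ι ≫ f) := by
      intro x
      obtain ⟨V, hV, hxV, -⟩ := exists_isAffineOpen_mem_and_subset (U := (⊤ : S.Opens)) (x := f x) trivial
      obtain ⟨U, hU, hxU, hUV⟩ := exists_isAffineOpen_mem_and_subset (U := f ⁻¹ᵁ V) (x := x) hxV
      haveI : IsAffine (U : Scheme.{u}) := hU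
      haveI : IsAffine (V : Scheme.{u}) := hV
      let g : (U : Scheme.{u}) ⟶ (V : Scheme.{u}) := IsOpenImmersion.lift V.ι (U.ι ≫ f) (by
        rintro _ ⟨y, rfl⟩
        rw [Scheme.Opens.range_ι]; exact hUV y.2)
      have hg : g ≫ V.ι = U.ι ≫ f := IsOpenImmersion.lift_fac _ _ _
      refine ⟨U, hxU, ?_⟩
      rw [← hg]
      haveI : UniversallyOpen g := by
        refine Groth.Agent.UnivOpenCrit.universallyOpen_of_isAffine g fun n => ?_
        let ι' := ULift.{u} (Fin n)
        haveI : IsOpenImmersion (AffineSpace.map ι' U.ι) :=
          MorphismProperty.of_isPullback (AffineSpace.isPullback_map U.ι).flip inferInstance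
        haveI : IsOpenImmersion (AffineSpace.map ι' V.ι) :=
          MorphismProperty.of_isPullback (AffineSpace.isPullback_map V.ι).flip inferInstance
        have h2 : IsOpenMap ((AffineSpace.map ι' V.ι) ∘ (AffineSpace.map ι' g)) := by
          have : IsOpenMap (AffineSpace.map ι' U.ι ≫ AffineSpace.map ι' f) := by
            rw [Scheme.Hom.comp_base, TopCat.coe_comp]
            exact (h n).comp (Scheme.Hom.isOpenEmbedding _).isOpenMap
          rw [← AffineSpace.map_comp, ← hg, AffineSpace.map_comp, Scheme.Hom.comp_base,
            TopCat.coe_comp] at this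
          exact this
        intro W hW
        rw [← Set.preimage_image_eq ((AffineSpace.map ι' g) '' W)
          (Scheme.Hom.isOpenEmbedding (AffineSpace.map ι' V.ι)).injective, ← Set.image_comp]
        exact (h2 W hW).preimage (Scheme.Hom.continuous _)
      infer_instance
    choose U hxU hU using key
    exact (IsZariskiLocalAtSource.iff_of_openCover
      (X.openCoverOfIsOpenCover U (TopologicalSpace.IsOpenCover.mk (eq_top_iff.mpr fun x _ =>
        TopologicalSpace.Opens.mem_iSup.mpr ⟨x, hxU x⟩)))).mpr hU

end Groth.Agent.S1373
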