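import Groth.Statements.S19530
import Mathlib.AlgebraicGeometry.ValuativeCriterion
import Mathlib.RingTheory.Valuation.LocalSubring
import Mathlib.RingTheory.Ideal.GoingUp
import Mathlib.Tactic

set_option autoImplicit false
set_option linter.style.haveILetI false
set_option backward.isDefEq.respectTransparency false
set_option backward.isDefEq.respectTransparency.types false
universe u
open CategoryTheory CategoryTheory.Limits AlgebraicGeometry
open Subtr

namespace Groth.Agent.S19530

/-- A finite chain of primes is cut out by a valuation ring. -/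
lemma exists_valuation_chain (n : ℕ) : ∀ (K : Type u) [Field K] (A : Type u) [CommRing A] (h : A →+* K)
    (p : Fin (n + 1) → PrimeSpectrum A), Monotone p → (p 0).asIdeal = RingHom.ker h →
      ∃ (V : ValuationSubring K) (hV : ∀ a, h a ∈ V),
        ∀ i, ∃ P : PrimeSpectrum V, P.asIdeal.comap (h.codRestrict V hV) = (p i).asIdeal := by
  induction n with
  | zero =>
    intro K _ A _ h p _ h0
    refine ⟨⊤, fun _ => trivial, fun i => ⟨⟨⊥, Ideal.isPrime_bot⟩, ?_⟩⟩
    rw [Fin.eq_zero i, h0]
    ext a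
    simp [Subtype.ext_iff]
  | succ n ih =>
    intro K _ A _ h p hp h0
    let q := (p 1).asIdeal
    have hunit : ∀ y : q.primeCompl, IsUnit (h y) := fun y => isUnit_iff_ne_zero.2 fun hy =>
      y.2 (hp (Fin.zero_le 1) (show (y : A) ∈ (p 0).asIdeal from h0 ▸ hy))
    let hl : Localization.AtPrime q →+* K := IsLocalization.lift hunit
    obtain ⟨V₁, hV₁, hloc⟩ := IsLocalRing.exists_factor_valuationRing hl
    haveI : IsLocalHom (hl.codRestrict V₁ hV₁) := hloc
    let h₁ : A →+* IsLocalRing.ResidueField V₁ :=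
      (IsLocalRing.residue V₁).comp ((hl.codRestrict V₁ hV₁).comp (algebraMap A (Localization.AtPrime q)))
    have hker : q = RingHom.ker h₁ := by
      ext a
      rw [RingHom.mem_ker]
      show _ ↔ IsLocalRing.residue V₁ (hl.codRestrict V₁ hV₁ (algebraMap A (Localization.AtPrime q) a)) = 0
      rw [IsLocalRing.residue_eq_zero_iff, IsLocalRing.mem_maximalIdeal, mem_nonunits_iff,
        isUnit_map_iff, IsLocalization.AtPrime.isUnit_to_map_iff (Localization.AtPrime q) q]
      simp
    obtain ⟨W₁, hW₁, hP⟩ := ih _ A h₁ (fun i => p i.succ) (fun i j hij => hp (Fin.succ_le_succ_iff.2 hij))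
      (by rw [Fin.succ_zero_eq_one]; exact hker)
    let W : ValuationSubring K :=
      { carrier := {x | ∃ hx : x ∈ V₁, IsLocalRing.residue V₁ ⟨x, hx⟩ ∈ W₁}
        mul_mem' := fun {a b} ⟨ha, ha'⟩ ⟨hb, hb'⟩ => ⟨mul_mem ha hb,
          (map_mul (IsLocalRing.residue V₁) ⟨a, ha⟩ ⟨b, hb⟩).symm ▸ mul_mem ha' hb'⟩
        one_mem' := ⟨one_mem _, (map_one (IsLocalRing.residue V₁)).symm ▸ one_mem W₁⟩
        add_mem' := fun {a b} ⟨ha, ha'⟩ ⟨hb, hb'⟩ => ⟨add_mem ha hb,
          (map_add (IsLocalRing.residue V₁) ⟨a, ha⟩ ⟨b, hb⟩).symm ▸ add_mem ha' hb'⟩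
        zero_mem' := ⟨zero_mem _, (map_zero (IsLocalRing.residue V₁)).symm ▸ zero_mem W₁⟩
        neg_mem' := fun {a} ⟨ha, ha'⟩ => ⟨neg_mem ha,
          (map_neg (IsLocalRing.residue V₁) ⟨a, ha⟩).symm ▸ neg_mem ha'⟩
        mem_or_inv_mem' := fun x => by
          rcases V₁.mem_or_inv_mem x with hx | hx
          · by_cases hu : IsUnit (⟨x, hx⟩ : V₁)
            · obtain ⟨y, hy⟩ := hu.exists_right_inv
              have hy' : (y : K) = x⁻¹ := eq_inv_of_mul_eq_one_right (congrArg Subtype.val hy)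
              rcases W₁.mem_or_inv_mem (IsLocalRing.residue V₁ ⟨x, hx⟩) with h | h
              · exact Or.inl ⟨hx, h⟩
              · refine Or.inr ⟨hy' ▸ y.2, ?_⟩
                have he : IsLocalRing.residue V₁ y = (IsLocalRing.residue V₁ ⟨x, hx⟩)⁻¹ :=
                  eq_inv_of_mul_eq_one_right (by rw [← map_mul, hy, map_one])
                rw [show (⟨x⁻¹, hy' ▸ y.2⟩ : V₁) = y from Subtype.ext hy'.symm, he]; exact h
            · exact Or.inl ⟨hx, ((IsLocalRing.residue_eq_zero_iff _).2 hu).symm ▸ zero_mem W₁⟩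
          · by_cases hu : IsUnit (⟨x⁻¹, hx⟩ : V₁)
            · obtain ⟨y, hy⟩ := hu.exists_right_inv
              have hy' : (y : K) = x := by
                have := eq_inv_of_mul_eq_one_right (congrArg Subtype.val hy)
                rwa [inv_inv] at this
              rcases W₁.mem_or_inv_mem (IsLocalRing.residue V₁ ⟨x⁻¹, hx⟩) with h | h
              · exact Or.inr ⟨hx, h⟩
              · refine Or.inl ⟨hy' ▸ y.2, ?_⟩
                have he : IsLocalRing.residue V₁ y = (IsLocalRing.residue V₁ ⟨x⁻¹, hx⟩)⁻¹ :=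
                  eq_inv_of_mul_eq_one_right (by rw [← map_mul, hy, map_one])
                rw [show (⟨x, hy' ▸ y.2⟩ : V₁) = y from Subtype.ext hy'.symm, he]; exact h
            · exact Or.inr ⟨hx, ((IsLocalRing.residue_eq_zero_iff _).2 hu).symm ▸ zero_mem W₁⟩ }
    have hlA : ∀ a, hl (algebraMap A (Localization.AtPrime q) a) = h a := fun a => IsLocalization.lift_eq hunit a
    have hW : ∀ a, h a ∈ W := fun a => by
      refine ⟨hlA a ▸ hV₁ _, ?_⟩
      exact (show (⟨h a, hlA a ▸ hV₁ _⟩ : V₁) = hl.codRestrict V₁ hV₁ (algebraMap A _ a) from Subtype.ext (hlA a).symm) ▸ hW₁ a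
    refine ⟨W, hW, fun i => ?_⟩
    cases i using Fin.cases with
    | zero =>
      refine ⟨⟨⊥, Ideal.isPrime_bot⟩, ?_⟩
      rw [h0]
      ext a
      simp [Subtype.ext_iff]
    | succ i =>
      obtain ⟨P, hP⟩ := hP i
      let π : W →+* W₁ :=
        { toFun := fun x => ⟨IsLocalRing.residue V₁ ⟨x.1, x.2.1⟩, x.2.2⟩
          map_one' := Subtype.ext (map_one (IsLocalRing.residue V₁))
          map_mul' := fun x y => Subtype.ext (map_mul (IsLocalRing.residue V₁) ⟨x.1, x.2.1⟩ ⟨y.1, y.2.1⟩)
          map_zero' := Subtype.ext (map_zero (IsLocalRing.residue V₁))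
          map_add' := fun x y => Subtype.ext (map_add (IsLocalRing.residue V₁) ⟨x.1, x.2.1⟩ ⟨y.1, y.2.1⟩) }
      refine ⟨⟨P.asIdeal.comap π, inferInstance⟩, ?_⟩
      rw [Ideal.comap_comap, ← hP]
      congr 1
      ext a
      exact congrArg (IsLocalRing.residue V₁) (Subtype.ext (hlA a).symm)

/-- An injective local map of valuation rings is surjective on spectra. -/
lemma comap_surjective {W A : Type u} [CommRing W] [IsDomain W] [ValuationRing W] [CommRing A] [IsDomain A]
    [ValuationRing A] (ψ : W →+* A) [IsLocalHom ψ] (hψ : Function.Injective ψ) :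
    Function.Surjective (PrimeSpectrum.comap ψ) := by
  intro P
  have hgen : ∀ z ∈ P.asIdeal.map ψ, ∃ b ∈ P.asIdeal, ψ b ∣ z := by
    intro z hz
    induction hz using Submodule.span_induction with
    | mem z hz => obtain ⟨b, hb, rfl⟩ := hz; exact ⟨b, hb, dvd_rfl⟩
    | zero => exact ⟨0, zero_mem _, dvd_zero _⟩
    | add z z' _ _ hz hz' =>
      obtain ⟨b, hb, hd⟩ := hz; obtain ⟨b', hb', hd'⟩ := hz'
      rcases ValuationRing.dvd_total b b' with h | h
      · exact ⟨b, hb, dvd_add hd ((map_dvd ψ h).trans hd')⟩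
      · exact ⟨b', hb', dvd_add ((map_dvd ψ h).trans hd) hd'⟩
    | smul c z _ hz => obtain ⟨b, hb, hd⟩ := hz; exact ⟨b, hb, hd.mul_left c⟩
  have hle : (P.asIdeal.map ψ).comap ψ = P.asIdeal := by
    refine le_antisymm (fun s hs => ?_) Ideal.le_comap_map
    obtain ⟨b, hb, a, ha⟩ := hgen _ hs
    by_contra hsP
    rcases ValuationRing.dvd_total b s with ⟨t, rfl⟩ | ⟨t, rfl⟩
    · exact hsP (Ideal.mul_mem_right _ _ hb)
    · have htP : t ∈ P.asIdeal := (P.2.mem_or_mem hb).resolve_left hsP
      have hs0 : ψ s ≠ 0 := fun h => hsP (hψ (h.trans (map_zero ψ).symm) ▸ zero_mem _)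
      rw [map_mul, mul_assoc] at ha
      have hu : IsUnit (ψ t) := IsUnit.of_mul_eq_one _ ((mul_eq_left₀ hs0).1 ha.symm)
      exact P.2.ne_top (Ideal.eq_top_of_isUnit_mem _ htP ((isUnit_map_iff ψ t).1 hu))
  obtain ⟨Q, hQ, hQP⟩ := (Ideal.comap_map_eq_self_iff_of_isPrime P.asIdeal).1 hle
  exact ⟨⟨Q, hQ⟩, PrimeSpectrum.ext hQP⟩

/-- A valuation ring through a pair of specialising points. -/
lemma exists_valuation_pair {X : Scheme.{u}} {x x' : X} (h : x' ⤳ x) :
    ∃ (A : Type u) (_ : CommRing A) (_ : IsDomain A) (_ : ValuationRing A) (g : Spec (CommRingCat.of A) ⟶ X),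
      g (IsLocalRing.closedPoint A) = x ∧ g (⟨⊥, Ideal.isPrime_bot⟩ : PrimeSpectrum A) = x' := by
  let σ := X.presheaf.stalkSpecializes h ≫ X.residue x'
  obtain ⟨A, hA, hloc⟩ := IsLocalRing.exists_factor_valuationRing σ.hom
  let τ : X.presheaf.stalk x ⟶ CommRingCat.of A := CommRingCat.ofHom (σ.hom.codRestrict _ hA)
  refine ⟨A, inferInstance, inferInstance, inferInstance, Spec.map τ ≫ X.fromSpecStalk x, ?_, ?_⟩
  · rw [Scheme.Hom.comp_apply]
    have : Spec.map τ (IsLocalRing.closedPoint A) = IsLocalRing.closedPoint (X.presheaf.stalk x) :=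
      IsLocalRing.comap_closedPoint (S := A) (σ.hom.codRestrict A.toSubring hA)
    rw [this, X.fromSpecStalk_closedPoint]
  · have w : X.fromSpecResidueField x' =
        Spec.map (CommRingCat.ofHom (algebraMap A (X.residueField x'))) ≫ Spec.map τ ≫ X.fromSpecStalk x := by
      rw [Scheme.fromSpecResidueField, ← Scheme.SpecMap_stalkSpecializes_fromSpecStalk h]
      simp_rw [← Spec.map_comp_assoc]
      rfl
    have hb : Spec.map (CommRingCat.ofHom (algebraMap A (X.residueField x'))) (IsLocalRing.closedPoint (X.residueField x')) =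
        (⟨⊥, Ideal.isPrime_bot⟩ : PrimeSpectrum A) := by
      refine PrimeSpectrum.ext ?_
      show (IsLocalRing.maximalIdeal (X.residueField x')).comap (algebraMap A (X.residueField x')) = ⊥
      rw [IsLocalRing.maximalIdeal_eq_bot, ← RingHom.ker_eq_comap_bot]
      exact (RingHom.injective_iff_ker_eq_bot _).1 Subtype.val_injective
    rw [← hb, ← Scheme.Hom.comp_apply, ← w]
    exact Scheme.fromSpecResidueField_apply x' _

/-- Let f : X ⟶ Y be a morphism of schemes such that every base change of f has the lifting property for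
ordered pairs of points (every point together with a specialization of it is the image of such a
pair). Then every finite chain of points y_0, y_1, …, y_n of Y, in which y_j is a specialization of
y_i whenever i ≤ j, lifts to a chain in X: there are points x_0, …, x_n of X with x_j a
specialization of x_i for i ≤ j and f(x_i) = y_i for every i. (The published statement is for
universally subtrusive f, which adds submersiveness for the constructible topologies, and for
arbitrary chains having a lower bound in Y; this row keeps the pair-lifting property alone and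
finite chains, whose most special member is a lower bound.) -/
theorem result {X Y : Scheme.{u}} (f : X ⟶ Y)
    (hf : Subtr.UnivSSubtrusive f) (n : ℕ) (y : Fin (n + 1) → Y)
    (hy : ∀ i j : Fin (n + 1), i ≤ j → y i ⤳ y j) :
    ∃ x : Fin (n + 1) → X, (∀ i j : Fin (n + 1), i ≤ j → x i ⤳ x j) ∧ ∀ i, f (x i) = y i := by
  classical
  obtain ⟨U, hU, hnU, -⟩ := exists_isAffineOpen_mem_and_subset (X := Y) (x := y (Fin.last n)) (U := ⊤) trivial
  have hmem : ∀ i, y i ∈ U := fun i => (hy i (Fin.last n) (Fin.le_last i)).mem_open U.2 hnU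
  let p : Fin (n + 1) → PrimeSpectrum Γ(Y, U) := fun i => hU.primeIdealOf ⟨y i, hmem i⟩
  have hpy : ∀ i, hU.fromSpec (p i) = y i := fun i => hU.fromSpec_primeIdealOf ⟨y i, hmem i⟩
  have hp : Monotone p := fun i j hij => (PrimeSpectrum.le_iff_specializes _ _).2
    (hU.fromSpec.isOpenEmbedding.isInducing.specializes_iff.1 (by rw [hpy, hpy]; exact hy i j hij))
  let K := (p 0).asIdeal.ResidueField
  obtain ⟨W, hW, hP⟩ := exists_valuation_chain n K Γ(Y, U) (algebraMap Γ(Y, U) K) p hp
    (Ideal.ker_algebraMap_residueField _).symm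
  let g : Spec (CommRingCat.of W) ⟶ Y := Spec.map (CommRingCat.ofHom ((algebraMap Γ(Y, U) K).codRestrict W hW)) ≫ hU.fromSpec
  have hS : Subtr.IsSSubtrusive (pullback.snd f g) := hf _ _ _ (IsPullback.of_hasPullback f g).flip
  obtain ⟨z, z', hz, hzc, hzg⟩ := hS (y := IsLocalRing.closedPoint W) (y' := (⟨⊥, Ideal.isPrime_bot⟩ : PrimeSpectrum W))
    ((PrimeSpectrum.le_iff_specializes _ _).1 (show (⟨⊥, Ideal.isPrime_bot⟩ : PrimeSpectrum W) ≤ IsLocalRing.closedPoint W from
      show (⊥ : Ideal W) ≤ _ from bot_le))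
  obtain ⟨A, _, _, _, l, hlc, hlg⟩ := exists_valuation_pair hz
  obtain ⟨ψ, hψ⟩ : ∃ ψ : CommRingCat.of W ⟶ CommRingCat.of A, Spec.map ψ = l ≫ pullback.snd f g :=
    ⟨_, Spec.map_preimage _⟩
  have hc : PrimeSpectrum.comap ψ.hom (IsLocalRing.closedPoint A) = IsLocalRing.closedPoint W := by
    show Spec.map ψ _ = _
    rw [hψ, Scheme.Hom.comp_apply, hlc, hzc]
  have hg : PrimeSpectrum.comap ψ.hom (⟨⊥, Ideal.isPrime_bot⟩ : PrimeSpectrum A) = ⟨⊥, Ideal.isPrime_bot⟩ := by
    show Spec.map ψ _ = _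
    rw [hψ, Scheme.Hom.comp_apply, hlg, hzg]
  haveI : IsLocalHom ψ.hom := ⟨fun a ha => by
    by_contra hna
    have : a ∈ (PrimeSpectrum.comap ψ.hom (IsLocalRing.closedPoint A)).asIdeal := hc.symm ▸ hna
    exact this ha⟩
  have hinj : Function.Injective ψ.hom := (RingHom.injective_iff_ker_eq_bot _).2
    ((RingHom.ker_eq_comap_bot _).trans (congrArg PrimeSpectrum.asIdeal hg))
  have hex : ∀ i, ∃ a : PrimeSpectrum A, (l ≫ pullback.fst f g ≫ f) a = y i := by
    intro i
    obtain ⟨P, hP⟩ := hP i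
    obtain ⟨a, ha⟩ := comap_surjective ψ.hom hinj P
    refine ⟨a, ?_⟩
    rw [pullback.condition, ← Category.assoc, ← hψ, Scheme.Hom.comp_apply, show Spec.map ψ a = P from ha,
      Scheme.Hom.comp_apply, show Spec.map (CommRingCat.ofHom ((algebraMap Γ(Y, U) K).codRestrict W hW)) P = p i from
        PrimeSpectrum.ext hP]
    exact hpy i
  let w : Y → PrimeSpectrum A := fun b => if h : ∃ a : PrimeSpectrum A, (l ≫ pullback.fst f g ≫ f) a = b then h.choose else IsLocalRing.closedPoint A
  have hw : ∀ i, (l ≫ pullback.fst f g ≫ f) (w (y i)) = y i := fun i => by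
    simp only [w, dif_pos (hex i)]
    exact (hex i).choose_spec
  refine ⟨fun i => (l ≫ pullback.fst f g) (w (y i)), fun i j hij => ?_, fun i => hw i⟩
  by_cases heq : y i = y j
  · exact specializes_of_eq (congrArg (fun b => (l ≫ pullback.fst f g) (w b)) heq)
  rcases le_total (α := Ideal A) (w (y i)).asIdeal (w (y j)).asIdeal with h | h
  · exact ((PrimeSpectrum.le_iff_specializes (w (y i)) (w (y j))).1 h).map (Scheme.Hom.continuous _)
  · have h2 := ((PrimeSpectrum.le_iff_specializes (w (y j)) (w (y i))).1 h).map (Scheme.Hom.continuous (l ≫ pullback.fst f g ≫ f))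
    rw [hw, hw] at h2
    exact absurd ((hy i j hij).antisymm h2).eq heq

end Groth.Agent.S19530
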