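import Groth.Statements.S13737
import Groth.Agent.SubtrVal.Noeth
import Groth.Agent.BlowUpLib.Props

set_option linter.style.haveILetI false
set_option backward.isDefEq.respectTransparency false
set_option backward.isDefEq.respectTransparency.types false

set_option autoImplicit false
universe u
open HTop

namespace Groth.Agent.S13737

open CategoryTheory CategoryTheory.Limits AlgebraicGeometry in
/-- Let X be a separated integral Noetherian scheme, b : X' → X a blow-up of X in a quasi-coherent sheaf
of ideals (characterised by the universal property of blowing up), with X' separated and b of finite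
type, and let U be an open subscheme of X' whose composite U → X' → X is universally submersive (an
h-covering). Then U = X'. (The published statement takes X only integral; its proof applies the
surjectivity of dominating components for Noetherian schemes, so this row takes X Noetherian.) -/
theorem result {X X' : Scheme.{u}} [IsNoetherian X] [X.IsSeparated] [IsIntegral X] [X'.IsSeparated] (𝓘 : X.IdealSheafData) (b : X' ⟶ X) [LocallyOfFiniteType b] [QuasiCompact b] (hb : BlowUp.IsBlowUp b 𝓘) (U : X'.Opens) (hU : SGA1.UnivSubmersive (U.ι ≫ b)) : U = ⊤ := by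
  haveI : IsLocallyNoetherian X' := LocallyOfFiniteType.isLocallyNoetherian b
  haveI : CompactSpace X' := QuasiCompact.compactSpace_of_compactSpace b
  haveI : IsNoetherian X' := {}
  refine TopologicalSpace.Opens.ext (Set.eq_univ_of_forall fun z => ?_)
  -- a maximal point `η'` of `X'` specialising to `z`
  have hirr := isIrreducible_irreducibleComponent (x := z)
  have hgp := hirr.isGenericPoint_genericPoint isClosed_irreducibleComponent
  set η' := hirr.genericPoint
  have hz : η' ⤳ z := hgp.specializes mem_irreducibleComponent
  have hmax : ∀ y : X', y ⤳ η' → y = η' := by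
    intro y hy
    have h1 : irreducibleComponent z ⊆ closure {y} := by
      rw [← hgp.def]; exact specializes_iff_closure_subset.1 hy
    have h2 := (irreducibleComponent_mem_irreducibleComponents z).2 isIrreducible_singleton.closure h1
    have h3 : η' ⤳ y := hgp.specializes (h2 (subset_closure rfl))
    exact (hy.antisymm h3).eq
  let V : X.Opens := ⟨(𝓘.support : Set X)ᶜ, 𝓘.support.isClosed.isOpen_compl⟩
  haveI : IsIso (b ∣_ V) := Groth.Agent.BlowUpLib.isIso_restrict hb V fun x hx => hx
  have hη'V : b η' ∈ V := by
    have h := Groth.Agent.BlowUpLib.not_mem_support_of_maximal hb.1 hmax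
    rw [Scheme.IdealSheafData.support_comap] at h
    exact h
  -- base change along `b`
  let f := U.ι ≫ b
  haveI : SGA1.UnivSubmersive.{u}.IsStableUnderBaseChange := MorphismProperty.universally_isStableUnderBaseChange _
  have hsub : Subtr.UnivSSubtrusive (pullback.snd f b) :=
    Groth.Agent.SubtrVal.univSSubtrusive_of_univSubmersive _
      (MorphismProperty.of_isPullback (P := SGA1.UnivSubmersive) (IsPullback.of_hasPullback f b) hU)
  obtain ⟨u, ξ, hsp, hu, hξ⟩ :=
    hsub (𝟙 _) (𝟙 _) (pullback.snd f b) (IsPullback.of_vert_isIso ⟨by simp⟩) hz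
  let a := pullback.fst f b ≫ U.ι
  let c := pullback.snd f b
  have hac : a ≫ b = c ≫ b := by simp only [a, c, Category.assoc]; exact pullback.condition
  have heq : (pullback f b).fromSpecResidueField ξ ≫ a = (pullback f b).fromSpecResidueField ξ ≫ c := by
    have hr : ∀ g : pullback f b ⟶ X', g ≫ b = c ≫ b →
        Set.range ((pullback f b).fromSpecResidueField ξ ≫ g) ⊆ Set.range (b ⁻¹ᵁ V).ι := by
      intro g hg
      rw [Scheme.Opens.range_ι]
      rintro _ ⟨s, rfl⟩
      show b (((pullback f b).fromSpecResidueField ξ ≫ g) s) ∈ V
      rw [Scheme.Hom.comp_apply, Scheme.fromSpecResidueField_apply, ← Scheme.Hom.comp_apply, hg,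
        Scheme.Hom.comp_apply, hξ]
      exact hη'V
    let l (g : pullback f b ⟶ X') (hg : g ≫ b = c ≫ b) := IsOpenImmersion.lift _ _ (hr g hg)
    have hl : l a hac = l c rfl := by
      rw [← cancel_mono (b ∣_ V), ← cancel_mono V.ι, Category.assoc, Category.assoc, morphismRestrict_ι,
        IsOpenImmersion.lift_fac_assoc, IsOpenImmersion.lift_fac_assoc]
      simp only [Category.assoc]
      rw [hac]
    have := congrArg (· ≫ (b ⁻¹ᵁ V).ι) hl
    simpa only [l, IsOpenImmersion.lift_fac] using this
  have hu' : u ∈ Set.range (equalizer.ι a c) := by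
    refine hsp.mem_closed (equalizer.ι a c).isClosedEmbedding.isClosed_range ?_
    refine ⟨equalizer.lift _ heq (IsLocalRing.closedPoint _), ?_⟩
    rw [← Scheme.Hom.comp_apply, equalizer.lift_ι, Scheme.fromSpecResidueField_apply]
  obtain ⟨e, rfl⟩ := hu'
  have : a (equalizer.ι a c e) = z := by
    rw [← Scheme.Hom.comp_apply, equalizer.condition, Scheme.Hom.comp_apply]
    exact hu
  rw [← this]
  exact (pullback.fst f b (equalizer.ι a c e)).2

end Groth.Agent.S13737
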