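import Groth.Statements.S1374
import Groth.Agent.ClosedBetween.Reduce

set_option autoImplicit false
universe u
open FlatMor

namespace Groth.Agent.S1374

open AlgebraicGeometry CategoryTheory Limits in
/-- Let f : X ⟶ S be locally of finite type and x ⤳ x' a specialization of points of X, with x' a closed
point of its fibre f⁻¹(f(x')) and f(x) ≠ f(x'). Then the points x₁ with f(x₁) = f(x) which are
closed in the fibre f⁻¹(f(x)) and satisfy x ⤳ x₁ ⤳ x' are dense in the closure of {x} intersected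
with the fibre f⁻¹(f(x)) (fibres taken as subspaces of X). (The published statement omits the
condition f(x) ≠ f(x'), but the claim fails without it; it is stated here with that condition.) -/
theorem result {X S : Scheme.{u}} (f : X ⟶ S) [LocallyOfFiniteType f] (x x' : X) (hsp : x ⤳ x') (hne : f x ≠ f x')
    (hcl : IsClosed (Subtype.val ⁻¹' {x'} : Set ↑(f ⁻¹' {f x'}))) :
    Dense (Subtype.val ⁻¹' {x₁ : ↑X | f x₁ = f x ∧ IsClosed (Subtype.val ⁻¹' {x₁} : Set ↑(f ⁻¹' {f x})) ∧ x ⤳ x₁ ∧ x₁ ⤳ x'} :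
      Set ↑(closure {x} ∩ f ⁻¹' {f x})) := by
  classical
  rw [dense_iff_inter_open]
  intro O hO hne'
  obtain ⟨O', hO', rfl⟩ := isOpen_induced_iff.mp hO
  obtain ⟨⟨z, hzx, hzs⟩, hzO⟩ := hne'
  have hxz : x ⤳ z := specializes_iff_mem_closure.mpr hzx
  have hxO : x ∈ O' := hxz.mem_open hO' hzO
  obtain ⟨U, hU, hxU, -⟩ := exists_isAffineOpen_mem_and_subset (x := f x') (U := (⊤ : S.Opens)) trivial
  obtain ⟨V, hV, hxV', hVU⟩ := exists_isAffineOpen_mem_and_subset (x := x') (U := f ⁻¹ᵁ U) hxU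
  have hVU' : V ≤ f ⁻¹ᵁ U := hVU
  have hxV : x ∈ V := hsp.mem_open V.2 hxV'
  obtain ⟨g, hgO, hxg⟩ := hV.exists_basicOpen_le (V := (⟨O', hO'⟩ : X.Opens) ⊓ V) ⟨x, ⟨hxO, hxV⟩⟩ hxV
  letI := (f.appLE U V hVU').hom.toAlgebra
  haveI : Algebra.FiniteType Γ(S, U) Γ(X, V) :=
    RingHom.finiteType_algebraMap.1 (f.finiteType_appLE hU hV hVU')
  let P := hV.primeIdealOf ⟨x, hxV⟩
  let P' := hV.primeIdealOf ⟨x', hxV'⟩
  have hfs : ∀ Q : PrimeSpectrum Γ(X, V), f (hV.fromSpec Q) =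
      hU.fromSpec (PrimeSpectrum.comap (algebraMap Γ(S, U) Γ(X, V)) Q) := fun Q => by
    show (hV.fromSpec ≫ f) Q = _
    rw [← hU.SpecMap_appLE_fromSpec f hV hVU']
    rfl
  have hle : ∀ Q Q' : PrimeSpectrum Γ(X, V), hV.fromSpec Q ⤳ hV.fromSpec Q' ↔ Q.asIdeal ≤ Q'.asIdeal :=
    fun Q Q' => (hV.fromSpec.isOpenEmbedding.toIsEmbedding.isInducing.specializes_iff).trans
      (PrimeSpectrum.le_iff_specializes Q Q').symm
  have hP : hV.fromSpec P = x := hV.fromSpec_primeIdealOf ⟨x, hxV⟩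
  have hP' : hV.fromSpec P' = x' := hV.fromSpec_primeIdealOf ⟨x', hxV'⟩
  have hover : ∀ Q Q' : PrimeSpectrum Γ(X, V), f (hV.fromSpec Q) = f (hV.fromSpec Q') ↔
      Q.asIdeal.under Γ(S, U) = Q'.asIdeal.under Γ(S, U) := fun Q Q' => by
    rw [hfs, hfs]
    exact (hU.fromSpec.isOpenEmbedding.injective.eq_iff.trans PrimeSpectrum.ext_iff).trans Iff.rfl
  have hsurj : ∀ y ∈ V, ∃ Q : PrimeSpectrum Γ(X, V), hV.fromSpec Q = y := fun y hy =>
    ⟨hV.primeIdealOf ⟨y, hy⟩, hV.fromSpec_primeIdealOf ⟨y, hy⟩⟩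
  obtain ⟨Q, hQ, hPQ, hQP', hQA, hgQ, hQmax⟩ := Groth.Agent.ClosedBetween.exists_prime_between
    (A := Γ(S, U)) P.asIdeal P'.asIdeal ((hle P P').mp (by rw [hP, hP']; exact hsp))
    (fun h => hne (by rw [← hP, ← hP']; exact (hover P P').mpr h))
    (fun Q hQ hle' hQA => by
      let Qp : PrimeSpectrum Γ(X, V) := ⟨Q, hQ⟩
      have h1 : f (hV.fromSpec Qp) = f x' := by rw [← hP']; exact (hover Qp P').mpr hQA
      have h2 : x' ⤳ hV.fromSpec Qp := by rw [← hP']; exact (hle P' Qp).mpr hle'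
      have h3 : (⟨x', rfl⟩ : ↥(f ⁻¹' {f x'})) ⤳ ⟨hV.fromSpec Qp, h1⟩ := Topology.IsInducing.subtypeVal.specializes_iff.mp h2
      have h4 : hV.fromSpec Qp = x' := h3.mem_closed hcl rfl
      exact congrArg PrimeSpectrum.asIdeal
        (hV.fromSpec.isOpenEmbedding.injective (h4.trans hP'.symm) : Qp = P'))
    g (fun h => by
      have : P ∈ hV.fromSpec ⁻¹ᵁ X.basicOpen g := by
        show hV.fromSpec P ∈ X.basicOpen g
        rw [hP]; exact hxg
      rw [hV.fromSpec_preimage_basicOpen] at this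
      exact this h)
  let Qp : PrimeSpectrum Γ(X, V) := ⟨Q, hQ⟩
  let x₁ := hV.fromSpec Qp
  have hx₁s : f x₁ = f x := by rw [← hP]; exact (hover Qp P).mpr hQA
  have hx₁O : x₁ ∈ X.basicOpen g := by
    show Qp ∈ hV.fromSpec ⁻¹ᵁ X.basicOpen g
    rw [hV.fromSpec_preimage_basicOpen]
    exact hgQ
  have hxx₁ : x ⤳ x₁ := by rw [← hP]; exact (hle P Qp).mpr hPQ
  have hx₁x' : x₁ ⤳ x' := by rw [← hP']; exact (hle Qp P').mpr hQP'
  refine ⟨⟨x₁, specializes_iff_mem_closure.mp hxx₁, hx₁s⟩, (hgO hx₁O).1, hx₁s, ?_, hxx₁, hx₁x'⟩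
  haveI : JacobsonSpace ↥(f ⁻¹' {f x}) :=
    JacobsonSpace.of_isClosedEmbedding (f.fiberHomeo (f x)).symm.isClosedEmbedding
  have hset : (Subtype.val ⁻¹' {x₁} : Set ↥(f ⁻¹' {f x})) = {⟨x₁, hx₁s⟩} := by
    ext ⟨y, hy⟩
    simp [Subtype.ext_iff]
  rw [hset]
  refine isClosed_singleton_of_isLocallyClosed_singleton ⟨Subtype.val ⁻¹' (V : Set X), closure {⟨x₁, hx₁s⟩},
    V.2.preimage continuous_subtype_val, isClosed_closure, ?_⟩
  ext ⟨y, hy⟩
  constructor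
  · intro h
    rw [Set.mem_singleton_iff] at h
    rw [h]
    exact ⟨(hgO hx₁O).2, subset_closure rfl⟩
  · rintro ⟨hyV, hyc⟩
    have h1 : x₁ ⤳ y := (specializes_iff_mem_closure.mpr hyc : (⟨x₁, hx₁s⟩ : ↥(f ⁻¹' {f x})) ⤳ ⟨y, hy⟩).map continuous_subtype_val
    obtain ⟨Q', rfl⟩ := hsurj y hyV
    have h2 := hQmax Q'.asIdeal Q'.2 ((hle Qp Q').mp h1)
      ((hover Q' P).mp (by rw [hP]; exact hy))
    have h3 : Q' = Qp := PrimeSpectrum.ext h2
    simp only [Set.mem_singleton_iff]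
    exact Subtype.ext (congrArg hV.fromSpec h3)

end Groth.Agent.S1374
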