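import Groth.Statements.S13757
import Groth.Agent.GraphCochain.Basic

set_option autoImplicit false
universe u
open LabGraph

namespace Groth.Agent.S13757

/-- Let G be a finite connected multigraph (loops and multiple edges allowed) with vertex set V, edge
set E, endpoint map E → V × V and a labelling of the edges by positive integers l. A vertex
labelling φ : V → ℤ is Cartier when l(e) divides the difference of the values of φ at the two
endpoints of every edge e; its multidegree is the vertex labelling whose value at v is the sum, over
the edge-ends at v, of (value of φ at the other endpoint − φ(v)) / l(e). Then the Cartier vertex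
labellings of multidegree zero are exactly the constant ones: the kernel of the multidegree operator
on Cartier labellings is ℤ, embedded as the constants. -/
theorem result
    {V E : Type u} [Fintype V] [Fintype E] [DecidableEq V] [DecidableEq E]
    (ends : E → V × V) (l : E → ℕ) (hl : ∀ e, 0 < l e) (hconn : LabGraph.Connected ends)
    (φ : V → ℤ) (hφ : LabGraph.IsCartier ends l φ) :
    (∀ v : V, LabGraph.mdeg ends l φ v = 0) ↔ ∀ v w : V, φ v = φ w := by
  refine ⟨fun h => ?_, fun h v => ?_⟩
  · have hq : ∑ v, φ v * LabGraph.mdeg ends l φ v =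
        -∑ e, (l e : ℤ) * ((φ (ends e).2 - φ (ends e).1) / (l e : ℤ)) ^ 2 := by
      simp only [LabGraph.mdeg, Finset.mul_sum, mul_add, mul_ite, mul_zero]
      rw [Finset.sum_comm, ← Finset.sum_neg_distrib]
      refine Finset.sum_congr rfl fun e _ => ?_
      rw [Finset.sum_add_distrib, Finset.sum_ite_eq, Finset.sum_ite_eq, if_pos (Finset.mem_univ _),
        if_pos (Finset.mem_univ _)]
      obtain ⟨k, hk⟩ := hφ e
      have hl0 : (l e : ℤ) ≠ 0 := by exact_mod_cast (hl e).ne'
      rw [hk, show φ (ends e).2 - φ (ends e).1 = (l e : ℤ) * (-k) by linarith,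
        Int.mul_ediv_cancel_left _ hl0, Int.mul_ediv_cancel_left _ hl0]
      rw [show φ (ends e).1 = φ (ends e).2 + (l e : ℤ) * k by linarith]
      ring
    simp only [h, mul_zero, Finset.sum_const_zero] at hq
    have hz := (Finset.sum_eq_zero_iff_of_nonneg (fun e _ => mul_nonneg (Int.natCast_nonneg (l e))
      (sq_nonneg ((φ (ends e).2 - φ (ends e).1) / (l e : ℤ))))).1 (neg_eq_zero.1 hq.symm)
    intro v w
    refine GraphCochain.eq_of_reach (S := Finset.univ) (fun e he => ?_) (MatTree.spans_univ hconn v w)
    have h1 := (mul_eq_zero.1 (hz e he)).resolve_left (by exact_mod_cast (hl e).ne')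
    have h2 := pow_eq_zero_iff (n := 2) (by norm_num) |>.1 h1
    obtain ⟨k, hk⟩ := hφ e
    rw [show φ (ends e).2 - φ (ends e).1 = (l e : ℤ) * (-k) by linarith,
      Int.mul_ediv_cancel_left _ (by exact_mod_cast (hl e).ne')] at h2
    rw [neg_eq_zero.1 h2, mul_zero] at hk
    linarith
  · exact Finset.sum_eq_zero fun e _ => by simp [h (ends e).1 (ends e).2]

end Groth.Agent.S13757
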