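import Groth.Statements.S13758
import Groth.Agent.GraphCochain.Basic

set_option autoImplicit false
universe u
open LabGraph

namespace Groth.Agent.S13758

/-- Let G be a finite connected multigraph with vertex set V, edge set E, endpoint map E → V × V (whose
component order fixes an orientation) and positive integer edge labels l. Then the labels along
every circuit of G have greatest common divisor 1 (G is circuit-coprime) if and only if, for every
integer edge vector x, there is an integer edge vector y such that x − l·y is orthogonal to every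
integer cycle: Σ_e γ(e) (x(e) − l(e) y(e)) = 0 for all γ : E → ℤ with zero boundary. (The published
statement says that the r nonzero diagonal entries of the Smith normal form of the labelled circuit
matrix, r the first Betti number, are all equal to 1; since the fundamental circuits of a spanning
tree form a basis of the lattice of integer cycles, this is the surjectivity of x ↦ (γ ↦ Σ_e γ(e)
l(e) x(e)) from ℤ^E onto the dual of the cycle lattice, which is the condition stated here.) -/
theorem result
    {V E : Type u} [Fintype V] [Fintype E] [DecidableEq V] [DecidableEq E]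
    (ends : E → V × V) (l : E → ℕ) (hl : ∀ e, 0 < l e) (hconn : LabGraph.Connected ends) :
    LabGraph.IsCircuitCoprime ends l ↔
      ∀ x : E → ℤ, ∃ y : E → ℤ, ∀ γ : E → ℤ, (∀ v : V, LabGraph.boundary ends γ v = 0) →
        ∑ e : E, γ e * (x e - (l e : ℤ) * y e) = 0 := by
  classical
  constructor
  · intro hcop x
    let H : Submodule ℤ (E → ℤ) :=
      { carrier := {x | ∃ g : V → ℤ, ∀ e, (l e : ℤ) ∣ x e - (g (ends e).2 - g (ends e).1)}
        zero_mem' := ⟨0, fun e => by simp⟩
        add_mem' := by
          rintro a b ⟨g, hg⟩ ⟨g', hg'⟩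
          refine ⟨g + g', fun e => ?_⟩
          simp only [Pi.add_apply]
          rw [show a e + b e - (g (ends e).2 + g' (ends e).2 - (g (ends e).1 + g' (ends e).1)) =
            a e - (g (ends e).2 - g (ends e).1) + (b e - (g' (ends e).2 - g' (ends e).1)) by ring]
          exact dvd_add (hg e) (hg' e)
        smul_mem' := by
          rintro c a ⟨g, hg⟩
          refine ⟨c • g, fun e => ?_⟩
          simp only [Pi.smul_apply, smul_eq_mul, ← mul_sub]
          exact (hg e).mul_left c }
    have hx : x ∈ H := by
      refine GraphCochain.mem_of_local H x fun p hp => ?_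
      let S : Finset E := Finset.univ.filter fun e => p ∣ l e
      have hno : MatTree.NoCirc ends S := fun C hC hC' => hp.one_lt.ne' (Nat.dvd_one.1
        (hcop C hC' ▸ Finset.dvd_gcd fun e he => (Finset.mem_filter.1 (hC he)).2))
      obtain ⟨g, hg⟩ := GraphCochain.exists_potential hno x
      let c : ℤ := ∏ e ∈ Sᶜ, (l e : ℤ)
      refine ⟨c, fun hd => ?_, c • g, fun e => ?_⟩
      · obtain ⟨e, he, hde⟩ := (Nat.prime_iff_prime_int.1 hp).exists_mem_finset_dvd hd
        simp only [S, Finset.mem_compl, Finset.mem_filter, Finset.mem_univ, true_and] at he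
        exact he (Int.natCast_dvd_natCast.1 hde)
      · simp only [Pi.smul_apply, smul_eq_mul, ← mul_sub]
        by_cases he : e ∈ S
        · rw [hg e he]; simp
        · exact (Finset.dvd_prod_of_mem _ (Finset.mem_compl.2 he)).mul_right _
    obtain ⟨g, hg⟩ := hx
    choose y hy using hg
    refine ⟨y, fun γ hγ => ?_⟩
    rw [← GraphCochain.sum_mul_dif hγ g]
    exact Finset.sum_congr rfl fun e _ => by rw [← hy e]; ring
  · intro h C hC
    by_contra hne
    obtain ⟨p, hp, hpd⟩ := Nat.exists_prime_and_dvd hne
    obtain ⟨e, he⟩ := hC.1
    obtain ⟨γ, hγ, hγe, hγ'⟩ := GraphCochain.exists_cycle hC he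
    obtain ⟨y, hy⟩ := h (Pi.single e 1)
    have h1 := hy γ hγ
    simp only [mul_sub, Finset.sum_sub_distrib, Pi.single_apply, mul_ite, mul_one, mul_zero,
      Finset.sum_ite_eq', Finset.mem_univ, if_true, hγe] at h1
    have h2 : (p : ℤ) ∣ ∑ d, γ d * ((l d : ℤ) * y d) := Finset.dvd_sum fun d _ => by
      by_cases hd : d ∈ C
      · exact ((Int.natCast_dvd_natCast.2 (hpd.trans (Finset.gcd_dvd hd))).mul_right _).mul_left _
      · simp [hγ' d hd]
    rw [← sub_eq_zero.1 h1] at h2
    exact hp.one_lt.ne' (Nat.dvd_one.1 (Int.natCast_dvd_natCast.1 (by exact_mod_cast h2)))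

end Groth.Agent.S13758
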