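import Groth.Statements.S13760
import Groth.Agent.GraphCochain.BlowUp
import Groth.Agent.GraphCochain.Basic
import Groth.Agent.S13758

set_option autoImplicit false
universe u
open LabGraph

namespace Groth.Agent.S13760

/-- Let G be a finite connected multigraph with vertex set V, edge set E, endpoint map E → V × V and
positive integer edge labels l, let G̃ be its total blow-up graph (every edge e replaced by a path
of l(e) edges through l(e) − 1 new vertices, all labelled 1), and let ε : H → H̃ be the map from the
cokernel of the multidegree operator on Cartier vertex labellings of G to the cokernel of the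
multidegree operator on vertex labellings of G̃ induced by extension by zero. Then ε is surjective —
every vertex labelling β of G̃ can be corrected by the multidegree of a vertex labelling of G̃ so as
to vanish at all new vertices — if and only if G is circuit-coprime (the labels along every circuit
have greatest common divisor 1). (The published statement is 'ε is an isomorphism if and only if the
labelled graph is circuit-coprime'; injectivity of ε holds for every labelled graph, so the content
is the equivalence for surjectivity, stated here with the cokernels unpacked.) -/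
theorem result
    {V E : Type u} [Fintype V] [Fintype E] [DecidableEq V] [DecidableEq E]
    (ends : E → V × V) (l : E → ℕ) (hl : ∀ e, 0 < l e) (hconn : LabGraph.Connected ends) :
    (∀ β : LabGraph.BlVert V E l → ℤ, ∃ (ψ : LabGraph.BlVert V E l → ℤ) (α : V → ℤ),
        ∀ w : LabGraph.BlVert V E l,
          LabGraph.mdeg (LabGraph.blEnds ends l) (fun _ => 1) ψ w + β w = Sum.elim α (fun _ => (0 : ℤ)) w) ↔
      LabGraph.IsCircuitCoprime ends l := by
  classical
  rw [S13758.result ends l hl hconn]
  constructor
  · intro h x
    let β : LabGraph.BlVert V E l → ℤ := Sum.elim (fun _ => 0)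
      (fun p => if p.2.val + 2 = l p.1 then x p.1 else 0)
    obtain ⟨ψ, α, hψ⟩ := h β
    have hstep : ∀ e k, k + 1 < l e → GraphCochain.stepD ends l ψ e k = GraphCochain.stepD ends l ψ e 0 := by
      intro e k
      induction k with
      | zero => intro _; rfl
      | succ k ih =>
        intro hk
        have h := hψ (Sum.inr ⟨e, ⟨k, by omega⟩⟩)
        rw [GraphCochain.mdeg_inr] at h
        simp only [Sum.elim_inr, β, if_neg (show ¬ (k + 2 = l e) by omega)] at h
        rw [← ih (by omega)]
        linarith
    have hsum : ∀ e, (l e : ℤ) ∣ x e + (ψ (Sum.inl (ends e).2) - ψ (Sum.inl (ends e).1)) := by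
      intro e
      rw [← GraphCochain.sum_stepD ends l hl ψ e]
      rcases Nat.lt_or_ge 1 (l e) with h2 | h2
      · obtain ⟨j, hj⟩ : ∃ j, l e = j + 2 := ⟨l e - 2, by omega⟩
        have h := hψ (Sum.inr ⟨e, ⟨j, by omega⟩⟩)
        rw [GraphCochain.mdeg_inr] at h
        simp only [Sum.elim_inr, β, if_pos (show j + 2 = l e by omega)] at h
        rw [hstep e j (by omega)] at h
        refine ⟨GraphCochain.stepD ends l ψ e 0, ?_⟩
        rw [hj, Finset.sum_range_succ, Finset.sum_congr rfl (fun k hk => hstep e k (by
          have := Finset.mem_range.1 hk; omega)), Finset.sum_const, Finset.card_range, nsmul_eq_mul]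
        push_cast
        linarith
      · have : l e = 1 := by have := hl e; omega
        simp [this]
    choose y hy using hsum
    refine ⟨y, fun γ hγ => ?_⟩
    have h0 := GraphCochain.sum_mul_dif hγ (fun v => -ψ (Sum.inl v))
    rw [← h0]
    exact Finset.sum_congr rfl fun e _ => by rw [← hy e]; ring
  · intro h β
    let B : E → ℕ → ℤ := fun e i => if hi : i < l e - 1 then β (Sum.inr ⟨e, ⟨i, hi⟩⟩) else 0
    let S : E → ℤ := fun e => ∑ k ∈ Finset.range (l e), ∑ i ∈ Finset.range k, B e i
    obtain ⟨y, hy⟩ := h S
    obtain ⟨g, hg⟩ := GraphCochain.exists_dif_of_orth hconn (fun e => S e - (l e : ℤ) * y e) hy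
    obtain ⟨ψ, -, hψ⟩ := GraphCochain.exists_labelling ends l hl (fun v => -g v)
      (fun e k => y e - ∑ i ∈ Finset.range k, B e i) (fun e => by
        rw [Finset.sum_sub_distrib, Finset.sum_const, Finset.card_range, nsmul_eq_mul]
        have := hg e
        simp only [S] at this
        linarith)
    refine ⟨ψ, fun v => LabGraph.mdeg (LabGraph.blEnds ends l) (fun _ => 1) ψ (Sum.inl v) + β (Sum.inl v), ?_⟩
    rintro (v | ⟨e, i⟩)
    · rfl
    · have := i.isLt
      rw [GraphCochain.mdeg_inr, hψ e (i.val + 1) (by omega), hψ e i.val (by omega), Finset.sum_range_succ]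
      simp only [Sum.elim_inr, B, dif_pos i.isLt, Fin.eta]
      ring

end Groth.Agent.S13760
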