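import Groth.Statements.S1377
import Mathlib
-- import your own Groth.Agent.* helpers here

set_option autoImplicit false
universe u
open FlatMor

namespace Groth.Agent.S1377

open AlgebraicGeometry CategoryTheory Limits in
/-- Let S be a scheme, U ⊆ S an open subscheme whose inclusion U → S is quasi-compact (U retrocompact in
S), and V → U a surjective integral morphism. Then there are a scheme V' and a surjective integral
morphism V' → S whose base change to U is V → U. (The published statement puts no condition on U,
and in that generality it is false: e.g. S = Spec ∏_i ℤ/4^i with U = D(2) ∪ ⋃_i D(e_i), e_i the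
idempotents, and V equal to U except that over D(2) it is cut out by x = (2^i)_i. Stated here with U
→ S quasi-compact, under which hypothesis the published argument applies.) -/
theorem result {S V : Scheme.{u}} (U : S.Opens) [QuasiCompact U.ι]
    (v : V ⟶ (U : Scheme.{u})) [IsIntegralHom v] [Surjective v] :
    ∃ (V' : Scheme.{u}) (π : V' ⟶ S) (i : V ⟶ V'), Surjective π ∧ IsIntegralHom π ∧ IsPullback i v π U.ι := by
  classical
  let f := v ≫ U.ι
  haveI : QuasiCompact f := inferInstance
  haveI : QuasiSeparated f := inferInstance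
  let N := f.normalization
  -- over `U` the normalization is `V`
  have hPV : IsPullback (𝟙 V) v f U.ι :=
    ⟨⟨by rw [Category.id_comp]⟩, ⟨PullbackCone.IsLimit.mk _ (fun s => s.fst) (fun s => Category.comp_id _)
      (fun s => by rw [← cancel_mono U.ι, Category.assoc]; exact s.condition)
      (fun s m h1 _ => (Category.comp_id m).symm.trans h1)⟩⟩
  haveI : IsIso (pullback.fst f U.ι) := by
    rw [← hPV.isoPullback_inv_fst]; infer_instance
  haveI : IsIntegralHom (pullback.snd f U.ι) := by
    rw [← hPV.isoPullback_inv_snd]; infer_instance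
  let c := (pullback.snd f U.ι).toNormalization ≫ f.normalizationPullback U.ι
  haveI : IsIso c := inferInstance
  have hsqN : IsPullback (pullback.fst f U.ι ≫ f.toNormalization) (pullback.snd f U.ι) f.fromNormalization U.ι := by
    refine IsPullback.of_iso_pullback ⟨?_⟩ (asIso c) ?_ ?_
    · rw [Category.assoc, Scheme.Hom.toNormalization_fromNormalization, pullback.condition]
    · simp [c]
    · simp [c]
  have hsq : IsPullback f.toNormalization v f.fromNormalization U.ι := by
    refine hsqN.of_iso (asIso (pullback.fst f U.ι)) (Iso.refl _) (Iso.refl _) (Iso.refl _) ?_ ?_ ?_ ?_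
    · simp
    · simp only [asIso_hom, Iso.refl_hom, Category.comp_id]
      rw [← cancel_mono U.ι, Category.assoc]
      exact pullback.condition.symm
    · simp
    · simp
  let I := Scheme.IdealSheafData.vanishingIdeal ⟨(U : Set S)ᶜ, U.isOpen.isClosed_compl⟩
  let π := Limits.coprod.desc f.fromNormalization I.subschemeι
  refine ⟨N ⨿ I.subscheme, π, f.toNormalization ≫ coprod.inl, ?_, inferInstance, ?_⟩
  · refine ⟨fun s => ?_⟩
    by_cases hs : s ∈ U
    · obtain ⟨a, ha⟩ := v.surjective ⟨s, hs⟩
      refine ⟨(f.toNormalization ≫ coprod.inl) a, ?_⟩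
      rw [← Scheme.Hom.comp_apply, Category.assoc, coprod.inl_desc, Scheme.Hom.toNormalization_fromNormalization,
        Scheme.Hom.comp_apply, ha]
      rfl
    · have hI : Set.range I.subschemeι = (U : Set S)ᶜ := by
        rw [Scheme.IdealSheafData.range_subschemeι]
        exact Scheme.IdealSheafData.coe_support_vanishingIdeal _
      obtain ⟨a, ha⟩ := hI.ge hs
      refine ⟨(coprod.inr : I.subscheme ⟶ N ⨿ I.subscheme) a, ?_⟩
      rw [← Scheme.Hom.comp_apply, coprod.inr_desc]
      exact ha
  · have hfac : (f.toNormalization ≫ coprod.inl) ≫ π = v ≫ U.ι := by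
      rw [Category.assoc, coprod.inl_desc, Scheme.Hom.toNormalization_fromNormalization]
    have hl : ∀ s : PullbackCone π U.ι, ∃ l : s.pt ⟶ N, l ≫ coprod.inl = s.fst := by
      intro s
      refine ⟨IsOpenImmersion.lift coprod.inl s.fst ?_, IsOpenImmersion.lift_fac _ _ _⟩
      rintro _ ⟨a, rfl⟩
      have hcov : s.fst a ∈ Set.range (coprod.inl : N ⟶ N ⨿ I.subscheme) ∪ Set.range (coprod.inr : I.subscheme ⟶ N ⨿ I.subscheme) := by
        exact (isCompl_range_inl_inr N I.subscheme).sup_eq_top.ge trivial
      refine hcov.resolve_right ?_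
      rintro ⟨c, hc⟩
      have h1 : I.subschemeι c ∈ (U : Set S)ᶜ := by
        have hI : Set.range I.subschemeι = (U : Set S)ᶜ := by
          rw [Scheme.IdealSheafData.range_subschemeι]
          exact Scheme.IdealSheafData.coe_support_vanishingIdeal _
        exact hI.le ⟨c, rfl⟩
      apply h1
      rw [← coprod.inr_desc f.fromNormalization I.subschemeι, Scheme.Hom.comp_apply, hc, ← Scheme.Hom.comp_apply,
        s.condition, Scheme.Hom.comp_apply]
      exact (s.snd a).2
    choose l hl using hl
    have hlc : ∀ s : PullbackCone π U.ι, l s ≫ f.fromNormalization = s.snd ≫ U.ι := fun s => by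
      rw [← coprod.inl_desc f.fromNormalization I.subschemeι, ← Category.assoc, hl]
      exact s.condition
    refine ⟨⟨hfac⟩, ⟨PullbackCone.IsLimit.mk _ (fun s => hsq.lift (l s) s.snd (hlc s))
      (fun s => by rw [← Category.assoc, hsq.lift_fst, hl]) (fun s => hsq.lift_snd _ _ _) (fun s m h1 h2 => ?_)⟩⟩
    apply hsq.hom_ext
    · rw [hsq.lift_fst, ← cancel_mono (coprod.inl : N ⟶ N ⨿ I.subscheme), hl, Category.assoc]
      exact h1
    · rw [hsq.lift_snd]
      exact h2

end Groth.Agent.S1377
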