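import Groth.Statements.S13771
import Mathlib
import Groth.Agent.PLie.Jacobson
-- import your own Groth.Agent.* helpers here

set_option autoImplicit false
universe u v w
open PLie

namespace Groth.Agent.S13771

theorem conj_ad_pow {R : Type*} [CommRing R] {L L' : Type*} [LieRing L] [LieAlgebra R L] [LieRing L']
    [LieAlgebra R L'] (f : L →ₗ⁅R⁆ L') (x y : L) : ∀ n : ℕ,
    f ((LieAlgebra.ad R L x ^ n) y) = (LieAlgebra.ad R L' (f x) ^ n) (f y)
  | 0 => rfl
  | n + 1 => by
    rw [pow_succ', pow_succ', Module.End.mul_apply, Module.End.mul_apply, LieAlgebra.ad_apply,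
      LieHom.map_lie, conj_ad_pow f x y n, LieAlgebra.ad_apply]

/-- Let R be a commutative ring of prime characteristic p, L₁ and L₂ Lie algebras over R, φ a p-mapping
on L₁ and f : L₁ → L₂ a morphism of Lie algebras whose kernel is stable under φ (a p-ideal). Then
the image f(L₁), a Lie subalgebra of L₂, carries exactly one p-mapping ψ for which the corestriction
of f to its image is a morphism of p-Lie algebras, i.e. ψ (f x) = f (φ x) for all x. -/
theorem result (R : Type u) [CommRing R] (p : ℕ) [Fact p.Prime] [CharP R p]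
    (L₁ : Type v) [LieRing L₁] [LieAlgebra R L₁] (L₂ : Type w) [LieRing L₂] [LieAlgebra R L₂]
    (φ : PLie.PMap R p L₁) (f : L₁ →ₗ⁅R⁆ L₂) (hker : ∀ x : L₁, f x = 0 → f (φ x) = 0) :
    ∃! ψ : PLie.PMap R p f.range, PLie.IsPHom φ ψ f.rangeRestrict := by
  have hw : ∀ x x' : L₁, f x = f x' → f (φ x) = f (φ x') := by
    intro x x' h
    have h0 : f (x - x') = 0 := by rw [map_sub, h, sub_self]
    have hJ : f (PLie.jacobson R p x' (x - x')) = 0 := by
      have := Groth.Agent.PLieLib.map_jacobson (p := p) f.toLinearMap (LieHom.map_lie f) x' (x - x')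
      rw [LieHom.coe_toLinearMap] at this
      rw [this, h0, Groth.Agent.PLieLib.jacobson_zero_right]
    have := φ.map_add x' (x - x')
    rw [add_sub_cancel] at this
    change φ x = φ x' + φ (x - x') - _ at this
    rw [this, map_sub, map_add, hJ, hker _ h0, add_zero, sub_zero]
  choose g hg using fun u : f.range => f.surjective_rangeRestrict u
  let ψf : f.range → f.range := fun u => f.rangeRestrict (φ (g u))
  have hψ : ∀ x, ψf (f.rangeRestrict x) = f.rangeRestrict (φ x) := fun x =>
    Subtype.ext (hw _ _ (congrArg Subtype.val (hg (f.rangeRestrict x))))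
  let ψ : PLie.PMap R p f.range :=
    { toFun := ψf
      map_smul := fun c u => by
        obtain ⟨x, rfl⟩ := f.surjective_rangeRestrict u
        rw [← map_smul, hψ, hψ, show φ (c • x) = c ^ p • φ x from φ.map_smul c x, map_smul]
      ad_map := fun u => by
        obtain ⟨x, rfl⟩ := f.surjective_rangeRestrict u
        refine LinearMap.ext fun w => ?_
        obtain ⟨y, rfl⟩ := f.surjective_rangeRestrict w
        rw [hψ, ← conj_ad_pow, ← φ.ad_map, LieAlgebra.ad_apply, LieAlgebra.ad_apply, LieHom.map_lie]
      map_add := fun u u' => by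
        obtain ⟨x, rfl⟩ := f.surjective_rangeRestrict u
        obtain ⟨y, rfl⟩ := f.surjective_rangeRestrict u'
        rw [← map_add, hψ, hψ, hψ, show φ (x + y) = _ from φ.map_add x y, map_sub, map_add]
        exact congrArg _ (Groth.Agent.PLieLib.map_jacobson (p := p) f.rangeRestrict.toLinearMap
          (LieHom.map_lie f.rangeRestrict) x y) }
  refine ⟨ψ, fun x => (hψ x).symm, fun χ hχ => ?_⟩
  have : χ.toFun = ψ.toFun := funext fun u => by
    obtain ⟨x, rfl⟩ := f.surjective_rangeRestrict u
    exact (hχ x).symm.trans (hψ x).symm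
  have key : ∀ a b : PLie.PMap R p f.range, a.toFun = b.toFun → a = b := by
    rintro ⟨a, _, _, _⟩ ⟨b, _, _, _⟩ h
    cases h
    rfl
  exact key _ _ this

end Groth.Agent.S13771
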