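import Groth.Statements.S13772
import Mathlib
-- import your own Groth.Agent.* helpers here

set_option autoImplicit false
universe u v
open PLie

namespace Groth.Agent.S13772

/-- Let R be a commutative ring of prime characteristic p and L a Lie algebra over R with a p-mapping γ.
For a map g : L → L, there is a p-mapping γ' on L with γ' x = γ x + g x for every x if and only if g
is additive, g (c • x) = c ^ p • g x for all scalars c, and every value g x lies in the centre of L.
(Both parts of the published statement at once: the difference of two p-mappings is a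
Frobenius-semilinear map into the centre, and adding such a map to a p-mapping gives a p-mapping.) -/
theorem result (R : Type u) [CommRing R] (p : ℕ) [Fact p.Prime] [CharP R p]
    (L : Type v) [LieRing L] [LieAlgebra R L] (γ : PLie.PMap R p L) (g : L → L) :
    (∃ γ' : PLie.PMap R p L, ∀ x : L, γ' x = γ x + g x) ↔
      ((∀ x y : L, g (x + y) = g x + g y) ∧ (∀ (c : R) (x : L), g (c • x) = c ^ p • g x) ∧
        ∀ x : L, g x ∈ LieAlgebra.center R L) := by
  constructor
  · rintro ⟨γ', hγ⟩
    refine ⟨fun x y => ?_, fun c x => ?_, fun x => ?_⟩
    · have h := γ'.map_add x y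
      have h2 : γ (x + y) = γ x + γ y - _ := γ.map_add x y
      change γ' (x + y) = γ' x + γ' y - _ at h
      rw [hγ, hγ, hγ, h2] at h
      linear_combination (norm := abel) h
    · have h : γ' (c • x) = c ^ p • γ' x := γ'.map_smul c x
      rw [hγ, hγ, show γ (c • x) = c ^ p • γ x from γ.map_smul c x, smul_add, add_right_inj] at h
      exact h
    · rw [LieModule.mem_maxTrivSubmodule]
      intro w
      rw [← lie_skew, neg_eq_zero, ← LieAlgebra.ad_apply (R := R)]
      have h := γ'.ad_map x
      change LieAlgebra.ad R L (γ' x) = _ at h
      rw [hγ, ← γ.ad_map, map_add, add_eq_left] at h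
      rw [h, LinearMap.zero_apply]
  · rintro ⟨hadd, hsm, hc⟩
    refine ⟨⟨fun x => γ x + g x, fun c x => ?_, fun x => ?_, fun x y => ?_⟩, fun x => rfl⟩
    · rw [show γ (c • x) = c ^ p • γ x from γ.map_smul c x, hsm, smul_add]
    · have : LieAlgebra.ad R L (g x) = 0 := LinearMap.ext fun w => by
        rw [LieAlgebra.ad_apply, LinearMap.zero_apply, ← lie_skew, neg_eq_zero]
        exact (LieModule.mem_maxTrivSubmodule R L L (g x)).1 (hc x) w
      rw [map_add, this, add_zero]
      exact γ.ad_map x
    · rw [show γ (x + y) = γ x + γ y - _ from γ.map_add x y, hadd]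
      abel

end Groth.Agent.S13772
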