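import Groth.Statements.S13775
import Mathlib
-- import your own Groth.Agent.* helpers here

set_option autoImplicit false
universe u v
open PLie

namespace Groth.Agent.S13775

theorem pow_eigen {R M : Type*} [CommRing R] [AddCommGroup M] [Module R M] (f : Module.End R M) (v : M)
    (c : R) (h : f v = c • v) : ∀ n : ℕ, (f ^ n) v = c ^ n • v
  | 0 => by simp
  | n + 1 => by rw [pow_succ', Module.End.mul_apply, pow_eigen f v c h n, map_smul, h, smul_smul, pow_succ]

theorem pow_eq_zero' {R M : Type*} [CommRing R] [AddCommGroup M] [Module R M] (f : Module.End R M)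
    (v : M) (h : f (f v) = 0) : ∀ n : ℕ, 2 ≤ n → (f ^ n) v = 0 := by
  intro n hn
  obtain ⟨k, rfl⟩ := Nat.exists_eq_add_of_le hn
  rw [add_comm, pow_add, Module.End.mul_apply, pow_two, Module.End.mul_apply, h, map_zero]

/-- Let R be a commutative ring of prime characteristic p and L a Lie algebra over R, free as a module
with basis x = bs 0, y = bs 1, z = bs 2 and brackets [x,y] = y, [x,z] = y + z, [y,z] = 0. Then L
carries no p-mapping. (The published statement is the corresponding entry of the classification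
table of three-dimensional Lie algebras over an algebraically closed field of characteristic p; this
row states it over every commutative ring of characteristic p.) -/
theorem result (R : Type u) [CommRing R] (p : ℕ) [Fact p.Prime] [CharP R p]
    (L : Type v) [LieRing L] [LieAlgebra R L] (bs : Module.Basis (Fin 3) R L)
    (hxy : ⁅bs 0, bs 1⁆ = bs 1) (hxz : ⁅bs 0, bs 2⁆ = bs 1 + bs 2) (hyz : ⁅bs 1, bs 2⁆ = 0) :
    IsEmpty (PLie.PMap R p L) := by
  refine ⟨fun φ => ?_⟩
  have hyx : ⁅bs 1, bs 0⁆ = -bs 1 := by rw [← lie_skew, hxy]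
  have hzy : ⁅bs 2, bs 1⁆ = 0 := by rw [← lie_skew, hyz, neg_zero]
  have hp := (Fact.out : p.Prime).two_le
  have := (CharP.nontrivial_of_char_ne_one (R := R) (show p ≠ 1 by omega))
  have hn : ∀ n : ℕ, (LieAlgebra.ad R L (bs 0) ^ n) (bs 2) = bs 2 + (n : R) • bs 1 := by
    intro n
    induction n with
    | zero => simp
    | succ n ih =>
      rw [pow_succ', Module.End.mul_apply, ih, LieAlgebra.ad_apply, lie_add, lie_smul, hxy, hxz,
        Nat.cast_succ, add_smul, one_smul]
      abel
  have hx1 : (LieAlgebra.ad R L (bs 0) ^ p) (bs 1) = bs 1 := by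
    rw [pow_eigen _ _ 1 (by simp [hxy]), one_pow, one_smul]
  have hx2 : (LieAlgebra.ad R L (bs 0) ^ p) (bs 2) = bs 2 := by
    rw [hn, CharP.cast_eq_zero, zero_smul, add_zero]
  have h := φ.ad_map (bs 0)
  change LieAlgebra.ad R L (φ (bs 0)) = _ at h
  have hd := bs.sum_repr (φ (bs 0))
  rw [Fin.sum_univ_three] at hd
  rw [← hd] at h
  have h1 := congrArg (fun w => bs.repr w 1) (LinearMap.congr_fun h (bs 1))
  have h2 := congrArg (fun w => bs.repr w 1) (LinearMap.congr_fun h (bs 2))
  rw [hx1] at h1
  rw [hx2] at h2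
  simp [hxy, hxz, hyz, hzy] at h1 h2
  rw [h1] at h2
  exact one_ne_zero h2

end Groth.Agent.S13775
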