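import Groth.Statements.S13776
import Mathlib
import Groth.Agent.PLie.Jacobson
-- import your own Groth.Agent.* helpers here

set_option autoImplicit false
universe u v
open PLie

namespace Groth.Agent.S13776

theorem pow_eigen {R M : Type*} [CommRing R] [AddCommGroup M] [Module R M] (f : Module.End R M) (v : M)
    (c : R) (h : f v = c • v) : ∀ n : ℕ, (f ^ n) v = c ^ n • v
  | 0 => by simp
  | n + 1 => by rw [pow_succ', Module.End.mul_apply, pow_eigen f v c h n, map_smul, h, smul_smul, pow_succ]

theorem pow_eq_zero' {R M : Type*} [CommRing R] [AddCommGroup M] [Module R M] (f : Module.End R M)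
    (v : M) (h : f (f v) = 0) : ∀ n : ℕ, 2 ≤ n → (f ^ n) v = 0 := by
  intro n hn
  obtain ⟨k, rfl⟩ := Nat.exists_eq_add_of_le hn
  rw [add_comm, pow_add, Module.End.mul_apply, pow_two, Module.End.mul_apply, h, map_zero]

/-- Let R be a commutative ring of prime characteristic p, t ∈ R, and L a Lie algebra over R, free as a
module with basis x = bs 0, y = bs 1, z = bs 2 and brackets [x,y] = y, [x,z] = t • z, [y,z] = 0.
Then L carries a p-mapping if and only if t ^ p = t. (The published statement is the corresponding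
entry of the classification table over an algebraically closed field of characteristic p, where the
condition reads: t lies in the prime field; this row states it over every commutative ring of
characteristic p.) -/
theorem result (R : Type u) [CommRing R] (p : ℕ) [Fact p.Prime] [CharP R p] (t : R)
    (L : Type v) [LieRing L] [LieAlgebra R L] (bs : Module.Basis (Fin 3) R L)
    (hxy : ⁅bs 0, bs 1⁆ = bs 1) (hxz : ⁅bs 0, bs 2⁆ = t • bs 2) (hyz : ⁅bs 1, bs 2⁆ = 0) :
    Nonempty (PLie.PMap R p L) ↔ t ^ p = t := by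
  have hp := (Fact.out : p.Prime).two_le
  have hyx : ⁅bs 1, bs 0⁆ = -bs 1 := by rw [← lie_skew, hxy]
  have hzx : ⁅bs 2, bs 0⁆ = -(t • bs 2) := by rw [← lie_skew, hxz]
  have hzy : ⁅bs 2, bs 1⁆ = 0 := by rw [← lie_skew, hyz, neg_zero]
  have hx1 : (LieAlgebra.ad R L (bs 0) ^ p) (bs 1) = bs 1 := by
    rw [pow_eigen _ _ 1 (by simp [hxy]), one_pow, one_smul]
  have hx2 : (LieAlgebra.ad R L (bs 0) ^ p) (bs 2) = t ^ p • bs 2 := pow_eigen _ _ t (by simp [hxz]) p
  constructor
  · rintro ⟨φ⟩
    have h := φ.ad_map (bs 0)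
    change LieAlgebra.ad R L (φ (bs 0)) = _ at h
    have hd := bs.sum_repr (φ (bs 0))
    rw [Fin.sum_univ_three] at hd
    rw [← hd] at h
    have h1 := congrArg (fun w => bs.repr w 1) (LinearMap.congr_fun h (bs 1))
    have h2 := congrArg (fun w => bs.repr w 2) (LinearMap.congr_fun h (bs 2))
    rw [hx1] at h1
    rw [hx2] at h2
    simp [hxy, hxz, hyz, hzy, hyx, hzx] at h1 h2
    rw [h1, one_mul] at h2
    exact h2.symm
  · intro ht
    obtain ⟨φ, -⟩ := Groth.Agent.PLieLib.exists_pmap_basis (p := p) bs ![bs 0, 0, 0] (fun i => by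
      refine bs.ext fun j => ?_
      fin_cases i
      · fin_cases j
        · simpa [zero_pow (show p ≠ 0 by omega)] using
            pow_eigen (LieAlgebra.ad R L (bs 0)) (bs 0) 0 (by simp) p
        · simpa [hxy] using hx1
        · simpa [hxz, ht] using hx2
      · rw [pow_eq_zero' _ _ (by fin_cases j <;> simp [hxy, hxz, hyz, hzy, hyx, hzx]) p hp]
        simp
      · rw [pow_eq_zero' _ _ (by fin_cases j <;> simp [hxy, hxz, hyz, hzy, hyx, hzx]) p hp]
        simp)
    exact ⟨φ⟩

end Groth.Agent.S13776
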