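import Groth.Statements.S13778
import Mathlib
import Groth.Agent.PLie.Jacobson
-- import your own Groth.Agent.* helpers here

set_option autoImplicit false
universe u v
open PLie

namespace Groth.Agent.S13778

set_option maxHeartbeats 6000000

open DualNumber in
/-- Let K be a field of prime characteristic p, K[ε] the ring of dual numbers (taken with its
characteristic-p structure), t ∈ K with t ^ p = t (an element of the prime field), and a, …, i ∈ K.
Let L be a Lie algebra over K[ε], free as a module with basis x = bs 0, y = bs 1, z = bs 2 and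
brackets [x,y] = aε x + (1 + bε) y + cε z, [x,z] = dε x + eε y + (t + fε) z, [y,z] = gε x + hε y +
iε z. Then L carries a p-mapping over K[ε] if and only if b t = f, c = e = 0 when t = 1, and g = 0
when p = 2. (The published statement determines the singular locus of the restrictable locus in the
centreless stratum of the moduli scheme of based three-dimensional Lie algebras, for t non-zero, and
the rank-one-centre stratum treats t = 0; this row states the restrictability criterion for the
first-order deformations of l_t that the proofs compute, over any field of characteristic p in place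
of the prime field and for every t in the prime field.) -/
theorem result (K : Type u) [Field K] (p : ℕ) [Fact p.Prime] [CharP K p]
    [CharP (DualNumber K) p] (t a b c d e f g h i : K) (ht : t ^ p = t)
    (L : Type v) [LieRing L] [LieAlgebra (DualNumber K) L] (bs : Module.Basis (Fin 3) (DualNumber K) L)
    (hxy : ⁅bs 0, bs 1⁆ = (a • ε : DualNumber K) • bs 0 + (1 + b • ε : DualNumber K) • bs 1 + (c • ε : DualNumber K) • bs 2)
    (hxz : ⁅bs 0, bs 2⁆ = (d • ε : DualNumber K) • bs 0 + (e • ε : DualNumber K) • bs 1 +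
      (algebraMap K (DualNumber K) t + f • ε) • bs 2)
    (hyz : ⁅bs 1, bs 2⁆ = (g • ε : DualNumber K) • bs 0 + (h • ε : DualNumber K) • bs 1 + (i • ε : DualNumber K) • bs 2) :
    Nonempty (PLie.PMap (DualNumber K) p L) ↔ (b * t = f ∧ (t = 1 → c = 0 ∧ e = 0) ∧ (p = 2 → g = 0)) := by
  have hp := (Fact.out : p.Prime).two_le
  have hyx : ⁅bs 1, bs 0⁆ = -⁅bs 0, bs 1⁆ := (lie_skew _ _).symm
  have hzx : ⁅bs 2, bs 0⁆ = -⁅bs 0, bs 2⁆ := (lie_skew _ _).symm
  have hzy : ⁅bs 2, bs 1⁆ = -⁅bs 1, bs 2⁆ := (lie_skew _ _).symm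
  obtain ⟨hJ0, hJ1, hJ2⟩ : (1 + t) * g = 0 ∧ d = t * h ∧ i = -(a * t) := by
    have h0 := congrArg (fun w => (bs.repr w 0).snd) (leibniz_lie (bs 0) (bs 1) (bs 2))
    have h1 := congrArg (fun w => (bs.repr w 1).snd) (leibniz_lie (bs 0) (bs 1) (bs 2))
    have h2 := congrArg (fun w => (bs.repr w 2).snd) (leibniz_lie (bs 0) (bs 1) (bs 2))
    simp [hyx, hzx, hzy, hxy, hxz, hyz, lie_add, add_lie, lie_smul, smul_lie, lie_self, lie_neg,
      neg_lie, TrivSqZeroExt.fst_mul, TrivSqZeroExt.snd_mul, Finsupp.single_apply,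
      TrivSqZeroExt.algebraMap_eq_inl] at h0 h1 h2
    refine ⟨?_, ?_, ?_⟩
    · linear_combination -h0
    · linear_combination -h1
    · linear_combination h2
  set A := LieAlgebra.ad (DualNumber K) L (bs 0) with hA
  have hA0 : A (bs 0) = 0 := by simp [hA]
  have hA1 : A (bs 1) = ⁅bs 0, bs 1⁆ := rfl
  have hA2 : A (bs 2) = ⁅bs 0, bs 2⁆ := rfl
  have hAy : ∀ n : ℕ, (A ^ (n + 1)) (bs 1) = (a • ε : DualNumber K) • bs 0 +
      (1 + (((n + 1 : ℕ) : K) * b) • ε : DualNumber K) • bs 1 +
      (((∑ i ∈ Finset.range (n + 1), t ^ i) * c) • ε : DualNumber K) • bs 2 := by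
    intro n
    induction n with
    | zero => simp [hA1, hxy]
    | succ n ih =>
      rw [pow_succ', Module.End.mul_apply, ih, map_add, map_add, map_smul, map_smul, map_smul,
        hA0, hA1, hA2, hxy, hxz, geom_sum_succ (n := n + 1)]
      refine bs.ext_elem fun l => ?_
      fin_cases l <;> (apply TrivSqZeroExt.ext <;> simp [TrivSqZeroExt.fst_mul, TrivSqZeroExt.snd_mul,
        Finsupp.single_apply, TrivSqZeroExt.algebraMap_eq_inl] <;> ring)
  have hAz : ∀ n : ℕ, (A ^ (n + 1)) (bs 2) = ((t ^ n * d) • ε : DualNumber K) • bs 0 +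
      (((∑ i ∈ Finset.range (n + 1), t ^ i) * e) • ε : DualNumber K) • bs 1 +
      (algebraMap K (DualNumber K) (t ^ (n + 1)) + (((n + 1 : ℕ) : K) * t ^ n * f) • ε) • bs 2 := by
    intro n
    induction n with
    | zero => simp [hA2, hxz]
    | succ n ih =>
      rw [pow_succ', Module.End.mul_apply, ih, map_add, map_add, map_smul, map_smul, map_smul,
        hA0, hA1, hA2, hxy, hxz, Finset.sum_range_succ _ (n + 1)]
      refine bs.ext_elem fun l => ?_
      fin_cases l <;> (apply TrivSqZeroExt.ext <;> simp [TrivSqZeroExt.fst_mul, TrivSqZeroExt.snd_mul,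
        Finsupp.single_apply, TrivSqZeroExt.algebraMap_eq_inl, pow_succ] <;> ring)
  set σ := ∑ i ∈ Finset.range p, t ^ i with hσ
  have hAyp := hAy (p - 1)
  have hAzp := hAz (p - 1)
  rw [show p - 1 + 1 = p by omega, CharP.cast_eq_zero] at hAyp hAzp
  rw [← hσ] at hAyp hAzp
  simp only [zero_mul, zero_smul, add_zero, ht] at hAyp hAzp
  have hσ1 : t = 1 → σ = 0 := by
    intro h1
    rw [hσ, h1]
    simp
  have hσne : t ≠ 1 → σ = 1 := by
    intro h1
    have := geom_sum_mul t p
    rw [ht, ← hσ] at this
    exact mul_right_cancel₀ (sub_ne_zero.2 h1) (by rw [this, one_mul])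
  have hτ : t ^ (p - 1) * d = d := by
    rw [hJ1, ← mul_assoc, ← pow_succ, show p - 1 + 1 = p by omega, ht]
  have hA0p : (A ^ p) (bs 0) = 0 := by
    rw [show p = (p - 1) + 1 by omega, pow_succ, Module.End.mul_apply, hA0, map_zero]
  rw [hτ] at hAzp
  constructor
  · rintro ⟨φ⟩
    have hx := φ.ad_map (bs 0)
    change LieAlgebra.ad (DualNumber K) L (φ (bs 0)) = _ at hx
    have hdx := bs.sum_repr (φ (bs 0))
    rw [Fin.sum_univ_three] at hdx
    rw [← hdx, ← hA] at hx
    have x1 := congrArg (fun w => (bs.repr w 1).fst) ((LinearMap.congr_fun hx (bs 0)).trans hA0p)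
    have x2 := congrArg (fun w => (bs.repr w 2).fst) ((LinearMap.congr_fun hx (bs 0)).trans hA0p)
    have x3 := congrArg (fun w => (bs.repr w 1).fst) ((LinearMap.congr_fun hx (bs 1)).trans hAyp)
    have x4 := congrArg (fun w => (bs.repr w 1).snd) ((LinearMap.congr_fun hx (bs 1)).trans hAyp)
    have x5 := congrArg (fun w => (bs.repr w 2).snd) ((LinearMap.congr_fun hx (bs 1)).trans hAyp)
    have x6 := congrArg (fun w => (bs.repr w 1).snd) ((LinearMap.congr_fun hx (bs 2)).trans hAzp)
    have x7 := congrArg (fun w => (bs.repr w 2).snd) ((LinearMap.congr_fun hx (bs 2)).trans hAzp)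
    simp [hyx, hzx, hzy, hxy, hxz, hyz, lie_add, add_lie, lie_smul, smul_lie, lie_self, lie_neg,
      neg_lie, TrivSqZeroExt.fst_mul, TrivSqZeroExt.snd_mul, Finsupp.single_apply,
      TrivSqZeroExt.algebraMap_eq_inl] at x1 x2 x3 x4 x5 x6 x7
    simp [x1, x3] at x4 x5 x6 x7
    refine ⟨?_, fun h1 => ?_, fun h2 => ?_⟩
    · rcases x2 with hγ | ht0
      · simp [hγ] at x4
        linear_combination t * x4 - x7
      · subst ht0
        simp at x7
        simp [x7]
    · subst h1
      have hγ := x2
      simp at hγ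
      simp [hγ, hσ1 rfl] at x5 x6
      exact ⟨x5, x6⟩
    · subst h2
      have hy := φ.ad_map (bs 1)
      change LieAlgebra.ad (DualNumber K) L (φ (bs 1)) = _ at hy
      have hdy := bs.sum_repr (φ (bs 1))
      rw [Fin.sum_univ_three] at hdy
      rw [← hdy] at hy
      have y1 := congrArg (fun w => (bs.repr w 1).fst) (LinearMap.congr_fun hy (bs 1))
      have y2 := congrArg (fun w => (bs.repr w 1).fst) (LinearMap.congr_fun hy (bs 0))
      have y3 := congrArg (fun w => (bs.repr w 1).snd) (LinearMap.congr_fun hy (bs 2))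
      simp [pow_two, hyx, hzx, hzy, hxy, hxz, hyz, lie_add, add_lie, lie_smul, smul_lie, lie_self,
        lie_neg, neg_lie, TrivSqZeroExt.fst_mul, TrivSqZeroExt.snd_mul, Finsupp.single_apply,
        TrivSqZeroExt.algebraMap_eq_inl] at y1 y2 y3
      simpa [y1, y2] using y3.symm
  · rintro ⟨hbt, hc1, hg⟩
    have hσc : σ * c = c ∧ σ * e = e := by
      by_cases h1 : t = 1
      · obtain ⟨hc, he⟩ := hc1 h1
        simp [hc, he]
      · simp [hσne h1]
    rw [hσc.1] at hAyp
    rw [hσc.2] at hAzp
    let X : DualNumber K := 1 + (-b) • ε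
    let Y : DualNumber K := if p = 2 then (-a) • ε else 0
    let Z : DualNumber K := if p = 2 then (-d) • ε else 0
    obtain ⟨φ, -⟩ := Groth.Agent.PLieLib.exists_pmap_basis (p := p) bs
      ![X • bs 0, Y • bs 1, Z • bs 2] (fun k => by
      fin_cases k <;> dsimp only [Fin.isValue, Fin.zero_eta, Fin.mk_one, Fin.reduceFinMk]
      · refine bs.ext fun j => ?_
        rw [← hA]
        fin_cases j <;> dsimp only [Fin.isValue, Fin.zero_eta, Fin.mk_one, Fin.reduceFinMk]
        · rw [hA0p]; simp
        · rw [hAyp]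
          refine bs.ext_elem fun l => ?_
          fin_cases l <;> (apply TrivSqZeroExt.ext <;> simp [X, hxy, lie_smul, smul_lie,
            TrivSqZeroExt.fst_mul, TrivSqZeroExt.snd_mul, Finsupp.single_apply] <;> ring)
        · rw [hAzp]
          refine bs.ext_elem fun l => ?_
          fin_cases l <;> (apply TrivSqZeroExt.ext <;> simp [X, hxz, lie_smul, smul_lie,
            TrivSqZeroExt.fst_mul, TrivSqZeroExt.snd_mul, Finsupp.single_apply,
            TrivSqZeroExt.algebraMap_eq_inl] <;>
            first | linear_combination hbt | linear_combination -hbt | ring)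
      all_goals
        obtain rfl | h3 : p = 2 ∨ 3 ≤ p := by omega
        · have hg0 := hg rfl
          subst hg0
          refine bs.ext fun j => bs.ext_elem fun l => ?_
          fin_cases j <;> fin_cases l <;>
            (apply TrivSqZeroExt.ext <;> simp [Y, Z, pow_two, hyx, hzx, hzy, hxy, hxz, hyz, lie_add,
              add_lie, lie_smul, smul_lie, lie_self, lie_neg, neg_lie, TrivSqZeroExt.fst_mul,
              TrivSqZeroExt.snd_mul, Finsupp.single_apply, TrivSqZeroExt.algebraMap_eq_inl] <;> ring)
        · have h2 : p ≠ 2 := by omega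
          rw [show p = 3 + (p - 3) by omega, pow_add]
          refine bs.ext fun j => ?_
          have h0 : ∀ u : L, ∀ q : Fin 2, (LieAlgebra.ad (DualNumber K) L (bs (q.succ)) ^ 3) u = 0 := by
            intro u q
            have : LieAlgebra.ad (DualNumber K) L (bs (q.succ)) ^ 3 = 0 := by
              refine bs.ext fun j => bs.ext_elem fun l => ?_
              fin_cases q <;> fin_cases j <;> fin_cases l <;>
                (apply TrivSqZeroExt.ext <;> simp [pow_succ, hyx, hzx, hzy, hxy, hxz, hyz, lie_add,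
                  add_lie, lie_smul, smul_lie, lie_self, lie_neg, neg_lie, TrivSqZeroExt.fst_mul,
                  TrivSqZeroExt.snd_mul, Finsupp.single_apply, TrivSqZeroExt.algebraMap_eq_inl] <;> ring)
            rw [this, LinearMap.zero_apply]
          first
            | (rw [Module.End.mul_apply]; refine (h0 _ 0).trans ?_; simp only [Matrix.cons_val_one, Matrix.cons_val_zero]; rw [show Y • bs 1 = 0 by rw [show Y = 0 by simp [Y, h2]]; exact Module.zero_smul _]; simp)
            | (rw [Module.End.mul_apply]; refine (h0 _ 1).trans ?_; simp only [Matrix.cons_val, Matrix.cons_val_one, Matrix.cons_val_zero]; rw [show Z • bs 2 = 0 by rw [show Z = 0 by simp [Z, h2]]; exact Module.zero_smul _]; simp))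
    exact ⟨φ⟩

end Groth.Agent.S13778
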