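import Groth.Statements.S13779
import Mathlib
import Groth.Agent.PLie.Jacobson
-- import your own Groth.Agent.* helpers here

set_option autoImplicit false
universe u v
open PLie

namespace Groth.Agent.S13779

theorem pow_eigen {R M : Type*} [CommRing R] [AddCommGroup M] [Module R M] (f : Module.End R M) (v : M)
    (c : R) (h : f v = c • v) : ∀ n : ℕ, (f ^ n) v = c ^ n • v
  | 0 => by simp
  | n + 1 => by rw [pow_succ', Module.End.mul_apply, pow_eigen f v c h n, map_smul, h, smul_smul, pow_succ]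

theorem pow_eq_zero' {R M : Type*} [CommRing R] [AddCommGroup M] [Module R M] (f : Module.End R M)
    (v : M) (h : f (f v) = 0) : ∀ n : ℕ, 2 ≤ n → (f ^ n) v = 0 := by
  intro n hn
  obtain ⟨k, rfl⟩ := Nat.exists_eq_add_of_le hn
  rw [add_comm, pow_add, Module.End.mul_apply, pow_two, Module.End.mul_apply, h, map_zero]

/-- Let p be an odd prime, R a commutative ring of characteristic p, t ∈ R, and L a Lie algebra over R,
free as a module with basis x = bs 0, y = bs 1, z = bs 2 and brackets [x,y] = z, [x,z] = t • y,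
[y,z] = 0. Then L carries a p-mapping φ with φ x = t ^ ((p - 1) / 2) • x, φ y = 0 and φ z = 0. (The
published statement concerns the Lie algebra with these brackets over a field of Laurent series
k((t)), k algebraically closed of odd characteristic, t the variable; this row states its
restrictability over every commutative ring of odd prime characteristic and every t.) -/
theorem result (R : Type u) [CommRing R] (p : ℕ) [Fact p.Prime] [CharP R p] (hp : p ≠ 2)
    (t : R) (L : Type v) [LieRing L] [LieAlgebra R L] (bs : Module.Basis (Fin 3) R L)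
    (hxy : ⁅bs 0, bs 1⁆ = bs 2) (hxz : ⁅bs 0, bs 2⁆ = t • bs 1) (hyz : ⁅bs 1, bs 2⁆ = 0) :
    ∃ φ : PLie.PMap R p L, φ (bs 0) = t ^ ((p - 1) / 2) • bs 0 ∧ φ (bs 1) = 0 ∧ φ (bs 2) = 0 := by
  have hp2le := (Fact.out : p.Prime).two_le
  have hp2 : p % 2 = 1 := (Fact.out : p.Prime).eq_two_or_odd.resolve_left (by assumption)
  have hyx : ⁅bs 1, bs 0⁆ = -bs 2 := by rw [← lie_skew, hxy]
  have hzx : ⁅bs 2, bs 0⁆ = -(t • bs 1) := by rw [← lie_skew, hxz]
  have hzy : ⁅bs 2, bs 1⁆ = 0 := by rw [← lie_skew, hyz, neg_zero]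
  set A := LieAlgebra.ad R L (bs 0) with hA
  have hA1 : ((A ^ 2) (bs 1)) = t • bs 1 := by simp [hA, pow_two, hxy, hxz]
  have hA2 : ((A ^ 2) (bs 2)) = t • bs 2 := by simp [hA, pow_two, hxy, hxz, lie_smul]
  have hA0 : A (bs 0) = 0 := by simp [hA]
  obtain ⟨φ, hφ⟩ := Groth.Agent.PLieLib.exists_pmap_basis (p := p) bs
    ![t ^ ((p - 1) / 2) • bs 0, 0, 0] (fun i => by
      refine bs.ext fun j => ?_
      fin_cases i
      · change (A ^ p) (bs j) = LieAlgebra.ad R L (t ^ ((p - 1) / 2) • bs 0) (bs j)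
        rw [map_smul, LinearMap.smul_apply, ← hA, show p = (p - 1) / 2 * 2 + 1 by omega,
          show ((p - 1) / 2 * 2 + 1 - 1) / 2 = (p - 1) / 2 by omega, pow_succ', pow_mul',
          Module.End.mul_apply]
        fin_cases j <;> dsimp only [Fin.isValue, Fin.zero_eta, Fin.mk_one, Fin.reduceFinMk]
        · rw [pow_eigen (A ^ 2) (bs 0) 0 (by simp [pow_two, hA0]), map_smul, hA0, smul_zero]
          simp [hA0]
        · rw [pow_eigen (A ^ 2) (bs 1) t hA1, map_smul]
        · rw [pow_eigen (A ^ 2) (bs 2) t hA2, map_smul]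
      · rw [pow_eq_zero' _ _ (by fin_cases j <;> simp [hxy, hxz, hyz, hzy, hyx, hzx]) p (by omega)]
        simp
      · rw [pow_eq_zero' _ _ (by fin_cases j <;> simp [hxy, hxz, hyz, hzy, hyx, hzx]) p (by omega)]
        simp)
  exact ⟨φ, hφ 0, hφ 1, hφ 2⟩

end Groth.Agent.S13779
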