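import Groth.Statements.S13780
import Mathlib
-- import your own Groth.Agent.* helpers here

set_option autoImplicit false
universe u v w
open PLie

namespace Groth.Agent.S13780

theorem conj_ad_pow {R : Type*} [CommRing R] {L L' : Type*} [LieRing L] [LieAlgebra R L] [LieRing L']
    [LieAlgebra R L'] (f : L →ₗ⁅R⁆ L') (x y : L) : ∀ n : ℕ,
    f ((LieAlgebra.ad R L x ^ n) y) = (LieAlgebra.ad R L' (f x) ^ n) (f y)
  | 0 => rfl
  | n + 1 => by
    rw [pow_succ', pow_succ', Module.End.mul_apply, Module.End.mul_apply, LieAlgebra.ad_apply,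
      LieHom.map_lie, conj_ad_pow f x y n, LieAlgebra.ad_apply]

/-- Let R be a commutative ring of prime characteristic p, L and L' Lie algebras over R with p-mappings
γ and γ', the centre of L' being zero, and φ : L ≃ L' an isomorphism of Lie algebras over R. Then φ
(γ x) = γ' (φ x) for every x: φ is an isomorphism of p-Lie algebras. (The published statement is the
case L' = L of a centreless restrictable Lie algebra over a field with its unique p-mapping and a
Lie algebra automorphism; this row allows two algebras and any commutative base ring of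
characteristic p.) -/
theorem result (R : Type u) [CommRing R] (p : ℕ) [Fact p.Prime] [CharP R p]
    (L : Type v) [LieRing L] [LieAlgebra R L] (L' : Type w) [LieRing L'] [LieAlgebra R L']
    (γ : PLie.PMap R p L) (γ' : PLie.PMap R p L') (hZ : LieAlgebra.center R L' = ⊥) (φ : L ≃ₗ⁅R⁆ L') :
    PLie.IsPHom γ γ' φ.toLieHom := by
  intro x
  rw [← sub_eq_zero]
  have h : φ.toLieHom (γ x) - γ' (φ.toLieHom x) ∈ LieAlgebra.center R L' := by
    rw [LieModule.mem_maxTrivSubmodule]
    intro w
    obtain ⟨y, rfl⟩ := φ.surjective w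
    rw [← lie_skew, neg_eq_zero, sub_lie, sub_eq_zero]
    have h1 : ⁅γ' (φ.toLieHom x), φ.toLieHom y⁆ = (LieAlgebra.ad R L' (φ.toLieHom x) ^ p) (φ.toLieHom y) := by
      rw [← γ'.ad_map, LieAlgebra.ad_apply]
    have h2 : ⁅φ.toLieHom (γ x), φ.toLieHom y⁆ = φ.toLieHom ((LieAlgebra.ad R L x ^ p) y) := by
      rw [← γ.ad_map, LieAlgebra.ad_apply, LieHom.map_lie]
    exact h2.trans ((conj_ad_pow φ.toLieHom x y p).trans h1.symm)
  rwa [hZ, LieSubmodule.mem_bot] at h

end Groth.Agent.S13780
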