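import Groth.Statements.S13781
import Groth.Agent.FlatAscent.Smooth
import Groth.Agent.PP16Lib.GeomRegLocal
import Groth.Agent.FlatAscent.FieldExt
import Mathlib.FieldTheory.Separable
-- import your own Groth.Agent.* helpers here

set_option autoImplicit false
universe u
open CAlg

namespace Groth.Agent.S13781

/-- A Noetherian local ring with regular quotient by a regular element is regular. -/
theorem isRegularLocalRing_of_quotient {R : Type u} [CommRing R] [IsLocalRing R] [IsNoetherianRing R]
    (x : R) (hx : x ∈ IsLocalRing.maximalIdeal R) (hnzd : ∀ y, x * y = 0 → y = 0)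
    (h : IsRegularLocalRing (R ⧸ Ideal.span {x})) : IsRegularLocalRing R := by
  classical
  obtain ⟨S, hS, hspan⟩ := Groth.Agent.DepthLib.exists_lift_generators (Ideal.span {x})
  refine IsRegularLocalRing.of_spanFinrank_maximalIdeal_le _ ?_
  have h1 : (IsLocalRing.maximalIdeal R).spanFinrank ≤
      (IsLocalRing.maximalIdeal (R ⧸ Ideal.span {x})).spanFinrank + 1 := by
    rw [← hspan, ← Ideal.span_union, show (S : Set R) ∪ {x} = ((insert x S : Finset R) : Set R) by simp]
    exact ((Submodule.spanFinrank_span_le_ncard_of_finite (Finset.finite_toSet _)).trans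
      (le_of_eq (Set.ncard_coe_finset _))).trans ((Finset.card_insert_le _ _).trans (Nat.add_le_add_right hS 1))
  rw [← ringKrullDim_quotient_span_singleton_succ_eq_ringKrullDim
    (fun a b (hab : x * a = x * b) => sub_eq_zero.mp (hnzd _ (by rw [mul_sub, hab, sub_self]))) hx,
    ← IsRegularLocalRing.spanFinrank_maximalIdeal (R := R ⧸ Ideal.span {x})]
  exact_mod_cast h1

theorem isRegularRing_of_isArtinian (R : Type u) [CommRing R] [IsArtinianRing R]
    [_root_.IsReduced R] : IsRegularRing R :=
  Groth.Agent.FlatAscent.isRegularRing_of_isArtinianRing R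

/-- Let A be a regular local ring, s a non-zero element of A such that A/(s) is regular, and e a
positive integer invertible in A. Then A[t]/(t^e - s) is regular. (Regularity of a ring is taken
throughout as: Noetherian, with every localization at a prime ideal a regular local ring; the
hypotheses on A and on A/(s) and the conclusion on A[t]/(t^e - s) are all read this way, which for
the local rings A and A/(s) is the usual notion once localizations of regular local rings are known
to be regular.) -/
theorem result (A : Type u) [CommRing A] [IsLocalRing A]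
    [IsRegularRing A] (s : A) (hs : s ≠ 0) (hreg : IsRegularRing (A ⧸ Ideal.span {s}))
    (e : ℕ) (he : 0 < e) (heu : IsUnit (e : A)) :
    IsRegularRing (AdjoinRoot (Polynomial.X ^ e - Polynomial.C s)) := by
  classical
  let F : Polynomial A := Polynomial.X ^ e - Polynomial.C s
  have hF : F.Monic := Polynomial.monic_X_pow_sub_C s he.ne'
  let T := AdjoinRoot F
  have : Module.Finite A T := Polynomial.Monic.finite_adjoinRoot hF
  have : Module.Free A T := Polynomial.Monic.free_adjoinRoot hF
  have : IsNoetherianRing T := IsNoetherianRing.of_finite A T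
  have hAdom : IsDomain A :=
    haveI := IsRegularLocalRing.of_isRegularRing_of_isLocalRing A
    Groth.Agent.DepthLib.isDomain_of_isRegularLocalRing A
  let t : T := AdjoinRoot.root F
  have hte : t ^ e = algebraMap A T s := by
    have h : Polynomial.eval₂ (algebraMap A T) t F = 0 := AdjoinRoot.eval₂_root F
    simpa [F, sub_eq_zero] using h
  have htreg : ∀ x : T, t * x = 0 → x = 0 := fun x hx => by
    have h1 : s • x = 0 := by
      rw [Algebra.smul_def, ← hte, ← Nat.sub_add_cancel he, pow_succ, mul_assoc, hx, mul_zero]
    exact (smul_eq_zero.mp h1).resolve_left hs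
  refine isRegularRing_iff.mpr fun Q hQ => ?_
  let p := Q.comap (algebraMap A T)
  by_cases htQ : t ∈ Q
  · -- the quotient by `t` is `A / (s)`
    let TQ := Localization.AtPrime Q
    let π : T →+* A ⧸ Ideal.span {s} := AdjoinRoot.lift (Ideal.Quotient.mk _) 0 (by
      simp only [F, Polynomial.eval₂_sub, Polynomial.eval₂_pow, Polynomial.eval₂_X, Polynomial.eval₂_C,
        zero_pow he.ne', zero_sub, neg_eq_zero]
      exact Ideal.Quotient.eq_zero_iff_mem.mpr (Ideal.mem_span_singleton_self s))
    have hπ : Function.Surjective π := fun y => by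
      obtain ⟨a, rfl⟩ := Ideal.Quotient.mk_surjective y
      exact ⟨AdjoinRoot.of F a, AdjoinRoot.lift_of _⟩
    have hker : RingHom.ker π = Ideal.span {t} := by
      refine le_antisymm (fun x hx => ?_) ((Ideal.span_singleton_le_iff_mem _).mpr (AdjoinRoot.lift_root _))
      obtain ⟨g, rfl⟩ := AdjoinRoot.mk_surjective x
      rw [RingHom.mem_ker, AdjoinRoot.lift_mk, Polynomial.eval₂_at_zero,
        Ideal.Quotient.eq_zero_iff_mem, Ideal.mem_span_singleton] at hx
      obtain ⟨c, hc⟩ := hx
      rw [← g.X_mul_divX_add, hc, map_add, map_mul, AdjoinRoot.mk_X, AdjoinRoot.mk_C, map_mul]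
      refine Ideal.add_mem _ (Ideal.mul_mem_right _ _ (Ideal.mem_span_singleton_self t))
        (Ideal.mul_mem_right _ _ ?_)
      rw [← AdjoinRoot.algebraMap_eq, ← hte]
      exact Ideal.pow_mem_of_mem _ (Ideal.mem_span_singleton_self t) e he
    have : IsRegularRing (T ⧸ Ideal.span {t}) :=
      IsRegularRing.of_ringEquiv
        ((RingHom.quotientKerEquivOfSurjective hπ).symm.trans (Ideal.quotEquivOfEq hker))
    let J : Ideal TQ := (Ideal.span {t}).map (algebraMap T TQ)
    have hJ : J = Ideal.span {algebraMap T TQ t} :=
      (Ideal.map_span _ _).trans (congrArg Ideal.span Set.image_singleton)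
    have htm : algebraMap T TQ t ∈ IsLocalRing.maximalIdeal TQ :=
      (IsLocalization.AtPrime.to_map_mem_maximal_iff TQ Q t).mpr htQ
    have : IsLocalization (Algebra.algebraMapSubmonoid (T ⧸ Ideal.span {t}) Q.primeCompl) (TQ ⧸ J) :=
      inferInstance
    have hq : IsRegularRing (TQ ⧸ J) := Groth.Agent.PP16Lib.isRegularRing_of_isLocalization
      (Algebra.algebraMapSubmonoid (T ⧸ Ideal.span {t}) Q.primeCompl)
    have htop : J ≠ ⊤ := ne_top_of_le_ne_top (IsLocalRing.maximalIdeal.isMaximal TQ).ne_top
      (hJ ▸ (Ideal.span_singleton_le_iff_mem _).mpr htm)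
    have : Nontrivial (TQ ⧸ J) := Ideal.Quotient.nontrivial_iff.mpr htop
    have : IsLocalRing (TQ ⧸ J) := IsLocalRing.of_surjective' _ Ideal.Quotient.mk_surjective
    have hql : IsRegularLocalRing (TQ ⧸ J) := IsRegularLocalRing.of_isRegularRing_of_isLocalRing _
    have hnzd : ∀ x : TQ, algebraMap T TQ t * x = 0 → x = 0 := fun x hx => by
      obtain ⟨a, c, rfl⟩ := IsLocalization.exists_mk'_eq Q.primeCompl x
      rw [IsLocalization.mul_mk'_eq_mk'_of_mul, IsLocalization.mk'_eq_zero_iff] at hx
      obtain ⟨m, hm⟩ := hx
      rw [IsLocalization.mk'_eq_zero_iff]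
      exact ⟨m, htreg _ (by rwa [mul_left_comm] at hm)⟩
    exact isRegularLocalRing_of_quotient _ htm hnzd (by rw [← hJ]; exact hql)
  · -- the fibre is reduced
    have : Module.Flat A T := inferInstance
    refine Groth.Agent.FlatAscent.isRegularLocalRing_atPrime (A := A) Q inferInstance ?_
    obtain ⟨P, _, ⟨ε⟩⟩ := Groth.Agent.FlatAscent.exists_fibre_prime (A := A) Q
    have hsp : s ∉ p := fun h => htQ (hQ.mem_of_pow_mem e (hte ▸ h))
    have : IsRegularRing (p.Fiber T) := by
      let κ := p.ResidueField
      let G : Polynomial κ := Polynomial.X ^ e - Polynomial.C (algebraMap A κ s)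
      have hG : G.Separable := Polynomial.separable_X_pow_sub_C _
        (by
          have h1 := heu.map (algebraMap A κ)
          rw [map_natCast] at h1
          exact h1.ne_zero) (fun h => hsp (Ideal.algebraMap_residueField_eq_zero.mp h))
      have hGm : G.Monic := Polynomial.monic_X_pow_sub_C _ he.ne'
      have : Module.Finite κ (AdjoinRoot G) := Polynomial.Monic.finite_adjoinRoot hGm
      have : IsArtinianRing (AdjoinRoot G) := IsArtinianRing.of_finite κ _
      have : IsReduced (AdjoinRoot G) :=
        (Ideal.isRadical_iff_quotient_reduced _).mp (isRadical_iff_span_singleton.mp hG.squarefree.isRadical)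
      have hreg := isRegularRing_of_isArtinian (AdjoinRoot G)
      let q := F.map (Algebra.TensorProduct.includeRight (R := A) (A := κ) (B := A)).toRingHom
      let ε₀ : TensorProduct A κ A ≃+* κ := (Algebra.TensorProduct.rid A κ κ).toRingEquiv
      have hq : Associated (q.map (ε₀ : TensorProduct A κ A →+* κ)) G := by
        refine Associated.of_eq ?_
        simp [q, G, F, ε₀, Algebra.smul_def]
      exact Groth.Agent.FlatAscent.isRegularRing_transport
        ((AdjoinRoot.tensorAlgEquiv F q rfl).toRingEquiv.trans (AdjoinRoot.mapRingEquiv ε₀ q G hq)).symm hreg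
    exact IsRegularLocalRing.of_ringEquiv (R := Localization.AtPrime P) ε

end Groth.Agent.S13781
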