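import Groth.Statements.S9408
import Groth.Agent.FlatAscent.FieldExt
import Groth.Agent.FlatAscent.Smooth
-- import your own Groth.Agent.* helpers here

set_option autoImplicit false
universe u
open CAlg

namespace Groth.Agent.S9408

/-- Over a field k, geometric regularity ascends along smooth maps of k-algebras: for A Noetherian and
geometrically regular over k and B smooth over A, B is geometrically regular over k. -/
theorem result (k : Type u) [Field k] (A : Type u) [CommRing A]
    [Algebra k A] [IsNoetherianRing A] (B : Type u) [CommRing B] [Algebra k B] [Algebra A B]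
    [IsScalarTower k A B] [Algebra.Smooth A B] (hA : CAlg.IsGeometricallyRegular k A) :
    CAlg.IsGeometricallyRegular k B := by
  intro k' _ _ hk'
  let R := TensorProduct k k' A
  have : IsRegularRing R := hA k' hk'
  let : Algebra A R := Algebra.TensorProduct.includeRight.toRingHom.toAlgebra
  let T := TensorProduct A R B
  have : IsNoetherianRing T := Algebra.FiniteType.isNoetherianRing R T
  have hs := Groth.Agent.FlatAscent.isRegularHom_of_smooth R T
  have : Module.Flat R T := hs.1
  have hT : IsRegularRing T := Groth.Agent.FlatAscent.isRegularRing_of_fibres (A := R) fun p _ => by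
    have h1 := (hs.2 p).2 p.ResidueField inferInstance
    exact Groth.Agent.FlatAscent.isRegularRing_transport
      (Algebra.TensorProduct.lid p.ResidueField (p.Fiber T)).toRingEquiv h1
  have : IsScalarTower k A R := .of_algebraMap_eq fun c =>
    ((Algebra.TensorProduct.includeRight : A →ₐ[k] R).commutes c).symm
  let eR : TensorProduct k A k' ≃ₐ[A] R :=
    AlgEquiv.ofRingEquiv (f := (Algebra.TensorProduct.comm k A k').toRingEquiv) fun x => rfl
  exact IsRegularRing.of_ringEquiv (R := T)
    ((((Algebra.TensorProduct.congr eR.symm (AlgEquiv.refl (R := A) (A₁ := B))).toRingEquiv.trans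
      (Algebra.TensorProduct.comm A (TensorProduct k A k') B).toRingEquiv).trans
      (Algebra.TensorProduct.cancelBaseChange k A B B k').toRingEquiv).trans
      (Algebra.TensorProduct.comm k B k').toRingEquiv)

end Groth.Agent.S9408
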