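import Groth.Statements.S13782
import Groth.Agent.S13781
import Groth.Agent.S9408
import Groth.Agent.AdicFS.Basic
import Groth.Agent.PP16Lib.AdicTopLift
import Groth.Agent.PP16Lib.GeomRegLocal
import Groth.Agent.DepthLib.RegularQuotient
import Mathlib.RingTheory.Smooth.Locus

set_option autoImplicit false
universe u
open CAlg

namespace Groth.Agent.S13782

open TensorProduct

theorem regular_adjoinRoot (A : Type u) [CommRing A] [IsRegularRing A] (s : A) (hs : s ∈ nonZeroDivisors A)
    (hreg : IsRegularRing (A ⧸ Ideal.span {s})) (e : ℕ) (he : 0 < e) (heu : IsUnit (e : A)) :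
    IsRegularRing (AdjoinRoot (Polynomial.X ^ e - Polynomial.C s)) := by
  classical
  let F : Polynomial A := Polynomial.X ^ e - Polynomial.C s
  have hF : F.Monic := Polynomial.monic_X_pow_sub_C s he.ne'
  let T := AdjoinRoot F
  have : Module.Finite A T := Polynomial.Monic.finite_adjoinRoot hF
  have : Module.Free A T := Polynomial.Monic.free_adjoinRoot hF
  have : IsNoetherianRing T := IsNoetherianRing.of_finite A T
  let t : T := AdjoinRoot.root F
  have hte : t ^ e = algebraMap A T s := by
    have h : Polynomial.eval₂ (algebraMap A T) t F = 0 := AdjoinRoot.eval₂_root F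
    simpa [F, sub_eq_zero] using h
  have htreg : ∀ x : T, t * x = 0 → x = 0 := fun x hx => by
    have h1 : s • x = 0 := by
      rw [Algebra.smul_def, ← hte, ← Nat.sub_add_cancel he, pow_succ, mul_assoc, hx, mul_zero]
    obtain ⟨g, rfl⟩ := (Module.Free.chooseBasis A T).repr.symm.surjective x
    rw [← map_smul, map_eq_zero_iff _ (Module.Free.chooseBasis A T).repr.symm.injective] at h1
    rw [show g = 0 from Finsupp.ext fun i => (mul_left_mem_nonZeroDivisors_eq_zero_iff hs).mp
      (DFunLike.congr_fun h1 i), map_zero]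
  refine isRegularRing_iff.mpr fun Q hQ => ?_
  let p := Q.comap (algebraMap A T)
  by_cases htQ : t ∈ Q
  · -- the quotient by `t` is `A / (s)`
    let TQ := Localization.AtPrime Q
    let π : T →+* A ⧸ Ideal.span {s} := AdjoinRoot.lift (Ideal.Quotient.mk _) 0 (by
      simp only [F, Polynomial.eval₂_sub, Polynomial.eval₂_pow, Polynomial.eval₂_X, Polynomial.eval₂_C,
        zero_pow he.ne', zero_sub, neg_eq_zero]
      exact Ideal.Quotient.eq_zero_iff_mem.mpr (Ideal.mem_span_singleton_self s))
    have hπ : Function.Surjective π := fun y => by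
      obtain ⟨a, rfl⟩ := Ideal.Quotient.mk_surjective y
      exact ⟨AdjoinRoot.of F a, AdjoinRoot.lift_of _⟩
    have hker : RingHom.ker π = Ideal.span {t} := by
      refine le_antisymm (fun x hx => ?_) ((Ideal.span_singleton_le_iff_mem _).mpr (AdjoinRoot.lift_root _))
      obtain ⟨g, rfl⟩ := AdjoinRoot.mk_surjective x
      rw [RingHom.mem_ker, AdjoinRoot.lift_mk, Polynomial.eval₂_at_zero,
        Ideal.Quotient.eq_zero_iff_mem, Ideal.mem_span_singleton] at hx
      obtain ⟨c, hc⟩ := hx
      rw [← g.X_mul_divX_add, hc, map_add, map_mul, AdjoinRoot.mk_X, AdjoinRoot.mk_C, map_mul]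
      refine Ideal.add_mem _ (Ideal.mul_mem_right _ _ (Ideal.mem_span_singleton_self t))
        (Ideal.mul_mem_right _ _ ?_)
      rw [← AdjoinRoot.algebraMap_eq, ← hte]
      exact Ideal.pow_mem_of_mem _ (Ideal.mem_span_singleton_self t) e he
    have : IsRegularRing (T ⧸ Ideal.span {t}) :=
      IsRegularRing.of_ringEquiv
        ((RingHom.quotientKerEquivOfSurjective hπ).symm.trans (Ideal.quotEquivOfEq hker))
    let J : Ideal TQ := (Ideal.span {t}).map (algebraMap T TQ)
    have hJ : J = Ideal.span {algebraMap T TQ t} :=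
      (Ideal.map_span _ _).trans (congrArg Ideal.span Set.image_singleton)
    have htm : algebraMap T TQ t ∈ IsLocalRing.maximalIdeal TQ :=
      (IsLocalization.AtPrime.to_map_mem_maximal_iff TQ Q t).mpr htQ
    have : IsLocalization (Algebra.algebraMapSubmonoid (T ⧸ Ideal.span {t}) Q.primeCompl) (TQ ⧸ J) :=
      inferInstance
    have hq : IsRegularRing (TQ ⧸ J) := Groth.Agent.PP16Lib.isRegularRing_of_isLocalization
      (Algebra.algebraMapSubmonoid (T ⧸ Ideal.span {t}) Q.primeCompl)
    have htop : J ≠ ⊤ := ne_top_of_le_ne_top (IsLocalRing.maximalIdeal.isMaximal TQ).ne_top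
      (hJ ▸ (Ideal.span_singleton_le_iff_mem _).mpr htm)
    have : Nontrivial (TQ ⧸ J) := Ideal.Quotient.nontrivial_iff.mpr htop
    have : IsLocalRing (TQ ⧸ J) := IsLocalRing.of_surjective' _ Ideal.Quotient.mk_surjective
    have hql : IsRegularLocalRing (TQ ⧸ J) := IsRegularLocalRing.of_isRegularRing_of_isLocalRing _
    have hnzd : ∀ x : TQ, algebraMap T TQ t * x = 0 → x = 0 := fun x hx => by
      obtain ⟨a, c, rfl⟩ := IsLocalization.exists_mk'_eq Q.primeCompl x
      rw [IsLocalization.mul_mk'_eq_mk'_of_mul, IsLocalization.mk'_eq_zero_iff] at hx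
      obtain ⟨m, hm⟩ := hx
      rw [IsLocalization.mk'_eq_zero_iff]
      exact ⟨m, htreg _ (by rwa [mul_left_comm] at hm)⟩
    exact S13781.isRegularLocalRing_of_quotient _ htm hnzd (by rw [← hJ]; exact hql)
  · -- the fibre is reduced
    have : Module.Flat A T := inferInstance
    refine Groth.Agent.FlatAscent.isRegularLocalRing_atPrime (A := A) Q inferInstance ?_
    obtain ⟨P, _, ⟨ε⟩⟩ := Groth.Agent.FlatAscent.exists_fibre_prime (A := A) Q
    have hsp : s ∉ p := fun h => htQ (hQ.mem_of_pow_mem e (hte ▸ h))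
    have : IsRegularRing (p.Fiber T) := by
      let κ := p.ResidueField
      let G : Polynomial κ := Polynomial.X ^ e - Polynomial.C (algebraMap A κ s)
      have hG : G.Separable := Polynomial.separable_X_pow_sub_C _
        (by
          have h1 := heu.map (algebraMap A κ)
          rw [map_natCast] at h1
          exact h1.ne_zero) (fun h => hsp (Ideal.algebraMap_residueField_eq_zero.mp h))
      have hGm : G.Monic := Polynomial.monic_X_pow_sub_C _ he.ne'
      have : Module.Finite κ (AdjoinRoot G) := Polynomial.Monic.finite_adjoinRoot hGm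
      have : IsArtinianRing (AdjoinRoot G) := IsArtinianRing.of_finite κ _
      have : IsReduced (AdjoinRoot G) :=
        (Ideal.isRadical_iff_quotient_reduced _).mp (isRadical_iff_span_singleton.mp hG.squarefree.isRadical)
      have hreg := S13781.isRegularRing_of_isArtinian (AdjoinRoot G)
      let q := F.map (Algebra.TensorProduct.includeRight (R := A) (A := κ) (B := A)).toRingHom
      let ε₀ : TensorProduct A κ A ≃+* κ := (Algebra.TensorProduct.rid A κ κ).toRingEquiv
      have hq : Associated (q.map (ε₀ : TensorProduct A κ A →+* κ)) G := by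
        refine Associated.of_eq ?_
        simp [q, G, F, ε₀, Algebra.smul_def]
      exact Groth.Agent.FlatAscent.isRegularRing_transport
        ((AdjoinRoot.tensorAlgEquiv F q rfl).toRingEquiv.trans (AdjoinRoot.mapRingEquiv ε₀ q G hq)).symm hreg
    exact IsRegularLocalRing.of_ringEquiv (R := Localization.AtPrime P) ε

theorem regular_quotient (A : Type u) [CommRing A] [IsRegularRing A] (s : A) (e : ℕ) (he : 2 ≤ e)
    (hT : IsRegularRing (AdjoinRoot (Polynomial.X ^ e - Polynomial.C s))) : IsRegularRing (A ⧸ Ideal.span {s}) := by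
  classical
  let F : Polynomial A := Polynomial.X ^ e - Polynomial.C s
  let T := AdjoinRoot F
  let t : T := AdjoinRoot.root F
  let π : T →+* A ⧸ Ideal.span {s} := AdjoinRoot.lift (Ideal.Quotient.mk _) 0 (by
    simp only [F, Polynomial.eval₂_sub, Polynomial.eval₂_pow, Polynomial.eval₂_X, Polynomial.eval₂_C,
      zero_pow (by omega : e ≠ 0), zero_sub, neg_eq_zero]
    exact Ideal.Quotient.eq_zero_iff_mem.mpr (Ideal.mem_span_singleton_self s))
  have hπ : Function.Surjective π := fun y => by
    obtain ⟨a, rfl⟩ := Ideal.Quotient.mk_surjective y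
    exact ⟨AdjoinRoot.of F a, AdjoinRoot.lift_of _⟩
  have hte : t ^ e = algebraMap A T s := by
    have h : Polynomial.eval₂ (algebraMap A T) t F = 0 := AdjoinRoot.eval₂_root F
    simpa [F, sub_eq_zero] using h
  have hker : RingHom.ker π = Ideal.span {t} := by
    refine le_antisymm (fun x hx => ?_) ((Ideal.span_singleton_le_iff_mem _).mpr (AdjoinRoot.lift_root _))
    obtain ⟨g, rfl⟩ := AdjoinRoot.mk_surjective x
    rw [RingHom.mem_ker, AdjoinRoot.lift_mk, Polynomial.eval₂_at_zero,
      Ideal.Quotient.eq_zero_iff_mem, Ideal.mem_span_singleton] at hx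
    obtain ⟨c, hc⟩ := hx
    rw [← g.X_mul_divX_add, hc, map_add, map_mul, AdjoinRoot.mk_X, AdjoinRoot.mk_C, map_mul]
    refine Ideal.add_mem _ (Ideal.mul_mem_right _ _ (Ideal.mem_span_singleton_self t))
      (Ideal.mul_mem_right _ _ ?_)
    rw [← AdjoinRoot.algebraMap_eq, ← hte]
    exact Ideal.pow_mem_of_mem _ (Ideal.mem_span_singleton_self t) e (by omega)
  have : IsNoetherianRing T := hT.toIsNoetherian
  suffices h : IsRegularRing (T ⧸ Ideal.span {t}) from
    IsRegularRing.of_ringEquiv ((Ideal.quotEquivOfEq hker.symm).trans (RingHom.quotientKerEquivOfSurjective hπ))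
  refine isRegularRing_iff.mpr fun P hP => ?_
  let Q := P.comap (Ideal.Quotient.mk (Ideal.span {t}))
  let TQ := Localization.AtPrime Q
  have : IsRegularLocalRing TQ := IsRegularRing.isRegularLocalRing_localization Q
  have htQ : t ∈ Q := by
    show Ideal.Quotient.mk (Ideal.span {t}) t ∈ P
    rw [Ideal.Quotient.eq_zero_iff_mem.mpr (Ideal.mem_span_singleton_self t)]
    exact P.zero_mem
  -- `t` is outside the square of the maximal ideal
  let p := Q.comap (algebraMap A T)
  let κ := p.ResidueField
  let ev : T →+* TrivSqZeroExt κ κ := AdjoinRoot.lift ((TrivSqZeroExt.inlHom κ κ).comp (algebraMap A κ))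
    (TrivSqZeroExt.inr 1) (by
      have hs0 : algebraMap A κ s = 0 :=
        Ideal.algebraMap_residueField_eq_zero.mpr (show algebraMap A T s ∈ Q by
          rw [← hte]; exact Ideal.pow_mem_of_mem _ htQ e (by omega))
      obtain ⟨j, rfl⟩ : ∃ j, e = j + 2 := ⟨e - 2, by omega⟩
      simp only [F, Polynomial.eval₂_sub, Polynomial.eval₂_pow, Polynomial.eval₂_X, Polynomial.eval₂_C,
        RingHom.comp_apply, hs0, map_zero, sub_zero]
      rw [pow_add, pow_two, TrivSqZeroExt.inr_mul_inr, mul_zero])
  have hfst : ∀ y, ((ev y).fst = 0 ↔ y ∈ Q) := by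
    intro y
    obtain ⟨g, rfl⟩ := AdjoinRoot.mk_surjective y
    have h1 : (ev (AdjoinRoot.mk F g)).fst = algebraMap A κ (g.coeff 0) := by
      rw [show ev (AdjoinRoot.mk F g) = _ from AdjoinRoot.lift_mk _ g]
      rw [← TrivSqZeroExt.fstHom_apply κ]
      erw [Polynomial.hom_eval₂]
      simp [Polynomial.eval₂_at_zero]
    rw [h1, Ideal.algebraMap_residueField_eq_zero]
    show AdjoinRoot.mk F (Polynomial.C (g.coeff 0)) ∈ Q ↔ _
    conv_rhs => rw [← g.X_mul_divX_add, map_add, map_mul, AdjoinRoot.mk_X]
    exact (Q.add_mem_iff_right (Q.mul_mem_right _ htQ)).symm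
  have hunit : ∀ y : Q.primeCompl, IsUnit (ev y) := fun y =>
    (TrivSqZeroExt.isUnit_iff_isUnit_fst).mpr (isUnit_iff_ne_zero.mpr fun h => y.2 ((hfst _).mp h))
  let evQ : TQ →+* TrivSqZeroExt κ κ := IsLocalization.lift hunit
  have htm : algebraMap T TQ t ∈ IsLocalRing.maximalIdeal TQ :=
    (IsLocalization.AtPrime.to_map_mem_maximal_iff TQ Q t).mpr htQ
  have htm2 : algebraMap T TQ t ∉ IsLocalRing.maximalIdeal TQ ^ 2 := by
    intro h
    let E : Ideal (TrivSqZeroExt κ κ) := RingHom.ker (TrivSqZeroExt.fstHom κ κ κ).toRingHom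
    have hle : (IsLocalRing.maximalIdeal TQ).map evQ ≤ E := by
      rw [← IsLocalization.AtPrime.map_eq_maximalIdeal Q TQ, Ideal.map_map, IsLocalization.lift_comp,
        Ideal.map_le_iff_le_comap]
      exact fun y hy => (hfst y).mpr hy
    have h2 := Ideal.mem_map_of_mem evQ h
    rw [Ideal.map_pow] at h2
    have hE : E ^ 2 = ⊥ := by
      rw [eq_bot_iff, pow_two, Ideal.mul_le]
      intro a ha b hb
      rw [Ideal.mem_bot]
      have ha' : a.fst = 0 := ha
      have hb' : b.fst = 0 := hb
      ext
      · simp [ha']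
      · simp [ha', hb']
    have h3 := Ideal.pow_right_mono hle 2 h2
    rw [hE, Ideal.mem_bot, IsLocalization.lift_eq, show ev t = _ from AdjoinRoot.lift_root _] at h3
    exact one_ne_zero (congrArg TrivSqZeroExt.snd h3 : (1 : κ) = 0)
  obtain ⟨n, hn⟩ : ∃ n, (IsLocalRing.maximalIdeal TQ).spanFinrank = n + 1 := by
    refine ⟨_, (Nat.succ_pred_eq_of_ne_zero fun h => htm2 ?_).symm⟩
    rw [(Submodule.spanFinrank_eq_zero_iff_eq_bot (IsNoetherian.noetherian _)).mp h, Ideal.mem_bot] at htm
    rw [htm]
    exact Ideal.zero_mem _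
  obtain ⟨hr, -⟩ := DepthLib.isRegularLocalRing_quotient_singleton hn htm htm2
  let J : Ideal TQ := (Ideal.span {t}).map (algebraMap T TQ)
  have hJ : J = Ideal.span {algebraMap T TQ t} :=
    (Ideal.map_span _ _).trans (congrArg Ideal.span Set.image_singleton)
  have hM : Algebra.algebraMapSubmonoid (T ⧸ Ideal.span {t}) Q.primeCompl = P.primeCompl := by
    ext z
    obtain ⟨z, rfl⟩ := Ideal.Quotient.mk_surjective z
    refine ⟨?_, fun hz => ⟨z, hz, rfl⟩⟩
    rintro ⟨a, ha, hz⟩ hzP
    exact ha (show Ideal.Quotient.mk _ a ∈ P from (show Ideal.Quotient.mk _ a = Ideal.Quotient.mk _ z from hz) ▸ hzP)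
  have : IsLocalization P.primeCompl (TQ ⧸ J) := hM ▸ inferInstance
  have : IsRegularLocalRing (TQ ⧸ J) := IsRegularLocalRing.of_ringEquiv (Ideal.quotEquivOfEq hJ.symm)
  exact IsRegularLocalRing.of_ringEquiv (R := TQ ⧸ J)
    (IsLocalization.algEquiv P.primeCompl (TQ ⧸ J) (Localization.AtPrime P)).toRingEquiv

theorem smooth_of_geomRegular {k A : Type u} [Field k] [CommRing A] [Algebra k A] [Algebra.FinitePresentation k A]
    (h : CAlg.IsGeometricallyRegular k A) : Algebra.Smooth k A := by
  have : IsNoetherianRing A := Algebra.FiniteType.isNoetherianRing k A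
  refine ⟨Algebra.smoothLocus_eq_univ_iff.mp (Set.eq_univ_iff_forall.mpr fun q => ?_), inferInstance⟩
  have h1 := PP16Lib.isGeometricallyRegular_iff_atPrime.mp h q.asIdeal
  have h2 := PP16Lib.isGeometricallyRegular_iff_adicSmooth.mp h1
  have : IsNoetherianRing (Localization.AtPrime q.asIdeal) :=
    IsLocalization.isNoetherianRing q.asIdeal.primeCompl _ inferInstance
  have : IsLocalHom (algebraMap k (Localization.AtPrime q.asIdeal)) :=
    ⟨fun a ha => isUnit_iff_ne_zero.2 fun h0 => not_isUnit_zero (by rw [h0, map_zero] at ha; exact ha)⟩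
  exact (AdicFS.formallySmooth_iff_adic k (Localization.AtPrime q.asIdeal)).1 (PP16Lib.formallySmoothAdic_of_adicSmooth h2)

theorem geomRegular_of_smooth (k A : Type u) [Field k] [CommRing A] [Algebra k A] [Algebra.Smooth k A] :
    CAlg.IsGeometricallyRegular k A := S9408.result k k A (fun k' _ _ _ =>
  IsRegularRing.of_ringEquiv (Algebra.TensorProduct.rid k k k').symm.toRingEquiv)

/-- Let k be a field, A a smooth k-algebra, s an irreducible element of A and e an integer, at least 2,
that is invertible in k. Then the k-algebra A[t]/(t^e - s) is smooth exactly when the quotient ring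
A/(s) is a smooth k-algebra. (Smooth over k means formally smooth and of finite presentation over
k.) -/
theorem result (k A : Type u) [Field k] [CommRing A] [Algebra k A]
    [Algebra.Smooth k A] (s : A) (hs : Irreducible s) (e : ℕ) (he : 2 ≤ e) (hek : (e : k) ≠ 0) :
    Algebra.Smooth k (AdjoinRoot (Polynomial.X ^ e - Polynomial.C s)) ↔
      Algebra.Smooth k (A ⧸ Ideal.span {s}) := by
  classical
  have hA := geomRegular_of_smooth k A
  have : IsNoetherianRing A := Algebra.FiniteType.isNoetherianRing k A
  have hregA : IsRegularRing A :=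
    haveI := hA k inferInstance
    IsRegularRing.of_ringEquiv (Algebra.TensorProduct.lid k A).toRingEquiv
  have hnzd : s ∈ nonZeroDivisors A := by
    let I := (Ideal.span {s}).annihilator
    have htop : I ⊔ I.annihilator = ⊤ := by
      by_contra hne
      obtain ⟨m, hm, hle⟩ := Ideal.exists_le_maximal _ hne
      have : IsDomain (Localization.AtPrime m) := DepthLib.isDomain_of_isRegularLocalRing _
      by_cases h0 : algebraMap A (Localization.AtPrime m) s = 0
      · obtain ⟨c, hc⟩ := (IsLocalization.map_eq_zero_iff m.primeCompl _ s).mp h0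
        exact c.2 (hle (Ideal.mem_sup_left (by
          rw [Submodule.mem_annihilator_span_singleton, smul_eq_mul]; exact hc)))
      · obtain ⟨S, hS⟩ := (IsNoetherian.noetherian I : I.FG)
        have hy : ∀ y ∈ S, ∃ c : m.primeCompl, (c : A) * y = 0 := fun y hy => by
          refine (IsLocalization.map_eq_zero_iff m.primeCompl (Localization.AtPrime m) y).mp
            ((mul_eq_zero.mp ?_).resolve_right h0)
          rw [← map_mul, ← smul_eq_mul, (Submodule.mem_annihilator_span_singleton _ _).mp (hS.le (Submodule.subset_span hy)), map_zero]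
        choose c hc using hy
        let d : A := ∏ y : S, (c y.1 y.2 : A)
        have hd : d ∉ m := fun h => by
          obtain ⟨y, -, hy⟩ := (Ideal.IsPrime.prod_mem_iff).mp h
          exact (c y.1 y.2).2 hy
        refine hd (hle (Ideal.mem_sup_right ?_))
        rw [← hS, Submodule.mem_annihilator_span]
        intro y
        obtain ⟨w, hw⟩ : (c y.1 y.2 : A) ∣ d := Finset.dvd_prod_of_mem (fun y : S => (c y.1 y.2 : A)) (Finset.mem_univ y)
        rw [smul_eq_mul, hw, mul_right_comm, hc, zero_mul]
    obtain ⟨a, ha, b, hb, hab⟩ := Submodule.mem_sup.mp (htop ▸ Submodule.mem_top : (1 : A) ∈ I ⊔ I.annihilator)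
    have has : a * s = 0 := (Submodule.mem_annihilator_span_singleton _ _).mp ha
    have hsb : s = s * b := by
      conv_lhs => rw [← mul_one s, ← hab, mul_add, mul_comm s a, has, zero_add]
    have hbu : IsUnit b := (hs.isUnit_or_isUnit hsb).resolve_left hs.not_isUnit
    refine mem_nonZeroDivisors_iff_right.mpr fun y hy => ?_
    exact hbu.mul_right_eq_zero.mp (Submodule.mem_annihilator.mp hb y
      ((Submodule.mem_annihilator_span_singleton _ _).mpr hy))
  let F : Polynomial A := Polynomial.X ^ e - Polynomial.C s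
  have hF : F.Monic := Polynomial.monic_X_pow_sub_C s (by omega)
  have : Algebra.FinitePresentation k A := inferInstance
  have hfpT : Algebra.FinitePresentation k (AdjoinRoot F) := Algebra.FinitePresentation.trans k A _
  have hfpQ : Algebra.FinitePresentation k (A ⧸ Ideal.span {s}) :=
    Algebra.FinitePresentation.quotient (Submodule.fg_span_singleton s)
  have key : ∀ (K : Type u) [Field K] [Algebra k K] [Module.Finite k K],
      IsRegularRing (K ⊗[k] A) ∧ (Algebra.TensorProduct.includeRight s : K ⊗[k] A) ∈ nonZeroDivisors (K ⊗[k] A) ∧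
      IsUnit ((e : ℕ) : K ⊗[k] A) ∧
      Nonempty (K ⊗[k] AdjoinRoot F ≃+*
        AdjoinRoot (Polynomial.X ^ e - Polynomial.C (Algebra.TensorProduct.includeRight s : K ⊗[k] A))) ∧
      Nonempty (K ⊗[k] (A ⧸ Ideal.span {s}) ≃+*
        (K ⊗[k] A) ⧸ Ideal.span {(Algebra.TensorProduct.includeRight s : K ⊗[k] A)}) := by
    intro K _ _ hK
    refine ⟨hA K hK, ?_, ?_, ?_, ?_⟩
    · have hinj : Function.Injective ((LinearMap.lsmul A A s).restrictScalars k) := fun a b hab =>
        (sub_eq_zero.mp ((mul_left_mem_nonZeroDivisors_eq_zero_iff hnzd).mp (by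
          rw [mul_sub]; exact sub_eq_zero.mpr hab)))
      have h2 := Module.Flat.lTensor_preserves_injective_linearMap (M := K) _ hinj
      refine mem_nonZeroDivisors_iff_right.mpr fun w hw => h2 (Eq.trans ?_ (map_zero _).symm)
      rw [← hw, mul_comm]
      clear hw
      induction w using TensorProduct.induction_on with
      | zero => simp
      | add a b ha hb => simp only [map_add, ha, hb, mul_add]
      | tmul c a => simp [Algebra.TensorProduct.tmul_mul_tmul]
    · have h := (isUnit_iff_ne_zero.mpr hek).map (algebraMap k (K ⊗[k] A))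
      rwa [map_natCast] at h
    · exact ⟨(AdjoinRoot.tensorAlgEquiv (R := k) (T := K) F _ (by simp [F])).toRingEquiv⟩
    · exact ⟨(Algebra.TensorProduct.tensorQuotientEquiv (R := k) k A K (Ideal.span {s})).toRingEquiv.trans
        (Ideal.quotEquivOfEq (by rw [Ideal.map_span, Set.image_singleton]))⟩
  constructor
  · intro hT
    refine smooth_of_geomRegular fun K _ _ hK => ?_
    obtain ⟨hr, hn, -, ⟨e1⟩, ⟨e2⟩⟩ := key K
    have := geomRegular_of_smooth k (AdjoinRoot F) K hK
    have h3 := regular_quotient (K ⊗[k] A) _ e he (IsRegularRing.of_ringEquiv e1)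
    exact IsRegularRing.of_ringEquiv e2.symm
  · intro hQ
    refine smooth_of_geomRegular fun K _ _ hK => ?_
    obtain ⟨hr, hn, hu, ⟨e1⟩, ⟨e2⟩⟩ := key K
    have := geomRegular_of_smooth k (A ⧸ Ideal.span {s}) K hK
    have h3 := regular_adjoinRoot (K ⊗[k] A) _ hn (IsRegularRing.of_ringEquiv e2) e (by omega) hu
    exact IsRegularRing.of_ringEquiv e1.symm

end Groth.Agent.S13782
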