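import Groth.Statements.S13784
import Mathlib
-- import your own Groth.Agent.* helpers here

set_option autoImplicit false
universe u
open CAlg

namespace Groth.Agent.S13784

/-- Let A be a commutative local ring and G a finite subgroup of Aˣ. If the order of G is invertible in
A, then G is cyclic. -/
theorem result {A : Type u} [CommRing A] [IsLocalRing A]
    (G : Subgroup Aˣ) [Finite G] (hG : IsUnit ((Nat.card G : ℕ) : A)) : IsCyclic G := by
  let f : G →* IsLocalRing.ResidueField A := ((IsLocalRing.residue A : A →+* _).toMonoidHom).comp ((Units.coeHom A).comp G.subtype)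
  refine isCyclic_of_injective_ringHom f ((injective_iff_map_eq_one f).mpr fun g hg => ?_)
  have hgn : ((g : Aˣ) : A) ^ Nat.card G = 1 := by
    rw [← Units.val_pow_eq_pow_val, ← SubmonoidClass.coe_pow, pow_card_eq_one', OneMemClass.coe_one, Units.val_one]
  obtain ⟨x, hx⟩ : ∃ x, x = ((g : Aˣ) : A) - 1 := ⟨_, rfl⟩
  have hxm : x ∈ IsLocalRing.maximalIdeal A := by
    rw [← IsLocalRing.residue_eq_zero_iff, hx, map_sub, map_one, sub_eq_zero]
    exact hg
  have hfac : (∑ i ∈ Finset.range (Nat.card G), ((g : Aˣ) : A) ^ i) * x = 0 := by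
    rw [hx, geom_sum_mul, hgn, sub_self]
  have hu : IsUnit (∑ i ∈ Finset.range (Nat.card G), ((g : Aˣ) : A) ^ i) := by
    rw [← isUnit_map_iff (IsLocalRing.residue A)] at hG ⊢
    have hr : IsLocalRing.residue A ((g : Aˣ) : A) = 1 := hg
    simpa [map_sum, hr] using hG
  have : x = 0 := hu.mul_right_eq_zero.mp hfac
  exact Subtype.ext (Units.ext (sub_eq_zero.mp (hx ▸ this)))

end Groth.Agent.S13784
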