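import Mathlib
import Groth.Agent.QuadCentre.Nzd
import Groth.Statements.S13786
-- import your own Groth.Agent.* helpers here

set_option autoImplicit false
universe u
open CAlg

namespace Groth.Agent.S13786

/-- For a commutative ring A and n ≥ 1, with det the determinant of the generic n × n matrix in the
polynomial ring A[X] in n² indeterminates, the A-algebra A[X]/(det) is faithfully flat over A. (For
n = 0 the determinant is 1 and the quotient is the zero ring, so n ≥ 1 is required.) -/
theorem result (A : Type u) [CommRing A] (n : ℕ) (hn : 0 < n) :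
    Module.FaithfullyFlat A
      (MvPolynomial (Fin n × Fin n) A ⧸ Ideal.span {(Matrix.mvPolynomialX (Fin n) (Fin n) A).det}) := by
  classical
  let P := MvPolynomial (Fin n × Fin n) A
  set f : P := (Matrix.mvPolynomialX (Fin n) (Fin n) A).det with hf
  let J : Ideal P := Ideal.span {f}
  have hreg : ∀ (I : Ideal A) (x : P), f * x ∈ I.map (MvPolynomial.C : A →+* P) → x ∈ I.map (MvPolynomial.C : A →+* P) := by
    intro I x hx
    have hk : ∀ y : P, y ∈ I.map (MvPolynomial.C : A →+* P) ↔ MvPolynomial.map (Ideal.Quotient.mk I) y = 0 := fun y => by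
      rw [← RingHom.mem_ker, MvPolynomial.ker_map, Ideal.mk_ker]
    rw [hk] at hx ⊢
    rw [map_mul] at hx
    refine QuadCentre.eq_zero_of_mul_eq_zero_of_value (MvPolynomial.map (Ideal.Quotient.mk I) f) (fun m hm => ?_) _ (by rw [mul_comm]; exact hx)
    refine ⟨fun p => if p.1 = p.2 then 1 else 0, ?_⟩
    have h1 : MvPolynomial.eval (fun p : Fin n × Fin n => if p.1 = p.2 then (1 : A ⧸ I) else 0)
        (MvPolynomial.map (Ideal.Quotient.mk I) f) = 1 := by
      rw [MvPolynomial.eval_map, ← MvPolynomial.coe_eval₂Hom, hf, RingHom.map_det]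
      refine Eq.trans (congrArg Matrix.det (Matrix.ext fun i j => ?_)) Matrix.det_one
      simp [Matrix.one_apply]
    rw [h1]
    exact (Ideal.ne_top_iff_one m).mp hm.ne_top
  have hflat : Module.Flat A (P ⧸ J) := by
    rw [Module.Flat.iff_rTensor_injective']
    intro I
    rw [injective_iff_map_eq_zero]
    intro z hz
    let π : P →ₗ[A] (P ⧸ J) := (Ideal.Quotient.mkₐ A J).toLinearMap
    have hπ : Function.Surjective π := Ideal.Quotient.mk_surjective
    obtain ⟨w, rfl⟩ := LinearMap.lTensor_surjective ↥I hπ z
    have hlid : ∀ v, TensorProduct.lid A (P ⧸ J) (LinearMap.rTensor (P ⧸ J) I.subtype (LinearMap.lTensor (↥I) π v)) =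
        π (TensorProduct.lid A P (LinearMap.rTensor P I.subtype v)) := by
      intro v
      induction v with
      | zero => simp
      | add a b ha hb => simp only [map_add, ha, hb]
      | tmul a b => simp
    have hw : TensorProduct.lid A P (LinearMap.rTensor P I.subtype w) ∈ J := by
      have := hlid w
      rw [hz, map_zero] at this
      exact Ideal.Quotient.eq_zero_iff_mem.mp this.symm
    have hmem : ∀ v, TensorProduct.lid A P (LinearMap.rTensor P I.subtype v) ∈ I.map (MvPolynomial.C : A →+* P) := by
      intro v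
      induction v with
      | zero => simp
      | add a b ha hb => rw [map_add, map_add]; exact add_mem ha hb
      | tmul a b =>
        simp only [LinearMap.rTensor_tmul, Submodule.subtype_apply, TensorProduct.lid_tmul]
        rw [Algebra.smul_def, MvPolynomial.algebraMap_eq]
        exact Ideal.mul_mem_right _ _ (Ideal.mem_map_of_mem (MvPolynomial.C : A →+* P) a.2)
    obtain ⟨x, hx⟩ := Ideal.mem_span_singleton.mp hw
    have hxI : x ∈ I.map (MvPolynomial.C : A →+* P) := hreg I x (hx ▸ hmem w)
    have hsurj : ∀ y ∈ I.map (MvPolynomial.C : A →+* P), ∃ v, TensorProduct.lid A P (LinearMap.rTensor P I.subtype v) = y := by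
      intro y hy
      have hy' : y ∈ (I • ⊤ : Submodule A P) := by
        rw [Ideal.smul_top_eq_map]; exact hy
      refine Submodule.smul_induction_on hy' (fun a ha b _ => ?_) (fun a b ⟨u, hu⟩ ⟨v, hv⟩ => ?_)
      · exact ⟨⟨a, ha⟩ ⊗ₜ[A] b, by simp⟩
      · exact ⟨u + v, by rw [map_add, map_add, hu, hv]⟩
    obtain ⟨v, hv⟩ := hsurj x hxI
    have hwv : w = LinearMap.lTensor ↥I (LinearMap.mulLeft A f) v := by
      apply Module.Flat.rTensor_preserves_injective_linearMap (M := P) _ I.subtype_injective
      apply (TensorProduct.lid A P).injective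
      have hcomm : ∀ u, TensorProduct.lid A P (LinearMap.rTensor P I.subtype (LinearMap.lTensor (↥I) (LinearMap.mulLeft A f) u)) =
          f * TensorProduct.lid A P (LinearMap.rTensor P I.subtype u) := by
        intro u
        induction u with
        | zero => simp
        | add a b ha hb => simp only [map_add, ha, hb, mul_add]
        | tmul a b => simp [mul_smul_comm]
      rw [hcomm, hv, hx]
    rw [hwv, ← LinearMap.lTensor_comp_apply]
    have h0 : π ∘ₗ LinearMap.mulLeft A f = 0 := LinearMap.ext fun y =>
      Ideal.Quotient.eq_zero_iff_mem.mpr (J.mul_mem_right _ (Ideal.mem_span_singleton_self f))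
    rw [h0, LinearMap.lTensor_zero, LinearMap.zero_apply]
  haveI := hflat
  have : Nonempty (Fin n) := ⟨⟨0, hn⟩⟩
  let ev : (P ⧸ J) →ₐ[A] A := Ideal.Quotient.liftₐ J (MvPolynomial.aeval fun _ => (0 : A)) (fun a ha => by
    obtain ⟨b, rfl⟩ := Ideal.mem_span_singleton.mp ha
    rw [map_mul, hf, AlgHom.map_det]
    have : (MvPolynomial.aeval fun _ : Fin n × Fin n => (0 : A)).mapMatrix (Matrix.mvPolynomialX (Fin n) (Fin n) A) = 0 :=
      Matrix.ext fun i j => by simp
    rw [this, Matrix.det_zero, zero_mul])
  refine Module.FaithfullyFlat.of_comap_surjective fun p => ?_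
  refine ⟨PrimeSpectrum.comap ev.toRingHom p, ?_⟩
  apply PrimeSpectrum.ext
  change (p.asIdeal.comap ev.toRingHom).comap (algebraMap A (P ⧸ J)) = p.asIdeal
  rw [Ideal.comap_comap, show ev.toRingHom.comp (algebraMap A (P ⧸ J)) = RingHom.id A from RingHom.ext fun a => ev.commutes a]
  exact Ideal.comap_id _

end Groth.Agent.S13786
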