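import Mathlib
import Groth.Statements.S13787
-- import your own Groth.Agent.* helpers here

set_option autoImplicit false
universe u
open CAlg

namespace Groth.Agent.S13787

/-- Let A be a nonzero commutative ring and n ≥ 1, let det be the determinant of the generic n × n
matrix in the polynomial ring A[X] in its n² entries, and let A[X, 1/det] be the localization at det
(the coordinate ring of GL_n over A). The homomorphism Aˣ × ℤ → (A[X, 1/det])ˣ sending (a, e) to a ·
det^e is injective. (The published statement takes the exponent in the group of locally constant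
ℤ-valued functions on Spec A, which also covers A = 0; with integer exponents as here, A must be
nonzero and n ≥ 1.) -/
theorem result (A : Type u) [CommRing A] [Nontrivial A] (n : ℕ) (hn : 0 < n) :
    Function.Injective (fun p : Aˣ × ℤ =>
        Units.map (algebraMap A (Localization.Away (Matrix.mvPolynomialX (Fin n) (Fin n) A).det)).toMonoidHom p.1 *
          (IsLocalization.Away.algebraMap_isUnit (S := Localization.Away (Matrix.mvPolynomialX (Fin n) (Fin n) A).det)
            (Matrix.mvPolynomialX (Fin n) (Fin n) A).det).unit ^ p.2) := by
  classical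
  intro x y hxy
  set d := (Matrix.mvPolynomialX (Fin n) (Fin n) A).det with hd
  let D : Matrix (Fin n) (Fin n) (LaurentPolynomial A) :=
    Matrix.diagonal (fun i => if i = ⟨0, hn⟩ then LaurentPolynomial.T 1 else 1)
  let ev : MvPolynomial (Fin n × Fin n) A →ₐ[A] LaurentPolynomial A := MvPolynomial.aeval (fun ij => D ij.1 ij.2)
  have hevd : ev d = LaurentPolynomial.T 1 := by
    have hm : ev.mapMatrix (Matrix.mvPolynomialX (Fin n) (Fin n) A) = D := by
      ext i j; simp [ev]
    rw [hd, AlgHom.map_det, hm, Matrix.det_diagonal, Finset.prod_ite_eq']
    simp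
  have hu : IsUnit (ev.toRingHom d) := by
    change IsUnit (ev d)
    rw [hevd]; exact LaurentPolynomial.isUnit_T 1
  let φ : Localization.Away d →+* LaurentPolynomial A := IsLocalization.Away.lift d hu
  have key : ∀ p : Aˣ × ℤ, φ ((Units.map (algebraMap A (Localization.Away d)).toMonoidHom p.1 *
      (IsLocalization.Away.algebraMap_isUnit (S := Localization.Away d) d).unit ^ p.2 : (Localization.Away d)ˣ) : Localization.Away d) =
      LaurentPolynomial.C (p.1 : A) * LaurentPolynomial.T p.2 := by
    intro p
    rw [Units.val_mul, map_mul]
    congr 1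
    · change φ (algebraMap A (Localization.Away d) (p.1 : A)) = _
      rw [IsScalarTower.algebraMap_apply A (MvPolynomial (Fin n × Fin n) A) (Localization.Away d), IsLocalization.Away.lift_eq]
      exact ev.commutes _
    · set w := (IsLocalization.Away.algebraMap_isUnit (S := Localization.Away d) d).unit
      have hwv : φ (w : Localization.Away d) = LaurentPolynomial.T 1 := by
        simp only [w, IsUnit.unit_spec, φ, IsLocalization.Away.lift_eq]
        exact hevd
      rw [show φ ((w ^ p.2 : (Localization.Away d)ˣ) : Localization.Away d) = ((Units.map φ.toMonoidHom w ^ p.2 : (LaurentPolynomial A)ˣ) : LaurentPolynomial A) by rw [← map_zpow]; rfl]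
      have hU : Units.map φ.toMonoidHom w = ⟨LaurentPolynomial.T 1, LaurentPolynomial.T (-1), by rw [← LaurentPolynomial.T_add]; simp, by rw [← LaurentPolynomial.T_add]; simp⟩ :=
        Units.ext hwv
      rw [hU]
      induction p.2 using Int.induction_on with
      | zero => simp
      | succ z ih => rw [zpow_add_one, Units.val_mul, ih]; exact (LaurentPolynomial.T_add _ _).symm
      | pred z ih => rw [zpow_sub_one, Units.val_mul, ih]; exact (LaurentPolynomial.T_add _ _).symm
  have h := congrArg (fun w : (Localization.Away d)ˣ => φ (w : Localization.Away d)) hxy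
  simp only [key] at h
  rw [← LaurentPolynomial.single_eq_C_mul_T, ← LaurentPolynomial.single_eq_C_mul_T] at h
  rw [← AddMonoidAlgebra.coeff_inj, AddMonoidAlgebra.coeff_single, AddMonoidAlgebra.coeff_single] at h
  rcases Finsupp.single_eq_single_iff _ _ _ _ |>.mp h with ⟨hz, hc⟩ | ⟨hc, -⟩
  · exact Prod.ext (Units.ext hc) hz
  · exact absurd hc x.1.ne_zero

end Groth.Agent.S13787
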