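import Groth.Statements.S13789
import Mathlib

set_option autoImplicit false
universe u
open CAlg

namespace Groth.Agent.S13789

/-- Let A be a commutative ring with total ring of fractions Q and let B be a ring with A ⊆ B ⊆ Q. Then
the inclusion A ⊆ B carries nonzerodivisors of A to nonzerodivisors of B, and every nonzerodivisor
of B has the form r/u with r and u nonzerodivisors of A. -/
theorem result {A Q : Type u} [CommRing A] [CommRing Q] [Algebra A Q] [IsFractionRing A Q] (B : Subalgebra A Q) :
    (∀ a : A, a ∈ nonZeroDivisors A → algebraMap A B a ∈ nonZeroDivisors B) ∧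
    (∀ b : B, b ∈ nonZeroDivisors B → ∃ r u : A, r ∈ nonZeroDivisors A ∧ u ∈ nonZeroDivisors A ∧
      (b : Q) * algebraMap A Q u = algebraMap A Q r) := by
  constructor
  · intro a ha
    rw [mem_nonZeroDivisors_iff_right]
    intro x hx
    have h2 : (x : Q) * algebraMap A Q a = 0 := by simpa using congrArg (Subtype.val) hx
    exact Subtype.ext ((IsLocalization.map_units Q ⟨a, ha⟩).mul_left_eq_zero.1 h2)
  · intro b hb
    obtain ⟨⟨r, u⟩, hru⟩ := IsLocalization.surj (nonZeroDivisors A) (b : Q)
    refine ⟨r, u, ?_, u.2, hru⟩
    rw [mem_nonZeroDivisors_iff_right]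
    intro c hc
    have h1 : algebraMap A Q (c : A) * (b : Q) = 0 := by
      have : algebraMap A Q c * (b : Q) * algebraMap A Q u = 0 := by
        rw [mul_assoc, hru, ← map_mul, hc, map_zero]
      exact (IsLocalization.map_units Q u).mul_left_eq_zero.1 this
    have h2 : algebraMap A B c = 0 :=
      (mem_nonZeroDivisors_iff_right.1 hb) _ (Subtype.ext (by simpa using h1))
    exact IsFractionRing.injective A Q (by simpa using congrArg Subtype.val h2)

end Groth.Agent.S13789
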