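import Groth.Statements.S13790
import Mathlib
-- import your own Groth.Agent.* helpers here

set_option autoImplicit false
universe u
open CAlg

namespace Groth.Agent.S13790

/-- Let A be a commutative ring with total ring of fractions Q and let B be a ring with A ⊆ B ⊆ Q. Then
Q, with the inclusion B ⊆ Q, is the total ring of fractions of B. -/
theorem result {A Q : Type u} [CommRing A] [CommRing Q] [Algebra A Q] [IsFractionRing A Q] (B : Subalgebra A Q) :
    IsFractionRing B Q := by
  refine ⟨fun y => ?_, fun z => ?_, fun {x y} h => ⟨1, ?_⟩⟩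
  · obtain ⟨⟨b, hb⟩, hy⟩ := y
    obtain ⟨⟨a, s⟩, hs⟩ := IsLocalization.surj (nonZeroDivisors A) b
    refine (IsUnit.mul_iff.mp (show IsUnit (b * algebraMap A Q s) from ?_)).1
    rw [hs]
    refine IsLocalization.map_units Q ⟨a, mem_nonZeroDivisors_iff_right.mpr fun c hc => ?_⟩
    have h0 : algebraMap A Q c * b = 0 := by
      refine (IsLocalization.map_units Q s).mul_left_eq_zero.mp ?_
      rw [mul_assoc, hs, ← map_mul, hc, map_zero]
    have := mem_nonZeroDivisors_iff_right.mp hy (algebraMap A B c) (Subtype.ext h0)
    exact IsFractionRing.injective A Q (by simpa using congrArg Subtype.val this)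
  · obtain ⟨⟨a, s⟩, hs⟩ := IsLocalization.surj (nonZeroDivisors A) z
    refine ⟨⟨algebraMap A B a, ⟨algebraMap A B s, mem_nonZeroDivisors_iff_right.mpr fun c hc => ?_⟩⟩, hs⟩
    exact Subtype.ext ((IsLocalization.map_units Q s).mul_left_eq_zero.mp (congrArg Subtype.val hc))
  · simpa using Subtype.ext h

end Groth.Agent.S13790
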