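import Groth.Statements.S13791
import Mathlib

set_option autoImplicit false
universe u
open CategoryTheory
open CohSite

namespace Groth.Agent.S13791

open CategoryTheory Limits Opposite in
theorem lift_presheafHom {C : Type u} [SmallCategory C] (J : GrothendieckTopology C) {B Q : AddCommGrpCat.{u}}
    (q : B ⟶ Q) (hq : Function.Surjective q)
    (φ : (Functor.const Cᵒᵖ).obj (AddCommGrpCat.of (ULift.{u} ℤ)) ⟶ ((constantSheaf J AddCommGrpCat.{u}).obj Q).obj) :
    ∃ ψ : (Functor.const Cᵒᵖ).obj (AddCommGrpCat.of (ULift.{u} ℤ)) ⟶ ((constantSheaf J AddCommGrpCat.{u}).obj B).obj,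
      ψ ≫ ((constantSheaf J AddCommGrpCat.{u}).map q).hom = φ := by
  let U := forget AddCommGrpCat.{u}
  let e := constantCommuteCompose J U
  let σ : U.obj Q ⟶ U.obj B := TypeCat.ofHom (Function.surjInv hq)
  have hσ : σ ≫ U.map q = 𝟙 _ := by ext x; exact Function.surjInv_eq hq x
  let τ := e.hom.app Q ≫ (constantSheaf J (Type u)).map σ ≫ e.inv.app B
  have hn : (sheafCompose J U).map ((constantSheaf J AddCommGrpCat.{u}).map q) =
      e.hom.app B ≫ (constantSheaf J (Type u)).map (U.map q) ≫ e.inv.app Q := by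
    have h := e.hom.naturality q
    refine Eq.trans ?_ ((congrArg (· ≫ e.inv.app Q) h).trans (Category.assoc _ _ _))
    exact (by rw [Category.assoc, Iso.hom_inv_id_app, Category.comp_id]; rfl)
  have hτ : τ ≫ (sheafCompose J U).map ((constantSheaf J AddCommGrpCat.{u}).map q) = 𝟙 _ := by
    rw [hn]
    simp only [τ, Category.assoc, Iso.inv_hom_id_app_assoc]
    rw [← Functor.map_comp_assoc, hσ, CategoryTheory.Functor.map_id]
    exact (congrArg (e.hom.app Q ≫ ·) (Category.id_comp _)).trans (e.hom_inv_id_app Q)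
  let t : ∀ V : Cᵒᵖ, ((constantSheaf J AddCommGrpCat.{u}).obj B).obj.obj V := fun V => τ.hom.app V (φ.app V ⟨1⟩)
  have ht : ∀ {V W : Cᵒᵖ} (r : V ⟶ W), ((constantSheaf J AddCommGrpCat.{u}).obj B).obj.map r (t V) = t W := by
    intro V W r
    refine (ConcreteCategory.congr_hom (τ.hom.naturality r) (φ.app V ⟨1⟩)).symm.trans ?_
    exact congrArg (τ.hom.app W) (ConcreteCategory.congr_hom (φ.naturality r) ⟨1⟩).symm
  have hext : ∀ {M : AddCommGrpCat.{u}} (a b : AddCommGrpCat.of (ULift.{u} ℤ) ⟶ M), a ⟨1⟩ = b ⟨1⟩ → a = b := by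
    intro M a b h
    refine ConcreteCategory.hom_ext _ _ fun x => ?_
    have hx : x = x.down • (⟨1⟩ : ULift.{u} ℤ) := by ext; simp
    rw [hx]
    exact (map_zsmul a.hom _ _).trans ((congrArg (x.down • ·) h).trans (map_zsmul b.hom _ _).symm)
  refine ⟨{ app := fun V => AddCommGrpCat.ofHom ((zmultiplesHom _ (t V)).comp AddEquiv.ulift.toAddMonoidHom)
            naturality := fun V W r => hext _ _ ?_ }, ?_⟩
  · show (1 : ℤ) • t W = ((constantSheaf J AddCommGrpCat.{u}).obj B).obj.map r ((1 : ℤ) • t V)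
    rw [one_zsmul, one_zsmul, ht]
  · refine NatTrans.ext (funext fun V => hext _ _ ?_)
    show ((constantSheaf J AddCommGrpCat.{u}).map q).hom.app V ((1 : ℤ) • t V) = φ.app V ⟨1⟩
    rw [one_zsmul]
    exact ConcreteCategory.congr_hom (congrArg (fun k => k.hom.app V) hτ) (φ.app V ⟨1⟩)

/-- On a site, for a short exact sequence 0 → A → B → C → 0 of abelian groups the map H¹(A) → H¹(B) on
the first cohomology of the associated constant sheaves is injective. Stated for an injective
homomorphism f : A → B (C being its cokernel), with H¹ the Ext-based sheaf cohomology of the site. -/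
theorem result {C : Type u} [SmallCategory C] (J : GrothendieckTopology C)
    {A B : Type u} [AddCommGroup A] [AddCommGroup B] (f : A →+ B) (hf : Function.Injective f) :
    Function.Injective
      (Sheaf.H.map ((constantSheaf J AddCommGrpCat.{u}).map (AddCommGrpCat.ofHom f)) 1) := by
  let S₀ : ShortComplex AddCommGrpCat.{u} := ShortComplex.mk (AddCommGrpCat.ofHom f) (Limits.cokernel.π _) (Limits.cokernel.condition _)
  haveI : Mono S₀.f := (AddCommGrpCat.mono_iff_injective _).2 hf
  haveI : Epi S₀.g := inferInstanceAs (Epi (Limits.cokernel.π _))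
  have h₀ : S₀.ShortExact := { exact := ShortComplex.exact_cokernel _ }
  haveI : Limits.PreservesFiniteLimits (constantSheaf J AddCommGrpCat.{u}) := by
    unfold constantSheaf; exact Limits.comp_preservesFiniteLimits _ _
  haveI : Limits.PreservesFiniteColimits (constantSheaf J AddCommGrpCat.{u}) := by
    unfold constantSheaf; exact Limits.comp_preservesFiniteColimits _ _
  have hS : (S₀.map (constantSheaf J AddCommGrpCat.{u})).ShortExact := h₀.map_of_exact _
  rw [injective_iff_map_eq_zero]
  intro x hx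
  rw [Sheaf.H.map_apply] at hx
  obtain ⟨y, hy⟩ := Abelian.Ext.covariant_sequence_exact₁ _ hS x hx (n₀ := 0) rfl
  obtain ⟨φ, rfl⟩ := (Abelian.Ext.mk₀_bijective _ _).2 y
  let adj := sheafificationAdjunction J AddCommGrpCat.{u}
  obtain ⟨ψ, hψ⟩ := lift_presheafHom J S₀.g ((AddCommGrpCat.epi_iff_surjective _).1 inferInstance) (adj.homEquiv _ _ φ)
  let ψ' : (constantSheaf J AddCommGrpCat.{u}).obj (AddCommGrpCat.of (ULift.{u} ℤ)) ⟶
      (S₀.map (constantSheaf J AddCommGrpCat.{u})).X₂ := (adj.homEquiv _ _).symm ψ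
  have hφ : φ = ψ' ≫ (S₀.map (constantSheaf J AddCommGrpCat.{u})).g := by
    apply (adj.homEquiv _ _).injective
    exact (hψ.symm.trans (congrArg (· ≫ ((constantSheaf J AddCommGrpCat.{u}).map S₀.g).hom)
      ((adj.homEquiv _ _).apply_symm_apply ψ).symm)).trans (adj.homEquiv_naturality_right _ _).symm
  subst hy
  subst hφ
  rw [← Abelian.Ext.mk₀_comp_mk₀, Abelian.Ext.comp_assoc_of_second_deg_zero]
  erw [hS.comp_extClass]
  exact Abelian.Ext.comp_zero ..

end Groth.Agent.S13791
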