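import Groth.Statements.S13792
import Groth.Agent.DimZeroFin.Basic
-- import your own Groth.Agent.* helpers here

set_option autoImplicit false
universe u
open CategoryTheory AlgebraicGeometry
open Curves

namespace Groth.Agent.S13792

/-- Let k be a field and E an integral k-scheme of finite type whose underlying space has dimension 1,
and let ι : G → E be a closed immersion. Then either ι is an isomorphism or G is finite over k. (The
published statement is about a closed subgroup scheme of an elliptic curve and its proof states this
fact for E geometrically integral; this row assumes only that E is integral.) -/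
theorem result {k : Type u} [Field k]
    {E G : Scheme.{u}} (f : E ⟶ Spec (CommRingCat.of k)) [LocallyOfFiniteType f] [QuasiCompact f]
    [IsIntegral E] (hdim : topologicalKrullDim ↥E = 1) (ι : G ⟶ E) [IsClosedImmersion ι] :
    IsIso ι ∨ IsFinite (ι ≫ f) := by
  by_cases hr : Set.range ι.base = Set.univ
  · left
    refine IsClosedImmersion.isIso_iff_ker_eq_bot.mpr ((Scheme.IdealSheafData.support_eq_top_iff).mp ?_)
    apply TopologicalSpace.Closeds.ext
    rw [Scheme.Hom.support_ker]
    simp [hr]
  · right
    refine (DimZeroFin.isAffine_and_isFinite (ι ≫ f) fun x y hxy => ?_).2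
    by_contra hne
    let a : TopologicalSpace.IrreducibleCloseds E := ⟨closure {ι y}, isIrreducible_singleton.closure, isClosed_closure⟩
    let b : TopologicalSpace.IrreducibleCloseds E := ⟨closure {ι x}, isIrreducible_singleton.closure, isClosed_closure⟩
    let c : TopologicalSpace.IrreducibleCloseds E := ⟨Set.univ, IrreducibleSpace.isIrreducible_univ E, isClosed_univ⟩
    have hab : a < b := by
      refine lt_of_le_of_ne (closure_minimal (Set.singleton_subset_iff.mpr (hxy.map ι.continuous).mem_closure) isClosed_closure) fun e => hne ?_
      have h2 : ι y ⤳ ι x := specializes_iff_mem_closure.mpr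
        (show ι x ∈ (a : Set E) from e ▸ subset_closure rfl)
      exact ι.isEmbedding.injective ((hxy.map ι.continuous).antisymm h2).eq
    have hbc : b < c := by
      refine lt_of_le_of_ne (Set.subset_univ _) fun e => hr (Set.eq_univ_of_univ_subset ?_)
      have e' : closure {ι x} = Set.univ := congrArg (fun s : TopologicalSpace.IrreducibleCloseds E => (s : Set E)) e
      rw [← e']
      exact closure_minimal (Set.singleton_subset_iff.mpr ⟨x, rfl⟩) ι.isClosedEmbedding.isClosed_range
    let s : LTSeries (TopologicalSpace.IrreducibleCloseds E) := ((RelSeries.singleton _ a).snoc b hab).snoc c (by simpa using hbc)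
    have := Order.LTSeries.length_le_krullDim s
    rw [topologicalKrullDim] at hdim
    rw [hdim] at this
    simp [s] at this

end Groth.Agent.S13792
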