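import Groth.Statements.S13793
import Mathlib
-- import your own Groth.Agent.* helpers here

set_option autoImplicit false
universe u
open CAlg

namespace Groth.Agent.S13793

/-- Laurent polynomials in `p` variables -/
abbrev L (A : Type u) [CommRing A] (p : ℕ) := AddMonoidAlgebra A (Fin p → ℤ)

/-- the map induced by a matrix -/
noncomputable abbrev F (A : Type u) [CommRing A] {p q : ℕ} (M : Matrix (Fin q) (Fin p) ℤ) : L A p →+* L A q :=
  AddMonoidAlgebra.mapDomainRingHom A (Matrix.mulVecLin M).toAddMonoidHom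

variable {A : Type u} [CommRing A]

theorem coeff_F {p q : ℕ} (M : Matrix (Fin q) (Fin p) ℤ) (ψ : (Fin q → ℤ) → (Fin p → ℤ))
    (hψ : ∀ v, ψ (M.mulVec v) = v) (f : L A p) (w : Fin q → ℤ) [Decidable (M.mulVec (ψ w) = w)] :
    (F A M f).coeff w = if M.mulVec (ψ w) = w then f.coeff (ψ w) else 0 := by
  classical
  have h : (F A M f).coeff = Finsupp.mapDomain M.mulVec f.coeff := rfl
  rw [h]
  split_ifs with hw
  · conv_lhs => rw [← hw]
    exact Finsupp.mapDomain_apply (fun a b hab => by rw [← hψ a, hab, hψ b]) _ _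
  · exact Finsupp.mapDomain_notin_range _ _ fun ⟨v, hv⟩ => hw (by rw [← hv, hψ])

theorem F_F {p q r : ℕ} (M : Matrix (Fin r) (Fin q) ℤ) (N : Matrix (Fin q) (Fin p) ℤ) (x : (L A p)ˣ) :
    Units.map (F A M).toMonoidHom (Units.map (F A N).toMonoidHom x) = Units.map (F A (M * N)).toMonoidHom x := by
  refine Units.ext ?_
  change F A M (F A N x) = F A (M * N) x
  rw [← RingHom.comp_apply, F, F, F, ← AddMonoidAlgebra.mapDomainRingHom_comp]
  congr 2
  exact AddMonoidHom.ext fun v => Matrix.mulVec_mulVec v M N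

/-- the coefficientwise ideal -/
noncomputable def J (I : Ideal A) (p : ℕ) : Ideal (L A p) :=
  RingHom.ker (AddMonoidAlgebra.mapRingHom (Fin p → ℤ) (Ideal.Quotient.mk I))

theorem mem_J {I : Ideal A} {p : ℕ} {f : L A p} : f ∈ J I p ↔ ∀ m, f.coeff m ∈ I := by
  simp only [J, RingHom.mem_ker, AddMonoidAlgebra.ext_iff, Finsupp.ext_iff, AddMonoidAlgebra.coeff_mapRingHom,
    AddMonoidAlgebra.coeff_zero, Finsupp.coe_zero, Pi.zero_apply, Ideal.Quotient.eq_zero_iff_mem]

theorem mul_mem_J {I I' : Ideal A} {p : ℕ} {f g : L A p} (hf : f ∈ J I p) (hg : g ∈ J I' p) :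
    f * g ∈ J (I * I') p := by
  rw [mem_J] at hf hg
  rw [← AddMonoidAlgebra.sum_coeff_single f, ← AddMonoidAlgebra.sum_coeff_single g, Finsupp.sum, Finsupp.sum,
    Finset.sum_mul_sum]
  refine Submodule.sum_mem _ fun a _ => Submodule.sum_mem _ fun b _ => ?_
  rw [AddMonoidAlgebra.single_mul_single, mem_J]
  intro m
  rw [AddMonoidAlgebra.coeff_single, Finsupp.single_apply]
  split_ifs
  · exact Ideal.mul_mem_mul (hf a) (hg b)
  · exact zero_mem _

theorem F_mem_J {I : Ideal A} {p q : ℕ} (M : Matrix (Fin q) (Fin p) ℤ) {f : L A p} (hf : f ∈ J I p) :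
    F A M f ∈ J I q := by
  rw [mem_J] at hf
  rw [← AddMonoidAlgebra.sum_coeff_single f, Finsupp.sum, map_sum]
  refine Submodule.sum_mem _ fun a _ => ?_
  rw [F, AddMonoidAlgebra.mapDomainRingHom_apply, AddMonoidAlgebra.mapDomain_single, mem_J]
  intro m
  rw [AddMonoidAlgebra.coeff_single, Finsupp.single_apply]
  split_ifs
  · exact hf a
  · exact zero_mem _

theorem isNilpotent_of_mem_J {I : Ideal A} (hI : IsNilpotent I) {p : ℕ} {f : L A p} (hf : f ∈ J I p) :
    IsNilpotent f := by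
  obtain ⟨N, hN⟩ := hI
  refine ⟨N, ?_⟩
  have h : ∀ j, f ^ j ∈ J (I ^ j) p := fun j => by
    induction j with
    | zero => simp [mem_J]
    | succ j ih => rw [pow_succ, pow_succ]; exact mul_mem_J ih hf
  have h' := h N
  rw [hN, mem_J] at h'
  exact AddMonoidAlgebra.ext (Finsupp.ext fun m => Ideal.mem_bot.1 (h' m))

/-- the coboundary -/
noncomputable def d1 : (L A 1)ˣ →* (L A 2)ˣ :=
  Units.map (F A (!![0; 1] : Matrix (Fin 2) (Fin 1) ℤ)).toMonoidHom /
    Units.map (F A (!![1; 1] : Matrix (Fin 2) (Fin 1) ℤ)).toMonoidHom *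
    Units.map (F A (!![1; 0] : Matrix (Fin 2) (Fin 1) ℤ)).toMonoidHom

/-- the cocycle condition -/
noncomputable def d2 : (L A 2)ˣ →* (L A 3)ˣ :=
  Units.map (F A (!![0, 0; 1, 0; 0, 1] : Matrix (Fin 3) (Fin 2) ℤ)).toMonoidHom /
    Units.map (F A (!![1, 0; 1, 0; 0, 1] : Matrix (Fin 3) (Fin 2) ℤ)).toMonoidHom *
    (Units.map (F A (!![1, 0; 0, 1; 0, 1] : Matrix (Fin 3) (Fin 2) ℤ)).toMonoidHom /
    Units.map (F A (!![1, 0; 0, 1; 0, 0] : Matrix (Fin 3) (Fin 2) ℤ)).toMonoidHom)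

theorem d2_d1 (x : (L A 1)ˣ) : d2 (d1 x) = 1 := by
  have hprod : ∀ a b c d e f g h : ℤ, (!![a, b; c, d; e, f] : Matrix (Fin 3) (Fin 2) ℤ) * (!![g; h] : Matrix (Fin 2) (Fin 1) ℤ) =
      !![a * g + b * h; c * g + d * h; e * g + f * h] := fun a b c d e f g h => by
    ext i j
    fin_cases i <;> fin_cases j <;> simp [Matrix.mul_apply, Fin.sum_univ_two]
  simp only [d1, d2, MonoidHom.mul_apply, MonoidHom.div_apply, map_mul, map_div, F_F, hprod, mul_zero, mul_one,
    add_zero, zero_add]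
  refine Additive.ofMul.injective ?_
  simp only [ofMul_mul, ofMul_div, ofMul_inv, ofMul_one]
  abel

/-- the linearised step -/
theorem step {I : Ideal A} (hI : IsNilpotent I) (j : ℕ) (ξ : (L A 2)ˣ) (hξ : d2 ξ = 1)
    (hj : (ξ : L A 2) - 1 ∈ J (I ^ (j + 1)) 2) :
    ∃ η : (L A 1)ˣ, ((ξ * (d1 η)⁻¹ : (L A 2)ˣ) : L A 2) - 1 ∈ J (I ^ (j + 2)) 2 := by
  classical
  set f : L A 2 := (ξ : L A 2) - 1 with hf
  have hξf : (ξ : L A 2) = 1 + f := by rw [hf]; ring
  have hsq : ∀ {p : ℕ} {a b : L A p}, a ∈ J (I ^ (j + 1)) p → b ∈ J (I ^ (j + 1)) p → a * b ∈ J (I ^ (j + 2)) p :=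
    fun {p a b} ha hb => by
      rw [mem_J]
      intro m
      have h := mem_J.1 (mul_mem_J ha hb) m
      rw [← pow_add] at h
      exact Ideal.pow_le_pow_right (by omega) h
  set M0 : Matrix (Fin 3) (Fin 2) ℤ := !![0, 0; 1, 0; 0, 1] with hM0
  set M1 : Matrix (Fin 3) (Fin 2) ℤ := !![1, 0; 1, 0; 0, 1] with hM1
  set M2 : Matrix (Fin 3) (Fin 2) ℤ := !![1, 0; 0, 1; 0, 1] with hM2
  set M3 : Matrix (Fin 3) (Fin 2) ℤ := !![1, 0; 0, 1; 0, 0] with hM3
  have hE : F A M0 f - F A M1 f + F A M2 f - F A M3 f ∈ J (I ^ (j + 2)) 3 := by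
    have h : (F A M0 ξ) * (F A M2 ξ) = (F A M1 ξ) * (F A M3 ξ) := by
      have h' : Units.map (F A M0).toMonoidHom ξ * Units.map (F A M2).toMonoidHom ξ =
          Units.map (F A M1).toMonoidHom ξ * Units.map (F A M3).toMonoidHom ξ := by
        rw [d2, MonoidHom.mul_apply, MonoidHom.div_apply, MonoidHom.div_apply, div_mul_div_comm, div_eq_one] at hξ
        exact hξ
      exact congrArg Units.val h'
    rw [hξf, map_add, map_add, map_add, map_add, map_one, map_one, map_one, map_one] at h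
    rw [show F A M0 f - F A M1 f + F A M2 f - F A M3 f = F A M1 f * F A M3 f - F A M0 f * F A M2 f by
      linear_combination h]
    exact sub_mem (hsq (F_mem_J _ hj) (F_mem_J _ hj)) (hsq (F_mem_J _ hj) (F_mem_J _ hj))
  have hc : ∀ a b c : ℤ, ((if a = 0 then f.coeff ![b, c] else 0) - (if a = b then f.coeff ![b, c] else 0) +
      (if b = c then f.coeff ![a, b] else 0) - (if c = 0 then f.coeff ![a, b] else 0)) ∈ I ^ (j + 2) := by
    intro a b c
    have h := mem_J.1 hE ![a, b, c]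
    rw [AddMonoidAlgebra.coeff_sub, Finsupp.sub_apply, AddMonoidAlgebra.coeff_add, Finsupp.add_apply,
      AddMonoidAlgebra.coeff_sub, Finsupp.sub_apply,
      coeff_F M0 (fun w => ![w 1, w 2]) (fun v => by ext i; fin_cases i <;> simp [hM0, Matrix.vecHead, Matrix.vecTail]),
      coeff_F M1 (fun w => ![w 1, w 2]) (fun v => by ext i; fin_cases i <;> simp [hM1, Matrix.vecHead, Matrix.vecTail]),
      coeff_F M2 (fun w => ![w 0, w 1]) (fun v => by ext i; fin_cases i <;> simp [hM2, Matrix.vecHead, Matrix.vecTail]),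
      coeff_F M3 (fun w => ![w 0, w 1]) (fun v => by ext i; fin_cases i <;> simp [hM3, Matrix.vecHead, Matrix.vecTail])] at h
    simp [hM0, hM1, hM2, hM3, Matrix.vecHead, Matrix.vecTail, funext_iff, Fin.forall_fin_succ, eq_comm] at h
    simpa [eq_comm] using h
  let h1 : L A 1 := AddMonoidAlgebra.ofCoeff (Finsupp.comapDomain (fun a : Fin 1 → ℤ => ![a 0, 0]) f.coeff
    (Function.Injective.injOn (fun a b hab => by ext i; fin_cases i; simpa using congrFun hab 0)))
  have hh1c : ∀ a : Fin 1 → ℤ, h1.coeff a = f.coeff ![a 0, 0] := fun a => rfl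
  have hh1 : h1 ∈ J (I ^ (j + 1)) 1 := mem_J.2 fun a => by rw [hh1c]; exact mem_J.1 hj _
  have hu : IsUnit (1 + h1) :=
    (isNilpotent_of_mem_J hI (mem_J.2 fun a => Ideal.pow_le_self (Nat.succ_ne_zero j) (mem_J.1 hh1 a))).isUnit_one_add
  set N0 : Matrix (Fin 2) (Fin 1) ℤ := !![0; 1] with hN0
  set N1 : Matrix (Fin 2) (Fin 1) ℤ := !![1; 1] with hN1
  set N2 : Matrix (Fin 2) (Fin 1) ℤ := !![1; 0] with hN2
  have hlin : f - F A N0 h1 + F A N1 h1 - F A N2 h1 ∈ J (I ^ (j + 2)) 2 := by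
    rw [mem_J]
    intro w
    obtain ⟨a, b, rfl⟩ : ∃ a b, w = ![a, b] := ⟨w 0, w 1, by ext i; fin_cases i <;> rfl⟩
    rw [AddMonoidAlgebra.coeff_sub, Finsupp.sub_apply, AddMonoidAlgebra.coeff_add, Finsupp.add_apply,
      AddMonoidAlgebra.coeff_sub, Finsupp.sub_apply,
      coeff_F N0 (fun w => ![w 1]) (fun v => by ext i; fin_cases i; simp [hN0, Matrix.vecHead, Matrix.vecTail]),
      coeff_F N1 (fun w => ![w 1]) (fun v => by ext i; fin_cases i; simp [hN1, Matrix.vecHead, Matrix.vecTail]),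
      coeff_F N2 (fun w => ![w 0]) (fun v => by ext i; fin_cases i; simp [hN2, Matrix.vecHead, Matrix.vecTail]),
      hh1c, hh1c]
    simp [hN0, hN1, hN2, Matrix.vecHead, Matrix.vecTail, funext_iff, Fin.forall_fin_succ]
    by_cases ha : a = 0
    · subst ha
      by_cases hb : b = 0
      · subst hb; simp
      · have h := hc 0 b 0
        simp [hb, Ne.symm hb] at h ⊢
        have := Submodule.neg_mem _ h
        simpa using this
    · by_cases hb : b = 0
      · subst hb; simp [ha, Ne.symm ha]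
      · by_cases hab : a = b
        · subst hab
          have h := hc a a 0
          simp [ha, Ne.symm ha] at h ⊢
          have := Submodule.neg_mem _ h
          convert this using 1
          ring
        · have h := hc a a b
          simp [ha, Ne.symm ha, hb, Ne.symm hb, hab, Ne.symm hab] at h ⊢
          simpa using h
  refine ⟨hu.unit, ?_⟩
  set G0 := F A N0 h1
  set G1 := F A N1 h1
  set G2 := F A N2 h1
  have hd : ((ξ * (d1 hu.unit)⁻¹ : (L A 2)ˣ) : L A 2) * ((1 + G0) * (1 + G2)) = (1 + f) * (1 + G1) := by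
    have h' : ξ * (d1 hu.unit)⁻¹ * (Units.map (F A N0).toMonoidHom hu.unit * Units.map (F A N2).toMonoidHom hu.unit) =
        ξ * Units.map (F A N1).toMonoidHom hu.unit := by
      rw [d1, MonoidHom.mul_apply, MonoidHom.div_apply]
      refine Additive.ofMul.injective ?_
      simp only [ofMul_mul, ofMul_div, ofMul_inv]
      abel
    have h'' := congrArg Units.val h'
    simp only [Units.val_mul, Units.coe_map, IsUnit.unit_spec, RingHom.toMonoidHom_eq_coe, MonoidHom.coe_coe,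
      map_add, map_one] at h''
    rw [Units.val_mul, hξf]
    rw [hξf] at h''
    exact h''
  have hG : IsUnit ((1 + G0) * (1 + G2)) := by
    simpa only [G0, G2, map_add, map_one] using (hu.map (F A N0)).mul (hu.map (F A N2))
  rw [← hG.unit_spec] at hd
  rw [← Ideal.mul_unit_mem_iff_mem _ hG, sub_mul, ← hG.unit_spec, hd, hG.unit_spec, one_mul,
    show (1 + f) * (1 + G1) - (1 + G0) * (1 + G2) = (f - G0 + G1 - G2) + (f * G1 - G0 * G2) by ring]
  exact add_mem hlin (sub_mem (hsq hj (F_mem_J _ hh1)) (hsq (F_mem_J _ hh1) (F_mem_J _ hh1)))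

/-- a unit over a domain is a monomial -/
theorem exists_single {D : Type u} [CommRing D] [IsDomain D] {p : ℕ} (x : (L D p)ˣ) :
    ∃ v r, r ≠ 0 ∧ (x : L D p) = AddMonoidAlgebra.single v r := by
  classical
  set a : L D p := ↑x
  set b : L D p := ↑x⁻¹
  have hab : a * b = 1 := x.mul_inv
  have ha : a.coeff.support.Nonempty := Finsupp.support_nonempty_iff.2 fun h => x.ne_zero (AddMonoidAlgebra.ext h)
  have hb : b.coeff.support.Nonempty := Finsupp.support_nonempty_iff.2 fun h => x⁻¹.ne_zero (AddMonoidAlgebra.ext h)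
  have hcard : a.coeff.support.card * b.coeff.support.card ≤ 1 := by
    by_contra hlt
    obtain ⟨p1, h1, p2, h2, hne, hu1, hu2⟩ := TwoUniqueSums.uniqueAdd_of_one_lt_card (not_le.1 hlt)
    rw [Finset.mem_product] at h1 h2
    have key : ∀ q : (Fin p → ℤ) × (Fin p → ℤ), q.1 ∈ a.coeff.support → q.2 ∈ b.coeff.support →
        UniqueAdd a.coeff.support b.coeff.support q.1 q.2 → q.1 + q.2 = 0 := fun q hq1 hq2 hu => by
      by_contra hne
      have h := AddMonoidAlgebra.coeff_mul_add_of_uniqueAdd hu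
      rw [hab, AddMonoidAlgebra.one_def, AddMonoidAlgebra.coeff_single, Finsupp.single_eq_of_ne hne] at h
      exact mul_ne_zero (Finsupp.mem_support_iff.1 hq1) (Finsupp.mem_support_iff.1 hq2) h.symm
    have := hu1 h2.1 h2.2 (by rw [key p1 h1.1 h1.2 hu1, key p2 h2.1 h2.2 hu2])
    exact hne (Prod.ext this.1.symm this.2.symm)
  have h1 : a.coeff.support.card = 1 := by
    have := ha.card_pos
    have := hb.card_pos
    nlinarith
  obtain ⟨v, r, hr, h⟩ := Finsupp.card_support_eq_one'.1 h1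
  exact ⟨v, r, hr, AddMonoidAlgebra.ext h⟩

theorem coeff_mem_prime (ξ : (L A 2)ˣ) (hξ : d2 ξ = 1) (P : Ideal A) [P.IsPrime] :
    (∀ m : Fin 2 → ℤ, m ≠ 0 → (ξ : L A 2).coeff m ∈ P) ∧ (ξ : L A 2).coeff 0 ∉ P := by
  classical
  let π : ∀ p, L A p →+* L (A ⧸ P) p := fun p => AddMonoidAlgebra.mapRingHom (Fin p → ℤ) (Ideal.Quotient.mk P)
  obtain ⟨v, r, hr, hv⟩ := exists_single (Units.map (π 2).toMonoidHom ξ)
  change π 2 ξ = _ at hv
  have hnat : ∀ (M : Matrix (Fin 3) (Fin 2) ℤ), π 3 (F A M ξ) = AddMonoidAlgebra.single (M.mulVec v) r := fun M => by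
    have h : π 3 (F A M ξ) = F (A ⧸ P) M (π 2 ξ) := by
      simp only [π, F, ← RingHom.comp_apply]
      congr 1
      refine AddMonoidAlgebra.ringHom_ext (fun a => ?_) (fun m => ?_) <;> simp
    rw [h, hv, F, AddMonoidAlgebra.mapDomainRingHom_apply, AddMonoidAlgebra.mapDomain_single]
    rfl
  have h' := congrArg Units.val hξ
  rw [d2, MonoidHom.mul_apply, MonoidHom.div_apply, MonoidHom.div_apply, div_mul_div_comm] at hξ
  have h := congrArg (fun z : (L A 3)ˣ => π 3 z) (div_eq_one.1 hξ)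
  simp only [Units.val_mul, Units.coe_map, RingHom.toMonoidHom_eq_coe, MonoidHom.coe_coe, map_mul, hnat,
    AddMonoidAlgebra.single_mul_single] at h
  have h2 := (Finsupp.single_eq_single_iff _ _ _ _).1 (congrArg AddMonoidAlgebra.coeff h)
  rcases h2 with ⟨h2, -⟩ | ⟨h2, -⟩
  swap
  · exact absurd (mul_self_eq_zero.1 h2) hr
  have hv0 : v = 0 := by
    have e0 := congrFun h2 0
    have e2 := congrFun h2 2
    simp [Matrix.vecHead, Matrix.vecTail] at e0 e2
    ext i
    fin_cases i <;> simp <;> omega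
  have hcoef : ∀ m, Ideal.Quotient.mk P ((ξ : L A 2).coeff m) = if v = m then r else 0 := fun m => by
    rw [← Finsupp.single_apply, ← AddMonoidAlgebra.coeff_single v r, ← hv, AddMonoidAlgebra.coeff_mapRingHom]
  refine ⟨fun m hm => Ideal.Quotient.eq_zero_iff_mem.1 ?_, fun h0 => hr ?_⟩
  · rw [hcoef, if_neg]; rw [hv0]; exact Ne.symm hm
  · have := hcoef 0
    rw [if_pos hv0, Ideal.Quotient.eq_zero_iff_mem.2 h0] at this
    exact this.symm

theorem exists_d1 (ξ : (L A 2)ˣ) (hξ : d2 ξ = 1) : ∃ η, ξ = d1 η := by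
  classical
  obtain ⟨c, hc⟩ : IsUnit ((ξ : L A 2).coeff 0) := by
    by_contra h
    obtain ⟨M, hM, hmem⟩ := exists_max_ideal_of_mem_nonunits h
    haveI := hM.isPrime
    exact (coeff_mem_prime ξ hξ M).2 hmem
  set η0 : (L A 1)ˣ := Units.map (algebraMap A (L A 1)).toMonoidHom c
  let I : Ideal A := Ideal.span (↑((((ξ : L A 2).coeff.support).erase 0).image fun m => (ξ : L A 2).coeff m) : Set A)
  have hI : IsNilpotent I := by
    refine (Ideal.FG.isNilpotent_iff_le_nilradical ⟨_, rfl⟩).2 (Ideal.span_le.2 ?_)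
    intro x hx
    obtain ⟨m, hm, rfl⟩ := Finset.mem_image.1 hx
    rw [SetLike.mem_coe, nilradical_eq_sInf, Ideal.mem_sInf]
    intro P hP
    haveI : P.IsPrime := hP
    exact (coeff_mem_prime ξ hξ P).1 m (Finset.ne_of_mem_erase hm)
  have hd0 : (d1 η0 : L A 2) = AddMonoidAlgebra.single 0 ((ξ : L A 2).coeff 0) := by
    have h : d1 η0 = Units.map (algebraMap A (L A 2)).toMonoidHom c := by
      have hF : ∀ M : Matrix (Fin 2) (Fin 1) ℤ, Units.map (F A M).toMonoidHom η0 = Units.map (algebraMap A (L A 2)).toMonoidHom c :=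
        fun M => Units.ext (by
          change F A M (algebraMap A (L A 1) c) = algebraMap A (L A 2) c
          simp [F])
      rw [d1, MonoidHom.mul_apply, MonoidHom.div_apply, hF, hF, hF, div_self', one_mul]
    rw [h, ← hc]
    simp
  have hbase : ((ξ * (d1 η0)⁻¹ : (L A 2)ˣ) : L A 2) - 1 ∈ J (I ^ (0 + 1)) 2 := by
    rw [zero_add, pow_one, ← Ideal.mul_unit_mem_iff_mem _ (d1 η0).isUnit, sub_mul, Units.val_mul, mul_assoc,
      Units.inv_mul, mul_one, one_mul, hd0, mem_J]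
    intro m
    rw [AddMonoidAlgebra.coeff_sub, Finsupp.sub_apply, AddMonoidAlgebra.coeff_single, Finsupp.single_apply]
    by_cases hm : 0 = m
    · rw [if_pos hm, hm, sub_self]; exact zero_mem _
    · rw [if_neg hm, sub_zero]
      by_cases h0 : (ξ : L A 2).coeff m = 0
      · rw [h0]; exact zero_mem _
      · exact Ideal.subset_span (Finset.mem_image.2 ⟨m, Finset.mem_erase.2 ⟨Ne.symm hm, Finsupp.mem_support_iff.2 h0⟩, rfl⟩)
  have key : ∀ j, ∃ η, ((ξ * (d1 η)⁻¹ : (L A 2)ˣ) : L A 2) - 1 ∈ J (I ^ (j + 1)) 2 := by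
    intro j
    induction j with
    | zero => exact ⟨η0, hbase⟩
    | succ j ih =>
      obtain ⟨η, hη⟩ := ih
      obtain ⟨η', hη'⟩ := step hI j (ξ * (d1 η)⁻¹) (by rw [map_mul, map_inv, hξ, d2_d1, inv_one, one_mul]) hη
      exact ⟨η * η', by rwa [map_mul, mul_inv, ← mul_assoc]⟩
  obtain ⟨N, hN⟩ := hI
  obtain ⟨η, hη⟩ := key N
  rw [pow_succ, hN] at hη
  refine ⟨η, mul_inv_eq_one.1 (Units.ext (sub_eq_zero.1 (AddMonoidAlgebra.ext (Finsupp.ext fun m => ?_))))⟩
  have h := mem_J.1 hη m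
  rw [zero_mul] at h
  exact h

/-- For any commutative ring A, the second cohomology of the complex of unit groups A[t₁^±]ˣ → A[t₁^±,
t₂^±]ˣ → A[t₁^±, t₂^±, t₃^±]ˣ → ⋯ attached to the cosimplicial ring of Laurent polynomial rings
(coface maps (t₁, t₂) ↦ (t₂, t₃), (t₁t₂, t₃), (t₁, t₂t₃), (t₁, t₂) and t₁ ↦ t₂, t₁t₂, t₁) vanishes:
every unit ξ of A[t₁^±, t₂^±] with ξ(t₂,t₃) ξ(t₁t₂,t₃)⁻¹ ξ(t₁,t₂t₃) ξ(t₁,t₂)⁻¹ = 1 is of the form
η(t₂) η(t₁t₂)⁻¹ η(t₁) for a unit η of A[t^±]. Laurent polynomial rings are written as group algebras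
of ℤ^p and the coface maps as the maps induced by the corresponding additive maps ℤ^p → ℤ^(p+1). -/
theorem result (A : Type u) [CommRing A] (ξ : (AddMonoidAlgebra A (Fin 2 → ℤ))ˣ)
    (hξ : Units.map (AddMonoidAlgebra.mapDomainRingHom A
          (Matrix.mulVecLin (!![0, 0; 1, 0; 0, 1] : Matrix (Fin 3) (Fin 2) ℤ)).toAddMonoidHom).toMonoidHom ξ *
        (Units.map (AddMonoidAlgebra.mapDomainRingHom A
          (Matrix.mulVecLin (!![1, 0; 1, 0; 0, 1] : Matrix (Fin 3) (Fin 2) ℤ)).toAddMonoidHom).toMonoidHom ξ)⁻¹ *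
        Units.map (AddMonoidAlgebra.mapDomainRingHom A
          (Matrix.mulVecLin (!![1, 0; 0, 1; 0, 1] : Matrix (Fin 3) (Fin 2) ℤ)).toAddMonoidHom).toMonoidHom ξ *
        (Units.map (AddMonoidAlgebra.mapDomainRingHom A
          (Matrix.mulVecLin (!![1, 0; 0, 1; 0, 0] : Matrix (Fin 3) (Fin 2) ℤ)).toAddMonoidHom).toMonoidHom ξ)⁻¹ = 1) :
    ∃ η : (AddMonoidAlgebra A (Fin 1 → ℤ))ˣ,
      ξ = Units.map (AddMonoidAlgebra.mapDomainRingHom A
          (Matrix.mulVecLin (!![0; 1] : Matrix (Fin 2) (Fin 1) ℤ)).toAddMonoidHom).toMonoidHom η *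
        (Units.map (AddMonoidAlgebra.mapDomainRingHom A
          (Matrix.mulVecLin (!![1; 1] : Matrix (Fin 2) (Fin 1) ℤ)).toAddMonoidHom).toMonoidHom η)⁻¹ *
        Units.map (AddMonoidAlgebra.mapDomainRingHom A
          (Matrix.mulVecLin (!![1; 0] : Matrix (Fin 2) (Fin 1) ℤ)).toAddMonoidHom).toMonoidHom η := by
  obtain ⟨η, hη⟩ := exists_d1 ξ (by
    rw [d2, MonoidHom.mul_apply, MonoidHom.div_apply, MonoidHom.div_apply, div_eq_mul_inv, div_eq_mul_inv,
      ← mul_assoc]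
    exact hξ)
  exact ⟨η, by rw [hη, d1, MonoidHom.mul_apply, MonoidHom.div_apply, div_eq_mul_inv]⟩

end Groth.Agent.S13793
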