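import Groth.Statements.S13794
import Mathlib.Tactic.LinearCombination
import Mathlib.Tactic.FieldSimp
import Mathlib.Algebra.Polynomial.Coeff
-- import your own Groth.Agent.* helpers here

set_option autoImplicit false
universe u
open Polynomial
open Curves

namespace Groth.Agent.S13794

/-- Let k be a field of characteristic not 3 and β ∈ k. If a line ax + by + c = 0 with a³ ≠ b³ is the
tangent line at a flex point of the affine cubic x³ + y³ + β = 3xy, then β is a cube in k. Here the
line is normalised to b ≠ 0 (the roles of x and y are symmetric) and the flex-tangency is expressed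
by the restriction of the cubic to the line being λ (x − x₀)³. -/
theorem result {k : Type u} [Field k] (h3 : (3 : k) ≠ 0)
    (β a b c : k) (hb : b ≠ 0) (hab : a ^ 3 ≠ b ^ 3) (lam x₀ : k)
    (hflex : (X : k[X]) ^ 3 + (C (-a / b) * X + C (-c / b)) ^ 3 + C β - 3 * X * (C (-a / b) * X + C (-c / b)) =
      C lam * (X - C x₀) ^ 3) :
    ∃ γ : k, β = γ ^ 3 := by
  set p : k := -a / b with hpdef
  set q : k := -c / b with hqdef
  have hL : (X : k[X]) ^ 3 + (C p * X + C q) ^ 3 + C β - 3 * X * (C p * X + C q) =
      C (1 + p ^ 3) * X ^ 3 + C (3 * p ^ 2 * q - 3 * p) * X ^ 2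
        + C (3 * p * q ^ 2 - 3 * q) * X + C (q ^ 3 + β) := by
    simp only [map_add, map_sub, map_mul, map_pow, map_one, map_ofNat]; ring
  have hR : C lam * ((X : k[X]) - C x₀) ^ 3 =
      C lam * X ^ 3 + C (-3 * lam * x₀) * X ^ 2 + C (3 * lam * x₀ ^ 2) * X + C (-lam * x₀ ^ 3) := by
    simp only [map_neg, map_mul, map_pow, map_ofNat]; ring
  rw [hL, hR] at hflex
  have e3 := congrArg (fun f : k[X] => f.coeff 3) hflex
  have e2 := congrArg (fun f : k[X] => f.coeff 2) hflex
  have e1 := congrArg (fun f : k[X] => f.coeff 1) hflex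
  have e0 := congrArg (fun f : k[X] => f.coeff 0) hflex
  simp only [coeff_add, coeff_C_mul_X_pow, coeff_C_mul_X, coeff_C] at e3 e2 e1 e0
  norm_num at e3 e2 e1 e0
  have hp3 : 1 + p ^ 3 ≠ 0 := by
    intro h
    apply hab
    rw [hpdef] at h
    field_simp at h
    linear_combination -h
  have hlam : lam ≠ 0 := by rw [← e3]; exact hp3
  have hpu : p * (1 - p * q) = lam * x₀ := by
    apply mul_left_cancel₀ h3
    linear_combination -e2
  have hqu : -q * (1 - p * q) = lam * x₀ ^ 2 := by
    apply mul_left_cancel₀ h3
    linear_combination e1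
  have hzero : (1 - p * q) * (p ^ 2 + q) = 0 := by
    linear_combination (p * (1 - p * q) + lam * x₀) * hpu - lam * hqu + (q * (1 - p * q)) * e3
  rcases mul_eq_zero.mp hzero with hu | hu
  · have hx : x₀ = 0 := by
      rcases mul_eq_zero.mp (show lam * x₀ = 0 by rw [← hpu, hu, mul_zero]) with h | h
      · exact absurd h hlam
      · exact h
    exact ⟨-q, by subst hx; linear_combination e0⟩
  · have hq : q = -p ^ 2 := by linear_combination hu
    have hx : x₀ = p := by
      apply mul_left_cancel₀ hlam
      rw [← hpu, hq, ← e3]; ring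
    exact ⟨-p, by rw [hx, hq, ← e3] at e0; linear_combination e0⟩

end Groth.Agent.S13794
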