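import Groth.Statements.S13795
import Mathlib
-- import your own Groth.Agent.* helpers here

set_option autoImplicit false
universe u
open TensorProduct
open Brauer

namespace Groth.Agent.S13795

open TensorProduct

section Morita

variable {A : Type u} [CommRing A] {F G : Type u} [AddCommGroup F] [Module A F] [AddCommGroup G] [Module A G]

/-- Equivariant maps. -/
def equi (φ : Module.End A F ≃ₐ[A] Module.End A G) : Submodule A (F →ₗ[A] G) where
  carrier := {ξ | ∀ f z, ξ (f z) = φ f (ξ z)}
  zero_mem' := fun f z => by simp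
  add_mem' := fun {a b} ha hb f z => by simp [ha f z, hb f z]
  smul_mem' := fun c a ha f z => by simp [ha f z]

theorem exists_frame [Module.Finite A F] [Module.Projective A F] :
    ∃ (n : ℕ) (x : Fin n → F) (ψ : Fin n → F →ₗ[A] A), ∀ z, ∑ i, ψ i z • x i = z := by
  classical
  obtain ⟨n, f, g, -, -, hfg⟩ := Module.Finite.exists_comp_eq_id_of_projective A F
  refine ⟨n, fun i => f (Pi.single i 1), fun i => (LinearMap.proj i).comp g, fun z => ?_⟩
  conv_rhs => rw [show z = f (g z) from (LinearMap.congr_fun hfg z).symm, pi_eq_sum_univ' (g z)]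
  simp [map_sum]

theorem exists_trace [Module.Finite A F] [Module.Projective A F] [Module.FaithfullyFlat A F] :
    ∃ (n : ℕ) (u : Fin n → F) (ψ : Fin n → F →ₗ[A] A), ∑ i, ψ i (u i) = 1 := by
  obtain ⟨n, x, ψ, h⟩ := exists_frame (A := A) (F := F)
  let T : Ideal A := Submodule.map₂ (LinearMap.id : (F →ₗ[A] A) →ₗ[A] F →ₗ[A] A) ⊤ ⊤
  have hT : T = ⊤ := by
    by_contra hne
    obtain ⟨m, hm, hTm⟩ := Ideal.exists_le_maximal T hne
    refine Module.FaithfullyFlat.submodule_ne_top (R := A) (M := F) hm (eq_top_iff.2 fun z _ => ?_)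
    rw [← h z]
    exact Submodule.sum_mem _ fun i _ =>
      Submodule.smul_mem_smul (hTm (Submodule.apply_mem_map₂ _ trivial trivial)) trivial
  have h1 : (1 : A) ∈ T := hT ▸ trivial
  rw [show T = Submodule.span A (Set.range fun p : (F →ₗ[A] A) × F => p.1 p.2) from ?_] at h1
  · obtain ⟨l, hl⟩ := Finsupp.mem_span_range_iff_exists_finsupp.1 h1
    let e := l.support.equivFin
    refine ⟨l.support.card, fun i => (e.symm i).1.2, fun i => l (e.symm i).1 • (e.symm i).1.1, ?_⟩
    rw [← hl, Finsupp.sum, ← Finset.sum_coe_sort l.support]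
    exact Equiv.sum_comp e.symm fun p : l.support => l p.1 * (p.1.1) p.1.2
  · refine le_antisymm (Submodule.map₂_le.2 fun f _ z _ => Submodule.subset_span ⟨(f, z), rfl⟩)
      (Submodule.span_le.2 ?_)
    rintro _ ⟨p, rfl⟩
    exact Submodule.apply_mem_map₂ _ trivial trivial

/-- The basic equivariant map attached to a form and a vector. -/
def mk (φ : Module.End A F ≃ₐ[A] Module.End A G) (ψ : F →ₗ[A] A) : G →ₗ[A] equi φ where
  toFun y := ⟨{ toFun := fun z => φ (ψ.smulRight z) y
                map_add' := fun z w => by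
                  rw [show ψ.smulRight (z + w) = ψ.smulRight z + ψ.smulRight w from by ext; simp, map_add,
                    LinearMap.add_apply]
                map_smul' := fun c z => by
                  rw [show ψ.smulRight (c • z) = c • ψ.smulRight z from by ext; simp [smul_comm c],
                    map_smul, LinearMap.smul_apply, RingHom.id_apply] },
    fun f z => by
      show φ (ψ.smulRight (f z)) y = φ f (φ (ψ.smulRight z) y)
      rw [show ψ.smulRight (f z) = f * ψ.smulRight z from by ext; simp, map_mul, Module.End.mul_apply]⟩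
  map_add' y y' := by ext z; exact map_add (φ (ψ.smulRight z)) y y'
  map_smul' c y := by ext z; exact map_smul (φ (ψ.smulRight z)) c y

theorem exists_scalar [Module.Finite A F] [Module.Projective A F] [Module.FaithfullyFlat A F] :
    ∃ c : Module.End A F →ₗ[A] A, c 1 = 1 ∧
      ∀ f : Module.End A F, (∀ (g : Module.End A F) (z : F), f (g z) = g (f z)) → ∀ z, f z = c f • z := by
  obtain ⟨n, u, ψ, h⟩ := exists_trace (A := A) (F := F)
  refine ⟨∑ i, (ψ i).comp (LinearMap.applyₗ (u i)), by simpa using h, fun f hf z => ?_⟩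
  have key : ∀ i, f (ψ i (u i) • z) = ψ i (f (u i)) • z := fun i => hf ((ψ i).smulRight z) (u i)
  calc f z = f ((∑ i, ψ i (u i)) • z) := by rw [h, one_smul]
    _ = ∑ i, f (ψ i (u i) • z) := by rw [Finset.sum_smul, map_sum]
    _ = _ := by simp [key, Finset.sum_smul]

theorem invertible_equi [Module.Finite A F] [Module.Projective A F] [Module.FaithfullyFlat A F]
    [Module.Finite A G] [Module.Projective A G] [Module.FaithfullyFlat A G]
    (φ : Module.End A F ≃ₐ[A] Module.End A G) : Module.Invertible A (equi φ) := by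
  obtain ⟨c, hc1, hc⟩ := exists_scalar (A := A) (F := F)
  obtain ⟨c', -, hc'⟩ := exists_scalar (A := A) (F := G)
  have h₁ : ∀ (η : equi φ.symm) (ξ : equi φ) (z : F),
      η.1 (ξ.1 z) = c (η.1.comp ξ.1) • z := fun η ξ z =>
    hc (η.1.comp ξ.1) (fun g w => by
      show η.1 (ξ.1 (g w)) = g (η.1 (ξ.1 w))
      rw [ξ.2 g w, η.2 (φ g), φ.symm_apply_apply]) z
  have h₂ : ∀ (η : equi φ.symm) (ξ : equi φ) (z : G),
      ξ.1 (η.1 z) = c' (ξ.1.comp η.1) • z := fun η ξ z =>
    hc' (ξ.1.comp η.1) (fun g w => by
      show ξ.1 (η.1 (g w)) = g (ξ.1 (η.1 w))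
      rw [η.2 g w, ξ.2 (φ.symm g), φ.apply_symm_apply]) z
  let P : equi φ.symm →ₗ[A] equi φ →ₗ[A] A :=
    LinearMap.mk₂ A (fun η ξ => c (η.1.comp ξ.1))
      (fun a b d => by rw [Submodule.coe_add, LinearMap.add_comp, map_add])
      (fun r a d => by rw [Submodule.coe_smul, LinearMap.smul_comp, map_smul])
      (fun a b d => by rw [Submodule.coe_add, LinearMap.comp_add, map_add])
      (fun r a d => by rw [Submodule.coe_smul, LinearMap.comp_smul, map_smul])
  let μ : equi φ.symm ⊗[A] equi φ →ₗ[A] A := TensorProduct.lift P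
  obtain ⟨t₀, ht₀⟩ : ∃ t, μ t = 1 := by
    obtain ⟨n, u, ψ, h⟩ := exists_trace (A := A) (F := F)
    obtain ⟨m, y, χ, h'⟩ := exists_frame (A := A) (F := G)
    refine ⟨∑ k, ∑ j, mk φ.symm (χ j) (u k) ⊗ₜ[A] mk φ (ψ k) (y j), ?_⟩
    simp only [map_sum, μ, TensorProduct.lift.tmul]
    have hid : (∑ j, φ.symm ((χ j).smulRight (y j))) = 1 := by
      rw [← map_sum, show (∑ j, (χ j).smulRight (y j)) = 1 from LinearMap.ext fun z => by simpa using h' z,
        map_one]
    have key : ∀ k j, P (mk φ.symm (χ j) (u k)) (mk φ (ψ k) (y j)) =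
        ψ k (φ.symm ((χ j).smulRight (y j)) (u k)) := by
      intro k j
      show c _ = _
      rw [show ((mk φ.symm (χ j) (u k)).1.comp (mk φ (ψ k) (y j)).1) =
          ψ k (φ.symm ((χ j).smulRight (y j)) (u k)) • (1 : Module.End A F) from LinearMap.ext fun z => by
        show φ.symm ((χ j).smulRight (φ ((ψ k).smulRight z) (y j))) (u k) = _
        rw [show (χ j).smulRight (φ ((ψ k).smulRight z) (y j)) =
            φ ((ψ k).smulRight z) * (χ j).smulRight (y j) from by ext; simp,
          map_mul, φ.symm_apply_apply]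
        rfl, map_smul, hc1, smul_eq_mul, mul_one]
    simp only [key, ← map_sum, ← LinearMap.sum_apply, hid, Module.End.one_apply]
    exact h
  have hinj : ∀ t, t = μ t • t₀ := by
    intro t
    induction t using TensorProduct.induction_on with
    | zero => simp
    | add a b ha hb => rw [map_add, add_smul, ← ha, ← hb]
    | tmul η ξ =>
      suffices ∀ t, μ t • η ⊗ₜ[A] ξ = μ (η ⊗ₜ ξ) • t by rw [← this, ht₀, one_smul]
      intro t
      induction t using TensorProduct.induction_on with
      | zero => simp
      | add a b ha hb => rw [map_add, add_smul, ha, hb, smul_add]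
      | tmul η' ξ' =>
        have e1 : c (η'.1.comp ξ'.1) • ξ = c' (ξ.1.comp η'.1) • ξ' := Subtype.ext <| LinearMap.ext fun z => by
          show c _ • ξ.1 z = c' _ • ξ'.1 z
          rw [← map_smul, ← h₁, h₂]
        have e2 : c' (ξ.1.comp η'.1) • η = c (η.1.comp ξ.1) • η' := Subtype.ext <| LinearMap.ext fun z => by
          show c' _ • η.1 z = c _ • η'.1 z
          rw [← map_smul, ← h₂, h₁]
        show c _ • η ⊗ₜ[A] ξ = c _ • η' ⊗ₜ[A] ξ'
        rw [← TensorProduct.tmul_smul, e1, TensorProduct.tmul_smul, TensorProduct.smul_tmul', e2,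
          ← TensorProduct.smul_tmul']
  exact Module.Invertible.right (LinearEquiv.ofBijective μ
    ⟨fun a b h => by rw [hinj a, hinj b, h], fun a => ⟨a • t₀, by rw [map_smul, ht₀, smul_eq_mul, mul_one]⟩⟩)

end Morita


/-- In the case of an affine scheme — let A be a commutative ring, F and G finitely generated projective
A-modules of everywhere positive rank, and φ an A-algebra isomorphism from End_A(F) to End_A(G).
Then there are an invertible A-module L and an A-linear isomorphism ξ : F ⊗ L ≅ G which induces φ: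
for every endomorphism f of F, φ(f) = ξ ∘ (f ⊗ 1) ∘ ξ⁻¹. (The published statement is for finite
locally free modules of positive rank on any locally ringed site; this row is the case of the
Zariski site of Spec A, written in terms of modules.) -/
theorem result (A : Type u) [CommRing A]
    (F G : Type u) [AddCommGroup F] [Module A F] [Module.Finite A F] [Module.Projective A F] [Module.FaithfullyFlat A F]
    [AddCommGroup G] [Module A G] [Module.Finite A G] [Module.Projective A G] [Module.FaithfullyFlat A G]
    (φ : Module.End A F ≃ₐ[A] Module.End A G) :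
    ∃ (L : Type u) (_ : AddCommGroup L) (_ : Module A L), Module.Invertible A L ∧
      ∃ ξ : F ⊗[A] L ≃ₗ[A] G, ∀ f : Module.End A F, φ f = ξ.conj (TensorProduct.map f LinearMap.id) := by
  obtain ⟨n, x, ψ, h⟩ := exists_frame (A := A) (F := F)
  let ev : F ⊗[A] equi φ →ₗ[A] G := TensorProduct.lift ((equi φ).subtype.flip)
  let inv : G →ₗ[A] F ⊗[A] equi φ := ∑ i, (TensorProduct.mk A F (equi φ) (x i)).comp (mk φ (ψ i))
  have h₁ : ∀ y, ev (inv y) = y := fun y => by
    simp only [inv, LinearMap.sum_apply, map_sum, LinearMap.comp_apply]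
    show ∑ i, φ ((ψ i).smulRight (x i)) y = y
    rw [← LinearMap.sum_apply, ← map_sum,
      show (∑ i, (ψ i).smulRight (x i)) = 1 from LinearMap.ext fun z => by simpa using h z, map_one]
    rfl
  have h₂ : ∀ t, inv (ev t) = t := fun t => by
    induction t using TensorProduct.induction_on with
    | zero => simp
    | add a b ha hb => rw [map_add, map_add, ha, hb]
    | tmul z ξ =>
      have e : ∀ i, mk φ (ψ i) (ev (z ⊗ₜ ξ)) = ψ i z • ξ := fun i => Subtype.ext <| LinearMap.ext fun w => by
        show φ ((ψ i).smulRight w) (ξ.1 z) = ψ i z • ξ.1 w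
        rw [← ξ.2, LinearMap.smulRight_apply, map_smul]
      simp only [inv, LinearMap.sum_apply, LinearMap.comp_apply, e, TensorProduct.mk_apply,
        TensorProduct.tmul_smul, TensorProduct.smul_tmul', ← TensorProduct.sum_tmul, h]
  refine ⟨equi φ, inferInstance, inferInstance, invertible_equi φ,
    LinearEquiv.ofLinear ev inv (LinearMap.ext h₁) (LinearMap.ext h₂), fun f => LinearMap.ext fun y => ?_⟩
  obtain ⟨t, rfl⟩ : ∃ t, ev t = y := ⟨inv y, h₁ y⟩
  rw [LinearEquiv.conj_apply_apply]
  show φ f (ev t) = ev (TensorProduct.map f LinearMap.id (inv (ev t)))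
  rw [h₂]
  induction t using TensorProduct.induction_on with
  | zero => simp
  | add a b ha hb => rw [map_add, map_add, ha, hb, map_add, map_add]
  | tmul z ξ => exact (ξ.2 f z).symm


end Groth.Agent.S13795
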