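import Groth.Statements.S13796
import Groth.Agent.CSA.AzumayaTensorPower
import Groth.Agent.CSA.ProjDescent

set_option autoImplicit false
universe u
open scoped TensorProduct
open Brauer

namespace Groth.Agent.S13796

/-- In the case of an affine scheme — let R be a commutative ring and A an Azumaya R-algebra of constant
rank n². Then there exist a finitely generated projective R-module E of constant rank n^n and an
R-algebra isomorphism from the n-fold tensor power A ⊗ ⋯ ⊗ A to End_R(E) (existence of an
isomorphism only), so the Brauer class of A is n-torsion. For n = 0 the hypotheses force R = 0,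
where the statement holds trivially. (The published statement is for Azumaya algebras of constant
rank n² on any locally ringed site; this row is the case of the étale site of Spec R, written in
terms of modules: an Azumaya algebra here is one in the usual, étale-local sense.) -/
theorem result (R : Type u) [CommRing R] (A : Type u) [Ring A] [Algebra R A]
    [IsAzumaya R A] (n : ℕ) (hrk : ∀ p : PrimeSpectrum R, Module.rankAtStalk (R := R) A p = n ^ 2) :
    ∃ (E : Type u) (_ : AddCommGroup E) (_ : Module R E), Module.Finite R E ∧ Module.Projective R E ∧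
      (∀ p : PrimeSpectrum R, Module.rankAtStalk (R := R) E p = n ^ n) ∧
      Nonempty ((⨂[R] _ : Fin n, A) ≃ₐ[R] Module.End R E) := by
  classical
  rcases Nat.eq_zero_or_pos n with hn | hn
  · subst hn
    refine ⟨R, inferInstance, inferInstance, inferInstance, inferInstance, fun p => ?_, ⟨?_⟩⟩
    · haveI : Nontrivial R := p.nontrivial
      simp [Module.rankAtStalk_eq_finrank_of_free]
    · haveI := Groth.Agent.CSA.Azu.isAzumaya_piTensorProduct (R := R) A 0
      have hb : Function.Bijective (Algebra.ofId R (⨂[R] _ : Fin 0, A)) := by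
        have : ⇑(Algebra.ofId R (⨂[R] _ : Fin 0, A)) =
            (PiTensorProduct.isEmptyEquiv (R := R) (s := fun _ : Fin 0 => A) (Fin 0)).symm :=
          funext fun r => by
          rw [Algebra.ofId_apply, Algebra.algebraMap_eq_smul_one, PiTensorProduct.isEmptyEquiv]
          show r • (1 : ⨂[R] _ : Fin 0, A) = r • PiTensorProduct.tprod R isEmptyElim
          rw [PiTensorProduct.one_def]
          congr 2
          exact Subsingleton.elim _ _
        rw [this]
        exact LinearEquiv.bijective _
      have hl : Function.Bijective (Algebra.lmul R R) :=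
        ⟨fun a b h => by simpa using LinearMap.congr_fun h 1,
          fun g => ⟨g 1, LinearMap.ext fun x => by
            rw [Algebra.coe_lmul_eq_mul, LinearMap.mul_apply', mul_comm, ← smul_eq_mul, ← map_smul,
              smul_eq_mul, mul_one]⟩⟩
      exact (AlgEquiv.ofBijective _ hb).symm.trans (AlgEquiv.ofBijective _ hl)
  obtain ⟨S, hS₁, hS₂, hS₃, ⟨φ⟩⟩ := Groth.Agent.CSA.Azu.exists_global_splitting R A n hrk
  let f : A →ₐ[R] Matrix (Fin n) (Fin n) S :=
    (φ.toAlgHom.restrictScalars R).comp Algebra.TensorProduct.includeRight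
  have hf : ∀ a, f a = φ (1 ⊗ₜ a) := fun _ => rfl
  obtain ⟨z, hz⟩ := Groth.Agent.CSA.Azu.exists_asym A hn S φ f hf
  let P := ⨂[R] _ : Fin n, A
  let Φ := Groth.Agent.CSA.Azu.piHomS f
  have hΦi : Function.Injective Φ := Groth.Agent.CSA.Azu.injective_piHomS S A f
  have hΦs : Function.Surjective Φ := Groth.Agent.CSA.Azu.piHomS_surjective φ f hf
  haveI := Groth.Agent.CSA.Azu.isAzumaya_piTensorProduct (R := R) A n
  let ψ := Groth.Agent.CSA.Azu.piHom f
  let c := Groth.Agent.CSA.Azu.sgnVec S n
  have hc : c id = 1 := Groth.Agent.CSA.Azu.sgnVec_id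
  let E : Submodule R P := LinearMap.range (LinearMap.mulRight R z)
  let col : Matrix (Fin n → Fin n) (Fin n → Fin n) S →ₗ[S] ((Fin n → Fin n) → S) :=
    { toFun := fun X I => X I id, map_add' := fun _ _ => rfl, map_smul' := fun _ _ => rfl }
  let κ : S ⊗[R] E →ₗ[S] ((Fin n → Fin n) → S) :=
    col ∘ₗ Φ.toLinearMap ∘ₗ E.subtype.baseChange S
  have hrank1 : ∀ X : Matrix (Fin n → Fin n) (Fin n → Fin n) S,
      X * Groth.Agent.CSA.Azu.asymM S n = Matrix.vecMulVec (Matrix.mulVec X c) c := fun X =>
    Matrix.mul_vecMulVec X c c
  have hκ : ∀ p (s : S) (e : E), (e : P) = p * z →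
      κ (s ⊗ₜ e) = s • Matrix.mulVec (ψ p) c := fun p s e he => by
    show col (Φ (s ⊗ₜ (e : P))) = _
    rw [Groth.Agent.CSA.Azu.piHomS_tmul, map_smul, he, map_mul, hz, hrank1]
    congr 1
    funext I
    show Matrix.vecMulVec (Matrix.mulVec (ψ p) c) c I id = Matrix.mulVec (ψ p) c I
    rw [Matrix.vecMulVec_apply, hc, mul_one]
  have hvec : ∀ t, Φ (E.subtype.baseChange S t) = Matrix.vecMulVec (κ t) c := fun t => by
    induction t using TensorProduct.induction_on with
    | zero => simp
    | add a b ha hb => rw [map_add, map_add, map_add, ha, hb, Matrix.add_vecMulVec]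
    | tmul s e =>
      obtain ⟨p, hp⟩ := e.2
      rw [hκ p s e hp.symm, LinearMap.baseChange_tmul, Submodule.subtype_apply,
        Groth.Agent.CSA.Azu.piHomS_tmul, ← hp, LinearMap.mulRight_apply, map_mul, hz, hrank1,
        Matrix.smul_vecMulVec]
  have hκi : Function.Injective κ := fun a b hab => by
    refine Module.Flat.lTensor_preserves_injective_linearMap (M := S) _ E.injective_subtype ?_
    show E.subtype.baseChange S a = E.subtype.baseChange S b
    apply hΦi
    rw [hvec, hvec, hab]
  have hκs : Function.Surjective κ := fun v => by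
    obtain ⟨y, hy⟩ := hΦs (Matrix.vecMulVec v (Pi.single id 1))
    have key : ∀ y, κ ((LinearMap.mulRight R z).rangeRestrict.baseChange S y) =
        Matrix.mulVec (Φ y) c := fun y => by
      induction y using TensorProduct.induction_on with
      | zero => simp
      | add a b ha hb => rw [map_add, map_add, map_add, ha, hb, Matrix.add_mulVec]
      | tmul s p =>
        rw [LinearMap.baseChange_tmul, hκ p s _ rfl, Groth.Agent.CSA.Azu.piHomS_tmul, Matrix.smul_mulVec]
    refine ⟨_, (key y).trans ?_⟩
    rw [hy, Matrix.vecMulVec_mulVec]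
    funext I
    simp [hc]
  let κe := LinearEquiv.ofBijective κ ⟨hκi, hκs⟩
  haveI : Module.Free S (S ⊗[R] E) := Module.Free.of_equiv κe.symm
  haveI : Module.Finite S (S ⊗[R] E) := Module.Finite.equiv κe.symm
  obtain ⟨hEf, hEp⟩ := Groth.Agent.CSA.Azu.finite_projective_of_baseChange R S E
  let g : P →ₐ[R] Module.End R E :=
    { toFun := fun x =>
        { toFun := fun e => ⟨x * e, by
            obtain ⟨p, hp⟩ := e.2
            exact ⟨x * p, by rw [← hp, LinearMap.mulRight_apply, LinearMap.mulRight_apply, mul_assoc]⟩⟩
          map_add' := fun a b => Subtype.ext (mul_add x (a : P) b)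
          map_smul' := fun r a => Subtype.ext (mul_smul_comm r x (a : P)) }
      map_one' := LinearMap.ext fun e => Subtype.ext (one_mul (e : P))
      map_mul' := fun a b => LinearMap.ext fun e => Subtype.ext (mul_assoc a b (e : P))
      map_zero' := LinearMap.ext fun e => Subtype.ext (zero_mul (e : P))
      map_add' := fun a b => LinearMap.ext fun e => Subtype.ext (add_mul a b (e : P))
      commutes' := fun r => LinearMap.ext fun e => Subtype.ext (Algebra.smul_def r (e : P)).symm }
  have hact : ∀ y t, κ (LinearMap.tensorProductEnd R S E (g.toLinearMap.baseChange S y) t) =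
      Matrix.mulVec (Φ y) (κ t) := fun y t => by
    induction y using TensorProduct.induction_on with
    | zero => simp
    | add a b ha hb => simp only [map_add, LinearMap.add_apply, ha, hb, Matrix.add_mulVec]
    | tmul s x =>
      induction t using TensorProduct.induction_on with
      | zero => simp
      | add a b ha hb => simp only [map_add, ha, hb, Matrix.mulVec_add]
      | tmul s' e =>
        obtain ⟨p, hp⟩ := e.2
        rw [LinearMap.baseChange_tmul, Groth.Agent.CSA.Azu.tensorProductEnd_tmul, hκ p s' e hp.symm, AlgHom.toLinearMap_apply,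
          hκ (x * p) _ (g x e) (show x * (e : P) = _ by rw [← hp, LinearMap.mulRight_apply, mul_assoc]),
          Groth.Agent.CSA.Azu.piHomS_tmul, map_mul, Matrix.smul_mulVec, Matrix.mulVec_smul,
          Matrix.mulVec_mulVec, smul_smul]
  have hinj : Function.Injective g := (injective_iff_map_eq_zero g).2 fun x hx => by
    refine Module.FaithfullyFlat.tensorProduct_mk_injective (A := R) (B := S) P ?_
    show (1 : S) ⊗ₜ[R] x = (1 : S) ⊗ₜ[R] (0 : P)
    apply hΦi
    rw [TensorProduct.tmul_zero, map_zero]
    have h0 : ∀ v, Matrix.mulVec (Φ ((1 : S) ⊗ₜ x)) v = 0 := fun v => by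
      obtain ⟨t, rfl⟩ := hκs v
      rw [← hact, LinearMap.baseChange_tmul, AlgHom.toLinearMap_apply, hx, TensorProduct.tmul_zero]
      simp
    exact Matrix.ext fun I J => by simpa using congr_fun (h0 (Pi.single J 1)) I
  have hsurj : Function.Surjective g := by
    refine (Module.FaithfullyFlat.lTensor_surjective_iff_surjective (N := P) (N' := Module.End R E) R S g.toLinearMap).1 fun t => ?_
    obtain ⟨y, hy⟩ := hΦs (LinearMap.toMatrix'
      (κe.toLinearMap ∘ₗ LinearMap.tensorProductEnd R S E t ∘ₗ κe.symm.toLinearMap))
    refine ⟨y, (Groth.Agent.CSA.Azu.bijective_tensorProductEnd R S E).1 (LinearMap.ext fun m => hκi ?_)⟩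
    show κ (LinearMap.tensorProductEnd R S E (g.toLinearMap.baseChange S y) m) = _
    rw [hact, hy, LinearMap.toMatrix'_mulVec]
    show κe (LinearMap.tensorProductEnd R S E t (κe.symm (κe m))) = _
    rw [LinearEquiv.symm_apply_apply]
    rfl
  refine ⟨E, inferInstance, inferInstance, hEf, hEp, fun p => ?_,
    ⟨AlgEquiv.ofBijective g ⟨hinj, hsurj⟩⟩⟩
  obtain ⟨q, hq⟩ := PrimeSpectrum.comap_surjective_of_faithfullyFlat (A := R) (B := S) p
  haveI : Nontrivial S := q.nontrivial
  have h := Module.rankAtStalk_baseChange (R := R) (S := S) (M := E) q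
  rw [hq, Module.rankAtStalk_eq_finrank_of_free, Pi.natCast_apply, κe.finrank_eq] at h
  rw [← h]
  simp

end Groth.Agent.S13796
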