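import Groth.Statements.S13797
import Groth.Agent.S13795
import Mathlib
-- import your own Groth.Agent.* helpers here

set_option autoImplicit false
universe u v
open scoped TensorProduct
open Brauer

namespace Groth.Agent.S13797

open scoped TensorProduct

variable {A : Type u} [CommRing A] {n : ℕ}

theorem mem_ker_iff (α : Matrix (Fin n) (Fin n) A ≃ₐ[A] Matrix (Fin n) (Fin n) A) (M : Matrix (Fin n) (Fin n) A) :
    M ∈ LinearMap.ker (LinearMap.mul A (Matrix (Fin n) (Fin n) A) -
      (LinearMap.lcomp A (Matrix (Fin n) (Fin n) A) α.toLinearMap).comp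
        (LinearMap.mul A (Matrix (Fin n) (Fin n) A)).flip) ↔ ∀ N, M * N = α N * M := by
  rw [LinearMap.mem_ker, LinearMap.sub_apply, sub_eq_zero]
  exact ⟨fun h N => LinearMap.congr_fun h N, fun h => LinearMap.ext h⟩

/-- `Mat_n(A)`-equivariant endomorphisms of `A^n` as twisted commutant matrices. -/
noncomputable def conjEnd (α : Matrix (Fin n) (Fin n) A ≃ₐ[A] Matrix (Fin n) (Fin n) A) :
    Module.End A (Fin n → A) ≃ₐ[A] Module.End A (Fin n → A) :=
  algEquivMatrix'.trans (α.trans algEquivMatrix'.symm)

theorem invertible_piTensor {L : Type v} [AddCommGroup L] [Module A L] [Module.Invertible A L] :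
    ∀ k : ℕ, Module.Invertible A (⨂[A] _ : Fin k, L)
  | 0 => Module.Invertible.congr (PiTensorProduct.isEmptyEquiv (Fin 0)).symm
  | k + 1 => by
    haveI := invertible_piTensor (L := L) k
    refine Module.Invertible.congr (R := A) (M := L ⊗[A] (⨂[A] _ : Fin k, L)) ?_
    let e₁ : (⨂[A] _ : Fin 1, L) ≃ₗ[A] L := PiTensorProduct.subsingletonEquiv (s := fun _ : Fin 1 => L) 0
    let e₂ : (⨂[A] _ : Fin 1, L) ⊗[A] (⨂[A] _ : Fin k, L) ≃ₗ[A] ⨂[A] _ : Fin 1 ⊕ Fin k, L :=
      PiTensorProduct.tmulEquiv A L
    let e₃ : (⨂[A] _ : Fin 1 ⊕ Fin k, L) ≃ₗ[A] ⨂[A] _ : Fin (k + 1), L :=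
      PiTensorProduct.reindex A (fun _ => L) ((finSumFinEquiv).trans (finCongr (by omega)))
    let e₀ : L ⊗[A] (⨂[A] _ : Fin k, L) ≃ₗ[A] (⨂[A] _ : Fin 1, L) ⊗[A] (⨂[A] _ : Fin k, L) :=
      TensorProduct.congr e₁.symm (LinearEquiv.refl A _)
    exact (e₀.trans e₂).trans e₃


/-- In the case of an affine scheme — let A be a commutative ring, n ≥ 1 and α an A-algebra automorphism
of the n × n matrix algebra over A. The A-module L of matrices M with M N = α(N) M for every matrix
N (the module of sections of the line bundle attached to the torsor of liftings of α to GL_n) is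
invertible, and its class in the Picard group of A is n-torsion: the n-fold tensor power of L is
isomorphic to A (existence of an isomorphism only). (The published statement is for an automorphism
of End(O^n) on any locally ringed site, in the form: the sheaf of liftings is a 𝔾_m-torsor whose
class in Pic is n-torsion; this row is the affine case.) -/
theorem result (A : Type u) [CommRing A] (n : ℕ) (hn : 0 < n)
    (α : Matrix (Fin n) (Fin n) A ≃ₐ[A] Matrix (Fin n) (Fin n) A) :
    Module.Invertible A
        (LinearMap.ker (LinearMap.mul A (Matrix (Fin n) (Fin n) A) -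
          (LinearMap.lcomp A (Matrix (Fin n) (Fin n) A) α.toLinearMap).comp (LinearMap.mul A (Matrix (Fin n) (Fin n) A)).flip)) ∧
      Nonempty ((⨂[A] _ : Fin n,
          LinearMap.ker (LinearMap.mul A (Matrix (Fin n) (Fin n) A) -
            (LinearMap.lcomp A (Matrix (Fin n) (Fin n) A) α.toLinearMap).comp (LinearMap.mul A (Matrix (Fin n) (Fin n) A)).flip)) ≃ₗ[A] A) := by
  classical
  haveI : Nonempty (Fin n) := ⟨⟨0, hn⟩⟩
  haveI : Module.FaithfullyFlat A (Fin n → A) :=
    Module.FaithfullyFlat.of_linearEquiv _ _ (Finsupp.linearEquivFunOnFinite A A (Fin n)).symm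
  let L := LinearMap.ker (LinearMap.mul A (Matrix (Fin n) (Fin n) A) -
    (LinearMap.lcomp A (Matrix (Fin n) (Fin n) A) α.toLinearMap).comp
      (LinearMap.mul A (Matrix (Fin n) (Fin n) A)).flip)
  let φ := conjEnd α
  let T : L →ₗ[A] Groth.Agent.S13795.equi φ :=
    { toFun := fun M => ⟨Matrix.toLin' M.1, fun f z => by
        show Matrix.toLin' M.1 (f z) = Matrix.toLin' (α (LinearMap.toMatrix' f)) (Matrix.toLin' M.1 z)
        rw [← LinearMap.comp_apply (Matrix.toLin' (α _)), ← Matrix.toLin'_mul,
          ← (mem_ker_iff α M.1).1 M.2, Matrix.toLin'_mul, Matrix.toLin'_toMatrix', LinearMap.comp_apply]⟩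
      map_add' := fun a b => Subtype.ext (map_add Matrix.toLin' a.1 b.1)
      map_smul' := fun c a => Subtype.ext (map_smul Matrix.toLin' c a.1) }
  have hT : Function.Bijective T := by
    refine ⟨fun a b h => Subtype.ext (Matrix.toLin'.injective (congrArg Subtype.val h)), fun ξ => ?_⟩
    refine ⟨⟨LinearMap.toMatrix' ξ.1, (mem_ker_iff α _).2 fun N => ?_⟩, Subtype.ext (Matrix.toLin'_toMatrix' _)⟩
    apply Matrix.toLin'.injective
    rw [Matrix.toLin'_mul, Matrix.toLin'_mul, Matrix.toLin'_toMatrix']
    refine LinearMap.ext fun z => ?_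
    have h : ξ.1 (Matrix.toLin' N z) = Matrix.toLin' (α (LinearMap.toMatrix' (Matrix.toLin' N))) (ξ.1 z) :=
      ξ.2 _ z
    rw [LinearMap.toMatrix'_toLin'] at h
    exact h
  haveI := Groth.Agent.S13795.invertible_equi φ
  haveI hL : Module.Invertible A L := Module.Invertible.congr (LinearEquiv.ofBijective T hT).symm
  refine ⟨hL, ?_⟩
  -- the determinant
  let D : MultilinearMap A (fun _ : Fin n => L) A :=
    (Matrix.detRowAlternating (R := A) (n := Fin n)).toMultilinearMap.compLinearMap fun j =>
      (LinearMap.proj j).comp ((Matrix.transposeLinearEquiv (Fin n) (Fin n) A A).toLinearMap.comp L.subtype)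
  let δ : (⨂[A] _ : Fin n, L) →ₗ[A] A := PiTensorProduct.lift D
  have hδ : ∀ M : L, δ (PiTensorProduct.tprod A fun _ => M) = M.1.det := fun M => by
    rw [show δ (PiTensorProduct.tprod A fun _ => M) = D fun _ => M from PiTensorProduct.lift.tprod _]
    show Matrix.det M.1.transpose = _
    rw [Matrix.det_transpose]
  have hsurj : Function.Surjective δ := by
    rw [← LinearMap.range_eq_top]
    by_contra hne
    obtain ⟨m, hm, hle⟩ := Ideal.exists_le_maximal _ hne
    letI : Field (A ⧸ m) := Ideal.Quotient.field m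
    let π : A →+* A ⧸ m := Ideal.Quotient.mk m
    -- some element of `L` is nonzero modulo `m`
    obtain ⟨M, hM⟩ : ∃ M : L, M.1.map π ≠ 0 := by
      by_contra hc
      push Not at hc
      obtain ⟨k, x, ψ, hx⟩ := Groth.Agent.S13795.exists_frame (A := A) (F := Fin n → A)
      let i₀ : Fin n := ⟨0, hn⟩
      have he : ∀ y : Fin n → A, ∀ i, π (y i) = 0 := by
        intro y i
        have h1 : ∑ j, (Groth.Agent.S13795.mk φ (ψ j) y).1 (x j) = y := by
          show ∑ j, φ ((ψ j).smulRight (x j)) y = y
          rw [← LinearMap.sum_apply, ← map_sum,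
            show (∑ j, (ψ j).smulRight (x j)) = 1 from LinearMap.ext fun z => by simpa using hx z, map_one]
          rfl
        rw [← h1, Finset.sum_apply, map_sum]
        refine Finset.sum_eq_zero fun j _ => ?_
        obtain ⟨M, hM⟩ := hT.2 (Groth.Agent.S13795.mk φ (ψ j) y)
        rw [← hM]
        show π (Matrix.toLin' M.1 (x j) i) = 0
        rw [Matrix.toLin'_apply, RingHom.map_mulVec, hc M]
        simp
      have := he (Pi.single i₀ 1) i₀
      rw [Pi.single_eq_same, map_one] at this
      exact one_ne_zero this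
    -- hence invertible modulo `m`
    have hdet : (M.1.map π).det ≠ 0 := by
      intro h0
      obtain ⟨v, hv, hMv⟩ := Matrix.exists_mulVec_eq_zero_iff.2 h0
      obtain ⟨a, ha⟩ : ∃ a, v a ≠ 0 := Function.ne_iff.1 hv
      apply hM
      ext i j
      have hN : ((Matrix.single j a (1 : A)).map π).mulVec v = v a • Pi.single j 1 := by
        rw [Matrix.map_single, map_one]
        ext b
        simp [Matrix.mulVec, dotProduct, Matrix.single_apply, Pi.single_apply, eq_comm]
        by_cases hjb : j = b <;> simp [hjb]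
      have h := congrArg (fun N => (N.map π).mulVec v) ((mem_ker_iff α M.1).1 M.2 (Matrix.single j a (1 : A)))
      simp only [Matrix.map_mul, ← Matrix.mulVec_mulVec, hMv, Matrix.mulVec_zero, hN, Matrix.mulVec_smul] at h
      have h' := congrFun h i
      simpa [ha] using h'
    apply hdet
    rw [← RingHom.mapMatrix_apply, ← RingHom.map_det, Ideal.Quotient.eq_zero_iff_mem, ← hδ]
    exact hle ⟨_, rfl⟩
  haveI : ∀ k, Module.Invertible A (⨂[A] _ : Fin k, L) := fun k => invertible_piTensor k
  exact ⟨LinearEquiv.ofBijective δ (Module.Invertible.bijective_of_surjective hsurj)⟩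


end Groth.Agent.S13797
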