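import Groth.Statements.S13798
import Groth.Agent.TorusUnits.Scheme
-- import your own Groth.Agent.* helpers here

set_option autoImplicit false
universe u
open CategoryTheory CategoryTheory.Limits AlgebraicGeometry Opposite
open Curves

namespace Groth.Agent.S13798

/-- Units on tori: let X be an integral scheme and P = X × 𝔾_mⁿ, the product with the n-dimensional
split torus Spec ℤ[ℤⁿ] = Spec ℤ[t₁^±, …, t_n^±]. The canonical map Γ(X, O_X)ˣ × ℤⁿ → Γ(P, O_P)ˣ, (u,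
e) ↦ pr₁^*(u) · pr₂^*(t^e), is an isomorphism: every invertible global function on P is uniquely of
this form. -/
theorem result (X : Scheme.{u}) [IsIntegral X] (n : ℕ)
    (v : Γ(X ⨯ Spec (CommRingCat.of (ULift.{u} (AddMonoidAlgebra ℤ (Fin n → ℤ)))), ⊤)) (hv : IsUnit v) :
    ∃! p : (Γ(X, ⊤))ˣ × (Fin n → ℤ),
      v = (prod.fst : X ⨯ Spec (CommRingCat.of (ULift.{u} (AddMonoidAlgebra ℤ (Fin n → ℤ)))) ⟶ X).appTop (p.1 : Γ(X, ⊤)) *
        (prod.snd : X ⨯ Spec (CommRingCat.of (ULift.{u} (AddMonoidAlgebra ℤ (Fin n → ℤ)))) ⟶ Spec (CommRingCat.of (ULift.{u} (AddMonoidAlgebra ℤ (Fin n → ℤ))))).appTop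
          ((Scheme.ΓSpecIso (CommRingCat.of (ULift.{u} (AddMonoidAlgebra ℤ (Fin n → ℤ))))).inv (ULift.up (AddMonoidAlgebra.single p.2 1))) := by
  classical
  let M := Fin n → ℤ
  let P := X ⨯ Groth.Agent.TorusUnits.T.{u} M
  let εX := Groth.Agent.TorusUnits.ε M X
  let u := εX.appTop v
  have hu : IsUnit u := hv.map εX.appTop.hom
  let g : M → Γ(P, ⊤) := fun e => (prod.snd : P ⟶ Groth.Agent.TorusUnits.T.{u} M).appTop (Groth.Agent.TorusUnits.mon M e)
  let pr : Γ(X, ⊤) → Γ(P, ⊤) := fun a => (prod.fst : P ⟶ X).appTop a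
  have hpull : ∀ (U : X.Opens), U ≤ εX ⁻¹ᵁ Groth.Agent.TorusUnits.W M X U := by
    intro U x hx
    show (prod.fst : P ⟶ X) (εX x) ∈ U
    rw [← Scheme.Hom.comp_apply]
    have : εX ≫ prod.fst = 𝟙 X := prod.lift_fst _ _
    rw [this]
    exact hx
  -- restrictions of the standard sections
  let r : (U : X.Opens) → Γ(P, ⊤) → Γ(P, Groth.Agent.TorusUnits.W M X U) :=
    fun U => P.presheaf.map (homOfLE le_top).op
  have hr : ∀ (U : X.Opens) (a : Γ(X, ⊤)) (e : M), r U (pr a * g e) =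
      Groth.Agent.TorusUnits.Φ M X U (AddMonoidAlgebra.single e (X.presheaf.map (homOfLE le_top).op a)) := by
    intro U a e
    rw [Groth.Agent.TorusUnits.Φ_single]
    show P.presheaf.map _ _ = _
    rw [map_mul]
    congr 1
    rw [← CommRingCat.comp_apply (X.presheaf.map _), Scheme.Hom.map_appLE]
    rfl
  have hεmon : ∀ e, εX.appTop (g e) = 1 := fun e => Groth.Agent.TorusUnits.ε_mon M X e
  have hεpr : ∀ a, εX.appTop (pr a) = a := fun a => by
    show ((prod.fst : P ⟶ X).appTop ≫ εX.appTop) a = a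
    rw [← Scheme.Hom.comp_appTop]
    have : εX ≫ prod.fst = 𝟙 X := prod.lift_fst _ _
    rw [this]
    rfl
  -- on each nonempty affine, `v` is a monomial
  have hloc : ∀ U : X.Opens, IsAffineOpen U → Nonempty U → ∃ e : M, r U v = r U (pr u * g e) := by
    intro U hU hne
    obtain ⟨hinj, hsurj⟩ := Groth.Agent.TorusUnits.Φ_injective M X hU
    obtain ⟨f, hf⟩ := hsurj (r U v)
    have hfu : IsUnit f := by
      have h1 : IsUnit (Groth.Agent.TorusUnits.Φ M X U f) := by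
        rw [hf]; exact hv.map (P.presheaf.map _).hom
      have h2 := h1.map (RingEquiv.ofBijective _ ⟨hinj, hsurj⟩).symm
      rwa [show (RingEquiv.ofBijective _ ⟨hinj, hsurj⟩).symm (Groth.Agent.TorusUnits.Φ M X U f) = f
        from (RingEquiv.ofBijective _ ⟨hinj, hsurj⟩).symm_apply_apply f] at h2
    haveI := hne
    obtain ⟨e, a, -, rfl⟩ := Groth.Agent.TorusUnits.exists_eq_single_of_isUnit hfu
    refine ⟨e, ?_⟩
    rw [hr, ← hf]
    congr 2
    have key := congrArg (εX.appLE (Groth.Agent.TorusUnits.W M X U) U (hpull U)) hf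
    rw [Groth.Agent.TorusUnits.Φ_single, map_mul, Groth.Agent.TorusUnits.ε_resX] at key
    have h1 : (εX.appLE (Groth.Agent.TorusUnits.W M X U) U (hpull U))
        (Groth.Agent.TorusUnits.resT M X U (Groth.Agent.TorusUnits.mon M e)) = 1 := by
      have h2 : X.presheaf.map (homOfLE (le_top : U ≤ ⊤)).op (εX.appTop (g e)) = 1 := by
        rw [hεmon, map_one]
      rw [← h2]
      show (_ ≫ εX.appLE _ _ _) _ = (((prod.snd : P ⟶ Groth.Agent.TorusUnits.T.{u} M).appTop ≫ εX.appTop) ≫ X.presheaf.map _) _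
      rw [Scheme.Hom.appLE_comp_appLE, ← Scheme.Hom.comp_appTop]
      rfl
    rw [h1, mul_one] at key
    rw [key]
    show (P.presheaf.map _ ≫ εX.appLE _ _ _) v = (εX.appTop ≫ X.presheaf.map _) v
    rw [Scheme.Hom.map_appLE]
    rfl
  have hinj' : ∀ U : X.Opens, IsAffineOpen U → Nonempty U → ∀ (a b : Γ(X, ⊤)) (e e' : M), IsUnit a →
      r U (pr a * g e) = r U (pr b * g e') → e = e' := by
    intro U hU hne a b e e' ha h
    rw [hr, hr] at h
    haveI := hne
    rcases (Finsupp.single_eq_single_iff _ _ _ _).1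
      (congrArg AddMonoidAlgebra.coeff ((Groth.Agent.TorusUnits.Φ_injective M X hU).1 h)) with h' | h'
    · exact h'.1
    · exact absurd h'.1 (ha.map (X.presheaf.map (homOfLE (le_top : U ≤ ⊤)).op).hom).ne_zero
  obtain ⟨x₀⟩ := (inferInstance : Nonempty X)
  obtain ⟨_, ⟨U₀, hU₀, rfl⟩, hxU₀, -⟩ :=
    X.isBasis_affineOpens.exists_subset_of_mem_open (Set.mem_univ x₀) isOpen_univ
  obtain ⟨e₀, he₀⟩ := hloc U₀ hU₀ ⟨⟨x₀, hxU₀⟩⟩
  have hconst : ∀ U : X.Opens, IsAffineOpen U → Nonempty U → r U v = r U (pr u * g e₀) := by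
    intro U hU hne
    obtain ⟨e, he⟩ := hloc U hU hne
    obtain ⟨z, hz⟩ := nonempty_preirreducible_inter U.2 U₀.2 (by
      obtain ⟨⟨y, hy⟩⟩ := hne; exact ⟨y, hy⟩) ⟨x₀, hxU₀⟩
    obtain ⟨_, ⟨V, hV, rfl⟩, hzV, hVle⟩ :=
      X.isBasis_affineOpens.exists_subset_of_mem_open hz (U.2.inter U₀.2)
    have hVU : V ≤ U := fun y hy => (hVle hy).1
    have hVU₀ : V ≤ U₀ := fun y hy => (hVle hy).2
    have hres : ∀ (U' : X.Opens) (_ : V ≤ U') (w w' : Γ(P, ⊤)), r U' w = r U' w' → r V w = r V w' := by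
      intro U' hle w w' hw
      have := congrArg (P.presheaf.map (homOfLE (Scheme.Hom.preimage_mono _ hle :
        Groth.Agent.TorusUnits.W M X V ≤ Groth.Agent.TorusUnits.W M X U')).op) hw
      simp only [r, ← CommRingCat.comp_apply, ← Functor.map_comp] at this
      exact this
    have hee : e = e₀ := hinj' V hV ⟨⟨z, hzV⟩⟩ u u e e₀ hu
      ((hres U hVU _ _ he).symm.trans (hres U₀ hVU₀ _ _ he₀))
    rw [he, hee]
  have hvu : v = pr u * g e₀ := by
    refine TopCat.Sheaf.eq_of_locally_eq' P.sheaf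
      (fun U : {U : X.Opens // IsAffineOpen U ∧ Nonempty U} => Groth.Agent.TorusUnits.W M X U.1) ⊤
      (fun U => homOfLE le_top) ?_ v _ fun U => hconst U.1 U.2.1 U.2.2
    intro p _
    obtain ⟨_, ⟨U, hU, rfl⟩, hxU, -⟩ := X.isBasis_affineOpens.exists_subset_of_mem_open
      (Set.mem_univ ((prod.fst : P ⟶ X) p)) isOpen_univ
    exact TopologicalSpace.Opens.mem_iSup.2 ⟨⟨U, hU, ⟨⟨_, hxU⟩⟩⟩, hxU⟩
  refine ⟨(hu.unit, e₀), hvu, ?_⟩
  rintro ⟨u', e'⟩ h'
  have h'' : v = pr (u' : Γ(X, ⊤)) * g e' := h'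
  have hu' : (u' : Γ(X, ⊤)) = u := by
    show _ = εX.appTop v
    rw [h'', map_mul, hεpr, hεmon, mul_one]
  have he' : e' = e₀ := hinj' U₀ hU₀ ⟨⟨x₀, hxU₀⟩⟩ u' u e' e₀ u'.isUnit (by rw [← h'', hvu])
  exact Prod.ext (Units.ext hu') he'

end Groth.Agent.S13798
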