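import Mathlib
import Groth.Statements.S13801
-- import your own Groth.Agent.* helpers here

set_option autoImplicit false
open ChowMon

namespace Groth.Agent.S13801

/-- For a prime p and positive natural numbers a_1, ..., a_k with sum n one has v_p(a_1!) + ... +
v_p(a_k!) ≤ v_p(n!), and the inequality is strict whenever some a_i is not divisible by p^(v_p(n)). -/
theorem result {k : ℕ} (p : ℕ) [Fact p.Prime]
    (a : Fin k → ℕ) (ha : ∀ i, 0 < a i) :
    (∑ i, padicValNat p (a i).factorial ≤ padicValNat p (∑ i, a i).factorial) ∧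
      ((∃ i, ¬ p ^ padicValNat p (∑ j, a j) ∣ a i) →
        ∑ i, padicValNat p (a i).factorial < padicValNat p (∑ i, a i).factorial) := by
  classical
  set n := ∑ i, a i with hn
  have hv : ∀ {x y : ℕ}, x ∣ y → y ≠ 0 → padicValNat p x ≤ padicValNat p y := fun {x y} h hy =>
    (padicValNat_dvd_iff_le hy).1 (dvd_trans pow_padicValNat_dvd h)
  have hprod : ∀ s : Finset (Fin k), padicValNat p (∏ i ∈ s, (a i).factorial) = ∑ i ∈ s, padicValNat p (a i).factorial := by
    intro s
    induction s using Finset.induction_on with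
    | empty => simp
    | insert i s hi ih => rw [Finset.prod_insert hi, Finset.sum_insert hi, padicValNat.mul (Nat.factorial_ne_zero _) (Finset.prod_ne_zero_iff.2 fun j _ => Nat.factorial_ne_zero _), ih]
  have hle : ∀ s : Finset (Fin k), ∑ i ∈ s, padicValNat p (a i).factorial ≤ padicValNat p (∑ i ∈ s, a i).factorial := fun s => by
    rw [← hprod s]
    exact hv (Nat.prod_factorial_dvd_factorial_sum s a) (Nat.factorial_ne_zero _)
  refine ⟨hle Finset.univ, ?_⟩
  rintro ⟨i, hi⟩
  have hin : a i ≤ n := Finset.single_le_sum (fun j _ => Nat.zero_le (a j)) (Finset.mem_univ i)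
  have hni : n - a i = ∑ j ∈ Finset.univ.erase i, a j := by
    rw [hn, ← Finset.add_sum_erase _ _ (Finset.mem_univ i), Nat.add_sub_cancel_left]
  have hC : 0 < padicValNat p (n.choose (a i)) := by
    by_contra h0
    push Not at h0
    have ha0 := ha i
    obtain ⟨b, hb⟩ := Nat.exists_eq_succ_of_ne_zero ha0.ne'
    obtain ⟨N, hN⟩ := Nat.exists_eq_succ_of_ne_zero (show n ≠ 0 by omega)
    have h1 := Nat.add_one_mul_choose_eq N b
    have e : padicValNat p n + padicValNat p (N.choose b) = padicValNat p (n.choose (a i)) + padicValNat p (a i) := by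
      rw [← padicValNat.mul (by omega) (Nat.choose_pos (show b ≤ N by omega)).ne', ← padicValNat.mul (Nat.choose_pos hin).ne' ha0.ne', hN, hb]
      exact congrArg _ h1
    exact hi ((padicValNat_dvd_iff_le ha0.ne').2 (by omega))
  have h2 := Nat.choose_mul_factorial_mul_factorial hin
  rw [← h2, padicValNat.mul (Nat.mul_ne_zero (Nat.choose_pos hin).ne' (Nat.factorial_ne_zero _)) (Nat.factorial_ne_zero _),
    padicValNat.mul (Nat.choose_pos hin).ne' (Nat.factorial_ne_zero _), ← Finset.add_sum_erase _ _ (Finset.mem_univ i)]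
  have := hle (Finset.univ.erase i)
  rw [← hni] at this
  omega

end Groth.Agent.S13801
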