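import Groth.Statements.S13807
import Groth.Agent.Eta.Basic

set_option autoImplicit false
universe u
open EtaPt

namespace Groth.Agent.S13807

/-- For a field K the pointwise ring M_η(K) is all of N_η(K) = F(k((0))). Here η is a natural
transformation from the identity of the category of fields to an endofunctor F with F(η_K) bijective
and η_K purely inseparable for every field K, N_η(A) is the product of the F(k(p)) over the primes p
of A with diagonal map t_A, and M_η(A) ⊆ N_η(A) is the subring of elements sent into the range of
t_R by every ring map from A to a valuation ring R at whose fraction field η is bijective; q_A : A →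
M_η(A) is the corestriction of t_A. -/
theorem result (η : EtaPt.FieldEndo.{u}) (K : Type u) [Field K] : η.M K = ⊤ := by
  refine eq_top_iff.mpr fun x _ => (Eta.mem_M_iff η).mpr ?_
  intro R _ _ _ hR g
  have hR' : Function.Bijective (η.eta (FractionRing R)) := hR
  let p₀ : PrimeSpectrum K := ⟨⊥, Ideal.isPrime_bot⟩
  let j : p₀.asIdeal.ResidueField →+* FractionRing R :=
    ((algebraMap R (FractionRing R)).comp g).comp
      (p₀.asIdeal.algEquivResidueFieldOfField.symm.toRingEquiv.toRingHom)
  obtain ⟨n, a', ha⟩ := η.exists_pow_mem_range_eta _ (x p₀)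
  obtain ⟨a, rfl⟩ := p₀.asIdeal.algEquivResidueFieldOfField.surjective a'
  set e := ringExpChar p₀.asIdeal.ResidueField
  have he : 0 < e ^ n := pow_pos (expChar_pos p₀.asIdeal.ResidueField e) _
  let z : FractionRing R := Eta.toField η hR' j (x p₀)
  have hz : z ^ (e ^ n) = algebraMap R (FractionRing R) (g a) := by
    rw [← map_pow, ← ha, Eta.toField_eta]
    simp [j]
  obtain ⟨r, hr⟩ := IsIntegrallyClosed.isIntegral_iff.mp
    (IsIntegral.of_pow (R := R) he (hz ▸ isIntegral_algebraMap))
  have hr' : r ^ (e ^ n) = g a :=
    IsFractionRing.injective R (FractionRing R) (by rw [map_pow, hr, hz])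
  refine ⟨r, fun q => ?_⟩
  let i : p₀.asIdeal.ResidueField →+* q.asIdeal.ResidueField :=
    ((algebraMap R q.asIdeal.ResidueField).comp g).comp
      (p₀.asIdeal.algEquivResidueFieldOfField.symm.toRingEquiv.toRingHom)
  refine Eta.eq_of_pow_eq (K := p₀.asIdeal.ResidueField) ((η.eta _).comp i) (n := n) ?_
  rw [← map_pow, ← map_pow, ← map_pow, hr']
  refine Eq.trans ?_ (Eta.ev_t η ((algebraMap R q.asIdeal.ResidueField).comp g) a)
  congr 1
  funext q'
  have : q' = p₀ := PrimeSpectrum.ext (Ideal.eq_bot_of_prime _)
  subst this
  rw [Pi.pow_apply, ← ha]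
  rfl

end Groth.Agent.S13807
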