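import Groth.Statements.S13810
import Groth.Agent.Eta.Basic

set_option autoImplicit false
universe u
open EtaPt

namespace Groth.Agent.S13810

open EtaPt

section
variable {A B : Type u} [CommRing A] [CommRing B] {R : Type u} [CommRing R] [IsDomain R]

theorem one_zero (g : A × B →+* R) : g (1, 0) = 1 ∨ g (1, 0) = 0 := by
  have h : g (1, 0) * g (1, 0) = g (1, 0) := by rw [← map_mul]; simp
  rcases eq_or_ne (g (1, 0)) 0 with h0 | h0
  · exact .inr h0
  · exact .inl ((mul_eq_left₀ h0).mp h)

omit [IsDomain R] in
theorem split_fst (g : A × B →+* R) (h1 : g (1, 0) = 1) :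
    ∃ h : A →+* R, g = h.comp (RingHom.fst A B) := by
  have key : ∀ a b, g (a, b) = g (a, 0) := fun a b => by
    rw [← mul_one (g (a, b)), ← h1, ← map_mul]
    simp
  refine ⟨{ toFun := fun a => g (a, 0)
            map_one' := h1
            map_mul' := fun a a' => by rw [← map_mul]; simp
            map_zero' := by exact map_zero g
            map_add' := fun a a' => by rw [← map_add]; simp }, RingHom.ext fun ⟨a, b⟩ => key a b⟩

omit [IsDomain R] in
theorem split_snd (g : A × B →+* R) (h1 : g (1, 0) = 0) :
    ∃ h : B →+* R, g = h.comp (RingHom.snd A B) := by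
  have h2 : g (0, 1) = 1 := by
    have : g ((1, 0) + (0, 1)) = 1 := by
      rw [show ((1, 0) + (0, 1) : A × B) = 1 by simp [Prod.ext_iff]]
      exact map_one g
    rwa [map_add, h1, zero_add] at this
  have key : ∀ a b, g (a, b) = g (0, b) := fun a b => by
    rw [← mul_one (g (a, b)), ← h2, ← map_mul]
    simp
  refine ⟨{ toFun := fun b => g (0, b)
            map_one' := h2
            map_mul' := fun a a' => by rw [← map_mul]; simp
            map_zero' := by exact map_zero g
            map_add' := fun a a' => by rw [← map_add]; simp }, RingHom.ext fun ⟨a, b⟩ => key a b⟩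

theorem split (g : A × B →+* R) :
    (∃ h : A →+* R, g = h.comp (RingHom.fst A B)) ∨ ∃ h : B →+* R, g = h.comp (RingHom.snd A B) :=
  (one_zero g).imp (split_fst g) (split_snd g)

variable (η : FieldEndo.{u}) (a : η.N A) (b : η.N B)

open scoped Classical in
theorem ev_fst {L : Type u} [Field L] (h : A →+* L) (x : η.N (A × B))
    (hx : ∀ p, x p = if hp : algebraMap (A × B) p.asIdeal.ResidueField (1, 0) = 1 then
        Eta.ev η (split_fst _ hp).choose a
      else Eta.ev η (split_snd _ ((one_zero _).resolve_left hp)).choose b) :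
    Eta.ev η (h.comp (RingHom.fst A B)) x = Eta.ev η h a := by
  have key := DFunLike.congr_fun (Eta.kerLift_comp (h.comp (RingHom.fst A B))) ((1, 0) : A × B)
  simp only [RingHom.comp_apply, RingHom.coe_fst, map_one] at key
  have hp : algebraMap (A × B) (Eta.kerPt (h.comp (RingHom.fst A B))).asIdeal.ResidueField (1, 0) = 1 :=
    (Eta.kerLift _).injective (key.trans (map_one _).symm)
  rw [Eta.ev_eq η _ _ _ (Eta.kerLift_comp _), hx, dif_pos hp, Eta.map_ev]
  congr 1
  refine congrArg (Eta.ev η) (RingHom.ext fun a => ?_)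
  have := DFunLike.congr_fun (split_fst _ hp).choose_spec ((a, 0) : A × B)
  simp only [RingHom.comp_apply, RingHom.coe_fst] at this ⊢
  rw [← this]
  exact DFunLike.congr_fun (Eta.kerLift_comp (h.comp (RingHom.fst A B))) (a, 0)

open scoped Classical in
theorem ev_snd {L : Type u} [Field L] (h : B →+* L) (x : η.N (A × B))
    (hx : ∀ p, x p = if hp : algebraMap (A × B) p.asIdeal.ResidueField (1, 0) = 1 then
        Eta.ev η (split_fst _ hp).choose a
      else Eta.ev η (split_snd _ ((one_zero _).resolve_left hp)).choose b) :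
    Eta.ev η (h.comp (RingHom.snd A B)) x = Eta.ev η h b := by
  have key := DFunLike.congr_fun (Eta.kerLift_comp (h.comp (RingHom.snd A B))) ((1, 0) : A × B)
  simp only [RingHom.comp_apply, RingHom.coe_snd, map_zero] at key
  have hp : ¬ algebraMap (A × B) (Eta.kerPt (h.comp (RingHom.snd A B))).asIdeal.ResidueField (1, 0) = 1 := by
    intro hp
    rw [hp, map_one] at key
    exact one_ne_zero key
  rw [Eta.ev_eq η _ _ _ (Eta.kerLift_comp _), hx, dif_neg hp, Eta.map_ev]
  congr 1
  refine congrArg (Eta.ev η) (RingHom.ext fun b => ?_)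
  have := DFunLike.congr_fun (split_snd _ ((one_zero _).resolve_left hp)).choose_spec ((0, b) : A × B)
  simp only [RingHom.comp_apply, RingHom.coe_snd] at this ⊢
  rw [← this]
  exact DFunLike.congr_fun (Eta.kerLift_comp (h.comp (RingHom.snd A B))) (0, b)

end

/-- For commutative rings A and B, the pair of maps N_η of the two projections restricts to a bijection
from M_η(A × B) onto M_η(A) × M_η(B). Here η is a natural transformation from the identity of the
category of fields to an endofunctor F with F(η_K) bijective and η_K purely inseparable for every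
field K, N_η(A) is the product of the F(k(p)) over the primes p of A with diagonal map t_A, and
M_η(A) ⊆ N_η(A) is the subring of elements sent into the range of t_R by every ring map from A to a
valuation ring R at whose fraction field η is bijective; q_A : A → M_η(A) is the corestriction of
t_A. -/
theorem result (η : EtaPt.FieldEndo.{u}) (A B : Type u) [CommRing A] [CommRing B] :
    Set.BijOn (fun x : η.N (A × B) => (η.Nmap (RingHom.fst A B) x, η.Nmap (RingHom.snd A B) x))
      (η.M (A × B)) ((η.M A : Set (η.N A)) ×ˢ (η.M B : Set (η.N B))) := by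
  classical
  refine ⟨fun x hx => ⟨Eta.Nmap_mem_M η _ hx, Eta.Nmap_mem_M η _ hx⟩, ?_, ?_⟩
  · intro x _ y _ hxy
    simp only [Prod.ext_iff] at hxy
    funext p
    rw [← Eta.ev_residue η p x, ← Eta.ev_residue η p y]
    rcases split (algebraMap (A × B) p.asIdeal.ResidueField) with ⟨h, hh⟩ | ⟨h, hh⟩
    · rw [hh, ← Eta.ev_Nmap, ← Eta.ev_Nmap, hxy.1]
    · rw [hh, ← Eta.ev_Nmap, ← Eta.ev_Nmap, hxy.2]
  · rintro ⟨a, b⟩ ⟨ha, hb⟩
    let x : η.N (A × B) := fun p =>
      if hp : algebraMap (A × B) p.asIdeal.ResidueField (1, 0) = 1 then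
        Eta.ev η (split_fst _ hp).choose a
      else Eta.ev η (split_snd _ ((one_zero _).resolve_left hp)).choose b
    have hx1 : ∀ (L : Type u) [Field L] (h : A →+* L),
        Eta.ev η (h.comp (RingHom.fst A B)) x = Eta.ev η h a := by
      intro L _ h
      exact ev_fst η a b h x (fun _ => rfl)
    have hx2 : ∀ (L : Type u) [Field L] (h : B →+* L),
        Eta.ev η (h.comp (RingHom.snd A B)) x = Eta.ev η h b := by
      intro L _ h
      exact ev_snd η a b h x (fun _ => rfl)
    refine ⟨x, (Eta.mem_M_iff η).mpr ?_, Prod.ext ?_ ?_⟩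
    · intro R _ _ _ hR g
      rcases split g with ⟨h, hh⟩ | ⟨h, hh⟩
      · obtain ⟨r, hr⟩ := Eta.exists_ev_eq η ha hR h
        exact ⟨r, fun q => by rw [hh, ← RingHom.comp_assoc, hx1, hr]⟩
      · obtain ⟨r, hr⟩ := Eta.exists_ev_eq η hb hR h
        exact ⟨r, fun q => by rw [hh, ← RingHom.comp_assoc, hx2, hr]⟩
    · funext q
      show η.Nmap (RingHom.fst A B) x q = a q
      rw [Eta.Nmap_apply, hx1, Eta.ev_residue]
    · funext q
      show η.Nmap (RingHom.snd A B) x q = b q
      rw [Eta.Nmap_apply, hx2, Eta.ev_residue]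

end Groth.Agent.S13810
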