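import Groth.Statements.S13813
import Groth.Agent.Eta.Basic

set_option autoImplicit false
universe u
open EtaPt

namespace Groth.Agent.S13813

open EtaPt

theorem integral_range_eta (η : FieldEndo.{u}) (R : Type u) [CommRing R] [IsDomain R]
    [ValuationRing R] (k : (⊥ : Ideal R).ResidueField)
    (hk : ((η.eta _).comp (algebraMap R (⊥ : Ideal R).ResidueField)).IsIntegralElem (η.eta _ k)) :
    ∃ r, algebraMap R (⊥ : Ideal R).ResidueField r = k := by
  obtain ⟨P, hP, hP0⟩ := hk
  refine IsIntegrallyClosed.isIntegral_iff.mp ⟨P, hP, (η.eta _).injective ?_⟩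
  rw [Polynomial.hom_eval₂, hP0, map_zero]

theorem ringChar_eq_of_hom {R L : Type u} [CommRing R] [Field L] (hp : (ringChar R).Prime)
    (i : R →+* L) : ringChar L = ringChar R :=
  CharP.ringChar_of_prime_eq_zero hp (by rw [← map_natCast i, ringChar.Nat.cast_ringChar, map_zero])

theorem lifts (η : FieldEndo.{u}) (R : Type u) [CommRing R] [IsDomain R] [ValuationRing R]
    (hη : η.InV R ∨ ∀ (k : Type u) [Field k], ringChar k = ringChar R →
      Function.Bijective (η.eta k) → PerfectField k)
    (y : η.obj (⊥ : Ideal R).ResidueField)
    (hy : ((η.eta _).comp (algebraMap R (⊥ : Ideal R).ResidueField)).IsIntegralElem y) :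
    ∃ x ∈ η.M R, x ⟨⊥, Ideal.isPrime_bot⟩ = y := by
  by_cases hV : η.InV R
  · obtain ⟨k, rfl⟩ := ((Eta.inV_iff η R (⊥ : Ideal R).ResidueField).mp hV).2 y
    obtain ⟨r, rfl⟩ := integral_range_eta η R k hy
    exact ⟨η.t R r, η.t_mem_M R r, rfl⟩
  have hperf := hη.resolve_left hV
  have hp : (ringChar R).Prime := by
    refine (CharP.char_is_prime_or_zero R (ringChar R)).resolve_right fun h0 => hV ?_
    have : CharP R 0 := h0 ▸ ringChar.charP R
    have : CharZero R := CharP.charP_to_charZero R
    have : CharZero (⊥ : Ideal R).ResidueField :=
      charZero_of_injective_algebraMap (IsFractionRing.injective R _)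
    exact (Eta.inV_iff η R (⊥ : Ideal R).ResidueField).mpr (Eta.eta_bijective_of_charZero η _)
  have hpe : ∀ (K : Type u) [Field K], (R →+* K) → ringExpChar K = ringChar R := by
    intro K _ i
    rw [ringExpChar, ringChar_eq_of_hom hp i, max_eq_left hp.one_le]
  obtain ⟨n, k, hk⟩ := η.exists_pow_mem_range_eta _ y
  rw [hpe _ (algebraMap R _)] at hk
  set p := ringChar R with hp_def
  obtain ⟨a, rfl⟩ := integral_range_eta η R k (by
    rw [hk]
    let _ := ((η.eta _).comp (algebraMap R (⊥ : Ideal R).ResidueField)).toAlgebra
    exact IsIntegral.pow hy _)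
  have hroot : ∀ q : PrimeSpectrum R, ∃ w : η.obj q.asIdeal.ResidueField,
      w ^ p ^ n = η.eta _ (algebraMap R _ a) := by
    intro q
    let j : R →+* η.obj q.asIdeal.ResidueField := (η.eta _).comp (algebraMap R _)
    have : CharP (η.obj q.asIdeal.ResidueField) p := by
      rw [hp_def, ← ringChar_eq_of_hom hp j]; exact ringChar.charP _
    have : Fact p.Prime := ⟨hp⟩
    have : PerfectField (η.obj q.asIdeal.ResidueField) :=
      hperf _ (ringChar_eq_of_hom hp j) (Eta.eta_obj_bijective η _)
    have : PerfectRing (η.obj q.asIdeal.ResidueField) p := PerfectField.toPerfectRing _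
    obtain ⟨w, hw⟩ := (bijective_iterateFrobenius (η.obj q.asIdeal.ResidueField) p n).2
      (η.eta _ (algebraMap R _ a))
    exact ⟨w, by rwa [iterateFrobenius_def] at hw⟩
  choose x hx using hroot
  have hxt : (x : η.N R) ^ p ^ n = η.t R a := funext hx
  refine ⟨x, (Eta.mem_M_iff η).mpr ?_, ?_⟩
  · intro R' _ _ _ hR' g
    let K := FractionRing R'
    let i : R →+* K := (algebraMap R' K).comp g
    have : CharP K p := by
      rw [hp_def, ← ringChar_eq_of_hom hp i]; exact ringChar.charP _
    have : Fact p.Prime := ⟨hp⟩
    have : PerfectField K := hperf _ (ringChar_eq_of_hom hp i) hR'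
    have : PerfectRing K p := PerfectField.toPerfectRing _
    obtain ⟨z, hz⟩ := (bijective_iterateFrobenius K p n).2 (i a)
    rw [iterateFrobenius_def] at hz
    obtain ⟨r, hr⟩ := IsIntegrallyClosed.isIntegral_iff.mp
      (IsIntegral.of_pow (R := R') (pow_pos hp.pos n)
        (show IsIntegral R' (z ^ p ^ n) from hz ▸ isIntegral_algebraMap))
    have hr' : r ^ p ^ n = g a :=
      IsFractionRing.injective R' K (by rw [map_pow, hr, hz]; rfl)
    refine ⟨r, fun q => ?_⟩
    let j : R →+* q.asIdeal.ResidueField := (algebraMap R' _).comp g
    refine Eta.eq_of_pow_eq (η.eta _) (n := n) ?_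
    rw [hpe _ j, ← map_pow, hxt, Eta.ev_t, ← map_pow, ← map_pow, hr']
    rfl
  · refine Eta.eq_of_pow_eq (η.eta _) (n := n) ?_
    rw [hpe _ (algebraMap R _), hx, hk]


/-- Let R be a valuation ring with fraction field K such that η is bijective at K, or such that every
field of the same characteristic as R at which η is bijective is perfect. Then evaluation at the
generic point maps M_η(R) injectively into F(K), with image exactly the elements of F(K) integral
over R (through η_K composed with R → K); here K is realised as the residue field of R at (0). (The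
published statement assumes nothing about η beyond the standing conditions, and then fails: for the
endofunctor equal to the perfect closure on the fields of characteristic 2 and transcendence degree
at least 2 over the prime field and to the identity on every other field, and R = F_2(s)[t]
localised at (t), the element s^(1/2) of F(K) is integral over R but is the generic component of no
element of M_η(R). This row assumes that η is bijective at Frac R, or that every field of the same
characteristic as R at which η is bijective is perfect; both the identity and the perfect closure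
satisfy this.) Here η is a natural transformation from the identity of the category of fields to an
endofunctor F with F(η_K) bijective and η_K purely inseparable for every field K, N_η(A) is the
product of the F(k(p)) over the primes p of A with diagonal map t_A, and M_η(A) ⊆ N_η(A) is the
subring of elements sent into the range of t_R by every ring map from A to a valuation ring R at
whose fraction field η is bijective; q_A : A → M_η(A) is the corestriction of t_A. -/
theorem result (η : EtaPt.FieldEndo.{u}) (R : Type u) [CommRing R] [IsDomain R] [ValuationRing R]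
    (hη : η.InV R ∨ ∀ (k : Type u) [Field k], ringChar k = ringChar R →
      Function.Bijective (η.eta k) → PerfectField k) :
    Set.InjOn (fun x : η.N R => x ⟨⊥, Ideal.isPrime_bot⟩) (η.M R) ∧
      (fun x : η.N R => x ⟨⊥, Ideal.isPrime_bot⟩) '' (η.M R : Set (η.N R)) =
        {y | ((η.eta (⊥ : Ideal R).ResidueField).comp (algebraMap R (⊥ : Ideal R).ResidueField)).IsIntegralElem y} := by
  refine ⟨Eta.injOn_generic η R, Set.Subset.antisymm ?_ fun y hy => lifts η R hη y hy⟩
  rintro _ ⟨x, hx, rfl⟩
  show (Eta.point η ⟨⊥, Ideal.isPrime_bot⟩).IsIntegralElem _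
  show (Eta.point η ⟨⊥, Ideal.isPrime_bot⟩).IsIntegralElem (x ⟨⊥, Ideal.isPrime_bot⟩)
  rw [← Eta.val_point η ⟨⊥, Ideal.isPrime_bot⟩ x]
  exact Eta.isIntegralElem_val η _ _ hx

end Groth.Agent.S13813
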