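import Groth.Statements.S13814
import Groth.Agent.Eta.Basic
import Groth.Agent.S13813

set_option autoImplicit false
universe u
open EtaPt

namespace Groth.Agent.S13814

open EtaPt

theorem or_inv (η : FieldEndo.{u}) (R : Type u) [CommRing R] [IsDomain R] [ValuationRing R]
    (y : η.obj (⊥ : Ideal R).ResidueField) :
    ((η.eta _).comp (algebraMap R (⊥ : Ideal R).ResidueField)).IsIntegralElem y ∨
      ((η.eta _).comp (algebraMap R (⊥ : Ideal R).ResidueField)).IsIntegralElem y⁻¹ := by
  obtain ⟨n, k, hk⟩ := η.exists_pow_mem_range_eta _ y
  let _ := ((η.eta _).comp (algebraMap R (⊥ : Ideal R).ResidueField)).toAlgebra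
  have he : 0 < ringExpChar (⊥ : Ideal R).ResidueField ^ n :=
    pow_pos (expChar_pos (⊥ : Ideal R).ResidueField _) _
  rcases ValuationRing.isInteger_or_isInteger R k with ⟨r, hr⟩ | ⟨r, hr⟩
  · left
    refine IsIntegral.of_pow he (B := η.obj _) ?_
    rw [← hk, ← hr]
    exact isIntegral_algebraMap (x := r)
  · right
    refine IsIntegral.of_pow he (B := η.obj _) ?_
    rw [inv_pow, ← hk, ← map_inv₀, ← hr]
    exact isIntegral_algebraMap (x := r)


/-- Let R be a valuation ring with fraction field K = k((0)) such that η is bijective at K, or such that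
every field of the same characteristic as R at which η is bijective is perfect. Then the ring M_η(R)
is again a valuation ring, every element of F(K) is a quotient of generic components of elements of
M_η(R), and an element of F(K) that is both the generic component of an element of M_η(R) and in the
image of K comes from R. (The published statement assumes nothing about η beyond the standing
conditions, and then fails: for the endofunctor equal to the perfect closure on the fields of
characteristic 2 and transcendence degree at least 2 over the prime field and to the identity on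
every other field, and R = F_2(s)[t] localised at (t), neither of the elements (s^(1/2) t, 0) and
(t, 0) of M_η(R) ⊆ F(K) × F_2(s) divides the other, so M_η(R) is not a valuation ring. This row
assumes that η is bijective at Frac R, or that every field of the same characteristic as R at which
η is bijective is perfect; both the identity and the perfect closure satisfy this.) Here η is a
natural transformation from the identity of the category of fields to an endofunctor F with F(η_K)
bijective and η_K purely inseparable for every field K, N_η(A) is the product of the F(k(p)) over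
the primes p of A with diagonal map t_A, and M_η(A) ⊆ N_η(A) is the subring of elements sent into
the range of t_R by every ring map from A to a valuation ring R at whose fraction field η is
bijective; q_A : A → M_η(A) is the corestriction of t_A. -/
theorem result (η : EtaPt.FieldEndo.{u}) (R : Type u) [CommRing R] [IsDomain R] [ValuationRing R]
    (hη : η.InV R ∨ ∀ (k : Type u) [Field k], ringChar k = ringChar R →
      Function.Bijective (η.eta k) → PerfectField k) :
    IsDomain (η.M R) ∧ PreValuationRing (η.M R) ∧
      (∀ y : η.obj (⊥ : Ideal R).ResidueField, ∃ a b : η.M R,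
        (b : η.N R) ⟨⊥, Ideal.isPrime_bot⟩ ≠ 0 ∧
          y * (b : η.N R) ⟨⊥, Ideal.isPrime_bot⟩ = (a : η.N R) ⟨⊥, Ideal.isPrime_bot⟩) ∧
      (fun x : η.N R => x ⟨⊥, Ideal.isPrime_bot⟩) '' (η.M R : Set (η.N R)) ∩
          Set.range (η.eta (⊥ : Ideal R).ResidueField) =
        Set.range ((η.eta (⊥ : Ideal R).ResidueField).comp (algebraMap R (⊥ : Ideal R).ResidueField)) := by
  obtain ⟨hinj, himg⟩ := Groth.Agent.S13813.result η R hη
  let p₀ : PrimeSpectrum R := ⟨⊥, Ideal.isPrime_bot⟩
  let e : η.M R →+* η.obj (⊥ : Ideal R).ResidueField :=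
    (Pi.evalRingHom (fun p : PrimeSpectrum R => η.obj p.asIdeal.ResidueField) p₀).comp
      (η.M R).subtype
  have einj : Function.Injective e := fun a b h => Subtype.ext (hinj a.2 b.2 h)
  have hlift : ∀ y, ((η.eta (⊥ : Ideal R).ResidueField).comp (algebraMap R _)).IsIntegralElem y →
      ∃ a : η.M R, e a = y := fun y hy => by
    obtain ⟨x, hx, hxy⟩ := himg.symm.subset hy
    exact ⟨⟨x, hx⟩, hxy⟩
  have hdom : IsDomain (η.M R) := Function.Injective.isDomain e einj
  refine ⟨hdom, ⟨fun a b => ?_⟩, fun y => ?_, ?_⟩
  · rcases eq_or_ne a 0 with rfl | ha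
    · exact ⟨0, .inr (mul_zero _)⟩
    rcases eq_or_ne b 0 with rfl | hb
    · exact ⟨0, .inl (mul_zero _)⟩
    have ha' : e a ≠ 0 := fun h => ha (einj (h.trans (map_zero e).symm))
    have hb' : e b ≠ 0 := fun h => hb (einj (h.trans (map_zero e).symm))
    rcases or_inv η R (e b / e a) with h | h
    · obtain ⟨c, hc⟩ := hlift _ h
      exact ⟨c, .inl (einj (by rw [map_mul, hc, mul_div_cancel₀ _ ha']))⟩
    · obtain ⟨c, hc⟩ := hlift _ h
      exact ⟨c, .inr (einj (by rw [map_mul, hc, inv_div, mul_div_cancel₀ _ hb']))⟩
  · show ∃ a b : η.M R, e b ≠ 0 ∧ y * e b = e a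
    rcases or_inv η R y with h | h
    · obtain ⟨a, ha⟩ := hlift _ h
      exact ⟨a, 1, by rw [map_one]; exact one_ne_zero, by rw [map_one, mul_one, ha]⟩
    · obtain ⟨b, hb⟩ := hlift _ h
      rcases eq_or_ne y 0 with rfl | hy
      · exact ⟨0, 1, by rw [map_one]; exact one_ne_zero, by rw [zero_mul, map_zero]⟩
      · exact ⟨1, b, by rw [hb]; exact inv_ne_zero hy, by rw [hb, map_one, mul_inv_cancel₀ hy]⟩
  · rw [himg]
    refine Set.Subset.antisymm ?_ ?_
    · rintro _ ⟨hy, k, rfl⟩
      obtain ⟨r, rfl⟩ := Groth.Agent.S13813.integral_range_eta η R k hy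
      exact ⟨r, rfl⟩
    · rintro _ ⟨r, rfl⟩
      exact ⟨RingHom.isIntegralElem_map _, algebraMap R _ r, rfl⟩

end Groth.Agent.S13814
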