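import Groth.Statements.S13816
import Groth.Agent.Eta.Basic
import Mathlib.FieldTheory.IsAlgClosed.AlgebraicClosure

set_option autoImplicit false
universe u
open EtaPt

namespace Groth.Agent.S13816

theorem extend {A B : Type u} [CommRing A] [CommRing B] (f : A →+* B) (hf : f.IsIntegral)
    (hs : Function.Surjective (PrimeSpectrum.comap f)) {L : Type u} [Field L] [IsAlgClosed L]
    (g : A →+* L) : ∃ h : B →+* L, h.comp f = g := by
  obtain ⟨q, hq⟩ := hs ⟨RingHom.ker g, RingHom.ker_isPrime g⟩
  have hker : (PrimeSpectrum.comap f q).asIdeal = RingHom.ker g := congrArg PrimeSpectrum.asIdeal hq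
  let res := Ideal.ResidueField.map (PrimeSpectrum.comap f q).asIdeal q.asIdeal f rfl
  let φ : (PrimeSpectrum.comap f q).asIdeal.ResidueField →+* L :=
    Ideal.ResidueField.lift _ g hker.le
      (fun a ha => isUnit_iff_ne_zero.mpr fun h' => ha (hker ▸ h'))
  let _ := res.toAlgebra
  let _ := φ.toAlgebra
  have halg : Algebra.IsAlgebraic (PrimeSpectrum.comap f q).asIdeal.ResidueField
      q.asIdeal.ResidueField := by
    refine ⟨fun y => IsIntegral.isAlgebraic ?_⟩
    obtain ⟨a, b, -, rfl⟩ := IsFractionRing.div_surjective (B ⧸ q.asIdeal) y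
    have key : ∀ c : B ⧸ q.asIdeal, IsIntegral (PrimeSpectrum.comap f q).asIdeal.ResidueField
        (algebraMap (B ⧸ q.asIdeal) q.asIdeal.ResidueField c) := by
      intro c
      obtain ⟨c, rfl⟩ := Ideal.Quotient.mk_surjective c
      obtain ⟨P, hP, hP0⟩ := hf c
      refine ⟨P.map (algebraMap A _), hP.map _, ?_⟩
      rw [Polynomial.eval₂_map, RingHom.algebraMap_toAlgebra,
        show res.comp (algebraMap A _) = (algebraMap B q.asIdeal.ResidueField).comp f from
          RingHom.ext fun a => Ideal.ResidueField.map_algebraMap _ _ _ _ a,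
        Ideal.algebraMap_quotient_residueField_mk, ← Polynomial.hom_eval₂, hP0, map_zero]
    rw [div_eq_mul_inv]
    exact (key a).mul (key b).inv
  let e : q.asIdeal.ResidueField →ₐ[(PrimeSpectrum.comap f q).asIdeal.ResidueField] L :=
    IsAlgClosed.lift
  refine ⟨e.toRingHom.comp (algebraMap B _), RingHom.ext fun a => ?_⟩
  show e (algebraMap B _ (f a)) = g a
  rw [← Ideal.ResidueField.map_algebraMap (PrimeSpectrum.comap f q).asIdeal q.asIdeal f rfl a]
  refine (e.commutes _).trans ?_
  exact Ideal.ResidueField.lift_algebraMap _ _ _ _ a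

theorem mem_map_dvd {R S : Type u} [CommRing R] [IsDomain R] [ValuationRing R] [CommRing S]
    (i : R →+* S) {q : Ideal R} {s : S} (hs : s ∈ Ideal.map i q) :
    ∃ a ∈ q, i a ∣ s := by
  induction hs using Submodule.span_induction with
  | mem x hx => obtain ⟨a, ha, rfl⟩ := hx; exact ⟨a, ha, dvd_rfl⟩
  | zero => exact ⟨0, zero_mem _, dvd_zero _⟩
  | add x y _ _ hx hy =>
    obtain ⟨a, ha, hax⟩ := hx
    obtain ⟨b, hb, hby⟩ := hy
    rcases ValuationRing.dvd_total a b with h | h
    · exact ⟨a, ha, dvd_add hax ((map_dvd i h).trans hby)⟩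
    · exact ⟨b, hb, dvd_add ((map_dvd i h).trans hax) hby⟩
  | smul c x _ hx =>
    obtain ⟨a, ha, hax⟩ := hx
    exact ⟨a, ha, hax.mul_left c⟩


/-- If f : A → B is an integral ring map with Spec(f) surjective, then an element of N_η(A) lies in
M_η(A) if and only if its image under N_η(f) lies in M_η(B). Here η is a natural transformation from
the identity of the category of fields to an endofunctor F with F(η_K) bijective and η_K purely
inseparable for every field K, N_η(A) is the product of the F(k(p)) over the primes p of A with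
diagonal map t_A, and M_η(A) ⊆ N_η(A) is the subring of elements sent into the range of t_R by every
ring map from A to a valuation ring R at whose fraction field η is bijective; q_A : A → M_η(A) is
the corestriction of t_A. -/
theorem result (η : EtaPt.FieldEndo.{u}) {A B : Type u} [CommRing A] [CommRing B] (f : A →+* B)
    (hf : f.IsIntegral) (hs : Function.Surjective (PrimeSpectrum.comap f)) (x : η.N A) :
    x ∈ η.M A ↔ η.Nmap f x ∈ η.M B := by
  refine ⟨fun hx => Eta.Nmap_mem_M η f hx, fun hx => (Eta.mem_M_iff η).mpr ?_⟩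
  intro R _ _ _ hR g
  have hK : Function.Bijective (η.eta (FractionRing R)) := hR
  have hKb : Function.Bijective (η.eta (AlgebraicClosure (FractionRing R))) :=
    Eta.eta_bijective_of_perfect η _
  let ι := algebraMap (FractionRing R) (AlgebraicClosure (FractionRing R))
  let p := Eta.kerPt ((ι.comp (algebraMap R (FractionRing R))).comp g)
  obtain ⟨h, hh⟩ := extend f hf hs ((ι.comp (algebraMap R (FractionRing R))).comp g)
  obtain ⟨V, hV, hloc⟩ :=
    IsLocalRing.exists_factor_valuationRing (ι.comp (algebraMap R (FractionRing R)))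
  let iV : R →+* V := (ι.comp (algebraMap R (FractionRing R))).codRestrict V.toSubring hV
  have hiV : IsLocalHom iV := hloc
  have inter : ∀ k : FractionRing R, ι k ∈ V → ∃ r : R, algebraMap R (FractionRing R) r = k := by
    intro k hk
    rcases eq_or_ne k 0 with rfl | hk0
    · exact ⟨0, map_zero _⟩
    rcases ValuationRing.isInteger_or_isInteger R k with h1 | ⟨a, ha⟩
    · exact h1
    have hu : IsUnit (iV a) := IsUnit.of_mul_eq_one ⟨ι k, hk⟩ (Subtype.ext (by
      show ι (algebraMap R (FractionRing R) a) * ι k = 1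
      rw [← map_mul, ha, inv_mul_cancel₀ hk0, map_one]))
    obtain ⟨v, rfl⟩ := hu.of_map
    refine ⟨↑v⁻¹, ?_⟩
    rw [map_units_inv, ha, inv_inv]
  have hint : ∀ b, h b ∈ V := fun b => by
    obtain ⟨P, hP, hP0⟩ := hf b
    obtain ⟨v, hv⟩ := IsIntegrallyClosed.isIntegral_iff.mp
      (show IsIntegral V (h b) from ⟨P.map (iV.comp g), hP.map _, by
        rw [Polynomial.eval₂_map,
          show (algebraMap V (AlgebraicClosure (FractionRing R))).comp (iV.comp g) = h.comp f from
            hh.symm ▸ rfl, ← Polynomial.hom_eval₂, hP0, map_zero]⟩)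
    exact hv ▸ v.2
  let g' : B →+* V := h.codRestrict V.toSubring hint
  have hg' : g'.comp f = iV.comp g := RingHom.ext fun a => Subtype.ext (DFunLike.congr_fun hh a)
  obtain ⟨r', hr'⟩ := Eta.exists_ev_eq η hx (Eta.inV_valuationSubring η hKb V) g'
  let z := Eta.val η hK ((algebraMap R (FractionRing R)).comp g) x
  have hz : (r' : AlgebraicClosure (FractionRing R)) = ι z := hKb.1 (by
    rw [← Eta.eta_natural_apply η ι z, Eta.eta_val, Eta.map_ev, ← RingHom.comp_assoc, ← hh,
      ← Eta.ev_Nmap]
    exact (hr' _ V.subtype).symm)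
  obtain ⟨r, hr⟩ := inter z (hz ▸ r'.2)
  have hrr : iV r = r' := Subtype.ext (by rw [hz, ← hr]; rfl)
  refine ⟨r, fun q => ?_⟩
  have hq : Ideal.comap iV (Ideal.map iV q.asIdeal) = q.asIdeal := by
    refine le_antisymm (fun s hs => ?_) Ideal.le_comap_map
    obtain ⟨a, ha, v, hv⟩ := mem_map_dvd iV (Ideal.mem_comap.mp hs)
    rcases eq_or_ne a 0 with rfl | ha0
    · have : iV s = 0 := by rw [hv, map_zero, zero_mul]
      have h0 : algebraMap R (FractionRing R) s = 0 := ι.injective (by
        rw [map_zero]; exact congrArg Subtype.val this)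
      rw [IsFractionRing.injective R (FractionRing R) (h0.trans (map_zero _).symm)]
      exact zero_mem _
    · have hne : algebraMap R (FractionRing R) a ≠ 0 :=
        IsFractionRing.to_map_ne_zero_of_mem_nonZeroDivisors (mem_nonZeroDivisors_of_ne_zero ha0)
      have hvk : ι (algebraMap R _ s / algebraMap R _ a) = (v : AlgebraicClosure (FractionRing R)) := by
        rw [map_div₀, div_eq_iff ((map_ne_zero ι).mpr hne), mul_comm]
        exact congrArg Subtype.val hv
      obtain ⟨c, hc⟩ := inter _ (hvk ▸ v.2)
      rw [eq_div_iff hne, ← map_mul] at hc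
      rw [← IsFractionRing.injective R (FractionRing R) hc]
      exact q.asIdeal.mul_mem_left c ha
  obtain ⟨Q, hQp, hQ⟩ := (Ideal.comap_map_eq_self_iff_of_isPrime q.asIdeal).mp hq
  let j := Ideal.ResidueField.map q.asIdeal Q iV hQ.symm
  refine (η.map j).injective ?_
  have hj : j.comp (algebraMap R _) = (algebraMap V Q.ResidueField).comp iV :=
    RingHom.ext fun a => Ideal.ResidueField.map_algebraMap _ _ _ _ a
  rw [Eta.map_ev, ← RingHom.comp_assoc, hj, RingHom.comp_assoc, ← hg', ← RingHom.comp_assoc,
    ← Eta.ev_Nmap, hr' _ (algebraMap V Q.ResidueField), Eta.eta_natural_apply,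
    ← RingHom.comp_apply j, hj, RingHom.comp_apply, hrr]

end Groth.Agent.S13816
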