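import Groth.Statements.S13826
import Groth.Agent.Eta.Basic
import Groth.Agent.Eta.UnivHomeo
import Groth.Agent.S13802
import Groth.Agent.S13803

set_option autoImplicit false
universe u
open EtaPt

namespace Groth.Agent.S13826

open EtaPt

theorem residue_surjective (A : Type u) [CommRing A] (hA : (minimalPrimes A).Finite)
    (Q : PrimeSpectrum (FieldEndo.ident.{u}.M A)) :
    Function.Surjective (Ideal.ResidueField.map
      (PrimeSpectrum.comap (FieldEndo.ident.{u}.q A) Q).asIdeal Q.asIdeal
      (FieldEndo.ident.{u}.q A) rfl) := by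
  obtain ⟨φ, hφ⟩ := (Groth.Agent.S13803.result FieldEndo.ident.{u} A hA).2 Q
  exact fun y => ⟨φ y, φ.injective (DFunLike.congr_fun hφ (φ y))⟩

theorem q_univHomeo (A : Type u) [CommRing A] (hA : (minimalPrimes A).Finite) :
    FlatMor.IsUnivHomeo (AlgebraicGeometry.Spec.map (CommRingCat.ofHom (FieldEndo.ident.{u}.q A))) ∧
      HTop.ResidueFieldsIso
        (AlgebraicGeometry.Spec.map (CommRingCat.ofHom (FieldEndo.ident.{u}.q A))) :=
  Eta.univHomeo_of_integral _ (Groth.Agent.S13802.result _ A hA)
    (Groth.Agent.S13803.result _ A hA).1 (residue_surjective A hA)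

variable {C : Type u} [CommRing C]

theorem exists_unique_hom (A : Type u) [CommRing A] (ψ : A →+* C) (hint : ψ.IsIntegral)
    (hb : Function.Bijective (PrimeSpectrum.comap ψ))
    (hres : ∀ q : PrimeSpectrum C, Function.Surjective
      (Ideal.ResidueField.map (PrimeSpectrum.comap ψ q).asIdeal q.asIdeal ψ rfl)) :
    ∃! χ : C →+* FieldEndo.ident.{u}.M A, χ.comp ψ = FieldEndo.ident.{u}.q A := by
  let η := FieldEndo.ident.{u}
  have ext : ∀ (L : Type u) [Field L] (h h' : C →+* L), h.comp ψ = h'.comp ψ → h = h' :=
    fun L _ => Eta.hom_ext_field ψ hb.1 hres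
  choose e he using fun p : PrimeSpectrum A =>
    Eta.exists_hom_field ψ hb.2 hres (algebraMap A p.asIdeal.ResidueField)
  let χ₀ : C →+* η.N A := Pi.ringHom fun p => (η.eta _).comp (e p)
  have hχψ : χ₀.comp ψ = η.t A := RingHom.ext fun a => funext fun p =>
    congrArg (η.eta _) (DFunLike.congr_fun (he p) a)
  have hmem : ∀ c, χ₀ c ∈ η.M A := fun c => by
    refine (Eta.mem_M_iff η).mpr ?_
    intro R _ _ _ hR g
    obtain ⟨h, hh⟩ := Eta.exists_hom_field ψ hb.2 hres ((algebraMap R (FractionRing R)).comp g)
    obtain ⟨r, hr⟩ : ∃ r, algebraMap R (FractionRing R) r = h c := by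
      obtain ⟨P, hP, hP0⟩ := hint c
      refine IsIntegrallyClosed.isIntegral_iff.mp ⟨P.map g, hP.map g, ?_⟩
      rw [Polynomial.eval₂_map, ← hh, ← Polynomial.hom_eval₂, hP0, map_zero]
    have hmem' : ∀ c, h c ∈ (algebraMap R (FractionRing R)).range := fun c => by
      obtain ⟨P, hP, hP0⟩ := hint c
      refine IsIntegrallyClosed.isIntegral_iff.mp ⟨P.map g, hP.map g, ?_⟩
      rw [Polynomial.eval₂_map, ← hh, ← Polynomial.hom_eval₂, hP0, map_zero]
    let i := RingEquiv.ofBijective (algebraMap R (FractionRing R)).rangeRestrict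
      ⟨fun x y hxy => IsFractionRing.injective R (FractionRing R) (congrArg Subtype.val hxy),
        RingHom.rangeRestrict_surjective _⟩
    let g' : C →+* R := i.symm.toRingHom.comp (h.codRestrict (algebraMap R (FractionRing R)).range hmem')
    have hg' : ∀ c, algebraMap R (FractionRing R) (g' c) = h c := fun c =>
      congrArg Subtype.val (i.apply_symm_apply ⟨h c, hmem' c⟩)
    have hg : g'.comp ψ = g := RingHom.ext fun a => IsFractionRing.injective R (FractionRing R) (by
      rw [RingHom.comp_apply, hg']; exact DFunLike.congr_fun hh a)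
    refine ⟨g' c, fun q => ?_⟩
    refine DFunLike.congr_fun (ext (η.obj q.asIdeal.ResidueField)
      ((Eta.ev η ((algebraMap R q.asIdeal.ResidueField).comp g)).comp χ₀)
      ((η.eta _).comp ((algebraMap R q.asIdeal.ResidueField).comp g')) (RingHom.ext fun a => ?_)) c
    simp only [RingHom.comp_apply]
    rw [← RingHom.comp_apply χ₀ ψ, hχψ, Eta.ev_t, RingHom.comp_apply, ← hg, RingHom.comp_apply]
  refine ⟨χ₀.codRestrict _ hmem, RingHom.ext fun a => Subtype.ext (DFunLike.congr_fun hχψ a), ?_⟩
  intro χ hχ
  refine RingHom.ext fun c => Subtype.ext (funext fun p => ?_)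
  refine DFunLike.congr_fun (ext (η.obj p.asIdeal.ResidueField)
    ((Pi.evalRingHom (fun p : PrimeSpectrum A => η.obj p.asIdeal.ResidueField) p).comp
      ((η.M A).subtype.comp χ))
    ((Pi.evalRingHom (fun p : PrimeSpectrum A => η.obj p.asIdeal.ResidueField) p).comp χ₀) ?_) c
  rw [RingHom.comp_assoc, RingHom.comp_assoc, RingHom.comp_assoc, hχ, hχψ]
  rfl

/-- For the identity endofunctor and a commutative ring A with finitely many minimal prime ideals, q_A :
A → M(A) is a seminormalization of A: Spec(q_A) is a universal homeomorphism with trivial residue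
field extensions, final among ring maps out of A with these properties. Here M(A) ⊆ ∏_p k(p) is the
subring of families whose image in ∏_q k(q), for every ring map from A to a valuation ring R, is the
diagonal image of an element of R. -/
theorem result (A : Type u) [CommRing A] (hA : (minimalPrimes A).Finite) :
    HTop.IsRingSN (EtaPt.FieldEndo.ident.{u}.q A) := by
  refine ⟨q_univHomeo A hA, fun C _ ψ hψ hres => ?_⟩
  obtain ⟨hint, hb⟩ := Eta.integral_bijective_of_univHomeo ψ hψ
  exact exists_unique_hom A ψ hint hb (Eta.surjective_residue_of_residueFieldsIso ψ hres)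

end Groth.Agent.S13826
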