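import Groth.Statements.S13830
import Groth.Agent.Eta.Basic
import Groth.Agent.Eta.UnivHomeo
import Groth.Agent.S13802
import Groth.Agent.S13803
import Groth.Agent.S13826

set_option autoImplicit false
universe u
open AlgebraicGeometry
open EtaPt

namespace Groth.Agent.S13830

theorem exists_chi (η : EtaPt.FieldEndo.{u}) {A B : Type u} [CommRing A] [CommRing B] (f : A →+* B)
    (hinj : Function.Injective (η.Nmap f)) :
    ∃ χ : η.rel f →+* η.M A, ∀ b, η.Nmap f (χ b) = η.t B b := by
  choose x hx hxb using fun b : η.rel f => b.2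
  refine ⟨⟨⟨⟨fun b => ⟨x b, hx b⟩, ?_⟩, fun a b => ?_⟩, ?_, fun a b => ?_⟩, hxb⟩
  · exact Subtype.ext (hinj (by rw [hxb]; exact (map_one _).trans (map_one _).symm))
  · exact Subtype.ext (hinj (by
      rw [hxb]
      show _ = η.Nmap f (x a * x b)
      rw [map_mul, hxb, hxb, ← map_mul]
      rfl))
  · exact Subtype.ext (hinj (by rw [hxb]; exact (map_zero _).trans (map_zero _).symm))
  · exact Subtype.ext (hinj (by
      rw [hxb]
      show _ = η.Nmap f (x a + x b)
      rw [map_add, hxb, hxb, ← map_add]
      rfl))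

theorem surjective_of_comp {A B C : Type u} [CommRing A] [CommRing B] [CommRing C] (f : A →+* B)
    (g : B →+* C) (Q : PrimeSpectrum C)
    (h : Function.Surjective (Ideal.ResidueField.map (PrimeSpectrum.comap (g.comp f) Q).asIdeal
      Q.asIdeal (g.comp f) rfl)) :
    Function.Surjective (Ideal.ResidueField.map
      (PrimeSpectrum.comap f (PrimeSpectrum.comap g Q)).asIdeal (PrimeSpectrum.comap g Q).asIdeal f rfl) := by
  intro y
  obtain ⟨x, hx⟩ := h (Ideal.ResidueField.map (PrimeSpectrum.comap g Q).asIdeal Q.asIdeal g rfl y)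
  refine ⟨x, (Ideal.ResidueField.map (PrimeSpectrum.comap g Q).asIdeal Q.asIdeal g rfl).injective
    (Eq.trans ?_ hx)⟩
  have key : (Ideal.ResidueField.map (PrimeSpectrum.comap g Q).asIdeal Q.asIdeal g rfl).comp
      (Ideal.ResidueField.map (PrimeSpectrum.comap f (PrimeSpectrum.comap g Q)).asIdeal
        (PrimeSpectrum.comap g Q).asIdeal f rfl) =
      Ideal.ResidueField.map (PrimeSpectrum.comap (g.comp f) Q).asIdeal Q.asIdeal (g.comp f) rfl :=
    Ideal.ResidueField.ringHom_ext (I := (PrimeSpectrum.comap f (PrimeSpectrum.comap g Q)).asIdeal)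
      (RingHom.ext fun a =>
        (congrArg (Ideal.ResidueField.map (PrimeSpectrum.comap g Q).asIdeal Q.asIdeal g rfl)
          (Ideal.ResidueField.map_algebraMap (PrimeSpectrum.comap f (PrimeSpectrum.comap g Q)).asIdeal
            (PrimeSpectrum.comap g Q).asIdeal f rfl a)).trans
          ((Ideal.ResidueField.map_algebraMap (PrimeSpectrum.comap g Q).asIdeal Q.asIdeal g rfl (f a)).trans
            (Ideal.ResidueField.map_algebraMap (PrimeSpectrum.comap (g.comp f) Q).asIdeal Q.asIdeal
              (g.comp f) rfl a).symm))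
  exact DFunLike.congr_fun key x

theorem surjective_congr {A C : Type u} [CommRing A] [CommRing C] {h h' : A →+* C} (e : h = h')
    (Q : PrimeSpectrum C)
    (hs : Function.Surjective (Ideal.ResidueField.map (PrimeSpectrum.comap h Q).asIdeal
      Q.asIdeal h rfl)) :
    Function.Surjective (Ideal.ResidueField.map (PrimeSpectrum.comap h' Q).asIdeal
      Q.asIdeal h' rfl) := by
  subst e
  exact hs

/-- For the identity endofunctor, a commutative ring A with finitely many minimal prime ideals and an
A-algebra B with Spec B → Spec A surjective, the subring (B/A) ⊆ B (elements b whose residue classes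
(b mod q)_q come from a family in M(A) ⊆ ∏_p k(p), M(A) being the families that come from an element
of R after any base change to a valuation ring R) is the seminormalization of A in B: Spec (B/A) →
Spec A is a universal homeomorphism with trivial residue field extensions, and every A-subalgebra C
of B with these two properties is contained in (B/A). -/
theorem result (A B : Type u) [CommRing A] [CommRing B] [Algebra A B] (hA : (minimalPrimes A).Finite)
    (hs : Function.Surjective (PrimeSpectrum.comap (algebraMap A B))) :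
    (FlatMor.IsUnivHomeo (Spec.map (CommRingCat.ofHom (EtaPt.FieldEndo.ident.{u}.qRel (algebraMap A B)))) ∧
      HTop.ResidueFieldsIso (Spec.map (CommRingCat.ofHom (EtaPt.FieldEndo.ident.{u}.qRel (algebraMap A B))))) ∧
    ∀ C : Subalgebra A B,
      FlatMor.IsUnivHomeo (Spec.map (CommRingCat.ofHom (algebraMap A C))) →
      HTop.ResidueFieldsIso (Spec.map (CommRingCat.ofHom (algebraMap A C))) →
      C.toSubring ≤ EtaPt.FieldEndo.ident.{u}.rel (algebraMap A B) := by
  let η := EtaPt.FieldEndo.ident.{u}
  let f := algebraMap A B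
  have hinj : Function.Injective (η.Nmap f) := by
    intro x y hxy
    funext p
    obtain ⟨q, rfl⟩ := hs p
    have := congrFun hxy q
    exact (η.map (Ideal.ResidueField.map (PrimeSpectrum.comap f q).asIdeal q.asIdeal f rfl)).injective this
  obtain ⟨χ, hχ⟩ := exists_chi η f hinj
  have hχq : χ.comp (η.qRel f) = η.q A := RingHom.ext fun a => Subtype.ext (hinj (by
    rw [RingHom.comp_apply, hχ]
    exact (η.Nmap_t_apply f a).symm))
  have hnil : ∀ b : η.rel f, χ b = 0 → IsNilpotent b := fun b hb => by
    have h0 : η.t B b = 0 := by rw [← hχ b, hb]; exact map_zero _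
    obtain ⟨n, hn⟩ : IsNilpotent (b : B) := nilpotent_iff_mem_prime.mpr fun q hq => by
      have h1 := congrFun h0 ⟨q, hq⟩
      exact Ideal.algebraMap_residueField_eq_zero.mp
        ((η.eta _).injective (h1.trans (map_zero _).symm))
    exact ⟨n, Subtype.ext hn⟩
  have hqint := Groth.Agent.S13802.result η A hA
  have hint : (η.qRel f).IsIntegral := fun b => by
    obtain ⟨P, hP, hP0⟩ := hqint (χ b)
    have : χ (Polynomial.eval₂ (η.qRel f) b P) = 0 := by
      rw [Polynomial.hom_eval₂, hχq, hP0]
    obtain ⟨n, hn⟩ := hnil _ this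
    refine ⟨P ^ n, hP.pow n, ?_⟩
    rw [Polynomial.eval₂_pow, hn]
  have hχint : χ.IsIntegral := by
    refine RingHom.IsIntegral.tower_top (η.qRel f) χ ?_
    rw [hχq]
    exact hqint
  have hcsurj : Function.Surjective (PrimeSpectrum.comap χ) := fun Q => by
    let _ := χ.toAlgebra
    have : Algebra.IsIntegral (η.rel f) (η.M A) := ⟨hχint⟩
    obtain ⟨Q', hQ', hQQ'⟩ := Ideal.exists_ideal_over_prime_of_isIntegral Q.asIdeal
      (⊥ : Ideal (η.M A)) (fun b hb => by
        obtain ⟨n, hn⟩ := hnil b hb
        exact Q.isPrime.mem_of_pow_mem n (hn ▸ zero_mem _))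
    exact ⟨⟨Q', hQQ'.1⟩, PrimeSpectrum.ext hQQ'.2⟩
  have hqb := (Groth.Agent.S13803.result η A hA).1
  have hcomp : PrimeSpectrum.comap (η.q A) =
      PrimeSpectrum.comap (η.qRel f) ∘ PrimeSpectrum.comap χ := by
    rw [← hχq]; rfl
  have hb : Function.Bijective (PrimeSpectrum.comap (η.qRel f)) := by
    rw [hcomp] at hqb
    refine ⟨fun Q Q' h => ?_, fun p => ?_⟩
    · obtain ⟨R, rfl⟩ := hcsurj Q
      obtain ⟨R', rfl⟩ := hcsurj Q'
      rw [hqb.1 h]
    · obtain ⟨R, rfl⟩ := hqb.2 p
      exact ⟨_, rfl⟩
  refine ⟨Eta.univHomeo_of_integral _ hint hb fun Q => ?_, fun C hC hC' c hc => ?_⟩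
  · obtain ⟨Q', rfl⟩ := hcsurj Q
    exact surjective_of_comp (η.qRel f) χ Q'
      (surjective_congr hχq.symm Q' (Groth.Agent.S13826.residue_surjective A hA Q'))
  · obtain ⟨hCint, hCb⟩ := Eta.integral_bijective_of_univHomeo _ hC
    have hres := Eta.surjective_residue_of_residueFieldsIso _ hC'
    obtain ⟨θ, hθ, -⟩ := Groth.Agent.S13826.exists_unique_hom A (algebraMap A C) hCint hCb hres
    refine ⟨θ ⟨c, hc⟩, (θ ⟨c, hc⟩).2, funext fun q => ?_⟩
    refine DFunLike.congr_fun (Eta.hom_ext_field (algebraMap A C) hCb.1 hres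
      ((Pi.evalRingHom (fun q : PrimeSpectrum B => η.obj q.asIdeal.ResidueField) q).comp
        ((η.Nmap f).comp ((η.M A).subtype.comp θ)))
      ((Pi.evalRingHom (fun q : PrimeSpectrum B => η.obj q.asIdeal.ResidueField) q).comp
        ((η.t B).comp C.val.toRingHom)) (RingHom.ext fun a => ?_)) ⟨c, hc⟩
    simp only [RingHom.comp_apply]
    rw [← RingHom.comp_apply θ, hθ]
    exact congrFun (η.Nmap_t_apply f a) q

end Groth.Agent.S13830
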