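import Groth.Statements.S13831
import Groth.Agent.DimTrdeg.Scheme
import Groth.Agent.Weighting.Geom

set_option autoImplicit false
universe u
open AlgebraicGeometry
open ChowMon

namespace Groth.Agent.S13831

open CategoryTheory AlgebraicGeometry in
theorem finrank_le_card {K L A B : Type u} [Field K] [Field L] [Algebra K L] [CommRing A] [CommRing B]
    (φ : A →+* K) (ψ : B →+* L) (α : A →+* B) (hc : ∀ a, ψ (α a) = algebraMap K L (φ a))
    (s : Finset B) (hs : ∀ b : B, ∃ c : B → A, b = ∑ i ∈ s, α (c i) * i)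
    (hf : ∀ z : L, ∃ a b : B, ψ b ≠ 0 ∧ z * ψ b = ψ a) : Module.finrank K L ≤ s.card := by
  classical
  let W : Submodule K L := Submodule.span K (↑(s.image ψ) : Set L)
  have hW : ∀ b : B, ψ b ∈ W := by
    intro b
    obtain ⟨c, rfl⟩ := hs b
    rw [map_sum]
    refine Submodule.sum_mem _ fun i hi => ?_
    rw [map_mul, hc, ← Algebra.smul_def]
    exact Submodule.smul_mem _ _ (Submodule.subset_span (Finset.mem_image_of_mem ψ hi))
  haveI : FiniteDimensional K W := FiniteDimensional.span_finset K _
  let S : Subalgebra K L := Algebra.adjoin K (Set.range ψ)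
  have hSW : Subalgebra.toSubmodule S ≤ W := by
    rw [Algebra.adjoin_eq_span]
    refine Submodule.span_le.2 ?_
    intro x hx
    have : x ∈ ψ.range := (Submonoid.closure_le (S := ψ.range.toSubmonoid)).2 (fun y hy => hy) hx
    obtain ⟨b, rfl⟩ := this
    exact hW b
  haveI : FiniteDimensional K (Subalgebra.toSubmodule S) := Submodule.finiteDimensional_of_le hSW
  have hfld : ∀ z : L, z ∈ S := by
    intro z
    obtain ⟨a, b, hb, h⟩ := hf z
    have hbS : ψ b ∈ S := Algebra.subset_adjoin ⟨b, rfl⟩
    have haS : ψ a ∈ S := Algebra.subset_adjoin ⟨a, rfl⟩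
    haveI : Algebra.IsAlgebraic K S := Algebra.IsAlgebraic.of_finite K S
    have hinv : (ψ b)⁻¹ ∈ S := S.inv_mem_of_algebraic (x := ⟨ψ b, hbS⟩)
      (((Algebra.IsIntegral.of_finite K S).isIntegral ⟨ψ b, hbS⟩).map S.val).isAlgebraic
    have hz : z = ψ a * (ψ b)⁻¹ := by rw [← h, mul_assoc, mul_inv_cancel₀ hb, mul_one]
    exact hz ▸ S.mul_mem haS hinv
  calc Module.finrank K L = Module.finrank K (⊤ : Submodule K L) := (finrank_top K L).symm
    _ ≤ Module.finrank K W := Submodule.finrank_mono fun z _ => hSW (hfld z)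
    _ ≤ (s.image ψ).card := finrank_span_finset_le_card _
    _ ≤ s.card := Finset.card_image_le


open CategoryTheory AlgebraicGeometry TopologicalSpace Opposite in
theorem exists_bound {T' T : Scheme.{u}} (p : T' ⟶ T) [IsFinite p] [CompactSpace T] :
    ∃ N : ℕ, ∀ x : T', @Module.finrank (T.residueField (p x)) (T'.residueField x) _ _
      (p.residueFieldMap x).hom.toAlgebra.toModule ≤ N := by
  classical
  have h : ∀ U : T.affineOpens, ∃ N : ℕ, ∀ x : T', p x ∈ U.1 →
      @Module.finrank (T.residueField (p x)) (T'.residueField x) _ _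
        (p.residueFieldMap x).hom.toAlgebra.toModule ≤ N := by
    intro U
    letI := (p.app U.1).hom.toAlgebra
    haveI : Module.Finite Γ(T, U.1) Γ(T', p ⁻¹ᵁ U.1) := p.finite_app U.1 U.2
    obtain ⟨s, hs⟩ := Module.Finite.fg_top (R := Γ(T, U.1)) (M := Γ(T', p ⁻¹ᵁ U.1))
    refine ⟨s.card, fun x hx => ?_⟩
    letI := (p.residueFieldMap x).hom.toAlgebra
    refine finrank_le_card (T.evaluation U.1 (p x) hx).hom (T'.evaluation (p ⁻¹ᵁ U.1) x hx).hom
      (p.app U.1).hom (fun a => (ConcreteCategory.congr_hom (Scheme.evaluation_naturality p x hx) a).symm) s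
      (fun b => ?_) (fun z => DimTrdeg.exists_evaluation_fraction (U.2.preimage p) x hx z)
    have hb : b ∈ Submodule.span Γ(T, U.1) (↑s : Set Γ(T', p ⁻¹ᵁ U.1)) := hs ▸ Submodule.mem_top
    obtain ⟨c, -, hc⟩ := Submodule.mem_span_finset.1 hb
    exact ⟨c, hc.symm.trans (Finset.sum_congr rfl fun i _ => rfl)⟩
  choose N hN using h
  obtain ⟨t, ht⟩ := isCompact_univ.elim_finite_subcover (fun U : T.affineOpens => (U.1 : Set T))
    (fun U => U.1.isOpen) (fun y _ => by
      obtain ⟨W, hW, hy, -⟩ := exists_isAffineOpen_mem_and_subset (X := T) (x := y) (U := ⊤) trivial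
      exact Set.mem_iUnion.2 ⟨⟨W, hW⟩, hy⟩)
  refine ⟨t.sup N, fun x => ?_⟩
  obtain ⟨U, hU, hxU⟩ := Set.mem_iUnion₂.1 (ht (Set.mem_univ (p x)))
  exact (hN U x hxU).trans (Finset.le_sup hU)

/-- For a finite universal homeomorphism p : T' → T of Noetherian schemes there is an integer d ≥ 1 such
that for every point t' of T' over t the residue field degree [k(t') : k(t)] is a power of the
exponential characteristic of k(t) dividing d. -/
theorem result {T' T : Scheme.{u}} (p : T' ⟶ T) [IsFinite p] (hp : FlatMor.IsUnivHomeo p)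
    [IsNoetherian T] [IsNoetherian T'] [T.IsSeparated] [T'.IsSeparated] :
    ∃ d : ℕ, 0 < d ∧ ∀ t' : T', ∃ e : ℕ,
      @Module.finrank (T.residueField (p t')) (T'.residueField t') _ _
          (p.residueFieldMap t').hom.toAlgebra.toModule =
        ringExpChar (T.residueField (p t')) ^ e ∧
      ringExpChar (T.residueField (p t')) ^ e ∣ d := by
  obtain ⟨N, hN⟩ := exists_bound p
  have hinj : UniversallyInjective p :=
    ⟨fun _ _ _ _ _ h => (hp _ _ _ h).injective⟩
  refine ⟨N.factorial, N.factorial_pos, fun t' => ?_⟩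
  letI := (p.residueFieldMap t').hom.toAlgebra
  have hpi : (p.residueFieldMap t').hom.IsPurelyInseparable :=
    (((tfae_universallyInjective p).out 0 2 (a := UniversallyInjective p) (b := Function.Injective p ∧ ∀ x, (p.residueFieldMap x).hom.IsPurelyInseparable)).1 hinj).2 t'
  haveI : IsPurelyInseparable (T.residueField (p t')) (T'.residueField t') := hpi
  haveI : FiniteDimensional (T.residueField (p t')) (T'.residueField t') :=
    RingHom.finite_algebraMap.1 (Weighting.residueFieldMap_finite p t')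
  obtain ⟨e, he⟩ := IsPurelyInseparable.finrank_eq_pow (T.residueField (p t')) (T'.residueField t')
    (ringExpChar (T.residueField (p t')))
  exact ⟨e, he, Nat.dvd_factorial (he ▸ Module.finrank_pos) (he ▸ hN t')⟩

end Groth.Agent.S13831
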