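import Groth.Statements.S13835
import Groth.Agent.AWN.Normal
-- import your own Groth.Agent.* helpers here

set_option autoImplicit false
universe u
open AlgebraicGeometry CategoryTheory
open ChowMon

open Groth.Agent.AWN

namespace Groth.Agent.S13835

/-- Let p : T' → T be a universal homeomorphism of separated schemes with T reduced and f' : T' → Y a
morphism (Y separated); if T has an open cover by affine opens U_i such that each restriction of f'
to p⁻¹(U_i) factors through p⁻¹(U_i) → U_i, then f' factors through p. -/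
theorem result {T' T Y : Scheme.{u}} (p : T' ⟶ T) (hp : FlatMor.IsUnivHomeo p) [IsReduced T]
    [T.IsSeparated] [T'.IsSeparated] [Y.IsSeparated] (f' : T' ⟶ Y)
    {ι : Type u} (U : ι → T.affineOpens) (hU : ⨆ i, (U i : T.Opens) = ⊤)
    (hloc : ∀ i, ∃ fi : ((U i : T.Opens) : Scheme.{u}) ⟶ Y, (p ⁻¹ᵁ (U i : T.Opens)).ι ≫ f' = (p ∣_ (U i : T.Opens)) ≫ fi) :
    ∃ f : T ⟶ Y, p ≫ f = f' := by
    haveI : Surjective p := ((isUnivHomeo_iff p).mp hp).2.2
    have hq : ∀ V : T.Opens, IsDominant (p ∣_ V) := fun V => by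
      haveI : Surjective (p ∣_ V) := MorphismProperty.of_isPullback (isPullback_morphismRestrict p V).flip ‹Surjective p›
      infer_instance
    choose fi hfi using hloc
    let 𝒰 := T.openCoverOfIsOpenCover (fun i => (U i : T.Opens)) hU
    have hcompat : ∀ a b, Limits.pullback.fst (𝒰.f a) (𝒰.f b) ≫ fi a = Limits.pullback.snd _ _ ≫ fi b := fun a b => by
      let W := Limits.pullback (𝒰.f a) (𝒰.f b)
      let wι : W ⟶ T := Limits.pullback.fst _ _ ≫ 𝒰.f a
      haveI : IsReduced W := isReduced_of_isOpenImmersion wι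
      let P := Limits.pullback p wι
      haveI : Surjective (Limits.pullback.snd p wι) := MorphismProperty.pullback_snd p wι ‹Surjective p›
      refine ext_of_isDominant (Limits.pullback.snd p wι) ?_
      have key : ∀ (c : ι) (π : W ⟶ (U c : T.Opens).toScheme), π ≫ (U c : T.Opens).ι = wι →
          Limits.pullback.snd p wι ≫ π ≫ fi c = Limits.pullback.fst p wι ≫ f' := fun c π hπ => by
        let l := (isPullback_morphismRestrict p (U c : T.Opens)).lift (Limits.pullback.snd p wι ≫ π) (Limits.pullback.fst p wι)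
          (by rw [Category.assoc, hπ, Limits.pullback.condition])
        have h1 : l ≫ (p ∣_ (U c : T.Opens)) = Limits.pullback.snd p wι ≫ π := IsPullback.lift_fst _ _ _ _
        have h2 : l ≫ (p ⁻¹ᵁ (U c : T.Opens)).ι = Limits.pullback.fst p wι := IsPullback.lift_snd _ _ _ _
        rw [← reassoc_of% h1, ← hfi, reassoc_of% h2]
      exact (key a _ rfl).trans (key b _ Limits.pullback.condition.symm).symm
    refine ⟨Scheme.Cover.glueMorphisms 𝒰 fi hcompat, ?_⟩
    refine Scheme.Cover.hom_ext (𝒰.pullback₁ p) _ _ fun i => ?_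
    show Limits.pullback.fst p (𝒰.f i) ≫ p ≫ Scheme.Cover.glueMorphisms 𝒰 fi hcompat = Limits.pullback.fst p (𝒰.f i) ≫ f'
    rw [reassoc_of% Limits.pullback.condition (f := p) (g := 𝒰.f i), Scheme.Cover.ι_glueMorphisms]
    let e := (IsPullback.of_hasPullback p (𝒰.f i)).isoIsPullback _ _ (isPullback_morphismRestrict p (U i : T.Opens)).flip
    have h1 : e.hom ≫ (p ⁻¹ᵁ (U i : T.Opens)).ι = Limits.pullback.fst p (𝒰.f i) := IsPullback.isoIsPullback_hom_fst _ _ _ _
    have h2 : e.hom ≫ (p ∣_ (U i : T.Opens)) = Limits.pullback.snd p (𝒰.f i) := IsPullback.isoIsPullback_hom_snd _ _ _ _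
    simp only [← h1, ← h2, Category.assoc, hfi]
    exact Category.assoc _ _ _

end Groth.Agent.S13835
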