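import Groth.Statements.S13837
import Mathlib

set_option autoImplicit false
universe u
open AlgebraicGeometry
open scoped TensorProduct
open HTop

namespace Groth.Agent.S13837

open CategoryTheory AlgebraicGeometry in
lemma isUnivHomeo_iff {A E : Type u} [CommRing A] [CommRing E] (f : A →+* E) :
    FlatMor.IsUnivHomeo (Spec.map (CommRingCat.ofHom f)) →
      ∀ (K : Type u) [Field K] (g₁ g₂ : E →+* K), g₁.comp f = g₂.comp f → g₁ = g₂ := by
  intro h K _ g₁ g₂ hg
  have hUI : UniversallyInjective (Spec.map (CommRingCat.ofHom f)) :=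
    ⟨fun _ _ i j k hk ↦ (h i j k hk).injective⟩
  have hT : ∀ (L : Type u) [Field L], Function.Injective
      (fun g : Spec (CommRingCat.of L) ⟶ Spec (CommRingCat.of E) ↦
        g ≫ Spec.map (CommRingCat.ofHom f)) :=
    ((tfae_universallyInjective (Spec.map (CommRingCat.ofHom f))).out 0 1).mp hUI
  have := hT K
  have := @this (Spec.map (CommRingCat.ofHom g₁)) (Spec.map (CommRingCat.ofHom g₂)) (by
    simp only [← Spec.map_comp, ← CommRingCat.ofHom_comp, hg])
  exact congrArg CommRingCat.Hom.hom (Spec.map_injective this)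

open CategoryTheory AlgebraicGeometry in
lemma isUnivHomeo_of_integral {A E : Type u} [CommRing A] [CommRing E] (f : A →+* E)
    (hf : f.IsIntegral) (hinj : Function.Injective f)
    (hui : ∀ (K : Type u) [Field K] (g₁ g₂ : E →+* K), g₁.comp f = g₂.comp f → g₁ = g₂) :
    FlatMor.IsUnivHomeo (Spec.map (CommRingCat.ofHom f)) := by
  let F := Spec.map (CommRingCat.ofHom f)
  have : IsIntegralHom F := IsIntegralHom.SpecMap_iff.mpr hf
  have : Surjective F := ⟨hf.comap_surjective hinj⟩
  have : UniversallyInjective F := by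
    refine ((tfae_universallyInjective F).out 0 1).mpr fun K (_ : Field K) s₁ s₂ hs ↦ ?_
    obtain ⟨g₁, rfl⟩ := Spec.map_surjective s₁
    obtain ⟨g₂, rfl⟩ := Spec.map_surjective s₂
    simp only [F, ← Spec.map_comp] at hs
    have := congrArg CommRingCat.Hom.hom (Spec.map_injective hs)
    exact congrArg Spec.map (CommRingCat.hom_ext (hui K g₁.hom g₂.hom this))
  intro X' Y' i₁ i₂ f' h
  have : UniversallyClosed f' := MorphismProperty.of_isPullback h.flip inferInstance
  have : UniversallyInjective f' := MorphismProperty.of_isPullback h.flip inferInstance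
  have : Surjective f' := MorphismProperty.of_isPullback h.flip inferInstance
  exact isHomeomorph_iff_continuous_isClosedMap_bijective.mpr
    ⟨f'.continuous, f'.isClosedMap, f'.injective, f'.surjective⟩

lemma exists_extension {E B : Type u} [CommRing E] [CommRing B] [Algebra E B]
    [Algebra.IsIntegral E B] (hinj : Function.Injective (algebraMap E B))
    (L : Type u) [Field L] [IsAlgClosed L] (g : E →+* L) :
    ∃ h : B →+* L, h.comp (algebraMap E B) = g := by
  obtain ⟨p, hp⟩ : ∃ p : PrimeSpectrum E, p.asIdeal = RingHom.ker g :=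
    ⟨⟨RingHom.ker g, RingHom.ker_isPrime g⟩, rfl⟩
  have : Nontrivial (p.asIdeal.ResidueField ⊗[E] B) :=
    (PrimeSpectrum.nontrivial_iff_mem_rangeComap p).mpr
      ((RingHom.IsIntegral.comap_surjective
        (Algebra.IsIntegral.isIntegral : (algebraMap E B).IsIntegral) hinj) p)
  let ψ : p.asIdeal.ResidueField →+* L := Ideal.ResidueField.lift p.asIdeal g hp.le
    (fun x hx ↦ isUnit_iff_ne_zero.mpr fun h0 ↦ hx (hp ▸ h0))
  let : Algebra p.asIdeal.ResidueField L := ψ.toAlgebra
  let T := L ⊗[p.asIdeal.ResidueField] (p.asIdeal.ResidueField ⊗[E] B)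
  have : Nontrivial T :=
    (Algebra.TensorProduct.includeRight_injective (A := L) (B := p.asIdeal.ResidueField ⊗[E] B)
      (algebraMap p.asIdeal.ResidueField L).injective).nontrivial
  obtain ⟨M, hM⟩ := Ideal.exists_maximal T
  let := Ideal.Quotient.field M
  have : Algebra.IsIntegral L (T ⧸ M) := inferInstance
  let e := RingEquiv.ofBijective (algebraMap L (T ⧸ M))
    (IsAlgClosed.algebraMap_bijective_of_isIntegral)
  refine ⟨e.symm.toRingHom.comp ((Ideal.Quotient.mk M).comp
    ((Algebra.TensorProduct.includeRight (R := p.asIdeal.ResidueField) (A := L)).toRingHom.comp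
      (Algebra.TensorProduct.includeRight (R := E) (A := p.asIdeal.ResidueField) (B := B)).toRingHom)),
    RingHom.ext fun x ↦ ?_⟩
  simp only [RingHom.comp_apply, AlgHom.toRingHom_eq_coe, RingHom.coe_coe, RingEquiv.toRingHom_eq_coe]
  rw [RingEquiv.symm_apply_eq]
  change Ideal.Quotient.mk M (Algebra.TensorProduct.includeRight (R := p.asIdeal.ResidueField) _) =
    Ideal.Quotient.mk M (algebraMap L T (g x))
  congr 1
  rw [AlgHom.commutes, IsScalarTower.algebraMap_apply E p.asIdeal.ResidueField
    (p.asIdeal.ResidueField ⊗[E] B), AlgHom.commutes,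
    IsScalarTower.algebraMap_apply p.asIdeal.ResidueField L T]
  congr 1
  exact Ideal.ResidueField.lift_algebraMap ..

/-- Let A ⊆ B be an integral ring extension where A and B have finitely many minimal prime ideals; then
the weak normalization of A in B is the equaliser of the two maps B ⇉ (B ⊗_A B)_red: the
A-subalgebra E of elements b with b ⊗ 1 − 1 ⊗ b nilpotent in B ⊗_A B has Spec E → Spec A a universal
homeomorphism, and every A-subalgebra C of B with Spec C → Spec A a universal homeomorphism is
contained in E. -/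
theorem result (A B : Type u) [CommRing A] [CommRing B] [Algebra A B] (hinj : Function.Injective (algebraMap A B))
    [Algebra.IsIntegral A B] (hA : (minimalPrimes A).Finite) (hB : (minimalPrimes B).Finite) :
    ∃ E : Subalgebra A B, (∀ b : B, b ∈ E ↔ IsNilpotent (b ⊗ₜ[A] (1 : B) - (1 : B) ⊗ₜ[A] b)) ∧
      FlatMor.IsUnivHomeo (Spec.map (CommRingCat.ofHom (algebraMap A E))) ∧
      ∀ C : Subalgebra A B, FlatMor.IsUnivHomeo (Spec.map (CommRingCat.ofHom (algebraMap A C))) → C ≤ E := by
  let N := nilradical (B ⊗[A] B)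
  let φ₁ : B →ₐ[A] (B ⊗[A] B) ⧸ N :=
    (Ideal.Quotient.mkₐ A N).comp Algebra.TensorProduct.includeLeft
  let φ₂ : B →ₐ[A] (B ⊗[A] B) ⧸ N :=
    (Ideal.Quotient.mkₐ A N).comp Algebra.TensorProduct.includeRight
  let E : Subalgebra A B := AlgHom.equalizer φ₁ φ₂
  have hE : ∀ b : B, b ∈ E ↔ IsNilpotent (b ⊗ₜ[A] (1 : B) - (1 : B) ⊗ₜ[A] b) := fun b ↦ by
    rw [← mem_nilradical, ← Ideal.Quotient.mk_eq_mk_iff_sub_mem]
    rfl
  have hAE : Function.Injective (algebraMap A E) := fun x y h ↦ hinj (congrArg Subtype.val h)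
  have hint : Algebra.IsIntegral A E := Algebra.IsIntegral.of_injective E.val Subtype.val_injective
  refine ⟨E, hE, isUnivHomeo_of_integral _ hint.isIntegral hAE ?_, fun C hC c hc ↦ ?_⟩
  · intro K _ g₁ g₂ hg
    have : Algebra.IsIntegral E B := Algebra.IsIntegral.tower_top (R := A)
    let j := algebraMap K (AlgebraicClosure K)
    obtain ⟨h₁, hh₁⟩ := exists_extension (E := E) (B := B) Subtype.val_injective
      (AlgebraicClosure K) (j.comp g₁)
    obtain ⟨h₂, hh₂⟩ := exists_extension (E := E) (B := B) Subtype.val_injective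
      (AlgebraicClosure K) (j.comp g₂)
    algebraize [(j.comp g₁).comp (algebraMap A E)]
    let a₁ : B →ₐ[A] AlgebraicClosure K := { h₁ with
      commutes' := fun a ↦ RingHom.congr_fun hh₁ (algebraMap A E a) }
    let a₂ : B →ₐ[A] AlgebraicClosure K := { h₂ with
      commutes' := fun a ↦ (RingHom.congr_fun hh₂ (algebraMap A E a)).trans
        (congrArg j (RingHom.congr_fun hg a).symm) }
    ext e
    apply (algebraMap K (AlgebraicClosure K)).injective
    have := ((hE e.1).mp e.2).map (Algebra.TensorProduct.lift a₁ a₂ fun _ _ ↦ .all _ _)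
    rw [map_sub, Algebra.TensorProduct.lift_tmul, Algebra.TensorProduct.lift_tmul, map_one,
      map_one, mul_one, one_mul] at this
    have := sub_eq_zero.mp this.eq_zero
    exact ((RingHom.congr_fun hh₁ e).symm.trans this).trans (RingHom.congr_fun hh₂ e)
  · rw [hE]
    suffices IsNilpotent ((⟨c, hc⟩ : C) ⊗ₜ[A] (1 : C) - (1 : C) ⊗ₜ[A] (⟨c, hc⟩ : C)) by
      simpa using this.map (Algebra.TensorProduct.map C.val C.val)
    rw [← mem_nilradical, nilradical_eq_sInf, Submodule.mem_sInf]
    intro (Q : Ideal (C ⊗[A] C)) hQ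
    have : Q.IsPrime := hQ
    let π := algebraMap (C ⊗[A] C) Q.ResidueField
    have h := isUnivHomeo_iff (algebraMap A C) hC Q.ResidueField
      (π.comp Algebra.TensorProduct.includeLeftRingHom)
      (π.comp (Algebra.TensorProduct.includeRight : C →ₐ[A] C ⊗[A] C).toRingHom) (by
        ext a
        exact congrArg π ((Algebra.TensorProduct.includeRight : C →ₐ[A] C ⊗[A] C).commutes a).symm)
    rw [← Ideal.algebraMap_residueField_eq_zero, map_sub, sub_eq_zero]
    exact RingHom.congr_fun h _

end Groth.Agent.S13837
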