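import Groth.Statements.S13838
import Mathlib
import Groth.Agent.Eta.UnivHomeo

set_option autoImplicit false
universe u
open AlgebraicGeometry
open HTop

namespace Groth.Agent.S13838

open CategoryTheory AlgebraicGeometry in
lemma agree {A E : Type u} [CommRing A] [CommRing E] (f : A →+* E)
    (h : FlatMor.IsUnivHomeo (Spec.map (CommRingCat.ofHom f))) {K : Type u} [Field K]
    {g₁ g₂ : E →+* K} (hg : g₁.comp f = g₂.comp f) : g₁ = g₂ := by
  have hUI : UniversallyInjective (Spec.map (CommRingCat.ofHom f)) :=
    ⟨fun _ _ i j k hk ↦ (h i j k hk).injective⟩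
  have hT : ∀ (L : Type u) [Field L], Function.Injective
      (fun g : Spec (CommRingCat.of L) ⟶ Spec (CommRingCat.of E) ↦
        g ≫ Spec.map (CommRingCat.ofHom f)) :=
    ((tfae_universallyInjective (Spec.map (CommRingCat.ofHom f))).out 0 1).mp hUI
  have := @hT K _ (Spec.map (CommRingCat.ofHom g₁)) (Spec.map (CommRingCat.ofHom g₂)) (by
    simp only [← Spec.map_comp, ← CommRingCat.ofHom_comp, hg])
  exact congrArg CommRingCat.Hom.hom (Spec.map_injective this)

/-- Let A ⊆ B be an integral ring extension where A and B have finitely many minimal prime ideals, such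
that every prime p of A has a prime q of B above it for which k(p) is closed under extracting
p-power roots inside k(q) (the purely inseparable closure of k(p) in k(q) is k(p)); then the semi-
and weak normalizations of A in B coincide: every A-subalgebra C of B with Spec C → Spec A a
universal homeomorphism already induces isomorphisms on residue fields. -/
theorem result (A B : Type u) [CommRing A] [CommRing B] [Algebra A B] (hinj : Function.Injective (algebraMap A B))
    [Algebra.IsIntegral A B] (hA : (minimalPrimes A).Finite) (hB : (minimalPrimes B).Finite)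
    (hpi : ∀ p : PrimeSpectrum A, ∃ q : PrimeSpectrum B, ∃ hq : p.asIdeal = Ideal.comap (algebraMap A B) q.asIdeal,
      ∀ x : q.asIdeal.ResidueField,
        (∃ n : ℕ, x ^ ringExpChar p.asIdeal.ResidueField ^ n ∈
            Set.range (Ideal.ResidueField.map p.asIdeal q.asIdeal (algebraMap A B) hq)) →
        x ∈ Set.range (Ideal.ResidueField.map p.asIdeal q.asIdeal (algebraMap A B) hq)) :
    ∀ C : Subalgebra A B, FlatMor.IsUnivHomeo (Spec.map (CommRingCat.ofHom (algebraMap A C))) →
      HTop.ResidueFieldsIso (Spec.map (CommRingCat.ofHom (algebraMap A C))) := by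
  intro C hC
  obtain ⟨hint, hbij⟩ := Groth.Agent.Eta.integral_bijective_of_univHomeo _ hC
  have hint' : Algebra.IsIntegral A C := ⟨hint⟩
  intro c
  refine (Groth.Agent.Eta.residueFieldMap_bijective_iff (algebraMap A C) c).mpr
    ⟨RingHom.injective _, fun x ↦ ?_⟩
  let p := PrimeSpectrum.comap (algebraMap A C) c
  obtain ⟨q, hq, hsep⟩ := hpi p
  have hqc : PrimeSpectrum.comap C.val.toRingHom q = c := by
    apply hbij.1
    apply PrimeSpectrum.ext
    exact hq.symm
  obtain rfl := hqc
  let c := PrimeSpectrum.comap C.val.toRingHom q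
  have : c.asIdeal.LiesOver p.asIdeal := ⟨rfl⟩
  let m := Ideal.ResidueField.map p.asIdeal c.asIdeal (algebraMap A C) rfl
  let : Algebra p.asIdeal.ResidueField c.asIdeal.ResidueField := m.toAlgebra
  have hsc : IsScalarTower A p.asIdeal.ResidueField c.asIdeal.ResidueField :=
    .of_algebraMap_eq fun a ↦ by
      rw [IsScalarTower.algebraMap_apply A C c.asIdeal.ResidueField]
      exact (Ideal.ResidueField.map_algebraMap _ _ _ _ a).symm
  have halg : Algebra.IsAlgebraic p.asIdeal.ResidueField c.asIdeal.ResidueField := by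
    have hCalg : ∀ z : C, IsAlgebraic p.asIdeal.ResidueField
        (algebraMap C c.asIdeal.ResidueField z) := fun z ↦
      ((Algebra.IsIntegral.isIntegral (R := A) z).map
        (IsScalarTower.toAlgHom A C c.asIdeal.ResidueField)).tower_top.isAlgebraic
    refine ⟨fun y ↦ ?_⟩
    obtain ⟨a, b, -, hab⟩ := IsFractionRing.div_surjective (C ⧸ c.asIdeal) y
    obtain ⟨a, rfl⟩ := Ideal.Quotient.mk_surjective a
    obtain ⟨b, rfl⟩ := Ideal.Quotient.mk_surjective b
    rw [← hab]
    exact ((hCalg a).isIntegral.mul (hCalg b).isIntegral.inv).isAlgebraic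
  have hpi' : IsPurelyInseparable p.asIdeal.ResidueField c.asIdeal.ResidueField := by
    rw [isPurelyInseparable_iff_subsingleton_emb]
    refine ⟨fun σ τ ↦ AlgHom.coe_ringHom_injective (Ideal.ResidueField.ringHom_ext ?_)⟩
    apply Groth.Agent.S13838.agree (algebraMap A C) hC
    ext a
    simp only [RingHom.comp_apply, RingHom.coe_coe, ← IsScalarTower.algebraMap_apply A C]
    rw [IsScalarTower.algebraMap_apply A p.asIdeal.ResidueField c.asIdeal.ResidueField,
      AlgHom.commutes, AlgHom.commutes]
  obtain ⟨n, a, ha⟩ := hpi'.pow_mem p.asIdeal.ResidueField (ringExpChar p.asIdeal.ResidueField) x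
  let j := Ideal.ResidueField.map c.asIdeal q.asIdeal C.val.toRingHom rfl
  have hj : j.comp m = Ideal.ResidueField.map p.asIdeal q.asIdeal (algebraMap A B) hq := by
    refine Ideal.ResidueField.ringHom_ext (RingHom.ext fun a ↦ ?_)
    exact ((congrArg j (Ideal.ResidueField.map_algebraMap _ _ _ _ a)).trans
      (Ideal.ResidueField.map_algebraMap _ _ _ _ (algebraMap A C a))).trans
      (Ideal.ResidueField.map_algebraMap _ _ _ _ a).symm
  obtain ⟨y, hy⟩ := hsep (j x) ⟨n, a, by
    rw [← hj, RingHom.comp_apply, ← map_pow]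
    exact congrArg j ha⟩
  exact ⟨y, j.injective ((RingHom.congr_fun hj y).trans hy)⟩

end Groth.Agent.S13838
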