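import Groth.Statements.S13839
import Groth.Agent.ChowNorm.Seminormal
import Groth.Agent.ChowNorm.TSField
import Mathlib.AlgebraicGeometry.Morphisms.UniversallyInjective
import Mathlib.RingTheory.LocalRing.ResidueField.Ideal

set_option autoImplicit false
universe u
open AlgebraicGeometry
open scoped TensorProduct
open ChowMon

namespace Groth.Agent.S13839

/-- Let C be a Noetherian seminormal A-algebra, g : C → C' an A-algebra map with C' reduced such that
Spec C' → Spec C is a finite universal homeomorphism, and d ≥ 1 an integer divisible by every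
residue degree [k(q) : k(g⁻¹q)]; let B be a flat A-algebra and φ : B → C' an A-algebra map. Then for
every symmetric tensor x ∈ TS^d_A(B) the element φ(m_d(x)) of C', m_d : B^{⊗d} → B the
multiplication, lies in the image of C. (The published statement does not assume C' reduced and is
false without it: take A = C = k a field, C' = k[ε]/(ε²), d = 1, B = k[t] and φ(t) = ε; then ε is
not in k.) -/
theorem result (A C C' B : Type u) [CommRing A] [CommRing C] [CommRing C'] [CommRing B]
    [Algebra A C] [Algebra A C'] [Algebra A B] [IsNoetherianRing C] (hC : HTop.IsSeminormalRing C)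
    (g : C →ₐ[A] C') [IsReduced C'] (hfin : g.toRingHom.Finite)
    (hg : FlatMor.IsUnivHomeo (Spec.map (CommRingCat.ofHom g.toRingHom)))
    (d : ℕ) (hd : 0 < d)
    (hdeg : ∀ q : PrimeSpectrum C',
      @Module.finrank (PrimeSpectrum.comap g.toRingHom q).asIdeal.ResidueField q.asIdeal.ResidueField _ _
          (Ideal.ResidueField.map (PrimeSpectrum.comap g.toRingHom q).asIdeal q.asIdeal g.toRingHom
            rfl).toAlgebra.toModule ∣ d)
    [Module.Flat A B] (φ : B →ₐ[A] C') (x : ⨂[A] _ : Fin d, B) (hx : x ∈ SymTen.TS A B d) :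
    φ (PiTensorProduct.lift (MultilinearMap.mkPiAlgebra A (Fin d) B) x) ∈ g.range := by
  let : Algebra C C' := g.toRingHom.toAlgebra
  have : Module.Finite C C' := hfin
  have hUI : UniversallyInjective (Spec.map (CommRingCat.ofHom g.toRingHom)) :=
    ⟨fun X Y i j h hP => (hg i j h hP).injective⟩
  have hbij : Function.Bijective (PrimeSpectrum.comap (algebraMap C C')) :=
    (hg (CategoryTheory.CategoryStruct.id _) (CategoryTheory.CategoryStruct.id _) _ CategoryTheory.IsPullback.of_id_snd).bijective
  refine ChowNorm.mem_range_of_residues hC hbij _ fun q => ?_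
  let p : Ideal C := (PrimeSpectrum.comap g.toRingHom q).asIdeal
  let K := p.ResidueField
  let L := q.asIdeal.ResidueField
  let rho : K →+* L := Ideal.ResidueField.map p q.asIdeal g.toRingHom rfl
  let : Algebra K L := rho.toAlgebra
  have hrho : ∀ a : C, rho (algebraMap C K a) = algebraMap C' L (g a) :=
    fun a => Ideal.ResidueField.map_algebraMap _ _ _ _ a
  have : IsScalarTower A K L := IsScalarTower.of_algebraMap_eq fun a => by
    show _ = rho _
    rw [IsScalarTower.algebraMap_apply A C' L, IsScalarTower.algebraMap_apply A C K, hrho, g.commutes]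
  have hdiv : Module.finrank K L ∣ d := hdeg q
  have : FiniteDimensional K L :=
    Module.finite_of_finrank_pos (Nat.pos_of_dvd_of_pos hdiv hd)
  have : IsPurelyInseparable K L := by
    rw [isPurelyInseparable_iff_subsingleton_emb]
    refine ⟨fun s₁ s₂ => AlgHom.coe_ringHom_injective (Ideal.ResidueField.ringHom_ext ?_)⟩
    let v (s : Field.Emb K L) : C' →+* AlgebraicClosure L :=
      (s : L →+* AlgebraicClosure L).comp (algebraMap C' L)
    have hv : ∀ s : Field.Emb K L, (v s).comp g.toRingHom =
        (algebraMap K (AlgebraicClosure L)).comp (algebraMap C K) := fun s => RingHom.ext fun a => by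
      show s (algebraMap C' L (g a)) = _
      rw [← hrho a]
      exact s.commutes _
    have heq := ((tfae_universallyInjective (Spec.map (CommRingCat.ofHom g.toRingHom))).out 0 1 rfl rfl).mp hUI
      (AlgebraicClosure L)
    have := @heq (Spec.map (CommRingCat.ofHom (v s₁))) (Spec.map (CommRingCat.ofHom (v s₂))) (by
      show CategoryTheory.CategoryStruct.comp _ _ = CategoryTheory.CategoryStruct.comp _ _
      rw [← Spec.map_comp, ← Spec.map_comp, ← CommRingCat.ofHom_comp, ← CommRingCat.ofHom_comp,
        hv, hv])
    exact congrArg CommRingCat.Hom.hom (Spec.map_injective this)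
  let ψ : B →ₐ[A] L := (IsScalarTower.toAlgHom A C' L).comp φ
  obtain ⟨z, hz⟩ := ChowNorm.mul_symTensor_mem_range (K := K) d hdiv ψ x hx
  obtain ⟨a, s, hs, rfl⟩ := IsFractionRing.div_surjective (A := C ⧸ p) z
  obtain ⟨a, rfl⟩ := Ideal.Quotient.mk_surjective a
  obtain ⟨s, rfl⟩ := Ideal.Quotient.mk_surjective s
  have hsp : s ∉ p := fun h => nonZeroDivisors.ne_zero hs (Ideal.Quotient.eq_zero_iff_mem.2 h)
  refine ⟨a, s, hsp, Ideal.algebraMap_residueField_eq_zero.1 ?_⟩
  have hz' : rho (algebraMap C K a / algebraMap C K s) = algebraMap C' L (φ (PiTensorProduct.lift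
      (MultilinearMap.mkPiAlgebra A (Fin d) B) x)) := hz
  rw [map_div₀, hrho, hrho] at hz'
  have hs0 : algebraMap C' L (g s) ≠ 0 := fun h => hsp (Ideal.algebraMap_residueField_eq_zero.1 h : g s ∈ q.asIdeal)
  rw [map_sub, map_mul]
  show algebraMap C' L (g s) * algebraMap C' L (φ (PiTensorProduct.lift
      (MultilinearMap.mkPiAlgebra A (Fin d) B) x)) - algebraMap C' L (g a) = 0
  rw [← hz', mul_div_cancel₀ _ hs0, sub_self]

end Groth.Agent.S13839
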