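import Groth.Statements.S13841
import Groth.Agent.CSA.IndexBC

set_option autoImplicit false
universe u v
open scoped TensorProduct
open Brauer

namespace Groth.Agent.S13841

/-- Let k be a field and A a finite-dimensional central simple k-algebra of period n. Then A has index n
if and only if there is a finite field extension k' of k of degree coprime to n such that the index
of the k'-algebra k' ⊗_k A divides n. (The published statement is for a class of period n in H²(X,
G_m) on a scheme X over k; this row is the case where X is the spectrum of k.) -/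
theorem result (k : Type u) [Field k] (A : Type v) [Ring A] [Algebra k A]
    [Algebra.IsCentral k A] [IsSimpleRing A] [FiniteDimensional k A] (n : ℕ) (hper : CSAGal.IsPeriod k A n) :
    CSAGal.IsIndex k A n ↔
      ∃ (k' : Type u) (_ : Field k') (_ : Algebra k k') (_ : FiniteDimensional k k'),
        Nat.Coprime n (Module.finrank k k') ∧ ∃ d' : ℕ, CSAGal.IsIndex k' (k' ⊗[k] A) d' ∧ d' ∣ n := by
  constructor
  · intro hI
    have := Groth.Agent.CSA.isSimpleRing_tensor k k A
    have := Groth.Agent.CSA.isCentral_baseChange k k A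
    obtain ⟨D, _, _, _, _, hD, hAD⟩ := Groth.Agent.CSA.of_isIndex hI
    obtain ⟨D', _, _, _, _, d', -, hD', hAD', hI'⟩ := Groth.Agent.CSA.exists_isIndex (k := k) (k ⊗[k] A)
    exact ⟨k, inferInstance, Algebra.id k, inferInstance,
      by rw [Module.finrank_self]; exact Nat.coprime_one_right n, d', hI',
      (Groth.Agent.CSA.index_baseChange k hAD hD hAD' hD').1⟩
  · rintro ⟨L, _, _, _, hcop, d', hI', hdn⟩
    have := Groth.Agent.CSA.isSimpleRing_tensor k L A
    have := Groth.Agent.CSA.isCentral_baseChange k L A
    obtain ⟨D', _, _, _, _, hD', hAD'⟩ := Groth.Agent.CSA.of_isIndex hI'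
    obtain ⟨D, _, _, _, _, d, -, hD, hAD, hI⟩ := Groth.Agent.CSA.exists_isIndex (k := k) A
    have h := ((Groth.Agent.CSA.index_baseChange L hAD hD hAD' hD').2).trans (mul_dvd_mul dvd_rfl hdn)
    have h1 : d ∣ n := (Nat.coprime_of_dvd fun p hp hpd hpL => Nat.not_coprime_of_dvd_of_dvd hp.one_lt
      (Groth.Agent.CSA.prime_dvd_of_dvd_index hAD hD hper.2.1 hp hpd) hpL hcop).dvd_of_dvd_mul_left h
    have h2 : n ∣ d := Groth.Agent.CSA.isPeriod_dvd k A hper (Groth.Agent.CSA.isSplit_tpow_index hAD hD)
    rwa [Nat.dvd_antisymm h2 h1]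

end Groth.Agent.S13841
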