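import Groth.Prelude.Def_EtCore
import Mathlib.FieldTheory.Separable
import Mathlib.LinearAlgebra.Dimension.Finrank
import Groth.Agent.EtSite.Transfer
import Groth.Agent.EtSite.HenselClosedPoint
-- import your own Groth.Agent.* helpers here

set_option autoImplicit false
universe u
open CategoryTheory CategoryTheory.Limits AlgebraicGeometry

namespace Groth.Agent.S13842

/-- Let K be a field, F an abelian sheaf on the small étale site of Spec K, i > 0 and α a class in
H^i(Spec K, F). If L is a finite separable field extension of K such that α pulls back to zero in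
H^i(Spec L, F|_{Spec L}), then [L : K] · α = 0. In particular the order of α (its period) divides
the greatest common divisor of the degrees of the finite separable extensions of K killing α (its
index). (Exactness of pullback of abelian sheaves, which always holds, is carried as an instance
hypothesis.) -/
theorem result (K : Type u) [Field K] (F : EtCoh.Ab (Spec (CommRingCat.of K))) (i : ℕ) (hi : 0 < i)
    (α : EtCoh.H (Spec (CommRingCat.of K)) F i) (L : Type u) [Field L] [Algebra K L] [FiniteDimensional K L]
    [Algebra.IsSeparable K L] [PreservesFiniteLimits (EtCoh.pull (Spec.map (CommRingCat.ofHom (algebraMap K L))))]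
    (hα : EtCore.Hpull (Spec.map (CommRingCat.ofHom (algebraMap K L))) F i α = 0) :
    Module.finrank K L • α = 0 := by
  let π := Spec.map (CommRingCat.ofHom (algebraMap K L))
  have : IsFinite π := IsFinite.SpecMap_iff _ |>.2 (RingHom.finite_algebraMap.2 inferInstance)
  have : Algebra.Etale K L := { formallyEtale := Algebra.FormallyEtale.of_isSeparable K L, finitePresentation := Algebra.FinitePresentation.of_finiteType.1 inferInstance }
  have : Etale π := (HasRingHomProperty.Spec_iff (P := @Etale)).2 (RingHom.etale_algebraMap.2 ‹Algebra.Etale K L›)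
  have := EtMV.jCont π
  have := EtSite.push_preservesFiniteLimits π
  have : (EtCoh.push π).PreservesEpimorphisms := EtSite.push_preservesEpimorphisms_of_isFinite π
  have : (EtCoh.push π).PreservesHomology := Functor.preservesHomology_of_preservesEpis_and_kernels _
  have : PreservesFiniteColimits (EtCoh.push π) := Functor.preservesFiniteColimits_of_preservesHomology _
  have hd : ∀ x, π.finrank x = Module.finrank K L := fun x => by
    rw [Scheme.Hom.finrank_SpecMap_algebraMap, Module.rankAtStalk_eq_finrank_of_free]
    rfl
  have h0 : α.mapExactFunctor (EtCoh.pull π) = 0 := by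
    refine (EtSite.HenselClosedPoint.precomp_iso_bijective (EtCore.pullConst π ℤ).symm i).1 ?_
    exact hα.trans (Abelian.Ext.comp_zero ..).symm
  have h1 : α.comp (Abelian.Ext.mk₀ ((EtCoh.pullPushAdj π).unit.app F)) (add_zero i) = 0 := by
    rw [EtSite.HenselClosedPoint.comp_unit (EtCoh.pullPushAdj π).unit α, h0, Abelian.Ext.mapExactFunctor_zero,
      Abelian.Ext.comp_zero]
  let tr : (EtCoh.pull π ⋙ EtCoh.push π).obj F ⟶ F := (EtSite.Transfer.pushPullAdj π).counit.app F
  have h2 := congrArg (fun β => β.comp (Abelian.Ext.mk₀ tr) (add_zero i)) h1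
  simp only [Abelian.Ext.comp_assoc_of_third_deg_zero, Abelian.Ext.mk₀_comp_mk₀, Abelian.Ext.zero_comp] at h2
  have hu : (EtCoh.pullPushAdj π).unit.app F ≫ tr = Module.finrank K L • 𝟙 F :=
    EtSite.Transfer.unit_counit π _ hd F
  rw [hu] at h2
  refine Eq.trans ?_ h2
  have hn : ∀ n : ℕ, α.comp (Abelian.Ext.mk₀ (n • 𝟙 F)) (add_zero i) = n • α := fun n => by
    induction n with
    | zero => rw [zero_smul, zero_smul, Abelian.Ext.mk₀_zero, Abelian.Ext.comp_zero]
    | succ n ih => rw [succ_nsmul, succ_nsmul, Abelian.Ext.mk₀_add, Abelian.Ext.comp_add, ih, Abelian.Ext.comp_mk₀_id]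
  exact (hn _).symm

end Groth.Agent.S13842
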