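import Groth.Prelude.Def_EtCore
import Mathlib.FieldTheory.Separable
import Mathlib.LinearAlgebra.Dimension.Finrank
import Mathlib.GroupTheory.OrderOfElement
import Groth.Agent.EtSite.GaloisTransfer
-- import your own Groth.Agent.* helpers here

set_option autoImplicit false
universe u
open CategoryTheory CategoryTheory.Limits AlgebraicGeometry

namespace Groth.Agent.S13843

/-- Let K be a field, F an abelian sheaf on the small étale site of Spec K, i > 0 and α a class in
H^i(Spec K, F) which pulls back to zero over some finite separable field extension L of K. If p is a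
prime not dividing the order of α, then there is a finite separable field extension L' of K whose
degree is not divisible by p and over which α pulls back to zero. Hence the period and the index of
α have the same prime factors. (Exactness of pullback of abelian sheaves, which always holds, is
carried as an instance hypothesis, in the conclusion for every such instance.) -/
theorem result (K : Type u) [Field K] (F : EtCoh.Ab (Spec (CommRingCat.of K))) (i : ℕ)
    (hi : 0 < i) (α : EtCoh.H (Spec (CommRingCat.of K)) F i) (L : Type u) [Field L] [Algebra K L] [FiniteDimensional K L]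
    [Algebra.IsSeparable K L] [PreservesFiniteLimits (EtCoh.pull (Spec.map (CommRingCat.ofHom (algebraMap K L))))]
    (hα : EtCore.Hpull (Spec.map (CommRingCat.ofHom (algebraMap K L))) F i α = 0) (p : ℕ) (hp : p.Prime) (hpα : ¬ p ∣ addOrderOf α) :
    ∃ (L' : Type u) (_ : Field L') (_ : Algebra K L') (_ : FiniteDimensional K L') (_ : Algebra.IsSeparable K L'),
      ¬ p ∣ Module.finrank K L' ∧
        ∀ [PreservesFiniteLimits (EtCoh.pull (Spec.map (CommRingCat.ofHom (algebraMap K L'))))],
          EtCore.Hpull (Spec.map (CommRingCat.ofHom (algebraMap K L'))) F i α = 0 := by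
  have h0 := (EtSite.HenselClosedPoint.precomp_iso_bijective (EtCore.pullConst (Spec.map (CommRingCat.ofHom (algebraMap K L))) ℤ).symm i).1
    (hα.trans (Abelian.Ext.comp_zero ..).symm)
  obtain ⟨L', _, _, _, _, h1, h2⟩ := EtSite.GaloisTransfer.exists_prime_to K α L h0 p hp hpα
  refine ⟨L', inferInstance, inferInstance, inferInstance, inferInstance, h1, fun {_} => ?_⟩
  exact (congrArg (fun z => (Abelian.Ext.mk₀ (EtCore.pullConst _ ℤ).inv).comp z (zero_add i)) h2).trans
    (Abelian.Ext.comp_zero ..)

end Groth.Agent.S13843
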