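import Groth.Statements.S13848
import Mathlib
-- import your own Groth.Agent.* helpers here

set_option autoImplicit false
universe u v
open TwSh

namespace Groth.Agent.S13848

/-- Let A be a ring with A/J a simple left-Artinian ring, J the Jacobson radical, and let P be a
non-zero finitely generated projective left A-module. An A-linear automorphism u of P which commutes
with every A-linear endomorphism of P (equivalently, induces the identity on End_A(P) by
conjugation) is scalar multiplication by a unique central element a of A: u(x) = a·x for all x ∈ P,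
and a is determined by u. (So the automorphisms of P acting trivially on End_A(P) are exactly the
central units of A acting by scalars; the published assertion does not exclude P = 0, where
uniqueness fails.) -/
theorem result (A : Type u) [Ring A] [IsSimpleRing (A ⧸ Ring.jacobson A)] [IsArtinianRing (A ⧸ Ring.jacobson A)] (P : Type v) [AddCommGroup P] [Module A P] [Module.Finite A P] [Module.Projective A P] [Nontrivial P] (u : P ≃ₗ[A] P) (hu : ∀ f : Module.End A P, (u : P →ₗ[A] P) ∘ₗ f = f ∘ₗ (u : P →ₗ[A] P)) : ∃! a : A, (∀ b : A, a * b = b * a) ∧ ∀ x : P, u x = a • x := by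
  classical
  let T : Ideal A :=
    Submodule.span A {a | ∃ (f : P →ₗ[A] A) (x : P), f x = a}
  have hTr : ∀ t ∈ T, ∀ b : A, t * b ∈ T := by
    intro t ht b
    induction ht using Submodule.span_induction with
    | mem y hy =>
      obtain ⟨f, x, rfl⟩ := hy
      exact Submodule.subset_span ⟨{ toFun := fun z => f z * b
                                     map_add' := fun z w => by rw [map_add, add_mul]
                                     map_smul' := fun c z => by rw [map_smul, smul_eq_mul, RingHom.id_apply, smul_eq_mul, mul_assoc] }, x, rfl⟩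
    | zero => rw [zero_mul]; exact zero_mem _
    | add y z _ _ hy hz => rw [add_mul]; exact add_mem hy hz
    | smul c y _ hy => rw [smul_eq_mul, mul_assoc]; exact T.mul_mem_left c hy
  have hT1 : (1 : A) ∈ T := by
    obtain ⟨n, pr, se, -, -, hps⟩ := Module.Finite.exists_comp_eq_id_of_projective A P
    have hnot : ∃ t ∈ T, t ∉ Ring.jacobson A := by
      by_contra! hle
      have hP : (⊤ : Submodule A P) ≤ Ring.jacobson A • (⊤ : Submodule A P) := by
        intro x _
        rw [← LinearMap.id_apply (R := A) x, ← hps, LinearMap.comp_apply, pi_eq_sum_univ (se x),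
          map_sum]
        refine Submodule.sum_mem _ fun i _ => ?_
        rw [map_smul]
        exact Submodule.smul_mem_smul (hle _ (Submodule.subset_span
          ⟨LinearMap.proj i ∘ₗ se, x, rfl⟩)) trivial
      exact top_ne_bot (Submodule.FG.eq_bot_of_le_jacobson_smul Module.Finite.fg_top hP)
    obtain ⟨t, ht, htJ⟩ := hnot
    let I : TwoSidedIdeal (A ⧸ Ring.jacobson A) :=
      TwoSidedIdeal.mk' ((Ideal.Quotient.mk (Ring.jacobson A)) '' (T : Set A))
        ⟨0, zero_mem _, map_zero _⟩
        (by rintro _ _ ⟨a, ha, rfl⟩ ⟨b, hb, rfl⟩; exact ⟨a + b, add_mem ha hb, map_add _ _ _⟩)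
        (by rintro _ ⟨a, ha, rfl⟩; exact ⟨-a, neg_mem ha, map_neg _ _⟩)
        (by
          rintro x _ ⟨a, ha, rfl⟩
          obtain ⟨x, rfl⟩ := Ideal.Quotient.mk_surjective x
          exact ⟨x * a, T.mul_mem_left x ha, map_mul _ _ _⟩)
        (by
          rintro _ y ⟨a, ha, rfl⟩
          obtain ⟨y, rfl⟩ := Ideal.Quotient.mk_surjective y
          exact ⟨a * y, hTr a ha y, map_mul _ _ _⟩)
    have h1 := IsSimpleRing.one_mem_of_ne_zero_mem I (x := Ideal.Quotient.mk _ t)
      (fun h => htJ (Ideal.Quotient.eq_zero_iff_mem.1 h))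
      ((TwoSidedIdeal.mem_mk' _ _ _ _ _ _ _).2 ⟨t, ht, rfl⟩)
    obtain ⟨t', ht', h'⟩ := (TwoSidedIdeal.mem_mk' _ _ _ _ _ _ _).1 h1
    by_contra hne
    obtain ⟨m, hm, hTm⟩ := Ideal.exists_le_maximal T ((Ideal.ne_top_iff_one T).2 hne)
    haveI := hm
    have h2 : t' - 1 ∈ Ring.jacobson A := by
      rw [← map_one (Ideal.Quotient.mk (Ring.jacobson A))] at h'
      exact Ideal.Quotient.eq.1 h'
    refine hm.ne_top ((Ideal.eq_top_iff_one m).2 ?_)
    have := sub_mem (hTm ht') (Ring.jacobson_le_of_isMaximal m h2)
    rwa [sub_sub_cancel] at this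
  -- faithfulness
  have hfaith : ∀ c : A, (∀ x : P, c • x = 0) → c = 0 := by
    intro c hc
    have : ∀ t ∈ T, c * t = 0 ∧ ∀ b, c * (b * t) = 0 := by
      intro t ht
      induction ht using Submodule.span_induction with
      | mem y hy =>
        obtain ⟨f, x, rfl⟩ := hy
        have key : ∀ z, c * f z = 0 := fun z => by
          rw [← smul_eq_mul, ← map_smul, hc, map_zero]
        exact ⟨key x, fun b => by rw [← smul_eq_mul b, ← map_smul]; exact key _⟩
      | zero => simp
      | add y z _ _ hy hz =>
        exact ⟨by rw [mul_add, hy.1, hz.1, add_zero], fun b => by rw [mul_add, mul_add, hy.2, hz.2, add_zero]⟩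
      | smul d y _ hy =>
        exact ⟨hy.2 d, fun b => by rw [smul_eq_mul, ← mul_assoc b]; exact hy.2 (b * d)⟩
    simpa using (this 1 hT1).1
  have hex : ∀ t ∈ T, ∃ a : A, ∀ y : P, a • y = t • u y := by
    intro t ht
    induction ht using Submodule.span_induction with
    | mem s hs =>
      obtain ⟨f, x, rfl⟩ := hs
      refine ⟨f (u x), fun y => ?_⟩
      let g : Module.End A P :=
        { toFun := fun z => f z • y
          map_add' := fun z w => by rw [map_add, add_smul]
          map_smul' := fun c z => by rw [map_smul, smul_eq_mul, mul_smul, RingHom.id_apply] }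
      have h := LinearMap.congr_fun (hu g) x
      simp only [LinearMap.comp_apply, LinearEquiv.coe_coe] at h
      change u (f x • y) = f (u x) • y at h
      rw [map_smul] at h
      exact h.symm
    | zero => exact ⟨0, fun y => by simp⟩
    | add s s' _ _ hs hs' =>
      obtain ⟨a, ha⟩ := hs
      obtain ⟨b, hb⟩ := hs'
      exact ⟨a + b, fun y => by rw [add_smul, add_smul, ha, hb]⟩
    | smul c s _ hs =>
      obtain ⟨a, ha⟩ := hs
      exact ⟨c * a, fun y => by rw [smul_eq_mul, mul_smul, mul_smul, ha]⟩
  obtain ⟨a, ha⟩ := hex 1 hT1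
  simp only [one_smul] at ha
  refine ⟨a, ⟨fun b => sub_eq_zero.1 (hfaith _ fun x => ?_), fun x => (ha x).symm⟩, ?_⟩
  · rw [sub_smul, mul_smul, mul_smul, ha, ha, map_smul, sub_self]
  · rintro a' ⟨-, ha'⟩
    exact sub_eq_zero.1 (hfaith _ fun x => by rw [sub_smul, ← ha', ha, sub_self])

end Groth.Agent.S13848
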