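import Groth.Statements.S1386
import Groth.Agent.FlatDescent.Scheme

set_option autoImplicit false
universe u
open FlatMor

namespace Groth.Agent.S1386

open AlgebraicGeometry CategoryTheory Limits in
/-- Fibrewise flatness criterion (critère de platitude par fibres), for the structure sheaf: let f : X →
Y and g : Y → S be morphisms of schemes with X locally of finite presentation over S (via g ∘ f) and
Y locally of finite type over S. For a point x of X with images y = f(x) and s = g(y) the following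
are equivalent: (1) X → S is flat at x and the induced morphism of fibres X_s → Y_s is flat at x;
(2) Y → S is flat at y and f is flat at x. Moreover the set of points x at which (2) holds is open
in X. The published statement treats a finitely presented quasi-coherent O_X-module; here the module
is O_X. -/
theorem result {X Y S : Scheme.{u}} (f : X ⟶ Y) (g : Y ⟶ S) [LocallyOfFinitePresentation (f ≫ g)] [LocallyOfFiniteType g] :
    (∀ x : X, ((f ≫ g).stalkMap x).hom.Flat ∧ ((MoreMor.fiberMap f g (g (f x))).stalkMap ((f ≫ g).asFiber x)).hom.Flat ↔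
        (g.stalkMap (f x)).hom.Flat ∧ (f.stalkMap x).hom.Flat) ∧
      IsOpen {x : ↑X | (g.stalkMap (f x)).hom.Flat ∧ (f.stalkMap x).hom.Flat} := by
  have hcomp : ∀ x : X, (g.stalkMap (f x)).hom.Flat → (f.stalkMap x).hom.Flat → ((f ≫ g).stalkMap x).hom.Flat := by
    intro x h₁ h₂
    rw [Scheme.Hom.stalkMap_comp]
    exact RingHom.Flat.comp h₁ h₂
  have hiff : ∀ x : X, ((MoreMor.fiberMap f g (g (f x))).stalkMap ((f ≫ g).asFiber x)).hom.Flat ↔
      Groth.FlatDescent.FibFlat f g x := by
    intro x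
    refine (Groth.FlatDescent.flat_fiberMap_iff f g _ (MoreMor.fiberMap f g (g (f x))) (pullback.lift_fst _ _ _)
      ((f ≫ g).asFiber x)).trans (Iff.of_eq (congrArg (Groth.FlatDescent.FibFlat f g) ?_))
    exact (f ≫ g).fiberι_asFiber x
  refine ⟨fun x => ⟨fun ⟨h₁, h₂⟩ => ?_, fun ⟨h₁, h₂⟩ => ⟨hcomp x h₁ h₂, (hiff x).mpr (Groth.FlatDescent.fibFlat_of_flat f g x h₂)⟩⟩, ?_⟩
  · exact Groth.FlatDescent.flat_of_fibFlat f g x h₁ ((hiff x).mp h₂)
  · have : {x : ↑X | (g.stalkMap (f x)).hom.Flat ∧ (f.stalkMap x).hom.Flat} =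
        {x : ↑X | ((f ≫ g).stalkMap x).hom.Flat} ∩ {x : ↑X | (f.stalkMap x).hom.Flat} := by
      ext x
      exact ⟨fun ⟨h₁, h₂⟩ => ⟨hcomp x h₁ h₂, h₂⟩,
        fun ⟨h₁, h₂⟩ => ⟨(Groth.FlatDescent.flat_of_fibFlat f g x h₁ (Groth.FlatDescent.fibFlat_of_flat f g x h₂)).1, h₂⟩⟩
    rw [this]
    exact (Groth.FlatDescent.isOpen_flatLocus_hom (f ≫ g)).inter (Groth.FlatDescent.isOpen_flatLocus_over f g)

end Groth.Agent.S1386
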