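import Groth.Statements.S13860
-- import your own Groth.Agent.* helpers here

set_option autoImplicit false
universe u v w
open ModRep

namespace Groth.Agent.S13860

/-- For k a field of characteristic p > 0, G a finite group and P a Sylow p-subgroup of G, a short exact
sequence of k[G]-modules has a k[G]-linear splitting exactly when it has a k[P]-linear one. Stated
here for the surjection of the sequence: a G-equivariant k-linear map g : B → C between k-linear
representations of G admits a G-equivariant k-linear section if and only if it admits a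
P-equivariant k-linear section. -/
theorem result {k : Type u} [Field k] (p : ℕ) [Fact p.Prime]
    [CharP k p] {G : Type v} [Group G] [Finite G] (P : Sylow p G)
    {B C : Type w} [AddCommGroup B] [Module k B] [AddCommGroup C] [Module k C]
    (ρB : Representation k G B) (ρC : Representation k G C)
    (g : B →ₗ[k] C) (hg : ∀ x : G, g ∘ₗ ρB x = ρC x ∘ₗ g) :
    (∃ s : C →ₗ[k] B, g ∘ₗ s = LinearMap.id ∧ ∀ x : G, s ∘ₗ ρC x = ρB x ∘ₗ s) ↔
      (∃ s : C →ₗ[k] B, g ∘ₗ s = LinearMap.id ∧ ∀ x : G, x ∈ P → s ∘ₗ ρC x = ρB x ∘ₗ s) := by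
  classical
  refine ⟨fun ⟨s, h1, h2⟩ => ⟨s, h1, fun x _ => h2 x⟩, ?_⟩
  rintro ⟨s, h1, h2⟩
  have := Fintype.ofFinite (G ⧸ (P : Subgroup G))
  set N : k := (Fintype.card (G ⧸ (P : Subgroup G)) : k) with hNdef
  have hN : N ≠ 0 := by
    rw [hNdef, ← Nat.card_eq_fintype_card, ← Subgroup.index_eq_card, Ne, CharP.cast_eq_zero_iff k p]
    exact P.not_dvd_index
  let c : G → (C →ₗ[k] B) := fun a => ρB a ∘ₗ s ∘ₗ ρC a⁻¹
  have hc : ∀ a (h : G), h ∈ P → c (a * h) = c a := fun a h hh => by
    ext v
    simp only [c, LinearMap.comp_apply, map_mul, Module.End.mul_apply, mul_inv_rev]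
    rw [← (show s (ρC h (ρC h⁻¹ (ρC a⁻¹ v))) = ρB h (s (ρC h⁻¹ (ρC a⁻¹ v))) from
      LinearMap.congr_fun (h2 h hh) _), ← Module.End.mul_apply (ρC h), ← map_mul, mul_inv_cancel, map_one]
    rfl
  have hout : ∀ a : G, c (QuotientGroup.mk (s := (P : Subgroup G)) a).out = c a := fun a => by
    obtain ⟨h, hh⟩ := QuotientGroup.mk_out_eq_mul (P : Subgroup G) a
    rw [hh]; exact hc a h h.2
  refine ⟨N⁻¹ • ∑ q : G ⧸ (P : Subgroup G), c q.out, ?_, fun x => ?_⟩
  · ext v
    have : ∀ a, g (c a v) = v := fun a => by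
      simp only [c, LinearMap.comp_apply]
      rw [show g (ρB a (s (ρC a⁻¹ v))) = ρC a (g (s (ρC a⁻¹ v))) from LinearMap.congr_fun (hg a) _,
        show g (s (ρC a⁻¹ v)) = ρC a⁻¹ v from LinearMap.congr_fun h1 _, ← Module.End.mul_apply,
        ← map_mul, mul_inv_cancel, map_one]
      rfl
    simp only [LinearMap.comp_apply, LinearMap.smul_apply, LinearMap.coe_sum, Finset.sum_apply, map_smul,
      map_sum, this, Finset.sum_const, Finset.card_univ, LinearMap.id_apply]
    rw [← Nat.cast_smul_eq_nsmul k, smul_smul, inv_mul_cancel₀ hN, one_smul]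
  · ext v
    simp only [LinearMap.comp_apply, LinearMap.smul_apply, LinearMap.coe_sum, Finset.sum_apply, map_smul, map_sum]
    congr 1
    refine Fintype.sum_equiv (MulAction.toPerm x⁻¹) _ _ fun q => ?_
    induction q using QuotientGroup.induction_on with
    | H a =>
      rw [hout, MulAction.toPerm_apply, MulAction.Quotient.smul_mk, hout]
      simp only [c, LinearMap.comp_apply, smul_eq_mul, mul_inv_rev, inv_inv, ← Module.End.mul_apply, ← map_mul]
      rw [mul_inv_cancel_left]

end Groth.Agent.S13860
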