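import Groth.Statements.S13861
import Groth.Agent.ASLocal.Coh
-- import your own Groth.Agent.* helpers here

set_option autoImplicit false
universe u
open ASCover

namespace Groth.Agent.S13861

theorem card_idx (p : ℕ) (hp : 0 < p) (n : ℕ) (a : ℤ) :
    ((ASLocal.idx p a n).card : ℤ) = n - (a - 1) / (p : ℤ) + (a - 1 - n) / (p : ℤ) := by
  classical
  have h1 := Finset.card_filter_add_card_filter_not (s := Finset.Icc 1 n) (fun m : ℕ => (p : ℤ) ∣ a - (m : ℤ))
  have h2 : ((Finset.Icc 1 n).filter fun m : ℕ => (p : ℤ) ∣ a - (m : ℤ)).card =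
      ((Finset.Ioc (a - n - 1) (a - 1)).filter fun x : ℤ => (p : ℤ) ∣ x).card := by
    refine Finset.card_nbij' (fun m : ℕ => a - (m : ℤ)) (fun x : ℤ => (a - x).toNat) ?_ ?_ ?_ ?_
    · intro m hm
      simp only [Finset.coe_filter, Finset.mem_Icc, Set.mem_setOf_eq] at hm
      simp only [Finset.coe_filter, Finset.mem_Ioc, Set.mem_setOf_eq]
      exact ⟨by omega, hm.2⟩
    · intro x hx
      simp only [Finset.coe_filter, Finset.mem_Ioc, Set.mem_setOf_eq] at hx
      simp only [Finset.coe_filter, Finset.mem_Icc, Set.mem_setOf_eq]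
      refine ⟨by omega, ?_⟩
      rw [Int.toNat_of_nonneg (by omega), sub_sub_cancel]
      exact hx.2
    · intro m hm; simp
    · intro x hx
      simp only [Finset.coe_filter, Finset.mem_Ioc, Set.mem_setOf_eq] at hx
      change a - ((a - x).toNat : ℤ) = x
      omega
  have h3 := Int.Ioc_filter_dvd_card (a := a - n - 1) (b := a - 1) (r := (p : ℤ)) (by omega)
  rw [Int.cast_natCast, Rat.floor_intCast_div_natCast, Rat.floor_intCast_div_natCast, max_eq_left
    (sub_nonneg.2 (Int.ediv_le_ediv (by omega) (by omega)))] at h3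
  rw [show a - 1 - n = a - n - 1 by ring, ASLocal.idx]
  rw [Nat.card_Icc] at h1
  omega

/-- Let k be an algebraically closed field of characteristic p > 0 and n ≥ 1 an integer prime to p; let
u ∈ k[[t]] be the power series with constant term 1 and u^n · (1 + t^n) = 1, so that t ↦ t·u = t(1 +
t^n)^(-1/n) defines a k-automorphism σ of k((t)) of order p (the action at a totally ramified point
of a ℤ/p-cover of curves with break n). For an integer a, the fractional ideal t^a·k[[t]] is stable
under σ; transported to B = k[[t]] along h ↦ t^a·h the action of σ reads h ↦ u^a · h(t·u). For a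
group G of order p generated by g acting on B through this map, the first group cohomology H^1(G, B)
is finite-dimensional over k, of dimension n − ⌊(a−1)/p⌋ + ⌊(a−1−n)/p⌋. (The published lemma also
identifies this H^1 with the cokernel of k((t))^G → (k((t))/t^a k[[t]])^G and names explicit
representatives t^i, a − n ≤ i ≤ a − 1 with p ∤ i, of a basis; those parts are not restated here.) -/
theorem result {k : Type u} [Field k] [IsAlgClosed k] (p : ℕ)
    [Fact p.Prime] [CharP k p] (n : ℕ) (hn : 0 < n) (hpn : ¬ p ∣ n)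
    (u : PowerSeries k) (hu1 : PowerSeries.constantCoeff u = 1)
    (hun : u ^ n * (1 + PowerSeries.X ^ n) = 1) (hu : IsUnit u) (a : ℤ)
    {G : Type u} [Group G] [Finite G] (g : G) (hG : Nat.card G = p)
    (hg : ∀ x : G, x ∈ Subgroup.zpowers g)
    (ρ : Representation k G (PowerSeries k))
    (hρ : ∀ h : PowerSeries k, ρ g h =
      ((hu.unit ^ a : (PowerSeries k)ˣ) : PowerSeries k) * PowerSeries.subst (PowerSeries.X * u) h) :
    Module.Finite k (groupCohomology.H1 (Rep.of ρ)) ∧
      (Module.finrank k (groupCohomology.H1 (Rep.of ρ)) : ℤ) =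
        n - (a - 1) / (p : ℤ) + (a - 1 - n) / (p : ℤ) := by
  classical
  obtain ⟨θ, hθ⟩ := ASLocal.exists_theta ρ g p
  obtain ⟨hinj, hθπ⟩ := hθ hG hg
  have hrange : LinearMap.range θ =
      LinearMap.range ((LinearMap.range (ρ g - 1)).mkQ ∘ₗ ASLocal.comb p hu a n) := by
    rw [← ASLocal.range_psi p hu1 hun hn hpn hu a g hG ρ hρ hg, ← hθπ, LinearMap.range_comp_of_range_eq_top]
    exact LinearMap.range_eq_top.2 fun x => groupCohomology.H1_induction_on x fun y => ⟨y, rfl⟩
  have hinj' := ASLocal.comb_mkQ_injective p hu1 hun hn hpn hu a g ρ hρ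
  let e : groupCohomology.H1 (Rep.of ρ) ≃ₗ[k] (ASLocal.idx p a n → k) :=
    ((LinearEquiv.ofInjective θ hinj).trans (LinearEquiv.ofEq _ _ hrange)).trans
      (LinearEquiv.ofInjective _ hinj').symm
  refine ⟨Module.Finite.equiv e.symm, ?_⟩
  rw [e.finrank_eq, Module.finrank_pi, Fintype.card_coe, card_idx p (Fact.out : p.Prime).pos n a]

end Groth.Agent.S13861
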