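import Groth.Statements.S13863
import Groth.Agent.ASLocal.Basic
-- import your own Groth.Agent.* helpers here

set_option autoImplicit false
universe u
open ASCover

namespace Groth.Agent.S13863

/-- For k an algebraically closed field of characteristic p > 0, n ≥ 1 an integer prime to p, and u ∈
k[[t]] the power series with constant term 1 and u^n · (1 + t^n) = 1, the substitution σ(t) = t·u is
a k-automorphism of k((t)) of order p and, for an integer a, σ acts on the fractional ideal I =
t^a·k[[t]]; transported to B = k[[t]] along h ↦ t^a·h this action is h ↦ u^a · h(t·u). For an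
integer i with a − n ≤ i ≤ a − 1 the element σ(t^i) − t^i lies in I, so t^i defines a class in
H^1(⟨σ⟩, I); the classes with p ∤ i form a basis of this H^1, and when p divides i the class
vanishes, i.e. σ(t^i) − t^i = σ(w) − w for some w ∈ I. (The published statement of this vanishing is
printed with the condition p ∤ i, which contradicts the basis assertion of the same lemma; its proof
treats p | i, and this row states that case.) In transported form, with m = a − i ∈ [1, n] and c ∈
k[[t]] defined by t^m · c = u^i − 1: there is h ∈ k[[t]] with u^a · h(t·u) − h = c. -/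
theorem result {k : Type u} [Field k] [IsAlgClosed k] (p : ℕ)
    [Fact p.Prime] [CharP k p] (n : ℕ) (hn : 0 < n) (hpn : ¬ p ∣ n)
    (u : PowerSeries k) (hu1 : PowerSeries.constantCoeff u = 1)
    (hun : u ^ n * (1 + PowerSeries.X ^ n) = 1) (hu : IsUnit u) (a : ℤ) (m : ℕ)
    (hm1 : 1 ≤ m) (hmn : m ≤ n) (hdvd : (p : ℤ) ∣ a - m) (c : PowerSeries k)
    (hc : PowerSeries.X ^ m * c = ((hu.unit ^ (a - m) : (PowerSeries k)ˣ) : PowerSeries k) - 1) :
    ∃ h : PowerSeries k,
      ((hu.unit ^ a : (PowerSeries k)ˣ) : PowerSeries k) * PowerSeries.subst (PowerSeries.X * u) h - h = c := by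
  have hn0 : (n : k) ≠ 0 := fun h => hpn ((CharP.cast_eq_zero_iff k p n).1 h)
  have hp := (Fact.out : p.Prime)
  obtain ⟨ζ, hζ⟩ := IsAlgClosed.exists_pow_nat_eq (-1 : k) hn
  obtain ⟨q, hq⟩ : ∃ q, p = q + 1 := ⟨p - 1, (Nat.sub_add_cancel hp.one_le).symm⟩
  have hq1 : 1 ≤ q := by have := hp.two_le; omega
  have hb : PowerSeries.HasSubst (PowerSeries.C ζ * PowerSeries.X ^ q : PowerSeries k) :=
    PowerSeries.HasSubst.of_constantCoeff_zero' (by simp [zero_pow (show q ≠ 0 by omega)])
  let β := PowerSeries.substAlgHom (R := k) hb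
  let σ := PowerSeries.substAlgHom (R := k) (ASLocal.hasSubst u)
  let v := β u
  have hβX : β PowerSeries.X = PowerSeries.C ζ * PowerSeries.X ^ q := by
    simp only [β, PowerSeries.coe_substAlgHom, PowerSeries.subst_X hb]
  have hσX : σ PowerSeries.X = PowerSeries.X * u := by
    simp only [σ, PowerSeries.coe_substAlgHom, PowerSeries.subst_X (ASLocal.hasSubst u)]
  have hv : v ^ n * (1 - PowerSeries.X ^ (q * n)) = 1 := by
    have h := congrArg β hun
    rw [map_mul, map_pow, map_add, map_one, map_pow, hβX, mul_pow, ← map_pow PowerSeries.C, hζ, map_neg, map_one,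
      neg_one_mul, ← pow_mul, ← sub_eq_add_neg] at h
    exact h
  have hv1 : PowerSeries.constantCoeff v = 1 := by
    obtain ⟨w, hw⟩ := ASLocal.dvd_sub_one hu1 hun hn0
    have h := congrArg β hw
    rw [map_sub, map_one, map_mul, map_pow, hβX, sub_eq_iff_eq_add] at h
    change PowerSeries.constantCoeff (β u) = 1
    rw [h]
    simp [zero_pow (show q ≠ 0 by omega), zero_pow hn.ne']
  have hσv1 : PowerSeries.constantCoeff (σ v) = 1 := by
    obtain ⟨w, hw⟩ : PowerSeries.X ∣ v - 1 := PowerSeries.X_dvd_iff.2 (by simp [hv1])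
    have h := congrArg σ hw
    rw [map_sub, map_one, map_mul, hσX, sub_eq_iff_eq_add] at h
    rw [h]; simp
  -- invariance
  have hinv : u ^ p * σ v = v := by
    refine ASLocal.eq_of_pow_eq (by simp [hu1, hσv1]) hv1 hn0 ?_
    have h := congrArg σ hv
    rw [map_mul, map_pow, map_sub, map_one, map_pow, hσX, mul_pow, mul_comm q n, pow_mul, pow_mul] at h
    have hv' := hv
    rw [mul_comm q n, pow_mul] at hv'
    rw [mul_pow, ← pow_mul, mul_comm p n, pow_mul, hq]
    set y : PowerSeries k := PowerSeries.X ^ n with hy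
    set z := u ^ n with hz
    have hadd : (1 + y) ^ (q + 1) = 1 + y ^ (q + 1) := by
      have : Fact (q + 1).Prime := ⟨hq ▸ hp⟩
      have : CharP (PowerSeries k) (q + 1) := by
        rw [← hq]
        exact charP_of_injective_ringHom (PowerSeries.C_injective (R := k)) p
      rw [add_pow_char, one_pow]
    have hzy : z ^ (q + 1) * (1 + y ^ (q + 1)) = 1 := by rw [← hadd, ← mul_pow, hun, one_pow]
    have hzq : z ^ q * (1 + y) ^ q = 1 := by rw [← mul_pow, hun, one_pow]
    -- `1 - z^q y^q = z^(q+1) (1 - y^q)`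
    have key : 1 - y ^ q * z ^ q = z ^ (q + 1) * (1 - y ^ q) := by
      linear_combination (-1 : PowerSeries k) * hzy + (z ^ q * y ^ q) * hun
    rw [key] at h
    have hne : (1 - y ^ q : PowerSeries k) ≠ 0 := fun h0 => by rw [h0, mul_zero] at hv'; exact zero_ne_one hv'
    exact mul_right_cancel₀ hne (by linear_combination h - hv')
  -- integer powers
  obtain ⟨e, he⟩ := hdvd
  have hvu : IsUnit v := PowerSeries.isUnit_iff_constantCoeff.2 (by rw [hv1]; exact isUnit_one)
  have hσinv : Units.map σ.toRingHom.toMonoidHom hvu.unit = hu.unit ^ (-(p : ℤ)) * hvu.unit := by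
    rw [zpow_neg, eq_inv_mul_iff_mul_eq, zpow_natCast]
    exact Units.ext hinv
  have hdiv : PowerSeries.X ^ m ∣ 1 - ((hvu.unit ^ e : (PowerSeries k)ˣ) : PowerSeries k) := by
    let π := Ideal.Quotient.mk (Ideal.span {(PowerSeries.X : PowerSeries k) ^ m})
    have h1 : π v = 1 := by
      obtain ⟨w, hw⟩ := ASLocal.dvd_sub_one hu1 hun hn0
      have h := congrArg β hw
      rw [map_sub, map_one, map_mul, map_pow, hβX, mul_pow, ← pow_mul] at h
      rw [← sub_eq_zero, ← map_one π, ← map_sub, Ideal.Quotient.eq_zero_iff_mem, Ideal.mem_span_singleton]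
      change _ ∣ β u - 1
      rw [h]
      exact dvd_mul_of_dvd_left (dvd_mul_of_dvd_right (pow_dvd_pow _ (le_trans hmn (Nat.le_mul_of_pos_left n (by omega)))) _) _
    have h2 : Units.map π.toMonoidHom hvu.unit = 1 := Units.ext h1
    rw [← Ideal.mem_span_singleton, ← Ideal.Quotient.eq_zero_iff_mem]
    change π (1 - _) = 0
    rw [map_sub, map_one, sub_eq_zero, eq_comm]
    have h3 := congrArg Units.val (map_zpow (Units.map π.toMonoidHom) hvu.unit e)
    rw [h2, one_zpow] at h3
    exact h3
  obtain ⟨h, hh⟩ := hdiv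
  refine ⟨h, mul_left_cancel₀ (pow_ne_zero m (PowerSeries.X_ne_zero (R := k))) ?_⟩
  have hsub : PowerSeries.subst (PowerSeries.X * u) h = σ h := by simp [σ, PowerSeries.coe_substAlgHom]
  have hσh := congrArg σ hh
  rw [map_sub, map_one, map_mul, map_pow, hσX, mul_pow] at hσh
  have h4 : σ ((hvu.unit ^ e : (PowerSeries k)ˣ) : PowerSeries k) =
      ((hu.unit ^ (-(a - m)) : (PowerSeries k)ˣ) : PowerSeries k) * ((hvu.unit ^ e : (PowerSeries k)ˣ) : PowerSeries k) := by
    have h5 := congrArg Units.val (map_zpow (Units.map σ.toRingHom.toMonoidHom) hvu.unit e)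
    rw [hσinv, mul_zpow, ← zpow_mul, Units.val_mul, neg_mul, ← he] at h5
    exact h5
  rw [h4] at hσh
  have h6 : ((hu.unit ^ a : (PowerSeries k)ˣ) : PowerSeries k) =
      ((hu.unit ^ (a - m) : (PowerSeries k)ˣ) : PowerSeries k) * u ^ m := by
    rw [show a = (a - m) + (m : ℤ) by ring, zpow_add, Units.val_mul, add_sub_cancel_right, zpow_natCast,
      Units.val_pow_eq_pow_val, IsUnit.unit_spec]
  have h7 : ((hu.unit ^ (a - m) : (PowerSeries k)ˣ) : PowerSeries k) * ((hu.unit ^ (-(a - m)) : (PowerSeries k)ˣ) : PowerSeries k) = 1 := by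
    rw [← Units.val_mul, ← zpow_add, add_neg_cancel, zpow_zero, Units.val_one]
  rw [hc, hsub, h6]
  linear_combination (-((hu.unit ^ (a - m) : (PowerSeries k)ˣ) : PowerSeries k)) * hσh + hh -
    ((hvu.unit ^ e : (PowerSeries k)ˣ) : PowerSeries k) * h7

end Groth.Agent.S13863
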