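import Groth.Statements.S13862
import Groth.Agent.ASLocal.Coh
import Groth.Agent.S13863
-- import your own Groth.Agent.* helpers here

set_option autoImplicit false
universe u
open ASCover

namespace Groth.Agent.S13862

open PowerSeries in
/-- the derivative of the basic cocycle values -/
theorem derivative_cc {k : Type u} [Field k] (p : ℕ) [Fact p.Prime] [CharP k p] (n : ℕ) (hn : 0 < n) (hpn : ¬ p ∣ n)
    (u : PowerSeries k) (hu1 : PowerSeries.constantCoeff u = 1)
    (hun : u ^ n * (1 + PowerSeries.X ^ n) = 1) (hu : IsUnit u) {m : ℕ} (hm : m ≤ n) :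
    X ^ (m + 1) * derivative k (ASLocal.cc hu 0 m) =
      (m : PowerSeries k) * (1 - ((hu.unit ^ (((n : ℤ) + 1) - ((m + 1 : ℕ) : ℤ)) : (PowerSeries k)ˣ) : PowerSeries k)) := by
  have hpow : ∀ (f : PowerSeries k) (j : ℕ), f * derivative k (f ^ j) = j * f ^ j * derivative k f := by
    intro f j
    induction j with
    | zero => simp
    | succ j ih =>
      rw [pow_succ, Derivation.leibniz, smul_eq_mul, smul_eq_mul, mul_add, Nat.cast_succ]
      linear_combination f * ih
  set U : PowerSeries k := ((hu.unit ^ ((0 : ℤ) - m) : (PowerSeries k)ˣ) : PowerSeries k) with hU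
  have hUm : U * u ^ m = 1 := by
    rw [hU, zero_sub, zpow_neg, zpow_natCast]
    nth_rw 2 [← hu.unit_spec]
    rw [← Units.val_pow_eq_pow_val, Units.inv_mul]
  have hW : ((hu.unit ^ (((n : ℤ) + 1) - ((m + 1 : ℕ) : ℤ)) : (PowerSeries k)ˣ) : PowerSeries k) = U * u ^ n := by
    rw [hU, show ((n : ℤ) + 1) - ((m + 1 : ℕ) : ℤ) = ((0 : ℤ) - m) + n by push_cast; ring, zpow_add, Units.val_mul,
      zpow_natCast, Units.val_pow_eq_pow_val, IsUnit.unit_spec]
  have hnR : (n : PowerSeries k) ≠ 0 := fun h => ASLocal.cast_n (k := k) p hpn (by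
    simpa using congrArg constantCoeff h)
  have hDX : derivative k (X : PowerSeries k) = 1 := derivative_X
  have hDu : X * derivative k u = -(u ^ (n + 1) * X ^ n) := by
    have h := congrArg (derivative k) hun
    rw [Derivation.leibniz, smul_eq_mul, smul_eq_mul, Derivation.map_one_eq_zero, map_add,
      Derivation.map_one_eq_zero, zero_add] at h
    have h1 := hpow u n
    have h2 := hpow X n
    rw [hDX, mul_one] at h2
    refine mul_left_cancel₀ hnR ?_
    linear_combination u * X * h - u ^ (n + 1) * h2 - X * (1 + X ^ n) * h1 - n * X * derivative k u * hun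
  have hDU : X * derivative k U = (m : PowerSeries k) * (U - U * u ^ n) := by
    have h := congrArg (derivative k) hUm
    rw [Derivation.leibniz, smul_eq_mul, smul_eq_mul, Derivation.map_one_eq_zero] at h
    have h1 := hpow u m
    refine mul_left_cancel₀ hu.ne_zero ?_
    linear_combination u * X * U * h - X * U * U * h1 - U * U * m * u ^ m * hDu
      - (u * X * derivative k U - m * U * u ^ (n + 1) * X ^ n) * hUm + m * U * u * hun
  have hc := ASLocal.X_pow_mul_cc p hu1 hun hpn hu 0 hm
  rw [← hU] at hc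
  have h := congrArg (derivative k) hc
  rw [Derivation.leibniz, smul_eq_mul, smul_eq_mul, map_sub, Derivation.map_one_eq_zero, sub_zero] at h
  have h2 := hpow X m
  rw [hDX, mul_one] at h2
  rw [hW, pow_succ]
  linear_combination X * h - ASLocal.cc hu 0 m * h2 + hDU - (m : PowerSeries k) * hc

/-- the number of surviving classes -/
theorem card_good (p : ℕ) (hp : p.Prime) (n : ℕ) (hn : 0 < n) (hpn : ¬ p ∣ n) :
    (((Finset.Icc 1 (n - 1)).filter fun m : ℕ => ¬ p ∣ m ∧ ¬ p ∣ n - m).card : ℤ) =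
      ((n + 1) * (p - 1) : ℤ) / p - 1 - (n - 1 : ℤ) / p := by
  classical
  have hA : ((Finset.Icc 1 (n - 1)).filter fun m : ℕ => p ∣ m).card = (n - 1) / p := by
    rw [← Nat.Ioc_filter_dvd_card_eq_div (n - 1) p]
    congr 1
  have hB : ((Finset.Icc 1 (n - 1)).filter fun m : ℕ => p ∣ n - m).card = (n - 1) / p := by
    rw [← hA]
    refine Finset.card_nbij' (fun m => n - m) (fun m => n - m) ?_ ?_ ?_ ?_
    all_goals intro m hm
    all_goals simp only [Finset.coe_filter, Finset.mem_Icc, Set.mem_setOf_eq] at hm ⊢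
    · exact ⟨by omega, hm.2⟩
    · exact ⟨by omega, by rw [show n - (n - m) = m by omega]; exact hm.2⟩
    all_goals omega
  have h1 := Finset.card_filter_add_card_filter_not (s := Finset.Icc 1 (n - 1)) (fun m : ℕ => p ∣ m ∨ p ∣ n - m)
  simp only [not_or] at h1
  rw [Finset.filter_or, Finset.card_union_of_disjoint (Finset.disjoint_filter.2 fun m hm h2 h3 => hpn ?_), hA, hB,
    Nat.card_Icc] at h1
  · obtain ⟨j, rfl⟩ : ∃ j, n = j + 1 := ⟨n - 1, by omega⟩
    have h2 : (j + 1) / p = j / p := Nat.succ_div_of_not_dvd hpn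
    have h3 : (((j + 1 : ℕ) : ℤ) + 1) * ((p : ℤ) - 1) / p = (j + 1 : ℤ) - ((j / p : ℕ) : ℤ) := by
      have h4 := Nat.div_add_mod (j + 1) p
      have h5 : 0 < (j + 1) % p := Nat.pos_of_ne_zero fun h => hpn (Nat.dvd_of_mod_eq_zero h)
      have h6 := Nat.mod_lt (j + 1) hp.pos
      rw [h2] at h4
      refine (Int.ediv_emod_unique (r := (p : ℤ) - (((j + 1) % p : ℕ) : ℤ) - 1) (by exact_mod_cast hp.pos) |>.2 ⟨?_, by omega, by omega⟩).1
      have h7 : ((p : ℤ) * (j / p : ℕ)) + (((j + 1) % p : ℕ) : ℤ) = (j : ℤ) + 1 := by exact_mod_cast h4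
      push_cast at h7 ⊢
      linear_combination -h7
    rw [h3, show ((j + 1 : ℕ) : ℤ) - 1 = (j : ℤ) by push_cast; ring, ← Int.natCast_ediv]
    simp only [Nat.add_sub_cancel] at h1 ⊢
    omega
  · have hle : m ≤ n := le_trans (Finset.mem_Icc.1 hm).2 (Nat.sub_le n 1)
    simpa [Nat.add_sub_cancel' hle] using dvd_add h2 h3

/-- For k an algebraically closed field of characteristic p > 0, n ≥ 1 an integer prime to p, u ∈ k[[t]]
the power series with constant term 1 and u^n · (1 + t^n) = 1, and G a group of order p generated by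
g, consider two k-linear actions of G on B = k[[t]]: ρ₀(g) h = h(t·u), i.e. B with its order-p
automorphism σ(t) = t·u, and ρ₁(g) h = u^(n+1) · h(t·u), which is the σ-module B·dt identified with
B through h·dt ↦ h (because d(σ t) = u^(n+1) dt). The derivative d/dt : (B, ρ₀) → (B, ρ₁) is
G-equivariant, and the image of the map it induces on first group cohomology, H^1(G, (B, ρ₀)) →
H^1(G, (B, ρ₁)), is finite-dimensional over k of dimension ⌊(n+1)(p−1)/p⌋ − 1 − ⌊(n−1)/p⌋. This is
the dimension of the image of H^1(G, O) → H^1(G, Ω) at a ramified point with break n of a ℤ/p-cover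
of smooth curves, computed in the completed local ring; the published statement is phrased for the
stalks, at a point of the quotient curve, of the direct images of the structure sheaf and of the
sheaf of differentials, and its proof passes to this completed form. -/
theorem result {k : Type u} [Field k] [IsAlgClosed k] (p : ℕ)
    [Fact p.Prime] [CharP k p] (n : ℕ) (hn : 0 < n) (hpn : ¬ p ∣ n)
    (u : PowerSeries k) (hu1 : PowerSeries.constantCoeff u = 1)
    (hun : u ^ n * (1 + PowerSeries.X ^ n) = 1)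
    {G : Type u} [Group G] [Finite G] (g : G) (hG : Nat.card G = p)
    (hg : ∀ x : G, x ∈ Subgroup.zpowers g)
    (ρ₀ ρ₁ : Representation k G (PowerSeries k))
    (hρ₀ : ∀ h : PowerSeries k, ρ₀ g h = PowerSeries.subst (PowerSeries.X * u) h)
    (hρ₁ : ∀ h : PowerSeries k, ρ₁ g h = u ^ (n + 1) * PowerSeries.subst (PowerSeries.X * u) h)
    (φ : Rep.of ρ₀ ⟶ Rep.of ρ₁) (hφ : ∀ h : PowerSeries k, φ.hom h = PowerSeries.derivative k h) :
    Module.Finite k (LinearMap.range ((groupCohomology.functor k G 1).map φ).hom) ∧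
      (Module.finrank k (LinearMap.range ((groupCohomology.functor k G 1).map φ).hom) : ℤ) =
        ((n + 1) * (p - 1) : ℤ) / p - 1 - (n - 1 : ℤ) / p := by
  classical
  have hu : IsUnit u := PowerSeries.isUnit_iff_constantCoeff.2 (by rw [hu1]; exact isUnit_one)
  have hρ₀' : ∀ h : PowerSeries k, ρ₀ g h =
      ((hu.unit ^ (0 : ℤ) : (PowerSeries k)ˣ) : PowerSeries k) * PowerSeries.subst (PowerSeries.X * u) h := fun h => by
    rw [zpow_zero, Units.val_one, one_mul, hρ₀]
  have hρ₁' : ∀ h : PowerSeries k, ρ₁ g h =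
      ((hu.unit ^ ((n : ℤ) + 1) : (PowerSeries k)ˣ) : PowerSeries k) * PowerSeries.subst (PowerSeries.X * u) h :=
    fun h => by
    rw [hρ₁, show (n : ℤ) + 1 = ((n + 1 : ℕ) : ℤ) by push_cast; ring, zpow_natCast, Units.val_pow_eq_pow_val,
      IsUnit.unit_spec]
  let W := LinearMap.range (ρ₁ g - 1)
  let v : ℕ → PowerSeries k ⧸ W := fun m => W.mkQ (ASLocal.cc hu ((n : ℤ) + 1) m)
  have hv0 : ∀ m, 1 ≤ m → m ≤ n → (p : ℤ) ∣ ((n : ℤ) + 1) - (m : ℕ) → v m = 0 := fun m h1 h2 h3 => by
    obtain ⟨h, hh⟩ := S13863.result p n hn hpn u hu1 hun hu ((n : ℤ) + 1) m h1 h2 h3 _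
      (ASLocal.X_pow_mul_cc p hu1 hun hpn hu ((n : ℤ) + 1) h2)
    refine (Submodule.Quotient.mk_eq_zero _).2 ⟨h, ?_⟩
    rw [LinearMap.sub_apply, Module.End.one_apply, hρ₁', hh]
  have hφcc : ∀ m, m ≤ n → W.mkQ (φ.hom (ASLocal.cc hu 0 m)) =
      if m < n then -(m : k) • v (m + 1) else 0 := by
    intro m hm
    have h := derivative_cc p n hn hpn u hu1 hun hu hm
    rw [← hφ] at h
    split_ifs with hlt
    · rw [show φ.hom (ASLocal.cc hu 0 m) = -(m : k) • ASLocal.cc hu ((n : ℤ) + 1) (m + 1) from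
        mul_left_cancel₀ (pow_ne_zero (m + 1) PowerSeries.X_ne_zero) (by
          rw [h, PowerSeries.smul_eq_C_mul, map_neg, map_natCast]
          linear_combination (m : PowerSeries k) * ASLocal.X_pow_mul_cc p hu1 hun hpn hu ((n : ℤ) + 1) (show m + 1 ≤ n from hlt)),
        map_smul]
    · obtain rfl : m = n := by omega
      rw [show φ.hom (ASLocal.cc hu 0 m) = 0 from
        mul_left_cancel₀ (pow_ne_zero (m + 1) PowerSeries.X_ne_zero) (by
          rw [h, show ((m : ℤ) + 1) - ((m + 1 : ℕ) : ℤ) = 0 by push_cast; ring, zpow_zero, Units.val_one, sub_self,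
            mul_zero, mul_zero]), map_zero]
  obtain ⟨θ, hθ⟩ := ASLocal.exists_theta ρ₁ g p
  obtain ⟨hinj, hθπ⟩ := hθ hG hg
  let φ' : Rep.res (MonoidHom.id G) (Rep.of ρ₀) ⟶ Rep.of ρ₁ := φ
  let F := (groupCohomology.map (MonoidHom.id G) φ' 1).hom
  change Module.Finite k (LinearMap.range F) ∧ (Module.finrank k (LinearMap.range F) : ℤ) = _
  have hF : ∀ f : groupCohomology.cocycles₁ (Rep.of ρ₀), θ (F ((groupCohomology.H1π (Rep.of ρ₀)).hom f)) =
      W.mkQ (φ.hom (ASLocal.evalGen ρ₀ g f)) := by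
    intro f
    have h1 := groupCohomology.H1π_comp_map_apply (MonoidHom.id G) φ' f
    rw [show F ((groupCohomology.H1π (Rep.of ρ₀)).hom f) = (groupCohomology.H1π (Rep.of ρ₁)).hom
        (groupCohomology.mapCocycles₁ (MonoidHom.id G) φ' f) from h1, ← LinearMap.comp_apply, hθπ, ASLocal.psi,
      LinearMap.comp_apply]
    exact congrArg W.mkQ (congrFun (groupCohomology.coe_mapCocycles₁ (f := MonoidHom.id G) (φ := φ') f) g)
  let S := (Finset.Icc 1 (n - 1)).filter fun m : ℕ => ¬ p ∣ m ∧ ¬ p ∣ n - m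
  let b : S → PowerSeries k ⧸ W := fun m => v ((m : ℕ) + 1)
  have hidx : ∀ m ∈ S, m + 1 ∈ ASLocal.idx p ((n : ℤ) + 1) n := fun m hm => by
    obtain ⟨hm1, hm2, hm3⟩ := Finset.mem_filter.1 hm
    rw [Finset.mem_Icc] at hm1
    refine Finset.mem_filter.2 ⟨Finset.mem_Icc.2 ⟨by omega, by omega⟩, fun h => hm3 ?_⟩
    rw [← Int.natCast_dvd_natCast, Nat.cast_sub (by omega)]
    rwa [Nat.cast_succ, add_sub_add_right_eq_sub] at h
  have hli : LinearIndependent k b := by
    have h1 : LinearIndependent k fun m : ASLocal.idx p ((n : ℤ) + 1) n => v (m : ℕ) := by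
      rw [Fintype.linearIndependent_iff]
      intro coef hc i
      refine congrFun (ASLocal.comb_mkQ_injective p hu1 hun hn hpn hu ((n : ℤ) + 1) g ρ₁ hρ₁' (a₁ := coef) (a₂ := 0) ?_) i
      rw [map_zero, LinearMap.comp_apply, ASLocal.comb, Fintype.linearCombination_apply, map_sum]
      simpa only [map_smul] using hc
    exact h1.comp (fun m : S => ⟨(m : ℕ) + 1, hidx m m.2⟩) fun x y h => by
      have := congrArg Subtype.val h
      exact Subtype.ext (by simpa using this)
  have hrange : (LinearMap.range F).map θ = Submodule.span k (Set.range b) := by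
    refine le_antisymm ?_ (Submodule.span_le.2 ?_)
    · rintro _ ⟨_, ⟨x, rfl⟩, rfl⟩
      induction x using groupCohomology.H1_induction_on with
      | @h f =>
        rw [show θ (F ((groupCohomology.H1π (Rep.of ρ₀)).hom f)) = _ from hF f]
        obtain ⟨coef, w, hw⟩ := ASLocal.exists_comb p hu1 hun hn hpn hu 0 g hG ρ₀ hρ₀' _
          (ASLocal.tr_evalGen ρ₀ g p hG hg f)
        rw [hw, map_add, LinearMap.sub_apply, Module.End.one_apply, map_sub,
          show φ.hom (ρ₀ g w) = ρ₁ g (φ.hom w) from Rep.hom_comm_apply φ g w, map_add,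
          show W.mkQ (ρ₁ g (φ.hom w) - φ.hom w) = 0 from (Submodule.Quotient.mk_eq_zero _).2 ⟨φ.hom w, rfl⟩,
          add_zero, ASLocal.comb, Fintype.linearCombination_apply, map_sum, map_sum]
        refine Submodule.sum_mem _ fun m _ => ?_
        obtain ⟨hm1, hm2⟩ := Finset.mem_filter.1 m.2
        rw [Finset.mem_Icc] at hm1
        rw [map_smul, map_smul, hφcc _ hm1.2]
        refine Submodule.smul_mem _ _ ?_
        split_ifs with hlt
        · refine Submodule.smul_mem _ _ ?_
          rw [zero_sub, dvd_neg, Int.natCast_dvd_natCast] at hm2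
          by_cases h3 : p ∣ n - (m : ℕ)
          · rw [hv0 _ (by omega) hlt (by
              rw [Nat.cast_succ, add_sub_add_right_eq_sub, ← Nat.cast_sub hm1.2]
              exact_mod_cast h3)]
            exact Submodule.zero_mem _
          · exact Submodule.subset_span ⟨⟨m, Finset.mem_filter.2 ⟨Finset.mem_Icc.2 ⟨hm1.1, by omega⟩, hm2, h3⟩⟩, rfl⟩
        · exact Submodule.zero_mem _
    · rintro _ ⟨⟨m, hm⟩, rfl⟩
      obtain ⟨hm1, hm2, hm3⟩ := Finset.mem_filter.1 hm
      rw [Finset.mem_Icc] at hm1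
      obtain ⟨f, hf⟩ := ASLocal.exists_cocycle ρ₀ g p hG hg _
        (ASLocal.tr_cc p hu1 hun hpn hu 0 g hG ρ₀ hρ₀' (show m ≤ n by omega))
      have hmk : (m : k) ≠ 0 := fun h => hm2 ((CharP.cast_eq_zero_iff k p m).1 h)
      refine ⟨F ((groupCohomology.H1π (Rep.of ρ₀)).hom ((-(m : k))⁻¹ • f)), ⟨_, rfl⟩, ?_⟩
      rw [map_smul, map_smul, map_smul, hF, hf, hφcc m (by omega), if_pos (by omega), smul_smul,
        inv_mul_cancel₀ (neg_ne_zero.2 hmk), one_smul]
  let e : LinearMap.range F ≃ₗ[k] Submodule.span k (Set.range b) :=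
    (Submodule.equivMapOfInjective θ hinj _).trans (LinearEquiv.ofEq _ _ hrange)
  have : Module.Finite k (Submodule.span k (Set.range b)) := Module.Finite.span_of_finite k (Set.finite_range b)
  refine ⟨Module.Finite.equiv e.symm, ?_⟩
  rw [e.finrank_eq, finrank_span_eq_card hli, Fintype.card_coe, card_good p (Fact.out : p.Prime) n hn hpn]

end Groth.Agent.S13862
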