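import Groth.Statements.S13875
import Groth.Agent.PolLawLib.GenericRank

set_option autoImplicit false
universe u
open scoped TensorProduct
open ZeroCyc

namespace Groth.Agent.S13875

/-- Affine form of the determinant law over a normal base. Let A be an integrally closed domain with
fraction field K, B a commutative A-algebra and M a B-module that is finitely generated as an
A-module (not necessarily flat over A), and let d be the generic rank of M, the dimension of the
K-vector space K ⊗_A M. Then there is exactly one multiplicative polynomial law N : B → A over A,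
homogeneous of degree d, such that for every n and every x ∈ A[t_1, …, t_n] ⊗_A B the value N(x) ∈
A[t_1, …, t_n], read in the fraction field L of A[t_1, …, t_n], is the determinant of x acting on
the finite-dimensional L-vector space L ⊗_A M. (Over a general test algebra the law is the unique
extension of these members; for M free of rank d over A it is the determinant law of M.) -/
theorem result {A B M : Type u} [CommRing A] [IsDomain A] [IsIntegrallyClosed A]
    [CommRing B] [Algebra A B] [AddCommGroup M] [Module A M] [Module B M] [IsScalarTower A B M] [Module.Finite A M]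
    (d : ℕ) (hd : Module.finrank (FractionRing A) (FractionRing A ⊗[A] M) = d) :
    ∃! N : PolLaw.MulLaw A B A d, ∀ (n : ℕ) (x : MvPolynomial (Fin n) A ⊗[A] B),
      algebraMap (MvPolynomial (Fin n) A) (FractionRing (MvPolynomial (Fin n) A))
          (TensorProduct.rid A (MvPolynomial (Fin n) A) (N.law.toFun' (MvPolynomial (Fin n) A) x)) =
        LinearMap.det (PolLaw.actEnd M (FractionRing (MvPolynomial (Fin n) A))
          (Algebra.TensorProduct.map
            (IsScalarTower.toAlgHom A (MvPolynomial (Fin n) A) (FractionRing (MvPolynomial (Fin n) A)))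
            (AlgHom.id A B) x)) := by
  classical
  let K := FractionRing A
  let bK : Module.Basis (Fin d) K (K ⊗[A] M) := Module.finBasisOfFinrankEq K (K ⊗[A] M) hd
  let N₀ := PolLawLib.GenericRank.law (B := B) K M bK
  let N : PolLaw.MulLaw A B A d :=
    ⟨N₀.law, fun S _ _ s x => by simpa using N₀.homog S s x, N₀.mult⟩
  have hN : ∀ (n : ℕ) (x : MvPolynomial (Fin n) A ⊗[A] B),
      algebraMap (MvPolynomial (Fin n) A) (FractionRing (MvPolynomial (Fin n) A))
          (TensorProduct.rid A (MvPolynomial (Fin n) A) (N.law.toFun' (MvPolynomial (Fin n) A) x)) =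
        LinearMap.det (PolLaw.actEnd M (FractionRing (MvPolynomial (Fin n) A))
          (Algebra.TensorProduct.map
            (IsScalarTower.toAlgHom A (MvPolynomial (Fin n) A) (FractionRing (MvPolynomial (Fin n) A)))
            (AlgHom.id A B) x)) := by
    intro n x
    let : Algebra K (FractionRing (MvPolynomial (Fin n) A)) := FractionRing.liftAlgebra A _
    change algebraMap _ _ (TensorProduct.rid A _
      (PolLawLib.GenericRank.value K M bK (MvPolynomial (Fin n) A) x ⊗ₜ[A] (1 : A))) = _
    rw [TensorProduct.rid_tmul, one_smul]
    exact PolLawLib.GenericRank.value_fractionRing K M bK x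
  refine ⟨N, hN, fun N' hN' => PolLaw.MulLaw.ext (PolynomialLaw.ext ?_)⟩
  funext S _ _ x
  obtain ⟨n, z, rfl⟩ : ∃ (n : ℕ) (z : Σ' φ : MvPolynomial (Fin n) A →ₐ[A] S,
      MvPolynomial (Fin n) A ⊗[A] B), x = z.1.toLinearMap.rTensor B z.2 := by
    obtain ⟨s, hs⟩ := TensorProduct.exists_finset x
    refine ⟨s.card, ⟨MvPolynomial.aeval fun i => (s.equivFin.symm i).1.1,
      ∑ i, MvPolynomial.X i ⊗ₜ[A] (s.equivFin.symm i).1.2⟩, ?_⟩
    rw [hs, map_sum, ← Finset.sum_coe_sort, ← s.equivFin.symm.sum_comp]
    simp
  rw [← PolynomialLaw.isCompat_apply', ← PolynomialLaw.isCompat_apply']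
  refine congrArg _ ((TensorProduct.rid A _).injective ?_)
  exact IsFractionRing.injective (MvPolynomial (Fin n) A) (FractionRing (MvPolynomial (Fin n) A))
    ((hN' n z.2).trans (hN n z.2).symm)

end Groth.Agent.S13875
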