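import Groth.Statements.S13877
import Mathlib
-- import your own Groth.Agent.* helpers here

set_option autoImplicit false
universe u v
open Crimp

namespace Groth.Agent.S13877

/-- Over R = k⟦t⟧ with k an algebraically closed field of characteristic zero, let S' be a commutative
R-algebra with an R-basis of size d whose discriminant generates the ideal (t ^ a) (a finite cover
of the formal disk of degree d, unramified over the punctured disk, with branch divisor (t ^ a)),
and let S be an R-subalgebra of S' with an R-basis of size d whose discriminant generates (t ^ b) (a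
crimp with branch divisor (t ^ b)). Then t ^ b annihilates S' / S and twice the R-length of S' / S
plus a equals b. (The published statement is for a family of such subalgebras over a k-scheme T and
also asserts T-flatness of the quotient; this row is its restriction to T a point.) -/
theorem result {k : Type u} [Field k] [IsAlgClosed k] [CharZero k]
    {St : Type v} [CommRing St] [Algebra (PowerSeries k) St] (d a b : ℕ)
    (bt : Module.Basis (Fin d) (PowerSeries k) St)
    (ha : Ideal.span {Algebra.discr (PowerSeries k) ⇑bt} = Ideal.span {(PowerSeries.X : PowerSeries k) ^ a})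
    (S : Subalgebra (PowerSeries k) St) (bS : Module.Basis (Fin d) (PowerSeries k) S)
    (hb : Ideal.span {Algebra.discr (PowerSeries k) ⇑bS} = Ideal.span {(PowerSeries.X : PowerSeries k) ^ b}) :
    (∀ q : St ⧸ Subalgebra.toSubmodule S, ((PowerSeries.X : PowerSeries k) ^ b) • q = 0) ∧
    2 * Module.length (PowerSeries k) (St ⧸ Subalgebra.toSubmodule S) + (a : ℕ∞) = (b : ℕ∞) := by
  classical
  set R := PowerSeries k
  set N := Subalgebra.toSubmodule S with hN
  haveI : Module.Free R St := Module.Free.of_basis bt
  haveI : Module.Finite R St := Module.Finite.of_basis bt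
  have hr : Module.finrank R N = Module.finrank R St := by
    rw [Module.finrank_eq_card_basis bt]
    exact (Module.finrank_eq_card_basis bS : Module.finrank R S = _)
  let top := Submodule.smithNormalFormTopBasis bt hr
  let bot : Module.Basis (Fin d) R S := (Submodule.smithNormalFormBotBasis bt hr).map (LinearEquiv.refl R S)
  let c := Submodule.smithNormalFormCoeffs bt hr
  have hdef : ∀ i, ((bot i : S) : St) = c i • top i := fun i => Submodule.smithNormalFormBotBasis_def bt hr i
  have hc : ∀ i, c i ≠ 0 := fun i => Submodule.smithNormalFormCoeffs_ne_zero bt hr i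
  have htr : ∀ x : S, Algebra.trace R S x = Algebra.trace R St (x : St) := by
    intro x
    rw [Algebra.trace_eq_matrix_trace bot, Algebra.trace_eq_matrix_trace top]
    refine Finset.sum_congr rfl fun i _ => mul_left_cancel₀ (hc i) ?_
    simp only [Matrix.diag, Algebra.leftMulMatrix_eq_repr_mul]
    have h1 := congrArg S.val (bot.sum_repr (x * bot i)).symm
    rw [map_sum] at h1
    have h2 := congrArg (fun y => top.repr y i) h1
    simp only [map_mul, map_smul, Subalgebra.coe_val, hdef, Algebra.mul_smul_comm, map_sum, Finsupp.smul_apply,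
      Finsupp.coe_finsetSum, Finset.sum_apply, smul_smul, Module.Basis.repr_self, Finsupp.single_apply, smul_eq_mul, mul_ite,
      mul_one, mul_zero, Finset.sum_ite_eq', Finset.mem_univ, if_true] at h2
    rw [h2, mul_comm]
  have hbot : Algebra.discr R ⇑bot = (∏ i, c i) ^ 2 * Algebra.discr R ⇑top := by
    have h1 : Algebra.discr R ⇑bot = Algebra.discr R (fun i => ((bot i : S) : St)) := by
      simp only [Algebra.discr_def]
      congr 1; ext i j
      simp [Algebra.traceMatrix_apply, Algebra.traceForm_apply, htr]
    rw [h1, show (fun i => ((bot i : S) : St)) = Matrix.vecMul ⇑top ((Matrix.diagonal c).map (algebraMap R St)) from ?_,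
      Algebra.discr_of_matrix_vecMul, Matrix.det_diagonal]
    funext i
    rw [hdef, Matrix.diagonal_map (map_zero _), Matrix.vecMul_diagonal, Algebra.smul_def, mul_comm]
  have hchg : ∀ {B : Type v} [CommRing B] [Algebra R B] (b₁ b₂ : Module.Basis (Fin d) R B),
      Associated (Algebra.discr R ⇑b₁) (Algebra.discr R ⇑b₂) := by
    intro B _ _ b₁ b₂
    have e : Algebra.discr R ⇑b₁ = (b₂.toMatrix ⇑b₁).det ^ 2 * Algebra.discr R ⇑b₂ := by
      convert! Algebra.discr_of_matrix_vecMul ⇑b₂ (b₂.toMatrix ⇑b₁)
      rw [Module.Basis.toMatrix_map_vecMul]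
    have hu : IsUnit (b₂.toMatrix ⇑b₁).det := by
      rw [← LinearMap.toMatrix_id_eq_basis_toMatrix b₁ b₂]
      exact LinearEquiv.isUnit_det (LinearEquiv.refl R B) b₁ b₂
    rw [e]
    exact (associated_unit_mul_left _ _ (hu.pow 2))
  have hassoc : Associated ((PowerSeries.X : R) ^ b) ((∏ i, c i) ^ 2 * (PowerSeries.X : R) ^ a) :=
    ((Ideal.span_singleton_eq_span_singleton.1 hb).symm.trans (hchg bS bot)).trans
      (hbot ▸ (Associated.mul_left _ ((hchg top bt).trans (Ideal.span_singleton_eq_span_singleton.1 ha))))
  refine ⟨fun q => ?_, ?_⟩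
  · let E := Submodule.quotientEquivPiSpan N bt hr
    refine E.injective ?_
    rw [map_smul, map_zero]
    funext i
    obtain ⟨z, hz⟩ := Ideal.Quotient.mk_surjective (E q i)
    rw [Pi.smul_apply, ← hz, Pi.zero_apply]
    refine Ideal.Quotient.eq_zero_iff_mem.2 (Ideal.mem_span_singleton.2 ?_)
    exact ((Finset.dvd_prod_of_mem c (Finset.mem_univ i)).trans ((dvd_pow_self _ two_ne_zero).trans
      ((dvd_mul_right _ _).trans hassoc.dvd'))).mul_right z
  · rw [(Submodule.quotientEquivPiSpan N bt hr).length_eq, Module.length_pi_of_fintype]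
    change 2 * ∑ i, Ring.ord R (c i) + _ = _
    have hX : (PowerSeries.X : R) ≠ 0 := PowerSeries.X_ne_zero
    have hord : ∀ j : ℕ, Ring.ord R ((PowerSeries.X : R) ^ j) = j := fun j => by
      rw [Ring.ord_pow (mem_nonZeroDivisors_of_ne_zero hX), Ring.ord_of_irreducible PowerSeries.X_irreducible, nsmul_one]
    have hprod : ∀ s : Finset (Fin d), Ring.ord R (∏ i ∈ s, c i) = ∑ i ∈ s, Ring.ord R (c i) := by
      intro s
      induction s using Finset.induction_on with
      | empty => simp
      | insert x s hx ih =>
        rw [Finset.prod_insert hx, Finset.sum_insert hx, Ring.ord_mul _ (mem_nonZeroDivisors_of_ne_zero (Finset.prod_ne_zero_iff.2 fun i _ => hc i)), ih]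
    obtain ⟨u, hu⟩ := hassoc
    have h := congrArg (Ring.ord R) hu
    rw [Ring.ord_mul_of_isUnit_right u.isUnit, hord, Ring.ord_mul _ (mem_nonZeroDivisors_of_ne_zero (pow_ne_zero _ hX)),
      Ring.ord_pow (mem_nonZeroDivisors_of_ne_zero (Finset.prod_ne_zero_iff.2 fun i _ => hc i)), hord, hprod, nsmul_eq_mul] at h
    exact h.symm

end Groth.Agent.S13877
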