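import Groth.Statements.S13878
import Mathlib
-- import your own Groth.Agent.* helpers here

set_option autoImplicit false
universe u
open Crimp

namespace Groth.Agent.S13878

/-- Over R = k⟦t⟧ with k an algebraically closed field of characteristic zero, let S' = R × R × R (the
unramified triple cover of the formal disk) and let S be an R-submodule of S' containing 1 such that
S' / S is isomorphic to R / (t ^ m) ⊕ R / (t ^ n) with m ≤ n. Then t ^ n S' is contained in S, and
there is f in S', not lying in R·1 + t S', such that S = R·1 + R·(t ^ m f) + t ^ n S'. -/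
theorem result {k : Type u} [Field k] [IsAlgClosed k] [CharZero k] (m n : ℕ) (hmn : m ≤ n)
    (S : Submodule (PowerSeries k) (Fin 3 → PowerSeries k))
    (h1 : (1 : (Fin 3 → PowerSeries k)) ∈ S)
    (e : ((Fin 3 → PowerSeries k) ⧸ S) ≃ₗ[PowerSeries k]
      ((PowerSeries k ⧸ Ideal.span {(PowerSeries.X : PowerSeries k) ^ m}) × (PowerSeries k ⧸ Ideal.span {(PowerSeries.X : PowerSeries k) ^ n}))) :
    Ideal.span {(PowerSeries.X : PowerSeries k) ^ n} • (⊤ : Submodule (PowerSeries k) (Fin 3 → PowerSeries k)) ≤ S ∧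
    ∃ f : (Fin 3 → PowerSeries k),
      f ∉ Submodule.span (PowerSeries k) {(1 : (Fin 3 → PowerSeries k))} ⊔ Ideal.span {(PowerSeries.X : PowerSeries k)} • (⊤ : Submodule (PowerSeries k) (Fin 3 → PowerSeries k)) ∧
      S = Submodule.span (PowerSeries k) {(1 : (Fin 3 → PowerSeries k)), ((PowerSeries.X : PowerSeries k) ^ m) • f} ⊔
        Ideal.span {(PowerSeries.X : PowerSeries k) ^ n} • (⊤ : Submodule (PowerSeries k) (Fin 3 → PowerSeries k)) := by
  classical
  set t : PowerSeries k := PowerSeries.X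
  let ψ := e.toLinearMap ∘ₗ S.mkQ
  have hS : ∀ x, x ∈ S ↔ ψ x = 0 := fun x => by simp [ψ]
  have hψs : Function.Surjective ψ := e.surjective.comp S.mkQ_surjective
  let E₀ : Fin 3 → PowerSeries k := ![1, 0, 0]
  let E₁ : Fin 3 → PowerSeries k := ![0, 1, 0]
  have hdec : ∀ x : Fin 3 → PowerSeries k, x = x 2 • (1 : Fin 3 → PowerSeries k) + (x 0 - x 2) • E₀ + (x 1 - x 2) • E₁ := fun x => by
    funext i; fin_cases i <;> simp [E₀, E₁, Matrix.vecHead, Matrix.vecTail]
  obtain ⟨a, ha⟩ := Ideal.Quotient.mk_surjective (ψ E₀).1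
  obtain ⟨c, hc⟩ := Ideal.Quotient.mk_surjective (ψ E₀).2
  obtain ⟨b, hb⟩ := Ideal.Quotient.mk_surjective (ψ E₁).1
  obtain ⟨d, hd⟩ := Ideal.Quotient.mk_surjective (ψ E₁).2
  have hψ1 : ψ 1 = 0 := (hS 1).1 h1
  have hψ : ∀ x, ψ x = (x 0 - x 2) • ψ E₀ + (x 1 - x 2) • ψ E₁ := fun x => by
    conv_lhs => rw [hdec x]
    rw [map_add, map_add, map_smul, map_smul, map_smul, hψ1, smul_zero, zero_add]
  have hsm : ∀ (I : Ideal (PowerSeries k)) (r z : PowerSeries k), r • Ideal.Quotient.mk I z = Ideal.Quotient.mk I (r * z) := fun _ _ _ => rfl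
  -- the two coordinates
  obtain ⟨A, B, C, D, hA, hC, hdet⟩ : ∃ A B C D : PowerSeries k,
      (∀ x, (ψ x).1 = Ideal.Quotient.mk _ (A * (x 0 - x 2) + B * (x 1 - x 2))) ∧
      (∀ x, (ψ x).2 = Ideal.Quotient.mk _ (C * (x 0 - x 2) + D * (x 1 - x 2))) ∧ IsUnit (A * D - B * C) := by
    have h1' : ∀ x, (ψ x).1 = Ideal.Quotient.mk _ (a * (x 0 - x 2) + b * (x 1 - x 2)) := fun x => by
      rw [hψ, Prod.fst_add, Prod.smul_fst, Prod.smul_fst, ← ha, ← hb, hsm, hsm, ← map_add]; congr 1; ring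
    have h2' : ∀ x, (ψ x).2 = Ideal.Quotient.mk _ (c * (x 0 - x 2) + d * (x 1 - x 2)) := fun x => by
      rw [hψ, Prod.snd_add, Prod.smul_snd, Prod.smul_snd, ← hc, ← hd, hsm, hsm, ← map_add]; congr 1; ring
    have hcc : ∀ (j : ℕ) (z : PowerSeries k), 0 < j → z ∈ Ideal.span {t ^ j} → PowerSeries.constantCoeff z = 0 := by
      intro j z hj hz
      obtain ⟨w, rfl⟩ := Ideal.mem_span_singleton.1 hz
      simp [t, hj.ne']
    rcases Nat.eq_zero_or_pos n with hn | hn
    · have hm : m = 0 := by omega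
      refine ⟨1, 0, 0, 1, fun x => ?_, fun x => ?_, by simp⟩
      · rw [h1', Ideal.Quotient.eq]; simp [hm]
      · rw [h2', Ideal.Quotient.eq]; simp [hn]
    obtain ⟨z₂, hz₂⟩ := hψs (0, 1)
    have hz2 := hcc n _ hn (Ideal.Quotient.eq.1 ((h2' z₂).symm.trans (congrArg Prod.snd hz₂) |>.trans (map_one _).symm))
    rw [map_sub, map_one, sub_eq_zero, map_add, map_mul, map_mul] at hz2
    rcases Nat.eq_zero_or_pos m with hm | hm
    · have htriv : ∀ z w : PowerSeries k, Ideal.Quotient.mk (Ideal.span {t ^ m}) z = Ideal.Quotient.mk _ w := fun z w => by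
        rw [Ideal.Quotient.eq]; simp [hm]
      by_cases hc0 : PowerSeries.constantCoeff c = 0
      · refine ⟨1, 0, c, d, fun x => (h1' x).trans (htriv _ _), h2', ?_⟩
        rw [PowerSeries.isUnit_iff_constantCoeff]
        rw [hc0, zero_mul, zero_add] at hz2
        simpa using IsUnit.of_mul_eq_one _ hz2
      · refine ⟨0, 1, c, d, fun x => (h1' x).trans (htriv _ _), h2', ?_⟩
        rw [PowerSeries.isUnit_iff_constantCoeff]
        simpa using hc0
    obtain ⟨z₁, hz₁⟩ := hψs (1, 0)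
    have e11 := hcc m _ hm (Ideal.Quotient.eq.1 ((h1' z₁).symm.trans (congrArg Prod.fst hz₁) |>.trans (map_one _).symm))
    have e12 := hcc n _ hn (Ideal.Quotient.eq.1 ((h2' z₁).symm.trans (congrArg Prod.snd hz₁) |>.trans (map_zero _).symm))
    have e21 := hcc m _ hm (Ideal.Quotient.eq.1 ((h1' z₂).symm.trans (congrArg Prod.fst hz₂) |>.trans (map_zero _).symm))
    refine ⟨a, b, c, d, h1', h2', ?_⟩
    rw [PowerSeries.isUnit_iff_constantCoeff]
    simp only [map_sub, map_mul, map_add, map_zero, map_one, sub_zero, sub_eq_zero] at e11 e12 e21 hz2 ⊢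
    set a' := PowerSeries.constantCoeff a
    set b' := PowerSeries.constantCoeff b
    set c' := PowerSeries.constantCoeff c
    set d' := PowerSeries.constantCoeff d
    set u₁ := PowerSeries.constantCoeff (z₁ 0) - PowerSeries.constantCoeff (z₁ 2)
    set v₁ := PowerSeries.constantCoeff (z₁ 1) - PowerSeries.constantCoeff (z₁ 2)
    set u₂ := PowerSeries.constantCoeff (z₂ 0) - PowerSeries.constantCoeff (z₂ 2)
    set v₂ := PowerSeries.constantCoeff (z₂ 1) - PowerSeries.constantCoeff (z₂ 2)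
    refine IsUnit.of_mul_eq_one (u₁ * v₂ - v₁ * u₂) ?_
    linear_combination (c' * u₂ + d' * v₂) * e11 + hz2 - (c' * u₁ + d' * v₁) * e21
  obtain ⟨Δ, hΔ⟩ := hdet
  have hΔi : (↑Δ⁻¹ : PowerSeries k) * (A * D - B * C) = 1 := by rw [← hΔ, Units.inv_mul]
  let f : Fin 3 → PowerSeries k := ![↑Δ⁻¹ * D, -(↑Δ⁻¹ * C), 0]
  let g : Fin 3 → PowerSeries k := ![-(↑Δ⁻¹ * B), ↑Δ⁻¹ * A, 0]
  have hle : Ideal.span {t ^ n} • (⊤ : Submodule (PowerSeries k) (Fin 3 → PowerSeries k)) ≤ S := by
    refine Submodule.smul_le.2 fun r hr x _ => ?_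
    obtain ⟨w, rfl⟩ := Ideal.mem_span_singleton.1 hr
    refine (hS _).2 (Prod.ext ?_ ?_)
    · rw [hA]
      refine Ideal.Quotient.eq_zero_iff_mem.2 (Ideal.mem_span_singleton.2 ((pow_dvd_pow t hmn).trans
        ⟨w * (A * (x 0 - x 2) + B * (x 1 - x 2)), ?_⟩))
      simp only [Pi.smul_apply, smul_eq_mul]; ring
    · rw [hC]
      refine Ideal.Quotient.eq_zero_iff_mem.2 (Ideal.mem_span_singleton.2 ⟨w * (C * (x 0 - x 2) + D * (x 1 - x 2)), ?_⟩)
      simp only [Pi.smul_apply, smul_eq_mul]; ring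
  refine ⟨hle, f, ?_, le_antisymm ?_ (sup_le (Submodule.span_le.2 ?_) hle)⟩
  · intro hf
    obtain ⟨y, hy, z, hz, hyz⟩ := Submodule.mem_sup.1 hf
    obtain ⟨r, rfl⟩ := Submodule.mem_span_singleton.1 hy
    have hz' : ∀ i, t ∣ z i := by
      intro i
      refine Submodule.smul_induction_on (p := fun z => t ∣ z i) hz (fun s hs w _ => ?_) (fun u v hu hv => dvd_add hu hv)
      obtain ⟨s', rfl⟩ := Ideal.mem_span_singleton.1 hs
      exact ⟨s' * w i, by simp [mul_assoc]⟩
    have e0 := congrFun hyz 0; have e1 := congrFun hyz 1; have e2 := congrFun hyz 2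
    simp only [f, Pi.add_apply, Pi.smul_apply, Pi.one_apply, smul_eq_mul, mul_one, Matrix.cons_val_zero, Matrix.cons_val_one,
      Matrix.cons_val_two, Matrix.head_cons, Matrix.tail_cons] at e0 e1 e2
    have hr : t ∣ r := by rw [show r = -(z 2) by linear_combination e2]; exact (hz' 2).neg_right
    have hD : t ∣ (↑Δ⁻¹ : PowerSeries k) * D := e0 ▸ dvd_add hr (hz' 0)
    have hC' : t ∣ (↑Δ⁻¹ : PowerSeries k) * C := dvd_neg.1 (e1 ▸ dvd_add hr (hz' 1))
    refine (PowerSeries.X_prime (R := k)).not_isUnit (isUnit_of_dvd_one ?_)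
    rw [← hΔi, show (↑Δ⁻¹ : PowerSeries k) * (A * D - B * C) = A * (↑Δ⁻¹ * D) - B * (↑Δ⁻¹ * C) by ring]
    exact dvd_sub (hD.mul_left _) (hC'.mul_left _)
  · intro x hx
    rw [hS] at hx
    set β := A * (x 0 - x 2) + B * (x 1 - x 2)
    set γ := C * (x 0 - x 2) + D * (x 1 - x 2)
    obtain ⟨β', hβ⟩ : t ^ m ∣ β := by
      have := hA x; rw [hx] at this
      exact Ideal.mem_span_singleton.1 (Ideal.Quotient.eq_zero_iff_mem.1 this.symm)
    obtain ⟨γ', hγ⟩ : t ^ n ∣ γ := by
      have := hC x; rw [hx] at this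
      exact Ideal.mem_span_singleton.1 (Ideal.Quotient.eq_zero_iff_mem.1 this.symm)
    have hxx : x = x 2 • (1 : Fin 3 → PowerSeries k) + β' • (t ^ m • f) + t ^ n • (γ' • g) := by
      funext i
      simp only [β, γ] at hβ hγ
      fin_cases i <;> simp only [f, g, Pi.add_apply, Pi.smul_apply, Pi.one_apply, smul_eq_mul, mul_one, Fin.zero_eta, Fin.mk_one,
        Fin.reduceFinMk, Matrix.cons_val_zero, Matrix.cons_val_one, Matrix.cons_val_two, Matrix.head_cons, Matrix.tail_cons]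
      · linear_combination (-(x 0 - x 2)) * hΔi + (↑Δ⁻¹ * D) * hβ - (↑Δ⁻¹ * B) * hγ
      · linear_combination (-(x 1 - x 2)) * hΔi - (↑Δ⁻¹ * C) * hβ + (↑Δ⁻¹ * A) * hγ
      · simp
    rw [hxx]
    exact Submodule.add_mem_sup (add_mem (Submodule.smul_mem _ _ (Submodule.subset_span (by simp)))
      (Submodule.smul_mem _ _ (Submodule.subset_span (by simp)))) (Submodule.smul_mem_smul (Ideal.mem_span_singleton_self _) trivial)
  · rintro y (rfl | rfl)
    · exact h1
    · refine (hS _).2 (Prod.ext ?_ ?_)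
      · rw [hA]
        refine Ideal.Quotient.eq_zero_iff_mem.2 (Ideal.mem_span_singleton.2 ⟨1, ?_⟩)
        simp only [f, Pi.smul_apply, smul_eq_mul, Matrix.cons_val_zero, Matrix.cons_val_one, Matrix.cons_val_two, Matrix.head_cons, Matrix.tail_cons]
        linear_combination t ^ m * hΔi
      · rw [hC]
        refine Ideal.Quotient.eq_zero_iff_mem.2 ?_
        convert Ideal.zero_mem _ using 1
        simp only [f, Pi.smul_apply, smul_eq_mul, Matrix.cons_val_zero, Matrix.cons_val_one, Matrix.cons_val_two, Matrix.head_cons, Matrix.tail_cons]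
        ring

end Groth.Agent.S13878
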