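import Mathlib
import Groth.Statements.S13879
-- import your own Groth.Agent.* helpers here

set_option autoImplicit false
universe u
open Crimp

namespace Groth.Agent.S13879

/-- Over R = k⟦t⟧ with k an algebraically closed field of characteristic zero, let S' = R × R × R and
let S be the R-submodule R·1 + R·(t ^ m f) + t ^ n S' of S' for some f in S' and natural numbers m,
n. Then S is closed under multiplication (equivalently, is an R-subalgebra of S') if and only if t ^
(2m) f ^ 2 lies in S. (The published statement has m ≤ n and S' / S isomorphic to R / (t ^ m) ⊕ R /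
(t ^ n), under which S has this shape; this row states the criterion for every submodule of this
shape.) -/
theorem result {k : Type u} [Field k] [IsAlgClosed k] [CharZero k] (m n : ℕ) (f : (Fin 3 → PowerSeries k))
    (S : Submodule (PowerSeries k) (Fin 3 → PowerSeries k))
    (hS : S = Submodule.span (PowerSeries k) {(1 : (Fin 3 → PowerSeries k)), ((PowerSeries.X : PowerSeries k) ^ m) • f} ⊔
        Ideal.span {(PowerSeries.X : PowerSeries k) ^ n} • (⊤ : Submodule (PowerSeries k) (Fin 3 → PowerSeries k))) :
    (∀ x ∈ S, ∀ y ∈ S, x * y ∈ S) ↔ ((PowerSeries.X : PowerSeries k) ^ (2 * m)) • (f * f) ∈ S := by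
  subst hS
  set U := Submodule.span (PowerSeries k) {(1 : (Fin 3 → PowerSeries k)), ((PowerSeries.X : PowerSeries k) ^ m) • f} with hU
  set V := Ideal.span {(PowerSeries.X : PowerSeries k) ^ n} • (⊤ : Submodule (PowerSeries k) (Fin 3 → PowerSeries k)) with hV
  have hf : ((PowerSeries.X : PowerSeries k) ^ m) • f ∈ U ⊔ V :=
    Submodule.mem_sup_left (Submodule.subset_span (by simp))
  have hsq : (((PowerSeries.X : PowerSeries k) ^ m) • f) * (((PowerSeries.X : PowerSeries k) ^ m) • f) =
      ((PowerSeries.X : PowerSeries k) ^ (2 * m)) • (f * f) := by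
    rw [smul_mul_assoc, mul_smul_comm, smul_smul, ← pow_add, two_mul]
  refine ⟨fun h => hsq ▸ h _ hf _ hf, fun h x hx y hy => ?_⟩
  have hVmul : ∀ z ∈ V, ∀ w, z * w ∈ V := by
    intro z hz w
    rw [hV, Submodule.ideal_span_singleton_smul] at hz ⊢
    obtain ⟨z', -, rfl⟩ := Submodule.mem_smul_pointwise_iff_exists _ _ _ |>.1 hz
    rw [smul_mul_assoc]
    exact Submodule.smul_mem_pointwise_smul _ _ _ trivial
  obtain ⟨u, hu, v, hv, rfl⟩ := Submodule.mem_sup.1 hx
  obtain ⟨u', hu', v', hv', rfl⟩ := Submodule.mem_sup.1 hy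
  rw [add_mul, mul_add]
  refine add_mem (add_mem ?_ (Submodule.mem_sup_right (mul_comm v' u ▸ hVmul v' hv' u))) (Submodule.mem_sup_right (hVmul v hv _))
  have hUU : U * U ≤ U ⊔ V := by
    rw [hU, Submodule.span_mul_span, Submodule.span_le]
    rintro _ ⟨x, hx, y, hy, rfl⟩
    simp only [Set.mem_insert_iff, Set.mem_singleton_iff] at hx hy
    rcases hx with rfl | rfl <;> rcases hy with rfl | rfl <;> simp only [one_mul, mul_one, SetLike.mem_coe]
    · exact Submodule.mem_sup_left (Submodule.subset_span (by simp))
    · exact hf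
    · exact hf
    · rw [hsq]; exact h
  exact hUU (Submodule.mul_mem_mul hu hu')

end Groth.Agent.S13879
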