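import Groth.Statements.S13880
import Mathlib
-- import your own Groth.Agent.* helpers here

set_option autoImplicit false
universe u
open Crimp

namespace Groth.Agent.S13880

open PowerSeries in
theorem mem_char {k : Type u} [Field k] (n : ℕ) (x : Fin 2 → k⟦X⟧) :
    x ∈ Submodule.span k⟦X⟧ {(1 : (Fin 2 → k⟦X⟧))} ⊔ Ideal.span {(X : k⟦X⟧) ^ n} • (⊤ : Submodule k⟦X⟧ (Fin 2 → k⟦X⟧))
      ↔ (X : k⟦X⟧) ^ n ∣ x 0 - x 1 := by
  constructor
  · intro h
    obtain ⟨y, hy, z, hz, rfl⟩ := Submodule.mem_sup.mp h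
    obtain ⟨c, rfl⟩ := Submodule.mem_span_singleton.mp hy
    have hz' : ∀ i, (X : k⟦X⟧) ^ n ∣ z i := by
      intro i
      refine Submodule.smul_induction_on hz (fun r hr m _ => ?_) (fun a b ha hb => ?_)
      · exact (Ideal.mem_span_singleton.mp hr).mul_right (m i)
      · exact dvd_add ha hb
    simp only [Pi.add_apply, Pi.smul_apply, Pi.one_apply, add_sub_add_left_eq_sub]
    exact dvd_sub (hz' 0) (hz' 1)
  · rintro ⟨c, hc⟩
    refine Submodule.mem_sup.mpr ⟨x 1 • 1, Submodule.smul_mem _ _ (Submodule.mem_span_singleton_self _),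
      (X : k⟦X⟧) ^ n • ![c, 0], Submodule.smul_mem_smul (Ideal.mem_span_singleton_self _) trivial, ?_⟩
    funext i
    fin_cases i
    · show x 1 * 1 + X ^ n * c = x 0
      linear_combination -hc
    · show x 1 * 1 + X ^ n * 0 = x 1
      ring

open PowerSeries in
theorem core {k : Type u} [Field k] [CharZero k] (n : ℕ) (S : Subalgebra k⟦X⟧ (Fin 2 → k⟦X⟧))
    (hS : ∀ x, x ∈ S ↔ (X : k⟦X⟧) ^ n ∣ x 0 - x 1) :
    ∃ bb : Module.Basis (Fin 2) k⟦X⟧ S, Algebra.discr k⟦X⟧ ⇑bb = (X : k⟦X⟧) ^ (2 * n) ∧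
      Nonempty (S ≃ₐ[k⟦X⟧] AdjoinRoot (Polynomial.X ^ 2 - Polynomial.C ((X : k⟦X⟧) ^ (2 * n)))) := by
  set t := (X : k⟦X⟧) ^ n with ht
  have ht0 : t ≠ 0 := pow_ne_zero _ X_ne_zero
  let e : S := ⟨![t, 0], (hS _).mpr (by simp)⟩
  let v : Fin 2 → S := ![1, e]
  have hli : LinearIndependent k⟦X⟧ v := by
    rw [Fintype.linearIndependent_iff]
    intro g hg
    have h0 := congrFun (congrArg Subtype.val hg) 0
    have h1 := congrFun (congrArg Subtype.val hg) 1
    simp [Fin.sum_univ_two, v, e] at h0 h1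
    intro i
    fin_cases i
    · exact h1
    · simpa [h1, ht0] using h0
  have hsp : ⊤ ≤ Submodule.span k⟦X⟧ (Set.range v) := by
    rintro ⟨x, hx⟩ -
    obtain ⟨c, hc⟩ := (hS x).mp hx
    rw [Submodule.mem_span_range_iff_exists_fun]
    refine ⟨![x 1, c], Subtype.ext (funext fun i => ?_)⟩
    fin_cases i
    · simp [Fin.sum_univ_two, v, e]; linear_combination -hc
    · simp [Fin.sum_univ_two, v, e]
  let bb := Module.Basis.mk hli hsp
  have hbb : ∀ i, bb i = v i := fun i => Module.Basis.mk_apply hli hsp i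
  have hee : e * e = t • e := Subtype.ext (funext fun i => by fin_cases i <;> simp [e])
  have htr1 : Algebra.trace k⟦X⟧ S 1 = 2 := by
    rw [← map_one (algebraMap k⟦X⟧ S), Algebra.trace_algebraMap_of_basis bb]
    simp
  have hb1 : bb.repr 1 = Finsupp.single 0 1 := by
    rw [← bb.repr_self 0, hbb]; rfl
  have hbe : bb.repr e = Finsupp.single 1 1 := by
    rw [← bb.repr_self 1, hbb]; rfl
  have htre : Algebra.trace k⟦X⟧ S e = t := by
    rw [Algebra.trace_eq_matrix_trace bb, Matrix.trace, Fin.sum_univ_two]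
    simp [Algebra.leftMulMatrix_eq_repr_mul, hbb, v, hee, hbe]
  refine ⟨bb, ?_, ?_⟩
  · rw [Algebra.discr_def, Matrix.det_fin_two]
    simp [Algebra.traceMatrix_apply, Algebra.traceForm_apply, hbb, v, hee, htr1, htre]
    rw [ht]; ring
  · obtain ⟨h2, hh2⟩ : ∃ h2 : k⟦X⟧, 2 * h2 = 1 := ⟨C (2⁻¹ : k), by
      rw [← map_ofNat (C (R := k)) 2, ← map_mul, mul_inv_cancel₀ two_ne_zero, map_one]⟩
    set f : Polynomial k⟦X⟧ := Polynomial.X ^ 2 - Polynomial.C ((X : k⟦X⟧) ^ (2 * n)) with hf
    let y : S := (2 : k⟦X⟧) • e - t • 1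
    have hfy : Polynomial.eval₂ (algebraMap k⟦X⟧ S) y f = 0 := by
      rw [hf, Polynomial.eval₂_sub, Polynomial.eval₂_X_pow, Polynomial.eval₂_C, Algebra.algebraMap_eq_smul_one]
      refine Subtype.ext (funext fun i => ?_)
      fin_cases i <;> simp [y, e, ht, Matrix.vecHead, Matrix.vecTail] <;> ring
    let φ : AdjoinRoot f →ₐ[k⟦X⟧] S := AdjoinRoot.liftAlgHom f (Algebra.ofId _ _) y hfy
    have hroot : φ (AdjoinRoot.root f) = y := AdjoinRoot.liftAlgHom_root _ _ _ _
    have hfm : f.Monic := Polynomial.monic_X_pow_sub_C _ two_ne_zero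
    have hsurj : Function.Surjective φ := by
      have he : φ (h2 • (AdjoinRoot.root f + t • 1)) = e := by
        rw [map_smul, map_add, map_smul, map_one, hroot]
        show h2 • ((2 : k⟦X⟧) • e - t • 1 + t • 1) = e
        rw [sub_add_cancel, smul_smul, mul_comm, hh2, one_smul]
      rintro ⟨x, hx⟩
      have hx' := hsp (x := ⟨x, hx⟩) trivial
      obtain ⟨c, hc⟩ := Submodule.mem_span_range_iff_exists_fun _ |>.mp hx'
      refine ⟨c 0 • 1 + c 1 • (h2 • (AdjoinRoot.root f + t • 1)), ?_⟩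
      rw [map_add, map_smul, map_smul, map_one, he, ← hc, Fin.sum_univ_two]
      rfl
    let bA := (AdjoinRoot.powerBasis' hfm).basis
    have hdim : (AdjoinRoot.powerBasis' hfm).dim = 2 := by
      rw [AdjoinRoot.powerBasis'_dim, hf, Polynomial.natDegree_X_pow_sub_C]
    let el : AdjoinRoot f ≃ₗ[k⟦X⟧] S := (bA.reindex (finCongr hdim)).equiv bb (Equiv.refl _)
    haveI : Module.Finite k⟦X⟧ S := Module.Finite.of_basis bb
    have hbij : Function.Bijective φ := by
      have h := OrzechProperty.bijective_of_surjective_endomorphism (φ.toLinearMap ∘ₗ el.symm.toLinearMap)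
        (hsurj.comp el.symm.surjective)
      have : (φ : AdjoinRoot f → S) = (φ.toLinearMap ∘ₗ el.symm.toLinearMap) ∘ el := by
        funext a; simp
      rw [this]
      exact h.comp el.bijective
    exact ⟨(AlgEquiv.ofBijective φ hbij).symm⟩

open PowerSeries in
theorem discr_span {k : Type u} [Field k] {S : Type u} [CommRing S] [Algebra k⟦X⟧ S]
    (b b' : Module.Basis (Fin 2) k⟦X⟧ S) :
    Ideal.span {Algebra.discr k⟦X⟧ ⇑b} = Ideal.span {Algebra.discr k⟦X⟧ ⇑b'} := by
  have h1 : Algebra.discr k⟦X⟧ ⇑b' = (b.toMatrix b').det ^ 2 * Algebra.discr k⟦X⟧ ⇑b := by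
    rw [← Algebra.discr_of_matrix_vecMul, b.toMatrix_map_vecMul]
  haveI := b.invertibleToMatrix b'
  rw [h1, Ideal.span_singleton_mul_left_unit ((Matrix.isUnit_det_of_invertible (b.toMatrix b')).pow 2)]

/-- Over R = k⟦t⟧ with k an algebraically closed field of characteristic zero, let S' = R × R, the
trivial double cover of the formal disk (branch divisor (t ^ 0)). An R-subalgebra S of S' admits an
R-basis of size 2 whose discriminant generates (t ^ b), that is, S is a crimp with branch divisor (t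
^ b), if and only if b = 2n for some n and S = R·1 + t ^ n S'. So there is exactly one such crimp
when b is even and none when b is odd; moreover the subalgebra R·1 + t ^ n S' is isomorphic as an
R-algebra to R[y] / (y ^ 2 - t ^ (2n)) (existence of an isomorphism; y ↦ (t ^ n, -t ^ n)). (The
published statement also gives the space of crimps its reduced one-point scheme structure; this row
classifies its k-points.) -/
theorem result {k : Type u} [Field k] [IsAlgClosed k] [CharZero k] (b : ℕ) (S : Subalgebra (PowerSeries k) (Fin 2 → PowerSeries k)) :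
    ((∃ bS : Module.Basis (Fin 2) (PowerSeries k) S,
      Ideal.span {Algebra.discr (PowerSeries k) ⇑bS} = Ideal.span {(PowerSeries.X : PowerSeries k) ^ b}) ↔
    ∃ n : ℕ, b = 2 * n ∧
      Subalgebra.toSubmodule S = Submodule.span (PowerSeries k) {(1 : (Fin 2 → PowerSeries k))} ⊔
        Ideal.span {(PowerSeries.X : PowerSeries k) ^ n} • (⊤ : Submodule (PowerSeries k) (Fin 2 → PowerSeries k))) ∧
    (∀ n : ℕ, Subalgebra.toSubmodule S = Submodule.span (PowerSeries k) {(1 : (Fin 2 → PowerSeries k))} ⊔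
        Ideal.span {(PowerSeries.X : PowerSeries k) ^ n} • (⊤ : Submodule (PowerSeries k) (Fin 2 → PowerSeries k)) →
      Nonempty (S ≃ₐ[PowerSeries k] AdjoinRoot (Polynomial.X ^ 2 - Polynomial.C ((PowerSeries.X : PowerSeries k) ^ (2 * n))))) := by
  have hiff : ∀ n : ℕ, Subalgebra.toSubmodule S = Submodule.span (PowerSeries k) {(1 : (Fin 2 → PowerSeries k))} ⊔
        Ideal.span {(PowerSeries.X : PowerSeries k) ^ n} • (⊤ : Submodule (PowerSeries k) (Fin 2 → PowerSeries k)) ↔
      ∀ x, x ∈ S ↔ (PowerSeries.X : PowerSeries k) ^ n ∣ x 0 - x 1 := by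
    intro n
    rw [SetLike.ext_iff]
    simp only [Subalgebra.mem_toSubmodule, mem_char]
  refine ⟨⟨?_, ?_⟩, fun n hn => (core n S ((hiff n).mp hn)).choose_spec.2⟩
  · rintro ⟨bS, hbS⟩
    set L : (Fin 2 → PowerSeries k) →ₗ[PowerSeries k] PowerSeries k :=
      LinearMap.proj (R := PowerSeries k) (φ := fun _ : Fin 2 => PowerSeries k) 0 - LinearMap.proj 1 with hL
    set I : Ideal (PowerSeries k) := (Subalgebra.toSubmodule S).map L with hI
    have hne : I ≠ ⊥ := by
      intro h0
      have hker : ∀ i, (bS i).1 0 = (bS i).1 1 := fun i => by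
        have : L (bS i).1 ∈ I := Submodule.mem_map_of_mem (bS i).2
        rw [h0, Submodule.mem_bot] at this
        exact sub_eq_zero.mp this
      have hdep : (bS 1).1 0 • bS 0 + (-(bS 0).1 0) • bS 1 = 0 := Subtype.ext (funext fun i => by
        fin_cases i <;> simp [← hker] <;> ring)
      have h2 := Fintype.linearIndependent_iff.mp bS.linearIndependent ![(bS 1).1 0, -(bS 0).1 0]
        (by simpa [Fin.sum_univ_two] using hdep) 1
      simp at h2
      exact bS.ne_zero 0 (Subtype.ext (funext fun i => by fin_cases i <;> simp [← hker, h2]))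
    obtain ⟨n, hn⟩ := IsDiscreteValuationRing.ideal_eq_span_pow_irreducible hne PowerSeries.X_irreducible
    have hmem : ∀ x, x ∈ S ↔ (PowerSeries.X : PowerSeries k) ^ n ∣ x 0 - x 1 := by
      intro x
      rw [← Ideal.mem_span_singleton, ← hn]
      constructor
      · intro hx; exact ⟨x, hx, rfl⟩
      · rintro ⟨y, hy, hxy⟩
        have hxy' : y 0 - y 1 = x 0 - x 1 := hxy
        have : x = y + algebraMap (PowerSeries k) _ (x 1 - y 1) := funext fun i => by
          fin_cases i <;> simp <;> linear_combination -hxy'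
        rw [this]
        exact S.add_mem hy (S.algebraMap_mem _)
    refine ⟨n, ?_, (hiff n).mpr hmem⟩
    obtain ⟨bb, hbb, -⟩ := core n S hmem
    rw [discr_span bS bb, hbb, Ideal.span_singleton_eq_span_singleton] at hbS
    have h1 := PowerSeries.order_X_pow (R := k) b
    obtain ⟨u, hu⟩ := hbS
    have h3 := congrArg PowerSeries.order hu
    rw [PowerSeries.order_mul, PowerSeries.order_zero_of_unit u.isUnit, add_zero, h1, PowerSeries.order_X_pow] at h3
    exact_mod_cast h3.symm
  · rintro ⟨n, rfl, hn⟩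
    obtain ⟨bb, hbb, -⟩ := core n S ((hiff n).mp hn)
    exact ⟨bb, by rw [hbb]⟩

end Groth.Agent.S13880
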