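import Groth.Statements.S13886
import Mathlib
-- import your own Groth.Agent.* helpers here

set_option autoImplicit false
universe u
open Crimp

namespace Groth.Agent.S13886

open scoped Pointwise

/-- Over R = k⟦t⟧ with k an algebraically closed field of characteristic zero, let S' = R × R × R be the
unramified triple cover of the formal disk and let m ≤ n ≤ 2m be natural numbers. For every f in S'
not lying in R·1 + t S', the R-submodule S = R·1 + R·(t ^ m f) + t ^ n S' is closed under
multiplication, hence an R-subalgebra (a crimp), and S' / S is isomorphic to R / (t ^ m) ⊕ R / (t ^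
n) (so the crimp has μ-invariant n - m and branch divisor (t ^ (2(m+n)))). Together with the
structure result for submodules with this quotient, this identifies the k-points of the space of
crimps of splitting type (m, n), 2m ≥ n, with the submodules of this shape. (The published statement
moreover asserts that this stratum is an irreducible variety of dimension n - m; that part is not
restated.) -/
theorem result {k : Type u} [Field k] [IsAlgClosed k] [CharZero k]
    (m n : ℕ) (hmn : m ≤ n) (hn : n ≤ 2 * m)
    (f : (Fin 3 → PowerSeries k)) (hf : f ∉ Submodule.span (PowerSeries k) {(1 : (Fin 3 → PowerSeries k))} ⊔ Ideal.span {(PowerSeries.X : PowerSeries k)} • (⊤ : Submodule (PowerSeries k) (Fin 3 → PowerSeries k)))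
    (S : Submodule (PowerSeries k) (Fin 3 → PowerSeries k))
    (hS : S = Submodule.span (PowerSeries k) {(1 : (Fin 3 → PowerSeries k)), ((PowerSeries.X : PowerSeries k) ^ m) • f} ⊔
        Ideal.span {(PowerSeries.X : PowerSeries k) ^ n} • (⊤ : Submodule (PowerSeries k) (Fin 3 → PowerSeries k))) :
    (∀ x ∈ S, ∀ y ∈ S, x * y ∈ S) ∧
    Nonempty (((Fin 3 → PowerSeries k) ⧸ S) ≃ₗ[PowerSeries k]
      ((PowerSeries k ⧸ Ideal.span {(PowerSeries.X : PowerSeries k) ^ m}) × (PowerSeries k ⧸ Ideal.span {(PowerSeries.X : PowerSeries k) ^ n}))) := by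
  classical
  let R := PowerSeries k
  set t : PowerSeries k := PowerSeries.X with ht
  have htop : ∀ (c : ℕ) (x : Fin 3 → PowerSeries k), x ∈ Ideal.span {t ^ c} • (⊤ : Submodule (PowerSeries k) (Fin 3 → PowerSeries k)) ↔
      ∀ i, t ^ c ∣ x i := by
    intro c x
    rw [Submodule.ideal_span_singleton_smul, ← Submodule.mem_toAddSubgroup, Submodule.mem_toAddSubgroup,
      Submodule.mem_smul_pointwise_iff_exists]
    constructor
    · rintro ⟨y, -, rfl⟩ i; exact ⟨y i, rfl⟩
    · intro h; choose y hy using h; exact ⟨y, trivial, funext fun i => (hy i).symm⟩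
  have hsubS : ∀ x, x ∈ S ↔ ∃ (u v : PowerSeries k) (w : Fin 3 → PowerSeries k), (∀ i, t ^ n ∣ w i) ∧ x = u • 1 + v • (t ^ m • f) + w := by
    intro x
    rw [hS, Submodule.mem_sup]
    constructor
    · rintro ⟨y, hy, w, hw, rfl⟩
      obtain ⟨u, v, rfl⟩ := Submodule.mem_span_pair.mp hy
      exact ⟨u, v, w, (htop n w).mp hw, rfl⟩
    · rintro ⟨u, v, w, hw, rfl⟩
      exact ⟨_, Submodule.mem_span_pair.mpr ⟨u, v, rfl⟩, w, (htop n w).mpr hw, rfl⟩
  constructor
  · intro x hx y hy
    obtain ⟨u, v, w, hw, rfl⟩ := (hsubS x).mp hx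
    obtain ⟨u', v', w', hw', rfl⟩ := (hsubS y).mp hy
    refine (hsubS _).mpr ⟨u * u', u * v' + u' * v, (v * v') • (t ^ (2 * m) • (f * f)) +
      (u • 1 + v • (t ^ m • f)) * w' + w * (u' • 1 + v' • (t ^ m • f) + w'), fun i => ?_, ?_⟩
    · simp only [Pi.add_apply, Pi.mul_apply, Pi.smul_apply, smul_eq_mul]
      exact dvd_add (dvd_add ((Dvd.dvd.mul_right (pow_dvd_pow t hn) _).mul_left _) ((hw' i).mul_left _)) ((hw i).mul_right _)
    · funext i
      simp only [Pi.add_apply, Pi.mul_apply, Pi.smul_apply, Pi.one_apply, smul_eq_mul]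
      ring
  · have hne : ∃ a b : Fin 3, PowerSeries.constantCoeff (f a) ≠ PowerSeries.constantCoeff (f b) := by
      by_contra hcon
      push Not at hcon
      apply hf
      rw [Submodule.mem_sup]
      refine ⟨PowerSeries.C (PowerSeries.constantCoeff (f 0)) • 1, Submodule.smul_mem _ _ (Submodule.mem_span_singleton_self _),
        f - PowerSeries.C (PowerSeries.constantCoeff (f 0)) • 1, ?_, by abel⟩
      have h1 := (htop 1 (f - PowerSeries.C (PowerSeries.constantCoeff (f 0)) • 1)).mpr (fun i => by
        rw [pow_one, PowerSeries.X_dvd_iff]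
        simp [hcon i 0])
      rwa [pow_one] at h1
    obtain ⟨a, b, hab⟩ := hne
    have hab' : a ≠ b := fun h => hab (by rw [h])
    obtain ⟨c, hca, hcb⟩ : ∃ c : Fin 3, c ≠ a ∧ c ≠ b := by
      exact (show ∀ a b : Fin 3, ∃ c, c ≠ a ∧ c ≠ b by decide) a b
    have hall : ∀ i : Fin 3, i = a ∨ i = b ∨ i = c := by
      exact (show ∀ a b c : Fin 3, a ≠ b → c ≠ a → c ≠ b → ∀ i, i = a ∨ i = b ∨ i = c by decide) a b c hab' hca hcb
    have hd : IsUnit (f a - f b) := by
      rw [PowerSeries.isUnit_iff_constantCoeff, map_sub, isUnit_iff_ne_zero]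
      exact sub_ne_zero.mpr hab
    obtain ⟨e, he⟩ := hd.exists_left_inv
    let B : (Fin 3 → PowerSeries k) →ₗ[PowerSeries k] PowerSeries k := e • (LinearMap.proj (R := PowerSeries k) (φ := fun _ : Fin 3 => PowerSeries k) a - LinearMap.proj b)
    let G : (Fin 3 → PowerSeries k) →ₗ[PowerSeries k] PowerSeries k :=
      LinearMap.proj (R := PowerSeries k) (φ := fun _ : Fin 3 => PowerSeries k) c - LinearMap.proj b - (f c - f b) • B
    have hB : ∀ x, B x = e * (x a - x b) := fun x => rfl
    have hG : ∀ x, G x = x c - x b - (f c - f b) * (e * (x a - x b)) := fun x => rfl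
    let Φ : (Fin 3 → PowerSeries k) →ₗ[PowerSeries k]
        ((PowerSeries k ⧸ Ideal.span {t ^ m}) × (PowerSeries k ⧸ Ideal.span {t ^ n})) :=
      LinearMap.prod ((Submodule.mkQ (Ideal.span {t ^ m})).comp B) ((Submodule.mkQ (Ideal.span {t ^ n})).comp G)
    have hker : LinearMap.ker Φ = S := by
      ext x
      simp only [Φ, LinearMap.ker_prod, Submodule.mem_inf, LinearMap.mem_ker, LinearMap.comp_apply,
        Submodule.mkQ_apply, Submodule.Quotient.mk_eq_zero, Ideal.mem_span_singleton, hB, hG]
      rw [hsubS]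
      constructor
      · rintro ⟨⟨v, hv⟩, hg⟩
        refine ⟨x b - e * (x a - x b) * f b, v, Pi.single c (x c - x b - (f c - f b) * (e * (x a - x b))), fun i => ?_, ?_⟩
        · by_cases hi : i = c
          · subst hi; rw [Pi.single_eq_same]; exact hg
          · rw [Pi.single_eq_of_ne hi]; exact dvd_zero _
        · funext i
          simp only [Pi.add_apply, Pi.smul_apply, Pi.one_apply, smul_eq_mul]
          rw [show v * (t ^ m * f i) = e * (x a - x b) * f i by rw [hv]; ring]
          rcases hall i with rfl | rfl | rfl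
          · rw [Pi.single_eq_of_ne hca.symm]; linear_combination -(x i - x b) * he
          · rw [Pi.single_eq_of_ne hcb.symm]; ring
          · rw [Pi.single_eq_same]; ring
      · rintro ⟨u, v, w, hw, rfl⟩
        simp only [Pi.add_apply, Pi.smul_apply, Pi.one_apply, smul_eq_mul]
        constructor
        · rw [show e * (u * 1 + v * (t ^ m * f a) + w a - (u * 1 + v * (t ^ m * f b) + w b)) =
            t ^ m * (v * (e * (f a - f b))) + e * (w a - w b) by ring]
          exact dvd_add (dvd_mul_right _ _) (((pow_dvd_pow t hmn).trans (dvd_sub (hw a) (hw b))).mul_left e)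
        · rw [show u * 1 + v * (t ^ m * f c) + w c - (u * 1 + v * (t ^ m * f b) + w b) -
              (f c - f b) * (e * (u * 1 + v * (t ^ m * f a) + w a - (u * 1 + v * (t ^ m * f b) + w b))) =
            (w c - w b) - (f c - f b) * e * (w a - w b) by linear_combination -(v * t ^ m * (f c - f b)) * he]
          exact dvd_sub (dvd_sub (hw c) (hw b)) ((dvd_sub (hw a) (hw b)).mul_left _)
    have hsurj : Function.Surjective Φ := by
      rintro ⟨p, q⟩
      obtain ⟨β, rfl⟩ := Submodule.mkQ_surjective _ p
      obtain ⟨γ, rfl⟩ := Submodule.mkQ_surjective _ q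
      refine ⟨β • f + Pi.single c γ, Prod.ext ?_ ?_⟩
      · show Submodule.mkQ _ (B _) = _
        congr 1
        rw [hB]
        simp only [Pi.add_apply, Pi.smul_apply, smul_eq_mul, Pi.single_eq_of_ne hca.symm, Pi.single_eq_of_ne hcb.symm]
        linear_combination β * he
      · show Submodule.mkQ _ (G _) = _
        congr 1
        rw [hG]
        simp only [Pi.add_apply, Pi.smul_apply, smul_eq_mul, Pi.single_eq_same, Pi.single_eq_of_ne hca.symm, Pi.single_eq_of_ne hcb.symm]
        linear_combination -(β * (f c - f b)) * he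
    exact ⟨(Submodule.quotEquivOfEq _ _ hker.symm).trans (Φ.quotKerEquivOfSurjective hsurj)⟩

end Groth.Agent.S13886
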