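import Groth.Statements.S13888


set_option autoImplicit false
universe u
open CategoryTheory CategoryTheory.Limits MonoidalCategory
attribute [local instance] HasDerivedCategory.standard
open DTen

namespace Groth.Agent.S13888

variable {A : Type u} [CommRing A] [DTen.HasLTen A] [DTen.HasLTen₃ A] [DTen.IsSymMonoidal A]

lemma associator_naturality_left {a a' : Dual.D A} (f : a ⟶ a') (b c : Dual.D A) :
    (DTen.LTen₂ A).map (Prod.mkHom ((DTen.LTen₂ A).map (Prod.mkHom f (𝟙 b))) (𝟙 c)) ≫ (DTen.associator a' b c).hom =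
      (DTen.associator a b c).hom ≫ (DTen.LTen₂ A).map (Prod.mkHom f (𝟙 ((DTen.LTen₂ A).obj (b, c)))) := by
  let g : ((a, (b, c)) : Dual.D A × (Dual.D A × Dual.D A)) ⟶ (a', (b, c)) := Prod.mkHom f (𝟙 (b, c))
  have h1 := (DTen.assocL A).naturality g
  have h2 := (DTen.assocR A).naturality g
  have e : (DTen.LTen₂ A).map (Prod.mkHom (𝟙 b) (𝟙 c)) = 𝟙 ((DTen.LTen₂ A).obj (b, c)) := CategoryTheory.Functor.map_id _ _
  dsimp [g] at h1 h2
  rw [e] at h2
  refine (cancel_mono ((DTen.assocR A).app (a', (b, c)))).1 ?_
  refine (Category.assoc _ _ _).trans (((congrArg (fun t => _ ≫ t) (DTen.associator_hom_assocR a' b c)).trans ?_).trans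
    (Category.assoc _ _ _).symm)
  refine h1.trans ?_
  rw [h2, DTen.associator_hom_assocR_assoc]
  rfl

/-- For a commutative ring `A` (assuming the derived tensor product on `D(A)` with its triple version
exists, that its symmetry, unit and associativity maps are isomorphisms, and that every `- ⊗^L L`
has a right adjoint `RHom(L, -)`) and objects `K`, `L`, `M` of `D(A)`, the canonical morphism
`RHom(K ⊗^L L, M) ⟶ RHom(K, RHom(L, M))`, namely the double adjunct of the associativity isomorphism
followed by evaluation at `K ⊗^L L`, is an isomorphism. (Functoriality in the three objects is built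
into the construction; the identification on `H^0` with the hom bijection of the adjunction is not
part of this row.) -/
theorem result (A : Type u) [CommRing A] [DTen.HasLTen A] [DTen.HasLTen₃ A]
    [DTen.IsSymMonoidal A] [DTen.HasRHom A] (K L M : Dual.D A) :
    IsIso (DTen.curryHom K L M) := by
  refine isIso_of_yoneda_map_bijective _ fun X => ?_
  let e₁ := (DTen.rhomAdj A ((DTen.LTen₂ A).obj (K, L))).homEquiv X M
  let e₂ := (DTen.rhomAdj A K).homEquiv X ((DTen.RHomR A L).obj M)
  let e₃ := (DTen.rhomAdj A L).homEquiv ((DTen.LTen₂ A).obj (X, K)) M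
  let e₄ : ((DTen.LTen₂ A).obj (X, (DTen.LTen₂ A).obj (K, L)) ⟶ M) ≃
      ((DTen.LTen₂ A).obj ((DTen.LTen₂ A).obj (X, K), L) ⟶ M) := (DTen.associator X K L).symm.homFromEquiv
  suffices h : (fun f : X ⟶ (DTen.RHomR A ((DTen.LTen₂ A).obj (K, L))).obj M => f ≫ DTen.curryHom K L M) =
      fun f => e₂ (e₃ (e₄ (e₁.symm f))) by
    exact h.symm ▸ (((e₁.symm.trans e₄).trans e₃).trans e₂).bijective
  funext f
  refine e₂.symm_apply_eq.1 ?_
  refine ((DTen.rhomAdj A K).homEquiv_naturality_left_symm f _).trans ?_
  erw [Equiv.symm_apply_apply, ← (DTen.rhomAdj A L).homEquiv_naturality_left]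
  refine congrArg e₃ ?_
  refine ((Category.assoc _ _ _).symm.trans (congrArg (fun t => t ≫ DTen.ev _ M)
    (associator_naturality_left f K L))).trans ?_
  refine (Category.assoc _ _ _).trans ?_
  exact congrArg (fun t => (DTen.associator X K L).hom ≫ t) ((DTen.rhomAdj A _).homEquiv_counit _ _ f).symm

end Groth.Agent.S13888
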