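import Groth.Statements.S13903
import Mathlib

set_option autoImplicit false
universe u
open EtAlg

namespace Groth.Agent.S13903

/-- Let K be a field and L a finite-dimensional reduced commutative K-algebra of dimension d all of
whose elements are separable over K, generated as a K-algebra by z and t. In any finite set of at
least d^(4d) elements of K there is an element c such that c • z + t generates L as a K-algebra.
(The published statement does not require separability; for K of characteristic p and L obtained by
adjoining p-th roots of two independent indeterminates, L is a reduced finite K-algebra generated by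
two elements with no single generator, so separability over K is assumed here, as the counting in
the published proof requires.) -/
theorem result (K L : Type u) [Field K] [CommRing L]
    [Algebra K L] [Module.Finite K L] [IsReduced L] [Algebra.IsSeparable K L] (z t : L)
    (hgen : Algebra.adjoin K ({z, t} : Set L) = ⊤) (S : Finset K)
    (hS : Module.finrank K L ^ (4 * Module.finrank K L) ≤ S.card) :
    ∃ c ∈ S, Algebra.adjoin K ({c • z + t} : Set L) = ⊤ := by
  classical
  let Ω := AlgebraicClosure K
  haveI : IsArtinianRing L := IsArtinianRing.of_finite K L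
  haveI := Fintype.ofFinite (MaximalSpectrum L)
  let n := Module.finrank K L
  have hge : n ≤ Nat.card (L →ₐ[K] Ω) := by
    let Φ : (Σ m : MaximalSpectrum L, (L ⧸ m.asIdeal) →ₐ[K] Ω) → (L →ₐ[K] Ω) :=
      fun x => x.2.comp (Ideal.Quotient.mkₐ K x.1.asIdeal)
    have hΦ : Function.Injective Φ := by
      rintro ⟨m, f⟩ ⟨m', f'⟩ h
      letI := Ideal.Quotient.field m.asIdeal
      letI := Ideal.Quotient.field m'.asIdeal
      have hk : ∀ (M : MaximalSpectrum L) (F : (L ⧸ M.asIdeal) →ₐ[K] Ω) (x : L), F (Ideal.Quotient.mk _ x) = 0 ↔ x ∈ M.asIdeal := by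
        intro M F x
        letI := Ideal.Quotient.field M.asIdeal
        rw [← Ideal.Quotient.eq_zero_iff_mem]
        exact map_eq_zero_iff _ (F : (L ⧸ M.asIdeal) →+* Ω).injective
      have hm : m = m' := MaximalSpectrum.ext (Ideal.ext fun x => by
        rw [← hk m f, ← hk m' f']
        exact Eq.congr_left (DFunLike.congr_fun h x))
      subst hm
      congr 1
      refine AlgHom.ext fun y => ?_
      obtain ⟨x, rfl⟩ := Ideal.Quotient.mk_surjective y
      exact DFunLike.congr_fun h x
    have hq : ∀ m : MaximalSpectrum L, Nat.card ((L ⧸ m.asIdeal) →ₐ[K] Ω) = Module.finrank K (L ⧸ m.asIdeal) := by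
      intro m
      letI := Ideal.Quotient.field m.asIdeal
      haveI : Algebra.IsSeparable K (L ⧸ m.asIdeal) := ⟨fun y => by
        obtain ⟨x, rfl⟩ := Ideal.Quotient.mk_surjective y
        refine (Algebra.IsSeparable.isSeparable K x).of_dvd (minpoly.dvd K _ ?_)
        rw [← Ideal.Quotient.mkₐ_eq_mk K, Polynomial.aeval_algHom_apply, minpoly.aeval, map_zero]⟩
      rw [Nat.card_eq_fintype_card]
      exact AlgHom.card_of_splits K (L ⧸ m.asIdeal) Ω fun x => IsAlgClosed.splits _
    refine le_trans (le_of_eq ?_) (Nat.card_le_card_of_injective Φ hΦ)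
    rw [Nat.card_sigma]
    simp only [hq]
    rw [← Module.finrank_pi_fintype]
    exact ((IsArtinianRing.equivPi L).toLinearEquiv.restrictScalars K).finrank_eq
  letI := Fintype.ofFinite (L →ₐ[K] Ω)
  have hcard : Fintype.card (L →ₐ[K] Ω) = n := by
    rw [← Nat.card_eq_fintype_card]
    exact le_antisymm (card_algHom_le_finrank K L Ω) hge
  let cr : (L →ₐ[K] Ω) × (L →ₐ[K] Ω) → Ω := fun q => (q.2 t - q.1 t) / (q.1 z - q.2 z)
  let bad : Finset Ω := (Finset.univ.offDiag).image cr
  have hbad : bad.card < S.card := by
    refine lt_of_le_of_lt Finset.card_image_le (lt_of_lt_of_le ?_ hS)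
    rw [Finset.offDiag_card, Finset.card_univ, hcard]
    rcases Nat.eq_zero_or_pos n with h | h
    · simp [h, show Module.finrank K L = 0 from h]
    · calc n * n - n < n * n := Nat.sub_lt (by positivity) h
        _ = n ^ 2 := (pow_two n).symm
        _ ≤ _ := Nat.pow_le_pow_right h (show 2 ≤ 4 * n by omega)
  obtain ⟨c, hc, hcb⟩ : ∃ c ∈ S, algebraMap K Ω c ∉ bad := by
    by_contra! hh
    have hsub : S.image (algebraMap K Ω) ⊆ bad := Finset.image_subset_iff.2 hh
    have := Finset.card_le_card hsub
    rw [Finset.card_image_of_injective _ (algebraMap K Ω).injective] at this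
    omega
  refine ⟨c, hc, ?_⟩
  let E := Algebra.adjoin K ({c • z + t} : Set L)
  have hinj : Function.Injective (fun f : L →ₐ[K] Ω => f.comp E.val) := by
    intro f g h
    have hw := DFunLike.congr_fun h ⟨c • z + t, Algebra.subset_adjoin rfl⟩
    simp only [AlgHom.comp_apply, Subalgebra.coe_val, map_add, map_smul] at hw
    simp only [Algebra.smul_def, map_mul, AlgHom.commutes] at hw
    have hz : f z = g z := by
      by_contra hne
      refine hcb (Finset.mem_image.2 ⟨(f, g), by simp [Finset.mem_offDiag]; exact fun e => hne (by rw [e]), ?_⟩)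
      show (g t - f t) / (f z - g z) = _
      rw [div_eq_iff (sub_ne_zero.2 hne)]
      linear_combination -hw
    have ht : f t = g t := by rw [hz] at hw; exact add_left_cancel hw
    refine AlgHom.ext_of_adjoin_eq_top hgen ?_
    rintro x (rfl | rfl) <;> assumption
  apply Subalgebra.toSubmodule_injective
  rw [Algebra.top_toSubmodule]
  apply Submodule.eq_top_of_finrank_eq
  refine le_antisymm (Submodule.finrank_le _) ?_
  calc n ≤ Nat.card (L →ₐ[K] Ω) := hge
    _ ≤ Nat.card (E →ₐ[K] Ω) := Nat.card_le_card_of_injective _ hinj
    _ ≤ _ := card_algHom_le_finrank K E Ω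

end Groth.Agent.S13903
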