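import Groth.Statements.S13904
import Mathlib
-- import your own Groth.Agent.* helpers here

set_option autoImplicit false
universe u
open CAlg

namespace Groth.Agent.S13904

/-- Let k be a field, A a commutative k-algebra and φ : k[x_1, …, x_r] → A a finite k-algebra map such
that A/p has Krull dimension r for every minimal prime p of A (an equidimensional affine scheme of
dimension r, finite over affine r-space). Then for every minimal prime p of A and every prime q of
k[x_1, …, x_r] there is a prime P ⊇ p of A with φ⁻¹(P) = q: the finite map restricted to each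
irreducible component of Spec A is surjective onto affine r-space. (The published statement is over
an algebraically closed field with φ a Noether normalisation; this row allows any field and any
finite k-algebra map φ.) -/
theorem result (k : Type u) [Field k] (r : ℕ)
    (A : Type u) [CommRing A] [Algebra k A] (φ : MvPolynomial (Fin r) k →ₐ[k] A)
    (hφ : φ.toRingHom.Finite)
    (hdim : ∀ p ∈ minimalPrimes A, ringKrullDim (A ⧸ p) = r)
    (p : Ideal A) (hp : p ∈ minimalPrimes A)
    (q : Ideal (MvPolynomial (Fin r) k)) [q.IsPrime] :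
    ∃ P : Ideal A, P.IsPrime ∧ p ≤ P ∧ P.comap φ.toRingHom = q := by
  haveI := hp.1.1
  let ψ : MvPolynomial (Fin r) k →+* A ⧸ p := (Ideal.Quotient.mk p).comp φ.toRingHom
  have hψ : ψ.IsIntegral := (hφ.to_isIntegral.trans _ _ (RingHom.isIntegral_of_surjective _ Ideal.Quotient.mk_surjective))
  algebraize [ψ]
  have hker : RingHom.ker ψ = ⊥ := by
    by_contra hne
    obtain ⟨e, he, he0⟩ := Submodule.exists_mem_ne_zero_of_ne_bot hne
    let P := MvPolynomial (Fin r) k
    let χ : P ⧸ RingHom.ker ψ →+* A ⧸ p := RingHom.kerLift ψ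
    have hχi : χ.IsIntegral := RingHom.IsIntegral.tower_top (Ideal.Quotient.mk _) χ hψ
    have h1 : ringKrullDim (A ⧸ p) ≤ ringKrullDim (P ⧸ RingHom.ker ψ) := by
      algebraize [χ]
      refine Order.krullDim_le_of_strictMono (PrimeSpectrum.comap χ) fun a b hab => ?_
      exact Ideal.IsIntegral.comap_lt_comap (R := P ⧸ RingHom.ker ψ) hab
    have h2 : ringKrullDim (P ⧸ RingHom.ker ψ) ≤ ringKrullDim (P ⧸ Ideal.span {e}) :=
      ringKrullDim_le_of_surjective (Ideal.Quotient.factor ((Ideal.span_singleton_le_iff_mem _).mpr he)) (Ideal.Quotient.factor_surjective _)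
    have h3 := ringKrullDim_quotient_succ_le_of_nonZeroDivisor (mem_nonZeroDivisors_of_ne_zero he0)
    rw [hdim p hp] at h1
    have hP : ringKrullDim P = r := by
      rw [MvPolynomial.ringKrullDim_of_isNoetherianRing, ringKrullDim_eq_zero_of_field]; simp
    rw [hP] at h3
    have h4 : (r : WithBot ℕ∞) + 1 ≤ r := (add_le_add_left (h1.trans h2) 1).trans h3
    norm_cast at h4
    omega
  obtain ⟨Q, hQp, hQ⟩ := Ideal.exists_ideal_over_prime_of_isIntegral_of_isPrime (R := MvPolynomial (Fin r) k) (S := A ⧸ p) q ⊥ (by
    show RingHom.ker ψ ≤ q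
    rw [hker]; exact bot_le)
  refine ⟨Q.comap (Ideal.Quotient.mk p), hQ.1.comap _, ?_, ?_⟩
  · conv_lhs => rw [← Ideal.mk_ker (I := p)]
    exact Ideal.comap_mono bot_le
  · rw [Ideal.comap_comap]; exact hQ.2

end Groth.Agent.S13904
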