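import Groth.Statements.S13905
import Mathlib.LinearAlgebra.FiniteDimensional.Lemmas
-- import your own Groth.Agent.* helpers here

set_option autoImplicit false
universe u
open ProjGeom

namespace Groth.Agent.S13905

open W4c1etcurveeff3b in
/-- Hyperplanes of projective n-space in general position, in linear-algebra form (V of dimension n + 1
over a field k, hyperplanes as n-dimensional subspaces, points as nonzero vectors): if S is a finite
set of hyperplanes in general position with at least n members and H is a hyperplane containing none
of the lines cut out by n members of S, then S with H added is again in general position. (The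
published statement is for hyperplanes of P^n_k and closed points; a closed point lying on n + 1
members is automatically one of the rational points cut out by n of them, so the condition on
nonzero vectors of V is the same condition.) -/
theorem result (k V : Type u) [Field k]
    [AddCommGroup V] [Module k V] [DecidableEq (Submodule k V)] (n : ℕ) (S : Finset (Submodule k V))
    (hS : InGeneralPosition k V n S) (hn : n ≤ S.card) (H : Submodule k V)
    (hH : Module.finrank k H = n)
    (havoid : ∀ T ⊆ S, T.card = n → ¬ (T.inf id ≤ H)) :
    InGeneralPosition k V n (insert H S) := by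
  obtain ⟨hV, hdim, hint, hpts⟩ := hS
  have : FiniteDimensional k V := Module.finite_of_finrank_eq_succ hV
  by_cases hHS : H ∈ S
  · rw [Finset.insert_eq_of_mem hHS]; exact ⟨hV, hdim, hint, hpts⟩
  have hnot : ∀ T ⊆ S, T.card ≤ n → ¬ T.inf id ≤ H := by
    intro T hT hc hle
    obtain ⟨U, h1, h2, h3⟩ := Finset.exists_subsuperset_card_eq hT hc hn
    exact havoid U h2 h3 ((Finset.inf_mono h1).trans hle)
  refine ⟨hV, fun K hK => ?_, fun T hT hc => ?_, fun v hv T hT hvT => ?_⟩
  · rcases Finset.mem_insert.mp hK with rfl | h
    · exact hH
    · exact hdim K h
  · by_cases hHT : H ∈ T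
    · have hsub : T.erase H ⊆ S := by
        intro a ha
        rcases Finset.mem_insert.mp (hT (Finset.mem_of_mem_erase ha)) with rfl | h
        · exact absurd rfl (Finset.ne_of_mem_erase ha)
        · exact h
      have hpos : 0 < T.card := Finset.card_pos.mpr ⟨H, hHT⟩
      have hcard : (T.erase H).card + 1 = T.card := Finset.card_erase_add_one hHT
      have h1 := hint _ hsub (by omega)
      have h2 := hnot _ hsub (by omega)
      set A := (T.erase H).inf id
      rw [← Finset.insert_erase hHT, Finset.inf_insert, id, Finset.insert_erase hHT]
      have e := Submodule.finrank_sup_add_finrank_inf_eq H A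
      have hlt : H < H ⊔ A := lt_of_le_of_ne le_sup_left fun he => h2 (he ▸ le_sup_right)
      have h3 := Submodule.finrank_lt_finrank_of_lt hlt
      have h4 := Submodule.finrank_le (H ⊔ A)
      change Module.finrank k ↥(H ⊓ A) = _
      omega
    · refine hint T (fun a ha => ?_) hc
      rcases Finset.mem_insert.mp (hT ha) with rfl | h
      · exact absurd ha hHT
      · exact h
  · by_contra hcard
    push Not at hcard
    by_cases hHT : H ∈ T
    · have hsub : T.erase H ⊆ S := by
        intro a ha
        rcases Finset.mem_insert.mp (hT (Finset.mem_of_mem_erase ha)) with rfl | h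
        · exact absurd rfl (Finset.ne_of_mem_erase ha)
        · exact h
      obtain ⟨U, h1, h2⟩ := Finset.exists_subset_card_eq (show n ≤ (T.erase H).card by
        rw [Finset.card_erase_of_mem hHT]; omega)
      have hU := hint U (h1.trans hsub) h2.le
      have hvU : v ∈ U.inf id := Submodule.mem_finsetInf.mpr fun K hK =>
        hvT K (Finset.mem_of_mem_erase (h1 hK))
      have hspan : Submodule.span k {v} = U.inf id := Submodule.eq_of_le_of_finrank_eq
        ((Submodule.span_singleton_le_iff_mem _ _).mpr hvU)
        (by rw [finrank_span_singleton hv, hU, h2]; omega)
      exact hnot U (h1.trans hsub) h2.le (hspan ▸ (Submodule.span_singleton_le_iff_mem _ _).mpr (hvT H hHT))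
    · exact absurd (hpts v hv T (fun a ha => by
        rcases Finset.mem_insert.mp (hT ha) with rfl | h
        · exact absurd ha hHT
        · exact h) hvT) (by omega)

end Groth.Agent.S13905
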