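import Groth.Statements.S13907
import Mathlib
-- import your own Groth.Agent.* helpers here

set_option autoImplicit false
universe u
open ProjGeom

namespace Groth.Agent.S13907

open MvPolynomial in
theorem mem_irr_iff {k : Type u} [Field k] {n : ℕ} (a : MvPolynomial (Fin (n + 1)) k) :
    a ∈ (HomogeneousIdeal.irrelevant (CohB1.polyGrading n k)).toIdeal ↔ constantCoeff a = 0 := by
  have h : GradedRing.proj (CohB1.polyGrading n k) 0 a = MvPolynomial.C (MvPolynomial.coeff 0 a) := by
    rw [GradedRing.proj_apply, ← MvPolynomial.homogeneousComponent_zero]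
    exact MvPolynomial.decomposition.decompose'_apply a 0
  show GradedRing.proj (CohB1.polyGrading n k) 0 a = 0 ↔ _
  rw [h, map_eq_zero, MvPolynomial.constantCoeff_eq]

/-- A closed set disjoint from a hyperplane has no nontrivial specializations. -/
theorem eq_of_le {k : Type u} [Field k] {n : ℕ} {Z : Set (ProjectiveSpectrum (CohB1.polyGrading n k))}
    (hZ : IsClosed Z) (j : Fin (n + 1)) (hj : ∀ r ∈ Z, MvPolynomial.X j ∉ r.asHomogeneousIdeal.toIdeal)
    {p q : ProjectiveSpectrum (CohB1.polyGrading n k)} (hp : p ∈ Z) (hq : q ∈ Z) (hle : p ≤ q) : p = q := by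
  classical
  set x : MvPolynomial (Fin (n + 1)) k := MvPolynomial.X j with hx
  set P := p.asHomogeneousIdeal.toIdeal with hPdef
  set Q := q.asHomogeneousIdeal.toIdeal with hQdef
  set M := (HomogeneousIdeal.irrelevant (CohB1.polyGrading n k)).toIdeal with hMdef
  haveI : P.IsPrime := p.isPrime
  haveI : Q.IsPrime := q.isPrime
  have hMker : M = RingHom.ker (MvPolynomial.constantCoeff : MvPolynomial (Fin (n + 1)) k →+* k) := by
    ext a; rw [RingHom.mem_ker]; exact mem_irr_iff a
  haveI hMp : M.IsPrime := hMker ▸ RingHom.ker_isPrime _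
  have hPQ : P ≤ Q := hle
  by_contra hne
  have hPQ' : P < Q := lt_of_le_of_ne hPQ fun e => hne (ProjectiveSpectrum.ext (HomogeneousIdeal.toIdeal_injective e))
  have hQM : Q ≤ M := by
    intro a ha
    rw [mem_irr_iff]
    by_contra h0
    have h1 := (q.asHomogeneousIdeal.isHomogeneous 0 ha : _)
    rw [← GradedRing.proj_apply] at h1
    have h : GradedRing.proj (CohB1.polyGrading n k) 0 a = MvPolynomial.C (MvPolynomial.coeff 0 a) := by
      rw [GradedRing.proj_apply, ← MvPolynomial.homogeneousComponent_zero]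
      exact MvPolynomial.decomposition.decompose'_apply a 0
    rw [h] at h1
    exact q.isPrime.ne_top (Ideal.eq_top_of_isUnit_mem _ h1
      ((isUnit_iff_ne_zero.mpr (by rwa [← MvPolynomial.constantCoeff_eq])).map MvPolynomial.C))
  have hQM' : Q < M := lt_of_le_of_ne hQM fun e => q.not_irrelevant_le (e.ge)
  have hxM : x ∈ M := (mem_irr_iff x).mpr (MvPolynomial.constantCoeff_X k j)
  -- every prime containing `P + (x)` contains `M`
  have hrad : M ≤ (P ⊔ Ideal.span {x}).radical := by
    have hhom : (P ⊔ Ideal.span {x}).IsHomogeneous (CohB1.polyGrading n k) :=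
      p.asHomogeneousIdeal.isHomogeneous.sup (Ideal.homogeneous_span _ _ (by
        rintro a rfl; exact ⟨1, (MvPolynomial.mem_homogeneousSubmodule 1 _).mpr (MvPolynomial.isHomogeneous_X k j)⟩))
    rw [hhom.radical_eq]
    refine le_sInf ?_
    rintro J ⟨hJh, hJle, hJp⟩
    by_contra hMJ
    let r : ProjectiveSpectrum (CohB1.polyGrading n k) :=
      { asHomogeneousIdeal := ⟨J, hJh⟩, isPrime := hJp, not_irrelevant_le := fun h => hMJ h }
    have hrZ : r ∈ Z := by
      obtain ⟨s, rfl⟩ := (ProjectiveSpectrum.isClosed_iff_zeroLocus _ Z).mp hZ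
      exact fun a ha => hJle (Submodule.mem_sup_left (hp ha))
    exact hj r hrZ (hJle (Submodule.mem_sup_right (Ideal.subset_span rfl)))
  let π := Ideal.Quotient.mk P
  have hπ : Function.Surjective π := Ideal.Quotient.mk_surjective
  haveI : (M.map π).IsPrime := Ideal.map_isPrime_of_surjective hπ (by rw [Ideal.mk_ker]; exact hPQ.trans hQM)
  haveI : (Q.map π).IsPrime := Ideal.map_isPrime_of_surjective hπ (by rw [Ideal.mk_ker]; exact hPQ)
  have hmin : M.map π ∈ (Ideal.span {π x}).minimalPrimes := by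
    refine ⟨⟨inferInstance, (Ideal.span_singleton_le_iff_mem _).mpr (Ideal.mem_map_of_mem π hxM)⟩, ?_⟩
    rintro R ⟨hR, hRx⟩ -
    haveI := hR
    rw [Ideal.map_le_iff_le_comap]
    refine hrad.trans ((Ideal.IsPrime.radical_le_iff inferInstance).mpr (sup_le ?_ ?_))
    · intro a ha
      rw [Ideal.mem_comap, show π a = 0 from Ideal.Quotient.eq_zero_iff_mem.mpr ha]
      exact R.zero_mem
    · rw [Ideal.span_singleton_le_iff_mem, Ideal.mem_comap]
      exact hRx (Ideal.subset_span rfl)
  have h1 := Ideal.height_le_one_of_isPrincipal_of_mem_minimalPrimes (Ideal.span {π x}) (M.map π) hmin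
  have hlt : ∀ {I J : Ideal (MvPolynomial (Fin (n + 1)) k)}, P ≤ I → I < J → I.map π < J.map π := by
    intro I J hPI hIJ
    refine lt_of_le_of_ne (Ideal.map_mono hIJ.le) fun e => hIJ.ne ?_
    have := congrArg (Ideal.comap π) e
    rwa [Ideal.comap_map_of_surjective' _ hπ, Ideal.comap_map_of_surjective' _ hπ, Ideal.mk_ker,
      sup_eq_left.mpr hPI, sup_eq_left.mpr (hPI.trans hIJ.le)] at this
  have h2 : (⊥ : Ideal (MvPolynomial (Fin (n + 1)) k ⧸ P)) < Q.map π := by
    have := hlt le_rfl hPQ'
    rwa [Ideal.map_quotient_self] at this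
  have h3 := Ideal.height_strict_mono_of_isPrime h2
  have h4 := Ideal.height_strict_mono_of_isPrime (hlt hPQ hQM')
  rw [Ideal.height_bot] at h3
  have h5 : (Q.map π).height < 1 := h4.trans_le h1
  rw [ENat.lt_one_iff_eq_zero] at h5
  rw [h5] at h3
  exact lt_irrefl _ h3

theorem dim_eq_zero {X : Type u} [TopologicalSpace X] [QuasiSober X] {Z : Set X} (hZ : IsClosed Z)
    (hne : Z.Nonempty) (h : ∀ p ∈ Z, ∀ q ∈ Z, p ⤳ q → p = q) : topologicalKrullDim ↥Z = 0 := by
  haveI : QuasiSober ↥Z := hZ.isClosedEmbedding_subtypeVal.quasiSober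
  refine le_antisymm ?_ ?_
  · refine Order.krullDim_nonpos_iff_forall_isMax.mpr fun S T hST => ?_
    intro t ht
    obtain ⟨g, hg⟩ := QuasiSober.sober T.isIrreducible T.isClosed
    have hall : ∀ z ∈ T, z = g := fun z hz =>
      Subtype.ext (h g g.2 z z.2 ((hg.specializes hz).map continuous_subtype_val)).symm
    obtain ⟨a, ha⟩ := S.isIrreducible.nonempty
    have e1 := hall a (hST ha)
    have e2 := hall t ht
    exact e2.trans e1.symm ▸ ha
  · haveI : Nonempty (TopologicalSpace.IrreducibleCloseds ↥Z) :=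
      ⟨⟨closure {⟨hne.some, hne.some_mem⟩}, isIrreducible_singleton.closure, isClosed_closure⟩⟩
    exact Order.krullDim_nonneg


/-- Over an algebraically closed field k, let C be a nonempty irreducible closed subset of the
underlying space of projective n-space with homogeneous coordinates x_0, …, x_n, and for i ≤ n let
L_i be the linear subspace where x_1, …, x_i vanish. Then there is an index i ≤ n with C ∩ L_i
nonempty and of topological Krull dimension zero. -/
theorem result (k : Type u) [Field k]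
    [IsAlgClosed k] (n : ℕ) (C : Set (ProjectiveSpectrum (CohB1.polyGrading n k)))
    (hC : IsClosed C) (hirr : IsIrreducible C) :
    ∃ i : ℕ, i ≤ n ∧
      (C ∩ ProjectiveSpectrum.zeroLocus (CohB1.polyGrading n k)
          ((fun j : Fin (n + 1) => (MvPolynomial.X j : MvPolynomial (Fin (n + 1)) k)) ''
            {j : Fin (n + 1) | 1 ≤ j.val ∧ j.val ≤ i})).Nonempty ∧
      topologicalKrullDim ↥(C ∩ ProjectiveSpectrum.zeroLocus (CohB1.polyGrading n k)
          ((fun j : Fin (n + 1) => (MvPolynomial.X j : MvPolynomial (Fin (n + 1)) k)) ''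
            {j : Fin (n + 1) | 1 ≤ j.val ∧ j.val ≤ i})) = 0 := by
  classical
  haveI : QuasiSober (ProjectiveSpectrum (CohB1.polyGrading n k)) :=
    inferInstanceAs (QuasiSober (AlgebraicGeometry.Proj (CohB1.polyGrading n k)))
  let L : ℕ → Set (ProjectiveSpectrum (CohB1.polyGrading n k)) := fun i =>
    ProjectiveSpectrum.zeroLocus (CohB1.polyGrading n k)
      ((fun j : Fin (n + 1) => (MvPolynomial.X j : MvPolynomial (Fin (n + 1)) k)) ''
        {j : Fin (n + 1) | 1 ≤ j.val ∧ j.val ≤ i})
  have h0 : (C ∩ L 0).Nonempty := by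
    obtain ⟨c, hc⟩ := hirr.nonempty
    refine ⟨c, hc, ?_⟩
    rintro a ⟨j, hj, rfl⟩
    exact absurd (hj.1.trans hj.2) (by omega)
  let P : ℕ → Prop := fun i => (C ∩ L i).Nonempty
  let i := Nat.findGreatest P n
  have hi : P i := Nat.findGreatest_spec (P := P) (Nat.zero_le n) h0
  have hin : i ≤ n := Nat.findGreatest_le n
  refine ⟨i, hin, hi, ?_⟩
  have hclosed : IsClosed (C ∩ L i) := hC.inter (ProjectiveSpectrum.isClosed_zeroLocus _ _)
  have hj : ∃ j : Fin (n + 1), ∀ r ∈ C ∩ L i, MvPolynomial.X j ∉ r.asHomogeneousIdeal.toIdeal := by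
    rcases hin.lt_or_eq with hlt | heq
    · refine ⟨⟨i + 1, by omega⟩, fun r hr hX => ?_⟩
      refine Nat.findGreatest_is_greatest (P := P) (Nat.lt_succ_self i) hlt ⟨r, hr.1, ?_⟩
      rintro a ⟨j, ⟨hj1, hj2⟩, rfl⟩
      rcases Nat.lt_or_eq_of_le hj2 with h | h
      · exact hr.2 ⟨j, ⟨hj1, by omega⟩, rfl⟩
      · rw [show j = ⟨i + 1, by omega⟩ from Fin.ext h]; exact hX
    · refine ⟨0, fun r hr hX => r.not_irrelevant_le ?_⟩
      intro a ha
      have h : MvPolynomial.constantCoeff a = 0 := (mem_irr_iff a).mp ha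
      have hmem : a ∈ Ideal.span (Set.range (MvPolynomial.X : Fin (n + 1) → MvPolynomial (Fin (n + 1)) k)) := by
        rw [← Set.image_univ, MvPolynomial.mem_ideal_span_X_image]
        intro m hm
        by_contra hc
        push_neg at hc
        have : m = 0 := Finsupp.ext fun l => hc l (Set.mem_univ l)
        rw [MvPolynomial.mem_support_iff, this] at hm
        exact hm (by rwa [← MvPolynomial.constantCoeff_eq])
      refine Ideal.span_le.mpr ?_ hmem
      rintro _ ⟨l, rfl⟩
      by_cases hl : l = 0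
      · subst hl; exact hX
      · exact hr.2 ⟨l, ⟨Nat.one_le_iff_ne_zero.mpr fun h => hl (Fin.ext h), by have := l.isLt; omega⟩, rfl⟩
  obtain ⟨j, hj⟩ := hj
  exact dim_eq_zero hclosed hi fun p hp q hq hpq =>
    eq_of_le hclosed j hj hp hq ((ProjectiveSpectrum.le_iff_mem_closure _ p q).mpr (specializes_iff_mem_closure.mp hpq))

end Groth.Agent.S13907
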