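import Groth.Statements.S13913
import Mathlib.RingTheory.MvPolynomial.EulerIdentity
-- import your own Groth.Agent.* helpers here

set_option autoImplicit false
universe u
open PlaneCubic

namespace Groth.Agent.S13913

/-- Over an algebraically closed field of characteristic zero, for linearly independent linear forms z₁,
z₂ and quadratic forms q₁, q₂ in three variables and a nonzero common zero p of z₁ and z₂, the point
p is a singular point of the plane cubic z₁q₂ − z₂q₁ = 0 (all three partial derivatives vanish at p)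
if and only if q₁ and q₂ both vanish at p. -/
theorem result (k : Type u) [Field k] [IsAlgClosed k] [CharZero k]
    (z₁ z₂ q₁ q₂ : MvPolynomial (Fin 3) k) (hz₁ : z₁.IsHomogeneous 1) (hz₂ : z₂.IsHomogeneous 1)
    (hq₁ : q₁.IsHomogeneous 2) (hq₂ : q₂.IsHomogeneous 2) (hind : LinearIndependent k ![z₁, z₂])
    (p : Fin 3 → k) (hp : p ≠ 0) (hp₁ : MvPolynomial.eval p z₁ = 0) (hp₂ : MvPolynomial.eval p z₂ = 0) :
    (∀ i : Fin 3, MvPolynomial.eval p (MvPolynomial.pderiv i (z₁ * q₂ - z₂ * q₁)) = 0) ↔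
      (MvPolynomial.eval p q₁ = 0 ∧ MvPolynomial.eval p q₂ = 0) := by
  have hinj : ∀ z : MvPolynomial (Fin 3) k, z.IsHomogeneous 1 →
      (∀ i, MvPolynomial.eval p (MvPolynomial.pderiv i z) = 0) → z = 0 := by
    intro z hz h
    have e := hz.sum_X_mul_pderiv
    rw [one_smul] at e
    rw [← e]
    refine Finset.sum_eq_zero fun i _ => ?_
    have hc : MvPolynomial.pderiv i z = MvPolynomial.C (MvPolynomial.coeff 0 (MvPolynomial.pderiv i z)) :=
      MvPolynomial.totalDegree_eq_zero_iff_eq_C.mp (Nat.le_zero.mp (hz.pderiv (i := i)).totalDegree_le)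
    have := h i
    rw [hc, MvPolynomial.eval_C] at this
    rw [hc, this]; simp
  have hd : ∀ i, MvPolynomial.eval p (MvPolynomial.pderiv i (z₁ * q₂ - z₂ * q₁)) =
      MvPolynomial.eval p (MvPolynomial.pderiv i (MvPolynomial.eval p q₂ • z₁ - MvPolynomial.eval p q₁ • z₂)) := fun i => by
    simp [MvPolynomial.pderiv_mul, hp₁, hp₂, mul_comm]
  simp only [hd]
  constructor
  · intro h
    have h0 := hinj _ ((hz₁.C_mul _).sub (hz₂.C_mul _)) (fun i => by simpa [MvPolynomial.smul_eq_C_mul] using h i)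
    rw [← MvPolynomial.smul_eq_C_mul, ← MvPolynomial.smul_eq_C_mul, sub_eq_add_neg, ← neg_smul] at h0
    obtain ⟨a, b⟩ := (LinearIndependent.pair_iff.mp hind) _ _ h0
    exact ⟨neg_eq_zero.mp b, a⟩
  · rintro ⟨h1, h2⟩ i
    simp [h1, h2]

end Groth.Agent.S13913
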