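import Groth.Statements.S13916
import Mathlib
-- import your own Groth.Agent.* helpers here

set_option autoImplicit false
universe u
open PlaneConic

namespace Groth.Agent.S13916

/-- Over an algebraically closed field k of characteristic zero, with u_0, u_1, u_2 the coordinate
linear forms of k[X_0, X_1, X_2] and 2 × 2 matrices of linear forms compared up to M ↦ g M h with g,
h invertible scalar matrices: (1) the matrices with rows (u_1, 0), (u_0, u_2) and (u_2, 0), (u_0,
u_1) are not equivalent; (2) for α ≠ 0 the matrix with rows (u_1, 0), (αu_0 + βu_1 + γu_2, u_2) is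
equivalent to the one with rows (u_1, 0), (u_0, u_2). -/
theorem result (k : Type u) [Field k] [IsAlgClosed k] [CharZero k] :
    (¬ ∃ g h : GL (Fin 2) k,
      (MvPolynomial.C : k →+* MvPolynomial (Fin 3) k).mapMatrix g.val *
          !![MvPolynomial.X 1, 0; MvPolynomial.X 0, MvPolynomial.X 2] *
        (MvPolynomial.C : k →+* MvPolynomial (Fin 3) k).mapMatrix h.val =
      !![MvPolynomial.X 2, 0; MvPolynomial.X 0, MvPolynomial.X 1]) ∧
    (∀ α β γ : k, α ≠ 0 → ∃ g h : GL (Fin 2) k,
      (MvPolynomial.C : k →+* MvPolynomial (Fin 3) k).mapMatrix g.val *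
          !![MvPolynomial.X 1, 0;
             MvPolynomial.C α * MvPolynomial.X 0 + MvPolynomial.C β * MvPolynomial.X 1 + MvPolynomial.C γ * MvPolynomial.X 2,
             MvPolynomial.X 2] *
        (MvPolynomial.C : k →+* MvPolynomial (Fin 3) k).mapMatrix h.val =
      !![MvPolynomial.X 1, 0; MvPolynomial.X 0, MvPolynomial.X 2]) := by
  refine ⟨?_, fun α β γ hα => ?_⟩
  · rintro ⟨g, h, e⟩
    have key : ∀ v : Fin 3 → k, g.val * !![v 1, 0; v 0, v 2] * h.val = !![v 2, 0; v 0, v 1] := fun v => by
      have := congrArg (fun M => (MvPolynomial.eval v).mapMatrix M) e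
      simp only [map_mul] at this
      refine Eq.trans ?_ (this.trans ?_)
      · congr 1
        · congr 1
          · ext i j; simp
          · ext i j; fin_cases i <;> fin_cases j <;> simp
        · ext i j; simp
      · ext i j; fin_cases i <;> fin_cases j <;> simp
    have a := key ![0, 1, 0]
    have b := key ![0, 0, 1]
    have c := key ![1, 0, 0]
    have a11 := congrFun (congrFun a 1) 1
    have b00 := congrFun (congrFun b 0) 0
    have c01 := congrFun (congrFun c 0) 1
    simp [Matrix.mul_apply, Fin.sum_univ_two] at a11 b00 c01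
    rcases c01 with h1 | h1
    · rw [h1, zero_mul] at b00; exact zero_ne_one b00
    · rw [h1, mul_zero] at a11; exact zero_ne_one a11
  · refine ⟨Matrix.GeneralLinearGroup.mkOfDetNeZero !![1, 0; -β / α, 1 / α] (by simp [Matrix.det_fin_two, hα]),
      Matrix.GeneralLinearGroup.mkOfDetNeZero !![1, 0; -γ, α] (by simp [Matrix.det_fin_two, hα]), ?_⟩
    have h1 : (MvPolynomial.C (1 / α) : MvPolynomial (Fin 3) k) * MvPolynomial.C α = 1 := by
      rw [← map_mul, one_div_mul_cancel hα, map_one]
    have h2 : (MvPolynomial.C (-β / α) : MvPolynomial (Fin 3) k) = - (MvPolynomial.C β * MvPolynomial.C (1 / α)) := by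
      rw [← map_mul, ← map_neg]; congr 1; ring
    simp only [one_div] at h1 h2
    ext i j : 1
    fin_cases i <;> fin_cases j <;> simp [Matrix.mul_apply, Fin.sum_univ_two, Matrix.GeneralLinearGroup.mkOfDetNeZero]
    · rw [h2]
      linear_combination (MvPolynomial.X 0) * h1
    · linear_combination (MvPolynomial.X 2) * h1

end Groth.Agent.S13916
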