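import Groth.Statements.S13919
import Groth.Agent.RamPencil.ThreePoints
-- import your own Groth.Agent.* helpers here

set_option autoImplicit false
universe u
open W4c1limliniiii

namespace Groth.Agent.S13919

open Polynomial in
/-- Over an algebraically closed field of characteristic p (zero allowed), fix three distinct points of
the affine line and indices 2 ≤ e_i ≤ d prime to p with ∑ (e_i − 1) = 2d − 2, and encode self-maps
of the projective line up to automorphisms of the target as base-point-free separable pencils of
polynomials of degree at most d. If p is positive, the first two indices are less than p and p ≤ d,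
then there is no separable degree-d self-map of the projective line with ramification index exactly
e_i at the i-th point; if p = 0 or d < p there is exactly one up to automorphisms of the target.
(The first clause includes the case d = p; with it, when all e_i are less than p, the three-point
count is one map if p = 0 or p > d and none otherwise.) -/
theorem result (k : Type u) [Field k] [IsAlgClosed k]
    (p : ℕ) [CharP k p] (d : ℕ) (P : Fin 3 → k) (hP : Function.Injective P)
    (e : Fin 3 → ℕ) (he : W4c1limliniiii.Admissible p d e) :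
    (p ≠ 0 → e 0 < p → e 1 < p → p ≤ d → W4c1limliniiii.ramMaps d P e = ∅) ∧
      (p = 0 ∨ d < p → ∃ V : Submodule k k[X], W4c1limliniiii.ramMaps d P e = {V}) := by
  obtain ⟨hsub, hiff⟩ := Groth.Agent.RamPencil.ramMaps_three he hP
  constructor
  · intro hp0 h0 h1 hpd
    have hprime : p.Prime := (CharP.char_is_prime_or_zero k p).resolve_right hp0
    haveI := Fact.mk hprime
    refine hiff.mpr ?_
    let B : k[X] := (Polynomial.X - Polynomial.C (P 2)) ^ (e 2 - p)
    let F : k[X] := (Polynomial.X - Polynomial.C (P 0)) ^ p
    let G : k[X] := (Polynomial.X - Polynomial.C (P 1)) ^ p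
    have hne : P 0 - P 1 ≠ 0 := sub_ne_zero.mpr fun h => absurd (hP h) (by decide)
    let α : k := ((P 2 - P 1) / (P 0 - P 1)) ^ p
    let β : k := ((P 0 - P 2) / (P 0 - P 1)) ^ p
    have hcomb : (Polynomial.X - Polynomial.C (P 2)) ^ p = Polynomial.C α * F + Polynomial.C β * G := by
      simp only [α, β, F, G, map_pow, ← mul_pow]
      rw [← add_pow_char]
      congr 1
      have h1 : (P 2 - P 1) / (P 0 - P 1) + (P 0 - P 2) / (P 0 - P 1) = 1 := by
        rw [← add_div, div_eq_one_iff_eq hne]; ring
      have h2 : (P 2 - P 1) / (P 0 - P 1) * P 0 + (P 0 - P 2) / (P 0 - P 1) * P 1 = P 2 := by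
        rw [div_mul_eq_mul_div, div_mul_eq_mul_div, ← add_div, div_eq_iff hne]; ring
      have h1' := congrArg Polynomial.C h1
      have h2' := congrArg Polynomial.C h2
      simp only [map_add, map_mul, map_one] at h1' h2'
      linear_combination (-Polynomial.X : k[X]) * h1' + h2'
    have hB : B ≠ 0 := pow_ne_zero _ (Polynomial.X_sub_C_ne_zero _)
    have hF : F ≠ 0 := pow_ne_zero _ (Polynomial.X_sub_C_ne_zero _)
    have hG : G ≠ 0 := pow_ne_zero _ (Polynomial.X_sub_C_ne_zero _)
    have hdeg : ∀ a : k, (B * (Polynomial.X - Polynomial.C a) ^ p).natDegree ≤ d := fun a => by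
      rw [Polynomial.natDegree_mul hB (pow_ne_zero _ (Polynomial.X_sub_C_ne_zero _))]
      simp only [B, Polynomial.natDegree_pow, Polynomial.natDegree_X_sub_C, mul_one]
      have := (he.1 2).2.1
      omega
    refine ⟨Submodule.span k {B * F, B * G}, Submodule.span_le.mpr ?_, ?_, ?_, fun i => ?_⟩
    · rintro _ (rfl | rfl) <;> exact Polynomial.mem_degreeLE.mpr (Polynomial.natDegree_le_iff_degree_le.mp (hdeg _))
    · have hli : LinearIndependent k ![B * F, B * G] := LinearIndependent.pair_iff.mpr fun a b hab => by
        have h : B * (Polynomial.C a * F + Polynomial.C b * G) = 0 := by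
          rw [Polynomial.smul_eq_C_mul, Polynomial.smul_eq_C_mul] at hab; linear_combination hab
        have h' := (mul_eq_zero.mp h).resolve_left hB
        have e0 := congrArg (Polynomial.eval (P 0)) h'
        have e1 := congrArg (Polynomial.eval (P 1)) h'
        simp [F, G, hprime.ne_zero, hne, sub_ne_zero.mpr (fun h => absurd (hP h) (by decide) : P 1 ≠ P 0)] at e0 e1
        exact ⟨e1, e0⟩
      have hcard := finrank_span_eq_card hli
      rwa [Matrix.range_cons_cons_empty, Fintype.card_fin] at hcard
    · rintro ⟨s, hs, t, ht, hst⟩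
      refine hst (Groth.Agent.RamPencil.wronskian_eq_zero_of_span ?_ hs ht)
      simp [Polynomial.wronskian, F, G, Polynomial.derivative_mul, Polynomial.derivative_pow]
      ring
    · have hmem : ∀ a b : k, Polynomial.C a * (B * F) + Polynomial.C b * (B * G) ∈ Submodule.span k {B * F, B * G} :=
        fun a b => Submodule.mem_span_pair.mpr ⟨a, b, by rw [Polynomial.smul_eq_C_mul, Polynomial.smul_eq_C_mul]⟩
      fin_cases i
      · refine ⟨_, Submodule.subset_span (Set.mem_insert _ _), mul_ne_zero hB hF,
          (Polynomial.le_rootMultiplicity_iff (mul_ne_zero hB hF)).mpr (dvd_mul_of_dvd_right (pow_dvd_pow _ h0.le) _)⟩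
      · refine ⟨_, Submodule.subset_span (Set.mem_insert_of_mem _ rfl), mul_ne_zero hB hG,
          (Polynomial.le_rootMultiplicity_iff (mul_ne_zero hB hG)).mpr (dvd_mul_of_dvd_right (pow_dvd_pow _ h1.le) _)⟩
      · have heq : Polynomial.C α * (B * F) + Polynomial.C β * (B * G) = B * (Polynomial.X - Polynomial.C (P 2)) ^ p := by
          rw [hcomb]; ring
        have hne2 : B * (Polynomial.X - Polynomial.C (P 2)) ^ p ≠ 0 := mul_ne_zero hB (pow_ne_zero _ (Polynomial.X_sub_C_ne_zero _))
        refine ⟨_, hmem α β, heq ▸ hne2, (Polynomial.le_rootMultiplicity_iff (heq ▸ hne2)).mpr (heq ▸ ?_)⟩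
        simp only [B, ← pow_add]
        refine pow_dvd_pow _ ?_
        show e 2 ≤ e 2 - p + p
        omega
  · intro hp
    obtain ⟨V, hV⟩ : (W4c1limliniiii.ramMaps d P e).Nonempty := by
      rw [Set.nonempty_iff_ne_empty]
      intro hempty
      obtain ⟨V, hle, hfr, hins, -⟩ := hiff.mp hempty
      haveI : FiniteDimensional k V := Module.finite_of_finrank_pos (by omega)
      let b := Module.finBasisOfFinrankEq k V hfr
      have hW : Polynomial.wronskian (b 0 : k[X]) (b 1 : k[X]) = 0 :=
        by_contra fun h => hins ⟨_, (b 0).2, _, (b 1).2, h⟩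
      obtain ⟨a, c, hac, h⟩ := Groth.Agent.RamPencil.dependent_of_wronskian_eq_zero hp
        (Polynomial.natDegree_le_iff_degree_le.mpr (Polynomial.mem_degreeLE.mp (hle (b 0).2)))
        (Polynomial.natDegree_le_iff_degree_le.mpr (Polynomial.mem_degreeLE.mp (hle (b 1).2))) hW
      have h2 := Fintype.linearIndependent_iff.mp b.linearIndependent ![a, c] (Subtype.ext (by simpa [Fin.sum_univ_two] using h))
      exact hac.elim (fun ha => ha (h2 0)) (fun hc => hc (h2 1))
    exact ⟨V, hsub.eq_singleton_of_mem hV⟩

end Groth.Agent.S13919
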