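import Groth.Statements.S19560
import Groth.Agent.PencilLim.Basic
-- import your own Groth.Agent.* helpers here

set_option autoImplicit false
universe u
open W4c1limliniiii

namespace Groth.Agent.S19560

open Polynomial in
/-- Let k be an algebraically closed field of characteristic p (a prime or zero) and let F, G be
polynomials spanning a base-point-free pencil V of degree d (a two-dimensional space of polynomials
of degree at most d containing one of degree d and with no common zero in k), so that V encodes a
degree-d self-map F/G of the projective line up to automorphisms of the target. Suppose the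
Wronskian W = F′G − FG′ is non-zero and vanishes at the point a to order exactly e − 1 with e ≥ 1,
and that p = 0 or e − 1 < p. Then the map is tamely ramified at a with index e: the largest order of
vanishing at a of a non-zero member of V is e, and p does not divide e. (The hypothesis W ≠ 0 makes
the order of vanishing meaningful; for W = 0 the map is inseparable.) -/
theorem result
    (k : Type u) [Field k] [IsAlgClosed k] (p : ℕ) [CharP k p]
    (d : ℕ) (F G : k[X]) (hV : W4c1limliniiii.IsPencil d (Submodule.span k {F, G}))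
    (hW : Polynomial.wronskian F G ≠ 0) (a : k) (e : ℕ)
    (he : (Polynomial.wronskian F G).rootMultiplicity a + 1 = e) (hp : p = 0 ∨ e - 1 < p) :
    W4c1limliniiii.HasRamIdx (Submodule.span k {F, G}) a e ∧ ¬ p ∣ e := by
  obtain ⟨-, -, -, hnv⟩ := hV
  have hnv' : F.eval a ≠ 0 ∨ G.eval a ≠ 0 := by
    obtain ⟨s, hs, hs0⟩ := hnv a
    by_contra! h
    obtain ⟨u, v, rfl⟩ := Submodule.mem_span_pair.mp hs
    exact hs0 (by simp [h.1, h.2])
  -- a member vanishing at `a`, with a partner which does not
  obtain ⟨Φ, Ψ, hΦmem, hΨ, hWΦ, hprop⟩ : ∃ Φ Ψ : k[X], Φ ∈ Submodule.span k {F, G} ∧ Ψ.eval a ≠ 0 ∧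
      (∃ t : k, t ≠ 0 ∧ wronskian Φ Ψ = C t * wronskian F G) ∧ Φ.eval a = 0 ∧
      ∀ s ∈ Submodule.span k {F, G}, s.eval a = 0 → ∃ t : k, s = C t * Φ := by
    have hmem : C (G.eval a) * F + C (-(F.eval a)) * G ∈ Submodule.span k {F, G} :=
      Submodule.mem_span_pair.mpr ⟨G.eval a, -(F.eval a), by rw [smul_eq_C_mul, smul_eq_C_mul]⟩
    rcases hnv' with h | h
    · refine ⟨_, F, hmem, h, ⟨F.eval a, h, ?_⟩, by simp [mul_comm], fun s hs hsa => ?_⟩
      · conv_lhs => arg 2; rw [show F = C 1 * F + C 0 * G by simp]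
        rw [Groth.Agent.PencilLim.wronskian_comb _ _ _ _ _ _ derivative_C derivative_C derivative_C derivative_C]
        simp
      · obtain ⟨u, v, rfl⟩ := Submodule.mem_span_pair.mp hs
        simp only [eval_add, eval_smul, smul_eq_mul] at hsa
        have hu : u = -v * G.eval a / F.eval a := by field_simp; linear_combination hsa
        have hu' : u = (-v / F.eval a) * G.eval a := by rw [hu]; ring
        have hv' : v = (-v / F.eval a) * -(F.eval a) := by field_simp
        refine ⟨-v / F.eval a, ?_⟩
        rw [smul_eq_C_mul, smul_eq_C_mul, mul_add, ← mul_assoc, ← mul_assoc, ← map_mul, ← map_mul, ← hu', ← hv']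
    · refine ⟨_, G, hmem, h, ⟨G.eval a, h, ?_⟩, by simp [mul_comm], fun s hs hsa => ?_⟩
      · conv_lhs => arg 2; rw [show G = C 0 * F + C 1 * G by simp]
        rw [Groth.Agent.PencilLim.wronskian_comb _ _ _ _ _ _ derivative_C derivative_C derivative_C derivative_C]
        simp
      · obtain ⟨u, v, rfl⟩ := Submodule.mem_span_pair.mp hs
        simp only [eval_add, eval_smul, smul_eq_mul] at hsa
        have hu' : u = (u / G.eval a) * G.eval a := by field_simp
        have hv' : v = (u / G.eval a) * -(F.eval a) := by field_simp; linear_combination hsa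
        refine ⟨u / G.eval a, ?_⟩
        rw [smul_eq_C_mul, smul_eq_C_mul, mul_add, ← mul_assoc, ← mul_assoc, ← map_mul, ← map_mul, ← hu', ← hv']
  obtain ⟨hΦa, hprop⟩ := hprop
  obtain ⟨t, ht, hWΦ⟩ := hWΦ
  have hW' : wronskian Φ Ψ ≠ 0 := by rw [hWΦ]; exact mul_ne_zero (by simpa using ht) hW
  have hΦ0 : Φ ≠ 0 := fun h => hW' (by rw [h, wronskian_zero_left])
  obtain ⟨u, hu, hu0⟩ := exists_eq_pow_rootMultiplicity_mul_and_not_dvd Φ hΦ0 a
  set μ := Φ.rootMultiplicity a with hμ
  obtain ⟨m, hm⟩ : ∃ m, μ = m + 1 := ⟨μ - 1, by have := (rootMultiplicity_pos hΦ0).mpr hΦa; omega⟩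
  set e' := (wronskian F G).rootMultiplicity a with he'
  have hmult : (wronskian Φ Ψ).rootMultiplicity a = e' := by
    rw [hWΦ, rootMultiplicity_mul (mul_ne_zero (by simpa using ht) hW), rootMultiplicity_C, zero_add]
  have hexp : wronskian Φ Ψ = (X - C a) ^ m * ((X - C a) * (u * derivative Ψ - derivative u * Ψ) - C ((m : k) + 1) * u * Ψ) := by
    rw [wronskian, hu, hm, derivative_mul, derivative_pow, derivative_sub, derivative_X, derivative_C]
    simp only [Nat.add_sub_cancel, Nat.cast_add, Nat.cast_one, map_add, map_one, pow_succ]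
    ring
  have hne2 := hW'
  rw [hexp] at hne2
  have hmp : ¬ p ∣ μ := fun hdiv => by
    have hcast : ((m : k) + 1) = 0 := by
      have := (CharP.cast_eq_zero_iff k p μ).mpr hdiv
      rw [hm] at this
      exact_mod_cast this
    have hge : μ ≤ e' := by
      rw [← hmult, le_rootMultiplicity_iff hW', hexp, hcast, map_zero, zero_mul, zero_mul, sub_zero, hm, pow_succ]
      exact mul_dvd_mul_left _ (dvd_mul_right _ _)
    rcases hp with rfl | hp
    · rw [zero_dvd_iff] at hdiv; omega
    · have := Nat.le_of_dvd (by omega) hdiv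
      omega
  have hlast : ¬ (X - C a) ∣ (X - C a) * (u * derivative Ψ - derivative u * Ψ) - C ((m : k) + 1) * u * Ψ := fun hd => by
    rw [dvd_iff_isRoot, IsRoot] at hd
    simp only [eval_sub, eval_mul, eval_X, eval_C, sub_self, zero_mul, zero_sub, neg_eq_zero, mul_eq_zero] at hd
    rcases hd with (h | h) | h
    · refine hmp ?_
      rw [← CharP.cast_eq_zero_iff k p, hm]
      exact_mod_cast h
    · exact hu0 (dvd_iff_isRoot.mpr h)
    · exact hΨ h
  have hem : e' = m := by
    rw [← hmult, hexp, rootMultiplicity_mul hne2, rootMultiplicity_X_sub_C_pow, rootMultiplicity_eq_zero (fun h => hlast (dvd_iff_isRoot.mpr h)), add_zero]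
  have heμ : e = μ := by omega
  subst heμ
  refine ⟨⟨⟨Φ, hΦmem, hΦ0, le_rfl⟩, fun s hs hs0 => ?_⟩, hmp⟩
  by_cases hsa : s.eval a = 0
  · obtain ⟨r, rfl⟩ := hprop s hs hsa
    rw [rootMultiplicity_mul hs0, rootMultiplicity_C, zero_add]
  · rw [rootMultiplicity_eq_zero (show ¬ s.IsRoot a from hsa)]
    exact Nat.zero_le _

end Groth.Agent.S19560
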