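import Groth.Statements.S13920
import Groth.Agent.RamPencil.Common
import Groth.Agent.S19560
-- import your own Groth.Agent.* helpers here

set_option autoImplicit false
universe u
open W4c1limliniiii

namespace Groth.Agent.S13920

open Polynomial in
/-- Over an algebraically closed field of prime characteristic p, fix n points of the affine line with
ramification indices e_i < p, and at infinity an index E with p < E and E prime to p, the datum (E,
e_1, …, e_n) being admissible for degree d (each index between 2 and d, ∑ (index − 1) = 2d − 2). If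
one separable degree-d self-map of the projective line (up to automorphisms of the target, encoded
as a base-point-free separable pencil of polynomials of degree at most d) has ramification index
exactly e_i at the i-th point and exactly E at infinity, then infinitely many do: the set of such
pencils is empty or infinite. (The consequence for general points, that no such map exists, is not
restated.) -/
theorem result
    (k : Type u) [Field k] [IsAlgClosed k] (p : ℕ) [Fact p.Prime] [CharP k p]
    (d n : ℕ) (P : Fin n → k) (e : Fin n → ℕ) (E : ℕ)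
    (he : W4c1limliniiii.Admissible p d (Fin.cons E e : Fin (n + 1) → ℕ))
    (hlt : ∀ i, e i < p) (hE : p < E) :
    {V : Submodule k k[X] | V ∈ W4c1limliniiii.ramMaps d P e ∧ W4c1limliniiii.HasRamIdxInf d V E} = ∅ ∨
      {V : Submodule k k[X] | V ∈ W4c1limliniiii.ramMaps d P e ∧
        W4c1limliniiii.HasRamIdxInf d V E}.Infinite := by
  classical
  refine or_iff_not_imp_left.mpr fun hne => ?_
  obtain ⟨V, hV, hinf⟩ := Set.nonempty_iff_ne_empty.mpr hne
  have hp := (Fact.out : p.Prime)
  -- the total degree
  have hsum : (∑ i, e i) + E + 1 = 2 * d + n := by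
    have h2 := he.2
    rw [Fin.sum_univ_succ] at h2
    simp only [Fin.cons_zero, Fin.cons_succ] at h2
    omega
  have he2 : ∀ i, 2 ≤ e i ∧ ¬ p ∣ e i := fun i => by
    have := he.1 i.succ
    simp only [Fin.cons_succ] at this
    exact ⟨this.1, this.2.2⟩
  have hEd : E ≤ d := by simpa using (he.1 0).2.1
  have hP : Function.Injective P ∨ True := Or.inr trivial
  obtain ⟨⟨hle, hfr, ⟨G, hG, hGd⟩, hnv⟩, hsep, hram⟩ := hV
  obtain ⟨⟨F, hF, hF0, hFE⟩, hinf2⟩ := hinf
  haveI : FiniteDimensional k V := Module.finite_of_finrank_pos (by omega)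
  have hFd : F.natDegree + E = d := le_antisymm hFE (hinf2 F hF hF0)
  have hG0 : G ≠ 0 := fun h => by rw [h, Polynomial.natDegree_zero] at hGd; omega
  have hFG : F.natDegree < G.natDegree := by omega
  have hspan : V = Submodule.span k {F, G} := by
    have hli : LinearIndependent k ![F, G] := LinearIndependent.pair_iff.mpr fun a b hab => by
      by_cases hb : b = 0
      · subst hb
        rw [zero_smul, add_zero, smul_eq_zero, or_iff_left hF0] at hab
        exact ⟨hab, rfl⟩
      · exfalso
        have h1 := congrArg Polynomial.natDegree hab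
        rw [Polynomial.natDegree_add_eq_right_of_natDegree_lt, Polynomial.natDegree_smul _ hb, Polynomial.natDegree_zero] at h1
        · omega
        · rw [Polynomial.natDegree_smul _ hb]; exact (Polynomial.natDegree_smul_le _ _).trans_lt hFG
    have hcard := finrank_span_eq_card hli
    rw [Matrix.range_cons_cons_empty, Fintype.card_fin] at hcard
    exact (Submodule.eq_of_le_of_finrank_eq (Submodule.span_le.mpr (by rintro _ (rfl | rfl) <;> assumption)) (hcard.trans hfr.symm)).symm
  -- the ramification points are distinct as far as `W` is concerned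
  let G' : k → k[X] := fun t => G + Polynomial.C t * (Polynomial.X ^ p * F)
  have hW' : ∀ t, Polynomial.wronskian F (G' t) = Polynomial.wronskian F G := fun t => by
    simp [G', Polynomial.wronskian, Polynomial.derivative_mul, Polynomial.derivative_pow]
    ring
  have hdeg' : ∀ t, (G' t).natDegree = d := fun t => by
    have h1 : (Polynomial.C t * (Polynomial.X ^ p * F)).natDegree < G.natDegree := by
      refine ((Polynomial.natDegree_C_mul_le _ _).trans Polynomial.natDegree_mul_le).trans_lt ?_
      rw [Polynomial.natDegree_X_pow]; omega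
    rw [Polynomial.natDegree_add_eq_left_of_natDegree_lt h1, hGd]
  have hW : Polynomial.wronskian F G ≠ 0 := fun h => by
    obtain ⟨s, hs, t, ht, hst⟩ := hsep
    exact hst (Groth.Agent.RamPencil.wronskian_eq_zero_of_span h (hspan ▸ hs) (hspan ▸ ht))
  have hlift : ∀ t s, s ∈ Submodule.span k {F, G' t} → ∃ u v : k, s = Polynomial.C u * F + Polynomial.C v * G' t := fun t s hs => by
    obtain ⟨u, v, rfl⟩ := Submodule.mem_span_pair.mp hs
    exact ⟨u, v, by rw [Polynomial.smul_eq_C_mul, Polynomial.smul_eq_C_mul]⟩
  have hpencil : ∀ t, W4c1limliniiii.IsPencil d (Submodule.span k {F, G' t}) := fun t => by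
    refine ⟨Submodule.span_le.mpr ?_, ?_, ⟨G' t, Submodule.subset_span (Set.mem_insert_of_mem _ rfl), hdeg' t⟩, fun a => ?_⟩
    · rintro _ (rfl | rfl)
      · exact hle hF
      · exact Polynomial.mem_degreeLE.mpr (Polynomial.natDegree_le_iff_degree_le.mp (hdeg' t).le)
    · have hli : LinearIndependent k ![F, G' t] := LinearIndependent.pair_iff.mpr fun a b hab => by
        by_cases hb : b = 0
        · subst hb
          rw [zero_smul, add_zero, smul_eq_zero, or_iff_left hF0] at hab
          exact ⟨hab, rfl⟩
        · exfalso
          have h1 := congrArg Polynomial.natDegree hab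
          rw [Polynomial.natDegree_add_eq_right_of_natDegree_lt, Polynomial.natDegree_smul _ hb, Polynomial.natDegree_zero] at h1
          · have := hdeg' t; omega
          · rw [Polynomial.natDegree_smul _ hb, hdeg']; exact (Polynomial.natDegree_smul_le _ _).trans_lt (by omega)
      have hcard := finrank_span_eq_card hli
      rwa [Matrix.range_cons_cons_empty, Fintype.card_fin] at hcard
    · by_contra! hcon
      have hFa := hcon F (Submodule.subset_span (Set.mem_insert _ _))
      have hGa := hcon (G' t) (Submodule.subset_span (Set.mem_insert_of_mem _ rfl))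
      obtain ⟨s, hs, hs0⟩ := hnv a
      obtain ⟨u, v, rfl⟩ := Submodule.mem_span_pair.mp (hspan ▸ hs)
      simp [G', hFa] at hGa
      exact hs0 (by simp [hFa, hGa])
  have hbase : ∀ i, (Polynomial.wronskian F G).rootMultiplicity (P i) + 1 = e i := fun i => by
    have hd2 : ∀ j, (Polynomial.X - Polynomial.C (P j)) ^ (e j - 1) ∣ Polynomial.wronskian F G := fun j => by
      obtain ⟨s, hs, hs0, hse⟩ := (hram j).1
      obtain ⟨t, -, a, ha, hst⟩ := Groth.Agent.RamPencil.exists_vanishing_partner (hspan ▸ hs) hs0
      refine ((Polynomial.isUnit_C.mpr (Ne.isUnit ha)).dvd_mul_left).mp ?_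
      rw [← hst]
      exact Groth.Agent.PencilLim.pow_dvd_wronskian_pred ((Polynomial.le_rootMultiplicity_iff hs0).mp hse) t
    have hge : e i - 1 ≤ (Polynomial.wronskian F G).rootMultiplicity (P i) := (Polynomial.le_rootMultiplicity_iff hW).mpr (hd2 i)
    by_contra hcon
    have hgt : e i ≤ (Polynomial.wronskian F G).rootMultiplicity (P i) := by have := (he2 i).1; omega
    -- a member with a root at `P i` and a partner
    obtain ⟨s, hs, hs0, hse⟩ := (hram i).1
    obtain ⟨t, ht, a, ha, hst⟩ := Groth.Agent.RamPencil.exists_vanishing_partner (hspan ▸ hs) hs0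
    have hmu : s.rootMultiplicity (P i) = e i := le_antisymm ((hram i).2 s hs hs0) hse
    obtain ⟨u, hu, hu0⟩ := Polynomial.exists_eq_pow_rootMultiplicity_mul_and_not_dvd s hs0 (P i)
    obtain ⟨m, hm⟩ : ∃ m, e i = m + 1 := ⟨e i - 1, by have := (he2 i).1; omega⟩
    rw [hmu, hm] at hu
    have hexp : Polynomial.wronskian s t = (Polynomial.X - Polynomial.C (P i)) ^ m *
        ((Polynomial.X - Polynomial.C (P i)) * (u * Polynomial.derivative t - Polynomial.derivative u * t) -
          Polynomial.C ((m : k) + 1) * u * t) := by
      rw [Polynomial.wronskian, hu, Polynomial.derivative_mul, Polynomial.derivative_pow, Polynomial.derivative_sub,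
        Polynomial.derivative_X, Polynomial.derivative_C]
      simp only [Nat.add_sub_cancel, Nat.cast_add, Nat.cast_one, map_add, map_one, pow_succ]
      ring
    have hdiv : (Polynomial.X - Polynomial.C (P i)) ^ (m + 1) ∣ Polynomial.wronskian s t := by
      rw [hst]
      exact dvd_mul_of_dvd_right ((Polynomial.le_rootMultiplicity_iff hW).mp (hm ▸ hgt)) _
    rw [hexp, pow_succ, mul_dvd_mul_iff_left (pow_ne_zero _ (Polynomial.X_sub_C_ne_zero _)), Polynomial.dvd_iff_isRoot,
      Polynomial.IsRoot] at hdiv
    simp only [Polynomial.eval_sub, Polynomial.eval_mul, Polynomial.eval_X, Polynomial.eval_C, sub_self, zero_mul,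
      zero_sub, neg_eq_zero, mul_eq_zero] at hdiv
    rcases hdiv with (h | h) | h
    · refine (he2 i).2 ?_
      rw [hm, ← CharP.cast_eq_zero_iff k p]
      exact_mod_cast h
    · exact hu0 (Polynomial.dvd_iff_isRoot.mpr h)
    · -- then every member vanishes at `P i`
      obtain ⟨w, hw, hw0⟩ := hnv (P i)
      have hsP : s.eval (P i) = 0 := by rw [hu]; simp
      obtain ⟨a1, b1, rfl⟩ := Submodule.mem_span_pair.mp (hspan ▸ hs)
      obtain ⟨a2, b2, rfl⟩ := Submodule.mem_span_pair.mp ht
      obtain ⟨a3, b3, rfl⟩ := Submodule.mem_span_pair.mp (hspan ▸ hw)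
      simp only [Polynomial.smul_eq_C_mul] at hst
      rw [Groth.Agent.PencilLim.wronskian_comb _ _ _ _ _ _ Polynomial.derivative_C Polynomial.derivative_C
        Polynomial.derivative_C Polynomial.derivative_C] at hst
      have hdet : a1 * b2 - b1 * a2 = a := Polynomial.C_injective (by
        rw [map_sub, map_mul, map_mul]; exact mul_right_cancel₀ hW hst)
      simp only [Polynomial.eval_add, Polynomial.eval_smul, smul_eq_mul] at hsP h hw0
      have hFP : a * F.eval (P i) = 0 := by rw [← hdet]; linear_combination b2 * hsP - b1 * h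
      have hGP : a * G.eval (P i) = 0 := by rw [← hdet]; linear_combination a1 * h - a2 * hsP
      exact hw0 (by rw [(mul_eq_zero.mp hFP).resolve_left ha, (mul_eq_zero.mp hGP).resolve_left ha]; ring)
  have hmem : ∀ t, Submodule.span k {F, G' t} ∈ {V : Submodule k k[X] | V ∈ W4c1limliniiii.ramMaps d P e ∧
      W4c1limliniiii.HasRamIdxInf d V E} := fun t => by
    refine ⟨⟨hpencil t, ⟨F, Submodule.subset_span (Set.mem_insert _ _), G' t,
      Submodule.subset_span (Set.mem_insert_of_mem _ rfl), by rw [hW']; exact hW⟩, fun i => ?_⟩, ?_, ?_⟩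
    · exact (Groth.Agent.S19560.result k p d F (G' t) (hpencil t) (by rw [hW']; exact hW) (P i) (e i)
        (by rw [hW']; exact hbase i) (Or.inr (by have := hlt i; omega))).1
    · exact ⟨F, Submodule.subset_span (Set.mem_insert _ _), hF0, hFE⟩
    · intro s hs hs0
      obtain ⟨u, v, rfl⟩ := hlift t s hs
      by_cases hv : v = 0
      · subst hv
        rw [map_zero, zero_mul, add_zero] at hs0 ⊢
        rw [Polynomial.natDegree_C_mul (fun h => hs0 (by rw [h, map_zero, zero_mul]))]
        omega
      · rw [Polynomial.natDegree_add_eq_right_of_natDegree_lt, Polynomial.natDegree_C_mul hv, hdeg']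
        · omega
        · rw [Polynomial.natDegree_C_mul hv, hdeg']
          exact (Polynomial.natDegree_C_mul_le _ _).trans_lt (by omega)
  refine Set.infinite_of_injective_forall_mem (f := fun t => Submodule.span k {F, G' t}) (fun t t' h => ?_) hmem
  by_contra htt
  have h1 : G' t - G' t' ∈ Submodule.span k {F, G' t} := Submodule.sub_mem _
    (Submodule.subset_span (Set.mem_insert_of_mem _ rfl))
    ((show Submodule.span k {F, G' t} = Submodule.span k {F, G' t'} from h) ▸ Submodule.subset_span (Set.mem_insert_of_mem _ rfl))
  obtain ⟨u, v, huv⟩ := hlift t _ h1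
  have h2 : G' t - G' t' = Polynomial.C (t - t') * (Polynomial.X ^ p * F) := by
    simp only [G', map_sub]; ring
  rw [h2] at huv
  have h3 : (Polynomial.C (t - t') * (Polynomial.X ^ p * F)).natDegree = p + F.natDegree := by
    rw [Polynomial.natDegree_C_mul (sub_ne_zero.mpr htt),
      Polynomial.natDegree_mul (pow_ne_zero _ Polynomial.X_ne_zero) hF0, Polynomial.natDegree_X_pow]
  rw [huv] at h3
  by_cases hv : v = 0
  · subst hv
    rw [map_zero, zero_mul, add_zero] at h3
    have := Polynomial.natDegree_C_mul_le u F
    have := hp.pos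
    omega
  · rw [Polynomial.natDegree_add_eq_right_of_natDegree_lt, Polynomial.natDegree_C_mul hv, hdeg'] at h3
    · omega
    · rw [Polynomial.natDegree_C_mul hv, hdeg']
      exact (Polynomial.natDegree_C_mul_le _ _).trans_lt (by omega)

end Groth.Agent.S13920
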