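import Mathlib
import Groth.Statements.S13925
-- import your own Groth.Agent.* helpers here

set_option autoImplicit false
universe u v w x
open W4c1limliniiii

namespace Groth.Agent.S13925

/-- Let k be a field and U, E, W vector spaces over k with linear maps f : U → E, g' : E → U, f₂ : E → W
and g : W → E such that g' ∘ f = 0, the kernel of f₂ is contained in the image of g, and the image
of g meets the kernel of g' only in 0 — the conditions holding at a point of a linked Grassmannian
at which the linking scalar vanishes. Let V₁ ≤ U and V₂ ≤ E be subspaces and let C' ≤ V₂ be a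
subspace contained in the kernel of g' and meeting f(V₁) only in 0. Then the subspaces f(V₁), ker f₂
∩ V₂ and C' of E are independent: their sum is direct. (The published statement is for two
consecutive members V_{i-1}, V_i of a point of a linked Grassmannian at which the linking scalar
vanishes and adds the decomposition V_i = f(V_{i-1}) ⊕ (ker f_i ∩ V_i) ⊕ C with C ⊇ C'; this row
states the independence, with only the three conditions the argument uses.) -/
theorem result (k : Type u) [Field k]
    (U : Type v) (E : Type w) (W : Type x) [AddCommGroup U] [Module k U] [AddCommGroup E]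
    [Module k E] [AddCommGroup W] [Module k W]
    (f : U →ₗ[k] E) (g' : E →ₗ[k] U) (f₂ : E →ₗ[k] W) (g : W →ₗ[k] E)
    (hgf : g'.comp f = 0) (hII : LinearMap.ker f₂ ≤ LinearMap.range g)
    (hIII : LinearMap.range g ⊓ LinearMap.ker g' = ⊥)
    (V₁ : Submodule k U) (V₂ : Submodule k E) (C' : Submodule k E) (hC : C' ≤ V₂)
    (hCg : C' ≤ LinearMap.ker g') (hCf : Submodule.map f V₁ ⊓ C' = ⊥) :
    iSupIndep ![Submodule.map f V₁, LinearMap.ker f₂ ⊓ V₂, C'] := by
  have hA : Submodule.map f V₁ ≤ LinearMap.ker g' := by
    rintro _ ⟨v, -, rfl⟩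
    exact LinearMap.congr_fun hgf v
  have hB : ∀ x ∈ LinearMap.ker f₂ ⊓ V₂, x ∈ LinearMap.ker g' → x = 0 := fun x hx hk =>
    (Submodule.mem_bot _).mp (hIII ▸ Submodule.mem_inf.mpr ⟨hII hx.1, hk⟩)
  have h1 : Disjoint (Submodule.map f V₁) ((LinearMap.ker f₂ ⊓ V₂) ⊔ C') := by
    rw [Submodule.disjoint_def]
    intro x hx hx'
    obtain ⟨b, hb, c, hc, rfl⟩ := Submodule.mem_sup.mp hx'
    obtain rfl := hB b hb (by simpa using sub_mem (hA hx) (hCg hc))
    exact (Submodule.mem_bot _).mp (hCf ▸ Submodule.mem_inf.mpr ⟨hx, by simpa using hc⟩)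
  have h2 : Disjoint (LinearMap.ker f₂ ⊓ V₂) (Submodule.map f V₁ ⊔ C') := by
    rw [Submodule.disjoint_def]
    exact fun x hx hx' => hB x hx (sup_le hA hCg hx')
  have h3 : Disjoint C' (Submodule.map f V₁ ⊔ (LinearMap.ker f₂ ⊓ V₂)) := by
    rw [Submodule.disjoint_def]
    intro x hx hx'
    obtain ⟨a, ha, b, hb, rfl⟩ := Submodule.mem_sup.mp hx'
    obtain rfl := hB b hb (by simpa using sub_mem (hCg hx) (hA ha))
    exact (Submodule.mem_bot _).mp (hCf ▸ Submodule.mem_inf.mpr ⟨by simpa using ha, hx⟩)
  intro i
  fin_cases i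
  · exact h1.mono_right (iSup₂_le fun j hj => by fin_cases j <;> simp_all)
  · exact h2.mono_right (iSup₂_le fun j hj => by fin_cases j <;> simp_all)
  · exact h3.mono_right (iSup₂_le fun j hj => by fin_cases j <;> simp_all)

end Groth.Agent.S13925
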