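import Mathlib
import Groth.Statements.S13926
-- import your own Groth.Agent.* helpers here

set_option autoImplicit false
universe u v w
open W4c1limliniiii

namespace Groth.Agent.S13926

theorem exists_between' {k : Type u} [Field k] {E : Type w} [AddCommGroup E] [Module k E] [FiniteDimensional k E]
    (A B : Submodule k E) (hAB : A ≤ B) (d : ℕ) (hA : Module.finrank k A ≤ d) (hB : d ≤ Module.finrank k B) :
    ∃ W, A ≤ W ∧ W ≤ B ∧ Module.finrank k W = d := by
  induction d, hA using Nat.le_induction with
  | base => exact ⟨A, le_rfl, hAB, rfl⟩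
  | succ d _ ih =>
    obtain ⟨W, h1, h2, h3⟩ := ih (by omega)
    obtain ⟨x, hxB, hxW⟩ : ∃ x ∈ B, x ∉ W := by
      by_contra hc
      push Not at hc
      have := Submodule.finrank_mono (show B ≤ W from hc)
      omega
    refine ⟨W ⊔ Submodule.span k {x}, h1.trans le_sup_left, sup_le h2 ((Submodule.span_singleton_le_iff_mem _ _).mpr hxB), ?_⟩
    have hx0 : x ≠ 0 := fun h => hxW (h ▸ W.zero_mem)
    have hd : W ⊓ Submodule.span k {x} = ⊥ := (Submodule.disjoint_span_singleton' hx0).mpr hxW |>.eq_bot
    have e := Submodule.finrank_sup_add_finrank_inf_eq W (Submodule.span k {x})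
    rw [hd, finrank_bot, finrank_span_singleton hx0, h3] at e
    omega

/-- Let k be a field, E₁ and E₂ finite-dimensional vector spaces over k of the same dimension, f : E₁ →
E₂ and g : E₂ → E₁ linear maps whose composite g ∘ f is multiplication by a scalar s, and V₁ a
subspace of E₁. Then there is a subspace V₂ of E₂ of the same dimension as V₁ with f(V₁) ≤ V₂ and
g(V₂) ≤ V₁. (The published statement is the surjectivity of the truncation morphisms of a linked
Grassmannian, with a further assertion on lifting families; this row is the lifting step over a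
field — over a point the chain of linked subspaces V_1, …, V_{n'} extends one index at a time — and
assumes only g ∘ f = s.) -/
theorem result (k : Type u) [Field k]
    (E₁ : Type v) (E₂ : Type w) [AddCommGroup E₁] [Module k E₁] [FiniteDimensional k E₁]
    [AddCommGroup E₂] [Module k E₂] [FiniteDimensional k E₂]
    (hdim : Module.finrank k E₁ = Module.finrank k E₂)
    (f : E₁ →ₗ[k] E₂) (g : E₂ →ₗ[k] E₁) (s : k) (hgf : g.comp f = s • LinearMap.id)
    (V₁ : Submodule k E₁) :
    ∃ V₂ : Submodule k E₂, Module.finrank k V₂ = Module.finrank k V₁ ∧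
      Submodule.map f V₁ ≤ V₂ ∧ Submodule.map g V₂ ≤ V₁ := by
  have h1 : Submodule.map f V₁ ≤ V₁.comap g := by
    rintro _ ⟨x, hx, rfl⟩
    have := LinearMap.congr_fun hgf x
    simp only [LinearMap.comp_apply, LinearMap.smul_apply, LinearMap.id_apply] at this
    rw [Submodule.mem_comap, this]
    exact V₁.smul_mem s hx
  have h2 : Module.finrank k (Submodule.map f V₁) ≤ Module.finrank k V₁ := Submodule.finrank_map_le f V₁
  have h3 : Module.finrank k V₁ ≤ Module.finrank k (V₁.comap g) := by
    have e1 := LinearMap.finrank_range_add_finrank_ker g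
    have e2 := LinearMap.finrank_range_add_finrank_ker (g.comp (V₁.comap g).subtype)
    have hk : Module.finrank k (LinearMap.ker (g.comp (V₁.comap g).subtype)) = Module.finrank k (LinearMap.ker g) := by
      rw [LinearMap.ker_comp]
      refine (Submodule.comapSubtypeEquivOfLe ?_).finrank_eq
      exact fun x hx => by simp [LinearMap.mem_ker.mp hx]
    have hr : LinearMap.range (g.comp (V₁.comap g).subtype) = LinearMap.range g ⊓ V₁ := by
      rw [LinearMap.range_comp, Submodule.range_subtype, Submodule.map_comap_eq]
    rw [hr] at e2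
    have e3 := Submodule.finrank_sup_add_finrank_inf_eq (LinearMap.range g) V₁
    have e4 := Submodule.finrank_le (LinearMap.range g ⊔ V₁)
    omega
  obtain ⟨W, hW1, hW2, hW3⟩ := exists_between' _ _ h1 _ h2 h3
  exact ⟨W, hW3, hW1, Submodule.map_le_iff_le_comap.mpr hW2⟩

end Groth.Agent.S13926
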