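import Groth.Statements.S1393
import Groth.Agent.FlatDescent.FibreFlat.Criterion

set_option autoImplicit false
universe u
open FlatMor

namespace Groth.Agent.S1393

open AlgebraicGeometry CategoryTheory Limits in
/-- Let f : X → S be of finite presentation, F a finitely presented quasi-coherent O_X-module and x a
point with image s. If F is flat over S at x and the stalk at x of the restriction of F to the
fibre, namely F_x / m_s F_x, is flat over the local ring of the fibre at x, namely O_{X,x} / m_s
O_{X,x}, then F is free of finite rank on some open neighbourhood of x. -/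
theorem result {X S : Scheme.{u}} (f : X ⟶ S) [LocallyOfFinitePresentation f] [QuasiCompact f] [QuasiSeparated f]
    (F : X.Modules) (hFq : Coh.IsQCoh F) (hFp : CohB1.IsFP F) (x : X) (h1 : FlatMod.IsFlatOverAt f F x)
    (h2 : Module.Flat (↑(X.presheaf.stalk x) ⧸ Ideal.map (f.stalkMap x).hom (IsLocalRing.maximalIdeal ↑(S.presheaf.stalk (f x))))
      (↑(F.presheaf.stalk x) ⧸ (Ideal.map (f.stalkMap x).hom (IsLocalRing.maximalIdeal ↑(S.presheaf.stalk (f x))) • (⊤ : Submodule ↑(X.presheaf.stalk x) ↑(F.presheaf.stalk x))))) :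
    ∃ (U : X.Opens) (n : ℕ), x ∈ U ∧ Nonempty (F.restrict U.ι ≅ FlatMod.freeMod (↑U) n) := by

  haveI : LocallyOfFinitePresentation (𝟙 X ≫ f) := by rw [Category.id_comp]; infer_instance
  refine Groth.FlatDescent.FibreFlat.exists_free_nhd F hFp x
    ((Groth.FlatDescent.FibreFlat.isFlatOverAt_id_iff F x).1
      ((Groth.FlatDescent.FibreFlat.flat_modFibFlat_iff (𝟙 X) f F hFp x).1 ⟨?_, ?_⟩))
  · have e : (𝟙 X ≫ f) = f := Category.id_comp f
    rw [e]
    exact h1
  · have e : FlatMod.moduleStalkOver (𝟙 X) F x = FlatMod.moduleStalk F x := by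
      refine Module.ext' _ _ fun r m => ?_
      exact congrArg (fun φ => φ.hom r • m) (Scheme.Hom.stalkMap_id X x)
    have key : ∀ m : Module (X.presheaf.stalk x) (F.presheaf.stalk x), m = FlatMod.moduleStalk F x →
        @Module.Flat (↑(X.presheaf.stalk x) ⧸ Groth.FlatDescent.maxExt f x)
          (↑(F.presheaf.stalk x) ⧸ (Groth.FlatDescent.maxExt f x • (⊤ : @Submodule ↑(X.presheaf.stalk x) ↑(F.presheaf.stalk x) _ _ m))) _ _ _ := by
      rintro _ rfl
      exact h2
    exact key _ e

end Groth.Agent.S1393
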