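import Groth.Statements.S13936
import Groth.Agent.PP16Lib.Basic
import Mathlib.RingTheory.Nilpotent.Lemmas

set_option autoImplicit false
universe u
open W4c1limliniiii
open scoped TensorProduct

namespace Groth.Agent.S13936

/-- Let R be a commutative ring, S_Y → S_X a homomorphism of R-algebras (an affine piece of a morphism f
: X → Y of schemes over Spec R) and σ : S_X → R an R-algebra retraction (a section of X over the
base) with kernel I. For e ≥ 1 write T^{e−1} for the augmentation ideal of the ring of principal
parts of order e − 1 (the kernel of P^{e−1} → the algebra; for e = 2 this is the module of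
differentials). Then the natural map T^{e−1}(S_Y/R) → T^{e−1}(S_X/R) takes values in I ·
T^{e−1}(S_X/R) — that is, the induced map f^*T^{e−1}_Y → T^{e−1}_X vanishes at the section σ — if
and only if every element of S_Y whose image in S_X lies in I has image in I^e, which says that the
fibre of f through σ contains the e-th order thickening of σ. (The published statement is for a
morphism of separated schemes over a base and sections over an arbitrary base change; this row is
the affine computation it reduces to.) -/
theorem result (R SY SX : Type u)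
    [CommRing R] [CommRing SY] [CommRing SX] [Algebra R SY] [Algebra R SX] [Algebra SY SX]
    [IsScalarTower R SY SX] (σ : SX →ₐ[R] R) (e : ℕ) (he : 1 ≤ e) :
    (∀ y ∈ PP16.augIdeal (e - 1) R SY,
        PP16.map (e - 1) R SY R SX y ∈
          RingHom.ker σ.toRingHom • (PP16.augIdeal (e - 1) R SX).restrictScalars SX) ↔
      (∀ b : SY, algebraMap SY SX b ∈ RingHom.ker σ.toRingHom →
        algebraMap SY SX b ∈ RingHom.ker σ.toRingHom ^ e) := by
  obtain ⟨n, rfl⟩ : ∃ n, e = n + 1 := ⟨e - 1, by omega⟩
  show (∀ y ∈ PP16.augIdeal n R SY, PP16.map n R SY R SX y ∈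
      RingHom.ker σ.toRingHom • (PP16.augIdeal n R SX).restrictScalars SX) ↔ _
  set I := RingHom.ker σ.toRingHom with hI
  set T := PP16.augIdeal n R SX with hT
  set W : Submodule SX (PP16.P n R SX) := I • T.restrictScalars SX with hW
  have hσ : ∀ x, x - algebraMap R SX (σ x) ∈ I := fun x => by
    rw [hI, RingHom.mem_ker]
    show σ (x - algebraMap R SX (σ x)) = 0
    rw [map_sub, AlgHom.commutes, Algebra.algebraMap_self_apply, sub_self]
  have hWmul : ∀ (q x : PP16.P n R SX), x ∈ W → q * x ∈ W := fun q x hx => by
    refine Submodule.smul_induction_on hx (fun r hr y hy => ?_) fun x y hx hy => by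
      rw [mul_add]; exact add_mem hx hy
    rw [mul_smul_comm]
    exact Submodule.smul_mem_smul hr (T.mul_mem_left q hy)
  constructor
  · intro h b hb
    let Q := SX ⧸ I ^ (n + 1)
    let l : SX →ₐ[R] Q := (IsScalarTower.toAlgHom R R Q).comp σ
    let φ : SX ⊗[R] SX →ₐ[R] Q :=
      Algebra.TensorProduct.lift l (Ideal.Quotient.mkₐ R (I ^ (n + 1))) fun _ _ => Commute.all _ _
    have hl : ∀ x, Ideal.Quotient.mk (I ^ (n + 1)) x - l x ∈ I.map (Ideal.Quotient.mk (I ^ (n + 1))) := fun x => by
      show Ideal.Quotient.mk (I ^ (n + 1)) x - Ideal.Quotient.mk (I ^ (n + 1)) (algebraMap R SX (σ x)) ∈ _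
      rw [← map_sub]
      exact Ideal.mem_map_of_mem _ (hσ x)
    have hker : KaehlerDifferential.ideal R SX ^ (n + 1) ≤ RingHom.ker φ := by
      have : KaehlerDifferential.ideal R SX ≤ (I.map (Ideal.Quotient.mk (I ^ (n + 1)))).comap φ :=
        PP16Lib.ideal_le_iff.mpr fun x => by
          rw [Ideal.mem_comap]
          simp only [PP16Lib.dlt, φ, map_sub, Algebra.TensorProduct.lift_tmul, map_one, one_mul, mul_one]
          exact hl x
      refine (Ideal.pow_right_mono this _).trans ((Ideal.le_comap_pow φ _).trans ?_)
      rw [PP16Lib.map_mk_pow_eq_bot]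
      exact le_rfl
    let Φ : PP16.P n R SX →ₐ[R] Q := Ideal.Quotient.liftₐ _ φ hker
    have hΦ : ∀ z, Φ (PP16Lib.mkP n R SX z) = φ z := fun z => rfl
    have hW0 : ∀ x ∈ W, Φ x = 0 := fun x hx => by
      refine Submodule.smul_induction_on hx (fun r hr y _ => ?_) fun x y hx hy => by
        rw [map_add, hx, hy, add_zero]
      · rw [Algebra.smul_def, map_mul, PP16Lib.algebraMap_apply, hΦ, Algebra.TensorProduct.lift_tmul]
        show l r * _ * _ = 0
        rw [show l r = 0 by
          show algebraMap R Q (σ r) = 0
          rw [show σ r = 0 from hr, map_zero], zero_mul, zero_mul]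
    have h0 := hW0 _ (h _ (PP16Lib.dn_sub_mem_augIdeal b))
    rw [map_sub (PP16.map n R SY R SX), PP16.map_dn, PP16.map_algebraMap, map_sub, PP16Lib.dn_apply,
      PP16Lib.algebraMap_apply, hΦ, hΦ, Algebra.TensorProduct.lift_tmul, Algebra.TensorProduct.lift_tmul,
      map_one, one_mul, map_one, mul_one, show l (algebraMap SY SX b) = 0 by
        show algebraMap R Q (σ _) = 0
        rw [show σ (algebraMap SY SX b) = 0 from hb, map_zero], sub_zero] at h0
    exact Ideal.Quotient.eq_zero_iff_mem.mp h0
  · intro h y hy
    let δ : SX → PP16.P n R SX := fun x => PP16.dn n R SX x - algebraMap SX (PP16.P n R SX) x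
    have hδT : ∀ x, δ x ∈ T := fun x => PP16Lib.dn_sub_mem_augIdeal x
    let V : ℕ → Submodule SX (PP16.P n R SX) := fun k => (T ^ k).restrictScalars SX ⊔ W
    have key : ∀ k, ∀ x ∈ I ^ (k + 1), δ x ∈ V (k + 1) := fun k => by
      induction k with
      | zero => exact fun x _ => Submodule.mem_sup_left (show δ x ∈ T ^ (0 + 1) by rw [zero_add, pow_one T]; exact hδT x)
      | succ k ih =>
        intro x hx
        rw [pow_succ] at hx
        refine Submodule.mul_induction_on hx (fun r hr s hs => ?_) fun a b ha hb => by
          have : δ (a + b) = δ a + δ b := by simp only [δ, map_add]; ring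
          rw [this]; exact add_mem ha hb
        have hr' : r ∈ I := Ideal.pow_le_self (Nat.succ_ne_zero k) hr
        have e : δ (r * s) = δ r * δ s + (r • δ s + s • δ r) := by
          simp only [δ, map_mul, Algebra.smul_def]; ring
        rw [e]
        refine add_mem ?_ (add_mem (Submodule.mem_sup_right (Submodule.smul_mem_smul hr' (hδT s)))
          (Submodule.mem_sup_right (Submodule.smul_mem_smul hs (hδT r))))
        obtain ⟨u, hu, w, hw, huw⟩ := Submodule.mem_sup.mp (ih r hr)
        rw [← huw, add_mul]
        refine Submodule.add_mem_sup ?_ ?_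
        · show u * δ s ∈ T ^ (k + 1 + 1)
          rw [pow_succ T]
          exact Ideal.mul_mem_mul hu (hδT s)
        · rw [mul_comm]
          exact hWmul _ _ hw
    have hgen : ∀ b : SY, δ (algebraMap SY SX b) ∈ W := fun b => by
      let c := algebraMap R SY (σ (algebraMap SY SX b))
      have hb : algebraMap SY SX (b - c) ∈ I := by
        rw [map_sub, ← IsScalarTower.algebraMap_apply]; exact hσ _
      have e : δ (algebraMap SY SX b) = δ (algebraMap SY SX (b - c)) := by
        simp only [δ, c, map_sub, ← IsScalarTower.algebraMap_apply, AlgHom.commutes]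
        ring
      rw [e]
      obtain ⟨u, hu, w, hw, huw⟩ := Submodule.mem_sup.mp (key n _ (h _ hb))
      rw [Submodule.restrictScalars_mem, hT, PP16Lib.augIdeal_pow, Ideal.mem_bot] at hu
      rwa [← huw, hu, zero_add]
    rw [PP16Lib.augIdeal_eq_span] at hy
    induction hy using Submodule.span_induction with
    | mem y hy =>
      obtain ⟨b, rfl⟩ := hy
      rw [map_sub, PP16.map_dn, PP16.map_algebraMap]
      exact hgen b
    | zero => rw [map_zero]; exact zero_mem _
    | add x y _ _ hx hy => rw [map_add]; exact add_mem hx hy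
    | smul a x _ hx => rw [smul_eq_mul, map_mul]; exact hWmul _ _ hx

end Groth.Agent.S13936
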