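import Groth.Statements.S13937
import Groth.Agent.RamPencil.ThreePoints
-- import your own Groth.Agent.* helpers here

set_option autoImplicit false
universe u
open W4c1limliniiii

namespace Groth.Agent.S13937

open Polynomial in
/-- Over an algebraically closed field of characteristic p (zero allowed), fix three distinct points
P_1, P_2, P_3 of the affine line and admissible indices (2 ≤ e_i ≤ d, e_i prime to p, ∑ (e_i − 1) =
2d − 2). The two-dimensional spaces V of polynomials of degree at most d that contain, for each i, a
non-zero member vanishing to order at least e_i at P_i (the intersection of the three Schubert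
cycles in the Grassmannian of pencils) form a projective space of some dimension m ≥ 0: there is a
non-zero linear space L of pairs of polynomials such that sending a non-zero pair (F, G) ∈ L to the
span of F and G is a surjection onto that set of spaces under which two non-zero pairs have the same
image exactly when they are proportional. -/
theorem result (k : Type u) [Field k]
    [IsAlgClosed k] (p : ℕ) [CharP k p] (d : ℕ) (P : Fin 3 → k) (hP : Function.Injective P)
    (e : Fin 3 → ℕ) (he : W4c1limliniiii.Admissible p d e) :
    ∃ L : Submodule k (k[X] × k[X]), L ≠ ⊥ ∧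
      (∀ v ∈ L, v ≠ 0 →
        Submodule.span k {v.1, v.2} ≤ Polynomial.degreeLE k d ∧
          Module.finrank k (Submodule.span k {v.1, v.2}) = 2 ∧
          ∀ i, ∃ s ∈ Submodule.span k {v.1, v.2}, s ≠ 0 ∧
            e i ≤ Polynomial.rootMultiplicity (P i) s) ∧
      (∀ V : Submodule k k[X], V ≤ Polynomial.degreeLE k d → Module.finrank k V = 2 →
        (∀ i, ∃ s ∈ V, s ≠ 0 ∧ e i ≤ Polynomial.rootMultiplicity (P i) s) →
          ∃ v ∈ L, v ≠ 0 ∧ Submodule.span k {v.1, v.2} = V) ∧
      (∀ v ∈ L, ∀ w ∈ L, v ≠ 0 → w ≠ 0 →
        Submodule.span k {v.1, v.2} = Submodule.span k {w.1, w.2} → ∃ c : k, w = c • v) := by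
  refine ⟨Groth.Agent.RamPencil.threeSpace d e P, Groth.Agent.RamPencil.threeSpace_ne_bot he,
    fun v hv hv0 => ?_, fun V hle hfr hmem => ?_, fun v hv w hw hv0 _ h =>
      Groth.Agent.RamPencil.span_eq_span he hP hv hw hv0 h⟩
  · obtain ⟨h1, h2, h3⟩ := Groth.Agent.RamPencil.threeSpace_span he hP hv hv0
    refine ⟨h1, h2, fun i => ?_⟩
    obtain ⟨s, hs, hs0, h⟩ := h3 i
    exact ⟨s, hs, hs0, (le_rootMultiplicity_iff hs0).mpr h⟩
  · exact Groth.Agent.RamPencil.exists_threeSpace he hP hle hfr fun i => by
      obtain ⟨s, hs, hs0, h⟩ := hmem i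
      exact ⟨s, hs, hs0, (le_rootMultiplicity_iff hs0).mp h⟩

end Groth.Agent.S13937
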