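import Groth.Statements.S1394
import Groth.Agent.QFCut.Basic
-- import your own Groth.Agent.* helpers here

set_option autoImplicit false
universe u
open FlatMor

namespace Groth.Agent.S1394

/-- Let A → B be a local homomorphism of local rings with A Noetherian, B essentially of finite type
over A, and the residue field of B finite over that of A. Let V ⊆ Spec B be an open subset
containing some prime that does not lie over the maximal ideal of A. Then V contains a prime q, not
lying over the maximal ideal of A, such that B/q is quasi-finite over A in the sense that every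
fibre ring of A → B/q is finite over the corresponding residue field of A. (The published statement
is stronger: there B/q is moreover a localization of a quasi-finite A-algebra of finite type, which
implies this.) -/
theorem result {A B : Type u} [CommRing A] [CommRing B] [IsLocalRing A] [IsLocalRing B] [IsNoetherianRing A]
    [Algebra A B] [IsLocalHom (algebraMap A B)] [Algebra.EssFiniteType A B]
    [Module.Finite (IsLocalRing.ResidueField A) (IsLocalRing.ResidueField B)]
    (V : Set (PrimeSpectrum B)) (hV : IsOpen V) (hne : ∃ q ∈ V, q.asIdeal.comap (algebraMap A B) ≠ IsLocalRing.maximalIdeal A) :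
    ∃ q ∈ V, q.asIdeal.comap (algebraMap A B) ≠ IsLocalRing.maximalIdeal A ∧ Algebra.QuasiFinite A (B ⧸ q.asIdeal) := by
  have : IsNoetherianRing B := Algebra.EssFiniteType.isNoetherianRing A B
  let cm : PrimeSpectrum B → PrimeSpectrum A := PrimeSpectrum.comap (algebraMap A B)
  let O : Set (PrimeSpectrum B) := V ∩ (cm ⁻¹' {IsLocalRing.closedPoint A})ᶜ
  have hO : IsOpen O := hV.inter
    ((IsLocalRing.isClosed_singleton_closedPoint A).preimage (PrimeSpectrum.continuous_comap _)).isOpen_compl
  obtain ⟨q₀, hq₀V, hq₀⟩ := hne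
  obtain ⟨Q, ⟨hQV, hQm⟩, hQmax⟩ := QFCut.exists_max_prime hO
    ⟨q₀, hq₀V, fun h => hq₀ (congrArg PrimeSpectrum.asIdeal h)⟩
  have hQm' : Q.asIdeal.comap (algebraMap A B) ≠ IsLocalRing.maximalIdeal A := fun h =>
    hQm (PrimeSpectrum.ext h)
  refine ⟨Q, hQV, hQm', ?_⟩
  let π := Ideal.Quotient.mk Q.asIdeal
  let B' := B ⧸ Q.asIdeal
  have : Nontrivial B' := Ideal.Quotient.nontrivial_iff.2 Q.2.ne_top
  have : IsLocalRing B' := .of_surjective' π Ideal.Quotient.mk_surjective
  let C := Algebra.EssFiniteType.subalgebra A B'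
  let M := Algebra.EssFiniteType.submonoid A B'
  let n : PrimeSpectrum C := PrimeSpectrum.comap (algebraMap C B') (IsLocalRing.closedPoint B')
  have hπm : (IsLocalRing.maximalIdeal B').comap π = IsLocalRing.maximalIdeal B :=
    IsLocalRing.eq_maximalIdeal (Ideal.comap_isMaximal_of_surjective _ Ideal.Quotient.mk_surjective)
  have hAm : (IsLocalRing.maximalIdeal B').comap (algebraMap A B') = IsLocalRing.maximalIdeal A := by
    rw [IsScalarTower.algebraMap_eq A B B', ← Ideal.comap_comap]
    exact (congrArg (Ideal.comap (algebraMap A B)) hπm).trans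
      ((IsLocalRing.local_hom_TFAE (algebraMap A B)).out 0 4 |>.1 ‹_›)
  have hnA : n.asIdeal.comap (algebraMap A C) = IsLocalRing.maximalIdeal A := by
    show ((IsLocalRing.maximalIdeal B').comap (algebraMap C B')).comap (algebraMap A C) = _
    rw [Ideal.comap_comap, ← IsScalarTower.algebraMap_eq, hAm]
  have hM : ∀ s ∈ M, IsUnit (algebraMap C B' s) := fun s hs => hs
  -- no generisation in the same fibre
  have hmin : ∀ n' : PrimeSpectrum C, n'.asIdeal ≤ n.asIdeal →
      n'.asIdeal.comap (algebraMap A C) = IsLocalRing.maximalIdeal A → n' = n := fun n' hle he => by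
    have hd : Disjoint (M : Set C) n'.asIdeal := Set.disjoint_left.2 fun s hs hsn =>
      (IsLocalRing.closedPoint B').2.ne_top
        (Ideal.eq_top_of_isUnit_mem _ (hle hsn) (hM s hs))
    let P : Ideal B' := n'.asIdeal.map (algebraMap C B')
    have hP : P.IsPrime := IsLocalization.isPrime_of_isPrime_disjoint M B' _ n'.2 hd
    have hPn : P.comap (algebraMap C B') = n'.asIdeal :=
      IsLocalization.under_map_of_isPrime_disjoint M B' n'.2 hd
    have hPA : P.comap (algebraMap A B') = IsLocalRing.maximalIdeal A := by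
      rw [IsScalarTower.algebraMap_eq A C B', ← Ideal.comap_comap, hPn, he]
    have hQP : Q.asIdeal ≤ P.comap π := fun x hx => by
      show π x ∈ P
      rw [Ideal.Quotient.eq_zero_iff_mem.2 hx]
      exact P.zero_mem
    rcases hQP.eq_or_lt with e | hlt
    · refine absurd ?_ hQm'
      rw [e, Ideal.comap_comap]
      exact hPA
    · have h1 := congrArg PrimeSpectrum.asIdeal (hQmax ⟨P.comap π, hP.comap π⟩ hlt)
      refine PrimeSpectrum.ext (hPn.symm.trans ?_)
      show P.comap _ = (IsLocalRing.maximalIdeal B').comap _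
      rw [Ideal.comap_injective_of_surjective π Ideal.Quotient.mk_surjective (h1.trans hπm.symm)]
  -- no specialisation
  have hmax : n.asIdeal.IsMaximal := by
    let L : B' →ₐ[A] IsLocalRing.ResidueField B :=
      Ideal.Quotient.liftₐ Q.asIdeal (IsScalarTower.toAlgHom A B (IsLocalRing.ResidueField B))
        (fun x hx => (IsLocalRing.residue_eq_zero_iff x).2 (IsLocalRing.le_maximalIdeal Q.2.ne_top hx))
    let ψ : C →ₐ[A] IsLocalRing.ResidueField B := L.comp C.val
    have hker : RingHom.ker ψ = n.asIdeal := by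
      ext c
      obtain ⟨b, hb⟩ := Ideal.Quotient.mk_surjective (c.1 : B')
      have h1 : ψ c = IsLocalRing.residue B b := by
        show L c.1 = _
        rw [← hb]
        rfl
      rw [RingHom.mem_ker, h1, IsLocalRing.residue_eq_zero_iff, ← hπm, Ideal.mem_comap]
      show π b ∈ _ ↔ (c.1 : B') ∈ IsLocalRing.maximalIdeal B'
      rw [← hb]
    have : Module.Finite A (IsLocalRing.ResidueField B) :=
      Module.Finite.trans (IsLocalRing.ResidueField A) _
    have : Module.Finite A (C ⧸ RingHom.ker ψ) :=
      Module.Finite.of_injective (Ideal.kerLiftAlg ψ).toLinearMap (Ideal.kerLiftAlg_injective ψ)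
    rw [← hker]
    have hp : (RingHom.ker ψ).IsPrime := hker ▸ n.2
    refine (Ideal.bot_quotient_isMaximal_iff _).1 ?_
    have := (Ideal.Quotient.isDomain_iff_prime _).2 hp
    have h0 : ((⊥ : Ideal (C ⧸ RingHom.ker ψ)).comap (algebraMap A _)).IsMaximal := by
      rw [IsScalarTower.algebraMap_eq A C (C ⧸ RingHom.ker ψ), ← Ideal.comap_comap]
      rw [show (⊥ : Ideal (C ⧸ RingHom.ker ψ)).comap (algebraMap C _) = n.asIdeal from
        (RingHom.ker_eq_comap_bot _).symm.trans (Ideal.mk_ker.trans hker), hnA]
      infer_instance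
    have := Algebra.IsIntegral.of_finite A (C ⧸ RingHom.ker ψ)
    have hbot : (⊥ : Ideal (C ⧸ RingHom.ker ψ)).IsPrime := @Ideal.isPrime_bot _ _ (Ideal.Quotient.nontrivial_iff.2 hp.ne_top) _
    exact @Ideal.isMaximal_of_isIntegral_of_isMaximal_comap A _ (C ⧸ RingHom.ker ψ) _ _ _ ⊥ hbot h0
  -- isolated in its fibre
  have hopen : IsOpen (X := .comap (algebraMap A C) ⁻¹' {n.comap (algebraMap A C)}) {⟨n, rfl⟩} := by
    let e := PrimeSpectrum.preimageOrderIsoFiber A C (n.comap (algebraMap A C))
    let eh := PrimeSpectrum.preimageHomeomorphFiber A C (n.comap (algebraMap A C))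
    have := isJacobsonRing_of_finiteType (A := (n.comap (algebraMap A C)).asIdeal.ResidueField)
      (B := (n.comap (algebraMap A C)).asIdeal.Fiber C)
    have := Algebra.FiniteType.isNoetherianRing (n.comap (algebraMap A C)).asIdeal.ResidueField
      ((n.comap (algebraMap A C)).asIdeal.Fiber C)
    rw [← eh.isOpen_image, Set.image_singleton]
    let np : ↑(PrimeSpectrum.comap (algebraMap A C) ⁻¹' {n.comap (algebraMap A C)}) := ⟨n, rfl⟩
    refine ((PrimeSpectrum.isOpen_singleton_tfae_of_isNoetherian_of_isJacobsonRing (eh np)).out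
      2 0 rfl rfl).1 ⟨?_, ?_⟩
    · rw [PrimeSpectrum.isClosed_singleton_iff_isMaximal, ← PrimeSpectrum.isMax_iff]
      intro w hw
      obtain ⟨⟨n', hn'⟩, rfl⟩ := e.surjective w
      have h2 : n.asIdeal ≤ n'.asIdeal := e.le_iff_le.1 hw
      exact e.le_iff_le.2 (hmax.eq_of_le n'.2.ne_top h2).ge
    · intro a b hba ha
      rw [Set.mem_singleton_iff] at ha ⊢
      subst ha
      obtain ⟨⟨n', hn'⟩, rfl⟩ := e.surjective b
      have h2 : n'.asIdeal ≤ n.asIdeal := e.le_iff_le.1 ((PrimeSpectrum.le_iff_specializes _ _).2 hba)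
      refine congrArg eh (Subtype.ext (hmin n' h2 ?_))
      exact (congrArg PrimeSpectrum.asIdeal hn').trans hnA
  have := Algebra.QuasiFiniteAt.of_isOpen_singleton_fiber (R := A) n hopen
  let f : Localization.AtPrime n.asIdeal →ₐ[A] B' :=
    IsLocalization.liftAlgHom (M := n.asIdeal.primeCompl) (f := IsScalarTower.toAlgHom A C B')
      fun s => IsLocalRing.notMem_maximalIdeal.1 s.2
  refine Algebra.QuasiFinite.of_surjective_algHom f fun x => ?_
  obtain ⟨c, s, rfl⟩ := IsLocalization.exists_mk'_eq M x
  have hs : (s : C) ∉ n.asIdeal := fun h =>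
    (IsLocalRing.closedPoint B').2.ne_top (Ideal.eq_top_of_isUnit_mem _ h (hM _ s.2))
  refine ⟨IsLocalization.mk' (M := n.asIdeal.primeCompl) _ c ⟨(s : C), hs⟩, ?_⟩
  show IsLocalization.lift _ _ = _
  rw [IsLocalization.lift_mk'_spec]
  show algebraMap C B' c = algebraMap C B' s * _
  rw [mul_comm, IsLocalization.mk'_spec]

end Groth.Agent.S1394
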