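import Mathlib
import Groth.Statements.S13953
-- import your own Groth.Agent.* helpers here

set_option autoImplicit false
universe u
open TateLoc

namespace Groth.Agent.S13953

/-- Let (R_i) be a family of local commutative rings and R = ∏ R_i. Any open cover of Spec R can be
refined by one coming from a finite partition of the index set: there is a map c from the index set
to a finite set such that, for each value m, the basic open subset of Spec R defined by the
idempotent which is 1 at the indices with c i = m and 0 elsewhere (this open is the spectrum of the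
product of the R_i over that class) is contained in some member of the cover. -/
theorem result {ι : Type u} (R : ι → Type u)
    [∀ i, CommRing (R i)] [∀ i, IsLocalRing (R i)] {J : Type u}
    (U : J → TopologicalSpace.Opens (PrimeSpectrum (∀ i, R i))) (hU : ⨆ j, U j = ⊤) :
    ∃ (n : ℕ) (c : ι → Fin n), ∀ m : Fin n, ∃ j : J,
      PrimeSpectrum.basicOpen (fun i => if c i = m then (1 : R i) else 0) ≤ U j := by
  classical
  let F : Set (∀ i, R i) := {f | ∃ j, PrimeSpectrum.basicOpen f ≤ U j}
  have hspan : Ideal.span F = ⊤ := by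
    by_contra hne
    obtain ⟨m, hm, hle⟩ := Ideal.exists_le_maximal _ hne
    let x : PrimeSpectrum (∀ i, R i) := ⟨m, hm.isPrime⟩
    obtain ⟨j, hj⟩ := TopologicalSpace.Opens.mem_iSup.1 (hU.ge (Set.mem_univ x))
    obtain ⟨_, ⟨f, rfl⟩, hxf, hfU⟩ := PrimeSpectrum.isTopologicalBasis_basic_opens.exists_subset_of_mem_open hj (U j).2
    exact hxf (hle (Ideal.subset_span ⟨j, hfU⟩))
  obtain ⟨t, ht, h1⟩ := Submodule.mem_span_finite_of_mem_span (hspan.ge (Submodule.mem_top (x := (1 : ∀ i, R i))))
  obtain ⟨a, -, ha⟩ := Submodule.mem_span_finset.1 h1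
  have hunit : ∀ i, ∃ f ∈ t, IsUnit (f i) := by
    intro i
    by_contra hcon
    push Not at hcon
    apply (IsLocalRing.maximalIdeal.isMaximal (R i)).ne_top
    rw [Ideal.eq_top_iff_one, ← show (∑ f ∈ t, a f • f) i = (1 : R i) from congrFun ha i, Finset.sum_apply]
    exact Ideal.sum_mem _ fun f hf => Ideal.mul_mem_left _ _ (hcon f hf)
  choose c hct hcu using hunit
  refine ⟨t.card, fun i => t.equivFin ⟨c i, hct i⟩, fun m => ?_⟩
  set f : ∀ i, R i := ↑(t.equivFin.symm m)
  obtain ⟨j, hj⟩ := ht (t.equivFin.symm m).2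
  refine ⟨j, le_trans ?_ hj⟩
  have hdvd : f ∣ (fun i => if t.equivFin ⟨c i, hct i⟩ = m then (1 : R i) else 0) := by
    refine ⟨fun i => if h : t.equivFin ⟨c i, hct i⟩ = m then (↑((hcu i).unit⁻¹) : R i) else 0, funext fun i => ?_⟩
    by_cases h : t.equivFin ⟨c i, hct i⟩ = m
    · have e : f = c i := by simp [f, ← h]
      simp only [Pi.mul_apply, if_pos h, dif_pos h, e]
      exact ((hcu i).mul_val_inv).symm
    · simp [h]
  intro x hx hfx
  exact hx (Ideal.mem_of_dvd _ hdvd hfx)

end Groth.Agent.S13953
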