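import Groth.Statements.S13958
import Mathlib


set_option autoImplicit false
universe u
open TateLoc

namespace Groth.Agent.S13958

open CategoryTheory in
/-- Let A' be a finitely generated abelian group (written multiplicatively, discrete) and A a subgroup.
If the image of x ∈ A' in the profinite completion of A' lies in the image of the profinite
completion of A under the map induced by the inclusion, then x ∈ A. (The published statement says
that the square formed by the two completion maps and the two inclusions is Cartesian; given the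
injectivity of the induced map on completions, which holds here, that amounts to this membership
criterion.) -/
theorem result (A' : Type u) [CommGroup A'] [Group.FG A']
    (A : Subgroup A') (x : A')
    (hx : ProfiniteGrp.ProfiniteCompletion.etaFn (GrpCat.of A') x ∈
      Set.range ⇑(ProfiniteGrp.profiniteCompletion.map (GrpCat.ofHom A.subtype)).hom) :
    x ∈ A := by
  by_contra hxA
  have hb : (QuotientGroup.mk x : A' ⧸ A) ≠ 1 := fun h => hxA ((QuotientGroup.eq_one_iff x).1 h)
  haveI : AddGroup.FG (Additive (A' ⧸ A)) := inferInstance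
  obtain ⟨n, ι, fι, p, hp, e, ⟨ψ⟩⟩ := AddCommGroup.equiv_free_prod_directSum_zmod (Additive (A' ⧸ A))
  classical
  have hv : ψ (Additive.ofMul (QuotientGroup.mk x : A' ⧸ A)) ≠ 0 := by
    rw [ne_eq, map_eq_zero_iff ψ ψ.injective]
    exact hb
  obtain ⟨T, _, _, χ, hχ⟩ : ∃ (T : Type) (_ : AddCommGroup T) (_ : Finite T) (χ : Additive (A' ⧸ A) →+ T),
      χ (Additive.ofMul (QuotientGroup.mk x : A' ⧸ A)) ≠ 0 := by
    by_cases h1 : (ψ (Additive.ofMul (QuotientGroup.mk x : A' ⧸ A))).1 = 0
    · haveI : ∀ i, NeZero (p i ^ e i) := fun i => ⟨pow_ne_zero _ (hp i).ne_zero⟩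
      refine ⟨_, inferInstance, Finite.of_equiv _ DFinsupp.equivFunOnFintype.symm,
        (AddMonoidHom.snd _ _).comp ψ.toAddMonoidHom, fun h2 => hv (Prod.ext h1 h2)⟩
    · obtain ⟨i, hi⟩ := Finsupp.ne_iff.1 h1
      set c : ℤ := (ψ (Additive.ofMul (QuotientGroup.mk x : A' ⧸ A))).1 i with hc
      refine ⟨ZMod (c.natAbs + 1), inferInstance, inferInstance,
        (Int.castAddHom (ZMod (c.natAbs + 1))).comp
          ((Finsupp.applyAddHom i).comp ((AddMonoidHom.fst _ _).comp ψ.toAddMonoidHom)), fun h2 => ?_⟩
      have h3 : ((c : ZMod (c.natAbs + 1))) = 0 := h2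
      rw [ZMod.intCast_zmod_eq_zero_iff_dvd, Int.natCast_dvd] at h3
      have hc0 : c.natAbs ≠ 0 := fun h => hi (Int.natAbs_eq_zero.1 h)
      have := Nat.le_of_dvd (Nat.pos_of_ne_zero hc0) h3
      omega
  let θ : A' →* Multiplicative T :=
    (AddMonoidHom.toMultiplicativeRight χ).comp (QuotientGroup.mk' A)
  haveI : θ.ker.FiniteIndex := inferInstance
  let H : FiniteIndexNormalSubgroup A' := { toSubgroup := θ.ker }
  obtain ⟨y, hy⟩ := hx
  let F := (ProfiniteGrp.profiniteCompletion.map (GrpCat.ofHom A.subtype))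
  have hη : ∀ a : A, F.hom (ProfiniteGrp.ProfiniteCompletion.etaFn (GrpCat.of A) a) =
      ProfiniteGrp.ProfiniteCompletion.etaFn (GrpCat.of A') (a : A') := fun a => by
    have := ProfiniteGrp.ProfiniteCompletion.lift_eta
      (GrpCat.ofHom A.subtype ≫ ProfiniteGrp.ProfiniteCompletion.eta (GrpCat.of A'))
    exact congrArg (fun g => g.hom a) this
  have hcst : (fun z => (F.hom z).1 H) = fun _ => (ProfiniteGrp.ProfiniteCompletion.etaFn (GrpCat.of A') 1).1 H := by
    refine (ProfiniteGrp.ProfiniteCompletion.denseRange (GrpCat.of A)).equalizer ?_ continuous_const ?_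
    · exact ((continuous_apply H).comp continuous_subtype_val).comp F.hom.continuous_toFun
    funext a
    show (F.hom _).1 H = _
    rw [hη a]
    show (QuotientGroup.mk (a : A') : A' ⧸ θ.ker) = QuotientGroup.mk 1
    refine QuotientGroup.eq.2 ?_
    rw [mul_one, inv_mem_iff, MonoidHom.mem_ker]
    show AddMonoidHom.toMultiplicativeRight χ (QuotientGroup.mk (a : A') : A' ⧸ A) = 1
    rw [(QuotientGroup.eq_one_iff _).2 a.2, map_one]
  have h4 : (QuotientGroup.mk x : A' ⧸ θ.ker) = QuotientGroup.mk 1 := by
    have h5 := congrFun hcst y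
    simp only at h5
    rw [show F.hom y = _ from hy] at h5
    exact h5
  rw [QuotientGroup.eq, mul_one, inv_mem_iff, MonoidHom.mem_ker] at h4
  exact hχ h4

end Groth.Agent.S13958
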