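import Mathlib
import Groth.Statements.S13963
-- import your own Groth.Agent.* helpers here

set_option autoImplicit false
universe u
open TateLoc

namespace Groth.Agent.S13963

/-- Let A' → A → A'' be continuous homomorphisms of locally compact, second-countable, Hausdorff abelian
topological groups which form a short exact sequence of abstract groups (the first injective, the
second surjective, image equal to kernel). If A' and A'' are compact, then A is compact. -/
theorem result (A' A A'' : Type u)
    [AddCommGroup A'] [TopologicalSpace A'] [IsTopologicalAddGroup A'] [SecondCountableTopology A'] [T2Space A']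
    [CompactSpace A']
    [AddCommGroup A] [TopologicalSpace A] [IsTopologicalAddGroup A] [LocallyCompactSpace A]
    [SecondCountableTopology A] [T2Space A]
    [AddCommGroup A''] [TopologicalSpace A''] [IsTopologicalAddGroup A''] [SecondCountableTopology A''] [T2Space A'']
    [CompactSpace A'']
    (f : A' →+ A) (g : A →+ A'') (hf : Continuous f) (hg : Continuous g)
    (hinj : Function.Injective f) (hsurj : Function.Surjective g) (hex : g.ker = f.range) :
    CompactSpace A := by
  have hopen : IsOpenMap g := g.isOpenMap_of_sigmaCompact hsurj hg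
  choose K hK hKn using fun a : A => exists_compact_mem_nhds a
  have hcov : (Set.univ : Set A'') ⊆ ⋃ a : A, g '' interior (K a) := fun y _ => by
    obtain ⟨a, rfl⟩ := hsurj y
    exact Set.mem_iUnion.2 ⟨a, a, mem_interior_iff_mem_nhds.2 (hKn a), rfl⟩
  obtain ⟨s, hs⟩ := isCompact_univ.elim_finite_subcover _ (fun a => hopen _ isOpen_interior) hcov
  have hc : IsCompact (⋃ a ∈ s, K a) := s.finite_toSet.isCompact_biUnion fun a _ => hK a
  refine ⟨?_⟩
  have := (hc.prod (isCompact_range hf)).image continuous_add
  convert this using 1
  refine Set.eq_univ_of_forall (fun x => ?_) |>.symm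
  obtain ⟨a, ha, c, hc', hca⟩ := Set.mem_iUnion₂.1 (hs (Set.mem_univ (g x)))
  have : x - c ∈ f.range := hex ▸ (show g (x - c) = 0 by rw [map_sub, hca, sub_self])
  obtain ⟨b, hb⟩ := this
  exact ⟨(c, f b), ⟨Set.mem_iUnion₂.2 ⟨a, ha, interior_subset hc'⟩, ⟨b, rfl⟩⟩, by simp [hb]⟩

end Groth.Agent.S13963
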