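import Groth.Statements.S13971
import Groth.Agent.S12322
import Groth.Agent.ArtFunLib.Schlessinger
import Mathlib.RingTheory.MvPowerSeries.Derivative

set_option autoImplicit false
universe u v
open CategoryTheory
open ArtFun

set_option backward.isDefEq.respectTransparency false
set_option maxHeartbeats 2000000

namespace Groth.Agent.S13971

open ArtFun ArtFun.Art IsLocalRing
open Groth.Agent.ArtFunLib Groth.Agent.DefAffHull

variable {k : Type u} [Field k]

theorem isLocalRing_tsze' (A M : Type u) [CommRing A] [IsLocalRing A] [AddCommGroup M] [Module A M]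
    [Module Aᵐᵒᵖ M] [IsCentralScalar A M] : IsLocalRing (TrivSqZeroExt A M) := by
  refine IsLocalRing.of_isUnit_or_isUnit_one_sub_self fun a => ?_
  rcases IsLocalRing.isUnit_or_isUnit_one_sub_self a.fst with h | h
  · exact Or.inl (TrivSqZeroExt.isUnit_iff_isUnit_fst.2 h)
  · exact Or.inr (TrivSqZeroExt.isUnit_iff_isUnit_fst.2 (by simpa using h))

/-- The split extension of `A` by a finite module. -/
@[reducible] noncomputable def tsArt (A : Art k k) (M : Type u) [AddCommGroup M] [Module (A : Type u) M]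
    [Module (A : Type u)ᵐᵒᵖ M] [IsCentralScalar (A : Type u) M] [Module k M] [IsScalarTower k (A : Type u) M]
    [IsScalarTower k (A : Type u)ᵐᵒᵖ M] [Module.Finite (A : Type u) M] : Art k k :=
  haveI : Module.Finite k A := finite_carrier A
  haveI : Module.Finite k M := Module.Finite.trans A M
  haveI : Module.Finite k (TrivSqZeroExt A M) := inferInstanceAs (Module.Finite k (A × M))
  { carrier := TrivSqZeroExt A M
    isLocalRing := isLocalRing_tsze' A M
    isArtinianRing := IsArtinianRing.of_finite k _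
    res := A.res.comp (TrivSqZeroExt.fstHom k A M)
    res_surjective := fun a => (A.res_surjective a).imp' TrivSqZeroExt.inl fun b hb => hb }

variable {d : ℕ}

theorem pderiv_mem_of_mem_sq {f : MvPowerSeries (Fin d) k}
    (hf : f ∈ maximalIdeal (MvPowerSeries (Fin d) k) ^ 2) (i : Fin d) :
    MvPowerSeries.pderiv k i f ∈ maximalIdeal (MvPowerSeries (Fin d) k) := by
  rw [sq] at hf
  refine Submodule.mul_induction_on hf (fun a ha b hb => ?_) fun a b ha hb => by rw [map_add]; exact add_mem ha hb
  rw [Derivation.leibniz, smul_eq_mul, smul_eq_mul]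
  exact add_mem (Ideal.mul_mem_right _ _ ha) (Ideal.mul_mem_right _ _ hb)

/-- An ideal without constants stable under all derivatives is zero. -/
theorem eq_bot_of_pderiv_mem [CharZero k] {J : Ideal (MvPowerSeries (Fin d) k)}
    (hJ : J ≤ maximalIdeal (MvPowerSeries (Fin d) k))
    (h : ∀ f ∈ J, ∀ i, MvPowerSeries.pderiv k i f ∈ J) : J = ⊥ := by
  classical
  rw [eq_bot_iff]
  intro f hf
  rw [Ideal.mem_bot]
  ext e
  rw [map_zero]
  suffices ∀ (n : ℕ) (e : Fin d →₀ ℕ), e.degree = n → ∀ f ∈ J, MvPowerSeries.coeff e f = 0 from this _ e rfl f hf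
  intro n
  induction n using Nat.strong_induction_on with
  | _ n ih =>
    intro e he f hf
    by_cases he0 : e = 0
    · subst he0
      rw [MvPowerSeries.coeff_zero_eq_constantCoeff_apply]
      by_contra hne
      exact (IsLocalRing.mem_maximalIdeal _).1 (hJ hf) (MvPowerSeries.isUnit_iff_constantCoeff.2 (Ne.isUnit hne))
    · obtain ⟨i, hi⟩ : ∃ i, e i ≠ 0 := by
        by_contra hc
        push Not at hc
        exact he0 (Finsupp.ext hc)
      have hle : Finsupp.single i 1 ≤ e := Finsupp.single_le_iff.2 (Nat.one_le_iff_ne_zero.2 hi)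
      have hdeg : (e - Finsupp.single i 1).degree < n := by
        have := congrArg Finsupp.degree (tsub_add_cancel_of_le hle)
        rw [map_add, Finsupp.degree_single] at this
        omega
      have h1 := ih _ hdeg _ rfl _ (h f hf i)
      rw [MvPowerSeries.coeff_pderiv, tsub_add_cancel_of_le hle] at h1
      exact (mul_eq_zero.1 h1).resolve_right (Nat.cast_add_one_ne_zero _)

/-- Let k be a field of characteristic zero and F a deformation functor on Artinian local k-algebras
with residue field k — F(k) is a point and the comparison map F(A₁ ×_A A₂) → F(A₁) ×_{F(A)} F(A₂) is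
bijective whenever A₂ → A is surjective — whose tangent space F(k[ε]) is finite-dimensional. Suppose
that for every object A and every surjective morphism q : A'' → A' between split square-zero
extensions of A (A' and A'' come with retractions onto A whose kernels have square zero and with
sections from A, and q commutes with the retractions and the sections), the map F(q) : F(A'') →
F(A') is surjective. Then F is unobstructed: F(B) → F(A) is surjective for every surjective B → A.
(The published statement is for deformation categories, with the hypothesis that, for every object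
over A, the functor M ↦ {isomorphism classes of its liftings to A ⊕ M} on finite A-modules carries
surjections to surjections; this row is the case of a category fibred in sets, for which a split
square-zero extension of A is A ⊕ M with M the kernel, a finite A-module, and that hypothesis is the
displayed surjectivity.) -/
theorem result {k : Type u} [Field k] [CharZero k]
    (F : ArtFun.Art k k ⥤ Type v) [ArtFun.TangentStr F]
    (h0 : ArtFun.H0 F)
    (hRS : (∀ ⦃B A A' A'' : ArtFun.Art k k⦄ (p' : B ⟶ A') (p'' : B ⟶ A'') (f' : A' ⟶ A) (f'' : A'' ⟶ A)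
        (h : ArtFun.Art.IsFibreProd p' p'' f' f''), Function.Surjective f'' → Function.Bijective (ArtFun.cmp F h)))
    (hfin : ArtFun.Hfin F)
    (hT1 : ∀ ⦃A A' A'' : ArtFun.Art k k⦄ (π' : A' ⟶ A) (i' : A ⟶ A') (π'' : A'' ⟶ A) (i'' : A ⟶ A'')
        (q : A'' ⟶ A'), i' ≫ π' = 𝟙 A → i'' ≫ π'' = 𝟙 A →
        RingHom.ker π'.toAlgHom * RingHom.ker π'.toAlgHom = ⊥ →
        RingHom.ker π''.toAlgHom * RingHom.ker π''.toAlgHom = ⊥ →
        q ≫ π' = π'' → i'' ≫ q = i' → Function.Surjective q → Function.Surjective (F.map q)) :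
    ArtFun.IsSmoothFunctor F := by
  classical
  haveI : Subsingleton (Derivation k k k) := subsingleton_derivation_of_surjective Function.surjective_id
  have hsub : ∀ σ τ : Art.base k k ⟶ Art.dual k k, σ = τ := fun σ τ =>
    hom_ext' fun c => (σ.toAlgHom.commutes c).trans (τ.toAlgHom.commutes c).symm
  obtain ⟨H⟩ := exists_hull h0 (fun _ _ _ _ p' p'' f' f'' hP hf => (hRS p' p'' f' f'' hP hf).2)
    (heps_of_rs hRS) hfin fun _ σ τ _ => hsub σ τ
  obtain ⟨d, Q, Φ, c, hΦ, hΦs, hsq, -, -⟩ := exists_presentation H.ring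
  refine smooth_of_ker_eq_bot H hΦ hΦs ?_
  let Ψ : MvPowerSeries (Fin d) k →ₐ[k] H.ring.carrier := Φ.comp Q.e.symm.toAlgHom
  have hΨ : Function.Surjective Ψ := hΦs.comp Q.e.symm.surjective
  let J : Ideal (MvPowerSeries (Fin d) k) := RingHom.ker Ψ
  have hJ : J ≤ maximalIdeal (MvPowerSeries (Fin d) k) ^ 2 := fun z hz => by
    have h1 : Q.e.symm z ∈ maximalIdeal Q.ring.carrier ^ 2 := hsq hz
    have h2 := Ideal.mem_map_of_mem Q.e.toAlgHom h1
    have h3 : (maximalIdeal Q.ring.carrier).map Q.e.toAlgHom ≤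
        maximalIdeal (MvPowerSeries (Fin d) k) := Ideal.map_le_iff_le_comap.2 fun a ha =>
      (IsLocalRing.mem_maximalIdeal _).2 fun hu => (IsLocalRing.mem_maximalIdeal _).1 ha
        ((MulEquiv.isUnit_map Q.e.toRingEquiv.toMulEquiv).1 hu)
    rw [Ideal.map_pow] at h2
    have h4 := Ideal.pow_right_mono h3 2 h2
    simpa using h4
  suffices hbot : J = ⊥ by
    rw [eq_bot_iff]
    intro a ha
    have h1 : Q.e a ∈ J := by
      change Φ (Q.e.symm (Q.e a)) = 0
      rw [Q.e.symm_apply_apply]
      exact ha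
    rw [hbot, Ideal.mem_bot] at h1
    exact Ideal.mem_bot.2 (Q.e.injective (h1.trans (map_zero _).symm))
  haveI : IsNoetherianRing (MvPowerSeries (Fin d) k) := S12322.noeth
  refine eq_bot_of_pderiv_mem (hJ.trans (Ideal.pow_le_self two_ne_zero)) fun f hf i => ?_
  -- enough to vanish in every truncation
  suffices key : ∀ n, Ψ (MvPowerSeries.pderiv k i f) ∈ CRing.mpow H.ring n by
    haveI := H.ring.isAdicComplete
    refine RingHom.mem_ker.2 (IsHausdorff.haus' (I := maximalIdeal H.ring.carrier) _ fun n => ?_)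
    rw [SModEq.zero, smul_eq_mul, Ideal.mul_top]
    exact Ideal.pow_le_pow_right n.le_succ (key n)
  intro n
  let A : Art k k := H.ring.trunc n
  let q : MvPowerSeries (Fin d) k →ₐ[k] A := (H.ring.truncHom n).1.comp Ψ
  have hqJ : ∀ g ∈ J, q g = 0 := fun g hg =>
    (congrArg (H.ring.truncHom n).1 (RingHom.mem_ker.1 hg)).trans (map_zero _)
  have hqres : ∀ g ∈ maximalIdeal (MvPowerSeries (Fin d) k), q g ∈ maximalIdeal (A : Type u) := fun g hg =>
    (Art.mem_maximalIdeal_iff A _).2 ((HilbLoc.Rep.mem_maximalIdeal_iff_res (A.res.comp q) g).1 hg)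
  suffices hq : q (MvPowerSeries.pderiv k i f) = 0 from Ideal.Quotient.eq_zero_iff_mem.1 hq
  let gr : MvPowerSeries (Fin d) k → Fin d → A := fun g j => q (MvPowerSeries.pderiv k j g)
  let W : Submodule A (Fin d → A) := Submodule.span A (gr '' J)
  have hW : W ≤ maximalIdeal (A : Type u) • (⊤ : Submodule A (Fin d → A)) := Submodule.span_le.2 (by
    rintro _ ⟨g, hg, rfl⟩
    rw [SetLike.mem_coe, pi_eq_sum_univ' (gr g)]
    exact Submodule.sum_mem _ fun j _ =>
      Submodule.smul_mem_smul (hqres _ (pderiv_mem_of_mem_sq (hJ hg) j)) Submodule.mem_top)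
  let T' : Art k k := tsArt A ((Fin d → A) ⧸ W)
  let T'' : Art k k := tsArt A (Fin d → A)
  let π' : T' ⟶ A := ⟨TrivSqZeroExt.fstHom k A _, AlgHom.ext fun z => rfl⟩
  let π'' : T'' ⟶ A := ⟨TrivSqZeroExt.fstHom k A _, AlgHom.ext fun z => rfl⟩
  let i' : A ⟶ T' := ⟨TrivSqZeroExt.inlAlgHom k A _, AlgHom.ext fun z => rfl⟩
  let i'' : A ⟶ T'' := ⟨TrivSqZeroExt.inlAlgHom k A _, AlgHom.ext fun z => rfl⟩
  let m : T'' ⟶ T' := ⟨(TrivSqZeroExt.map (W.mkQ)).restrictScalars k, AlgHom.ext fun z =>
    congrArg A.res (TrivSqZeroExt.fst_map W.mkQ z)⟩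
  have hsqz : ∀ {M : Type u} [AddCommGroup M] [Module (A : Type u) M] [Module (A : Type u)ᵐᵒᵖ M]
      [IsCentralScalar (A : Type u) M] (a b : TrivSqZeroExt A M), a.fst = 0 → b.fst = 0 → a * b = 0 :=
    fun {M} _ _ _ _ a b ha hb =>
      TrivSqZeroExt.ext (by simp [ha]) (by rw [TrivSqZeroExt.snd_mul, ha, hb]; simp)
  have hsur : Function.Surjective (F.map m) := by
    refine hT1 π' i' π'' i'' m rfl rfl ?_ ?_ (hom_ext' fun z => TrivSqZeroExt.fst_map W.mkQ z)
      (hom_ext' fun z => ?_) fun z => ?_
    · exact le_bot_iff.1 (Ideal.mul_le.2 fun a ha b hb => Ideal.mem_bot.2 (hsqz a b ha hb))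
    · exact le_bot_iff.1 (Ideal.mul_le.2 fun a ha b hb => Ideal.mem_bot.2 (hsqz a b ha hb))
    · exact TrivSqZeroExt.ext (TrivSqZeroExt.fst_map W.mkQ _)
        ((TrivSqZeroExt.snd_map W.mkQ _).trans (map_zero _))
    · obtain ⟨w, hw⟩ := W.mkQ_surjective (TrivSqZeroExt.snd (show TrivSqZeroExt A ((Fin d → A) ⧸ W) from z))
      exact ⟨(TrivSqZeroExt.fst (show TrivSqZeroExt A ((Fin d → A) ⧸ W) from z), w),
        TrivSqZeroExt.ext (TrivSqZeroExt.fst_map W.mkQ _) ((TrivSqZeroExt.snd_map W.mkQ _).trans hw)⟩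
  let θ : MvPowerSeries (Fin d) k →ₐ[k] TrivSqZeroExt A (Fin d → A) :=
    { toFun := fun g => (q g, gr g)
      map_one' := TrivSqZeroExt.ext (map_one q) (funext fun j => by
        change q (MvPowerSeries.pderiv k j 1) = 0
        rw [Derivation.map_one_eq_zero, map_zero])
      map_mul' := fun g g' => TrivSqZeroExt.ext (map_mul q g g') (by
        rw [TrivSqZeroExt.snd_mul, op_smul_eq_smul]
        funext j
        change q (MvPowerSeries.pderiv k j (g * g')) = q g * gr g' j + q g' * gr g j
        rw [Derivation.leibniz, map_add, smul_eq_mul, smul_eq_mul, map_mul, map_mul])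
      map_zero' := TrivSqZeroExt.ext (map_zero q) (funext fun j => by
        change q (MvPowerSeries.pderiv k j 0) = 0
        rw [map_zero, map_zero])
      map_add' := fun g g' => TrivSqZeroExt.ext (map_add q g g') (funext fun j => by
        change q (MvPowerSeries.pderiv k j (g + g')) = gr g j + gr g' j
        rw [map_add, map_add])
      commutes' := fun a => TrivSqZeroExt.ext (q.commutes a) (funext fun j => by
        change q (MvPowerSeries.pderiv k j (algebraMap k _ a)) = 0
        rw [Derivation.map_algebraMap, map_zero]) }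
  let θ' : MvPowerSeries (Fin d) k →ₐ[k] T' := m.toAlgHom.comp θ
  have hθJ : ∀ g ∈ J, θ' g = 0 := fun g hg => TrivSqZeroExt.ext
    ((TrivSqZeroExt.fst_map W.mkQ _).trans (hqJ g hg))
    ((TrivSqZeroExt.snd_map W.mkQ _).trans
      ((Submodule.Quotient.mk_eq_zero W).2 (Submodule.subset_span ⟨g, hg, rfl⟩)))
  let e : (MvPowerSeries (Fin d) k ⧸ J) ≃ₐ[k] H.ring.carrier := Ideal.quotientKerAlgEquivOfSurjective hΨ
  let χ₀ : H.ring.carrier →ₐ[k] T' := (Ideal.Quotient.liftₐ J θ' hθJ).comp e.symm.toAlgHom
  let χ : HomSet H.ring.carrier H.ring.res T' := ⟨χ₀, S12322.algHom_field_ext _ _⟩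
  have hχ : ∀ g, χ.1 (Ψ g) = θ' g := fun g => by
    change Ideal.Quotient.liftₐ J θ' hθJ (e.symm (Ψ g)) = _
    rw [show e.symm (Ψ g) = Ideal.Quotient.mk J g from (AlgEquiv.symm_apply_eq _).2 rfl]
    rfl
  obtain ⟨y, hy⟩ := hsur (H.family.app T' χ)
  have hms : Function.Surjective m := fun z => by
    obtain ⟨w, hw⟩ := W.mkQ_surjective (TrivSqZeroExt.snd (show TrivSqZeroExt A ((Fin d → A) ⧸ W) from z))
    exact ⟨(TrivSqZeroExt.fst (show TrivSqZeroExt A ((Fin d → A) ⧸ W) from z), w),
      TrivSqZeroExt.ext (TrivSqZeroExt.fst_map W.mkQ _) ((TrivSqZeroExt.snd_map W.mkQ _).trans hw)⟩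
  obtain ⟨ψ, hψ, -⟩ := H.miniversal.1 m hms χ y hy
  let φ : MvPowerSeries (Fin d) k →ₐ[k] T'' := ψ.1.comp Ψ
  have hmφ : ∀ g, m (φ g) = θ' g := fun g =>
    (DFunLike.congr_fun (congrArg Subtype.val hψ) (Ψ g)).trans (hχ g)
  let v : Fin d → Fin d → A := fun j => TrivSqZeroExt.snd (φ (MvPowerSeries.X j) : TrivSqZeroExt A (Fin d → A))
  let L : (Fin d → A) →ₗ[A] Fin d → A := Fintype.linearCombination A v
  have hfst : ∀ g, TrivSqZeroExt.fst (φ g : TrivSqZeroExt A (Fin d → A)) = q g := fun g =>
    (TrivSqZeroExt.fst_map W.mkQ (φ g)).symm.trans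
      ((congrArg (TrivSqZeroExt.fst (R := A)) (hmφ g)).trans (TrivSqZeroExt.fst_map W.mkQ _))
  have hgrX : ∀ j, gr (MvPowerSeries.X j) = Pi.single j 1 := fun j => funext fun l => by
    rcases eq_or_ne l j with rfl | hne
    · change q (MvPowerSeries.pderiv k l (MvPowerSeries.X l)) = _
      rw [MvPowerSeries.pderiv_X_self, map_one, Pi.single_eq_same]
    · change q (MvPowerSeries.pderiv k l (MvPowerSeries.X j)) = _
      rw [MvPowerSeries.pderiv_X_of_ne hne.symm, map_zero, Pi.single_eq_of_ne hne]
  have hLsur : Function.Surjective L := by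
    rw [← LinearMap.range_eq_top, ← top_le_iff]
    refine Submodule.le_of_le_smul_of_le_jacobson_bot (Module.Finite.fg_top)
      (IsLocalRing.maximalIdeal_le_jacobson _) ?_
    rintro z -
    rw [pi_eq_sum_univ' z]
    refine Submodule.sum_mem _ fun j _ => Submodule.smul_mem _ _ ?_
    have h1 : v j - Pi.single j 1 ∈ W := by
      rw [← hgrX, ← Submodule.Quotient.eq]
      refine ((TrivSqZeroExt.snd_map W.mkQ _).symm.trans
        (congrArg (TrivSqZeroExt.snd (R := A)) (hmφ (MvPowerSeries.X j)))).trans ?_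
      exact TrivSqZeroExt.snd_map W.mkQ _
    rw [← sub_sub_cancel (v j) (Pi.single j 1)]
    refine sub_mem (Submodule.mem_sup_left ⟨Pi.single j 1, ?_⟩) (Submodule.mem_sup_right (hW h1))
    rw [Fintype.linearCombination_apply_single, one_smul]
  have hLinj : Function.Injective L := OrzechProperty.injective_of_surjective_endomorphism L hLsur
  have heq : φ = ((TrivSqZeroExt.map L).restrictScalars k).comp θ := by
    refine (S12322.existsUnique_hom d T'' (fun j => φ (MvPowerSeries.X j)) fun j => ?_).unique (fun j => rfl)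
      fun j => ?_
    · exact (HilbLoc.Rep.mem_maximalIdeal_iff_res (T''.res.comp φ) _).1
        ((IsLocalRing.mem_maximalIdeal _).2 fun h => by simpa using MvPowerSeries.isUnit_iff_constantCoeff.1 h)
    · refine TrivSqZeroExt.ext ((TrivSqZeroExt.fst_map L _).trans (hfst _).symm) ?_
      refine (TrivSqZeroExt.snd_map L _).trans ?_
      change L (gr (MvPowerSeries.X j)) = v j
      rw [hgrX, Fintype.linearCombination_apply_single, one_smul]
  have h1 : L (gr f) = 0 := by
    have h2 : φ f = 0 := (congrArg ψ.1 (RingHom.mem_ker.1 hf)).trans (map_zero _)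
    rw [heq] at h2
    exact (TrivSqZeroExt.snd_map L _).symm.trans (congrArg (TrivSqZeroExt.snd (R := A)) h2)
  exact congrFun (hLinj (h1.trans (map_zero L).symm)) i


end Groth.Agent.S13971
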