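import Groth.Statements.S13972
import Groth.Agent.KoszulLift.Nilpotent
import Groth.Agent.ArtinFlat.RegSeq

set_option autoImplicit false
universe u
open LCI

namespace Groth.Agent.S13972

/-- Let A' be an Artinian local ring, I a proper ideal of A', A = A'/I, R' a Noetherian A'-algebra flat
over A' and R = R'/IR'. Let f₁, …, f_r ∈ R be a Koszul-regular sequence (its Koszul complex is
acyclic in nonzero degrees) such that R/(f₁, …, f_r) is flat over A. Then: (1) for every choice of
lifts f'₁, …, f'_r ∈ R' of the f_i, the quotient R'/(f'₁, …, f'_r) is flat over A' and f'₁, …, f'_r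
is a Koszul-regular sequence in R'; (2) if J' ⊆ R' is an ideal with R'/J' flat over A' whose image
in R is the ideal (f₁, …, f_r), then J' is generated by any lifts f'₁, …, f'_r ∈ J' of the f_i. (The
published statement takes R' = R₀ ⊗_Λ A' for a flat Λ-algebra R₀ and a surjection A' → A of Artinian
local Λ-algebras; this row assumes only that R' is Noetherian and flat over A' and that I is a
proper ideal, which is what its proof uses. Regularity of a sequence is taken there in every
localization at a prime containing the ideal it generates, which over a Noetherian ring is the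
Koszul-acyclicity used in the proof and stated here.) -/
theorem result
    {A' : Type u} [CommRing A'] [IsLocalRing A'] [IsArtinianRing A'] (I : Ideal A') (hI : I ≠ ⊤)
    {R' : Type u} [CommRing R'] [Algebra A' R'] [IsNoetherianRing R'] [Module.Flat A' R']
    (r : ℕ) (f : Fin r → R' ⧸ I.map (algebraMap A' R'))
    (hf : LCI.IsKoszulRegularSeq (R' ⧸ I.map (algebraMap A' R')) (List.ofFn f))
    [Module.Flat (A' ⧸ I) ((R' ⧸ I.map (algebraMap A' R')) ⧸ Ideal.span (Set.range f))] :
    (∀ f' : Fin r → R', (∀ i, Ideal.Quotient.mk (I.map (algebraMap A' R')) (f' i) = f i) →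
        Module.Flat A' (R' ⧸ Ideal.span (Set.range f')) ∧ LCI.IsKoszulRegularSeq R' (List.ofFn f')) ∧
    (∀ (J' : Ideal R'), Module.Flat A' (R' ⧸ J') →
        J'.map (Ideal.Quotient.mk (I.map (algebraMap A' R'))) = Ideal.span (Set.range f) →
        ∀ f' : Fin r → R', (∀ i, f' i ∈ J') →
          (∀ i, Ideal.Quotient.mk (I.map (algebraMap A' R')) (f' i) = f i) →
          J' = Ideal.span (Set.range f')) := by
  obtain ⟨N, hN⟩ : IsNilpotent I := by
    have h : I ≤ (⊥ : Ideal A').jacobson :=
      (IsLocalRing.le_maximalIdeal hI).trans (IsLocalRing.maximalIdeal_le_jacobson _)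
    obtain ⟨c, hc⟩ := IsArtinianRing.isNilpotent_jacobson_bot (R := A')
    exact ⟨c, eq_bot_iff.2 ((Ideal.pow_right_mono h c).trans hc.le)⟩
  have key : ∀ f' : Fin r → R', (∀ i, Ideal.Quotient.mk (I.map (algebraMap A' R')) (f' i) = f i) →
      Module.Flat A' (R' ⧸ Ideal.span (Set.range f')) ∧ LCI.IsKoszulRegularSeq R' (List.ofFn f') := by
    intro f' hf'
    have hlist : (List.ofFn f').map (Ideal.Quotient.mk (I.map (algebraMap A' R'))) = List.ofFn f := by
      rw [List.map_ofFn]; exact congrArg List.ofFn (funext hf')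
    obtain ⟨h1, h2⟩ := KoszulLift.lift_nilpotent (A0 := A' ⧸ I) (B0 := R' ⧸ (I.map (algebraMap A' R'))) N A' R' (Ideal.Quotient.mk I)
      (Ideal.Quotient.mk (I.map (algebraMap A' R'))) Ideal.Quotient.mk_surjective Ideal.Quotient.mk_surjective (fun a => rfl)
      (by rw [Ideal.mk_ker, Ideal.mk_ker]) (by rw [Ideal.mk_ker]; exact hN) (List.ofFn f')
      (by rw [hlist]; exact hf) (by rw [hlist, ArtinFlat.ofList_ofFn]; infer_instance)
    rw [ArtinFlat.ofList_ofFn] at h2
    exact ⟨h2, h1⟩
  refine ⟨key, fun J' hJ' hmap f' hmem hf' => ?_⟩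
  set L := Ideal.span (Set.range f')
  have hL : L ≤ J' := Ideal.span_le.2 (by rintro _ ⟨i, rfl⟩; exact hmem i)
  refine le_antisymm ?_ hL
  have hstep : J' ≤ L ⊔ J' * (I.map (algebraMap A' R')) := fun x hx => by
    have h1 : Ideal.Quotient.mk (I.map (algebraMap A' R')) x ∈ L.map (Ideal.Quotient.mk (I.map (algebraMap A' R'))) := by
      rw [Ideal.map_span, ← Set.range_comp, show (Ideal.Quotient.mk (I.map (algebraMap A' R'))) ∘ f' = f from funext hf', ← hmap]
      exact Ideal.mem_map_of_mem _ hx
    rw [← Ideal.mem_comap, Ideal.comap_map_of_surjective _ Ideal.Quotient.mk_surjective,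
      ← RingHom.ker_eq_comap_bot, Ideal.mk_ker, Submodule.mem_sup] at h1
    obtain ⟨l, hl, y, hy, rfl⟩ := h1
    refine Submodule.mem_sup.2 ⟨l, hl, y, ?_, rfl⟩
    exact ArtinFlat.mem_smul_of_flat_quotient J' I hy (by simpa using sub_mem hx (hL hl))
  have hk : ∀ k : ℕ, J' ≤ L ⊔ (I.map (algebraMap A' R')) ^ k := by
    intro k
    induction k with
    | zero => simp
    | succ k ih =>
      refine hstep.trans (sup_le le_sup_left ((Ideal.mul_mono_left ih).trans ?_))
      rw [Ideal.sup_mul, pow_succ]
      exact sup_le (Ideal.mul_le_left.trans le_sup_left) le_sup_right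
  refine (hk N).trans (sup_le le_rfl ?_)
  rw [← Ideal.map_pow, hN, show (0 : Ideal A') = ⊥ from rfl, Ideal.map_bot]
  exact bot_le

end Groth.Agent.S13972
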