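import Groth.Statements.S13978
import Groth.Agent.ArtFunLib.Criteria
import Groth.Agent.ArtFunLib.Trunc
import Groth.Agent.ArtFunLib.Separable
import Mathlib

set_option autoImplicit false
universe u v
open CategoryTheory
open scoped TensorProduct
open ArtFun ArtFun.ObsTheory

namespace Groth.Agent.S13978

/-- For obstruction theories of functors in the vector-space form, let k be a field, F a functor on
Artinian local k-algebras with residue field k and (V, ω) an obstruction theory for F — for each
surjection p : C' → C whose kernel J is killed by the maximal ideal and each u ∈ F(C) an obstruction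
ω(p, u) ∈ V ⊗_k J, zero exactly when u lifts, and compatible with replacing C' → C by C'/K → C for
ideals K ≤ J. Let Ω ⊆ V be the subspace spanned by the obstructions along tiny extensions (those p
whose kernel is one-dimensional), transported into V by the isomorphisms V ⊗ J ≅ V coming from
linear isomorphisms J ≅ k. Then for every p and u the obstruction ω(p, u) lies in the image of Ω ⊗_k
J → V ⊗_k J. (The published statement is for deformation categories and obstruction theories
functorial along all morphisms of extensions; this row assumes functoriality along quotients C'/K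
only, which is all its proof uses, and no condition on F.) -/
theorem result {k : Type u} [Field k]
    {F : ArtFun.Art k k ⥤ Type v} {V : Type u} [AddCommGroup V] [Module k V]
    (T : ArtFun.ObsTheory F V) {C' C : ArtFun.Art k k} (p : C' ⟶ C) (hp : ArtFun.Art.IsSemismallExt p)
    (u : F.obj C) :
    T.obs p hp u ∈ LinearMap.range (LinearMap.rTensor (↥(RingHom.ker p.toAlgHom))
      (Submodule.span k {v : V | ∃ (B' B : ArtFun.Art k k) (t : B' ⟶ B) (ht : ArtFun.Art.IsSmallExt t)
          (w : F.obj B) (φ : ↥(RingHom.ker t.toAlgHom) ≃ₗ[k] k),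
          v = TensorProduct.rid k V (LinearMap.lTensor V φ.toLinearMap (T.obs t ht.isSemismallExt w))}).subtype) := by
  open Groth.Agent.ArtFunLib ArtFun ArtFun.Art ArtFun.CRing in
  classical
  set Ω := Submodule.span k {v : V | ∃ (B' B : ArtFun.Art k k) (t : B' ⟶ B) (ht : ArtFun.Art.IsSmallExt t)
          (w : F.obj B) (φ : ↥(RingHom.ker t.toAlgHom) ≃ₗ[k] k),
          v = TensorProduct.rid k V (LinearMap.lTensor V φ.toLinearMap (T.obs t ht.isSemismallExt w))}
  set o := T.obs p hp u
  have hsmul : ∀ (c : C') (x : RingHom.ker p.toAlgHom), c * (x : C') = C'.res c • (x : C') := fun c x => by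
    have h1 : (c - algebraMap k C' (C'.res c)) * (x : C') = 0 := by
      have := Ideal.mul_mem_mul ((Art.mem_maximalIdeal_iff C' _).mpr
        (show C'.res (c - algebraMap k C' (C'.res c)) = 0 by rw [map_sub, AlgHom.commutes]; exact sub_self _)) x.2
      rwa [hp.2, Ideal.mem_bot] at this
    rw [sub_mul, sub_eq_zero] at h1
    rw [h1, Algebra.smul_def]
  have key : ∀ l : (RingHom.ker p.toAlgHom) →ₗ[k] k,
      TensorProduct.rid k V (LinearMap.lTensor V l o) ∈ Ω := by
    intro l
    by_cases hl : l = 0
    · rw [hl, LinearMap.lTensor_zero, LinearMap.zero_apply, map_zero]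
      exact zero_mem _
    let K : Ideal C' :=
      { carrier := {x | ∃ h : x ∈ RingHom.ker p.toAlgHom, l ⟨x, h⟩ = 0}
        add_mem' := fun {x y} ⟨hx, hx'⟩ ⟨hy, hy'⟩ => ⟨add_mem hx hy, by
          rw [show (⟨x + y, add_mem hx hy⟩ : RingHom.ker p.toAlgHom) = ⟨x, hx⟩ + ⟨y, hy⟩ from rfl, map_add, hx', hy', add_zero]⟩
        zero_mem' := ⟨zero_mem _, map_zero l⟩
        smul_mem' := fun c x ⟨hx, hx'⟩ => ⟨Ideal.mul_mem_left _ c hx, by
          rw [show (⟨c • x, Ideal.mul_mem_left _ c hx⟩ : RingHom.ker p.toAlgHom) = C'.res c • ⟨x, hx⟩ from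
            Subtype.ext (hsmul c ⟨x, hx⟩), map_smul, hx', smul_zero]⟩ }
    have hKJ : K ≤ RingHom.ker p.toAlgHom := fun x hx => hx.1
    have hK : K ≤ IsLocalRing.maximalIdeal C' := hKJ.trans (ker_le_maximalIdeal p)
    set t := quotFactor hK p hKJ
    have hmem : ∀ {x : C'} (hx : x ∈ RingHom.ker p.toAlgHom), (Ideal.Quotient.mk K x) ∈ RingHom.ker t.toAlgHom :=
      fun hx => hx
    obtain ⟨j₀, hj₀⟩ : ∃ j, l j ≠ 0 := by
      by_contra h
      push Not at h
      exact hl (LinearMap.ext h)
    let π := (kerToQuot hK p hKJ).restrictScalars k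
    have hπ : ∀ j : RingHom.ker p.toAlgHom, (π j : C'.quot K hK) = Ideal.Quotient.mk K (j : C') := fun j => rfl
    have hπs : Function.Surjective π := fun y => by
      obtain ⟨x, hx⟩ := Ideal.Quotient.mk_surjective (y : C'.quot K hK)
      have hxk : x ∈ RingHom.ker p.toAlgHom := by
        have := y.2
        rw [← hx] at this
        exact this
      exact ⟨⟨x, hxk⟩, Subtype.ext hx⟩
    have hker : LinearMap.ker π = LinearMap.ker l := by
      ext j
      rw [LinearMap.mem_ker, LinearMap.mem_ker, ← Subtype.coe_inj, hπ]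
      exact Ideal.Quotient.eq_zero_iff_mem.trans ⟨fun h => h.2, fun h => ⟨j.2, h⟩⟩
    have hls : Function.Surjective l := fun a => ⟨(a / l j₀) • j₀, by rw [map_smul, smul_eq_mul, div_mul_cancel₀ _ hj₀]⟩
    let φ : (RingHom.ker t.toAlgHom) ≃ₗ[k] k :=
      ((π.quotKerEquivOfSurjective hπs).symm.trans (Submodule.quotEquivOfEq _ _ hker)).trans
        (l.quotKerEquivOfSurjective hls)
    have hφ : φ.toLinearMap ∘ₗ π = l := LinearMap.ext fun j => by
      change (l.quotKerEquivOfSurjective hls) ((Submodule.quotEquivOfEq _ _ hker) ((π.quotKerEquivOfSurjective hπs).symm (π j))) = l j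
      rw [show (π.quotKerEquivOfSurjective hπs).symm (π j) = Submodule.Quotient.mk j from
        (LinearEquiv.symm_apply_eq _).mpr rfl]
      rfl
    have ht : IsSmallExt t := by
      refine ⟨fun y => (hp.1 y).imp' (Ideal.Quotient.mk K) fun x hx => hx, fun hbot => ?_,
        ⟨⟨(π j₀ : C'.quot K hK), ?_⟩⟩, ?_⟩
      · refine hj₀ ?_
        rw [← hφ, LinearMap.comp_apply, show π j₀ = 0 from Subtype.ext ((Ideal.mem_bot.mp (hbot ▸ (π j₀).2 :
          (π j₀ : C'.quot K hK) ∈ (⊥ : Ideal (C'.quot K hK))))), map_zero]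
      · refine le_antisymm (fun y hy => ?_) ((Ideal.span_singleton_le_iff_mem _).mpr (π j₀).2)
        obtain ⟨j, hj⟩ := hπs ⟨y, hy⟩
        obtain rfl : (π j : C'.quot K hK) = y := congrArg Subtype.val hj
        refine Ideal.mem_span_singleton'.mpr ⟨Ideal.Quotient.mk K (algebraMap k C' (l j / l j₀)), ?_⟩
        refine (map_mul (Ideal.Quotient.mk K) _ _).symm.trans (Ideal.Quotient.eq.mpr ?_)
        refine ⟨sub_mem (Ideal.mul_mem_left _ _ j₀.2) j.2, ?_⟩
        rw [show (⟨_, sub_mem (Ideal.mul_mem_left _ _ j₀.2) j.2⟩ : RingHom.ker p.toAlgHom) = (l j / l j₀) • j₀ - j from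
          Subtype.ext (by simp [Algebra.smul_def]), map_sub, map_smul, smul_eq_mul, div_mul_cancel₀ _ hj₀, sub_self]
      · refine le_bot_iff.mp (Ideal.mul_le.mpr fun a ha b hb => ?_)
        obtain ⟨x, rfl⟩ := Ideal.Quotient.mk_surjective a
        obtain ⟨j, hj⟩ := hπs ⟨b, hb⟩
        obtain rfl : (π j : C'.quot K hK) = b := congrArg Subtype.val hj
        refine Ideal.mem_bot.mpr ?_
        refine (map_mul (Ideal.Quotient.mk K) _ _).symm.trans ?_
        rw [hsmul, show C'.res x = 0 from (Art.mem_maximalIdeal_iff (C'.quot K hK) _).mp ha, zero_smul, map_zero]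
        rfl
    refine Submodule.subset_span ⟨_, _, t, ht, u, φ, ?_⟩
    rw [T.obs_quot p hp K hK hKJ ht.isSemismallExt u, ← LinearMap.comp_apply, ← LinearMap.lTensor_comp]
    exact congrArg (fun f => TensorProduct.rid k V (LinearMap.lTensor V f o)) hφ.symm
  have : Module.Finite k ↥(RingHom.ker p.toAlgHom) :=
    inferInstanceAs (Module.Finite k ↥((RingHom.ker p.toAlgHom).restrictScalars k))
  let b := Module.finBasis k ↥(RingHom.ker p.toAlgHom)
  have ho : o = ∑ i, TensorProduct.rid k V (LinearMap.lTensor V (b.coord i) o) ⊗ₜ[k] b i := by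
    induction o using TensorProduct.induction_on with
    | zero => simp
    | tmul v j =>
      simp only [LinearMap.lTensor_tmul, TensorProduct.rid_tmul, TensorProduct.smul_tmul, ← TensorProduct.tmul_sum]
      exact congrArg _ (b.sum_repr j).symm
    | add x y hx hy =>
      simp only [map_add, TensorProduct.add_tmul, Finset.sum_add_distrib]
      rw [← hx, ← hy]
  rw [ho]
  exact Submodule.sum_mem _ fun i _ => ⟨⟨_, key (b.coord i)⟩ ⊗ₜ[k] b i, LinearMap.rTensor_tmul _ _ _ _⟩

end Groth.Agent.S13978
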