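import Groth.Statements.S13981
import Groth.Agent.ArtFunLib.Criteria
import Groth.Agent.ArtFunLib.Trunc
import Groth.Agent.ArtFunLib.Separable
import Groth.Agent.ArtFunLib.Completion
import Mathlib

set_option autoImplicit false
universe u v
open CategoryTheory
open ArtFun

namespace Groth.Agent.S13981

/-- Let F be a functor on Artinian local Λ-algebras with residue field k (Λ Noetherian, Λ → k finite and
surjective) satisfying (RS) — the comparison map for A₁ ×_A A₂ is bijective whenever A₂ → A is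
surjective — and let ξ be a versal family of F over a complete local Noetherian Λ-algebra R with
residue field k. Then the lifting property defining versality also holds along surjections of
complete local Noetherian algebras: if g : A' → A is such a surjection, η' is a formal element of F
over A' (a compatible system over the truncations A'/m^(n+1)) and φ : R → A is a map under which the
formal element of ξ becomes the pushforward of η' along g, then φ lifts to ψ : R → A' with g ∘ ψ = φ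
and with ξ inducing η' along ψ. (The published statement takes Λ complete local Noetherian with
residue field k; its proof does not use completeness of Λ, and this row assumes only Λ Noetherian
with Λ → k surjective.) -/
theorem result {Λ : Type u} {k : Type u} [CommRing Λ] [Field k]
    [Algebra Λ k] [IsNoetherianRing Λ] [Module.Finite Λ k] (hΛ : Function.Surjective (algebraMap Λ k))
    {F : ArtFun.Art Λ k ⥤ Type v}
    (hRS : ∀ ⦃B A A₁ A₂ : ArtFun.Art Λ k⦄ (p₁ : B ⟶ A₁) (p₂ : B ⟶ A₂) (f₁ : A₁ ⟶ A) (f₂ : A₂ ⟶ A)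
        (h : ArtFun.Art.IsFibreProd p₁ p₂ f₁ f₂), Function.Surjective f₂ → Function.Bijective (ArtFun.cmp F h))
    (R : ArtFun.CRing Λ k) (ξ : ArtFun.Family R.carrier R.res F) (hξ : ArtFun.IsVersal ξ)
    (A' A : ArtFun.CRing Λ k) (g : A'.carrier →ₐ[Λ] A.carrier) (hg : A.res.comp g = A'.res)
    (hgs : Function.Surjective g) (η' : ArtFun.FormalElt F A')
    (φ : R.carrier →ₐ[Λ] A.carrier) (hφ : A.res.comp φ = R.res)
    (hsq : (ξ.along φ hφ).toFormalElt = η'.push g hg) :
    ∃ (ψ : R.carrier →ₐ[Λ] A'.carrier) (hψ : A'.res.comp ψ = R.res),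
      g.comp ψ = φ ∧ (ξ.along ψ hψ).toFormalElt = η' := by
  open Groth.Agent.ArtFunLib ArtFun ArtFun.Art ArtFun.CRing in
  have hmg : Ideal.map g (IsLocalRing.maximalIdeal A'.carrier) = IsLocalRing.maximalIdeal A.carrier := by
    refine le_antisymm (Ideal.map_le_iff_le_comap.mpr (maximalIdeal_le_comap g hg)) fun y hy => ?_
    obtain ⟨x, rfl⟩ := hgs y
    refine Ideal.mem_map_of_mem _ ((CRing.mem_maximalIdeal_iff A' x).mpr ?_)
    rw [← res_comp_apply g hg]
    exact (CRing.mem_maximalIdeal_iff A _).mp hy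
  let G := fun n => truncMapOfHom g hg n
  have hGs : ∀ n, Function.Surjective (G n) := fun n t => by
    obtain ⟨y, rfl⟩ := Ideal.Quotient.mk_surjective t
    obtain ⟨x, rfl⟩ := hgs y
    exact ⟨Ideal.Quotient.mk _ x, rfl⟩
  let φn : ∀ n, HomSet R.carrier R.res (A.trunc n) := fun n =>
    ⟨(A.truncHom n).1.comp φ, AlgHom.ext fun x =>
      (homSet_res (A.truncHom n) (φ x)).trans (DFunLike.congr_fun hφ x)⟩
  have hφn : ∀ n, ξ.app _ (φn n) = F.map (G n) (η'.elt n) := fun n =>
    congrArg (fun u : FormalElt F A => u.elt n) hsq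
  have hφc : ∀ n, HomSet.map (A.truncMap n) (φn (n + 1)) = φn n := fun n => Subtype.ext (AlgHom.ext fun x => rfl)
  have hG0 : Function.Bijective (G 0) := ⟨fun a b h => by
    obtain ⟨a, rfl⟩ := Ideal.Quotient.mk_surjective a
    obtain ⟨b, rfl⟩ := Ideal.Quotient.mk_surjective b
    refine Ideal.Quotient.eq.mpr ?_
    have h' : g a - g b ∈ mpow A 0 := Ideal.Quotient.eq.mp h
    rw [mpow, zero_add, pow_one, CRing.mem_maximalIdeal_iff] at h' ⊢
    rwa [← map_sub, res_comp_apply g hg] at h', hGs 0⟩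
  have base : ∃ ψ : HomSet R.carrier R.res (A'.trunc 0),
      HomSet.map (G 0) ψ = φn 0 ∧ ξ.app _ ψ = η'.elt 0 := by
    refine ⟨HomSet.map (homInv (G 0) hG0) (φn 0), ?_, ?_⟩
    · rw [← homSet_map_comp, homInv_comp, homSet_map_id]
    · rw [ξ.natural, hφn, ← map_comp', comp_homInv, map_id']
  have step : ∀ n (ψ : HomSet R.carrier R.res (A'.trunc n)),
      HomSet.map (G n) ψ = φn n → ξ.app _ ψ = η'.elt n → ∃ ψ' : HomSet R.carrier R.res (A'.trunc (n + 1)),
        HomSet.map (A'.truncMap n) ψ' = ψ ∧ HomSet.map (G (n + 1)) ψ' = φn (n + 1) ∧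
          ξ.app _ ψ' = η'.elt (n + 1) := by
    intro n ψ h₁ h₂
    obtain ⟨W, w₁, w₂, hW⟩ := exists_fibreProd (G n) (A.truncMap n) (truncMap_surjective n)
    obtain ⟨μ, hμ₁, hμ₂⟩ := exists_lift hW (g₁ := A'.truncMap n) (g₂ := G (n + 1))
      (truncMapOfHom_truncMap g hg n).symm
    have hμ : Function.Surjective μ := fun z => by
      obtain ⟨a, ha⟩ := Ideal.Quotient.mk_surjective (w₁ z)
      obtain ⟨b, hb⟩ := Ideal.Quotient.mk_surjective (w₂ z)
      have he : g a - b ∈ mpow A n := by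
        refine Ideal.Quotient.eq.mp ?_
        have := hW.w_apply z
        rw [← ha, ← hb] at this
        exact this
      rw [mpow, ← hmg, ← Ideal.map_pow] at he
      obtain ⟨c, hc, hcb⟩ := (Ideal.mem_map_iff_of_surjective g hgs).mp he
      refine ⟨Ideal.Quotient.mk _ (a - c), hW.inj _ _ ((congr_hom hμ₁ _).trans ?_) ((congr_hom hμ₂ _).trans ?_)⟩
      · rw [← ha]
        exact Ideal.Quotient.eq.mpr (by rw [sub_sub_cancel_left]; exact neg_mem hc)
      · rw [← hb]
        exact Ideal.Quotient.eq.mpr (by rw [map_sub, show (g : A'.carrier →+* A.carrier) c = (g : A'.carrier →+* A.carrier) a - b from hcb, sub_sub_cancel, sub_self]; exact zero_mem _)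
    obtain ⟨χ, hχ₁, hχ₂⟩ := exists_homSet_lift hW (g₁ := ψ) (g₂ := φn (n + 1)) (h₁.trans (hφc n).symm)
    have hy : F.map μ (η'.elt (n + 1)) = ξ.app W χ :=
      eq_of_inj (hRS w₁ w₂ _ _ hW (truncMap_surjective n)).1
        (by rw [← map_comp', hμ₁, η'.compat, ← ξ.natural, hχ₁, h₂])
        (by rw [← map_comp', hμ₂, ← ξ.natural, hχ₂, hφn])
    obtain ⟨ψ', hψ', hψy⟩ := hξ μ hμ χ _ hy
    exact ⟨ψ', by rw [← hμ₁, homSet_map_comp, hψ', hχ₁], by rw [← hμ₂, homSet_map_comp, hψ', hχ₂], hψy⟩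
  choose next h₁ h₂ h₃ using step
  obtain ⟨ψ₀, hb₁, hb₂⟩ := base
  let seq : ∀ n, {ψ : HomSet R.carrier R.res (A'.trunc n) // HomSet.map (G n) ψ = φn n ∧ ξ.app _ ψ = η'.elt n} :=
    fun n => Nat.rec ⟨ψ₀, hb₁, hb₂⟩ (fun m p => ⟨next m p.1 p.2.1 p.2.2, h₂ m _ _ _, h₃ m _ _ _⟩) n
  obtain ⟨ψ, hψ, hmk⟩ := exists_algHom_of_trunc (R := A') (fun n => (seq n).1) fun n => h₁ n _ (seq n).2.1 (seq n).2.2
  refine ⟨ψ, hψ, cring_hom_ext A _ _ fun n x => ?_, FormalElt.ext' fun n =>
    (congrArg (ξ.app _) (Subtype.ext (AlgHom.ext fun x => hmk n x))).trans (seq n).2.2⟩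
  exact (congrArg (G n) (hmk n x)).trans (DFunLike.congr_fun (congrArg Subtype.val (seq n).2.1) x)

end Groth.Agent.S13981
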