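import Mathlib
import Groth.Statements.S13985
-- import your own Groth.Agent.* helpers here

set_option autoImplicit false
universe u
open CategoryTheory
open CohGab

namespace Groth.Agent.S13985

/-- For a ring A, the canonical map from the centre of A to the centre of the category of finitely
generated left A-modules (the endomorphism ring of its identity functor), sending a to
multiplication by a, is bijective: every natural endomorphism of the identity functor acts on each
finitely generated module as multiplication by a unique element of A, and that element is central.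
(The published statement calls this map an isomorphism of commutative rings; this row states its
bijectivity.) -/
theorem result (A : Type u) [Ring A]
    (φ : 𝟭 (FGModuleCat.{u} A) ⟶ 𝟭 (FGModuleCat.{u} A)) :
    ∃! a : A, a ∈ Subring.center A ∧
      ∀ (M : FGModuleCat.{u} A) (x : M), (φ.app M).hom.hom x = a • x := by
  let A₀ : FGModuleCat.{u} A := FGModuleCat.of A A
  let ψ : A →ₗ[A] A := (φ.app A₀).hom.hom
  refine ⟨ψ 1, ⟨?_, fun M x => ?_⟩,
    fun b ⟨_, hb⟩ => ((hb A₀ (1 : A)).trans (mul_one b : b • (1 : A) = b)).symm⟩
  · rw [Subring.mem_center_iff]
    intro r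
    have h1 : ψ ((1 : A) • r) = ψ 1 • r :=
      LinearMap.congr_fun (congrArg (fun q => q.hom.hom) (φ.naturality (FGModuleCat.ofHom (LinearMap.toSpanSingleton A A r) : A₀ ⟶ A₀))) (1 : A)
    have h2 := ψ.map_smul r (1 : A)
    simp only [smul_eq_mul, one_mul, mul_one] at h1 h2
    exact h2.symm.trans h1
  · have h1 : (φ.app M).hom.hom ((1 : A) • x) = ψ 1 • x :=
      LinearMap.congr_fun (congrArg (fun q => q.hom.hom) (φ.naturality (FGModuleCat.ofHom (LinearMap.toSpanSingleton A M x) : A₀ ⟶ M))) (1 : A)
    rwa [one_smul] at h1

end Groth.Agent.S13985
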