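import Groth.Statements.S13995
import Mathlib
-- import your own Groth.Agent.* helpers here

set_option autoImplicit false
universe u
open CAlg

namespace Groth.Agent.S13995

/-- Let R be a reduced Noetherian ring, M a finitely generated R-module all of whose associated primes
are minimal primes of R and whose localization at each minimal prime p is one-dimensional over the
field R_p, and let g : M → Q be a surjection onto a finitely generated R-module Q all of whose
associated primes are minimal primes of R. Then the kernel of g is the intersection, over the
minimal primes p of R lying in the support of Q, of the kernels of the localization maps M → M_p.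
(The published statement is for a torsion-free coherent sheaf F of uniform rank one on a reduced
connected projective curve over a characteristic-zero algebraically closed field: its non-zero
torsion-free quotients are exactly the maximal torsion-free quotients F_D of the restrictions of F
to subcurves D; this row is the corresponding statement for modules over a reduced Noetherian ring,
a subcurve being a set of minimal primes, and identifies each torsion-free quotient with F_D for D
the set of generic points of its support.) -/
theorem result (R : Type u) [CommRing R] [IsNoetherianRing R] [IsReduced R] (M : Type u) [AddCommGroup M] [Module R M] [Module.Finite R M] (hM : associatedPrimes R M ⊆ minimalPrimes R) (hrk : ∀ p : PrimeSpectrum R, p.asIdeal ∈ minimalPrimes R → Module.finrank (Localization.AtPrime p.asIdeal) (LocalizedModule p.asIdeal.primeCompl M) = 1) (Q : Type u) [AddCommGroup Q] [Module R Q] [Module.Finite R Q] (hQ : associatedPrimes R Q ⊆ minimalPrimes R) (g : M →ₗ[R] Q) (hg : Function.Surjective g) : LinearMap.ker g = ⨅ p ∈ {p : PrimeSpectrum R | p.asIdeal ∈ minimalPrimes R ∧ p ∈ Module.support R Q}, LinearMap.ker (LocalizedModule.mkLinearMap p.asIdeal.primeCompl M) := by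
  classical
  apply le_antisymm
  · simp only [le_iInf_iff]
    rintro p ⟨hp, hsupp⟩ x hx
    rw [LinearMap.mem_ker]
    by_contra hne
    have : Ring.KrullDimLE 0 (Localization.AtPrime p.asIdeal) := .of_isLocalization _ hp _
    let : Field (Localization.AtPrime p.asIdeal) := Ring.KrullDimLE.isField_of_isReduced.toField
    have h1 := hrk p hp
    let G := LocalizedModule.map p.asIdeal.primeCompl g
    have hG : Function.Surjective G := LocalizedModule.map_surjective _ g hg
    have hGx : G (LocalizedModule.mkLinearMap p.asIdeal.primeCompl M x) = 0 := by
      simp [G, LinearMap.mem_ker.1 hx]
    have : Subsingleton (LocalizedModule p.asIdeal.primeCompl Q) := by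
      refine subsingleton_of_forall_eq 0 fun y => ?_
      obtain ⟨m, rfl⟩ := hG y
      obtain ⟨c, rfl⟩ := (finrank_eq_one_iff_of_nonzero' _ hne).1 h1 m
      rw [map_smul, hGx, smul_zero]
    exact not_subsingleton_iff_nontrivial.2 hsupp this
  · intro x hx
    simp only [Submodule.mem_iInf] at hx
    rw [LinearMap.mem_ker]
    by_contra hne
    obtain ⟨q, hq, hle⟩ := exists_le_isAssociatedPrime_of_isNoetherianRing R (g x) hne
    have hqmin := hQ hq
    let p : PrimeSpectrum R := ⟨q, hq.1⟩
    have hsupp : p ∈ Module.support R Q :=
      Module.mem_support_iff_exists_annihilator.2 ⟨g x, fun r hr => hle (by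
        rw [Submodule.mem_colon_singleton, Submodule.mem_bot]
        exact (Submodule.mem_annihilator_span_singleton _ _).1 hr)⟩
    obtain ⟨r, hr, hrx⟩ := LocalizedModule.mem_ker_mkLinearMap_iff.1 (hx p ⟨hqmin, hsupp⟩)
    refine hr (hle ?_)
    rw [Submodule.mem_colon_singleton, Submodule.mem_bot, ← map_smul, hrx, map_zero]

end Groth.Agent.S13995
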