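import Groth.Statements.S13996
import Mathlib
-- import your own Groth.Agent.* helpers here

set_option autoImplicit false
universe u
open CAlg

namespace Groth.Agent.S13996

/-- Let R be a reduced Noetherian local ring of Krull dimension one with maximal ideal m, and M a
non-zero finitely generated R-module. Then M is torsion-free in the sense that no element of m which
is a non-zero-divisor on R is a zero-divisor on M, if and only if M has depth one, i.e. some element
of m is a non-zero-divisor on M. (The published statement is for a non-zero coherent sheaf F on a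
connected reduced projective curve over a characteristic-zero algebraically closed field and asserts
the equivalence of: F torsion-free in the above sense at every closed point; F pure of dimension
one; depth of F_p equal to one at every closed point p. This row is the equivalence of the first and
third conditions at a single closed point p with F_p ≠ 0; at points outside the support the third
condition as published cannot hold, so the row assumes the stalk non-zero.) -/
theorem result (R : Type u) [CommRing R] [IsLocalRing R] [IsNoetherianRing R] [IsReduced R] (hdim : ringKrullDim R = 1) (M : Type u) [AddCommGroup M] [Module R M] [Module.Finite R M] [Nontrivial M] : (∀ r : R, r ∈ IsLocalRing.maximalIdeal R → IsSMulRegular R r → IsSMulRegular M r) ↔ (∃ x : R, x ∈ IsLocalRing.maximalIdeal R ∧ IsSMulRegular M x) := by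
  classical
  haveI : FiniteRingKrullDim R := finiteRingKrullDim_iff_ne_bot_and_top.mpr
    ⟨by rw [hdim]; decide, by rw [hdim]; decide⟩
  have hheight : (IsLocalRing.maximalIdeal R).height = 1 := by
    have h := IsLocalRing.maximalIdeal_height_eq_ringKrullDim (R := R)
    rw [hdim] at h
    exact WithBot.coe_inj.mp h
  have hm : IsLocalRing.maximalIdeal R ∉ minimalPrimes R := fun h => by
    rw [Ideal.height_eq_zero_iff.mpr h] at hheight
    exact zero_ne_one hheight
  have hlow : ∀ P : Ideal R, P.IsPrime → P ≠ IsLocalRing.maximalIdeal R → P ∈ minimalPrimes R := by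
    intro P hP hne
    rw [← Ideal.height_eq_zero_iff]
    have := Ideal.height_strict_mono_of_isPrime_of_isPrime
      (lt_of_le_of_ne (IsLocalRing.le_maximalIdeal hP.ne_top) hne)
    rw [hheight, ENat.lt_one_iff_eq_zero] at this
    exact this
  constructor
  · intro h
    have hfin := minimalPrimes.finite_of_isNoetherianRing R
    have hnot : ¬ (IsLocalRing.maximalIdeal R : Set R) ⊆ ⋃ i ∈ (↑hfin.toFinset : Set (Ideal R)), i := by
      rw [Ideal.subset_union_prime ⊥ ⊥ (fun i hi _ _ => (hfin.mem_toFinset.mp hi).isPrime)]
      rintro ⟨i, hi, hle⟩
      rw [Set.Finite.mem_toFinset] at hi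
      exact hm ((IsLocalRing.maximalIdeal.isMaximal R).eq_of_le hi.isPrime.ne_top hle ▸ hi)
    obtain ⟨x, hxm, hx⟩ := Set.not_subset.mp hnot
    refine ⟨x, hxm, h x hxm ?_⟩
    rw [isSMulRegular_iff_right_eq_zero_of_smul]
    intro y hy
    have : y ∈ sInf (minimalPrimes R) := Ideal.mem_sInf.mpr fun {P} hP =>
      (hP.isPrime.mem_or_mem (show x * y ∈ P from by
        rw [← smul_eq_mul, hy]; exact P.zero_mem)).resolve_left
        fun hxP => hx (Set.mem_iUnion₂.mpr ⟨P, hfin.mem_toFinset.mpr hP, hxP⟩)
    have hn : sInf (minimalPrimes R) = ⊥ := by
      rw [minimalPrimes, Ideal.sInf_minimalPrimes]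
      exact nilradical_eq_zero R
    simpa [hn] using this
  · rintro ⟨x, hxm, hxM⟩ r hrm hr
    rw [isSMulRegular_iff_right_eq_zero_of_smul]
    intro z hz
    by_contra hz0
    obtain ⟨P, hP, hle⟩ := exists_le_isAssociatedPrime_of_isNoetherianRing R z hz0
    have hrP : r ∈ P := hle (Submodule.mem_colon_singleton.mpr (by simpa using hz))
    obtain ⟨hPp, w, hw⟩ := isAssociatedPrime_iff.mp hP
    have hPm : P = IsLocalRing.maximalIdeal R := by
      by_contra hne
      have hmin := hlow P hPp hne
      exact Set.disjoint_left.mp (Ideal.disjoint_nonZeroDivisors_of_mem_minimalPrimes hmin) hrP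
        (mem_nonZeroDivisors_iff_right.mpr fun y hy => hr (by simpa [mul_comm] using hy))
    have hxw : x • w = 0 := by
      have : x ∈ P := hPm ▸ hxm
      rw [hw, Submodule.mem_colon_singleton] at this
      simpa using this
    have hw0 : w = 0 := hxM (by simpa using hxw)
    refine hPp.ne_top ?_
    rw [hw, hw0]
    ext y
    simp [Submodule.mem_colon_singleton]

end Groth.Agent.S13996
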