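import Groth.Statements.S13998
import Groth.Agent.FT23.ThickFinite

set_option autoImplicit false
universe u
open FlatMor

namespace Groth.Agent.S13998

open AlgebraicGeometry CategoryTheory in
/-- Consider a cartesian square of schemes F₀ ≫ j = i ≫ F (so Y₀ = Y ×_X X₀) in which i : Y₀ ⟶ Y and j :
X₀ ⟶ X are closed immersions surjective on points whose ideals are locally nilpotent (nilpotent on
every affine open), and suppose moreover that the ideal of j is of finite type (finitely generated
on every affine open of X). Then F : Y ⟶ X is finite if and only if F₀ : Y₀ ⟶ X₀ is finite. -/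
theorem result {X X₀ Y Y₀ : Scheme.{u}}
    (F : Y ⟶ X) (F₀ : Y₀ ⟶ X₀) (i : Y₀ ⟶ Y) (j : X₀ ⟶ X)
    (hi : MoreMor.IsThickening i) (hj : MoreMor.IsThickening j)
    (hinil : ∀ U : Y.affineOpens, IsNilpotent (i.ker.ideal U))
    (hjnil : ∀ U : X.affineOpens, IsNilpotent (j.ker.ideal U))
    (hfg : ∀ U : X.affineOpens, (j.ker.ideal U).FG)
    (hc : IsPullback F₀ i j F) :
    IsFinite F ↔ IsFinite F₀ := by
  haveI := hi.1
  haveI := hi.2
  haveI := hj.1
  constructor
  · intro hF
    exact MorphismProperty.of_isPullback (P := @IsFinite) hc.flip hF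
  · intro hF
    haveI : IsFinite (i ≫ F) := by rw [← hc.w]; infer_instance
    haveI := FT23.isAffineHom_of_comp_thickening F i
    haveI := FT23.locallyOfFinitePresentation_of_ker_fg j hfg
    haveI : LocallyOfFinitePresentation i := MorphismProperty.of_isPullback (P := @LocallyOfFinitePresentation) hc inferInstance
    haveI := FT23.locallyOfFiniteType_of_comp_thickening F i hinil (FT23.ker_fg_of_locallyOfFinitePresentation i) inferInstance
    haveI := UniversallyClosed.of_comp_surjective i F
    rw [IsFinite.iff_isProper_and_isAffineHom]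
    exact ⟨{}, inferInstance⟩

end Groth.Agent.S13998
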