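import Groth.Statements.S13999
import Groth.Agent.SmoothFrob.Main

set_option autoImplicit false
universe u
open FrobAlg

namespace Groth.Agent.S13999

open TensorProduct

lemma rootTower_basis (p : ℕ) (hp : p ≠ 0) : ∀ (n : ℕ) (R C : Type u) [CommRing R] [CommRing C] [Algebra R C],
    Quiet.IsRootTower p n R C → Nonempty (Module.Basis (Fin (p ^ n)) R C) := by
  intro n
  induction n with
  | zero =>
    intro R C _ _ _ ⟨e⟩
    exact ⟨((Module.Basis.singleton (Fin 1) R).reindex (finCongr (pow_zero p).symm)).map e.toLinearEquiv.symm⟩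
  | succ n ih =>
    intro R C _ _ _ ⟨a, _, _, h⟩
    rcases subsingleton_or_nontrivial R with hR | hR
    · haveI : Subsingleton C := Module.subsingleton R C
      haveI : Subsingleton (Fin (p ^ (n + 1)) →₀ R) := Module.subsingleton R _
      exact ⟨Module.Basis.ofRepr (LinearEquiv.ofSubsingleton _ _)⟩
    obtain ⟨b⟩ := ih _ C h
    have hm : (Polynomial.X ^ p - Polynomial.C a : Polynomial R).Monic := Polynomial.monic_X_pow_sub_C a hp
    have hd : (AdjoinRoot.powerBasis' hm).dim = p := by
      rw [AdjoinRoot.powerBasis'_dim, Polynomial.natDegree_X_pow_sub_C]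
    let b0 : Module.Basis (Fin p) R (Quiet.RootRing p R a) :=
      (AdjoinRoot.powerBasis' hm).basis.reindex (finCongr hd)
    exact ⟨(b0.smulTower b).reindex (finProdFinEquiv.trans (finCongr (pow_succ' p n).symm))⟩

variable (p : ℕ) [Fact p.Prime] (A : Type u) [CommRing A] [CharP A p]
  (B : Type u) [CommRing B] [Algebra A B] [CharP B p]

lemma pow_eq_relFrob_tmul (x : FrobAlg.BaseChange p A B) :
    x ^ p = FrobAlg.relFrob p A B x ⊗ₜ[A] (1 : FrobAlg.Twist p A) := by
  rcases subsingleton_or_nontrivial (FrobAlg.BaseChange p A B) with h | h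
  · exact Subsingleton.elim _ _
  haveI : CharP (FrobAlg.BaseChange p A B) p := SmoothFrob.charP_of_algebra p A _
  induction x using TensorProduct.induction_on with
  | zero => simp [zero_pow (Fact.out : p.Prime).ne_zero]
  | tmul b a =>
    obtain ⟨a, rfl⟩ := (FrobAlg.toTwist p A).surjective a
    rw [Algebra.TensorProduct.tmul_pow, SmoothFrob.relFrob_tmul_apply, ← map_pow,
      ← FrobAlg.algebraMap_twist, Algebra.algebraMap_eq_smul_one, TensorProduct.tmul_smul,
      TensorProduct.smul_tmul', Algebra.smul_def, mul_comm]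
  | add x y hx hy => rw [add_pow_char, hx, hy, map_add, TensorProduct.add_tmul]

lemma relFrob_finite [Algebra.FiniteType A B] : (FrobAlg.relFrob p A B).Finite := by
  letI := (FrobAlg.relFrob p A B).toAlgebra
  haveI : Algebra.IsIntegral (FrobAlg.BaseChange p A B) B := ⟨fun b => by
    refine IsIntegral.of_pow (Fact.out : p.Prime).pos ?_
    have h : algebraMap (FrobAlg.BaseChange p A B) B (b ⊗ₜ FrobAlg.toTwist p A 1) = b ^ p := by
      show FrobAlg.relFrob p A B _ = _
      rw [SmoothFrob.relFrob_tmul_apply, map_one, mul_one]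
    rw [← h]
    exact isIntegral_algebraMap⟩
  have hft : (FrobAlg.relFrob p A B).FiniteType := by
    refine RingHom.FiniteType.of_comp_finiteType (f := RelFrob17.twistHom p A B) ?_
    have : (FrobAlg.relFrob p A B).comp (RelFrob17.twistHom p A B) = algebraMap A B :=
      RingHom.ext (RelFrob17.relFrob_twistHom p A B)
    rw [this]
    exact RingHom.finiteType_algebraMap.2 inferInstance
  haveI : Algebra.FiniteType (FrobAlg.BaseChange p A B) B := hft
  exact (Algebra.IsIntegral.finite : Module.Finite (FrobAlg.BaseChange p A B) B)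

lemma twistHom_finiteType [Algebra.FiniteType A B] : (RelFrob17.twistHom p A B).FiniteType := by
  haveI : Algebra.FiniteType (FrobAlg.Twist p A) (FrobAlg.BaseChange p A B) :=
    Algebra.FiniteType.equiv (inferInstance : Algebra.FiniteType (FrobAlg.Twist p A) (FrobAlg.Twist p A ⊗[A] B))
      (Algebra.TensorProduct.commRight A (FrobAlg.Twist p A) B)
  exact RingHom.FiniteType.comp (g := algebraMap (FrobAlg.Twist p A) (FrobAlg.BaseChange p A B))
    (RingHom.finiteType_algebraMap.2 inferInstance)
    (RingHom.FiniteType.of_surjective _ (FrobAlg.toTwist p A).surjective)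

lemma relFrob_projective [Algebra.Smooth A B] :
    letI := (FrobAlg.relFrob p A B).toAlgebra
    Module.Projective (FrobAlg.BaseChange p A B) B := by
  letI := (FrobAlg.relFrob p A B).toAlgebra
  haveI : Module.Finite (FrobAlg.BaseChange p A B) B := relFrob_finite p A B
  haveI : Module.Flat (FrobAlg.BaseChange p A B) B := SmoothFrob.flat_relFrob p A B
  have h : (FrobAlg.relFrob p A B).FinitePresentation := by
    refine RingHom.FinitePresentation.of_comp_finiteType (RelFrob17.twistHom p A B) ?_ (twistHom_finiteType p A B)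
    have : (FrobAlg.relFrob p A B).comp (RelFrob17.twistHom p A B) = algebraMap A B :=
      RingHom.ext (RelFrob17.relFrob_twistHom p A B)
    rw [this]
    exact RingHom.finitePresentation_algebraMap.2 inferInstance
  haveI : Algebra.FinitePresentation (FrobAlg.BaseChange p A B) B := h
  haveI := Module.FinitePresentation.of_finite_of_finitePresentation (FrobAlg.BaseChange p A B) B
  exact Module.Flat.projective_of_finitePresentation


lemma rank_of_square {T C T' L : Type u} [CommRing T] [CommRing C] [CommRing T'] [CommRing L] [Algebra C L]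
    (φ : T →+* C) (φ' : T' →+* L) (m : T →+* T') (hcomm : ∀ x, φ' (m x) = algebraMap C L (φ x))
    (g : T) (hT' : letI := m.toAlgebra; IsLocalization.Away g T') (hL : IsLocalization.Away (φ g) L)
    (hfin : φ.Finite) (hflat : φ.Flat) (N : ℕ)
    (hbasis : letI := φ'.toAlgebra; Nonempty (Module.Basis (Fin N) T' L))
    (q : PrimeSpectrum T) (hg : g ∉ q.asIdeal) : φ.finrank q = N := by
  letI := φ.toAlgebra
  letI := φ'.toAlgebra
  letI := m.toAlgebra
  letI : Algebra T L := ((algebraMap C L).comp φ).toAlgebra
  haveI : IsScalarTower T C L := IsScalarTower.of_algebraMap_eq fun x => rfl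
  haveI : IsScalarTower T T' L := IsScalarTower.of_algebraMap_eq fun x => (hcomm x).symm
  haveI : IsLocalization.Away g T' := hT'
  haveI : Module.Finite T C := hfin
  haveI : Module.Flat T C := hflat
  haveI : IsLocalization (Algebra.algebraMapSubmonoid C (Submonoid.powers g)) L := by
    rw [Algebra.algebraMapSubmonoid_powers]
    exact hL
  haveI : Algebra.IsPushout T C T' L := Algebra.isPushout_of_isLocalization (Submonoid.powers g) _ _ _
  obtain ⟨x, hx⟩ : q ∈ Set.range (PrimeSpectrum.comap (algebraMap T T')) := by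
    rw [PrimeSpectrum.localization_away_comap_range T' g]
    exact hg
  haveI : Nontrivial T' := x.nontrivial
  obtain ⟨basis⟩ := hbasis
  haveI := Module.Free.of_basis basis
  haveI := Module.Finite.of_basis basis
  show Module.rankAtStalk C q = N
  rw [← hx, ← Algebra.rankAtStalk_eq_of_isPushout T C T' L x,
    Module.rankAtStalk_eq_finrank_of_free, Module.finrank_eq_card_basis basis, Fintype.card_fin]
  simp

lemma isLocalization_map (b : B) (L : Type u) [CommRing L] [Algebra A L] [Algebra B L] [IsScalarTower A B L]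
    [IsLocalization.Away b L] :
    letI := (Algebra.TensorProduct.map (IsScalarTower.toAlgHom A B L)
      (AlgHom.id A (FrobAlg.Twist p A))).toRingHom.toAlgebra
    IsLocalization.Away (b ⊗ₜ[A] (1 : FrobAlg.Twist p A)) (FrobAlg.BaseChange p A L) := by
  let m : FrobAlg.BaseChange p A B →+* FrobAlg.BaseChange p A L :=
    (Algebra.TensorProduct.map (IsScalarTower.toAlgHom A B L) (AlgHom.id A (FrobAlg.Twist p A))).toRingHom
  letI : Algebra (FrobAlg.BaseChange p A B) (FrobAlg.BaseChange p A L) := m.toAlgebra
  haveI : IsScalarTower B (FrobAlg.BaseChange p A B) (FrobAlg.BaseChange p A L) :=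
    IsScalarTower.of_algebraMap_eq fun x => by
      show _ = m (x ⊗ₜ 1)
      simp [m, Algebra.TensorProduct.algebraMap_apply]
  haveI : IsScalarTower (FrobAlg.Twist p A) (FrobAlg.BaseChange p A B) (FrobAlg.BaseChange p A L) :=
    IsScalarTower.of_algebraMap_eq fun x => by
      show (1 : L) ⊗ₜ[A] x = m ((1 : B) ⊗ₜ[A] x)
      simp [m]
  show IsLocalization.Away (b ⊗ₜ[A] (1 : FrobAlg.Twist p A)) (FrobAlg.BaseChange p A L)
  have hpo : Algebra.IsPushout B L (FrobAlg.BaseChange p A B) (FrobAlg.BaseChange p A L) :=
    (Algebra.IsPushout.comp_iff A B (FrobAlg.Twist p A) (S' := FrobAlg.BaseChange p A B)).1 inferInstance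
  have := (Algebra.isLocalization_iff_isPushout (Submonoid.powers b) L
    (T := FrobAlg.BaseChange p A B) (B := FrobAlg.BaseChange p A L)).2 hpo.symm
  rw [Algebra.algebraMapSubmonoid_powers] at this
  exact this

set_option maxHeartbeats 800000 in
set_option backward.isDefEq.respectTransparency false in
lemma rank_eq [Algebra.Smooth A B] (r : ℕ)
    (hr : ∀ q : PrimeSpectrum B, Module.rankAtStalk (R := B) (KaehlerDifferential A B) q = r) :
    letI := (FrobAlg.relFrob p A B).toAlgebra
    ∀ q : PrimeSpectrum (FrobAlg.BaseChange p A B),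
      Module.rankAtStalk (R := FrobAlg.BaseChange p A B) B q = p ^ r := by
  letI := (FrobAlg.relFrob p A B).toAlgebra
  haveI : Module.Finite (FrobAlg.BaseChange p A B) B := relFrob_finite p A B
  haveI : Module.Flat (FrobAlg.BaseChange p A B) B := SmoothFrob.flat_relFrob p A B
  intro q
  let i : B →ₐ[A] FrobAlg.BaseChange p A B := Algebra.TensorProduct.includeLeft
  obtain ⟨s, hs, hsm⟩ := Algebra.Smooth.exists_span_eq_top_isStandardSmooth A B
  obtain ⟨b, hbs, hbq⟩ : ∃ b ∈ s, b ∉ q.asIdeal.comap i := by
    by_contra! hc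
    exact (q.2.comap i).ne_top (top_le_iff.1 (hs ▸ Ideal.span_le.2 hc))
  let g : FrobAlg.BaseChange p A B := b ⊗ₜ 1
  have hg : g ∉ q.asIdeal := hbq
  haveI := hsm b hbs
  let L := Localization.Away b
  haveI : Nontrivial L := ((IsLocalization.toLocalizationMap (Submonoid.powers b) L).nontrivial (fun ⟨k, hk⟩ => hbq <| by
    haveI := q.2.comap i
    refine Ideal.IsPrime.mem_of_pow_mem this k ?_
    rw [show b ^ k = 0 from hk]
    exact zero_mem _))
  haveI : CharP L p := SmoothFrob.charP_of_algebra p A L
  let m : FrobAlg.BaseChange p A B →+* FrobAlg.BaseChange p A L :=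
    (Algebra.TensorProduct.map (IsScalarTower.toAlgHom A B L) (AlgHom.id A (FrobAlg.Twist p A))).toRingHom
  have h : FrobAlg.relFrob p A B g = b ^ p := by
    show FrobAlg.relFrob p A B (b ⊗ₜ FrobAlg.toTwist p A 1) = _
    rw [SmoothFrob.relFrob_tmul_apply, map_one, mul_one]
  have hL : IsLocalization.Away (FrobAlg.relFrob p A B g) L := by
    rw [h, IsLocalization.Away, IsLocalization.iff_of_le_of_exists_dvd (S := L) (M := Submonoid.powers (b ^ p)) (Submonoid.powers b)]
    · infer_instance
    · rintro _ ⟨k, rfl⟩
      exact ⟨p * k, (pow_mul b p k)⟩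
    · rintro _ ⟨k, rfl⟩
      exact ⟨(b ^ p) ^ k, ⟨k, rfl⟩, by
        show b ^ k ∣ (b ^ p) ^ k
        exact pow_dvd_pow_of_dvd (dvd_pow_self b (Fact.out : p.Prime).ne_zero) k⟩
  obtain ⟨n, u, hu⟩ := SmoothFrob.exists_etale A L
  have hb : letI := (FrobAlg.relFrob p A L).toAlgebra
      Nonempty (Module.Basis (Fin (p ^ n)) (FrobAlg.BaseChange p A L) L) := by
    letI := (FrobAlg.relFrob p A L).toAlgebra
    exact rootTower_basis p (Fact.out : p.Prime).ne_zero n _ _
      (SmoothFrob.HasRoots.isRootTower p n (FrobAlg.BaseChange p A L) L _ _ (SmoothFrob.hasRoots_relFrob p A L u hu))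
  show (FrobAlg.relFrob p A B).finrank q = p ^ r
  rw [rank_of_square (FrobAlg.relFrob p A B) (FrobAlg.relFrob p A L) m
    (fun x => (SmoothFrob.relFrob_natural p A (IsScalarTower.toAlgHom A B L) x).symm)
    g (isLocalization_map p A B b L) hL (relFrob_finite p A B) (SmoothFrob.flat_relFrob p A B) (p ^ n) hb q hg]
  congr 1
  -- the relative dimension
  letI : Algebra (MvPolynomial (Fin n) A) L := u.toRingHom.toAlgebra
  haveI : IsScalarTower A (MvPolynomial (Fin n) A) L := IsScalarTower.of_algebraMap_eq fun a => (u.commutes a).symm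
  haveI : Algebra.Etale (MvPolynomial (Fin n) A) L := hu
  let bΩ := ((KaehlerDifferential.mvPolynomialBasis A (Fin n)).baseChange L).map
    (KaehlerDifferential.tensorKaehlerEquivOfFormallyEtale A (MvPolynomial (Fin n) A) L)
  haveI := Module.Free.of_basis bΩ
  haveI := Module.Finite.of_basis bΩ
  obtain ⟨Q⟩ : Nonempty (PrimeSpectrum L) := inferInstance
  haveI : Algebra.FormallyEtale B L := Algebra.FormallyEtale.of_isLocalization (Submonoid.powers b)
  have e := Module.rankAtStalk_eq_of_equiv (KaehlerDifferential.tensorKaehlerEquivOfFormallyEtale A B L)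
  have h1 : Module.rankAtStalk (R := L) (KaehlerDifferential A L) Q = r := by
    rw [← e, Module.rankAtStalk_baseChange, hr]
  rw [Module.rankAtStalk_eq_finrank_of_free, Module.finrank_eq_card_basis bΩ, Fintype.card_fin] at h1
  exact h1

/-- Let p be a prime, A a commutative ring of characteristic p and B a smooth A-algebra (of
characteristic p) such that the Kähler differentials Ω_{B/A} have rank r at every prime of B, i.e. B
is smooth of relative dimension r over A. Regard B as an algebra over its Frobenius twist B^{(p)} =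
B ⊗_{A,Frob} A through the relative Frobenius b ⊗ a ↦ b^p a. Then B is a finite projective
B^{(p)}-module whose rank at every prime of B^{(p)} is p^r: the relative Frobenius is finite and
locally free of rank p^r. -/
theorem result (p : ℕ) [Fact p.Prime]
    (A : Type u) [CommRing A] [CharP A p] (B : Type u) [CommRing B] [Algebra A B] [CharP B p]
    [Algebra.Smooth A B] (r : ℕ)
    (hr : ∀ q : PrimeSpectrum B, Module.rankAtStalk (R := B) (KaehlerDifferential A B) q = r) :
    letI := (FrobAlg.relFrob p A B).toAlgebra
    Module.Finite (FrobAlg.BaseChange p A B) B ∧ Module.Projective (FrobAlg.BaseChange p A B) B ∧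
      ∀ q : PrimeSpectrum (FrobAlg.BaseChange p A B),
        Module.rankAtStalk (R := FrobAlg.BaseChange p A B) B q = p ^ r := by
  letI := (FrobAlg.relFrob p A B).toAlgebra
  exact ⟨relFrob_finite p A B, relFrob_projective p A B, rank_eq p A B r hr⟩

end Groth.Agent.S13999
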