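import Groth.Statements.S14000
import Mathlib

set_option autoImplicit false
universe u
open Perf

namespace Groth.Agent.S14000

section

open CategoryTheory CategoryTheory.Limits

variable {R : Type*} [CommRing R] [IsLocalRing R]

theorem sum_finrank_eq_zero (L : ℕ → Type*) [∀ n, AddCommGroup (L n)] [∀ n, Module R (L n)]
    [∀ n, Module.Free R (L n)] [∀ n, Module.Finite R (L n)]
    (d : ∀ n, L n →ₗ[R] L (n + 1)) (hd : ∀ n, LinearMap.range (d n) = LinearMap.ker (d (n + 1)))
    (N : ℕ) (h0 : Subsingleton (L 0)) (hN : ∀ n, N ≤ n → Subsingleton (L n)) :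
    ∑ n ∈ Finset.range N, (-1 : ℤ) ^ n * (Module.finrank R (L n) : ℤ) = 0 := by
  have hsurj : ∀ n, Function.Surjective ((d n).codRestrict (LinearMap.ker (d (n + 1)))
      (fun x => by rw [← hd n]; exact LinearMap.mem_range_self _ x)) := by
    rintro n ⟨y, hy⟩
    rw [← hd n] at hy
    obtain ⟨x, rfl⟩ := hy
    exact ⟨x, rfl⟩
  have hker : ∀ n, LinearMap.ker ((d n).codRestrict (LinearMap.ker (d (n + 1)))
      (fun x => by rw [← hd n]; exact LinearMap.mem_range_self _ x)) = LinearMap.ker (d n) := fun n =>
    LinearMap.ker_codRestrict _ _ _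
  have hfree : ∀ j n, N ≤ n + j →
      Module.Free R (LinearMap.ker (d n)) ∧ Module.Finite R (LinearMap.ker (d n)) := by
    intro j
    induction j with
    | zero =>
      intro n hn
      haveI := hN n (by simpa using hn)
      exact ⟨inferInstance, inferInstance⟩
    | succ j ih =>
      intro n hn
      obtain ⟨hf, hfin⟩ := ih (n + 1) (by omega)
      obtain ⟨σ, hσ⟩ := LinearMap.exists_rightInverse_of_surjective _ (LinearMap.range_eq_top.2 (hsurj n))
      let π : L n →ₗ[R] LinearMap.ker (d n) :=
        (LinearMap.id - σ ∘ₗ ((d n).codRestrict (LinearMap.ker (d (n + 1))) _)).codRestrict _ fun x => by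
          rw [← hker n, LinearMap.mem_ker]
          simp only [LinearMap.sub_apply, LinearMap.id_apply, LinearMap.comp_apply, map_sub]
          rw [show ∀ y, ((d n).codRestrict (LinearMap.ker (d (n + 1))) _) (σ y) = y from
            fun y => (LinearMap.comp_apply _ _ y).symm.trans ((LinearMap.congr_fun hσ y).trans (LinearMap.id_apply y)), sub_self]
      have hπ : π ∘ₗ (LinearMap.ker (d n)).subtype = LinearMap.id := by
        refine LinearMap.ext fun x => Subtype.ext ?_
        have h0 : ((d n).codRestrict (LinearMap.ker (d (n + 1)))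
            (fun y => by rw [← hd n]; exact LinearMap.mem_range_self _ y)) x.1 = 0 := Subtype.ext x.2
        simp [π, h0]
      haveI : Module.Finite R (LinearMap.ker (d n)) :=
        Module.Finite.of_surjective π fun x => ⟨x, LinearMap.congr_fun hπ x⟩
      haveI : Module.Projective R (LinearMap.ker (d n)) := Module.Projective.of_split _ π hπ
      haveI := Module.finitePresentation_of_projective R (LinearMap.ker (d n))
      exact ⟨Module.free_of_flat_of_isLocalRing, inferInstance⟩
  haveI hK : ∀ n, Module.Free R (LinearMap.ker (d n)) := fun n => (hfree N n le_add_self).1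
  haveI hK' : ∀ n, Module.Finite R (LinearMap.ker (d n)) := fun n => (hfree N n le_add_self).2
  have hrank : ∀ n, (Module.finrank R (L n) : ℤ) =
      Module.finrank R (LinearMap.ker (d n)) + Module.finrank R (LinearMap.ker (d (n + 1))) := by
    intro n
    obtain ⟨σ, hσ⟩ := LinearMap.exists_rightInverse_of_surjective _ (LinearMap.range_eq_top.2 (hsurj n))
    have e := ((Function.Exact.splitSurjectiveEquiv
      (f := (LinearMap.ker (d n)).subtype) (g := (d n).codRestrict (LinearMap.ker (d (n + 1))) _)
      (by rw [LinearMap.exact_iff, hker, Submodule.range_subtype]) (Submodule.subtype_injective _)) ⟨σ, hσ⟩).1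
    rw [e.finrank_eq, Module.finrank_prod]
    push_cast
    rfl
  have key : ∀ M, ∑ n ∈ Finset.range M, (-1 : ℤ) ^ n * (Module.finrank R (L n) : ℤ) =
      (Module.finrank R (LinearMap.ker (d 0)) : ℤ) - (-1 : ℤ) ^ M * Module.finrank R (LinearMap.ker (d M)) := by
    intro M
    induction M with
    | zero => simp
    | succ M ih => rw [Finset.sum_range_succ, ih, hrank, pow_succ]; ring
  haveI := hN N le_rfl
  rw [key, Module.finrank_zero_of_subsingleton, Module.finrank_zero_of_subsingleton]
  simp

end

open CategoryTheory CategoryTheory.Limits in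
/-- Let A be a commutative ring and P a strictly perfect complex over A, that is a cochain complex of
finitely generated projective A-modules which is zero outside a finite set s of degrees. Suppose the
cohomological support of P has positive codimension: for every minimal prime q of A and every degree
i the localization at q of the cohomology module H^i(P) is zero. Then the Euler characteristic of P
vanishes identically: at every prime of A the alternating sum over i ∈ s of the ranks of the P^i is
zero. -/
theorem result {A : Type u} [CommRing A]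
    (P : CochainComplex (ModuleCat.{u} A) ℤ) (s : Finset ℤ)
    (hP : ∀ i : ℤ, Module.Finite A (P.X i) ∧ Module.Projective A (P.X i))
    (hs : ∀ i : ℤ, i ∉ s → IsZero (P.X i))
    (hsupp : ∀ q : PrimeSpectrum A, q.asIdeal ∈ minimalPrimes A →
      ∀ i : ℤ, Subsingleton (LocalizedModule q.asIdeal.primeCompl (P.homology i))) :
    ∀ x : PrimeSpectrum A,
      (s.sum fun i => ((i.negOnePow : ℤˣ) : ℤ) * (Module.rankAtStalk (R := A) (P.X i) x : ℤ)) = 0 := by
  classical
  intro x
  obtain ⟨q, hq, hqx⟩ := Ideal.exists_minimalPrimes_le (I := (⊥ : Ideal A)) (J := x.asIdeal) bot_le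
  haveI : q.IsPrime := hq.1.1
  let qq : PrimeSpectrum A := ⟨q, inferInstance⟩
  have hrk : ∀ i, Module.rankAtStalk (R := A) (P.X i) x = Module.rankAtStalk (R := A) (P.X i) qq := by
    intro i
    haveI := (hP i).1
    haveI := (hP i).2
    haveI := Module.finitePresentation_of_projective A (P.X i)
    have hc := Module.isLocallyConstant_rankAtStalk (R := A) (M := P.X i)
    have hsp : x ∈ closure ({qq} : Set (PrimeSpectrum A)) :=
      ((PrimeSpectrum.le_iff_specializes qq x).1 hqx).mem_closure
    exact (hc.isClosed_fiber _).closure_subset_iff.2 (Set.singleton_subset_iff.2 rfl) hsp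
  simp only [hrk]
  let S := qq.asIdeal.primeCompl
  let Rq := Localization S
  obtain ⟨a, ha⟩ : ∃ a : ℤ, ∀ i ∈ s, a < i := by
    refine ⟨-(1 + ∑ i ∈ s, |i|), fun i hi => ?_⟩
    have : |i| ≤ ∑ i ∈ s, |i| := Finset.single_le_sum (fun j _ => abs_nonneg j) hi
    have := neg_abs_le i
    omega
  obtain ⟨N, hN⟩ : ∃ N : ℕ, ∀ i ∈ s, i < a + N := by
    refine ⟨(1 + ∑ i ∈ s, |i| - a).toNat, fun i hi => ?_⟩
    have : |i| ≤ ∑ i ∈ s, |i| := Finset.single_le_sum (fun j _ => abs_nonneg j) hi
    have := le_abs_self i
    omega
  haveI hfp : ∀ i, Module.Finite A (P.X i) := fun i => (hP i).1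
  haveI hpr : ∀ i, Module.Projective A (P.X i) := fun i => (hP i).2
  let D : ∀ i j : ℤ, LocalizedModule S (P.X i) →ₗ[Rq] LocalizedModule S (P.X j) := fun i j =>
    LocalizedModule.map S (P.d i j).hom
  have hex : ∀ i j k : ℤ, i + 1 = j → j + 1 = k → LinearMap.range (D i j) = LinearMap.ker (D j k) := by
    intro i j k hij hjk
    apply le_antisymm
    · rintro _ ⟨y, rfl⟩
      induction y using LocalizedModule.induction_on with
      | h m t =>
        rw [LinearMap.mem_ker, LocalizedModule.map_mk, LocalizedModule.map_mk,
          ← ModuleCat.comp_apply, P.d_comp_d]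
        exact LocalizedModule.zero_mk t
    · intro y hy
      induction y using LocalizedModule.induction_on with
      | h m t =>
        rw [LinearMap.mem_ker, LocalizedModule.map_mk] at hy
        obtain ⟨u, hu⟩ := LocalizedModule.mk_eq.1 (hy.trans (LocalizedModule.zero_mk t).symm)
        simp only [smul_zero, Submonoid.smul_def] at hu
        rw [smul_smul, ← map_smul] at hu
        set c : A := (u : A) * (t : A)
        have hc : c ∈ S := mul_mem u.2 t.2
        let sc := P.sc' i j k
        have hiso : P.homology j ≅ sc.moduleCatLeftHomologyData.H :=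
          P.homologyIsoSc' i j k (by simp; omega) (by simp; omega) ≪≫ sc.moduleCatHomologyIso
        haveI := hsupp qq hq j
        have hsub : Subsingleton (LocalizedModule S sc.moduleCatLeftHomologyData.H) :=
          (IsLocalizedModule.map_surjective S (LocalizedModule.mkLinearMap S (P.homology j))
            (LocalizedModule.mkLinearMap S sc.moduleCatLeftHomologyData.H) hiso.hom.hom
            (ModuleCat.epi_iff_surjective _ |>.1 inferInstance)).subsingleton
        obtain ⟨r, hr, hr0⟩ := LocalizedModule.subsingleton_iff.1 hsub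
          (Submodule.Quotient.mk (p := LinearMap.range sc.moduleCatToCycles) ⟨c • m, hu⟩)
        have hr1 : (Submodule.Quotient.mk (p := LinearMap.range sc.moduleCatToCycles)
            (r • (⟨c • m, hu⟩ : LinearMap.ker sc.g.hom))) = 0 := hr0
        obtain ⟨w, hw⟩ := (Submodule.Quotient.mk_eq_zero _).1 hr1
        refine ⟨LocalizedModule.mk w (⟨r * c, mul_mem hr hc⟩ * t), ?_⟩
        have hw' : (P.d i j).hom w = (r * c) • m := (congrArg Subtype.val hw).trans (smul_smul r c m)
        rw [LocalizedModule.map_mk, hw']
        exact LocalizedModule.mk_cancel_common_left (⟨r * c, mul_mem hr hc⟩ : S) t m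
  haveI : IsLocalRing Rq := inferInstanceAs (IsLocalRing (Localization.AtPrime qq.asIdeal))
  haveI : ∀ i, Module.Free Rq (LocalizedModule S (P.X i)) := fun i => by
    haveI := Module.finitePresentation_of_projective A (P.X i)
    haveI : Module.Flat Rq (LocalizedModule S (P.X i)) :=
      Module.Flat.of_isLocalizedModule Rq S (LocalizedModule.mkLinearMap S (P.X i))
    exact Module.free_of_flat_of_isLocalRing
  have hz : ∀ i : ℤ, i ∉ s → Subsingleton (LocalizedModule S (P.X i)) := fun i hi => by
    haveI := ModuleCat.subsingleton_of_isZero (hs i hi)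
    exact LocalizedModule.subsingleton_iff.2 fun m => ⟨1, S.one_mem, Subsingleton.elim _ _⟩
  have key := sum_finrank_eq_zero (R := Rq) (fun n : ℕ => LocalizedModule S (P.X (a + n)))
    (fun n => D (a + n) (a + (n + 1 : ℕ))) (fun n => hex _ _ _ (by omega) (by omega)) N
    (hz _ (fun h => by have := ha _ h; omega))
    (fun n hn => hz _ (fun h => by have := hN _ h; omega))
  let f : ℤ → ℤ := fun i => ((i.negOnePow : ℤˣ) : ℤ) * (Module.rankAtStalk (R := A) (P.X i) qq : ℤ)
  have hzero : ∀ i, i ∉ s → f i = 0 := fun i hi => by
    have := hz i hi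
    have : Module.rankAtStalk (R := A) (P.X i) qq = 0 := Module.finrank_zero_of_subsingleton
    simp [f, this]
  change ∑ i ∈ s, f i = 0
  have himg : ∑ i ∈ s, f i = ∑ i ∈ (Finset.range N).image (fun n : ℕ => a + n), f i := by
    refine Finset.sum_subset (fun i hi => ?_) (fun i _ hi => hzero i hi)
    have := ha i hi
    have := hN i hi
    exact Finset.mem_image.2 ⟨(i - a).toNat, Finset.mem_range.2 (by omega), by omega⟩
  rw [himg, Finset.sum_image (fun m _ n _ h => by simpa using h)]
  have hsign : ∀ n : ℕ, f (a + n) = ((a.negOnePow : ℤˣ) : ℤ) *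
      ((-1 : ℤ) ^ n * (Module.finrank Rq (LocalizedModule S (P.X (a + n))) : ℤ)) := fun n => by
    simp only [f, Int.negOnePow_add, Units.val_mul, Int.coe_negOnePow_natCast, mul_assoc]
    rfl
  rw [Finset.sum_congr rfl fun n _ => hsign n, ← Finset.mul_sum, key, mul_zero]


end Groth.Agent.S14000
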