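import Groth.Statements.S14003
import Groth.Agent.CohFinite.DevissageGen
import Groth.Agent.QCohLib.StalkRestrict
-- import your own Groth.Agent.* helpers here

set_option autoImplicit false
universe u
open CategoryTheory AlgebraicGeometry
open KZero

namespace Groth.Agent.S14003

/-- Let X be a Noetherian scheme and Y' a closed subset; write K_0 for the Grothendieck group of the
abelian category of coherent O_X-modules with support in Y' (free abelian group on its objects
modulo the relations of short exact sequences). Let (F_a) be a family of such modules such that for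
every irreducible closed subset Z ⊆ Y' with generic point ζ there is an index a with the support of
F_a contained in Z and the stalk of F_a at ζ of length one over the local ring (a one-dimensional
vector space over the residue field). Then the classes of the F_a generate K_0. (The published
statement omits the condition that the support of F_a lie in Z; without it the claim fails already
for the spectrum of a product of two fields, where the modules k_1 ⊕ k_2 ⊕ k_2 and k_1 ⊕ k_1 ⊕ k_2
have one-dimensional stalks at the two points but their classes generate a subgroup of index 3 in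
K_0 = ℤ².) -/
theorem result (X : Scheme.{u}) [IsNoetherian X]
    (Y' : Set X) (hY' : IsClosed Y') {ι : Type u} (F : ι → X.Modules)
    (hF : ∀ a : ι, Coh.IsCoh (F a) ∧ CohB1.support (F a) ⊆ Y')
    (hgen : ∀ (Z : Set X), IsClosed Z → IsIrreducible Z → Z ⊆ Y' → ∀ y : X, closure ({y} : Set X) = Z →
      ∃ a : ι, CohB1.support (F a) ⊆ Z ∧ Module.length (X.presheaf.stalk y) ((F a).presheaf.stalk y) = 1) :
    AddSubgroup.closure (Set.range fun a : ι =>
        KZero.clSub (fun G : X.Modules => Coh.IsCoh G ∧ CohB1.support G ⊆ Y') (F a)) = ⊤ := by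
  classical
  let Pr : ObjectProperty X.Modules := fun G => Coh.IsCoh G ∧ CohB1.support G ⊆ Y'
  let H := AddSubgroup.closure (Set.range fun a : ι => KZero.clSub Pr (F a))
  show H = ⊤
  have hz : ∀ M : X.Modules, Limits.IsZero M → Pr M := fun M hM =>
    ⟨QCohLib.isCoh_of_isZero hM, fun x hx => (hx (QCohLib.subsingleton_stalk_of_isZero hM x)).elim⟩
  have hrel : ∀ S : ShortComplex X.Modules, S.ShortExact → Pr S.X₁ → Pr S.X₂ → Pr S.X₃ →
      KZero.clSub Pr S.X₂ = KZero.clSub Pr S.X₁ + KZero.clSub Pr S.X₃ := fun S hS h1 h2 h3 => by
    simp only [KZero.clSub, dif_pos h1, dif_pos h2, dif_pos h3]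
    rw [← QuotientAddGroup.mk_add, QuotientAddGroup.eq_iff_sub_mem]
    rw [← sub_sub]
    exact AddSubgroup.subset_closure ⟨S, h1, h2, h3, hS, rfl⟩
  have hzero : ∀ M : X.Modules, Limits.IsZero M → KZero.clSub Pr M = 0 := fun M hM => by
    have hS : (ShortComplex.mk (𝟙 M) (𝟙 M) (hM.eq_of_src _ _)).ShortExact :=
      { exact := ShortComplex.exact_of_isZero_X₂ _ hM }
    exact left_eq_add.1 (hrel _ hS (hz M hM) (hz M hM) (hz M hM))
  let P : X.Modules → Prop := fun M => KZero.clSub Pr M ∈ H
  have hiso : ∀ M N : X.Modules, Nonempty (M ≅ N) → P M → P N := by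
    rintro M N ⟨e⟩ hM
    by_cases hN : Pr N
    · have hM' : Pr M :=
        ⟨QCohLib.isCoh_of_iso e.symm hN.1, (CohFinite.support_eq_of_iso e).trans_subset hN.2⟩
      have hS : (ShortComplex.mk (0 : Limits.kernel (𝟙 M) ⟶ M) e.hom Limits.zero_comp).ShortExact :=
        { exact := (ShortComplex.exact_iff_mono _ rfl).2 inferInstance
          mono_f := ⟨fun a b _ => (Limits.isZero_kernel_of_mono (𝟙 M)).eq_of_tgt a b⟩ }
      have h := hrel _ hS (hz _ (Limits.isZero_kernel_of_mono (𝟙 M))) hM' hN
      rw [hzero _ (Limits.isZero_kernel_of_mono (𝟙 M)), zero_add] at h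
      show KZero.clSub Pr N ∈ H
      rwa [← h]
    · show KZero.clSub Pr N ∈ H
      simp only [KZero.clSub, dif_neg hN]
      exact zero_mem _
  have key : ∀ M : X.Modules, Coh.IsCoh M → CohB1.support M ⊆ Y' → P M := fun M hM hs => by
    refine CohFinite.devissage_kernels P hiso (fun M hM => by show _ ∈ H; rw [hzero M hM]; exact zero_mem _)
      (X' := Y') (fun S hS h1 h2 h3 h4 => ?_) ?_ M hM hs
    · have := hS.mono_f
      have := hS.epi_g
      have h := hrel S hS ⟨h1, (CohFinite.support_subset_of_mono S.f).trans h4⟩ ⟨h2, h4⟩
        ⟨h3, (CohFinite.support_subset_of_epi S.g).trans h4⟩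
      refine ⟨fun a c => ?_, fun b c => ?_⟩
      · show _ ∈ H
        rw [h]
        exact add_mem a c
      · show _ ∈ H
        rw [eq_sub_of_add_eq h.symm]
        exact sub_mem b c
    · intro Z i _ _ hi
      obtain ⟨a, ha, hlen⟩ := hgen (Set.range i) i.isClosedEmbedding.isClosed_range
        (by rw [← Set.image_univ]; exact (IrreducibleSpace.isIrreducible_univ _).image _ i.continuous.continuousOn)
        hi (i (genericPoint Z)) (CohFinite.closure_genericPoint i)
      have hs1 : IsSimpleModule (X.presheaf.stalk (i (genericPoint Z))) ((F a).presheaf.stalk (i (genericPoint Z))) :=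
        Module.length_eq_one_iff.1 hlen
      refine Or.inr ⟨F a, (hF a).1, ha, AddSubgroup.subset_closure ⟨a, rfl⟩, ?_, ?_, ?_⟩
      · have := IsSimpleModule.nontrivial (X.presheaf.stalk (i (genericPoint Z))) ((F a).presheaf.stalk (i (genericPoint Z)))
        exact not_subsingleton _
      · intro r hr m
        obtain ⟨I, hI, ⟨e⟩⟩ := isSimpleModule_iff_quot_maximal.1 hs1
        obtain rfl := IsLocalRing.eq_maximalIdeal hI
        apply e.injective
        rw [map_smul, map_zero]
        obtain ⟨x, hx⟩ := Submodule.Quotient.mk_surjective _ (e m)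
        rw [← hx, ← Submodule.Quotient.mk_smul, Submodule.Quotient.mk_eq_zero]
        exact Ideal.mul_mem_right _ _ hr
      · intro r hr1 ⟨e⟩ G hG hGs hP
        have hr : r = 1 := by
          have h1 := e.length_eq
          have hk : Module.length (X.presheaf.stalk (i (genericPoint Z)))
              (IsLocalRing.ResidueField (X.presheaf.stalk (i (genericPoint Z)))) = 1 :=
            Module.length_eq_one_iff.2 (isSimpleModule_iff_quot_maximal.2
              ⟨_, IsLocalRing.maximalIdeal.isMaximal _, ⟨LinearEquiv.refl _ _⟩⟩)
          rw [hlen, Module.length_pi_of_fintype] at h1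
          simp only [hk, Finset.sum_const, Finset.card_univ, Fintype.card_fin, nsmul_eq_mul, mul_one] at h1
          exact_mod_cast h1.symm
        subst hr
        exact CohFinite.root_one hiso G hP
  rw [AddSubgroup.eq_top_iff']
  intro z
  induction z using QuotientAddGroup.induction_on with
  | H z =>
    induction z using FreeAbelianGroup.induction_on with
    | zero => exact zero_mem _
    | of M =>
      have := key M.1 M.2.1 M.2.2
      change KZero.clSub Pr M.1 ∈ H at this
      simp only [KZero.clSub, dif_pos (show Pr M.1 from M.2)] at this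
      exact this
    | neg M h => exact neg_mem h
    | add a b ha hb => exact add_mem ha hb


end Groth.Agent.S14003
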