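import Groth.Statements.S14005
import Mathlib.AlgebraicGeometry.Properties
import Mathlib.Topology.NoetherianSpace
-- import your own Groth.Agent.* helpers here

set_option autoImplicit false
universe u
open CategoryTheory AlgebraicGeometry
open CohTop

namespace Groth.Agent.S14005

/-- Take a scheme X with a locally Noetherian underlying topological space, F a sheaf of abelian groups
on X, x a point of X and s an element of the stalk F_x. Then the following are equivalent: (i) s is
the germ of a section t over some open neighbourhood U of x whose support in U is contained in the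
closure of {x} (that is, s belongs to the subgroup Γ_x(F) of F_x); (ii) for every generization y ≠ x
of x the image of s under the cospecialisation map F_x → F_y is zero (that is, viewed as a global
section of the inverse image of F on Spec O_{X,x}, s is supported at the closed point). -/
theorem result {X : Scheme.{u}}
    (hX : ∀ x : X, ∃ U : X.Opens, x ∈ U ∧ TopologicalSpace.NoetherianSpace U)
    (F : TopCat.Sheaf AddCommGrpCat.{u} X.carrier) (x : X) (s : F.presheaf.stalk x) :
    (∃ (U : X.Opens) (hx : x ∈ U) (t : F.presheaf.obj (Opposite.op U)),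
        F.presheaf.germ U x hx t = s ∧
          ∀ (u : X) (hu : u ∈ U), F.presheaf.germ U u hu t ≠ 0 → u ∈ closure ({x} : Set X)) ↔
      ∀ (y : X) (h : y ⤳ x), y ≠ x → F.presheaf.stalkSpecializes h s = 0 := by
  constructor
  · rintro ⟨U, hx, t, rfl, hsupp⟩ y h hy
    rw [TopCat.Presheaf.germ_stalkSpecializes_apply]
    by_contra hne
    have hxy : x ⤳ y := specializes_iff_mem_closure.2 (hsupp y (h.mem_open U.isOpen hx) hne)
    exact hy (h.antisymm hxy).eq
  · intro hs
    obtain ⟨U₁, hx₁, hN⟩ := hX x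
    obtain ⟨U₂, hx₂, t₂, rfl⟩ := TopCat.Presheaf.exists_germ_eq F.presheaf s
    let U : X.Opens := U₁ ⊓ U₂
    let t := F.presheaf.map (homOfLE (inf_le_right : U ≤ U₂)).op t₂
    haveI : TopologicalSpace.NoetherianSpace U := by
      haveI : TopologicalSpace.NoetherianSpace ↥(U₁ : Set X) := hN
      exact Topology.IsInducing.noetherianSpace (i := Set.inclusion (inf_le_left : U ≤ U₁))
        ((Topology.IsEmbedding.inclusion (inf_le_left : U ≤ U₁)).isInducing)
    have hgerm : ∀ (u : X) (hu : u ∈ U), F.presheaf.germ U u hu t = F.presheaf.germ U₂ u hu.2 t₂ := fun u hu =>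
      TopCat.Presheaf.germ_res_apply F.presheaf _ u hu t₂
    let Z : TopologicalSpace.Closeds U := ⟨{u | F.presheaf.germ U u.1 u.2 t ≠ 0}, by
      rw [← isOpen_compl_iff, isOpen_iff_forall_mem_open]
      intro u hu
      simp only [Set.mem_compl_iff, Set.mem_setOf_eq, not_not] at hu
      obtain ⟨W, hW, i, j, e⟩ := TopCat.Presheaf.germ_eq F.presheaf u.1 u.2 u.2 t 0 (by rw [hu, map_zero])
      refine ⟨Subtype.val ⁻¹' (W : Set X), fun v hv => ?_, W.isOpen.preimage continuous_subtype_val, hW⟩
      simp only [Set.mem_compl_iff, Set.mem_setOf_eq, not_not]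
      rw [← TopCat.Presheaf.germ_res_apply F.presheaf i v.1 hv t, e, map_zero, map_zero]⟩
    obtain ⟨C, hCirr, hC⟩ := TopologicalSpace.NoetherianSpace.exists_finset_irreducible Z
    let bad : Set U := ⋃ c ∈ ({c | c ∈ C ∧ (⟨x, hx₁, hx₂⟩ : U) ∉ c} : Set (TopologicalSpace.Closeds U)), (c : Set U)
    have hbad : IsClosed bad :=
      (C.finite_toSet.subset (fun c hc => hc.1)).isClosed_biUnion fun c _ => c.isClosed
    let V : X.Opens := ⟨Subtype.val '' badᶜ, (U.isOpen.isOpenMap_subtype_val _ hbad.isOpen_compl)⟩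
    have hVU : V ≤ U := fun u ⟨v, _, e⟩ => e ▸ v.2
    have hxV : x ∈ V := ⟨⟨x, hx₁, hx₂⟩, by
      intro hh
      obtain ⟨c, hcS, hxc⟩ := Set.mem_iUnion₂.1 hh
      exact hcS.2 hxc, rfl⟩
    refine ⟨V, hxV, F.presheaf.map (homOfLE hVU).op t, ?_, fun u hu hne => ?_⟩
    · rw [TopCat.Presheaf.germ_res_apply, hgerm]
    rw [TopCat.Presheaf.germ_res_apply] at hne
    obtain ⟨v, hv, rfl⟩ := hu
    have hvZ : v ∈ (Z : Set U) := hne
    rw [hC, TopologicalSpace.Closeds.coe_finset_sup, Finset.sup_eq_iSup] at hvZ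
    obtain ⟨c, hcC, hvc⟩ := Set.mem_iUnion₂.1 hvZ
    have hxc : (⟨x, hx₁, hx₂⟩ : U) ∈ c := by
      by_contra hxc
      exact hv (Set.mem_iUnion₂.2 ⟨c, ⟨hcC, hxc⟩, hvc⟩)
    haveI : QuasiSober U := inferInstanceAs (QuasiSober (Scheme.Opens.toScheme U))
    obtain ⟨η, hη⟩ := QuasiSober.sober (hCirr ⟨c, hcC⟩) c.isClosed
    have hηZ : η ∈ Z := hC ▸ (Finset.le_sup (f := id) hcC : c ≤ C.sup id) hη.mem
    have hηx : η.1 ⤳ x := (hη.specializes hxc).map continuous_subtype_val
    have hηeq : η.1 = x := by
      by_contra hne'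
      apply hηZ
      have := hs η.1 hηx hne'
      rwa [TopCat.Presheaf.germ_stalkSpecializes_apply, ← hgerm η.1 η.2] at this
    rw [← hηeq]
    exact specializes_iff_mem_closure.1 ((hη.specializes hvc).map continuous_subtype_val)

end Groth.Agent.S14005
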