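import Groth.Statements.S14007
import Groth.Agent.DCohPerf.Devissage
import Groth.Agent.DCohPerf.Coherent
import Groth.Agent.QCohLib.Cover
-- import your own Groth.Agent.* helpers here

set_option autoImplicit false
universe u
open CategoryTheory AlgebraicGeometry
attribute [local instance] HasDerivedCategory.standard
open KZero

namespace Groth.Agent.S14007

open CategoryTheory.Limits
open scoped ZeroObject

/-- Coherent modules supported in `Y'`. -/
abbrev Sup {X : Scheme.{u}} (Y' : Set X) : ObjectProperty X.Modules :=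
  fun G => Coh.IsCoh G ∧ CohB1.support G ⊆ Y'

lemma support_of_isZero {X : Scheme.{u}} {M : X.Modules} (h : IsZero M) : CohB1.support M = ∅ := by
  refine Set.eq_empty_iff_forall_notMem.2 fun x hx => hx ?_
  exact AddCommGrpCat.subsingleton_of_isZero
    ((TopCat.Presheaf.stalkFunctor AddCommGrpCat.{u} x).map_isZero
      ((Scheme.Modules.toPresheaf X).map_isZero h))

lemma support_mono {X : Scheme.{u}} {M N : X.Modules} (i : M ⟶ N) [Mono i] :
    CohB1.support M ⊆ CohB1.support N := by
  have hS : (ShortComplex.mk i (cokernel.π i) (cokernel.condition i)).ShortExact :=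
    { exact := ShortComplex.exact_of_g_is_cokernel _ (cokernelIsCokernel i), mono_f := ‹_›,
      epi_g := inferInstanceAs (Epi (cokernel.π i)) }
  intro x hx
  exact (QCohLib.support_eq_union_of_shortExact hS).ge (Or.inl hx)

lemma support_iso {X : Scheme.{u}} {M N : X.Modules} (e : M ≅ N) : CohB1.support N ⊆ CohB1.support M :=
  support_mono e.inv

instance {X : Scheme.{u}} (Y' : Set X) : (Sup Y').IsClosedUnderIsomorphisms :=
  ⟨fun e h => ⟨QCohLib.isCoh_of_iso e h.1, (support_iso e).trans h.2⟩⟩

instance {X : Scheme.{u}} (Y' : Set X) : (Sup Y').ContainsZero :=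
  ⟨⟨0, isZero_zero _, QCohLib.isCoh_of_isZero (isZero_zero _), by simp [support_of_isZero (isZero_zero _)]⟩⟩

instance {X : Scheme.{u}} [IsLocallyNoetherian X] (Y' : Set X) : (Sup Y').IsClosedUnderKernels :=
  ⟨by
    intro Z hZ
    cases hZ with
    | of_isLimit f k hk h =>
      exact (Sup Y').prop_of_iso ((kernelIsKernel f).conePointUniqueUpToIso hk)
        ⟨QCohLib.isCoh_kernel f h.1.1 h.2.1.1, (support_mono (kernel.ι f)).trans h.1.2⟩⟩

/-- Let X be a Noetherian scheme and Y' ⊆ X a closed subset, and suppose that every coherent O_X-module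
with support in Y', viewed in degree 0, is a perfect object of D(O_X). Write K_0(C) for the
Grothendieck group of the abelian category C of coherent O_X-modules supported in Y' (objects modulo
short exact sequences) and K_0(D) for that of the full triangulated subcategory D of D(O_X) on the
perfect complexes all of whose cohomology sheaves are supported in Y' (objects modulo distinguished
triangles with vertices in D). Then the homomorphism K_0(C) → K_0(D) induced by G ↦ G[0] is an
isomorphism: there is an isomorphism of groups carrying the class of every G in C to the class of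
G[0]. -/
theorem result (X : Scheme.{u}) [IsNoetherian X]
    (Y' : Set X) (hY' : IsClosed Y')
    (hperf : ∀ G : X.Modules, Coh.IsCoh G → CohB1.support G ⊆ Y' → DCoh.IsPerfect (DCoh.inD X G)) :
    ∃ φ : KZero.K0sub (fun G : X.Modules => Coh.IsCoh G ∧ CohB1.support G ⊆ Y') ≃+
        KZero.K0tr (fun K : DCoh.D X => DCoh.IsPerfect K ∧ ∀ i : ℤ, CohB1.support (DCoh.HD K i) ⊆ Y'),
      ∀ G : X.Modules, Coh.IsCoh G → CohB1.support G ⊆ Y' →
        φ (KZero.clSub (fun G : X.Modules => Coh.IsCoh G ∧ CohB1.support G ⊆ Y') G) =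
          KZero.clTr (fun K : DCoh.D X => DCoh.IsPerfect K ∧ ∀ i : ℤ, CohB1.support (DCoh.HD K i) ⊆ Y')
            (DCoh.inD X G) := by
  let P := Sup Y'
  have e : (fun K : DCoh.D X => DCoh.IsPerfect K ∧ ∀ i : ℤ, CohB1.support (DCoh.HD K i) ⊆ Y') = KGrp.DbP P := by
    funext K
    refine propext ⟨fun h => ⟨fun i => ⟨DCohPerf.isCohD_of_isPerfect h.1 i, h.2 i⟩,
      DCohPerf.exists_bounds_of_isPerfect h.1⟩, fun h => ⟨?_, fun i => (h.1 i).2⟩⟩
    exact DCohPerf.prop_of_dbP P (fun K => DCoh.IsPerfect K) (fun e h => DCohPerf.isPerfect_of_iso h e)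
      (fun T hT h₁ h₃ => DCohPerf.isPerfect_triangle₂ hT h₁ h₃) (fun K n h => DCohPerf.isPerfect_shift h n)
      (fun G hG => hperf G hG.1 hG.2) h
  rw [e]
  exact ⟨KGrp.dbEquiv P, fun G h₁ h₂ => KGrp.dbEquiv_clSub P (show P G from ⟨h₁, h₂⟩)⟩

end Groth.Agent.S14007
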