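import Groth.Statements.S14008
import Mathlib.AlgebraicGeometry.Noetherian
-- import your own Groth.Agent.* helpers here

set_option autoImplicit false
universe u
open FlatMor

namespace Groth.Agent.S14008

theorem finiteType_of_nilpotent {A B B₀ : Type u} [CommRing A] [CommRing B] [CommRing B₀] (φ : A →+* B) (π : B →+* B₀)
    (hπ : Function.Surjective π) (h : (π.comp φ).FiniteType) (hfg : (RingHom.ker π).FG)
    (hn : IsNilpotent (RingHom.ker π)) : φ.FiniteType := by
  classical
  letI := φ.toAlgebra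
  letI := (π.comp φ).toAlgebra
  let πa : B →ₐ[A] B₀ := { π with commutes' := fun _ => rfl }
  obtain ⟨s, hs⟩ := (h : Algebra.FiniteType A B₀).out
  obtain ⟨t, ht⟩ := hfg
  choose l hl using hπ
  refine ⟨⟨s.image l ∪ t, ?_⟩⟩
  let C : Subalgebra A B := Algebra.adjoin A ((s.image l ∪ t : Finset B) : Set B)
  show C = ⊤
  have h0 : ∀ b : B, ∃ c ∈ C, b - c ∈ RingHom.ker π := by
    intro b
    have hmem : π b ∈ C.map πa := by
      have : Algebra.adjoin A (s : Set B₀) ≤ C.map πa := Algebra.adjoin_le fun x hx =>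
        ⟨l x, Algebra.subset_adjoin (Finset.mem_union_left _ (Finset.mem_image_of_mem l hx)), hl x⟩
      exact this (hs ▸ Algebra.mem_top)
    obtain ⟨c, hc, hcb⟩ := hmem
    exact ⟨c, hc, by rw [RingHom.mem_ker, map_sub, sub_eq_zero]; exact hcb.symm⟩
  have h1 : ∀ k, ∀ b : B, ∃ c ∈ C, b - c ∈ RingHom.ker π ^ k := by
    intro k
    induction k with
    | zero => exact fun b => ⟨0, zero_mem _, by rw [pow_zero, Ideal.one_eq_top]; trivial⟩
    | succ k ih =>
      intro b
      obtain ⟨c, hc, hbc⟩ := h0 b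
      suffices ∀ z ∈ RingHom.ker π, ∃ c' ∈ C, z - c' ∈ RingHom.ker π ^ (k + 1) by
        obtain ⟨c', hc', h'⟩ := this _ hbc
        exact ⟨c + c', add_mem hc hc', by rwa [← sub_sub]⟩
      intro z hz
      rw [← ht] at hz
      induction hz using Submodule.span_induction with
      | mem z hz => exact ⟨z, Algebra.subset_adjoin (Finset.mem_union_right _ hz), by rw [sub_self]; exact zero_mem _⟩
      | zero => exact ⟨0, zero_mem _, by rw [sub_self]; exact zero_mem _⟩
      | add z w _ _ hz hw =>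
        obtain ⟨c1, hc1, h1⟩ := hz
        obtain ⟨c2, hc2, h2⟩ := hw
        exact ⟨c1 + c2, add_mem hc1 hc2, by rw [add_sub_add_comm]; exact add_mem h1 h2⟩
      | smul r z hz' hz =>
        obtain ⟨c1, hc1, h1⟩ := hz
        obtain ⟨c2, hc2, h2⟩ := ih r
        refine ⟨c2 * c1, mul_mem hc2 hc1, ?_⟩
        have hzI : z ∈ RingHom.ker π := ht ▸ hz'
        rw [smul_eq_mul, show r * z - c2 * c1 = (r - c2) * z + c2 * (z - c1) by ring]
        refine add_mem ?_ (Ideal.mul_mem_left _ _ h1)
        rw [pow_succ]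
        exact Ideal.mul_mem_mul h2 hzI
  obtain ⟨n, hn⟩ := hn
  refine Algebra.eq_top_iff.mpr fun b => ?_
  obtain ⟨c, hc, hbc⟩ := h1 n b
  rw [hn, Ideal.zero_eq_bot, Ideal.mem_bot, sub_eq_zero] at hbc
  exact hbc ▸ hc


open AlgebraicGeometry CategoryTheory in
/-- Consider a commutative square of schemes F₀ ≫ j = i ≫ F in which i : Y₀ ⟶ Y and j : X₀ ⟶ X are
closed immersions surjective on points whose ideals are nilpotent on every affine open, the ideal of
i being moreover finitely generated on every affine open of Y, and assume that X is locally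
Noetherian. Then F : Y ⟶ X is locally of finite presentation if and only if F₀ : Y₀ ⟶ X₀ is. The
square is not assumed cartesian. -/
theorem result
    {X X₀ Y Y₀ : Scheme.{u}} [IsLocallyNoetherian X]
    (F : Y ⟶ X) (F₀ : Y₀ ⟶ X₀) (i : Y₀ ⟶ Y) (j : X₀ ⟶ X)
    (hi : MoreMor.IsThickening i) (hj : MoreMor.IsThickening j)
    (hinil : ∀ U : Y.affineOpens, IsNilpotent (i.ker.ideal U))
    (hjnil : ∀ U : X.affineOpens, IsNilpotent (j.ker.ideal U))
    (hfg : ∀ U : Y.affineOpens, (i.ker.ideal U).FG)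
    (w : F₀ ≫ j = i ≫ F) :
    LocallyOfFinitePresentation F ↔ LocallyOfFinitePresentation F₀ := by
  obtain ⟨hic, his⟩ := hi
  haveI := hic
  haveI := hj.1
  haveI : IsLocallyNoetherian X₀ := LocallyOfFiniteType.isLocallyNoetherian j
  constructor
  · intro hF
    haveI : LocallyOfFiniteType (F₀ ≫ j) := by rw [w]; infer_instance
    haveI := locallyOfFiniteType_of_comp F₀ j
    infer_instance
  · intro hF
    haveI : LocallyOfFiniteType (i ≫ F) := by rw [← w]; infer_instance
    suffices LocallyOfFiniteType F from inferInstance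
    refine ⟨fun {U} hU {V} hV e => ?_⟩
    have e' : i ⁻¹ᵁ V ≤ (i ≫ F) ⁻¹ᵁ U := fun z hz => e hz
    have h := (i ≫ F).finiteType_appLE hU (hV.preimage i) e'
    rw [← Scheme.Hom.appLE_comp_appLE i F U V (i ⁻¹ᵁ V) e le_rfl, ← Scheme.Hom.app_eq_appLE, CommRingCat.hom_comp] at h
    refine finiteType_of_nilpotent _ _ (i.app_surjective V hV) h ?_ ?_
    · rw [← Scheme.Hom.ker_apply i ⟨V, hV⟩]; exact hfg _
    · rw [← Scheme.Hom.ker_apply i ⟨V, hV⟩]; exact hinil _

end Groth.Agent.S14008
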