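import Groth.Statements.S1401
import Groth.Agent.ImmDescent.QuasiAffine
-- import your own Groth.Agent.* helpers here

set_option autoImplicit false
set_option linter.style.haveILetI false
universe u
open FlatMor

namespace Groth.Agent.S1401

open AlgebraicGeometry CategoryTheory Limits in
/-- Let S' → S be flat, surjective and quasi-compact and let f' be the base change of f : X → S to S'.
If f' is ind-quasi-affine then so is f. -/
theorem result {X S X' S' : Scheme.{u}} (f : X ⟶ S) (f' : X' ⟶ S') (g' : X' ⟶ X) (g : S' ⟶ S)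
    [Flat g] [Surjective g] [QuasiCompact g] (hc : IsPullback g' f' f g) (hf' : MoreMor.IsIndQuasiAffineHom f') : MoreMor.IsIndQuasiAffineHom f := by
  intro V hV U hU
  haveI : IsAffine (V : Scheme.{u}) := hV
  let h : (U : Scheme.{u}) ⟶ (V : Scheme.{u}) := U.ι ≫ (f ∣_ V)
  haveI : CompactSpace (U : Scheme.{u}) := isCompact_iff_compactSpace.mp hU
  haveI : QuasiCompact h := (quasiCompact_iff_compactSpace h).mpr inferInstance
  have hg : (@Surjective ⊓ @Flat ⊓ @QuasiCompact : MorphismProperty Scheme.{u}) (g ∣_ V) :=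
    ⟨⟨IsZariskiLocalAtTarget.restrict (P := @Surjective) inferInstance V,
      IsZariskiLocalAtTarget.restrict (P := @Flat) inferInstance V⟩,
      IsZariskiLocalAtTarget.restrict (P := @QuasiCompact) inferInstance V⟩
  let μ : pullback h (g ∣_ V) ⟶ X' := pullback.map h (g ∣_ V) f g (U.ι ≫ (f ⁻¹ᵁ V).ι) (g ⁻¹ᵁ V).ι V.ι
    (by simp only [h, Category.assoc, morphismRestrict_ι]) (morphismRestrict_ι g V) ≫ hc.isoPullback.inv
  have hμ : μ ≫ f' = pullback.snd h (g ∣_ V) ≫ (g ⁻¹ᵁ V).ι := by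
    rw [Category.assoc, IsPullback.isoPullback_inv_snd]
    exact pullback.lift_snd _ _ _
  haveI : IsOpenImmersion μ := inferInstance
  haveI := Groth.Agent.ImmDescent.quasiAffine_descendsAlong.{u}
  have hQA : Mor2.IsQuasiAffine h := by
    refine MorphismProperty.of_isPullback_of_descendsAlong
      (P := fun _ _ f => Mor2.IsQuasiAffine f) (IsPullback.of_hasPullback h (g ∣_ V)).flip hg ?_
    refine ⟨inferInstance, fun O hO => ?_⟩
    let W := pullback.snd h (g ∣_ V) ⁻¹ᵁ O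
    haveI : CompactSpace ↥(W : Scheme.{u}) := isCompact_iff_compactSpace.mp
      ((pullback.snd h (g ∣_ V)).isCompact_preimage hO.isCompact)
    have hO' : IsAffineOpen ((g ⁻¹ᵁ V).ι ''ᵁ O) := hO.image_of_isOpenImmersion _
    let ν := W.ι ≫ μ
    have hr : Set.range ν ⊆ Set.range (f' ⁻¹ᵁ ((g ⁻¹ᵁ V).ι ''ᵁ O)).ι := by
      rw [Scheme.Opens.range_ι]
      rintro _ ⟨w, rfl⟩
      show f' (μ (W.ι w)) ∈ (g ⁻¹ᵁ V).ι ''ᵁ O
      rw [← Scheme.Hom.comp_apply μ f', hμ, Scheme.Hom.comp_apply]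
      exact ⟨_, w.2, rfl⟩
    let ν' := IsOpenImmersion.lift (f' ⁻¹ᵁ ((g ⁻¹ᵁ V).ι ''ᵁ O)).ι ν hr
    haveI : IsOpenImmersion (ν' ≫ (f' ⁻¹ᵁ ((g ⁻¹ᵁ V).ι ''ᵁ O)).ι) := by
      rw [IsOpenImmersion.lift_fac]; infer_instance
    haveI : IsOpenImmersion ν' := IsOpenImmersion.of_comp ν' (f' ⁻¹ᵁ ((g ⁻¹ᵁ V).ι ''ᵁ O)).ι
    haveI := hf' _ hO' ν'.opensRange (isCompact_range ν'.continuous)
    exact Scheme.IsQuasiAffine.of_isImmersion ν'.isoOpensRange.hom
  haveI : Scheme.IsQuasiAffine ((⊤ : (U : Scheme.{u}).Opens) : Scheme.{u}) := hQA.2 ⊤ (isAffineOpen_top _)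
  exact Scheme.IsQuasiAffine.of_isImmersion ((Scheme.topIso (U : Scheme.{u})).inv)

end Groth.Agent.S1401
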