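import Groth.Statements.S14018
import Mathlib
-- import your own Groth.Agent.* helpers here

set_option autoImplicit false
open CategoryTheory CategoryTheory.Limits Opposite
universe w v u
open CohSite

namespace Groth.Agent.S14018

open CategoryTheory Opposite in
theorem exists_section (G : ℕᵒᵖ ⥤ Type w) (n : ℕ)
    (h : ∀ m, Function.Surjective (G.map (homOfLE (Nat.le_succ m)).op)) (s : G.obj (op n)) :
    ∃ x : G.sections, x.1 (op n) = s := by
  choose l hl using h
  let e : (j : ℕ) → G.obj (op (n + j)) := fun j => Nat.rec (motive := fun j => G.obj (op (n + j))) s (fun j t => l (n + j) t) j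
  have hcomp : ∀ (a b c : ℕ) (hab : a ≤ b) (hbc : b ≤ c) (t : G.obj (op c)),
      G.map (homOfLE hab).op (G.map (homOfLE hbc).op t) = G.map (homOfLE (hab.trans hbc)).op t := by
    intro a b c hab hbc t
    rw [← FunctorToTypes.map_comp_apply]
    rfl
  have hid : ∀ (a : ℕ) (h : a ≤ a) (t : G.obj (op a)), G.map (homOfLE h).op t = t := by
    intro a h t
    rw [show (homOfLE h).op = 𝟙 (op a) from Quiver.Hom.unop_inj (Subsingleton.elim _ _), FunctorToTypes.map_id_apply]
  have he : ∀ a b (hab : n + a ≤ n + b), G.map (homOfLE hab).op (e b) = e a := by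
    intro a b
    induction b with
    | zero =>
      intro hab
      obtain rfl : a = 0 := by omega
      exact hid _ _ _
    | succ b ih =>
      intro hab
      by_cases hb : a = b + 1
      · subst hb; exact hid _ _ _
      · have hab' : n + a ≤ n + b := by omega
        rw [← hcomp _ _ _ hab' (Nat.le_succ (n + b))]
        show G.map _ (G.map (homOfLE (Nat.le_succ (n + b))).op (l (n + b) (e b))) = _
        rw [hl, ih]
  refine ⟨⟨fun m => G.map (homOfLE (Nat.le_add_left m.unop n)).op (e m.unop), ?_⟩, ?_⟩
  · rintro ⟨a⟩ ⟨b⟩ g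
    have hba : b ≤ a := leOfHom g.unop
    show G.map g _ = G.map _ (e b)
    rw [show g = (homOfLE hba).op from Quiver.Hom.unop_inj (Subsingleton.elim _ _), hcomp,
      ← he b a (Nat.add_le_add_left hba n), hcomp]
  · show G.map (homOfLE (Nat.le_add_left n n)).op (e n) = s
    exact he 0 n (Nat.add_le_add_left (Nat.zero_le n) n)

/-- Let (C, J) be a site with enough weakly contractible objects — every object V has a covering sieve
all of whose arrows factor through some weakly contractible object, an object U being weakly
contractible when every epimorphism of sheaves of sets (valued in a fixed universe) is surjective on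
sections over U. Then the topos of sheaves of sets is replete: if (F_n) is an inverse system of
sheaves of sets indexed by ℕ with every transition map F_(n+1) ⟶ F_n an epimorphism, then each
projection lim_n F_n ⟶ F_n is an epimorphism; the limit is taken as any limit cone. (The small
pro-étale site of a scheme is such a site.) -/
theorem result
    {C : Type u} [Category.{v} C] (J : GrothendieckTopology C)
    (hwc : ∀ V : C, ∃ S : Sieve V, S ∈ J V ∧ ∀ ⦃W : C⦄ (f : W ⟶ V), S.arrows f →
      ∃ (U : C) (g : W ⟶ U) (h : U ⟶ V), (∀ (A B : Sheaf J (Type w)) (ψ : A ⟶ B), Epi ψ → Function.Surjective (ψ.hom.app (op U))) ∧ g ≫ h = f)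
    (F : ℕᵒᵖ ⥤ Sheaf J (Type w))
    (hF : ∀ n : ℕ, Epi (F.map (homOfLE (Nat.le_succ n)).op))
    (c : Cone F) (hc : IsLimit c) (n : ℕ) :
    Epi (c.π.app (op n)) := by
  haveI : Sheaf.IsLocallySurjective (c.π.app (op n)) := by
    refine ⟨fun {V} s => ?_⟩
    obtain ⟨S, hS, hfac⟩ := hwc V
    refine J.superset_covering ?_ hS
    intro W f hf
    obtain ⟨U, g, h, hU, rfl⟩ := hfac f hf
    obtain ⟨x, hx⟩ := exists_section (F ⋙ sheafToPresheaf J (Type w) ⋙ (evaluation _ _).obj (op U)) n
      (fun m => hU _ _ (F.map (homOfLE (Nat.le_succ m)).op) (hF m))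
      ((F.obj (op n)).obj.map h.op s)
    have hlim := isLimitOfPreserves (sheafToPresheaf J (Type w) ⋙ (evaluation _ _).obj (op U)) hc
    let t := (Types.isLimitEquivSections hlim).symm x
    have ht : (c.π.app (op n)).hom.app (op U) t = (F.obj (op n)).obj.map h.op s :=
      (Types.isLimitEquivSections_symm_apply hlim x (op n)).trans hx
    refine ⟨c.pt.obj.map g.op t, ?_⟩
    rw [op_comp, FunctorToTypes.map_comp_apply, ← ht]
    exact NatTrans.naturality_apply (c.π.app (op n)).hom g.op t
  infer_instance

end Groth.Agent.S14018
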