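import Groth.Statements.S14020
import Mathlib
-- import your own Groth.Agent.* helpers here

set_option autoImplicit false
universe u
open CAlg

namespace Groth.Agent.S14020

/-- Let R be a commutative ring and I a finitely generated ideal such that the quotient ring R/I is
artinian. Then R/I^n is artinian for every n. -/
theorem result
    (R : Type u) [CommRing R] (I : Ideal R) (hI : I.FG) [IsArtinianRing (R ⧸ I)] (n : ℕ) :
    IsArtinianRing (R ⧸ I ^ n) := by
  rcases eq_or_ne n 0 with rfl | hn
  · have : Subsingleton (R ⧸ I ^ 0) := Ideal.Quotient.subsingleton_iff.mpr (by simp)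
    infer_instance
  have hle : ∀ P : Ideal (R ⧸ I ^ n), P.IsPrime → I ≤ P.comap (Ideal.Quotient.mk (I ^ n)) := by
    intro P hP
    refine (Ideal.IsPrime.le_of_pow_le (hP := hP.comap _) (n := n) fun x hx => ?_)
    rw [Ideal.mem_comap, Ideal.Quotient.eq_zero_iff_mem.mpr hx]
    exact P.zero_mem
  have hN : IsNoetherianRing (R ⧸ I ^ n) := by
    refine IsNoetherianRing.of_prime fun P hP => ?_
    have h1 : (P.comap (Ideal.Quotient.mk (I ^ n))).FG := by
      obtain ⟨s, hs⟩ := IsNoetherian.noetherian ((P.comap (Ideal.Quotient.mk (I ^ n))).map (Ideal.Quotient.mk I))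
      classical
      obtain ⟨t, ht⟩ := hI
      refine ⟨s.image (Function.surjInv Ideal.Quotient.mk_surjective) ∪ t, ?_⟩
      rw [Finset.coe_union, Finset.coe_image, Ideal.span_union, ht]
      have : Ideal.map (Ideal.Quotient.mk I) (Ideal.span (Function.surjInv Ideal.Quotient.mk_surjective '' (s : Set (R ⧸ I)))) =
          (P.comap (Ideal.Quotient.mk (I ^ n))).map (Ideal.Quotient.mk I) := by
        rw [Ideal.map_span, ← Set.image_comp, ← hs]
        simp [Function.comp_def, Function.surjInv_eq]
      have h2 := congrArg (Ideal.comap (Ideal.Quotient.mk I)) this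
      rw [Ideal.comap_map_of_surjective _ Ideal.Quotient.mk_surjective,
        Ideal.comap_map_of_surjective _ Ideal.Quotient.mk_surjective, ← RingHom.ker_eq_comap_bot,
        Ideal.mk_ker, sup_eq_left.mpr (hle P hP)] at h2
      exact h2
    have := h1.map (Ideal.Quotient.mk (I ^ n))
    rwa [Ideal.map_comap_of_surjective _ Ideal.Quotient.mk_surjective] at this
  rw [isArtinianRing_iff_isNoetherianRing_krullDimLE_zero]
  refine ⟨hN, Ring.krullDimLE_zero_iff.mpr fun P hP => ?_⟩
  have hmax : ((P.comap (Ideal.Quotient.mk (I ^ n))).map (Ideal.Quotient.mk I)).IsMaximal :=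
    have := Ideal.map_isPrime_of_surjective (f := Ideal.Quotient.mk I) Ideal.Quotient.mk_surjective
      (I := P.comap (Ideal.Quotient.mk (I ^ n))) (by rw [Ideal.mk_ker]; exact hle P hP)
    IsArtinianRing.isMaximal_of_isPrime _
  have h3 : (P.comap (Ideal.Quotient.mk (I ^ n))).IsMaximal := by
    have := Ideal.comap_isMaximal_of_surjective (Ideal.Quotient.mk I) Ideal.Quotient.mk_surjective (K := _) (H := hmax)
    rwa [Ideal.comap_map_of_surjective _ Ideal.Quotient.mk_surjective, ← RingHom.ker_eq_comap_bot,
      Ideal.mk_ker, sup_eq_left.mpr (hle P hP)] at this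
  have := Ideal.map_eq_top_or_isMaximal_of_surjective (Ideal.Quotient.mk (I ^ n)) Ideal.Quotient.mk_surjective h3
  rw [Ideal.map_comap_of_surjective _ Ideal.Quotient.mk_surjective] at this
  exact this.resolve_left hP.ne_top

end Groth.Agent.S14020
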