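import Groth.Statements.S14023
import Mathlib
-- import your own Groth.Agent.* helpers here

set_option autoImplicit false
open CategoryTheory CategoryTheory.Limits Opposite
universe v u
open ARSys

namespace Groth.Agent.S14023

section Aux
variable {A : Type u} [Category.{v} A] [Abelian A]

private lemma mono_sigmaMap {ι : Type} [Finite ι] {X Y : ι → A} (f : ∀ i, X i ⟶ Y i)
    [∀ i, Mono (f i)] : Mono (Limits.Sigma.map f) := by
  haveI : HasFiniteBiproducts A := Abelian.hasFiniteBiproducts
  have : Limits.Sigma.map f =
      (biproduct.isoCoproduct X).inv ≫ biproduct.map f ≫ (biproduct.isoCoproduct Y).hom := by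
    ext i
    simp [biproduct.isoCoproduct_inv, biproduct.isoCoproduct_hom]
  rw [this]
  infer_instance

private instance (a b : ℕᵒᵖ) : Finite (a ⟶ b) := Finite.of_subsingleton

/-- The product system of a family. -/
private noncomputable def prodSys (J : ℕ → A) : ℕᵒᵖ ⥤ A where
  obj i := ∏ᶜ fun a : Fin (i.unop + 1) => J a
  map {i j} f := Pi.lift fun a : Fin (j.unop + 1) =>
    Pi.π (fun a : Fin (i.unop + 1) => J a)
      (Fin.castLE (Nat.succ_le_succ (leOfHom f.unop)) a)
  map_id i := by
    apply Pi.hom_ext
    intro a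
    rw [Pi.lift_π, Category.id_comp]
    rfl
  map_comp {i j k} f g := by
    apply Pi.hom_ext
    intro a
    rw [Pi.lift_π, Category.assoc, Pi.lift_π, Pi.lift_π]
    rfl

private lemma prodSys_injective (J : ℕ → A) [∀ i, Injective (J i)] : Injective (prodSys J) where
  factors {Y Z} g f _ := by
    have : ∀ t, Mono (f.app t) := fun t => inferInstance
    let last : ∀ i : ℕ, (prodSys J).obj (op i) ⟶ J i := fun i =>
      Pi.π (fun a : Fin (i + 1) => J a) (Fin.last i)
    let h : ∀ i : ℕ, Z.obj (op i) ⟶ J i := fun i =>
      Injective.factorThru (g.app (op i) ≫ last i) (f.app (op i))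
    have hh : ∀ i, f.app (op i) ≫ h i = g.app (op i) ≫ last i := fun i =>
      Injective.comp_factorThru _ _
    refine ⟨{ app := fun t => Pi.lift fun a : Fin (t.unop + 1) =>
                Z.map (homOfLE (Nat.lt_succ_iff.mp a.2) : (a : ℕ) ⟶ t.unop).op ≫ h a
              naturality := fun s t φ => ?_ }, ?_⟩
    · apply Pi.hom_ext
      intro a
      show _ = (_ ≫ Pi.lift _) ≫ _
      erw [Category.assoc, Pi.lift_π, Category.assoc, Pi.lift_π, Pi.lift_π, ← Category.assoc,
        ← Z.map_comp]
      rfl
    · refine NatTrans.ext (funext fun t => ?_)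
      apply Pi.hom_ext
      intro a
      let φ : t ⟶ op (a : ℕ) := (homOfLE (Nat.lt_succ_iff.mp a.2) : (a : ℕ) ⟶ t.unop).op
      show (f.app t ≫ Pi.lift _) ≫ _ = _
      rw [Category.assoc, Pi.lift_π, ← Category.assoc]
      refine (congr_arg (· ≫ h a) (f.naturality φ).symm).trans ?_
      rw [Category.assoc, hh, ← Category.assoc]
      refine (congr_arg (· ≫ last a) (g.naturality φ)).trans ?_
      rw [Category.assoc]
      congr 1
      show Pi.lift _ ≫ _ = _
      rw [Pi.lift_π]
      rfl

end Aux

/-- For an abelian category A, the category of inverse systems (A_n)_n indexed by ℕ, i.e. of functors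
ℕᵒᵖ ⥤ A, has enough injectives if and only if A has enough injectives. (The second assertion of the
published proposition, describing the injective systems, is not part of this row.) -/
theorem result
    (A : Type u) [Category.{v} A] [Abelian A] :
    EnoughInjectives (ℕᵒᵖ ⥤ A) ↔ EnoughInjectives A := by
  constructor
  · intro hA
    let L := evaluationLeftAdjoint A (op 0 : ℕᵒᵖ)
    let adj := evaluationAdjunctionRight A (op 0 : ℕᵒᵖ)
    haveI : L.PreservesMonomorphisms := ⟨fun {X Y} f _ => by
      haveI : ∀ t, Mono ((L.map f).app t) := fun t => by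
        have : (L.map f).app t = Limits.Sigma.map fun _ : (op 0 : ℕᵒᵖ) ⟶ t => f := by
          apply Sigma.hom_ext
          intro g
          simp [L]
          erw [Sigma.ι_desc]
        rw [this]
        exact mono_sigmaMap _
      exact NatTrans.mono_of_mono_app _⟩
    haveI : L.ReflectsMonomorphisms := ⟨fun {X Y} f hf => by
      constructor
      intro T a b hab
      have hm : Mono ((L.map f).app (op 0)) := inferInstance
      let ι₀ : ∀ Z : A, Z ⟶ (L.obj Z).obj (op 0) := fun Z => Sigma.ι (fun _ : (op 0 : ℕᵒᵖ) ⟶ op 0 => Z) (𝟙 _)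
      have hn : f ≫ ι₀ Y = ι₀ X ≫ (L.map f).app (op 0) := by simp [L, ι₀]; erw [Sigma.ι_desc]; rfl
      have hs : ∀ Z : A, ι₀ Z ≫ Sigma.desc (fun _ : (op 0 : ℕᵒᵖ) ⟶ op 0 => 𝟙 Z) = 𝟙 Z :=
        fun Z => Sigma.ι_desc _ _
      have h2 : a ≫ ι₀ X = b ≫ ι₀ X := by
        rw [← cancel_mono ((L.map f).app (op 0)), Category.assoc, Category.assoc, ← hn,
          ← Category.assoc, hab, Category.assoc]
      have h3 := congr_arg (· ≫ Sigma.desc (fun _ : (op 0 : ℕᵒᵖ) ⟶ op 0 => 𝟙 X)) h2
      erw [Category.assoc, Category.assoc, hs, Category.comp_id, Category.comp_id] at h3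
      exact h3⟩
    exact EnoughInjectives.of_adjunction (adj := adj)
  · intro hA
    refine ⟨fun X => ⟨{
      J := prodSys fun i => Injective.under (X.obj (op i))
      injective := prodSys_injective _
      f :=
        { app := fun t => Pi.lift fun a : Fin (t.unop + 1) =>
            X.map (homOfLE (Nat.lt_succ_iff.mp a.2) : (a : ℕ) ⟶ t.unop).op ≫ Injective.ι _
          naturality := fun s t φ => by
            apply Pi.hom_ext
            intro a
            show _ = (_ ≫ Pi.lift _) ≫ _
            erw [Category.assoc, Pi.lift_π, Category.assoc, Pi.lift_π, Pi.lift_π, ← Category.assoc,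
              ← X.map_comp]
            rfl }
      mono := ?_ }⟩⟩
    apply +allowSynthFailures NatTrans.mono_of_mono_app
    intro t
    constructor
    intro T a b hab
    have := congr_arg (· ≫ Pi.π (fun c : Fin (t.unop + 1) => Injective.under (X.obj (op (c : ℕ)))) (Fin.last t.unop)) hab
    erw [Category.assoc, Category.assoc, Pi.lift_π] at this
    have hid : (homOfLE (Nat.lt_succ_iff.mp (Fin.last t.unop).2) : ((Fin.last t.unop : Fin (t.unop + 1)) : ℕ) ⟶ t.unop).op = 𝟙 t := Subsingleton.elim _ _
    rw [hid] at this
    erw [X.map_id, Category.id_comp] at this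
    exact (Injective.ι_mono (X.obj t)).right_cancellation a b this

end Groth.Agent.S14023
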