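import Mathlib
import Groth.Statements.S14032
-- import your own Groth.Agent.* helpers here

set_option autoImplicit false
universe u v
open W4c1frobunstiva

namespace Groth.Agent.S14032

open TensorProduct in
/-- Let R be a commutative Noetherian ring with nilradical n, M an R-module and r a natural number. Then
M is NR-free of rank r — generated by r elements such that every linear relation among them has
nilpotent coefficients — if and only if (R/n) ⊗_R M is free of rank r over R/n, in the sense of
admitting a basis indexed by r elements. (The published statement assumes M finitely generated and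
also gives the converse when R is local; over a Noetherian ring the nilradical is nilpotent, the
case used here, and finite generation is not needed.) -/
theorem result (R : Type u) [CommRing R]
    [IsNoetherianRing R] (M : Type v) [AddCommGroup M] [Module R M] (r : ℕ) :
    W4c1frobunstiva.IsNRFree R M r ↔
      Nonempty (Module.Basis (Fin r) (R ⧸ nilradical R) ((R ⧸ nilradical R) ⊗[R] M)) := by
  classical
  set N := nilradical R
  let e := TensorProduct.quotTensorEquivQuotSMul M N
  have hsm : ∀ (c : R) (x : (R ⧸ N) ⊗[R] M), (Ideal.Quotient.mk N c) • x = c • x := fun c x =>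
    algebraMap_smul (R ⧸ N) c x
  constructor
  · rintro ⟨m, hs, hrel⟩
    have hli : LinearIndependent (R ⧸ N) (fun i => (1 : R ⧸ N) ⊗ₜ[R] m i) := by
      rw [Fintype.linearIndependent_iff]
      intro g hg i
      choose c hc using fun j => Ideal.Quotient.mk_surjective (g j)
      simp only [← hc, hsm, TensorProduct.smul_tmul', ← TensorProduct.tmul_smul, TensorProduct.smul_tmul, ← TensorProduct.tmul_sum] at hg
      have := congrArg e hg
      rw [map_zero, ← map_one (Ideal.Quotient.mk N), TensorProduct.quotTensorEquivQuotSMul_mk_tmul, one_smul,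
        Submodule.Quotient.mk_eq_zero, ← hs, Submodule.mem_ideal_smul_span_iff_exists_sum] at this
      obtain ⟨f, hf, hsum⟩ := this
      rw [Finsupp.sum_fintype _ _ (by simp)] at hsum
      have h0 := hrel (fun j => c j - f j) (by
        simp only [sub_smul, Finset.sum_sub_distrib, hsum, sub_self]) i
      rw [← hc i, Ideal.Quotient.eq_zero_iff_mem]
      simpa using N.add_mem (mem_nilradical.2 h0) (hf i)
    refine ⟨Module.Basis.mk hli ?_⟩
    rintro x -
    induction x using TensorProduct.induction_on with
    | zero => exact zero_mem _
    | add x y hx hy => exact add_mem hx hy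
    | tmul q x =>
      obtain ⟨q, rfl⟩ := Ideal.Quotient.mk_surjective q
      obtain ⟨c, rfl⟩ := (Submodule.mem_span_range_iff_exists_fun R).1 (hs ▸ Submodule.mem_top : x ∈ _)
      rw [TensorProduct.tmul_sum]
      refine Submodule.sum_mem _ fun j _ => ?_
      rw [show (Ideal.Quotient.mk N q) ⊗ₜ[R] (c j • m j) = (Ideal.Quotient.mk N q * Ideal.Quotient.mk N (c j)) • ((1 : R ⧸ N) ⊗ₜ[R] m j) by
        rw [TensorProduct.tmul_smul, ← hsm, TensorProduct.smul_tmul', TensorProduct.smul_tmul', smul_eq_mul, smul_eq_mul, mul_one, mul_comm]]
      exact Submodule.smul_mem _ _ (Submodule.subset_span ⟨j, rfl⟩)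
  · rintro ⟨b⟩
    have hsur : Function.Surjective (fun x : M => (1 : R ⧸ N) ⊗ₜ[R] x) :=
      TensorProduct.mk_surjective R M (R ⧸ N) Ideal.Quotient.mk_surjective
    choose m hm using fun i => hsur (b i)
    simp only at hm
    refine ⟨m, ?_, fun a ha i => ?_⟩
    · set S := Submodule.span R (Set.range m)
      have h1 : ∀ x : M, x ∈ S ⊔ N • (⊤ : Submodule R M) := by
        intro x
        choose c hc using fun j => Ideal.Quotient.mk_surjective (b.repr ((1 : R ⧸ N) ⊗ₜ[R] x) j)
        have hx : (1 : R ⧸ N) ⊗ₜ[R] x = (1 : R ⧸ N) ⊗ₜ[R] (∑ j, c j • m j) := by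
          rw [TensorProduct.tmul_sum]
          simp only [TensorProduct.tmul_smul, hm, ← hsm, hc, b.sum_repr]
        have := congrArg e hx
        rw [← map_one (Ideal.Quotient.mk N), TensorProduct.quotTensorEquivQuotSMul_mk_tmul,
          TensorProduct.quotTensorEquivQuotSMul_mk_tmul, one_smul, one_smul, Submodule.Quotient.eq] at this
        exact Submodule.mem_sup.2 ⟨_, Submodule.sum_mem _ fun j _ => S.smul_mem _ (Submodule.subset_span ⟨j, rfl⟩), _, this, by abel⟩
      obtain ⟨k, hk⟩ := IsNoetherianRing.isNilpotent_nilradical R
      have h2 : ∀ j : ℕ, S ⊔ (N ^ j) • (⊤ : Submodule R M) = ⊤ := by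
        intro j
        induction j with
        | zero => simp
        | succ j ih =>
          apply top_le_iff.1
          conv_lhs => rw [← top_le_iff.1 (fun x _ => h1 x : ⊤ ≤ S ⊔ N • (⊤ : Submodule R M))]
          refine sup_le le_sup_left ?_
          conv_lhs => rw [← ih, Submodule.smul_sup, ← Submodule.mul_smul, ← pow_succ']
          exact sup_le_sup_right Submodule.smul_le_right _
      simpa [N, hk] using h2 k
    · rw [← mem_nilradical]
      refine Ideal.Quotient.eq_zero_iff_mem.1 ?_
      refine Fintype.linearIndependent_iff.1 b.linearIndependent (fun j => Ideal.Quotient.mk N (a j)) ?_ i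
      simp only [← hm, hsm, ← TensorProduct.tmul_smul, ← TensorProduct.tmul_sum, ha, TensorProduct.tmul_zero]

end Groth.Agent.S14032
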