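import Groth.Statements.S14033
import Mathlib
-- import your own Groth.Agent.* helpers here

set_option autoImplicit false
universe u v
open W4c1frobunstiva

namespace Groth.Agent.S14033

open DualNumber Pointwise TrivSqZeroExt

section
variable {R : Type u} [CommRing R] {M : Type v} [AddCommGroup M] [Module R[ε] M] [Module R M]
  [IsScalarTower R R[ε] M] {r : ℕ}

theorem smul_split (a : R[ε]) (x : M) :
    a • x = a.fst • x + a.snd • ((ε : R[ε]) • x) := by
  conv_lhs => rw [← TrivSqZeroExt.inl_fst_add_inr_snd_eq a]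
  rw [add_smul]
  congr 1
  · rw [← algebraMap_smul R[ε] a.fst x]; rfl
  · rw [← smul_assoc]
    congr 1
    rw [DualNumber.inr_eq_smul_eps]

theorem eps_smul_smul (x : M) : (ε : R[ε]) • ((ε : R[ε]) • x) = 0 := by
  rw [smul_smul, DualNumber.eps_mul_eps, zero_smul]

theorem exists_eq (x : M) (hx : x ∈ (ε : R[ε]) • (⊤ : Submodule R[ε] M)) :
    ∃ y : M, x = (ε : R[ε]) • y := by
  obtain ⟨y, -, rfl⟩ := (Submodule.mem_smul_pointwise_iff_exists _ _ _).mp hx
  exact ⟨y, rfl⟩

theorem forward (b : Module.Basis (Fin r) R[ε] M) :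
    Nonempty (Module.Basis (Fin r) R (M ⧸ ((ε : R[ε]) • (⊤ : Submodule R[ε] M)))) ∧
      Nonempty (Module.Basis (Fin r) R
        (((ε : R[ε]) • (⊤ : Submodule R[ε] M)).restrictScalars R)) := by
  set E := (ε : R[ε]) • (⊤ : Submodule R[ε] M) with hE
  have hmem : ∀ y, (ε : R[ε]) • y ∈ E := fun y =>
    Submodule.smul_mem_pointwise_smul _ _ _ trivial
  refine ⟨⟨Module.Basis.mk (v := fun i => Submodule.Quotient.mk (b i)) ?_ ?_⟩,
    ⟨Module.Basis.mk (v := fun i => (⟨(ε : R[ε]) • b i, hmem _⟩ : E.restrictScalars R)) ?_ ?_⟩⟩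
  · rw [Fintype.linearIndependent_iff]
    intro a ha i
    have h1 : ∑ j, a j • b j ∈ E := by
      rw [← Submodule.Quotient.mk_eq_zero, ← ha]
      simp [← Submodule.mkQ_apply]
    obtain ⟨y, hy⟩ := exists_eq _ h1
    have e : ∑ j, a j • b j = ∑ j, (algebraMap R R[ε] (a j)) • b j := by simp
    have := congrArg (fun x => (b.repr x i).fst) (e ▸ hy)
    simp only [b.repr_sum_self, map_smul, Finsupp.smul_apply, smul_eq_mul] at this
    simpa [TrivSqZeroExt.algebraMap_eq_inl] using this
  · intro x _
    obtain ⟨y, rfl⟩ := Submodule.Quotient.mk_surjective _ x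
    rw [← b.sum_repr y, ← Submodule.mkQ_apply, map_sum]
    refine Submodule.sum_mem _ fun i _ => ?_
    rw [smul_split, map_add, LinearMap.map_smul_of_tower, LinearMap.map_smul_of_tower,
      show E.mkQ ((ε : R[ε]) • b i) = 0 from (Submodule.Quotient.mk_eq_zero _).mpr (hmem _),
      smul_zero, add_zero]
    exact Submodule.smul_mem _ _ (Submodule.subset_span ⟨i, rfl⟩)
  · rw [Fintype.linearIndependent_iff]
    intro a ha i
    have h1 := congrArg Subtype.val ha
    simp only [AddSubmonoidClass.coe_finsetSum, Submodule.coe_smul, Submodule.coe_zero] at h1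
    have e : ∑ j, (algebraMap R R[ε] (a j) * ε) • b j = 0 := by
      rw [← h1]; exact Finset.sum_congr rfl fun j _ => by rw [mul_smul, algebraMap_smul]
    have := congrArg (fun c => c.snd) ((Fintype.linearIndependent_iff.mp b.linearIndependent) _ e i)
    simpa [TrivSqZeroExt.algebraMap_eq_inl] using this
  · rintro ⟨x, hx⟩ _
    obtain ⟨y, rfl⟩ := exists_eq x hx
    have e : (ε : R[ε]) • y = ∑ i, (b.repr y i).fst • ((ε : R[ε]) • b i) := by
      conv_lhs => rw [← b.sum_repr y, Finset.smul_sum]
      refine Finset.sum_congr rfl fun i _ => ?_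
      rw [smul_comm, smul_split (b.repr y i), eps_smul_smul, smul_zero, add_zero]
    have e2 : (⟨(ε : R[ε]) • y, hx⟩ : E.restrictScalars R) =
        ∑ i, (b.repr y i).fst • (⟨(ε : R[ε]) • b i, hmem _⟩ : E.restrictScalars R) := by
      apply Subtype.ext
      simpa using e
    rw [e2]
    exact Submodule.sum_mem _ fun i _ => Submodule.smul_mem _ _ (Submodule.subset_span ⟨i, rfl⟩)

theorem backward
    (bq : Module.Basis (Fin r) R (M ⧸ ((ε : R[ε]) • (⊤ : Submodule R[ε] M))))
    (be : Module.Basis (Fin r) R (((ε : R[ε]) • (⊤ : Submodule R[ε] M)).restrictScalars R)) :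
    Nonempty (Module.Basis (Fin r) R[ε] M) := by
  set E := (ε : R[ε]) • (⊤ : Submodule R[ε] M) with hE
  choose m hm using fun i => Submodule.Quotient.mk_surjective E (bq i)
  have hmem : ∀ y, (ε : R[ε]) • y ∈ E := fun y =>
    Submodule.smul_mem_pointwise_smul _ _ _ trivial
  -- every element is a combination of the `m i` modulo `E`
  have hdec : ∀ y : M, ∃ (a : Fin r → R) (z : M), y = ∑ i, a i • m i + (ε : R[ε]) • z := fun y => by
    refine ⟨fun i => bq.repr (Submodule.Quotient.mk y) i, ?_⟩
    have h1 : y - ∑ i, bq.repr (Submodule.Quotient.mk y) i • m i ∈ E := by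
      rw [← Submodule.Quotient.mk_eq_zero, Submodule.Quotient.mk_sub, sub_eq_zero]
      conv_lhs => rw [← bq.sum_repr (Submodule.Quotient.mk y)]
      simp [← Submodule.mkQ_apply, ← hm]
    obtain ⟨z, hz⟩ := exists_eq _ h1
    exact ⟨z, (sub_eq_iff_eq_add'.mp hz)⟩
  let L : (Fin r → R) →ₗ[R] E.restrictScalars R :=
    Fintype.linearCombination R fun i => (⟨(ε : R[ε]) • m i, hmem _⟩ : E.restrictScalars R)
  have hLapp : ∀ a, (L a : M) = ∑ i, a i • ((ε : R[ε]) • m i) := fun a => by
    simp [L, Fintype.linearCombination_apply]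
  have hLs : Function.Surjective L := by
    rintro ⟨x, hx⟩
    obtain ⟨y, rfl⟩ := exists_eq x hx
    obtain ⟨a, z, rfl⟩ := hdec y
    refine ⟨a, Subtype.ext ?_⟩
    rw [hLapp]
    show _ = (ε : R[ε]) • (∑ i, a i • m i + (ε : R[ε]) • z)
    rw [smul_add, eps_smul_smul, add_zero, Finset.smul_sum]
    exact Finset.sum_congr rfl fun i _ => smul_comm _ _ _
  have hLi : Function.Injective L := by
    have h2 : Function.Surjective (be.equivFun.toLinearMap ∘ₗ L) :=
      be.equivFun.surjective.comp hLs
    have h3 := (OrzechProperty.bijective_of_surjective_endomorphism _ h2).injective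
    exact fun a b hab => h3 (congrArg be.equivFun hab)
  refine ⟨Module.Basis.mk (v := m) ?_ ?_⟩
  · rw [Fintype.linearIndependent_iff]
    intro c hc i
    have hsplit : ∑ j, c j • m j = ∑ j, (c j).fst • m j + (L fun j => (c j).snd : M) := by
      rw [hLapp, ← Finset.sum_add_distrib]
      exact Finset.sum_congr rfl fun j _ => smul_split _ _
    rw [hc] at hsplit
    have hfst : (fun j => (c j).fst) = 0 := by
      have h1 := congrArg E.mkQ hsplit
      rw [map_zero, map_add, show E.mkQ (L fun j => (c j).snd : M) = 0 from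
        (Submodule.Quotient.mk_eq_zero _).mpr (L fun j => (c j).snd).2, add_zero, map_sum] at h1
      funext j
      refine Fintype.linearIndependent_iff.mp bq.linearIndependent (fun j => (c j).fst) ?_ j
      rw [h1]
      exact Finset.sum_congr rfl fun k _ => by
        rw [LinearMap.map_smul_of_tower, Submodule.mkQ_apply, hm]
    have hsnd : (fun j => (c j).snd) = 0 := by
      refine (map_eq_zero_iff L hLi).mp (Subtype.ext ?_)
      have h0 : ∀ j, (c j).fst = 0 := congrFun hfst
      simp only [h0, zero_smul, Finset.sum_const_zero, zero_add] at hsplit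
      exact hsplit.symm
    exact TrivSqZeroExt.ext (congrFun hfst i) (congrFun hsnd i)
  · intro y _
    obtain ⟨a, z, rfl⟩ := hdec y
    obtain ⟨b, z', rfl⟩ := hdec z
    rw [smul_add, eps_smul_smul, add_zero, Finset.smul_sum]
    refine Submodule.add_mem _ ?_ ?_ <;> refine Submodule.sum_mem _ fun i _ => ?_
    · exact Submodule.smul_of_tower_mem _ _ (Submodule.subset_span ⟨i, rfl⟩)
    · exact Submodule.smul_mem _ _ (Submodule.smul_of_tower_mem _ _ (Submodule.subset_span ⟨i, rfl⟩))

end

open DualNumber Pointwise in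
/-- Let R be a commutative ring, R[ε] its ring of dual numbers (ε² = 0), M an R[ε]-module and r a
natural number. Then M is free of rank r over R[ε] (admits a basis of r elements) if and only if the
R-modules M/εM and εM are both free of rank r. (The published statement concerns a coherent sheaf on
the product of a scheme S with Spec ℤ[ε] and local freeness of rank r; that assertion is local, and
this row is its form over one ring, with no finiteness assumption on M and no hypothesis on R.) -/
theorem result (R : Type u) [CommRing R] (M : Type v)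
    [AddCommGroup M] [Module R[ε] M] [Module R M] [IsScalarTower R R[ε] M] (r : ℕ) :
    Nonempty (Module.Basis (Fin r) R[ε] M) ↔
      (Nonempty (Module.Basis (Fin r) R (M ⧸ ((ε : R[ε]) • (⊤ : Submodule R[ε] M)))) ∧
        Nonempty (Module.Basis (Fin r) R (((ε : R[ε]) • (⊤ : Submodule R[ε] M)).restrictScalars R))) := by
  exact ⟨fun ⟨b⟩ => forward b, fun ⟨⟨bq⟩, ⟨be⟩⟩ => backward bq be⟩

end Groth.Agent.S14033
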