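import Groth.Statements.S14034
import Mathlib
-- import your own Groth.Agent.* helpers here

set_option autoImplicit false
universe u
open W4c1frobunstiva

namespace Groth.Agent.S14034

/-- Let R be a Noetherian local ring and f an element of R whose annihilator consists of nilpotent
elements (a f = 0 forces a nilpotent), r, s and l ≤ s natural numbers, N the quotient of the free
module R^s by the submodule spanned by f e_1, …, f e_l (e_i the standard basis vectors), and φ : R^r
→ N a surjective linear map. Then the kernel of φ is NR-free of rank r + l − s: it is generated by r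
+ l − s elements every linear relation among which has nilpotent coefficients; and when l = 0 the
kernel is free of rank r − s. (The published statement takes R Noetherian with irreducible spectrum
and R_red a domain, not necessarily local, and f arbitrary. Over the coordinate ring of the real
2-sphere the kernel of (x, y, z) : R³ → R is not free, and over k[x, y]/(y², xy) localised at (x, y)
with f = y the kernel of R → R/(y) is spanned by y with the non-nilpotent relation x·y = 0. The
published argument uses that the kernel of a surjection of free modules is free, true over a local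
ring, and that a f = 0 forces a nilpotent, which is the hypothesis taken here; it holds when R_red
is a domain and f is not nilpotent, and also for f = ε in A[ε] with A a domain, so primality of the
nilradical is not assumed.) -/
theorem result (R : Type u)
    [CommRing R] [IsNoetherianRing R] [IsLocalRing R] (f : R)
    (hann : ∀ a : R, a * f = 0 → IsNilpotent a) (r s l : ℕ) (hls : l ≤ s)
    (φ : (Fin r → R) →ₗ[R]
      ((Fin s → R) ⧸ Submodule.span R (Set.range fun i : Fin l => (Pi.single (Fin.castLE hls i) f : Fin s → R))))
    (hφ : Function.Surjective φ) :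
    W4c1frobunstiva.IsNRFree R (LinearMap.ker φ) (r + l - s) ∧
      (l = 0 → Nonempty (Module.Basis (Fin (r - s)) R (LinearMap.ker φ))) := by
  classical
  obtain ⟨ψ, hψ⟩ := Module.projective_lifting_property (Submodule.span R (Set.range fun i : Fin l => (Pi.single (Fin.castLE hls i) f : Fin s → R))).mkQ φ (Submodule.span R (Set.range fun i : Fin l => (Pi.single (Fin.castLE hls i) f : Fin s → R))).mkQ_surjective
  have hψ' : ∀ x, (Submodule.span R (Set.range fun i : Fin l => (Pi.single (Fin.castLE hls i) f : Fin s → R))).mkQ (ψ x) = φ x := fun x => LinearMap.congr_fun hψ x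
  let ι : (Fin l → R) →ₗ[R] (Fin s → R) := Fintype.linearCombination R (fun i : Fin l => (Pi.single (Fin.castLE hls i) f : Fin s → R))
  have hι : LinearMap.range ι = (Submodule.span R (Set.range fun i : Fin l => (Pi.single (Fin.castLE hls i) f : Fin s → R))) := Fintype.range_linearCombination R (v := _)
  let Ψ : (Fin r → R) × (Fin l → R) →ₗ[R] (Fin s → R) := ψ.coprod ι
  have hΨ : Function.Surjective Ψ := fun y => by
    obtain ⟨x, hx⟩ := hφ ((Submodule.span R (Set.range fun i : Fin l => (Pi.single (Fin.castLE hls i) f : Fin s → R))).mkQ y)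
    have : y - ψ x ∈ LinearMap.range ι := by
      rw [hι, ← Submodule.Quotient.mk_eq_zero, ← Submodule.mkQ_apply, map_sub, hψ', hx, sub_self]
    obtain ⟨c, hc⟩ := this
    exact ⟨(x, c), by simp [Ψ, hc]⟩
  obtain ⟨sec, hsec⟩ := Module.projective_lifting_property Ψ (LinearMap.id) hΨ
  let P : ((Fin r → R) × (Fin l → R)) →ₗ[R] LinearMap.ker Ψ := LinearMap.codRestrict _ (LinearMap.id - sec ∘ₗ Ψ) (fun v => by
    rw [LinearMap.mem_ker, LinearMap.sub_apply, map_sub, LinearMap.id_apply, LinearMap.comp_apply,
      show Ψ (sec (Ψ v)) = Ψ v from LinearMap.congr_fun hsec (Ψ v), sub_self])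
  haveI : Module.Projective R (LinearMap.ker Ψ) := Module.Projective.of_split (LinearMap.ker Ψ).subtype P (by
    ext v : 1
    apply Subtype.ext
    simp [P, LinearMap.mem_ker.1 v.2])
  haveI : Module.Free R (LinearMap.ker Ψ) := Module.free_of_flat_of_isLocalRing
  have hfr : Module.finrank R (LinearMap.ker Ψ) = r + l - s := by
    let e : ((Fin r → R) × (Fin l → R)) ≃ₗ[R] LinearMap.ker Ψ × (Fin s → R) := LinearEquiv.ofLinearMap (P.prod Ψ) ((LinearMap.ker Ψ).subtype.coprod sec) (by
      apply LinearMap.ext; rintro ⟨v, y⟩
      have h1 : Ψ (sec y) = y := LinearMap.congr_fun hsec y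
      refine Prod.ext (Subtype.ext ?_) ?_
      · simp [P, LinearMap.mem_ker.1 v.2, h1]
      · simp [LinearMap.mem_ker.1 v.2, h1]) (by
      apply LinearMap.ext; intro v
      simp [P])
    have := e.finrank_eq
    rw [Module.finrank_prod, Module.finrank_prod, Module.finrank_pi, Module.finrank_pi, Module.finrank_pi, Fintype.card_fin, Fintype.card_fin, Fintype.card_fin] at this
    omega
  let q : LinearMap.ker Ψ →ₗ[R] LinearMap.ker φ := LinearMap.codRestrict _ ((LinearMap.fst R _ _).comp (LinearMap.ker Ψ).subtype) (fun v => by
    have h : ψ v.1.1 + ι v.1.2 = 0 := LinearMap.mem_ker.1 v.2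
    rw [LinearMap.mem_ker, ← hψ']
    show (Submodule.span R (Set.range fun i : Fin l => (Pi.single (Fin.castLE hls i) f : Fin s → R))).mkQ (ψ v.1.1) = 0
    rw [eq_neg_of_add_eq_zero_left h]
    refine (Submodule.Quotient.mk_eq_zero _).2 ((Submodule.span R (Set.range fun i : Fin l => (Pi.single (Fin.castLE hls i) f : Fin s → R))).neg_mem ?_)
    rw [← hι]; exact ⟨_, rfl⟩)
  have hq : Function.Surjective q := fun x => by
    have : ψ x.1 ∈ LinearMap.range ι := by
      rw [hι, ← Submodule.Quotient.mk_eq_zero, ← Submodule.mkQ_apply, hψ']; exact x.2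
    obtain ⟨c, hc⟩ := this
    exact ⟨⟨(x.1, -c), by simp [Ψ, hc]⟩, rfl⟩
  have hnil : ∀ v : LinearMap.ker Ψ, q v = 0 → ∀ j, IsNilpotent (v.1.2 j) := by
    intro v hv j
    have hx : v.1.1 = 0 := congrArg Subtype.val hv
    have h : ψ v.1.1 + ι v.1.2 = 0 := LinearMap.mem_ker.1 v.2
    rw [hx, map_zero, zero_add] at h
    have := congrFun h (Fin.castLE hls j)
    simp [ι, Fintype.linearCombination_apply, Finset.sum_apply, Pi.single_apply, Fin.castLE_inj] at this
    exact hann _ this
  let b : Module.Basis (Fin (r + l - s)) R (LinearMap.ker Ψ) := Module.finBasisOfFinrankEq R _ hfr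
  refine ⟨⟨fun i => q (b i), ?_, fun a ha i => ?_⟩, fun hl => ?_⟩
  · rw [show (Set.range fun i => q (b i)) = q '' Set.range b from Set.range_comp q b, ← Submodule.map_span, b.span_eq, Submodule.map_top, LinearMap.range_eq_top.2 hq]
  · set v := ∑ i, a i • b i with hv
    have hqv : q v = 0 := by simpa [hv] using ha
    have hx : v.1.1 = 0 := congrArg Subtype.val hqv
    have hdec : v = ∑ j, v.1.2 j • P (0, Pi.single j 1) := by
      have h1 : P v.1 = v := Subtype.ext (by simp [P, LinearMap.mem_ker.1 v.2])
      conv_lhs => rw [← h1, show v.1 = ∑ j, v.1.2 j • ((0 : Fin r → R), (Pi.single j 1 : Fin l → R)) from Prod.ext (by simp [hx, Prod.fst_sum]) (by simp [Prod.snd_sum]; exact pi_eq_sum_univ' _), map_sum]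
      simp only [map_smul]
    have hai : a i = b.repr v i := by simp [hv, Finsupp.single_apply]
    rw [hai, hdec, map_sum, Finsupp.finsetSum_apply]
    refine isNilpotent_sum fun j _ => ?_
    rw [map_smul, Finsupp.smul_apply, smul_eq_mul]
    exact (Commute.all _ _).isNilpotent_mul_right (hnil v hqv j)
  · subst hl
    refine ⟨((b.map (LinearEquiv.ofBijective q ⟨fun x y h => ?_, hq⟩)).reindex (finCongr (show r + 0 - s = r - s by omega)))⟩
    exact Subtype.ext (Prod.ext (congrArg Subtype.val h) (Subsingleton.elim _ _))

end Groth.Agent.S14034
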