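import Groth.Statements.S14035
import Mathlib
-- import your own Groth.Agent.* helpers here

set_option autoImplicit false
universe u v
open W4c1frobunstiva

namespace Groth.Agent.S14035

open TensorProduct in
/-- Let A → B be a ring homomorphism with B Noetherian. If B modulo its nilradical is flat over A and
every fibre ring κ(p) ⊗_A B, p a prime of A, is reduced, then B is reduced. (This is the affine form
of the statement for a morphism of schemes X → Y all of whose fibres are reduced and whose
restriction to the reduced closed subscheme X_red is flat. The published statement does not say X is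
locally Noetherian, but its proof applies Nakayama's lemma to the nilradical as a finitely generated
ideal; without it the square-zero extension of a discrete valuation ring A by Frac(A)/A is a
counterexample.) -/
theorem result (A : Type u) (B : Type v)
    [CommRing A] [CommRing B] [Algebra A B] [IsNoetherianRing B]
    [Module.Flat A (B ⧸ nilradical B)]
    (hfib : ∀ p : PrimeSpectrum A, IsReduced (p.asIdeal.ResidueField ⊗[A] B)) :
    IsReduced B := by
  classical
  suffices hN : nilradical B = ⊥ by
    exact ⟨fun x hx => by simpa [hN] using mem_nilradical.2 hx⟩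
  set N := nilradical B with hNdef
  haveI : Module.Finite B N := Module.Finite.iff_fg.2 (IsNoetherian.noetherian N)
  have hκ : ∀ (p : PrimeSpectrum A) (z : p.asIdeal.ResidueField ⊗[A] N), z = 0 := by
    intro p z
    haveI := hfib p
    have hinj := LinearMap.lTensor_injective_of_exact_of_flat (R := A)
      ((N.mkQ).restrictScalars A) N.mkQ_surjective ((N.subtype).restrictScalars A) Subtype.val_injective
      (fun y => by
        constructor
        · intro hy; exact ⟨⟨y, (Submodule.Quotient.mk_eq_zero N).1 hy⟩, rfl⟩
        · rintro ⟨w, rfl⟩; exact (Submodule.Quotient.mk_eq_zero N).2 w.2)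
      p.asIdeal.ResidueField
    apply hinj
    rw [map_zero]
    refine IsReduced.eq_zero _ ?_
    induction z using TensorProduct.induction_on with
    | zero => rw [map_zero]; exact IsNilpotent.zero
    | add a b ha hb => rw [map_add]; exact (Commute.all _ _).isNilpotent_add ha hb
    | tmul c w =>
      obtain ⟨n, hn⟩ := mem_nilradical.1 w.2
      refine ⟨n, ?_⟩
      show (c ⊗ₜ[A] (w : B)) ^ n = 0
      rw [Algebra.TensorProduct.tmul_pow, hn, TensorProduct.tmul_zero]
  have hsupp : Module.support B N = ∅ := by
    refine Set.eq_empty_iff_forall_notMem.2 fun q hq => ?_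
    rw [Module.mem_support_iff_nontrivial_residueField_tensorProduct] at hq
    let p : PrimeSpectrum A := ⟨q.asIdeal.comap (algebraMap A B), inferInstance⟩
    let φ : p.asIdeal.ResidueField →+* q.asIdeal.ResidueField :=
      Ideal.ResidueField.map p.asIdeal q.asIdeal (algebraMap A B) rfl
    have hφA : ∀ a : A, φ (algebraMap A p.asIdeal.ResidueField a) = algebraMap A q.asIdeal.ResidueField a := fun a => by
      rw [IsScalarTower.algebraMap_apply A B q.asIdeal.ResidueField]
      simp [φ]
    let L : p.asIdeal.ResidueField ⊗[A] N →ₗ[A] q.asIdeal.ResidueField ⊗[B] N :=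
      TensorProduct.lift (LinearMap.mk₂ A (fun c w => φ c ⊗ₜ[B] w)
        (fun c c' w => by rw [map_add, TensorProduct.add_tmul])
        (fun a c w => by
          rw [Algebra.smul_def, map_mul, hφA, ← Algebra.smul_def, TensorProduct.smul_tmul'])
        (fun c w w' => by rw [TensorProduct.tmul_add])
        (fun a c w => by rw [TensorProduct.tmul_smul]))
    have h1 : ∀ w : N, (1 : q.asIdeal.ResidueField) ⊗ₜ[B] w = 0 := fun w => by
      have := congrArg L (hκ p ((1 : p.asIdeal.ResidueField) ⊗ₜ[A] w))
      simpa [L] using this
    obtain ⟨x, hx⟩ := exists_ne (0 : q.asIdeal.ResidueField ⊗[B] N)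
    apply hx
    clear hx
    induction x using TensorProduct.induction_on with
    | zero => rfl
    | add a b ha hb => rw [ha, hb, add_zero]
    | tmul c w =>
      rw [show c ⊗ₜ[B] w = c • ((1 : q.asIdeal.ResidueField) ⊗ₜ[B] w) by
        rw [TensorProduct.smul_tmul', smul_eq_mul, mul_one], h1, smul_zero]
  rw [Module.support_eq_empty_iff] at hsupp
  exact Submodule.eq_bot_iff _ |>.2 fun x hx => congrArg Subtype.val (Subsingleton.elim (⟨x, hx⟩ : N) 0)

end Groth.Agent.S14035
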