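import Mathlib
import Groth.Statements.S14039
-- import your own Groth.Agent.* helpers here

set_option autoImplicit false
open W4c1frobunstiva

namespace Groth.Agent.S14039

/-- For natural numbers p, n ≥ 1 and s, the number of monomials of degree s in n variables in which
every variable occurs with a positive exponent strictly less than p — that is, of exponent vectors
(e_1, …, e_n) with sum s and 1 ≤ e_i ≤ p − 1 — equals the inclusion–exclusion sum over i from 0 to n
of (−1)^i · C(n, i) · C(s − i(p − 1) − 1, n − 1), the last factor counting monomials of degree s −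
i(p − 1) − n in n variables and read as 0 when s < i(p − 1) + n. (A companion count, by how many
exponents lie below p/2, and a remark on polynomiality in s and p are not part of this row.) -/
theorem result (p n s : ℕ)
    (hn : 1 ≤ n) :
    (Fintype.card {e : Fin n → Fin p // (∀ i, 1 ≤ (e i : ℕ)) ∧ ∑ i, (e i : ℕ) = s} : ℤ) =
      ∑ i ∈ Finset.range (n + 1),
        (-1 : ℤ) ^ i * (n.choose i : ℤ) *
          (if i * (p - 1) + n ≤ s then (((s - i * (p - 1) - 1).choose (n - 1) : ℕ) : ℤ) else 0) := by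
  classical
  open PowerSeries in
  let F : ℤ⟦X⟧ := ∑ a ∈ Finset.univ.filter (fun a : Fin p => 1 ≤ (a : ℕ)), X ^ (a : ℕ)
  have hcard : coeff s (F ^ n) = (Fintype.card {e : Fin n → Fin p // (∀ i, 1 ≤ (e i : ℕ)) ∧ ∑ i, (e i : ℕ) = s} : ℤ) := by
    have hp : F ^ n = ∏ _i : Fin n, F := by simp
    rw [hp, Finset.prod_univ_sum]
    simp only [Finset.prod_pow_eq_pow_sum, map_sum, coeff_X_pow]
    rw [Fintype.card_subtype, Finset.sum_boole]
    congr 2
    ext e
    simp [Fintype.mem_piFinset, eq_comm]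
  have hF : F * (1 - X) = X * (1 - X ^ (p - 1)) := by
    cases p with
    | zero => simp [F]
    | succ q =>
      have : F = X * ∑ j ∈ Finset.range q, X ^ j := by
        simp only [F, Finset.sum_filter, Fin.sum_univ_succ, Fin.val_zero, Fin.val_succ]
        simp [Finset.mul_sum, ← Fin.sum_univ_eq_sum_range, pow_succ']
      rw [this, mul_assoc, geom_sum_mul_neg, Nat.add_sub_cancel]
  obtain ⟨d, rfl⟩ : ∃ d, n = d + 1 := ⟨n - 1, by omega⟩
  have hFn : F ^ (d+1) = X ^ (d+1) * (1 - X ^ (p-1)) ^ (d+1) * (invOneSubPow ℤ (d+1)).val := by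
    rw [← mul_pow, ← hF, mul_pow, mul_assoc, ← invOneSubPow_inv_eq_one_sub_pow, (invOneSubPow ℤ (d+1)).inv_val, mul_one]
  rw [← hcard, hFn, sub_eq_add_neg, add_comm (1 : ℤ⟦X⟧), add_pow, Finset.mul_sum, Finset.sum_mul, map_sum]
  refine Finset.sum_congr rfl fun i _ => ?_
  have : X ^ (d+1) * ((-X ^ (p-1)) ^ i * 1 ^ (d + 1 - i) * ((d+1).choose i : ℤ⟦X⟧)) * (invOneSubPow ℤ (d+1)).val
      = PowerSeries.C ((-1 : ℤ) ^ i * ((d+1).choose i : ℤ)) * (X ^ (i * (p-1) + (d+1)) * (invOneSubPow ℤ (d+1)).val) := by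
    rw [neg_pow, ← pow_mul, pow_add X (i*(p-1)), mul_comm i (p-1)]
    simp only [map_mul, map_pow, map_neg, map_one, map_natCast, one_pow, mul_one]
    ring
  rw [this, coeff_C_mul, coeff_X_pow_mul', invOneSubPow_val_succ_eq_mk_add_choose]
  congr 1
  split_ifs with hle
  · simp only [coeff_mk, Nat.add_sub_cancel]
    congr 2; omega
  · rfl

end Groth.Agent.S14039
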