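import Groth.Statements.S14040
import Mathlib
import Groth.Agent.S14035
-- import your own Groth.Agent.* helpers here

set_option autoImplicit false
universe u v
open W4c1frobunstiva

namespace Groth.Agent.S14040

open TensorProduct in
/-- Let A be a discrete valuation ring and B a Noetherian A-algebra such that the nilradical of B is
prime and meets the image of A only in 0 — the spectrum of B is irreducible and its generic point
lies over the generic point of A. If every fibre ring κ(p) ⊗_A B, p a prime of A, is reduced, then B
is reduced and flat over A. (Affine form of the statement for a dominant morphism from an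
irreducible scheme to the spectrum of a discrete valuation ring with reduced fibres. The published
statement also covers a scheme that is already reduced and does not assume it locally Noetherian;
this row treats reduced fibres with B Noetherian, without which the square-zero extension A ⊕
Frac(A)/A is a counterexample.) -/
theorem result (A : Type u) [CommRing A]
    [IsDomain A] [IsDiscreteValuationRing A] (B : Type v) [CommRing B] [Algebra A B]
    [IsNoetherianRing B] (hirr : (nilradical B).IsPrime)
    (hdom : (nilradical B).comap (algebraMap A B) = ⊥)
    (hfib : ∀ p : PrimeSpectrum A, IsReduced (p.asIdeal.ResidueField ⊗[A] B)) :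
    IsReduced B ∧ Module.Flat A B := by
  haveI := hirr
  haveI : IsDomain (B ⧸ nilradical B) := (Ideal.Quotient.isDomain_iff_prime _).2 hirr
  have hflat : ∀ (M : Type v) [CommRing M] [IsDomain M] [Algebra A M],
      Function.Injective (algebraMap A M) → Module.Flat A M := fun M _ _ _ hinj => by
    rw [Module.Flat.flat_iff_torsion_eq_bot_of_isBezout, eq_bot_iff]
    rintro b ⟨⟨r, hr⟩, hrb⟩
    have h : algebraMap A M r * b = 0 := by rw [← Algebra.smul_def]; exact hrb
    exact (Submodule.mem_bot A).2 ((mul_eq_zero.1 h).resolve_left fun e =>
      nonZeroDivisors.ne_zero hr (hinj (e.trans (map_zero _).symm)))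
  have hinj : Function.Injective (algebraMap A (B ⧸ nilradical B)) := by
    rw [injective_iff_map_eq_zero]
    intro a ha
    have : a ∈ (nilradical B).comap (algebraMap A B) := (Ideal.Quotient.eq_zero_iff_mem (I := nilradical B)).1 ha
    rwa [hdom, Ideal.mem_bot] at this
  haveI := hflat _ hinj
  haveI hred : IsReduced B := S14035.result A B hfib
  refine ⟨hred, ?_⟩
  have h0 : nilradical B = ⊥ := nilradical_eq_zero B
  haveI : IsDomain B := by
    have h := hirr
    rw [h0] at h
    exact IsDomain.of_bot_isPrime B
  refine hflat B ?_
  rw [injective_iff_map_eq_zero]
  intro a ha
  have : a ∈ (nilradical B).comap (algebraMap A B) := by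
    show algebraMap A B a ∈ nilradical B
    rw [ha]; exact zero_mem _
  rwa [hdom, Ideal.mem_bot] at this

end Groth.Agent.S14040
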