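import Mathlib
import Groth.Statements.S14043
-- import your own Groth.Agent.* helpers here

set_option autoImplicit false
universe u v
open W4c1frobunstiva

namespace Groth.Agent.S14043

/-- Let R be a commutative Noetherian ring, M an R-module that is NR-free of rank r — generated by some
r elements all of whose linear relations have nilpotent coefficients — and m, m' two generating
families of M, each indexed by the same finite set of size r. Then some invertible r × r matrix T
over R expresses m' in terms of m, m'_j = Σ_i T_{ji} m_i; reducing modulo the nilradical n, such a T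
induces the change-of-basis matrix between the bases of M/nM given by the images of m and m' (an
r-element generating family of M is itself an NR-basis), so only the existence of an invertible T is
asserted here. (T is not unique.) -/
theorem result (R : Type u) [CommRing R]
    [IsNoetherianRing R] (M : Type v) [AddCommGroup M] [Module R M] (r : ℕ)
    (hM : W4c1frobunstiva.IsNRFree R M r) (m m' : Fin r → M)
    (hm : Submodule.span R (Set.range m) = ⊤) (hm' : Submodule.span R (Set.range m') = ⊤) :
    ∃ T : Matrix (Fin r) (Fin r) R, IsUnit T ∧ ∀ j, m' j = ∑ i, T j i • m i := by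
  classical
  obtain ⟨m0, hs, hrel⟩ := hM
  have key : ∀ v : Fin r → M, Submodule.span R (Set.range v) = ⊤ →
      ∃ A B : Matrix (Fin r) (Fin r) R, IsUnit A ∧ IsUnit B ∧ (∀ j, v j = ∑ i, A j i • m0 i) ∧ (∀ j, m0 j = ∑ i, B j i • v i) := by
    intro v hv
    have h1 : ∀ j, ∃ c : Fin r → R, ∑ i, c i • m0 i = v j := fun j =>
      (Submodule.mem_span_range_iff_exists_fun R).1 (by rw [hs]; trivial)
    have h2 : ∀ j, ∃ c : Fin r → R, ∑ i, c i • v i = m0 j := fun j =>
      (Submodule.mem_span_range_iff_exists_fun R).1 (by rw [hv]; trivial)
    choose A hA using h1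
    choose B hB using h2
    have hn : ∀ j k, IsNilpotent ((Matrix.of B * Matrix.of A - 1 : Matrix (Fin r) (Fin r) R) j k) := fun j => by
      refine hrel (fun k => (Matrix.of B * Matrix.of A - 1 : Matrix (Fin r) (Fin r) R) j k) ?_
      simp only [Matrix.sub_apply, Matrix.mul_apply, Matrix.of_apply, sub_smul, Finset.sum_smul,
        Finset.sum_sub_distrib, mul_smul, Matrix.one_apply, ite_smul, one_smul, zero_smul,
        Finset.sum_ite_eq, Finset.mem_univ, if_true]
      rw [Finset.sum_comm]
      simp only [← Finset.smul_sum, hA, hB, sub_self]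
    have hu : IsUnit ((Matrix.of B * Matrix.of A).det) := by
      rw [← IsNilpotent.isUnit_quotient_mk_iff (IsNoetherianRing.isNilpotent_nilradical R),
        RingHom.map_det]
      have : (Ideal.Quotient.mk (nilradical R)).mapMatrix (Matrix.of B * Matrix.of A) = 1 := by
        rw [← sub_eq_zero, ← map_one (Ideal.Quotient.mk (nilradical R)).mapMatrix, ← map_sub]
        ext j k
        simp only [RingHom.mapMatrix_apply, Matrix.map_apply, Matrix.zero_apply]
        exact Ideal.Quotient.eq_zero_iff_mem.2 (mem_nilradical.2 (hn j k))
      rw [this, Matrix.det_one]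
      exact isUnit_one
    rw [Matrix.det_mul, IsUnit.mul_iff, ← Matrix.isUnit_iff_isUnit_det, ← Matrix.isUnit_iff_isUnit_det] at hu
    exact ⟨Matrix.of A, Matrix.of B, hu.2, hu.1, fun j => (hA j).symm, fun j => (hB j).symm⟩
  obtain ⟨A, B, hA, hB, -, hB'⟩ := key m hm
  obtain ⟨A', B', hA', hB'', hA1, -⟩ := key m' hm'
  refine ⟨A' * B, hA'.mul hB, fun j => ?_⟩
  simp only [Matrix.mul_apply, Finset.sum_smul, mul_smul]
  rw [hA1 j, Finset.sum_comm]
  simp only [← Finset.smul_sum, ← hB']

end Groth.Agent.S14043
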