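import Mathlib
import Groth.Statements.S14046
-- import your own Groth.Agent.* helpers here

set_option autoImplicit false
universe u v w
open W4c1frobunstiva

namespace Groth.Agent.S14046

open TensorProduct in
/-- Let R → A be a homomorphism of commutative rings and I, J ideals of A with I ∩ J = 0 — so that A is
the fibre product of A/I and A/J over A/(I + J), i.e. Spec A is the union of the two closed
subschemes in the strong sense — and suppose A/(I + J) is flat over R. Then this persists under
every base change: for every commutative R-algebra R', the ideals generated by I and J in R' ⊗_R A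
again meet in 0. (This is the ideal-theoretic, affine form of the base-change step; the exact
sequence of unit sheaves deduced from it in the published statement — restriction of units to a
closed subscheme being surjective locally — is not restated. Without flatness of A/(I + J) the
conclusion fails: for A = k[x, y]/(xy) over R = k[u] with u ↦ x + y, I = (x) and J = (y), the base
change to R/(u) gives k[x]/(x²), in which both ideals become (x).) -/
theorem result (R : Type u) (A : Type v)
    [CommRing R] [CommRing A] [Algebra R A] (I J : Ideal A) (hIJ : I ⊓ J = ⊥)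
    [Module.Flat R (A ⧸ (I ⊔ J))] (R' : Type w) [CommRing R'] [Algebra R R'] :
    I.map (Algebra.TensorProduct.includeRight : A →ₐ[R] R' ⊗[R] A) ⊓
      J.map (Algebra.TensorProduct.includeRight : A →ₐ[R] R' ⊗[R] A) = ⊥ := by
  classical
  let mI : A →ₗ[R] A ⧸ I := (Ideal.Quotient.mkₐ R I).toLinearMap
  let mJ : A →ₗ[R] A ⧸ J := (Ideal.Quotient.mkₐ R J).toLinearMap
  let qI : (A ⧸ I) →ₗ[R] A ⧸ (I ⊔ J) := (Ideal.Quotient.factorₐ R (le_sup_left : I ≤ I ⊔ J)).toLinearMap
  let qJ : (A ⧸ J) →ₗ[R] A ⧸ (I ⊔ J) := (Ideal.Quotient.factorₐ R (le_sup_right : J ≤ I ⊔ J)).toLinearMap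
  let g : A →ₗ[R] (A ⧸ I) × (A ⧸ J) := LinearMap.inl R _ _ ∘ₗ mI + LinearMap.inr R _ _ ∘ₗ mJ
  let f : (A ⧸ I) × (A ⧸ J) →ₗ[R] A ⧸ (I ⊔ J) := qI ∘ₗ LinearMap.fst R _ _ - qJ ∘ₗ LinearMap.snd R _ _
  have hgap : ∀ a, g a = (Ideal.Quotient.mk I a, Ideal.Quotient.mk J a) := fun a => by simp [g, mI, mJ]
  have hg : Function.Injective g := by
    rw [injective_iff_map_eq_zero]
    intro a ha
    rw [hgap, Prod.mk_eq_zero, Ideal.Quotient.eq_zero_iff_mem, Ideal.Quotient.eq_zero_iff_mem] at ha
    have : a ∈ I ⊓ J := ha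
    simpa [hIJ] using this
  have hf : Function.Surjective f := by
    intro c
    obtain ⟨a, rfl⟩ := Ideal.Quotient.mk_surjective c
    exact ⟨(Ideal.Quotient.mk I a, 0), by simp [f, qI]⟩
  have hex : Function.Exact g f := by
    rintro ⟨x, y⟩
    obtain ⟨a, rfl⟩ := Ideal.Quotient.mk_surjective x
    obtain ⟨b, rfl⟩ := Ideal.Quotient.mk_surjective y
    constructor
    · intro h
      have : a - b ∈ I ⊔ J := Ideal.Quotient.eq.mp (sub_eq_zero.mp (by simpa [f, qI, qJ] using h))
      obtain ⟨i, hi, j, hj, hij⟩ := Submodule.mem_sup.mp this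
      refine ⟨a - i, ?_⟩
      rw [hgap]
      refine Prod.ext (Ideal.Quotient.eq.mpr (by simpa using hi)) (Ideal.Quotient.eq.mpr ?_)
      rw [show a - i - b = j by linear_combination -hij]; exact hj
    · rintro ⟨c, hc⟩
      rw [← hc, hgap]
      simp [f, qI, qJ]
  have inj := LinearMap.lTensor_injective_of_exact_of_flat f hf g hg hex R'
  have hker : ∀ (K : Ideal A) (m : A →ₗ[R] A ⧸ K), (∀ a ∈ K, m a = 0) →
      ∀ x ∈ K.map (Algebra.TensorProduct.includeRight : A →ₐ[R] R' ⊗[R] A), m.lTensor R' x = 0 := by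
    intro K m hm x hx
    have hx' : x ∈ (K.map (Algebra.TensorProduct.includeRight : A →ₐ[R] R' ⊗[R] A)).restrictScalars R := hx
    rw [Ideal.map_includeRight_eq] at hx'
    obtain ⟨y, rfl⟩ := hx'
    rw [← LinearMap.lTensor_comp_apply, show m ∘ₗ Submodule.subtype (K.restrictScalars R) = 0 from LinearMap.ext fun a => hm a a.2]
    simp
  rw [eq_bot_iff]
  rintro x ⟨hxI, hxJ⟩
  refine inj (a₁ := x) (a₂ := 0) ?_
  rw [map_zero]
  simp only [g, LinearMap.lTensor_add, LinearMap.add_apply, LinearMap.lTensor_comp_apply]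
  rw [hker I mI (fun a ha => Ideal.Quotient.eq_zero_iff_mem.mpr ha) x hxI,
    hker J mJ (fun a ha => Ideal.Quotient.eq_zero_iff_mem.mpr ha) x hxJ, map_zero, map_zero, add_zero]

end Groth.Agent.S14046
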