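import Groth.Statements.S14048
import Mathlib

set_option autoImplicit false
universe u
open TensorProduct
open CAlg

namespace Groth.Agent.S14048

open Polynomial

/-- Let A be an integral domain in which 2 is invertible and let t be an element of A, so that Spec A is
a scheme over the affine line Spec ℤ[1/2][t]. Assume that (1) the ℚ-algebra map ℚ[X] → ℚ ⊗_ℤ A
sending X to 1 ⊗ t is bijective (the map Spec A → Spec ℤ[1/2][t] becomes an isomorphism after base
change to ℚ); (2) every prime number is invertible in A/(t) (the fibre over t = 0 is of pure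
characteristic zero); and (3) there is a ring homomorphism s : A → ℤ[1/2] with s(t) = 1 (the fibre
over t = 1 admits a section). Then A is not Noetherian. -/
theorem result (A : Type u) [CommRing A]
    [IsDomain A] (h2 : IsUnit (2 : A)) (t : A)
    (h1 : Function.Bijective (Polynomial.aeval (R := ℚ) ((1 : ℚ) ⊗ₜ[ℤ] t : ℚ ⊗[ℤ] A)))
    (h0 : ∀ p : ℕ, p.Prime → IsUnit ((p : ℕ) : A ⧸ Ideal.span ({t} : Set A)))
    (s : A →+* Localization.Away (2 : ℤ)) (hs : s t = 1) :
    ¬ IsNoetherianRing A := by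

  intro hN
  classical
  let e := AlgEquiv.ofBijective _ h1
  let φ : A →+* ℚ[X] := e.symm.toAlgHom.toRingHom.comp
    (Algebra.TensorProduct.includeRight (R := ℤ) (A := ℚ) (B := A)).toRingHom
  have hφt : φ t = X := by
    change e.symm ((1 : ℚ) ⊗ₜ[ℤ] t) = X
    rw [AlgEquiv.symm_apply_eq]
    simp [e]
  have h20 : ((2 : ℤ) : ℚ) ≠ 0 := by norm_num
  let j : Localization.Away (2 : ℤ) →+* ℚ := IsLocalization.Away.lift (g := Int.castRingHom ℚ) (2 : ℤ) (by
    simp)
  let sQ : A →+* ℚ := j.comp s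
  have heval : ∀ a, (φ a).eval 1 = sQ a := by
    let L : ℚ ⊗[ℤ] A →ₐ[ℚ] ℚ := Algebra.TensorProduct.lift (AlgHom.id ℚ ℚ) sQ.toIntAlgHom fun x y => mul_comm _ _
    have hL : L.comp e.toAlgHom = Polynomial.aeval (1 : ℚ) := by
      refine Polynomial.algHom_ext ?_
      change L (Polynomial.aeval (R := ℚ) ((1 : ℚ) ⊗ₜ[ℤ] t : ℚ ⊗[ℤ] A) X) = Polynomial.aeval (1 : ℚ) X
      simp [L, sQ, hs]
    intro a
    have := DFunLike.congr_fun hL (φ a)
    change L (e (e.symm ((1 : ℚ) ⊗ₜ[ℤ] a))) = Polynomial.aeval (1 : ℚ) (φ a) at this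
    rw [AlgEquiv.apply_symm_apply] at this
    simpa [L, Polynomial.coe_aeval_eq_eval] using this.symm
  -- `1/2` in `A`
  obtain ⟨u, hu⟩ := h2.exists_right_inv
  let P : Ideal A := RingHom.ker sQ
  obtain ⟨G, hG⟩ := hN.noetherian P
  let M : ℕ := 2 * ∏ g ∈ G, ∏ i ∈ (φ g).support, ((φ g).coeff i).den
  let D : Subring ℚ :=
    { carrier := {x | ∃ (k : ℕ) (z : ℤ), x * (M : ℚ) ^ k = z}
      one_mem' := ⟨0, 1, by simp⟩
      zero_mem' := ⟨0, 0, by simp⟩
      mul_mem' := by
        rintro x y ⟨k, z, hx⟩ ⟨l, w, hy⟩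
        refine ⟨k + l, z * w, ?_⟩
        push_cast
        rw [← hx, ← hy]; ring
      add_mem' := by
        rintro x y ⟨k, z, hx⟩ ⟨l, w, hy⟩
        refine ⟨k + l, z * (M : ℤ) ^ l + w * (M : ℤ) ^ k, ?_⟩
        push_cast
        rw [← hx, ← hy]; ring
      neg_mem' := by
        rintro x ⟨k, z, hx⟩
        exact ⟨k, -z, by rw [neg_mul, hx]; push_cast; rfl⟩ }
  have hden : ∀ x : ℚ, x.den ∣ M → x ∈ D := by
    rintro x ⟨c, hc⟩
    refine ⟨1, x.num * c, ?_⟩
    rw [pow_one, hc]
    push_cast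
    rw [← mul_assoc, Rat.mul_den_eq_num]
  have hhalf : (1 / 2 : ℚ) ∈ D := hden _ (by norm_num; exact dvd_mul_right 2 _)
  let L : Subring ℚ[X] := (Polynomial.mapRingHom D.subtype).range
  have memL : ∀ f : ℚ[X], (∀ i, f.coeff i ∈ D) → f ∈ L := fun f hf =>
    (Polynomial.mem_lifts _).1 ((Polynomial.lifts_iff_coeff_lifts f).2 fun i => ⟨⟨_, hf i⟩, rfl⟩)
  have hC : ∀ d ∈ D, Polynomial.C d ∈ L := fun d hd => ⟨Polynomial.C ⟨d, hd⟩, by simp⟩
  have hGL : ∀ g ∈ G, φ g ∈ L := fun g hg => memL _ fun i => by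
    by_cases hi : i ∈ (φ g).support
    · exact hden _ (dvd_mul_of_dvd_right ((Finset.dvd_prod_of_mem
        (fun i => ((φ g).coeff i).den) hi).trans
        (Finset.dvd_prod_of_mem (fun g => ∏ i ∈ (φ g).support, ((φ g).coeff i).den) hg)) 2)
    · rw [Polynomial.notMem_support_iff.1 hi]; exact D.zero_mem
  have hu' : φ u = Polynomial.C (1 / 2 : ℚ) := by
    have h := congrArg φ hu
    rw [map_mul, map_ofNat, map_one] at h
    calc φ u = Polynomial.C (1 / 2 : ℚ) * (2 * φ u) := by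
          rw [← mul_assoc, ← map_ofNat Polynomial.C 2, ← map_mul]; norm_num
      _ = _ := by rw [h, mul_one]
  have key : ∀ (k : ℕ) (a : A), ∃ r ∈ L, (X - Polynomial.C 1) ^ k ∣ φ a - r := by
    intro k
    induction k with
    | zero => exact fun a => ⟨0, L.zero_mem, by simp⟩
    | succ k ih =>
      intro a
      obtain ⟨z, m, hzm⟩ : ∃ (z : ℤ) (m : ℕ), sQ a = z * (1 / 2 : ℚ) ^ m := by
        obtain ⟨z, ⟨_, m, rfl⟩, hz⟩ := IsLocalization.exists_mk'_eq (Submonoid.powers (2 : ℤ)) (s a)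
        refine ⟨z, m, ?_⟩
        have h := congrArg j (IsLocalization.mk'_spec (Localization.Away (2 : ℤ)) z
          (⟨2 ^ m, m, rfl⟩ : Submonoid.powers (2 : ℤ)))
        simp only [map_mul, j, IsLocalization.Away.lift_eq, eq_intCast, Int.cast_pow, Int.cast_ofNat] at h
        change j (s a) = _
        rw [← hz, one_div, inv_pow, ← div_eq_mul_inv, eq_div_iff (pow_ne_zero _ two_ne_zero)]
        simp only [map_pow, map_ofNat, map_intCast] at h
        exact h
      let a' : A := (z : A) * u ^ m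
      have ha'L : φ a' ∈ L := by
        simp only [a', map_mul, map_pow, map_intCast, hu']
        exact L.mul_mem (intCast_mem L z) (L.pow_mem (hC _ hhalf) m)
      have hdiff : a - a' ∈ P := by
        rw [RingHom.mem_ker, map_sub, sub_eq_zero, ← heval a', hzm]
        simp [a', hu']
      rw [← hG] at hdiff
      obtain ⟨c, hc⟩ := Submodule.mem_span_finset'.1 hdiff
      choose r hrL hr using fun g : G => ih (c g)
      refine ⟨φ a' + ∑ g : G, r g * φ g.1, L.add_mem ha'L (L.sum_mem fun g _ => L.mul_mem (hrL g) (hGL g.1 g.2)), ?_⟩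
      have : φ a - (φ a' + ∑ g : G, r g * φ g.1) = ∑ g : G, (φ (c g) - r g) * φ g.1 := by
        rw [← sub_sub, ← map_sub, ← hc]
        simp only [map_sum, smul_eq_mul, map_mul, sub_mul, Finset.sum_sub_distrib]
      rw [this]
      refine Finset.dvd_sum fun g _ => ?_
      rw [pow_succ]
      refine mul_dvd_mul (hr g) (Polynomial.dvd_iff_isRoot.2 ?_)
      rw [Polynomial.IsRoot, heval]
      exact RingHom.mem_ker.1 (show g.1 ∈ P from hG ▸ Submodule.subset_span g.2)
  have all : ∀ a, ∀ i, (φ a).coeff i ∈ D := by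
    intro a i
    obtain ⟨r, ⟨r₀, hr₀⟩, hdvd⟩ := key ((φ a).natDegree + 1) a
    have hmon : ((X - Polynomial.C (1 : D)) ^ ((φ a).natDegree + 1)).Monic :=
      (Polynomial.monic_X_sub_C _).pow _
    have hmap : ((X - Polynomial.C (1 : D)) ^ ((φ a).natDegree + 1)).map D.subtype =
        (X - Polynomial.C 1) ^ ((φ a).natDegree + 1) := by simp [Polynomial.map_pow]
    have hself : φ a %ₘ (X - Polynomial.C 1) ^ ((φ a).natDegree + 1) = φ a := by
      refine (Polynomial.modByMonic_eq_self_iff ((Polynomial.monic_X_sub_C _).pow _)).2 ?_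
      rw [Polynomial.degree_pow, Polynomial.degree_X_sub_C, nsmul_one]
      exact lt_of_le_of_lt Polynomial.degree_le_natDegree (by exact_mod_cast Nat.lt_succ_self _)
    have heq := (Polynomial.modByMonic_eq_of_dvd_sub ((Polynomial.monic_X_sub_C _).pow _) hdvd)
    rw [hself, ← hr₀, Polynomial.coe_mapRingHom, ← hmap, ← Polynomial.map_modByMonic _ hmon] at heq
    rw [heq, Polynomial.coeff_map]
    exact SetLike.coe_mem _
  -- a prime not dividing `M`
  obtain ⟨p, hpM, hp⟩ := Nat.exists_infinite_primes (M + 1)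
  obtain ⟨x, hx⟩ := (h0 p hp).exists_right_inv
  obtain ⟨a, rfl⟩ := Ideal.Quotient.mk_surjective x
  rw [← map_natCast (Ideal.Quotient.mk (Ideal.span ({t} : Set A))), ← map_mul,
    ← map_one (Ideal.Quotient.mk (Ideal.span ({t} : Set A))), Ideal.Quotient.eq, Ideal.mem_span_singleton] at hx
  obtain ⟨b, hb⟩ := hx
  have h00 := congrArg (fun f : ℚ[X] => f.coeff 0) (congrArg φ hb)
  simp only [map_sub, map_mul, map_natCast, map_one, hφt, Polynomial.coeff_sub,
    Polynomial.coeff_one_zero, Polynomial.coeff_X_mul_zero, Polynomial.coeff_natCast_mul] at h00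
  obtain ⟨k, z, hk⟩ := all a 0
  have hM0 : 0 < M := mul_pos two_pos (Finset.prod_pos fun g _ => Finset.prod_pos fun i _ => Rat.den_pos _)
  have hdiv : (p : ℤ) ∣ (M : ℤ) ^ k := by
    refine ⟨z, ?_⟩
    have : ((M : ℤ) ^ k : ℚ) = (p : ℚ) * (z : ℚ) := by
      rw [← hk, ← mul_assoc, sub_eq_zero.1 h00, one_mul]; push_cast; rfl
    exact_mod_cast this
  have : p ∣ M := hp.dvd_of_dvd_pow (Int.natCast_dvd_natCast.1 (by exact_mod_cast hdiv))
  exact absurd (Nat.le_of_dvd hM0 this) (by omega)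

end Groth.Agent.S14048
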