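import Mathlib
import Groth.Agent.RegEmbed.Scheme
import Groth.Statements.S14049
-- import your own Groth.Agent.* helpers here

set_option autoImplicit false
universe u
open CategoryTheory AlgebraicGeometry
open LocStr

namespace Groth.Agent.S14049

/-- For schemes. Let f : X → Y be a morphism of schemes and let I be a quasi-coherent sheaf of ideals on
X which is nilpotent (some power of I is zero). Let X₁ ⊆ X be the closed subscheme defined by I².
Then f is a closed immersion as soon as the composite X₁ → X → Y is one. (The published statement is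
the same assertion for a morphism of algebraic stacks; it is stated here for schemes.) -/
theorem result (X Y : Scheme.{u}) (f : X ⟶ Y)
    (I : X.IdealSheafData) (hI : IsNilpotent I)
    (h : IsClosedImmersion ((I ^ 2).subschemeι ≫ f)) :
    IsClosedImmersion f := by
  classical
  set ι := (I ^ 2).subschemeι
  obtain ⟨n, hn⟩ := hI
  have hbot : I ^ (n + 1) = ⊥ := by rw [pow_succ, hn, zero_mul, Scheme.IdealSheafData.zero_eq_bot]
  have hsurjι : Function.Surjective ι := by
    intro x
    have hx : x ∈ Set.range ι := by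
      rw [Scheme.IdealSheafData.range_subschemeι, Scheme.IdealSheafData.support_pow _ 2 (by norm_num),
        ← Scheme.IdealSheafData.support_pow_succ I n, hbot, Scheme.IdealSheafData.support_bot]
      trivial
    exact hx
  have hιc : Topology.IsClosedEmbedding ι := Scheme.Hom.isClosedEmbedding ι
  let e := (Equiv.ofBijective ι ⟨hιc.injective, hsurjι⟩).toHomeomorphOfIsInducing hιc.isInducing
  have hf : Topology.IsClosedEmbedding f := by
    have h2 := (Scheme.Hom.isClosedEmbedding (ι ≫ f)).comp e.symm.isClosedEmbedding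
    convert h2 using 1
    funext x
    show f x = f (ι (e.symm x))
    exact congrArg f (e.apply_symm_apply x).symm
  haveI : SurjectiveOnStalks f := ⟨fun x => by
    obtain ⟨z, rfl⟩ := hsurjι x
    obtain ⟨U, hU, hxU, -⟩ := AlgebraicGeometry.exists_isAffineOpen_mem_and_subset (X := X) (x := ι z) (U := ⊤) trivial
    let g := (X.presheaf.germ U (ι z) hxU).hom
    let J := (I.ideal ⟨U, hU⟩).map g
    have hker : RingHom.ker (ι.stalkMap z).hom = J ^ 2 := by
      rw [Groth.Agent.RegEmbed.ker_stalkMap ι z U hU hxU,
        show RingHom.ker (ι.app U).hom = (I ^ 2).ideal ⟨U, hU⟩ from (I ^ 2).ker_subschemeι_app ⟨U, hU⟩,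
        Scheme.IdealSheafData.ideal_pow, Pi.pow_apply, Ideal.map_pow]
    have hJ : J ^ (n + 1) = ⊥ := by
      rw [← Ideal.map_pow, ← Pi.pow_apply I.ideal, ← Scheme.IdealSheafData.ideal_pow, hbot, Scheme.IdealSheafData.ideal_bot, Pi.bot_apply, Ideal.map_bot]
    let φ := (f.stalkMap (ι z)).hom
    have hcomp : ∀ b, ∃ a, b - φ a ∈ J ^ 2 := by
      intro b
      have hs := (SurjectiveOnStalks.stalkMap_surjective (f := ι ≫ f) z) ((ι.stalkMap z).hom b)
      obtain ⟨a, ha⟩ := hs
      refine ⟨a, ?_⟩
      rw [← hker, RingHom.mem_ker, map_sub, sub_eq_zero]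
      rw [Scheme.Hom.stalkMap_comp] at ha
      exact ha.symm
    have hdec : ∀ i, ∀ b ∈ J ^ (i + 1), ∃ a, φ a ∈ J ^ (i + 1) ∧ b - φ a ∈ J ^ (i + 2) := by
      intro i
      induction i with
      | zero =>
        intro b hb
        obtain ⟨a, ha⟩ := hcomp b
        refine ⟨a, ?_, ha⟩
        have := sub_mem hb (Ideal.pow_le_pow_right (I := J) (show 1 ≤ 2 by norm_num) ha)
        simpa using this
      | succ i ih =>
        intro b hb
        rw [pow_succ J] at hb
        refine Submodule.mul_induction_on hb (fun m hm j hj => ?_) (fun b c ⟨a, ha, hb'⟩ ⟨a', ha', hc'⟩ => ⟨a + a', by rw [map_add]; exact add_mem ha ha', by rw [map_add, add_sub_add_comm]; exact add_mem hb' hc'⟩)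
        obtain ⟨a, ha, hma⟩ := ih m hm
        obtain ⟨a', ha'⟩ := hcomp j
        have hj' : φ a' ∈ J := by simpa using sub_mem hj (Ideal.pow_le_self (two_ne_zero) ha')
        refine ⟨a * a', by rw [map_mul, pow_succ J]; exact Ideal.mul_mem_mul ha hj', ?_⟩
        rw [map_mul, show m * j - φ a * φ a' = (m - φ a) * j + φ a * (j - φ a') by ring, show i + 1 + 2 = i + 2 + 1 by ring]
        refine add_mem (by rw [pow_succ J]; exact Ideal.mul_mem_mul hma hj) ?_
        rw [show i + 2 + 1 = i + 1 + 2 by ring, pow_add J]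
        exact Ideal.mul_mem_mul ha ha'
    have hall : ∀ k, ∀ b, ∃ a, b - φ a ∈ J ^ (k + 2) := by
      intro k
      induction k with
      | zero => exact hcomp
      | succ k ih =>
        intro b
        obtain ⟨a, ha⟩ := ih b
        obtain ⟨a', -, ha'⟩ := hdec (k + 1) _ ha
        exact ⟨a + a', by rw [map_add, ← sub_sub]; exact ha'⟩
    intro b
    obtain ⟨a, ha⟩ := hall n b
    have h0 : b - φ a = 0 := by
      have := Ideal.pow_le_pow_right (I := J) (show n + 1 ≤ n + 2 by omega) ha
      rwa [hJ, Ideal.mem_bot] at this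
    exact ⟨a, (sub_eq_zero.mp h0).symm⟩⟩
  exact ⟨hf⟩

end Groth.Agent.S14049
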