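import Groth.Statements.S1405
import Mathlib
-- import your own Groth.Agent.* helpers here

set_option autoImplicit false
universe u
open FlatMor

namespace Groth.Agent.S1405

section Aux
open AlgebraicGeometry CategoryTheory Limits TensorProduct

theorem isNoetherianRing_tensor_iff (K K' A : Type u) [Field K] [Field K'] [CommRing A] [Algebra K K']
    [Algebra K A] [Algebra.EssFiniteType K K'] :
    IsNoetherianRing A ↔ IsNoetherianRing (A ⊗[K] K') := by
  constructor
  · intro h
    exact Algebra.EssFiniteType.isNoetherianRing A (A ⊗[K] K')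
  · intro h
    exact (isNoetherianRing_iff_ideal_fg _).2 fun I =>
      Ideal.FG.of_FG_map_of_faithfullyFlat (S := A ⊗[K] K') (IsNoetherian.noetherian _)

theorem isLocallyNoetherian_of_iso {X Y : Scheme.{u}} (e : X ≅ Y) :
    IsLocallyNoetherian X ↔ IsLocallyNoetherian Y :=
  ⟨fun _ => isLocallyNoetherian_of_isOpenImmersion e.inv,
    fun _ => isLocallyNoetherian_of_isOpenImmersion e.hom⟩

set_option maxHeartbeats 400000 in
theorem affine_iff (K K' A : CommRingCat.{u}) (φ : K ⟶ K') (ψ : K ⟶ A)
    (hK : IsField K) (hK' : IsField K') (hφ : φ.hom.EssFiniteType) :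
    IsLocallyNoetherian (Spec A) ↔ IsLocallyNoetherian (pullback (Spec.map ψ) (Spec.map φ)) := by
  obtain ⟨K⟩ := K; obtain ⟨K'⟩ := K'; obtain ⟨A⟩ := A
  let _ : Field K := hK.toField
  let _ : Field K' := hK'.toField
  algebraize [φ.hom, ψ.hom]
  let e : pullback (Spec.map ψ) (Spec.map φ) ≅ Spec (CommRingCat.of (A ⊗[K] K')) :=
    pullbackSpecIso K A K'
  exact isLocallyNoetherian_Spec.trans ((isNoetherianRing_tensor_iff K K' A).trans
    (isLocallyNoetherian_Spec (R := CommRingCat.of (A ⊗[K] K')) |>.symm.trans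
      (isLocallyNoetherian_of_iso e).symm))

set_option maxHeartbeats 400000 in
theorem isLocallyNoetherian_baseChange_iff {K K' : CommRingCat.{u}} (φ : K ⟶ K')
    (hK : IsField K) (hK' : IsField K') (hφ : φ.hom.EssFiniteType)
    {Z W : Scheme.{u}} {p : Z ⟶ W} {q : Z ⟶ Spec K'} {f : W ⟶ Spec K}
    (h : IsPullback p q f (Spec.map φ)) : IsLocallyNoetherian W ↔ IsLocallyNoetherian Z := by
  let 𝒰 := W.affineOpenCover
  rw [isLocallyNoetherian_iff_openCover 𝒰.openCover,
    isLocallyNoetherian_iff_openCover (𝒰.openCover.pullback₁ p)]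
  refine forall_congr' fun i => ?_
  have h2 := (IsPullback.of_hasPullback p (𝒰.f i)).flip.paste_vert h
  obtain ⟨ψ, hψ⟩ : ∃ ψ, Spec.map ψ = 𝒰.f i ≫ f := ⟨_, Spec.map_preimage (𝒰.f i ≫ f)⟩
  rw [← hψ] at h2
  exact (affine_iff K K' (𝒰.X i) φ ψ hK hK' hφ).trans
    (isLocallyNoetherian_of_iso h2.isoPullback).symm

end Aux

open AlgebraicGeometry CategoryTheory Limits in
/-- Let Y' → Y be flat, locally of finite presentation and surjective and f' the base change of f : X →
Y. Then all fibres of f are locally Noetherian if and only if all fibres of f' are. -/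
theorem result {X Y X' Y' : Scheme.{u}} (f : X ⟶ Y) (f' : X' ⟶ Y') (g' : X' ⟶ X) (g : Y' ⟶ Y) [Flat g] [LocallyOfFinitePresentation g] [Surjective g]
    (hc : IsPullback g' f' f g) :
    (∀ y : Y, IsLocallyNoetherian (f.fiber y)) ↔ ∀ y' : Y', IsLocallyNoetherian (f'.fiber y') := by
  have key : ∀ y' : Y', IsLocallyNoetherian (f.fiber (g y')) ↔ IsLocallyNoetherian (f'.fiber y') :=
    fun y' => isLocallyNoetherian_baseChange_iff (g.residueFieldMap y') (Field.toIsField _)
      (Field.toIsField _)
      (RingHom.EssFiniteType.residueFieldMap (LocallyOfFiniteType.stalkMap g y'))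
      (isPullback_fiberToSpecResidueField_of_isPullback hc y')
  refine ⟨fun h y' => (key y').mp (h _), fun h y => ?_⟩
  obtain ⟨y', rfl⟩ := g.surjective y
  exact (key y').mpr (h y')

end Groth.Agent.S1405
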