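import Mathlib
import Groth.Statements.S14051
-- import your own Groth.Agent.* helpers here

set_option autoImplicit false
universe u
open CAlg

namespace Groth.Agent.S14051

/-- Let A be a commutative ℕ-graded algebra over a base ring R which is generated by A_1 as an
A_0-algebra, written as A_{n+1} = A_1 · A_n for every n, and let M be a graded A-module: an A-module
with R-submodules M_n giving a direct-sum decomposition and A_i · M_j ⊆ M_{i+j}. If M is spanned
over A by a set of homogeneous elements all of degree at most n₀, then for every n ≥ n₀ and every k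
≥ 0 the degree-(n+k) part of M is A_k · M_n. -/
theorem result
    (R : Type u) [CommRing R] (A : Type u) [CommRing A] [Algebra R A]
    (𝒜 : ℕ → Submodule R A) [GradedAlgebra 𝒜]
    (hA : ∀ n : ℕ, 𝒜 (n + 1) = 𝒜 1 * 𝒜 n)
    (M : Type u) [AddCommGroup M] [Module R M] [Module A M] [IsScalarTower R A M]
    (ℳ : ℕ → Submodule R M) [DirectSum.Decomposition ℳ] [SetLike.GradedSMul 𝒜 ℳ]
    (s : Set M) (n₀ : ℕ) (hs : ∀ y ∈ s, ∃ d : ℕ, d ≤ n₀ ∧ y ∈ ℳ d)
    (hspan : Submodule.span A s = ⊤)
    (n k : ℕ) (hn : n₀ ≤ n) :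
    ℳ (n + k) = 𝒜 k • ℳ n := by
  classical
  have hsm : ∀ {j e : ℕ} {a : A} {y : M}, a ∈ 𝒜 j → y ∈ ℳ e → a • y ∈ ℳ (j + e) :=
    fun ha hy => SetLike.GradedSMul.smul_mem ha hy
  have hmul : ∀ i j, 𝒜 (i + j) ≤ 𝒜 i * 𝒜 j := by
    intro i
    induction i with
    | zero =>
      intro j x hx
      rw [zero_add] at hx
      rw [← one_mul x]
      exact Submodule.mul_mem_mul SetLike.GradedOne.one_mem hx
    | succ i ih =>
      intro j
      rw [show i + 1 + j = (i + j) + 1 by omega, hA (i + j)]
      refine (mul_le_mul_right (ih j) _).trans ?_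
      rw [← mul_assoc, ← hA i]
  refine le_antisymm ?_ (Submodule.smul_le.2 fun a ha y hy => by rw [add_comm]; exact hsm ha hy)
  intro y hy
  let pr : M →+ M :=
    { toFun := fun z => (DirectSum.decompose ℳ z (n + k) : M)
      map_zero' := by rw [DirectSum.decompose_zero]; rfl
      map_add' := fun z w => by rw [DirectSum.decompose_add]; rfl }
  have key : ∀ z : M, pr z ∈ 𝒜 k • ℳ n := by
    intro z
    have hz : z ∈ Submodule.span A s := hspan ▸ trivial
    obtain ⟨c, hc, rfl⟩ := Submodule.mem_span_set.1 hz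
    rw [Finsupp.sum, map_sum]
    refine Submodule.sum_mem _ fun t ht => ?_
    obtain ⟨d, hd, htd⟩ := hs t (hc ht)
    rw [← DirectSum.sum_support_decompose 𝒜 (c t), Finset.sum_smul, map_sum]
    refine Submodule.sum_mem _ fun j _ => ?_
    by_cases hje : j + d = n + k
    · show (DirectSum.decompose ℳ _ (n + k) : M) ∈ _
      rw [DirectSum.decompose_of_mem_same ℳ (hje ▸ hsm (SetLike.coe_mem _) htd)]
      obtain ⟨e, he⟩ : ∃ e, e + d = n := ⟨n - d, by omega⟩
      have hj : j = k + e := by omega
      have hmem : (DirectSum.decompose 𝒜 (c t) j : A) ∈ 𝒜 k * 𝒜 e := hmul k e (by rw [← hj]; exact SetLike.coe_mem _)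
      refine Submodule.mul_induction_on (C := fun z => z • t ∈ 𝒜 k • ℳ n) hmem (fun a ha b hb => ?_) (fun u v hu hv => by rw [add_smul]; exact add_mem hu hv)
      rw [mul_smul]
      exact Submodule.smul_mem_smul ha (he ▸ hsm hb htd)
    · show (DirectSum.decompose ℳ _ (n + k) : M) ∈ _
      rw [DirectSum.decompose_of_mem_ne ℳ (hsm (SetLike.coe_mem _) htd) hje]
      exact zero_mem _
  have := key y
  rwa [show pr y = y from DirectSum.decompose_of_mem_same ℳ hy] at this

end Groth.Agent.S14051
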