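import Groth.Statements.S14052
import Mathlib
-- import your own Groth.Agent.* helpers here

set_option autoImplicit false
universe u
open CAlg

namespace Groth.Agent.S14052

/-- Let A be a commutative ℕ-graded algebra over a base ring R with A_{n+1} = A_1 · A_n for every n (A
is generated by A_1 over A_0), and let S be a commutative ℕ-graded A-algebra, the structure map
sending A_i into S_i, which is a finite A-module. Let s be a finite set of homogeneous elements
spanning S as an A-module, all of degree at most n₀, with n₀ > 0. Then (1) S_{n+k} = S_k · S_n for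
all n ≥ n₀ and k ≥ 0, and (2) for every d ≥ n₀ the d-th Veronese subring of S is generated by S_d
over S_0, that is S_{md} = (S_d)^m for every m > 0. -/
theorem result
    (R : Type u) [CommRing R] (A : Type u) [CommRing A] [Algebra R A]
    (𝒜 : ℕ → Submodule R A) [GradedAlgebra 𝒜] (hA : ∀ n : ℕ, 𝒜 (n + 1) = 𝒜 1 * 𝒜 n)
    (S : Type u) [CommRing S] [Algebra R S] [Algebra A S] [IsScalarTower R A S]
    (𝒮 : ℕ → Submodule R S) [GradedAlgebra 𝒮]
    (hAS : ∀ (i : ℕ) (a : A), a ∈ 𝒜 i → algebraMap A S a ∈ 𝒮 i)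
    [Module.Finite A S]
    (s : Set S) (hsfin : s.Finite) (n₀ : ℕ) (hn₀ : 0 < n₀)
    (hs : ∀ y ∈ s, ∃ d : ℕ, d ≤ n₀ ∧ y ∈ 𝒮 d) (hspan : Submodule.span A s = ⊤) :
    (∀ n k : ℕ, n₀ ≤ n → 𝒮 (n + k) = 𝒮 k * 𝒮 n) ∧
      (∀ d : ℕ, n₀ ≤ d → ∀ m : ℕ, 0 < m → 𝒮 (m * d) = 𝒮 d ^ m) := by
  classical
  let T := {z : S | ∃ (i : ℕ) (a : A) (y : S), a ∈ 𝒜 i ∧ y ∈ s ∧ z = algebraMap A S a * y}
  have htop : ∀ z : S, z ∈ Submodule.span R T := by
    intro z
    have hz : z ∈ Submodule.span A s := hspan ▸ Submodule.mem_top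
    induction hz using Submodule.span_induction with
    | mem y hy => exact Submodule.subset_span ⟨0, 1, y, SetLike.one_mem_graded 𝒜, hy, by simp⟩
    | zero => exact zero_mem _
    | add x y _ _ hx hy => exact add_mem hx hy
    | smul a x hxs hx =>
      clear hxs
      induction hx using Submodule.span_induction with
      | mem w hw =>
        obtain ⟨i, b, y, hb, hy, rfl⟩ := hw
        rw [Algebra.smul_def, ← mul_assoc, ← map_mul, ← DirectSum.sum_support_decompose 𝒜 a,
          Finset.sum_mul, map_sum, Finset.sum_mul]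
        exact sum_mem fun j _ => Submodule.subset_span
          ⟨j + i, _, y, SetLike.mul_mem_graded (SetLike.coe_mem _) hb, hy, rfl⟩
      | zero => simp
      | add x y _ _ hx hy => rw [smul_add]; exact add_mem hx hy
      | smul r x _ hx => rw [smul_comm]; exact Submodule.smul_mem _ r hx
  have hmulle : ∀ i j, 𝒮 i * 𝒮 j ≤ 𝒮 (i + j) := fun i j =>
    Submodule.mul_le.mpr fun u hu v hv => SetLike.mul_mem_graded hu hv
  have hstep : ∀ n, n₀ ≤ n → 𝒮 (n + 1) ≤ 𝒮 1 * 𝒮 n := by
    intro n hn x hx
    have hle : Submodule.span R T ≤ (𝒮 1 * 𝒮 n).comap (GradedAlgebra.proj 𝒮 (n + 1)) := by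
      refine Submodule.span_le.mpr ?_
      rintro _ ⟨i, a, y, ha, hy, rfl⟩
      obtain ⟨d, hd, hyd⟩ := hs y hy
      have hmem : algebraMap A S a * y ∈ 𝒮 (i + d) := SetLike.mul_mem_graded (hAS i a ha) hyd
      rw [SetLike.mem_coe, Submodule.mem_comap, GradedAlgebra.proj_apply]
      by_cases he : i + d = n + 1
      · rw [← he, DirectSum.decompose_of_mem_same 𝒮 hmem]
        obtain ⟨j, rfl⟩ : ∃ j, i = j + 1 := ⟨i - 1, by omega⟩
        rw [hA j] at ha
        refine Submodule.mul_induction_on (C := fun w => algebraMap A S w * y ∈ 𝒮 1 * 𝒮 n) ha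
          (fun u hu v hv => ?_) (fun u v hu hv => ?_)
        · rw [map_mul, mul_assoc]
          refine Submodule.mul_mem_mul (hAS 1 u hu) ?_
          have hjn : n = j + d := by omega
          rw [hjn]
          exact SetLike.mul_mem_graded (hAS j v hv) hyd
        · rw [map_add, add_mul]
          exact add_mem hu hv
      · rw [DirectSum.decompose_of_mem_ne 𝒮 hmem he]
        exact zero_mem _
    have := hle (htop x)
    rwa [Submodule.mem_comap, GradedAlgebra.proj_apply, DirectSum.decompose_of_mem_same 𝒮 hx] at this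
  have h1 : ∀ n k : ℕ, n₀ ≤ n → 𝒮 (n + k) = 𝒮 k * 𝒮 n := by
    intro n k hn
    refine le_antisymm ?_ ((hmulle k n).trans (by rw [add_comm]))
    induction k with
    | zero =>
      intro x hx
      simpa using Submodule.mul_mem_mul (SetLike.one_mem_graded 𝒮) hx
    | succ k ih =>
      refine (hstep (n + k) (by omega)).trans ((mul_le_mul' le_rfl ih).trans ?_)
      rw [← mul_assoc]
      exact mul_le_mul' ((hmulle 1 k).trans (by rw [add_comm])) le_rfl
  refine ⟨h1, fun d hd m hm => ?_⟩
  obtain ⟨j, rfl⟩ : ∃ j, m = j + 1 := ⟨m - 1, by omega⟩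
  clear hm
  induction j with
  | zero => simp
  | succ j ih => rw [pow_succ, ← ih, Nat.succ_mul, add_comm, h1 d _ hd]

end Groth.Agent.S14052
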