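import Groth.Statements.S14053
import Mathlib
-- import your own Groth.Agent.* helpers here

set_option autoImplicit false
universe u
open CAlg

namespace Groth.Agent.S14053

/-- Let k be a field and R a commutative ℕ-graded k-algebra with R_0 = k · 1 which is generated as a
k-algebra by R_1, R_2 and R_3, each a finite-dimensional k-vector space, of dimensions d_1, d_2,
d_3. Then for every natural number e ≥ 5 d_1 + 4 d_2 + 3 d_3 the (6e)-th Veronese subring of R is
generated in degree one over k: R_{6em} = (R_{6e})^m for every m > 0. -/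
theorem result
    (k : Type u) [Field k] (R : Type u) [CommRing R] [Algebra k R]
    (ℛ : ℕ → Submodule k R) [GradedAlgebra ℛ]
    (h0 : ℛ 0 = 1)
    (hgen : Algebra.adjoin k ((ℛ 1 : Set R) ∪ (ℛ 2 : Set R) ∪ (ℛ 3 : Set R)) = ⊤)
    [Module.Finite k (ℛ 1)] [Module.Finite k (ℛ 2)] [Module.Finite k (ℛ 3)]
    (e : ℕ) (he : 5 * Module.finrank k (ℛ 1) + 4 * Module.finrank k (ℛ 2) + 3 * Module.finrank k (ℛ 3) ≤ e)
    (m : ℕ) (hm : 0 < m) :
    ℛ (m * (6 * e)) = ℛ (6 * e) ^ m := by
  classical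
  have mulle : ∀ i j, ℛ i * ℛ j ≤ ℛ (i + j) := fun i j =>
    Submodule.mul_le.mpr fun x hx y hy => SetLike.mul_mem_graded hx hy
  have powle : ∀ i j, ℛ i ^ j ≤ ℛ (j * i) := fun i j => by
    induction j with
    | zero => rw [pow_zero, zero_mul, h0]
    | succ j ih => rw [pow_succ, add_mul, one_mul]; exact (mul_le_mul' ih le_rfl).trans (mulle _ _)
  let T : ℕ → Submodule k R := fun n => ⨆ (a : ℕ) (b : ℕ) (c : ℕ) (_ : a + 2 * b + 3 * c = n),
    ℛ 1 ^ a * ℛ 2 ^ b * ℛ 3 ^ c
  have hTle : ∀ n, T n ≤ ℛ n := fun n => by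
    simp only [T, iSup_le_iff]
    intro a b c h
    refine ((mul_le_mul' (mul_le_mul' (powle 1 a) (powle 2 b)) (powle 3 c)).trans
      ((mul_le_mul' (mulle _ _) le_rfl).trans (mulle _ _))).trans ?_
    rw [show a * 1 + b * 2 + c * 3 = n by omega]
  have hTmem : ∀ a b c, ℛ 1 ^ a * ℛ 2 ^ b * ℛ 3 ^ c ≤ T (a + 2 * b + 3 * c) := fun a b c =>
    le_iSup_of_le a (le_iSup_of_le b (le_iSup_of_le c (le_iSup_of_le rfl le_rfl)))
  have hTmul : ∀ i j, T i * T j ≤ T (i + j) := fun i j => by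
    simp only [T, Submodule.iSup_mul, Submodule.mul_iSup, iSup_le_iff]
    intro a b c h a' b' c' h'
    calc _ = ℛ 1 ^ (a + a') * ℛ 2 ^ (b + b') * ℛ 3 ^ (c + c') := by simp only [pow_add]; ac_rfl
      _ ≤ T ((a + a') + 2 * (b + b') + 3 * (c + c')) := hTmem _ _ _
      _ = _ := by congr 1 <;> omega
  have hT : ∀ x : R, ∀ n, (DirectSum.decompose ℛ x n : R) ∈ T n := by
    have hsame : ∀ i x, x ∈ ℛ i → x ∈ T i → ∀ n, (DirectSum.decompose ℛ x n : R) ∈ T n := by
      intro i x hx hxT n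
      by_cases h : i = n
      · subst h; rwa [DirectSum.decompose_of_mem_same ℛ hx]
      · rw [DirectSum.decompose_of_mem_ne ℛ hx h]; exact zero_mem _
    intro x
    have hx : x ∈ Algebra.adjoin k ((ℛ 1 : Set R) ∪ (ℛ 2 : Set R) ∪ (ℛ 3 : Set R)) := hgen ▸ Algebra.mem_top
    induction hx using Algebra.adjoin_induction with
    | mem y hy =>
      rcases hy with (hy | hy) | hy
      · exact hsame 1 y hy (hTmem 1 0 0 (by simpa using hy))
      · exact hsame 2 y hy (hTmem 0 1 0 (by simpa using hy))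
      · exact hsame 3 y hy (hTmem 0 0 1 (by simpa using hy))
    | algebraMap r =>
      have hr : algebraMap k R r ∈ (1 : Submodule k R) := Submodule.algebraMap_mem r
      exact hsame 0 _ (h0.symm ▸ hr) (hTmem 0 0 0 (by simpa using hr))
    | add y z _ _ hy hz => intro n; simp only [DirectSum.decompose_add, DirectSum.add_apply,
        Submodule.coe_add]; exact add_mem (hy n) (hz n)
    | mul y z _ _ hy hz =>
      intro n
      rw [DirectSum.decompose_mul, DirectSum.coe_mul_apply]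
      refine sum_mem fun ij hij => ?_
      simp only [Finset.mem_filter] at hij
      exact hij.2 ▸ hTmul _ _ (Submodule.mul_mem_mul (hy _) (hz _))
  have heq : ∀ n, ℛ n = T n := fun n => le_antisymm
    (fun x hx => by simpa [DirectSum.decompose_of_mem_same ℛ hx] using hT x n) (hTle n)
  -- one degree-six factor can be split off from degree `6j` once `j ≥ 3`
  have hsplit : ∀ j, ℛ (6 * (j + 3)) = ℛ 6 * ℛ (6 * (j + 2)) := fun j => by
    refine le_antisymm ?_ ((mulle _ _).trans_eq (by congr 1; ring))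
    rw [heq]
    simp only [T, iSup_le_iff]
    intro a b c h
    have key : ∀ a b c a' b' c', a + 2 * b + 3 * c = 6 → a' + 2 * b' + 3 * c' = 6 * (j + 2) →
        ℛ 1 ^ (a + a') * ℛ 2 ^ (b + b') * ℛ 3 ^ (c + c') ≤ ℛ 6 * ℛ (6 * (j + 2)) := by
      intro a b c a' b' c' h h'
      calc _ = (ℛ 1 ^ a * ℛ 2 ^ b * ℛ 3 ^ c) * (ℛ 1 ^ a' * ℛ 2 ^ b' * ℛ 3 ^ c') := by
            simp only [pow_add]; ac_rfl
        _ ≤ T (a + 2 * b + 3 * c) * T (a' + 2 * b' + 3 * c') := mul_le_mul' (hTmem _ _ _) (hTmem _ _ _)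
        _ = _ := by rw [h, h', ← heq, ← heq]
    by_cases ha : 6 ≤ a
    · have := key 6 0 0 (a - 6) b c (by norm_num) (by omega)
      rwa [Nat.add_sub_cancel' ha, zero_add, zero_add] at this
    by_cases hb : 3 ≤ b
    · have := key 0 3 0 a (b - 3) c (by norm_num) (by omega)
      rwa [Nat.add_sub_cancel' hb, zero_add, zero_add] at this
    · have hc : 2 ≤ c := by omega
      have := key 0 0 2 a b (c - 2) (by norm_num) (by omega)
      rwa [Nat.add_sub_cancel' hc, zero_add, zero_add] at this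
  have hpow : ∀ j, ℛ (6 * (j + 2)) = ℛ 6 ^ j * ℛ 12 := fun j => by
    induction j with
    | zero => simp
    | succ j ih => rw [hsplit, ih, pow_succ', mul_assoc]
  have hge : ℛ (6 * e) ^ m ≤ ℛ (m * (6 * e)) := powle _ _
  refine le_antisymm ?_ hge
  rcases Nat.lt_or_ge e 2 with he2 | he2
  · have hbot : ∀ i : ℕ, [Module.Finite k (ℛ i)] → Module.finrank k (ℛ i) = 0 → ℛ i = ⊥ :=
      fun i _ hi => Submodule.finrank_eq_zero.mp hi
    have h1 := hbot 1 (by omega)
    have h2 := hbot 2 (by omega)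
    have h3 := hbot 3 (by omega)
    rcases Nat.eq_zero_or_pos (m * (6 * e)) with hz | hz
    · have : e = 0 := by simp [hm.ne'] at hz; omega
      rw [hz, this, mul_zero, h0, one_pow]
    · rw [heq]
      simp only [T, iSup_le_iff]
      intro a b c h
      suffices ℛ 1 ^ a * ℛ 2 ^ b * ℛ 3 ^ c = ⊥ by rw [this]; exact bot_le
      rcases (show a ≠ 0 ∨ b ≠ 0 ∨ c ≠ 0 by omega) with ha | hb | hc
      · rw [h1, ← Nat.succ_pred_eq_of_ne_zero ha, pow_succ]; simp
      · rw [h2, ← Nat.succ_pred_eq_of_ne_zero hb, pow_succ]; simp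
      · rw [h3, ← Nat.succ_pred_eq_of_ne_zero hc, pow_succ]; simp
  · obtain ⟨m, rfl⟩ := Nat.exists_eq_succ_of_ne_zero hm.ne'
    obtain ⟨f, rfl⟩ := Nat.exists_eq_add_of_le he2
    have hidx : (m + 1) * (6 * (2 + f)) = 6 * ((m * (2 + f) + f) + 2) := by ring
    rw [Nat.succ_eq_add_one, hidx, hpow, pow_succ, pow_add, mul_assoc, add_comm 2 f, ← hpow f]
    refine mul_le_mul' ?_ le_rfl
    rw [mul_comm m, pow_mul]
    exact pow_le_pow_left' ((powle 6 _).trans_eq (by congr 1; ring)) m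

end Groth.Agent.S14053
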