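import Groth.Statements.S14059
import Groth.Agent.GrpSchField.ClosedImage

set_option autoImplicit false
universe u
open CategoryTheory MonoidalCategory CartesianMonoidalCategory MonObj GrpObj AlgebraicGeometry
open GrpSch

namespace Groth.Agent.S14059

/-- A local ring which is a field and has a rational point is the base field. -/
theorem bijective_stalkMap {k : Type u} [Field k] (X : Scheme.{u}) [X.Over (Spec (CommRingCat.of k))]
    (x : X) (hx : IsField (X.presheaf.stalk x)) (p : Spec (CommRingCat.of k) ⟶ X)
    (hp : p ≫ X ↘ Spec (CommRingCat.of k) = 𝟙 _) (hpx : p (IsLocalRing.closedPoint k) = x) :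
    Function.Bijective (Curv2.stalkMap k X x) := by
  subst hpx
  let := hx.toField
  have key : (Scheme.stalkClosedPointTo p).hom.comp (Curv2.stalkMap k X _) = RingHom.id k := by
    have h1 := Scheme.germ_stalkClosedPointTo (f := p) ⊤ trivial
    have h2 : (Scheme.ΓSpecIso (CommRingCat.of k)).inv ≫ (X ↘ Spec (CommRingCat.of k)).appTop ≫
        p.appTop ≫ (Scheme.ΓSpecIso (CommRingCat.of k)).hom = 𝟙 _ := by
      rw [← Scheme.Hom.comp_appTop_assoc, hp, Scheme.Hom.id_appTop, Category.id_comp,
        Iso.inv_hom_id]
    have h3 : (Scheme.ΓSpecIso (CommRingCat.of k)).inv ≫ (X ↘ Spec (CommRingCat.of k)).appTop ≫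
        X.presheaf.germ ⊤ _ trivial ≫ Scheme.stalkClosedPointTo p = 𝟙 _ := by
      rw [h1]
      refine Eq.trans ?_ h2
      simp [Scheme.Hom.appTop]
      all_goals congr 2
    exact congrArg CommRingCat.Hom.hom h3
  exact ⟨RingHom.injective _, fun s => ⟨(Scheme.stalkClosedPointTo p).hom s,
    (Scheme.stalkClosedPointTo p).hom.injective (RingHom.congr_fun key _)⟩⟩


/-- Let k be an algebraically closed field and G a group scheme of finite type over k, with unit point e
(the image of the unit section). Then the tangent space of G at e is zero, that is the cotangent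
space m_e/m_e² of the local ring O_{G,e} vanishes, if and only if G is isomorphic over k to a finite
disjoint union of copies of Spec k, stated as: the underlying space of G is finite and discrete and
the structure map k → O_{G,g} is bijective for every point g. (The published statement is over an
arbitrary field; the group scheme of cube roots of unity over the rationals has zero tangent space
at the unit but a point with residue field larger than the base field, and the printed argument
translates by rational points, so the base field is taken algebraically closed here.) -/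
theorem result (k : Type u) [Field k] [IsAlgClosed k]
    (G : Over (Spec (CommRingCat.of k))) [GrpObj G] [LocallyOfFiniteType G.hom] [QuasiCompact G.hom]
    (e : G.left) (he : e ∈ Set.range (η[G]).left.base) :
    letI : G.left.Over (Spec (CommRingCat.of k)) := ⟨G.hom⟩
    Subsingleton (IsLocalRing.CotangentSpace (G.left.presheaf.stalk e)) ↔
      (Finite G.left ∧ DiscreteTopology G.left ∧
        ∀ g : G.left, Function.Bijective (Curv2.stalkMap k G.left g)) := by
  let _ : G.left.Over (Spec (CommRingCat.of k)) := ⟨G.hom⟩
  constructor
  swap
  · rintro ⟨-, -, h⟩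
    have := LocallyOfFiniteType.isLocallyNoetherian G.hom
    rw [IsLocalRing.subsingleton_cotangentSpace_iff]
    exact (RingEquiv.ofBijective _ (h e)).symm.toMulEquiv.isField (Field.toIsField k)
  intro hT
  have := LocallyOfFiniteType.isLocallyNoetherian G.hom
  have : JacobsonSpace G.left := LocallyOfFiniteType.jacobsonSpace G.hom
  have he' : IsField (G.left.presheaf.stalk e) := IsLocalRing.subsingleton_cotangentSpace_iff.mp hT
  obtain ⟨p, rfl⟩ := he
  have hp : p = IsLocalRing.closedPoint k :=
    Subsingleton.elim (α := Spec (CommRingCat.of k)) _ _
  have hclosed : ∀ c : G.left, IsClosed ({c} : Set G.left) →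
      IsField (G.left.presheaf.stalk c) ∧ Function.Bijective (Curv2.stalkMap k G.left c) := by
    intro c hc
    let a : 𝟙_ (Over (Spec (CommRingCat.of k))) ⟶ G :=
      Over.homMk (pointOfClosedPoint G.hom c hc) (pointOfClosedPoint_comp _ _ _)
    have hac : (Groth.Agent.GrpSchField.transR a).left (η[G].left p) = c := by
      have h := Groth.Agent.GrpSchField.transR_ptOf a (1 : 𝟙_ _ ⟶ G)
      rw [_root_.one_mul, Hom.one_def, toUnit_unit, Category.id_comp] at h
      rw [hp]
      exact h.trans (pointOfClosedPoint_apply G.hom c hc _)
    let α : G ≅ G :=
      { hom := Groth.Agent.GrpSchField.transR a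
        inv := Groth.Agent.GrpSchField.transR a⁻¹
        hom_inv_id := by rw [Groth.Agent.GrpSchField.transR_comp, mul_inv_cancel,
          Groth.Agent.GrpSchField.transR_one]
        inv_hom_id := by rw [Groth.Agent.GrpSchField.transR_comp, inv_mul_cancel,
          Groth.Agent.GrpSchField.transR_one] }
    have : IsIso α.hom.left := ((Over.forget _).mapIso α).isIso_hom
    have hf : IsField (G.left.presheaf.stalk c) := by
      rw [← hac]
      exact (asIso (α.hom.left.stalkMap (η[G].left p))).commRingCatIsoToRingEquiv.toMulEquiv.isField he'
    exact ⟨hf, bijective_stalkMap G.left c hf (pointOfClosedPoint G.hom c hc)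
      (pointOfClosedPoint_comp _ _ _) (pointOfClosedPoint_apply G.hom c hc _)⟩
  have hall : ∀ x : G.left, IsClosed ({x} : Set G.left) := by
    intro x
    obtain ⟨c, hcx, hc⟩ := nonempty_inter_closedPoints (Z := closure ({x} : Set G.left))
      ((Set.singleton_nonempty x).mono subset_closure) isClosed_closure.isLocallyClosed
    have h0 : Order.coheight c = 0 := by
      have h := ringKrullDim_stalk_eq_coheight c
      rw [ringKrullDim_eq_zero_of_isField (hclosed c hc).1] at h
      exact_mod_cast h.symm
    have hle : c ≤ x := specializes_iff_mem_closure.mpr hcx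
    have hge : x ≤ c := Order.coheight_eq_zero.mp h0 hle
    have : x = c := (Specializes.antisymm hle hge).eq
    exact this ▸ hc
  have : CompactSpace G.left := QuasiCompact.compactSpace_of_compactSpace G.hom
  have : IsNoetherian G.left := ⟨⟩
  have hsing : ∀ Z ∈ irreducibleComponents G.left, Z.Subsingleton := by
    intro Z hZ
    obtain ⟨g, hg⟩ := QuasiSober.sober hZ.1 (isClosed_of_mem_irreducibleComponents Z hZ)
    rw [← hg.def, (hall g).closure_eq]
    exact Set.subsingleton_singleton
  have hfin : Finite G.left := by
    rw [← Set.finite_univ_iff, ← sUnion_irreducibleComponents]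
    exact TopologicalSpace.NoetherianSpace.finite_irreducibleComponents.sUnion
      fun Z hZ => (hsing Z hZ).finite
  exact ⟨hfin, DiscreteTopology.of_finite_of_isClosed_singleton hall,
    fun g => (hclosed g (hall g)).2⟩

end Groth.Agent.S14059
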