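import Groth.Statements.S1406
import Groth.Agent.NoethDescentFppf.Basic
-- import your own Groth.Agent.* helpers here

set_option autoImplicit false
universe u
open FlatMor

namespace Groth.Agent.S1406

open AlgebraicGeometry CategoryTheory Limits in
/-- Let a : X' → X be flat, locally of finite presentation and surjective. Then all fibres of f : X → Y
are locally Noetherian if and only if all fibres of a ≫ f are. -/
theorem result {X X' Y : Scheme.{u}} (f : X ⟶ Y) (a : X' ⟶ X) [Flat a] [LocallyOfFinitePresentation a] [Surjective a] :
    (∀ y : Y, IsLocallyNoetherian (f.fiber y)) ↔ ∀ y : Y, IsLocallyNoetherian ((a ≫ f).fiber y) := by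
    refine forall_congr' fun y => ?_
    have h : IsPullback (pullback.fst (a ≫ f) (Y.fromSpecResidueField y)) 
        (pullback.lift (pullback.fst (a ≫ f) (Y.fromSpecResidueField y) ≫ a) (pullback.snd (a ≫ f) (Y.fromSpecResidueField y))
          (by rw [Category.assoc]; exact pullback.condition))
        a (f.fiberι y) := by
      refine IsPullback.of_bot ?_ (by exact (pullback.lift_fst _ _ _).symm) (IsPullback.of_hasPullback f (Y.fromSpecResidueField y))
      convert IsPullback.of_hasPullback (a ≫ f) (Y.fromSpecResidueField y) using 1
      exact pullback.lift_snd _ _ _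
    set b := pullback.lift (f := f) (g := Y.fromSpecResidueField y) (pullback.fst (a ≫ f) (Y.fromSpecResidueField y) ≫ a) (pullback.snd (a ≫ f) (Y.fromSpecResidueField y)) (by rw [Category.assoc]; exact pullback.condition)
    have hfl : Flat b := MorphismProperty.of_isPullback h inferInstance
    have hlfp : LocallyOfFinitePresentation b := MorphismProperty.of_isPullback h inferInstance
    have hsu : Surjective b := MorphismProperty.of_isPullback h inferInstance
    have hlft : LocallyOfFiniteType b := inferInstance
    exact ⟨fun hN => @LocallyOfFiniteType.isLocallyNoetherian _ _ b hlft hN, fun hN => @NoethDescentFppf.isLocallyNoetherian_descend _ _ b hfl hlfp hsu hN⟩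

end Groth.Agent.S1406
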