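import Groth.Statements.S14060
import Mathlib.CategoryTheory.Sites.SheafCohomology.Basic
import Mathlib.Algebra.Homology.DerivedCategory.Ext.ExactSequences
import Mathlib.Algebra.Homology.Refinements

set_option autoImplicit false
universe u
open CategoryTheory CategoryTheory.Limits TopologicalSpace
open CohTop

namespace Groth.Agent.S14060

/-- Let X be a topological space, r ≥ 1 an integer and 0 → F_r → ⋯ → F_2 → F_1 → F_0 → 0 an exact
sequence of sheaves of abelian groups on X, presented as a chain complex F of abelian sheaves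
indexed by the natural numbers whose differential F_r → F_{r−1} is a monomorphism, whose
differential F_1 → F_0 is an epimorphism of sheaves, and which is exact at F_j for 1 ≤ j ≤ r − 1
(for r = 1 the single map F_1 → F_0 is mono and epi). Assume the sheaf cohomology groups H^{j−1}(X,
F_j) vanish for 2 ≤ j ≤ r. Then the map on global sections F_1(X) → F_0(X) is surjective. (The
instance hypothesis that the category of abelian sheaves on X has Ext groups in the universe of X
holds for every X, abelian sheaves on a space forming a Grothendieck abelian category; it is the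
setting in which sheaf cohomology is defined.) -/
theorem result (X : TopCat.{u})
    [HasExt.{u} (Sheaf (Opens.grothendieckTopology X) AddCommGrpCat.{u})]
    (r : ℕ) (hr : 1 ≤ r)
    (F : ChainComplex (Sheaf (Opens.grothendieckTopology X) AddCommGrpCat.{u}) ℕ)
    (hmono : Mono (F.d r (r - 1))) (hepi : Epi (F.d 1 0))
    (hex : ∀ j : ℕ, 1 ≤ j → j < r → F.ExactAt j)
    (hvan : ∀ j : ℕ, 2 ≤ j → j ≤ r → Subsingleton (Sheaf.H (F.X j) (j - 1))) :
    Function.Surjective ((F.d 1 0).hom.app (Opposite.op ⊤)) := by
  let Xc := (constantSheaf (Opens.grothendieckTopology X) AddCommGrpCat.{u}).obj (AddCommGrpCat.of (ULift ℤ))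
  have step : ∀ (k : ℕ), k + 1 < r → Subsingleton (Sheaf.H (kernel (F.d (k + 2) (k + 1))) (k + 2)) →
      Subsingleton (Sheaf.H (kernel (F.d (k + 1) k)) (k + 1)) := by
    intro k hk hsub
    let S := ShortComplex.mk (kernel.ι (F.d (k + 2) (k + 1)))
      (kernel.lift (F.d (k + 1) k) (F.d (k + 2) (k + 1)) (F.d_comp_d _ _ _))
      (by rw [← cancel_mono (kernel.ι (F.d (k + 1) k))]; simp)
    have hS : S.ShortExact := by
      have hexk := (HomologicalComplex.exactAt_iff' _ (k + 2) (k + 1) k (by simp) (by simp)).mp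
        (hex (k + 1) (by omega) hk)
      haveI : Epi S.g := hexk.epi_kernelLift
      haveI : Mono S.f := inferInstanceAs (Mono (kernel.ι _))
      refine ShortComplex.ShortExact.mk ?_
      rw [ShortComplex.exact_iff_exact_up_to_refinements]
      intro A x₂ hx₂
      refine ⟨A, 𝟙 A, inferInstance, kernel.lift _ x₂ ?_, ?_⟩
      · have := congrArg (fun φ => φ ≫ kernel.ι (F.d (k + 1) k)) hx₂
        simpa [S] using this
      · simp [S]
    haveI := hvan (k + 2) (by omega) (by omega)
    refine subsingleton_of_forall_eq 0 fun x₃ => ?_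
    obtain ⟨x₂, rfl⟩ := Abelian.Ext.covariant_sequence_exact₃ Xc hS x₃ (n₁ := k + 2) rfl (hsub.elim _ _)
    rw [show x₂ = 0 from (hvan (k + 2) (by omega) (by omega) : Subsingleton (Sheaf.H (F.X (k + 2)) (k + 1))).elim _ _,
      Abelian.Ext.zero_comp]
  have hP : ∀ k, k < r → Subsingleton (Sheaf.H (kernel (F.d (k + 1) k)) (k + 1)) := by
    intro k hk
    obtain ⟨r, rfl⟩ : ∃ r', r = r' + 1 := ⟨r - 1, by omega⟩
    induction Nat.le_of_lt_succ hk using Nat.decreasingInduction with
    | self =>
      haveI : Mono (F.d (r + 1) r) := hmono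
      refine subsingleton_of_forall_eq 0 fun x => ?_
      have h0 : (𝟙 (kernel (F.d (r + 1) r))) = 0 := (isZero_kernel_of_mono (F.d (r + 1) r)).eq_of_src _ _
      rw [← Abelian.Ext.comp_mk₀_id x, h0, Abelian.Ext.mk₀_zero, Abelian.Ext.comp_zero]
    | of_succ j hj ih => exact step j (by omega) (ih (by omega))
  have hP0 := hP 0 hr
  let S := ShortComplex.mk (kernel.ι (F.d 1 0)) (F.d 1 0) (kernel.condition _)
  have hS : S.ShortExact := by
    haveI : Epi S.g := hepi
    haveI : Mono S.f := inferInstanceAs (Mono (kernel.ι _))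
    exact ShortComplex.ShortExact.mk (ShortComplex.exact_of_f_is_kernel _ (kernelIsKernel _))
  let hT : IsTerminal (⊤ : Opens X) := IsTerminal.ofUniqueHom (fun _ => homOfLE le_top) (fun _ _ => Subsingleton.elim _ _)
  intro y
  obtain ⟨x₂, hx₂⟩ := Abelian.Ext.covariant_sequence_exact₃ Xc hS ((Sheaf.H.equiv₀ (F.X 0) hT).symm y)
    (n₁ := 1) rfl (hP0.elim _ _)
  refine ⟨Sheaf.H.equiv₀ (F.X 1) hT x₂, ?_⟩
  rw [Sheaf.H.equiv₀_naturality, Sheaf.H.map_apply]
  exact (congrArg (Sheaf.H.equiv₀ (F.X 0) hT) hx₂).trans (AddEquiv.apply_symm_apply _ _)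

end Groth.Agent.S14060
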