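import Groth.Statements.S14064
-- import your own Groth.Agent.* helpers here
import Groth.Agent.SurfRR.Vanishing
import Groth.Agent.InvPow.DualBasis
import Groth.Agent.InvPow.VeryAmpleTwist
import Groth.Agent.NegVanish.Main

set_option autoImplicit false
universe u
open CategoryTheory CategoryTheory.Limits AlgebraicGeometry TopologicalSpace
open Surf

namespace Groth.Agent.S14064

/-- Fix a field k, an integral proper k-scheme X, and an invertible O_X-module L with tensor inverse M.
Suppose that L^{⊗j} has a nonzero global section for every j ≥ 4 and that no tensor power L^{⊗j}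
with j ≥ 1 is isomorphic to O_X. Then H⁰(X, M^{⊗i}) = 0 for every i ≥ 1: the negative powers of L
have no nonzero global sections. (The published statement is for the canonical module of a minimal
surface of general type over an algebraically closed field, where the fourth and higher powers are
globally generated by a deep result quoted without proof, and non-triviality of the positive powers
comes from bigness; the published deduction of this part uses exactly the two hypotheses carried
here, on an integral proper X.) -/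
theorem result (k : Type u) [Field k]
    (X : Scheme.{u}) [X.Over (Spec (CommRingCat.of k))] [IsProper (X ↘ (Spec (CommRingCat.of k)))] [IsIntegral X]
    (L M : X.Modules) (hL : PicF.IsInvertible L) (hM : ClSub.IsInverseOf M L)
    (hsec : ∀ j : ℕ, 4 ≤ j → Nontrivial (Coh.HH X (CohB1.tensorPow L j) 0))
    (hnt : ∀ j : ℕ, 1 ≤ j → IsEmpty (CohB1.tensorPow L j ≅ Coh.structureModule X))
    (i : ℕ) (hi : 1 ≤ i) :
    Subsingleton (Coh.HH X (CohB1.tensorPow M i) 0) := by
  by_contra hs
  rw [not_subsingleton_iff_nontrivial] at hs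
  obtain ⟨s, hs⟩ := IntTh.nonzero_section_of_HH hs
  obtain ⟨t, ht⟩ := IntTh.nonzero_section_of_HH (hsec (i * 4) (by omega))
  obtain ⟨Φ⟩ := hM
  obtain ⟨c⟩ := ProjTwist.nonempty_tensorMod_comm L M
  have hM' : PicF.IsInvertible M := NegVanish.isInvertible_of_inverse hL ⟨c ≪≫ Φ⟩
  obtain ⟨e⟩ := NegVanish.isInverseOf_pow hL ⟨c ≪≫ Φ⟩ (i * 4)
  have hA := InvPow.isInvertible_tensorPow hL (i * 4)
  have hB := InvPow.isInvertible_tensorPow hM' (i * 4)
  have hO := HilbPoly.isInvertible_structureModule X
  have h1 : (ProjUniv.genOpen (InvPow.isInvertible_tensorPow hM' i) s : Set X).Nonempty :=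
    CurveDeg.genOpen_nonempty_of_ne_zero (InvPow.isInvertible_tensorPow hM' i) hs
  have h1' : (ProjUniv.genOpen hB (InvPow.spow hM' s 4) : Set X).Nonempty := by
    rw [InvPow.genOpen_spow hM' s (by norm_num)]; exact h1
  have h2 : (ProjUniv.genOpen hA t : Set X).Nonempty := CurveDeg.genOpen_nonempty_of_ne_zero hA ht
  have hne : ((ProjUniv.genOpen hA t ⊓ ProjUniv.genOpen hB (InvPow.spow hM' s 4) : X.Opens) : Set X).Nonempty :=
    nonempty_preirreducible_inter (ProjUniv.genOpen hA t).2 (ProjUniv.genOpen hB _).2 h2 h1'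
  rw [← InvPow.genOpen_tmul hA hB, ← InvPow.gen_iff_of_iso (InvPow.isInvertible_tensorMod hA hB) hO e] at hne
  set σ := e.hom.app ⊤ (SecTwist.tmul _ _ ⊤ t (InvPow.spow hM' s 4))
  have hb := InvPow.isBasis_oneSec (X := X) ⊤
  obtain ⟨a, ha⟩ := InvPow.exists_coef hb (ProjUniv.gres (Coh.structureModule X) σ ⊤)
  have h3 := InvPow.genOpen_inf_eq_basicOpen hO hb ha
  rw [inf_top_eq] at h3
  have ha0 : a ≠ 0 := fun h => by
    rw [h3, h, Scheme.basicOpen_zero] at hne
    simp at hne
  have hu : IsUnit a := by
    letI := (isField_of_universallyClosed k (X ↘ Spec (CommRingCat.of k))).toField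
    exact isUnit_iff_ne_zero.2 ha0
  rw [Scheme.basicOpen_of_isUnit _ hu] at h3
  have h4 := InvPow.gen_iff_of_iso (InvPow.isInvertible_tensorMod hA hB) hO e (SecTwist.tmul _ _ ⊤ t (InvPow.spow hM' s 4))
  rw [h3, InvPow.genOpen_tmul hA hB] at h4
  have htop : ProjUniv.genOpen hA t = ⊤ := top_le_iff.1 (h4.le.trans inf_le_left)
  exact (hnt (i * 4) (by omega)).false (SurfRR.nonempty_iso_of_genOpen_eq_top hA t htop).some

end Groth.Agent.S14064
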