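import Groth.Statements.S14075
import Groth.Agent.GeomUnib.EquidimCriterion
import Groth.Agent.GeomUnib.FibreGenGeneral
import Groth.Agent.GeomUnib.Crit
-- import your own Groth.Agent.* helpers here

set_option autoImplicit false
open CategoryTheory AlgebraicGeometry
universe u
open FamCyc

namespace Groth.Agent.S14075

/-- Let f : X ⟶ S be locally of finite type and universally open. Then every point x of X lies on an
irreducible component W of X, given its reduced subscheme structure, such that W ⟶ S is
equidimensional at x. -/
theorem result {X S : Scheme.{u}} (f : X ⟶ S) [LocallyOfFiniteType f]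
    [UniversallyOpen f] (x : X) :
    ∃ W : TopologicalSpace.Closeds X, (W : Set X) ∈ irreducibleComponents (X : Type u) ∧
      ∃ w : ↥((Scheme.IdealSheafData.vanishingIdeal W).subscheme),
        (Scheme.IdealSheafData.vanishingIdeal W).subschemeι.base w = x ∧
        EGA43.IsEquidimAt ((Scheme.IdealSheafData.vanishingIdeal W).subschemeι ≫ f) w := by
  obtain ⟨η, hη⟩ := QuasiSober.sober (isIrreducible_irreducibleComponent (x := f.base x))
    isClosed_irreducibleComponent
  have hηmax : ∀ y, y ⤳ η → η ⤳ y := fun y hy =>
    GeomUnib.maximal_of_component η _ (irreducibleComponent_mem_irreducibleComponents _) hη y hy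
  obtain ⟨n, hn, ⟨u, hu, hux, hun⟩, -⟩ := FibreDim.exists_fibreDimAt_eq f x
  have hopen : EGA43.IsUnivOpenAt f u := GeomUnib.isUnivOpenAt_of_universallyOpen f u
  obtain ⟨v, hvu, hv, hdv⟩ := GeomUnib.exists_gen_of_isUnivOpenAt f u hopen η
    (by rw [hu]; exact hη.specializes mem_irreducibleComponent)
  obtain ⟨ξ, hξ⟩ := QuasiSober.sober (isIrreducible_irreducibleComponent (x := v))
    isClosed_irreducibleComponent
  have hξv : ξ ⤳ v := hξ.specializes mem_irreducibleComponent
  have hfξ : f.base ξ = η := by
    have h1 : f.base ξ ⤳ η := hv ▸ hξv.map f.continuous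
    exact (h1.antisymm (hηmax _ h1)).eq
  refine ⟨⟨irreducibleComponent v, isClosed_irreducibleComponent⟩,
    irreducibleComponent_mem_irreducibleComponents v, ?_⟩
  refine GeomUnib.isEquidimAt_closure f ξ x _ hξ.def (hξv.trans (hvu.trans hux)) (fun y hy => ?_) ?_
  · rw [hfξ] at hy ⊢
    exact hηmax y hy
  · exact hn.trans_le ((hun.ge.trans hdv).trans (FibreDim.fdim_mono f hξv (hfξ.trans hv.symm)))

end Groth.Agent.S14075
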