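import Groth.Statements.S14076
import Groth.Agent.GeomUnib.EquidimCriterion
import Groth.Agent.GeomUnib.FibreGenGeneral
import Groth.Agent.GeomUnib.Crit
-- import your own Groth.Agent.* helpers here

set_option autoImplicit false
open CategoryTheory AlgebraicGeometry
universe u
open FamCyc

namespace Groth.Agent.S14076

/-- Let f : X ⟶ S be locally of finite type and equidimensional at every point of X. Then every point x
of X lies on an irreducible component W of X, given its reduced subscheme structure, such that W ⟶ S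
is equidimensional at x. -/
theorem result {X S : Scheme.{u}} (f : X ⟶ S) [LocallyOfFiniteType f]
    (h : ∀ x : X, EGA43.IsEquidimAt f x) (x : X) :
    ∃ W : TopologicalSpace.Closeds X, (W : Set X) ∈ irreducibleComponents (X : Type u) ∧
      ∃ w : ↥((Scheme.IdealSheafData.vanishingIdeal W).subscheme),
        (Scheme.IdealSheafData.vanishingIdeal W).subschemeι.base w = x ∧
        EGA43.IsEquidimAt ((Scheme.IdealSheafData.vanishingIdeal W).subschemeι ≫ f) w := by
  obtain ⟨ξ, hξ⟩ := QuasiSober.sober (isIrreducible_irreducibleComponent (x := x))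
    isClosed_irreducibleComponent
  have hξmax : ∀ b, b ⤳ ξ → ξ ⤳ b := fun b hb =>
    GeomUnib.maximal_of_component ξ _ (irreducibleComponent_mem_irreducibleComponents _) hξ b hb
  have hξx : ξ ⤳ x := hξ.specializes mem_irreducibleComponent
  obtain ⟨e, U, hxU, hcomp, hdim⟩ := h x
  have hmem : ξ ∈ U := hξx.mem_open U.2 hxU
  obtain ⟨W, hW, hxW, hWeq⟩ := hcomp _ (irreducibleComponent_mem_irreducibleComponents (⟨ξ, hmem⟩ : ↥U.toScheme))
  haveI : QuasiSober ↥(U : Set X) := U.2.isOpenEmbedding_subtypeVal.quasiSober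
  obtain ⟨c, hc⟩ := QuasiSober.sober (isIrreducible_irreducibleComponent (x := (⟨ξ, hmem⟩ : ↥U.toScheme)))
    isClosed_irreducibleComponent
  have hcξ : U.ι.base c = ξ := by
    have h1 : U.ι.base c ⤳ ξ := (hc.specializes mem_irreducibleComponent).map U.ι.continuous
    exact (h1.antisymm (hξmax _ h1)).eq
  have hfW : IsGenericPoint (f.base ξ) W := by
    rw [← hcξ]
    exact ((hc.image (U.ι ≫ f).continuous).def.trans hWeq : closure {(U.ι ≫ f).base c} = W)
  have key : ∀ m : X, m ∈ U → (∀ b : X, f.base b = f.base m → m ∈ closure {b} → b = m) →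
      FibreDim.fdim f m = e := fun m hmU hmax => by
    obtain ⟨c, hc⟩ : (⟨m, hmU⟩ : ↥U.toScheme) ∈ Set.range ((U.ι ≫ f).fiberι (f.base m)) := by
      rw [(U.ι ≫ f).range_fiberι]; exact rfl
    obtain ⟨t, ht⟩ := QuasiSober.sober (isIrreducible_irreducibleComponent (x := c))
      isClosed_irreducibleComponent
    obtain ⟨u, huU, hu, hud, humax⟩ := GeomUnib.exists_maximal_of_component f U (f.base m)
      (irreducibleComponent_mem_irreducibleComponents c)
    have htc : (U.ι ≫ f).fiberι (f.base m) t ⤳ ⟨m, hmU⟩ :=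
      hc ▸ (ht.specializes mem_irreducibleComponent).map ((U.ι ≫ f).fiberι (f.base m)).continuous
    have htm : U.ι.base ((U.ι ≫ f).fiberι (f.base m) t) = m := by
      refine hmax _ ?_ (htc.map U.ι.continuous).mem_closure
      have : (U.ι ≫ f).fiberι (f.base m) t ∈ Set.range ((U.ι ≫ f).fiberι (f.base m)) := ⟨t, rfl⟩
      rw [(U.ι ≫ f).range_fiberι] at this
      exact this
    have h := hdim ⟨m, hmU⟩ (irreducibleComponent c) (irreducibleComponent_mem_irreducibleComponents c)
    have h' : topologicalKrullDim ↥(closure ({t} : Set ↥((U.ι ≫ f).fiber (f.base m)))) = e :=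
      (congrArg (fun s : Set _ => topologicalKrullDim ↥s) ht.def).trans h
    rw [FibreDim.dim_closure_fibre, GeomUnib.fdim_opens, htm] at h'
    exact h'
  refine ⟨⟨irreducibleComponent x, isClosed_irreducibleComponent⟩,
    irreducibleComponent_mem_irreducibleComponents x, ?_⟩
  refine GeomUnib.isEquidimAt_closure f ξ x _ hξ.def hξx
    (fun y hy => GeomUnib.maximal_of_component _ W hW hfW y hy) ?_
  obtain ⟨n, hn, ⟨u, hu, hux, hun⟩, -⟩ := FibreDim.exists_fibreDimAt_eq f x
  obtain ⟨m, hm, hmu, hdm, hmmax⟩ := GeomUnib.exists_maximal_gen f u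
  rw [key ξ hmem fun b hb hξb => (specializes_iff_mem_closure.2 hξb).antisymm (hξmax _ (specializes_iff_mem_closure.2 hξb)) |>.eq,
    hn, ← hun, ← key m ((hmu.trans hux).mem_open U.2 hxU) hmmax]
  exact hdm

end Groth.Agent.S14076
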