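import Groth.Statements.S14080
import Mathlib
-- import your own Groth.Agent.* helpers here

set_option autoImplicit false
universe u
open ArSing

namespace Groth.Agent.S14080

/-- Let k be a field in which 2 is invertible and σ an involutive k-algebra automorphism of the power
series ring k[[t]], with ξ the coefficient of t in σ(t). Then ξ^2 = 1, the k-algebra endomorphism φ
with φ(t) = (t + ξ σ(t))/2 is an automorphism, and φ⁻¹ σ φ is the automorphism t ↦ ξ t. (The
published statement is over an algebraically closed field of characteristic prime to 2; only the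
invertibility of 2 is used, so any field with 2 ≠ 0 is allowed here.) -/
theorem result (k : Type u) [Field k] (h2 : (2 : k) ≠ 0)
    (σ : PowerSeries k ≃ₐ[k] PowerSeries k) (hσ : ∀ f, σ (σ f) = f) :
    (PowerSeries.coeff 1 (σ PowerSeries.X)) ^ 2 = 1 ∧
    ∃ φ : PowerSeries k ≃ₐ[k] PowerSeries k,
      φ PowerSeries.X = PowerSeries.C (2⁻¹ : k) *
        (PowerSeries.X + PowerSeries.C (PowerSeries.coeff 1 (σ PowerSeries.X)) * σ PowerSeries.X) ∧
      ∀ f, φ.symm (σ (φ f)) = PowerSeries.rescale (PowerSeries.coeff 1 (σ PowerSeries.X)) f := by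
  classical
  have hX0 : ∀ g : PowerSeries k →ₐ[k] PowerSeries k, (g PowerSeries.X).constantCoeff = 0 := by
    intro g
    by_contra hc
    set c := (g PowerSeries.X).constantCoeff
    have hu : IsUnit (PowerSeries.X - algebraMap k (PowerSeries k) c) := by
      rw [PowerSeries.isUnit_iff_constantCoeff]
      simp [PowerSeries.algebraMap_eq, hc]
    have h := hu.map g
    rw [map_sub, AlgHom.commutes, PowerSeries.isUnit_iff_constantCoeff] at h
    simp [PowerSeries.algebraMap_eq, c] at h
  have hext : ∀ g g' : PowerSeries k →ₐ[k] PowerSeries k, g PowerSeries.X = g' PowerSeries.X → g = g' := by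
    intro g g' h
    refine AlgHom.ext fun F => PowerSeries.ext fun n => ?_
    have hF := PowerSeries.eq_X_pow_mul_shift_add_trunc (n + 1) F
    have hval : ∀ (g₁ : PowerSeries k →ₐ[k] PowerSeries k),
        PowerSeries.coeff n (g₁ F) = PowerSeries.coeff n (Polynomial.aeval (g₁ PowerSeries.X) (PowerSeries.trunc (n + 1) F)) := by
      intro g₁
      conv_lhs => rw [hF, map_add, map_add, map_mul, map_pow]
      have hco : ∀ p : Polynomial k, g₁ (p : PowerSeries k) = Polynomial.aeval (g₁ PowerSeries.X) p := by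
        intro p
        have hp : (p : PowerSeries k) = Polynomial.coeToPowerSeries.algHom (R := k) k p := by simp
        rw [hp]
        have : g₁.comp (Polynomial.coeToPowerSeries.algHom (R := k) k) = Polynomial.aeval (g₁ PowerSeries.X) :=
          Polynomial.algHom_ext (by simp)
        exact AlgHom.congr_fun this p
      rw [hco]
      obtain ⟨w, hw⟩ := (PowerSeries.X_dvd_iff).2 (hX0 g₁)
      rw [hw, mul_pow, mul_assoc, PowerSeries.coeff_X_pow_mul', if_neg (by omega), zero_add]
    rw [hval g, hval g', h]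
  set ξ := PowerSeries.coeff 1 (σ PowerSeries.X) with hξ
  set s := σ PowerSeries.X with hs
  have hs0 : s.constantCoeff = 0 := hX0 σ.toAlgHom
  have hξ2 : ξ ^ 2 = 1 := by
    obtain ⟨w, hw⟩ := (PowerSeries.X_dvd_iff).2 hs0
    have h1 : w.constantCoeff = ξ := by
      rw [hξ, hw, PowerSeries.coeff_succ_X_mul, PowerSeries.coeff_zero_eq_constantCoeff]
    have h := hσ PowerSeries.X
    rw [← hs, hw, map_mul, ← hs, hw, mul_assoc] at h
    have h' := congrArg (PowerSeries.coeff 1) h
    rw [PowerSeries.coeff_succ_X_mul, PowerSeries.coeff_zero_eq_constantCoeff, map_mul, PowerSeries.coeff_one_X, h1] at h'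
    have h2' : (σ w).constantCoeff = ξ := by
      rw [← h1]
      have hwu : PowerSeries.X ∣ σ w - algebraMap k _ w.constantCoeff := by
        obtain ⟨v, hv⟩ : PowerSeries.X ∣ w - algebraMap k _ w.constantCoeff := by
          rw [PowerSeries.X_dvd_iff]; simp [PowerSeries.algebraMap_eq]
        have := congrArg σ hv
        rw [map_sub, AlgEquiv.commutes, map_mul] at this
        rw [this]
        exact ((PowerSeries.X_dvd_iff).2 hs0).mul_right _
      rw [PowerSeries.X_dvd_iff, map_sub, sub_eq_zero] at hwu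
      simpa [PowerSeries.algebraMap_eq] using hwu
    rw [h2'] at h'
    rw [pow_two, h']
  refine ⟨hξ2, ?_⟩
  set P := PowerSeries.C (2⁻¹ : k) * (PowerSeries.X + PowerSeries.C ξ * s) with hP
  have hP0 : P.constantCoeff = 0 := by simp [hP, hs0]
  have hP1 : PowerSeries.coeff 1 P = 1 := by
    rw [hP, PowerSeries.coeff_C_mul, map_add, PowerSeries.coeff_C_mul, PowerSeries.coeff_one_X, ← hξ, ← pow_two, hξ2]
    field_simp
    norm_num
  have hP1' : IsUnit (PowerSeries.coeff 1 P) := hP1 ▸ isUnit_one
  set Q := P.substInvOfIsUnit hP1'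
  have hPs : PowerSeries.HasSubst P := PowerSeries.HasSubst.of_constantCoeff_zero' hP0
  have hQs : PowerSeries.HasSubst Q := PowerSeries.HasSubst.substInvOfIsUnit P hP1'
  let φ₁ : PowerSeries k →ₐ[k] PowerSeries k := PowerSeries.substAlgHom hPs
  let φ₂ : PowerSeries k →ₐ[k] PowerSeries k := PowerSeries.substAlgHom hQs
  let φ : PowerSeries k ≃ₐ[k] PowerSeries k := AlgEquiv.ofAlgHom φ₁ φ₂
    (hext _ _ (by
      simp only [AlgHom.comp_apply, AlgHom.id_apply, φ₁, φ₂, PowerSeries.substAlgHom_X]
      rw [PowerSeries.coe_substAlgHom]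
      exact PowerSeries.subst_substInvOfIsUnit_left P hP0 hP1'))
    (hext _ _ (by
      simp only [AlgHom.comp_apply, AlgHom.id_apply, φ₁, φ₂, PowerSeries.substAlgHom_X]
      rw [PowerSeries.coe_substAlgHom]
      exact PowerSeries.subst_substInvOfIsUnit_right P hP0 hP1'))
  refine ⟨φ, PowerSeries.substAlgHom_X hPs, fun f => ?_⟩
  have hr : ∀ g, PowerSeries.rescaleAlgHom ξ g = PowerSeries.rescale ξ g := fun g => RingHom.congr_fun (PowerSeries.coe_rescaleAlgHom ξ) g
  have hφX : φ PowerSeries.X = P := PowerSeries.substAlgHom_X hPs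
  have hkey : σ.toAlgHom.comp φ.toAlgHom = φ.toAlgHom.comp (PowerSeries.rescaleAlgHom ξ) := by
    refine hext _ _ ?_
    change σ (φ PowerSeries.X) = φ (PowerSeries.rescaleAlgHom ξ PowerSeries.X)
    rw [hr, PowerSeries.rescale_X, map_mul, hφX]
    have hC : ∀ (g : PowerSeries k ≃ₐ[k] PowerSeries k) (a : k), g (PowerSeries.C a) = PowerSeries.C a := fun g a => by
      simpa [PowerSeries.algebraMap_eq] using g.commutes a
    rw [hC, hP, map_mul, map_add, map_mul, hC, hC, ← hs, hs, hσ]
    have : PowerSeries.C ξ * PowerSeries.C ξ = 1 := by rw [← map_mul, ← pow_two, hξ2, map_one]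
    linear_combination -(PowerSeries.C (2⁻¹ : k) * σ PowerSeries.X) * this
  have := AlgHom.congr_fun hkey f
  rw [AlgEquiv.symm_apply_eq, ← hr]
  exact this

end Groth.Agent.S14080
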