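import Groth.Statements.S4870
import Groth.Agent.FlatDescent.Trunc.Descent
import Mathlib

set_option autoImplicit false
universe u
open EGA43

namespace Groth.Agent.S4870

open TensorProduct Groth.FlatDescent Groth.FlatDescent.Trunc

/-- Extensions of flat modules are flat. -/
theorem flat_of_exact {A X Y Z : Type u} [CommRing A] [AddCommGroup X] [Module A X] [AddCommGroup Y] [Module A Y]
    [AddCommGroup Z] [Module A Z] (f : X →ₗ[A] Y) (g : Y →ₗ[A] Z) (hf : Function.Injective f)
    (hfg : Function.Exact f g) (hg : Function.Surjective g) [Module.Flat A X] [Module.Flat A Z] : Module.Flat A Y := by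
  rw [Module.Flat.iff_rTensor_injective']
  intro I
  rw [injective_iff_map_eq_zero]
  intro x hx
  have h1 : I.subtype.rTensor Z (g.lTensor I x) = 0 := by
    rw [← LinearMap.comp_apply, LinearMap.rTensor_comp_lTensor, ← LinearMap.lTensor_comp_rTensor, LinearMap.comp_apply,
      hx, map_zero]
  have h2 : g.lTensor I x = 0 :=
    Module.Flat.rTensor_preserves_injective_linearMap (M := Z) I.subtype Subtype.val_injective
      (h1.trans (map_zero _).symm)
  obtain ⟨y, rfl⟩ := (lTensor_exact I hfg hg x).mp h2
  rw [← LinearMap.comp_apply, LinearMap.rTensor_comp_lTensor, ← LinearMap.lTensor_comp_rTensor,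
    LinearMap.comp_apply] at hx
  have h3 : Function.Injective (f.lTensor A) := by
    intro a b hab
    refine (TensorProduct.lid A X).injective (hf ?_)
    have h := congrArg (TensorProduct.lid A Y) hab
    have key : ∀ z, TensorProduct.lid A Y (f.lTensor A z) = f (TensorProduct.lid A X z) := by
      intro z
      induction z with
      | zero => simp
      | tmul r v => simp
      | add u v hu hv => simp [hu, hv]
    rwa [key, key] at h
  rw [Module.Flat.rTensor_preserves_injective_linearMap (M := X) I.subtype Subtype.val_injective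
    ((h3 (hx.trans (map_zero _).symm)).trans (map_zero _).symm), map_zero]

/-- Let A be a commutative ring, B a finitely presented A-algebra, J a finitely generated ideal of B and
M a finitely presented B-module. If the associated graded module gr_J(M) is flat over A, that is
every J^k M / J^{k+1} M is a flat A-module, then M is flat over A at every point of V(J): for every
prime ideal q of B containing J, the localization M_q is a flat A-module. -/
theorem result {A B : Type u} [CommRing A] [CommRing B] [Algebra A B]
    [Algebra.FinitePresentation A B] (J : Ideal B) (hJ : J.FG)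
    (M : Type u) [AddCommGroup M] [Module B M] [Module A M] [IsScalarTower A B M] [Module.FinitePresentation B M]
    (hgr : ∀ k : ℕ, Module.Flat A
      (↥(J ^ k • (⊤ : Submodule B M)) ⧸ Submodule.comap (J ^ k • (⊤ : Submodule B M)).subtype (J ^ (k + 1) • ⊤)))
    (q : Ideal B) [q.IsPrime] (hq : J ≤ q) :
    Module.Flat A (LocalizedModule q.primeCompl M) := by
  obtain ⟨⟨n, m, π, hπ, N, f, hf, hsmul, hker, A₁, hA₁, J₁, N₁, hN₁, hJ₁, e⟩⟩ := exists_model (A₀ := A) J hJ M
  haveI : Algebra.FiniteType ℤ A₁ := ⟨A₁.fg_top.mpr hA₁⟩
  haveI : IsNoetherianRing A₁ := Algebra.FiniteType.isNoetherianRing ℤ A₁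
  obtain ⟨K, hK⟩ := exists_bound_good J₁ N₁
  have htrunc : ∀ k, Module.Flat A (M ⧸ (J ^ k • (⊤ : Submodule B M))) := by
    intro k
    induction k with
    | zero =>
      haveI : Subsingleton (M ⧸ (J ^ 0 • ⊤ : Submodule B M)) := Submodule.Quotient.subsingleton_iff.mpr (by simp)
      infer_instance
    | succ k ih =>
      haveI := hgr k
      let P' : Submodule B M := J ^ (k + 1) • ⊤
      let P₀ : Submodule B M := J ^ k • ⊤
      have hle : P' ≤ P₀ := Submodule.smul_mono_left (Ideal.pow_le_pow_right k.le_succ)
      let f₀ : (↥P₀ ⧸ Submodule.comap P₀.subtype P') →ₗ[B] M ⧸ P' := Submodule.mapQ _ _ P₀.subtype fun x hx => hx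
      let g₀ : (M ⧸ P') →ₗ[B] M ⧸ P₀ := Submodule.factor hle
      refine flat_of_exact (f₀.restrictScalars A) (g₀.restrictScalars A) ?_ ?_ (Submodule.factor_surjective hle)
      · show Function.Injective f₀
        rw [injective_iff_map_eq_zero]
        intro t ht
        obtain ⟨x, rfl⟩ := Submodule.Quotient.mk_surjective _ t
        refine (Submodule.Quotient.mk_eq_zero _).mpr ?_
        exact (Submodule.Quotient.mk_eq_zero P').mp ht
      · intro t
        obtain ⟨x, rfl⟩ := Submodule.Quotient.mk_surjective _ t
        constructor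
        · intro hx
          exact ⟨Submodule.Quotient.mk ⟨x, (Submodule.Quotient.mk_eq_zero _).mp hx⟩, rfl⟩
        · rintro ⟨u, hu⟩
          obtain ⟨y, rfl⟩ := Submodule.Quotient.mk_surjective _ u
          rw [← hu]
          exact (Submodule.Quotient.mk_eq_zero _).mpr y.2
  have hgood : ∀ k, Good J₁ N₁ A k := fun k => by
    haveI := htrunc k
    obtain ⟨ek⟩ := e k
    exact (Module.Flat.equiv_iff (ek.trans (Submodule.Quotient.restrictScalarsEquiv A _))).mpr inferInstance
  obtain ⟨-, S, hS, hSgood⟩ := hK A fun k _ => hgood k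
  haveI : Algebra.FiniteType A₁ S := ⟨S.fg_top.mpr hS⟩
  haveI : IsNoetherianRing S := Algebra.FiniteType.isNoetherianRing A₁ S
  let P := MvPolynomial (Fin n) A
  letI : Algebra P B := π.toRingHom.toAlgebra
  haveI : IsScalarTower A P B := IsScalarTower.of_algebraMap_eq fun r => (π.commutes r).symm
  let Q : Ideal P := q.comap (algebraMap P B)
  let JS := J₁.map (MvPolynomial.map (algebraMap A₁ S))
  have hcomp : (algebraMap S A).comp (algebraMap A₁ S) = algebraMap A₁ A := rfl
  have hJS : JS ≤ Q.comap (MvPolynomial.map (algebraMap S A)) := by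
    rw [← Ideal.map_le_iff_le_comap, Ideal.map_map,
      show (MvPolynomial.map (algebraMap S A)).comp (MvPolynomial.map (algebraMap A₁ S)) =
        MvPolynomial.map (σ := Fin n) (algebraMap A₁ A) from RingHom.ext fun p => MvPolynomial.map_map _ _ p,
      ← Ideal.map_le_iff_le_comap]
    exact hJ₁.le.trans hq
  have hflatS := flatAt_of_forall_flat JS (baseN (algebraMap A₁ S) N₁) (fun k => (good_iff J₁ N₁ k).mp (hSgood k))
    (Q.comap (MvPolynomial.map (algebraMap S A))) hJS
  have hflatA := flatAt_baseN (algebraMap S A) _ Q hflatS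
  rw [baseN_baseN, hcomp, hN₁] at hflatA
  letI : Module P M := Module.compHom M π.toRingHom
  haveI : IsScalarTower P B M := IsScalarTower.of_algebraMap_smul fun _ _ => rfl
  haveI : IsScalarTower A P M := IsScalarTower.of_algebraMap_smul fun r x => by
    show π (algebraMap A P r) • x = r • x
    rw [π.commutes, algebraMap_smul]
  let fP : (Fin m → P) →ₗ[P] M := { f with map_smul' := hsmul }
  let eM : ((Fin m → P) ⧸ N) ≃ₗ[P] M := (Submodule.quotEquivOfEq N (LinearMap.ker fP) (by
    ext x; exact (hker x).symm)).trans (fP.quotKerEquivOfSurjective hf)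
  exact (flatAt_comap_iff (P := P) hπ q).mp ((flatAt_congr eM Q).mp hflatA)

end Groth.Agent.S4870
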