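import Groth.Statements.S14085
import Groth.Agent.S4870
import Groth.Agent.DiagSmooth.TorBase
-- import your own Groth.Agent.* helpers here

set_option autoImplicit false
universe u
open FlatMor

namespace Groth.Agent.S14085

/-- Let R be a ring, A and B flat R-algebras, I an ideal of A and B → A/I an injective finite flat map
of R-algebras. Then the fibre product ring B ×_{A/I} A, realised as the subalgebra of B × A of pairs
with equal image in A/I, is flat over R. (This is the affine statement behind flatness over the base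
of the pushout of a closed immersion along a finite flat morphism.) -/
theorem result (R A B : Type u) [CommRing R] [CommRing A] [CommRing B]
    [Algebra R A] [Algebra R B] [Module.Flat R A] [Module.Flat R B] (I : Ideal A)
    [Algebra B (A ⧸ I)] [IsScalarTower R B (A ⧸ I)] [Module.Finite B (A ⧸ I)] [Module.Flat B (A ⧸ I)]
    (hinj : Function.Injective (algebraMap B (A ⧸ I))) :
    Module.Flat R ↥(AlgHom.equalizer ((IsScalarTower.toAlgHom R B (A ⧸ I)).comp (AlgHom.fst R B A))
          ((Ideal.Quotient.mkₐ R I).comp (AlgHom.snd R B A))) := by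
  classical
  haveI : Module.Flat R (A ⧸ I) := Module.Flat.trans R B (A ⧸ I)
  let q : A →ₗ[R] A ⧸ I := (Ideal.Quotient.mkₐ R I).toLinearMap
  have hq : Function.Surjective q := Ideal.Quotient.mk_surjective
  haveI : Module.Flat R (LinearMap.ker q) := Groth.Agent.DiagSmooth.flat_ker q hq
  let C := AlgHom.equalizer ((IsScalarTower.toAlgHom R B (A ⧸ I)).comp (AlgHom.fst R B A))
    ((Ideal.Quotient.mkₐ R I).comp (AlgHom.snd R B A))
  let f : LinearMap.ker q →ₗ[R] C :=
    { toFun := fun a => ⟨(0, a.1), by
        show algebraMap B (A ⧸ I) 0 = Ideal.Quotient.mk I a.1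
        rw [map_zero]; exact (LinearMap.mem_ker.1 a.2).symm⟩
      map_add' := fun a b => Subtype.ext (by simp)
      map_smul' := fun c a => Subtype.ext (by simp) }
  let g : C →ₗ[R] B := ((AlgHom.fst R B A).comp C.val).toLinearMap
  refine Groth.Agent.S4870.flat_of_exact f g ?_ ?_ ?_
  · intro a b h
    exact Subtype.ext (congrArg (fun z : C => z.1.2) h)
  · intro z
    constructor
    · intro hz
      have h1 : z.1.1 = 0 := hz
      have h2 : algebraMap B (A ⧸ I) z.1.1 = Ideal.Quotient.mk I z.1.2 := z.2
      rw [h1, map_zero] at h2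
      exact ⟨⟨z.1.2, LinearMap.mem_ker.2 h2.symm⟩, Subtype.ext (Prod.ext h1.symm rfl)⟩
    · rintro ⟨a, rfl⟩
      rfl
  · intro b
    obtain ⟨a, ha⟩ := Ideal.Quotient.mk_surjective (algebraMap B (A ⧸ I) b)
    exact ⟨⟨(b, a), ha.symm⟩, rfl⟩

end Groth.Agent.S14085
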