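import Groth.Statements.S14086
import Mathlib
-- import your own Groth.Agent.* helpers here

set_option autoImplicit false
universe u
open FlatMor

namespace Groth.Agent.S14086

open TensorProduct in
theorem ltensor_inj_aux {R : Type u} [CommRing R] {A B C F : Type u} [AddCommGroup F] [Module R F]
    [Module.Flat R F] [AddCommGroup A] [Module R A]
    [AddCommGroup B] [Module R B] [AddCommGroup C] [Module R C] [Module.Flat R C]
    {f : A →ₗ[R] B} {g : B →ₗ[R] C} (hf : Function.Injective f) (hfg : Function.Exact f g)
    (hg : Function.Surjective g) {N : Type u} [AddCommGroup N] [Module R N]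
    (q : F →ₗ[R] N) (hq : Function.Surjective q) :
    Function.Injective (f.lTensor N) := by
  let K := LinearMap.ker q
  rw [injective_iff_map_eq_zero]
  intro z hz
  obtain ⟨w, rfl⟩ := LinearMap.rTensor_surjective A hq z
  have hex0 : Function.Exact K.subtype q := LinearMap.exact_subtype_ker_map q
  have hex : ∀ (X : Type u) [AddCommGroup X] [Module R X],
      Function.Exact (K.subtype.rTensor X) (q.rTensor X) := by
    intro X _ _
    exact rTensor_exact X hex0 hq
  have h1 : q.rTensor B (f.lTensor F w) = 0 := by
    rw [← hz, ← LinearMap.comp_apply, ← LinearMap.comp_apply, LinearMap.rTensor_comp_lTensor,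
      LinearMap.lTensor_comp_rTensor]
  obtain ⟨k, hk⟩ := (hex B _).1 h1
  have h2 : g.lTensor K k = 0 := by
    apply (Module.Flat.rTensor_preserves_injective_linearMap (M := C) K.subtype K.injective_subtype)
    rw [map_zero, ← LinearMap.comp_apply, LinearMap.rTensor_comp_lTensor,
      ← LinearMap.lTensor_comp_rTensor, LinearMap.comp_apply, hk, ← LinearMap.lTensor_comp_apply,
      hfg.linearMap_comp_eq_zero, LinearMap.lTensor_zero, LinearMap.zero_apply]
  obtain ⟨a, ha⟩ := ((lTensor_exact K hfg hg) k).1 h2
  have h3 : w = K.subtype.rTensor A a := by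
    apply Module.Flat.lTensor_preserves_injective_linearMap (M := F) f hf
    rw [← hk, ← ha, ← LinearMap.comp_apply, ← LinearMap.comp_apply, LinearMap.rTensor_comp_lTensor,
      LinearMap.lTensor_comp_rTensor]
  rw [h3]
  exact (hex A).apply_apply_eq_zero a


open TensorProduct in
theorem inj_of_finite_flat {R B C R' : Type u} [CommRing R] [CommRing B] [CommRing C] [CommRing R'] [Algebra R B]
    [Algebra R C] [Algebra R R'] [Algebra B C] [IsScalarTower R B C] [Module.Finite B C] [Module.Flat B C]
    (hinj : Function.Injective (algebraMap B C)) :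
    Function.Injective ((IsScalarTower.toAlgHom R B C).toLinearMap.lTensor R') := by
  haveI : FaithfulSMul B C := (faithfulSMul_iff_algebraMap_injective B C).mpr hinj
  haveI : Module.FaithfullyFlat B C :=
    Module.FaithfullyFlat.of_comap_surjective (Algebra.IsIntegral.comap_surjective _ _)
  let e := TensorProduct.AlgebraTensorModule.cancelBaseChange R B B C R'
  have h1 : Function.Injective (fun y : B ⊗[R] R' => e ((TensorProduct.mk B C (B ⊗[R] R') 1) y)) :=
    e.injective.comp (Module.FaithfullyFlat.tensorProduct_mk_injective _)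
  have h2 : (fun x : R' ⊗[R] B => TensorProduct.comm R C R' (e ((TensorProduct.mk B C (B ⊗[R] R') 1)
      (TensorProduct.comm R R' B x)))) = (IsScalarTower.toAlgHom R B C).toLinearMap.lTensor R' := by
    funext x
    induction x with
    | zero => simp
    | add x y hx hy => simp only [map_add, hx, hy]
    | tmul r b => simp [e, Algebra.smul_def]
  rw [← h2]
  exact (TensorProduct.comm R C R').injective.comp (h1.comp (TensorProduct.comm R R' B).injective)

/-- Let R be a ring, A and B flat R-algebras, I an ideal of A, B → A/I an injective finite flat map of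
R-algebras and P = B ×_{A/I} A the fibre product ring (pairs in B × A with equal image in A/I). For
any R-algebra R' the base change R' ⊗_R P maps injectively to R' ⊗_R A, and any b' in R' ⊗_R B and
a' in R' ⊗_R A with the same image in R' ⊗_R (A/I) are the two components of some element of R' ⊗_R
P; that is, R' ⊗_R P is the fibre product of R' ⊗_R B and R' ⊗_R A over R' ⊗_R (A/I). -/
theorem result (R A B R' : Type u) [CommRing R] [CommRing A]
    [CommRing B] [CommRing R'] [Algebra R A] [Algebra R B] [Algebra R R'] [Module.Flat R A] [Module.Flat R B]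
    (I : Ideal A) [Algebra B (A ⧸ I)] [IsScalarTower R B (A ⧸ I)] [Module.Finite B (A ⧸ I)] [Module.Flat B (A ⧸ I)]
    (hinj : Function.Injective (algebraMap B (A ⧸ I))) :
    Function.Injective (Algebra.TensorProduct.map (AlgHom.id R' R')
        ((AlgHom.snd R B A).comp (AlgHom.equalizer ((IsScalarTower.toAlgHom R B (A ⧸ I)).comp (AlgHom.fst R B A))
          ((Ideal.Quotient.mkₐ R I).comp (AlgHom.snd R B A))).val)) ∧
    ∀ (b : TensorProduct R R' B) (a : TensorProduct R R' A),
      Algebra.TensorProduct.map (AlgHom.id R' R') (IsScalarTower.toAlgHom R B (A ⧸ I)) b =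
        Algebra.TensorProduct.map (AlgHom.id R' R') (Ideal.Quotient.mkₐ R I) a →
      ∃ x : TensorProduct R R' ↥(AlgHom.equalizer ((IsScalarTower.toAlgHom R B (A ⧸ I)).comp (AlgHom.fst R B A))
          ((Ideal.Quotient.mkₐ R I).comp (AlgHom.snd R B A))),
        Algebra.TensorProduct.map (AlgHom.id R' R') ((AlgHom.fst R B A).comp (AlgHom.equalizer ((IsScalarTower.toAlgHom R B (A ⧸ I)).comp (AlgHom.fst R B A))
          ((Ideal.Quotient.mkₐ R I).comp (AlgHom.snd R B A))).val) x = b ∧
        Algebra.TensorProduct.map (AlgHom.id R' R') ((AlgHom.snd R B A).comp (AlgHom.equalizer ((IsScalarTower.toAlgHom R B (A ⧸ I)).comp (AlgHom.fst R B A))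
          ((Ideal.Quotient.mkₐ R I).comp (AlgHom.snd R B A))).val) x = a := by
  haveI : Module.Flat R (A ⧸ I) := Module.Flat.trans R B (A ⧸ I)
  set f := IsScalarTower.toAlgHom R B (A ⧸ I) with hf
  set q := Ideal.Quotient.mkₐ R I with hq
  set P := AlgHom.equalizer (f.comp (AlgHom.fst R B A)) (q.comp (AlgHom.snd R B A)) with hP
  have hmap : ∀ {S T : Type u} [CommRing S] [CommRing T] [Algebra R S] [Algebra R T] (φ : S →ₐ[R] T)
      (x : TensorProduct R R' S),
      Algebra.TensorProduct.map (AlgHom.id R' R') φ x = φ.toLinearMap.lTensor R' x := by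
    intro S T _ _ _ _ φ x
    induction x with
    | zero => simp
    | add x y hx hy => simp only [map_add, hx, hy]
    | tmul r s => simp
  let d : B × A →ₗ[R] A ⧸ I :=
    f.toLinearMap ∘ₗ LinearMap.fst R B A - q.toLinearMap ∘ₗ LinearMap.snd R B A
  let ι : P →ₗ[R] B × A := P.val.toLinearMap
  have hex : Function.Exact ι d := by
    intro y
    constructor
    · intro h
      exact ⟨⟨y, (sub_eq_zero.mp h : f y.1 = q y.2)⟩, rfl⟩
    · rintro ⟨p, rfl⟩
      exact sub_eq_zero.mpr p.2
  have hd : Function.Surjective d := fun c => by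
    obtain ⟨a, rfl⟩ := Ideal.Quotient.mk_surjective c
    exact ⟨(0, -a), by simp [d, hq]⟩
  have hι : Function.Injective (ι.lTensor R') :=
    ltensor_inj_aux (F := R' →₀ R) (f := ι) (g := d) Subtype.val_injective hex hd
      (Finsupp.linearCombination R id) (fun n => ⟨Finsupp.single n 1, by simp⟩)
  have hfB := inj_of_finite_flat (R := R) (R' := R') hinj
  have hcross : ∀ x : TensorProduct R R' P, f.toLinearMap.lTensor R' ((LinearMap.fst R B A).lTensor R' (ι.lTensor R' x)) =
      q.toLinearMap.lTensor R' ((LinearMap.snd R B A).lTensor R' (ι.lTensor R' x)) := by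
    intro x
    simp only [← LinearMap.comp_apply, ← LinearMap.lTensor_comp]
    congr 2
    exact LinearMap.ext fun p => p.2
  have hsplit : ∀ y : TensorProduct R R' (B × A), (LinearMap.inl R B A).lTensor R' ((LinearMap.fst R B A).lTensor R' y) +
      (LinearMap.inr R B A).lTensor R' ((LinearMap.snd R B A).lTensor R' y) = y := by
    intro y
    induction y with
    | zero => simp
    | add x y hx hy => simp only [map_add]; rw [add_add_add_comm, hx, hy]
    | tmul r s => simp [← TensorProduct.tmul_add]
  constructor
  · rw [injective_iff_map_eq_zero]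
    intro x hx
    rw [hmap] at hx
    have h2 : (LinearMap.snd R B A).lTensor R' (ι.lTensor R' x) = 0 := by
      rw [← LinearMap.lTensor_comp_apply]; exact hx
    have h1 : (LinearMap.fst R B A).lTensor R' (ι.lTensor R' x) = 0 := by
      apply hfB
      rw [hcross, h2, map_zero, map_zero]
    apply hι
    rw [map_zero, ← hsplit (ι.lTensor R' x), h1, h2, map_zero, map_zero, add_zero]
  · intro b a hba
    rw [hmap, hmap] at hba
    let y := (LinearMap.inl R B A).lTensor R' b + (LinearMap.inr R B A).lTensor R' a
    have hdy : d.lTensor R' y = 0 := by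
      simp only [y, map_add, ← LinearMap.lTensor_comp_apply]
      have e1 : d ∘ₗ LinearMap.inl R B A = f.toLinearMap := by ext s; simp [d]
      have e2 : d ∘ₗ LinearMap.inr R B A = -q.toLinearMap := by ext s; simp [d]
      rw [e1, e2, LinearMap.lTensor_neg, LinearMap.neg_apply, hba, add_neg_cancel]
    obtain ⟨x, hx⟩ := ((lTensor_exact R' hex hd) y).mp hdy
    have e1 : LinearMap.fst R B A ∘ₗ LinearMap.inl R B A = LinearMap.id := by ext; rfl
    have e2 : LinearMap.fst R B A ∘ₗ LinearMap.inr R B A = 0 := by ext; rfl
    have e3 : LinearMap.snd R B A ∘ₗ LinearMap.inr R B A = LinearMap.id := by ext; rfl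
    have e4 : LinearMap.snd R B A ∘ₗ LinearMap.inl R B A = 0 := by ext; rfl
    refine ⟨x, ?_, ?_⟩
    · rw [hmap]
      change ((LinearMap.fst R B A) ∘ₗ ι).lTensor R' x = b
      rw [LinearMap.lTensor_comp_apply, hx]
      simp only [y, map_add, ← LinearMap.lTensor_comp_apply, e1, e2]
      simp
    · rw [hmap]
      change ((LinearMap.snd R B A) ∘ₗ ι).lTensor R' x = a
      rw [LinearMap.lTensor_comp_apply, hx]
      simp only [y, map_add, ← LinearMap.lTensor_comp_apply, e3, e4]
      simp

end Groth.Agent.S14086
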