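import Groth.Statements.S14087
import Mathlib
-- import your own Groth.Agent.* helpers here

set_option autoImplicit false
universe u
open ArSing

namespace Groth.Agent.S14087

open Polynomial in
theorem core {k : Type u} [Field k] (n : ℕ) (hn : 0 < n)
    (A : Subalgebra k (Polynomial k ⧸ Ideal.span {(X : Polynomial k) ^ n}))
    [Module.Flat A (Polynomial k ⧸ Ideal.span {(X : Polynomial k) ^ n})] :
    ∃ m : ℕ, Nonempty (A ≃ₐ[k] (Polynomial k ⧸ Ideal.span {(X : Polynomial k) ^ m})) := by
  classical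
  set B := Polynomial k ⧸ Ideal.span {(X : Polynomial k) ^ n} with hB
  set mk : Polynomial k →+* B := Ideal.Quotient.mk _ with hmk
  set x : B := mk X with hx
  have hxn : x ^ n = 0 := by
    rw [hx, ← map_pow, hmk, Ideal.Quotient.eq_zero_iff_mem]
    exact Ideal.mem_span_singleton_self _
  have hnt : Nontrivial B := Ideal.Quotient.nontrivial_iff.mpr (by
    rw [Ne, Ideal.span_singleton_eq_top, isUnit_pow_iff hn.ne']
    exact Polynomial.not_isUnit_X)
  have hsplit : ∀ b : B, ∃ κ : k, ∃ b' : B, b = algebraMap k B κ + x * b' := by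
    intro b
    obtain ⟨p, rfl⟩ := Ideal.Quotient.mk_surjective b
    refine ⟨p.coeff 0, mk p.divX, ?_⟩
    conv_lhs => rw [← X_mul_divX_add p]
    rw [map_add, map_mul, add_comm]
    rfl
  have hnil : ∀ b' : B, IsNilpotent (x * b') := fun b' => ⟨n, by rw [mul_pow, hxn, zero_mul]⟩
  have hdec : ∀ b : B, ∃ (j : ℕ) (u : B), IsUnit u ∧ b = x ^ j * u := by
    intro b
    obtain ⟨p, rfl⟩ := Ideal.Quotient.mk_surjective b
    by_cases hp : p = 0
    · exact ⟨n, 1, isUnit_one, by rw [hp, map_zero, hxn, zero_mul]⟩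
    obtain ⟨q, hq, hq'⟩ := exists_eq_pow_rootMultiplicity_mul_and_not_dvd p hp 0
    rw [map_zero, sub_zero] at hq hq'
    refine ⟨p.rootMultiplicity 0, mk q, ?_, ?_⟩
    · obtain ⟨κ, b', hb⟩ := hsplit (mk q)
      rw [hb]
      refine (hnil b').isUnit_add_left_of_commute ?_ (Commute.all _ _)
      refine (isUnit_iff_ne_zero.mpr fun h0 => hq' ?_).map (algebraMap k B)
      rw [X_dvd_iff]
      have h1 : mk q = x * b' := by rw [hb, h0, map_zero, zero_add]
      obtain ⟨r, hr⟩ := Ideal.Quotient.mk_surjective b'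
      rw [← hr, hx, ← map_mul, hmk, Ideal.Quotient.eq, Ideal.mem_span_singleton, X_pow_dvd_iff] at h1
      simpa using h1 0 hn
    · conv_lhs => rw [hq]
      rw [map_mul, map_pow]
  -- faithfully flat
  haveI : Module.FaithfullyFlat A B := by
    refine ⟨fun m hm h => ?_⟩
    rw [Ideal.smul_top_eq_map, Submodule.restrictScalars_eq_top_iff] at h
    have hle : m.map (algebraMap A B) ≤ nilradical B := by
      rw [Ideal.map_le_iff_le_comap]
      intro c hc
      rw [Ideal.mem_comap, mem_nilradical]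
      obtain ⟨κ, b', hb⟩ := hsplit (c : B)
      change IsNilpotent (c : B)
      by_cases hκ : κ = 0
      · rw [hb, hκ, map_zero, zero_add]
        exact hnil b'
      · exfalso
        have hd : IsNilpotent (c - algebraMap k A κ) := by
          obtain ⟨N, hN⟩ := hnil b'
          refine ⟨N, Subtype.ext ?_⟩
          push_cast
          rw [hb, add_sub_cancel_left, hN]
        have hu : IsUnit (algebraMap k A κ + (c - algebraMap k A κ)) :=
          hd.isUnit_add_left_of_commute ((isUnit_iff_ne_zero.mpr hκ).map _) (Commute.all _ _)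
        rw [add_sub_cancel] at hu
        exact hm.ne_top (Ideal.eq_top_of_isUnit_mem _ hc hu)
    have h1 : (1 : B) ∈ m.map (algebraMap A B) := (Ideal.eq_top_iff_one _).mp h
    exact not_isNilpotent_one (mem_nilradical.mp (hle h1))
  -- minimal order element of A
  have hP : ∃ j, ∃ a ∈ A, ∃ u : B, IsUnit u ∧ a = x ^ (j + 1) * u :=
    ⟨n - 1, 0, A.zero_mem, 1, isUnit_one, by rw [Nat.sub_add_cancel hn, hxn, zero_mul]⟩
  obtain ⟨a, haA, u, hu, hau⟩ := Nat.find_spec hP
  set a' : A := ⟨a, haA⟩ with ha'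
  have hgen : ∀ c : A, ∃ κ : k, ∃ c' : A, c = algebraMap k A κ + a' * c' := by
    intro c
    obtain ⟨κ, b', hb⟩ := hsplit (c : B)
    obtain ⟨j, v, hv, hb'⟩ := hdec b'
    let d : A := c - algebraMap k A κ
    have hd : (d : B) = x ^ (j + 1) * v := by
      simp only [d]
      push_cast
      rw [hb, add_sub_cancel_left, hb', pow_succ']
      ring
    have hle : Nat.find hP ≤ j := Nat.find_min' hP ⟨d, d.2, v, hv, hd⟩
    have hmem : d ∈ ((Ideal.span {a'} : Ideal A).map (algebraMap A B)).comap (algebraMap A B) := by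
      rw [Ideal.mem_comap, Ideal.map_span, Set.image_singleton, Ideal.mem_span_singleton]
      change a ∣ (d : B)
      rw [hd, hau, hu.mul_right_dvd]
      exact Dvd.dvd.mul_right (pow_dvd_pow x (by omega)) v
    rw [Ideal.comap_map_eq_self_of_faithfullyFlat, Ideal.mem_span_singleton'] at hmem
    obtain ⟨c', hc'⟩ := hmem
    exact ⟨κ, c', by rw [mul_comm, hc']; simp [d]⟩
  let φ : Polynomial k →ₐ[k] A := aeval a'
  have hiter : ∀ (N : ℕ) (c : A), ∃ p : Polynomial k, ∃ c' : A, c = φ p + a' ^ N * c' := by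
    intro N
    induction N with
    | zero => exact fun c => ⟨0, c, by simp⟩
    | succ N ih =>
      intro c
      obtain ⟨p, c', hc⟩ := ih c
      obtain ⟨κ, c'', hc'⟩ := hgen c'
      refine ⟨p + X ^ N * C κ, c'', ?_⟩
      rw [hc, hc']
      simp only [φ, map_add, map_mul, map_pow, aeval_X, aeval_C]
      ring
  have han : a' ^ n = 0 := by
    apply Subtype.ext
    push_cast
    change a ^ n = 0
    rw [hau, mul_pow, ← pow_mul, pow_mul', hxn, zero_pow (by omega), zero_mul]
  have hsurj : Function.Surjective φ := by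
    intro c
    obtain ⟨p, c', hc⟩ := hiter n c
    exact ⟨p, by rw [hc, han, zero_mul, add_zero]⟩
  obtain ⟨f, hf⟩ := (IsPrincipalIdealRing.principal (RingHom.ker φ)).principal
  have hXn : (X : Polynomial k) ^ n ∈ RingHom.ker φ := by
    rw [RingHom.mem_ker, map_pow, aeval_X, han]
  rw [hf, Ideal.mem_span_singleton] at hXn
  obtain ⟨m, _, hm⟩ := (dvd_prime_pow Polynomial.prime_X n).mp hXn
  refine ⟨m, ⟨(Ideal.quotientKerAlgEquivOfSurjective hsurj).symm.trans
    (Ideal.quotientEquivAlgOfEq k ?_)⟩⟩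
  rw [hf, Ideal.submodule_span_eq, Ideal.span_singleton_eq_span_singleton]
  exact hm

open Polynomial in
/-- Over an algebraically closed field k, if B = k[t]/(t^n) with n ≥ 1 is flat over a k-subalgebra A ⊆ B
(a finite flat extension of pointed finite algebras with curvilinear top), then A is curvilinear
too: A is isomorphic as a k-algebra to k[t]/(t^m) for some m. -/
theorem result (k : Type u) [Field k] [IsAlgClosed k]
    (n : ℕ) (hn : 0 < n)
    (A : Subalgebra k (Polynomial k ⧸ Ideal.span {(X : Polynomial k) ^ n}))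
    [Module.Flat A (Polynomial k ⧸ Ideal.span {(X : Polynomial k) ^ n})] :
    ∃ m : ℕ, Nonempty (A ≃ₐ[k] (Polynomial k ⧸ Ideal.span {(X : Polynomial k) ^ m})) := by
  exact core n hn A

end Groth.Agent.S14087
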