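import Groth.Statements.S14088
import Mathlib
-- import your own Groth.Agent.* helpers here

set_option autoImplicit false
universe u
open ArSing

namespace Groth.Agent.S14088

open Finset

variable {A : Type u} [CommRing A] (h τ : A)

/-- The coefficient `(-τ)^s (n choose s) m(m-1)…(m-s+1)`. -/
def coef (τ : A) (m n s : ℕ) : A := (-τ) ^ s * (n.choose s : A) * (m.descFactorial s : A)

theorem desc_succ (m s : ℕ) : ((m.descFactorial (s + 1) : ℕ) : A) = ((m : A) - s) * (m.descFactorial s : A) := by
  rw [Nat.descFactorial_succ, Nat.cast_mul]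
  rcases le_or_gt s m with hs | hs
  · rw [Nat.cast_sub hs]
  · rw [Nat.descFactorial_eq_zero_iff_lt.mpr hs]
    simp

theorem identity (m n : ℕ) :
    (∏ i ∈ range n, (h + (i : A) * τ)) * ∏ i ∈ range m, (h + (i : A) * τ) =
      ∑ s ∈ range (n + 1), coef τ m n s * ∏ i ∈ range (m + n - s), (h + (i : A) * τ) := by
  induction n with
  | zero => simp [coef]
  | succ n ih =>
    set P : ℕ → A := fun k => ∏ i ∈ range k, (h + (i : A) * τ) with hP
    have e : ∀ s ∈ range (n + 1), coef τ m n s * P (m + n - s) * (h + (n : A) * τ) =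
        coef τ m n s * P (m + (n + 1) - s) +
          coef τ m n s * (-τ) * ((m : A) - s) * P (m + (n + 1) - (s + 1)) := by
      intro s hs
      have hs' : s ≤ n := Nat.le_of_lt_succ (mem_range.mp hs)
      have h1 : P (m + (n + 1) - s) = P (m + n - s) * (h + ((m : A) + n - s) * τ) := by
        rw [show m + (n + 1) - s = (m + n - s) + 1 by omega, hP]
        simp only [prod_range_succ, Nat.cast_sub (show s ≤ m + n by omega), Nat.cast_add]
      rw [h1, show m + (n + 1) - (s + 1) = m + n - s by omega]
      ring
    have hL : (∏ i ∈ range (n + 1), (h + (i : A) * τ)) * P m =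
        ∑ s ∈ range (n + 1), coef τ m n s * P (m + (n + 1) - s) +
          ∑ s ∈ range (n + 1), coef τ m n s * (-τ) * ((m : A) - s) * P (m + (n + 1) - (s + 1)) := by
      rw [← sum_add_distrib, ← sum_congr rfl e, ← sum_mul, ← ih, prod_range_succ]
      ring
    rw [hL, sum_range_succ' (fun s => coef τ m (n + 1) s * P (m + (n + 1) - s)) (n + 1)]
    have hstep : ∀ s, coef τ m (n + 1) (s + 1) =
        coef τ m n (s + 1) + coef τ m n s * (-τ) * ((m : A) - s) := by
      intro s
      simp only [coef, Nat.choose_succ_succ, Nat.cast_add, desc_succ, pow_succ]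
      ring
    simp only [hstep, add_mul, sum_add_distrib]
    rw [sum_range_succ' (fun s => coef τ m n s * P (m + (n + 1) - s)) n,
      sum_range_succ (fun s => coef τ m n (s + 1) * P (m + (n + 1) - (s + 1))) n]
    simp [coef]
    ring


/-- The identity behind the torus-equivariant classes h_i = h_0 + i τ of the coordinate hyperplanes of a
projective space of binary forms, stated in an arbitrary commutative ring: for n ≤ m, (h_0 ⋯
h_(n-1))^2 · h_n ⋯ h_(m-1) equals the sum over s = 0, …, n of (-1)^s s! (n choose s) (m choose s)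
τ^s h_0 ⋯ h_(m+n-s-1), where h_i = h + i τ. (The published statement is in the equivariant Chow ring
of that projective space; only the relations h_i = h_j + (j - i) τ are used, so it holds in any
commutative ring.) -/
theorem result (A : Type u) [CommRing A] (h τ : A) (n m : ℕ) (hnm : n ≤ m) :
    (∏ i ∈ Finset.range n, (h + (i : A) * τ) ^ 2) * ∏ i ∈ Finset.Ico n m, (h + (i : A) * τ) =
      ∑ s ∈ Finset.range (n + 1), (-1 : A) ^ s * (Nat.factorial s : A) * (Nat.choose n s : A) *
        (Nat.choose m s : A) * τ ^ s * ∏ i ∈ Finset.range (m + n - s), (h + (i : A) * τ) := by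
  have e : (∏ i ∈ Finset.range n, (h + (i : A) * τ) ^ 2) * ∏ i ∈ Finset.Ico n m, (h + (i : A) * τ) =
      (∏ i ∈ Finset.range n, (h + (i : A) * τ)) * ∏ i ∈ Finset.range m, (h + (i : A) * τ) := by
    rw [← Finset.prod_range_mul_prod_Ico (fun i => h + (i : A) * τ) hnm, Finset.prod_pow]
    ring
  rw [e, identity h τ m n]
  refine Finset.sum_congr rfl fun s _ => ?_
  rw [coef, Nat.descFactorial_eq_factorial_mul_choose, neg_pow, Nat.cast_mul]
  ring

end Groth.Agent.S14088
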