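import Groth.Statements.S14091
import Mathlib
-- import your own Groth.Agent.* helpers here

set_option autoImplicit false
universe u
open ArSing

namespace Groth.Agent.S14091

open Polynomial in
/-- Over an algebraically closed field k, a finite local k-algebra B whose cotangent space m/m^2 has
dimension at most one over the residue field is isomorphic, as a k-algebra, to k[t]/(t^n) with n =
dim_k B (curvilinear pointed algebras of degree n have a single isomorphism class). -/
theorem result (k B : Type u) [Field k] [IsAlgClosed k]
    [CommRing B] [IsLocalRing B] [Algebra k B] [Module.Finite k B]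
    (hcurv : Module.finrank (IsLocalRing.ResidueField B) (IsLocalRing.CotangentSpace B) ≤ 1) :
    Nonempty (B ≃ₐ[k] (Polynomial k ⧸ Ideal.span {(X : Polynomial k) ^ Module.finrank k B})) := by
  classical
  have : IsArtinianRing B := IsArtinianRing.of_finite k B
  have hres : Function.Bijective (algebraMap k (IsLocalRing.ResidueField B)) :=
    IsAlgClosed.algebraMap_bijective_of_isIntegral
  obtain ⟨t, ht⟩ := (IsLocalRing.finrank_cotangentSpace_le_one_iff.mp hcurv).principal
  change IsLocalRing.maximalIdeal B = Ideal.span {t} at ht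
  obtain ⟨N, hN⟩ : IsNilpotent t := by
    have h1 : t ∈ IsLocalRing.maximalIdeal B := by rw [ht]; exact Ideal.mem_span_singleton_self t
    obtain ⟨N, hN⟩ := IsArtinianRing.isNilpotent_jacobson_bot (R := B)
    refine ⟨N, ?_⟩
    have h2 := Ideal.pow_mem_pow h1 N
    rw [← IsLocalRing.jacobson_eq_maximalIdeal (⊥ : Ideal B) bot_ne_top, hN] at h2
    exact h2
  let φ : Polynomial k →ₐ[k] B := Polynomial.aeval t
  have hsurj : Function.Surjective φ := by
    have key : ∀ j, ∀ b : B, ∃ (P : Polynomial k) (c : B), b = φ P + t ^ j * c := by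
      intro j
      induction j with
      | zero => exact fun b => ⟨0, b, by simp⟩
      | succ j ih =>
        intro b
        obtain ⟨P, c, rfl⟩ := ih b
        obtain ⟨a, ha⟩ := hres.2 (IsLocalRing.residue B c)
        have hmem : c - algebraMap k B a ∈ IsLocalRing.maximalIdeal B := by
          rw [← IsLocalRing.residue_eq_zero_iff, map_sub, sub_eq_zero, ← ha]
          rfl
        rw [ht] at hmem
        obtain ⟨c', hc'⟩ := Ideal.mem_span_singleton.mp hmem
        refine ⟨P + Polynomial.C a * Polynomial.X ^ j, c', ?_⟩
        rw [sub_eq_iff_eq_add] at hc'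
        simp [φ, hc']
        ring
    intro b
    obtain ⟨P, c, h⟩ := key N b
    exact ⟨P, by rw [h, hN, zero_mul, add_zero]⟩
  obtain ⟨g, hg⟩ := (IsPrincipalIdealRing.principal (RingHom.ker φ)).principal
  change RingHom.ker φ = Ideal.span {g} at hg
  have hdvd : g ∣ Polynomial.X ^ N := by
    rw [← Ideal.mem_span_singleton, ← hg, RingHom.mem_ker]
    simp [φ, hN]
  obtain ⟨d, -, hd⟩ := (dvd_prime_pow Polynomial.prime_X N).mp hdvd
  have hker : RingHom.ker φ = Ideal.span {(Polynomial.X : Polynomial k) ^ d} :=
    hg.trans (Ideal.span_singleton_eq_span_singleton.mpr hd)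
  let e := (Ideal.quotientKerAlgEquivOfSurjective hsurj).symm.trans (Ideal.quotientEquivAlgOfEq k hker)
  have hn : Module.finrank k B = d := by
    rw [e.toLinearEquiv.finrank_eq, finrank_quotient_span_eq_natDegree, Polynomial.natDegree_X_pow]
  rw [hn]
  exact ⟨e⟩

end Groth.Agent.S14091
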