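import Groth.Statements.S16230
import Mathlib
import Groth.Agent.PowerSeriesAut.Basic
-- import your own Groth.Agent.* helpers here

set_option autoImplicit false
universe u
open VanCyc

namespace Groth.Agent.S16230

/-- Vanishing of all coefficients of degree `< d`. -/
def V {k : Type u} [CommRing k] {n : ℕ} (d : ℕ) (g : MvPowerSeries (Fin n) k) : Prop :=
  ∀ m : Fin n →₀ ℕ, m.degree < d → MvPowerSeries.coeff m g = 0

section
variable {k : Type u} [CommRing k] {n : ℕ}

lemma V_iff {d : ℕ} {g : MvPowerSeries (Fin n) k} : V d g ↔ (d : ℕ∞) ≤ g.order :=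
  ⟨fun h => MvPowerSeries.nat_le_order h,
    fun h m hm => MvPowerSeries.coeff_of_lt_order (lt_of_lt_of_le (by exact_mod_cast hm) h)⟩

lemma V.mono {d e : ℕ} {g : MvPowerSeries (Fin n) k} (h : e ≤ d) (hg : V d g) : V e g :=
  fun m hm => hg m (hm.trans_le h)

lemma V.sub {d : ℕ} {g g' : MvPowerSeries (Fin n) k} (hg : V d g) (hg' : V d g') : V d (g - g') :=
  fun m hm => by rw [map_sub, hg m hm, hg' m hm, sub_self]

lemma V.add {d : ℕ} {g g' : MvPowerSeries (Fin n) k} (hg : V d g) (hg' : V d g') : V d (g + g') :=
  fun m hm => by rw [map_add, hg m hm, hg' m hm, add_zero]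

lemma V_sum {ι : Type*} {d : ℕ} {s : Finset ι} {g : ι → MvPowerSeries (Fin n) k}
    (hg : ∀ i ∈ s, V d (g i)) : V d (∑ i ∈ s, g i) :=
  fun m hm => by rw [map_sum]; exact Finset.sum_eq_zero fun i hi => hg i hi m hm

lemma V.mul {d e : ℕ} {g g' : MvPowerSeries (Fin n) k} (hg : V d g) (hg' : V e g') :
    V (d + e) (g * g') := by
  rw [V_iff] at *
  push_cast
  exact le_trans (add_le_add hg hg') MvPowerSeries.le_order_mul

lemma V.left {d : ℕ} {g : MvPowerSeries (Fin n) k} (g' : MvPowerSeries (Fin n) k) (hg : V d g) :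
    V d (g' * g) := by
  simpa using (show V 0 g' from fun m hm => absurd hm (by simp)).mul hg

lemma V_X (i : Fin n) : V 1 (MvPowerSeries.X i : MvPowerSeries (Fin n) k) := by
  intro m hm
  rw [show m = 0 from (Finsupp.degree_eq_zero_iff m).mp (by omega)]
  simp

/-- The coefficient shift splitting off the first variable. -/
noncomputable def tau (l : Fin n) (g : MvPowerSeries (Fin n) k) : MvPowerSeries (Fin n) k :=
  fun m => if ∀ j, j < l → m j = 0 then MvPowerSeries.coeff (m + Finsupp.single l 1) g else 0

lemma coeff_tau (l : Fin n) (g : MvPowerSeries (Fin n) k) (m : Fin n →₀ ℕ) :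
    MvPowerSeries.coeff m (tau l g) =
      if ∀ j, j < l → m j = 0 then MvPowerSeries.coeff (m + Finsupp.single l 1) g else 0 := rfl

lemma tau_sub (l : Fin n) (g g' : MvPowerSeries (Fin n) k) :
    tau l (g - g') = tau l g - tau l g' := by
  ext m
  simp only [map_sub, coeff_tau]
  split <;> simp

lemma V.tau {d : ℕ} (l : Fin n) {g : MvPowerSeries (Fin n) k} (hg : V (d + 1) g) :
    V d (tau l g) := by
  intro m hm
  rw [coeff_tau]
  split
  · refine hg _ ?_
    rw [map_add, Finsupp.degree_single]; omega
  · rfl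

lemma sum_tau {g : MvPowerSeries (Fin n) k} (hg : V 1 g) :
    ∑ l, MvPowerSeries.X l * tau l g = g := by
  classical
  ext m
  rw [map_sum]
  by_cases hm : m = 0
  · subst hm
    rw [hg 0 (by simp)]
    refine Finset.sum_eq_zero fun l _ => ?_
    simp
  · have hne : m.support.Nonempty := Finsupp.support_nonempty_iff.mpr hm
    set a := m.support.min' hne with ha
    have hma : m a ≠ 0 := Finsupp.mem_support_iff.mp (Finset.min'_mem _ hne)
    have hlt : ∀ j, j < a → m j = 0 := fun j hj => by
      by_contra h
      exact absurd (Finset.min'_le _ j (Finsupp.mem_support_iff.mpr h)) (not_le.mpr hj)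
    rw [Finset.sum_eq_single a]
    · rw [MvPowerSeries.X, MvPowerSeries.coeff_monomial_mul, if_pos (by
        intro j; simp only [Finsupp.single_apply]; split <;> [(subst_vars; omega); simp])]
      rw [coeff_tau, if_pos, one_mul, tsub_add_cancel_of_le]
      · intro j; simp only [Finsupp.single_apply]; split <;> [(subst_vars; omega); simp]
      · intro j hj
        simp [Finsupp.tsub_apply, hlt j hj]
    · intro l _ hla
      rw [MvPowerSeries.X, MvPowerSeries.coeff_monomial_mul]
      split
      · next hl =>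
        rw [coeff_tau, if_neg, mul_zero]
        intro h
        have hl1 : 1 ≤ m l := by simpa using hl l
        rcases lt_or_gt_of_ne hla with h' | h'
        · have := hlt l h'; omega
        · have := h a h'
          simp [Finsupp.tsub_apply, Finsupp.single_apply, hla] at this
          exact hma this
      · rfl
    · simp

/-- A quadratic form evaluated on a tuple of series. -/
noncomputable def Q (c : Fin n → Fin n → k) (u : Fin n → MvPowerSeries (Fin n) k) :
    MvPowerSeries (Fin n) k :=
  ∑ a, ∑ b, MvPowerSeries.C (c a b) * (u a * u b)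

lemma V_Q_sub (c : Fin n → Fin n → k) {d e : ℕ} {u v : Fin n → MvPowerSeries (Fin n) k}
    (hu : ∀ i, V e (u i)) (hv : ∀ i, V e (v i)) (h : ∀ i, V d (u i - v i)) :
    V (d + e) (Q c u - Q c v) := by
  simp only [Q, ← Finset.sum_sub_distrib, ← mul_sub]
  refine V_sum fun a _ => V_sum fun b _ => V.left _ ?_
  rw [show u a * u b - v a * v b = (u a - v a) * u b + (u b - v b) * v a by ring]
  exact ((h a).mul (hu b)).add ((h b).mul (hv a))

/-- `x` and `y` are of order `≥ e` and agree to order `e + D`. -/
def Close (D e : ℕ) (x y : MvPowerSeries (Fin n) k) : Prop := V e x ∧ V e y ∧ V (e + D) (x - y)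

lemma Close.mul {D e e' : ℕ} {x y x' y' : MvPowerSeries (Fin n) k} (h : Close D e x y)
    (h' : Close D e' x' y') : Close D (e + e') (x * x') (y * y') := by
  refine ⟨h.1.mul h'.1, h.2.1.mul h'.2.1, ?_⟩
  rw [show x * x' - y * y' = (x - y) * x' + y * (x' - y') by ring]
  exact ((h.2.2.mul h'.1).mono (by omega)).add ((h.2.1.mul h'.2.2).mono (by omega))

lemma Close.one {D : ℕ} : Close D 0 (1 : MvPowerSeries (Fin n) k) 1 :=
  ⟨fun m hm => absurd hm (by simp), fun m hm => absurd hm (by simp), fun m _ => by simp⟩

lemma Close.pow {D e : ℕ} {x y : MvPowerSeries (Fin n) k} (h : Close D e x y) :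
    ∀ j, Close D (j * e) (x ^ j) (y ^ j)
  | 0 => by simpa using Close.one
  | j + 1 => by simpa [pow_succ, add_mul] using (Close.pow h j).mul h

lemma Close.prod {D : ℕ} {ι : Type*} (s : Finset ι) (e : ι → ℕ)
    (x y : ι → MvPowerSeries (Fin n) k) (h : ∀ i ∈ s, Close D (e i) (x i) (y i)) :
    Close D (∑ i ∈ s, e i) (∏ i ∈ s, x i) (∏ i ∈ s, y i) := by
  classical
  induction s using Finset.induction with
  | empty => simpa using Close.one
  | insert i s hi ih =>
    rw [Finset.sum_insert hi, Finset.prod_insert hi, Finset.prod_insert hi]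
    exact (h i (Finset.mem_insert_self i s)).mul
      (ih fun j hj => h j (Finset.mem_insert_of_mem hj))

lemma hasSubst_add {u : Fin n → MvPowerSeries (Fin n) k} (hu : ∀ i, V 1 (u i)) :
    MvPowerSeries.HasSubst (fun i => MvPowerSeries.X i + u i) :=
  MvPowerSeries.hasSubst_of_constantCoeff_zero fun i => by
    rw [map_add, MvPowerSeries.constantCoeff_X, zero_add,
      ← MvPowerSeries.coeff_zero_eq_constantCoeff_apply]
    exact hu i 0 (by simp)

lemma V_subst_sub {G : MvPowerSeries (Fin n) k} {g D : ℕ} (hG : V g G)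
    {u v : Fin n → MvPowerSeries (Fin n) k} (hu : ∀ i, V 1 (u i)) (hv : ∀ i, V 1 (v i))
    (h : ∀ i, V (1 + D) (u i - v i)) :
    V (g + D) (MvPowerSeries.subst (fun i => MvPowerSeries.X i + u i) G -
      MvPowerSeries.subst (fun i => MvPowerSeries.X i + v i) G) := by
  intro e he
  rw [map_sub, MvPowerSeries.coeff_subst (hasSubst_add hu), MvPowerSeries.coeff_subst (hasSubst_add hv),
    sub_eq_zero]
  refine finsum_congr fun a => ?_
  by_cases ha : a.degree < g
  · rw [hG a ha, zero_smul, zero_smul]
  congr 1
  have hC : Close D (∑ i ∈ a.support, a i * 1) (a.prod fun s j => (MvPowerSeries.X s + u s) ^ j)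
      (a.prod fun s j => (MvPowerSeries.X s + v s) ^ j) :=
    Close.prod a.support (fun i => a i * 1) _ _ fun i _ => Close.pow
      ⟨(V_X i).add (hu i), (V_X i).add (hv i), by rw [add_sub_add_left_eq_sub]; exact h i⟩ (a i)
  rw [← sub_eq_zero, ← map_sub]
  refine hC.2.2 e ?_
  simp only [mul_one]
  rw [← Finsupp.degree_apply]
  omega

lemma V_subst {G : MvPowerSeries (Fin n) k} {g : ℕ} (hG : V g G)
    {u : Fin n → MvPowerSeries (Fin n) k} (hu : ∀ i, V 1 (u i)) :
    V g (MvPowerSeries.subst (fun i => MvPowerSeries.X i + u i) G) := by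
  intro e he
  rw [MvPowerSeries.coeff_subst (hasSubst_add hu)]
  refine finsum_eq_zero_of_forall_eq_zero fun a => ?_
  by_cases ha : a.degree < g
  · rw [hG a ha, zero_smul]
  have hC : Close 0 (∑ i ∈ a.support, a i * 1) (a.prod fun s j => (MvPowerSeries.X s + u s) ^ j)
      (a.prod fun s j => (MvPowerSeries.X s + u s) ^ j) :=
    Close.prod a.support (fun i => a i * 1) _ _ fun i _ => Close.pow
      ⟨(V_X i).add (hu i), (V_X i).add (hu i), fun m _ => by simp⟩ (a i)
  rw [hC.1 e (by simp only [mul_one]; rw [← Finsupp.degree_apply]; omega), smul_zero]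

/-- Successive approximations of a fixed point. -/
noncomputable def approx
    (Φ : (Fin n → MvPowerSeries (Fin n) k) → Fin n → MvPowerSeries (Fin n) k) :
    ℕ → Fin n → MvPowerSeries (Fin n) k
  | 0 => 0
  | N + 1 => Φ (approx Φ N)

lemma exists_fixedPoint (m : ℕ)
    (Φ : (Fin n → MvPowerSeries (Fin n) k) → Fin n → MvPowerSeries (Fin n) k)
    (h1 : ∀ u, (∀ i, V m (u i)) → ∀ i, V m (Φ u i))
    (h2 : ∀ d u v, m ≤ d → (∀ i, V m (u i)) → (∀ i, V m (v i)) → (∀ i, V d (u i - v i)) →
      ∀ i, V (d + 1) (Φ u i - Φ v i)) :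
    ∃ ε : Fin n → MvPowerSeries (Fin n) k, (∀ i, V m (ε i)) ∧ Φ ε = ε := by
  set e := approx Φ with he
  have em : ∀ N i, V m (e N i) := by
    intro N
    induction N with
    | zero => intro i a _; simp [e, approx]
    | succ N ih => exact h1 _ ih
  have hd : ∀ N i, V (N + m) (e (N + 1) i - e N i) := by
    intro N
    induction N with
    | zero => intro i; simpa using (em 1 i).sub (em 0 i)
    | succ N ih =>
      intro i
      exact (h2 (N + m) _ _ (by omega) (em (N + 1)) (em N) ih i).mono (by omega)
  have hst : ∀ (a : Fin n →₀ ℕ) (N : ℕ), a.degree + 1 ≤ N → ∀ i,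
      MvPowerSeries.coeff a (e N i) = MvPowerSeries.coeff a (e (a.degree + 1) i) := by
    intro a N hN i
    induction N, hN using Nat.le_induction with
    | base => rfl
    | succ N hN ih =>
      rw [← ih, ← sub_eq_zero, ← map_sub]
      exact hd N i a (by omega)
  let ε : Fin n → MvPowerSeries (Fin n) k :=
    fun i a => MvPowerSeries.coeff a (e (a.degree + 1) i)
  have hε : ∀ N i, V N (ε i - e N i) := by
    intro N i a ha
    rw [map_sub, hst a N (by omega) i]
    exact sub_self _
  have hεm : ∀ i, V m (ε i) := fun i => by simpa using (hε m i).add (em m i)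
  refine ⟨ε, hεm, funext fun i => ?_⟩
  ext a
  have h3 := h2 (a.degree + m) ε (e (a.degree + m)) (by omega) hεm (em _) (hε _) i a (by omega)
  have h4 := hε (a.degree + m + 1) i a (by omega)
  rw [map_sub, sub_eq_zero] at h3 h4
  rw [h3, h4]
  rfl

end


/-- Let A be a local ring, n and m natural numbers with 2 ≤ m, q an n × n coefficient table over A whose
quadratic form Q(x) = Σ_{i≤j} q_ij x_i x_j is non-degenerate (the polar bilinear form has unit Gram
determinant, i.e. is a perfect pairing — the reading of non-degeneracy over the local ring A used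
here), a an element of A, and F a formal power series in x_1, …, x_n over A all of whose
coefficients in total degree at most m agree with those of Q + a. Then there are power series h_1,
…, h_n with no terms of total degree less than m such that substituting x_i + h_i for x_i in F gives
exactly Q + a; consequently A[[x]]/(F) and A[[x]]/(Q + a) are isomorphic as A-algebras. -/
theorem result
    (A : Type u) [CommRing A] [IsLocalRing A] (n m : ℕ) (hm : 2 ≤ m)
    (q : Fin n → Fin n → A) (hq : VanCyc.QuadNondeg q) (a : A)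
    (F : MvPowerSeries (Fin n) A)
    (hF : ∀ e : Fin n →₀ ℕ, e.degree ≤ m →
      MvPowerSeries.coeff e F = MvPowerSeries.coeff e ((VanCyc.quadPoly q + MvPolynomial.C a : MvPolynomial (Fin n) A) : MvPowerSeries (Fin n) A)) :
    ∃ h : Fin n → MvPowerSeries (Fin n) A,
      (∀ (i : Fin n) (e : Fin n →₀ ℕ), e.degree < m → MvPowerSeries.coeff e (h i) = 0) ∧
      MvPowerSeries.HasSubst (fun i => MvPowerSeries.X i + h i) ∧
      MvPowerSeries.subst (fun i => MvPowerSeries.X i + h i) F = ((VanCyc.quadPoly q + MvPolynomial.C a : MvPolynomial (Fin n) A) : MvPowerSeries (Fin n) A) ∧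
      Nonempty ((MvPowerSeries (Fin n) A ⧸ Ideal.span {F}) ≃ₐ[A]
        (MvPowerSeries (Fin n) A ⧸ Ideal.span {((VanCyc.quadPoly q + MvPolynomial.C a : MvPolynomial (Fin n) A) : MvPowerSeries (Fin n) A)})) := by
  classical
  set c : Fin n → Fin n → A := fun i j => if i ≤ j then q i j else 0 with hc
  have haev : ∀ u : Fin n → MvPowerSeries (Fin n) A, MvPolynomial.aeval u (VanCyc.quadPoly q) = Q c u := fun u => by
    simp only [VanCyc.quadPoly, Q, map_sum, hc]
    refine Finset.sum_congr rfl fun i _ => Finset.sum_congr rfl fun j _ => ?_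
    split_ifs <;> simp [MvPowerSeries.algebraMap_apply, mul_assoc]
  have hH : ∀ i j, VanCyc.polarMatrix q i j = c i j + c j i := by
    intro i j
    simp only [VanCyc.polarMatrix, hc]
    rcases lt_trichotomy i j with h | rfl | h
    · simp [h.ne, h, h.le, not_le.mpr h]
    · simp [two_mul]
    · simp [h.ne', not_lt.mpr h.le, h.le, not_le.mpr h]
  set L : Fin n → MvPowerSeries (Fin n) A :=
    fun i => ∑ j, MvPowerSeries.C (c i j + c j i) * MvPowerSeries.X j with hL
  obtain ⟨P', hP'⟩ := ((Matrix.isUnit_iff_isUnit_det _).mpr hq).exists_left_inv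
  have hgen : ∀ l, MvPowerSeries.X l = ∑ i, MvPowerSeries.C (P' l i) * L i := by
    intro l
    simp only [hL, Finset.mul_sum, ← mul_assoc, ← map_mul]
    rw [Finset.sum_comm]
    simp only [← Finset.sum_mul, ← map_sum]
    have : ∀ j, (∑ i, P' l i * (c i j + c j i)) = if l = j then 1 else 0 := fun j => by
      simp only [← hH]
      rw [← Matrix.mul_apply, hP', Matrix.one_apply]
    simp [this, apply_ite, ite_mul]
  let S : Fin n → MvPowerSeries (Fin n) A → MvPowerSeries (Fin n) A :=
    fun i g => ∑ l, MvPowerSeries.C (P' l i) * tau l g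
  have hSsub : ∀ i g g', S i (g - g') = S i g - S i g' :=
    fun i g g' => by simp only [S, tau_sub, mul_sub, Finset.sum_sub_distrib]
  have hS : ∀ i d g, V (d + 1) g → V d (S i g) :=
    fun i d g hg => V_sum fun l _ => V.left _ (V.tau l hg)
  have hsplit : ∀ g, V 1 g → ∑ i, L i * S i g = g := by
    intro g hg
    conv_rhs => rw [← sum_tau hg]
    simp only [S, Finset.mul_sum]
    rw [Finset.sum_comm]
    refine Finset.sum_congr rfl fun l _ => ?_
    rw [hgen l, Finset.sum_mul]
    exact Finset.sum_congr rfl fun i _ => by ring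
  set T : MvPowerSeries (Fin n) A :=
    ((VanCyc.quadPoly q + MvPolynomial.C a : MvPolynomial (Fin n) A) : MvPowerSeries (Fin n) A) with hT
  set G := F - T with hG
  have hGv : V (m + 1) G := fun e he => by
    rw [hG, map_sub, hF e (by omega), hT, sub_self]
  let Φ : (Fin n → MvPowerSeries (Fin n) A) → Fin n → MvPowerSeries (Fin n) A := fun u i =>
    S i (-Q c u - MvPowerSeries.subst (fun i => MvPowerSeries.X i + u i) G)
  have hR : ∀ u, (∀ i, V m (u i)) →
      V (m + 1) (-Q c u - MvPowerSeries.subst (fun i => MvPowerSeries.X i + u i) G) := by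
    intro u hu
    refine V.sub ?_ (V_subst hGv fun i => (hu i).mono (by omega))
    have hQ : V (m + 1) (Q c u) := V_sum fun i _ => V_sum fun j _ =>
      V.left _ (((hu i).mul (hu j)).mono (show m + 1 ≤ m + m by omega))
    intro e he
    rw [map_neg, hQ e he, neg_zero]
  obtain ⟨ε, hεm, hε⟩ := exists_fixedPoint m Φ (fun u hu i => hS i m _ (hR u hu))
    (fun d u v hd hu hv h i => by
      show V (d + 1) (S i _ - S i _)
      rw [← hSsub]
      refine hS i _ _ ?_
      rw [show -Q c u - MvPowerSeries.subst (fun i => MvPowerSeries.X i + u i) G -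
        (-Q c v - MvPowerSeries.subst (fun i => MvPowerSeries.X i + v i) G) =
        (Q c v - Q c u) + (MvPowerSeries.subst (fun i => MvPowerSeries.X i + v i) G -
          MvPowerSeries.subst (fun i => MvPowerSeries.X i + u i) G) by ring]
      have h' : ∀ i, V d (v i - u i) := fun i e he => by
        rw [← neg_sub, map_neg, h i e he, neg_zero]
      exact ((V_Q_sub c hv hu h').mono (by omega)).add
        ((V_subst_sub (D := d - 1) hGv (fun i => (hv i).mono (by omega))
          (fun i => (hu i).mono (by omega)) (fun i => (h' i).mono (by omega))).mono (by omega)))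
  have hε1 : ∀ i, V 1 (ε i) := fun i => (hεm i).mono (by omega)
  have hsub := hasSubst_add hε1
  have key : MvPowerSeries.subst (fun i => MvPowerSeries.X i + ε i) F = T := by
    have hTaylor : Q c (fun i => MvPowerSeries.X i + ε i) =
        Q c MvPowerSeries.X + ∑ i, L i * ε i + Q c ε := by
      have : ∑ i, L i * ε i = (∑ a, ∑ b, MvPowerSeries.C (c a b) * (ε a * MvPowerSeries.X b)) +
          ∑ a, ∑ b, MvPowerSeries.C (c a b) * (MvPowerSeries.X a * ε b) := by
        rw [Finset.sum_comm (f := fun a b => MvPowerSeries.C (c a b) * (MvPowerSeries.X a * ε b)),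
          ← Finset.sum_add_distrib]
        refine Finset.sum_congr rfl fun i _ => ?_
        rw [hL, Finset.sum_mul, ← Finset.sum_add_distrib]
        exact Finset.sum_congr rfl fun j _ => by rw [map_add]; ring
      rw [this]
      simp only [Q, ← Finset.sum_add_distrib]
      exact Finset.sum_congr rfl fun a _ => Finset.sum_congr rfl fun b _ => by ring
    have hlin : ∑ i, L i * ε i =
        -Q c ε - MvPowerSeries.subst (fun i => MvPowerSeries.X i + ε i) G := by
      conv_rhs => rw [← hsplit _ ((hR ε hεm).mono (by omega))]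
      exact Finset.sum_congr rfl fun i _ => by rw [show S i _ = ε i from congr_fun hε i]
    have hT0 : T = Q c MvPowerSeries.X + MvPowerSeries.C a := by
      rw [hT, ← haev, MvPolynomial.coe_add, MvPolynomial.coe_C]
      congr 1
      have h0 := MvPowerSeries.subst_coe (a := (MvPowerSeries.X : Fin n → MvPowerSeries (Fin n) A))
        (VanCyc.quadPoly q)
      rw [← h0, MvPowerSeries.subst_self]; rfl
    rw [show F = T + G by rw [hG]; ring, MvPowerSeries.subst_add hsub, hT,
      MvPowerSeries.subst_coe, map_add, haev, MvPolynomial.aeval_C, hTaylor, hlin, ← hT, hT0,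
      ← MvPowerSeries.c_eq_algebraMap]
    ring
  refine ⟨ε, fun i e he => hεm i e he, hsub, key, ⟨?_⟩⟩
  have h0 : ∀ i, MvPowerSeries.constantCoeff (MvPowerSeries.X i + ε i) = 0 := fun i => by
    rw [map_add, MvPowerSeries.constantCoeff_X, zero_add,
      ← MvPowerSeries.coeff_zero_eq_constantCoeff_apply]
    exact hε1 i 0 (by simp)
  have hL' : IsUnit (Matrix.of fun i j =>
      MvPowerSeries.coeff (Finsupp.single j 1) (MvPowerSeries.X i + ε i)) := by
    rw [show (Matrix.of fun i j =>
      MvPowerSeries.coeff (Finsupp.single j 1) (MvPowerSeries.X i + ε i)) = (1 : Matrix (Fin n) (Fin n) A) from ?_]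
    · exact isUnit_one
    ext i j
    rw [Matrix.of_apply, map_add, hεm i _ (by simp [Finsupp.degree_single]; omega), add_zero,
      MvPowerSeries.coeff_X, Matrix.one_apply]
    by_cases h : i = j
    · subst h; simp
    · rw [if_neg, if_neg h]
      simp [Finsupp.single_left_inj, Ne.symm h]
  refine Ideal.quotientEquivAlg _ _
    (Groth.Agent.PowerSeriesAut.substEquiv _ h0 hL') ?_
  rw [Ideal.map_span, Set.image_singleton]
  congr 2
  exact (key.symm.trans (Groth.Agent.PowerSeriesAut.substEquiv_apply _ h0 hL' F).symm)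

end Groth.Agent.S16230
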