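import Groth.Statements.S14096
import Mathlib
import Groth.Agent.S16230
import Groth.Agent.PowerSeriesAut.Basic
-- import your own Groth.Agent.* helpers here

set_option autoImplicit false
universe u
open ArSing

namespace Groth.Agent.S14096

open Groth.Agent.S16230 (V tau sum_tau coeff_tau)

variable {k : Type u} [Field k]

local instance instDomain {k : Type u} [Field k] : IsDomain (MvPowerSeries (Fin 2) k) :=
  NoZeroDivisors.to_isDomain _

local notation "S" => MvPowerSeries (Fin 2) k

/-- Exponents on the two axes. -/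
def Ax (m : Fin 2 →₀ ℕ) : Prop := m 0 = 0 ∨ m 1 = 0

lemma decomp (g : S) : g = MvPowerSeries.C (MvPowerSeries.constantCoeff g) +
    ∑ l, MvPowerSeries.X l * tau l (g - MvPowerSeries.C (MvPowerSeries.constantCoeff g)) := by
  rw [sum_tau]
  · abel
  · intro e he
    rw [(Finsupp.degree_eq_zero_iff e).mp (by omega)]
    simp [MvPowerSeries.coeff_zero_eq_constantCoeff_apply]

lemma X01_dvd_iff (g : S) :
    (MvPowerSeries.X 0 * MvPowerSeries.X 1 : S) ∣ g ↔ ∀ m, Ax m → MvPowerSeries.coeff m g = 0 := by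
  classical
  constructor
  · rintro ⟨c, rfl⟩ m (hm | hm)
    · exact (MvPowerSeries.X_dvd_iff).mp ((dvd_mul_right _ _).trans (dvd_mul_right _ c)) m hm
    · exact (MvPowerSeries.X_dvd_iff).mp ((dvd_mul_left _ _).trans (dvd_mul_right _ c)) m hm
  · intro h
    obtain ⟨g', rfl⟩ := (MvPowerSeries.X_dvd_iff).mpr fun m hm => h m (Or.inl hm)
    refine mul_dvd_mul_left _ ((MvPowerSeries.X_dvd_iff).mpr fun m hm => ?_)
    have := h (Finsupp.single 0 1 + m) (Or.inr (by simp [hm]))
    rwa [MvPowerSeries.X, MvPowerSeries.coeff_add_monomial_mul, one_mul] at this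

lemma prime_X (i : Fin 2) : Prime (MvPowerSeries.X i : S) := by
  classical
  let w : Fin 2 → ℕ := fun j => if j = i then 1 else 0
  have hw : ∀ m : Fin 2 →₀ ℕ, Finsupp.weight w m = m i := fun m => by
    rw [Finsupp.weight_apply, Finsupp.sum_fintype _ _ (by simp)]
    simp [w]
  have key : ∀ f : S, MvPowerSeries.X i ∣ f ↔ 1 ≤ f.weightedOrder w := by
    intro f
    rw [MvPowerSeries.X_dvd_iff]
    constructor
    · intro h
      exact MvPowerSeries.nat_le_weightedOrder w fun d hd => h d (by rw [hw] at hd; omega)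
    · intro h m hm
      exact MvPowerSeries.coeff_eq_zero_of_lt_weightedOrder w
        (lt_of_lt_of_le (by rw [hw, hm]; exact_mod_cast zero_lt_one) h)
  refine ⟨?_, ?_, fun f g h => ?_⟩
  · intro h
    have := congrArg (MvPowerSeries.coeff (Finsupp.single i 1)) h
    simp at this
  · rw [MvPowerSeries.isUnit_iff_constantCoeff]; simp
  · rw [key, key]
    rw [key, MvPowerSeries.weightedOrder_mul] at h
    by_contra hc
    push Not at hc
    rw [ENat.lt_one_iff_eq_zero, ENat.lt_one_iff_eq_zero] at hc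
    rw [hc.1, hc.2] at h
    simp at h

lemma ext_hom {B : Type u} [CommRing B] [Algebra k B] (q : S →ₐ[k] B) (hq : Function.Surjective q)
    (hker : ∀ g, q g = 0 ↔ ∀ m, Ax m → MvPowerSeries.coeff m g = 0)
    (φ ψ : S →ₐ[k] B) (a : Fin 2 → S) (h0 : ∀ l, MvPowerSeries.constantCoeff (a l) = 0)
    (hφ : ∀ l, φ (MvPowerSeries.X l) = q (a l)) (hψ : ∀ l, ψ (MvPowerSeries.X l) = q (a l)) (g : S) :
    φ g = ψ g := by
  have happ : ∀ (N : ℕ) (g : S), ∃ r : S, V N r ∧ φ g - ψ g = q r := by
    intro N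
    induction N with
    | zero =>
      intro g
      obtain ⟨r, hr⟩ := hq (φ g - ψ g)
      exact ⟨r, fun m hm => absurd hm (by simp), hr.symm⟩
    | succ N ih =>
      intro g
      choose r hr hr' using fun l => ih (tau l (g - MvPowerSeries.C (MvPowerSeries.constantCoeff g)))
      refine ⟨∑ l, a l * r l, Groth.Agent.S16230.V_sum fun l _ => ?_, ?_⟩
      · rw [add_comm]
        refine Groth.Agent.S16230.V.mul (fun m hm => ?_) (hr l)
        rw [(Finsupp.degree_eq_zero_iff m).mp (by omega), MvPowerSeries.coeff_zero_eq_constantCoeff_apply, h0]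
      · have hC : ∀ c : k, φ (MvPowerSeries.C c) = ψ (MvPowerSeries.C c) := fun c => by
          rw [MvPowerSeries.c_eq_algebraMap, AlgHom.commutes, AlgHom.commutes]
        conv_lhs => rw [decomp g]
        simp only [map_add, map_sum, map_mul, hC, hφ, hψ, ← hr', mul_sub, Finset.sum_sub_distrib]
        abel
  obtain ⟨r, hr⟩ := hq (φ g - ψ g)
  rw [← sub_eq_zero, ← hr, hker]
  intro m hm
  obtain ⟨r', hr'V, hr'⟩ := happ (m.degree + 1) g
  have h1 := (hker (r - r')).mp (by rw [map_sub, hr, hr', sub_self]) m hm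
  rwa [map_sub, hr'V m (by omega), sub_zero] at h1

/-- `(x, y) ↦ (x, y²)`. -/
noncomputable def sq1 : S →ₐ[k] S :=
  MvPowerSeries.substAlgHom (MvPowerSeries.hasSubst_of_constantCoeff_zero
    (a := ![(MvPowerSeries.X 0 : S), MvPowerSeries.X 1 ^ 2]) fun l => by fin_cases l <;> simp)

lemma sq1_X0 : sq1 (MvPowerSeries.X 0 : S) = MvPowerSeries.X 0 := by
  rw [sq1, MvPowerSeries.substAlgHom_X]; rfl

lemma sq1_X1 : sq1 (MvPowerSeries.X 1 : S) = MvPowerSeries.X 1 ^ 2 := by
  rw [sq1, MvPowerSeries.substAlgHom_X]; rfl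

lemma coeff_sq1 (g : S) (e : Fin 2 →₀ ℕ) :
    MvPowerSeries.coeff e (sq1 g) = if Even (e 1) then
      MvPowerSeries.coeff (Finsupp.single 0 (e 0) + Finsupp.single 1 (e 1 / 2)) g else 0 := by
  classical
  have hs : MvPowerSeries.HasSubst (![(MvPowerSeries.X 0 : S), MvPowerSeries.X 1 ^ 2]) :=
    MvPowerSeries.hasSubst_of_constantCoeff_zero fun l => by fin_cases l <;> simp
  rw [show sq1 g = MvPowerSeries.subst _ g from congrFun (MvPowerSeries.coe_substAlgHom hs) g,
    MvPowerSeries.coeff_subst hs]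
  have hprod : ∀ d : Fin 2 →₀ ℕ, (d.prod fun s n => ![(MvPowerSeries.X 0 : S), MvPowerSeries.X 1 ^ 2] s ^ n) =
      MvPowerSeries.monomial (Finsupp.single 0 (d 0) + Finsupp.single 1 (2 * d 1)) 1 := by
    intro d
    rw [Finsupp.prod_fintype _ _ (by simp), Fin.prod_univ_two]
    simp only [Matrix.cons_val_zero, Matrix.cons_val_one]
    rw [← pow_mul, MvPowerSeries.X_pow_eq, MvPowerSeries.X_pow_eq, MvPowerSeries.monomial_mul_monomial, one_mul]
  simp only [hprod, MvPowerSeries.coeff_monomial, smul_eq_mul, mul_ite, mul_one, mul_zero]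
  rw [finsum_eq_single _ (Finsupp.single 0 (e 0) + Finsupp.single 1 (e 1 / 2))]
  · have : (e = Finsupp.single 0 (e 0) + Finsupp.single 1 (2 * (e 1 / 2))) ↔ Even (e 1) := by
      rw [even_iff_two_dvd, Finsupp.ext_iff, Fin.forall_fin_two]
      simp
      omega
    by_cases he : Even (e 1)
    · rw [if_pos he, if_pos]
      simpa using this.mpr he
    · rw [if_neg he, if_neg]
      intro h
      exact he (this.mp (by simpa using h))
  · intro d hd
    rw [if_neg]
    intro he
    refine hd ?_
    have h0 := DFunLike.congr_fun he 0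
    have h1 := DFunLike.congr_fun he 1
    simp at h0 h1
    ext i
    fin_cases i <;> simp [h0, h1]

lemma not_flat {R M : Type u} [CommRing R] [CommRing M] (f : R →+* M) (u : R) (v : M) (I : Ideal M)
    (hv : f u * v = 0) (hI : ∀ c, u * c = 0 → f c ∈ I) (hvI : v ∉ I) : ¬ f.Flat := by
  intro hflat
  algebraize [f]
  obtain ⟨n, a, y, hx, ha⟩ := Module.Flat.isTrivialRelation_of_sum_smul_eq_zero
    (R := R) (M := M) (f := fun _ : Fin 1 => u) (x := fun _ => v) (by
      rw [Fin.sum_univ_one]
      exact hv)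
  refine hvI ?_
  rw [show v = _ from hx 0]
  refine Ideal.sum_mem _ fun j _ => ?_
  rw [Algebra.smul_def]
  exact Ideal.mul_mem_right _ _ (hI _ (by simpa using ha j))

/-- K algebraically closed of characteristic ≠ 2, σ the involution of the node algebra A_1 =
k[[x,y]]/(y^2 - x^2) exchanging x and y, and φ : A_1 → A_1 the k-algebra map with φ(x + y) = x + y
and φ(y - x) = (y - x)^2 (in the branch coordinates u = x + y, v = y - x with uv = 0: u ↦ u, v ↦
v^2). Then the invariant subalgebra of σ is the image of φ and φ is injective (so A_1^σ ≅ A_1), and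
the fixed locus of σ is the branch v = 0: the ideal generated by the elements σ(a) - a is the ideal
(y - x), a minimal prime ideal generated by a zero-divisor (so not a Cartier divisor). Moreover φ is
not flat. (The published statement asserts that this extension is faithfully flat; it is not: as a
module over the invariant subalgebra B = k[[u,w]]/(uw), w = v^2, A_1 is B ⊕ (B/uB)·v, and B/uB is
not flat over B — equivalently the fibre length jumps from 1 on the branch w = 0 to 2 at the closed
point.) -/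
theorem result (k : Type u) [Field k] [IsAlgClosed k]
    (h2 : (2 : k) ≠ 0)
    (σ : ArSing.ring k 1 ≃ₐ[k] ArSing.ring k 1) (hx : σ (ArSing.x k 1) = ArSing.y k 1)
    (hy : σ (ArSing.y k 1) = ArSing.x k 1)
    (φ : ArSing.ring k 1 →ₐ[k] ArSing.ring k 1) (hφu : φ (ArSing.x k 1 + ArSing.y k 1) = ArSing.x k 1 + ArSing.y k 1)
    (hφv : φ (ArSing.y k 1 - ArSing.x k 1) = (ArSing.y k 1 - ArSing.x k 1) ^ 2) :
    (∀ a : ArSing.ring k 1, σ a = a ↔ a ∈ φ.range) ∧ Function.Injective φ ∧
    Ideal.span (Set.range fun a : ArSing.ring k 1 => σ a - a) = Ideal.span {ArSing.y k 1 - ArSing.x k 1} ∧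
    (ArSing.y k 1 - ArSing.x k 1) ∉ nonZeroDivisors (ArSing.ring k 1) ∧
    Ideal.span {ArSing.y k 1 - ArSing.x k 1} ∈ minimalPrimes (ArSing.ring k 1) ∧
    ¬ φ.toRingHom.Flat := by
  classical
  have h4 : ∀ i : Fin 2, i = 0 ∨ i = 1 := fun i => by fin_cases i <;> simp
  let a : Fin 2 → MvPowerSeries (Fin 2) k := ![MvPowerSeries.X 0 + MvPowerSeries.X 1, MvPowerSeries.X 1 - MvPowerSeries.X 0]
  have ha0 : ∀ l, MvPowerSeries.constantCoeff (a l) = 0 := fun l => by fin_cases l <;> simp [a]
  have haM : IsUnit (Matrix.of fun i j => MvPowerSeries.coeff (Finsupp.single j 1) (a i)) := by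
    rw [Matrix.isUnit_iff_isUnit_det, Matrix.det_fin_two, isUnit_iff_ne_zero]
    simp [a, MvPowerSeries.coeff_X, Finsupp.single_left_inj]
    norm_num
    exact fun h => h2 (by linear_combination h)
  let E := Groth.Agent.PowerSeriesAut.substEquiv a ha0 haM
  let q : MvPowerSeries (Fin 2) k →ₐ[k] ArSing.ring k 1 := (Ideal.Quotient.mkₐ k _).comp E.toAlgHom
  have hqs : Function.Surjective q := Ideal.Quotient.mk_surjective.comp E.surjective
  have hEX : ∀ l, E (MvPowerSeries.X l) = a l := fun l => Groth.Agent.PowerSeriesAut.substEquiv_X a ha0 haM l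
  have hker : ∀ g, q g = 0 ↔ ∀ m, Ax m → MvPowerSeries.coeff m g = 0 := by
    intro g
    show Ideal.Quotient.mk _ (E g) = 0 ↔ _
    rw [Ideal.Quotient.eq_zero_iff_mem, Ideal.mem_span_singleton, ← X01_dvd_iff,
      show ArSing.eqn k 1 = E (MvPowerSeries.X 0 * MvPowerSeries.X 1) by
        rw [map_mul, hEX, hEX]; simp [ArSing.eqn, a]; ring,
      map_dvd_iff E]
  have hu : ArSing.x k 1 + ArSing.y k 1 = q (MvPowerSeries.X 0) := by
    show _ = Ideal.Quotient.mk _ (E (MvPowerSeries.X 0))
    rw [hEX]; simp [a]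
  have hv : ArSing.y k 1 - ArSing.x k 1 = q (MvPowerSeries.X 1) := by
    show _ = Ideal.Quotient.mk _ (E (MvPowerSeries.X 1))
    rw [hEX]; simp [a]
  have hσq : ∀ g, σ (q g) = q (MvPowerSeries.rescaleAlgHom (![1, -1] : Fin 2 → k) g) := by
    refine fun g => ext_hom q hqs hker (σ.toAlgHom.comp q) (q.comp (MvPowerSeries.rescaleAlgHom (![1, -1] : Fin 2 → k)))
      ![MvPowerSeries.X 0, -MvPowerSeries.X 1] (fun l => by fin_cases l <;> simp) (fun l => ?_) (fun l => ?_) g
    · show σ (q (MvPowerSeries.X l)) = _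
      rcases h4 l with rfl | rfl
      · rw [← hu, map_add, hx, hy, add_comm, hu]; rfl
      · rw [← hv, map_sub, hx, hy]; simp [← hv]
    · show q (MvPowerSeries.rescaleAlgHom _ (MvPowerSeries.X l)) = _
      rw [MvPowerSeries.rescaleAlgHom, MvPowerSeries.substAlgHom_X]
      rcases h4 l with rfl | rfl <;> simp
  have hφq : ∀ g, φ (q g) = q (sq1 g) := by
    refine fun g => ext_hom q hqs hker (φ.comp q) (q.comp sq1)
      ![MvPowerSeries.X 0, MvPowerSeries.X 1 ^ 2] (fun l => by fin_cases l <;> simp) (fun l => ?_) (fun l => ?_) g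
    · show φ (q (MvPowerSeries.X l)) = _
      rcases h4 l with rfl | rfl
      · rw [← hu, hφu, hu]; rfl
      · rw [← hv, hφv, hv, ← map_pow]; rfl
    · show q (sq1 (MvPowerSeries.X l)) = _
      rcases h4 l with rfl | rfl
      · rw [sq1_X0]; rfl
      · rw [sq1_X1]; rfl
  have hresc : ∀ (g : MvPowerSeries (Fin 2) k) (m : Fin 2 →₀ ℕ),
      MvPowerSeries.coeff m (MvPowerSeries.rescaleAlgHom (![1, -1] : Fin 2 → k) g) =
        (-1) ^ (m 1) * MvPowerSeries.coeff m g := by
    intro g m
    rw [MvPowerSeries.rescaleAlgHom_apply, MvPowerSeries.coeff_rescale,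
      Finsupp.prod_fintype _ _ (by simp), Fin.prod_univ_two]
    simp
  have heq : ∀ g g', q g = q g' ↔ ∀ m, Ax m → MvPowerSeries.coeff m g = MvPowerSeries.coeff m g' := by
    intro g g'
    rw [← sub_eq_zero, ← map_sub, hker]
    simp only [map_sub, sub_eq_zero]
  have hfix : ∀ b, σ b = b ↔ b ∈ φ.range := by
    intro b
    obtain ⟨g, rfl⟩ := hqs b
    rw [hσq, heq]
    constructor
    · intro h
      let g' : MvPowerSeries (Fin 2) k := fun e =>
        MvPowerSeries.coeff (Finsupp.single 0 (e 0) + Finsupp.single 1 (2 * e 1)) g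
      refine ⟨q g', (hφq g').trans ((heq _ _).mpr fun m hm => ?_)⟩
      rw [coeff_sq1]
      split_ifs with he
      · show MvPowerSeries.coeff _ g = _
        rw [even_iff_two_dvd] at he
        refine congrArg (fun e => MvPowerSeries.coeff e g) (Finsupp.ext fun i => ?_)
        rcases h4 i with rfl | rfl <;> simp <;> omega
      · have := h m hm
        rw [hresc, (Nat.not_even_iff_odd.mp he).neg_one_pow] at this
        have h0 : (2 : k) * MvPowerSeries.coeff m g = 0 := by linear_combination -this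
        exact ((mul_eq_zero.mp h0).resolve_left h2).symm
    · rintro ⟨c, hc⟩ m hm
      obtain ⟨g', rfl⟩ := hqs c
      have hc' := (heq _ _).mp ((hφq g').symm.trans hc) m hm
      rw [coeff_sq1] at hc'
      rw [hresc]
      split_ifs at hc' with he
      · rw [he.neg_one_pow, one_mul]
      · rw [← hc', mul_zero]
  have hinj : Function.Injective φ := by
    refine (injective_iff_map_eq_zero φ).mpr fun b hb => ?_
    obtain ⟨g, rfl⟩ := hqs b
    rw [hφq, hker] at hb
    rw [hker]
    intro m hm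
    have := hb (Finsupp.single 0 (m 0) + Finsupp.single 1 (2 * m 1)) (by
      rcases hm with hm | hm
      · left; simp [hm]
      · right; simp [hm])
    rw [coeff_sq1] at this
    rw [if_pos (by simp)] at this
    rwa [show Finsupp.single 0 ((Finsupp.single (0 : Fin 2) (m 0) + Finsupp.single 1 (2 * m 1) : Fin 2 →₀ ℕ) 0) +
      Finsupp.single 1 ((Finsupp.single (0 : Fin 2) (m 0) + Finsupp.single 1 (2 * m 1) : Fin 2 →₀ ℕ) 1 / 2) = m from
      Finsupp.ext fun i => by rcases h4 i with rfl | rfl <;> simp] at this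
  have hmemv : ∀ g, q g ∈ Ideal.span {q (MvPowerSeries.X 1)} ↔
      ∀ m : Fin 2 →₀ ℕ, m 1 = 0 → MvPowerSeries.coeff m g = 0 := by
    intro g
    rw [Ideal.mem_span_singleton]
    constructor
    · rintro ⟨c, hc⟩ m hm
      obtain ⟨d, rfl⟩ := hqs c
      rw [← map_mul, heq] at hc
      rw [hc m (Or.inr hm)]
      exact (MvPowerSeries.X_dvd_iff).mp (dvd_mul_right _ d) m hm
    · intro h
      obtain ⟨d, rfl⟩ := (MvPowerSeries.X_dvd_iff).mpr h
      rw [map_mul]; exact dvd_mul_right _ _
  have hspan : Ideal.span (Set.range fun a : ArSing.ring k 1 => σ a - a) = Ideal.span {q (MvPowerSeries.X 1)} := by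
    apply le_antisymm
    · rw [Ideal.span_le]
      rintro _ ⟨b, rfl⟩
      obtain ⟨g, rfl⟩ := hqs b
      show σ (q g) - q g ∈ _
      rw [SetLike.mem_coe, hσq, ← map_sub, hmemv]
      intro m hm
      rw [map_sub, hresc, hm, pow_zero, one_mul, sub_self]
    · rw [Ideal.span_le, Set.singleton_subset_iff, SetLike.mem_coe, ← hv]
      have h : σ (ArSing.y k 1 - ArSing.x k 1) - (ArSing.y k 1 - ArSing.x k 1) ∈
          Ideal.span (Set.range fun a : ArSing.ring k 1 => σ a - a) := Ideal.subset_span ⟨_, rfl⟩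
      rw [map_sub, hx, hy] at h
      have := Ideal.mul_mem_left _ (algebraMap k (ArSing.ring k 1) (-2⁻¹)) h
      convert this using 1
      have e : algebraMap k (ArSing.ring k 1) 2⁻¹ * 2 = 1 := by
        rw [← map_ofNat (algebraMap k (ArSing.ring k 1)) 2, ← map_mul, inv_mul_cancel₀ h2, map_one]
      rw [map_neg]
      linear_combination -(ArSing.y k 1 - ArSing.x k 1) * e
  have hUV : q (MvPowerSeries.X 0) * q (MvPowerSeries.X 1) = 0 := by
    rw [← map_mul, hker]
    exact (X01_dvd_iff _).mp dvd_rfl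
  have hUne : q (MvPowerSeries.X 0) ≠ 0 := fun h => by
    have := (hker _).mp h (Finsupp.single 0 1) (Or.inr (by simp))
    simp at this
  have hU : q (MvPowerSeries.X 0) ∉ Ideal.span {q (MvPowerSeries.X 1)} := fun h => by
    have := (hmemv _).mp h (Finsupp.single 0 1) (by simp)
    simp at this
  refine ⟨hfix, hinj, by rw [hspan, hv], ?_, ?_, ?_⟩
  · rw [hv]
    intro h
    exact hUne ((mem_nonZeroDivisors_iff_right.mp h) _ hUV)
  · rw [hv]
    have hP : (Ideal.span {q (MvPowerSeries.X 1)}).IsPrime := by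
      haveI : (Ideal.span {(MvPowerSeries.X 1 : MvPowerSeries (Fin 2) k)}).IsPrime :=
        (Ideal.span_singleton_prime (prime_X 1).ne_zero).mpr (prime_X 1)
      have := Ideal.map_isPrime_of_surjective (f := q) hqs
        (I := Ideal.span {(MvPowerSeries.X 1 : MvPowerSeries (Fin 2) k)}) (by
          intro g hg
          rw [Ideal.mem_span_singleton, MvPowerSeries.X_dvd_iff]
          exact fun m hm => (hker g).mp hg m (Or.inr hm))
      rwa [Ideal.map_span, Set.image_singleton] at this
    refine ⟨⟨hP, bot_le⟩, fun P hP' hle => ?_⟩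
    rw [Ideal.span_le, Set.singleton_subset_iff]
    exact (hP'.1.mem_or_mem (hUV ▸ P.zero_mem)).resolve_left fun h => hU (hle h)
  · refine not_flat φ.toRingHom (q (MvPowerSeries.X 0)) (q (MvPowerSeries.X 1))
      (Ideal.span {q (MvPowerSeries.X 1 ^ 2)}) ?_ ?_ ?_
    · show φ (q (MvPowerSeries.X 0)) * q (MvPowerSeries.X 1) = 0
      rw [hφq, sq1_X0, hUV]
    · intro c hc
      obtain ⟨g, rfl⟩ := hqs c
      rw [← map_mul, hker] at hc
      have hg : q g ∈ Ideal.span {q (MvPowerSeries.X 1)} := by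
        rw [hmemv]
        intro m hm
        have := hc (Finsupp.single 0 1 + m) (Or.inr (by simp [hm]))
        rwa [MvPowerSeries.X, MvPowerSeries.coeff_add_monomial_mul, one_mul] at this
      obtain ⟨d, hd⟩ := Ideal.mem_span_singleton.mp hg
      show φ (q g) ∈ _
      rw [hd, map_mul, hφq, sq1_X1]
      exact Ideal.mul_mem_right _ _ (Ideal.mem_span_singleton_self _)
    · intro h
      obtain ⟨d, hd⟩ := Ideal.mem_span_singleton.mp h
      obtain ⟨g, rfl⟩ := hqs d
      rw [← map_mul, heq] at hd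
      have := hd (Finsupp.single 1 1) (Or.inl (by simp))
      rw [(MvPowerSeries.X_pow_dvd_iff (s := (1 : Fin 2)) (n := 2)).mp (dvd_mul_right _ g) _ (by simp)] at this
      simp at this

end Groth.Agent.S14096
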