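import Groth.Statements.S14097
import Mathlib
-- import your own Groth.Agent.* helpers here

set_option autoImplicit false
universe u
open ArSing

namespace Groth.Agent.S14097

theorem esymm_cons' {A : Type u} [CommRing A] (a : A) (s : Multiset A) (n : ℕ) :
    (a ::ₘ s).esymm (n + 1) = s.esymm (n + 1) + a * s.esymm n := by
  simp [Multiset.esymm, Multiset.powersetCard_cons, Multiset.map_add, Multiset.map_map,
    Multiset.sum_map_mul_left]

theorem esymm_zero' {A : Type u} [CommRing A] (s : Multiset A) : s.esymm 0 = 1 := by simp [Multiset.esymm]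

theorem esymm_card' {A : Type u} [CommRing A] (s : Multiset A) : s.esymm (Multiset.card s) = s.prod := by
  induction s using Multiset.induction_on with
  | empty => simp [Multiset.esymm]
  | cons a s ih =>
    rw [Multiset.card_cons, esymm_cons', ih, Multiset.prod_cons]
    have : s.esymm (Multiset.card s + 1) = 0 := by
      simp [Multiset.esymm, Multiset.powersetCard_eq_empty _ (Nat.lt_succ_self _)]
    rw [this, zero_add]


/-- In any commutative ring, if h_0, …, h_(k-1) (k ≥ 2) and τ satisfy h_i^2 + τ h_i = 0, then ∏_(i ≤
k-2) (h_i + h_(i+1) + τ) = Σ_(j ≤ k-1) τ^(k-1-j) e_j(h), e_j the elementary symmetric functions.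
(The published statement is the resulting formula for the class of the small diagonal in the Chow
ring of (P^1)^k, where the h_i are the hyperplane classes of the factors and satisfy these
relations; only the ring identity is asserted here.) -/
theorem result (A : Type u) [CommRing A] (k : ℕ) (hk : 2 ≤ k) (τ : A)
    (h : ℕ → A) (hrel : ∀ i, i < k → h i ^ 2 + τ * h i = 0) :
    ∏ i ∈ Finset.range (k - 1), (h i + h (i + 1) + τ) =
      ∑ j ∈ Finset.range k, τ ^ (k - 1 - j) * (((Finset.range k).val.map h).esymm j) := by
  let e : ℕ → ℕ → A := fun m j => ((Finset.range m).val.map h).esymm j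
  let T : ℕ → A := fun m => ∑ j ∈ Finset.range m, τ ^ (m - 1 - j) * e m j
  have hcons : ∀ m, (Finset.range (m + 1)).val.map h = h m ::ₘ (Finset.range m).val.map h := fun m => by
    rw [Finset.range_add_one, Finset.insert_val_of_notMem (by simp), Multiset.map_cons]
  have hfull : ∀ m, e m m = ∏ i ∈ Finset.range m, h i := fun m => by
    have := esymm_card' ((Finset.range m).val.map h)
    rw [Multiset.card_map, Finset.card_val, Finset.card_range] at this
    exact this
  have hT : ∀ m, T (m + 1) = T m * (τ + h m) + e m m := by
    intro m
    have h1 : ∀ j, e (m + 1) (j + 1) = e m (j + 1) + h m * e m j := fun j => by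
      show Multiset.esymm _ _ = _
      rw [hcons, esymm_cons']
    have hs : T m * τ + e m m = τ ^ m * e m 0 + ∑ j ∈ Finset.range m, τ ^ (m - 1 - j) * e m (j + 1) := by
      have a1 := Finset.sum_range_succ (fun j => τ ^ (m - j) * e m j) m
      have a2 := Finset.sum_range_succ' (fun j => τ ^ (m - j) * e m j) m
      simp only [Nat.sub_self, pow_zero, one_mul, Nat.sub_zero, Nat.sub_add_eq, Nat.sub_right_comm] at a1 a2
      have a3 : T m * τ = ∑ j ∈ Finset.range m, τ ^ (m - j) * e m j := by
        rw [Finset.sum_mul]
        refine Finset.sum_congr rfl fun j hj => ?_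
        rw [Finset.mem_range] at hj
        rw [show m - j = m - 1 - j + 1 by omega, pow_succ]; ring
      rw [a3, ← a1, a2, add_comm]
      congr 1
      exact Finset.sum_congr rfl fun j _ => by rw [Nat.sub_right_comm]
    have hb : T (m + 1) = τ ^ m * e m 0 + ∑ j ∈ Finset.range m, τ ^ (m - 1 - j) * (e m (j + 1) + h m * e m j) := by
      show ∑ j ∈ Finset.range (m + 1), _ = _
      rw [Finset.sum_range_succ', add_comm]
      congr 1
      · simp only [e, esymm_zero', Nat.add_sub_cancel, Nat.sub_zero]
      · refine Finset.sum_congr rfl fun j hj => ?_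
        rw [h1, show m + 1 - 1 - (j + 1) = m - 1 - j by omega]
    have hc : T m * h m = ∑ j ∈ Finset.range m, τ ^ (m - 1 - j) * (h m * e m j) := by
      rw [Finset.sum_mul]
      exact Finset.sum_congr rfl fun j _ => by ring
    rw [hb]
    simp only [mul_add, Finset.sum_add_distrib]
    linear_combination (-1 : A) * hs - hc
  have main : ∀ m, m + 1 ≤ k → ∏ i ∈ Finset.range m, (h i + h (i + 1) + τ) = T (m + 1) := by
    intro m
    induction m with
    | zero => intro _; simp [T, e, esymm_zero']
    | succ m ih =>
      intro hm
      have hkey : h m * T (m + 1) = e (m + 1) (m + 1) := by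
        rw [hT m, hfull, hfull, Finset.prod_range_succ]
        linear_combination T m * hrel m (by omega)
      rw [Finset.prod_range_succ, ih (by omega), hT (m + 1)]
      linear_combination hkey
  have := main (k - 1) (by omega)
  rw [Nat.sub_add_cancel (by omega : 1 ≤ k)] at this
  exact this

end Groth.Agent.S14097
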