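import Groth.Statements.S14100
import Groth.Agent.Ghost.Basic

set_option autoImplicit false
universe w v u
open DCoh

namespace Groth.Agent.S14100

open CategoryTheory in
/-- Let C be an abelian category, a an integer and n a natural number, and let K_0 → K_1 → ⋯ → K_{n+1}
be composable morphisms in the derived category of C such that each K_i has cohomology concentrated
in degrees a, …, a+n and each map K_i → K_{i+1} induces zero on every cohomology object. Then the
composite K_0 → K_{n+1} is zero. (The chain is given as a functor from the ordered set of natural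
numbers; only its values on 0, …, n+1 matter.) -/
theorem result
    (C : Type u) [Category.{v} C] [Abelian C] [HasDerivedCategory.{w} C]
    (a : ℤ) (n : ℕ) (K : ℕ ⥤ DerivedCategory C)
    (hGE : ∀ i : ℕ, i ≤ n + 1 → (K.obj i).IsGE a)
    (hLE : ∀ i : ℕ, i ≤ n + 1 → (K.obj i).IsLE (a + n))
    (hzero : ∀ i : ℕ, i ≤ n → ∀ q : ℤ,
      (DerivedCategory.homologyFunctor C q).map (K.map (homOfLE (Nat.le_succ i))) = 0) :
    K.map (homOfLE (Nat.zero_le (n + 1))) = 0 := by

  haveI : (K.obj 0).IsLE (a + n) := hLE 0 (by omega)
  have h := Groth.Agent.Ghost.comp_eq_zero (fun j => K.obj j) (fun j => K.map (homOfLE (Nat.le_succ j)))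
    (fun j => K.map (homOfLE (Nat.zero_le j))) (by simp) (fun j => (K.map_comp _ _))
    (𝟙 (K.obj 0)) a n (fun j hj q _ => hzero j hj q) (hGE (n + 1) le_rfl)
  rwa [Category.id_comp] at h

end Groth.Agent.S14100
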