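import Groth.Statements.S14101
import Groth.Agent.GenericFibreSpread.RedSpread
import Groth.Agent.PurelyInsepRed.Basic
import Mathlib
-- import your own Groth.Agent.* helpers here

set_option autoImplicit false
universe u
open CAlg

namespace Groth.Agent.S14101

set_option backward.isDefEq.respectTransparency false in
theorem exists_bad_divisor (A : Type u) [CommRing A] [Algebra.FiniteType ℤ A] [IsReduced A] :
    ∃ c : ℕ, c ≠ 0 ∧ ∀ p : ℕ, p.Prime → ¬ IsReduced (A ⧸ Ideal.span {(p : A)}) → p ∣ c := by
  let D := MvPolynomial PEmpty.{u+1} ℤ
  let eD : D ≃+* ℤ := (MvPolynomial.isEmptyAlgEquiv ℤ PEmpty.{u+1}).toRingEquiv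
  letI : Algebra D A := ((algebraMap ℤ A).comp eD.toRingHom).toAlgebra
  haveI : Algebra.FiniteType D A := by
    refine RingHom.finiteType_algebraMap.mp (RingHom.FiniteType.of_comp_finiteType
      (f := eD.symm.toRingHom) ?_)
    rw [Subsingleton.elim ((algebraMap D A).comp _) (algebraMap ℤ A)]
    exact RingHom.finiteType_algebraMap.mpr inferInstance
  haveI : Algebra.FinitePresentation D A := Algebra.FinitePresentation.of_finiteType.mp inferInstance
  let K := FractionRing D
  haveI : CharZero D := charZero_of_injective_ringHom (f := eD.symm.toRingHom) eD.symm.injective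
  haveI : CharZero K := charZero_of_injective_algebraMap (IsFractionRing.injective D K)
  haveI : IsReduced (TensorProduct D K A) := by
    letI : Algebra A (TensorProduct D K A) := Algebra.TensorProduct.rightAlgebra
    haveI : IsLocalization (Algebra.algebraMapSubmonoid A (nonZeroDivisors D)) (TensorProduct D K A) :=
      IsLocalization.tensorRight (R := D) (S := A) (A := K) (nonZeroDivisors D)
    exact isReduced_localizationPreserves (Algebra.algebraMapSubmonoid A (nonZeroDivisors D)) _ inferInstance
  haveI : Algebra.IsGeometricallyReduced K (TensorProduct D K A) :=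
    (Algebra.isGeometricallyReduced_field_iff K _).mpr
      (Groth.Agent.PurelyInsepRed.isReduced_tensor_of_perfectField (AlgebraicClosure K))
  obtain ⟨c, hc, H⟩ := Groth.Agent.GenericFibreSpread.exists_forall_isReduced_fp D A K
  refine ⟨(eD c).natAbs, fun h => hc (eD.injective ((Int.natAbs_eq_zero.mp h).trans (map_zero eD).symm)), fun p hp hbad => ?_⟩
  by_contra hdiv
  refine hbad ?_
  let I : Ideal D := Ideal.span {(p : D)}
  haveI : I.IsMaximal := by
    have hI : I = (Ideal.span {(p : ℤ)}).map (eD.symm : ℤ →+* D) := by
      rw [Ideal.map_span, Set.image_singleton, map_natCast]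
    haveI : (Ideal.span {(p : ℤ)}).IsMaximal :=
      (haveI : Fact p.Prime := ⟨hp⟩; Int.ideal_span_isMaximal_of_prime p)
    rw [hI]
    exact Ideal.map_isMaximal_of_equiv eD.symm
  letI : Field (D ⧸ I) := Ideal.Quotient.field I
  haveI := H (D ⧸ I) (fun h => hdiv (by
    rw [Ideal.Quotient.algebraMap_eq, Ideal.Quotient.eq_zero_iff_mem, Ideal.mem_span_singleton] at h
    obtain ⟨d, hd⟩ := h
    exact Int.natCast_dvd.mp ⟨eD d, by rw [hd, map_mul, map_natCast]⟩))
  have e := (Algebra.TensorProduct.quotIdealMapEquivTensorQuot A I).toRingEquiv.trans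
    (Algebra.TensorProduct.comm D A (D ⧸ I)).toRingEquiv
  have hmap : I.map (algebraMap D A) = Ideal.span {(p : A)} := by
    rw [Ideal.map_span, Set.image_singleton, map_natCast]
  exact isReduced_of_injective ((Ideal.quotEquivOfEq hmap.symm).trans e).toRingHom
    ((Ideal.quotEquivOfEq hmap.symm).trans e).injective

/-- Affine form — let A be a reduced commutative ring of finite type over ℤ. Then for all but finitely
many prime numbers p the reduction A/pA is reduced. (The published statement is for a reduced scheme
of finite type over ℤ; such a scheme has a finite affine open cover, so the affine form carries the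
same content.) -/
theorem result
    (A : Type u) [CommRing A] [Algebra.FiniteType ℤ A] [IsReduced A] :
    {p : ℕ | p.Prime ∧ ¬ IsReduced (A ⧸ Ideal.span {(p : A)})}.Finite := by
  obtain ⟨c, hc, h⟩ := exists_bad_divisor A
  exact c.divisors.finite_toSet.subset fun p hp => Nat.mem_divisors.mpr ⟨h p hp.1 hp.2, hc⟩

end Groth.Agent.S14101
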