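import Groth.Statements.S1411
import Groth.Agent.QFCut.Basic
-- import your own Groth.Agent.* helpers here

set_option autoImplicit false
universe u
open FlatMor

namespace Groth.Agent.S1411

open AlgebraicGeometry CategoryTheory Limits in
/-- Let f : X → S be locally of finite type with S locally Noetherian, x a point closed in its fibre,
and U an open of X containing a point x' specializing to x with f x' ≠ f x. Then there is a closed
subscheme Z of X passing through x such that Z → S is quasi-finite at x and Z contains a point z ∈ U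
with z ⤳ x and f z ≠ f x. -/
theorem result {X S : Scheme.{u}} (f : X ⟶ S) [LocallyOfFiniteType f] [IsLocallyNoetherian S] (x : X)
    (hcl : IsClosed (Subtype.val ⁻¹' {x} : Set ↑(f ⁻¹' {f x}))) (U : X.Opens) (hx' : ∃ x' : X, x' ∈ U ∧ x' ⤳ x ∧ f x' ≠ f x) :
    ∃ (I : X.IdealSheafData) (z₀ x₀ : ↑I.subscheme), I.subschemeι x₀ = x ∧ (I.subschemeι ≫ f).QuasiFiniteAt x₀ ∧
      I.subschemeι z₀ ∈ U ∧ I.subschemeι z₀ ⤳ x ∧ f (I.subschemeι z₀) ≠ f x := by
  obtain ⟨x', hx'U, hx'x, hx'f⟩ := hx'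
  have : IsLocallyNoetherian X := LocallyOfFiniteType.isLocallyNoetherian f
  let φ := (f.stalkMap x).hom
  let j := X.fromSpecStalk x
  let k := S.fromSpecStalk (f x)
  have hcomm : ∀ Q : ↥(Spec (X.presheaf.stalk x)), f (j Q) = k (PrimeSpectrum.comap φ Q) := fun Q => by
    rw [← Scheme.Hom.comp_apply, ← Scheme.SpecMap_stalkMap_fromSpecStalk, Scheme.Hom.comp_apply]
    rfl
  have hj : ∀ z : X, z ⤳ x → ∃ Q : PrimeSpectrum (X.presheaf.stalk x), j Q = z := fun z hz => by
    have : z ∈ Set.range j := by rw [Scheme.range_fromSpecStalk]; exact hz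
    exact this
  have hkinj : Function.Injective k := k.isEmbedding.injective
  have hfib : ∀ Q : PrimeSpectrum (X.presheaf.stalk x),
      f (j Q) = f x ↔ PrimeSpectrum.comap φ Q = IsLocalRing.closedPoint _ := fun Q => by
    refine Iff.trans (by rw [← hcomm Q]) ?_ (b := k (PrimeSpectrum.comap φ Q) = f x)
    have e : k (IsLocalRing.closedPoint (S.presheaf.stalk (f x))) = f x := Scheme.fromSpecStalk_closedPoint
    exact ⟨fun h => hkinj (h.trans e.symm), fun h => (congrArg k h).trans e⟩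
  have hcomapc : Continuous (PrimeSpectrum.comap φ) := PrimeSpectrum.continuous_comap φ
  let O : Set (PrimeSpectrum (X.presheaf.stalk x)) :=
    j ⁻¹' (U : Set X) ∩ (PrimeSpectrum.comap φ ⁻¹' {IsLocalRing.closedPoint _})ᶜ
  have hO : IsOpen O := (U.2.preimage j.continuous).inter
    ((IsLocalRing.isClosed_singleton_closedPoint _).preimage hcomapc).isOpen_compl
  obtain ⟨Q₀, hQ₀⟩ := hj x' hx'x
  obtain ⟨Q, ⟨hQU, hQf⟩, hQmax⟩ := QFCut.exists_max_prime hO
    ⟨Q₀, by show j Q₀ ∈ U; rw [hQ₀]; exact hx'U, fun h => hx'f (by rw [← hQ₀]; exact (hfib Q₀).2 h)⟩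
  have hfz : f (j Q) ≠ f x := fun h => hQf ((hfib Q).1 h)
  have hzx : j Q ⤳ x := by
    have : j Q ∈ Set.range j := ⟨Q, rfl⟩
    rw [Scheme.range_fromSpecStalk] at this
    exact this
  let C : Set X := closure {j Q}
  have hr : Set.range (Scheme.IdealSheafData.vanishingIdeal
      (⟨C, isClosed_closure⟩ : TopologicalSpace.Closeds X)).subschemeι = C :=
    CohFinite.range_vanishingIdeal_subschemeι isClosed_closure
  let I := Scheme.IdealSheafData.vanishingIdeal (⟨C, isClosed_closure⟩ : TopologicalSpace.Closeds X)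
  let i := I.subschemeι
  obtain ⟨z₀, hz₀⟩ : j Q ∈ Set.range i := by rw [hr]; exact subset_closure rfl
  obtain ⟨x₀, hx₀⟩ : x ∈ Set.range i := by rw [hr]; exact specializes_iff_mem_closure.1 hzx
  have hin : ∀ b, j Q ⤳ i b := fun b => by
    rw [specializes_iff_mem_closure]
    exact hr.le ⟨b, rfl⟩
  have hemb := i.isClosedEmbedding.isEmbedding
  have hfx : ∀ b, (i ≫ f) b = (i ≫ f) x₀ → f (i b) = f x := fun b h => by
    rw [← hx₀]; simpa using h
  refine ⟨I, z₀, x₀, hx₀, CurveCut.quasiFiniteAt_of_isolated (i ≫ f) x₀ (fun b hb hba => ?_)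
    (fun b hb hab => ?_), ?_, ?_, ?_⟩
  · have hbx : i b ⤳ x := hx₀ ▸ hba.map i.continuous
    obtain ⟨Q', hQ'⟩ := hj (i b) hbx
    have hle : Q.asIdeal ≤ Q'.asIdeal :=
      (PrimeSpectrum.le_iff_specializes Q Q').2 (j.isEmbedding.isInducing.specializes_iff.1
        (hQ'.symm ▸ hin b))
    rcases hle.eq_or_lt with e | hlt
    · exact absurd (hfx b hb) (by rw [← hQ', ← PrimeSpectrum.ext e]; exact hfz)
    · refine hemb.injective ?_
      show i b = i x₀
      rw [← hQ', hQmax Q' hlt, hx₀]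
      exact Scheme.fromSpecStalk_closedPoint
  · refine hemb.injective ?_
    show i b = i x₀
    have h1 : (⟨i x₀, by rw [hx₀]; rfl⟩ : ↑(f ⁻¹' {f x})) ⤳ ⟨i b, hfx b hb⟩ :=
      (subtype_specializes_iff _ _).2 (hab.map i.continuous)
    have h2 := h1.mem_closed hcl hx₀
    exact (show i b = x from h2).trans hx₀.symm
  · show i z₀ ∈ U
    rw [hz₀]; exact hQU
  · show i z₀ ⤳ x
    rw [hz₀]; exact hzx
  · show f (i z₀) ≠ f x
    rw [hz₀]; exact hfz

end Groth.Agent.S1411
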