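import Groth.Statements.S14110
import Groth.Agent.FlatDescent.CM.Scheme
import Groth.Agent.J2Lib.Descent

set_option autoImplicit false
universe u
open CategoryTheory CategoryTheory.Limits AlgebraicGeometry Opposite TopologicalSpace
open CInt

namespace Groth.Agent.S14110

theorem dim_comp_le {A B C : Type u} [CommRing A] [CommRing B] [CommRing C] [IsLocalRing A] [IsLocalRing B]
    [IsLocalRing C] (φ : A →+* B) [IsLocalHom φ] (ψ : B →+* C) [IsLocalHom ψ] (hψ : ψ.Flat) :
    ringKrullDim (B ⧸ (IsLocalRing.maximalIdeal A).map φ) ≤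
      ringKrullDim (C ⧸ ((IsLocalRing.maximalIdeal A).map φ).map ψ) := by
  let I := (IsLocalRing.maximalIdeal A).map φ
  let J := I.map ψ
  have hI : I ≤ IsLocalRing.maximalIdeal B := ((IsLocalRing.local_hom_TFAE φ).out 0 2 rfl rfl).mp ‹_›
  have hJ : J ≤ IsLocalRing.maximalIdeal C :=
    (Ideal.map_mono hI).trans (((IsLocalRing.local_hom_TFAE ψ).out 0 2 rfl rfl).mp ‹_›)
  haveI : Nontrivial (B ⧸ I) :=
    Ideal.Quotient.nontrivial_iff.mpr (ne_top_of_le_ne_top (IsLocalRing.maximalIdeal.isMaximal B).ne_top hI)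
  haveI : Nontrivial (C ⧸ J) :=
    Ideal.Quotient.nontrivial_iff.mpr (ne_top_of_le_ne_top (IsLocalRing.maximalIdeal.isMaximal C).ne_top hJ)
  haveI : IsLocalRing (B ⧸ I) := IsLocalRing.of_surjective' (Ideal.Quotient.mk I) Ideal.Quotient.mk_surjective
  haveI : IsLocalRing (C ⧸ J) := IsLocalRing.of_surjective' (Ideal.Quotient.mk J) Ideal.Quotient.mk_surjective
  let θ : B ⧸ I →+* C ⧸ J := Ideal.quotientMap J ψ Ideal.le_comap_map
  have hθ : θ.Flat := Groth.FlatDescent.flat_of_surjective_of_ker ψ hψ (Ideal.Quotient.mk I) Ideal.Quotient.mk_surjective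
    (Ideal.Quotient.mk J) Ideal.Quotient.mk_surjective (by rw [Ideal.mk_ker, Ideal.mk_ker]) θ (RingHom.ext fun _ => rfl)
  letI := θ.toAlgebra
  haveI : Module.Flat (B ⧸ I) (C ⧸ J) := hθ
  haveI : IsLocalHom (algebraMap (B ⧸ I) (C ⧸ J)) := ⟨fun a ha => by
    obtain ⟨b, rfl⟩ := Ideal.Quotient.mk_surjective a
    haveI : IsLocalHom (Ideal.Quotient.mk J) := IsLocalHom.of_surjective _ Ideal.Quotient.mk_surjective
    exact (isUnit_of_map_unit ψ b (isUnit_of_map_unit (Ideal.Quotient.mk J) (ψ b) ha)).map _⟩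
  exact Groth.Agent.J2Lib.ringKrullDim_le_of_flat (B ⧸ I) (C ⧸ J)

/-- Let f : X → S and g : X' → X be morphisms of locally Noetherian schemes with f a Cohen–Macaulay
morphism (flat, every local ring of every fibre a Cohen–Macaulay local ring) and g flat, Y a closed
subset of X and Y' its preimage under g. Then the codimension of Y relative to f (the infimum over y
∈ Y of the Krull dimension of the local ring at y of the fibre of f through y) is at most the
codimension of Y' relative to the composite X' → S. -/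
theorem result {X X' S : Scheme.{u}} [IsLocallyNoetherian X]
    [IsLocallyNoetherian X'] [IsLocallyNoetherian S] (f : X ⟶ S) [Flat f]
    (hCM : ∀ x : ↥X, LocCoh.IsCohenMacaulayLocalRing ↑(CInt.fiberStalk f x)) (g : X' ⟶ X) [Flat g]
    (Y : Set ↥X) (hY : IsClosed Y) :
    (⨅ y : Y, ringKrullDim ↑(CInt.fiberStalk f y.1)) ≤
      ⨅ y' : (fun x' => g x') ⁻¹' Y, ringKrullDim ↑(CInt.fiberStalk (g ≫ f) y'.1) := by
  refine le_iInf fun y' => iInf_le_of_le ⟨g y'.1, y'.2⟩ ?_
  obtain ⟨e₁⟩ := Groth.FlatDescent.CM.exists_fibreStalkEquiv f (g y'.1)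
  obtain ⟨e₂⟩ := Groth.FlatDescent.CM.exists_fibreStalkEquiv (g ≫ f) y'.1
  show ringKrullDim ((f.fiber (f (g y'.1))).presheaf.stalk (f.asFiber (g y'.1))) ≤
    ringKrullDim (((g ≫ f).fiber ((g ≫ f) y'.1)).presheaf.stalk ((g ≫ f).asFiber y'.1))
  rw [← ringKrullDim_eq_of_ringEquiv e₁, ← ringKrullDim_eq_of_ringEquiv e₂, Groth.FlatDescent.maxExt_comp]
  exact dim_comp_le (f.stalkMap (g y'.1)).hom (g.stalkMap y'.1).hom (Flat.stalkMap g y'.1)

end Groth.Agent.S14110
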