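import Groth.Statements.S14112
import Groth.Agent.DQC.Affine
import Groth.Agent.DCohPerf.Restrict
import Groth.Agent.S12451
import Groth.Agent.LocFree.Retract
-- import your own Groth.Agent.* helpers here

set_option autoImplicit false
universe u
open CategoryTheory CategoryTheory.Limits AlgebraicGeometry Opposite TopologicalSpace
attribute [local instance] HasDerivedCategory.standard
open DCoh

namespace Groth.Agent.S14112

open CategoryTheory.Pretriangulated HomologicalComplex

/-- Transfer of bijectivity on homs, reflecting. -/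
lemma bij_reflect {A B C D : Type*} [Category A] [Category B] [Category C] [Category D] {Q : A ⥤ B} {Q' : C ⥤ D}
    {GA : A ⥤ C} [GA.Full] [GA.Faithful] {GB : B ⥤ D} [GB.Faithful] (α : GA ⋙ Q' ≅ Q ⋙ GB)
    {C₁ : Type*} [Category C₁] {q : C₁ ⥤ A} (x y : C₁)
    (h : Function.Bijective (fun φ : GA.obj (q.obj x) ⟶ GA.obj (q.obj y) => Q'.map φ)) :
    Function.Bijective (fun φ : q.obj x ⟶ q.obj y => Q.map φ) := by
  have key : ∀ φ : q.obj x ⟶ q.obj y, GB.map (Q.map φ) = α.inv.app _ ≫ Q'.map (GA.map φ) ≫ α.hom.app _ := fun φ => by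
    have := α.hom.naturality φ
    simp only [Functor.comp_map] at this
    rw [this, Iso.inv_hom_id_app_assoc]
  refine ⟨fun φ ψ e => GA.map_injective (h.1 ?_), fun ξ => ?_⟩
  · have e' := congrArg GB.map e
    simp only [key, cancel_epi, cancel_mono] at e'
    exact e'
  · obtain ⟨t, ht⟩ := h.2 (α.hom.app _ ≫ GB.map ξ ≫ α.inv.app _)
    refine ⟨GA.preimage t, GB.map_injective ?_⟩
    rw [key, Functor.map_preimage]
    simp only at ht
    simp [ht]

/-- Transfer of bijectivity on homs, forward. -/
lemma bij_preserve {A B C D : Type*} [Category A] [Category B] [Category C] [Category D] {Q : A ⥤ B} {Q' : C ⥤ D}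
    {GA : A ⥤ C} [GA.Full] [GA.Faithful] {GB : B ⥤ D} [GB.Full] [GB.Faithful] (α : GA ⋙ Q' ≅ Q ⋙ GB) (x y : A)
    {x' y' : C} (ex : GA.obj x ≅ x') (ey : GA.obj y ≅ y')
    (h : Function.Bijective (fun φ : x ⟶ y => Q.map φ)) :
    Function.Bijective (fun φ : x' ⟶ y' => Q'.map φ) := by
  have key : ∀ φ : x ⟶ y, Q'.map (GA.map φ) = α.hom.app _ ≫ GB.map (Q.map φ) ≫ α.inv.app _ := fun φ => by
    have := α.hom.naturality φ
    simp only [Functor.comp_map] at this
    rw [← Category.assoc, ← this, Category.assoc, Iso.hom_inv_id_app]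
    exact (Category.comp_id _).symm
  refine ⟨fun φ ψ e => ?_, fun ξ => ?_⟩
  · obtain ⟨a, ha⟩ := GA.map_surjective (ex.hom ≫ φ ≫ ey.inv)
    obtain ⟨a', ha'⟩ := GA.map_surjective (ex.hom ≫ ψ ≫ ey.inv)
    have e' : Q'.map (GA.map a) = Q'.map (GA.map a') := by
      simp only at e
      rw [ha, ha', Functor.map_comp, Functor.map_comp, Functor.map_comp, Functor.map_comp, e]
    simp only [key, cancel_epi, cancel_mono] at e'
    have := congrArg GA.map (h.1 (GB.map_injective e'))
    rw [ha, ha'] at this
    simpa using this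
  · obtain ⟨a, ha⟩ := h.2 (GB.preimage (α.inv.app _ ≫ (Q'.mapIso ex).hom ≫ ξ ≫ (Q'.mapIso ey).inv ≫ α.hom.app _))
    refine ⟨ex.inv ≫ GA.map a ≫ ey.hom, ?_⟩
    simp only at ha
    simp [key, ha]

lemma isEquivalence_restrict {Y X : Scheme.{u}} (e : Y ≅ X) :
    (Scheme.Modules.restrictFunctor e.hom).IsEquivalence :=
  Functor.IsEquivalence.mk' (Scheme.Modules.restrictFunctor e.inv)
    ((Scheme.Modules.restrictFunctorId).symm ≪≫ Scheme.Modules.restrictFunctorCongr e.inv_hom_id.symm ≪≫
      Scheme.Modules.restrictFunctorComp e.inv e.hom)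
    ((Scheme.Modules.restrictFunctorComp e.hom e.inv).symm ≪≫ Scheme.Modules.restrictFunctorCongr e.hom_inv_id ≪≫
      Scheme.Modules.restrictFunctorId)

lemma faithful_RD {Y X : Scheme.{u}} (e : Y ≅ X) : (DCohPerf.RD e.hom).Faithful := by
  let i : DCohPerf.RD (𝟙 X) ≅ 𝟭 (DCoh.D X) :=
    Localization.liftNatIso DerivedCategory.Q (HomologicalComplex.quasiIso X.Modules (ComplexShape.up ℤ))
      (DCohPerf.rC (𝟙 X) ⋙ DerivedCategory.Q) DerivedCategory.Q (DCohPerf.RD (𝟙 X)) (𝟭 _)
      (Functor.isoWhiskerRight (NatIso.mapHomologicalComplex Scheme.Modules.restrictFunctorId _ ≪≫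
        Functor.mapHomologicalComplexIdIso _ _) _ ≪≫ Functor.leftUnitor _)
  exact Functor.Faithful.of_comp_iso ((DCohPerf.RDComp e.inv e.hom).symm ≪≫ DCohPerf.RDCongr e.inv_hom_id ≪≫ i)

/-- The affine case. -/
theorem affine_bij (R : CommRingCat.{u}) (E F : CochainComplex (Spec R).Modules ℤ) (b : ℤ)
    (hEb : ∀ i : ℤ, b < i → IsZero (E.X i)) (hE : ∀ i : ℤ, FlatMod.IsFinLocFree (E.X i))
    (hF : ∀ i : ℤ, Coh.IsQCoh (F.X i)) :
    Function.Bijective (fun φ : (HomotopyCategory.quotient _ (ComplexShape.up ℤ)).obj E ⟶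
        (HomotopyCategory.quotient _ (ComplexShape.up ℤ)).obj F =>
      (DerivedCategory.Qh (C := (Spec R).Modules)).map φ) := by
  haveI := DQC.full_tildeD R
  haveI := DQC.faithful_tildeD R
  let Γ' := moduleSpecΓFunctor (R := R)
  let T := tilde.functor R
  let P := (Γ'.mapHomologicalComplex (ComplexShape.up ℤ)).obj E
  let M := (Γ'.mapHomologicalComplex (ComplexShape.up ℤ)).obj F
  have key : ∀ (G : CochainComplex (Spec R).Modules ℤ), (∀ i, Coh.IsQCoh (G.X i)) →
      Nonempty ((T.mapHomologicalComplex (ComplexShape.up ℤ)).obj ((Γ'.mapHomologicalComplex (ComplexShape.up ℤ)).obj G) ≅ G) :=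
    fun G hG => ⟨Hom.isoOfComponents (fun i => haveI := hG i; QCohLib.counitIso (G.X i))
      fun i j _ => ((tilde.adjunction (R := R)).counit.naturality (G.d i j)).symm⟩
  obtain ⟨eE⟩ := key E fun i => (DCohPerf.isCoh_finLocFree (hE i)).1
  obtain ⟨eF⟩ := key F hF
  haveI : ∀ i, Projective (P.X i) := fun i => by
    haveI := (DCohPerf.isCoh_finLocFree (hE i)).1
    haveI : Module.Projective R (QCohLib.ΓR (E.X i)) :=
      ((S12451.result _).1 (LocFree.IsFinLocFree.of_iso (QCohLib.counitIso (E.X i)).symm (hE i))).2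
    exact ((QCohLib.ΓR (E.X i)).projective_of_categoryTheory_projective)
  haveI : CochainComplex.IsStrictlyLE P b := (CochainComplex.isStrictlyLE_iff _ _).2 fun i hi => Γ'.map_isZero (hEb i hi)
  haveI : CochainComplex.IsKProjective P := CochainComplex.isKProjective_of_projective P b
  exact bij_preserve (GA := T.mapHomotopyCategory (ComplexShape.up ℤ)) (GB := T.mapDerivedCategory)
    T.mapDerivedCategoryFactorsh.symm _ _
    ((T.mapHomotopyCategoryFactors (ComplexShape.up ℤ)).app P ≪≫ (HomotopyCategory.quotient _ _).mapIso eE)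
    ((T.mapHomotopyCategoryFactors (ComplexShape.up ℤ)).app M ≪≫ (HomotopyCategory.quotient _ _).mapIso eF)
    (CochainComplex.IsKProjective.Qh_map_bijective P _)

/-- Let X be an affine scheme, E a bounded above cochain complex of finite locally free O_X-modules (a
strictly pseudo-coherent complex) and F a cochain complex of quasi-coherent O_X-modules. Then the
canonical map from morphisms E → F in the homotopy category K(O_X) to morphisms E → F in the derived
category D(O_X) is bijective. (The published statement allows F to be any complex of O_X-modules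
with quasi-coherent cohomology sheaves; that is false already for E = O_X on the affine line over a
field, taking for F the two-term complex given by multiplication by x - 1 on the extension by zero
of the structure sheaf of the complement of the origin, whose only cohomology sheaf is the
skyscraper at the point 1 while it has no nonzero global sections; the published proof first
replaces F by a complex of quasi-coherent modules, and this row takes F of that form.) -/
theorem result {X : Scheme.{u}} [IsAffine X]
    (E F : CochainComplex X.Modules ℤ) (b : ℤ) (hEb : ∀ i : ℤ, b < i → IsZero (E.X i))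
    (hE : ∀ i : ℤ, FlatMod.IsFinLocFree (E.X i)) (hF : ∀ i : ℤ, Coh.IsQCoh (F.X i)) :
    Function.Bijective (fun φ : (HomotopyCategory.quotient X.Modules (ComplexShape.up ℤ)).obj E ⟶
        (HomotopyCategory.quotient X.Modules (ComplexShape.up ℤ)).obj F =>
      (DerivedCategory.Qh (C := X.Modules)).map φ) := by
  let e := X.isoSpec.inv
  let F' := Scheme.Modules.restrictFunctor e
  haveI : F'.IsEquivalence := isEquivalence_restrict X.isoSpec.symm
  haveI : F'.mapDerivedCategory.Faithful := faithful_RD X.isoSpec.symm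
  refine bij_reflect F'.mapDerivedCategoryFactorsh.symm E F ?_
  exact affine_bij Γ(X, ⊤) _ _ b (fun i hi => F'.map_isZero (hEb i hi)) (fun i => DCohPerf.isFinLocFree_restrict (hE i) e)
    fun i => haveI := hF i; (inferInstance : ((F.X i).restrict e).IsQuasicoherent)

end Groth.Agent.S14112
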