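import Groth.Statements.S14113
import Groth.Agent.S14112
-- import your own Groth.Agent.* helpers here

set_option autoImplicit false
universe u
open CategoryTheory CategoryTheory.Limits AlgebraicGeometry Opposite TopologicalSpace
attribute [local instance] HasDerivedCategory.standard
open DCoh

namespace Groth.Agent.S14113

/-- Let X be an affine scheme and E a bounded above cochain complex of finite locally free O_X-modules
(a strictly pseudo-coherent complex). Then E is acyclic if and only if the identity of E is null
homotopic. -/
theorem result {X : Scheme.{u}} [IsAffine X]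
    (E : CochainComplex X.Modules ℤ) (b : ℤ) (hEb : ∀ i : ℤ, b < i → IsZero (E.X i))
    (hE : ∀ i : ℤ, FlatMod.IsFinLocFree (E.X i)) :
    E.Acyclic ↔ Nonempty (Homotopy (𝟙 E) 0) := by
  constructor
  · intro h
    have hz : IsZero ((DerivedCategory.Qh (C := X.Modules)).obj ((HomotopyCategory.quotient X.Modules (ComplexShape.up ℤ)).obj E)) := by
      refine IsZero.of_iso ?_ ((DerivedCategory.quotientCompQhIso X.Modules).app E)
      have hv : ∀ i : ℤ, IsZero (DCoh.HD (DCoh.toD X E) i) := fun i =>
        ((HomologicalComplex.exactAt_iff_isZero_homology E i).1 (h i)).of_iso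
          ((DerivedCategory.homologyFunctorFactors X.Modules i).app E)
      let t : Triangulated.TStructure (DCoh.D X) := DerivedCategory.TStructure.t
      haveI : t.IsLE (DCoh.toD X E) 0 := (DerivedCategory.isLE_iff _ 0).2 fun i _ => hv i
      haveI : t.IsGE (DCoh.toD X E) 1 := (DerivedCategory.isGE_iff _ 1).2 fun i _ => hv i
      exact t.isZero (DCoh.toD X E) 0 1 (by omega)
    exact ⟨HomotopyCategory.homotopyOfEq _ _ ((S14112.result E E b hEb hE (fun i => (DCohPerf.isCoh_finLocFree (hE i)).1)).1
      (hz.eq_of_src _ _))⟩
  · rintro ⟨h⟩ i
    rw [HomologicalComplex.exactAt_iff_isZero_homology, IsZero.iff_id_eq_zero, ← HomologicalComplex.homologyMap_id, h.homologyMap_eq i,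
      HomologicalComplex.homologyMap_zero]

end Groth.Agent.S14113
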