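import Groth.Statements.S14115
import Mathlib.Tactic.Abel
import Mathlib.Tactic.Ring
-- import your own Groth.Agent.* helpers here

set_option autoImplicit false
universe u v
open SuperComm

namespace Groth.Agent.S14115

/-- Let S be an associative unital algebra over a commutative ring R, x an element and y_0, …, y_n
elements such that the anticommutator x y_i + y_i x equals r_i · 1 for scalars r_i ∈ R. Then the
graded commutator of x with the ordered product y_0 ⋯ y_n, namely x (y_0 ⋯ y_n) + (-1)^n (y_0 ⋯ y_n)
x, equals the sum over p of (-1)^p r_p times the ordered product of the y_q with q ≠ p. (The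
published statement takes x homogeneous of degree 1 and the y_i homogeneous of degree -1 in a graded
algebra with unit in degree 0, the signs being those of the supercommutator; this row states the
identity for arbitrary elements satisfying the anticommutation relations, which is what the
computation proves.) -/
theorem result {R : Type u} {S : Type v} [CommRing R] [Ring S]
    [Algebra R S] (n : ℕ) (x : S) (y : Fin (n + 1) → S) (r : Fin (n + 1) → R)
    (h : ∀ i : Fin (n + 1), x * y i + y i * x = algebraMap R S (r i)) :
    x * (List.ofFn y).prod + (-1 : S) ^ n * ((List.ofFn y).prod * x) =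
      ∑ p : Fin (n + 1), (-1 : S) ^ (p : ℕ) * (r p • (List.ofFn (fun q : Fin n => y (p.succAbove q))).prod) := by
  induction n with
  | zero =>
    simp only [List.ofFn_succ, List.ofFn_zero, List.prod_cons, List.prod_nil, mul_one, pow_zero, one_mul,
      Fin.sum_univ_one, Fin.val_zero]
    rw [h 0, Algebra.algebraMap_eq_smul_one]
    simp
  | succ n ih =>
    have hih := ih (fun i => y i.succ) (fun i => r i.succ) (fun i => h i.succ)
    have hP : (List.ofFn y).prod = y 0 * (List.ofFn fun i => y i.succ).prod := by
      rw [List.ofFn_succ, List.prod_cons]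
    set P := (List.ofFn fun i => y i.succ).prod with hPdef
    rw [Fin.sum_univ_succ]
    have h0 : (List.ofFn fun q : Fin (n + 1) => y ((0 : Fin (n + 2)).succAbove q)).prod = P := by
      simp only [Fin.succAbove_zero, hPdef]
    have hs : ∀ p : Fin (n + 1), (List.ofFn fun q : Fin (n + 1) => y (p.succ.succAbove q)).prod =
        y 0 * (List.ofFn fun q : Fin n => y (p.succAbove q).succ).prod := fun p => by
      rw [List.ofFn_succ, List.prod_cons, Fin.succ_succAbove_zero]
      simp only [Fin.succ_succAbove_succ]
    simp only [h0, hs, Fin.val_zero, pow_zero, one_mul, Fin.val_succ]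
    have hsum : ∑ p : Fin (n + 1), (-1 : S) ^ ((p : ℕ) + 1) *
        (r p.succ • (y 0 * (List.ofFn fun q : Fin n => y (p.succAbove q).succ).prod)) =
        -(y 0 * ∑ p : Fin (n + 1), (-1 : S) ^ (p : ℕ) *
          (r p.succ • (List.ofFn fun q : Fin n => y (p.succAbove q).succ).prod)) := by
      rw [Finset.mul_sum, ← Finset.sum_neg_distrib]
      refine Finset.sum_congr rfl fun p _ => ?_
      rw [← mul_smul_comm, ← mul_assoc (y 0), ((Commute.neg_one_right (y 0)).pow_right _).eq,
        pow_succ, mul_neg_one, neg_mul, mul_assoc]
    rw [hsum, ← hih, hP]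
    have hx : x * (y 0 * P) = r 0 • P - y 0 * (x * P) := by
      rw [← mul_assoc, eq_sub_of_add_eq (h 0), sub_mul, mul_assoc, ← Algebra.smul_def]
    rw [hx, pow_succ, mul_neg_one, neg_mul, mul_add, ← mul_assoc (y 0) ((-1 : S) ^ n),
      ((Commute.neg_one_right (y 0)).pow_right n).eq]
    simp only [mul_assoc]
    abel

end Groth.Agent.S14115
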