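import Groth.Statements.S14116
import Groth.Agent.KoszulHZ.Global
import Groth.Agent.KoszulHZ.FirstNonzero
import Groth.Agent.DCohPerf.FreeLocus
import Groth.Agent.DCohPerf.Local
import Groth.Agent.DCohPerf.Coherent
import Groth.Agent.FreeCx.Depth
-- import your own Groth.Agent.* helpers here

set_option autoImplicit false
universe u
open CategoryTheory CategoryTheory.Limits AlgebraicGeometry Opposite TopologicalSpace
open LocCohZ

namespace Groth.Agent.S14116

open Groth.Agent in
set_option backward.isDefEq.respectTransparency false in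
theorem aux (X : Scheme.{u}) [IsLocallyNoetherian X] (U : X.Opens) (d : ℕ)
    (hdepth : ∀ x : ↥X, x ∉ (U : Set ↥X) → (d : ℕ∞) ≤ LocCoh.depth ↑(X.presheaf.stalk x) ↑(X.presheaf.stalk x))
    (M : X.Modules) (hM : FlatMod.IsFinLocFree M) :
    Nonempty (↑(((LocCohZ.HZsh (X := X.carrier) U d).obj (Coh.toAb M)).obj.obj (op ⊤)) ≃+ LocCohZ.HZM X M d U) := by
  have hc := DCohPerf.isCoh_finLocFree hM
  haveI := hc.1
  have h := (KoszulHZ.isZero_below_iff_depth M hc U d).2 fun x hx => by
    obtain ⟨hfree, hfin⟩ := DCohPerf.free_stalk_of_finLocFree (M := M) (W := ⊤)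
      (DCohPerf.isFinLocFree_restrict hM (⊤ : X.Opens).ι) (x := x) trivial
    exact FreeCx.le_depth_free _ (hdepth x hx)
  obtain ⟨e⟩ := KoszulHZ.nonempty_sections_of_lower_vanishing (X := X.carrier) U (Coh.toAb M) ⊤ d h
  have key : ∀ (a : TopologicalSpace.Opens X.carrier) (ha : a ≤ ⊤) (hb : U ≤ ⊤), a = U →
      Nonempty (LocCohZ.HZ (X := X.carrier) (Coh.toAb M) d ha ≃+ LocCohZ.HZ (X := X.carrier) (Coh.toAb M) d hb) := by
    intro a ha hb h
    subst h
    exact ⟨AddEquiv.refl _⟩
  obtain ⟨e'⟩ := key _ inf_le_left le_top (top_inf_eq _)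
  exact ⟨e.trans e'⟩

/-- Let X be a locally Noetherian scheme, U ⊆ X open with closed complement Y, d a natural number such
that the depth of O_X along Y is at least d (every local ring O_{X,y}, y ∈ Y, has depth at least d),
and M a finite locally free O_X-module. Then Γ(X, ℋ^d_Y(M)) is isomorphic to H^d_Y(X, M), where
ℋ^d_Y is the d-th right derived functor of the sheaf of sections with support in Y (applied to the
underlying abelian sheaf of M) and H^d_Y(X, M) is cohomology with support in Y. Existence of an
additive isomorphism only; the published statement asserts a canonical functorial isomorphism that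
is linear over the global functions Γ(X, O_X) (obtained in its proof as the edge map of the
local-to-global spectral sequence), and adds that U ↦ H^d_{Y∩U}(U, M), U ⊆ X open, is a sheaf; none
of this is part of this row. (The published statement assumes a flat morphism X → S with
Cohen–Macaulay fibres and relative codimension of Y at least d; these enter only through the depth
bound, which is the hypothesis of this row.) -/
theorem result (X : Scheme.{u}) [IsLocallyNoetherian X]
    (U : X.Opens) (d : ℕ)
    (hdepth : ∀ x : ↥X, x ∉ (U : Set ↥X) → (d : ℕ∞) ≤ LocCoh.depth ↑(X.presheaf.stalk x) ↑(X.presheaf.stalk x))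
    (M : X.Modules) (hM : FlatMod.IsFinLocFree M) :
    Nonempty (↑(((LocCohZ.HZsh (X := X.carrier) U d).obj (Coh.toAb M)).obj.obj (op ⊤)) ≃+ LocCohZ.HZM X M d U) := by
  exact aux X U d hdepth M hM

end Groth.Agent.S14116
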