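import Groth.Statements.S14118
import Mathlib.LinearAlgebra.Trace
import Groth.Agent.S14117
-- import your own Groth.Agent.* helpers here

set_option autoImplicit false
universe u v w
open SuperComm

namespace Groth.Agent.S14118

theorem trace_block_comp {R : Type u} [CommRing R] {ι : Type v} [Fintype ι] [DecidableEq ι] {M : ι → Type w}
    [∀ i, AddCommGroup (M i)] [∀ i, Module R (M i)] [∀ i, Module.Free R (M i)] [∀ i, Module.Finite R (M i)]
    (f g : (Π k, M k) →ₗ[R] (Π k, M k)) (i : ι) :
    LinearMap.trace R (M i) ((LinearMap.proj i) ∘ₗ (f ∘ₗ g) ∘ₗ (LinearMap.single R M i)) =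
      ∑ j, LinearMap.trace R (M i) (((LinearMap.proj i) ∘ₗ f ∘ₗ (LinearMap.single R M j)) ∘ₗ
        ((LinearMap.proj j) ∘ₗ g ∘ₗ (LinearMap.single R M i))) := by
  rw [← map_sum]
  congr 1
  refine LinearMap.ext fun x => ?_
  simp only [LinearMap.comp_apply, LinearMap.sum_apply, LinearMap.proj_apply, ← Finset.sum_apply, ← map_sum]
  exact congrArg (fun z => f z i) (Finset.univ_sum_single (g (Pi.single i x))).symm

theorem negOnePow_natAbs_add {R : Type u} [CommRing R] (m n : ℤ) :
    (-1 : R) ^ (m + n).natAbs = (-1 : R) ^ m.natAbs * (-1 : R) ^ n.natAbs := by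
  rw [← pow_add, neg_one_pow_eq_pow_mod_two, neg_one_pow_eq_pow_mod_two (m.natAbs + n.natAbs)]
  congr 1
  omega


/-- Let R be a commutative ring and M a finitely ℤ-graded R-module with finitely many nonzero graded
pieces, each finite free, presented as a finite family of finite free R-modules M_i with integer
degrees deg i (the piece of degree n being the product of the M_i with deg i = n); an endomorphism φ
of the total module Π_i M_i has degree a when its (i, j) block vanishes unless deg j = deg i + a;
the supertrace of an endomorphism is the trace of its composite with the grading involution ε = Σ_i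
(-1)^{deg i} pr_i. If φ and ψ have degrees a and b, the supertrace of the supercommutator φψ -
(-1)^{ab} ψφ vanishes. (The published statement allows the graded pieces to be finitely generated
projective; this row takes them finite free, where the trace is the ordinary trace of a free
module.) -/
theorem result {R : Type u} [CommRing R] {ι : Type v} [Fintype ι] [DecidableEq ι]
    (deg : ι → ℤ) (M : ι → Type w) [∀ i, AddCommGroup (M i)] [∀ i, Module R (M i)]
    [∀ i, Module.Free R (M i)] [∀ i, Module.Finite R (M i)]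
    (a b : ℤ) (φ ψ : (Π k, M k) →ₗ[R] (Π k, M k))
    (hφ : ∀ i j : ι, deg j ≠ deg i + a → (LinearMap.proj j) ∘ₗ φ ∘ₗ (LinearMap.single R M i) = 0)
    (hψ : ∀ i j : ι, deg j ≠ deg i + b → (LinearMap.proj j) ∘ₗ ψ ∘ₗ (LinearMap.single R M i) = 0) :
    LinearMap.trace R (Π k, M k)
      ((∑ i : ι, (LinearMap.single R M i) ∘ₗ (((-1 : R) ^ (deg i).natAbs) • (LinearMap.proj i : (Π k, M k) →ₗ[R] M i))) ∘ₗ (φ ∘ₗ ψ - ((-1 : R) ^ (a * b).natAbs) • (ψ ∘ₗ φ))) = 0 := by
  rw [Groth.Agent.S14117.trace_pi]
  rw [Finset.sum_congr rfl fun i _ => congrArg (LinearMap.trace R (M i))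
    (Groth.Agent.S14117.proj_grading_comp (fun j => (-1 : R) ^ (deg j).natAbs) _ i)]
  simp only [LinearMap.sub_comp, LinearMap.comp_sub, LinearMap.smul_comp, LinearMap.comp_smul, map_smul, map_sub,
    smul_sub, smul_eq_mul, Finset.sum_sub_distrib]
  rw [sub_eq_zero]
  simp only [trace_block_comp, Finset.mul_sum]
  conv_rhs => rw [Finset.sum_comm]
  refine Finset.sum_congr rfl fun i _ => Finset.sum_congr rfl fun j _ => ?_
  rw [LinearMap.trace_comp_comm']
  by_cases h1 : deg i = deg j + a
  swap
  · simp [hφ j i h1]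
  by_cases h2 : deg j = deg i + b
  swap
  · simp [hψ i j h2]
  rw [← mul_assoc]
  congr 1
  have ha : a = -b := by omega
  rw [h2, negOnePow_natAbs_add, mul_assoc, ha]
  suffices (-1 : R) ^ b.natAbs * (-1 : R) ^ (-b * b).natAbs = 1 by rw [this, mul_one]
  rw [← pow_add]
  refine Even.neg_one_pow ?_
  rw [Int.natAbs_mul, Int.natAbs_neg, show b.natAbs + b.natAbs * b.natAbs = b.natAbs * (b.natAbs + 1) by ring]
  exact Nat.even_mul_succ_self _

end Groth.Agent.S14118
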