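import Groth.Statements.S1413
import Groth.Agent.SourceDescent.Basic
-- import your own Groth.Agent.* helpers here

set_option autoImplicit false
set_option backward.isDefEq.respectTransparency.types false
universe u
open FlatMor

namespace Groth.Agent.S1413

open AlgebraicGeometry CategoryTheory Limits in
/-- Let X → Y → Z be morphisms with X → Y flat and surjective and with the diagonal of X over Z flat.
Then the diagonal of Y over Z is flat. -/
theorem result {X Y Z : Scheme.{u}} (f : X ⟶ Y) (g : Y ⟶ Z) [Flat f] [Surjective f] [Flat (pullback.diagonal (f ≫ g))] :
    Flat (pullback.diagonal g) := by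
  have : Flat (f ≫ pullback.diagonal g) := by
    have e : f ≫ pullback.diagonal g = pullback.diagonal (f ≫ g) ≫
        pullback.map (f ≫ g) (f ≫ g) g g f f (𝟙 Z) (by simp) (by simp) := by
      apply pullback.hom_ext
      · rw [Category.assoc, Category.assoc, pullback.diagonal_fst]
        erw [pullback.lift_fst]
        rw [Category.comp_id, pullback.diagonal_fst_assoc]
      · rw [Category.assoc, Category.assoc, pullback.diagonal_snd]
        erw [pullback.lift_snd]
        rw [Category.comp_id, pullback.diagonal_snd_assoc]
    rw [e]
    exact MorphismProperty.comp_mem _ _ _ ‹Flat (pullback.diagonal (f ≫ g))›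
      (MorphismProperty.pullbackMap (P := @Flat) inferInstance inferInstance rfl rfl)
  exact Groth.Agent.SourceDescent.flat_of_comp f (pullback.diagonal g)

end Groth.Agent.S1413
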