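import Groth.Statements.S14136
import Groth.Agent.CurveVB.Basic
-- import your own Groth.Agent.* helpers here

set_option autoImplicit false
set_option backward.isDefEq.respectTransparency false
universe u
open CategoryTheory CategoryTheory.Limits AlgebraicGeometry
open VBCurve

namespace Groth.Agent.S14136

/-- Let C be a smooth proper geometrically connected curve over a field k (proper, smooth and
geometrically connected over k, of dimension one), and E, F finite locally free O_C-modules of ranks
r ≥ 1 and s ≥ 1 which are semistable: for every finite locally free submodule G of E of rank r' ≥ 1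
one has deg G · r ≤ deg E · r', and similarly for F; here the degree of a rank-n locally free module
is χ(G) − n·χ(O_C), and semistability is tested on submodules, which is equivalent to the definition
through quotient bundles. If μ(E) > μ(F), that is deg E · s > deg F · r, then every homomorphism E →
F is zero. -/
theorem result (k : Type u) [Field k] (X : Scheme.{u}) [X.Over (Spec (CommRingCat.of k))]
    [IsProper (X ↘ Spec (CommRingCat.of k))] [Smooth (X ↘ Spec (CommRingCat.of k))]
    [GeometricallyConnected (X ↘ Spec (CommRingCat.of k))] (hdim : topologicalKrullDim ↥X = 1)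
    (r s : ℕ) (hr : 0 < r) (hs : 0 < s) (E F : X.Modules)
    (hE : FlatMod.IsFinLocFreeOfRank r E) (hF : FlatMod.IsFinLocFreeOfRank s F)
    (hEss : (∀ (G : X.Modules) (r' : ℕ) (i : G ⟶ E), Mono i → 0 < r' → FlatMod.IsFinLocFreeOfRank r' G →
      Curv2.deg k X G r' * (r : ℤ) ≤ Curv2.deg k X E r * (r' : ℤ)))
    (hFss : (∀ (G : X.Modules) (r' : ℕ) (i : G ⟶ F), Mono i → 0 < r' → FlatMod.IsFinLocFreeOfRank r' G →
      Curv2.deg k X G r' * (s : ℤ) ≤ Curv2.deg k X F s * (r' : ℤ)))
    (hslope : Curv2.deg k X F s * (r : ℤ) < Curv2.deg k X E r * (s : ℤ)) (f : E ⟶ F) : f = 0 := by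
  haveI := Groth.Agent.CurveVB.isIntegral_of_geometricallyConnected (X ↘ Spec (CommRingCat.of k))
  by_contra hf
  obtain ⟨K, I, q, t, i, p, j, hi, hj, -, -, hq, ht, hr', hts, hdeg, hm, hz⟩ :=
    Groth.Agent.CurveVB.exists_split k hdim hE hF f
  have ht0 : 0 < t := Nat.pos_of_ne_zero fun h => hf (hz h)
  have h2 := hFss I t j hj ht0 ht
  have h1 : Curv2.deg k X E r * (t : ℤ) ≤ Curv2.deg k X I t * (r : ℤ) := by
    rcases Nat.eq_zero_or_pos q with h0 | h0
    · haveI := hm h0
      subst h0
      have hrt : r = t := by omega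
      subst hrt
      rw [hdeg]
      have hK0 : Curv2.deg k X K 0 ≤ 0 ∧ 0 ≤ Curv2.deg k X K 0 := by
        have e := (Groth.Agent.CurveVB.isZero_of_rank_zero hq)
        have hcK := Groth.Agent.DCohPerf.isCoh_finLocFree (Groth.Agent.CurveVB.finLocFree_of_rank hq)
        let S := ShortComplex.mk (0 : K ⟶ K) (0 : K ⟶ K) zero_comp
        haveI : Mono S.f := ⟨fun a b _ => e.eq_of_tgt a b⟩
        haveI : Epi S.g := ⟨fun a b _ => e.eq_of_src a b⟩
        have hS : S.ShortExact := { exact := S.exact_of_isZero_X₂ e }
        have h5 := Groth.Agent.HilbPoly.euler_additive (k := k) hS hcK hcK hcK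
        dsimp only [S] at h5
        simp only [Curv2.deg, Nat.cast_zero, zero_mul, sub_zero]
        constructor <;> linarith
      nlinarith
    · have h3 := hEss K q i hi h0 hq
      rw [hdeg, hr'] at h3 ⊢
      push_cast at h3 ⊢
      nlinarith
  have h4 := mul_le_mul_of_nonneg_right h1 (show (0 : ℤ) ≤ s by positivity)
  have h5 := mul_le_mul_of_nonneg_right h2 (show (0 : ℤ) ≤ r by positivity)
  have h6 := mul_lt_mul_of_pos_right hslope (show (0 : ℤ) < t by exact_mod_cast ht0)
  nlinarith

end Groth.Agent.S14136
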