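import Groth.Statements.S14137
import Groth.Agent.CurveVB.Basic
-- import your own Groth.Agent.* helpers here

set_option autoImplicit false
set_option backward.isDefEq.respectTransparency false
universe u
open CategoryTheory CategoryTheory.Limits AlgebraicGeometry
open VBCurve

namespace Groth.Agent.S14137

/-- Let C be a smooth proper geometrically connected curve over a field k (proper, smooth and
geometrically connected over k, of dimension one), and E a finite locally free O_C-module of rank r
≥ 1 which is stable: for every finite locally free submodule G of E of rank r' ≥ 1 whose inclusion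
is not an isomorphism one has deg G · r < deg E · r', the degree of a rank-n locally free module
being χ(G) − n·χ(O_C) (stability tested on proper submodules, equivalent to the definition through
quotient bundles). Then every nonzero endomorphism of E is an isomorphism, i.e. End(E) is a division
ring. (Over an algebraically closed field it follows that End(E) = k; that consequence is not
restated.) -/
theorem result (k : Type u) [Field k] (X : Scheme.{u}) [X.Over (Spec (CommRingCat.of k))]
    [IsProper (X ↘ Spec (CommRingCat.of k))] [Smooth (X ↘ Spec (CommRingCat.of k))]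
    [GeometricallyConnected (X ↘ Spec (CommRingCat.of k))] (hdim : topologicalKrullDim ↥X = 1)
    (r : ℕ) (hr : 0 < r) (E : X.Modules) (hE : FlatMod.IsFinLocFreeOfRank r E)
    (hEst : (∀ (G : X.Modules) (r' : ℕ) (i : G ⟶ E), Mono i → 0 < r' → FlatMod.IsFinLocFreeOfRank r' G → (¬ IsIso i) →
      Curv2.deg k X G r' * (r : ℤ) < Curv2.deg k X E r * (r' : ℤ)))
    (f : E ⟶ E) (hf : f ≠ 0) : IsIso f := by
  haveI := Groth.Agent.CurveVB.isIntegral_of_geometricallyConnected (X ↘ Spec (CommRingCat.of k))
  obtain ⟨K, I, q, t, i, p, j, hi, hj, -, hif, hq, ht, hr', -, hdeg, hm, hz⟩ :=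
    Groth.Agent.CurveVB.exists_split k hdim hE hE f
  have ht0 : 0 < t := Nat.pos_of_ne_zero fun h => hf (hz h)
  rcases Nat.eq_zero_or_pos q with h0 | h0
  · haveI := hm h0
    exact (Groth.Agent.CurveVB.deg_le_of_mono k hdim hE hE f).2 rfl
  · have h1 := hEst K q i hi h0 hq (fun hiso => hf (by
      haveI := hiso
      exact (cancel_epi i).1 (by rw [hif, comp_zero])))
    have h2 : Curv2.deg k X I t * (r : ℤ) < Curv2.deg k X E r * (t : ℤ) := by
      refine hEst I t j hj ht0 ht fun hiso => ?_
      have hz' : IsZero (cokernel j) := by
        haveI := hiso
        exact isZero_cokernel_of_epi j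
      have h3 := Groth.Agent.CurveVB.stalk_free ht (genericPoint X)
      have h4 := Groth.Agent.CurveVB.stalk_free hE (genericPoint X)
      haveI := hiso
      let e : I.presheaf.stalk (genericPoint X) ≃ₗ[X.presheaf.stalk (genericPoint X)] E.presheaf.stalk (genericPoint X) :=
        ((DerSch.stalkFunctor X (genericPoint X)).mapIso (asIso j)).toLinearEquiv
      have := h3.2.2.symm.trans (e.finrank_eq.trans h4.2.2)
      omega
    rw [hdeg, hr'] at h1 h2
    push_cast at h1 h2
    linarith

end Groth.Agent.S14137
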