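import Groth.Statements.S14139
import Groth.Agent.CurveVB.Basic
import Groth.Agent.S7643
-- import your own Groth.Agent.* helpers here

set_option autoImplicit false
set_option backward.isDefEq.respectTransparency false
universe u
open CategoryTheory CategoryTheory.Limits AlgebraicGeometry
open VBCurve

namespace Groth.Agent.S14139
open Groth.Agent

/-- Let C be a smooth proper geometrically connected curve over a field k (proper, smooth and
geometrically connected over k, of dimension one), and 0 → E₁ → E → E₂ → 0 a short exact sequence of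
finite locally free O_C-modules of ranks r₁, r, r₂ ≥ 1 whose slopes are all equal: deg E₁ · r = deg
E · r₁ and deg E₂ · r = deg E · r₂, the degree of a rank-n locally free module being χ − n·χ(O_C).
Then E is semistable (deg G · r ≤ deg E · r' for every finite locally free submodule G of E of rank
r' ≥ 1) if and only if both E₁ and E₂ are semistable in the same sense. -/
theorem result (k : Type u) [Field k] (X : Scheme.{u}) [X.Over (Spec (CommRingCat.of k))]
    [IsProper (X ↘ Spec (CommRingCat.of k))] [Smooth (X ↘ Spec (CommRingCat.of k))]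
    [GeometricallyConnected (X ↘ Spec (CommRingCat.of k))] (hdim : topologicalKrullDim ↥X = 1)
    (T : ShortComplex X.Modules) (hT : T.ShortExact)
    (r₁ r r₂ : ℕ) (hr₁ : 0 < r₁) (hr : 0 < r) (hr₂ : 0 < r₂)
    (hE₁ : FlatMod.IsFinLocFreeOfRank r₁ T.X₁) (hE : FlatMod.IsFinLocFreeOfRank r T.X₂) (hE₂ : FlatMod.IsFinLocFreeOfRank r₂ T.X₃)
    (hμ₁ : Curv2.deg k X T.X₁ r₁ * (r : ℤ) = Curv2.deg k X T.X₂ r * (r₁ : ℤ))
    (hμ₂ : Curv2.deg k X T.X₃ r₂ * (r : ℤ) = Curv2.deg k X T.X₂ r * (r₂ : ℤ)) :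
    (∀ (G : X.Modules) (r' : ℕ) (i : G ⟶ T.X₂), Mono i → 0 < r' → FlatMod.IsFinLocFreeOfRank r' G →
      Curv2.deg k X G r' * (r : ℤ) ≤ Curv2.deg k X T.X₂ r * (r' : ℤ)) ↔
      ((∀ (G : X.Modules) (r' : ℕ) (i : G ⟶ T.X₁), Mono i → 0 < r' → FlatMod.IsFinLocFreeOfRank r' G →
      Curv2.deg k X G r' * (r₁ : ℤ) ≤ Curv2.deg k X T.X₁ r₁ * (r' : ℤ)) ∧
       (∀ (G : X.Modules) (r' : ℕ) (i : G ⟶ T.X₃), Mono i → 0 < r' → FlatMod.IsFinLocFreeOfRank r' G →
      Curv2.deg k X G r' * (r₂ : ℤ) ≤ Curv2.deg k X T.X₃ r₂ * (r' : ℤ))) := by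
  haveI : IsIntegral X := CurveVB.isIntegral_of_geometricallyConnected (X ↘ Spec (CommRingCat.of k))
  haveI : IsLocallyNoetherian X := LocallyOfFiniteType.isLocallyNoetherian (X ↘ Spec (CommRingCat.of k))
  haveI := hT.mono_f
  haveI := hT.epi_g
  have hrpos : (0 : ℤ) < r := by exact_mod_cast hr
  refine ⟨fun h => ⟨fun G n i hi hn hG => ?_, fun G n i hi hn hG => ?_⟩, fun ⟨h1, h2⟩ G n i hi hn hG => ?_⟩
  · have b := h G n (i ≫ T.f) inferInstance hn hG
    refine le_of_mul_le_mul_right ?_ hrpos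
    nlinarith [mul_le_mul_of_nonneg_right b (Int.natCast_nonneg r₁)]
  · have hcE := DCohPerf.isCoh_finLocFree (CurveVB.finLocFree_of_rank hE)
    have hcG := DCohPerf.isCoh_finLocFree (CurveVB.finLocFree_of_rank hG)
    have hcE₂ := DCohPerf.isCoh_finLocFree (CurveVB.finLocFree_of_rank hE₂)
    let K := kernel (T.g ≫ cokernel.π i)
    have hcK : Coh.IsCoh K := QCohLib.isCoh_kernel _ hcE (QCohLib.isCoh_cokernel i hcG.1 hcE₂).1
    obtain ⟨m, -, hm⟩ := CurveVB.exists_rank_sub k hdim hcK hE (kernel.ι (T.g ≫ cokernel.π i))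
    let w : K ⟶ G := Abelian.monoLift i (kernel.ι (T.g ≫ cokernel.π i) ≫ T.g)
      (by rw [Category.assoc]; exact kernel.condition _)
    have hw : w ≫ i = kernel.ι (T.g ≫ cokernel.π i) ≫ T.g := Abelian.monoLift_comp _ _ _
    have hP : IsPullback w (kernel.ι (T.g ≫ cokernel.π i)) i T.g := by
      refine IsPullback.of_isLimit' ⟨hw⟩ (PullbackCone.IsLimit.mk _
        (fun s => kernel.lift _ s.snd (by rw [← Category.assoc, ← s.condition, Category.assoc, cokernel.condition, comp_zero]))
        (fun s => ?_) (fun s => kernel.lift_ι _ _ _)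
        (fun s e _ he => by rw [← cancel_mono (kernel.ι (T.g ≫ cokernel.π i)), he, kernel.lift_ι]))
      rw [← cancel_mono i, Category.assoc, hw, kernel.lift_ι_assoc, s.condition]
    haveI : Epi w := Abelian.epi_fst_of_isLimit _ _ hP.isLimit
    let f' : T.X₁ ⟶ K := kernel.lift (T.g ≫ cokernel.π i) T.f (by rw [T.zero_assoc, zero_comp])
    have hf' : f' ≫ kernel.ι (T.g ≫ cokernel.π i) = T.f := kernel.lift_ι _ _ _
    haveI : Mono f' := mono_of_mono_fac hf'
    let U : ShortComplex X.Modules := ShortComplex.mk f' w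
      (by rw [← cancel_mono i, Category.assoc, hw, ← Category.assoc, hf', T.zero, zero_comp])
    have hU : U.ShortExact :=
      { exact := ShortComplex.exact_of_f_is_kernel _ (KernelFork.IsLimit.ofι' f' U.zero fun {W} a ha =>
          ⟨hT.exact.lift (a ≫ kernel.ι (T.g ≫ cokernel.π i))
              (by rw [Category.assoc, ← hw, ← Category.assoc, ha, zero_comp]),
            by
              rw [← cancel_mono (kernel.ι (T.g ≫ cokernel.π i)), Category.assoc, hf']
              exact hT.exact.lift_f _ _⟩) }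
    have hmn : m = r₁ + n := CurveVB.rank_add U hU hE₁ hm hG
    have hd := S7643.result k X hdim.le U hU r₁ m n hE₁ hm hG
    dsimp only [U] at hd
    have b := h K m (kernel.ι (T.g ≫ cokernel.π i)) inferInstance (by omega) hm
    rw [hd, hmn] at b
    push_cast at b
    refine le_of_mul_le_mul_right ?_ hrpos
    have b' : Curv2.deg k X G n * (r : ℤ) ≤ Curv2.deg k X T.X₂ r * n := by linarith
    nlinarith [mul_le_mul_of_nonneg_right b' (Int.natCast_nonneg r₂)]
  · obtain ⟨K, I, q, t, a, p, j, ha, hj, -, ha0, hq, ht, hr', -, hdeg, hm, hz⟩ :=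
      CurveVB.exists_split k hdim hG hE₂ (i ≫ T.g)
    have c1 : ∀ (A : X.Modules) (v : ℕ) (l : A ⟶ T.X₁), Mono l → 0 < v → FlatMod.IsFinLocFreeOfRank v A →
        Curv2.deg k X A v * (r : ℤ) ≤ Curv2.deg k X T.X₂ r * v := fun A v l hl hv hA => by
      have b := h1 A v l hl hv hA
      refine le_of_mul_le_mul_right ?_ (show (0 : ℤ) < r₁ by exact_mod_cast hr₁)
      nlinarith [mul_le_mul_of_nonneg_right b hrpos.le]
    have c2 : ∀ (A : X.Modules) (v : ℕ) (l : A ⟶ T.X₃), Mono l → 0 < v → FlatMod.IsFinLocFreeOfRank v A →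
        Curv2.deg k X A v * (r : ℤ) ≤ Curv2.deg k X T.X₂ r * v := fun A v l hl hv hA => by
      have b := h2 A v l hl hv hA
      refine le_of_mul_le_mul_right ?_ (show (0 : ℤ) < r₂ by exact_mod_cast hr₂)
      nlinarith [mul_le_mul_of_nonneg_right b hrpos.le]
    rcases Nat.eq_zero_or_pos q with h0 | h0
    · exact c2 G n (i ≫ T.g) (hm h0) hn hG
    rcases Nat.eq_zero_or_pos t with h0' | h0'
    · haveI : Mono (hT.exact.lift i (hz h0')) := mono_of_mono_fac (h := i) (hT.exact.lift_f i (hz h0'))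
      exact c1 G n (hT.exact.lift i (hz h0')) inferInstance hn hG
    have hz' : (a ≫ i) ≫ T.g = 0 := by rw [Category.assoc]; exact ha0
    haveI : Mono (hT.exact.lift (a ≫ i) hz') := mono_of_mono_fac (h := a ≫ i) (hT.exact.lift_f (a ≫ i) hz')
    have b1 := c1 K q (hT.exact.lift (a ≫ i) hz') inferInstance h0 hq
    have b2 := c2 I t j hj h0' ht
    rw [hdeg, hr']
    push_cast
    linarith

end Groth.Agent.S14139
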