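import Groth.Statements.S14141
import Groth.Agent.TrivSec.FibreBC

set_option autoImplicit false
universe u
open CategoryTheory CategoryTheory.Limits AlgebraicGeometry
open AbSch

namespace Groth.Agent.S14141

/-- Let S be a connected Noetherian scheme, f : X → S a proper flat morphism such that for every point s
of S the natural map κ(s) → H^0(X_s, O_{X_s}) on global sections of the fibre is bijective, g : Y →
S a separated morphism and π : X → Y a morphism over S. If for some point s of S the restriction of
π to the fibre X_s is constant, i.e. factors through the projection X_s → Spec κ(s), then π is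
constant over all of S: it factors as f followed by a section S → Y of g. (The published statement
is for arbitrary Noetherian S with the conclusion over the connected component of s; this row
assumes S connected, the reduction made in the first line of the printed proof.) -/
theorem result {X Y S : Scheme.{u}} [IsNoetherian S] [ConnectedSpace ↥S]
    (f : X ⟶ S) [IsProper f] [Flat f]
    (hfib : ∀ s : ↥S, Function.Bijective (algebraMap (S.residueField s) Γ(f.fiber s, ⊤)))
    (g : Y ⟶ S) [IsSeparated g] (π : X ⟶ Y) (hπ : π ≫ g = f) (s : ↥S)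
    (hs : ∃ y : Spec (S.residueField s) ⟶ Y, f.fiberι s ≫ π = f.fiberToSpecResidueField s ≫ y) :
    ∃ σ : S ⟶ Y, σ ≫ g = 𝟙 S ∧ π = f ≫ σ := by
  haveI : LocallyOfFinitePresentation f :=
    LocallyOfFinitePresentation.iff_locallyOfFiniteType.mpr inferInstance
  haveI : Surjective f := ⟨fun t => by
    have hne : Nonempty ↥(f.fiber t) := by
      by_contra h
      haveI : IsEmpty ↥(f.fiber t) := not_nonempty_iff.mp h
      haveI : Subsingleton Γ(f.fiber t, ⊤) :=
        CommRingCat.subsingleton_of_isTerminal (by
          rw [show (⊤ : (f.fiber t).Opens) = ⊥ from TopologicalSpace.Opens.ext (Subsingleton.elim _ _)]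
          exact (f.fiber t).sheaf.isTerminalOfEqEmpty rfl)
      exact zero_ne_one ((hfib t).injective (Subsingleton.elim
        (algebraMap (S.residueField t) Γ(f.fiber t, ⊤) 0) (algebraMap _ _ 1)))
    obtain ⟨z⟩ := hne
    exact ⟨_, (f.range_fiberι t).le ⟨z, rfl⟩⟩⟩
  have htriv : ∀ t, TrivSec.TrivFibre f t := fun t γ => by
    obtain ⟨r, hr⟩ := (hfib t).surjective (TrivSec.val γ)
    refine ⟨Spec.map (TrivSec.evalAt r), TrivSec.hom_ext_val ?_⟩
    rw [TrivSec.val_comp, TrivSec.val_SpecMap_evalAt]
    exact hr.symm
  haveI := TrivSec.trivPush_of_trivFibre f htriv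
  have hsC : s ∈ TrivSec.collapsed f π := by
    obtain ⟨y, hy⟩ := hs
    have key : ∀ x : X, f x = s → π x = y (IsLocalRing.closedPoint _) := fun x hx => by
      obtain ⟨z, rfl⟩ : ∃ z, f.fiberι s z = x := by
        have : x ∈ Set.range (f.fiberι s) := (f.range_fiberι s).symm ▸ hx
        exact this
      rw [← Scheme.Hom.comp_apply, hy, Scheme.Hom.comp_apply, f.fiberToSpecResidueField_apply]
    rintro _ ⟨x₁, h₁, rfl⟩ _ ⟨x₂, h₂, rfl⟩
    rw [key x₁ h₁, key x₂ h₂]
  have huniv := IsClopen.eq_univ
    ⟨TrivSec.isClosed_collapsed f π (𝟙 S) g (by rw [hπ, Category.comp_id]),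
      TrivSec.isOpen_collapsed f π⟩ ⟨s, hsC⟩
  obtain ⟨σ, hσ⟩ := TrivSec.exists_factor f π fun t => huniv ▸ Set.mem_univ t
  haveI : Epi f := Flat.epi_of_flat_of_surjective f
  refine ⟨σ, ?_, hσ.symm⟩
  rw [← cancel_epi f, ← Category.assoc, hσ, hπ, Category.comp_id]

end Groth.Agent.S14141
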