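import Groth.Statements.S14149
import Groth.Agent.CurveVB.Bound
-- import your own Groth.Agent.* helpers here

set_option autoImplicit false
set_option backward.isDefEq.respectTransparency false
universe u
open CategoryTheory CategoryTheory.Limits AlgebraicGeometry
open VBCurve

namespace Groth.Agent.S14149
open Groth.Agent

/-- Let C be a smooth proper geometrically connected curve over a field k (proper, smooth and
geometrically connected over k, of dimension one) and E a finite locally free O_C-module of rank r ≥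
1, the degree of a rank-n locally free module being χ − n·χ(O_C). Then there is a finite locally
free submodule E₁ of E, of some rank r₁ ≥ 1, such that: the slope of E₁ is maximal among finite
locally free submodules of E of positive rank (deg G · r₁ ≤ deg E₁ · r' for every such G of rank
r'); among submodules attaining that slope E₁ has the largest rank; and E₁ is semistable. (This is
the first step of the Harder–Narasimhan filtration, whose existence and uniqueness is the published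
statement; the full filtration is not restated.) -/
theorem result (k : Type u) [Field k] (X : Scheme.{u}) [X.Over (Spec (CommRingCat.of k))]
    [IsProper (X ↘ Spec (CommRingCat.of k))] [Smooth (X ↘ Spec (CommRingCat.of k))]
    [GeometricallyConnected (X ↘ Spec (CommRingCat.of k))] (hdim : topologicalKrullDim ↥X = 1)
    (r : ℕ) (hr : 0 < r) (E : X.Modules) (hE : FlatMod.IsFinLocFreeOfRank r E) :
    ∃ (E₁ : X.Modules) (r₁ : ℕ) (i₁ : E₁ ⟶ E), Mono i₁ ∧ 0 < r₁ ∧ FlatMod.IsFinLocFreeOfRank r₁ E₁ ∧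
      (∀ (G : X.Modules) (r' : ℕ) (j : G ⟶ E), Mono j → 0 < r' → FlatMod.IsFinLocFreeOfRank r' G →
        Curv2.deg k X G r' * (r₁ : ℤ) ≤ Curv2.deg k X E₁ r₁ * (r' : ℤ)) ∧
      (∀ (G : X.Modules) (r' : ℕ) (j : G ⟶ E), Mono j → 0 < r' → FlatMod.IsFinLocFreeOfRank r' G →
        Curv2.deg k X G r' * (r₁ : ℤ) = Curv2.deg k X E₁ r₁ * (r' : ℤ) → r' ≤ r₁) ∧
      (∀ (G : X.Modules) (r' : ℕ) (i : G ⟶ E₁), Mono i → 0 < r' → FlatMod.IsFinLocFreeOfRank r' G →
      Curv2.deg k X G r' * (r₁ : ℤ) ≤ Curv2.deg k X E₁ r₁ * (r' : ℤ)) := by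
  classical
  haveI : IsIntegral X := CurveVB.isIntegral_of_geometricallyConnected (X ↘ Spec (CommRingCat.of k))
  haveI : IsLocallyNoetherian X := LocallyOfFiniteType.isLocallyNoetherian (X ↘ Spec (CommRingCat.of k))
  have hcoh : ∀ {M : X.Modules} {n : ℕ}, FlatMod.IsFinLocFreeOfRank n M → Coh.IsCoh M := fun h =>
    DCohPerf.isCoh_finLocFree (CurveVB.finLocFree_of_rank h)
  let P : ℕ → ℤ → Prop := fun n d => 0 < n ∧ ∃ (G : X.Modules) (j : G ⟶ E), Mono j ∧ FlatMod.IsFinLocFreeOfRank n G ∧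
    Curv2.deg k X G n = d
  have hle : ∀ n d, P n d → n ≤ r ∧ d ≤ (Module.finrank k (Coh.HH X E 0) : ℤ) + (r : ℤ) * |Curv2.euler k X (Coh.structureModule X)| := by
    rintro n d ⟨-, G, j, hj, hG, rfl⟩
    obtain ⟨q, hq, hG'⟩ := CurveVB.exists_rank_sub k hdim (hcoh hG) hE j
    obtain ⟨x⟩ : Nonempty X := inferInstance
    have hnq : n = q := (CurveVB.stalk_free hG x).2.2.symm.trans (CurveVB.stalk_free hG' x).2.2
    refine ⟨hnq ▸ hq, ?_⟩
    have h := CurveVB.euler_le_h0_of_mono k hdim (hcoh hG) (hcoh hE) j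
    have hn : (n : ℤ) ≤ r := by exact_mod_cast hnq ▸ hq
    simp only [Curv2.deg]
    nlinarith [mul_le_mul_of_nonneg_right hn (abs_nonneg (Curv2.euler k X (Coh.structureModule X))),
      mul_le_mul_of_nonneg_left (neg_le_abs (Curv2.euler k X (Coh.structureModule X))) (Int.natCast_nonneg n)]
  let R := (Finset.range (r + 1)).filter fun n => ∃ d, P n d
  have hR : ∀ n, n ∈ R → ∃ d, P n d ∧ ∀ d', P n d' → d' ≤ d := fun n hn =>
    Int.exists_greatest_of_bdd ⟨_, fun d hd => (hle n d hd).2⟩ (Finset.mem_filter.1 hn).2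
  choose! dmax hmax hub using hR
  have hrR : r ∈ R := Finset.mem_filter.2 ⟨Finset.self_mem_range_succ r, _, hr, E, 𝟙 E, inferInstance, hE, rfl⟩
  obtain ⟨r₁, hr₁, hopt⟩ := R.exists_max_image (fun n => toLex (((dmax n : ℚ) / n), n)) ⟨r, hrR⟩
  obtain ⟨hpos, E₁, i₁, hi₁, hE₁, hd₁⟩ := hmax r₁ hr₁
  have key : ∀ (G : X.Modules) (n : ℕ) (j : G ⟶ E), Mono j → 0 < n → FlatMod.IsFinLocFreeOfRank n G →
      Curv2.deg k X G n * (r₁ : ℤ) ≤ dmax r₁ * (n : ℤ) ∧ (Curv2.deg k X G n * (r₁ : ℤ) = dmax r₁ * (n : ℤ) → n ≤ r₁) := by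
    intro G n j hj hn hG
    have hP : P n (Curv2.deg k X G n) := ⟨hn, G, j, hj, hG, rfl⟩
    have hnR : n ∈ R := Finset.mem_filter.2 ⟨Finset.mem_range_succ_iff.2 (hle _ _ hP).1, _, hP⟩
    have h1 : (Curv2.deg k X G n : ℚ) ≤ dmax n := by exact_mod_cast hub n hnR _ hP
    have hn' : (0 : ℚ) < n := by exact_mod_cast hn
    have hr' : (0 : ℚ) < r₁ := by exact_mod_cast hpos
    have h2 := Prod.Lex.le_iff.1 (hopt n hnR)
    simp only [ofLex_toLex] at h2
    have h3 : (dmax n : ℚ) / n ≤ (dmax r₁ : ℚ) / r₁ := h2.elim le_of_lt (fun h => h.1.le)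
    rw [div_le_div_iff₀ hn' hr'] at h3
    have h4 : (Curv2.deg k X G n : ℚ) * r₁ ≤ (dmax r₁ : ℚ) * n := le_trans (mul_le_mul_of_nonneg_right h1 hr'.le) h3
    refine ⟨by exact_mod_cast h4, fun heq => ?_⟩
    rcases h2 with h | h
    · rw [div_lt_div_iff₀ hn' hr'] at h
      have h5 : (Curv2.deg k X G n : ℚ) * r₁ = (dmax r₁ : ℚ) * n := by exact_mod_cast heq
      have h6 := mul_le_mul_of_nonneg_right h1 hr'.le
      linarith
    · exact h.2
  refine ⟨E₁, r₁, i₁, hi₁, hpos, hE₁, fun G n j hj hn hG => ?_, fun G n j hj hn hG => ?_, fun G n i hi hn hG => ?_⟩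
  · rw [hd₁]; exact (key G n j hj hn hG).1
  · rw [hd₁]; exact (key G n j hj hn hG).2
  · rw [hd₁]; exact (key G n (i ≫ i₁) inferInstance hn hG).1

end Groth.Agent.S14149
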