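import Groth.Statements.S1415
import Groth.Agent.FibBound.Basic
-- import your own Groth.Agent.* helpers here

set_option autoImplicit false
universe u
open FlatMor

namespace Groth.Agent.S1415

open AlgebraicGeometry CategoryTheory Limits in
/-- Let f : X → Y be locally quasi-finite. Then (1) for every y the number of irreducible components and
the number of connected components of the geometric fibre over y agree, and (2) if X is
quasi-compact these numbers are bounded by some natural number. -/
theorem result {X Y : Scheme.{u}} (f : X ⟶ Y) [LocallyQuasiFinite f] [LocallyOfFiniteType f] :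
    (∀ y : Y, MoreMor.nGeomIrredComp f y = MoreMor.nGeomConnComp f y) ∧
      (CompactSpace ↑X → ∃ d : ℕ, ∀ y : Y, MoreMor.nGeomConnComp f y ≤ d) := by
  have hdisc : ∀ y, DiscreteTopology ↥(MoreMor.geomFiber f y) := fun y => by
    let s := Spec.map (CommRingCat.ofHom
      (algebraMap (Y.residueField y) (SeparableClosure (Y.residueField y))))
    haveI : LocallyQuasiFinite (f.fiberToSpecResidueField y) :=
      MorphismProperty.pullback_snd _ _ inferInstance
    haveI : LocallyQuasiFinite (pullback.snd (f.fiberToSpecResidueField y) s) :=
      MorphismProperty.pullback_snd _ _ inferInstance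
    rw [← isDiscrete_univ_iff]
    let L := SeparableClosure (Y.residueField y)
    have h := (pullback.snd (f.fiberToSpecResidueField y) s).isDiscrete_preimage_singleton
      (IsLocalRing.closedPoint L)
    change _root_.IsDiscrete (Set.univ : Set ↥(pullback (f.fiberToSpecResidueField y) s))
    convert h using 1
    exact (Set.eq_univ_of_forall fun a => Subsingleton.elim (α := PrimeSpectrum L) _ _).symm
  refine ⟨fun y => ?_, fun hX => ?_⟩
  · haveI := hdisc y
    have h1 : irreducibleComponents ↥(MoreMor.geomFiber f y) =
        Set.range fun a : ↥(MoreMor.geomFiber f y) => ({a} : Set _) := by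
      ext C
      constructor
      · intro hC
        obtain ⟨a, rfl⟩ := isIrreducible_iff_singleton.mp hC.1
        exact ⟨a, rfl⟩
      · rintro ⟨a, rfl⟩
        refine ⟨isIrreducible_singleton, fun D hD hle => ?_⟩
        obtain ⟨b, rfl⟩ := isIrreducible_iff_singleton.mp hD
        exact Set.singleton_subset_singleton.mpr (Set.singleton_subset_singleton.mp hle).symm |>.trans le_rfl
    rw [MoreMor.nGeomIrredComp, MoreMor.nGeomConnComp, h1, ← Set.image_univ,
      (Set.singleton_injective.injOn).encard_image, Set.encard_univ]
    refine ENat.card_congr (Equiv.ofBijective ConnectedComponents.mk ⟨fun a b hab => ?_, ConnectedComponents.surjective_coe⟩)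
    have h2 : connectedComponent a = connectedComponent b := ConnectedComponents.coe_eq_coe.mp hab
    rw [connectedComponent_eq_singleton, connectedComponent_eq_singleton] at h2
    exact Set.singleton_injective h2
  · obtain ⟨d, hd⟩ := FibBound.exists_bdd f
    refine ⟨d, fun y => ?_⟩
    refine le_trans ?_ (hd (SeparableClosure (Y.residueField y)) (Spec.map (CommRingCat.ofHom
      (algebraMap (Y.residueField y) (SeparableClosure (Y.residueField y)))) ≫ Y.fromSpecResidueField y))
    refine (ENat.card_le_card_of_injective (Function.injective_surjInv ConnectedComponents.surjective_coe)).trans ?_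
    exact ENat.card_le_card_of_injective
      (pullbackLeftPullbackSndIso f (Y.fromSpecResidueField y) _).hom.homeomorph.injective

end Groth.Agent.S1415
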