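import Groth.Statements.S14151
import Groth.Agent.CurveVB.Saturation
-- import your own Groth.Agent.* helpers here

set_option autoImplicit false
set_option backward.isDefEq.respectTransparency false
universe u
open CategoryTheory CategoryTheory.Limits AlgebraicGeometry
open VBCurve

namespace Groth.Agent.S14151
open Groth.Agent

/-- Let C be a smooth proper geometrically connected curve over a field k (proper, smooth and
geometrically connected over k, of dimension one) and E a finite locally free O_C-module of rank r ≥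
1; degrees of rank-n locally free modules are χ − n·χ(O_C) and slopes are compared by
cross-multiplication. Then: E is semistable in the sense of quotients (μ(E) ≤ μ(F) for every locally
free quotient E ↠ F of rank s ≥ 1) if and only if μ(G) ≤ μ(E) for every finite locally free
submodule G of E of rank r' ≥ 1; and E is stable in the sense of quotients (μ(E) < μ(F) for every
such quotient map which is not an isomorphism) if and only if μ(G) < μ(E) for every such submodule
whose inclusion is not an isomorphism. (The printed lemma says every nonzero subsheaf; for the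
strict inequalities the subsheaf and the quotient must be proper, as its proof uses.) -/
theorem result (k : Type u) [Field k] (X : Scheme.{u}) [X.Over (Spec (CommRingCat.of k))]
    [IsProper (X ↘ Spec (CommRingCat.of k))] [Smooth (X ↘ Spec (CommRingCat.of k))]
    [GeometricallyConnected (X ↘ Spec (CommRingCat.of k))] (hdim : topologicalKrullDim ↥X = 1)
    (r : ℕ) (hr : 0 < r) (E : X.Modules) (hE : FlatMod.IsFinLocFreeOfRank r E) :
    ((∀ (F : X.Modules) (s : ℕ) (p : E ⟶ F), Epi p → 0 < s → FlatMod.IsFinLocFreeOfRank s F →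
      Curv2.deg k X E r * (s : ℤ) ≤ Curv2.deg k X F s * (r : ℤ)) ↔
      (∀ (G : X.Modules) (r' : ℕ) (i : G ⟶ E), Mono i → 0 < r' → FlatMod.IsFinLocFreeOfRank r' G →
      Curv2.deg k X G r' * (r : ℤ) ≤ Curv2.deg k X E r * (r' : ℤ))) ∧
    ((∀ (F : X.Modules) (s : ℕ) (p : E ⟶ F), Epi p → 0 < s → FlatMod.IsFinLocFreeOfRank s F → (¬ IsIso p) →
      Curv2.deg k X E r * (s : ℤ) < Curv2.deg k X F s * (r : ℤ)) ↔
      (∀ (G : X.Modules) (r' : ℕ) (i : G ⟶ E), Mono i → 0 < r' → FlatMod.IsFinLocFreeOfRank r' G → (¬ IsIso i) →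
      Curv2.deg k X G r' * (r : ℤ) < Curv2.deg k X E r * (r' : ℤ))) := by
  haveI : IsIntegral X := CurveVB.isIntegral_of_geometricallyConnected (X ↘ Spec (CommRingCat.of k))
  haveI : IsLocallyNoetherian X := LocallyOfFiniteType.isLocallyNoetherian (X ↘ Spec (CommRingCat.of k))
  have hnz : ∀ {M : X.Modules} {n : ℕ}, 0 < n → FlatMod.IsFinLocFreeOfRank n M → ¬ IsZero M := fun {M n} hn hM hz => by
    obtain ⟨x⟩ : Nonempty X := inferInstance
    obtain ⟨-, -, hrk⟩ := CurveVB.stalk_free hM x
    have : Subsingleton (M.presheaf.stalk x) :=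
      ModuleCat.subsingleton_of_isZero (ModGroth.Stalk.isZero_stalk (x := x) hz)
    rw [Module.finrank_zero_of_subsingleton] at hrk
    omega
  have hker : ∀ (F : X.Modules) (s : ℕ) (p : E ⟶ F), Epi p → FlatMod.IsFinLocFreeOfRank s F →
      ∃ q, r = q + s ∧ FlatMod.IsFinLocFreeOfRank q (kernel p) ∧
        Curv2.deg k X E r = Curv2.deg k X (kernel p) q + Curv2.deg k X F s ∧
        (q = 0 → Curv2.deg k X (kernel p) q = 0 ∧ IsIso p) := fun F s p hp hF => by
    obtain ⟨q, -, hq⟩ := CurveVB.exists_rank_sub k hdim (QCohLib.isCoh_kernel p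
      (DCohPerf.isCoh_finLocFree (CurveVB.finLocFree_of_rank hE))
      (DCohPerf.isCoh_finLocFree (CurveVB.finLocFree_of_rank hF)).1) hE (kernel.ι p)
    have hS : (ShortComplex.mk (kernel.ι p) p (kernel.condition p)).ShortExact :=
      { exact := ShortComplex.exact_of_f_is_kernel _ (kernelIsKernel _) }
    refine ⟨q, CurveVB.rank_add _ hS hq hE hF, hq, S7643.result k X hdim.le _ hS q r s hq hE hF, ?_⟩
    intro h0
    subst h0
    have hz := CurveVB.isZero_of_rank_zero hq
    refine ⟨?_, ?_⟩
    · let U := ShortComplex.mk (0 : kernel p ⟶ kernel p) (0 : kernel p ⟶ kernel p) zero_comp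
      haveI : Mono U.f := ⟨fun a b _ => hz.eq_of_tgt a b⟩
      haveI : Epi U.g := ⟨fun a b _ => hz.eq_of_src a b⟩
      have hU : U.ShortExact := { exact := U.exact_of_isZero_X₂ hz }
      have := S7643.result k X hdim.le U hU 0 0 0 hq hq hq
      dsimp only [U] at this
      linarith
    · haveI := Preadditive.mono_of_kernel_zero (hz.eq_of_src (kernel.ι p) 0)
      exact isIso_of_mono_of_epi p
  refine ⟨⟨fun h G r' i hi hr' hG => ?_, fun h F s p hp hs hF => ?_⟩, ⟨fun h G r' i hi hr' hG hiso => ?_, fun h F s p hp hs hF hiso => ?_⟩⟩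
  · obtain ⟨F, n, p, hip, hp, hF, hrn, hd, -⟩ := CurveVB.exists_saturation k hdim hG hE i
    rcases Nat.eq_zero_or_pos n with h0 | h0
    · obtain rfl : r = r' := by omega
      exact mul_le_mul_of_nonneg_right (CurveVB.deg_le_of_mono k hdim hG hE i).1 (Int.natCast_nonneg _)
    · have h1 := h F n p hp h0 hF
      subst hrn
      push_cast at h1 ⊢
      have h2 := mul_le_mul_of_nonneg_right hd (show (0 : ℤ) ≤ (r' : ℤ) + n by positivity)
      linarith
  · obtain ⟨q, hr', hq, hd, h0⟩ := hker F s p hp hF
    subst hr'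
    rcases Nat.eq_zero_or_pos q with hq0 | hq0
    · have := (h0 hq0).1
      subst hq0
      rw [hd, this]
      simp
    · have h1 := h (kernel p) q (kernel.ι p) inferInstance hq0 hq
      rw [hd] at h1 ⊢
      push_cast at h1 ⊢
      linarith
  · obtain ⟨F, n, p, hip, hp, hF, hrn, hd, -⟩ := CurveVB.exists_saturation k hdim hG hE i
    rcases Nat.eq_zero_or_pos n with h0 | h0
    · obtain rfl : r = r' := by omega
      obtain ⟨h1, h2⟩ := CurveVB.deg_le_of_mono k hdim hG hE i
      exact mul_lt_mul_of_pos_right (lt_of_le_of_ne h1 fun he => hiso (h2 he)) (by exact_mod_cast hr')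
    · have h1 := h F n p hp h0 hF fun hpi => hnz hr' hG (by
        rw [IsZero.iff_id_eq_zero, ← cancel_mono i, ← cancel_mono p]
        simp [hip])
      subst hrn
      push_cast at h1 ⊢
      have h2 := mul_le_mul_of_nonneg_right hd (show (0 : ℤ) ≤ (r' : ℤ) + n by positivity)
      linarith
  · obtain ⟨q, hr', hq, hd, h0⟩ := hker F s p hp hF
    subst hr'
    have hq0 : 0 < q := Nat.pos_of_ne_zero fun e => hiso (h0 e).2
    have h1 := h (kernel p) q (kernel.ι p) inferInstance hq0 hq fun hi => hnz hs hF (by
      rw [IsZero.iff_id_eq_zero, ← cancel_epi p, ← cancel_epi (kernel.ι p)]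
      simp)
    rw [hd] at h1 ⊢
    push_cast at h1 ⊢
    linarith

end Groth.Agent.S14151
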