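import Groth.Statements.S1416
import Groth.Agent.TrdegFlatMod.Basic
-- import your own Groth.Agent.* helpers here

set_option autoImplicit false
universe u
open FlatMor

namespace Groth.Agent.S1416

open AlgebraicGeometry CategoryTheory Limits in
/-- Let f : X → S be locally of finite type with S irreducible with generic point η, and F a
quasi-coherent O_X-module of finite type which is flat over S. If the support of F in the fibre over
η has dimension ≤ r then the support of F in every fibre has dimension ≤ r (supports in fibres taken
as subspaces of X: the points of the fibre where the stalk of F is nonzero). -/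
theorem result {X S : Scheme.{u}} (f : X ⟶ S) [LocallyOfFiniteType f] [IrreducibleSpace ↑S]
    (F : X.Modules) (hF : Coh.IsCoh F) (hfl : FlatMod.IsFlatOver f F) (r : WithBot ℕ∞)
    (h : topologicalKrullDim ↑(f ⁻¹' {genericPoint ↑S} ∩ CohB1.support F) ≤ r) (s : S) :
    topologicalKrullDim ↑(f ⁻¹' {s} ∩ CohB1.support F) ≤ r := by
  have hcl := QCohLib.isClosed_support hF.2
  rw [Set.inter_comm]
  have := FibreDim.dim_inter_le f hcl isOpen_univ s (c := r) fun z hz _ hzs => ?_
  · rwa [Set.inter_univ] at this
  obtain ⟨z', hz', hz'η, hle⟩ := TrdegFlatMod.exists_support_fdim_le f hF hfl hz (genericPoint_specializes (f z))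
    fun η' h => (h.antisymm (genericPoint_specializes η')).eq
  refine hle.trans (le_trans ?_ h)
  exact FibreDim.dim_mono fun w hw => ⟨hw.2.trans hz'η,
    closure_minimal (Set.singleton_subset_iff.2 hz') hcl hw.1⟩

end Groth.Agent.S1416
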