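import Groth.Statements.S1417
import Groth.Agent.ArtLift.Scheme
-- import your own Groth.Agent.* helpers here

set_option autoImplicit false
universe u
open FlatMor

namespace Groth.Agent.S1417

open AlgebraicGeometry CategoryTheory Limits in
/-- Let S be locally Noetherian and f : X → S locally of finite type. Then f is smooth if and only if
for every small extension B' → B of Artinian local rings (a surjection whose kernel is generated by
one element annihilated by the maximal ideal), every morphism Spec B → X and every morphism Spec B'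
→ S locally of finite type making the square commute, there is a lift Spec B' → X. -/
theorem result {X S : Scheme.{u}} (f : X ⟶ S) [IsLocallyNoetherian S] [LocallyOfFiniteType f] :
    Smooth f ↔ ∀ (B B' : Type u) [CommRing B] [CommRing B'] [IsArtinianRing B] [IsArtinianRing B'] [IsLocalRing B] [IsLocalRing B']
      (φ : B' →+* B) (ε : B'), Function.Surjective φ → RingHom.ker φ = Ideal.span {ε} → (∀ m ∈ IsLocalRing.maximalIdeal B', ε * m = 0) →
      ∀ (α : Spec (CommRingCat.of B) ⟶ X) (β : Spec (CommRingCat.of B') ⟶ S), LocallyOfFiniteType β →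
        Spec.map (CommRingCat.ofHom φ) ≫ β = α ≫ f →
        ∃ γ : Spec (CommRingCat.of B') ⟶ X, Spec.map (CommRingCat.ofHom φ) ≫ γ = α ∧ γ ≫ f = β := by
  haveI : LocallyOfFinitePresentation f := LocallyOfFinitePresentation.iff_locallyOfFiniteType.2 inferInstance
  haveI := LocallyOfFiniteType.isLocallyNoetherian f
  constructor
  · intro hs B B' _ _ _ _ _ _ φ ε hφ hker hε α β _ heq
    haveI : IsLocalHom φ := IsLocalHom.of_surjective φ hφ
    have hcp : Spec.map (CommRingCat.ofHom φ) (IsLocalRing.closedPoint B) = IsLocalRing.closedPoint B' :=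
      IsLocalRing.comap_closedPoint φ
    obtain ⟨a, ha, hα⟩ := Groth.Agent.ArtLift.exists_specStalk α (rfl : α (IsLocalRing.closedPoint B) = _)
    have hβx : β (IsLocalRing.closedPoint B') = f (α (IsLocalRing.closedPoint B)) := by
      exact (congrArg β hcp).symm.trans (((Scheme.Hom.comp_apply _ β _).symm.trans
        (congr($heq (IsLocalRing.closedPoint B)))).trans (Scheme.Hom.comp_apply α f _))
    obtain ⟨b, hb, hβ⟩ := Groth.Agent.ArtLift.exists_specStalk β hβx
    haveI := ha
    haveI := hb
    have hcomp : b ≫ CommRingCat.ofHom φ = f.stalkMap (α (IsLocalRing.closedPoint B)) ≫ a := by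
      haveI : IsLocalHom (b ≫ CommRingCat.ofHom φ).hom := by
        rw [CommRingCat.hom_comp]; exact RingHom.isLocalHom_comp φ b.hom
      haveI : IsLocalHom (f.stalkMap (α (IsLocalRing.closedPoint B)) ≫ a).hom := by
        rw [CommRingCat.hom_comp]; exact RingHom.isLocalHom_comp a.hom (f.stalkMap _).hom
      apply Groth.Agent.ArtLift.specStalk_inj
      rw [Spec.map_comp, Spec.map_comp, Category.assoc, Category.assoc, Scheme.SpecMap_stalkMap_fromSpecStalk,
        ← Category.assoc (Spec.map a), ← hα, ← hβ, heq]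
    letI := (f.stalkMap (α (IsLocalRing.closedPoint B))).hom.toAlgebra
    haveI hfs : Algebra.FormallySmooth (S.presheaf.stalk (f (α (IsLocalRing.closedPoint B))))
        (X.presheaf.stalk (α (IsLocalRing.closedPoint B))) :=
      RingHom.formallySmooth_algebraMap.1 (show (f.stalkMap (α (IsLocalRing.closedPoint B))).hom.FormallySmooth from
        Scheme.Hom.mem_smoothLocus.1 (by rw [Scheme.Hom.smoothLocus_eq_top]; trivial))
    letI := b.hom.toAlgebra
    letI : Algebra (S.presheaf.stalk (f (α (IsLocalRing.closedPoint B)))) B := (φ.comp b.hom).toAlgebra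
    let u : X.presheaf.stalk (α (IsLocalRing.closedPoint B)) →ₐ[S.presheaf.stalk (f (α (IsLocalRing.closedPoint B)))] B :=
      { a.hom with commutes' := fun z => (congrArg (fun g => g.hom z) hcomp).symm }
    let π : B' →ₐ[S.presheaf.stalk (f (α (IsLocalRing.closedPoint B)))] B := { φ with commutes' := fun z => rfl }
    have hnil : IsNilpotent (RingHom.ker π) := by
      refine ⟨2, ?_⟩
      show RingHom.ker φ ^ 2 = ⊥
      rw [hker, pow_two, Ideal.span_singleton_mul_span_singleton, Ideal.span_singleton_eq_bot]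
      refine hε ε ((IsLocalRing.le_maximalIdeal (RingHom.ker_ne_top φ)) ?_)
      rw [hker]; exact Ideal.mem_span_singleton_self ε
    let v := Algebra.FormallySmooth.liftOfSurjective u π hφ hnil
    have hv : π.comp v = u := Algebra.FormallySmooth.comp_liftOfSurjective u π hφ hnil
    refine ⟨Spec.map (CommRingCat.ofHom v.toRingHom) ≫ X.fromSpecStalk _, ?_, ?_⟩
    · rw [← Category.assoc, ← Spec.map_comp]
      refine Eq.trans ?_ hα.symm
      congr 2
      exact CommRingCat.hom_ext (RingHom.ext fun z => DFunLike.congr_fun hv z)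
    · rw [Category.assoc, ← Scheme.SpecMap_stalkMap_fromSpecStalk, ← Category.assoc, ← Spec.map_comp]
      refine Eq.trans ?_ hβ.symm
      congr 2
      exact CommRingCat.hom_ext v.comp_algebraMap
  · intro H
    rw [← Scheme.Hom.smoothLocus_eq_top_iff, ← top_le_iff]
    intro z _
    obtain ⟨_, ⟨V, hV, rfl⟩, hzV, -⟩ := X.isBasis_affineOpens.exists_subset_of_mem_open (Set.mem_univ z) isOpen_univ
    obtain ⟨m, hm, hle⟩ := Ideal.exists_le_maximal _ (hV.primeIdealOf ⟨z, hzV⟩).2.ne_top
    let x := hV.fromSpec ⟨m, hm.isPrime⟩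
    have hxV : x ∈ V := by
      have : x ∈ Set.range hV.fromSpec := ⟨_, rfl⟩
      rwa [hV.range_fromSpec] at this
    have hzx : z ⤳ x := by
      have h0 : hV.fromSpec (hV.primeIdealOf ⟨z, hzV⟩) = z := hV.fromSpec_primeIdealOf ⟨z, hzV⟩
      have h1 := ((PrimeSpectrum.le_iff_specializes (hV.primeIdealOf ⟨z, hzV⟩) (⟨m, hm.isPrime⟩ : PrimeSpectrum Γ(X, V))).1 hle).map hV.fromSpec.continuous
      rwa [h0] at h1
    refine hzx.mem_open f.smoothLocus.2 ?_
    haveI : IsOpenImmersion hV.fromSpec := hV.isOpenImmersion_fromSpec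
    have hxm : (hV.primeIdealOf ⟨x, hxV⟩).asIdeal.IsMaximal := by
      have h1 : hV.primeIdealOf ⟨x, hxV⟩ = ⟨m, hm.isPrime⟩ :=
        hV.fromSpec.isOpenEmbedding.injective (hV.fromSpec_primeIdealOf ⟨x, hxV⟩)
      rw [h1]; exact hm
    rw [SetLike.mem_coe, Scheme.Hom.mem_smoothLocus]
    letI := (f.stalkMap x).hom.toAlgebra
    haveI : IsLocalHom (algebraMap (S.presheaf.stalk (f x)) (X.presheaf.stalk x)) :=
      inferInstanceAs (IsLocalHom (f.stalkMap x).hom)
    haveI : Algebra.EssFiniteType (S.presheaf.stalk (f x)) (X.presheaf.stalk x) := by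
      rw [← RingHom.essFiniteType_algebraMap, RingHom.algebraMap_toAlgebra]
      exact LocallyOfFiniteType.stalkMap f x
    rw [show (f.stalkMap x).hom = algebraMap (S.presheaf.stalk (f x)) (X.presheaf.stalk x) from rfl,
      RingHom.formallySmooth_algebraMap]
    refine Groth.Agent.ArtLift.formallySmooth_of_principal_lifts _ _ ?_
    rintro A' _ _ _ h hh I g₀ ⟨hI, hIm, hc, hloc, hsurj⟩ ⟨ε, hIε⟩
    haveI : Nontrivial (A' ⧸ I) := Ideal.Quotient.nontrivial_iff.2 hI
    haveI : IsLocalRing (A' ⧸ I) := IsLocalRing.of_surjective' (Ideal.Quotient.mk I) Ideal.Quotient.mk_surjective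
    haveI : IsArtinianRing (A' ⧸ I) := Function.Surjective.isArtinianRing (f := Ideal.Quotient.mk I) Ideal.Quotient.mk_surjective
    haveI : IsLocalHom (Ideal.Quotient.mk I) := IsLocalHom.of_surjective _ Ideal.Quotient.mk_surjective
    haveI hg : IsLocalHom g₀ := by
      refine ⟨fun b hb => ?_⟩
      by_contra hnu
      have h1 := hloc b hnu
      rw [IsLocalRing.map_maximalIdeal_of_surjective _ Ideal.Quotient.mk_surjective] at h1
      exact h1 hb
    obtain ⟨γ, hγ1, hγ2⟩ := H (A' ⧸ I) A' (Ideal.Quotient.mk I) ε Ideal.Quotient.mk_surjective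
      (by rw [Ideal.mk_ker, hIε]) (fun y hy => by
        have h1 : ε * y ∈ I * IsLocalRing.maximalIdeal A' :=
          Ideal.mul_mem_mul (hIε ▸ Ideal.mem_span_singleton_self ε) hy
        rw [hIm] at h1
        exact h1)
      (Spec.map (CommRingCat.ofHom g₀) ≫ X.fromSpecStalk x) (Spec.map (CommRingCat.ofHom h) ≫ S.fromSpecStalk (f x))
      (Groth.Agent.ArtLift.locallyOfFiniteType_specStalk f hV x hxV hxm I g₀ h hc hloc hsurj
        (IsLocalRing.le_maximalIdeal hI))
      (by
        rw [Category.assoc, ← Scheme.SpecMap_stalkMap_fromSpecStalk, ← Category.assoc, ← Category.assoc,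
          ← Spec.map_comp, ← Spec.map_comp]
        congr 2
        exact CommRingCat.hom_ext hc.symm)
    have hγx : γ (IsLocalRing.closedPoint A') = x := by
      refine (congrArg γ (IsLocalRing.comap_closedPoint (Ideal.Quotient.mk I))).symm.trans ?_
      refine (Scheme.Hom.comp_apply _ γ _).symm.trans ((congr($hγ1 (IsLocalRing.closedPoint (A' ⧸ I)))).trans ?_)
      refine (Scheme.Hom.comp_apply _ (X.fromSpecStalk x) _).trans ?_
      exact (congrArg (X.fromSpecStalk x) (IsLocalRing.comap_closedPoint g₀)).trans Scheme.fromSpecStalk_closedPoint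
    obtain ⟨g, hgl, hγg⟩ := Groth.Agent.ArtLift.exists_specStalk γ hγx
    haveI := hgl
    haveI : IsLocalHom (CommRingCat.ofHom h).hom := hh
    haveI : IsLocalHom (CommRingCat.ofHom g₀).hom := hg
    haveI : IsLocalHom (g ≫ CommRingCat.ofHom (Ideal.Quotient.mk I)).hom := by
      rw [CommRingCat.hom_comp]; exact RingHom.isLocalHom_comp (Ideal.Quotient.mk I) g.hom
    haveI : IsLocalHom (f.stalkMap x ≫ g).hom := by
      rw [CommRingCat.hom_comp]; exact RingHom.isLocalHom_comp g.hom (f.stalkMap x).hom
    have e1 : g ≫ CommRingCat.ofHom (Ideal.Quotient.mk I) = CommRingCat.ofHom g₀ := by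
      apply Groth.Agent.ArtLift.specStalk_inj
      rw [Spec.map_comp, Category.assoc, ← hγg, hγ1]
    have e2 : f.stalkMap x ≫ g = CommRingCat.ofHom h := by
      apply Groth.Agent.ArtLift.specStalk_inj
      rw [Spec.map_comp, Category.assoc, Scheme.SpecMap_stalkMap_fromSpecStalk, ← Category.assoc, ← hγg, hγ2]
    exact ⟨g.hom, congrArg CommRingCat.Hom.hom e2, congrArg CommRingCat.Hom.hom e1⟩

end Groth.Agent.S1417
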