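import Groth.Statements.S14173
import Groth.Agent.HdimLES.Basic
import Groth.Agent.HilbPoly.Tensor
import Groth.Agent.InvPow.Projective
import Groth.Agent.ProjTwist.Tensor
import Groth.Agent.ProjLinear.Sections

set_option autoImplicit false
set_option linter.style.haveILetI false
set_option backward.isDefEq.respectTransparency false
universe u
open CategoryTheory CategoryTheory.Limits AlgebraicGeometry
open Variety

namespace Groth.Agent.S14173

/-- Let k be an algebraically closed field of characteristic zero (the published statement is over the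
complex numbers; this row allows any algebraically closed field of characteristic zero) and 0 → F₁ →
F₂ → F₃ → 0 a short exact sequence of coherent modules on P^n_k. If F₁ and F₃ are m-regular then so
is F₂; equivalently reg F₂ ≤ max(reg F₁, reg F₃). -/
theorem result (k : Type u) [Field k] [IsAlgClosed k] [CharZero k]
    (n : ℕ) (S : ShortComplex (CohB1.ProjSpace n k).Modules) (hS : S.ShortExact)
    (h₁ : Coh.IsCoh S.X₁) (h₂ : Coh.IsCoh S.X₂) (h₃ : Coh.IsCoh S.X₃) (m : ℤ)
    (hreg₁ : Curv2.IsMRegular k n S.X₁ m) (hreg₃ : Curv2.IsMRegular k n S.X₃ m) :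
    Curv2.IsMRegular k n S.X₂ m := by
  intro i h1i hin
  haveI : IsProper (CohB1.ProjSpace n k ↘ Spec (CommRingCat.of k)) := Groth.Agent.InvPow.isProper_toSpec n k
  haveI : IsLocallyNoetherian (CohB1.ProjSpace n k) :=
    LocallyOfFiniteType.isLocallyNoetherian (CohB1.ProjSpace n k ↘ Spec (CommRingCat.of k))
  have hE : PicF.IsInvertible (Twist.twistProjSpace n k (m - i)) := Groth.Agent.ProjTwist.isInvertible_twist (by
    simpa using Groth.Agent.ProjTwist.hasUnit_of_cover (Groth.Agent.ProjLinear.exists_degree_one (k := k) (n := n)) (m - i))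
  have c1 := Groth.Agent.HilbPoly.isCoh_tensorMod h₁ hE
  have c2 := Groth.Agent.HilbPoly.isCoh_tensorMod h₂ hE
  have c3 := Groth.Agent.HilbPoly.isCoh_tensorMod h₃ hE
  obtain ⟨h, -, -, -⟩ := Groth.Agent.HdimLES.hdim_le_all k (Groth.Agent.HilbPoly.shortExact_tSC hS hE) c1 c2 c3 i
  change Groth.Agent.HilbPoly.hdim k _ (CohB1.tensorMod S.X₂ (Twist.twistProjSpace n k (m - i))) i ≤
    Groth.Agent.HilbPoly.hdim k _ (CohB1.tensorMod S.X₁ (Twist.twistProjSpace n k (m - i))) i +
      Groth.Agent.HilbPoly.hdim k _ (CohB1.tensorMod S.X₃ (Twist.twistProjSpace n k (m - i))) i at h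
  rw [Groth.Agent.HilbPoly.hdim_eq_zero (hreg₁ i h1i hin), Groth.Agent.HilbPoly.hdim_eq_zero (hreg₃ i h1i hin)] at h
  haveI := Groth.Agent.HilbPoly.finite_HH (k := k) c2 i
  refine (Module.finrank_zero_iff (R := k)).mp ?_
  simp only [Groth.Agent.HilbPoly.hdim] at h
  omega
end Groth.Agent.S14173
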