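import Mathlib
import Groth.Statements.S14175
-- import your own Groth.Agent.* helpers here

set_option autoImplicit false
universe u v w
open GalCoh

namespace Groth.Agent.S14175

/-- Let G be a finite cyclic group generated by t, let m be a natural number dividing the order of G,
and let ρ be a linear representation of G on a module V over a commutative ring k such that m·V = 0
and every element of G whose m-th power is the identity acts trivially on V. Then evaluating a
crossed homomorphism at t induces a bijection from the first cohomology of G with values in V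
(crossed homomorphisms f, i.e. f(gh) = ρ(g)f(h) + f(g), modulo the principal ones g ↦ ρ(g)x − x)
onto the coinvariants V_G (the quotient of V by the span of all ρ(g)v − v): the class of f(t) in V_G
vanishes exactly when f is principal, and every class of V_G is the class of f(t) for some crossed
homomorphism f. The bijection depends on the choice of the generator t. -/
theorem result
    {k : Type u} {G : Type v} {V : Type w} [CommRing k] [Group G] [Finite G]
    [AddCommGroup V] [Module k V] (ρ : Representation k G V)
    (t : G) (ht : ∀ g : G, g ∈ Subgroup.zpowers t)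
    (m : ℕ) (hm : m ∣ Nat.card G) (htors : ∀ v : V, m • v = 0)
    (htriv : ∀ g : G, g ^ m = 1 → ∀ v : V, ρ g v = v) :
    (∀ f : G → V, (∀ g h : G, f (g * h) = ρ g (f h) + f g) →
        (Representation.Coinvariants.mk ρ (f t) = 0 ↔ ∃ x : V, ∀ g : G, f g = ρ g x - x)) ∧
    (∀ v : V, ∃ f : G → V, (∀ g h : G, f (g * h) = ρ g (f h) + f g) ∧
        Representation.Coinvariants.mk ρ (f t) = Representation.Coinvariants.mk ρ v) := by
  classical
  obtain ⟨d, hd⟩ := hm
  have hord : orderOf t = Nat.card G := orderOf_eq_card_of_forall_mem_zpowers ht
  have hpw : ∀ g : G, ∃ i : ℕ, t ^ i = g := fun g =>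
    Submonoid.mem_powers_iff g t |>.mp ((isOfFinOrder_of_finite t).mem_powers_iff_mem_zpowers.mpr (ht g))
  choose idx hidx using hpw
  let S : V → ℕ → V := fun v i => ∑ l ∈ Finset.range i, ρ (t ^ l) v
  have hS : ∀ v i j, S v (i + j) = ρ (t ^ i) (S v j) + S v i := by
    intro v i j
    simp only [S, Finset.sum_range_add, map_sum, pow_add, map_mul]
    rw [add_comm]; rfl
  have htrd : ∀ (q : ℕ) (v : V), ρ (t ^ (q * d)) v = v := fun q v => htriv _ (by
    rw [← pow_mul, mul_assoc, mul_comm d m, ← hd, mul_comm q, pow_mul, pow_card_eq_one', one_pow]) v
  have hqd : ∀ v q, S v (q * d) = q • S v d := by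
    intro v q
    induction q with
    | zero => simp [S]
    | succ q ih => rw [Nat.succ_mul, hS, htrd, ih, succ_nsmul']
  have hN : ∀ v, S v (Nat.card G) = 0 := fun v => by rw [hd, hqd, htors]
  have hmod : ∀ v i, S v (i + Nat.card G) = S v i := fun v i => by rw [hS, hN, map_zero, zero_add]
  have hper : ∀ v i, S v i = S v (i % Nat.card G) := fun v i => by
    have : ∀ q, S v (i % Nat.card G + Nat.card G * q) = S v (i % Nat.card G) := by
      intro q
      induction q with
      | zero => simp
      | succ q ih => rw [Nat.mul_succ, ← Nat.add_assoc, hmod, ih]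
    conv_lhs => rw [← Nat.mod_add_div i (Nat.card G)]
    exact this _
  have hS0 : ∀ v i j, t ^ i = t ^ j → S v i = S v j := by
    intro v i j h
    rw [pow_eq_pow_iff_modEq, hord] at h
    rw [hper v i, hper v j]
    exact congrArg (S v) h
  constructor
  · intro f hf
    constructor
    · intro h
      rw [Representation.Coinvariants.mk_eq_zero] at h
      have hker : Representation.Coinvariants.ker ρ ≤ LinearMap.range (ρ t - 1) := by
        refine Submodule.span_le.mpr ?_
        rintro _ ⟨⟨g, v⟩, rfl⟩
        refine ⟨S v (idx g), ?_⟩
        have e : ρ g v = ρ (t ^ idx g) v := by rw [hidx]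
        change (ρ t - 1) (S v (idx g)) = ρ g v - v
        rw [e]
        generalize idx g = i
        induction i with
        | zero => simp [S]
        | succ i ih =>
          simp only [S, Finset.sum_range_succ, map_add] at ih ⊢
          rw [ih, LinearMap.sub_apply, Module.End.one_apply, show ρ (t ^ (i + 1)) v = ρ t (ρ (t ^ i) v) by rw [pow_succ', map_mul]; rfl]
          abel
      obtain ⟨x, hx⟩ := hker h
      refine ⟨x, fun g => ?_⟩
      rw [← hidx g]
      generalize idx g = i
      induction i with
      | zero =>
        have := hf 1 1
        simp only [mul_one, map_one, Module.End.one_apply] at this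
        simpa using this
      | succ i ih =>
        rw [pow_succ, hf, ih, ← hx]
        simp
    · rintro ⟨x, hx⟩
      rw [Representation.Coinvariants.mk_eq_zero, hx]
      exact Representation.Coinvariants.sub_mem_ker t x
  · intro v
    refine ⟨fun g => S v (idx g), fun g h => ?_, ?_⟩
    · change S v (idx (g * h)) = ρ g (S v (idx h)) + S v (idx g)
      rw [hS0 v (idx (g * h)) (idx g + idx h) (by rw [pow_add, hidx, hidx, hidx]), hS, hidx]
    · congr 1
      change S v (idx t) = v
      rw [hS0 v (idx t) 1 (by rw [hidx, pow_one])]
      simp [S]

end Groth.Agent.S14175
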