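import Groth.Statements.S14177
import Groth.Agent.EtaleClosure.Basic
import Mathlib
-- import your own Groth.Agent.* helpers here

set_option autoImplicit false
universe u v w
open scoped nonZeroDivisors
open EtAlg

namespace Groth.Agent.S14177

section
open scoped nonZeroDivisors
open Polynomial

theorem etale_closure {A : Type u} {K : Type v} {L : Type w} [CommRing A] [IsDomain A] [IsIntegrallyClosed A]
    [Field K] [Algebra A K] [IsFractionRing A K] [Field L] [Algebra K L] [Algebra A L] [IsScalarTower A K L]
    (n : ℕ) (hn0 : n ≠ 0) (hn : IsUnit (n : A)) (uu : Aˣ) (β : L) (hβ : β ^ n = algebraMap A L (uu : A))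
    (hgen : IntermediateField.adjoin K {β} = ⊤) :
    Algebra.Etale A (integralClosure A L) := by
  have hinjL : Function.Injective (algebraMap A L) := by
    rw [IsScalarTower.algebraMap_eq A K L]
    exact (algebraMap K L).injective.comp (IsFractionRing.injective A K)
  let f : A[X] := X ^ n - C (uu : A)
  let St : StandardEtalePair A :=
    { f := f
      monic_f := monic_X_pow_sub_C _ hn0
      g := 1
      cond := ⟨X * C ((↑(hn.unit⁻¹ * uu⁻¹) : A)), -(C (n : A)) * C ((↑(hn.unit⁻¹ * uu⁻¹) : A)), 0, by
        have hone : C (n : A) * C (uu : A) * C ((↑(hn.unit⁻¹ * uu⁻¹) : A)) = 1 := by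
          rw [← C_mul, ← C_mul, Units.val_mul, mul_mul_mul_comm, IsUnit.mul_val_inv, Units.mul_inv, one_mul, C_1]
        have hX : (X : A[X]) ^ (n - 1) * X = X ^ n := by rw [← pow_succ, Nat.sub_add_cancel (Nat.pos_of_ne_zero hn0)]
        simp only [f, derivative_sub, derivative_C, sub_zero, derivative_X_pow, pow_zero]
        linear_combination hone + C (n : A) * C ((↑(hn.unit⁻¹ * uu⁻¹) : A)) * hX⟩ }
  have hmap : St.HasMap β := ⟨by simp [St, f, hβ], by simp [St]⟩
  let φ : St.Ring →ₐ[A] L := St.lift β hmap
  have hroot : IsIntegral A β := ⟨f, monic_X_pow_sub_C _ hn0, by simp [f, hβ]⟩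
  have hint : ∀ z, IsIntegral A (φ z) := by
    intro z
    obtain ⟨z, rfl⟩ := St.equivAwayAdjoinRoot.symm.surjective z
    obtain ⟨⟨q, s, k, hk⟩, hq⟩ := IsLocalization.surj (Submonoid.powers (AdjoinRoot.mk St.f St.g)) z
    have hs1 : s = 1 := by
      rw [← hk]
      show AdjoinRoot.mk St.f St.g ^ k = 1
      rw [show St.g = 1 from rfl, map_one, one_pow]
    replace hq : z = algebraMap _ _ q := by
      have h' : z * algebraMap _ _ s = algebraMap _ _ q := hq
      rw [hs1] at h'
      exact (mul_one z).symm.trans ((congrArg (z * ·) (map_one (algebraMap (AdjoinRoot St.f) _)).symm).trans h')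
    subst hq
    haveI : Module.Finite A (AdjoinRoot St.f) := St.monic_f.finite_adjoinRoot
    exact (Algebra.IsIntegral.isIntegral q).map
      ((φ.comp St.equivAwayAdjoinRoot.symm.toAlgHom).comp (IsScalarTower.toAlgHom A (AdjoinRoot St.f) _))
  have hgen' : Subfield.closure (φ.range : Set L) = ⊤ := by
    let F := Subfield.closure (φ.range : Set L)
    have hK : ∀ c : K, algebraMap K L c ∈ F := fun c => by
      obtain ⟨a, b, -, rfl⟩ := IsFractionRing.div_surjective (A := A) c
      rw [map_div₀, ← IsScalarTower.algebraMap_apply, ← IsScalarTower.algebraMap_apply]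
      exact F.div_mem (Subfield.subset_closure (φ.range.algebraMap_mem a)) (Subfield.subset_closure (φ.range.algebraMap_mem b))
    rw [eq_top_iff]
    intro x _
    exact (IntermediateField.adjoin_simple_le_iff.2
      (Subfield.subset_closure ⟨St.X, St.lift_X β hmap⟩) :
      IntermediateField.adjoin K {β} ≤ F.toIntermediateField hK) (hgen ▸ IntermediateField.mem_top)
  obtain ⟨h1, h2⟩ := Groth.Agent.EtaleClosure.main A St.Ring L hinjL φ hint hgen'
  exact h1 ▸ h2

end

/-- Let A be a Dedekind domain with fraction field K, let n be a natural number invertible in A, let f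
be a nonzero element of K whose principal fractional ideal is the n-th power of a fractional ideal I
(the divisor of f is n times a divisor), and let L = K(α) be a field extension of K generated by a
single element α with α^n = f. Then the integral closure of A in L is finite and étale over A. (The
published statement is for the normalisation of an integral smooth curve over a perfect field in
such an extension of its function field; this row states the same for any Dedekind domain, the case
the local argument covers.) -/
theorem result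
    {A : Type u} {K : Type v} {L : Type w} [CommRing A] [IsDedekindDomain A]
    [Field K] [Algebra A K] [IsFractionRing A K]
    [Field L] [Algebra K L] [Algebra A L] [IsScalarTower A K L]
    (n : ℕ) (hn : IsUnit (n : A)) (f : K) (hf : f ≠ 0)
    (I : FractionalIdeal A⁰ K) (hI : FractionalIdeal.spanSingleton A⁰ f = I ^ n)
    (α : L) (hα : α ^ n = algebraMap K L f) (hgen : IntermediateField.adjoin K {α} = ⊤) :
    Algebra.Etale A (integralClosure A L) ∧ Module.Finite A (integralClosure A L) := by
  classical
  have hinjL : Function.Injective (algebraMap A L) := by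
    rw [IsScalarTower.algebraMap_eq A K L]
    exact (algebraMap K L).injective.comp (IsFractionRing.injective A K)
  have hn0 : n ≠ 0 := by
    rintro rfl
    exact not_isUnit_zero (by simpa using hn : IsUnit (0 : A))
  have hnK : (n : K) ≠ 0 := by
    rw [← map_natCast (algebraMap A K)]
    exact (hn.map (algebraMap A K)).ne_zero
  have hint : IsIntegral K α := ⟨Polynomial.X ^ n - Polynomial.C f, Polynomial.monic_X_pow_sub_C f hn0, by simp [hα]⟩
  haveI : FiniteDimensional K L := by
    have := IntermediateField.adjoin.finiteDimensional hint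
    rw [hgen] at this
    exact IntermediateField.topEquiv.toLinearEquiv.finiteDimensional
  haveI : Algebra.IsSeparable K L := by
    have : IsSeparable K α := (Polynomial.separable_X_pow_sub_C f hnK hf).of_dvd (minpoly.dvd K α (by simp [hα]))
    have h2 := (IntermediateField.isSeparable_adjoin_simple_iff_isSeparable K L).2 this
    rw [hgen] at h2
    exact AlgEquiv.Algebra.isSeparable IntermediateField.topEquiv
  haveI : Module.Finite A (integralClosure A L) := IsIntegralClosure.finite A K L (integralClosure A L)
  refine ⟨?_, inferInstance⟩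
  haveI : Algebra.FinitePresentation A (integralClosure A L) :=
    Algebra.FinitePresentation.of_finiteType.1 inferInstance
  rw [← Algebra.etaleLocus_eq_univ_iff_etale]
  refine Set.eq_univ_of_forall fun Q => ?_
  let P := Q.asIdeal.comap (algebraMap A (integralClosure A L))
  have hI0 : I ≠ 0 := fun h => hf (by
    rw [h, zero_pow hn0] at hI
    exact FractionalIdeal.spanSingleton_eq_zero_iff.1 hI)
  obtain ⟨g, hg, h, hh, a, haP, hgh⟩ : ∃ g ∈ I, ∃ h ∈ I⁻¹, ∃ a : A, a ∉ P ∧ g * h = algebraMap A K a := by
    by_contra hcon
    push Not at hcon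
    have hle : (I * I⁻¹ : FractionalIdeal A⁰ K) ≤ (P : FractionalIdeal A⁰ K) := by
      rw [FractionalIdeal.mul_le]
      intro g hg h hh
      have h1 : g * h ∈ (1 : FractionalIdeal A⁰ K) := by
        rw [← mul_inv_cancel₀ hI0]; exact FractionalIdeal.mul_mem_mul hg hh
      obtain ⟨a, ha⟩ := (FractionalIdeal.mem_one_iff _).1 h1
      exact (FractionalIdeal.mem_coeIdeal _).2 ⟨a, by_contra fun haP => hcon g hg h hh a haP ha.symm, ha⟩
    rw [mul_inv_cancel₀ hI0, FractionalIdeal.one_le] at hle
    obtain ⟨a, ha, ha1⟩ := (FractionalIdeal.mem_coeIdeal _).1 hle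
    rw [← map_one (algebraMap A K)] at ha1
    obtain rfl := IsFractionRing.injective A K ha1
    exact (Ideal.IsPrime.comap (algebraMap A (integralClosure A L))).ne_top ((Ideal.eq_top_iff_one P).2 ha)
  have ha0 : a ≠ 0 := fun h0 => haP (h0 ▸ zero_mem _)
  have hgI : g ^ n ∈ ((I ^ n : FractionalIdeal A⁰ K) : Submodule A K) := by
    rw [FractionalIdeal.coe_pow]; exact Submodule.pow_mem_pow _ hg n
  rw [← hI, FractionalIdeal.coe_spanSingleton, Submodule.mem_span_singleton] at hgI
  obtain ⟨c, hc⟩ := hgI
  have hfh : f * h ^ n ∈ ((1 : FractionalIdeal A⁰ K) : Submodule A K) := by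
    rw [show (1 : FractionalIdeal A⁰ K) = I ^ n * I⁻¹ ^ n by rw [← mul_pow, mul_inv_cancel₀ hI0, one_pow],
      FractionalIdeal.coe_mul]
    refine Submodule.mul_mem_mul ?_ ?_
    · rw [← hI]; exact FractionalIdeal.mem_spanSingleton_self A⁰ f
    · rw [FractionalIdeal.coe_pow]; exact Submodule.pow_mem_pow _ hh n
  obtain ⟨d, hd⟩ := (FractionalIdeal.mem_one_iff _).1 hfh
  have hcd : a ^ n = c * d := by
    refine IsFractionRing.injective A K ?_
    rw [map_pow, map_mul, hd, ← hgh, mul_pow, ← hc, Algebra.smul_def]
    ring
  -- the localisation at `a`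
  let Aa := Localization.Away a
  have hle : Submonoid.powers a ≤ A⁰ := powers_le_nonZeroDivisors_of_noZeroDivisors ha0
  haveI : IsDomain Aa := IsLocalization.isDomain_localization hle
  haveI : IsIntegrallyClosed Aa := isIntegrallyClosed_of_isLocalization Aa (Submonoid.powers a) hle
  have haK : IsUnit (algebraMap A K a) := isUnit_iff_ne_zero.2 fun h => ha0 (IsFractionRing.injective A K (h.trans (map_zero _).symm))
  have haL : IsUnit (algebraMap A L a) := isUnit_iff_ne_zero.2 fun h => ha0 (hinjL (h.trans (map_zero _).symm))
  letI : Algebra Aa K := (IsLocalization.Away.lift a haK).toAlgebra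
  haveI : IsScalarTower A Aa K := IsScalarTower.of_algebraMap_eq fun x => (IsLocalization.Away.lift_eq a haK x).symm
  haveI : IsFractionRing Aa K := IsFractionRing.isFractionRing_of_isDomain_of_isLocalization (Submonoid.powers a) Aa K
  letI : Algebra Aa L := ((algebraMap K L).comp (algebraMap Aa K)).toAlgebra
  haveI : IsScalarTower Aa K L := IsScalarTower.of_algebraMap_eq fun _ => rfl
  haveI : IsScalarTower A Aa L := IsScalarTower.of_algebraMap_eq fun x => by
    show algebraMap A L x = algebraMap K L (algebraMap Aa K (algebraMap A Aa x))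
    rw [← IsScalarTower.algebraMap_apply A Aa K, ← IsScalarTower.algebraMap_apply]
  have hcu : IsUnit (algebraMap A Aa c) :=
    isUnit_of_mul_isUnit_left (y := algebraMap A Aa d) (by
      rw [← map_mul, ← hcd, map_pow]; exact (IsLocalization.Away.algebraMap_isUnit a).pow n)
  have hg0 : g ≠ 0 := fun h0 => haK.ne_zero (by rw [← hgh, h0, zero_mul])
  have hc0 : algebraMap A K c ≠ 0 := fun h0 => pow_ne_zero n hg0 (by rw [← hc, Algebra.smul_def, h0, zero_mul])
  set gL := algebraMap K L g with hgL
  have hgL0 : gL ≠ 0 := (map_ne_zero _).2 hg0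
  have hβ : (α / gL) ^ n = algebraMap Aa L ((hcu.unit⁻¹ : Aaˣ) : Aa) := by
    rw [div_pow, hα, hgL, ← map_pow, ← map_div₀, show algebraMap Aa L ((hcu.unit⁻¹ : Aaˣ) : Aa) = algebraMap K L (algebraMap Aa K ((hcu.unit⁻¹ : Aaˣ) : Aa)) from rfl]
    congr 1
    rw [← hc, Algebra.smul_def, map_units_inv, IsUnit.unit_spec, ← IsScalarTower.algebraMap_apply]
    field_simp
  have hgenβ : IntermediateField.adjoin K {α / gL} = ⊤ := by
    rw [eq_top_iff, ← hgen, IntermediateField.adjoin_simple_le_iff]
    have hm := mul_mem (IntermediateField.mem_adjoin_simple_self K (α / gL)) ((IntermediateField.adjoin K {α / gL}).algebraMap_mem g)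
    rwa [← hgL, div_mul_cancel₀ _ hgL0] at hm
  have hnAa : IsUnit (n : Aa) := by rw [← map_natCast (algebraMap A Aa)]; exact hn.map _
  haveI := etale_closure (K := K) (L := L) n hn0 hnAa hcu.unit⁻¹ (α / gL) hβ hgenβ
  let B := integralClosure A L
  let B' := integralClosure Aa L
  let ι : B →+* B' := (B.val : B →+* L).codRestrict B'.toSubring fun x => IsIntegral.tower_top x.2
  letI : Algebra B B' := ι.toAlgebra
  haveI : IsScalarTower B B' L := IsScalarTower.of_algebraMap_eq fun _ => rfl
  haveI : IsScalarTower A B B' := IsScalarTower.of_algebraMap_eq fun x => Subtype.ext (by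
    show (algebraMap A B' x : L) = algebraMap A L x
    rw [IsScalarTower.algebraMap_apply A Aa B']
    exact (IsScalarTower.algebraMap_apply A Aa L x).symm)
  haveI : IsLocalization.Away (algebraMap A L a) L :=
    IsLocalization.away_of_isUnit_of_bijective _ haL Function.bijective_id
  haveI : IsLocalization.Away (algebraMap A B a) B' := IsLocalization.Away.integralClosure (S := L) (Sf := L) a
  haveI : Algebra.Etale A Aa := Algebra.Etale.of_isLocalizationAway a
  haveI : Algebra.Etale A B' := Algebra.Etale.comp A Aa B'
  haveI : Algebra.Etale A (Localization.Away (algebraMap A B a)) :=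
    Algebra.Etale.of_equiv ((IsLocalization.algEquiv (Submonoid.powers (algebraMap A B a)) B' (Localization.Away (algebraMap A B a))).restrictScalars A)
  exact Algebra.basicOpen_subset_etaleLocus_iff_etale.2 (this) haP

end Groth.Agent.S14177
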