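import Groth.Statements.S14178
import Mathlib
-- import your own Groth.Agent.* helpers here

set_option autoImplicit false
universe u v w
open scoped nonZeroDivisors
open EtAlg

namespace Groth.Agent.S14178

theorem ideal_pow_inj {A : Type*} [CommRing A] [IsDedekindDomain A] {a b : Ideal A} {m : ℕ} (hm : m ≠ 0)
    (h : a ^ m = b ^ m) : a = b := by
  classical
  by_cases ha : a = 0
  · rw [ha, zero_pow hm] at h; rw [ha]; exact (eq_zero_of_pow_eq_zero h.symm).symm
  have hb : b ≠ 0 := fun e => by rw [e, zero_pow hm] at h; exact ha (eq_zero_of_pow_eq_zero h)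
  have e := congrArg UniqueFactorizationMonoid.normalizedFactors h
  rw [UniqueFactorizationMonoid.normalizedFactors_pow, UniqueFactorizationMonoid.normalizedFactors_pow] at e
  have e' : UniqueFactorizationMonoid.normalizedFactors a = UniqueFactorizationMonoid.normalizedFactors b :=
    Multiset.ext.2 fun x => Nat.eq_of_mul_eq_mul_left (Nat.pos_of_ne_zero hm)
      (by rw [← Multiset.count_nsmul, ← Multiset.count_nsmul, e])
  exact associated_iff_eq.1 ((UniqueFactorizationMonoid.associated_iff_normalizedFactors_eq_normalizedFactors ha hb).2 e')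

theorem fracIdeal_eq_one {A K : Type*} [CommRing A] [IsDedekindDomain A] [Field K] [Algebra A K] [IsFractionRing A K]
    (J : (FractionalIdeal A⁰ K)) {m : ℕ} (hm : m ≠ 0) (h : J ^ m = 1) : J = 1 := by
  obtain ⟨a, aI, ha, hJ⟩ := FractionalIdeal.exists_eq_spanSingleton_mul J
  have ha' : algebraMap A K a ≠ 0 := fun e => ha (IsFractionRing.injective A K (by rw [e, map_zero]))
  have hmul : FractionalIdeal.spanSingleton A⁰ (algebraMap A K a) * J = aI := by
    rw [hJ, ← mul_assoc, FractionalIdeal.spanSingleton_mul_spanSingleton, mul_inv_cancel₀ ha',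
      FractionalIdeal.spanSingleton_one, one_mul]
  have h1 : ((Ideal.span {a} ^ m : Ideal A) : FractionalIdeal A⁰ K) = ((aI ^ m : Ideal A) : FractionalIdeal A⁰ K) := by
    rw [FractionalIdeal.coeIdeal_pow, FractionalIdeal.coeIdeal_pow, FractionalIdeal.coeIdeal_span_singleton, ← hmul,
      mul_pow, h, mul_one]
  have h2 := ideal_pow_inj hm (FractionalIdeal.coeIdeal_injective h1)
  rw [hJ, ← h2, FractionalIdeal.coeIdeal_span_singleton, FractionalIdeal.spanSingleton_mul_spanSingleton,
    inv_mul_cancel₀ ha', FractionalIdeal.spanSingleton_one]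


/-- Let A be a Dedekind domain with fraction field K, let n be a natural number invertible in A such
that K contains a primitive n-th root of unity, let f be a nonzero element of K and I an invertible
fractional ideal of A with (f) = I^n whose class in the ideal class group of A has order exactly n
(the divisor of f is n times a divisor whose class has order n), and let L = K(α) be a field
extension of K generated by a single element α with α^n = f. Then L is Galois over K of degree n
with cyclic Galois group. (The published statement is for an integral smooth curve over a perfect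
field containing a primitive n-th root of unity, with the Picard group of the curve in place of the
class group; this row states it for any Dedekind domain.) -/
theorem result
    {A : Type u} {K : Type v} {L : Type w} [CommRing A] [IsDedekindDomain A]
    [Field K] [Algebra A K] [IsFractionRing A K]
    [Field L] [Algebra K L]
    (n : ℕ) (hn : IsUnit (n : A)) (ζ : K) (hζ : IsPrimitiveRoot ζ n) (f : K) (hf : f ≠ 0)
    (I : (FractionalIdeal A⁰ K)ˣ) (hI : FractionalIdeal.spanSingleton A⁰ f = (I : FractionalIdeal A⁰ K) ^ n)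
    (hord : orderOf (ClassGroup.mk K I) = n)
    (α : L) (hα : α ^ n = algebraMap K L f) (hgen : IntermediateField.adjoin K {α} = ⊤) :
    IsGalois K L ∧ IsCyclic (L ≃ₐ[K] L) ∧ Module.finrank K L = n := by
  classical
  have hnK : (n : K) ≠ 0 := by
    have := hn.map (algebraMap A K); rw [map_natCast] at this; exact this.ne_zero
  have hn0 : n ≠ 0 := fun e => hnK (by rw [e, Nat.cast_zero])
  have hα0 : α ≠ 0 := fun e => by
    rw [e, zero_pow hn0, eq_comm, map_eq_zero] at hα; exact hf hα
  set P : Polynomial K := Polynomial.X ^ n - Polynomial.C f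
  have hsep : P.Separable := Polynomial.separable_X_pow_sub_C f hnK hf
  have hζL : IsPrimitiveRoot (algebraMap K L ζ) n := hζ.map_of_injective (algebraMap K L).injective
  have hsplit : (P.map (algebraMap K L)).Splits := by
    rw [Polynomial.map_sub, Polynomial.map_pow, Polynomial.map_X, Polynomial.map_C]
    exact X_pow_sub_C_splits_of_isPrimitiveRoot hζL hα
  have hroot : α ∈ P.rootSet L := by
    rw [Polynomial.mem_rootSet]
    exact ⟨(Polynomial.monic_X_pow_sub_C f hn0).ne_zero, by simp [P, hα]⟩
  have hadj : Algebra.adjoin K (P.rootSet L) = ⊤ := by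
    refine top_le_iff.1 ?_
    have hint : IsIntegral K α := ⟨P, Polynomial.monic_X_pow_sub_C f hn0, by simp [P, hα]⟩
    rw [← IntermediateField.top_toSubalgebra, ← hgen, IntermediateField.adjoin_simple_toSubalgebra_of_isAlgebraic hint.isAlgebraic]
    exact Algebra.adjoin_mono (Set.singleton_subset_iff.2 hroot)
  haveI : P.IsSplittingField K L := ⟨hsplit, hadj⟩
  haveI : FiniteDimensional K L := Polynomial.IsSplittingField.finiteDimensional L P
  haveI hgal : IsGalois K L := IsGalois.of_separable_splitting_field hsep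
  -- the Kummer character
  have hfix : ∀ σ : L ≃ₐ[K] L, (σ α / α) ^ n = 1 := fun σ => by
    rw [div_pow, ← map_pow, hα, AlgEquiv.commutes, div_self (by simp [hf])]
  have hχmem : ∀ σ : L ≃ₐ[K] L, ∃ c : K, σ α = algebraMap K L c * α := fun σ => by
    haveI : NeZero n := ⟨hn0⟩
    obtain ⟨i, -, hi⟩ := hζL.eq_pow_of_pow_eq_one (hfix σ)
    exact ⟨ζ ^ i, by rw [map_pow, hi, div_mul_cancel₀ _ hα0]⟩
  choose c hc using hχmem
  let χ : (L ≃ₐ[K] L) →* L :=
    { toFun := fun σ => algebraMap K L (c σ)
      map_one' := mul_right_cancel₀ hα0 (by rw [← hc, one_mul]; rfl)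
      map_mul' := fun σ τ => mul_right_cancel₀ hα0 (by
        rw [← hc, show (σ * τ) α = σ (τ α) from rfl, hc τ, map_mul, AlgEquiv.commutes, hc σ]; ring) }
  have hχ : Function.Injective χ := by
    intro σ τ h
    have e : σ α = τ α := by rw [hc, hc]; exact congrArg (· * α) h
    have hle : IntermediateField.adjoin K {α} ≤ IntermediateField.fixedField (Subgroup.zpowers (τ⁻¹ * σ)) := by
      rw [IntermediateField.adjoin_simple_le_iff, IntermediateField.mem_fixedField_iff]
      intro g hg
      have : τ⁻¹ * σ ∈ MulAction.stabilizer (L ≃ₐ[K] L) α := by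
        show (τ⁻¹ * σ) α = α
        rw [show (τ⁻¹ * σ) α = τ.symm (σ α) from rfl, e, AlgEquiv.symm_apply_apply]
      exact (Subgroup.zpowers_le.2 this) hg
    refine AlgEquiv.ext fun x => ?_
    have := IntermediateField.mem_fixedField_iff _ _ |>.1 (hle (hgen ▸ IntermediateField.mem_top : x ∈ IntermediateField.adjoin K {α})) (τ⁻¹ * σ) (Subgroup.mem_zpowers _)
    rw [show (τ⁻¹ * σ) x = τ.symm (σ x) from rfl, AlgEquiv.symm_apply_eq] at this
    exact this
  haveI hcyc : IsCyclic (L ≃ₐ[K] L) := isCyclic_of_subgroup_isDomain χ hχ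
  set d := Module.finrank K L with hd
  have hcard : Nat.card (L ≃ₐ[K] L) = d := IsGalois.card_aut_eq_finrank K L
  have hdn : d ∣ n := by
    obtain ⟨σ, hσ⟩ := IsCyclic.exists_generator (α := L ≃ₐ[K] L)
    rw [← hcard, ← orderOf_eq_card_of_forall_mem_zpowers hσ, ← orderOf_injective χ hχ]
    refine orderOf_dvd_of_pow_eq_one ?_
    rw [show χ σ = σ α / α by rw [hc, mul_div_assoc, div_self hα0, mul_one]; rfl, hfix]
  have hmem : α ^ d ∈ Set.range (algebraMap K L) := by
    refine IsGalois.mem_range_algebraMap_iff_fixed _ |>.2 fun σ => ?_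
    have hs : χ σ ^ d = 1 := by rw [← map_pow, ← hcard, pow_card_eq_one', map_one]
    rw [map_pow, hc, mul_pow, show algebraMap K L (c σ) = χ σ from rfl, hs, one_mul]
  obtain ⟨g, hg⟩ := hmem
  obtain ⟨m, hm⟩ := hdn
  have hd0 : 0 < d := Module.finrank_pos
  have hfg : f = g ^ m := (algebraMap K L).injective (by rw [← hα, map_pow, hg, ← pow_mul, ← hm])
  have hg0 : g ≠ 0 := fun e => pow_ne_zero d hα0 (by rw [← hg, e, map_zero])
  have hJ := fracIdeal_eq_one ((I : FractionalIdeal A⁰ K) ^ d * FractionalIdeal.spanSingleton A⁰ g⁻¹) (m := m)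
    (fun e => hn0 (by rw [hm, e, mul_zero])) (by
      rw [mul_pow, ← pow_mul, ← hm, ← hI, FractionalIdeal.spanSingleton_pow, FractionalIdeal.spanSingleton_mul_spanSingleton,
        inv_pow, ← hfg, mul_inv_cancel₀ hf, FractionalIdeal.spanSingleton_one])
  have hId : ((I ^ d : (FractionalIdeal A⁰ K)ˣ) : FractionalIdeal A⁰ K) = FractionalIdeal.spanSingleton A⁰ g := by
    have := congrArg (· * FractionalIdeal.spanSingleton A⁰ g) hJ
    rw [one_mul, mul_assoc, FractionalIdeal.spanSingleton_mul_spanSingleton, inv_mul_cancel₀ hg0,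
      FractionalIdeal.spanSingleton_one, mul_one] at this
    rw [Units.val_pow_eq_pow_val]; exact this
  have hnd : n ∣ d := by
    rw [← hord, orderOf_dvd_iff_pow_eq_one, ← map_pow, ClassGroup.mk_eq_one_iff, hId, FractionalIdeal.coe_spanSingleton]
    exact ⟨g, rfl⟩
  exact ⟨hgal, hcyc, Nat.dvd_antisymm ⟨m, hm⟩ hnd⟩

end Groth.Agent.S14178
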