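import Groth.Statements.S14181
import Mathlib
-- import your own Groth.Agent.* helpers here

set_option autoImplicit false
universe u
open CategoryTheory
open GalCoh

namespace Groth.Agent.S14181

/-- Let G be a group with a finite normal subgroup P, k a commutative ring and A a k-linear
representation of G such that multiplication by the order of P is a bijection of A. Then the
inflation map on 1-cocycles (crossed homomorphisms) Z¹(G/P, A^P) → Z¹(G, A) has a k-linear left
inverse. (The published statement is for the inertia group of a Galois cover of smooth curves at a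
point, its normal Sylow p-subgroup P and a module of n-torsion with n prime to p; the argument uses
only that the order of P acts invertibly, which is the hypothesis taken here.) -/
theorem result
    {k G : Type u} [CommRing k] [Group G] (A : Rep.{u} k G) (P : Subgroup G) [P.Normal] [Finite P]
    (hP : Function.Bijective fun a : A => (Nat.card P : k) • a) :
    ∃ r : ModuleCat.of k (groupCohomology.cocycles₁ A) ⟶
        ModuleCat.of k (groupCohomology.cocycles₁ (A.quotientToInvariants P)),
      (groupCohomology.mapCocycles₁ (QuotientGroup.mk' P) (Rep.ofHom (A.ρ.quotientToInvariants_lift P)) :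
          ModuleCat.of k (groupCohomology.cocycles₁ (A.quotientToInvariants P)) ⟶
            ModuleCat.of k (groupCohomology.cocycles₁ A)) ≫ r = 𝟙 _ := by
  classical
  haveI : Fintype P := Fintype.ofFinite P
  let N : A →ₗ[k] A := LinearMap.lsmul k A (Nat.card P : k)
  let e : A ≃ₗ[k] A := LinearEquiv.ofBijective N hP
  have he : ∀ a, (Nat.card P : k) • e.symm a = a := fun a => e.apply_symm_apply a
  let Y : groupCohomology.cocycles₁ A →ₗ[k] A :=
    { toFun := fun x => -e.symm (∑ s : P, x s.1)
      map_add' := fun x z => by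
        show -e.symm (∑ s : P, (x s.1 + z s.1)) = _
        rw [Finset.sum_add_distrib, map_add, neg_add]
      map_smul' := fun c x => by
        show -e.symm (∑ s : P, (c • x s.1)) = _
        rw [← Finset.smul_sum, map_smul, RingHom.id_apply, smul_neg] }
  have h2 : ∀ (x : groupCohomology.cocycles₁ A), ∀ s ∈ P, x s = A.ρ s (Y x) - Y x := by
    intro x t ht
    have h1 := (groupCohomology.mem_cocycles₁_iff x).1 x.2
    apply hP.1
    show (Nat.card P : k) • x t = (Nat.card P : k) • (A.ρ t (Y x) - Y x)
    have hY : (Nat.card P : k) • Y x = -∑ s : P, x s.1 := by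
      show (Nat.card P : k) • (-e.symm _) = _
      rw [smul_neg, he]
    rw [smul_sub, ← map_smul (A.ρ t), hY, map_neg, map_sum]
    have : ∑ s : P, x s.1 = ∑ s : P, (A.ρ t (x s.1) + x t) := by
      rw [← Equiv.sum_comp (Equiv.mulLeft (⟨t, ht⟩ : P)) (fun s : P => x s.1)]
      exact Finset.sum_congr rfl fun s _ => h1 t s.1
    conv_rhs => rw [this, Finset.sum_add_distrib, Finset.sum_const, Finset.card_univ, ← Nat.card_eq_fintype_card, ← Nat.cast_smul_eq_nsmul k]
    abel
  let F : groupCohomology.cocycles₁ A → (G ⧸ P → Representation.invariants (A.ρ.comp P.subtype)) := fun x q =>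
    Quotient.liftOn' q (fun g => ⟨x g - A.ρ g (Y x) + Y x, fun s => by
      have h1 := (groupCohomology.mem_cocycles₁_iff x).1 x.2
      have hs := h2 x s.1 s.2
      have hs' := h2 x (g⁻¹ * s.1 * g) (Subgroup.Normal.conj_mem' ‹_› _ s.2 _)
      have e1 := h1 s.1 g
      have e2 := h1 g (g⁻¹ * s.1 * g)
      rw [show g * (g⁻¹ * s.1 * g) = s.1 * g by group, hs', map_sub, ← Module.End.mul_apply, ← map_mul,
        show g * (g⁻¹ * s.1 * g) = s.1 * g by group] at e2
      rw [hs] at e1
      show A.ρ s.1 (x g - A.ρ g (Y x) + Y x) = _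
      rw [map_add, map_sub, ← Module.End.mul_apply, ← map_mul]
      have e3 : A.ρ s.1 (x g) + (A.ρ s.1 (Y x) - Y x) = A.ρ (s.1 * g) (Y x) - A.ρ g (Y x) + x g := e1.symm.trans e2
      have e4 : A.ρ s.1 (x g) = A.ρ (s.1 * g) (Y x) - A.ρ g (Y x) + x g - (A.ρ s.1 (Y x) - Y x) := eq_sub_of_add_eq e3
      rw [e4]; abel⟩) (fun g h hgh => Subtype.ext (by
      have hm := QuotientGroup.leftRel_apply.1 hgh
      have h1 := (groupCohomology.mem_cocycles₁_iff x).1 x.2 g (g⁻¹ * h)
      rw [mul_inv_cancel_left, h2 x _ hm, map_sub, ← Module.End.mul_apply, ← map_mul, mul_inv_cancel_left] at h1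
      show x g - A.ρ g (Y x) + Y x = x h - A.ρ h (Y x) + Y x
      rw [h1]; abel))
  have hFval : ∀ (x : groupCohomology.cocycles₁ A) (g : G), (F x (g : G ⧸ P)).1 = x g - A.ρ g (Y x) + Y x := fun x g => rfl
  have hFmem : ∀ x, F x ∈ groupCohomology.cocycles₁ (A.quotientToInvariants P) := by
    intro x
    rw [groupCohomology.mem_cocycles₁_iff]
    intro a b
    refine QuotientGroup.induction_on a fun g => QuotientGroup.induction_on b fun h => Subtype.ext ?_
    show (F x ((g * h : G) : G ⧸ P)).1 = A.ρ g (F x (h : G ⧸ P)).1 + (F x (g : G ⧸ P)).1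
    rw [hFval, hFval, hFval, (groupCohomology.mem_cocycles₁_iff x).1 x.2 g h, map_add, map_sub, map_mul, Module.End.mul_apply]
    abel
  let R : groupCohomology.cocycles₁ A →ₗ[k] groupCohomology.cocycles₁ (A.quotientToInvariants P) :=
    { toFun := fun x => ⟨F x, hFmem x⟩
      map_add' := fun x z => Subtype.ext (funext fun q => QuotientGroup.induction_on q fun g => Subtype.ext (by
        show (F (x + z) (g : G ⧸ P)).1 = (F x (g : G ⧸ P)).1 + (F z (g : G ⧸ P)).1
        rw [hFval, hFval, hFval, map_add, map_add]
        show x g + z g - _ + _ = _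
        abel))
      map_smul' := fun c x => Subtype.ext (funext fun q => QuotientGroup.induction_on q fun g => Subtype.ext (by
        show (F (c • x) (g : G ⧸ P)).1 = c • (F x (g : G ⧸ P)).1
        rw [hFval, hFval, map_smul, map_smul, smul_add, smul_sub]
        rfl)) }
  refine ⟨ModuleCat.ofHom R, ?_⟩
  ext x : 1
  · apply LinearMap.ext; intro x
    refine Subtype.ext (funext fun q => QuotientGroup.induction_on q fun g => Subtype.ext ?_)
    set z := groupCohomology.mapCocycles₁ (QuotientGroup.mk' P) (Rep.ofHom (A.ρ.quotientToInvariants_lift P)) x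
    show (F z (g : G ⧸ P)).1 = _
    have hz : ∀ g : G, z g = (x (g : G ⧸ P)).1 := by
      intro g
      exact congr_fun (groupCohomology.coe_mapCocycles₁ (A := A.quotientToInvariants P) (B := A) (f := QuotientGroup.mk' P) (φ := Rep.ofHom (A.ρ.quotientToInvariants_lift P)) x) g
    have hY0 : Y z = 0 := by
      show -e.symm _ = 0
      rw [neg_eq_zero, LinearEquiv.map_eq_zero_iff]
      refine Finset.sum_eq_zero fun s _ => ?_
      rw [hz, (QuotientGroup.eq_one_iff s.1).2 s.2, groupCohomology.cocycles₁_map_one]
      rfl
    rw [hFval, hY0, map_zero, sub_zero, add_zero, hz]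
    rfl

end Groth.Agent.S14181
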