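import Groth.Statements.S14188
import Groth.Agent.GenFibDom.Basic
-- import your own Groth.Agent.* helpers here

set_option autoImplicit false
universe u
open CategoryTheory CategoryTheory.Limits AlgebraicGeometry
open FlatMor

namespace Groth.Agent.S14188

/-- Let T be an integral scheme with generic point η, let Y and Z be schemes flat over T with Z
separated over T, and let ψ : Y_η → Z be a T-morphism from the generic fibre Y_η = Y ×_T Spec
O_{T,η} (equivalently, an η-morphism Y_η → Z_η). Let gr : Y_η → Y ×_T Z be the graph of ψ, the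
morphism whose components are the projection Y_η → Y and ψ, and let Γ ⊆ Y ×_T Z be the
scheme-theoretic image of gr (the schematic closure of the graph). Then ψ extends to a T-morphism φ
: Y → Z, meaning that the composite Y_η → Y → Z is ψ, if and only if the composite of the inclusion
Γ → Y ×_T Z with the first projection is an isomorphism Γ ≅ Y. -/
theorem result (T Y Z : Scheme.{u}) [IsIntegral T]
    (pY : Y ⟶ T) (pZ : Z ⟶ T) [Flat pY] [Flat pZ] [IsSeparated pZ]
    (ψ : pullback pY (T.fromSpecStalk (genericPoint T)) ⟶ Z)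
    (hψ : ψ ≫ pZ = pullback.fst pY (T.fromSpecStalk (genericPoint T)) ≫ pY)
    (gr : pullback pY (T.fromSpecStalk (genericPoint T)) ⟶ pullback pY pZ)
    (hgr₁ : gr ≫ pullback.fst pY pZ = pullback.fst pY (T.fromSpecStalk (genericPoint T)))
    (hgr₂ : gr ≫ pullback.snd pY pZ = ψ) :
    (∃ φ : Y ⟶ Z, φ ≫ pZ = pY ∧ pullback.fst pY (T.fromSpecStalk (genericPoint T)) ≫ φ = ψ) ↔
      IsIso (gr.imageι ≫ pullback.fst pY pZ) := by
  constructor
  · rintro ⟨φ, hφ, hψφ⟩
    let g : Y ⟶ pullback pY pZ := pullback.lift (𝟙 Y) φ (by rw [Category.id_comp, hφ])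
    haveI : IsClosedImmersion (g ≫ pullback.fst pY pZ) := by
      rw [pullback.lift_fst]; infer_instance
    haveI : IsClosedImmersion g := IsClosedImmersion.of_comp g (pullback.fst pY pZ)
    have hgr : gr = pullback.fst pY (T.fromSpecStalk (genericPoint T)) ≫ g :=
      pullback.hom_ext (by rw [hgr₁, Category.assoc, pullback.lift_fst, Category.comp_id])
        (by rw [hgr₂, Category.assoc, pullback.lift_snd, hψφ])
    have hk : gr.ker = g.ker := by
      rw [hgr, Scheme.Hom.ker_comp, GenFibDom.ker_eq_bot, Scheme.IdealSheafData.map_bot]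
    show IsIso (gr.ker.subschemeι ≫ pullback.fst pY pZ)
    rw [hk]
    have h : g.toImage ≫ g.imageι ≫ pullback.fst pY pZ = 𝟙 Y := by
      rw [← Category.assoc, Scheme.Hom.toImage_imageι, pullback.lift_fst]
    haveI : IsIso (g.toImage ≫ g.imageι ≫ pullback.fst pY pZ) := by rw [h]; infer_instance
    exact IsIso.of_isIso_comp_left g.toImage _
  · intro hiso
    refine ⟨inv (gr.imageι ≫ pullback.fst pY pZ) ≫ gr.imageι ≫ pullback.snd pY pZ, ?_, ?_⟩
    · rw [Category.assoc, Category.assoc, ← pullback.condition, IsIso.inv_comp_eq, Category.assoc]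
    · have h0 : pullback.fst pY (T.fromSpecStalk (genericPoint T)) =
          gr.toImage ≫ gr.imageι ≫ pullback.fst pY pZ := by
        rw [Scheme.Hom.toImage_imageι_assoc, hgr₁]
      rw [h0]
      simp only [Category.assoc]
      rw [← Category.assoc gr.imageι (pullback.fst pY pZ), IsIso.hom_inv_id_assoc,
        Scheme.Hom.toImage_imageι_assoc, hgr₂]

end Groth.Agent.S14188
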