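import Groth.Statements.S14189
import Groth.Agent.GenFibDom.Basic
-- import your own Groth.Agent.* helpers here

set_option autoImplicit false
universe u
open CategoryTheory CategoryTheory.Limits AlgebraicGeometry
open FlatMor

namespace Groth.Agent.S14189

/-- Let T be an integral scheme with generic point η, let Y and Z be schemes flat over T with Z
separated over T, and let ψ : Y_η → Z be a T-morphism from the generic fibre Y_η = Y ×_T Spec
O_{T,η}. Let g : T' → T be flat, surjective and quasi-compact, and let φ' : Y_{T'} → Z_{T'} be a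
T'-morphism which agrees with ψ over T' ×_T η, in the sense that on Y_{T'} ×_Y Y_η = Y ×_T T' ×_T
Spec O_{T,η} the composite of the first projection with φ' and with Z_{T'} → Z equals the composite
of the second projection with ψ. Then ψ extends to a T-morphism φ : Y → Z, one whose composite with
Y_η → Y is ψ. (The published statement is an equivalence and also records that an extension, when it
exists, is unique; the converse direction, that an extension over T base-changes to such a φ' over
any such T', is immediate, and this row states the existence direction only.) -/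
theorem result (T Y Z T' : Scheme.{u}) [IsIntegral T]
    (pY : Y ⟶ T) (pZ : Z ⟶ T) [Flat pY] [Flat pZ] [IsSeparated pZ]
    (ψ : pullback pY (T.fromSpecStalk (genericPoint T)) ⟶ Z)
    (hψ : ψ ≫ pZ = pullback.fst pY (T.fromSpecStalk (genericPoint T)) ≫ pY)
    (g : T' ⟶ T) [Flat g] [Surjective g] [QuasiCompact g]
    (φ' : pullback pY g ⟶ pullback pZ g) (hφ' : φ' ≫ pullback.snd pZ g = pullback.snd pY g)
    (hagree : pullback.fst (pullback.fst pY g) (pullback.fst pY (T.fromSpecStalk (genericPoint T))) ≫ φ' ≫ pullback.fst pZ g =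
      pullback.snd (pullback.fst pY g) (pullback.fst pY (T.fromSpecStalk (genericPoint T))) ≫ ψ) :
    ∃ φ : Y ⟶ Z, φ ≫ pZ = pY ∧ pullback.fst pY (T.fromSpecStalk (genericPoint T)) ≫ φ = ψ := by
  let π := pullback.fst pY g
  let h : pullback pY g ⟶ Z := φ' ≫ pullback.fst pZ g
  let p := pullback.fst pY (T.fromSpecStalk (genericPoint T))
  haveI : Flat π := inferInstanceAs (Flat (pullback.fst pY g))
  haveI : Surjective π := inferInstanceAs (Surjective (pullback.fst pY g))
  haveI : QuasiCompact π := inferInstanceAs (QuasiCompact (pullback.fst pY g))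
  have hh : h ≫ pZ = π ≫ pY := by
    simp only [h, π, Category.assoc, pullback.condition]
    rw [← Category.assoc φ', hφ']
  -- on the double overlap the two composites agree on the generic fibre
  have hw : ∀ {W : Scheme.{u}} (a b : W ⟶ pullback pY g), a ≫ π = b ≫ π → Flat (a ≫ π ≫ pY) → a ≫ h = b ≫ h := by
    intro W a b hab hfl
    haveI := hfl
    refine GenFibDom.ext (pY := a ≫ π ≫ pY) (pZ := pZ) (by rw [Category.assoc, hh])
      (by rw [Category.assoc, hh, ← Category.assoc b, ← hab, Category.assoc]) ?_
    let pW := pullback.fst (a ≫ π ≫ pY) (T.fromSpecStalk (genericPoint T))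
    let pη : pullback (a ≫ π ≫ pY) (T.fromSpecStalk (genericPoint T)) ⟶ pullback pY (T.fromSpecStalk (genericPoint T)) :=
      pullback.lift (pW ≫ a ≫ π) (pullback.snd _ _) (by
        rw [← pullback.condition]; simp [pW])
    have key : ∀ c : W ⟶ pullback pY g, c ≫ π = a ≫ π → pW ≫ c ≫ h = pη ≫ ψ := by
      intro c hc
      let z : _ ⟶ pullback (pullback.fst pY g) p := pullback.lift (pW ≫ c) pη (by
        simp only [p, pη, pullback.lift_fst, Category.assoc]
        exact congrArg (pW ≫ ·) hc)
      calc pW ≫ c ≫ h = z ≫ pullback.fst (pullback.fst pY g) p ≫ h := by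
            rw [pullback.lift_fst_assoc, Category.assoc]
        _ = z ≫ pullback.snd (pullback.fst pY g) p ≫ ψ := congrArg (z ≫ ·) hagree
        _ = pη ≫ ψ := pullback.lift_snd_assoc _ _ _ _
    exact (key a rfl).trans (key b hab.symm).symm
  have hflat : Flat (pullback.fst π π ≫ π ≫ pY) := inferInstance
  have hpair := hw (pullback.fst π π) (pullback.snd π π) pullback.condition hflat
  have hcoeq : ∀ {W : Scheme.{u}} (g₁ g₂ : W ⟶ pullback pY g), g₁ ≫ π = g₂ ≫ π → g₁ ≫ h = g₂ ≫ h :=
    fun g₁ g₂ e => by
      calc g₁ ≫ h = pullback.lift g₁ g₂ e ≫ pullback.fst π π ≫ h := (pullback.lift_fst_assoc _ _ _ _).symm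
        _ = pullback.lift g₁ g₂ e ≫ pullback.snd π π ≫ h := congrArg (_ ≫ ·) hpair
        _ = g₂ ≫ h := pullback.lift_snd_assoc _ _ _ _
  let φ : Y ⟶ Z := EffectiveEpi.desc π h hcoeq
  have hfac : π ≫ φ = h := EffectiveEpi.fac π h hcoeq
  refine ⟨φ, ?_, ?_⟩
  · rw [← cancel_epi π, ← Category.assoc, hfac, hh]
  · let z := pullback.snd (pullback.fst pY g) p
    haveI : Flat z := inferInstanceAs (Flat (pullback.snd (pullback.fst pY g) p))
    haveI : Surjective z := inferInstanceAs (Surjective (pullback.snd (pullback.fst pY g) p))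
    haveI : QuasiCompact z := inferInstanceAs (QuasiCompact (pullback.snd (pullback.fst pY g) p))
    rw [← cancel_epi z, ← hagree, ← Category.assoc, ← pullback.condition, Category.assoc]
    exact congrArg (pullback.fst (pullback.fst pY g) p ≫ ·) hfac

end Groth.Agent.S14189
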