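import Mathlib
import Groth.Statements.S14192
-- import your own Groth.Agent.* helpers here

set_option autoImplicit false
open PowerSeries
open StackCount

namespace Groth.Agent.S14192

/-- Let R = Σ_n r_n X^n be a Laurent polynomial with integer coefficients and q > 1 an integer. In the
ring of formal power series in t over ℚ, the exponential of Σ_{v ≥ 1} R(q^v) t^v / v equals the
finite product Π_n (1 - q^n t)^(-r_n). Stated here with denominators cleared: the exponential series
multiplied by Π_{n : r_n > 0} (1 - q^n t)^(r_n) equals Π_{n : r_n < 0} (1 - q^n t)^(-r_n) (each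
factor 1 - q^n t is a unit, so this is equivalent). -/
theorem result (R : LaurentPolynomial ℤ) (q : ℤ) (hq : 1 < q) :
    (PowerSeries.exp ℚ).subst
        (PowerSeries.mk fun v : ℕ => if v = 0 then (0 : ℚ)
          else (R.coeff.sum fun (n : ℤ) (r : ℤ) => (r : ℚ) * (q : ℚ) ^ (n * (v : ℤ))) / (v : ℚ))
      * ∏ n ∈ R.coeff.support, (1 - PowerSeries.C ((q : ℚ) ^ n) * PowerSeries.X) ^ (R.coeff n).toNat
    = ∏ n ∈ R.coeff.support, (1 - PowerSeries.C ((q : ℚ) ^ n) * PowerSeries.X) ^ (-(R.coeff n)).toNat := by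
  classical
  let geo : ℚ → PowerSeries ℚ := fun c => PowerSeries.mk fun v => c ^ (v + 1)
  have hgeo : ∀ c : ℚ, geo c * (1 - PowerSeries.C c * PowerSeries.X) = PowerSeries.C c := by
    intro c
    ext v
    rw [mul_sub, mul_one, map_sub, show geo c * (PowerSeries.C c * PowerSeries.X) = PowerSeries.C c * geo c * PowerSeries.X by ring]
    rcases v with _ | v
    · simp [geo]
    · rw [PowerSeries.coeff_succ_mul_X, PowerSeries.coeff_C_mul, PowerSeries.coeff_C]
      simp [geo, pow_succ']
  let d := PowerSeries.derivative ℚ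
  have hdp : ∀ (s : Finset ℤ) (k : ℤ → ℕ), d (∏ n ∈ s, (1 - PowerSeries.C ((q : ℚ) ^ n) * PowerSeries.X) ^ k n) =
      (-∑ n ∈ s, (k n : PowerSeries ℚ) * geo ((q : ℚ) ^ n)) * ∏ n ∈ s, (1 - PowerSeries.C ((q : ℚ) ^ n) * PowerSeries.X) ^ k n := by
    intro s k
    induction s using Finset.induction with
    | empty => simp [d]
    | @insert n s hn ih =>
      rw [Finset.prod_insert hn, Finset.sum_insert hn, Derivation.leibniz, ih, smul_eq_mul, smul_eq_mul]
      have h1 : d ((1 - PowerSeries.C ((q : ℚ) ^ n) * PowerSeries.X) ^ k n) =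
          -((k n : PowerSeries ℚ) * geo ((q : ℚ) ^ n)) * (1 - PowerSeries.C ((q : ℚ) ^ n) * PowerSeries.X) ^ k n := by
        rw [Derivation.leibniz_pow]
        rcases Nat.eq_zero_or_pos (k n) with h0 | h0
        · simp [h0]
        have h2 : d (1 - PowerSeries.C ((q : ℚ) ^ n) * PowerSeries.X) = -PowerSeries.C ((q : ℚ) ^ n) := by
          simp [d, Derivation.leibniz]
        rw [h2]
        conv_rhs => rw [← Nat.sub_add_cancel h0, pow_succ, Nat.sub_add_cancel h0]
        simp only [nsmul_eq_mul, smul_eq_mul]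
        linear_combination ((k n : PowerSeries ℚ) * (1 - PowerSeries.C ((q : ℚ) ^ n) * PowerSeries.X) ^ (k n - 1)) * hgeo ((q : ℚ) ^ n)
      rw [h1]
      ring
  let G : PowerSeries ℚ := PowerSeries.mk fun v : ℕ => if v = 0 then (0 : ℚ)
          else (R.coeff.sum fun (n : ℤ) (r : ℤ) => (r : ℚ) * (q : ℚ) ^ (n * (v : ℤ))) / (v : ℚ)
  show (PowerSeries.exp ℚ).subst G * _ = _
  have hG0 : PowerSeries.constantCoeff G = 0 := by simp [G]
  have hsub : PowerSeries.HasSubst G := PowerSeries.HasSubst.of_constantCoeff_zero' hG0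
  have hdG : d G = ∑ n ∈ R.coeff.support, (R.coeff n : PowerSeries ℚ) * geo ((q : ℚ) ^ n) := by
    ext v
    simp only [d, PowerSeries.coeff_derivative, map_sum, G, PowerSeries.coeff_mk, Nat.succ_ne_zero, if_false]
    rw [show ((v : ℚ) + 1) = ((v + 1 : ℕ) : ℚ) by push_cast; ring, div_mul_cancel₀ _ (by positivity), Finsupp.sum]
    refine Finset.sum_congr rfl fun n _ => ?_
    rw [← map_intCast (PowerSeries.C (R := ℚ)), PowerSeries.coeff_C_mul]
    simp [geo, zpow_mul]
    exact Or.inl (by exact_mod_cast zpow_natCast ((q : ℚ) ^ n) (v + 1))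
  let E := (PowerSeries.exp ℚ).subst G
  have hE0 : PowerSeries.constantCoeff E = 1 := by
    rw [← PowerSeries.coeff_zero_eq_constantCoeff_apply, PowerSeries.coeff_subst' hsub, finsum_eq_single _ 0]
    · simp
    · intro m hm
      simp [hG0, hm]
  let P := ∏ n ∈ R.coeff.support, (1 - PowerSeries.C ((q : ℚ) ^ n) * PowerSeries.X) ^ (R.coeff n).toNat
  let N := ∏ n ∈ R.coeff.support, (1 - PowerSeries.C ((q : ℚ) ^ n) * PowerSeries.X) ^ (-(R.coeff n)).toNat
  show E * P = N
  rw [← sub_eq_zero]
  let Q : PowerSeries ℚ := -∑ n ∈ R.coeff.support, (((-(R.coeff n)).toNat : ℕ) : PowerSeries ℚ) * geo ((q : ℚ) ^ n)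
  have hq' : d (E * P - N) = Q * (E * P - N) := by
    rw [map_sub, Derivation.leibniz, hdp, hdp, smul_eq_mul, smul_eq_mul, PowerSeries.derivative_subst hsub,
      PowerSeries.derivative_exp, hdG]
    have key : (∑ n ∈ R.coeff.support, (R.coeff n : PowerSeries ℚ) * geo ((q : ℚ) ^ n)) +
        (-∑ n ∈ R.coeff.support, (((R.coeff n).toNat : ℕ) : PowerSeries ℚ) * geo ((q : ℚ) ^ n)) = Q := by
      simp only [Q, ← Finset.sum_neg_distrib]
      rw [← Finset.sum_add_distrib]
      refine Finset.sum_congr rfl fun n _ => ?_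
      have : (R.coeff n : PowerSeries ℚ) = ((R.coeff n).toNat : PowerSeries ℚ) - ((-(R.coeff n)).toNat : PowerSeries ℚ) := by
        exact_mod_cast congrArg (Int.cast : ℤ → PowerSeries ℚ) (Int.toNat_sub_toNat_neg (R.coeff n)).symm
      rw [this]
      ring
    rw [← key]
    simp only [E, P, N]
    linear_combination (∏ n ∈ R.coeff.support, (1 - PowerSeries.C ((q : ℚ) ^ n) * PowerSeries.X) ^ (-(R.coeff n)).toNat) * key
  ext m
  induction m using Nat.strong_induction_on with
  | _ m ih =>
    rcases m with _ | m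
    · simp [map_prod, hE0, P, N]
    · have h := congrArg (PowerSeries.coeff m) hq'
      simp only [d, PowerSeries.coeff_derivative, PowerSeries.coeff_mul] at h
      rw [Finset.sum_eq_zero fun x hx => by
        rw [ih x.2 (by have := Finset.HasAntidiagonal.mem_antidiagonal.1 hx; omega), map_zero, mul_zero]] at h
      rw [map_zero]
      exact (mul_eq_zero.1 h).resolve_right (by positivity)

end Groth.Agent.S14192
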