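import Groth.Statements.S14193
import Mathlib
-- import your own Groth.Agent.* helpers here

set_option autoImplicit false
open PowerSeries
open StackCount

namespace Groth.Agent.S14193

open Polynomial in
/-- Products of the `Polynomial.X ^ n - 1`. -/
noncomputable def cycSub : Submonoid ℤ[X] := Submonoid.closure (Set.range fun n : ℕ => Polynomial.X ^ (n + 1) - 1)

open Polynomial in
theorem monic_of_mem {D : ℤ[X]} (hD : D ∈ cycSub) : D.Monic := by
  induction hD using Submonoid.closure_induction with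
  | mem x hx =>
    obtain ⟨n, rfl⟩ := hx
    simpa using monic_X_pow_sub_C (1 : ℤ) (Nat.succ_ne_zero n)
  | one => exact monic_one
  | mul x y _ _ hx hy => exact hx.mul hy

open Polynomial in
theorem norm_eq_one_of_root {D : ℤ[X]} (hD : D ∈ cycSub) (z : ℂ) (hz : aeval z D = 0) : ‖z‖ = 1 := by
  induction hD using Submonoid.closure_induction with
  | mem x hx =>
    obtain ⟨n, rfl⟩ := hx
    simp only [map_sub, map_pow, aeval_X, map_one, sub_eq_zero] at hz
    exact Complex.norm_eq_one_of_pow_eq_one hz (Nat.succ_ne_zero n)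
  | one => simp at hz
  | mul x y _ _ hx hy =>
    rw [map_mul, mul_eq_zero] at hz
    exact hz.elim hx hy

open Polynomial in
noncomputable def emb : ℤ[X] →+* RatFunc ℚ :=
  (algebraMap ℚ[X] (RatFunc ℚ)).comp (Polynomial.mapRingHom (Int.castRingHom ℚ))

open Polynomial in
theorem exists_normal_form (F : RatFunc ℚ)
    (hF : F ∈ Subring.closure
      (({RatFunc.X, (RatFunc.X : RatFunc ℚ)⁻¹} : Set (RatFunc ℚ)) ∪
        Set.range fun n : ℕ => ((RatFunc.X : RatFunc ℚ) ^ (n + 1) - 1)⁻¹)) :
    ∃ (P D : ℤ[X]) (a : ℕ), D ∈ cycSub ∧ F * emb (Polynomial.X ^ a * D) = emb P := by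
  have hXX : emb Polynomial.X = RatFunc.X := by simp [emb]
  induction hF using Subring.closure_induction with
  | mem x hx =>
    rcases hx with (rfl | rfl) | ⟨n, rfl⟩
    · exact ⟨Polynomial.X, 1, 0, cycSub.one_mem, by simp [hXX]⟩
    · exact ⟨1, 1, 1, cycSub.one_mem, by simp [hXX, inv_mul_cancel₀ (RatFunc.X_ne_zero : (RatFunc.X : RatFunc ℚ) ≠ 0)]⟩
    · have h : emb (Polynomial.X ^ (n + 1) - 1) = RatFunc.X ^ (n + 1) - 1 := by simp [hXX]
      refine ⟨1, Polynomial.X ^ (n + 1) - 1, 0, Submonoid.subset_closure ⟨n, rfl⟩, ?_⟩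
      show (RatFunc.X ^ (n + 1) - 1)⁻¹ * emb (Polynomial.X ^ 0 * (Polynomial.X ^ (n + 1) - 1)) = emb 1
      rw [pow_zero, one_mul, h, map_one, inv_mul_cancel₀]
      rw [← h]
      intro h0
      have h1 : (Polynomial.X ^ (n + 1) - 1 : ℤ[X]).map (Int.castRingHom ℚ) = 0 :=
        RatFunc.algebraMap_injective ℚ (h0.trans (map_zero _).symm)
      exact ((monic_of_mem (Submonoid.subset_closure ⟨n, rfl⟩)).map _).ne_zero h1
  | zero => exact ⟨0, 1, 0, cycSub.one_mem, by simp⟩
  | one => exact ⟨1, 1, 0, cycSub.one_mem, by simp⟩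
  | add x y _ _ hx hy =>
    obtain ⟨P, D, a, hD, hP⟩ := hx
    obtain ⟨Q, E, b, hE, hQ⟩ := hy
    refine ⟨P * (Polynomial.X ^ b * E) + Q * (Polynomial.X ^ a * D), D * E, a + b, cycSub.mul_mem hD hE, ?_⟩
    simp only [map_add, map_mul, map_pow] at hP hQ ⊢
    linear_combination (emb Polynomial.X ^ b * emb E) * hP + (emb Polynomial.X ^ a * emb D) * hQ
  | neg x _ hx =>
    obtain ⟨P, D, a, hD, hP⟩ := hx
    exact ⟨-P, D, a, hD, by rw [map_neg, ← hP, neg_mul]⟩
  | mul x y _ _ hx hy =>
    obtain ⟨P, D, a, hD, hP⟩ := hx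
    obtain ⟨Q, E, b, hE, hQ⟩ := hy
    refine ⟨P * Q, D * E, a + b, cycSub.mul_mem hD hE, ?_⟩
    simp only [map_mul, map_pow] at hP hQ ⊢
    linear_combination (y * emb Polynomial.X ^ b * emb E) * hP + emb P * hQ

open PowerSeries in
/-- Rationality of the exponential gives a linear recurrence. -/
theorem exists_recurrence (G : ℕ → ℚ) (P Q : Polynomial ℚ) (hQ : Q ≠ 0)
    (h : (PowerSeries.exp ℚ).subst (PowerSeries.mk fun v : ℕ => if v = 0 then (0 : ℚ) else G v / (v : ℚ))
      * (Q : PowerSeries ℚ) = (P : PowerSeries ℚ)) :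
    ∃ T : Polynomial ℚ, T ≠ 0 ∧ ∃ N : ℕ, ∀ v ≥ N,
      ∑ j ∈ Finset.range (T.natDegree + 1), T.coeff j * G (v + (T.natDegree - j)) = 0 := by
  classical
  set S : PowerSeries ℚ := PowerSeries.mk fun v : ℕ => if v = 0 then (0 : ℚ) else G v / (v : ℚ) with hS
  set E := (PowerSeries.exp ℚ).subst S
  have hS0 : PowerSeries.constantCoeff S = 0 := by
    rw [← PowerSeries.coeff_zero_eq_constantCoeff_apply, hS, PowerSeries.coeff_mk, if_pos rfl]
  have hsub : PowerSeries.HasSubst S := PowerSeries.HasSubst.of_constantCoeff_zero' hS0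
  have hE0 : PowerSeries.constantCoeff E = 1 := by
    have h1 : PowerSeries.constantCoeff (((PowerSeries.exp ℚ) - 1).subst S) = 0 :=
      PowerSeries.constantCoeff_subst_eq_zero hS0 _ (by simp)
    rw [← PowerSeries.coe_substAlgHom hsub, map_sub, map_one, map_sub, map_one, sub_eq_zero,
      PowerSeries.coe_substAlgHom hsub] at h1
    exact h1
  have hE : E ≠ 0 := fun h => by simp [h] at hE0
  set g := d⁄dX ℚ S with hg
  have hgc : ∀ n, PowerSeries.coeff n g = G (n + 1) := fun n => by
    rw [hg, PowerSeries.coeff_derivative, hS, PowerSeries.coeff_mk, if_neg (Nat.succ_ne_zero n)]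
    push_cast
    field_simp
  have hdE : d⁄dX ℚ E = E * g := by
    rw [hg, PowerSeries.derivative_subst hsub, PowerSeries.derivative_exp]
  let T := P * Q
  have hP : (P : PowerSeries ℚ) ≠ 0 := by
    rw [← h]
    exact mul_ne_zero hE (fun hq => hQ (Polynomial.coe_eq_zero_iff.1 hq))
  have hP' : P ≠ 0 := fun hp => hP (by rw [hp, Polynomial.coe_zero])
  have hT : g * (T : PowerSeries ℚ) =
      ((Polynomial.derivative P * Q - P * Polynomial.derivative Q : Polynomial ℚ) : PowerSeries ℚ) := by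
    have h1 := congrArg (d⁄dX ℚ) h
    rw [Derivation.leibniz, smul_eq_mul, smul_eq_mul, hdE, PowerSeries.derivative_coe, PowerSeries.derivative_coe] at h1
    simp only [T, Polynomial.coe_mul, Polynomial.coe_sub]
    rw [← h] at ⊢
    linear_combination (Q : PowerSeries ℚ) * h1
  set R := Polynomial.derivative P * Q - P * Polynomial.derivative Q
  refine ⟨T, mul_ne_zero hP' hQ, R.natDegree + 2, fun v hv => ?_⟩
  have h2 := congrArg (PowerSeries.coeff (v + T.natDegree - 1)) hT
  rw [Polynomial.coeff_coe, Polynomial.coeff_eq_zero_of_natDegree_lt (p := R) (by omega), mul_comm,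
    PowerSeries.coeff_mul, Finset.Nat.sum_antidiagonal_eq_sum_range_succ_mk] at h2
  rw [← Finset.sum_subset (s₁ := Finset.range (T.natDegree + 1)) (by
    intro i hi; simp only [Finset.mem_range] at hi ⊢; omega)] at h2
  · rw [← h2]
    refine Finset.sum_congr rfl fun j hj => ?_
    rw [Finset.mem_range] at hj
    rw [Polynomial.coeff_coe, hgc]
    congr 2
    omega
  · intro i _ hi
    rw [Finset.mem_range, not_lt] at hi
    rw [Polynomial.coeff_coe, Polynomial.coeff_eq_zero_of_natDegree_lt (by omega), zero_mul]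

/-- Let q > 1 be an integer and let F be an element of the subring of the rational function field ℚ(X)
generated by X, X^(-1) and the fractions 1/(X^n - 1) for n ≥ 1 (so F(q^v) is defined for every v ≥
1). If the formal power series exp(Σ_{v ≥ 1} F(q^v) t^v / v) in ℚ⟦t⟧ is the expansion of a rational
function, i.e. its product with some non-zero polynomial in t is a polynomial, then F is a Laurent
polynomial with integer coefficients: F · X^a is the image of a polynomial with integer coefficients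
for some a. (The published statement also assumes that the series defines a meromorphic function on
the complex plane; that is implied by rationality and is omitted here.) -/
theorem result (q : ℤ) (hq : 1 < q) (F : RatFunc ℚ)
    (hF : F ∈ Subring.closure
      (({RatFunc.X, (RatFunc.X : RatFunc ℚ)⁻¹} : Set (RatFunc ℚ)) ∪
        Set.range fun n : ℕ => ((RatFunc.X : RatFunc ℚ) ^ (n + 1) - 1)⁻¹))
    (hrat : ∃ P Q : Polynomial ℚ, Q ≠ 0 ∧
      (PowerSeries.exp ℚ).subst
          (PowerSeries.mk fun v : ℕ => if v = 0 then (0 : ℚ)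
            else F.eval (RingHom.id ℚ) ((q : ℚ) ^ v) / (v : ℚ))
        * (Q : PowerSeries ℚ) = (P : PowerSeries ℚ)) :
    ∃ (P : Polynomial ℤ) (a : ℕ),
      F * RatFunc.X ^ a = algebraMap (Polynomial ℚ) (RatFunc ℚ) (P.map (Int.castRingHom ℚ)) := by
  classical
  obtain ⟨P₀, Q₀, hQ₀, hrat⟩ := hrat
  obtain ⟨P, D, a, hD, hP⟩ := exists_normal_form F hF
  set c := Int.castRingHom ℚ with hc
  have hDm : D.Monic := monic_of_mem hD
  have hq1 : (1 : ℚ) < q := by exact_mod_cast hq
  set B : Polynomial ℚ := Polynomial.X ^ a * D.map c with hB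
  have hBeq : (Polynomial.X ^ a * D).map c = B := by simp [hB]
  have hroot : ∀ z : ℂ, Polynomial.aeval z (D.map c) = 0 → ‖z‖ = 1 := fun z hz =>
    norm_eq_one_of_root hD z (by
      rw [Polynomial.aeval_def, Polynomial.eval₂_map] at hz
      rw [Polynomial.aeval_def, RingHom.ext_int (algebraMap ℤ ℂ) ((algebraMap ℚ ℂ).comp c)]
      exact hz)
  have hBne : ∀ v : ℕ, 1 ≤ v → B.eval ((q : ℚ) ^ v) ≠ 0 := by
    intro v hv h0
    have hx : (1 : ℚ) < (q : ℚ) ^ v := one_lt_pow₀ hq1 (by omega)
    rw [hB, Polynomial.eval_mul, Polynomial.eval_pow, Polynomial.eval_X, mul_eq_zero] at h0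
    rcases h0 with h0 | h0
    · exact (pow_ne_zero a (zero_lt_one.trans hx).ne') h0
    · have h1 := hroot (algebraMap ℚ ℂ ((q : ℚ) ^ v)) (by
        rw [Polynomial.aeval_algebraMap_apply, Polynomial.coe_aeval_eq_eval, h0, map_zero])
      rw [eq_ratCast, Complex.norm_ratCast, abs_of_pos (by exact_mod_cast zero_lt_one.trans hx)] at h1
      have h2 : (q : ℚ) ^ v = 1 := by exact_mod_cast h1
      exact hx.ne' h2
  have hB0 : B ≠ 0 := fun h => hBne 1 le_rfl (by rw [h, Polynomial.eval_zero])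
  have hFeq : F = algebraMap _ _ (P.map c) / algebraMap _ _ B := by
    rw [eq_div_iff ((map_ne_zero_iff _ (RatFunc.algebraMap_injective ℚ)).2 hB0), ← hBeq]
    exact hP
  have hev : ∀ v : ℕ, 1 ≤ v →
      F.eval (RingHom.id ℚ) ((q : ℚ) ^ v) = (P.map c).eval ((q : ℚ) ^ v) / B.eval ((q : ℚ) ^ v) := by
    intro v hv
    obtain ⟨w, hw⟩ := (RatFunc.denom_dvd hB0).2 ⟨_, hFeq⟩
    have hd : F.denom.eval ((q : ℚ) ^ v) ≠ 0 := fun h => hBne v hv (by rw [hw, Polynomial.eval_mul, h, zero_mul])
    have hn := congrArg (Polynomial.eval ((q : ℚ) ^ v)) ((RatFunc.num_mul_eq_mul_denom_iff hB0).2 hFeq)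
    rw [Polynomial.eval_mul (p := P.map c), Polynomial.eval_mul (p := F.num)] at hn
    show F.num.eval₂ _ _ / F.denom.eval₂ _ _ = _
    rw [Polynomial.eval₂_id, Polynomial.eval₂_id, div_eq_div_iff hd (hBne v hv)]
    exact hn
  obtain ⟨T, hT, N, hrec⟩ := exists_recurrence (fun v => F.eval (RingHom.id ℚ) ((q : ℚ) ^ v)) P₀ Q₀ hQ₀ hrat
  set d := T.natDegree
  -- the translates
  let s : ℕ → Polynomial ℚ := fun j => Polynomial.C ((q : ℚ) ^ (d - j)) * Polynomial.X
  let A : ℕ → Polynomial ℚ := fun j => (P.map c).comp (s j)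
  let Bj : ℕ → Polynomial ℚ := fun j => B.comp (s j)
  let Φ : Polynomial ℚ := ∑ j ∈ Finset.range (d + 1),
    Polynomial.C (T.coeff j) * A j * ∏ i ∈ (Finset.range (d + 1)).erase j, Bj i
  have hΦ : Φ = 0 := by
    refine Polynomial.eq_zero_of_infinite_isRoot _ ?_
    have hinj : Function.Injective fun v : ℕ => (q : ℚ) ^ (v + (N + 1)) := fun v w hvw => by
      have := pow_right_injective₀ (zero_lt_one.trans hq1) hq1.ne' hvw
      omega
    refine Set.infinite_of_injective_forall_mem hinj fun v => ?_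
    set V := v + (N + 1) with hV
    show Φ.eval ((q : ℚ) ^ V) = 0
    have hs : ∀ j, (s j).eval ((q : ℚ) ^ V) = (q : ℚ) ^ (V + (d - j)) := fun j => by
      simp [s, pow_add, mul_comm]
    have h1 : ∀ j, F.eval (RingHom.id ℚ) ((q : ℚ) ^ (V + (d - j))) * (Bj j).eval ((q : ℚ) ^ V) = (A j).eval ((q : ℚ) ^ V) := by
      intro j
      rw [hev _ (by omega), Polynomial.eval_comp, Polynomial.eval_comp, hs,
        div_mul_cancel₀ _ (hBne _ (by omega))]
    have h2 := congrArg (· * ∏ i ∈ Finset.range (d + 1), (Bj i).eval ((q : ℚ) ^ V)) (hrec V (by omega))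
    simp only [zero_mul, Finset.sum_mul] at h2
    rw [← h2, Polynomial.eval_finsetSum]
    refine Finset.sum_congr rfl fun j hj => ?_
    rw [Polynomial.eval_mul, Polynomial.eval_mul, Polynomial.eval_C, Polynomial.eval_prod, ← h1 j,
      ← Finset.mul_prod_erase _ _ hj]
    ring
  -- pick a non-zero coefficient
  have hTd : T.coeff d ≠ 0 := Polynomial.leadingCoeff_ne_zero.2 hT
  have hsd : s d = Polynomial.X := by simp [s]
  have hdvd : D.map c ∣ ∑ j ∈ Finset.range (d + 1),
      Polynomial.C (T.coeff j) * A j * ∏ i ∈ (Finset.range (d + 1)).erase j, Bj i := by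
    show D.map c ∣ Φ
    rw [hΦ]; exact dvd_zero _
  have hDB : D.map c ∣ Bj d := by
    show _ ∣ B.comp (s d)
    rw [hsd, Polynomial.comp_X, hB]
    exact dvd_mul_left _ _
  rw [← Finset.add_sum_erase _ _ (Finset.self_mem_range_succ d)] at hdvd
  have hdvd2 : D.map c ∣ Polynomial.C (T.coeff d) * A d * ∏ i ∈ (Finset.range (d + 1)).erase d, Bj i :=
    (dvd_add_left (Finset.dvd_sum fun j hj => Dvd.dvd.mul_left (hDB.trans (Finset.dvd_prod_of_mem _ (by
      rw [Finset.mem_erase] at hj ⊢
      exact ⟨hj.1.symm, Finset.self_mem_range_succ d⟩))) _)).1 hdvd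
  have hcop : IsCoprime (D.map c) (∏ i ∈ (Finset.range (d + 1)).erase d, Bj i) := by
    refine IsCoprime.prod_right fun i hi => ?_
    refine (Polynomial.isCoprime_iff_aeval_ne_zero_of_isAlgClosed _ ℂ _ _).2 ?_
    intro z
    by_contra hz
    push Not at hz
    obtain ⟨hz1, hz2⟩ := hz
    have hn1 := hroot z hz1
    have hid : i < d := by
      rw [Finset.mem_erase, Finset.mem_range] at hi
      omega
    have hsz : Polynomial.aeval z (s i) = ((q : ℂ) ^ (d - i)) * z := by simp [s]
    simp only [Bj, Polynomial.aeval_comp, hsz, hB, map_mul, map_pow, Polynomial.aeval_X, mul_eq_zero] at hz2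
    have hnorm : ‖((q : ℂ) ^ (d - i)) * z‖ = (q : ℝ) ^ (d - i) := by
      rw [norm_mul, hn1, mul_one, norm_pow, Complex.norm_intCast, abs_of_pos (by exact_mod_cast zero_lt_one.trans hq)]
    have hgt : (1 : ℝ) < (q : ℝ) ^ (d - i) := one_lt_pow₀ (by exact_mod_cast hq) (by omega)
    rcases hz2 with h | h
    · rw [pow_eq_zero_iff'] at h
      rw [h.1, norm_zero] at hnorm
      linarith
    · rw [hroot _ h] at hnorm
      linarith
  have hdiv : D.map c ∣ P.map c := by
    have h := hcop.dvd_of_dvd_mul_right hdvd2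
    rw [(Polynomial.isUnit_C.2 (Ne.isUnit hTd)).dvd_mul_left] at h
    simpa [A, hsd] using h
  obtain ⟨R, hR⟩ := (Polynomial.map_dvd_map c (Int.cast_injective) hDm).1 hdiv
  refine ⟨R, a, ?_⟩
  have hD0 : emb D ≠ 0 := fun h =>
    (hDm.map c).ne_zero (RatFunc.algebraMap_injective ℚ (h.trans (map_zero _).symm))
  have hX : emb Polynomial.X = RatFunc.X := by simp [emb]
  refine mul_right_cancel₀ hD0 ?_
  show F * RatFunc.X ^ a * emb D = emb R * emb D
  rw [← map_mul, mul_comm R D, ← hR, ← hP, map_mul, map_pow, hX, mul_assoc]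

end Groth.Agent.S14193
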