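import Mathlib
import Groth.Statements.S14194


set_option autoImplicit false
universe u
open W4c1btstackcounts
open StackCount

namespace Groth.Agent.S14194

section LA
variable {k : Type u} [Field k] {V : Type u} [AddCommGroup V] [Module k V] [FiniteDimensional k V]
  {W : Type u} [AddCommGroup W] [Module k W] [FiniteDimensional k W]

lemma rn (φ : V →ₗ[k] W) (S : Submodule k V) :
    Module.finrank k (S.map φ) + Module.finrank k ↥(S ⊓ LinearMap.ker φ) = Module.finrank k S := by
  have h := LinearMap.finrank_range_add_finrank_ker (φ.domRestrict S)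
  rw [LinearMap.range_domRestrict, LinearMap.ker_domRestrict] at h
  convert h using 2
  rw [← Submodule.finrank_map_subtype_eq S ((LinearMap.ker φ).comap S.subtype), Submodule.map_comap_subtype]

lemma map_congr_of_eqOn {φ ψ : V →ₗ[k] W} {S : Submodule k V} (h : ∀ x ∈ S, φ x = ψ x) :
    S.map φ = S.map ψ := by
  ext y
  simp only [Submodule.mem_map]
  exact ⟨fun ⟨x, hx, e⟩ => ⟨x, hx, by rw [← h x hx, e]⟩, fun ⟨x, hx, e⟩ => ⟨x, hx, by rw [h x hx, e]⟩⟩

lemma relCompl {A B : Submodule k V} (h : A ≤ B) : ∃ C, C ≤ B ∧ A ⊔ C = B ∧ A ⊓ C = ⊥ ∧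
    Module.finrank k A + Module.finrank k C = Module.finrank k B := by
  obtain ⟨W, hW⟩ := Submodule.exists_isCompl A
  have h1 : A ⊔ W ⊓ B = B := by rw [← sup_inf_assoc_of_le W h, hW.sup_eq_top, top_inf_eq]
  have h2 : A ⊓ (W ⊓ B) = ⊥ := by rw [← inf_assoc, hW.inf_eq_bot, bot_inf_eq]
  refine ⟨W ⊓ B, inf_le_right, h1, h2, ?_⟩
  have := Submodule.finrank_sup_add_finrank_inf_eq A (W ⊓ B)
  rw [h1, h2, finrank_bot, add_zero] at this
  exact this.symm

lemma extendMap (e : V →ₗ[k] W) {A C : Submodule k V} {C' : Submodule k W} (hAC : A ⊓ C = ⊥)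
    (hC : Module.finrank k C = Module.finrank k C') :
    ∃ e' : V →ₗ[k] W, (∀ x ∈ A, e' x = e x) ∧ C.map e' = C' := by
  let φ : C ≃ₗ[k] C' := LinearEquiv.ofFinrankEq C C' hC
  let ι : A × C →ₗ[k] V := A.subtype.coprod C.subtype
  have hι : LinearMap.ker ι = ⊥ := by
    rw [LinearMap.ker_eq_bot']
    rintro ⟨x, y⟩ h
    simp only [ι, LinearMap.coprod_apply, Submodule.subtype_apply] at h
    have hmem : (y : V) ∈ A ⊓ C := ⟨by rw [eq_neg_of_add_eq_zero_right h]; exact A.neg_mem x.2, y.2⟩
    rw [hAC, Submodule.mem_bot] at hmem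
    rw [hmem, add_zero] at h
    exact Prod.ext (Subtype.ext h) (Subtype.ext hmem)
  obtain ⟨p, hp⟩ := LinearMap.exists_leftInverse_of_injective ι hι
  let e' : V →ₗ[k] W := ((e ∘ₗ A.subtype).coprod (C'.subtype ∘ₗ φ.toLinearMap)) ∘ₗ p
  have hA : ∀ x : A, e' x = e x := fun x => by
    have h : p x = (x, 0) := by
      rw [show (x : V) = ι (x, 0) by simp [ι]]
      exact LinearMap.congr_fun hp (x, 0)
    simp [e', h]
  have hCe : ∀ y : C, e' y = φ y := fun y => by
    have h : p y = (0, y) := by
      rw [show (y : V) = ι (0, y) by simp [ι]]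
      exact LinearMap.congr_fun hp (0, y)
    simp [e', h]
  refine ⟨e', fun x hx => hA ⟨x, hx⟩, ?_⟩
  ext z
  simp only [Submodule.mem_map]
  constructor
  · rintro ⟨y, hy, rfl⟩
    rw [hCe ⟨y, hy⟩]
    exact (φ _).2
  · intro hz
    obtain ⟨y, hy⟩ := φ.surjective ⟨z, hz⟩
    exact ⟨y, y.2, by rw [hCe y, hy]⟩

lemma flagIso (G : ℕ → Submodule k V) (hG : Monotone G) (hG0 : G 0 = ⊥) (r : ℕ) (hGr : G r = ⊤)
    (K K' : Submodule k V) (hdim : ∀ i ≤ r, Module.finrank k ↥(K ⊓ G i) = Module.finrank k ↥(K' ⊓ G i)) :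
    ∃ e : V ≃ₗ[k] V, (∀ i ≤ r, (G i).map e.toLinearMap = G i) ∧ K.map e.toLinearMap = K' := by
  have step : ∀ n ≤ r, ∃ e : V →ₗ[k] V, ∀ i ≤ n, (G i).map e = G i ∧ (K ⊓ G i).map e = K' ⊓ G i := by
    intro n
    induction n with
    | zero =>
      intro _
      refine ⟨LinearMap.id, fun i hi => ?_⟩
      rw [Nat.le_zero.1 hi, hG0]
      simp
    | succ n ih =>
      intro hn
      obtain ⟨e, he⟩ := ih (by omega)
      have hle : G n ≤ G (n + 1) := hG (Nat.le_succ n)
      obtain ⟨C, hCle, hCs, hCi, hCd⟩ := relCompl (inf_le_inf_left K hle)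
      obtain ⟨C', hC'le, hC's, hC'i, hC'd⟩ := relCompl (inf_le_inf_left K' hle)
      have hCC : Module.finrank k C = Module.finrank k C' := by
        have h1 := hdim n (by omega)
        have h2 := hdim (n + 1) hn
        omega
      have hAC : G n ⊓ C = ⊥ := by
        refine le_bot_iff.1 (hCi ▸ ?_)
        exact le_inf (le_inf (inf_le_right.trans (hCle.trans inf_le_left)) inf_le_left) inf_le_right
      have hAC' : G n ⊓ C' = ⊥ := by
        refine le_bot_iff.1 (hC'i ▸ ?_)
        exact le_inf (le_inf (inf_le_right.trans (hC'le.trans inf_le_left)) inf_le_left) inf_le_right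
      have hCB : C ≤ G (n + 1) := hCle.trans inf_le_right
      have hC'B : C' ≤ G (n + 1) := hC'le.trans inf_le_right
      obtain ⟨e1, he1, he1C⟩ := extendMap e hAC hCC
      obtain ⟨D, hDle, hDs, hDi, hDd⟩ := relCompl (sup_le hle hCB)
      obtain ⟨D', hD'le, hD's, hD'i, hD'd⟩ := relCompl (sup_le hle hC'B)
      have hDD : Module.finrank k D = Module.finrank k D' := by
        have h1 := Submodule.finrank_sup_add_finrank_inf_eq (G n) C
        have h2 := Submodule.finrank_sup_add_finrank_inf_eq (G n) C'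
        rw [hAC, finrank_bot] at h1
        rw [hAC', finrank_bot] at h2
        omega
      obtain ⟨e2, he2, he2D⟩ := extendMap e1 hDi hDD
      refine ⟨e2, fun i hi => ?_⟩
      have hold : ∀ i ≤ n, (G i).map e2 = G i ∧ (K ⊓ G i).map e2 = K' ⊓ G i := by
        intro i hi
        have hx : ∀ x ∈ G i, e2 x = e x := fun x hx => by
          rw [he2 x (le_sup_left (a := G n) (hG hi hx)), he1 x (hG hi hx)]
        refine ⟨(map_congr_of_eqOn hx).trans (he i hi).1, ?_⟩
        exact (map_congr_of_eqOn fun x hxK => hx x (Submodule.mem_inf.1 hxK).2).trans (he i hi).2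
      rcases eq_or_lt_of_le hi with rfl | hlt
      · have hC2 : C.map e2 = C' := (map_congr_of_eqOn fun x hx => he2 x (le_sup_right (a := G n) hx)).trans he1C
        constructor
        · conv_lhs => rw [← hDs]
          rw [Submodule.map_sup, Submodule.map_sup, (hold n le_rfl).1, hC2, he2D, hD's]
        · conv_lhs => rw [← hCs]
          rw [Submodule.map_sup, (hold n le_rfl).2, hC2, hC's]
      · exact hold i (by omega)
  obtain ⟨e, he⟩ := step r le_rfl
  have hsurj : Function.Surjective e := by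
    have h := (he r le_rfl).1
    rw [hGr, Submodule.map_top] at h
    exact LinearMap.range_eq_top.1 h
  refine ⟨LinearEquiv.ofBijective e ⟨LinearMap.injective_iff_surjective.2 hsurj, hsurj⟩,
    fun i hi => (he i hi).1, ?_⟩
  have h := (he r le_rfl).2
  rw [hGr, inf_top_eq, inf_top_eq] at h
  exact h

lemma flagSection (φ : V →ₗ[k] W) (G : ℕ → Submodule k V) (hG : Monotone G) (n : ℕ) :
    ∃ s : W →ₗ[k] V, (∀ y ∈ (G n).map φ, φ (s y) = y) ∧ ∀ i ≤ n, ((G i).map φ).map s ≤ G i := by
  induction n with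
  | zero =>
    obtain ⟨g, hg⟩ := LinearMap.exists_rightInverse_of_surjective (φ.submoduleMap (G 0))
      (LinearMap.range_eq_top.2 (φ.submoduleMap_surjective (G 0)))
    obtain ⟨σ, hσ⟩ := LinearMap.exists_extend ((G 0).subtype ∘ₗ g)
    have hσ' : ∀ y : (G 0).map φ, σ y = ((g y : G 0) : V) := fun y => LinearMap.congr_fun hσ y
    refine ⟨σ, fun y hy => ?_, fun i hi => ?_⟩
    · rw [hσ' ⟨y, hy⟩]
      exact congrArg Subtype.val (LinearMap.congr_fun hg ⟨y, hy⟩)
    · rw [Nat.le_zero.1 hi]
      rintro _ ⟨y, hy, rfl⟩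
      rw [hσ' ⟨y, hy⟩]
      exact (g _).2
  | succ n ih =>
    obtain ⟨s, hs1, hs2⟩ := ih
    obtain ⟨g, hg⟩ := LinearMap.exists_rightInverse_of_surjective (φ.submoduleMap (G (n + 1)))
      (LinearMap.range_eq_top.2 (φ.submoduleMap_surjective (G (n + 1))))
    obtain ⟨σ, hσ⟩ := LinearMap.exists_extend ((G (n + 1)).subtype ∘ₗ g)
    have hσ' : ∀ y : (G (n + 1)).map φ, σ y = ((g y : G (n + 1)) : V) := fun y => LinearMap.congr_fun hσ y
    obtain ⟨Q, hQ⟩ := Submodule.exists_isCompl ((G n).map φ)
    let P : W →ₗ[k] W := ((G n).map φ).subtype ∘ₗ Submodule.linearProjOfIsCompl _ _ hQ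
    have hP : ∀ y, P y ∈ (G n).map φ := fun y => (Submodule.linearProjOfIsCompl _ _ hQ y).2
    have hPid : ∀ y ∈ (G n).map φ, P y = y := fun y hy =>
      congrArg Subtype.val (Submodule.linearProjOfIsCompl_apply_left hQ ⟨y, hy⟩)
    have hmono : (G n).map φ ≤ (G (n + 1)).map φ := Submodule.map_mono (hG (Nat.le_succ n))
    refine ⟨s ∘ₗ P + σ ∘ₗ (LinearMap.id - P), fun y hy => ?_, fun i hi => ?_⟩
    · have hy2 : y - P y ∈ (G (n + 1)).map φ := Submodule.sub_mem _ hy (hmono (hP y))
      simp only [LinearMap.add_apply, LinearMap.comp_apply, LinearMap.sub_apply, LinearMap.id_apply, map_add]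
      rw [hs1 _ (hP y), hσ' ⟨_, hy2⟩]
      have h3 := congrArg Subtype.val (LinearMap.congr_fun hg ⟨_, hy2⟩)
      exact (congrArg (P y + ·) h3).trans (add_sub_cancel (P y) y)
    · rintro _ ⟨y, hy, rfl⟩
      simp only [LinearMap.add_apply, LinearMap.comp_apply, LinearMap.sub_apply, LinearMap.id_apply]
      rcases eq_or_lt_of_le hi with rfl | hlt
      · have hy2 : y - P y ∈ (G (n + 1)).map φ := Submodule.sub_mem _ hy (hmono (hP y))
        refine Submodule.add_mem _ (hG (Nat.le_succ n) (hs2 n le_rfl ⟨P y, hP y, rfl⟩)) ?_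
        rw [hσ' ⟨_, hy2⟩]
        exact (g _).2
      · have hyn : y ∈ (G n).map φ := Submodule.map_mono (hG (Nat.le_of_lt_succ hlt)) hy
        rw [hPid y hyn, sub_self, map_zero, add_zero]
        exact hs2 i (by omega) ⟨y, hy, rfl⟩

lemma equiv_of_ker_eq (φ φ' : V →ₗ[k] W) (e : V ≃ₗ[k] V) (h : (LinearMap.ker φ).map e.toLinearMap = LinearMap.ker φ') :
    ∃ η : W ≃ₗ[k] W, ∀ x, η (φ x) = φ' (e x) := by
  let e0 : LinearMap.range φ ≃ₗ[k] LinearMap.range φ' :=
    φ.quotKerEquivRange.symm.trans ((Submodule.Quotient.equiv _ _ e h).trans φ'.quotKerEquivRange)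
  have he0 : ∀ x, (e0 ⟨φ x, LinearMap.mem_range_self φ x⟩ : W) = φ' (e x) := by
    intro x
    simp only [e0, LinearEquiv.trans_apply, φ.quotKerEquivRange_symm_apply_image x (LinearMap.mem_range_self φ x),
      Submodule.mkQ_apply, Submodule.Quotient.equiv_apply, Submodule.mapQ_apply, LinearEquiv.coe_coe,
      LinearMap.quotKerEquivRange_apply_mk]
  obtain ⟨Q, hQ⟩ := Submodule.exists_isCompl (LinearMap.range φ)
  obtain ⟨Q', hQ'⟩ := Submodule.exists_isCompl (LinearMap.range φ')
  have hd : Module.finrank k Q = Module.finrank k Q' := by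
    have h1 := Submodule.finrank_add_eq_of_isCompl hQ
    have h2 := Submodule.finrank_add_eq_of_isCompl hQ'
    have h3 := e0.finrank_eq
    omega
  refine ⟨(Submodule.prodEquivOfIsCompl _ _ hQ).symm.trans
    ((e0.prodCongr (LinearEquiv.ofFinrankEq Q Q' hd)).trans (Submodule.prodEquivOfIsCompl _ _ hQ')), fun x => ?_⟩
  simp only [LinearEquiv.trans_apply]
  rw [show (Submodule.prodEquivOfIsCompl _ _ hQ).symm (φ x) =
    ((⟨φ x, LinearMap.mem_range_self φ x⟩ : LinearMap.range φ), (0 : Q)) from
    Submodule.prodEquivOfIsCompl_symm_apply_left _ _ hQ ⟨φ x, LinearMap.mem_range_self φ x⟩]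
  simp [he0]

end LA

section Chain
variable {k : Type u} [Field k] {d : ℕ → ℕ}

abbrev Chain (k : Type u) (d : ℕ → ℕ) := (i : ℕ) → Matrix (Fin (d (i + 1))) (Fin (d i)) k

/-- The image of the `i`-th space in the `j`-th. -/
noncomputable def F (f : Chain k d) (i : ℕ) : (j : ℕ) → Submodule k (Fin (d j) → k)
  | 0 => ⊤
  | j + 1 => if j + 1 ≤ i then ⊤ else (F f i j).map (Matrix.toLin' (f j))

lemma F_top (f : Chain k d) : ∀ {i j : ℕ}, j ≤ i → F f i j = ⊤
  | _, 0, _ => rfl
  | i, j + 1, h => by rw [F, if_pos h]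

lemma F_succ (f : Chain k d) {i j : ℕ} (h : i ≤ j) : F f i (j + 1) = (F f i j).map (Matrix.toLin' (f j)) := by
  rw [F, if_neg (by omega)]

lemma F_mono (f : Chain k d) (j : ℕ) : Monotone (fun i => F f i j) := by
  induction j with
  | zero => exact fun _ _ _ => le_rfl
  | succ j ih =>
    intro i i' h
    show F f i (j + 1) ≤ F f i' (j + 1)
    by_cases h' : j + 1 ≤ i'
    · rw [F_top f h']; exact le_top
    · rw [F_succ f (by omega), F_succ f (by omega)]
      exact Submodule.map_mono (ih h)

lemma iterImage_eq (f : Chain k d) (i n : ℕ) : iterImage f i n = F f i (i + n) := by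
  induction n with
  | zero => exact (F_top f le_rfl).symm
  | succ n ih =>
    show (iterImage f i n).map _ = F f i (i + n + 1)
    rw [ih, F_succ f (by omega)]

lemma rankArray_eq (f : Chain k d) {i j : ℕ} (h : i ≤ j) : rankArray f i j = Module.finrank k (F f i j) := by
  obtain ⟨n, rfl⟩ := Nat.exists_eq_add_of_le h
  rw [rankArray, if_pos h, iterImage_eq, Nat.add_sub_cancel_left]

noncomputable def E (g : (j : ℕ) → Matrix.GeneralLinearGroup (Fin (d j)) k) (j : ℕ) :
    (Fin (d j) → k) ≃ₗ[k] (Fin (d j) → k) :=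
  LinearEquiv.ofLinearMap (Matrix.toLin' ((g j : Matrix.GeneralLinearGroup (Fin (d j)) k) : Matrix (Fin (d j)) (Fin (d j)) k))
    (Matrix.toLin' (((g j)⁻¹ : Matrix.GeneralLinearGroup (Fin (d j)) k) : Matrix (Fin (d j)) (Fin (d j)) k))
    (by rw [← Matrix.toLin'_mul, ← Units.val_mul, mul_inv_cancel, Units.val_one, Matrix.toLin'_one])
    (by rw [← Matrix.toLin'_mul, ← Units.val_mul, inv_mul_cancel, Units.val_one, Matrix.toLin'_one])

lemma F_conj (g : (j : ℕ) → Matrix.GeneralLinearGroup (Fin (d j)) k) (f : Chain k d) (i j : ℕ) :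
    F (conj g f) i j = (F f i j).map (E g j).toLinearMap := by
  induction j with
  | zero => simp [F, Submodule.map_top, LinearEquiv.range]
  | succ j ih =>
    by_cases h : j + 1 ≤ i
    · rw [F_top _ h, F_top _ h, Submodule.map_top, LinearEquiv.range]
    · rw [F_succ _ (by omega), F_succ _ (by omega), ih, ← Submodule.map_comp, ← Submodule.map_comp]
      congr 1
      refine LinearMap.ext fun x => ?_
      simp only [conj, Matrix.toLin'_mul, LinearMap.comp_apply]
      show Matrix.toLin' _ (Matrix.toLin' _ ((E g j).symm (E g j x))) = _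
      rw [LinearEquiv.symm_apply_apply]
      rfl

lemma finrank_ker_inf (f : Chain k d) {i j : ℕ} (h : i ≤ j) :
    rankArray f i (j + 1) + Module.finrank k ↥(F f i j ⊓ LinearMap.ker (Matrix.toLin' (f j))) = rankArray f i j := by
  rw [rankArray_eq f h, rankArray_eq f (by omega : i ≤ j + 1), F_succ f h]
  exact rn _ _

lemma part1 (g : (j : ℕ) → Matrix.GeneralLinearGroup (Fin (d j)) k) (f : Chain k d) {i j : ℕ} (h : i ≤ j) :
    rankArray (conj g f) i j = rankArray f i j := by
  rw [rankArray_eq _ h, rankArray_eq _ h, F_conj]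
  exact ((E g j).submoduleMap (F f i j)).finrank_eq.symm

lemma part2 (f : Chain k d) (r : ℕ) : IsRankArray d r (rankArray f) := by
  refine ⟨fun j _ _ => ?_, fun i j _ hij _ => ?_, fun i j _ hij _ => ?_, fun i j hi hij _ => ?_⟩
  · rw [rankArray_eq f le_rfl, F_top f le_rfl, finrank_top, Module.finrank_fin_fun]
  · rw [rankArray_eq f hij.le, rankArray_eq f (by omega : i + 1 ≤ j)]
    exact Submodule.finrank_mono (F_mono f j (Nat.le_succ i))
  · have := finrank_ker_inf f hij
    omega
  · have h1 := finrank_ker_inf f hij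
    have h2 := finrank_ker_inf f (show i - 1 ≤ j by omega)
    have h3 := Submodule.finrank_mono (inf_le_inf_right (LinearMap.ker (Matrix.toLin' (f j)))
      (F_mono f j (show i - 1 ≤ i by omega)))
    dsimp only at h3
    omega

abbrev Fam (k : Type u) [Field k] (d : ℕ → ℕ) := ∀ j, (Fin (d j) → k) ≃ₗ[k] (Fin (d j) → k)

def Inter (f f' : Chain k d) (r : ℕ) (e : Fam k d) : Prop :=
  ∀ i, 1 ≤ i → i + 1 ≤ r → ∀ x, Matrix.toLin' (f' i) (e i x) = e (i + 1) (Matrix.toLin' (f i) x)

lemma Inter.mapF {f f' : Chain k d} {r : ℕ} {e : Fam k d} (he : Inter f f' r e) {i : ℕ} (hi : 1 ≤ i) :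
    ∀ j, j ≤ r → (F f i j).map (e j).toLinearMap = F f' i j := by
  intro j
  induction j with
  | zero => intro _; simp [F, Submodule.map_top, LinearEquiv.range]
  | succ j ih =>
    intro hj
    by_cases h : j + 1 ≤ i
    · rw [F_top _ h, F_top _ h, Submodule.map_top, LinearEquiv.range]
    · rw [F_succ _ (by omega), F_succ _ (by omega), ← ih (by omega), ← Submodule.map_comp, ← Submodule.map_comp]
      congr 1
      exact LinearMap.ext fun x => (he j (by omega) hj x).symm

lemma lift_auto (f : Chain k d) : ∀ (r : ℕ) (h : (Fin (d r) → k) ≃ₗ[k] (Fin (d r) → k)),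
    (∀ i, 1 ≤ i → i ≤ r → (F f i r).map h.toLinearMap = F f i r) →
    ∃ e : Fam k d, e r = h ∧ Inter f f r e := by
  intro r
  induction r with
  | zero =>
    intro h _
    exact ⟨Function.update (fun j => LinearEquiv.refl k _) 0 h, Function.update_self _ _ _,
      fun i _ hi => absurd hi (by omega)⟩
  | succ r ih =>
    intro h hh
    rcases Nat.eq_zero_or_pos r with rfl | hr
    · exact ⟨Function.update (fun j => LinearEquiv.refl k _) 1 h, Function.update_self _ _ _,
        fun i hi hi' => absurd hi' (by omega)⟩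
    let φ := Matrix.toLin' (f r)
    obtain ⟨s, hs1, hs2⟩ := flagSection φ (fun i => F f i r) (F_mono f r) r
    have hrange : (F f r r).map φ = LinearMap.range φ := by rw [F_top f le_rfl, Submodule.map_top]
    have hhr : ∀ y ∈ LinearMap.range φ, h y ∈ LinearMap.range φ := by
      intro y hy
      have h2 := hh r hr (Nat.le_succ r)
      rw [F_succ f le_rfl, hrange] at h2
      rw [← h2]
      exact ⟨y, hy, rfl⟩
    let u : (Fin (d r) → k) →ₗ[k] (Fin (d r) → k) := s ∘ₗ h.toLinearMap ∘ₗ φ + (LinearMap.id - s ∘ₗ φ)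
    have hsφ : ∀ x, φ (s (φ x)) = φ x := fun x => hs1 _ (by rw [hrange]; exact LinearMap.mem_range_self φ x)
    have hu : ∀ x, φ (u x) = h (φ x) := by
      intro x
      simp only [u, LinearMap.add_apply, LinearMap.comp_apply, LinearMap.sub_apply, LinearMap.id_apply,
        map_add, map_sub, LinearEquiv.coe_coe, hsφ, sub_self, add_zero]
      exact hs1 _ (by rw [hrange]; exact hhr _ (LinearMap.mem_range_self φ x))
    have hinj : Function.Injective u := by
      rw [← LinearMap.ker_eq_bot, LinearMap.ker_eq_bot']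
      intro x hx
      have h0 : φ x = 0 := h.injective (by rw [map_zero, ← hu, hx, map_zero])
      simpa [u, h0] using hx
    let ue := LinearEquiv.ofBijective u ⟨hinj, LinearMap.injective_iff_surjective.1 hinj⟩
    have hue : ∀ i, 1 ≤ i → i ≤ r → (F f i r).map ue.toLinearMap = F f i r := by
      intro i hi hir
      refine Submodule.eq_of_le_of_finrank_eq ?_ (ue.submoduleMap (F f i r)).finrank_eq.symm
      rintro _ ⟨x, hx, rfl⟩
      show u x ∈ F f i r
      simp only [u, LinearMap.add_apply, LinearMap.comp_apply, LinearMap.sub_apply, LinearMap.id_apply,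
        LinearEquiv.coe_coe]
      have hmem : φ x ∈ F f i (r + 1) := by rw [F_succ f hir]; exact ⟨x, hx, rfl⟩
      have hmem2 : h (φ x) ∈ (F f i r).map φ := by
        rw [← F_succ f hir, ← hh i hi (by omega)]
        exact ⟨_, hmem, rfl⟩
      refine Submodule.add_mem _ (hs2 i hir ⟨_, hmem2, rfl⟩) (Submodule.sub_mem _ hx (hs2 i hir ⟨_, ?_, rfl⟩))
      exact ⟨x, hx, rfl⟩
    obtain ⟨e, her, he⟩ := ih ue hue
    refine ⟨Function.update e (r + 1) h, Function.update_self _ _ _, fun i hi hir x => ?_⟩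
    rw [Function.update_of_ne (by omega : i ≠ r + 1)]
    rcases eq_or_lt_of_le hir with h' | h'
    · obtain rfl : i = r := by omega
      rw [Function.update_self, her]
      exact hu x
    · rw [Function.update_of_ne (by omega : i + 1 ≠ r + 1)]
      exact he i hi (by omega) x

lemma exists_inter (f f' : Chain k d) : ∀ r : ℕ,
    (∀ i j, 1 ≤ i → i ≤ j → j ≤ r → rankArray f i j = rankArray f' i j) → ∃ e : Fam k d, Inter f f' r e := by
  intro r
  induction r with
  | zero => exact fun _ => ⟨fun j => LinearEquiv.refl k _, fun i _ hi => absurd hi (by omega)⟩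
  | succ r ih =>
    intro ha
    rcases Nat.eq_zero_or_pos r with rfl | hr
    · exact ⟨fun j => LinearEquiv.refl k _, fun i hi hi' => absurd hi' (by omega)⟩
    obtain ⟨e, he⟩ := ih fun i j hi hij hj => ha i j hi hij (by omega)
    let G : ℕ → Submodule k (Fin (d r) → k) := fun i => if i = 0 then ⊥ else F f' i r
    have hG : Monotone G := by
      intro a b hab
      by_cases ha0 : a = 0
      · simp [G, ha0]
      · simp only [G, if_neg ha0, if_neg (by omega : b ≠ 0)]
        exact F_mono f' r hab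
    let φ := Matrix.toLin' (f r)
    let φ' := Matrix.toLin' (f' r)
    have hdim : ∀ i ≤ r, Module.finrank k ↥((LinearMap.ker φ).map (e r).toLinearMap ⊓ G i) =
        Module.finrank k ↥(LinearMap.ker φ' ⊓ G i) := by
      intro i hi
      by_cases hi0 : i = 0
      · subst hi0
        suffices key : ∀ S : Submodule k (Fin (d r) → k), S = ⊥ →
            Module.finrank k ↥((LinearMap.ker φ).map (e r).toLinearMap ⊓ S) =
              Module.finrank k ↥(LinearMap.ker φ' ⊓ S) from key (G 0) (if_pos rfl)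
        rintro S rfl
        rw [inf_bot_eq, inf_bot_eq]
      suffices key : ∀ S : Submodule k (Fin (d r) → k), S = F f' i r →
          Module.finrank k ↥((LinearMap.ker φ).map (e r).toLinearMap ⊓ S) =
            Module.finrank k ↥(LinearMap.ker φ' ⊓ S) from key (G i) (if_neg hi0)
      rintro S rfl
      have h1 := finrank_ker_inf f hi
      have h2 := finrank_ker_inf f' hi
      rw [ha i (r + 1) (by omega) (by omega) le_rfl, ha i r (by omega) hi (by omega)] at h1
      rw [← he.mapF (by omega : 1 ≤ i) r le_rfl, ← Submodule.map_inf _ (e r).injective,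
        ((e r).submoduleMap (LinearMap.ker φ ⊓ F f i r)).finrank_eq.symm,
        he.mapF (by omega : 1 ≤ i) r le_rfl, inf_comm (LinearMap.ker φ), inf_comm (LinearMap.ker φ')]
      simp only [φ, φ']
      omega
    obtain ⟨h, hh, hK⟩ := flagIso G hG (if_pos rfl) r (by simp only [G, if_neg hr.ne', F_top f' le_rfl]) _ _ hdim
    obtain ⟨c, hcr, hc⟩ := lift_auto f' r h fun i hi hir => by
      have := hh i hir
      simp only [G, if_neg (by omega : i ≠ 0)] at this
      exact this
    obtain ⟨η, hη⟩ := equiv_of_ker_eq φ φ' ((e r).trans h) (by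
      rw [← hK, ← Submodule.map_comp]
      rfl)
    refine ⟨Function.update (fun j => (e j).trans (c j)) (r + 1) η, fun i hi hir x => ?_⟩
    rw [Function.update_of_ne (by omega : i ≠ r + 1)]
    rcases eq_or_lt_of_le hir with h' | h'
    · obtain rfl : i = r := by omega
      rw [Function.update_self, LinearEquiv.trans_apply, hcr]
      exact (hη x).symm
    · rw [Function.update_of_ne (by omega : i + 1 ≠ r + 1)]
      simp only [LinearEquiv.trans_apply]
      rw [hc i hi (by omega), he i hi (by omega)]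

lemma part3 (f f' : Chain k d) (r : ℕ)
    (ha : ∀ i j, 1 ≤ i → i ≤ j → j ≤ r → rankArray f i j = rankArray f' i j) :
    ∃ g : (j : ℕ) → Matrix.GeneralLinearGroup (Fin (d j)) k, ∀ i, 1 ≤ i → i + 1 ≤ r → conj g f i = f' i := by
  obtain ⟨e, he⟩ := exists_inter f f' r ha
  let g : (j : ℕ) → Matrix.GeneralLinearGroup (Fin (d j)) k := fun j =>
    ⟨LinearMap.toMatrix' (e j).toLinearMap, LinearMap.toMatrix' (e j).symm.toLinearMap,
      by rw [← LinearMap.toMatrix'_comp, LinearEquiv.comp_symm, LinearMap.toMatrix'_id],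
      by rw [← LinearMap.toMatrix'_comp, LinearEquiv.symm_comp, LinearMap.toMatrix'_id]⟩
  refine ⟨g, fun i hi hir => ?_⟩
  apply Matrix.toLin'.injective
  refine LinearMap.ext fun x => ?_
  simp only [conj, g, Matrix.toLin'_mul, LinearMap.comp_apply, Units.inv_mk, Matrix.toLin'_toMatrix',
    LinearEquiv.coe_coe]
  rw [← he i hi hir, LinearEquiv.apply_symm_apply]

variable (k d) in
/-- Span of the first `n` coordinate vectors. -/
noncomputable def L (j n : ℕ) : Submodule k (Fin (d j) → k) :=
  Submodule.span k ((fun q : Fin (d j) => Pi.single q (1 : k)) '' {q | (q : ℕ) < n})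

lemma finrank_L {j n : ℕ} (hn : n ≤ d j) : Module.finrank k (L k d j n) = n := by
  have hli : LinearIndependent k (fun i : Fin n => (Pi.single (Fin.castLE hn i) (1 : k) : Fin (d j) → k)) := by
    have h := (Pi.basisFun k (Fin (d j))).linearIndependent.comp _ (Fin.castLE_injective hn)
    simpa [Function.comp_def] using h
  have : (fun q : Fin (d j) => (Pi.single q (1 : k) : Fin (d j) → k)) '' {q | (q : ℕ) < n} =
      Set.range (fun i : Fin n => (Pi.single (Fin.castLE hn i) (1 : k) : Fin (d j) → k)) := by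
    ext v
    constructor
    · rintro ⟨q, hq, rfl⟩
      exact ⟨⟨q, hq⟩, rfl⟩
    · rintro ⟨i, rfl⟩
      exact ⟨Fin.castLE hn i, i.2, rfl⟩
  rw [L, this, finrank_span_eq_card hli, Fintype.card_fin]

lemma L_full (j : ℕ) : L k d j (d j) = ⊤ := by
  refine Submodule.eq_top_of_finrank_eq ?_
  rw [finrank_L le_rfl, Module.finrank_fin_fun]

variable (k) in
lemma part4 (r : ℕ) (a : ℕ → ℕ → ℕ) (ha : IsRankArray d r a) :
    ∃ f : Chain k d, ∀ i j, 1 ≤ i → i ≤ j → j ≤ r → rankArray f i j = a i j := by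
  classical
  obtain ⟨h1, h2, h3, h4⟩ := ha
  let b : ℕ → ℕ → ℕ := fun i j => if i = 0 then 0 else a i j
  let rel : ℕ → ℕ → ℕ → Prop := fun j p q => ∃ i, 1 ≤ i ∧ i ≤ j ∧ b (i - 1) j ≤ q ∧ q < b i j ∧
    q - b (i - 1) j + b (i - 1) (j + 1) = p ∧ p < b i (j + 1)
  let f : Chain k d := fun j => Matrix.of fun p q => if rel j p q then (1 : k) else 0
  have hb0 : ∀ i j, 1 ≤ i → b i j = a i j := fun i j hi => if_neg (by omega)
  have bmono : ∀ j i i', j ≤ r → i ≤ i' → i' ≤ j → b i j ≤ b i' j := by
    intro j i i' hj hii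
    induction i', hii using Nat.le_induction with
    | base => exact fun _ => le_rfl
    | succ i' _ ih =>
      intro hi'
      refine (ih (by omega)).trans ?_
      by_cases h0 : i' = 0
      · simp [b, h0]
      · rw [hb0 i' j (by omega), hb0 (i' + 1) j (by omega)]
        exact h2 i' j (by omega) (by omega) hj
  have bdd : ∀ i j, i ≤ j → j ≤ r → b i j ≤ d j := by
    intro i j hij hj
    by_cases hj0 : j = 0
    · simp [b, show i = 0 by omega]
    · exact (bmono j i j hj hij le_rfl).trans (by rw [hb0 j j (by omega), h1 j (by omega) hj])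
  have bstep : ∀ i j, 1 ≤ i → i ≤ j → j < r → b i (j + 1) + b (i - 1) j ≤ b i j + b (i - 1) (j + 1) := by
    intro i j hi hij hj
    rw [hb0 i _ hi, hb0 i _ hi]
    by_cases hi1 : i = 1
    · subst hi1
      simpa [b] using h3 1 j le_rfl hij hj
    · rw [hb0 (i - 1) _ (by omega), hb0 (i - 1) _ (by omega)]
      exact h4 i j (by omega) hij hj
  have huniq : ∀ j p p' q, j < r → rel j p q → rel j p' q → p = p' := by
    rintro j p p' q hj ⟨i, hi, hij, hq1, hq2, hp, -⟩ ⟨i', hi', hij', hq1', hq2', hp', -⟩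
    rcases lt_trichotomy i i' with h | h | h
    · have := bmono j i (i' - 1) hj.le (by omega) (by omega)
      omega
    · subst h; omega
    · have := bmono j i' (i - 1) hj.le (by omega) (by omega)
      omega
  have hcol : ∀ j (q : Fin (d j)), Matrix.toLin' (f j) (Pi.single q (1 : k)) =
      fun p : Fin (d (j + 1)) => if rel j p q then (1 : k) else 0 := by
    intro j q
    rw [Matrix.toLin'_apply, Matrix.mulVec_single_one]
    rfl
  have hcol1 : ∀ j (q : Fin (d j)) (p : Fin (d (j + 1))), j < r → rel j p q →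
      Matrix.toLin' (f j) (Pi.single q (1 : k)) = Pi.single p 1 := by
    intro j q p hj hpq
    rw [hcol]
    funext p'
    by_cases h : p' = p
    · subst h; rw [if_pos hpq, Pi.single_eq_same]
    · rw [if_neg (fun h' => h (Fin.ext (huniq j _ _ _ hj h' hpq))), Pi.single_eq_of_ne h]
  have hmap : ∀ i j, 1 ≤ i → i ≤ j → j < r → (L k d j (b i j)).map (Matrix.toLin' (f j)) = L k d (j + 1) (b i (j + 1)) := by
    intro i j hi hij hj
    refine le_antisymm ?_ ?_
    · rw [L, Submodule.map_span, Submodule.span_le]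
      rintro _ ⟨_, ⟨q, hq, rfl⟩, rfl⟩
      by_cases h : ∃ p : Fin (d (j + 1)), rel j p q
      · obtain ⟨p, hp⟩ := h
        rw [hcol1 j q p hj hp]
        refine Submodule.subset_span ⟨p, ?_, rfl⟩
        obtain ⟨i0, hi0, hi0j, hq1, -, -, hp2⟩ := hp
        have hi0i : i0 ≤ i := by
          by_contra hlt
          have := bmono j i (i0 - 1) hj.le (by omega) (by omega)
          have hq' : (q : ℕ) < b i j := hq
          omega
        exact lt_of_lt_of_le hp2 (bmono (j + 1) i0 i (by omega) hi0i (by omega))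
      · have : Matrix.toLin' (f j) (Pi.single q (1 : k)) = 0 := by
          rw [hcol]
          funext p
          exact if_neg fun hp => h ⟨p, hp⟩
        rw [this]
        exact zero_mem _
    · rw [L, Submodule.span_le]
      rintro _ ⟨p, hp, rfl⟩
      have hex : ∃ i0, (p : ℕ) < b i0 (j + 1) := ⟨i, hp⟩
      let i0 := Nat.find hex
      have hi0 : (p : ℕ) < b i0 (j + 1) := Nat.find_spec hex
      have hi0i : i0 ≤ i := Nat.find_le hp
      have hi01 : 1 ≤ i0 := by
        by_contra h
        rw [show i0 = 0 by omega] at hi0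
        simp [b] at hi0
      have hlo : b (i0 - 1) (j + 1) ≤ p := not_lt.1 (Nat.find_min hex (show i0 - 1 < i0 by omega))
      have hst := bstep i0 j hi01 (by omega) hj
      have hm1 := bmono j (i0 - 1) i0 hj.le (by omega) (by omega)
      have hq1 : (p : ℕ) - b (i0 - 1) (j + 1) + b (i0 - 1) j < b i0 j := by omega
      let q : Fin (d j) := ⟨(p : ℕ) - b (i0 - 1) (j + 1) + b (i0 - 1) j, lt_of_lt_of_le hq1 (bdd i0 j (by omega) hj.le)⟩
      refine ⟨Pi.single q 1, Submodule.subset_span ⟨q, lt_of_lt_of_le hq1 (bmono j i0 i hj.le hi0i hij), rfl⟩, ?_⟩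
      refine hcol1 j q p hj ⟨i0, hi01, by omega, Nat.le_add_left _ _, hq1, ?_, hi0⟩
      show (p : ℕ) - b (i0 - 1) (j + 1) + b (i0 - 1) j - b (i0 - 1) j + b (i0 - 1) (j + 1) = p
      omega
  refine ⟨f, fun i j hi hij hj => ?_⟩
  have hF : F f i j = L k d j (b i j) := by
    induction j, hij using Nat.le_induction with
    | base => rw [F_top f le_rfl, hb0 i i hi, h1 i hi hj, L_full]
    | succ j hij ih => rw [F_succ f hij, ih (by omega), hmap i j hi hij (by omega)]
  rw [rankArray_eq f hij, hF, finrank_L (bdd i j hij hj), hb0 i j hi]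

end Chain

/-- Let k be a field and d_1, …, d_r sizes (given as a function d on the naturals; only d_1, …, d_r
matter). The group Π_j GL_{d_j}(k) acts on chains of matrices f_i of size d_{i+1} × d_i (1 ≤ i < r)
by f_i ↦ g_{i+1} f_i g_i^(-1). Sending a chain to the array a_{i,j} = dim (f_{j-1} ⋯ f_i)(k^{d_i})
(1 ≤ i ≤ j ≤ r) is constant on orbits, takes values in the set of admissible arrays (a_{j,j} = d_j;
a_{i,j} ≤ a_{i+1,j} for i < j; a_{i,j+1} ≤ a_{i,j} for j < r; a_{i,j} - a_{i-1,j} ≥ a_{i,j+1} -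
a_{i-1,j+1} for 1 < i ≤ j < r), separates orbits, and reaches every admissible array: it is a
bijection from the orbit set onto the admissible arrays. (The published statement also asserts that,
when k is Galois over a subfield, the bijection is compatible with the Galois group acting entrywise
on matrices and trivially on arrays; this row omits that clause.) -/
theorem result (k : Type u) [Field k] (d : ℕ → ℕ) (r : ℕ) :
    (∀ (g : (j : ℕ) → Matrix.GeneralLinearGroup (Fin (d j)) k)
        (f : (i : ℕ) → Matrix (Fin (d (i + 1))) (Fin (d i)) k) (i j : ℕ),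
        1 ≤ i → i ≤ j → j ≤ r → rankArray (conj g f) i j = rankArray f i j) ∧
    (∀ f : (i : ℕ) → Matrix (Fin (d (i + 1))) (Fin (d i)) k, IsRankArray d r (rankArray f)) ∧
    (∀ f f' : (i : ℕ) → Matrix (Fin (d (i + 1))) (Fin (d i)) k,
        (∀ i j : ℕ, 1 ≤ i → i ≤ j → j ≤ r → rankArray f i j = rankArray f' i j) →
        ∃ g : (j : ℕ) → Matrix.GeneralLinearGroup (Fin (d j)) k,
          ∀ i : ℕ, 1 ≤ i → i + 1 ≤ r → conj g f i = f' i) ∧
    (∀ a : ℕ → ℕ → ℕ, IsRankArray d r a →
        ∃ f : (i : ℕ) → Matrix (Fin (d (i + 1))) (Fin (d i)) k,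
          ∀ i j : ℕ, 1 ≤ i → i ≤ j → j ≤ r → rankArray f i j = a i j) := by
  exact ⟨fun g f i j _ hij _ => part1 g f hij, fun f => part2 f r, fun f f' h => part3 f f' r h,
    fun a ha => part4 k r a ha⟩

end Groth.Agent.S14194
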