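import Groth.Statements.S14195
import Mathlib.FieldTheory.Finite.Basic
import Mathlib.FieldTheory.Separable
import Mathlib.GroupTheory.OrderOfElement
import Mathlib.FieldTheory.Galois.Basic
import Mathlib.FieldTheory.Finite.GaloisField
-- import your own Groth.Agent.* helpers here

set_option autoImplicit false
universe u v
open StackCount

namespace Groth.Agent.S14195

section Aux

variable {k : Type u} [Field k] [Finite k]

local notation "Ω" => AlgebraicClosure k

theorem pi_pow {π : Ω ≃ₐ[k] Ω} (hπ : ∀ x : Ω, π x = x ^ Nat.card k) (n : ℕ) (x : Ω) :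
    (π ^ n) x = x ^ (Nat.card k ^ n) := by
  induction n generalizing x with
  | zero => simp
  | succ n ih => rw [pow_succ, AlgEquiv.mul_apply, ih, hπ, ← pow_mul, pow_succ']

theorem exists_pow_eq {π : Ω ≃ₐ[k] Ω} (hπ : ∀ x : Ω, π x = x ^ Nat.card k) (F : IntermediateField k Ω)
    [FiniteDimensional k F] (σ : Ω ≃ₐ[k] Ω) : ∃ n : ℕ, σ⁻¹ * π ^ n ∈ F.fixingSubgroup := by
  haveI : Fintype k := Fintype.ofFinite k
  haveI : Finite F := Module.finite_of_finite k
  haveI : IsGalois k F := inferInstance
  obtain ⟨⟨n, hn⟩, h⟩ := (FiniteField.bijective_frobeniusAlgEquivOfAlgebraic_pow k F).2 (σ.restrictNormal F)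
  refine ⟨n, (IntermediateField.mem_fixingSubgroup_iff _ _).2 fun x hx => ?_⟩
  rw [AlgEquiv.mul_apply, AlgEquiv.aut_inv, AlgEquiv.symm_apply_eq, pi_pow hπ]
  have h1 := congrArg (fun g : Gal(F/k) => ((g ⟨x, hx⟩ : F) : Ω)) h
  have h2 : σ x = ((σ.restrictNormal F ⟨x, hx⟩ : F) : Ω) := (AlgEquiv.restrictNormal_commutes σ F ⟨x, hx⟩).symm
  rw [h2, ← h1]
  simp only [AlgEquiv.coe_pow, FiniteField.coe_frobeniusAlgEquivOfAlgebraic_iterate]
  rw [Nat.card_eq_fintype_card]
  simp

theorem exists_field {π : Ω ≃ₐ[k] Ω} (hπ : ∀ x : Ω, π x = x ^ Nat.card k) (D : ℕ) (hD : 0 < D) :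
    ∃ F : IntermediateField k Ω, FiniteDimensional k F ∧
      ∀ n m : ℕ, n ≤ m → (π ^ n)⁻¹ * π ^ m ∈ F.fixingSubgroup → D ∣ m - n := by
  classical
  haveI : Fintype k := Fintype.ofFinite k
  obtain ⟨p, hp⟩ := CharP.exists k
  haveI := hp
  obtain ⟨e, hp', hq⟩ := FiniteField.card k p
  set q := Nat.card k with hqdef
  have hq1 : 1 < q := Finite.one_lt_card
  have hqD : ∀ r, 0 < r → 1 < q ^ r := fun r hr => Nat.one_lt_pow hr.ne' hq1
  let f : ℕ → Polynomial k := fun r => Polynomial.X ^ (q ^ r) - Polynomial.X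
  have hcast : ∀ r, 0 < r → ((q ^ r : ℕ) : k) = 0 := fun r hr => by
    rw [hqdef, Nat.card_eq_fintype_card, Nat.cast_pow, Nat.cast_card_eq_zero, zero_pow hr.ne']
  have hsep : (f D).Separable := by
    rw [Polynomial.separable_def']
    refine ⟨0, -1, ?_⟩
    simp only [f, Polynomial.derivative_sub, Polynomial.derivative_X_pow, Polynomial.derivative_X, hcast D hD,
      map_zero, zero_mul, zero_sub, zero_add]
    ring
  have hdeg : ∀ r, 0 < r → (f r).natDegree = q ^ r := fun r hr => by
    simp only [f]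
    rw [Polynomial.natDegree_sub_eq_left_of_natDegree_lt (by rw [Polynomial.natDegree_X_pow, Polynomial.natDegree_X]; exact hqD r hr),
      Polynomial.natDegree_X_pow]
  have hmem : ∀ r x, 0 < r → (x ∈ (f r).rootSet Ω ↔ x ^ (q ^ r) = x) := fun r x hr => by
    have h0 : f r ≠ 0 := fun h => by have := hdeg r hr; rw [h, Polynomial.natDegree_zero] at this; have := hqD r hr; omega
    rw [Polynomial.mem_rootSet_of_ne h0]
    simp [f, sub_eq_zero]
  refine ⟨IntermediateField.adjoin k ((f D).rootSet Ω), IntermediateField.finiteDimensional_adjoin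
    (fun x _ => Algebra.IsIntegral.isIntegral x), fun n m hnm h => ?_⟩
  have hfix : ∀ x ∈ (f D).rootSet Ω, (π ^ (m - n)) x = x := by
    intro x hx
    have h' := (IntermediateField.mem_fixingSubgroup_iff _ _).1 h x (IntermediateField.subset_adjoin _ _ hx)
    rwa [show (π ^ n)⁻¹ * π ^ m = π ^ (m - n) by
      rw [inv_mul_eq_iff_eq_mul, ← pow_add, Nat.add_sub_cancel' hnm]] at h'
  by_contra hdvd
  set r := (m - n) % D with hr
  have hr0 : 0 < r := Nat.pos_of_ne_zero fun h0 => hdvd (Nat.dvd_of_mod_eq_zero h0)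
  have hDfix : ∀ x ∈ (f D).rootSet Ω, ∀ j, (π ^ (D * j)) x = x := by
    intro x hx j
    induction j with
    | zero => simp
    | succ j ih =>
      rw [Nat.mul_succ, pow_add, AlgEquiv.mul_apply, pi_pow hπ D, (hmem D x hD).1 hx, ih]
  have hsub : (f D).rootSet Ω ⊆ (f r).rootSet Ω := fun x hx => by
    rw [hmem r x hr0, ← pi_pow hπ]
    have h1 := hfix x hx
    rw [← Nat.mod_add_div (m - n) D, pow_add, AlgEquiv.mul_apply, hDfix x hx, ← hr] at h1
    exact h1
  have h1 : q ^ D ≤ q ^ r := by
    calc q ^ D = Fintype.card ((f D).rootSet Ω) := by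
          rw [Polynomial.card_rootSet_eq_natDegree hsep (IsAlgClosed.splits _), hdeg D hD]
      _ = ((f D).rootSet Ω).toFinset.card := (Set.toFinset_card _).symm
      _ ≤ ((f r).rootSet Ω).toFinset.card := Finset.card_le_card (Set.toFinset_subset_toFinset.2 hsub)
      _ ≤ (f r).natDegree := by rw [Set.toFinset_card]; exact (Nat.card_eq_fintype_card (α := (f r).rootSet Ω)).symm.le.trans (Polynomial.ncard_rootSet_le _ _)
      _ = q ^ r := hdeg r hr0
  have := (Nat.pow_le_pow_iff_right hq1).1 h1
  have := Nat.mod_lt (m - n) hD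
  omega

end Aux

/-- Let k be a finite field, k̄ an algebraic closure, Γ = Aut(k̄/k) with the Krull topology and π ∈ Γ
the Frobenius x ↦ x^(#k). Let A be a group on which Γ acts by group automorphisms, with open
stabilisers, such that every element of A lies in a finite Γ-stable subgroup. Then z ↦ z(π) is a
bijection from the locally constant 1-cocycles Γ → A (the continuous cocycles for discrete A) onto
A, and two such cocycles z, z' are cohomologous if and only if z'(π) = g · z(π) · (π g)^(-1) for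
some g in A; hence it induces a bijection of the continuous first cohomology set with the quotient
of A by the twisted conjugation g · x = g x (π g)^(-1). (The published statement takes A to be the
group of k̄-points of a smooth algebraic group over k with its Galois action; this row assumes only
the two properties of that action which the proof uses.) -/
theorem result (k : Type u) [Field k] [Finite k]
    (π : AlgebraicClosure k ≃ₐ[k] AlgebraicClosure k)
    (hπ : ∀ x : AlgebraicClosure k, π x = x ^ Nat.card k)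
    (A : Type v) [Group A] [MulDistribMulAction (AlgebraicClosure k ≃ₐ[k] AlgebraicClosure k) A]
    (hcont : ∀ a : A, IsOpen {σ : AlgebraicClosure k ≃ₐ[k] AlgebraicClosure k | σ • a = a})
    (hfin : ∀ a : A, ∃ H : Subgroup A, (H : Set A).Finite ∧ a ∈ H ∧
      ∀ (σ : AlgebraicClosure k ≃ₐ[k] AlgebraicClosure k) (x : A), x ∈ H → σ • x ∈ H) :
    Function.Bijective
        (fun z : GpH1.OneCocycleLC (AlgebraicClosure k ≃ₐ[k] AlgebraicClosure k) A => z.1 π) ∧
      ∀ z z' : GpH1.OneCocycleLC (AlgebraicClosure k ≃ₐ[k] AlgebraicClosure k) A,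
        z.cl = z'.cl ↔ ∃ g : A, z'.1 π = g * z.1 π * (π • g)⁻¹ := by
  classical
  have hrc : ∀ (z : GpH1.OneCocycleLC (AlgebraicClosure k ≃ₐ[k] AlgebraicClosure k) A) (z' : GpH1.OneCocycleLC (AlgebraicClosure k ≃ₐ[k] AlgebraicClosure k) A),
      z.1 π = z'.1 π → z = z' := by
    intro z z' h
    apply Subtype.ext
    refine GpH1.OneCocycle.ext fun σ => ?_
    have hpow : ∀ n : ℕ, z.1 (π ^ n) = z'.1 (π ^ n) := by
      intro n
      induction n with
      | zero =>
        have e1 := z.1.2 1 1
        have e2 := z'.1.2 1 1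
        rw [mul_one, one_smul] at e1 e2
        rw [pow_zero, left_eq_mul.1 e1, left_eq_mul.1 e2]
      | succ n ih => rw [pow_succ, z.1.2, z'.1.2, ih, h]
    have ho : IsOpen ({τ | z.1 τ = z.1 σ} ∩ {τ | z'.1 τ = z'.1 σ}) :=
      (z.2.isOpen_fiber _).inter (z'.2.isOpen_fiber _)
    have hnhds : (fun τ => σ * τ) ⁻¹' ({τ | z.1 τ = z.1 σ} ∩ {τ | z'.1 τ = z'.1 σ}) ∈ nhds 1 :=
      (ho.preimage (continuous_const_mul σ)).mem_nhds (by simp)
    obtain ⟨F, hF, hFs⟩ := (krullTopology_mem_nhds_one_iff k (AlgebraicClosure k) _).1 hnhds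
    obtain ⟨n, hn⟩ := exists_pow_eq hπ F σ
    obtain ⟨h1, h2⟩ : z.1 (σ * (σ⁻¹ * π ^ n)) = z.1 σ ∧ z'.1 (σ * (σ⁻¹ * π ^ n)) = z'.1 σ := hFs hn
    rw [mul_inv_cancel_left] at h1 h2
    rw [← h1, ← h2, hpow]
  refine ⟨⟨fun z z' => hrc z z', fun a => ?_⟩, fun z z' => ?_⟩
  · obtain ⟨H, hH, haH, hst⟩ := hfin a
    haveI := hH.to_subtype
    -- a power of π fixing H
    let p : Equiv.Perm H :=
      { toFun := fun x => ⟨π • (x : A), hst π x x.2⟩
        invFun := fun x => ⟨π⁻¹ • (x : A), hst π⁻¹ x x.2⟩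
        left_inv := fun x => Subtype.ext (inv_smul_smul π (x : A))
        right_inv := fun x => Subtype.ext (smul_inv_smul π (x : A)) }
    have hp : ∀ (n : ℕ) (x : H), ((p ^ n) x : A) = π ^ n • (x : A) := by
      intro n
      induction n with
      | zero => simp
      | succ n ih => intro x; rw [pow_succ, Equiv.Perm.mul_apply, ih, pow_succ, mul_smul]; rfl
    set d := orderOf p
    have hd : 0 < d := orderOf_pos p
    have hdfix : ∀ x ∈ H, π ^ d • x = x := fun x hx => by
      rw [← hp d ⟨x, hx⟩, pow_orderOf_eq_one]; rfl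
    let c : ℕ → A := fun n => Nat.rec (motive := fun _ => A) 1 (fun _ y => a * π • y) n
    have hc : ∀ n, c n ∈ H := fun n => by
      induction n with
      | zero => exact H.one_mem
      | succ n ih => exact H.mul_mem haH (hst π _ ih)
    have hcadd : ∀ n m, c (n + m) = c n * π ^ n • c m := by
      intro n m
      induction n with
      | zero => simp [c]
      | succ n ih =>
        rw [Nat.succ_add]
        show a * π • c (n + m) = a * π • c n * π ^ (n + 1) • c m
        rw [ih, smul_mul', pow_succ', mul_smul, mul_assoc]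
    have hcd : ∀ j, c (d * j) = c d ^ j := fun j => by
      induction j with
      | zero => simp [c]
      | succ j ih => rw [Nat.mul_succ, Nat.add_comm, hcadd, hdfix _ (hc _), ih, pow_succ']
    have he : 0 < orderOf (⟨c d, hc d⟩ : H) := orderOf_pos _
    set D := d * orderOf (⟨c d, hc d⟩ : H)
    have hcD : c D = 1 := by
      rw [hcd]
      exact congrArg Subtype.val (pow_orderOf_eq_one (⟨c d, hc d⟩ : H))
    have hper : ∀ n j, c (n + D * j) = c n := fun n j => by
      have : c (D * j) = 1 := by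
        induction j with
        | zero => rfl
        | succ j ih => rw [Nat.mul_succ, hcadd, ih, hcD, smul_one, one_mul]
      rw [hcadd, this, smul_one, mul_one]
    obtain ⟨F', hF', hFdvd⟩ := exists_field hπ D (Nat.mul_pos hd he)
    have hU : {σ : AlgebraicClosure k ≃ₐ[k] AlgebraicClosure k | ∀ x ∈ H, σ • x = x} ∈ nhds 1 := by
      refine IsOpen.mem_nhds ?_ (fun x _ => one_smul _ x)
      have : {σ : AlgebraicClosure k ≃ₐ[k] AlgebraicClosure k | ∀ x ∈ H, σ • x = x} =
          ⋂ x ∈ (H : Set A), {σ | σ • x = x} := by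
        ext σ; simp
      rw [this]
      exact hH.isOpen_biInter fun x _ => hcont x
    obtain ⟨F, hF, hFU⟩ := (krullTopology_mem_nhds_one_iff k (AlgebraicClosure k) _).1 hU
    haveI := hF
    haveI := hF'
    set G'' := F ⊔ F'
    haveI : FiniteDimensional k G'' := IntermediateField.finiteDimensional_sup F F'
    have hle : G''.fixingSubgroup ≤ F'.fixingSubgroup := IntermediateField.fixingSubgroup_antitone le_sup_right
    have hleU : ∀ τ ∈ G''.fixingSubgroup, ∀ x ∈ H, τ • x = x := fun τ hτ =>
      hFU (IntermediateField.fixingSubgroup_antitone le_sup_left hτ)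
    choose N hN using exists_pow_eq hπ G''
    have hwd : ∀ n m : ℕ, (π ^ n)⁻¹ * π ^ m ∈ G''.fixingSubgroup → c n = c m := by
      intro n m h
      rcases le_total n m with hnm | hnm
      · obtain ⟨j, hj⟩ := hFdvd n m hnm (hle h)
        rw [show m = n + D * j by omega, hper]
      · have h' : (π ^ m)⁻¹ * π ^ n ∈ G''.fixingSubgroup := by simpa using inv_mem h
        obtain ⟨j, hj⟩ := hFdvd m n hnm (hle h')
        rw [show n = m + D * j by omega, hper]
    have hval : ∀ σ n, σ⁻¹ * π ^ n ∈ G''.fixingSubgroup → c (N σ) = c n := fun σ n h => hwd _ _ (by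
      have := mul_mem (inv_mem (hN σ)) h
      simpa [mul_assoc] using this)
    haveI : IsGalois k G'' := by
      haveI : Finite G'' := Module.finite_of_finite k
      infer_instance
    haveI : G''.fixingSubgroup.Normal := by
      rw [← IntermediateField.restrictNormalHom_ker]
      exact MonoidHom.normal_ker _
    refine ⟨⟨⟨fun σ => c (N σ), fun σ τ => ?_⟩, ?_⟩, ?_⟩
    · show c (N (σ * τ)) = c (N σ) * σ • c (N τ)
      have h1 : σ⁻¹ * π ^ N σ ∈ G''.fixingSubgroup := hN σ
      have h2 : σ • c (N τ) = π ^ N σ • c (N τ) := by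
        have := hleU _ h1 _ (hc (N τ))
        rw [mul_smul, inv_smul_eq_iff] at this
        exact this.symm
      rw [h2, ← hcadd]
      refine hval _ _ ?_
      have h3 : τ⁻¹ * (σ⁻¹ * π ^ N σ) * τ⁻¹⁻¹ ∈ G''.fixingSubgroup :=
        Subgroup.Normal.conj_mem inferInstance _ h1 τ⁻¹
      have := mul_mem h3 (hN τ)
      simpa [mul_assoc, pow_add] using this
    · rw [IsLocallyConstant.iff_exists_open]
      intro σ
      refine ⟨(fun τ => σ⁻¹ * τ) ⁻¹' G''.fixingSubgroup,
        G''.fixingSubgroup_isOpen.preimage (continuous_const_mul _), by simp, fun τ hτ => ?_⟩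
      refine hval τ _ ?_
      have := mul_mem (inv_mem hτ) (hN σ)
      simpa [mul_assoc] using this
    · show c (N π) = a
      rw [hval π 1 (by simp)]
      show a * π • (1 : A) = a
      rw [smul_one, mul_one]
  · rw [GpH1.OneCocycleLC.cl_eq_cl_iff]
    constructor
    · intro h
      obtain ⟨g, hg⟩ := h.symm
      exact ⟨g⁻¹, by rw [hg π, smul_inv', inv_inv]⟩
    · rintro ⟨g, hg⟩
      have hcoc : GpH1.IsOneCocycle fun σ => g * z.1 σ * (σ • g)⁻¹ := by
        intro σ τ
        simp only [z.1.2 σ τ, smul_mul', smul_inv', mul_smul, mul_assoc, inv_mul_cancel_left]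
      have hlc : IsLocallyConstant fun σ => g * z.1 σ * (σ • g)⁻¹ := by
        have h1 : IsLocallyConstant fun σ : AlgebraicClosure k ≃ₐ[k] AlgebraicClosure k => σ • g := by
          rw [IsLocallyConstant.iff_exists_open]
          intro σ
          refine ⟨(fun τ => σ⁻¹ * τ) ⁻¹' {τ | τ • g = g}, (hcont g).preimage (continuous_const_mul _), by simp, fun τ hτ => ?_⟩
          have : (σ⁻¹ * τ) • g = g := hτ
          rwa [mul_smul, inv_smul_eq_iff] at this
        exact z.2.comp₂ h1 fun x y => g * x * y⁻¹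
      have e := hrc ⟨⟨_, hcoc⟩, hlc⟩ z' hg.symm
      refine GpH1.Cohomologous.symm ⟨g⁻¹, fun σ => ?_⟩
      rw [← e, inv_inv, smul_inv']

end Groth.Agent.S14195
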