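import Groth.Statements.S14205
import Groth.Agent.CSA.IndexBC

set_option autoImplicit false
universe u v
open scoped TensorProduct
open Brauer

namespace Groth.Agent.S14205

/-- Let A be a finite-dimensional central simple algebra over a field k with period p: p is the least
positive integer for which the p-fold tensor power of A over k is a full matrix algebra over k. Then
for every r ≥ 1 the r-fold tensor power of A has period p / gcd(p, r) (the order of the r-th
multiple of an element of order p). -/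
theorem result (k : Type u) [Field k] (A : Type v) [Ring A] [Algebra k A]
    [Algebra.IsCentral k A] [IsSimpleRing A] [FiniteDimensional k A] (p : ℕ)
    (hp : CSAGal.IsPeriod k A p) (r : ℕ) (hr : 0 < r) :
    CSAGal.IsPeriod k (CSAGal.tpow k A r) (p / Nat.gcd p r) := by
  obtain ⟨_, _⟩ := Groth.Agent.CSA.csa_tpow k A r
  have key : ∀ q, Groth.Agent.CSA.IsSplit k (CSAGal.tpow k (CSAGal.tpow k A r) q) k ↔
      p / Nat.gcd p r ∣ q := by
    intro q
    obtain ⟨_, _⟩ := Groth.Agent.CSA.csa_tpow k A (r * q)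
    obtain ⟨_, _⟩ := Groth.Agent.CSA.csa_tpow k (CSAGal.tpow k A r) q
    rw [← Groth.Agent.CSA.isSplit_iff_of_brEq (Groth.Agent.CSA.tpow_mul k A r q),
      Nat.div_dvd_iff_dvd_mul (Nat.gcd_dvd_left p r) (Nat.gcd_pos_of_pos_left r hp.1)]
    refine ⟨fun h => ?_, fun h => ?_⟩
    · have h' := Groth.Agent.CSA.isPeriod_dvd k A hp h
      rw [← Nat.gcd_mul_right p q r, mul_comm r q] at *
      exact Nat.dvd_gcd (dvd_mul_right p q) h'
    · have h' : p ∣ r * q := h.trans (mul_dvd_mul (Nat.gcd_dvd_right p r) dvd_rfl)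
      obtain ⟨c, hc⟩ := h'
      rw [hc]
      exact Groth.Agent.CSA.isSplit_tpow_mul k A hp.2.1 c
  have hpos : 0 < p / Nat.gcd p r :=
    Nat.div_pos (Nat.le_of_dvd hp.1 (Nat.gcd_dvd_left p r)) (Nat.gcd_pos_of_pos_left r hp.1)
  exact ⟨hpos, (key _).2 dvd_rfl, fun e' he' hlt h => absurd (Nat.le_of_dvd he' ((key e').1 h)) hlt.not_ge⟩

end Groth.Agent.S14205
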