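import Groth.Statements.S14211
import Groth.Agent.CSA.PeriodIndex
import Mathlib.Algebra.QuaternionBasis
import Mathlib.Tactic
-- import your own Groth.Agent.* helpers here

set_option autoImplicit false
universe u v
open scoped TensorProduct
open Brauer

namespace Groth.Agent.S14211

open Groth.Agent.CSA

open scoped TensorProduct

theorem exists_quaternion (k : Type u) [Field k] (h2 : (2 : k) ≠ 0) (D : Type v) [DivisionRing D]
    [Algebra k D] [Algebra.IsCentral k D] (h4 : Module.finrank k D = 4) :
    ∃ a b : k, Nonempty (QuaternionAlgebra k a 0 b ≃ₐ[k] D) := by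
  haveI : FiniteDimensional k D := Module.finite_of_finrank_pos (by omega)
  have h2D : ∀ x : D, x + x = 0 → x = 0 := fun x hx => by
    rw [← two_smul k x] at hx
    exact (smul_eq_zero.1 hx).resolve_left h2
  have hnc : ∀ x : D, (∀ y, y * x = x * y) → x ∈ Set.range (algebraMap k D) := fun x hx =>
    Algebra.mem_bot.1 (Algebra.IsCentral.out (K := k) (D := D) (Subalgebra.mem_center_iff.2 hx))
  -- every element is quadratic
  have hquad : ∀ x : D, ∃ p q : k, x * x = p • x + q • (1 : D) := by
    intro x
    let L := Algebra.adjoin k ({x} : Set D)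
    letI : CommRing L := Algebra.adjoinCommRingOfComm k (by simp)
    haveI : FiniteDimensional k L := FiniteDimensional.finiteDimensional_subalgebra L
    haveI : IsDomain L := Function.Injective.isDomain L.val.toRingHom Subtype.val_injective
    letI : Field L := fieldOfFiniteDimensional k L
    have hdeg : Module.finrank k L ≤ 2 := by
      by_contra hc
      have hmul := Module.finrank_mul_finrank k L D
      rw [h4] at hmul
      have h4' : Module.finrank k L = 4 := by
        have hd : Module.finrank k L ∣ 4 := Dvd.intro _ hmul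
        have hle := Nat.le_of_dvd four_pos hd
        interval_cases hL : Module.finrank k L
        · exact absurd hd (by decide)
        · rfl
      have htop : L = ⊤ := Subalgebra.toSubmodule_injective ((Submodule.eq_top_of_finrank_eq (h4'.trans h4.symm :)).trans Algebra.top_toSubmodule.symm)
      have hcomm : ∀ y z : D, y * z = z * y := fun y z => by
        exact congrArg Subtype.val
          (mul_comm (⟨y, htop ▸ Algebra.mem_top⟩ : L) ⟨z, htop ▸ Algebra.mem_top⟩)
      have hsurj : Function.Surjective (algebraMap k D) := fun y => hnc y fun z => hcomm z y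
      have := LinearMap.finrank_le_finrank_of_surjective (f := Algebra.linearMap k D) hsurj
      rw [Module.finrank_self, h4] at this
      omega
    have hdep : ¬ LinearIndependent k ![(1 : L), ⟨x, Algebra.self_mem_adjoin_singleton k x⟩,
        ⟨x * x, mul_mem (Algebra.self_mem_adjoin_singleton k x) (Algebra.self_mem_adjoin_singleton k x)⟩] := by
      intro h
      have := h.fintype_card_le_finrank
      simp at this
      omega
    obtain ⟨g, hg, i, hi⟩ := Fintype.not_linearIndependent_iff.1 hdep
    have hg' : g 0 • (1 : D) + g 1 • x + g 2 • (x * x) = 0 := by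
      have := congrArg Subtype.val hg
      simpa [Fin.sum_univ_three] using this
    by_cases h0 : g 2 = 0
    · rw [h0, zero_smul, add_zero] at hg'
      by_cases h1 : g 1 = 0
      · rw [h1, zero_smul, add_zero] at hg'
        rcases smul_eq_zero.1 hg' with h | h
        · fin_cases i <;> simp_all
        · exact absurd h one_ne_zero
      · have hx : x = (-(g 0 / g 1)) • (1 : D) := by
          have h' := congrArg (fun y => (g 1)⁻¹ • y) hg'
          simp only [smul_add, smul_smul, inv_mul_cancel₀ h1, one_smul, smul_zero] at h'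
          rw [eq_neg_of_add_eq_zero_right h', neg_smul, div_eq_inv_mul]
        refine ⟨0, (g 0 / g 1) * (g 0 / g 1), ?_⟩
        rw [hx, smul_mul_smul_comm, mul_one, zero_smul, zero_add, neg_mul_neg]
    · refine ⟨-(g 1 / g 2), -(g 0 / g 2), ?_⟩
      have h' := congrArg (fun y => (g 2)⁻¹ • y) hg'
      simp only [smul_add, smul_smul, inv_mul_cancel₀ h0, one_smul, smul_zero] at h'
      rw [eq_neg_of_add_eq_zero_right h', neg_smul, neg_smul, div_eq_inv_mul, div_eq_inv_mul]
      abel
  -- a noncentral square root of a scalar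
  obtain ⟨x, hx⟩ : ∃ x : D, x ∉ Set.range (algebraMap k D) := by
    by_contra hc
    push Not at hc
    have := LinearMap.finrank_le_finrank_of_surjective (f := Algebra.linearMap k D) hc
    rw [Module.finrank_self, h4] at this
    omega
  obtain ⟨p, q, hpq⟩ := hquad x
  let i : D := (2 : k) • x - p • (1 : D)
  let a : k := 4 * q + p * p
  have hi : i * i = a • (1 : D) := by
    simp only [i, a, sub_mul, mul_sub, smul_mul_smul_comm, mul_one, one_mul, hpq]
    match_scalars <;> ring
  have hink : i ∉ Set.range (algebraMap k D) := by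
    rintro ⟨c, hc⟩
    refine hx ⟨(c + p) / 2, ?_⟩
    rw [Algebra.algebraMap_eq_smul_one] at hc ⊢
    have : (2 : k) • x = (c + p) • (1 : D) := by rw [add_smul, hc]; simp [i]
    rw [div_eq_inv_mul, ← smul_smul, ← this, smul_smul, inv_mul_cancel₀ h2, one_smul]
  have hi0 : i ≠ 0 := fun h => hink ⟨0, by rw [map_zero, h]⟩
  obtain ⟨y, hy⟩ : ∃ y, y * i ≠ i * y := by
    by_contra hc
    push Not at hc
    exact hink (hnc i hc)
  let j : D := i * y - y * i
  have hj0 : j ≠ 0 := fun h => hy (sub_eq_zero.1 h).symm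
  have hji : j * i = -(i * j) := by
    simp only [j, sub_mul, mul_sub, mul_assoc, hi, ← mul_assoc i i, smul_mul_assoc, mul_smul_comm, one_mul,
      mul_one]
    abel
  obtain ⟨p', b, hb⟩ := hquad j
  have hb' : j * j = b • (1 : D) := by
    have h1 : (j * j) * i = i * (j * j) := by
      rw [mul_assoc, hji, mul_neg, ← mul_assoc, hji, neg_mul, neg_neg, mul_assoc]
    rw [hb, add_mul, mul_add, smul_mul_assoc, mul_smul_comm, hji, smul_mul_assoc, mul_smul_comm, one_mul,
      mul_one, smul_neg] at h1
    have h3 : p' • (i * j) = 0 := h2D _ (by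
      have h4 := congrArg (fun z => p' • (i * j) + z - b • i) h1
      simp only [add_sub_assoc] at h4
      rw [sub_self, add_zero] at h4
      have : p' • (i * j) + (-(p' • (i * j)) + (b • i - b • i)) = 0 := by abel
      simpa [this] using h4.symm)
    rw [hb, (smul_eq_zero.1 h3).resolve_right (mul_ne_zero hi0 hj0), zero_smul, zero_add]
  let B : QuaternionAlgebra.Basis D a 0 b :=
    { i := i, j := j, k := i * j, i_mul_i := by rw [hi, zero_smul, add_zero], j_mul_j := hb',
      i_mul_j := rfl, j_mul_i := by rw [hji, zero_smul, zero_sub] }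
  have hinj : Function.Injective B.liftHom := (injective_iff_map_eq_zero _).2 fun w hw => by
    have hw' : (w.re • (1 : D) + w.imI • i) + (w.imJ • (1 : D) + w.imK • i) * j = 0 := by
      rw [← hw]
      show _ = algebraMap k D w.re + w.imI • i + w.imJ • j + w.imK • (i * j)
      rw [Algebra.algebraMap_eq_smul_one, add_mul, smul_mul_assoc, smul_mul_assoc, one_mul]
      abel
    have hlin : ∀ r s : k, r • (1 : D) + s • i = 0 → r = 0 ∧ s = 0 := fun r s h => by
      by_cases hs : s = 0
      · rw [hs, zero_smul, add_zero] at h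
        exact ⟨(smul_eq_zero.1 h).resolve_right one_ne_zero, hs⟩
      · refine absurd ⟨-(r / s), ?_⟩ hink
        rw [Algebra.algebraMap_eq_smul_one, neg_smul, div_eq_inv_mul, ← smul_smul,
          eq_neg_of_add_eq_zero_left h, smul_neg, smul_smul, inv_mul_cancel₀ hs, one_smul, neg_neg]
    by_cases hu : w.imJ • (1 : D) + w.imK • i = 0
    · rw [hu, zero_mul, add_zero] at hw'
      exact QuaternionAlgebra.ext (hlin _ _ hw').1 (hlin _ _ hw').2 (hlin _ _ hu).1 (hlin _ _ hu).2
    · have hc₁ : ∀ r s : k, Commute i (r • (1 : D) + s • i) := fun r s =>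
        ((Commute.one_right i).smul_right r).add_right ((Commute.refl i).smul_right s)
      have hj : j = (w.imJ • (1 : D) + w.imK • i)⁻¹ * -(w.re • (1 : D) + w.imI • i) := by
        rw [← eq_neg_of_add_eq_zero_right hw', ← mul_assoc, inv_mul_cancel₀ hu, one_mul]
      have hc : Commute i j := by
        rw [hj]
        exact (hc₁ _ _).inv_right₀.mul_right (hc₁ _ _).neg_right
      have h5 : i * j = 0 := h2D _ (by
        conv_lhs => arg 2; rw [hc.eq, hji]
        exact add_neg_cancel _)
      exact absurd h5 (mul_ne_zero hi0 hj0)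
  exact ⟨a, b, ⟨AlgEquiv.ofBijective B.liftHom ⟨hinj,
    (LinearMap.injective_iff_surjective_of_finrank_eq_finrank (f := B.liftHom.toLinearMap)
      (by rw [h4, QuaternionAlgebra.finrank_eq_four])).1 hinj⟩⟩⟩

theorem matrix_cancel_index {k : Type u} [Field k] {A : Type v} [Ring A] [Algebra k A] [Algebra.IsCentral k A]
    {r : ℕ} (hr : r ≠ 0) (s : A ≃ₐ[k] Matrix (Fin r) (Fin r) k) {D : Type v} [DivisionRing D] [Algebra k D]
    [FiniteDimensional k D] [Algebra.IsCentral k D] (hAD : BrEq k A D) {d : ℕ}
    (hd : Module.finrank k D = d ^ 2) : d = 1 := by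
  obtain ⟨n, n', hn, hn', ⟨g⟩⟩ := (BrEq.of_matrix hr s).symm.trans hAD
  obtain ⟨f⟩ := divisionRing_unique k k D n n' hn hn' g
  exact Nat.pow_left_injective two_ne_zero (show d ^ 2 = 1 ^ 2 by
    rw [← hd, ← f.toLinearEquiv.finrank_eq, Module.finrank_self, one_pow])


/-- Let k be a field in which 2 ≠ 0 and A a finite-dimensional central simple k-algebra. Then A has
period 2 and index 2 (its Severi–Brauer variety has type (2, 2, 2m)) if and only if A is isomorphic
over k to a matrix algebra M_m(Q), m ≥ 1, over a quaternion algebra Q = (a, b)_k (the k-algebra with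
basis 1, i, j, ij, i² = a, j² = b, ij = −ji) which is a division ring; moreover such a quaternion
algebra is unique up to k-isomorphism. -/
theorem result (k : Type u) [Field k] (h2 : (2 : k) ≠ 0)
    (A : Type v) [Ring A] [Algebra k A] [Algebra.IsCentral k A] [IsSimpleRing A]
    [FiniteDimensional k A] :
    ((CSAGal.IsPeriod k A 2 ∧ CSAGal.IsIndex k A 2) ↔
      ∃ (a b : k) (m : ℕ), 0 < m ∧ (∀ x : QuaternionAlgebra k a 0 b, x ≠ 0 → IsUnit x) ∧
        Nonempty (A ≃ₐ[k] Matrix (Fin m) (Fin m) (QuaternionAlgebra k a 0 b))) ∧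
    (∀ (a b a' b' : k) (m m' : ℕ),
      (∀ x : QuaternionAlgebra k a 0 b, x ≠ 0 → IsUnit x) →
      (∀ x : QuaternionAlgebra k a' 0 b', x ≠ 0 → IsUnit x) →
      Nonempty (A ≃ₐ[k] Matrix (Fin m) (Fin m) (QuaternionAlgebra k a 0 b)) →
      Nonempty (A ≃ₐ[k] Matrix (Fin m') (Fin m') (QuaternionAlgebra k a' 0 b')) →
      Nonempty (QuaternionAlgebra k a 0 b ≃ₐ[k] QuaternionAlgebra k a' 0 b')) := by
  have huniq : ∀ (a b : k) (m : ℕ), Nonempty (A ≃ₐ[k] Matrix (Fin m) (Fin m) (QuaternionAlgebra k a 0 b)) →
      m ≠ 0 := by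
    rintro a b m ⟨e⟩ rfl
    haveI := e.toEquiv.subsingleton
    exact not_subsingleton A inferInstance
  refine ⟨⟨?_, ?_⟩, ?_⟩
  · rintro ⟨-, hi⟩
    obtain ⟨-, m, D, _, _, hm, hd, ⟨e⟩⟩ := hi
    haveI : NeZero m := ⟨hm.ne'⟩
    haveI : FiniteDimensional k D := Module.finite_of_finrank_pos (by rw [hd]; norm_num)
    haveI := isCentral_of_algEquiv_matrix k D e
    obtain ⟨a, b, ⟨f⟩⟩ := exists_quaternion k h2 D (by rw [hd]; norm_num)
    refine ⟨a, b, m, hm, fun x hx => ?_, ⟨e.trans f.symm.mapMatrix⟩⟩
    simpa using (isUnit_iff_ne_zero.2 (show f x ≠ 0 from fun h => hx (f.injective (by rw [h, map_zero])))).map f.symm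
  · rintro ⟨a, b, m, hm, hQ, ⟨e⟩⟩
    haveI : NeZero m := ⟨hm.ne'⟩
    haveI : Nontrivial (QuaternionAlgebra k a 0 b) := Module.nontrivial_of_finrank_pos (R := k)
      (by rw [QuaternionAlgebra.finrank_eq_four]; norm_num)
    letI : DivisionRing (QuaternionAlgebra k a 0 b) :=
      DivisionRing.ofIsUnitOrEqZero fun x => (em (x = 0)).symm.imp (hQ x) id
    haveI := isCentral_of_algEquiv_matrix k (QuaternionAlgebra k a 0 b) e
    obtain ⟨D, _, _, _, _, d, hd0, hd, hAD, hidx⟩ := exists_isIndex (k := k) A
    obtain ⟨n, n', hn, hn', ⟨g⟩⟩ := (BrEq.of_matrix (k := k) hm.ne' e).symm.trans hAD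
    obtain ⟨f⟩ := divisionRing_unique k (QuaternionAlgebra k a 0 b) D n n' hn hn' g
    have hd2 : d = 2 := Nat.pow_left_injective two_ne_zero (show d ^ 2 = 2 ^ 2 by
      rw [← hd, ← f.toLinearEquiv.finrank_eq, QuaternionAlgebra.finrank_eq_four])
    subst hd2
    refine ⟨⟨two_pos, isSplit_tpow_index hAD hd, fun e' h0 h1 hs => ?_⟩, hidx⟩
    obtain rfl : e' = 1 := by omega
    obtain ⟨g₁⟩ := tpow_succ_equiv k A 0
    obtain ⟨g₀⟩ := tpow_zero_equiv k A
    let g' : CSAGal.tpow k A 1 ≃ₐ[k] A :=
      g₁.trans ((Algebra.TensorProduct.congr AlgEquiv.refl g₀.symm).trans (Algebra.TensorProduct.rid k k A))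
    obtain ⟨r, hr, ⟨s⟩⟩ := isSplit_self_iff.1 (show IsSplit k (CSAGal.tpow k A 1) k from hs)
    have := matrix_cancel_index hr (g'.symm.trans s) hAD hd
    omega
  · intro a b a' b' m m' hQ hQ' he he'
    have hm := huniq a b m he
    have hm' := huniq a' b' m' he'
    obtain ⟨e⟩ := he
    obtain ⟨e'⟩ := he'
    haveI : NeZero m := ⟨hm⟩
    haveI : NeZero m' := ⟨hm'⟩
    haveI : Nontrivial (QuaternionAlgebra k a 0 b) := Module.nontrivial_of_finrank_pos (R := k)
      (by rw [QuaternionAlgebra.finrank_eq_four]; norm_num)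
    haveI : Nontrivial (QuaternionAlgebra k a' 0 b') := Module.nontrivial_of_finrank_pos (R := k)
      (by rw [QuaternionAlgebra.finrank_eq_four]; norm_num)
    letI : DivisionRing (QuaternionAlgebra k a 0 b) :=
      DivisionRing.ofIsUnitOrEqZero fun x => (em (x = 0)).symm.imp (hQ x) id
    letI : DivisionRing (QuaternionAlgebra k a' 0 b') :=
      DivisionRing.ofIsUnitOrEqZero fun x => (em (x = 0)).symm.imp (hQ' x) id
    haveI := isCentral_of_algEquiv_matrix k (QuaternionAlgebra k a 0 b) e
    haveI := isCentral_of_algEquiv_matrix k (QuaternionAlgebra k a' 0 b') e'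
    exact divisionRing_unique k _ _ m m' hm hm' (e.symm.trans e')


end Groth.Agent.S14211
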