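import Groth.Statements.S14231
import Groth.Agent.RootCham.Facet

set_option autoImplicit false
universe u v w x
open RootCh RootCh.Facet

open Groth.Agent.RootCham

namespace Groth.Agent.S14231

/-- For a finite reduced crystallographic root system over a linearly ordered field and a facet F with
dual facet F̌ (the facet of the dual root system with the same sign vector), the corners of F̌ are
exactly the fundamental coweights corresponding to the corners of F, where a fundamental weight and
a fundamental coweight correspond when they are attached to the same simple root of the same base. -/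
theorem result {ι : Type u} {R : Type v} {M : Type w} {N : Type x}
    [Field R] [LinearOrder R] [IsStrictOrderedRing R]
    [AddCommGroup M] [Module R M] [AddCommGroup N] [Module R N] [Finite ι]
    (P : RootPairing ι R M N) [P.IsRootSystem] [P.IsCrystallographic] [P.IsReduced] (F : RootCh.Facet P) :
    F.dualCorners = {y : N | ∃ m ∈ F.corners, RootCh.Corr P m y} := by
  ext y
  constructor
  · rintro ⟨⟨c, k, hy⟩, hy2⟩
    have hcorr : RootCh.Corr P (RootCh.fundWeight (R := R) (P := P) (⟨c.support, c.linearIndepOn_coroot, c.linearIndepOn_root, c.coroot_mem_or_neg_mem, c.root_mem_or_neg_mem⟩ : P.Base) ⟨k.1, k.2⟩) y := ⟨_, _, rfl, hy⟩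
    refine ⟨_, ⟨⟨_, _, rfl⟩, fun i => ?_⟩, hcorr⟩
    rw [← sgn_corr hcorr]
    exact hy2 i
  · rintro ⟨m, hm, hcorr⟩
    obtain ⟨b, k, hm', hy⟩ := id hcorr
    refine ⟨⟨b.flip, k, hy⟩, fun i => ?_⟩
    rw [sgn_corr hcorr]
    exact hm.2 i

end Groth.Agent.S14231
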