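import Groth.Statements.S14253
import Groth.Agent.S7399
import Groth.Agent.AWN.Criterion

set_option autoImplicit false
universe u
open CategoryTheory AlgebraicGeometry
open PerfSch

namespace Groth.Agent.S14253

lemma bijective_of_univHomeo {p : ℕ} [Fact p.Prime] {A B : Type u} [CommRing A] [CommRing B] (φ : A →+* B)
    (hpA : (p : A) = 0) (hA : Function.Bijective fun s : A => s ^ p)
    (hB : Function.Bijective fun s : B => s ^ p)
    (hU : FlatMor.IsUnivHomeo (Spec.map (CommRingCat.ofHom φ))) : Function.Bijective φ := by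
  have hp : p.Prime := Fact.out
  have hpB : (p : B) = 0 := by rw [← map_natCast φ, hpA, map_zero]
  obtain ⟨-, -, hs⟩ := (Groth.Agent.AWN.isUnivHomeo_spec_iff φ).mp hU
  have hred : ∀ a : A, IsNilpotent a → a = 0 := by
    rintro a ⟨k, hk⟩
    have hz : ∀ n, a ^ p ^ n = 0 → a = 0 := by
      intro n
      induction n with
      | zero => intro h; simpa using h
      | succ n ih =>
        intro h
        refine ih (hA.1 ?_)
        show (a ^ p ^ n) ^ p = 0 ^ p
        rw [← pow_mul, ← pow_succ, h, zero_pow hp.ne_zero]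
    exact hz k (pow_eq_zero_of_le (Nat.lt_pow_self hp.one_lt).le hk)
  have hinj : Function.Injective φ := by
    rw [injective_iff_map_eq_zero]
    intro a ha
    refine hred a (mem_nilradical.mp ?_)
    rw [nilradical_eq_sInf, Submodule.mem_sInf]
    intro P hP
    obtain ⟨Q, hQ⟩ := hs ⟨P, hP⟩
    have : a ∈ (PrimeSpectrum.comap φ Q).asIdeal := by
      show φ a ∈ Q.asIdeal
      rw [ha]; exact zero_mem _
    rwa [hQ] at this
  refine ⟨hinj, ?_⟩
  by_contra hns
  have key : ∀ b : B, b ^ p ∈ φ.range → b ∈ φ.range := by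
    rintro b ⟨a, ha⟩
    obtain ⟨c, rfl⟩ := hA.2 a
    exact ⟨c, hB.1 (by show φ c ^ p = b ^ p; rw [← map_pow]; exact ha)⟩
  rcases Groth.Agent.S7399.result φ hinj hns hU with ⟨b, hb, h2, h3⟩ | ⟨q, b, hq, hb, h1, h2⟩
  · refine hb (key b ?_)
    obtain ⟨i, j, hij⟩ : ∃ i j, 2 * i + 3 * j = p := by
      rcases Nat.even_or_odd' p with ⟨k, rfl | rfl⟩
      · exact ⟨k, 0, by omega⟩
      · exact ⟨k - 1, 1, by have := hp.two_le; omega⟩
    rw [← hij, pow_add, pow_mul, pow_mul]
    exact mul_mem (pow_mem h2 i) (pow_mem h3 j)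
  · by_cases hqp : q = p
    · exact hb (key b (hqp ▸ h2))
    · refine hb ?_
      obtain ⟨u, v, huv⟩ := (Nat.Coprime.cast (R := ℤ) ((Nat.coprime_primes hq hp).mpr hqp) :
        IsCoprime (q : ℤ) (p : ℤ))
      have e : b = (u : B) * ((q : B) * b) := by
        have := congrArg (Int.cast : ℤ → B) huv
        push_cast at this
        rw [hpB, mul_zero, add_zero] at this
        rw [← mul_assoc, this, one_mul]
      rw [e]
      exact mul_mem (intCast_mem _ u) h1

/-- A universal homeomorphism f : X ⟶ Y between perfect schemes of prime characteristic p (on every open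
of X and of Y, p = 0 in the ring of sections and the p-th power map is bijective) is an isomorphism. -/
theorem result (p : ℕ) [Fact p.Prime] {X Y : Scheme.{u}} (f : X ⟶ Y)
    (hX : PerfSch.IsPerfect p X) (hY : PerfSch.IsPerfect p Y) (hf : FlatMor.IsUnivHomeo f) : IsIso f := by
  obtain ⟨hi, -, -⟩ := (Groth.Agent.AWN.isUnivHomeo_iff f).mp hf
  show MorphismProperty.isomorphisms Scheme f
  rw [IsZariskiLocalAtTarget.iff_of_iSup_eq_top (P := MorphismProperty.isomorphisms Scheme.{u})
    (fun U : Y.affineOpens => U.1) (iSup_affineOpens_eq_top Y)]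
  intro U
  have : IsAffine U.1.toScheme := U.2
  have : IsAffine (f ⁻¹ᵁ U.1).toScheme := U.2.preimage f
  have hUR : FlatMor.IsUnivHomeo (f ∣_ U.1) :=
    fun X' Y' i j g hP => hf _ _ g (hP.paste_vert (isPullback_morphismRestrict f U.1))
  have hS : FlatMor.IsUnivHomeo (Spec.map (f ∣_ U.1).appTop) :=
    (MorphismProperty.arrow_mk_iso_iff (MorphismProperty.universally
      (AlgebraicGeometry.topologically (fun f => IsHomeomorph f))) (arrowIsoSpecΓOfIsAffine (f ∣_ U.1))).mp hUR
  have hX' : ∀ V : (f ⁻¹ᵁ U.1).toScheme.Opens, Function.Bijective fun s : Γ((f ⁻¹ᵁ U.1).toScheme, V) => s ^ p :=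
    fun V => (hX _).2
  have hb := bijective_of_univHomeo (p := p) (f ∣_ U.1).appTop.hom (hY _).1 (hY _).2 (hX' _) hS
  have : IsIso (f ∣_ U.1).appTop := (ConcreteCategory.isIso_iff_bijective _).mpr hb
  have : IsIso (Spec.map (f ∣_ U.1).appTop) := inferInstance
  exact (MorphismProperty.arrow_mk_iso_iff (MorphismProperty.isomorphisms Scheme.{u})
    (arrowIsoSpecΓOfIsAffine (f ∣_ U.1))).mpr (MorphismProperty.isomorphisms.infer_property _)

end Groth.Agent.S14253
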