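import Groth.Statements.S14254
import Groth.Agent.UHTower.PPower
-- import your own Groth.Agent.* helpers here

set_option autoImplicit false
universe u
open CategoryTheory AlgebraicGeometry
open FrobAlg

open Groth.Agent.UHTower

namespace Groth.Agent.S14254

/-- Let p be a prime, φ : A → B a map of commutative rings of characteristic p, i : A → A' and j : B →
B' perfect closures (A' and B' are perfect rings of characteristic p, every element of A' resp. B'
has a p^n-th power in the image of i resp. j, and the kernels of i and j consist of nilpotent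
elements), and φ' : A' → B' the induced map, φ' ∘ i = j ∘ φ. Then Spec φ : Spec B ⟶ Spec A is a
universal homeomorphism if and only if φ' is bijective. (The published statement is for an arbitrary
morphism of schemes over the prime field and its perfection; this row is the case of affine schemes,
the perfection of Spec A being Spec of the perfect closure of A.) -/
theorem result (p : ℕ) [Fact p.Prime]
    {A B A' B' : Type u} [CommRing A] [CommRing B] [CommRing A'] [CommRing B']
    [CharP A p] [CharP B p] [CharP A' p] [CharP B' p] [PerfectRing A' p] [PerfectRing B' p]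
    (φ : A →+* B) (i : A →+* A') (j : B →+* B') [IsPerfectClosure i p] [IsPerfectClosure j p]
    (φ' : A' →+* B') (hφ : φ'.comp i = j.comp φ) :
    FlatMor.IsUnivHomeo (Spec.map (CommRingCat.ofHom φ)) ↔ Function.Bijective φ' := by
    letI : Algebra A B := φ.toAlgebra
    have hp : p.Prime := Fact.out
    have hnilr : ∀ {R : Type u} [CommRing R] (x : R), IsNilpotent x → ∃ m, x ^ p ^ m = 0 := fun x ⟨n, hn⟩ =>
      ⟨n, pow_eq_zero_of_le (Nat.lt_pow_self hp.one_lt).le hn⟩
    have hker : ∀ {R R' : Type u} [CommRing R] [CommRing R'] (g : R →+* R') [IsPRadical g p] (x : R), g x = 0 → IsNilpotent x :=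
      fun g _ x hx => by
        have := IsPRadical.ker_le g p hx
        rwa [pNilradical_eq_nilradical hp.one_lt] at this
    have hinjA : Function.Injective (fun x : A' => x ^ p) := (PerfectRing.bijective_frobenius (R := A') (p := p)).1
    have hinjB : Function.Injective (fun x : B' => x ^ p) := (PerfectRing.bijective_frobenius (R := B') (p := p)).1
    have hredA : ∀ (n : ℕ) (x y : A'), x ^ p ^ n = y ^ p ^ n → x = y := fun n x y h =>
      (bijective_iterateFrobenius A' p n).1 (by simpa [iterateFrobenius_def] using h)
    have hredB : ∀ (n : ℕ) (x y : B'), x ^ p ^ n = y ^ p ^ n → x = y := fun n x y h =>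
      (bijective_iterateFrobenius B' p n).1 (by simpa [iterateFrobenius_def] using h)
    have hpow0 : ∀ n : ℕ, (0 : A') ^ p ^ n = 0 := fun n => zero_pow (pow_ne_zero _ hp.ne_zero)
    constructor
    · intro hU
      constructor
      · rw [injective_iff_map_eq_zero]
        intro x hx
        obtain ⟨n, a, ha⟩ := IsPRadical.pow_mem i p x
        have h1 : j (φ a) = 0 := by
          rw [← RingHom.comp_apply, ← hφ, RingHom.comp_apply, ha, map_pow, hx, zero_pow (pow_ne_zero _ hp.ne_zero)]
        obtain ⟨m, hm⟩ := hnilr _ (hker j _ h1)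
        rw [← map_pow] at hm
        have h2 : IsNilpotent (a ^ p ^ m) := (of_univHomeo (A := A) (B := B) hU).2.2 hm
        obtain ⟨k, hk⟩ := hnilr _ h2
        refine hredA (n + m + k) x 0 ?_
        rw [hpow0, pow_add, pow_add, pow_mul, pow_mul, ← ha, ← map_pow, ← map_pow, hk, map_zero]
      · intro y
        obtain ⟨n, b, hb⟩ := IsPRadical.pow_mem j p y
        obtain ⟨m, -, a, ha⟩ := pPow_of_univHomeo p (A := A) (B := B) hU
          (fun c => ⟨1, 0, by rw [map_zero, pow_one, CharP.cast_eq_zero, zero_mul]⟩) b
        obtain ⟨x, hx⟩ := (bijective_iterateFrobenius A' p (n + m)).2 (i a)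
        rw [iterateFrobenius_def] at hx
        refine ⟨x, hredB (n + m) _ _ ?_⟩
        rw [← map_pow, hx, pow_add, pow_mul, ← hb, ← map_pow, ← ha]
        exact RingHom.congr_fun hφ a
    · intro hbij
      refine univHomeo_of_pPow p (A := A) (B := B) (fun a ha => mem_nilradical.mpr (hker i a (hbij.1 ?_))) fun b => ?_
      · rw [map_zero, ← RingHom.comp_apply, hφ, RingHom.comp_apply]
        exact (congrArg j ha).trans (map_zero j)
      · obtain ⟨x, hx⟩ := hbij.2 (j b)
        obtain ⟨n, a, ha⟩ := IsPRadical.pow_mem i p x
        have h1 : j (b ^ p ^ n - φ a) = 0 := by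
          rw [map_sub, map_pow, ← hx, ← map_pow, ← ha, ← RingHom.comp_apply, hφ, RingHom.comp_apply, sub_self]
        obtain ⟨m, hm⟩ := hnilr _ (hker j _ h1)
        refine ⟨n + m + 1, ⟨0, by rw [map_zero, CharP.cast_eq_zero, zero_pow (Nat.succ_ne_zero _), zero_mul]⟩, (a ^ p ^ m) ^ p, ?_⟩
        rw [sub_pow_expChar_pow, sub_eq_zero] at hm
        show φ _ = _
        rw [map_pow, map_pow, ← hm, pow_succ, pow_add, pow_mul, pow_mul]

end Groth.Agent.S14254
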