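import Groth.Statements.S14256
import Mathlib
-- import your own Groth.Agent.* helpers here

set_option autoImplicit false
universe u
open FrobAlg

namespace Groth.Agent.S14256

/-- Let p be a prime, φ : A → B a map of commutative rings of characteristic p, i : A → A' and j : B →
B' perfect closures (A', B' perfect rings of characteristic p, every element of A' resp. B' has a
p^n-th power in the image of i resp. j, the kernels of i and j consist of nilpotent elements), and
φ' : A' → B' the induced map, φ' ∘ i = j ∘ φ. Then φ is integral if and only if φ' is integral. (The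
published statement is that a morphism of schemes over the prime field is integral exactly when its
perfection is; this row is its affine case, to which the published proof reduces.) -/
theorem result (p : ℕ) [Fact p.Prime]
    {A B A' B' : Type u} [CommRing A] [CommRing B] [CommRing A'] [CommRing B']
    [CharP A p] [CharP B p] [CharP A' p] [CharP B' p] [PerfectRing A' p] [PerfectRing B' p]
    (φ : A →+* B) (i : A →+* A') (j : B →+* B') [IsPerfectClosure i p] [IsPerfectClosure j p]
    (φ' : A' →+* B') (hφ : φ'.comp i = j.comp φ) : φ.IsIntegral ↔ φ'.IsIntegral := by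
  haveI : Nontrivial A' := CharP.nontrivial_of_char_ne_one (R := A') (Fact.out : p.Prime).ne_one
  haveI : Nontrivial A := CharP.nontrivial_of_char_ne_one (R := A) (Fact.out : p.Prime).ne_one
  constructor
  · intro h b'
    obtain ⟨n, b, hb⟩ := IsPRadical.pow_mem j p b'
    obtain ⟨P, hP, hPb⟩ := h b
    have h1 : φ'.IsIntegralElem (j b) := by
      refine ⟨P.map i, hP.map i, ?_⟩
      rw [Polynomial.eval₂_map, hφ, ← Polynomial.hom_eval₂, hPb, map_zero]
    rw [hb] at h1
    obtain ⟨Q, hQ, hQb⟩ := h1
    refine ⟨Q.comp (Polynomial.X ^ (p ^ n)), hQ.comp (Polynomial.monic_X_pow _) ?_, ?_⟩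
    · rw [Polynomial.natDegree_X_pow]
      exact pow_ne_zero _ (Fact.out : p.Prime).ne_zero
    · rw [Polynomial.eval₂_comp, Polynomial.eval₂_X_pow, hQb]
  · intro h b
    obtain ⟨Q, hQ, hQb⟩ := h (j b)
    have hpt : ∀ d : ℕ, ∃ N : ℕ, ∀ M, N ≤ M → (Q.coeff d) ^ p ^ M ∈ i.range := fun d => by
      obtain ⟨N, a, ha⟩ := IsPRadical.pow_mem i p (Q.coeff d)
      refine ⟨N, fun M hM => ⟨a ^ p ^ (M - N), ?_⟩⟩
      rw [map_pow, ha, ← pow_mul, ← pow_add, Nat.add_sub_cancel' hM]
    choose N hN using hpt
    let M := (Finset.range (Q.natDegree + 1)).sup N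
    have hco : Q.map (iterateFrobenius A' p M) ∈ Polynomial.lifts i := by
      rw [Polynomial.lifts_iff_coeff_lifts]
      intro d
      rw [Polynomial.coeff_map, iterateFrobenius_def]
      rcases Nat.lt_or_ge Q.natDegree d with hd | hd
      · rw [Polynomial.coeff_eq_zero_of_natDegree_lt hd, zero_pow (pow_ne_zero _ (Fact.out : p.Prime).ne_zero)]
        exact ⟨0, map_zero i⟩
      · exact hN d M (Finset.le_sup (Finset.mem_range.2 (by omega)))
    haveI : Nontrivial A' := CharP.nontrivial_of_char_ne_one (R := A') (Fact.out : p.Prime).ne_one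
    obtain ⟨P, hPQ, -, hP⟩ := Polynomial.lifts_and_natDegree_eq_and_monic hco (hQ.map _)
    have h0 : j (Polynomial.eval₂ φ (b ^ p ^ M) P) = 0 := by
      have e : φ'.comp (iterateFrobenius A' p M) = (iterateFrobenius B' p M).comp φ' :=
        RingHom.ext fun x => by simp [iterateFrobenius_def]
      rw [Polynomial.hom_eval₂, ← hφ, ← Polynomial.eval₂_map, hPQ, Polynomial.eval₂_map, map_pow, e,
        show (j b) ^ p ^ M = iterateFrobenius B' p M (j b) from (iterateFrobenius_def p M _).symm,
        ← Polynomial.hom_eval₂, hQb, map_zero]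
    obtain ⟨k, hk⟩ := mem_pNilradical.1 (IsPRadical.ker_le j p (RingHom.mem_ker.2 h0))
    refine ⟨(P.comp (Polynomial.X ^ (p ^ M))) ^ p ^ k, (hP.comp (Polynomial.monic_X_pow _) ?_).pow _, ?_⟩
    · rw [Polynomial.natDegree_X_pow]
      exact pow_ne_zero _ (Fact.out : p.Prime).ne_zero
    · rw [Polynomial.eval₂_pow, Polynomial.eval₂_comp, Polynomial.eval₂_X_pow, hk]

end Groth.Agent.S14256
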