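import Groth.Statements.S14257
import Groth.Agent.RelFrob17.Basic
import Groth.Agent.S7128
-- import your own Groth.Agent.* helpers here

set_option autoImplicit false
set_option linter.style.haveILetI false
universe u
open TensorProduct
open FrobAlg

namespace Groth.Agent.S14257

open scoped TensorProduct

/-- Let p be a prime, A a commutative ring of characteristic p, B an etale A-algebra of characteristic
p, A → A' and B → B' perfect closures (A', B' perfect rings of characteristic p, every element of A'
resp. B' has a p^n-th power in the image of A resp. B, and the structure maps have kernels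
consisting of nilpotent elements), B' viewed as an A-algebra through B, and φ' : A' → B' a map of
A-algebras. Then the natural map A' ⊗_A B → B', a ⊗ b ↦ φ'(a) b, is bijective. (The published
statement is for an etale morphism X → Y of schemes over the prime field, where X_perf → X ×_Y
Y_perf is an isomorphism; this row is the affine case.) -/
theorem result (p : ℕ) [Fact p.Prime]
    (A B A' B' : Type u) [CommRing A] [CommRing B] [CommRing A'] [CommRing B']
    [CharP A p] [CharP B p] [CharP A' p] [CharP B' p] [PerfectRing A' p] [PerfectRing B' p]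
    [Algebra A B] [Algebra.Etale A B] [Algebra A A'] [Algebra B B'] [Algebra A B'] [IsScalarTower A B B']
    [IsPerfectClosure (algebraMap A A') p] [IsPerfectClosure (algebraMap B B') p]
    (φ' : A' →ₐ[A] B') :
    Function.Bijective (Algebra.TensorProduct.lift φ' (IsScalarTower.toAlgHom A B B')
      (fun a b => Commute.all (φ' a) (IsScalarTower.toAlgHom A B B' b))) := by
  let T := A' ⊗[A] B
  let f : T →ₐ[A] B' := Algebra.TensorProduct.lift φ' (IsScalarTower.toAlgHom A B B')
    (fun a b => Commute.all (φ' a) (IsScalarTower.toAlgHom A B B' b))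
  show Function.Bijective f
  cases subsingleton_or_nontrivial T with
  | inl hT =>
    haveI : Subsingleton B' := by
      refine subsingleton_of_zero_eq_one ?_
      rw [← map_zero f, ← map_one f, Subsingleton.elim (0 : T) 1]
    exact ⟨Function.injective_of_subsingleton _, fun y => ⟨0, Subsingleton.elim _ _⟩⟩
  | inr hT =>
    have hp : p.Prime := Fact.out
    haveI : CharP T p := (CharP.charP_iff_prime_eq_zero hp).2
      (Groth.Agent.RelFrob17.natCast_eq_zero p A T)
    have hbij := Groth.Agent.RelFrob17.bijective_of_etale p A' T
    haveI : IsReduced A' := (isReduced_iff_pow_one_lt p hp.one_lt).2 fun a ha =>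
      (PerfectRing.bijective_frobenius (R := A') (p := p)).1 (show a ^ p = (0 : A') ^ p by rw [ha, zero_pow hp.ne_zero])
    haveI : IsReduced T := Groth.Agent.S7128.result A' T
    have hroot : ∀ x : T, ∃ y : T, y ^ p = x := by
      intro x
      obtain ⟨z, rfl⟩ := hbij.2 x
      induction z using TensorProduct.induction_on with
      | zero => exact ⟨0, by rw [map_zero, zero_pow hp.ne_zero]⟩
      | tmul b a =>
        obtain ⟨a, rfl⟩ := (FrobAlg.toTwist p A').surjective a
        obtain ⟨c, hc⟩ := (PerfectRing.bijective_frobenius (R := A') (p := p)).2 a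
        exact ⟨b * algebraMap A' T c, by
          rw [Groth.Agent.RelFrob17.relFrob_tmul, mul_pow, ← map_pow, ← hc]⟩
      | add z w hz hw =>
        obtain ⟨y, hy⟩ := hz
        obtain ⟨y', hy'⟩ := hw
        exact ⟨y + y', by rw [add_pow_char, map_add, hy, hy']⟩
    have hrootn : ∀ (n : ℕ) (x : T), ∃ y : T, y ^ p ^ n = x := by
      intro n
      induction n with
      | zero => exact fun x => ⟨x, by simp⟩
      | succ n ih =>
        intro x
        obtain ⟨y, rfl⟩ := hroot x
        obtain ⟨z, rfl⟩ := ih y
        exact ⟨z, by rw [pow_succ, pow_mul]⟩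
    let g : B →ₐ[A] T := Algebra.TensorProduct.includeRight
    have hfg : ∀ b, f (g b) = algebraMap B B' b := fun b => by
      show Algebra.TensorProduct.lift φ' (IsScalarTower.toAlgHom A B B') _ ((1 : A') ⊗ₜ[A] b) = _
      rw [Algebra.TensorProduct.lift_tmul, map_one, one_mul]
      rfl
    have hpow : ∀ x : T, ∃ (n : ℕ) (b : B), g b = x ^ p ^ n := by
      intro x
      induction x using TensorProduct.induction_on with
      | zero => exact ⟨0, 0, by simp⟩
      | tmul a b =>
        obtain ⟨n, c, hc⟩ := IsPRadical.pow_mem (algebraMap A A') p a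
        refine ⟨n, algebraMap A B c * b ^ p ^ n, ?_⟩
        rw [Algebra.TensorProduct.tmul_pow, ← hc, map_mul, map_pow, g.commutes]
        simp [g, T, Algebra.TensorProduct.algebraMap_apply, Algebra.TensorProduct.tmul_pow]
      | add x y hx hy =>
        obtain ⟨n, b, hb⟩ := hx
        obtain ⟨m, c, hc⟩ := hy
        refine ⟨n + m, b ^ p ^ m + c ^ p ^ n, ?_⟩
        rw [map_add, map_pow, map_pow, hb, hc, add_pow_char_pow, ← pow_mul, ← pow_mul, ← pow_add,
          ← pow_add, add_comm m n]
    constructor
    · refine (injective_iff_map_eq_zero f).2 fun x hx => ?_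
      obtain ⟨n, b, hb⟩ := hpow x
      have h0 : b ∈ RingHom.ker (algebraMap B B') := by
        rw [RingHom.mem_ker, ← hfg, hb, map_pow, hx, zero_pow (pow_ne_zero _ hp.ne_zero)]
      obtain ⟨m, hm⟩ := mem_pNilradical.1 (IsPRadical.ker_le (algebraMap B B') p h0)
      refine eq_zero_of_pow_eq_zero (n := p ^ n * p ^ m) ?_
      rw [pow_mul, ← hb, ← map_pow, hm, map_zero]
    · intro y
      obtain ⟨n, b, hb⟩ := IsPRadical.pow_mem (algebraMap B B') p y
      obtain ⟨z, hz⟩ := hrootn n (g b)
      refine ⟨z, (bijective_iterateFrobenius (R := B') (p := p) (n := n)).1 ?_⟩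
      rw [iterateFrobenius_def, iterateFrobenius_def, ← map_pow, hz, hfg, hb]

end Groth.Agent.S14257
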