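import Mathlib
import Groth.Statements.S14262
-- import your own Groth.Agent.* helpers here

set_option autoImplicit false
universe u
open FrobAlg

namespace Groth.Agent.S14262

/-- Let p be a prime, A a perfect ring of characteristic p and f ∈ A. The radical of the principal ideal
(f) — equivalently the ideal generated by all p^n-th roots of f, n ≥ 0 — is a flat A-module. -/
theorem result (p : ℕ) [Fact p.Prime] (A : Type u) [CommRing A]
    [CharP A p] [PerfectRing A p] (f : A) :
    Module.Flat A ((Ideal.span {f}).radical) := by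
  haveI : ExpChar A p := ExpChar.prime Fact.out
  let g : ℕ → A := fun n => (iterateFrobeniusEquiv A p n).symm f
  have hg : ∀ n, g n ^ p ^ n = f := fun n => (iterateFrobeniusEquiv A p n).apply_symm_apply f
  have hgs : ∀ n, g (n + 1) ^ p = g n := fun n => (iterateFrobeniusEquiv A p n).injective (by
    show (g (n + 1) ^ p) ^ p ^ n = g n ^ p ^ n
    rw [← pow_mul, ← pow_succ', hg, hg])
  have hp1 : 1 < p := (Fact.out : p.Prime).one_lt
  have hgle : ∀ m n, m ≤ n → g m ∈ Ideal.span {g n} := by
    intro m n hmn
    induction hmn with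
    | refl => exact Ideal.mem_span_singleton_self _
    | @step n _ ih =>
      refine (Ideal.span_singleton_le_iff_mem _).2 ?_ ih
      rw [← hgs n]
      exact Ideal.pow_mem_of_mem _ (Ideal.mem_span_singleton_self _) p (by omega)
  refine Module.Flat.iff_forall_isTrivialRelation.2 fun {l r x} hx => ?_
  have hx' : ∀ i, ∃ n, (x i : A) ∈ Ideal.span {g n} := by
    intro i
    obtain ⟨k, hk⟩ := Ideal.mem_radical_iff.1 (x i).2
    obtain ⟨b, hb⟩ := Ideal.mem_span_singleton'.1 (Ideal.pow_mem_of_pow_mem _ hk (Nat.lt_pow_self hp1).le)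
    refine ⟨k, Ideal.mem_span_singleton'.2 ⟨(iterateFrobeniusEquiv A p k).symm b, ?_⟩⟩
    refine (iterateFrobeniusEquiv A p k).injective ?_
    rw [map_mul, RingEquiv.apply_symm_apply]
    show b * g k ^ p ^ k = (x i : A) ^ p ^ k
    rw [hg, hb]
  choose n hn using hx'
  let N := Finset.univ.sup n
  choose c hc using fun i => Ideal.mem_span_singleton'.1
    ((Ideal.span_singleton_le_iff_mem _).2 (hgle (n i) N (Finset.le_sup (Finset.mem_univ i))) (hn i))
  have h0 : (∑ i, r i * c i) * g N = 0 := by
    rw [Finset.sum_mul]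
    have := congrArg Subtype.val hx
    simp only [Submodule.coe_sum, SetLike.val_smul, smul_eq_mul, Submodule.coe_zero] at this
    rw [← this]
    exact Finset.sum_congr rfl fun i _ => by rw [mul_assoc, hc]
  have h1 : (∑ i, r i * c i) * g (N + 1) = 0 := (frobeniusEquiv A p).injective (by
    rw [map_zero]
    show ((∑ i, r i * c i) * g (N + 1)) ^ p = 0
    rw [mul_pow, hgs, show p = (p - 1) + 1 by omega, pow_succ, mul_assoc, h0, mul_zero])
  refine ⟨1, fun i _ => c i * g (N + 1) ^ (p - 1), fun _ => ⟨g (N + 1), ⟨p ^ (N + 1), ?_⟩⟩, fun i => Subtype.ext ?_, fun _ => ?_⟩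
  · rw [hg]
    exact Ideal.mem_span_singleton_self _
  · simp only [Finset.univ_unique, Finset.sum_singleton, SetLike.val_smul, smul_eq_mul]
    rw [mul_assoc, ← pow_succ, Nat.sub_add_cancel hp1.le, hgs, hc]
  · rw [show (p - 1) = (p - 2) + 1 by omega, pow_succ']
    simp only [← mul_assoc]
    rw [← Finset.sum_mul, ← Finset.sum_mul, h1, zero_mul]

end Groth.Agent.S14262
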