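import Groth.Statements.S14265
import Groth.Agent.KFlat.Mon.BCAlg

set_option autoImplicit false
universe u
open CategoryTheory CategoryTheory.Limits MonoidalCategory
attribute [local instance] HasDerivedCategory.standard
open DTen

namespace Groth.Agent.S14265

/-- `R'` as an `R`-module. -/
noncomputable def resUnitLin (R R' : Type u) [CommRing R] [CommRing R'] [Algebra R R'] :
    ((DTen.resM (algebraMap R R')).obj (𝟙_ (ModuleCat.{u} R'))) ≅ ModuleCat.of R R' :=
  LinearEquiv.toModuleIso (X₁ := ((DTen.resM (algebraMap R R')).obj (𝟙_ (ModuleCat.{u} R')))) (X₂ := R')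
    (show ((DTen.resM (algebraMap R R')).obj (𝟙_ (ModuleCat.{u} R'))) ≃ₗ[R] R' from
      { toFun := fun x => x
        invFun := fun x => x
        map_add' := fun _ _ => rfl
        map_smul' := fun r x => (Algebra.smul_def r (show R' from x)).symm
        left_inv := fun _ => rfl
        right_inv := fun _ => rfl })

/-- The unit of `D(R')`, restricted, is `R'[0]`. -/
noncomputable def resUnitIso (R R' : Type u) [CommRing R] [CommRing R'] [Algebra R R'] :
    (DRing.restrictD (algebraMap R R')).obj (DTen.unit R') ≅ Dual.inD R R' :=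
  (DTen.resFactors (algebraMap R R')).app _ ≪≫ DerivedCategory.Q.mapIso
    ((HomologicalComplex.singleMapHomologicalComplex (DTen.resM (algebraMap R R')) (ComplexShape.up ℤ) 0).app _ ≪≫
      (HomologicalComplex.single (ModuleCat.{u} R) (ComplexShape.up ℤ) 0).mapIso (resUnitLin R R'))

/-- For a commutative ring `R`, an `R`-algebra `R'` that is perfect as an `R`-module (`R'[0]` is
isomorphic in `D(R)` to a bounded complex of finite projective modules) and objects `K`, `M` of
`D(R)`, the base change morphism `RHom_R(K, M) ⊗^L_R R' ⟶ RHom_{R'}(K ⊗^L_R R', M ⊗^L_R R')` in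
`D(R')` (along the structure map `R → R'`) is an isomorphism. The invertibility of the canonical
comparison `RHom_{R'}(K ⊗^L_R R', M ⊗^L_R R')|_R ⟶ RHom_R(K, (M ⊗^L_R R')|_R)`, through whose
inverse the morphism is defined, is carried as a hypothesis. (The existence of the derived tensor
products on `D(R)` and `D(R')`, of the internal homs `RHom`, of derived base change and of the
restriction-of-scalars comparison for the derived tensor product, with the invertibility of the
latter's second leg, are assumed as hypotheses; they hold for every ring map.) -/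
theorem result (R R' : Type u) [CommRing R] [CommRing R'] [Algebra R R']
    [DTen.HasLTen R] [DTen.HasLTen R'] [DTen.HasRHom R] [DTen.HasRHom R'] [DTen.HasLBase (algebraMap R R')]
    [DTen.HasResTen (algebraMap R R')] [DTen.ResLegIso (algebraMap R R')] (K M : Dual.D R)
    [IsIso (DTen.rhomBC (algebraMap R R') K ((DTen.LBase (algebraMap R R')).obj M))]
    (hR' : DRing.IsPerfectModule R R') :
    IsIso (DTen.bcRHom (algebraMap R R') K M) := by
  have hA : DRing.IsPerfect R ((DRing.restrictD (algebraMap R R')).obj (DTen.unit R')) := by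
    obtain ⟨E, a, b, h₁, h₂, ⟨e⟩⟩ := hR'
    exact ⟨E, a, b, h₁, h₂, ⟨e ≪≫ (resUnitIso R R').symm⟩⟩
  obtain ⟨N, ⟨p⟩⟩ := Groth.Agent.KFlat.Mon.exists_pairing_of_isPerfect hA
  let : ExactPairing ((Groth.Agent.KFlat.Mon.Res (algebraMap R R')).obj (𝟙_ (Groth.Agent.KFlat.Mon.DM R'))) N := p
  exact Groth.Agent.KFlat.Mon.isIso_bcRHom_of_isIso_evalT (algebraMap R R') K M
    (Groth.Agent.KFlat.Mon.isIso_evalT_left (Groth.Agent.KFlat.Mon.adjM K) _ N _)

end Groth.Agent.S14265
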