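import Mathlib
import Groth.Statements.S14271
-- import your own Groth.Agent.* helpers here

set_option autoImplicit false
universe u
open FlatPur

namespace Groth.Agent.S14271

open AlgebraicGeometry CategoryTheory CategoryTheory.Limits in
theorem ker_ι_eq_bot (X : Scheme.{u}) (U : X.Opens) [QuasiCompact U.ι]
    (hZ : ∀ z : X, z ∉ U → ∃ a ∈ IsLocalRing.maximalIdeal (X.presheaf.stalk z), IsSMulRegular (X.presheaf.stalk z) a) :
    U.ι.ker = ⊥ := by
  refine Scheme.IdealSheafData.ext (funext fun V => ?_)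
  rw [Scheme.Hom.ker_apply, Scheme.IdealSheafData.ideal_bot, Pi.bot_apply, eq_bot_iff]
  intro s hs
  rw [RingHom.mem_ker] at hs
  rw [Ideal.mem_bot]
  by_contra hne
  let I : Ideal Γ(X, V.1) := LinearMap.ker (LinearMap.toSpanSingleton Γ(X, V.1) Γ(X, V.1) s)
  have hI : ∀ r, r ∈ I ↔ r * s = 0 := fun r => by simp [I]
  have hItop : I ≠ ⊤ := fun h => hne (by simpa using (hI 1).mp (h ▸ Submodule.mem_top))
  obtain ⟨m, hm, hIm⟩ := Ideal.exists_le_maximal I hItop
  obtain ⟨p, hp, -⟩ := Ideal.exists_minimalPrimes_le hIm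
  have : p.IsPrime := hp.1.1
  let y : PrimeSpectrum Γ(X, V.1) := ⟨p, hp.1.1⟩
  have hy : V.2.fromSpec y ∈ V.1 := by
    rw [← SetLike.mem_coe, ← V.2.range_fromSpec]
    exact ⟨y, rfl⟩
  let _ := X.presheaf.algebra_section_stalk ⟨V.2.fromSpec y, hy⟩
  have hloc : IsLocalization.AtPrime (X.presheaf.stalk (V.2.fromSpec y)) p := V.2.isLocalization_stalk' y hy
  have halg : ∀ r, algebraMap Γ(X, V.1) (X.presheaf.stalk (V.2.fromSpec y)) r = X.presheaf.germ V.1 _ hy r := fun r => rfl
  have hs0 : algebraMap Γ(X, V.1) (X.presheaf.stalk (V.2.fromSpec y)) s ≠ 0 := by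
    intro h
    obtain ⟨t, ht⟩ := (IsLocalization.map_eq_zero_iff p.primeCompl _ s).mp h
    exact t.2 (hp.1.2 ((hI _).mpr ht))
  by_cases hU : V.2.fromSpec y ∈ U
  · apply hs0
    rw [halg]
    have : IsIso (U.ι.stalkMap ⟨_, hU⟩) := (IsOpenImmersion.iff_isIso_stalkMap.mp inferInstance).2 _
    apply (ConcreteCategory.bijective_of_isIso (U.ι.stalkMap ⟨_, hU⟩)).1
    erw [Scheme.Hom.germ_stalkMap_apply, map_zero]
    rw [hs, map_zero]
  · obtain ⟨a, ha, hreg⟩ := hZ _ hU
    have hrad : a ∈ (I.map (algebraMap Γ(X, V.1) (X.presheaf.stalk (V.2.fromSpec y)))).radical := by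
      rw [Ideal.radical_eq_sInf, Submodule.mem_sInf]
      rintro J ⟨hJ, hJp⟩
      have hle : Ideal.comap (algebraMap Γ(X, V.1) (X.presheaf.stalk (V.2.fromSpec y))) J ≤ p := by
        intro r hr
        by_contra hrp
        exact hJp.ne_top (Ideal.eq_top_of_isUnit_mem J hr (IsLocalization.map_units (X.presheaf.stalk (V.2.fromSpec y)) (⟨r, hrp⟩ : p.primeCompl)))
      have heq := le_antisymm hle (hp.2 ⟨hJp.comap _, Ideal.map_le_iff_le_comap.mp hJ⟩ hle)
      have : (p.map (algebraMap Γ(X, V.1) (X.presheaf.stalk (V.2.fromSpec y)))) ≤ J := Ideal.map_le_iff_le_comap.mpr heq.ge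
      rw [IsLocalization.AtPrime.map_eq_maximalIdeal p] at this
      exact this ha
    obtain ⟨N, hN⟩ := hrad
    have hann : I.map (algebraMap Γ(X, V.1) (X.presheaf.stalk (V.2.fromSpec y))) ≤
        LinearMap.ker (LinearMap.toSpanSingleton _ _ (algebraMap Γ(X, V.1) (X.presheaf.stalk (V.2.fromSpec y)) s)) := by
      refine Ideal.map_le_iff_le_comap.mpr fun r hr => ?_
      simp [← map_mul, (hI r).mp hr]
    have h0 := hann hN
    simp only [LinearMap.mem_ker, LinearMap.toSpanSingleton_apply, smul_eq_mul] at h0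
    exact hs0 ((hreg.pow N) (show a ^ N • _ = a ^ N • (0 : X.presheaf.stalk (V.2.fromSpec y)) by simpa using h0))

open AlgebraicGeometry CategoryTheory CategoryTheory.Limits in
/-- Let X be a scheme and U an open subscheme whose inclusion is quasi-compact, such that for every
point z of X outside U the maximal ideal of O_{X,z} contains an element that is regular (a
nonzerodivisor) on that local ring. Then for every separated X-scheme Y the restriction map from
X-sections of Y to U-sections of Y is injective: two sections of Y -> X that agree on U are equal. -/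
theorem result (X : Scheme.{u}) (U : X.Opens) [QuasiCompact U.ι]
    (hZ : ∀ z : X, z ∉ U → ∃ a ∈ IsLocalRing.maximalIdeal (X.presheaf.stalk z), IsSMulRegular (X.presheaf.stalk z) a)
    (Y : Scheme.{u}) (f : Y ⟶ X) [IsSeparated f] (s₁ s₂ : X ⟶ Y) (h₁ : s₁ ≫ f = 𝟙 X) (h₂ : s₂ ≫ f = 𝟙 X)
    (hU : U.ι ≫ s₁ = U.ι ≫ s₂) : s₁ = s₂ := by
  have hker := ker_ι_eq_bot X U hZ
  let D := pullback.diagonal f
  let g : X ⟶ pullback f f := pullback.lift s₁ s₂ (by rw [h₁, h₂])
  let E := pullback.fst g D
  have hEker : E.ker = ⊥ := by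
    have hfac : pullback.lift U.ι (U.ι ≫ s₁) (by
        apply pullback.hom_ext
        · erw [Category.assoc, pullback.lift_fst, Category.assoc, pullback.diagonal_fst, Category.comp_id]
        · erw [Category.assoc, pullback.lift_snd, Category.assoc, pullback.diagonal_snd, Category.comp_id]
          exact hU.symm) ≫ E = U.ι := pullback.lift_fst _ _ _
    rw [← le_bot_iff, ← hker, ← hfac]
    exact Scheme.Hom.le_ker_comp _ _
  have : IsIso E := IsClosedImmersion.isIso_iff_ker_eq_bot.mpr hEker
  have h : E ≫ g = pullback.snd g D ≫ D := pullback.condition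
  have e1 := h =≫ pullback.fst f f
  have e2 := h =≫ pullback.snd f f
  erw [Category.assoc, pullback.lift_fst, Category.assoc, pullback.diagonal_fst, Category.comp_id] at e1
  erw [Category.assoc, pullback.lift_snd, Category.assoc, pullback.diagonal_snd, Category.comp_id] at e2
  rw [← cancel_epi E, e1, e2]

end Groth.Agent.S14271
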