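import Mathlib
import Groth.Statements.S14275
-- import your own Groth.Agent.* helpers here

set_option autoImplicit false
universe u
open CAlg

namespace Groth.Agent.S14275

section
open AdicCompletion
variable {A : Type u} [CommRing A] (I : Ideal A) {M P Q : Type u} [AddCommGroup M] [Module A M]
  [AddCommGroup P] [Module A P] [AddCommGroup Q] [Module A Q] (f : M →ₗ[A] P) (g : P →ₗ[A] Q)
  (N : ℕ) (hAR : ∀ n (x : M), f x ∈ (I ^ (n + N) • ⊤ : Submodule A P) → x ∈ (I ^ n • ⊤ : Submodule A M))

include hAR in
theorem map_injective' : Function.Injective (map I f) := by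
  rw [← LinearMap.ker_eq_bot, eq_bot_iff]
  intro x hx
  induction x using AdicCompletion.induction_on with
  | _ a =>
  refine (Submodule.mem_bot _).mpr (AdicCompletion.ext fun n => ?_)
  have h := congrArg (fun z => z.val (n + N)) (LinearMap.mem_ker.mp hx)
  have h1 : a (n + N) ∈ (I ^ n • ⊤ : Submodule A M) := hAR n _ ((Submodule.Quotient.mk_eq_zero _).mp h)
  have h2 := AdicCauchySequence.mk_eq_mk (Nat.le_add_right n N) a
  show Submodule.Quotient.mk (a n) = 0
  rw [← h2, Submodule.Quotient.mk_eq_zero]
  exact h1

include hAR in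
theorem map_exact' (hg : Function.Surjective g) (hfg : Function.Exact f g) (y : AdicCompletion I P)
    (hy : map I g y = 0) : ∃ z, map I f z = y := by
  induction y using AdicCompletion.induction_on with
  | _ b =>
  have hb : ∀ n, ∃ x, b n - f x ∈ (I ^ n • ⊤ : Submodule A P) := fun n => by
    have h : g (b n) ∈ (I ^ n • ⊤ : Submodule A Q) := (Submodule.Quotient.mk_eq_zero _).mp (congrArg (fun z => z.val n) hy)
    rw [← LinearMap.range_eq_top.mpr hg, ← Submodule.map_top, ← Submodule.map_smul''] at h
    obtain ⟨d, hd, hde⟩ := h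
    obtain ⟨x, hx⟩ := (hfg (b n - d)).mp (by rw [map_sub, hde, sub_self])
    exact ⟨x, by rw [hx, sub_sub_cancel]; exact hd⟩
  choose x hx using hb
  have hcau : ∀ {m n}, m ≤ n → x (m + N) ≡ x (n + N) [SMOD (I ^ m • ⊤ : Submodule A M)] := fun {m n} hmn => by
    refine (SModEq.sub_mem).mpr (hAR m _ ?_)
    have h1 : b (m + N) - b (n + N) ∈ (I ^ (m + N) • ⊤ : Submodule A P) := SModEq.sub_mem.mp (b.2 (by omega))
    have h2 : b (n + N) - f (x (n + N)) ∈ (I ^ (m + N) • ⊤ : Submodule A P) :=
      Submodule.smul_mono_left (Ideal.pow_le_pow_right (by omega)) (hx (n + N))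
    have := sub_mem (add_mem h1 h2) (hx (m + N))
    convert this using 1
    rw [map_sub]
    abel
  refine ⟨AdicCompletion.mk I M ⟨fun n => x (n + N), hcau⟩, AdicCompletion.ext fun n => ?_⟩
  show Submodule.Quotient.mk (f (x (n + N))) = Submodule.Quotient.mk (b n)
  have h2 := AdicCauchySequence.mk_eq_mk (Nat.le_add_right n N) b
  rw [← h2, eq_comm, Submodule.Quotient.eq]
  exact Submodule.smul_mono_left (Ideal.pow_le_pow_right (Nat.le_add_right n N)) (hx (n + N))

theorem map_lsmul' (c : A) (z : AdicCompletion I M) : map I (LinearMap.lsmul A M c) z = c • z := by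
  induction z using AdicCompletion.induction_on with
  | _ a => rfl

end

open RingTheory.Sequence in
/-- Let A be a commutative ring, a an element of A with a-adic completion A^, and a_1, ..., a_n a weakly
regular sequence on A such that for each i = 0, ..., n the quotient A/(a_1, ..., a_i) has bounded
a-power torsion (some fixed power of a kills every element killed by a power of a). Then the images
of a_1, ..., a_n form a weakly regular sequence on A^, and the canonical map from A^ to the a-adic
completion of A/(a_1, ..., a_n) is surjective with kernel the ideal generated by the images of a_1,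
..., a_n. -/
theorem result (A : Type u) [CommRing A] (a : A) (rs : List A)
    (hreg : IsWeaklyRegular A rs)
    (hbd : ∀ i ≤ rs.length, ∃ N : ℕ, ∀ x : A ⧸ Ideal.ofList (rs.take i), (∃ m : ℕ, a ^ m • x = 0) → a ^ N • x = 0) :
    IsWeaklyRegular (AdicCompletion (Ideal.span {a}) A)
        (rs.map (algebraMap A (AdicCompletion (Ideal.span {a}) A))) ∧
      Function.Surjective (AdicCompletion.map (Ideal.span {a}) (Ideal.ofList rs).mkQ) ∧
      LinearMap.ker (AdicCompletion.map (Ideal.span {a}) (Ideal.ofList rs).mkQ) =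
        (Ideal.ofList rs).map (algebraMap A (AdicCompletion (Ideal.span {a}) A)) := by
  let I : Ideal A := Ideal.span {a}
  let π : ∀ i : ℕ, AdicCompletion I A →ₗ[AdicCompletion I A] AdicCompletion I (A ⧸ Ideal.ofList (rs.take i)) :=
    fun i => AdicCompletion.map I (Ideal.ofList (rs.take i)).mkQ
  have hmono : ∀ i, Ideal.ofList (rs.take i) ≤ Ideal.ofList (rs.take (i + 1)) := fun i => by
    refine Ideal.span_mono fun x hx => ?_
    exact (List.take_subset_take_left rs (Nat.le_succ i)) hx
  have hmapof : ∀ r, algebraMap A (AdicCompletion I A) r = AdicCompletion.of I A r := fun r => AdicCompletion.ext fun n => rfl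
  have hge : ∀ i, (Ideal.ofList (rs.take i)).map (algebraMap A (AdicCompletion I A)) ≤ LinearMap.ker (π i) := fun i => by
    refine Ideal.map_le_iff_le_comap.mpr fun r hr => ?_
    show π i (algebraMap A _ r) = 0
    rw [hmapof]
    show AdicCompletion.map I _ (AdicCompletion.of I A r) = 0
    rw [AdicCompletion.map_of, Submodule.mkQ_apply, (Submodule.Quotient.mk_eq_zero _).mpr hr, map_zero]
  have hf : ∀ i (hi : i < rs.length), ∃ N, ∀ n (x : A ⧸ Ideal.ofList (rs.take i)),
      LinearMap.lsmul A _ rs[i] x ∈ (I ^ (n + N) • ⊤ : Submodule A (A ⧸ Ideal.ofList (rs.take i))) →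
        x ∈ (I ^ n • ⊤ : Submodule A (A ⧸ Ideal.ofList (rs.take i))) := by
    intro i hi
    obtain ⟨N, hN⟩ := hbd (i + 1) hi
    have hq : IsSMulRegular (A ⧸ Ideal.ofList (rs.take i)) rs[i] := by
      have := hreg.regular_mod_prev i hi
      rwa [smul_eq_mul (α := Ideal A), Ideal.mul_top] at this
    refine ⟨N, fun n x hx => ?_⟩
    rw [Ideal.span_singleton_pow, Submodule.ideal_span_singleton_smul, Submodule.mem_smul_pointwise_iff_exists] at hx ⊢
    obtain ⟨y, -, hy⟩ := hx
    obtain ⟨y, rfl⟩ := Submodule.Quotient.mk_surjective _ y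
    obtain ⟨x, rfl⟩ := Submodule.Quotient.mk_surjective _ x
    have hy' : a ^ (n + N) * y - rs[i] * x ∈ Ideal.ofList (rs.take i) := (Submodule.Quotient.eq _).mp hy
    have hkill : a ^ (n + N) * y ∈ Ideal.ofList (rs.take (i + 1)) := by
      have h1 := hmono i hy'
      have h2 : rs[i] * x ∈ Ideal.ofList (rs.take (i + 1)) := Ideal.mul_mem_right _ _ (Ideal.subset_span (by
        show rs[i] ∈ rs.take (i + 1)
        exact List.mem_take_iff_getElem.mpr ⟨i, by omega, rfl⟩))
      simpa using add_mem h1 h2
    have h3 := hN (Submodule.Quotient.mk y) ⟨n + N, (Submodule.Quotient.mk_eq_zero _).mpr hkill⟩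
    rw [← Submodule.Quotient.mk_smul, Submodule.Quotient.mk_eq_zero, List.take_succ_eq_append_getElem hi,
      Ideal.ofList_append, Ideal.ofList_singleton, Submodule.mem_sup] at h3
    obtain ⟨u, hu, v, hv, huv⟩ := h3
    obtain ⟨z, rfl⟩ := Ideal.mem_span_singleton'.mp hv
    rw [smul_eq_mul] at huv
    refine ⟨Submodule.Quotient.mk z, Submodule.mem_top, hq ?_⟩
    show rs[i] • a ^ n • Submodule.Quotient.mk z = rs[i] • Submodule.Quotient.mk x
    rw [← Submodule.Quotient.mk_smul, ← Submodule.Quotient.mk_smul, ← Submodule.Quotient.mk_smul, Submodule.Quotient.eq,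
      smul_eq_mul, smul_eq_mul, smul_eq_mul]
    have : rs[i] * (a ^ n * z) - rs[i] * x = (a ^ (n + N) * y - rs[i] * x) - a ^ n * u := by
      rw [pow_add]; linear_combination a ^ n * huv
    rw [this]
    exact sub_mem hy' (Ideal.mul_mem_left _ _ hu)
  have hker : ∀ i ≤ rs.length, LinearMap.ker (π i) = (Ideal.ofList (rs.take i)).map (algebraMap A (AdicCompletion I A)) := by
    intro i
    induction i with
    | zero =>
      intro _
      refine le_antisymm (fun x hx => ?_) (hge 0)
      have hinj := map_injective' I (Ideal.ofList (rs.take 0)).mkQ 0 fun n x hx => by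
        rw [← LinearMap.range_eq_top.mpr (Submodule.mkQ_surjective (Ideal.ofList (rs.take 0))), ← Submodule.map_top,
          ← Submodule.map_smul''] at hx
        obtain ⟨d, hd, hdx⟩ := hx
        have : d - x ∈ Ideal.ofList (rs.take 0) := (Submodule.Quotient.eq _).mp hdx
        simp [Ideal.ofList_nil, sub_eq_zero] at this
        exact this ▸ hd
      rw [hinj ((LinearMap.mem_ker.mp hx).trans (map_zero _).symm)]
      exact zero_mem _
    | succ i ih =>
      intro hi
      refine le_antisymm (fun x hx => ?_) (hge _)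
      obtain ⟨N, hN⟩ := hf i hi
      let g : (A ⧸ Ideal.ofList (rs.take i)) →ₗ[A] A ⧸ Ideal.ofList (rs.take (i + 1)) :=
        Submodule.mapQ _ _ LinearMap.id (hmono i)
      have hgs : Function.Surjective g := fun z => by
        obtain ⟨z, rfl⟩ := Submodule.Quotient.mk_surjective _ z
        exact ⟨Submodule.Quotient.mk z, rfl⟩
      have hex : Function.Exact (LinearMap.lsmul A (A ⧸ Ideal.ofList (rs.take i)) rs[i]) g := fun z => by
        obtain ⟨z, rfl⟩ := Submodule.Quotient.mk_surjective _ z
        show (Submodule.Quotient.mk z : A ⧸ Ideal.ofList (rs.take (i + 1))) = 0 ↔ _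
        rw [Submodule.Quotient.mk_eq_zero, List.take_succ_eq_append_getElem hi, Ideal.ofList_append, Ideal.ofList_singleton,
          Submodule.mem_sup]
        constructor
        · rintro ⟨u, hu, v, hv, rfl⟩
          obtain ⟨w, rfl⟩ := Ideal.mem_span_singleton'.mp hv
          refine ⟨Submodule.Quotient.mk w, (Submodule.Quotient.eq _).mpr ?_⟩
          show rs[i] * w - (u + w * rs[i]) ∈ _
          rw [show rs[i] * w - (u + w * rs[i]) = -u by ring]
          exact neg_mem hu
        · rintro ⟨w, hw⟩
          obtain ⟨w, rfl⟩ := Submodule.Quotient.mk_surjective _ w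
          have hw' : rs[i] * w - z ∈ Ideal.ofList (rs.take i) := (Submodule.Quotient.eq _).mp hw
          exact ⟨_, neg_mem hw', _, Ideal.mem_span_singleton'.mpr ⟨w, mul_comm _ _⟩, by ring⟩
      have hgx : AdicCompletion.map I g (π i x) = 0 := by
        refine (AdicCompletion.map_comp_apply (I := I) (Ideal.ofList (rs.take i)).mkQ g x).trans ?_
        exact hx
      obtain ⟨z, hz⟩ := map_exact' I _ g N hN hgs hex _ hgx
      obtain ⟨w, rfl⟩ := AdicCompletion.map_surjective I (Submodule.mkQ_surjective (Ideal.ofList (rs.take i))) z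
      rw [map_lsmul'] at hz
      have hd : x - rs[i] • w ∈ (Ideal.ofList (rs.take i)).map (algebraMap A (AdicCompletion I A)) := by
        rw [← ih (by omega), LinearMap.mem_ker, map_sub, LinearMap.map_smul_of_tower, sub_eq_zero]
        exact hz.symm
      rw [← sub_add_cancel x (rs[i] • w)]
      refine add_mem (Ideal.map_mono (hmono i) hd) ?_
      rw [Algebra.smul_def]
      refine Ideal.mul_mem_right _ _ (Ideal.mem_map_of_mem _ (Ideal.subset_span (show rs[i] ∈ rs.take (i + 1) by
        exact List.mem_take_iff_getElem.mpr ⟨i, by omega, rfl⟩)))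
  refine ⟨⟨fun i hi => ?_⟩, AdicCompletion.map_surjective I (Submodule.mkQ_surjective _), ?_⟩
  · rw [List.length_map] at hi
    rw [List.getElem_map, ← List.map_take, ← Ideal.map_ofList, smul_eq_mul (α := Ideal (AdicCompletion _ A)), Ideal.mul_top,
      isSMulRegular_iff_right_eq_zero_of_smul]
    intro x hx
    obtain ⟨x, rfl⟩ := Submodule.Quotient.mk_surjective _ x
    rw [← Submodule.Quotient.mk_smul, Submodule.Quotient.mk_eq_zero, smul_eq_mul, ← Algebra.smul_def, ← hker i hi.le,
      LinearMap.mem_ker, LinearMap.map_smul_of_tower] at hx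
    rw [Submodule.Quotient.mk_eq_zero, ← hker i hi.le, LinearMap.mem_ker]
    obtain ⟨N, hN⟩ := hf i hi
    refine map_injective' I _ N hN (a₁ := π i x) (a₂ := 0) ?_
    rw [map_lsmul', map_zero]
    exact hx
  · have := hker rs.length le_rfl
    simp only [π] at this
    rw [List.take_length] at this
    exact this

end Groth.Agent.S14275
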