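import Groth.Statements.S14280
import Mathlib
-- import your own Groth.Agent.* helpers here

set_option autoImplicit false
universe u
open SpSeq

namespace Groth.Agent.S14280

/-- Let E^{p,q} (p, q ≥ 0) be finite-dimensional complex vector spaces each carrying an endomorphism Φ,
and suppose that for a natural number N and functions a, c ≥ 0 (real) and b, d (natural numbers) one
has E^{p,q} = 0 for q > N, |μ| ≤ a(q)c(p) for every eigenvalue μ of Φ on E^{p,q}, and dim E^{p,q} ≤
b(q)d(p). If Σ_p c(p)d(p) converges then the family of traces tr(Φ | E^{p,q}) is absolutely summable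
over all pairs (p, q). (The published statement takes a and b defined on {0, …, N} only; here they
are functions on all natural numbers, which changes nothing since E^{p,q} = 0 for q > N.) -/
theorem result
    (E : ℕ → ℕ → Type u) [∀ p q, AddCommGroup (E p q)] [∀ p q, Module ℂ (E p q)]
    [∀ p q, FiniteDimensional ℂ (E p q)] (Φ : ∀ p q, E p q →ₗ[ℂ] E p q)
    (N : ℕ) (a c : ℕ → ℝ) (b d : ℕ → ℕ) (ha : ∀ q, 0 ≤ a q) (hc : ∀ p, 0 ≤ c p)
    (h1 : ∀ p q, N < q → Subsingleton (E p q))
    (h2 : ∀ p q (μ : ℂ), Module.End.HasEigenvalue (Φ p q) μ → ‖μ‖ ≤ a q * c p)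
    (h3 : ∀ p q, Module.finrank ℂ (E p q) ≤ b q * d p)
    (hsum : Summable fun p : ℕ => c p * (d p : ℝ)) :
    Summable fun pq : ℕ × ℕ => ‖LinearMap.trace ℂ (E pq.1 pq.2) (Φ pq.1 pq.2)‖ := by
  have hb : ∀ p q, ‖LinearMap.trace ℂ (E p q) (Φ p q)‖ ≤ ((b q * d p : ℕ) : ℝ) * (a q * c p) := by
    intro p q
    have hsp : (Φ p q).charpoly.Splits := IsAlgClosed.splits _
    rw [Module.End.trace_eq_sum_roots_charpoly_of_splits hsp]
    refine (norm_multiset_sum_le _).trans ?_
    refine (Multiset.sum_le_card_nsmul _ (a q * c p) ?_).trans ?_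
    · intro x hx
      obtain ⟨μ, hμ, rfl⟩ := Multiset.mem_map.mp hx
      exact h2 p q μ ((Module.End.hasEigenvalue_iff_isRoot_charpoly _ _).mpr
        ((Polynomial.mem_roots (LinearMap.charpoly_monic _).ne_zero).mp hμ))
    · rw [nsmul_eq_mul, Multiset.card_map]
      refine mul_le_mul_of_nonneg_right (Nat.cast_le.mpr ?_) (mul_nonneg (ha q) (hc p))
      exact (Polynomial.card_roots' _).trans ((LinearMap.charpoly_natDegree _).trans_le (h3 p q))
  let w : ℕ → ℝ := fun q => if q ≤ N then a q * (b q : ℝ) else 0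
  have hw0 : ∀ q, 0 ≤ w q := fun q => by
    simp only [w]
    split
    · exact mul_nonneg (ha q) (Nat.cast_nonneg _)
    · exact le_rfl
  have hw : Summable w := summable_of_ne_finset_zero (s := Finset.range (N + 1)) fun q hq => by
    simp only [w, Finset.mem_range] at hq ⊢
    rw [if_neg (by omega)]
  refine Summable.of_nonneg_of_le (fun _ => norm_nonneg _) (fun pq => ?_)
    (hsum.mul_of_nonneg hw (fun p => mul_nonneg (hc p) (Nat.cast_nonneg _)) hw0)
  obtain ⟨p, q⟩ := pq
  simp only [w]
  split_ifs with hq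
  · refine (hb p q).trans (le_of_eq ?_)
    push_cast
    ring
  · have := h1 p q (not_le.mp hq)
    rw [Subsingleton.elim (Φ p q) 0]
    simp

end Groth.Agent.S14280
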