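import Mathlib
import Groth.Statements.S14295
-- import your own Groth.Agent.* helpers here

set_option autoImplicit false
universe u v
open PtDeg

namespace Groth.Agent.S14295

theorem deg2_formula {A : Type u} {G : Type v} [AddCommGroup A] [AddCommGroup G] (f : A → G)
    (hf : ∀ x y z : A, f (x + y + z) + f x + f y + f z = f (x + y) + f (x + z) + f (y + z)) (n : ℤ) (x : A) :
    f (n • x) = (n * (n + 1) / 2) • f x + (n * (n - 1) / 2) • f (-x) := by
  have h0 : f 0 = 0 := by simpa using hf 0 0 0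
  have hev : ∀ m : ℤ, 2 ∣ m * (m + 1) ∧ 2 ∣ m * (m - 1) := fun m =>
    ⟨even_iff_two_dvd.mp (Int.even_mul_succ_self m), even_iff_two_dvd.mp (by
      have := Int.even_mul_succ_self (m - 1); rwa [sub_add_cancel, mul_comm] at this)⟩
  have hstep : ∀ m : ℤ, f ((m + 1) • x) + f ((m - 1) • x) = f (m • x) + f (m • x) + f x + f (-x) := fun m => by
    have := hf (m • x) x (-x)
    simp only [add_neg_cancel, add_neg_cancel_right, h0, add_zero] at this
    rw [add_smul, sub_smul, one_smul, sub_eq_add_neg, ← this]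
  set p : ℤ → G := fun m => (m * (m + 1) / 2) • f x + (m * (m - 1) / 2) • f (-x)
  have pstep : ∀ m : ℤ, p (m + 1) + p (m - 1) = p m + p m + f x + f (-x) := fun m => by
    obtain ⟨⟨a, ha⟩, ⟨b, hb⟩⟩ := hev m
    obtain ⟨⟨a1, ha1⟩, ⟨b1, hb1⟩⟩ := hev (m + 1)
    obtain ⟨⟨a2, ha2⟩, ⟨b2, hb2⟩⟩ := hev (m - 1)
    simp only [p, ha, hb, ha1, hb1, ha2, hb2, Int.mul_ediv_cancel_left _ (two_ne_zero' ℤ)]
    have e1 : a1 = 2 * a + 1 - a2 := by linarith
    have e2 : b1 = 2 * b + 1 - b2 := by linarith
    rw [e1, e2]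
    simp only [sub_smul, add_smul, mul_smul, one_smul, two_smul]
    abel
  have hpair : ∀ m : ℕ, f ((m : ℤ) • x) = p m ∧ f (((m : ℤ) + 1) • x) = p (m + 1) := fun m => by
    induction m with
    | zero => simp [p, h0]
    | succ m ih =>
      push_cast
      refine ⟨ih.2, ?_⟩
      have h1 := hstep ((m : ℤ) + 1)
      have h2 := pstep ((m : ℤ) + 1)
      rw [add_sub_cancel_right] at h1 h2
      rw [ih.1, ih.2, ← h2] at h1
      exact add_right_cancel h1
  have hneg : ∀ m : ℕ, f ((-(m : ℤ)) • x) = p (-m) ∧ f ((-(m : ℤ) + 1) • x) = p (-m + 1) := fun m => by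
    induction m with
    | zero => simp [p, h0]
    | succ m ih =>
      push_cast
      have e : -((m : ℤ) + 1) + 1 = -m := by ring
      refine ⟨?_, by rw [e]; exact ih.1⟩
      have h1 := hstep (-(m : ℤ))
      have h2 := pstep (-(m : ℤ))
      rw [show -(m : ℤ) - 1 = -((m : ℤ) + 1) by ring] at h1 h2
      rw [ih.1, ih.2, ← h2] at h1
      exact add_left_cancel h1
  rcases n.natAbs_eq with h | h <;> rw [h]
  · exact (hpair _).1
  · exact (hneg _).1

/-- Let A and G be abelian groups, written additively, and f : A → G a map which is pointed of degree 2,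
that is f(x+y+z) + f(x) + f(y) + f(z) = f(x+y) + f(x+z) + f(y+z) for all x, y, z in A. Then for
every integer n and every x in A one has f(n·x) = (n(n+1)/2)·f(x) + (n(n−1)/2)·f(−x) (the two
coefficients are the integers n(n+1)/2 and n(n−1)/2). -/
theorem result {A : Type u} {G : Type v} [AddCommGroup A] [AddCommGroup G]
    (f : A → G) (hf : ∀ x y z : A, f (x + y + z) + f x + f y + f z = f (x + y) + f (x + z) + f (y + z))
    (n : ℤ) (x : A) :
    f (n • x) = (n * (n + 1) / 2) • f x + (n * (n - 1) / 2) • f (-x) := by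
  exact deg2_formula f hf n x

end Groth.Agent.S14295
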