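import Groth.Statements.S14297
import Mathlib
-- import your own Groth.Agent.* helpers here

set_option autoImplicit false
universe u
open MeasureTheory
open PtDeg

namespace Groth.Agent.S14297

section
open MeasureTheory

variable {G : Type u} [AddCommGroup G] [TopologicalSpace G] [IsTopologicalAddGroup G] [CompactSpace G] [T2Space G]
    [MeasurableSpace G] [BorelSpace G] (μ : MeasureTheory.Measure G) [μ.IsAddHaarMeasure] [MeasureTheory.IsProbabilityMeasure μ]

theorem meas_cont {n : ℕ} (F : C(Fin n → G, ℝ)) : Measurable F := by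
  let A : Subalgebra ℝ C(Fin n → G, ℝ) :=
    { carrier := {f | Measurable f}
      mul_mem' := fun hf hg => hf.mul hg
      add_mem' := fun hf hg => hf.add hg
      algebraMap_mem' := fun r => measurable_const }
  have hA : IsClosed (A : Set C(Fin n → G, ℝ)) := by
    rw [← isSeqClosed_iff_isClosed]
    intro f l hf hl
    exact measurable_of_tendsto_metrizable hf
      (tendsto_pi_nhds.2 fun x => ((continuous_eval_const x).tendsto l).comp hl)
  have hsep : A.SeparatesPoints := by
    intro x y hxy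
    obtain ⟨i, hi⟩ := Function.ne_iff.1 hxy
    obtain ⟨f, hf0, hf1, -⟩ := exists_continuous_zero_one_of_isClosed (isClosed_singleton (x := x i))
      (isClosed_singleton (x := y i)) (Set.disjoint_singleton.2 hi)
    refine ⟨fun z => f (z i), ⟨f.comp ⟨_, continuous_apply i⟩, f.continuous.measurable.comp (measurable_pi_apply i), rfl⟩, ?_⟩
    simp [hf0 rfl, hf1 rfl]
  have h := ContinuousMap.subalgebra_topologicalClosure_eq_top_of_separatesPoints A hsep
  have : F ∈ A.topologicalClosure := by rw [h]; trivial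
  rw [← SetLike.mem_coe, Subalgebra.topologicalClosure_coe, hA.closure_eq] at this
  exact this

theorem int_cont {K : Type*} [TopologicalSpace K] [CompactSpace K] [MeasurableSpace K] (ν : Measure K)
    [IsFiniteMeasure ν] (f : C(K, ℝ)) (hf : Measurable f) : Integrable f ν :=
  Integrable.of_bound hf.aestronglyMeasurable ‖f‖ (Filter.Eventually.of_forall fun x => f.norm_coe_le_norm x)

theorem int_pi {n : ℕ} {f : (Fin n → G) → ℝ} (hf : Continuous f) :
    Integrable f (Measure.pi fun _ : Fin n => μ) :=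
  int_cont _ ⟨f, hf⟩ (meas_cont ⟨f, hf⟩)

theorem int_one {f : G → ℝ} (hf : Continuous f) : Integrable f μ :=
  int_cont _ ⟨f, hf⟩ hf.measurable

omit [μ.IsAddHaarMeasure] [MeasureTheory.IsProbabilityMeasure μ] in
theorem cont_int {X : Type*} [TopologicalSpace X] {K : Type*} [TopologicalSpace K] [CompactSpace K]
    [MeasurableSpace K] (ν : Measure K) [IsProbabilityMeasure ν]
    (hK : ∀ f : C(K, ℝ), Integrable f ν) {F : X → K → ℝ} (hF : Continuous (Function.uncurry F)) :
    Continuous fun x => ∫ t, F x t ∂ν := by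
  have hL : LipschitzWith 1 fun f : C(K, ℝ) => ∫ t, f t ∂ν := by
    refine LipschitzWith.of_dist_le_mul fun f g => ?_
    rw [dist_eq_norm, dist_eq_norm, NNReal.coe_one, one_mul, ← integral_sub (hK f) (hK g)]
    refine (norm_integral_le_of_norm_le_const (C := ‖f - g‖) (Filter.Eventually.of_forall fun x => ?_)).trans
      (by simp)
    exact (f - g).norm_coe_le_norm x
  exact hL.continuous.comp (ContinuousMap.curry ⟨Function.uncurry F, hF⟩).continuous

theorem cont_cons {n : ℕ} (g : G) : Continuous fun u : Fin n → G => (Fin.cons g u : Fin (n + 1) → G) := by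
  fun_prop

theorem cont_cons' {n : ℕ} : Continuous fun p : G × (Fin n → G) => (Fin.cons p.1 p.2 : Fin (n + 1) → G) := by
  refine continuous_pi fun i => ?_
  refine Fin.cases ?_ (fun j => ?_) i
  · simpa using continuous_fst
  · simp only [Fin.cons_succ]; fun_prop

theorem meas_cons {n : ℕ} {F : (Fin (n + 1) → G) → ℝ} (hF : Continuous F) :
    Measurable fun p : G × (Fin n → G) => F (Fin.cons p.1 p.2) := by
  refine (meas_cont ⟨F, hF⟩).comp (measurable_pi_iff.2 fun i => ?_)
  refine Fin.cases ?_ (fun j => ?_) i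
  · simpa using measurable_fst
  · simp only [Fin.cons_succ]; exact (measurable_pi_apply j).comp measurable_snd

theorem int_prod {n : ℕ} {F : (Fin (n + 1) → G) → ℝ} (hF : Continuous F) :
    Integrable (fun p : G × (Fin n → G) => F (Fin.cons p.1 p.2)) (μ.prod (Measure.pi fun _ : Fin n => μ)) :=
  int_cont _ ⟨_, hF.comp cont_cons'⟩ (meas_cons hF)

theorem integral_succ {n : ℕ} {F : (Fin (n + 1) → G) → ℝ} (hF : Continuous F) :
    ∫ w, F w ∂(Measure.pi fun _ : Fin (n + 1) => μ) =
      ∫ t, ∫ u, F (Fin.cons t u) ∂(Measure.pi fun _ : Fin n => μ) ∂μ := by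
  have hmp := measurePreserving_piFinSuccAbove (fun _ : Fin (n + 1) => μ) 0
  rw [← integral_prod _ (int_prod μ hF), ← hmp.integral_comp']
  refine integral_congr_ae (Filter.Eventually.of_forall fun w => ?_)
  show F w = F (Fin.cons (w 0) _)
  exact congrArg F (Fin.cons_self_tail w).symm

def T (φ : G → ℝ) (n : ℕ) (g : G) (x : Fin n → G) : ℝ :=
  ∑ I ∈ (Finset.univ : Finset (Fin n)).powerset, (-1 : ℝ) ^ (n + I.card) * φ (g + ∑ i ∈ I, x i)

omit [TopologicalSpace G] [IsTopologicalAddGroup G] [CompactSpace G] [T2Space G] [MeasurableSpace G] [BorelSpace G] in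
theorem T_zero (φ : G → ℝ) (g : G) (x : Fin 0 → G) : T φ 0 g x = φ g := by
  simp [T, Finset.univ_eq_empty]

omit [TopologicalSpace G] [IsTopologicalAddGroup G] [CompactSpace G] [T2Space G] [MeasurableSpace G] [BorelSpace G] in
theorem T_succ (φ : G → ℝ) (n : ℕ) (g a : G) (y : Fin n → G) :
    T φ (n + 1) g (Fin.cons a y) = T φ n (g + a) y - T φ n g y := by
  classical
  have h0 : (0 : Fin (n + 1)) ∉ (Finset.univ : Finset (Fin n)).image Fin.succ := by simp
  unfold T
  rw [Fin.univ_succ, Finset.cons_eq_insert, Finset.map_eq_image]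
  simp only [Function.Embedding.coeFn_mk]
  rw [Finset.sum_powerset_insert (show (0 : Fin (n + 1)) ∉ Finset.image _ _ from h0), Finset.powerset_image,
    Finset.sum_image ((Finset.image_injective (Fin.succ_injective n)).injOn),
    Finset.sum_image ((Finset.image_injective (Fin.succ_injective n)).injOn)]
  rw [sub_eq_add_neg, add_comm, ← Finset.sum_neg_distrib]
  congr 1
  · refine Finset.sum_congr rfl fun I _ => ?_
    have hI : (0 : Fin (n + 1)) ∉ I.image Fin.succ := by simp
    rw [Finset.card_insert_of_notMem hI, Finset.sum_insert hI, Finset.sum_image (Fin.succ_injective n).injOn,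
      Finset.card_image_of_injective _ (Fin.succ_injective n)]
    simp only [Fin.cons_zero, Fin.cons_succ, ← add_assoc]
    rw [show n + 1 + I.card + 1 = n + I.card + 2 by omega, pow_add]
    simp
  · refine Finset.sum_congr rfl fun I _ => ?_
    rw [Finset.sum_image (Fin.succ_injective n).injOn, Finset.card_image_of_injective _ (Fin.succ_injective n),
      show n + 1 + I.card = n + I.card + 1 by omega, pow_succ]
    simp

omit [TopologicalSpace G] [IsTopologicalAddGroup G] [CompactSpace G] [T2Space G] [MeasurableSpace G] [BorelSpace G] in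
theorem dev_eq (φ : G → ℝ) (n : ℕ) (x : Fin n → G) :
    (∑ I ∈ ((Finset.univ : Finset (Fin n))).powerset.erase ∅, (-1 : ℝ) ^ (n + I.card) * φ (∑ i ∈ I, x i))
      = T φ n 0 x - (-1 : ℝ) ^ n * φ 0 := by
  rw [Finset.sum_erase_eq_sub (Finset.empty_mem_powerset _)]
  simp [T]

theorem T_cont {φ : G → ℝ} (hφ : Continuous φ) (n : ℕ) (g : G) : Continuous (T φ n g) := by
  unfold T; fun_prop

theorem int_T {φ : G → ℝ} (hφ : Continuous φ) : ∀ n, ∃ C : ℝ, ∀ g,
    ∫ u, T φ n g u ∂(Measure.pi fun _ : Fin n => μ) = (-1 : ℝ) ^ n * φ g + C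
  | 0 => ⟨0, fun g => by simp [T_zero]⟩
  | n + 1 => by
    obtain ⟨C, hC⟩ := int_T hφ n
    refine ⟨(-1 : ℝ) ^ n * ∫ t, φ t ∂μ, fun g => ?_⟩
    rw [integral_succ μ (T_cont hφ _ _)]
    simp only [T_succ]
    have : ∀ t, ∫ u, (T φ n (g + t) u - T φ n g u) ∂(Measure.pi fun _ : Fin n => μ) =
        (-1 : ℝ) ^ n * φ (g + t) - (-1 : ℝ) ^ n * φ g := fun t => by
      rw [integral_sub (int_pi μ (T_cont hφ _ _)) (int_pi μ (T_cont hφ _ _)), hC, hC]
      ring
    simp only [this]
    rw [integral_sub ((int_one μ (by fun_prop : Continuous fun t => φ (g + t))).const_mul _) (integrable_const _),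
      integral_const_mul, integral_add_left_eq_self]
    simp [pow_succ]
    ring

/-- The defining identity of a cocycle in the pair `i, j`. -/
def IsCoc {n : ℕ} (ψ : (Fin n → G) → ℝ) : Prop :=
  ∀ (i j : Fin n), i ≠ j → ∀ (x : Fin n → G) (a b c : G),
      ψ (Function.update (Function.update x i (a + b)) j c) + ψ (Function.update (Function.update x i a) j b) =
        ψ (Function.update (Function.update x i a) j (b + c)) + ψ (Function.update (Function.update x i b) j c)

theorem exist_formula : ∀ (n : ℕ) (ψ : (Fin (n + 1) → G) → ℝ), Continuous ψ → IsCoc ψ →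
    ∀ x : Fin (n + 1) → G,
      ψ x = T (fun g => (-1 : ℝ) ^ n * ∫ u, ψ (Fin.cons g u) ∂(Measure.pi fun _ : Fin n => μ)) (n + 1) 0 x
        - (-1 : ℝ) ^ (n + 1) * ((-1 : ℝ) ^ n * ∫ u, ψ (Fin.cons 0 u) ∂(Measure.pi fun _ : Fin n => μ))
  | 0, ψ, _, _ => fun x => by
    have hx : x = Fin.cons (x 0) Fin.elim0 := by
      conv_lhs => rw [← Fin.cons_self_tail x]
      congr 1
      exact Subsingleton.elim _ _
    rw [hx, T_succ, T_zero, T_zero]
    simp [integral_unique, Subsingleton.elim (default : Fin 0 → G) Fin.elim0]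
  | n + 1, ψ, hψc, hψ => fun x => by
    let P : G → (Fin (n + 1) → G) → (Fin (n + 2) → G) := fun t z => Fin.insertNth 1 t z
    have hP : ∀ (t g : G) (y : Fin n → G), P t (Fin.cons g y) = Fin.cons g (Fin.cons t y) := fun t g y => by
      show Fin.insertNth (α := fun _ => G) (Fin.succ (0 : Fin (n + 1))) t (Fin.cons g y) = _
      rw [Fin.insertNth_succ_cons, Fin.insertNth_zero']
    have hPc : Continuous fun p : (Fin (n + 1) → G) × G => P p.2 p.1 := by
      refine continuous_pi ((1 : Fin (n + 2)).forall_iff_succAbove.2 ⟨?_, fun j => ?_⟩)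
      · simpa [P] using continuous_snd
      · simpa [P] using (continuous_apply j).comp' continuous_fst
    let f : (Fin (n + 1) → G) → ℝ := fun z => -∫ t, ψ (P t z) ∂μ
    have hfc : Continuous f :=
      (cont_int μ (fun h => int_one μ h.continuous) (F := fun z t => ψ (P t z)) (hψc.comp hPc)).neg
    have hfi : ∀ z, Integrable (fun t => ψ (P t z)) μ := fun z =>
      int_one μ (hψc.comp (hPc.comp (Continuous.prodMk continuous_const continuous_id)))
    have hf : IsCoc f := by
      intro i j hij z a b c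
      simp only [f, ← neg_add, neg_inj]
      rw [← integral_add (hfi _) (hfi _), ← integral_add (hfi _) (hfi _)]
      refine integral_congr_ae (Filter.Eventually.of_forall fun t => ?_)
      simp only [P, Fin.insertNth_update]
      exact hψ _ _ (fun h => hij (Fin.succAbove_right_injective h)) _ a b c
    have hstep : ∀ a b y, ψ (Fin.cons a (Fin.cons b y)) =
        f (Fin.cons (a + b) y) - f (Fin.cons a y) - f (Fin.cons b y) := by
      intro a b y
      have key : ∀ t, ψ (P t (Fin.cons (a + b) y)) + ψ (Fin.cons a (Fin.cons b y)) =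
          ψ (P (b + t) (Fin.cons a y)) + ψ (P t (Fin.cons b y)) := fun t => by
        have := hψ 0 1 (by simp) (Fin.cons a (Fin.cons b y)) a b t
        simp only [Fin.update_cons_zero] at this
        rw [show (1 : Fin (n + 2)) = Fin.succ 0 from rfl] at this
        simp only [← Fin.cons_update, Fin.update_cons_zero] at this
        simpa only [hP] using this
      have := integral_congr_ae (μ := μ) (Filter.Eventually.of_forall key)
      rw [integral_add (hfi _) (integrable_const _), integral_add ?_ (hfi _),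
        integral_add_left_eq_self (fun t => ψ (P t (Fin.cons a y)))] at this
      · simp only [integral_const, probReal_univ, one_smul] at this
        simp only [f]
        linarith
      · exact int_one μ ((hψc.comp (hPc.comp (Continuous.prodMk continuous_const continuous_id))).comp (continuous_const_add b))
    have hφ : ∀ g, (-1 : ℝ) ^ n * ∫ u, f (Fin.cons g u) ∂(Measure.pi fun _ : Fin n => μ) =
        (-1 : ℝ) ^ (n + 1) * ∫ w, ψ (Fin.cons g w) ∂(Measure.pi fun _ : Fin (n + 1) => μ) := fun g => by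
      rw [integral_succ μ (F := fun w => ψ (Fin.cons g w)) (hψc.comp (cont_cons g)),
        integral_integral_swap (f := fun t u => ψ (Fin.cons g (Fin.cons t u)))
          (int_prod μ (F := fun w => ψ (Fin.cons g w)) (hψc.comp (cont_cons g))),
        integral_neg, pow_succ]
      simp only [hP]
      ring
    obtain ⟨φ, hφd⟩ : ∃ φ : G → ℝ, φ = fun g => (-1 : ℝ) ^ n * ∫ u, f (Fin.cons g u) ∂(Measure.pi fun _ : Fin n => μ) :=
      ⟨_, rfl⟩
    have ih : ∀ z, f z = T φ (n + 1) 0 z - (-1 : ℝ) ^ (n + 1) * φ 0 := by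
      rw [hφd]; exact exist_formula n f hfc hf
    have hφ' : (fun g => (-1 : ℝ) ^ (n + 1) * ∫ w, ψ (Fin.cons g w) ∂(Measure.pi fun _ : Fin (n + 1) => μ)) = φ := by
      rw [hφd]; funext g; exact (hφ g).symm
    rw [hφ', show (-1 : ℝ) ^ (n + 1) * ∫ w, ψ (Fin.cons 0 w) ∂(Measure.pi fun _ : Fin (n + 1) => μ) = φ 0 from
      congrFun hφ' 0]
    obtain ⟨a, b, y, rfl⟩ : ∃ a b y, x = Fin.cons a (Fin.cons b y) :=
      ⟨x 0, Fin.tail x 0, Fin.tail (Fin.tail x), by rw [Fin.cons_self_tail, Fin.cons_self_tail]⟩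
    rw [hstep, ih, ih, ih]
    simp only [T_succ, zero_add, pow_succ]
    ring

theorem recover {m : ℕ} {ψ : (Fin (m + 1) → G) → ℝ} {φ : G → ℝ} (hφ : Continuous φ)
    (h : ∀ x, ψ x = T φ (m + 1) 0 x - (-1 : ℝ) ^ (m + 1) * φ 0) (g : G) :
    φ g = (-1 : ℝ) ^ m * ∫ u, ψ (Fin.cons g u) ∂(Measure.pi fun _ : Fin m => μ) := by
  obtain ⟨C, hC⟩ := int_T μ hφ m
  simp only [h, T_succ, zero_add]
  rw [integral_sub (f := fun u => T φ m g u - T φ m 0 u) ((int_pi μ (T_cont hφ _ _)).sub (int_pi μ (T_cont hφ _ _)))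
      (integrable_const _),
    integral_sub (int_pi μ (T_cont hφ _ _)) (int_pi μ (T_cont hφ _ _)), hC, hC]
  simp [pow_succ]
  rcases neg_one_pow_eq_or ℝ m with h' | h' <;> rw [h'] <;> ring

end

/-- Let G be a compact Hausdorff commutative topological group, written additively, μ its Haar measure
of total mass 1, m ≥ 1 an integer and ψ : G^{m+1} → ℝ a continuous function which is a 2-cocycle
with respect to every pair of variables: for all positions i ≠ j, every point x of G^{m+1} and all
a, b, c in G, writing x[i ↦ a, j ↦ c] for x with its i-th coordinate replaced by a and its j-th by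
c, one has ψ(x[i ↦ a+b, j ↦ c]) + ψ(x[i ↦ a, j ↦ b]) = ψ(x[i ↦ a, j ↦ b+c]) + ψ(x[i ↦ b, j ↦ c]).
Let φ : G → ℝ be φ(g) = (−1)^m ∫_{G^m} ψ(g, u_1, …, u_m) dμ^{⊗m}(u). Then ψ is the (m+1)-st
deviation of φ, namely ψ(x) = Σ_{∅ ≠ I ⊆ {0,…,m}} (−1)^{m+1+|I|} φ(Σ_{i ∈ I} x_i) for every x; φ is
continuous; and φ is the unique continuous function G → ℝ with this property. -/
theorem result {G : Type u} [AddCommGroup G] [TopologicalSpace G] [IsTopologicalAddGroup G] [CompactSpace G] [T2Space G]
    [MeasurableSpace G] [BorelSpace G] (μ : MeasureTheory.Measure G) [μ.IsAddHaarMeasure] [MeasureTheory.IsProbabilityMeasure μ]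
    (m : ℕ) (hm : 1 ≤ m) (ψ : (Fin (m + 1) → G) → ℝ) (hψc : Continuous ψ)
    (hψ : ∀ (i j : Fin (m + 1)), i ≠ j → ∀ (x : Fin (m + 1) → G) (a b c : G),
      ψ (Function.update (Function.update x i (a + b)) j c) + ψ (Function.update (Function.update x i a) j b) =
        ψ (Function.update (Function.update x i a) j (b + c)) + ψ (Function.update (Function.update x i b) j c)) :
    (∀ x : Fin (m + 1) → G,
      ψ x = ∑ I ∈ ((Finset.univ : Finset (Fin (m + 1))).powerset.erase ∅),
        (-1 : ℝ) ^ (m + 1 + I.card) * ((-1 : ℝ) ^ m *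
          ∫ u, ψ (Fin.cons (∑ i ∈ I, x i) u) ∂(MeasureTheory.Measure.pi (fun _ : Fin m => μ)))) ∧
    Continuous (fun g : G => (-1 : ℝ) ^ m * ∫ u, ψ (Fin.cons g u) ∂(MeasureTheory.Measure.pi (fun _ : Fin m => μ))) ∧
    (∀ φ : G → ℝ, Continuous φ → (∀ x : Fin (m + 1) → G,
      ψ x = ∑ I ∈ ((Finset.univ : Finset (Fin (m + 1))).powerset.erase ∅), (-1 : ℝ) ^ (m + 1 + I.card) * φ (∑ i ∈ I, x i)) →
      φ = fun g => (-1 : ℝ) ^ m * ∫ u, ψ (Fin.cons g u) ∂(MeasureTheory.Measure.pi (fun _ : Fin m => μ))) := by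
  refine ⟨fun x => ?_, ?_, fun φ hφc hφ => ?_⟩
  · rw [dev_eq (fun g => (-1 : ℝ) ^ m * ∫ u, ψ (Fin.cons g u) ∂(MeasureTheory.Measure.pi (fun _ : Fin m => μ)))]
    exact exist_formula μ m ψ hψc hψ x
  · exact continuous_const.mul (cont_int _ (fun h => int_pi μ h.continuous)
      (F := fun g u => ψ (Fin.cons g u)) (hψc.comp cont_cons'))
  · funext g
    exact recover μ hφc (fun x => by rw [hφ x, dev_eq]) g

end Groth.Agent.S14297
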