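import Mathlib
import Groth.Statements.S14305
-- import your own Groth.Agent.* helpers here

set_option autoImplicit false
universe u v
open PtDeg

namespace Groth.Agent.S14305

/-- Let A and G be abelian groups, written additively, f : A → G a map and n ≥ 1. For k ≥ 0 the k-th
deviation of f is the map A^k → G, (y_1, …, y_k) ↦ Σ_{∅ ≠ I ⊆ {1,…,k}} (−1)^{k+|I|} f(Σ_{i ∈ I}
y_i). Then f is pointed of degree n, meaning that its (n+1)-st deviation vanishes identically, if
and only if its n-th deviation is additive in each variable separately (with the other variables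
fixed). -/
theorem result {A : Type u} {G : Type v} [AddCommGroup A] [AddCommGroup G]
    (f : A → G) (n : ℕ) (hn : 1 ≤ n) :
    (∀ x : Fin (n + 1) → A, ∑ I ∈ ((Finset.univ : Finset (Fin (n + 1))).powerset.erase ∅), ((-1 : ℤ) ^ (n + 1 + I.card)) • f (∑ i ∈ I, x i) = 0) ↔
      (∀ (j : Fin n) (y : Fin n → A) (a b : A),
        ∑ I ∈ ((Finset.univ : Finset (Fin n)).powerset.erase ∅), ((-1 : ℤ) ^ (n + I.card)) • f (∑ i ∈ I, (Function.update y j (a + b)) i) =
          ∑ I ∈ ((Finset.univ : Finset (Fin n)).powerset.erase ∅), ((-1 : ℤ) ^ (n + I.card)) • f (∑ i ∈ I, (Function.update y j a) i) + ∑ I ∈ ((Finset.univ : Finset (Fin n)).powerset.erase ∅), ((-1 : ℤ) ^ (n + I.card)) • f (∑ i ∈ I, (Function.update y j b) i)) := by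
  classical
  let Φ : ∀ {κ : Type} [DecidableEq κ], Finset κ → (κ → A) → A → G := fun s x c =>
    ∑ I ∈ s.powerset, ((-1 : ℤ) ^ I.card) • f (c + ∑ i ∈ I, x i)
  have hins : ∀ {κ : Type} [DecidableEq κ] (s : Finset κ) (x : κ → A) (a : κ) (c : A), a ∉ s →
      Φ (insert a s) x c = Φ s x c - Φ s x (c + x a) := by
    intro κ _ s x a c ha
    simp only [Φ]
    rw [Finset.sum_powerset_insert ha, sub_eq_add_neg, ← Finset.sum_neg_distrib]
    congr 1
    refine Finset.sum_congr rfl fun I hI => ?_
    have haI : a ∉ I := fun h => ha (Finset.mem_powerset.1 hI h)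
    rw [Finset.card_insert_of_notMem haI, Finset.sum_insert haI, pow_succ, mul_neg_one, neg_smul,
      add_assoc]
  have hcongr : ∀ {κ : Type} [DecidableEq κ] (s : Finset κ) (x x' : κ → A) (c : A),
      (∀ i ∈ s, x i = x' i) → Φ s x c = Φ s x' c := by
    intro κ _ s x x' c h
    refine Finset.sum_congr rfl fun I hI => ?_
    rw [Finset.sum_congr rfl fun i hi => h i (Finset.mem_powerset.1 hI hi)]
  have hmap : ∀ (s : Finset (Fin n)) (x : Fin (n + 1) → A) (c : A),
      Φ (s.map Fin.castSuccEmb) x c = Φ s (fun i : Fin n => x i.castSucc) c := by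
    intro s x
    induction s using Finset.induction_on with
    | empty => intro c; simp [Φ]
    | insert a t ha ih =>
      intro c
      rw [Finset.map_insert, hins _ _ _ _ (by simpa using ha), hins _ _ _ _ ha, ih, ih]
      rfl
  have hD : ∀ (k : ℕ) (x : Fin k → A),
      ∑ I ∈ ((Finset.univ : Finset (Fin k)).powerset.erase ∅), ((-1 : ℤ) ^ (k + I.card)) • f (∑ i ∈ I, x i)
        = ((-1 : ℤ) ^ k) • (Φ Finset.univ x 0 - f 0) := by
    intro k x
    rw [Finset.sum_erase_eq_sub (by simp)]
    simp [Φ, smul_sub, Finset.smul_sum, pow_add, mul_smul]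
  have hrec : ∀ (x : Fin (n + 1) → A), Φ Finset.univ x 0 =
      Φ Finset.univ (fun i : Fin n => x i.castSucc) 0 - Φ Finset.univ (fun i : Fin n => x i.castSucc) (x (Fin.last n)) := by
    intro x
    rw [Fin.univ_castSuccEmb, Finset.cons_eq_insert, hins _ _ _ _ (by simp [Fin.castSucc_ne_last]), hmap, hmap, zero_add]
  have hmain : ∀ (x : Fin (n + 1) → A) (j : Fin n) (y : Fin n → A) (a b : A),
      (fun i : Fin n => x i.castSucc) = Function.update y j a → x (Fin.last n) = b →
      ((-1 : ℤ) ^ (n + 1)) • (Φ Finset.univ x 0 - f 0) =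
        ((-1 : ℤ) ^ n) • (Φ Finset.univ (Function.update y j (a + b)) 0 - f 0)
          - ((-1 : ℤ) ^ n) • (Φ Finset.univ (Function.update y j a) 0 - f 0)
          - ((-1 : ℤ) ^ n) • (Φ Finset.univ (Function.update y j b) 0 - f 0) := by
    intro x j y a b hx hb
    have hE : ∀ (v c : A), Φ Finset.univ (Function.update y j v) c =
        Φ (Finset.univ.erase j) y c - Φ (Finset.univ.erase j) y (c + v) := by
      intro v c
      rw [← Finset.insert_erase (Finset.mem_univ j), hins _ _ _ _ (Finset.notMem_erase _ _),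
        Finset.erase_insert (Finset.notMem_erase _ _), Function.update_self]
      congr 1 <;> exact hcongr _ _ _ _ fun i hi => Function.update_of_ne (Finset.ne_of_mem_erase hi) _ _
    rw [hrec, hx, hb, hE, hE, hE, hE, pow_succ, mul_neg_one, neg_smul, ← smul_neg, ← smul_sub,
      ← smul_sub]
    congr 1
    simp only [zero_add]
    rw [add_comm a b]
    abel
  simp only [hD]
  constructor
  · intro h j y a b
    have := hmain (Fin.snoc (Function.update y j a) b) j y a b (by funext i; simp) (by simp)
    rw [h] at this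
    rw [sub_sub, eq_comm, sub_eq_zero] at this
    exact this
  · intro h x
    have := hmain x ⟨0, hn⟩ (fun i : Fin n => x i.castSucc) (x (Fin.castSucc ⟨0, hn⟩)) (x (Fin.last n))
      (by rw [Function.update_eq_self]) rfl
    rw [this, h, sub_sub, sub_self]

end Groth.Agent.S14305
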