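import Groth.Statements.S14309
import Mathlib
-- import your own Groth.Agent.* helpers here

set_option autoImplicit false
universe u v w x y
open CAlg

namespace Groth.Agent.S14309

/-- Let R be a commutative ring; A, B, C commutative R-algebras; i : A → B and j : A → C jointly
injective R-algebra maps; c a non-zero-divisor of B; u : C → B/(c) a ring map with u ∘ j equal to i
followed by reduction modulo c; ζ in A with i ζ = c and j ζ = 0; η : R[X_σ, Z] → A an R-algebra map
with η(Z) = ζ; a : R[Y_τ] → B a surjective R-algebra map; η_Z : R[X_σ, Z] → R[Y_τ] a surjective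
R-algebra map with a ∘ η_Z = i ∘ η. Fix c̃ in R[Y_τ] with a(c̃) = c, a family (p_h) generating the
kernel of the composite R[X_σ] → R[X_σ, Z] → A → C, a family (q'_h) generating the kernel of a
together with lifts q_h along η_Z, a family (v_h) generating the kernel of η_Z, and elements g'_h of
R[Y_τ] with η_Z(p_h) + g'_h c̃ in the ideal (q'_h), together with lifts g_h along η_Z. Then the
kernel of η is the ideal generated by the elements Z q_h, Z v_h and p_h + Z g_h. (The published
statement is for the rings of cycle classes, with coefficients ℤ[1/6], of a smooth quotient stack, a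
smooth closed substack whose normal bundle has top Chern class c a non-zero-divisor, and the open
complement; this row states the ring-theoretic content for any such square of commutative rings in
which A embeds in B × C.) -/
theorem result
    {R : Type u} [CommRing R] {A : Type v} {B : Type w} {C : Type x}
    [CommRing A] [CommRing B] [CommRing C] [Algebra R A] [Algebra R B] [Algebra R C]
    (i : A →ₐ[R] B) (j : A →ₐ[R] C)
    (hinj : ∀ t : A, i t = 0 → j t = 0 → t = 0)
    (c : B) (hc : c ∈ nonZeroDivisors B) (u : C →+* B ⧸ Ideal.span ({c} : Set B))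
    (hu : ∀ t : A, u (j t) = Ideal.Quotient.mk (Ideal.span ({c} : Set B)) (i t))
    (ζ : A) (hiζ : i ζ = c) (hjζ : j ζ = 0)
    {σ τ ιp ιq ιv : Type y}
    (η : MvPolynomial (Option σ) R →ₐ[R] A) (hη : η (MvPolynomial.X none) = ζ)
    (a : MvPolynomial τ R →ₐ[R] B) (ha : Function.Surjective a)
    (ηZ : MvPolynomial (Option σ) R →ₐ[R] MvPolynomial τ R)
    (hcomm : ∀ t, a (ηZ t) = i (η t)) (hηZ : Function.Surjective ηZ)
    (cZ : MvPolynomial τ R) (hcZ : a cZ = c)
    (p : ιp → MvPolynomial σ R)
    (hp : Ideal.span (Set.range p) =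
      RingHom.ker ((j.comp η).comp (MvPolynomial.rename (Option.some : σ → Option σ))))
    (q' : ιq → MvPolynomial τ R) (hq' : Ideal.span (Set.range q') = RingHom.ker a)
    (q : ιq → MvPolynomial (Option σ) R) (hq : ∀ h, ηZ (q h) = q' h)
    (v : ιv → MvPolynomial (Option σ) R) (hv : Ideal.span (Set.range v) = RingHom.ker ηZ)
    (g' : ιp → MvPolynomial τ R)
    (hg' : ∀ h, ηZ (MvPolynomial.rename (Option.some : σ → Option σ) (p h)) + g' h * cZ ∈
      Ideal.span (Set.range q'))
    (g : ιp → MvPolynomial (Option σ) R) (hg : ∀ h, ηZ (g h) = g' h) :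
    RingHom.ker η = Ideal.span
      (Set.range (fun h : ιq => MvPolynomial.X none * q h) ∪
        Set.range (fun h : ιv => MvPolynomial.X none * v h) ∪
        Set.range (fun h : ιp =>
          MvPolynomial.rename (Option.some : σ → Option σ) (p h) + MvPolynomial.X none * g h)) := by
  have hZ : a (ηZ (MvPolynomial.X none)) = c := by rw [hcomm, hη, hiζ]
  have hq0 : ∀ h, a (q' h) = 0 := fun h => by
    have : q' h ∈ RingHom.ker a := hq' ▸ Ideal.subset_span ⟨h, rfl⟩
    exact this
  have hv0 : ∀ h, ηZ (v h) = 0 := fun h => by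
    have : v h ∈ RingHom.ker ηZ := hv ▸ Ideal.subset_span ⟨h, rfl⟩
    exact this
  have hp0 : ∀ h, j (η (MvPolynomial.rename Option.some (p h))) = 0 := fun h => by
    have : p h ∈ RingHom.ker ((j.comp η).comp (MvPolynomial.rename (Option.some : σ → Option σ))) :=
      hp ▸ Ideal.subset_span ⟨h, rfl⟩
    exact this
  apply le_antisymm
  · intro x hx
    rw [RingHom.mem_ker] at hx
    set Jt := Ideal.span
      (Set.range (fun h : ιq => MvPolynomial.X none * q h) ∪
        Set.range (fun h : ιv => MvPolynomial.X none * v h) ∪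
        Set.range (fun h : ιp =>
          MvPolynomial.rename (Option.some : σ → Option σ) (p h) + MvPolynomial.X none * g h)) with hJt
    have hdec : ∀ y : MvPolynomial (Option σ) R, ∃ (y₀ : MvPolynomial σ R) (y₁ : MvPolynomial (Option σ) R),
        y = MvPolynomial.rename Option.some y₀ + MvPolynomial.X none * y₁ := by
      intro y
      induction y using MvPolynomial.induction_on with
      | C r => exact ⟨MvPolynomial.C r, 0, by simp⟩
      | add y z hy hz =>
        obtain ⟨y₀, y₁, rfl⟩ := hy; obtain ⟨z₀, z₁, rfl⟩ := hz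
        exact ⟨y₀ + z₀, y₁ + z₁, by rw [map_add]; ring⟩
      | mul_X y o hy =>
        obtain ⟨y₀, y₁, rfl⟩ := hy
        cases o with
        | none => exact ⟨0, MvPolynomial.rename Option.some y₀ + MvPolynomial.X none * y₁, by rw [map_zero]; ring⟩
        | some s => exact ⟨y₀ * MvPolynomial.X s, y₁ * MvPolynomial.X (some s), by
            rw [map_mul, MvPolynomial.rename_X]; ring⟩
    obtain ⟨x₀, x₁, rfl⟩ := hdec x
    have hx₀ : x₀ ∈ Ideal.span (Set.range p) := by
      rw [hp, RingHom.mem_ker]
      have h1 := congrArg j hx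
      simpa [hη, hjζ] using h1
    have key : ∀ y ∈ Ideal.span (Set.range p), ∃ z, MvPolynomial.rename Option.some y + MvPolynomial.X none * z ∈ Jt := by
      intro y hy
      induction hy using Submodule.span_induction with
      | mem y hy =>
        obtain ⟨h, rfl⟩ := hy
        exact ⟨g h, Ideal.subset_span (Or.inr ⟨h, rfl⟩)⟩
      | zero => exact ⟨0, by simp⟩
      | add y z _ _ hy hz =>
        obtain ⟨y₁, hy₁⟩ := hy; obtain ⟨z₁, hz₁⟩ := hz
        refine ⟨y₁ + z₁, ?_⟩
        have := Ideal.add_mem _ hy₁ hz₁
        convert this using 1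
        rw [map_add]; ring
      | smul r y _ hy =>
        obtain ⟨y₁, hy₁⟩ := hy
        refine ⟨MvPolynomial.rename Option.some r * y₁, ?_⟩
        have := Ideal.mul_mem_left _ (MvPolynomial.rename Option.some r) hy₁
        convert this using 1
        rw [smul_eq_mul, map_mul]; ring
    obtain ⟨z, hz⟩ := key x₀ hx₀
    have hgen0 : ∀ w ∈ Jt, i (η w) = 0 := by
      intro w hw
      induction hw using Submodule.span_induction with
      | mem w hw =>
        rw [← hcomm]
        rcases hw with (⟨h, rfl⟩ | ⟨h, rfl⟩) | ⟨h, rfl⟩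
        · simp only [map_mul, hq, hq0, mul_zero]
        · simp only [map_mul, hv0, map_zero, mul_zero]
        · have h1 := hg' h
          rw [hq', RingHom.mem_ker, map_add, map_mul, hcZ] at h1
          simp only [map_add, map_mul, hg, hZ]
          linear_combination h1
      | zero => simp
      | add w w' _ _ h h' => simp [h, h']
      | smul r w _ h => simp [h]
    have h2 : i (η (MvPolynomial.X none * (x₁ - z))) = 0 := by
      have h3 := hgen0 _ hz
      have h4 := congrArg i hx
      rw [map_zero] at h4
      simp only [map_add, map_mul, map_sub] at h3 h4 ⊢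
      linear_combination h4 - h3
    rw [map_mul, map_mul, hη, hiζ, mul_comm, mul_right_mem_nonZeroDivisors_eq_zero_iff hc] at h2
    have h5 : ηZ (x₁ - z) ∈ Ideal.span (Set.range q') := by
      rw [hq', RingHom.mem_ker, hcomm, h2]
    have h6 : x₁ - z ∈ Ideal.span (Set.range q ∪ Set.range v) := by
      have h7 : Ideal.span (Set.range q') = (Ideal.span (Set.range q)).map ηZ := by
        rw [Ideal.map_span, ← Set.range_comp]
        congr 1
        exact congrArg Set.range (funext fun h => (hq h).symm)
      rw [h7, Ideal.mem_map_iff_of_surjective _ hηZ] at h5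
      obtain ⟨w, hw, hw'⟩ := h5
      have h8 : x₁ - z - w ∈ Ideal.span (Set.range v) := by rw [hv, RingHom.mem_ker, map_sub, hw', sub_self]
      rw [Ideal.span_union, show x₁ - z = w + (x₁ - z - w) by ring]
      exact Submodule.add_mem_sup hw h8
    have h9 : MvPolynomial.X none * (x₁ - z) ∈ Jt := by
      refine Submodule.span_induction (p := fun w _ => MvPolynomial.X none * w ∈ Jt) ?_ (by simp) ?_ ?_ h6
      · rintro w (⟨h, rfl⟩ | ⟨h, rfl⟩)
        · exact Ideal.subset_span (Or.inl (Or.inl ⟨h, rfl⟩))
        · exact Ideal.subset_span (Or.inl (Or.inr ⟨h, rfl⟩))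
      · intro w w' _ _ h h'; rw [mul_add]; exact Ideal.add_mem _ h h'
      · intro r w _ h; rw [smul_eq_mul, mul_left_comm]; exact Ideal.mul_mem_left _ _ h
    have := Ideal.add_mem _ hz h9
    convert this using 1
    ring
  · rw [Ideal.span_le]
    rintro w ((⟨h, rfl⟩ | ⟨h, rfl⟩) | ⟨h, rfl⟩)
    all_goals refine RingHom.mem_ker.mpr (hinj _ ?_ ?_)
    · rw [← hcomm]; simp only [map_mul, hq, hq0, mul_zero]
    · simp [hη, hjζ]
    · rw [← hcomm]; simp only [map_mul, hv0, map_zero, mul_zero]
    · simp [hη, hjζ]
    · rw [← hcomm]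
      have h1 := hg' h
      rw [hq', RingHom.mem_ker, map_add, map_mul, hcZ] at h1
      simp only [map_add, map_mul, hg, hZ]
      linear_combination h1
    · simp [hη, hjζ, hp0]

end Groth.Agent.S14309
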