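import Groth.Statements.S14310
import Mathlib
import Groth.Agent.S16230
import Groth.Agent.PowerSeriesAut.Basic
-- import your own Groth.Agent.* helpers here

set_option autoImplicit false
universe u
open ArSing

namespace Groth.Agent.S14310

local instance instDomain {k : Type u} [Field k] : IsDomain (MvPowerSeries (Fin 2) k) :=
  NoZeroDivisors.to_isDomain _

open Groth.Agent.S16230 (V tau sum_tau coeff_tau)

section series
variable {k : Type u} [Field k]

local notation "S" => MvPowerSeries (Fin 2) k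

lemma decomp (g : S) : g = MvPowerSeries.C (MvPowerSeries.constantCoeff g) +
    ∑ l, MvPowerSeries.X l * tau l (g - MvPowerSeries.C (MvPowerSeries.constantCoeff g)) := by
  rw [sum_tau]
  · abel
  · intro e he
    rw [(Finsupp.degree_eq_zero_iff e).mp (by omega)]
    simp [MvPowerSeries.coeff_zero_eq_constantCoeff_apply]

lemma constantCoeff_tau (g : S) (l : Fin 2) :
    MvPowerSeries.constantCoeff (tau l (g - MvPowerSeries.C (MvPowerSeries.constantCoeff g))) =
      MvPowerSeries.coeff (Finsupp.single l 1) g := by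
  rw [← MvPowerSeries.coeff_zero_eq_constantCoeff_apply, coeff_tau, if_pos (fun j _ => Finsupp.zero_apply), zero_add,
    map_sub, MvPowerSeries.coeff_C, if_neg (by simp), sub_zero]

lemma hom_constantCoeff (ψ : S →ₐ[k] S) (a : Fin 2 → S) (ha : ∀ l, ψ (MvPowerSeries.X l) = a l)
    (h0 : ∀ l, MvPowerSeries.constantCoeff (a l) = 0) (g : S) :
    MvPowerSeries.constantCoeff (ψ g) = MvPowerSeries.constantCoeff g := by
  conv_lhs => rw [decomp g]
  have hC : ∀ c : k, ψ (MvPowerSeries.C c) = MvPowerSeries.C c := fun c => by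
    rw [MvPowerSeries.c_eq_algebraMap]; exact ψ.commutes c
  simp only [map_add, map_sum, map_mul, hC, ha, h0, MvPowerSeries.constantCoeff_C, zero_mul,
    Finset.sum_const_zero, add_zero]

lemma hom_linCoeff (ψ : S →ₐ[k] S) (a : Fin 2 → S) (ha : ∀ l, ψ (MvPowerSeries.X l) = a l)
    (h0 : ∀ l, MvPowerSeries.constantCoeff (a l) = 0) (g : S) (j : Fin 2) :
    MvPowerSeries.coeff (Finsupp.single j 1) (ψ g) =
      ∑ l, MvPowerSeries.coeff (Finsupp.single l 1) g * MvPowerSeries.coeff (Finsupp.single j 1) (a l) := by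
  classical
  conv_lhs => rw [decomp g]
  have hC : ∀ c : k, ψ (MvPowerSeries.C c) = MvPowerSeries.C c := fun c => by
    rw [MvPowerSeries.c_eq_algebraMap]; exact ψ.commutes c
  rw [map_add, map_add, map_sum, map_sum, hC, MvPowerSeries.coeff_C, if_neg (by simp), zero_add]
  refine Finset.sum_congr rfl fun l _ => ?_
  rw [map_mul, ha, Groth.Agent.PowerSeriesAut.coeff_single_one_mul, h0, zero_mul, zero_add,
    hom_constantCoeff ψ a ha h0, constantCoeff_tau, mul_comm]

lemma prime_X_one : Prime (MvPowerSeries.X 1 : S) := by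
  classical
  let w : Fin 2 → ℕ := fun i => if i = 1 then 1 else 0
  have hw : ∀ m : Fin 2 →₀ ℕ, Finsupp.weight w m = m 1 := fun m => by
    rw [Finsupp.weight_apply, Finsupp.sum_fintype _ _ (by simp), Fin.sum_univ_two]
    simp [w]
  have key : ∀ f : S, MvPowerSeries.X 1 ∣ f ↔ 1 ≤ f.weightedOrder w := by
    intro f
    rw [MvPowerSeries.X_dvd_iff]
    constructor
    · intro h
      exact MvPowerSeries.nat_le_weightedOrder w fun d hd => h d (by rw [hw] at hd; omega)
    · intro h m hm
      exact MvPowerSeries.coeff_eq_zero_of_lt_weightedOrder w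
        (lt_of_lt_of_le (by rw [hw, hm]; exact_mod_cast zero_lt_one) h)
  refine ⟨?_, ?_, fun f g h => ?_⟩
  · intro h
    have := congrArg (MvPowerSeries.coeff (Finsupp.single (1 : Fin 2) 1)) h
    simp at this
  · rw [MvPowerSeries.isUnit_iff_constantCoeff]; simp
  · rw [key, key]
    rw [key, MvPowerSeries.weightedOrder_mul] at h
    by_contra hc
    push Not at hc
    rw [ENat.lt_one_iff_eq_zero, ENat.lt_one_iff_eq_zero] at hc
    rw [hc.1, hc.2] at h
    simp at h

/-- An isomorphism with `k[[x,y]]/(y²)` comes from a coordinate change. -/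
lemma exists_coords (F : S)
    (e : (S ⧸ Ideal.span ({F} : Set S)) ≃ₐ[k] (S ⧸ Ideal.span ({MvPowerSeries.X 1 ^ 2} : Set S))) :
    ∃ (E : S ≃ₐ[k] S) (u : S), (∀ g, MvPowerSeries.constantCoeff (E g) = MvPowerSeries.constantCoeff g) ∧
      IsUnit u ∧ F = u * (E.symm (MvPowerSeries.X 1)) ^ 2 := by
  classical
  let π : S →ₐ[k] S ⧸ Ideal.span ({MvPowerSeries.X 1 ^ 2} : Set S) := Ideal.Quotient.mkₐ k _
  let φ : S →ₐ[k] S ⧸ Ideal.span ({MvPowerSeries.X 1 ^ 2} : Set S) :=
    e.toAlgHom.comp (Ideal.Quotient.mkₐ k _)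
  have hφs : Function.Surjective φ := e.surjective.comp Ideal.Quotient.mk_surjective
  have hφk : ∀ g, φ g = 0 ↔ F ∣ g := fun g => by
    show e (Ideal.Quotient.mk _ g) = 0 ↔ _
    rw [map_eq_zero_iff _ e.injective, Ideal.Quotient.eq_zero_iff_mem, Ideal.mem_span_singleton]
  have hπk : ∀ g, π g = 0 ↔ MvPowerSeries.X 1 ^ 2 ∣ g := fun g => by
    show Ideal.Quotient.mk _ g = 0 ↔ _
    rw [Ideal.Quotient.eq_zero_iff_mem, Ideal.mem_span_singleton]
  have hπ1 : ¬ π 1 = 0 := fun h => by
    have := isUnit_of_dvd_one ((hπk 1).mp h)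
    rw [MvPowerSeries.isUnit_iff_constantCoeff] at this
    simp at this
  have hF : ¬ IsUnit F := fun h => hπ1 (by
    rw [map_one, ← map_one φ]; exact (hφk 1).mpr h.dvd)
  have hπsurj : Function.Surjective π := Ideal.Quotient.mk_surjective
  choose a ha using fun l => hπsurj (φ (MvPowerSeries.X l))
  have h0 : ∀ l, MvPowerSeries.constantCoeff (a l) = 0 := by
    intro l
    by_contra hne
    have hu : IsUnit (φ (MvPowerSeries.X l)) := by
      rw [← ha l]
      exact ((MvPowerSeries.isUnit_iff_constantCoeff).mpr (isUnit_iff_ne_zero.mpr hne)).map π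
    obtain ⟨b, hb⟩ := isUnit_iff_exists_inv.mp hu
    obtain ⟨v, rfl⟩ := hφs b
    rw [← map_mul, ← sub_eq_zero, ← map_one φ, ← map_sub, hφk] at hb
    obtain ⟨c, hc⟩ := hb
    have := congrArg MvPowerSeries.constantCoeff hc
    rw [MvPowerSeries.isUnit_iff_constantCoeff, isUnit_iff_ne_zero, not_ne_iff] at hF
    simp [hF] at this
  have hs := MvPowerSeries.hasSubst_of_constantCoeff_zero h0
  let ψ : S →ₐ[k] S := MvPowerSeries.substAlgHom hs
  have hψX : ∀ l, ψ (MvPowerSeries.X l) = a l := fun l => MvPowerSeries.substAlgHom_X hs l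
  have happ : ∀ (N : ℕ) (g : S), ∃ r : S, V N r ∧ φ g - π (ψ g) = π r := by
    intro N
    induction N with
    | zero =>
      intro g
      obtain ⟨r, hr⟩ := hπsurj (φ g - π (ψ g))
      exact ⟨r, fun m hm => absurd hm (by simp), hr.symm⟩
    | succ N ih =>
      intro g
      choose r hr hr' using fun l => ih (tau l (g - MvPowerSeries.C (MvPowerSeries.constantCoeff g)))
      refine ⟨∑ l, a l * r l, Groth.Agent.S16230.V_sum fun l _ => ?_, ?_⟩
      · rw [add_comm]
        refine Groth.Agent.S16230.V.mul (fun m hm => ?_) (hr l)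
        rw [(Finsupp.degree_eq_zero_iff m).mp (by omega), MvPowerSeries.coeff_zero_eq_constantCoeff_apply, h0]
      · have hC : ∀ c : k, φ (MvPowerSeries.C c) = π (ψ (MvPowerSeries.C c)) := fun c => by
          rw [MvPowerSeries.c_eq_algebraMap, AlgHom.commutes, AlgHom.commutes, AlgHom.commutes]
        conv_lhs => rw [decomp g]
        simp only [map_add, map_sum, map_mul, hC, hψX, ha, ← hr', mul_sub, Finset.sum_sub_distrib]
        abel
  have hagree : ∀ g, φ g = π (ψ g) := by
    intro g
    obtain ⟨r, hr⟩ := hπsurj (φ g - π (ψ g))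
    rw [← sub_eq_zero, ← hr, hπk, MvPowerSeries.X_pow_dvd_iff]
    intro m hm
    obtain ⟨r', hr'V, hr'⟩ := happ (m.degree + 1) g
    have := (hπk (r - r')).mp (by rw [map_sub, hr, hr', sub_self])
    rw [MvPowerSeries.X_pow_dvd_iff] at this
    have h1 := this m hm
    rwa [map_sub, hr'V m (by omega), sub_zero] at h1
  have hM : IsUnit (Matrix.of fun i j => MvPowerSeries.coeff (Finsupp.single j 1) (a i)) := by
    choose g hg using fun i : Fin 2 => hφs (π (MvPowerSeries.X i))
    refine IsUnit.of_mul_eq_one_right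
      (Matrix.of fun i l => MvPowerSeries.coeff (Finsupp.single l 1) (g i)) ?_
    ext i j
    rw [Matrix.mul_apply]
    simp only [Matrix.of_apply]
    rw [← hom_linCoeff ψ a hψX h0 (g i) j]
    have h1 := hg i
    rw [hagree, ← sub_eq_zero, ← map_sub, hπk, MvPowerSeries.X_pow_dvd_iff] at h1
    have h2 := h1 (Finsupp.single j 1) (by rw [Finsupp.single_apply]; split <;> omega)
    rw [map_sub, sub_eq_zero] at h2
    rw [h2, MvPowerSeries.coeff_X, Matrix.one_apply]
    simp [Finsupp.single_left_inj, eq_comm]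
  let E := Groth.Agent.PowerSeriesAut.substEquiv a h0 hM
  have hEψ : ∀ g, E g = ψ g := fun g => by
    rw [Groth.Agent.PowerSeriesAut.substEquiv_apply]
    exact (congrFun (MvPowerSeries.coe_substAlgHom hs) g).symm
  have hmem : ∀ g, F ∣ g ↔ MvPowerSeries.X 1 ^ 2 ∣ E g := fun g => by
    rw [← hφk, hagree, hπk, hEψ]
  obtain ⟨c, hc⟩ := (hmem F).mp dvd_rfl
  obtain ⟨d, hd⟩ := (hmem (E.symm (MvPowerSeries.X 1 ^ 2))).mpr (by rw [AlgEquiv.apply_symm_apply])
  have hFc : F = (E.symm (MvPowerSeries.X 1)) ^ 2 * E.symm c := by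
    rw [← map_pow, ← map_mul, ← hc, AlgEquiv.symm_apply_apply]
  refine ⟨E, E.symm c, fun g => (hEψ g).symm ▸ hom_constantCoeff ψ a hψX h0 g,
    IsUnit.of_mul_eq_one d ?_, by rw [hFc]; ring⟩
  have hne : (E.symm (MvPowerSeries.X 1)) ^ 2 ≠ 0 :=
    pow_ne_zero 2 fun h => prime_X_one.ne_zero (E.symm.injective (h.trans (map_zero E.symm).symm))
  refine mul_left_cancel₀ hne ?_
  rw [map_pow] at hd
  rw [hFc] at hd
  rw [← mul_assoc, ← hd, mul_one]

end series

section poly
variable {k : Type u} [Field k] [IsAlgClosed k]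

/-- An irreducible polynomial does not divide all its partial derivatives. -/
lemma exists_not_dvd_pderiv {p : MvPolynomial (Fin 2) k} (hp : Irreducible p) :
    ∃ i, ¬ p ∣ MvPolynomial.pderiv i p := by
  classical
  by_contra h
  push Not at h
  have h0 : ∀ i, MvPolynomial.pderiv i p = 0 := by
    intro i
    by_contra hne
    obtain ⟨q, hq⟩ := h i
    have hq0 : q ≠ 0 := fun e => hne (by rw [hq, e, mul_zero])
    have hle : p.totalDegree ≤ (MvPolynomial.pderiv i p).totalDegree := by
      rw [hq, MvPolynomial.totalDegree_mul_of_isDomain hp.ne_zero hq0]; omega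
    obtain ⟨m, hm, hmd⟩ := Finset.exists_mem_eq_sup _ (MvPolynomial.support_nonempty.2 hne)
      fun m : Fin 2 →₀ ℕ => m.sum fun _ e => e
    change (MvPolynomial.pderiv i p).totalDegree = _ at hmd
    rw [hmd] at hle
    rw [MvPolynomial.mem_support_iff, MvPolynomial.coeff_pderiv] at hm
    have := MvPolynomial.le_totalDegree (MvPolynomial.mem_support_iff.2 (left_ne_zero_of_mul hm))
    rw [Finsupp.sum_fintype _ _ (fun _ => rfl), Fin.sum_univ_two] at this hle
    fin_cases i <;> simp at this hle <;> omega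
  have hdiv : ∀ m ∈ p.support, ∀ i : Fin 2, ((m i : ℕ) : k) = 0 := fun m hm i => by
    rcases Nat.eq_zero_or_pos (m i) with h' | h'
    · simp [h']
    have hle : Finsupp.single i 1 ≤ m := Finsupp.single_le_iff.2 h'
    have h1 := congrArg (MvPolynomial.coeff (m - Finsupp.single i 1)) (h0 i)
    rw [MvPolynomial.coeff_pderiv, tsub_add_cancel_of_le hle, MvPolynomial.coeff_zero, mul_eq_zero,
      Finsupp.tsub_apply, Finsupp.single_eq_same, Nat.cast_sub (by omega), Nat.cast_one, sub_add_cancel] at h1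
    exact h1.resolve_left (MvPolynomial.mem_support_iff.1 hm)
  obtain hc | ⟨ℓ, hℓ, hℓk⟩ := CharP.exists' k
  · have hC : p = MvPolynomial.C (MvPolynomial.coeff 0 p) :=
      MvPolynomial.totalDegree_eq_zero_iff_eq_C.1 (by
        refine Nat.le_zero.1 (Finset.sup_le fun m hm => le_of_eq ?_)
        rw [Finsupp.sum_fintype _ _ (fun _ => rfl)]
        exact Finset.sum_eq_zero fun i _ => by exact_mod_cast hdiv m hm i)
    rw [hC] at hp
    rcases eq_or_ne (MvPolynomial.coeff 0 p) 0 with h0 | h0
    · rw [h0, map_zero] at hp; exact hp.ne_zero rfl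
    · exact hp.not_isUnit ((isUnit_iff_ne_zero.2 h0).map MvPolynomial.C)
  · haveI : CharP (MvPolynomial (Fin 2) k) ℓ := inferInstance
    have hroot : ∀ a : k, ∃ b : k, b ^ ℓ = a := fun a => IsAlgClosed.exists_pow_nat_eq a hℓ.out.pos
    choose r hr using hroot
    refine not_irreducible_pow hℓ.out.ne_one (x := ∑ m ∈ p.support,
      MvPolynomial.monomial (m.mapRange (fun e => e / ℓ) (Nat.zero_div ℓ)) (r (p.coeff m))) ?_
    rw [sum_pow_char]
    convert hp
    conv_rhs => rw [p.as_sum]
    refine Finset.sum_congr rfl fun m hm => ?_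
    rw [MvPolynomial.monomial_pow, hr]
    refine congrArg (fun v => MvPolynomial.monomial v (p.coeff m)) (Finsupp.ext fun i => ?_)
    have hd : ℓ ∣ m i := (CharP.cast_eq_zero_iff k ℓ _).1 (hdiv m hm i)
    simp [Nat.mul_div_cancel' hd]

/-- The statement at the origin. -/
lemma origin_iff (P : MvPolynomial (Fin 2) k) :
    Nonempty ((MvPowerSeries (Fin 2) k ⧸ Ideal.span ({P.toMvPowerSeries} : Set (MvPowerSeries (Fin 2) k))) ≃ₐ[k]
      (MvPowerSeries (Fin 2) k ⧸ Ideal.span ({MvPowerSeries.X 1 ^ 2} : Set (MvPowerSeries (Fin 2) k)))) ↔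
    ∃ g h : MvPolynomial (Fin 2) k, P = g ^ 2 * h ∧ MvPolynomial.constantCoeff h ≠ 0 ∧
      MvPolynomial.constantCoeff g = 0 ∧ ∃ i : Fin 2, g.coeff (Finsupp.single i 1) ≠ 0 := by
  classical
  have hcc : ∀ q : MvPolynomial (Fin 2) k,
      MvPowerSeries.constantCoeff (q : MvPowerSeries (Fin 2) k) = MvPolynomial.constantCoeff q := fun q => by
    rw [← MvPowerSeries.coeff_zero_eq_constantCoeff_apply, MvPolynomial.coeff_coe,
      MvPolynomial.constantCoeff_eq]
  constructor
  · rintro ⟨e⟩
    obtain ⟨E, u, hEc, hu, hP⟩ := exists_coords _ e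
    set Y := E.symm (MvPowerSeries.X 1) with hY
    have hYp : Prime Y := (MulEquiv.prime_iff E.symm).mpr prime_X_one
    have hYc : MvPowerSeries.constantCoeff Y = 0 := by
      rw [← hEc Y, hY, AlgEquiv.apply_symm_apply, MvPowerSeries.constantCoeff_X]
    let co : MvPolynomial (Fin 2) k →+* MvPowerSeries (Fin 2) k := MvPolynomial.coeToMvPowerSeries.ringHom
    have hco : ∀ q, co q = (q : MvPowerSeries (Fin 2) k) := fun q => rfl
    let J : Ideal (MvPolynomial (Fin 2) k) := (Ideal.span {Y}).comap co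
    haveI : (Ideal.span {Y}).IsPrime := (Ideal.span_singleton_prime hYp.ne_zero).mpr hYp
    haveI hJp : J.IsPrime := Ideal.IsPrime.comap co
    have hJ : ∀ q, q ∈ J ↔ Y ∣ (q : MvPowerSeries (Fin 2) k) := fun q => Ideal.mem_span_singleton
    have hPJ : P ∈ J := (hJ P).mpr (by rw [hP]; exact Dvd.dvd.mul_left (dvd_pow_self Y two_ne_zero) u)
    have hPiJ : ∀ i, MvPolynomial.pderiv i P ∈ J := fun i => by
      rw [hJ, ← MvPowerSeries.pderiv_coe, hP, Derivation.leibniz, Derivation.leibniz_pow]
      simp only [smul_eq_mul, nsmul_eq_mul, Nat.cast_ofNat, show 2 - 1 = 1 from rfl, pow_one]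
      exact dvd_add (Dvd.dvd.mul_left (Dvd.dvd.mul_left (Dvd.dvd.mul_right dvd_rfl _) _) _)
        (Dvd.dvd.mul_right (dvd_pow_self Y two_ne_zero) _)
    have hP0 : P ≠ 0 := fun h => by
      rw [h, MvPolynomial.coe_zero] at hP
      exact mul_ne_zero hu.ne_zero (pow_ne_zero 2 hYp.ne_zero) hP.symm
    let M0 : Ideal (MvPolynomial (Fin 2) k) := RingHom.ker (MvPolynomial.constantCoeff (σ := Fin 2) (R := k))
    haveI hM0 : M0.IsMaximal := RingHom.ker_isMaximal_of_surjective _ fun c => ⟨MvPolynomial.C c, by simp⟩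
    have hJM : J ≤ M0 := fun q hq => by
      obtain ⟨c, hc⟩ := (hJ q).mp hq
      rw [RingHom.mem_ker, ← hcc, hc, map_mul, hYc, zero_mul]
    have hJne : J ≠ M0 := fun h => by
      have hX : (MvPolynomial.X 0 : MvPolynomial (Fin 2) k) ∈ J := h ▸ by simp [M0]
      have hX1 : (MvPolynomial.X 1 : MvPolynomial (Fin 2) k) ∈ J := h ▸ by simp [M0]
      rw [hJ, MvPolynomial.coe_X] at hX hX1
      have hdec := decomp (E.symm (MvPowerSeries.X 0))
      have h0 : MvPowerSeries.constantCoeff (E.symm (MvPowerSeries.X 0 : MvPowerSeries (Fin 2) k)) = 0 := by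
        rw [← hEc, AlgEquiv.apply_symm_apply, MvPowerSeries.constantCoeff_X]
      rw [h0, map_zero, zero_add, Fin.sum_univ_two] at hdec
      have hd : Y ∣ E.symm (MvPowerSeries.X 0) := by
        rw [hdec]; exact dvd_add (hX.mul_right _) (hX1.mul_right _)
      obtain ⟨c, hc⟩ := hd
      have := congrArg E hc
      rw [map_mul, hY, AlgEquiv.apply_symm_apply, AlgEquiv.apply_symm_apply] at this
      have := congrArg (MvPowerSeries.coeff (Finsupp.single (0 : Fin 2) 1)) this
      rw [Groth.Agent.PowerSeriesAut.coeff_single_one_mul] at this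
      simp [MvPowerSeries.coeff_X, Finsupp.single_left_inj] at this
    have hJ0 : J ≠ ⊥ := fun h => hP0 (by simpa [h] using hPJ)
    obtain ⟨p, hpJ, hp⟩ := hJp.exists_mem_prime_of_ne_bot hJ0
    haveI : (Ideal.span {p}).IsPrime := (Ideal.span_singleton_prime hp.ne_zero).mpr hp
    have hJeq : J = Ideal.span {p} := by
      by_contra hne
      let c0 : PrimeSpectrum (MvPolynomial (Fin 2) k) := ⟨⊥, Ideal.isPrime_bot⟩
      let c1 : PrimeSpectrum (MvPolynomial (Fin 2) k) := ⟨Ideal.span {p}, inferInstance⟩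
      let c2 : PrimeSpectrum (MvPolynomial (Fin 2) k) := ⟨J, hJp⟩
      let c3 : PrimeSpectrum (MvPolynomial (Fin 2) k) := ⟨M0, hM0.isPrime⟩
      have h01 : c0 < c1 := lt_of_le_of_ne (show (⊥ : Ideal _) ≤ Ideal.span {p} from bot_le) fun e =>
        hp.ne_zero (Ideal.span_singleton_eq_bot.mp (congrArg PrimeSpectrum.asIdeal e).symm)
      have h12 : c1 < c2 := lt_of_le_of_ne (show Ideal.span {p} ≤ J from
        (Ideal.span_singleton_le_iff_mem J).mpr hpJ) fun e => hne (congrArg PrimeSpectrum.asIdeal e).symm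
      have h23 : c2 < c3 := lt_of_le_of_ne (show J ≤ M0 from hJM) fun e => hJne (congrArg PrimeSpectrum.asIdeal e)
      let s : LTSeries (PrimeSpectrum (MvPolynomial (Fin 2) k)) :=
        (((RelSeries.singleton _ c0).snoc c1 h01).snoc c2 (by simpa using h12)).snoc c3 (by simpa using h23)
      have h3 : (s.length : WithBot ℕ∞) ≤ ringKrullDim (MvPolynomial (Fin 2) k) := Order.LTSeries.length_le_krullDim s
      rw [MvPolynomial.ringKrullDim_of_isNoetherianRing, ringKrullDim_eq_zero_of_field, zero_add] at h3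
      have hlen : s.length = 3 := by simp [s]
      rw [hlen] at h3
      have h4 : ((3 : ℕ) : WithBot ℕ∞) ≤ ((2 : ℕ) : WithBot ℕ∞) := by simpa using h3
      rw [Nat.cast_le] at h4
      omega
    obtain ⟨q, hq⟩ : p ∣ P := Ideal.mem_span_singleton.mp (hJeq ▸ hPJ)
    obtain ⟨i, hi⟩ := exists_not_dvd_pderiv hp.irreducible
    have hdvd : p ∣ MvPolynomial.pderiv i p * q := by
      have := Ideal.mem_span_singleton.mp (hJeq ▸ hPiJ i)
      rw [hq, MvPolynomial.pderiv_mul] at this
      exact (dvd_add_left (dvd_mul_right p _)).mp this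
    obtain ⟨h, rfl⟩ := (hp.dvd_or_dvd hdvd).resolve_left hi
    obtain ⟨w, hw⟩ := (hJ p).mp hpJ
    have hu' : w ^ 2 * (h : MvPowerSeries (Fin 2) k) = u := by
      refine mul_left_cancel₀ (pow_ne_zero 2 hYp.ne_zero) ?_
      rw [mul_comm (Y ^ 2) u, ← hP, hq, MvPolynomial.coe_mul, MvPolynomial.coe_mul, hw]
      ring
    have hwu : IsUnit w := by
      rw [← hu'] at hu
      exact (isUnit_pow_iff two_ne_zero).mp (isUnit_of_mul_isUnit_left hu)
    have hhu : IsUnit (h : MvPowerSeries (Fin 2) k) := by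
      rw [← hu'] at hu
      exact isUnit_of_mul_isUnit_right hu
    refine ⟨p, h, by rw [hq]; ring, ?_, hJM hpJ, ?_⟩
    · rw [MvPowerSeries.isUnit_iff_constantCoeff, hcc] at hhu
      exact hhu.ne_zero
    · by_contra hall
      push Not at hall
      have h1 := congrArg (MvPowerSeries.coeff (Finsupp.single (1 : Fin 2) 1)) (congrArg E hw)
      rw [map_mul, hY, AlgEquiv.apply_symm_apply,
        show E (p : MvPowerSeries (Fin 2) k) = E.toAlgHom (p : MvPowerSeries (Fin 2) k) from rfl,
        hom_linCoeff E.toAlgHom (fun l => E (MvPowerSeries.X l)) (fun l => rfl)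
          (fun l => by rw [hEc, MvPowerSeries.constantCoeff_X]),
        Groth.Agent.PowerSeriesAut.coeff_single_one_mul, hEc] at h1
      rw [MvPowerSeries.isUnit_iff_constantCoeff] at hwu
      simp [MvPolynomial.coeff_coe, hall] at h1
      exact hwu.ne_zero h1.symm
  · rintro ⟨g, h, rfl, hh, hg, i, hi⟩
    obtain ⟨j, hij⟩ : ∃ j : Fin 2, j ≠ i := exists_ne i
    let a : Fin 2 → MvPowerSeries (Fin 2) k := ![MvPowerSeries.X j, (g : MvPowerSeries (Fin 2) k)]
    have h0 : ∀ l, MvPowerSeries.constantCoeff (a l) = 0 := fun l => by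
      fin_cases l <;> simp [a, hcc, hg]
    have hM : IsUnit (Matrix.of fun l m => MvPowerSeries.coeff (Finsupp.single m 1) (a l)) := by
      rw [Matrix.isUnit_iff_isUnit_det, Matrix.det_fin_two, isUnit_iff_ne_zero]
      fin_cases i <;> fin_cases j <;>
        simp_all [a, MvPowerSeries.coeff_X, Finsupp.single_left_inj, MvPolynomial.coeff_coe]
    let E := Groth.Agent.PowerSeriesAut.substEquiv a h0 hM
    have hE : E (MvPowerSeries.X 1) = (g : MvPowerSeries (Fin 2) k) :=
      Groth.Agent.PowerSeriesAut.substEquiv_X a h0 hM 1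
    have hhu : IsUnit (h : MvPowerSeries (Fin 2) k) := by
      rw [MvPowerSeries.isUnit_iff_constantCoeff, hcc]; exact isUnit_iff_ne_zero.mpr hh
    refine ⟨(Ideal.quotientEquivAlg _ _ E ?_).symm⟩
    rw [Ideal.map_span, Set.image_singleton]
    rw [Ideal.span_singleton_eq_span_singleton, MvPolynomial.coe_mul, MvPolynomial.coe_pow]
    show Associated _ (E (MvPowerSeries.X 1 ^ 2))
    rw [map_pow, hE]
    exact associated_mul_unit_left _ _ hhu

end poly

/-- Let k be an algebraically closed field, f a polynomial in two variables x = X_0, y = X_1 over k, and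
a a point of k². The quotient of the power series ring k[[x,y]] by the polynomial f recentred at a
(which is the completed local ring at a of the plane curve f = 0) is isomorphic as a k-algebra to
k[[x,y]]/(y^2) if and only if f = g^2 h for polynomials g and h with h(a) ≠ 0, g(a) = 0 and some
first partial derivative of g non-zero at a. (The published statement asks for the component through
a to be the square of a smooth plane curve; only smoothness at a matters and is what is stated here
— for the square of a nodal cubic the completed local ring at a smooth point of the cubic is still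
k[[x,y]]/(y^2). No hypothesis on the characteristic of k is imposed; the published setting assumes a
characteristic different from 2, 3, 5 and 7, which the argument does not use.) -/
theorem result
    {k : Type u} [Field k] [IsAlgClosed k] (f : MvPolynomial (Fin 2) k) (a : Fin 2 → k) :
    Nonempty ((MvPowerSeries (Fin 2) k ⧸ Ideal.span
        ({(MvPolynomial.aeval (fun i : Fin 2 => MvPolynomial.X i + MvPolynomial.C (a i)) f).toMvPowerSeries} :
          Set (MvPowerSeries (Fin 2) k))) ≃ₐ[k]
      (MvPowerSeries (Fin 2) k ⧸ Ideal.span ({MvPowerSeries.X 1 ^ 2} : Set (MvPowerSeries (Fin 2) k)))) ↔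
    ∃ g h : MvPolynomial (Fin 2) k, f = g ^ 2 * h ∧ MvPolynomial.eval a h ≠ 0 ∧ MvPolynomial.eval a g = 0 ∧
      ∃ i : Fin 2, MvPolynomial.eval a (MvPolynomial.pderiv i g) ≠ 0 := by
  classical
  let τ : MvPolynomial (Fin 2) k →ₐ[k] MvPolynomial (Fin 2) k :=
    MvPolynomial.aeval (fun i : Fin 2 => MvPolynomial.X i + MvPolynomial.C (a i))
  let σ : MvPolynomial (Fin 2) k →ₐ[k] MvPolynomial (Fin 2) k :=
    MvPolynomial.aeval (fun i : Fin 2 => MvPolynomial.X i - MvPolynomial.C (a i))
  have hστ : ∀ q, σ (τ q) = q := fun q => by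
    have : σ.comp τ = AlgHom.id k _ := MvPolynomial.algHom_ext fun i => by simp [σ, τ]
    exact DFunLike.congr_fun this q
  have hτσ : ∀ q, τ (σ q) = q := fun q => by
    have : τ.comp σ = AlgHom.id k _ := MvPolynomial.algHom_ext fun i => by simp [σ, τ]
    exact DFunLike.congr_fun this q
  have hev : ∀ q, MvPolynomial.constantCoeff (τ q) = MvPolynomial.eval a q := fun q => by
    induction q using MvPolynomial.induction_on with
    | C c => simp [τ]
    | add p q hp hq => simp [map_add, hp, hq]
    | mul_X p i hp => rw [map_mul, map_mul, hp, map_mul]; simp [τ]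
  have hder : ∀ (i : Fin 2) q, (τ q).coeff (Finsupp.single i 1) =
      MvPolynomial.eval a (MvPolynomial.pderiv i q) := fun i q => by
    induction q using MvPolynomial.induction_on with
    | C c =>
      rw [show τ (MvPolynomial.C c) = MvPolynomial.C c by simp [τ], MvPolynomial.coeff_C, if_neg (by simp [eq_comm])]
      simp
    | add p q hp hq => simp [map_add, MvPolynomial.coeff_add, hp, hq]
    | mul_X p l hp =>
      rw [map_mul, show τ (MvPolynomial.X l) = MvPolynomial.X l + MvPolynomial.C (a l) by simp [τ],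
        mul_add, MvPolynomial.coeff_add, mul_comm (τ p) (MvPolynomial.C (a l)), MvPolynomial.coeff_C_mul,
        hp, MvPolynomial.pderiv_mul, map_add, map_mul, map_mul, MvPolynomial.eval_X,
        MvPolynomial.pderiv_X, MvPolynomial.coeff_mul_X']
      rcases eq_or_ne l i with rfl | h
      · simp [← hev, MvPolynomial.constantCoeff_eq]; ring
      · simp [h, mul_comm]
  rw [show MvPolynomial.aeval (fun i : Fin 2 => MvPolynomial.X i + MvPolynomial.C (a i)) f = τ f from rfl,
    origin_iff]
  constructor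
  · rintro ⟨g, h, hgh, hh, hg, i, hi⟩
    refine ⟨σ g, σ h, by rw [← map_pow, ← map_mul, ← hgh, hστ], ?_, ?_, i, ?_⟩
    · rwa [← hev, hτσ]
    · rwa [← hev, hτσ]
    · rwa [← hder, hτσ]
  · rintro ⟨g, h, rfl, hh, hg, i, hi⟩
    exact ⟨τ g, τ h, by rw [map_mul, map_pow], by rwa [hev], by rwa [hev], i, by rwa [hder]⟩

end Groth.Agent.S14310
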