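import Groth.Statements.S1432
import Mathlib.AlgebraicGeometry.Morphisms.ClosedImmersion
import Mathlib.AlgebraicGeometry.Morphisms.QuasiCompact
import Mathlib.AlgebraicGeometry.Limits

set_option autoImplicit false
universe u
open FlatMor

namespace Groth.Agent.S1432

open AlgebraicGeometry CategoryTheory Limits

private theorem appTop_injective_of_epi {Z X : Scheme.{u}} (p : Z ⟶ X) [Epi p] :
    Function.Injective p.appTop := by
  haveI : Scheme.Γ.rightOp.IsLeftAdjoint := ΓSpec.adjunction.isLeftAdjoint
  haveI : Epi (Scheme.Γ.rightOp.map p) := inferInstance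
  haveI : Mono p.appTop := unop_mono_of_epi (Scheme.Γ.rightOp.map p)
  exact (ConcreteCategory.mono_iff_injective_of_preservesPullback p.appTop).1 inferInstance

private def Lifts {X Y : Scheme.{u}} (f : X ⟶ Y) : Prop :=
  ∀ (A B : Type u) [CommRing A] [CommRing B] (φ : A →+* B), Function.Injective φ →
      ∀ (a : Spec (CommRingCat.of B) ⟶ X) (b : Spec (CommRingCat.of A) ⟶ Y), Spec.map (CommRingCat.ofHom φ) ≫ b = a ≫ f →
        ∃ l : Spec (CommRingCat.of A) ⟶ X, Spec.map (CommRingCat.ofHom φ) ≫ l = a ∧ l ≫ f = b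

private theorem isClosedImmersion_affine {X Y : Scheme.{u}} (f : X ⟶ Y) [IsAffine Y] [CompactSpace X]
    (h : Lifts f) : IsClosedImmersion f := by
  let 𝒰 : X.OpenCover := X.affineCover.finiteSubcover
  let Z : Scheme.{u} := ∐ 𝒰.X
  haveI : Finite 𝒰.I₀ := Finite.of_fintype _
  haveI : IsAffine Z := inferInstance
  let p : Z ⟶ X := Sigma.desc 𝒰.f
  haveI : Epi p := ⟨fun r s hrs => 𝒰.hom_ext r s fun i => by
    simpa [p, Category.assoc] using Sigma.ι 𝒰.X i ≫= hrs⟩
  let A := f.appTop.hom.range
  let rr : Γ(Y, ⊤) ⟶ CommRingCat.of A := CommRingCat.ofHom f.appTop.hom.rangeRestrict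
  let sub : CommRingCat.of A ⟶ Γ(X, ⊤) := CommRingCat.ofHom A.subtype
  have hfac : rr ≫ sub = f.appTop := by ext x; rfl
  let φ := sub ≫ p.appTop
  have hφ : Function.Injective φ.hom := (appTop_injective_of_epi p).comp Subtype.val_injective
  let b : Spec (CommRingCat.of A) ⟶ Y := Spec.map rr ≫ Y.isoSpec.inv
  haveI : IsClosedImmersion (Spec.map rr) :=
    IsClosedImmersion.spec_of_surjective rr f.appTop.hom.rangeRestrict_surjective
  haveI : IsClosedImmersion b := inferInstance
  let a : Spec Γ(Z, ⊤) ⟶ X := Z.isoSpec.inv ≫ p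
  have hsq : Spec.map φ ≫ b = a ≫ f := by
    simp only [b, a, φ, ← Spec.map_comp_assoc, ← Category.assoc rr, hfac, Category.assoc]
    rw [← Scheme.Hom.comp_appTop, Scheme.isoSpec_inv_naturality]
  obtain ⟨l, hl1, hl2⟩ := h A Γ(Z, ⊤) φ.hom hφ a b hsq
  let g : X ⟶ Spec (CommRingCat.of A) := X.toSpecΓ ≫ Spec.map sub
  have hgb : g ≫ b = f := by
    simp only [g, b, Category.assoc, ← Spec.map_comp_assoc, hfac]
    rw [← Scheme.toSpecΓ_naturality_assoc]
    simp [Scheme.isoSpec]
  have hgl : g ≫ l = 𝟙 X := by
    rw [← cancel_epi p]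
    have : p ≫ g = Z.isoSpec.hom ≫ Spec.map φ := by
      simp only [g, φ, Spec.map_comp, Scheme.toSpecΓ_naturality_assoc]
      rfl
    have h2 : Spec.map φ ≫ l = a := hl1
    rw [← Category.assoc, this, Category.assoc, h2]
    simp [a]
  have hlg : l ≫ g = 𝟙 _ := by
    rw [← cancel_mono b, Category.assoc, hgb, hl2, Category.id_comp]
  haveI : IsIso g := ⟨l, hgl, hlg⟩
  rw [← hgb]
  infer_instance

/-- For a quasi-compact morphism f : X → Y, being a closed immersion is equivalent to the following
lifting property: for each injective ring map A → B and each commutative square with Spec B → X on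
top and Spec A → Y at the bottom there is a lift Spec A → X making both triangles commute. -/
theorem result {X Y : Scheme.{u}} (f : X ⟶ Y) [QuasiCompact f] :
    IsClosedImmersion f ↔ ∀ (A B : Type u) [CommRing A] [CommRing B] (φ : A →+* B), Function.Injective φ →
      ∀ (a : Spec (CommRingCat.of B) ⟶ X) (b : Spec (CommRingCat.of A) ⟶ Y), Spec.map (CommRingCat.ofHom φ) ≫ b = a ≫ f →
        ∃ l : Spec (CommRingCat.of A) ⟶ X, Spec.map (CommRingCat.ofHom φ) ≫ l = a ∧ l ≫ f = b := by
  constructor
  · intro hf A B _ _ φ hφ a b hsq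
    let σ : Spec (CommRingCat.of B) ⟶ pullback b f := pullback.lift _ _ hsq
    have h1 : Function.Injective (Spec.map (CommRingCat.ofHom φ)).appTop := by
      have := Scheme.ΓSpecIso_naturality (CommRingCat.ofHom φ)
      rw [← Iso.eq_comp_inv] at this
      rw [this]
      simp only [CommRingCat.hom_comp, RingHom.coe_comp, CommRingCat.hom_ofHom]
      exact (ConcreteCategory.bijective_of_isIso (Scheme.ΓSpecIso (CommRingCat.of B)).inv).1.comp
        (hφ.comp (ConcreteCategory.bijective_of_isIso (Scheme.ΓSpecIso (CommRingCat.of A)).hom).1)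
    rw [← pullback.lift_fst _ _ hsq, Scheme.Hom.comp_appTop] at h1
    simp only [CommRingCat.hom_comp, RingHom.coe_comp] at h1
    haveI : IsIso (pullback.fst b f) := IsClosedImmersion.isIso_of_injective_of_isAffine h1.of_comp
    refine ⟨inv (pullback.fst b f) ≫ pullback.snd b f, ?_, by simp [← pullback.condition]⟩
    calc _ = (σ ≫ pullback.fst b f) ≫ inv (pullback.fst b f) ≫ pullback.snd b f := by
          rw [pullback.lift_fst]
      _ = a := by
          simp only [Category.assoc, IsIso.hom_inv_id_assoc]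
          exact pullback.lift_snd _ _ _
  · intro h
    have hbase : ∀ {V : Scheme.{u}} (g : V ⟶ Y), Lifts (pullback.snd f g) := by
      intro V g A B _ _ φ hφ a b hsq
      obtain ⟨l, h1, h2⟩ := h A B φ hφ (a ≫ pullback.fst f g) (b ≫ g) (by
        rw [reassoc_of% hsq, Category.assoc, pullback.condition])
      refine ⟨pullback.lift l b h2, pullback.hom_ext ?_ ?_, pullback.lift_snd _ _ _⟩
      · rw [Category.assoc, pullback.lift_fst]
        exact h1
      · rw [Category.assoc, pullback.lift_snd]
        exact hsq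
    refine IsZariskiLocalAtTarget.of_openCover (P := @IsClosedImmersion) Y.affineCover fun i => ?_
    haveI : CompactSpace ↥(pullback f (Y.affineCover.f i)) :=
      QuasiCompact.compactSpace_of_compactSpace (pullback.snd f (Y.affineCover.f i))
    show IsClosedImmersion (pullback.snd f (Y.affineCover.f i))
    haveI : IsAffine (Y.affineCover.X i) := inferInstanceAs (IsAffine (Spec _))
    exact isClosedImmersion_affine _ (hbase _)

end Groth.Agent.S1432
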