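import Groth.Statements.S14330
import Groth.Agent.ParaFLib.Basic
import Groth.Agent.KoszulHZ.Global
import Groth.Agent.InvPow.GloballyGenerated
import Groth.Agent.DepthLib.FlatDepth
import Groth.Agent.DepthLib.Reduced
import Groth.Agent.FlatAscent.AtPrime
-- import your own Groth.Agent.* helpers here

set_option autoImplicit false
universe u
open CategoryTheory CategoryTheory.Limits AlgebraicGeometry Opposite
open GrpSch

namespace Groth.Agent.S14330

open Groth.Agent in
set_option backward.isDefEq.respectTransparency false in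
theorem one_le_iff {X : Scheme.{u}} [IsLocallyNoetherian X] (M : X.Modules) (hM : Coh.IsCoh M) (U : X.Opens) :
    (∀ x : X, x ∉ U → (1 : ℕ∞) ≤ LocCoh.depth (X.presheaf.stalk x) (M.presheaf.stalk x)) ↔
      ∀ V : X.Opens, Function.Injective (M.val.map (homOfLE (inf_le_left : V ⊓ U ≤ V)).op).hom := by
  refine Iff.trans (Iff.trans ?_ (KoszulHZ.isZero_below_iff_depth M hM U 1).symm) ?_
  · exact Iff.rfl
  refine (KerDerived.isZero_iff_subsingleton (X := X.carrier) U (Coh.toAb M) 1).trans ⟨fun h V => ?_, fun h V i hi => ?_⟩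
  · have h2 := KerDerived.injective_res (inf_le_left : V ⊓ U ≤ V) 0 (h V 0 one_pos)
    intro a b hab
    have e : ∀ z, CohTop.res (X := X.carrier) (Coh.toAb M) 0 (inf_le_left : V ⊓ U ≤ V) z =
        (CohVanish.eu0 (V ⊓ U) (Coh.toAb M)).symm
          ((Coh.toAb M).obj.map (homOfLE (inf_le_left : V ⊓ U ≤ V)).op (CohVanish.eu0 V _ z)) := fun z =>
      (CohVanish.eu0 (V ⊓ U) (Coh.toAb M)).eq_symm_apply.2 (CohVanish.eu0_eRes (Coh.toAb M) (homOfLE inf_le_left) z)
    apply (CohVanish.eu0 V (Coh.toAb M)).symm.injective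
    apply h2
    rw [e, e]
    simp only [AddEquiv.apply_symm_apply]
    exact congrArg _ hab
  · obtain rfl : i = 0 := by omega
    refine KerDerived.subsingleton_HZ_zero _ fun a b hab => (CohVanish.eu0 V (Coh.toAb M)).injective (h V ?_)
    have e := fun z => CohVanish.eu0_eRes (X := X.carrier) (Coh.toAb M) (homOfLE (inf_le_left : V ⊓ U ≤ V)) z
    exact (e a).symm.trans ((congrArg _ hab).trans (e b))

open Groth.Agent in
set_option backward.isDefEq.respectTransparency false in
theorem depth_invertible {A : Scheme.{u}} [IsLocallyNoetherian A] (L : A.Modules) (hL : PicF.IsInvertible L) (a : A) :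
    LocCoh.depth (A.presheaf.stalk a) (L.presheaf.stalk a) = LocCoh.depth (A.presheaf.stalk a) (A.presheaf.stalk a) := by
  haveI := (InvPow.isCoh_of_isInvertible hL).1
  obtain ⟨U, haU, ℓ, hℓ⟩ := InvBasic.exists_isBasis hL a
  obtain ⟨V, hV, haV, hVU⟩ := exists_isAffineOpen_mem_and_subset haU
  have hb := InvPow.isBasis_res hℓ (V := V) hVU
  let e : Γ(A, V) ≃ₗ[Γ(A, V)] Γ(L, V) := LinearEquiv.ofBijective (LinearMap.toSpanSingleton _ _ _)
    ⟨fun c c' h => InvPow.coef_unique hb h, fun m => by
      obtain ⟨c, hc⟩ := InvPow.exists_coef hb m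
      exact ⟨c, hc.symm⟩⟩
  let p := (hV.primeIdealOf ⟨a, haV⟩).asIdeal
  rw [KoszulHZ.depth_stalk_eq L hV a haV, ← DepthLib.depth_localization_congr e p, DepthLib.depth_localization_self]
  letI := TopCat.Presheaf.algebra_section_stalk A.presheaf ⟨a, haV⟩
  haveI := hV.isLocalization_stalk ⟨a, haV⟩
  exact FlatAscent.depth_eq_of_ringEquiv
    (IsLocalization.algEquiv p.primeCompl (A.presheaf.stalk a) (Localization.AtPrime p)).toRingEquiv

open Groth.Agent in
set_option backward.isDefEq.respectTransparency false in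
theorem depth_le_of_smooth {S A : Scheme.{u}} [IsLocallyNoetherian S] (f : A ⟶ S) [Smooth f] (a : A) :
    LocCoh.depth (S.presheaf.stalk (f a)) (S.presheaf.stalk (f a)) ≤
      LocCoh.depth (A.presheaf.stalk a) (A.presheaf.stalk a) := by
  haveI : IsLocallyNoetherian A := LocallyOfFiniteType.isLocallyNoetherian f
  algebraize [(f.stalkMap a).hom]
  haveI : Module.Flat (S.presheaf.stalk (f a)) (A.presheaf.stalk a) := Flat.stalkMap f a
  haveI : IsLocalHom (algebraMap (S.presheaf.stalk (f a)) (A.presheaf.stalk a)) := f.toLRSHom.prop a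
  rw [LocCoh.depth, LocCoh.depth, ← DepthLib.idealDepth_map_eq (B := A.presheaf.stalk a)
    (fun p hp _ => DepthLib.map_ne_top_of_isLocalHom p hp)]
  exact DepthLib.idealDepth_mono (((IsLocalRing.local_hom_TFAE (algebraMap _ _)).out 0 2 rfl rfl).mp inferInstance)

open Groth.Agent in
set_option backward.isDefEq.respectTransparency false in
theorem aux {S A : Scheme.{u}} [IsLocallyNoetherian S]
    (f : A ⟶ S) [Smooth f] (L : A.Modules) (hL : PicF.IsInvertible L) (V : S.Opens) :
    (CInt.IsSchematicallyDense V →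
      ∀ W : S.Opens, Function.Injective (L.val.map (homOfLE (inf_le_left : f ⁻¹ᵁ W ⊓ f ⁻¹ᵁ V ≤ f ⁻¹ᵁ W)).op)) ∧
    ((∀ x : S, x ∉ V → 2 ≤ LocCoh.depth (S.presheaf.stalk x) (S.presheaf.stalk x)) →
      ∀ W : S.Opens, Function.Bijective (L.val.map (homOfLE (inf_le_left : f ⁻¹ᵁ W ⊓ f ⁻¹ᵁ V ≤ f ⁻¹ᵁ W)).op)) := by
  haveI : IsLocallyNoetherian A := LocallyOfFiniteType.isLocallyNoetherian f
  have hc := InvPow.isCoh_of_isInvertible hL
  have hd : ∀ (n : ℕ∞), (∀ x : S, x ∉ V → n ≤ LocCoh.depth (S.presheaf.stalk x) (S.presheaf.stalk x)) →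
      ∀ a : A, a ∉ f ⁻¹ᵁ V → n ≤ LocCoh.depth (A.presheaf.stalk a) (L.presheaf.stalk a) := fun n h a ha => by
    rw [depth_invertible L hL a]
    exact (h (f a) ha).trans (depth_le_of_smooth f a)
  refine ⟨fun hV W => (one_le_iff L hc (f ⁻¹ᵁ V)).1 (hd 1 ?_) (f ⁻¹ᵁ W), fun h W => ?_⟩
  · have hS : Coh.IsCoh (Coh.structureModule S) := InvPow.isCoh_of_isInvertible (ParaFLib.isInvertible_structureModule S)
    intro x hx
    rw [← depth_invertible (Coh.structureModule S) (ParaFLib.isInvertible_structureModule S) x]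
    exact (one_le_iff (Coh.structureModule S) hS V).2 (fun U => hV U) x hx
  · have h2 := (KoszulHZ.two_le_depth_iff_bijective L hc (f ⁻¹ᵁ V)).1 (hd 2 h) (f ⁻¹ᵁ W)
    have e := fun z => CohVanish.eu0_eRes (X := A.carrier) (Coh.toAb L)
      (homOfLE (inf_le_left : f ⁻¹ᵁ W ⊓ f ⁻¹ᵁ V ≤ f ⁻¹ᵁ W)) z
    have h3 := ((CohVanish.eu0 _ (Coh.toAb L)).bijective.comp h2).comp (CohVanish.eu0 (f ⁻¹ᵁ W) (Coh.toAb L)).symm.bijective
    refine (iff_of_eq (congrArg Function.Bijective (funext fun s => ?_))).1 h3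
    exact (e _).trans (congrArg _ ((CohVanish.eu0 (f ⁻¹ᵁ W) (Coh.toAb L)).apply_symm_apply s))

/-- Let S be a locally Noetherian scheme, f : A → S a smooth morphism, L an invertible O_A-module and V
an open subscheme of S; for an open W of S consider the restriction of sections of L from f⁻¹(W) to
f⁻¹(W) ∩ f⁻¹(V), that is the component over W of the natural map f_*L → j_*j^*(f_*L), j : V → S the
inclusion. If V is schematically dense in S, all these restrictions are injective. If V is a big
open of S, meaning that the local ring of S at every point outside V has depth at least 2, all these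
restrictions are bijective. (The published statement is for a semi-stable group scheme A; its proof
uses only the smoothness of A over S and the local freeness of L, which are the hypotheses kept
here.) -/
theorem result {S A : Scheme.{u}} [IsLocallyNoetherian S]
    (f : A ⟶ S) [Smooth f] (L : A.Modules) (hL : PicF.IsInvertible L) (V : S.Opens) :
    (CInt.IsSchematicallyDense V →
      ∀ W : S.Opens, Function.Injective (L.val.map (homOfLE (inf_le_left : f ⁻¹ᵁ W ⊓ f ⁻¹ᵁ V ≤ f ⁻¹ᵁ W)).op)) ∧
    ((∀ x : S, x ∉ V → 2 ≤ LocCoh.depth (S.presheaf.stalk x) (S.presheaf.stalk x)) →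
      ∀ W : S.Opens, Function.Bijective (L.val.map (homOfLE (inf_le_left : f ⁻¹ᵁ W ⊓ f ⁻¹ᵁ V ≤ f ⁻¹ᵁ W)).op)) := by
  exact aux f L hL V

end Groth.Agent.S14330
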