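import Groth.Statements.S14338
import Groth.Agent.TFun.Rank2
import Mathlib.LinearAlgebra.TensorProduct.RightExactness
import Mathlib.RingTheory.Flat.EquationalCriterion

set_option autoImplicit false
universe u
open CAlg

namespace Groth.Agent.S14338

/-- Let B be a Noetherian ring, K and K' finitely generated flat B-modules and φ : K → K' a B-linear
map; for a prime y of B write κ(y) for its residue field and φ_y for the base change κ(y) ⊗ K → κ(y)
⊗ K'. Assume B is reduced and the number dim_{κ(y)} Im(φ_y) is the same for all primes y of B. Then
the cokernel K'/Im φ and the image Im φ are projective (locally free) B-modules. -/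
theorem result (B : Type u) [CommRing B] [IsNoetherianRing B] (K K' : Type u) [AddCommGroup K] [Module B K] [Module.Finite B K] [Module.Flat B K] [AddCommGroup K'] [Module B K'] [Module.Finite B K'] [Module.Flat B K'] (φ : K →ₗ[B] K') [IsReduced B] (hconst : ∃ c : ℕ, ∀ y : PrimeSpectrum B, Module.finrank y.asIdeal.ResidueField ↥(LinearMap.range (φ.baseChange y.asIdeal.ResidueField)) = c) : Module.Projective B (K' ⧸ LinearMap.range φ) ∧ Module.Projective B ↥(LinearMap.range φ) := by

  haveI := Module.finitePresentation_of_finite B K'
  haveI := Module.finitePresentation_of_finite B (K' ⧸ LinearMap.range φ)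
  obtain ⟨c, hc⟩ := hconst
  let Q := K' ⧸ LinearMap.range φ
  let g : K' →ₗ[B] Q := (LinearMap.range φ).mkQ
  have hex : Function.Exact φ g := LinearMap.exact_iff.mpr (Submodule.ker_mkQ _)
  have hdim : ∀ y : PrimeSpectrum B,
      Groth.Agent.TFun.fibreDim Q y + c = Groth.Agent.TFun.fibreDim K' y := by
    intro y
    have h1 : Function.Exact (φ.baseChange y.asIdeal.ResidueField)
        (g.baseChange y.asIdeal.ResidueField) :=
      lTensor_exact _ hex (Submodule.mkQ_surjective _)
    have h2 : Function.Surjective (g.baseChange y.asIdeal.ResidueField) :=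
      LinearMap.lTensor_surjective _ (Submodule.mkQ_surjective _)
    rw [← hc y, ← LinearMap.exact_iff.mp h1]
    have := LinearMap.finrank_range_add_finrank_ker (g.baseChange y.asIdeal.ResidueField)
    rw [LinearMap.range_eq_top.mpr h2, finrank_top] at this
    exact this
  have hlc : IsLocallyConstant (Groth.Agent.TFun.fibreDim (A := B) Q) := by
    have h := (Groth.Agent.TFun.isLocallyConstant_fibreDim_of_flat (A := B) K').comp (fun n => n - c)
    convert h using 1
    funext y
    simp only [Function.comp_apply, ← hdim y, Nat.add_sub_cancel]
  haveI : Module.Flat B Q := Groth.Agent.TFun.flat_of_fibreDim Q hlc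
  haveI hQ : Module.Projective B Q := Module.Flat.projective_of_finitePresentation
  refine ⟨hQ, ?_⟩
  haveI : Module.Projective B K' := Module.Flat.projective_of_finitePresentation
  obtain ⟨s, hs⟩ := Module.projective_lifting_property g LinearMap.id (Submodule.mkQ_surjective _)
  let π : K' →ₗ[B] LinearMap.range φ :=
    LinearMap.codRestrict (LinearMap.range φ) (LinearMap.id - s ∘ₗ g) (fun x => by
      refine (Submodule.Quotient.mk_eq_zero _).mp ?_
      change g (x - s (g x)) = 0
      rw [map_sub, ← LinearMap.comp_apply, hs, LinearMap.id_apply, sub_self])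
  refine Module.Projective.of_split (LinearMap.range φ).subtype π (LinearMap.ext fun x => Subtype.ext ?_)
  have hx : g (x : K') = 0 := (Submodule.Quotient.mk_eq_zero _).mpr x.2
  change (x : K') - s (g x) = x
  rw [hx, map_zero, sub_zero]

end Groth.Agent.S14338
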