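import Groth.Statements.S1434
import Mathlib
-- import your own Groth.Agent.* helpers here

set_option autoImplicit false
universe u
open FlatMor

namespace Groth.Agent.S1434

open AlgebraicGeometry CategoryTheory Limits in
/-- Part (1), for a closed subscheme: let Z ⊂ X be the closed subscheme cut out by an ideal sheaf I and
Z' the one cut out by I², its first order infinitesimal neighbourhood. Given a first order
thickening T → T', a morphism a : T → Z and a morphism b : T' → X compatible with them, there is a
unique morphism T' → Z' through which b factors (compatibility with a is then automatic). -/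
theorem result {X T T' : Scheme.{u}} (I : X.IdealSheafData) (t : T ⟶ T') (ht : MoreMor.IsFirstOrderThickening t)
    (a : T ⟶ I.subscheme) (b : T' ⟶ X) (w : a ≫ I.subschemeι = t ≫ b) :
    ∃! a' : T' ⟶ (I ^ 2).subscheme, a' ≫ (I ^ 2).subschemeι = b := by
  have hle : I ^ 2 ≤ b.ker := by
    refine Scheme.IdealSheafData.le_ofIdeals_iff.mpr fun U => ?_
    have key : ∀ s ∈ I.ideal U, (t.app (b ⁻¹ᵁ U.1)) (b.app U.1 s) = 0 := by
      intro s hs
      have hs' : s ∈ RingHom.ker (I.subschemeι.app U.1).hom := by
        rw [← I.ker_subschemeι] at hs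
        exact I.subschemeι.ideal_ker_le U hs
      have h1 : (a ≫ I.subschemeι).app U.1 s = 0 :=
        (congrArg (fun z => a.app (I.subschemeι ⁻¹ᵁ U.1) z) (show I.subschemeι.app U.1 s = 0 from hs')).trans (map_zero _)
      rw [Scheme.Hom.congr_app w U.1] at h1
      exact (ConcreteCategory.bijective_of_isIso (T.presheaf.map (eqToHom (congrArg (fun m => m ⁻¹ᵁ U.1) w)).op)).1
        (h1.trans (map_zero _).symm)
    intro x hx
    rw [pow_two] at hx
    show (b.app U.1) x = 0
    refine Submodule.mul_induction_on hx (fun r hr s hs => ?_) (fun p q hp hq => by rw [map_add, hp, hq, add_zero])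
    rw [map_mul]
    refine TopCat.Sheaf.eq_of_locally_eq' T'.sheaf (fun V : {V : T'.affineOpens // V.1 ≤ b ⁻¹ᵁ U.1} => V.1.1) (b ⁻¹ᵁ U.1)
      (fun V => homOfLE V.2) ?_ _ _ fun V => ?_
    · intro z hz
      obtain ⟨_, ⟨(W : T'.Opens), hW, rfl⟩, hzW, hWle⟩ := T'.isBasis_affineOpens.exists_subset_of_mem_open hz (b ⁻¹ᵁ U.1).2
      exact TopologicalSpace.Opens.mem_iSup.mpr ⟨⟨⟨W, hW⟩, hWle⟩, hzW⟩
    let res := T'.presheaf.map (homOfLE V.2).op
    have hk : ∀ s ∈ I.ideal U, res (b.app U.1 s) ∈ t.ker.ideal V.1 := by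
      intro s hs
      haveI : IsClosedImmersion t := ht.1.1
      rw [Scheme.Hom.ker_apply, RingHom.mem_ker]
      have := congrArg (fun φ => φ (b.app U.1 s)) (t.naturality (homOfLE V.2).op)
      simp only [CommRingCat.comp_apply, key s hs, map_zero] at this
      exact this
    have h2 : res (b.app U.1 r) * res (b.app U.1 s) ∈ (t.ker * t.ker).ideal V.1 := Ideal.mul_mem_mul (hk r hr) (hk s hs)
    rw [ht.2, ← map_mul] at h2
    show res (b.app U.1 r * b.app U.1 s) = res 0
    rw [map_zero]
    simpa using h2
  refine ⟨IsClosedImmersion.lift (I ^ 2).subschemeι b (by rw [Scheme.IdealSheafData.ker_subschemeι]; exact hle),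
    IsClosedImmersion.lift_fac _ _ _, fun y hy => ?_⟩
  rw [← cancel_mono (I ^ 2).subschemeι, IsClosedImmersion.lift_fac]
  exact hy

end Groth.Agent.S1434
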