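import Groth.Statements.S14345
import Groth.Agent.FittIdeal.Basic
import Mathlib.RingTheory.Spectrum.Prime.FreeLocus
import Mathlib.RingTheory.LocalRing.Module
import Mathlib.RingTheory.LocalProperties.Basic

set_option autoImplicit false
universe u v
open TensorProduct
open QuotLF

namespace Groth.Agent.S14345

open Module

/-- Over a local ring: a determinant with more than `n - k` rows in the kernel of a surjection
`L^n → Q`, `Q` free of rank `k`, vanishes. -/
theorem det_eq_zero_of_local {L : Type*} [CommRing L] [IsLocalRing L] {Q : Type*} [AddCommGroup Q]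
    [Module L Q] [Module.Finite L Q] [Module.Free L Q] {n k m : ℕ} (hk : finrank L Q = k)
    (hm : n < m + k) (hmn : m ≤ n) (q : Fin n → Q) (hq : Submodule.span L (Set.range q) = ⊤)
    (a : Matrix (Fin n) (Fin n) L) (ha : ∀ i : Fin n, (i : ℕ) < m → ∑ c, a i c • q c = 0) :
    a.det = 0 := by
  classical
  set φ := Fintype.linearCombination L q with hφ
  have hsurj : Function.Surjective φ := by
    rw [← LinearMap.range_eq_top, hφ, Fintype.range_linearCombination, hq]
  obtain ⟨s, hs⟩ := φ.exists_rightInverse_of_surjective (LinearMap.range_eq_top.mpr hsurj)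
  have hsplit : Function.Exact (LinearMap.ker φ).subtype φ := LinearMap.exact_subtype_ker_map φ
  let E := hsplit.splitSurjectiveEquiv Subtype.val_injective ⟨s, hs⟩
  let π : (Fin n → L) →ₗ[L] LinearMap.ker φ := LinearMap.fst L _ _ ∘ₗ E.1.toLinearMap
  have hπ : Function.Surjective π := Prod.fst_surjective.comp E.1.surjective
  have : Module.Finite L (LinearMap.ker φ) := Module.Finite.of_surjective π hπ
  have : Module.Projective L (LinearMap.ker φ) := Module.Projective.of_split
    ((E.1.symm.toLinearMap) ∘ₗ LinearMap.inl L _ _) π (by ext x; simp [π])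
  have : Module.Free L (LinearMap.ker φ) := Module.free_of_flat_of_isLocalRing
  have hr : finrank L (LinearMap.ker φ) + k = n := by
    have := E.1.finrank_eq
    rw [finrank_prod, finrank_fin_fun, hk] at this
    exact this.symm
  let b := Module.finBasis L (LinearMap.ker φ)
  let T : Fin n → Set (Fin n → L) := fun i =>
    if (i : ℕ) < m then Set.range (fun c => ((b c : LinearMap.ker φ) : Fin n → L)) else Set.univ
  have hmem := FittIdeal.det_mem_span T a (fun i => ?_)
  · refine (Submodule.mem_bot L).mp ((Ideal.span_le.mpr ?_ : _ ≤ (⊥ : Ideal L)) hmem)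
    rintro _ ⟨c, hc, rfl⟩
    rw [SetLike.mem_coe, Ideal.mem_bot]
    have hc' : ∀ i : Fin m, ∃ t, ((b t : LinearMap.ker φ) : Fin n → L) = c (Fin.castLE hmn i) := fun i => by
      have := hc (Fin.castLE hmn i)
      simpa only [T, Fin.val_castLE, i.2, if_true, Set.mem_range] using this
    choose t ht using hc'
    obtain ⟨i₁, i₂, hne, heq⟩ := Fintype.exists_ne_map_eq_of_card_lt t (by simp; omega)
    refine Matrix.det_zero_of_row_eq ((Fin.castLE_injective hmn).ne hne) ?_
    rw [← ht, ← ht, heq]
  · by_cases hi : (i : ℕ) < m
    · have hker : a i ∈ LinearMap.ker φ := by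
        rw [LinearMap.mem_ker, hφ, Fintype.linearCombination_apply]; exact ha i hi
      simp only [T, hi, if_true]
      have h := Submodule.apply_mem_span_image_of_mem_span (LinearMap.ker φ).subtype (b.mem_span (⟨a i, hker⟩ : LinearMap.ker φ))
      rwa [← Set.range_comp] at h
    · simp only [T, hi, if_false]; exact Submodule.subset_span (Set.mem_univ _)

/-- Let R be a commutative ring, M a finitely generated R-module and k ≥ 0. If for an R-algebra A the
module A ⊗_R M admits a quotient that is finite projective of constant rank k (an A-valued point of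
the Quot scheme of rank-k locally free quotients of M), then every Fitting ideal Fit_j(M) with j < k
extends to the zero ideal of A; that is, the structure map of the Quot scheme of rank-k locally free
quotients factors through the closed subscheme cut out by Fit_{k-1}(M). -/
theorem result (R : Type u) [CommRing R]
    (M : Type v) [AddCommGroup M] [Module R M] [Module.Finite R M] (k : ℕ)
    (A : Type u) [CommRing A] [Algebra R A] (N : Module.Grassmannian A (A ⊗[R] M) k)
    (j : ℕ) (hj : j < k) :
    (Fitt.ideal R M j).map (algebraMap R A) = ⊥ := by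
  obtain ⟨n, x, hx⟩ := Module.Finite.exists_fin (R := R) (M := M)
  rw [FittIdeal.ideal_eq x hx, FittIdeal.dIdeal, Ideal.map_span, eq_bot_iff, Ideal.span_le]
  rintro _ ⟨_, ⟨a, ha, rfl⟩, rfl⟩
  rw [SetLike.mem_coe, Ideal.mem_bot, RingHom.map_det]
  refine eq_zero_of_localization _ fun P hP => ?_
  rw [RingHom.map_det]
  set Q := (A ⊗[R] M) ⧸ N.toSubmodule
  let q : Fin n → Q := fun c => N.toSubmodule.mkQ (1 ⊗ₜ x c)
  have hq : Submodule.span A (Set.range q) = ⊤ := by
    have h1 : Submodule.span A (Set.range fun c => (1 : A) ⊗ₜ[R] x c) = ⊤ := by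
      have h := congrArg (Submodule.baseChange A) hx
      rw [Submodule.baseChange_span, Submodule.baseChange_top, ← Set.range_comp] at h
      exact h
    rw [show q = N.toSubmodule.mkQ ∘ (fun c => (1 : A) ⊗ₜ[R] x c) from rfl, Set.range_comp,
      Submodule.span_image, h1, Submodule.map_top, Submodule.range_mkQ]
  let L := Localization.AtPrime P
  have hk : Module.finrank L (L ⊗[A] Q) = k := by
    rw [← Module.rankAtStalk_eq_finrank_tensorProduct ⟨P, inferInstance⟩]; exact N.rankAtStalk_eq _
  have : Module.Free L (L ⊗[A] Q) := Module.free_of_flat_of_isLocalRing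
  have hqL : Submodule.span L (Set.range fun c => (1 : L) ⊗ₜ[A] q c) = ⊤ := by
    have h := congrArg (Submodule.baseChange L) hq
    rw [Submodule.baseChange_span, Submodule.baseChange_top, ← Set.range_comp] at h
    exact h
  by_cases hn : n < (n - j) + k
  · refine det_eq_zero_of_local hk hn (Nat.sub_le n j) _ hqL _ fun i hi => ?_
    have h0 : ∑ c, algebraMap R A (a i c) • q c = 0 := by
      have h := congrArg (fun z => N.toSubmodule.mkQ ((1 : A) ⊗ₜ[R] z)) (ha i hi)
      simp only [TensorProduct.tmul_sum, TensorProduct.tmul_smul, map_sum, TensorProduct.tmul_zero, map_zero] at h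
      simpa only [q, ← map_smul, algebraMap_smul] using h
    have h1 := congrArg (fun z => (1 : L) ⊗ₜ[A] z) h0
    simp only [TensorProduct.tmul_sum, TensorProduct.tmul_smul, TensorProduct.tmul_zero] at h1
    convert h1 using 2 with c
    exact algebraMap_smul L (algebraMap R A (a i c)) _
  · omega

end Groth.Agent.S14345
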