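import Groth.Statements.S14346
import Mathlib.RingTheory.Spectrum.Prime.FreeLocus
import Mathlib.LinearAlgebra.Projection

set_option autoImplicit false
universe u v
open TensorProduct
open QuotLF

namespace Groth.Agent.S14346

/-- Let R be a commutative ring, M an R-module, k ≥ 0, and A an R-algebra for which A ⊗_R M is finite
projective of constant rank k, i.e. Spec A → Spec R factors through the locally closed stratum where
M is locally free of rank k. Then A ⊗_R M has exactly one rank-k locally free quotient: the zero
submodule has finite projective quotient of constant rank k, and every submodule with such a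
quotient is zero. In other words the Quot scheme of rank-k locally free quotients of M restricted to
that stratum maps isomorphically onto it. -/
theorem result (R : Type u) [CommRing R]
    (M : Type v) [AddCommGroup M] [Module R M] (k : ℕ)
    (A : Type u) [CommRing A] [Algebra R A] [Module.Finite A (A ⊗[R] M)] [Module.Projective A (A ⊗[R] M)]
    (hk : ∀ p : PrimeSpectrum A, Module.rankAtStalk (R := A) (A ⊗[R] M) p = k) :
    (∃ N : Module.Grassmannian A (A ⊗[R] M) k, N.toSubmodule = ⊥) ∧
      ∀ N : Module.Grassmannian A (A ⊗[R] M) k, N.toSubmodule = ⊥ := by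

  have e0 : ((A ⊗[R] M) ⧸ (⊥ : Submodule A (A ⊗[R] M))) ≃ₗ[A] (A ⊗[R] M) := Submodule.quotEquivOfEqBot _ rfl
  refine ⟨⟨{ toSubmodule := ⊥
             finite_quotient := inferInstance
             projective_quotient := Module.Projective.of_equiv e0.symm
             rankAtStalk_eq := fun p => by rw [Module.rankAtStalk_eq_of_equiv e0]; exact hk p }, rfl⟩, fun N => ?_⟩
  haveI := N.finite_quotient
  haveI := N.projective_quotient
  have hex : Function.Exact N.toSubmodule.subtype N.toSubmodule.mkQ := LinearMap.exact_subtype_mkQ _
  obtain ⟨s, hs⟩ := Module.projective_lifting_property N.toSubmodule.mkQ LinearMap.id (Submodule.mkQ_surjective _)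
  obtain ⟨e, -, -⟩ := hex.splitSurjectiveEquiv (Submodule.injective_subtype _) ⟨s, hs⟩
  haveI : Module.Finite A (N.toSubmodule × ((A ⊗[R] M) ⧸ N.toSubmodule)) := Module.Finite.equiv e
  haveI : Module.Projective A (N.toSubmodule × ((A ⊗[R] M) ⧸ N.toSubmodule)) := Module.Projective.of_equiv e
  haveI : Module.Projective A N.toSubmodule :=
    Module.Projective.of_split (LinearMap.inl A N.toSubmodule ((A ⊗[R] M) ⧸ N.toSubmodule))
      (LinearMap.fst A N.toSubmodule ((A ⊗[R] M) ⧸ N.toSubmodule)) (LinearMap.fst_comp_inl _ _ _)
  haveI : Module.Finite A N.toSubmodule :=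
    Module.Finite.of_surjective (LinearMap.fst A N.toSubmodule ((A ⊗[R] M) ⧸ N.toSubmodule)) LinearMap.fst_surjective
  have h0 : Module.rankAtStalk (R := A) N.toSubmodule = 0 := by
    funext p
    have h1 := congrFun (Module.rankAtStalk_eq_of_equiv (R := A) (M := A ⊗[R] M) (N := N.toSubmodule × ((A ⊗[R] M) ⧸ N.toSubmodule)) e) p
    rw [Module.rankAtStalk_prod, Pi.add_apply, hk p, N.rankAtStalk_eq p] at h1
    simpa using h1
  exact Submodule.subsingleton_iff_eq_bot.mp
    (Module.rankAtStalk_eq_zero_iff_subsingleton.mp h0)

end Groth.Agent.S14346
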