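import Groth.Statements.S14347
import Groth.Agent.S6889
import Groth.Agent.FittIdeal.Basic
import Mathlib
-- import your own Groth.Agent.* helpers here

set_option autoImplicit false
universe u
open QuotLF

namespace Groth.Agent.S14347

section Aux
open Matrix

theorem ideal_eq_minors {R : Type u} [CommRing R] {M : Type u} [AddCommGroup M] [Module R M]
    {n m : ℕ} (x : Fin n → M) (hx : Submodule.span R (Set.range x) = ⊤) (A : Matrix (Fin n) (Fin m) R)
    (hA : ∀ v : Fin n → R, ∑ i, v i • x i = 0 ↔ ∃ c, A *ᵥ c = v) (k : ℕ) :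
    Fitt.ideal R M k = Ideal.span {d | ∃ (e : Fin (n - k) → Fin n) (f : Fin (n - k) → Fin m),
      d = (A.submatrix e f).det} := by
  rw [Groth.Agent.S6889.result x hx k]
  refine le_antisymm (Ideal.span_le.2 ?_) (Ideal.span_mono ?_)
  · rintro _ ⟨z, e, hz, rfl⟩
    choose c hc using fun j => (hA (z j)).1 (hz j)
    rw [← Matrix.det_transpose]
    refine Ideal.span_le.2 ?_ (FittIdeal.det_mem_span (fun _ => Set.range fun l a => A (e a) l) _ fun b => ?_)
    · rintro _ ⟨B, hB, rfl⟩
      choose f hf using hB
      refine Ideal.subset_span ⟨e, f, ?_⟩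
      rw [← Matrix.det_transpose (A.submatrix e f)]
      congr 1
      ext b a
      exact (congrFun (hf b) a).symm
    · have h : (Matrix.of fun a b => z b (e a))ᵀ b = ∑ l, c b l • fun a => A (e a) l := by
        funext a
        simp [← hc b, Matrix.mulVec, dotProduct, mul_comm, Finset.sum_apply]
      rw [h]
      exact Submodule.sum_mem _ fun l _ => Submodule.smul_mem _ _ (Submodule.subset_span ⟨l, rfl⟩)
  · rintro _ ⟨e, f, rfl⟩
    refine ⟨fun b i => A i (f b), e, fun b => (hA _).2 ⟨Pi.single (f b) 1, ?_⟩, rfl⟩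
    funext i
    simp

end Aux

/-- Let R be a commutative ring and σ : R^m → R^n an injective linear map with cokernel M, so that M has
a length-one resolution by finite free modules and rank δ = n − m; let K be the cokernel of the dual
map (R^n)^∨ → (R^m)^∨, which is the module Ext¹_R(M, R). Then the Fitting ideals satisfy Fit_{δ +
j}(M) = Fit_j(K) for all j ≥ 0, and Fit_i(M) = 0 for i < δ (the degeneracy loci of M and of K agree
after the shift by δ). -/
theorem result (R : Type u) [CommRing R] (m n : ℕ)
    (σ : (Fin m → R) →ₗ[R] (Fin n → R)) (hσ : Function.Injective σ) :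
    (∀ j : ℕ, Fitt.ideal R ((Fin n → R) ⧸ LinearMap.range σ) (n - m + j) =
        Fitt.ideal R (Module.Dual R (Fin m → R) ⧸ LinearMap.range σ.dualMap) j) ∧
      ∀ i : ℕ, i < n - m → Fitt.ideal R ((Fin n → R) ⧸ LinearMap.range σ) i = ⊥ := by
  classical
  rcases subsingleton_or_nontrivial R with h | h
  · exact ⟨fun j => Subsingleton.elim _ _, fun i _ => Subsingleton.elim _ _⟩
  have hmn : m ≤ n := le_of_fin_injective R σ hσ
  let A := LinearMap.toMatrix' σ
  have hA : ∀ c, Matrix.mulVec A c = σ c := fun c => LinearMap.toMatrix'_mulVec σ c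
  let x : Fin n → (Fin n → R) ⧸ LinearMap.range σ := fun i => Submodule.Quotient.mk (Pi.single i 1)
  have hsum : ∀ v : Fin n → R, ∑ i, v i • x i = Submodule.Quotient.mk v := fun v => by
    conv_rhs => rw [pi_eq_sum_univ' v]
    simp only [x, ← Submodule.mkQ_apply, map_sum, map_smul]
  have hx : Submodule.span R (Set.range x) = ⊤ := by
    rw [eq_top_iff]
    rintro q -
    obtain ⟨v, rfl⟩ := Submodule.Quotient.mk_surjective _ q
    rw [← hsum]
    exact Submodule.sum_mem _ fun i _ => Submodule.smul_mem _ _ (Submodule.subset_span ⟨i, rfl⟩)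
  have hM := ideal_eq_minors x hx A fun v => by
    rw [hsum, Submodule.Quotient.mk_eq_zero, LinearMap.mem_range]
    simp only [hA]
  let y : Fin m → Module.Dual R (Fin m → R) ⧸ LinearMap.range σ.dualMap := fun i => Submodule.Quotient.mk (LinearMap.proj i)
  have hysum : ∀ v : Fin m → R, ∑ i, v i • y i = Submodule.Quotient.mk (∑ i, v i • LinearMap.proj i) := fun v => by
    simp only [y, ← Submodule.mkQ_apply, map_sum, map_smul]
  have hexp : ∀ (k : ℕ) (w : Module.Dual R (Fin k → R)) (c : Fin k → R), w c = ∑ i, c i * w (Pi.single i 1) := fun k w c => by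
    conv_lhs => rw [pi_eq_sum_univ' c]
    simp
  have hy : Submodule.span R (Set.range y) = ⊤ := by
    rw [eq_top_iff]
    rintro q -
    obtain ⟨w, rfl⟩ := Submodule.Quotient.mk_surjective _ q
    have hw : w = ∑ i, w (Pi.single i 1) • LinearMap.proj i := by
      refine LinearMap.ext fun c => ?_
      rw [hexp m w c]
      simp [mul_comm]
    rw [hw, ← hysum]
    exact Submodule.sum_mem _ fun i _ => Submodule.smul_mem _ _ (Submodule.subset_span ⟨i, rfl⟩)
  have hK := ideal_eq_minors y hy A.transpose fun v => by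
    rw [hysum, Submodule.Quotient.mk_eq_zero, LinearMap.mem_range]
    constructor
    · rintro ⟨w, hw⟩
      refine ⟨fun i => w (Pi.single i 1), funext fun l => ?_⟩
      have := LinearMap.congr_fun hw (Pi.single l 1)
      rw [LinearMap.dualMap_apply, hexp n w] at this
      simp [Pi.single_apply] at this
      rw [← this]
      simp [A, Matrix.mulVec, dotProduct, LinearMap.toMatrix'_apply, mul_comm, Pi.single_apply]
    · rintro ⟨u, rfl⟩
      refine ⟨∑ i, u i • LinearMap.proj i, LinearMap.ext fun c => ?_⟩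
      rw [LinearMap.dualMap_apply, ← hA]
      simp [Matrix.mulVec, dotProduct, Finset.mul_sum, Finset.sum_mul]
      rw [Finset.sum_comm]
      exact Finset.sum_congr rfl fun _ _ => Finset.sum_congr rfl fun _ _ => by ring
  refine ⟨fun j => ?_, fun i hi => ?_⟩
  · rw [hM, hK, show n - (n - m + j) = m - j by omega]
    congr 1
    ext d
    refine ⟨fun ⟨e, f, h⟩ => ⟨f, e, ?_⟩, fun ⟨e, f, h⟩ => ⟨f, e, ?_⟩⟩
    · rw [h, ← Matrix.det_transpose]; rfl
    · rw [h, ← Matrix.det_transpose]; rfl
  · rw [hM, Ideal.span_eq_bot]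
    rintro _ ⟨e, f, rfl⟩
    obtain ⟨p, q, hpq, hf⟩ := Fintype.exists_ne_map_eq_of_card_lt f (by simp; omega)
    exact Matrix.det_zero_of_column_eq hpq (fun a => by simp [hf])

end Groth.Agent.S14347
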