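import Groth.Statements.S1435
-- import your own Groth.Agent.* helpers here

set_option autoImplicit false
universe u
open FlatMor

namespace Groth.Agent.S1435

section Aux
open AlgebraicGeometry CategoryTheory TopologicalSpace

theorem qcqs_of_strat {X : Scheme.{u}} {n : ℕ} (h : MoreMor.HasAffineStratification X n) :
    CompactSpace X ∧ QuasiSeparatedSpace X := by
  obtain ⟨s, -, hs⟩ := h
  choose Z ι hi hZ hι hr using hs
  have hcov : ∀ A : Set X, A = ⋃ i, ι i '' (ι i ⁻¹' A) := fun A => by
    ext x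
    constructor
    · intro hx
      obtain ⟨z, hz⟩ := (hr (s x)).ge (show x ∈ {y : X | s y = s x} from rfl)
      exact Set.mem_iUnion.mpr ⟨s x, z, by simpa [hz] using hx, hz⟩
    · simp only [Set.mem_iUnion]; rintro ⟨i, z, hz, rfl⟩; exact hz
  constructor
  · refine ⟨?_⟩
    rw [hcov Set.univ]
    exact isCompact_iUnion fun i => by
      have := hZ i
      rw [Set.preimage_univ]; exact isCompact_univ.image (ι i).continuous
  · rw [quasiSeparatedSpace_iff_forall_affineOpens]
    intro U V
    rw [hcov (U ∩ V : Set X)]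
    refine isCompact_iUnion fun i => ?_
    have := hZ i; have := hι i
    refine IsCompact.image ?_ (ι i).continuous
    exact QuasiSeparatedSpace.inter_isCompact _ _ (ι i ⁻¹ᵁ U.1).isOpen (U.2.preimage (ι i)).isCompact
      (ι i ⁻¹ᵁ V.1).isOpen (V.2.preimage (ι i)).isCompact

theorem exists_strat {X : Scheme.{u}} [CompactSpace X] [QuasiSeparatedSpace X] :
    ∃ n, MoreMor.HasAffineStratification X n := by
  classical
  obtain ⟨S, hSsub, hSfin, hS⟩ := X.isBasis_affineOpens.exists_finite_of_isCompact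
    (U := (⊤ : X.Opens)) isCompact_univ
  have := hSfin.to_subtype
  have := Fintype.ofFinite S
  let U : S → X.Opens := fun i => i.1
  have hU : ∀ i, IsAffineOpen (U i) := fun i => hSsub i.2
  have hcov : ∀ x : X, ∃ i, x ∈ U i := fun x => by
    have : x ∈ sSup S := hS ▸ trivial
    obtain ⟨V, hV, hx⟩ := Opens.mem_sSup.mp this
    exact ⟨⟨V, hV⟩, hx⟩
  have hJ : ∀ J : Finset S, IsCompact ((J.inf U : X.Opens) : Set X) := fun J => by
    induction J using Finset.induction with
    | empty => simpa using isCompact_univ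
    | insert a s ha ih =>
      rw [Finset.inf_insert]
      exact QuasiSeparatedSpace.inter_isCompact _ _ (U a).isOpen (hU a).isCompact
        (s.inf U).isOpen ih
  choose T hTsub hTfin hT using fun J => X.isBasis_affineOpens.exists_finite_of_isCompact (hJ J)
  have : ∀ J, Finite (T J) := fun J => (hTfin J).to_subtype
  let P := Σ J : Finset S, T J
  have : Finite P := inferInstance
  have := Fintype.ofFinite P
  let O : P → X.Opens := fun p => p.2.1
  have hO : ∀ p, IsAffineOpen (O p) := fun p => hTsub p.1 p.2.2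
  let N := Fintype.card P
  let e : P → ℕ := fun p => p.1.card * (N + 1) + (Fintype.equivFin P p : ℕ)
  have hlt : ∀ p q : P, p.1.card < q.1.card → e p < e q := fun p q h => by
    have : (Fintype.equivFin P p : ℕ) < N + 1 := (Fintype.equivFin P p).2.trans (Nat.lt_succ_self _)
    have h2 : (p.1.card + 1) * (N + 1) ≤ q.1.card * (N + 1) := Nat.mul_le_mul_right _ h
    simp only [e]; nlinarith
  have hinj : Function.Injective e := fun p q h => by
    rcases lt_trichotomy p.1.card q.1.card with h1 | h1 | h1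
    · exact absurd h (hlt p q h1).ne
    · simp only [e, h1, add_right_inj] at h
      exact (Fintype.equivFin P).injective (Fin.ext h)
    · exact absurd h (hlt q p h1).ne'
  let n := Finset.univ.sup (fun p => e p + 1)
  let r : X → ℕ := fun x => (Finset.univ.filter fun p => x ∈ O p).sup (fun p => e p + 1)
  have hrn : ∀ x, r x ≤ n := fun x => Finset.sup_mono (Finset.filter_subset _ _)
  have hcl : ∀ k : ℕ, IsClosed {x : X | r x ≤ k} := fun k => by
    have : {x : X | r x ≤ k} = ⋂ p ∈ {p : P | k < e p + 1}, ((O p : Set X))ᶜ := by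
      ext x
      simp only [r, Set.mem_ofPred_eq, Finset.sup_le_iff, Finset.mem_filter, Finset.mem_univ,
        true_and, Set.mem_iInter, Set.mem_compl_iff, SetLike.mem_coe]
      exact ⟨fun h p hp hx => absurd (h p hx) (not_le.mpr hp),
        fun h p hx => not_lt.mp fun hp => h p hp hx⟩
    rw [this]
    exact isClosed_biInter fun p _ => (O p).isOpen.isClosed_compl
  have hmem : ∀ (J : Finset S) x, x ∈ J.inf U → ∃ p : P, p.1 = J ∧ x ∈ O p := fun J x hx => by
    rw [hT J] at hx
    obtain ⟨V, hV, hxV⟩ := Opens.mem_sSup.mp hx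
    exact ⟨⟨J, V, hV⟩, rfl, hxV⟩
  refine ⟨n, fun x => ⟨r x, Nat.lt_succ_of_le (hrn x)⟩, fun i => hcl i, fun i => ?_⟩
  by_cases hne : ∃ x, r x = (i : ℕ)
  swap
  · refine ⟨Spec (CommRingCat.of PUnit.{u + 1}),
      (isInitialOfIsEmpty (X := Spec (CommRingCat.of PUnit.{u + 1}))).to X, inferInstance,
      inferInstance, ?_, ?_⟩
    · exact isAffineHom_of_forall_exists_isAffineOpen _ fun x => by
        obtain ⟨j, hj⟩ := hcov x
        refine ⟨U j, hj, hU j, ?_⟩
        have : IsEmpty (Spec (CommRingCat.of PUnit.{u + 1})) := inferInstance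
        convert isAffineOpen_bot (Spec (CommRingCat.of PUnit.{u + 1}))
        ext z; exact isEmptyElim z
    · ext x; simp only [Set.mem_range, Set.mem_ofPred_eq]
      exact ⟨fun ⟨z, _⟩ => isEmptyElim z, fun h => (hne ⟨x, congrArg Fin.val h⟩).elim⟩
  obtain ⟨x₀, hx₀⟩ := hne
  have hex : ∀ x : X, ∃ p, x ∈ O p ∧ r x = e p + 1 := fun x => by
    obtain ⟨j, hj⟩ := hcov x
    obtain ⟨p, -, hp⟩ := hmem {j} x (by simpa using hj)
    obtain ⟨q, hq, hq'⟩ := (Finset.univ.filter fun p => x ∈ O p).exists_mem_eq_sup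
      ⟨p, by simp [hp]⟩ (fun p => e p + 1)
    exact ⟨q, (Finset.mem_filter.mp hq).2, hq'⟩
  obtain ⟨p, hp0, hp⟩ := hex x₀
  rw [hx₀] at hp
  have key : ∀ x, r x = (i : ℕ) ↔ x ∈ O p ∧ r x ≤ (i : ℕ) := fun x => by
    constructor
    · intro hx
      obtain ⟨q, hq, hq'⟩ := hex x
      have : q = p := hinj (by omega)
      exact ⟨this ▸ hq, hx.le⟩
    · rintro ⟨hxp, hle⟩
      exact le_antisymm hle (hp.le.trans (Finset.le_sup (f := fun p => e p + 1)
        (Finset.mem_filter.mpr ⟨Finset.mem_univ _, hxp⟩)))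
  have hJp : ∀ x ∈ O p, x ∈ p.1.inf U := fun x hx => by
    rw [hT p.1]; exact Opens.mem_sSup.mpr ⟨_, p.2.2, hx⟩
  have hexact : ∀ x, r x = (i : ℕ) → ∀ j, x ∈ U j → j ∈ p.1 := by
    intro x hx j hj
    by_contra hjp
    obtain ⟨hxp, hle⟩ := (key x).mp hx
    obtain ⟨q, hq1, hq⟩ := hmem (insert j p.1) x (by
      rw [Finset.inf_insert]; exact ⟨hj, hJp x hxp⟩)
    have h1 : e q + 1 ≤ r x := Finset.le_sup (f := fun p => e p + 1)
      (Finset.mem_filter.mpr ⟨Finset.mem_univ _, hq⟩)
    have h2 := hlt p q (by rw [hq1, Finset.card_insert_of_notMem hjp]; omega)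
    omega
  let C : Closeds (O p : Scheme.{u}) :=
    ⟨(O p).ι ⁻¹' {x : X | r x ≤ (i : ℕ)}, (hcl i).preimage (O p).ι.continuous⟩
  let I := Scheme.IdealSheafData.vanishingIdeal C
  have : IsAffine (O p : Scheme.{u}) := hO p
  have : IsAffine I.subscheme := isAffine_of_isAffineHom I.subschemeι
  have hrange : Set.range (I.subschemeι ≫ (O p).ι) = {x : X | r x = (i : ℕ)} := by
    rw [Scheme.Hom.comp_base, TopCat.coe_comp, Set.range_comp,
      Scheme.IdealSheafData.range_subschemeι, Scheme.IdealSheafData.coe_support_vanishingIdeal]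
    ext x
    simp only [Set.mem_image, Set.mem_ofPred_eq, key]
    constructor
    · rintro ⟨z, hz, rfl⟩; exact ⟨z.2, hz⟩
    · rintro ⟨hxp, hle⟩; exact ⟨⟨x, hxp⟩, hle, rfl⟩
  refine ⟨I.subscheme, I.subschemeι ≫ (O p).ι, inferInstance, inferInstance, ?_, ?_⟩
  · refine isAffineHom_of_forall_exists_isAffineOpen _ fun x => ?_
    obtain ⟨j, hj⟩ := hcov x
    refine ⟨U j, hj, hU j, ?_⟩
    by_cases hjp : j ∈ p.1
    · convert isAffineOpen_top I.subscheme
      refine eq_top_iff.mpr fun z _ => ?_
      have := hrange.le ⟨z, rfl⟩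
      exact (Finset.inf_le hjp : p.1.inf U ≤ U j) (hJp _ ((key _).mp this).1)
    · convert isAffineOpen_bot I.subscheme
      refine eq_bot_iff.mpr fun z hz => ?_
      exact absurd (hexact _ (hrange.le ⟨z, rfl⟩) j hz) hjp
  · rw [hrange]; ext x; exact ⟨fun h => Fin.ext h, fun h => congrArg Fin.val h⟩

end Aux

open AlgebraicGeometry CategoryTheory Limits in
/-- A scheme has a finite affine stratification if and only if it is quasi-compact and quasi-separated. -/
theorem result (X : Scheme.{u}) :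
    (∃ n : ℕ, MoreMor.HasAffineStratification X n) ↔ CompactSpace ↑X ∧ QuasiSeparatedSpace ↑X := by
  constructor
  · rintro ⟨n, h⟩; exact qcqs_of_strat h
  · rintro ⟨hc, hq⟩; exact exists_strat

end Groth.Agent.S1435
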