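import Groth.Statements.S14351
import Groth.Agent.SourceDescent.Basic
-- import your own Groth.Agent.* helpers here

set_option autoImplicit false
set_option backward.isDefEq.respectTransparency.types false
universe u
open CAlg

namespace Groth.Agent.S14351

/-- For ring maps A → B → C with C faithfully flat over B and C faithfully flat over A, the ring B is
faithfully flat over A. -/
theorem result (A B C : Type u) [CommRing A] [CommRing B]
    [CommRing C] [Algebra A B] [Algebra B C] [Algebra A C] [IsScalarTower A B C]
    [Module.FaithfullyFlat B C] [Module.FaithfullyFlat A C] : Module.FaithfullyFlat A B := by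
  have : Module.Flat A B := Groth.Agent.SourceDescent.flat_of_faithfullyFlat A B C
  refine Module.FaithfullyFlat.of_comap_surjective fun p => ?_
  obtain ⟨c, hc⟩ := PrimeSpectrum.comap_surjective_of_faithfullyFlat (B := C) p
  refine ⟨PrimeSpectrum.comap (algebraMap B C) c, ?_⟩
  rw [← hc, IsScalarTower.algebraMap_eq A B C]
  rfl

end Groth.Agent.S14351
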