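import Groth.Statements.S14352
import Groth.Agent.FibrewiseCrit.EtaleOrder
import Mathlib.AlgebraicGeometry.Artinian
import Mathlib.AlgebraicGeometry.Morphisms.LocalFlatDescent
import Mathlib.RingTheory.Unramified.Field
-- import your own Groth.Agent.* helpers here

set_option autoImplicit false
set_option backward.isDefEq.respectTransparency.types false
universe u
open Mor

namespace Groth.Agent.S14352
open CategoryTheory CategoryTheory.Limits AlgebraicGeometry

theorem lqf {X Y : Scheme.{u}} (f : X ⟶ Y) [LocallyOfFiniteType f]
    [FormallyUnramified f] : LocallyQuasiFinite f := by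
  rw [HasRingHomProperty.iff_appLE (P := @LocallyQuasiFinite)]
  intro U V e
  have h₁ : (f.appLE U V e).hom.FiniteType := HasRingHomProperty.appLE (P := @LocallyOfFiniteType) f ‹_› U V e
  have h₂ : (f.appLE U V e).hom.FormallyUnramified :=
    HasRingHomProperty.appLE (P := @FormallyUnramified) f ‹_› U V e
  algebraize [(f.appLE U V e).hom]
  exact { finite_fiber := fun P _ => Algebra.FormallyUnramified.finite_of_free P.ResidueField _ }

theorem discrete_of_formallyUnramified {K : Type u} [Field K] {U : Scheme.{u}} (c : U ⟶ Spec (CommRingCat.of K))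
    [LocallyOfFiniteType c] [FormallyUnramified c] : DiscreteTopology U := by
  have : LocallyQuasiFinite c := lqf c
  have : IsLocallyArtinian U := IsLocallyArtinian.of_locallyQuasiFinite c
  infer_instance

theorem isReduced_of_formallyUnramified {K : Type u} [Field K] {U : Scheme.{u}} (c : U ⟶ Spec (CommRingCat.of K))
    [LocallyOfFiniteType c] [FormallyUnramified c] : IsReduced U := by
  refine @AlgebraicGeometry.IsReduced.of_openCover U U.affineOpenCover.openCover fun i => ?_
  obtain ⟨φ, hφ⟩ := Spec.map_surjective (U.affineOpenCover.f i ≫ c)
  haveI : FormallyUnramified (U.affineOpenCover.f i ≫ c) := MorphismProperty.comp_mem _ _ _ inferInstance ‹_›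
  haveI : LocallyOfFiniteType (U.affineOpenCover.f i ≫ c) := MorphismProperty.comp_mem _ _ _ inferInstance ‹_›
  change AlgebraicGeometry.IsReduced (Spec (U.affineOpenCover.X i))
  have hu : φ.hom.FormallyUnramified := by
    rw [← HasRingHomProperty.Spec_iff (P := @FormallyUnramified), hφ]; infer_instance
  have hft : φ.hom.FiniteType := by
    rw [← HasRingHomProperty.Spec_iff (P := @LocallyOfFiniteType), hφ]; infer_instance
  algebraize [φ.hom]
  haveI := Algebra.FormallyUnramified.isReduced_of_field K (U.affineOpenCover.X i)
  exact (affine_isReduced_iff _).mpr this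

theorem unramified_of_discrete {K : Type u} [Field K] [IsAlgClosed K] {X : Scheme.{u}}
    (q : X ⟶ Spec (CommRingCat.of K)) [LocallyOfFiniteType q] [IsReduced X] [DiscreteTopology X] :
    FormallyUnramified q := by
  let U : X → X.Opens := fun x => ⟨{x}, isOpen_discrete _⟩
  have hU : ⨆ x, U x = ⊤ := top_le_iff.mp fun x _ => TopologicalSpace.Opens.mem_iSup.mpr ⟨x, rfl⟩
  rw [IsZariskiLocalAtSource.iff_of_iSup_eq_top (P := @FormallyUnramified) U hU]
  intro x
  haveI : Subsingleton (U x).toScheme := inferInstanceAs (Subsingleton ({x} : Set X))
  haveI : Nonempty (U x).toScheme := ⟨⟨x, rfl⟩⟩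
  haveI : IsReduced (U x).toScheme := isReduced_of_isOpenImmersion (U x).ι
  haveI : IsIntegral (U x).toScheme := (isIntegral_iff_irreducibleSpace_and_isReduced _).mpr
    ⟨⟨inferInstance⟩, inferInstance⟩
  haveI : IsArtinianScheme (U x).toScheme := inferInstance
  haveI : IsAffine (U x).toScheme := inferInstance
  letI : Field Γ((U x).toScheme, ⊤) := (isField_of_isIntegral_of_subsingleton (U x).toScheme).toField
  let φ := (Scheme.ΓSpecIso (CommRingCat.of K)).inv ≫ ((U x).ι ≫ q).appTop
  have hft : φ.hom.FiniteType := by
    refine RingHom.FiniteType.comp ((HasRingHomProperty.iff_of_isAffine (P := @LocallyOfFiniteType)).mp inferInstance)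
      (RingHom.FiniteType.of_surjective _ (ConcreteCategory.bijective_of_isIso (Scheme.ΓSpecIso (CommRingCat.of K)).inv).2)
  algebraize [φ.hom]
  haveI : Module.Finite K Γ((U x).toScheme, ⊤) := finite_of_finite_type_of_isJacobsonRing _ _
  have hb : Function.Bijective φ.hom := IsAlgClosed.algebraMap_bijective_of_isIntegral (k := K)
  rw [HasRingHomProperty.iff_of_isAffine (P := @FormallyUnramified)]
  have hs : Function.Surjective ((U x).ι ≫ q).appTop.hom := fun y => by
    obtain ⟨a, ha⟩ := hb.2 y
    exact ⟨_, ha⟩
  exact RingHom.FormallyUnramified.of_surjective hs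

open CategoryTheory CategoryTheory.Limits AlgebraicGeometry in
/-- A morphism of schemes f : X → S which is locally of finite presentation is unramified (formally
unramified) if and only if all its geometric fibres are reduced with discrete underlying space: for
every algebraically closed field K and every S-point Spec K → S, the fibre product X ×_S Spec K is a
reduced scheme whose topological space is discrete. -/
theorem result {X S : Scheme.{u}} (f : X ⟶ S)
    [LocallyOfFinitePresentation f] :
    FormallyUnramified f ↔
      ∀ (K : Type u) [Field K] [IsAlgClosed K] (s : Spec (CommRingCat.of K) ⟶ S),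
        IsReduced (pullback f s) ∧ DiscreteTopology ↥(pullback f s) := by
  constructor
  · intro hf K _ _ s
    haveI := hf
    haveI : FormallyUnramified (pullback.snd f s) := MorphismProperty.pullback_snd _ _ hf
    exact ⟨isReduced_of_formallyUnramified (pullback.snd f s), discrete_of_formallyUnramified (pullback.snd f s)⟩
  · intro h
    refine Groth.FibrewiseCrit.formallyUnramified_of_fiberToSpecResidueField f fun y => ?_
    let K := AlgebraicClosure (S.residueField y)
    let g : Spec (CommRingCat.of K) ⟶ Spec (S.residueField y) :=
      Spec.map (CommRingCat.ofHom (algebraMap (S.residueField y) K))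
    obtain ⟨hr, hd⟩ := h K (g ≫ S.fromSpecResidueField y)
    let Q := pullback.snd (f.fiberToSpecResidueField y) g
    have hbig := (IsPullback.of_hasPullback (f.fiberToSpecResidueField y) g).paste_horiz
      (IsPullback.of_hasPullback f (S.fromSpecResidueField y))
    haveI : IsReduced (pullback (f.fiberToSpecResidueField y) g) := isReduced_of_isOpenImmersion hbig.isoPullback.hom
    haveI : DiscreteTopology ↥(pullback (f.fiberToSpecResidueField y) g) := hbig.isoPullback.hom.isOpenEmbedding.discreteTopology
    haveI : LocallyOfFiniteType (f.fiberToSpecResidueField y) := inferInstanceAs (LocallyOfFiniteType (pullback.snd f _))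
    have hu : FormallyUnramified Q := unramified_of_discrete Q
    haveI hq : Flat g := by
      rw [HasRingHomProperty.Spec_iff (P := @Flat)]
      exact RingHom.flat_algebraMap_iff.mpr inferInstance
    haveI : Surjective g := ⟨fun p => ⟨IsLocalRing.closedPoint K, Subsingleton.elim _ _⟩⟩
    exact MorphismProperty.of_pullback_snd_of_descendsAlong (P := @FormallyUnramified)
      (Q := @Surjective ⊓ @Flat ⊓ @QuasiCompact) ⟨⟨inferInstance, hq⟩, inferInstance⟩ hu

end Groth.Agent.S14352
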