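import Groth.Statements.S14354
import Groth.Agent.QCohLib.Coherent
import Groth.Agent.QCohLib.StalkLoc
import Groth.Agent.QCohLib.Cover

set_option autoImplicit false
set_option linter.style.haveILetI false
set_option backward.isDefEq.respectTransparency false
universe u
open CategoryTheory CategoryTheory.Limits AlgebraicGeometry Opposite
open Coh Groth.Agent

namespace Groth.Agent.S14354

/-- Let X be a locally Noetherian scheme and (G_e)_{e ∈ ℕ} an inverse system of coherent O_X-modules
satisfying the Mittag-Leffler condition, in the sense that for every e the image subobject of G_d ⟶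
G_e is the same for all sufficiently large d. Then for every e the support of the image of the
canonical map lim_d G_d ⟶ G_e is closed in X. (The published statement is the case where G_e is the
i-th cohomology sheaf of the Fourier–Mukai transform of the e-th member of a Mittag-Leffler inverse
system of coherent modules on an abelian variety; the argument uses only the coherence of the G_e
and their Mittag-Leffler condition, which is the form stated here.) -/
theorem result (X : Scheme.{u}) [IsLocallyNoetherian X]
    (G : ℕᵒᵖ ⥤ X.Modules) (hG : ∀ n : ℕᵒᵖ, Coh.IsCoh (G.obj n))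
    (hML : ∀ e : ℕ, ∃ (d : ℕ) (hd : e ≤ d), ∀ (d' : ℕ) (hd' : d ≤ d'),
      imageSubobject (G.map (homOfLE (hd.trans hd')).op) = imageSubobject (G.map (homOfLE hd).op))
    (e : ℕ) : IsClosed (CohB1.support (image (limit.π G (op e)))) := by
  classical
  haveI : ∀ n, (G.obj n).IsQuasicoherent := fun n => (hG n).1
  let g : ∀ {a b : ℕ}, a ≤ b → (G.obj (op b) ⟶ G.obj (op a)) := fun h => G.map (homOfLE h).op
  have gc : ∀ {a b c : ℕ} (h : a ≤ b) (h' : b ≤ c), g h' ≫ g h = g (h.trans h') := fun h h' =>
    (G.map_comp _ _).symm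
  have happ : ∀ {A B C : X.Modules} (φ : A ⟶ B) (χ : B ⟶ C) (U : X.Opens) (s : Γ(A, U)),
      (φ ≫ χ).app U s = χ.app U (φ.app U s) := fun _ _ _ _ => rfl
  choose d hd hst using hML
  have hlift : ∀ (n : ℕ) {U : X.Opens}, IsAffineOpen U → ∀ (D : ℕ) (hD : d n ≤ D) (t : Γ(G.obj (op (d n)), U)),
      ∃ w : Γ(G.obj (op D), U), (g ((hd n).trans hD)).app U w = (g (hd n)).app U t := by
    intro n U hU D hD t
    have heq := hst n D hD
    have hF : (imageSubobject (g ((hd n).trans hD))).Factors (g (hd n)) := by
      rw [show imageSubobject (g ((hd n).trans hD)) = imageSubobject (g (hd n)) from heq]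
      exact Subobject.factors_of_factors_right (f := 𝟙 _) (g := g (hd n))
        ((imageSubobject (g (hd n))).factors_iff _ |>.mpr ⟨factorThruImageSubobject _, imageSubobject_arrow_comp _⟩) |> (fun h => by simpa using h)
    let P := imageSubobject (g ((hd n).trans hD))
    let iP : (Abelian.image (g ((hd n).trans hD))) ≅ (P : X.Modules) :=
      Abelian.imageIsoImage _ ≪≫ (imageSubobjectIso _).symm
    haveI := QCohLib.isQuasicoherent_image (g ((hd n).trans hD))
    haveI : (P : X.Modules).IsQuasicoherent := QCohLib.isQuasicoherent_of_iso iP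
    obtain ⟨w, hw⟩ := QCohLib.app_surjective_of_epi (factorThruImageSubobject (g ((hd n).trans hD))) hU
      ((P.factorThru (g (hd n)) hF).app U t)
    refine ⟨w, ?_⟩
    have e1 := congr($(congr(Scheme.Modules.Hom.app $(imageSubobject_arrow_comp (g ((hd n).trans hD))) U)) w)
    have e2 := congr($(congr(Scheme.Modules.Hom.app $(P.factorThru_arrow (g (hd n)) hF) U)) t)
    exact e1.symm.trans ((congrArg (P.arrow.app U) hw).trans e2)
  let J := Abelian.image (g (hd e))
  let ψ : limit G ⟶ J := limit.π G (op (d e)) ≫ Abelian.factorThruImage (g (hd e))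
  have hψ : ψ ≫ Abelian.image.ι (g (hd e)) = limit.π G (op e) := by
    simp only [ψ, Category.assoc, kernel.lift_ι]
    exact limit.w G (homOfLE (hd e)).op
  haveI := QCohLib.isQuasicoherent_image (g (hd e))
  haveI : Epi ψ := by
    refine QCohLib.epi_of_affine_surjective _ fun U z => ?_
    obtain ⟨t, ht⟩ := QCohLib.app_surjective_of_epi (Abelian.factorThruImage (g (hd e))) U.2 z
    let S : ℕ → Type u := fun k => {s : Γ(G.obj (op (e + k)), U.1) //
      ∃ t, (g (hd (e + k))).app U.1 t = s}
    have step : ∀ (k : ℕ) (s : S k), ∃ s' : S (k + 1), (g (Nat.le_succ (e + k))).app U.1 s'.1 = s.1 := by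
      rintro k ⟨s, t, rfl⟩
      obtain ⟨w, hw⟩ := hlift (e + k) U.2 (d (e + k) + d (e + (k + 1))) (Nat.le_add_right _ _) t
      have h1 : e + (k + 1) ≤ d (e + (k + 1)) := hd _
      have h2 : d (e + (k + 1)) ≤ d (e + k) + d (e + (k + 1)) := Nat.le_add_left _ _
      refine ⟨⟨(g h1).app U.1 ((g h2).app U.1 w), _, rfl⟩, ?_⟩
      refine Eq.trans ?_ hw
      show (g (Nat.le_succ (e + k))).app U.1 ((g h1).app U.1 ((g h2).app U.1 w)) = _
      rw [← happ, gc]
      refine (happ _ _ _ _).symm.trans ?_
      rw [gc]
    choose nxt hnxt using step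
    let seq : ∀ k, S k := fun k => Nat.rec ⟨(g (hd e)).app U.1 t, t, rfl⟩ (fun k s => nxt k s) k
    have hseq : ∀ (k l : ℕ) (hkl : e + k ≤ e + l), (g hkl).app U.1 (seq l).1 = (seq k).1 := by
      intro k l hkl
      induction l with
      | zero =>
        obtain rfl : k = 0 := by omega
        simp [g]
      | succ l ih =>
        by_cases hk : k = l + 1
        · subst hk; simp [g]
        · rw [← gc (show e + k ≤ e + l by omega) (Nat.le_succ (e + l)), happ]
          exact (congrArg _ (hnxt l (seq l))).trans (ih _)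
    haveI : PreservesLimitsOfSize.{u, u} (SheafOfModules.forget X.ringCatSheaf ⋙ PresheafOfModules.toPresheaf X.ringCatSheaf.obj) :=
      inferInstance
    haveI : PreservesLimitsOfSize.{u, u} (Scheme.Modules.toPresheaf X) :=
      inferInstanceAs (PreservesLimitsOfSize.{u, u} (SheafOfModules.forget X.ringCatSheaf ⋙ PresheafOfModules.toPresheaf X.ringCatSheaf.obj))
    haveI : PreservesLimitsOfSize.{0, 0} (Scheme.Modules.toPresheaf X) :=
      preservesSmallestLimits_of_preservesLimits _
    let Φ := Scheme.Modules.toPresheaf X ⋙ (evaluation _ _).obj (op U.1) ⋙ forget AddCommGrpCat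
    haveI : PreservesLimitsOfSize.{0, 0} (forget AddCommGrpCat.{u}) :=
      preservesSmallestLimits_of_preservesLimits _
    haveI : PreservesLimitsOfShape ℕᵒᵖ (Scheme.Modules.toPresheaf X) := inferInstance
    haveI : PreservesLimitsOfShape ℕᵒᵖ ((evaluation X.Opensᵒᵖ AddCommGrpCat.{u}).obj (op U.1)) := inferInstance
    haveI : PreservesLimitsOfShape ℕᵒᵖ (forget AddCommGrpCat.{u}) := inferInstance
    haveI : PreservesLimit G Φ := by dsimp only [Φ]; infer_instance
    obtain ⟨x, hx⟩ : ∃ x : Φ.obj (limit G), ∀ m : ℕ,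
        (limit.π G (op m)).app U.1 x = (g (Nat.le_add_left m e)).app U.1 (seq m).1 := by
      let eqv := Types.isLimitEquivSections (isLimitOfPreserves Φ (limit.isLimit G))
      let sec : (G ⋙ Φ).sections := ⟨fun m => (g (Nat.le_add_left m.unop e)).app U.1 (seq m.unop).1, by
        rintro ⟨b⟩ ⟨a⟩ f
        have hab : a ≤ b := leOfHom f.unop
        show (G.map f).app U.1 ((g (Nat.le_add_left b e)).app U.1 (seq b).1) = (g (Nat.le_add_left a e)).app U.1 (seq a).1
        rw [show G.map f = g hab from rfl, ← hseq a b (by omega), ← happ,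
          ← happ, gc, gc]⟩
      exact ⟨eqv.symm sec, fun m => Types.isLimitEquivSections_symm_apply (isLimitOfPreserves Φ (limit.isLimit G)) sec (op m)⟩
    refine ⟨x, ?_⟩
    have hinj := (QCohLib.mono_iff_app_injective (Abelian.image.ι (g (hd e)))).mp inferInstance U.1
    refine hinj ?_
    rw [← happ, hψ, hx e]
    have : (Abelian.image.ι (g (hd e))).app U.1 z = (g (hd e)).app U.1 t := by
      rw [← ht, ← happ, kernel.lift_ι]
    rw [this]
    exact hseq 0 e (Nat.le_add_left _ _)
  have hJ : Coh.IsCoh J := QCohLib.isCoh_image (g (hd e)) (hG _).1 (hG _)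
  haveI : StrongEpi ψ := strongEpi_of_epi ψ
  let i := image.isoStrongEpiMono ψ (Abelian.image.ι (g (hd e))) hψ
  have hc := QCohLib.isCoh_of_iso i hJ
  haveI := hc.1
  exact QCohLib.isClosed_support hc.2
end Groth.Agent.S14354
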