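import Mathlib
import Groth.Statements.S14357
-- import your own Groth.Agent.* helpers here

set_option autoImplicit false
universe u
open AlgebraicGeometry
open Proj

namespace Groth.Agent.S14357

open CategoryTheory

/-- For a field k the projective line over k is not an affine scheme. (The projective line is taken here
as Proj of the polynomial ring in two variables over k with its standard grading; the book builds it
by gluing two affine lines and identifies the two constructions later.) -/
theorem result (k : Type u) [Field k] :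
    ¬ IsAffine (CohB1.ProjSpace 1 k) := by
  intro h
  haveI := h
  have hproper : IsProper (CohB1.ProjSpace.toSpec 1 k) := by
    have h0 : (algebraMap (CohB1.polyGrading 1 k 0) (MvPolynomial (Fin (1 + 1)) k)).comp
        (algebraMap k (CohB1.polyGrading 1 k 0)) = algebraMap k (MvPolynomial (Fin (1 + 1)) k) := rfl
    have : Algebra.FiniteType (CohB1.polyGrading 1 k 0) (MvPolynomial (Fin (1 + 1)) k) :=
      RingHom.finiteType_algebraMap.mp (RingHom.FiniteType.of_comp_finiteType
        (f := algebraMap k (CohB1.polyGrading 1 k 0))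
        (by rw [h0]; exact RingHom.finiteType_algebraMap.mpr inferInstance))
    have hs : Function.Surjective (algebraMap k (CohB1.polyGrading 1 k 0)) := by
      rintro ⟨f, hf⟩
      refine ⟨MvPolynomial.coeff 0 f, Subtype.ext ?_⟩
      exact (MvPolynomial.totalDegree_eq_zero_iff_eq_C.mp
        (Nat.le_zero.mp (MvPolynomial.IsHomogeneous.totalDegree_le hf))).symm
    have : IsClosedImmersion (Spec.map (CommRingCat.ofHom (algebraMap k (CohB1.polyGrading 1 k 0)))) :=
      IsClosedImmersion.spec_of_surjective _ hs
    unfold CohB1.ProjSpace.toSpec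
    exact MorphismProperty.comp_mem @IsProper _ _
      (inferInstanceAs (IsProper (Proj.toSpecZero (CohB1.polyGrading 1 k)))) inferInstance
  haveI : IsFinite (CohB1.ProjSpace.toSpec 1 k) := (IsFinite.iff_isProper_and_isAffineHom).mpr ⟨hproper, inferInstance⟩
  haveI hart : IsLocallyArtinian (CohB1.ProjSpace 1 k) := IsLocallyArtinian.of_locallyQuasiFinite (CohB1.ProjSpace.toSpec 1 k)
  have hd : DiscreteTopology (CohB1.ProjSpace 1 k) := inferInstance
  haveI hd' : DiscreteTopology (ProjectiveSpectrum (CohB1.polyGrading 1 k)) := hd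
  let A := MvPolynomial (Fin (1 + 1)) k
  have hX1 : ∀ (I : HomogeneousIdeal (CohB1.polyGrading 1 k)), (MvPolynomial.X 1 : A) ∉ I.toIdeal →
      ¬ HomogeneousIdeal.irrelevant (CohB1.polyGrading 1 k) ≤ I := by
    intro I hI hle
    refine hI (hle ?_)
    rw [HomogeneousIdeal.mem_irrelevant_iff, GradedRing.proj_apply,
      DirectSum.decompose_of_mem_ne _ (MvPolynomial.isHomogeneous_X k (1 : Fin (1 + 1))) one_ne_zero]
  have hhom : (Ideal.span {(MvPolynomial.X 0 : A)}).IsHomogeneous (CohB1.polyGrading 1 k) :=
    Ideal.homogeneous_span _ _ (by rintro x (rfl : x = _); exact ⟨1, MvPolynomial.isHomogeneous_X k 0⟩)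
  have hprime : (Ideal.span {(MvPolynomial.X 0 : A)}).IsPrime := by
    rw [Ideal.span_singleton_prime (MvPolynomial.X_ne_zero _)]
    exact MvPolynomial.X_prime
  have hn : (MvPolynomial.X 1 : A) ∉ Ideal.span {(MvPolynomial.X 0 : A)} := by
    rw [Ideal.mem_span_singleton, MvPolynomial.X_dvd_X]; decide
  let y : ProjectiveSpectrum (CohB1.polyGrading 1 k) := ⟨⟨_, hhom⟩, hprime, hX1 _ hn⟩
  let x : ProjectiveSpectrum (CohB1.polyGrading 1 k) := ⟨⊥, by rw [HomogeneousIdeal.toIdeal_bot]; exact Ideal.isPrime_bot,
    hX1 _ (by rw [HomogeneousIdeal.toIdeal_bot, Ideal.mem_bot]; exact MvPolynomial.X_ne_zero _)⟩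
  have hxy : x ≤ y := (ProjectiveSpectrum.as_ideal_le_as_ideal _ x y).mp bot_le
  have := (ProjectiveSpectrum.le_iff_mem_closure _ x y).mp hxy
  rw [(isClosed_discrete _).closure_eq, Set.mem_singleton_iff] at this
  have h0 : (MvPolynomial.X 0 : A) ∈ y.asHomogeneousIdeal.toIdeal := Ideal.mem_span_singleton_self _
  rw [this] at h0
  exact MvPolynomial.X_ne_zero (R := k) (0 : Fin (1 + 1)) (by simpa [x] using h0)

end Groth.Agent.S14357
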