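import Groth.Statements.S14361
import Mathlib
import Groth.Agent.S14362
-- import your own Groth.Agent.* helpers here

set_option autoImplicit false
universe u
open AlgebraicGeometry
open SchImage

namespace Groth.Agent.S14361

/-- Let π : X → Y be a morphism of schemes with X reduced. Then the scheme-theoretic image of π is
computed affine-locally: on every affine open U of Y, the ideal of the kernel ideal sheaf of π (the
largest quasi-coherent ideal sheaf contained in the componentwise kernels) equals the ideal of those
sections over U which pull back to zero on π⁻¹(U). (The published statement allows, as an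
alternative to X being reduced, that π be quasi-compact; this row is the reduced case and assumes no
quasi-compactness.) -/
theorem result (X Y : Scheme.{u}) [IsReduced X]
    (π : X ⟶ Y) (U : Y.affineOpens) :
    π.ker.ideal U = RingHom.ker (π.app U).hom := by
  refine le_antisymm (Scheme.Hom.ideal_ker_le π U) fun x hx => S14362.vanishingIdeal_le_ker π U ?_
  rw [Scheme.IdealSheafData.vanishingIdeal_ideal, PrimeSpectrum.mem_vanishingIdeal]
  intro p hp
  by_contra h
  have h2 : p ∈ U.2.fromSpec ⁻¹ᵁ Y.basicOpen x := by
    exact ((show IsAffineOpen U.1 from U.2).fromSpec_preimage_basicOpen x).ge h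
  obtain ⟨y, hy, z, rfl⟩ := mem_closure_iff.mp hp (Y.basicOpen x) (Y.basicOpen x).2 h2
  have hz : z ∈ π ⁻¹ᵁ Y.basicOpen x := hy
  rw [Scheme.preimage_basicOpen, show (π.app U.1).hom x = 0 from hx, Scheme.basicOpen_zero] at hz
  exact hz

end Groth.Agent.S14361
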