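import Groth.Statements.S14363
import Mathlib
-- import your own Groth.Agent.* helpers here

set_option autoImplicit false
universe u
open CAlg

namespace Groth.Agent.S14363

/-- Let A be a Noetherian ring and 0 → M' → M → M'' → 0 a short exact sequence of A-modules. If a prime
p of A is an associated prime of M'' and is not in the support of M', then p is an associated prime
of M. -/
theorem result (A : Type u) [CommRing A] [IsNoetherianRing A]
    (M' M M'' : Type u) [AddCommGroup M'] [Module A M'] [AddCommGroup M] [Module A M]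
    [AddCommGroup M''] [Module A M'']
    (f : M' →ₗ[A] M) (g : M →ₗ[A] M'') (hf : Function.Injective f) (hg : Function.Surjective g)
    (hfg : Function.Exact f g)
    (p : PrimeSpectrum A) (hp : p.asIdeal ∈ associatedPrimes A M'') (hsupp : p ∉ Module.support A M') :
    p.asIdeal ∈ associatedPrimes A M := by
  obtain ⟨hP, x'', hx⟩ := isAssociatedPrime_iff.mp hp
  obtain ⟨m, rfl⟩ := hg x''
  have hkill : ∀ r ∈ p.asIdeal, ∃ s ∉ p.asIdeal, s • r • m = 0 := fun r hr => by
    have : g (r • m) = 0 := by
      rw [map_smul]
      exact (Submodule.mem_bot A).mp (Submodule.mem_colon_singleton.mp (hx ▸ hr))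
    obtain ⟨y, hy⟩ := (hfg _).mp this
    obtain ⟨s, hs, hs'⟩ := Module.notMem_support_iff'.mp hsupp y
    exact ⟨s, hs, by rw [← hy, ← map_smul, hs', map_zero]⟩
  obtain ⟨T, hT⟩ := IsNoetherian.noetherian p.asIdeal
  choose s hs hs' using fun r : T => hkill r (hT ▸ Submodule.subset_span r.2)
  classical
  have hS : (∏ r, s r) ∉ p.asIdeal := fun h => by
    obtain ⟨r, -, hr⟩ := hP.prod_mem_iff.mp h
    exact hs r hr
  refine isAssociatedPrime_iff.mpr ⟨hP, (∏ r, s r) • m, Ideal.ext fun a => ?_⟩
  rw [Submodule.mem_colon_singleton, Submodule.mem_bot]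
  constructor
  · intro ha
    rw [← hT] at ha
    induction ha using Submodule.span_induction with
    | mem x hx' =>
      rw [smul_comm, ← Finset.prod_erase_mul _ _ (Finset.mem_univ (⟨x, hx'⟩ : T)), mul_smul,
        hs' ⟨x, hx'⟩, smul_zero]
    | zero => simp
    | add x y _ _ hx hy => rw [add_smul, hx, hy, add_zero]
    | smul c x _ hx => rw [smul_assoc, hx, smul_zero]
  · intro ha
    have : a * ∏ r, s r ∈ p.asIdeal := by
      rw [hx, Submodule.mem_colon_singleton, Submodule.mem_bot, ← map_smul, mul_smul, ha, map_zero]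
    exact (hP.mem_or_mem this).resolve_right hS

end Groth.Agent.S14363
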