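import Groth.Statements.S14369
import Groth.Agent.EquidimFlat.IrreducibleFibres
-- import your own Groth.Agent.* helpers here

set_option autoImplicit false
universe u
open CategoryTheory CategoryTheory.Limits AlgebraicGeometry
open Variety

namespace Groth.Agent.S14369

/-- Let k be an algebraically closed field, X and Y schemes of finite type over k with Y irreducible,
and f : X → Y a k-morphism whose underlying continuous map is closed. Suppose that for some natural
number d the fibre of f over every closed point y of Y (the subspace of points mapping to y) is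
irreducible of dimension d. Then X is irreducible and dim X = d + dim Y. (The published statement is
for varieties, i.e. reduced separated schemes; this row assumes neither.) -/
theorem result (k : Type u) [Field k] [IsAlgClosed k]
    {X Y : Scheme.{u}} (qX : X ⟶ Spec (CommRingCat.of k)) (qY : Y ⟶ Spec (CommRingCat.of k))
    [LocallyOfFiniteType qX] [QuasiCompact qX] [LocallyOfFiniteType qY] [QuasiCompact qY]
    (f : X ⟶ Y) (hf : f ≫ qY = qX) [IrreducibleSpace ↥Y] (hcl : IsClosedMap f.base) (d : ℕ)
    (hirr : ∀ y : ↥Y, IsClosed ({y} : Set ↥Y) → IsIrreducible (f.base ⁻¹' {y}))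
    (hdim : ∀ y : ↥Y, IsClosed ({y} : Set ↥Y) → topologicalKrullDim ↥(f.base ⁻¹' {y}) = d) :
    IrreducibleSpace ↥X ∧ topologicalKrullDim ↥X = d + topologicalKrullDim ↥Y := by
  subst hf
  haveI : LocallyOfFiniteType f := locallyOfFiniteType_of_comp f qY
  haveI : JacobsonSpace ↥X := LocallyOfFiniteType.jacobsonSpace (f ≫ qY)
  obtain ⟨ξ, hξ, hgen⟩ := Groth.Agent.EquidimFlat.exists_dominant f qY hirr
  have himg : f.base '' closure ({ξ} : Set X) = Set.univ := by
    refine Set.eq_univ_of_univ_subset ?_
    rw [← (genericPoint_closure (α := ↥Y))]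
    exact closure_minimal (Set.singleton_subset_iff.2 ⟨ξ, subset_closure rfl, hgen⟩) (hcl _ isClosed_closure)
  have hu : closure ({ξ} : Set X) = Set.univ := by
    refine Set.eq_univ_of_univ_subset ?_
    rw [← closure_closedPoints (X := ↥X)]
    refine closure_minimal (fun x hx => ?_) isClosed_closure
    have hy := Groth.Agent.EquidimFlat.isClosed_image_of_isClosed f qY x hx
    obtain ⟨x₁, hx₁, he⟩ := himg.ge (Set.mem_univ (f x))
    have he' : f x₁ = f x := he
    exact Groth.Agent.EquidimFlat.fibre_subset f qY d hirr hdim ξ hξ x₁ (specializes_iff_mem_closure.mpr hx₁)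
      (he'.symm ▸ hy) he'.symm
  refine ⟨(irreducibleSpace_def ↥X).mpr (show IsIrreducible (Set.univ : Set ↥X) from hu ▸ (isIrreducible_singleton (x := ξ)).closure), ?_⟩
  have h := Groth.Agent.EquidimFlat.dim_component f qY d hirr hdim ξ hξ
  rwa [hu, hgen, genericPoint_closure, Groth.Agent.FibreDim.dim_homeo (Homeomorph.Set.univ _),
    Groth.Agent.FibreDim.dim_homeo (Homeomorph.Set.univ _)] at h

end Groth.Agent.S14369
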