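import Groth.Statements.S14370
import Groth.Agent.EquidimFlat.IrreducibleFibres
-- import your own Groth.Agent.* helpers here

set_option autoImplicit false
universe u
open CategoryTheory CategoryTheory.Limits AlgebraicGeometry
open Variety

namespace Groth.Agent.S14370

/-- Let k be an algebraically closed field, X and Y schemes of finite type over k with Y irreducible,
and f : X → Y a k-morphism. Suppose that X is pure-dimensional (every irreducible component of X has
dimension dim X) and that for some natural number d the fibre of f over every closed point y of Y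
(the subspace of points mapping to y) is irreducible of dimension d. Then X is irreducible and dim X
= d + dim Y. (The published statement is for varieties, i.e. reduced separated schemes; this row
assumes neither.) -/
theorem result (k : Type u) [Field k] [IsAlgClosed k]
    {X Y : Scheme.{u}} (qX : X ⟶ Spec (CommRingCat.of k)) (qY : Y ⟶ Spec (CommRingCat.of k))
    [LocallyOfFiniteType qX] [QuasiCompact qX] [LocallyOfFiniteType qY] [QuasiCompact qY]
    (f : X ⟶ Y) (hf : f ≫ qY = qX) [IrreducibleSpace ↥Y]
    (hpure : ∀ Z ∈ irreducibleComponents (↥X), topologicalKrullDim ↥Z = topologicalKrullDim ↥X) (d : ℕ)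
    (hirr : ∀ y : ↥Y, IsClosed ({y} : Set ↥Y) → IsIrreducible (f.base ⁻¹' {y}))
    (hdim : ∀ y : ↥Y, IsClosed ({y} : Set ↥Y) → topologicalKrullDim ↥(f.base ⁻¹' {y}) = d) :
    IrreducibleSpace ↥X ∧ topologicalKrullDim ↥X = d + topologicalKrullDim ↥Y := by
  subst hf
  haveI : LocallyOfFiniteType f := locallyOfFiniteType_of_comp f qY
  obtain ⟨ξ, hξ, hgen⟩ := Groth.Agent.EquidimFlat.exists_dominant f qY hirr
  obtain ⟨e, he, -⟩ := Groth.Agent.EquidimFlat.exists_dim_of_irreducible qY
  have hξd := Groth.Agent.EquidimFlat.dim_component f qY d hirr hdim ξ hξ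
  rw [hpure _ (Groth.Agent.FibDim.closure_mem_components hξ), hgen, genericPoint_closure,
    Groth.Agent.FibreDim.dim_homeo (Homeomorph.Set.univ _)] at hξd
  have hall : ∀ w : X, Groth.Agent.FibDim.IsMax' w → w = ξ := fun w hw => by
    refine Groth.Agent.EquidimFlat.dominant_unique f qY d hirr hdim w ξ hw hξ ?_ hgen
    have hwd := Groth.Agent.EquidimFlat.dim_component f qY d hirr hdim w hw
    rw [hpure _ (Groth.Agent.FibDim.closure_mem_components hw), hξd, add_comm,
      add_comm (d : WithBot ℕ∞)] at hwd
    have hd := (Groth.Agent.DimFormulaIrr.add_natCast_cancel hwd).symm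
    refine IsGenericPoint.eq ?_ (genericPoint_spec Y)
    by_contra hne
    have hlt := Groth.Agent.BMCoh.topologicalKrullDim_add_one_le (f := (Subtype.val : closure ({f w} : Set Y) → _))
      Topology.IsInducing.subtypeVal (fun hd' => hne (by
        have := hd'.closure_eq
        rw [Subtype.range_coe, isClosed_closure.closure_eq] at this
        exact this))
    rw [hd, he] at hlt
    have : e + 1 ≤ e := by exact_mod_cast hlt
    omega
  refine ⟨(irreducibleSpace_def ↥X).mpr ?_, hξd⟩
  have hu : closure ({ξ} : Set X) = Set.univ := Set.eq_univ_of_forall fun x => by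
    obtain ⟨w, hwx, hw⟩ := Groth.Agent.FibDim.exists_isMax'_specializes x
    rw [hall w hw] at hwx
    exact hwx.mem_closure
  show IsIrreducible (Set.univ : Set ↥X)
  exact hu ▸ (isIrreducible_singleton (x := ξ)).closure

end Groth.Agent.S14370
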