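import Groth.Statements.S14371
import Groth.Agent.RegEmbed.Local
-- import your own Groth.Agent.* helpers here

set_option autoImplicit false
universe u
open CAlg

namespace Groth.Agent.S14371

/-- Let R be a regular local ring of dimension n with maximal ideal m and residue field κ, and I, J
ideals of R such that R/I and R/J are regular local rings of dimensions a and b (two subvarieties
smooth at the point). Suppose the quotient R/(I + J) is local with cotangent space m/(m² + I + J) of
dimension a + b − n over κ (the tangent spaces of the two subvarieties meet in the expected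
dimension, i.e. they intersect transversally at the point). Then R/(I + J) is a regular local ring
of dimension a + b − n; in particular I + J is a prime ideal. (The published statement is about the
local rings of a smooth variety over an algebraically closed field at a point where two smooth
closed subvarieties meet transversally, and also states the resulting equalities of tangent spaces
and of ideals; this row is the local-ring form, for an arbitrary regular local ring.) -/
theorem result {R : Type u} [CommRing R] [IsRegularLocalRing R]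
    (I J : Ideal R) [IsRegularLocalRing (R ⧸ I)] [IsRegularLocalRing (R ⧸ J)] [IsLocalRing (R ⧸ (I ⊔ J))]
    (n a b : ℕ) (hn : ringKrullDim R = n) (ha : ringKrullDim (R ⧸ I) = a) (hb : ringKrullDim (R ⧸ J) = b)
    (ht : Module.finrank (IsLocalRing.ResidueField (R ⧸ (I ⊔ J))) (IsLocalRing.CotangentSpace (R ⧸ (I ⊔ J))) + n = a + b) :
    IsRegularLocalRing (R ⧸ (I ⊔ J)) ∧ ringKrullDim (R ⧸ (I ⊔ J)) = ((a + b - n : ℕ) : WithBot ℕ∞) := by
  classical
  obtain ⟨rs, hrs, hI⟩ := Groth.Agent.RegEmbed.exists_weaklyRegular_of_regular_quotient I ‹_›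
  have hIne : I ≠ ⊤ := fun h => by
    have := ‹IsRegularLocalRing (R ⧸ I)›
    exact not_subsingleton (R ⧸ I) (Ideal.Quotient.subsingleton_iff.2 h)
  have hJne : J ≠ ⊤ := fun h => by
    have := ‹IsRegularLocalRing (R ⧸ J)›
    exact not_subsingleton (R ⧸ J) (Ideal.Quotient.subsingleton_iff.2 h)
  have hreg : RingTheory.Sequence.IsRegular R rs := ⟨hrs, by
    rw [smul_eq_mul, Ideal.mul_top, ← hI]; exact hIne.symm⟩
  have hlen := ringKrullDim_add_length_eq_ringKrullDim_of_isRegular rs hreg
  rw [← hI, ha, hn] at hlen
  have hlen' : a + rs.length = n := by exact_mod_cast hlen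
  let q := Ideal.Quotient.mk J
  haveI : IsLocalHom q := IsLocalHom.of_surjective _ Ideal.Quotient.mk_surjective
  let S : Finset (R ⧸ J) := (rs.map q).toFinset
  have hS : Ideal.span (S : Set (R ⧸ J)) = I.map q := by
    rw [hI, Ideal.map_ofList]
    exact congrArg Ideal.span (by ext x; simp [S])
  have hSj : (S : Set (R ⧸ J)) ⊆ Ring.jacobson (R ⧸ J) := by
    intro x hx
    simp only [S, List.coe_toFinset, Set.mem_setOf_eq, List.mem_map] at hx
    obtain ⟨y, hy, rfl⟩ := hx
    refine (Ring.jacobson_eq_sInf_isMaximal (R ⧸ J)).ge ?_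
    rw [Submodule.mem_sInf]
    intro m hm
    rw [IsLocalRing.eq_maximalIdeal hm]
    exact map_nonunit q y (IsLocalRing.le_maximalIdeal hIne (hI ▸ Ideal.subset_span hy))
  have hdim := ringKrullDim_le_ringKrullDim_quotient_add_card S hSj
  let e : ((R ⧸ J) ⧸ Ideal.span (S : Set (R ⧸ J))) ≃+* R ⧸ (I ⊔ J) :=
    ((Ideal.quotEquivOfEq hS).trans (DoubleQuot.quotQuotEquivQuotSup J I)).trans (Ideal.quotEquivOfEq (sup_comm _ _))
  rw [ringKrullDim_eq_of_ringEquiv e, hb] at hdim
  have hc : S.card ≤ rs.length := (List.toFinset_card_le _).trans (List.length_map _).le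
  have hup := ringKrullDim_le_spanFinrank_maximalIdeal (R := R ⧸ (I ⊔ J))
  rw [IsLocalRing.spanFinrank_maximalIdeal_eq_finrank_cotangentSpace] at hup
  have h0 : (0 : WithBot ℕ∞) ≤ ringKrullDim (R ⧸ (I ⊔ J)) := ringKrullDim_nonneg_of_nontrivial
  obtain ⟨d, hd⟩ : ∃ d : ℕ, ringKrullDim (R ⧸ (I ⊔ J)) = d := by
    generalize ringKrullDim (R ⧸ (I ⊔ J)) = D at hup h0
    induction D with
    | bot => exact absurd h0 (by simp)
    | coe D =>
      induction D with
      | top => exact absurd (WithBot.coe_le_coe.1 hup) (by simp)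
      | coe d => exact ⟨d, rfl⟩
  rw [hd] at hup hdim
  have h1 : b ≤ d + S.card := by exact_mod_cast hdim
  have h2 : d ≤ Module.finrank (IsLocalRing.ResidueField (R ⧸ (I ⊔ J))) (IsLocalRing.CotangentSpace (R ⧸ (I ⊔ J))) := by
    exact_mod_cast hup
  refine ⟨IsRegularLocalRing.of_spanFinrank_maximalIdeal_le _ ?_, by rw [hd]; exact_mod_cast (by omega : d = a + b - n)⟩
  rw [IsLocalRing.spanFinrank_maximalIdeal_eq_finrank_cotangentSpace, hd]
  exact_mod_cast (by omega : _ ≤ d)

end Groth.Agent.S14371
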