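import Groth.Statements.S14373
import Groth.Agent.ForSys.Bertini
-- import your own Groth.Agent.* helpers here

set_option autoImplicit false
universe u
open Fano

namespace Groth.Agent.S14373

/-- Over an algebraically closed field k of arbitrary characteristic, let d ≥ 2 and let U be a linear
subspace of k^(n+1) with 2 · dim U ≤ n + 1 (an r-plane P(U) in P^n with r ≤ (n − 1)/2). Let W be the
linear space of degree-d forms in n + 1 variables vanishing on U (hypersurfaces of degree d
containing P(U)). Then a general member G of W defines a smooth hypersurface: for G outside the zero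
set of some nonzero polynomial function on W, at every nonzero vector where G vanishes some partial
derivative of G is nonzero. -/
theorem result (k : Type u) [Field k] [IsAlgClosed k]
    (n d : ℕ) (hd : 2 ≤ d) (U : Submodule k (Fin (n + 1) → k)) (hU : 2 * Module.finrank k ↥U ≤ n + 1)
    (W : Submodule k (LefPen.Form n k d)) (hW : ∀ G : LefPen.Form n k d, G ∈ W ↔ ∀ u ∈ U, MvPolynomial.eval u G.1 = 0) :
    LefPen.IsGeneric k {G : ↥W | ∀ v : Fin (n + 1) → k, v ≠ 0 → MvPolynomial.eval v G.1.1 = 0 →
      ∃ i : Fin (n + 1), MvPolynomial.eval v (MvPolynomial.pderiv i G.1.1) ≠ 0} := by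
  classical
  let e₀ := ForSys.formEquiv k n d
  haveI : Module.Finite k (LefPen.Form n k d) := Module.Finite.equiv e₀.symm
  haveI : Module.Finite k W := inferInstance
  haveI : Module.Free k W := Module.Free.of_divisionRing k W
  let b : Module.Basis (ULift.{u} (Fin (Module.finrank k W))) k W := (Module.finBasis k W).reindex Equiv.ulift.symm
  choose f hf0 hf using fun a : Fin (n + 1) => ForSys.exists_poly_bertini hd U hU W hW b a
  refine ForSys.isGeneric_of_coords b.equivFun _ (∏ a, f a) (Finset.prod_ne_zero_iff.mpr fun a _ => hf0 a) fun G hG => ?_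
  intro v hv hv0
  by_contra hcon
  push Not at hcon
  rw [map_prod, Finset.prod_ne_zero_iff] at hG
  obtain ⟨a, ha⟩ := Function.ne_iff.mp hv
  simp only [Pi.zero_apply] at ha
  let v' : Fin (n + 1) → k := fun i => (v a)⁻¹ * v i
  have hhom : (G.1.1).IsHomogeneous d := G.1.2
  refine hG a (Finset.mem_univ a) (hf a G v' (inv_mul_cancel₀ ha) ?_ fun i => ?_)
  · rw [ForSys.eval_smul_of_isHomogeneous hhom, hv0, mul_zero]
  · rw [ForSys.eval_smul_of_isHomogeneous hhom.pderiv, hcon i, mul_zero]

end Groth.Agent.S14373
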