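import Groth.Statements.S14375
import Groth.Agent.GeomIrr.Basic
import Groth.Agent.BddFibLib.Basic
import Mathlib.AlgebraicGeometry.Noetherian
-- import your own Groth.Agent.* helpers here

set_option autoImplicit false
universe u
open CategoryTheory CategoryTheory.Limits AlgebraicGeometry
open Variety

namespace Groth.Agent.S14375
open CategoryTheory CategoryTheory.Limits AlgebraicGeometry

theorem irr_preimage {k : Type u} [Field k] {X Y F : Scheme.{u}} (qY : Y ⟶ Spec (CommRingCat.of k)) (qF : F ⟶ Spec (CommRingCat.of k))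
    [GeometricallyIrreducible qF] [UniversallyOpen qF] [IrreducibleSpace Y] (f : X ⟶ Y) (V : Y.Opens)
    (hV : (V : Set Y).Nonempty) (e : (↑(f ⁻¹ᵁ V) : Scheme.{u}) ≅ pullback (V.ι ≫ qY) qF) :
    IsIrreducible ((f ⁻¹ᵁ V : X.Opens) : Set X) := by
  haveI : IrreducibleSpace V.toScheme :=
    Subtype.irreducibleSpace ⟨hV, (PreirreducibleSpace.isPreirreducible_univ (X := Y)).open_subset V.2 (Set.subset_univ _)⟩
  haveI : IrreducibleSpace (↑(f ⁻¹ᵁ V) : Scheme.{u}) := e.hom.homeomorph.irreducibleSpace_iff.mpr inferInstance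
  have := (IrreducibleSpace.isIrreducible_univ (↑(f ⁻¹ᵁ V) : Scheme.{u})).image _ (f ⁻¹ᵁ V).ι.continuous.continuousOn
  rwa [Set.image_univ, Scheme.Opens.range_ι] at this

theorem fibre_nonempty {k : Type u} [Field k] {X Y F : Scheme.{u}} (qY : Y ⟶ Spec (CommRingCat.of k)) (qF : F ⟶ Spec (CommRingCat.of k))
    [GeometricallyIrreducible qF] (f : X ⟶ Y) (V : Y.Opens)
    (e : (↑(f ⁻¹ᵁ V) : Scheme.{u}) ≅ pullback (V.ι ≫ qY) qF)
    (he : e.hom ≫ pullback.fst (V.ι ≫ qY) qF = f ∣_ V) (w : Y) (hw : w ∈ V) : ∃ x, f x = w := by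
  haveI : Surjective (pullback.fst (V.ι ≫ qY) qF) := inferInstance
  haveI : Surjective (f ∣_ V) := by rw [← he]; infer_instance
  obtain ⟨z, hz⟩ := (f ∣_ V).surjective ⟨w, hw⟩
  refine ⟨(f ⁻¹ᵁ V).ι z, ?_⟩
  rw [← Scheme.Hom.comp_apply, ← morphismRestrict_ι, Scheme.Hom.comp_apply, hz]
  rfl

/-- Let k be an algebraically closed field, F an irreducible scheme of finite type over k, and f : X → Y
a k-morphism of schemes of finite type over k with Y irreducible which is locally trivial with fibre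
F: every point of Y has an open neighbourhood V such that f⁻¹(V) is isomorphic over V to V ×_k F.
Then X is irreducible. (The published statement is for varieties, i.e. reduced separated schemes;
this row assumes neither.) -/
theorem result (k : Type u) [Field k] [IsAlgClosed k]
    {X Y F : Scheme.{u}} (qX : X ⟶ Spec (CommRingCat.of k)) (qY : Y ⟶ Spec (CommRingCat.of k))
    (qF : F ⟶ Spec (CommRingCat.of k))
    [LocallyOfFiniteType qX] [QuasiCompact qX] [LocallyOfFiniteType qY] [QuasiCompact qY]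
    [LocallyOfFiniteType qF] [QuasiCompact qF] [IrreducibleSpace ↥F] [IrreducibleSpace ↥Y]
    (f : X ⟶ Y) (hf : f ≫ qY = qX)
    (htriv : ∀ y : ↥Y, ∃ V : Y.Opens, y ∈ V ∧
      ∃ e : (↑(f ⁻¹ᵁ V) : Scheme.{u}) ≅ pullback (V.ι ≫ qY) qF, e.hom ≫ pullback.fst (V.ι ≫ qY) qF = f ∣_ V) :
    IrreducibleSpace ↥X := by
  haveI : GeometricallyIrreducible qF := Groth.Agent.GeomIrr.geometricallyIrreducible_of_irreducibleSpace qF
  haveI : Flat qF := Groth.Agent.BddFibLib.flat_to_field qF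
  haveI : LocallyOfFinitePresentation qF := inferInstance
  haveI : UniversallyOpen qF := inferInstance
  choose V hyV e he using htriv
  have hir : ∀ y, IsIrreducible ((f ⁻¹ᵁ V y : X.Opens) : Set X) := fun y => irr_preimage qY qF f (V y) ⟨y, hyV y⟩ (e y)
  have hmeet : ∀ y y', (((f ⁻¹ᵁ V y : X.Opens) : Set X) ∩ (f ⁻¹ᵁ V y' : X.Opens)).Nonempty := fun y y' => by
    obtain ⟨w, hw1, hw2⟩ := nonempty_preirreducible_inter (V y).2 (V y').2 ⟨y, hyV y⟩ ⟨y', hyV y'⟩
    obtain ⟨x, hx⟩ := fibre_nonempty qY qF f (V y) (e y) (he y) w hw1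
    exact ⟨x, show f x ∈ V y by rw [hx]; exact hw1, show f x ∈ V y' by rw [hx]; exact hw2⟩
  have hcov : ∀ x : X, x ∈ f ⁻¹ᵁ V (f x) := fun x => hyV (f x)
  haveI : Nonempty X := by
    obtain ⟨y⟩ := (inferInstance : Nonempty Y)
    obtain ⟨x, -⟩ := (hir y).nonempty
    exact ⟨x⟩
  refine { toNonempty := inferInstance, isPreirreducible_univ := fun U W hU hW ⟨a, _, ha⟩ ⟨b, _, hb⟩ => ?_ }
  obtain ⟨c, hca, hcb⟩ := hmeet (f a) (f b)
  have h1 := (hir (f a)).2 U (f ⁻¹ᵁ V (f b) : X.Opens) hU (TopologicalSpace.Opens.isOpen _) ⟨a, hcov a, ha⟩ ⟨c, hca, hcb⟩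
  obtain ⟨d, _, hdU, hdb⟩ := h1
  obtain ⟨r, _, hrU, hrW⟩ := (hir (f b)).2 U W hU hW ⟨d, hdb, hdU⟩ ⟨b, hcov b, hb⟩
  exact ⟨r, trivial, hrU, hrW⟩

end Groth.Agent.S14375
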