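import Groth.Statements.S14378
import Groth.Agent.EquidimFlat.IrreducibleFibres
-- import your own Groth.Agent.* helpers here

set_option autoImplicit false
universe u
open CategoryTheory CategoryTheory.Limits AlgebraicGeometry
open Variety

namespace Groth.Agent.S14378

/-- Let k be an algebraically closed field, X and Y schemes of finite type over k with Y irreducible,
and f : X → Y a k-morphism such that for some natural number d the fibre of f over every closed
point of Y (the subspace of points mapping to it) is irreducible of dimension d. Then (i) exactly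
one irreducible component of X has dense image in Y, and (ii) each irreducible component Z of X is
made up of whole fibres — if Z meets the fibre over a closed point then it contains it — and dim Z =
d + dim f(Z)‾, the dimension of the closure of its image. (The published assertions are for
varieties, i.e. reduced separated schemes; this row assumes neither.) -/
theorem result (k : Type u) [Field k] [IsAlgClosed k]
    {X Y : Scheme.{u}} (qX : X ⟶ Spec (CommRingCat.of k)) (qY : Y ⟶ Spec (CommRingCat.of k))
    [LocallyOfFiniteType qX] [QuasiCompact qX] [LocallyOfFiniteType qY] [QuasiCompact qY]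
    (f : X ⟶ Y) (hf : f ≫ qY = qX) [IrreducibleSpace ↥Y] (d : ℕ)
    (hirr : ∀ y : ↥Y, IsClosed ({y} : Set ↥Y) → IsIrreducible (f.base ⁻¹' {y}))
    (hdim : ∀ y : ↥Y, IsClosed ({y} : Set ↥Y) → topologicalKrullDim ↥(f.base ⁻¹' {y}) = d) :
    (∃! Z : Set ↥X, Z ∈ irreducibleComponents ↥X ∧ Dense (f.base '' Z)) ∧
      ∀ Z ∈ irreducibleComponents ↥X,
        (∀ y : ↥Y, IsClosed ({y} : Set ↥Y) → (f.base ⁻¹' {y} ∩ Z).Nonempty → f.base ⁻¹' {y} ⊆ Z) ∧
        topologicalKrullDim ↥Z = d + topologicalKrullDim ↥(closure (f.base '' Z)) := by
  subst hf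
  haveI : LocallyOfFiniteType f := locallyOfFiniteType_of_comp f qY
  obtain ⟨ξ, hξ, hgen⟩ := Groth.Agent.EquidimFlat.exists_dominant f qY hirr
  have hclosure : ∀ w : X, closure (f.base '' closure ({w} : Set X)) = closure {f w} := fun w => by
    rw [closure_image_closure f.continuous, Set.image_singleton]
  constructor
  · refine ⟨closure {ξ}, ⟨Groth.Agent.FibDim.closure_mem_components hξ, ?_⟩, ?_⟩
    · rw [dense_iff_closure_eq, hclosure, hgen]; exact genericPoint_closure _
    · rintro Z ⟨hZ, hd⟩
      obtain ⟨w, rfl, hw⟩ := Groth.Agent.FibDim.exists_isMax'_component hZ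
      rw [dense_iff_closure_eq, hclosure] at hd
      have hwgen : f w = genericPoint Y := (IsGenericPoint.eq hd (genericPoint_spec Y))
      rw [Groth.Agent.EquidimFlat.dominant_unique f qY d hirr hdim w ξ hw hξ hwgen hgen]
  · intro Z hZ
    obtain ⟨w, rfl, hw⟩ := Groth.Agent.FibDim.exists_isMax'_component hZ
    refine ⟨?_, ?_⟩
    · rintro y hy ⟨x, rfl, hx⟩
      exact Groth.Agent.EquidimFlat.fibre_subset f qY d hirr hdim w hw x (specializes_iff_mem_closure.mpr hx) hy
    · rw [hclosure]
      exact Groth.Agent.EquidimFlat.dim_component f qY d hirr hdim w hw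

end Groth.Agent.S14378
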