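import Groth.Statements.S1438
import Mathlib


set_option autoImplicit false
universe u
open FlatMor

namespace Groth.Agent.S1438

open AlgebraicGeometry CategoryTheory Limits in
/-- A separated scheme with an open covering by n + 1 affine opens has affine stratification number at
most n: it admits an affine stratification with index set {0, …, n}. -/
theorem result (X : Scheme.{u}) [X.IsSeparated] (n : ℕ) (U : Fin (n + 1) → X.Opens)
    (hU : ∀ i, IsAffineOpen (U i)) (hcov : ⨆ i, U i = ⊤) :
    MoreMor.HasAffineStratification X n := by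
  classical
  have hex : ∀ x : X, (Finset.univ.filter fun j => x ∈ U j).Nonempty := fun x => by
    obtain ⟨j, hj⟩ := TopologicalSpace.Opens.mem_iSup.1 (show x ∈ ⨆ i, U i from hcov ▸ trivial)
    exact ⟨j, by simp [hj]⟩
  let s : X → Fin (n + 1) := fun x => (Finset.univ.filter fun j => x ∈ U j).max' (hex x)
  have hmem : ∀ x, x ∈ U (s x) := fun x => (Finset.mem_filter.1 (Finset.max'_mem _ (hex x))).2
  have hmax : ∀ x j, x ∈ U j → j ≤ s x := fun x j hj => Finset.le_max' _ _ (by simp [hj])
  have hcl : ∀ i, IsClosed {x : X | s x ≤ i} := fun i => by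
    refine isOpen_compl_iff.1 ?_
    have : {x : X | s x ≤ i}ᶜ = ⋃ j : {j // i < j}, (U j.1 : Set X) := by
      ext x
      simp only [Set.mem_compl_iff, Set.mem_setOf_eq, not_le, Set.mem_iUnion, SetLike.mem_coe]
      exact ⟨fun h => ⟨⟨s x, h⟩, hmem x⟩, fun ⟨j, hj⟩ => j.2.trans_le (hmax x j.1 hj)⟩
    rw [this]
    exact isOpen_iUnion fun j => (U j.1).2
  refine ⟨s, hcl, fun i => ?_⟩
  let C : TopologicalSpace.Closeds (U i : Scheme.{u}) :=
    ⟨(U i).ι ⁻¹' {x : X | s x ≤ i}, (hcl i).preimage (U i).ι.continuous⟩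
  haveI : IsAffine (U i : Scheme.{u}) := hU i
  haveI : IsAffineHom (U i).ι := by
    have : IsSeparated (terminal.from X) := inferInstance
    have : IsAffineHom ((U i).ι ≫ terminal.from X) := by
      rw [terminal.comp_from]; exact isAffineHom_of_isAffine _
    exact IsAffineHom.of_comp (U i).ι (terminal.from X)
  refine ⟨(Scheme.IdealSheafData.vanishingIdeal C).subscheme,
    (Scheme.IdealSheafData.vanishingIdeal C).subschemeι ≫ (U i).ι, inferInstance,
    isAffine_of_isAffineHom (Scheme.IdealSheafData.vanishingIdeal C).subschemeι, inferInstance, ?_⟩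
  rw [Scheme.Hom.comp_base, TopCat.coe_comp, Set.range_comp, Scheme.IdealSheafData.range_subschemeι,
    Scheme.IdealSheafData.coe_support_vanishingIdeal]
  show (U i).ι '' ((U i).ι ⁻¹' {x : X | s x ≤ i}) = {x : X | s x = i}
  rw [Set.image_preimage_eq_inter_range, Scheme.Opens.range_ι]
  ext x
  exact ⟨fun ⟨h1, h2⟩ => le_antisymm h1 (hmax x i h2), fun h => ⟨le_of_eq h, h ▸ hmem x⟩⟩

end Groth.Agent.S1438
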