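import Groth.Statements.S14392
import Groth.Agent.EtSite.KillH1
import Groth.Agent.EtSite.Trivialize
import Groth.Agent.EtSite.PVanish

set_option autoImplicit false
open CategoryTheory CategoryTheory.Limits AlgebraicGeometry Opposite
universe u
open EtCoh

namespace Groth.Agent.S14392

/-- Let p be a prime number and X a connected affine scheme of characteristic p (p = 0 in the ring of
global sections). Then X is a K(π,1) for p-torsion coefficients: for every finite locally constant
abelian sheaf F on the small étale site of X killed by some power p^h (h ≥ 0, equivalently by an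
integer n ≥ 1 whose only prime factor is p), every q > 0 and every class ζ ∈ H^q(X_ét, F), there is
a finite étale surjective morphism g : X' → X such that g^*ζ = 0 in H^q(X'_ét, g⁻¹F). (Exactness of
pullback of abelian sheaves, which always holds, is carried as an instance hypothesis.) -/
theorem result (p : ℕ) [Fact p.Prime] (X : Scheme.{u}) [IsAffine X]
    [ConnectedSpace ↥X] [CharP Γ(X, ⊤) p] (F : EtCoh.Ab X) (hF : EtCoh.IsFiniteLocallyConstant F)
    (htor : ∃ h : ℕ, EtCoh.KilledBy (p ^ h) F) (q : ℕ) (hq : 0 < q) (ζ : EtCoh.H X F q) :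
    ∃ (X' : Scheme.{u}) (g : X' ⟶ X), IsFinite g ∧ Etale g ∧ Surjective g ∧
      ∀ [PreservesFiniteLimits (EtCoh.pull g)], EtCore.Hpull g F q ζ = 0 := by
  obtain ⟨n, rfl⟩ | rfl : (∃ n, q = n + 2) ∨ q = 1 := by
    rcases Nat.lt_or_ge q 2 with h | h
    · exact Or.inr (by omega)
    · exact Or.inl ⟨q - 2, by omega⟩
  swap
  · exact Groth.Agent.EtSite.KillH1.exists_kill F hF ζ
  obtain ⟨U, hU, hsurj, M, _, _, φ, hφ, ⟨e⟩⟩ := Groth.Agent.EtSite.Trivialize.exists_trivializing F hF
  refine ⟨U.left, U.hom, hU, U.prop, hsurj, ?_⟩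
  intro _
  have hX : IsAffine ((Functor.fromPUnit X).obj U.right) := inferInstanceAs (IsAffine X)
  have hA : IsAffine U.left := isAffine_of_isAffineHom U.hom
  have hp : (p : Γ(U.left, ⊤)) = 0 :=
    (map_natCast U.hom.appTop.hom p).symm.trans
      ((congrArg U.hom.appTop.hom (CharP.cast_eq_zero Γ(X, ⊤) p)).trans (map_zero _))
  obtain ⟨h, hh⟩ := htor
  obtain ⟨x⟩ : Nonempty X := inferInstance
  obtain ⟨z, hz⟩ := hsurj.surj x
  obtain ⟨t⟩ := Groth.Agent.EtSite.FLCBasic.nonempty_fiber (ξ := Groth.Agent.EtSite.gpt x) z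
    (hz.trans (Groth.Agent.EtSite.gpt_apply _ _).symm)
  have hM : ∀ m : M, (p ^ h) • m = 0 := fun m => by
    have h0 : (p ^ h) • (ULift.up.{u + 1} m) = 0 := (hφ _ _ t).1 (by
      simp only [map_zero]
      rw [map_nsmul φ, hh U (φ _), map_zero])
    exact congrArg ULift.down h0
  have := Groth.Agent.EtSite.PVanish.subsingleton_H U.left p hp n (Nat.card M) M inferInstance inferInstance
    le_rfl ⟨h, hM⟩
  have hc : ∀ y : EtCoh.H U.left ((EtCoh.pull U.hom).obj F) (n + 2), y = 0 := fun y => by
    have e1 : y = (y.comp (Abelian.Ext.mk₀ e.hom) (add_zero _)).comp (Abelian.Ext.mk₀ e.inv) (add_zero _) := by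
      rw [Abelian.Ext.comp_assoc_of_second_deg_zero, Abelian.Ext.mk₀_comp_mk₀, e.hom_inv_id,
        Abelian.Ext.comp_mk₀_id]
    rw [e1, Subsingleton.elim (α := EtCoh.H U.left (EtCoh.const U.left M) (n + 2))
      (y.comp (Abelian.Ext.mk₀ e.hom) (add_zero _)) 0, Abelian.Ext.zero_comp]
  exact hc _

end Groth.Agent.S14392
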