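import Groth.Statements.S14397
import Mathlib
-- import your own Groth.Agent.* helpers here

set_option autoImplicit false
universe u
open DualGr

namespace Groth.Agent.S14397

/-- Let (V, E) with endpoint map E → V × V be a finite multigraph (loops and parallel edges allowed; the
order of the two endpoints is an auxiliary orientation), and let D_1, …, D_n be finite sets of edges
such that every edge lies outside at least one D_i. For each i let Γ_i be the multigraph obtained by
contracting the edges of D_i, and let H₁(Γ, ℤ) → H₁(Γ_i, ℤ) be the map of cycle lattices (integer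
edge vectors with zero boundary) given by restriction to the surviving edges. Then the map H₁(Γ, ℤ)
→ ⊕_i H₁(Γ_i, ℤ) has torsion-free cokernel. (The published statement is about the connected labelled
dual graph of the closed fibre of a nodal curve, smooth outside a normal crossing divisor with
components D_1, …, D_n, over a Noetherian regular strictly local base; Γ_i is the dual graph of the
fibre over the generic point of D_i, the lattices are identified with the character groups of the
toric parts of the Picard schemes of these fibres, and the map is the generization map of character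
groups; this row states the assertion about cycle lattices, for any finite multigraph, which is what
the argument establishes.) -/
theorem result
    {V E : Type u} [Fintype V] [Fintype E] [DecidableEq V] [DecidableEq E]
    (ends : E → V × V) {n : ℕ} (D : Fin n → Finset E) (hcover : ∀ e : E, ∃ i : Fin n, e ∉ D i) :
    IsAddTorsionFree (((i : Fin n) → ↥(DualGr.cycleLattice (DualGr.ctrEnds ends (D i)))) ⧸
      LinearMap.range (LinearMap.pi fun i : Fin n => DualGr.genMap ends (D i))) := by
  classical
  refine ⟨fun c hc a b hab => ?_⟩
  obtain ⟨a, rfl⟩ := Submodule.Quotient.mk_surjective _ a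
  obtain ⟨b, rfl⟩ := Submodule.Quotient.mk_surjective _ b
  rw [Submodule.Quotient.eq]
  dsimp only at hab
  rw [← Submodule.Quotient.mk_smul, ← Submodule.Quotient.mk_smul, Submodule.Quotient.eq, ← nsmul_sub] at hab
  generalize a - b = y at hab ⊢
  obtain ⟨z, hz⟩ := hab
  have hcoord : ∀ (i : Fin n) (e : E) (he : e ∉ D i),
      (z : E → ℤ) e = c • ((y i : DualGr.CtrEdge (D i) → ℤ) ⟨e, he⟩) := by
    intro i e he
    have h1 := congrArg (fun (g : (i : Fin n) → ↥(DualGr.cycleLattice (DualGr.ctrEnds ends (D i)))) =>
      ((g i : DualGr.CtrEdge (D i) → ℤ) ⟨e, he⟩)) hz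
    exact h1
  choose i hi using hcover
  let w : E → ℤ := fun e => (y (i e) : DualGr.CtrEdge (D (i e)) → ℤ) ⟨e, hi e⟩
  have hzw : (z : E → ℤ) = c • w := funext fun e => hcoord (i e) e (hi e)
  have hc0 : (c : ℤ) ≠ 0 := Int.natCast_ne_zero.2 hc
  have hw : w ∈ DualGr.cycleLattice ends := by
    have h0 : DualGr.boundaryHom ends (z : E → ℤ) = 0 := z.2
    rw [hzw, map_nsmul] at h0
    change DualGr.boundaryHom ends w = 0
    exact (smul_eq_zero.1 h0).resolve_left hc
  refine ⟨⟨w, hw⟩, ?_⟩
  refine funext fun j => Subtype.ext (funext fun e => ?_)
  change w e.1 = _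
  have h1 := hcoord j e.1 e.2
  rw [congrFun hzw e.1, Pi.smul_apply, nsmul_eq_mul, nsmul_eq_mul] at h1
  exact mul_left_cancel₀ hc0 h1

end Groth.Agent.S14397
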