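import Groth.Statements.S14401
import Mathlib
-- import your own Groth.Agent.* helpers here

set_option autoImplicit false
universe u
open CategoryTheory AlgebraicGeometry
open Props

namespace Groth.Agent.S14401

/-- Let X be a Noetherian scheme all of whose local rings are integral domains. Then each irreducible
component of X is an open subset of X, and each point of X lies on exactly one irreducible component
(so the irreducible components of X are pairwise disjoint, open and closed, and coincide with the
connected components). (The published statement assumes X regular and Noetherian; its argument uses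
only that the local rings of X are domains, which is the hypothesis taken here.) -/
theorem result (X : Scheme.{u}) [AlgebraicGeometry.IsNoetherian X]
    (hX : ∀ x : X, IsDomain (X.presheaf.stalk x)) :
    (∀ Z ∈ irreducibleComponents (X : Type u), IsOpen Z) ∧
      ∀ x : X, ∃! Z, Z ∈ irreducibleComponents (X : Type u) ∧ x ∈ Z := by
  have huniq : ∀ x : X, ∀ Z₁ ∈ irreducibleComponents (X : Type u), ∀ Z₂ ∈ irreducibleComponents (X : Type u), x ∈ Z₁ → x ∈ Z₂ → Z₁ = Z₂ := by
    intro x Z₁ h₁ Z₂ h₂ x₁ x₂
    have gen : ∀ Z ∈ irreducibleComponents (X : Type u), x ∈ Z → ∀ η, IsGenericPoint η Z →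
        η = X.fromSpecStalk x (⟨⊥, @Ideal.isPrime_bot _ _ (hX x).toNontrivial _⟩ : PrimeSpectrum (X.presheaf.stalk x)) := by
      intro Z hZ hxZ η hη
      obtain ⟨p, hp⟩ : η ∈ Set.range (X.fromSpecStalk x) := by
        rw [Scheme.range_fromSpecStalk]; exact hη.specializes hxZ
      let b : PrimeSpectrum (X.presheaf.stalk x) := ⟨⊥, @Ideal.isPrime_bot _ _ (hX x).toNontrivial _⟩
      have hb : X.fromSpecStalk x b ⤳ η := hp ▸ ((PrimeSpectrum.le_iff_specializes b p).mp bot_le).map (X.fromSpecStalk x).continuous
      have hsub : Z ⊆ closure {X.fromSpecStalk x b} := by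
        rw [← hη.def]
        exact closure_minimal (Set.singleton_subset_iff.mpr hb.mem_closure) isClosed_closure
      have h1 : closure {X.fromSpecStalk x b} ⊆ Z := hZ.2 isIrreducible_singleton.closure hsub
      exact ((hη.specializes (h1 (subset_closure rfl))).antisymm hb).eq
    obtain ⟨η₁, e₁⟩ := QuasiSober.sober h₁.1 (isClosed_of_mem_irreducibleComponents _ h₁)
    obtain ⟨η₂, e₂⟩ := QuasiSober.sober h₂.1 (isClosed_of_mem_irreducibleComponents _ h₂)
    rw [← e₁.def, ← e₂.def, gen Z₁ h₁ x₁ η₁ e₁, gen Z₂ h₂ x₂ η₂ e₂]
  refine ⟨fun Z hZ => ?_, fun x => ⟨irreducibleComponent x, ⟨irreducibleComponent_mem_irreducibleComponents x, mem_irreducibleComponent⟩,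
    fun Z hZ => huniq x Z hZ.1 _ (irreducibleComponent_mem_irreducibleComponents x) hZ.2 mem_irreducibleComponent⟩⟩
  have hfin : (irreducibleComponents (X : Type u)).Finite := TopologicalSpace.NoetherianSpace.finite_irreducibleComponents
  have hZeq : Z = (⋃₀ (irreducibleComponents (X : Type u) \ {Z}))ᶜ := by
    ext x
    refine ⟨fun hx ⟨W, ⟨hW, hne⟩, hxW⟩ => hne (huniq x W hW Z hZ hxW hx), fun hx => ?_⟩
    by_contra hxZ
    exact hx ⟨irreducibleComponent x, ⟨irreducibleComponent_mem_irreducibleComponents x, fun e => hxZ (e ▸ mem_irreducibleComponent)⟩, mem_irreducibleComponent⟩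
  rw [hZeq, isOpen_compl_iff, Set.sUnion_eq_biUnion]
  exact hfin.sdiff.isClosed_biUnion fun W hW => isClosed_of_mem_irreducibleComponents W hW.1

end Groth.Agent.S14401
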