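import Groth.Statements.S14404
import Groth.Agent.EquidimFlat.Basic
-- import your own Groth.Agent.* helpers here

set_option autoImplicit false
universe u
open CategoryTheory AlgebraicGeometry
open FlatMor

namespace Groth.Agent.S14404

/-- Let k be a field, X and Y irreducible schemes of finite type over k and f : X ⟶ Y a flat k-morphism.
Then dim Y ≤ dim X, and for every point y of Y every irreducible component Z of the scheme-theoretic
fibre of f over y has dim Z + dim Y = dim X; that is, every non-empty fibre has all its irreducible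
components of dimension dim X − dim Y. -/
theorem result (k : Type u) [Field k]
    {X Y : Scheme.{u}} (qX : X ⟶ Spec (CommRingCat.of k)) (qY : Y ⟶ Spec (CommRingCat.of k))
    [LocallyOfFiniteType qX] [QuasiCompact qX] [LocallyOfFiniteType qY] [QuasiCompact qY]
    [IrreducibleSpace X] [IrreducibleSpace Y] (f : X ⟶ Y) (hf : f ≫ qY = qX) [Flat f] :
    topologicalKrullDim Y ≤ topologicalKrullDim X ∧
      ∀ (y : Y), ∀ Z ∈ irreducibleComponents (f.fiber y : Type u),
        topologicalKrullDim Z + topologicalKrullDim Y = topologicalKrullDim X := by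
  subst hf
  haveI : LocallyOfFiniteType f := locallyOfFiniteType_of_comp f qY
  obtain ⟨d, hd, hY⟩ := Groth.Agent.EquidimFlat.exists_dim_of_irreducible qY
  obtain ⟨D, hD, hX⟩ := Groth.Agent.EquidimFlat.exists_dim_of_irreducible (f ≫ qY)
  have hY' := Groth.Agent.EquidimFlat.localDim_eq_of_components qY hY
  obtain ⟨n, hn, -⟩ := Groth.Agent.FibreDim.exists_fibreDimAt_eq f (genericPoint X)
  have h := Groth.Agent.EquidimFlat.localDim_eq_add f qY (genericPoint X)
  rw [Groth.Agent.EquidimFlat.localDim_eq_of_components (f ≫ qY) hX, hY', hn] at h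
  refine ⟨?_, fun y Z hZ => ?_⟩
  · rw [hd, hD, h]; exact le_add_of_nonneg_right (Nat.cast_nonneg n)
  · rw [(Groth.Agent.EquidimFlat.components_iff f qY d n hY').mp
      (fun Z hZ => by rw [hX Z hZ, h, Nat.cast_add]) y Z hZ, hd, hD, h, add_comm]

end Groth.Agent.S14404
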