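import Groth.Statements.S14405
import Mathlib.Algebra.Polynomial.Coeff
import Mathlib.Tactic
-- import your own Groth.Agent.* helpers here

set_option autoImplicit false
open Polynomial
open HilbNum

namespace Groth.Agent.S14405

/-- Let φ be a function from the integers to the rationals and Q a nonzero polynomial with rational
coefficients of degree d such that φ(m) - φ(m-1) = Q(m) for every integer m. Then there is a
polynomial P with rational coefficients, of degree d + 1, such that φ(m) = P(m) for every integer m.
(The explicit form of P in the binomial basis is not part of this statement.) -/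
theorem result (φ : ℤ → ℚ) (d : ℕ) (Q : ℚ[X]) (hQ : Q ≠ 0)
    (hd : Q.natDegree = d) (h : ∀ m : ℤ, φ m - φ (m - 1) = Q.eval (m : ℚ)) :
    ∃ P : ℚ[X], P.natDegree = d + 1 ∧ ∀ m : ℤ, φ m = P.eval (m : ℚ) := by
  have key : ∀ (d : ℕ) (Q : ℚ[X]), (∀ k, d ≤ k → Q.coeff k = 0) →
      ∃ P : ℚ[X], (∀ k, d < k → P.coeff k = 0) ∧ P.coeff d = Q.coeff (d - 1) / d ∧
        P - P.comp (X - 1) = Q := by
    clear h φ hQ hd Q d
    intro d
    induction d with
    | zero =>
      intro Q hQ
      refine ⟨0, fun k _ => by simp, by simp, ?_⟩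
      rw [show Q = 0 from Polynomial.ext fun k => by simpa using hQ k (Nat.zero_le k)]
      simp
    | succ d ih =>
      intro Q hQ
      set c := Q.coeff d / ((d + 1 : ℕ) : ℚ) with hc
      let R : ℚ[X] := C c * (X ^ (d + 1) - (X + C (-1)) ^ (d + 1))
      have hR : ∀ k, d ≤ k → R.coeff k = if k = d then Q.coeff d else 0 := by
        intro k hk
        simp only [R, coeff_C_mul, coeff_sub, coeff_X_pow, coeff_X_add_C_pow]
        rcases eq_or_lt_of_le hk with rfl | hk'
        · rw [if_neg (by omega), if_pos rfl, show d + 1 - d = 1 by omega, Nat.choose_succ_self_right, hc]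
          field_simp
          ring
        · rw [if_neg (show k ≠ d by omega)]
          rcases eq_or_lt_of_le (show d + 1 ≤ k from hk') with rfl | hk''
          · simp
          · rw [if_neg (by omega), Nat.choose_eq_zero_of_lt (by omega)]
            simp
      obtain ⟨P, hP1, -, hP3⟩ := ih (Q - R) (fun k hk => by
        rw [coeff_sub, hR k hk]
        rcases eq_or_lt_of_le hk with rfl | hk'
        · simp
        · rw [if_neg (by omega), hQ k hk', sub_zero])
      refine ⟨C c * X ^ (d + 1) + P, fun k hk => ?_, ?_, ?_⟩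
      · rw [coeff_add, coeff_C_mul, coeff_X_pow, if_neg (by omega), hP1 k (by omega), mul_zero, zero_add]
      · rw [coeff_add, coeff_C_mul, coeff_X_pow, if_pos rfl, hP1 (d + 1) (by omega), add_zero, mul_one, hc,
          Nat.add_sub_cancel]
      · simp only [add_comp, mul_comp, C_comp, X_pow_comp]
        have h1 : (X : ℚ[X]) - 1 = X + C (-1) := by rw [map_neg, map_one, sub_eq_add_neg]
        linear_combination hP3 + (C c * ((X : ℚ[X]) + C (-1)) ^ (d + 1) - C c * (X - 1) ^ (d + 1)) * 0 +
          (congrArg (fun t : ℚ[X] => -(C c * t ^ (d + 1))) h1)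
  obtain ⟨P, hP1, hP2, hP3⟩ := key (d + 1) Q (fun k hk => Polynomial.coeff_eq_zero_of_natDegree_lt (by omega))
  let P' := P + C (φ 0 - P.eval 0)
  have hlead : P'.coeff (d + 1) ≠ 0 := by
    simp only [P', coeff_add, coeff_C, if_neg (Nat.succ_ne_zero d), add_zero, hP2, Nat.add_sub_cancel]
    refine div_ne_zero ?_ (by positivity)
    rw [← hd]
    exact leadingCoeff_ne_zero.mpr hQ
  refine ⟨P', natDegree_eq_of_le_of_coeff_ne_zero (natDegree_le_iff_coeff_eq_zero.mpr fun k hk => ?_) hlead, ?_⟩
  · simp only [P', coeff_add, coeff_C, if_neg (show k ≠ 0 by omega), add_zero]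
    exact hP1 k hk
  · have hstep : ∀ m : ℤ, φ m - P'.eval (m : ℚ) = φ (m - 1) - P'.eval ((m - 1 : ℤ) : ℚ) := by
      intro m
      have h1 := congrArg (fun q : ℚ[X] => q.eval (m : ℚ)) hP3
      simp only [eval_sub, eval_comp, eval_X, eval_one] at h1
      simp only [P', eval_add, eval_C]
      push_cast
      linarith [h m]
    intro m
    suffices h0 : φ m - P'.eval (m : ℚ) = 0 by linarith
    induction m using Int.induction_on with
    | zero => simp [P']
    | succ i hi => rw [hstep]; simpa using hi
    | pred i hi => rw [← hstep]; exact hi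

end Groth.Agent.S14405
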