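import Groth.Statements.S14410
import Groth.Agent.SSExist.LocCoh
import Groth.Agent.SSExist.SiteSheaf
import Groth.Agent.CohVanish.LES

set_option autoImplicit false
set_option backward.isDefEq.respectTransparency false
set_option backward.isDefEq.respectTransparency.types false
universe u
open CategoryTheory TopologicalSpace
open CohTop

namespace Groth.Agent.S14410

/-- Let X be a topological space and 0 → F₁ → F₂ → F₃ → 0 a short exact sequence of sheaves of abelian
groups on X. If F₁ and F₃ are flasque (every restriction map is surjective), then F₂ is flasque.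
(The published statement is for O_X-modules on a ringed space and is an equivalence; this row states
the implication from the outer terms to the middle term, for the underlying abelian sheaves.) -/
theorem result (X : TopCat.{u})
    (S : ShortComplex (TopCat.Sheaf AddCommGrpCat.{u} X)) (hS : S.ShortExact)
    [S.X₁.IsFlasque] [S.X₃.IsFlasque] : S.X₂.IsFlasque := by
  have := hS.mono_f
  refine ⟨fun {U V} i => ?_⟩
  rw [AddCommGrpCat.epi_iff_surjective]
  intro s
  obtain ⟨z, hz⟩ := (AddCommGrpCat.epi_iff_surjective _).1 (TopCat.Presheaf.IsFlasque.epi (F := S.X₃.obj) i) (S.g.hom.app V s)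
  obtain ⟨y, hy⟩ := (AddCommGrpCat.epi_iff_surjective _).1 (TopCat.Sheaf.IsFlasque.epi_of_shortExact (U := U.unop) hS) z
  let S' : ShortComplex (Sheaf (Opens.grothendieckTopology X) AddCommGrpCat.{u}) := S
  have hS' : S'.ShortExact := hS
  have hex := (ShortComplex.ab_exact_iff _).1 (hS'.exact.map_of_mono_of_preservesKernel (Groth.Agent.SSExist.secAb (Opens.grothendieckTopology X) V.unop) hS'.mono_f inferInstance)
  have hd : S.g.hom.app V (s - S.X₂.obj.map i y) = 0 := by
    rw [map_sub, ← hz]
    refine sub_eq_zero.2 ?_
    rw [← hy]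
    exact (ConcreteCategory.congr_hom (S.g.hom.naturality i) y).symm
  obtain ⟨x, hx⟩ := hex _ hd
  obtain ⟨x', hx'⟩ := (AddCommGrpCat.epi_iff_surjective _).1 (TopCat.Presheaf.IsFlasque.epi (F := S.X₁.obj) i) x
  refine ⟨S.f.hom.app U x' + y, ?_⟩
  rw [map_add]
  have h : S.X₂.obj.map i (S.f.hom.app U x') = S.f.hom.app V x :=
    (ConcreteCategory.congr_hom (S.f.hom.naturality i) x').symm.trans (congrArg _ hx')
  exact (congrArg (fun t => t + S.X₂.obj.map i y) (h.trans hx)).trans (sub_add_cancel s _)

end Groth.Agent.S14410
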