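import Mathlib
import Groth.Statements.S14413
-- import your own Groth.Agent.* helpers here

set_option autoImplicit false
universe u
open CategoryTheory CategoryTheory.Limits
open CAlg

namespace Groth.Agent.S14413

/-- Let R be a commutative ring, M an R-module and d ≥ 0. Then M has projective dimension at most d in
the sense that Ext^i_R(M, N) = 0 for every i > d and every R-module N (Mathlib's Ext-vanishing
definition) if and only if M has a projective resolution of length at most d, i.e. a projective
resolution P whose terms P_i are zero for all i > d (the definition of pd_R(M) ≤ d by resolutions). -/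
theorem result (R : Type u) [CommRing R]
    (M : ModuleCat.{u} R) (d : ℕ) :
    HasProjectiveDimensionLE M d ↔
      ∃ P : ProjectiveResolution M, ∀ i : ℕ, d < i → IsZero (P.complex.X i) := by
  constructor
  · intro h
    suffices H : ∀ (d : ℕ) (N : ModuleCat.{u} R), HasProjectiveDimensionLE N d →
        ∃ (X : ℕ → ModuleCat.{u} R) (dd : ∀ j, X (j + 1) →ₗ[R] X j) (aug : X 0 →ₗ[R] N),
          Function.Surjective aug ∧ Function.Exact (dd 0) aug ∧ (∀ j, Function.Exact (dd (j + 1)) (dd j)) ∧
          (∀ j, Projective (X j)) ∧ ∀ j, d < j → IsZero (X j) by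
      obtain ⟨X, dd, aug, hsurj, h0, hex, hproj, hz⟩ := H d M h
      let C : ChainComplex (ModuleCat.{u} R) ℕ := ChainComplex.of X (fun j => ModuleCat.ofHom (dd j))
        fun j => ModuleCat.hom_ext (LinearMap.ext fun x => (hex j).apply_apply_eq_zero x)
      have hCd : ∀ j, C.d (j + 1) j = ModuleCat.ofHom (dd j) := fun j =>
        ChainComplex.of_d X (fun j => ModuleCat.ofHom (dd j)) j
      refine ⟨{ complex := C, projective := hproj,
                π := (ChainComplex.toSingle₀Equiv _ _).symm ⟨ModuleCat.ofHom aug, by
                  rw [hCd]; exact ModuleCat.hom_ext (LinearMap.ext fun x => h0.apply_apply_eq_zero x)⟩,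
                quasiIso := ⟨fun n => ?_⟩ }, hz⟩
      cases n with
      | succ n =>
        rw [quasiIsoAt_iff_exactAt']
        · rw [HomologicalComplex.exactAt_iff' _ (n + 2) (n + 1) n (by simp) (by simp),
            ShortComplex.ShortExact.moduleCat_exact_iff_function_exact]
          simp only [hCd, HomologicalComplex.shortComplexFunctor'_obj_f,
            HomologicalComplex.shortComplexFunctor'_obj_g]
          exact hex n
        · exact ChainComplex.exactAt_succ_single_obj _ _
      | zero =>
        rw [ChainComplex.quasiIsoAt₀_iff, ShortComplex.quasiIso_iff_of_zeros']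
        · refine ⟨?_, ?_⟩
          · rw [ShortComplex.ShortExact.moduleCat_exact_iff_function_exact]
            simp only [HomologicalComplex.shortComplexFunctor'_map_τ₂,
              ChainComplex.toSingle₀Equiv_symm_apply_f_zero, HomologicalComplex.shortComplexFunctor'_obj_f, hCd]
            exact h0
          · exact (ModuleCat.epi_iff_surjective _).2 hsurj
        all_goals first | rfl | simp [C]
    intro d
    induction d with
    | zero =>
      intro N hN
      haveI : Projective N := (projective_iff_hasProjectiveDimensionLE_zero (X := N)).mpr hN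
      let Z : ModuleCat.{u} R := ModuleCat.of R PUnit.{u + 1}
      have hZ : IsZero Z := ModuleCat.isZero_of_subsingleton _
      refine ⟨fun j => Nat.casesOn j N (fun _ => Z), fun j => 0, LinearMap.id, Function.surjective_id, ?_, ?_, ?_, ?_⟩
      · intro x
        exact ⟨fun hx => ⟨0, hx.symm⟩, by rintro ⟨y, rfl⟩; rfl⟩
      · intro j x
        exact ⟨fun _ => ⟨0, Subsingleton.elim (α := PUnit.{u + 1}) _ _⟩, fun _ => rfl⟩
      · rintro (_ | j)
        · assumption
        · exact hZ.projective
      · rintro (_ | j) hj
        · exact absurd hj (lt_irrefl 0)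
        · exact hZ
    | succ d ih =>
      intro N hN
      let F : ModuleCat.{u} R := ModuleCat.of R (N →₀ R)
      let p : F →ₗ[R] N := Finsupp.linearCombination R (id : N → N)
      have hp : Function.Surjective p := Finsupp.linearCombination_id_surjective R N
      haveI : Projective F := (IsProjective.iff_projective _).1 (inferInstance : Module.Projective R (N →₀ R))
      let K : ModuleCat.{u} R := ModuleCat.of R (LinearMap.ker p)
      let S : ShortComplex (ModuleCat.{u} R) := ShortComplex.mk (ModuleCat.ofHom (LinearMap.ker p).subtype : K ⟶ F)
        (ModuleCat.ofHom p : F ⟶ N) (ModuleCat.hom_ext (LinearMap.ext fun x => x.2))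
      have hS : S.ShortExact :=
        { exact := (ShortComplex.ShortExact.moduleCat_exact_iff_function_exact S).mpr (LinearMap.exact_subtype_ker_map p)
          mono_f := (ModuleCat.mono_iff_injective _).2 (LinearMap.ker p).injective_subtype
          epi_g := (ModuleCat.epi_iff_surjective _).2 hp }
      have hK : HasProjectiveDimensionLE K d := (hS.hasProjectiveDimensionLT_X₃_iff d inferInstance).mp hN
      obtain ⟨X, dd, aug, hsurj, h0, hex, hproj, hz⟩ := ih K hK
      refine ⟨fun j => Nat.casesOn j F X, fun j => Nat.casesOn (motive := fun j =>
          ((Nat.casesOn (j + 1) F X : ModuleCat.{u} R) →ₗ[R] (Nat.casesOn j F X : ModuleCat.{u} R)))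
        j ((LinearMap.ker p).subtype.comp aug) dd, p, hp, ?_, ?_, ?_, ?_⟩
      · intro x
        constructor
        · intro hx
          obtain ⟨y, hy⟩ := hsurj ⟨x, hx⟩
          exact ⟨y, congrArg Subtype.val hy⟩
        · rintro ⟨y, rfl⟩
          exact (aug y).2
      · rintro (_ | j) x
        · exact ⟨fun hx => (h0 x).mp (Subtype.ext hx), fun hx => congrArg Subtype.val ((h0 x).mpr hx)⟩
        · exact hex j x
      · rintro (_ | j)
        · assumption
        · exact hproj j
      · rintro (_ | j) hj
        · exact absurd hj (Nat.not_lt_zero _)
        · exact hz j (by omega)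
  · rintro ⟨P, hP⟩
    rw [HasProjectiveDimensionLE, hasProjectiveDimensionLT_iff]
    intro i hi Y e
    obtain ⟨f, hf, rfl⟩ := P.extMk_surjective e (i + 1) rfl
    have : f = 0 := (hP i (by omega)).eq_of_src _ _
    subst this
    exact P.extMk_zero (i + 1) rfl

end Groth.Agent.S14413
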