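import Mathlib
import Groth.Statements.S14416
-- import your own Groth.Agent.* helpers here

set_option autoImplicit false
universe u
open scoped TensorProduct
open CAlg

namespace Groth.Agent.S14416

/-- Let B → A be a ring map with A a finitely generated B-module such that for every prime ideal p of B
the fibre κ(p) ⊗_B A has dimension at most one over the residue field κ(p). Then B → A is
surjective. In scheme language: a finite morphism whose degree at every point of the target is 0 or
1 is a closed immersion. (The published statement assumes the two schemes Noetherian; that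
hypothesis plays no role and is dropped here.) -/
theorem result
    (B A : Type u) [CommRing B] [CommRing A] [Algebra B A] [Module.Finite B A]
    (h : ∀ p : PrimeSpectrum B,
      Module.finrank p.asIdeal.ResidueField (p.asIdeal.ResidueField ⊗[B] A) ≤ 1) :
    Function.Surjective (algebraMap B A) := by
  let M := A ⧸ LinearMap.range (Algebra.linearMap B A)
  suffices hM : Subsingleton M by
    intro a
    obtain ⟨b, hb⟩ := (Submodule.Quotient.mk_eq_zero _).1 (Subsingleton.elim (Submodule.Quotient.mk a : M) 0)
    exact ⟨b, hb⟩
  rw [← Module.support_eq_empty_iff (R := B), Set.eq_empty_iff_forall_notMem]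
  intro p hp
  rw [Module.mem_support_iff_nontrivial_residueField_tensorProduct] at hp
  apply not_subsingleton_iff_nontrivial.2 hp
  let k := p.asIdeal.ResidueField
  have hq : Function.Surjective ((LinearMap.range (Algebra.linearMap B A)).mkQ.baseChange k) :=
    LinearMap.lTensor_surjective k (Submodule.mkQ_surjective _)
  have h1 : (LinearMap.range (Algebra.linearMap B A)).mkQ.baseChange k (1 : k ⊗[B] A) = 0 := by
    rw [Algebra.TensorProduct.one_def, LinearMap.baseChange_tmul, Submodule.mkQ_apply,
      (Submodule.Quotient.mk_eq_zero _).2 (LinearMap.mem_range.2 ⟨1, map_one (algebraMap B A)⟩), TensorProduct.tmul_zero]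
  refine subsingleton_of_forall_eq 0 fun z => ?_
  obtain ⟨w, rfl⟩ := hq z
  by_cases h10 : (1 : k ⊗[B] A) = 0
  · rw [show w = 0 by rw [← mul_one w, h10, mul_zero], map_zero]
  · obtain ⟨c, rfl⟩ : ∃ c : k, c • (1 : k ⊗[B] A) = w := by
      haveI : Module.Finite k (k ⊗[B] A) := inferInstance
      have h11 : Module.finrank k (k ⊗[B] A) = 1 :=
        le_antisymm (h p) (Module.finrank_pos_iff_exists_ne_zero.2 ⟨1, h10⟩)
      exact (finrank_eq_one_iff_of_nonzero' (1 : k ⊗[B] A) h10).1 h11 w
    rw [map_smul, h1, smul_zero]

end Groth.Agent.S14416
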