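import Groth.Statements.S14418
import Mathlib.RingTheory.Ideal.AssociatedPrime.Finiteness
import Mathlib.Algebra.Category.ModuleCat.Abelian
import Mathlib.Algebra.Homology.ShortComplex.ModuleCat
import Mathlib.RingTheory.Nakayama
-- import your own Groth.Agent.* helpers here

set_option autoImplicit false
universe u
open CategoryTheory
open CAlg

namespace Groth.Agent.S14418

/-- Let B → A be a local homomorphism of Noetherian local rings, n the maximal ideal of B, and T an
additive functor from B-modules to A-modules which is B-linear (T applied to multiplication by b ∈ B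
is multiplication by the image of b in A), carries finitely generated B-modules to finitely
generated A-modules, and is half-exact on finitely generated modules (every short exact sequence of
finitely generated B-modules goes to a sequence exact at its middle term). If T(B/n) = 0 then T(N) =
0 for every finitely generated B-module N. (The published statement takes T defined on finitely
generated modules only; here T is defined on all B-modules while every hypothesis and the conclusion
concern finitely generated modules.) -/
theorem result {B A : Type u} [CommRing B] [CommRing A]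
    [IsNoetherianRing B] [IsLocalRing B] [IsNoetherianRing A] [IsLocalRing A] [Algebra B A]
    [IsLocalHom (algebraMap B A)] (T : ModuleCat.{u} B ⥤ ModuleCat.{u} A) [T.Additive]
    (hlin : ∀ (N : ModuleCat.{u} B) (b : B),
      T.map (ModuleCat.ofHom (b • (LinearMap.id : N →ₗ[B] N))) =
        ModuleCat.ofHom (algebraMap B A b • (LinearMap.id : T.obj N →ₗ[A] T.obj N)))
    (hfin : ∀ N : ModuleCat.{u} B, Module.Finite B N → Module.Finite A (T.obj N))
    (hex : ∀ S : ShortComplex (ModuleCat.{u} B), S.ShortExact → Module.Finite B S.X₁ →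
      Module.Finite B S.X₂ → Module.Finite B S.X₃ → (S.map T).Exact)
    (h0 : Limits.IsZero (T.obj (ModuleCat.of B (B ⧸ IsLocalRing.maximalIdeal B))))
    (N : ModuleCat.{u} B) [Module.Finite B N] : Limits.IsZero (T.obj N) := by
  classical
  -- short exact sequences of finite modules
  have mid : ∀ (N₁ N₂ N₃ : Type u) [AddCommGroup N₁] [Module B N₁] [AddCommGroup N₂] [Module B N₂]
      [AddCommGroup N₃] [Module B N₃] [Module.Finite B N₁] [Module.Finite B N₂] [Module.Finite B N₃]
      (f : N₁ →ₗ[B] N₂) (g : N₂ →ₗ[B] N₃), Function.Injective f → Function.Surjective g →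
      Function.Exact f g →
      Function.Exact (T.map (ModuleCat.ofHom f)).hom (T.map (ModuleCat.ofHom g)).hom := by
    intro N₁ N₂ N₃ _ _ _ _ _ _ _ _ _ f g hf hg hfg
    let S : ShortComplex (ModuleCat.{u} B) :=
      ShortComplex.mk (ModuleCat.ofHom f) (ModuleCat.ofHom g)
        (by ext x; exact hfg.apply_apply_eq_zero x)
    have hS : S.ShortExact :=
      { exact := (ShortComplex.ShortExact.moduleCat_exact_iff_function_exact _).2 hfg
        mono_f := (ModuleCat.mono_iff_injective _).2 hf
        epi_g := (ModuleCat.epi_iff_surjective _).2 hg }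
    exact (ShortComplex.ShortExact.moduleCat_exact_iff_function_exact _).1
      (hex S hS inferInstance inferInstance inferInstance)
  have sub_of_ext : ∀ (N₁ N₂ N₃ : Type u) [AddCommGroup N₁] [Module B N₁] [AddCommGroup N₂]
      [Module B N₂] [AddCommGroup N₃] [Module B N₃] [Module.Finite B N₁] [Module.Finite B N₂]
      [Module.Finite B N₃] (f : N₁ →ₗ[B] N₂) (g : N₂ →ₗ[B] N₃),
      Function.Injective f → Function.Surjective g → Function.Exact f g →
      Subsingleton (T.obj (ModuleCat.of B N₁)) → Subsingleton (T.obj (ModuleCat.of B N₃)) →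
      Subsingleton (T.obj (ModuleCat.of B N₂)) := by
    intro N₁ N₂ N₃ _ _ _ _ _ _ _ _ _ f g hf hg hfg h1 h3
    refine subsingleton_of_forall_eq 0 fun x => ?_
    obtain ⟨y, hy⟩ := ((mid N₁ N₂ N₃ f g hf hg hfg) x).1 (Subsingleton.elim _ _)
    rw [← hy, Subsingleton.elim y 0, map_zero]
  have triv : ∀ (N : Type u) [AddCommGroup N] [Module B N] [Subsingleton N],
      Subsingleton (T.obj (ModuleCat.of B N)) := by
    intro N _ _ _
    exact ModuleCat.subsingleton_of_isZero
      (T.map_isZero (ModuleCat.isZero_of_subsingleton (ModuleCat.of B N)))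
  -- cyclic modules
  have cyc : ∀ I : Ideal B, Subsingleton (T.obj (ModuleCat.of B (B ⧸ I))) := by
    intro I
    induction I using WellFoundedGT.induction with
    | ind I IH =>
    by_cases htop : I = ⊤
    · have : Subsingleton (B ⧸ I) := Ideal.Quotient.subsingleton_iff.2 htop
      exact triv _
    by_cases hm : I = IsLocalRing.maximalIdeal B
    · rw [hm]; exact ModuleCat.subsingleton_of_isZero h0
    have hle : I ≤ IsLocalRing.maximalIdeal B := IsLocalRing.le_maximalIdeal htop
    by_cases hp : I.IsPrime
    · obtain ⟨b, hbm, hbI⟩ := SetLike.exists_of_lt (lt_of_le_of_ne hle hm)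
      let μ : (B ⧸ I) →ₗ[B] (B ⧸ I) := b • LinearMap.id
      have hμ : Function.Injective μ := by
        rw [injective_iff_map_eq_zero]
        intro x hx
        obtain ⟨x, rfl⟩ := Ideal.Quotient.mk_surjective x
        have h' : b * x ∈ I := (Ideal.Quotient.eq_zero_iff_mem (I := I)).1 hx
        exact Ideal.Quotient.eq_zero_iff_mem.2 ((hp.mem_or_mem h').resolve_left hbI)
      let J := I ⊔ Ideal.span {b}
      have hJ : I < J := lt_of_le_of_ne le_sup_left fun h =>
        hbI (h ▸ Ideal.mem_sup_right (Ideal.mem_span_singleton_self b))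
      let π : (B ⧸ I) →ₗ[B] (B ⧸ J) := Submodule.factor le_sup_left
      have hπ : Function.Surjective π := Submodule.factor_surjective _
      have hex' : Function.Exact μ π := by
        intro x
        obtain ⟨x, rfl⟩ := Ideal.Quotient.mk_surjective x
        constructor
        · intro hx
          have h' : x ∈ J := (Ideal.Quotient.eq_zero_iff_mem (I := J)).1 hx
          obtain ⟨y, hy, z, hz, rfl⟩ := Submodule.mem_sup.1 h'
          obtain ⟨w, rfl⟩ := Ideal.mem_span_singleton.1 hz
          exact ⟨Ideal.Quotient.mk I w, (Ideal.Quotient.eq (I := I)).2 (by simpa using I.neg_mem hy)⟩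
        · rintro ⟨y, hy⟩
          obtain ⟨y, rfl⟩ := Ideal.Quotient.mk_surjective y
          have h' : b * y - x ∈ I := (Ideal.Quotient.eq (I := I)).1 hy
          refine (Ideal.Quotient.eq_zero_iff_mem (I := J)).2 ?_
          have : x = b * y - (b * y - x) := by ring
          rw [this]
          exact J.sub_mem (J.mul_mem_right _ (Ideal.mem_sup_right (Ideal.mem_span_singleton_self b)))
            (Ideal.mem_sup_left h')
      have h3 : Subsingleton (T.obj (ModuleCat.of B (B ⧸ J))) := IH J hJ
      have hsurj : ∀ x, x ∈ LinearMap.range (T.map (ModuleCat.ofHom μ)).hom := fun x =>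
        ((mid _ _ _ μ π hμ hπ hex') x).1 (Subsingleton.elim _ _)
      have hfinT : Module.Finite A (T.obj (ModuleCat.of B (B ⧸ I))) :=
        hfin _ (inferInstanceAs (Module.Finite B (B ⧸ I)))
      have hle' : (⊤ : Submodule A (T.obj (ModuleCat.of B (B ⧸ I)))) ≤
          IsLocalRing.maximalIdeal A • ⊤ := by
        intro x _
        obtain ⟨y, rfl⟩ := hsurj x
        have hlin' := congrArg (fun φ => φ.hom y) (hlin (ModuleCat.of B (B ⧸ I)) b)
        change (T.map (ModuleCat.ofHom μ)).hom y = algebraMap B A b • y at hlin'
        rw [hlin']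
        exact Submodule.smul_mem_smul
          ((IsLocalRing.mem_maximalIdeal _).2 fun h => hbm (isUnit_of_map_unit _ _ h)) trivial
      have htop' := Submodule.eq_bot_of_le_smul_of_le_jacobson_bot _ _ hfinT.fg_top hle'
        (IsLocalRing.maximalIdeal_le_jacobson _)
      exact ⟨fun a a' => by
        have ha : a ∈ (⊥ : Submodule A _) := htop' ▸ Submodule.mem_top
        have ha' : a' ∈ (⊥ : Submodule A _) := htop' ▸ Submodule.mem_top
        rw [(Submodule.mem_bot A).1 ha, (Submodule.mem_bot A).1 ha']⟩
    · obtain ⟨x, hx, y, hy, hxy⟩ := (Ideal.not_isPrime_iff.1 hp).resolve_left htop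
      let μ₀ : B →ₗ[B] (B ⧸ I) := LinearMap.toSpanSingleton B _ (Ideal.Quotient.mk I x)
      let C := LinearMap.ker μ₀
      have hC : I < C := by
        refine lt_of_le_of_ne (fun z hz => ?_) fun h => hy ?_
        · change z • Ideal.Quotient.mk I x = 0
          exact Ideal.Quotient.eq_zero_iff_mem.2 (I.mul_mem_right _ hz)
        · rw [h]
          change y • Ideal.Quotient.mk I x = 0
          exact Ideal.Quotient.eq_zero_iff_mem.2 (show y * x ∈ I by rwa [mul_comm])
      let μ : (B ⧸ C) →ₗ[B] (B ⧸ I) := C.liftQ μ₀ le_rfl
      have hμ : Function.Injective μ :=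
        LinearMap.ker_eq_bot.1 (Submodule.ker_liftQ_eq_bot _ _ _ le_rfl)
      let J := I ⊔ Ideal.span {x}
      have hJ : I < J := lt_of_le_of_ne le_sup_left fun h =>
        hx (h ▸ Ideal.mem_sup_right (Ideal.mem_span_singleton_self x))
      let π : (B ⧸ I) →ₗ[B] (B ⧸ J) := Submodule.factor le_sup_left
      have hex' : Function.Exact μ π := by
        intro a
        obtain ⟨a, rfl⟩ := Ideal.Quotient.mk_surjective a
        constructor
        · intro ha
          have h' : a ∈ J := (Ideal.Quotient.eq_zero_iff_mem (I := J)).1 ha
          obtain ⟨y', hy', z, hz, rfl⟩ := Submodule.mem_sup.1 h'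
          obtain ⟨w, rfl⟩ := Ideal.mem_span_singleton.1 hz
          refine ⟨Submodule.Quotient.mk w, (Ideal.Quotient.eq (I := I)).2 ?_⟩
          have : w * x - (y' + x * w) = -y' := by ring
          change w * x - (y' + x * w) ∈ I
          rw [this]
          exact I.neg_mem hy'
        · rintro ⟨w, hw⟩
          obtain ⟨w, rfl⟩ := Submodule.Quotient.mk_surjective C w
          have h' : w * x - a ∈ I := (Ideal.Quotient.eq (I := I)).1 hw
          refine (Ideal.Quotient.eq_zero_iff_mem (I := J)).2 ?_
          have : a = w * x - (w * x - a) := by ring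
          rw [this]
          exact J.sub_mem (J.mul_mem_left _ (Ideal.mem_sup_right (Ideal.mem_span_singleton_self x)))
            (Ideal.mem_sup_left h')
      exact sub_of_ext _ _ _ μ π hμ (Submodule.factor_surjective _) hex' (IH C hC) (IH J hJ)
  have all : ∀ (M : Type u) [AddCommGroup M] [Module B M] [Module.Finite B M],
      Subsingleton (T.obj (ModuleCat.of B M)) := by
    intro M _ _ hM
    exact IsNoetherianRing.induction_on_isQuotientEquivQuotientPrime B hM
      (motive := fun N _ _ _ => Subsingleton (T.obj (ModuleCat.of B N)))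
      (fun N _ _ _ _ => triv N)
      (fun N _ _ _ p e => by
        have := cyc p.1
        exact Equiv.subsingleton (T.mapIso e.toModuleIso).toLinearEquiv.toEquiv)
      (fun N₁ _ _ _ N₂ _ _ _ N₃ _ _ _ f g hf hg hfg h1 h3 =>
        sub_of_ext N₁ N₂ N₃ f g hf hg hfg h1 h3)
  have := all N
  exact ModuleCat.isZero_of_subsingleton (T.obj N)

end Groth.Agent.S14418
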