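import Groth.Statements.S14420
import Groth.Agent.DepthLib.CMModule
import Mathlib.Algebra.Category.ModuleCat.Ext.Finite
open CategoryTheory

set_option autoImplicit false
universe u
open CategoryTheory
open LocCoh

namespace Groth.Agent.S14420

/-- Let A be a Noetherian local ring and M, N nonzero finitely generated A-modules. Then Ext^i_A(N, M) =
0 for all i < depth M − dim Supp N. Here depth M = d and the Krull dimension of the support of N = r
are given as natural numbers and the conclusion is stated for every i with i + r < d. -/
theorem result (A : Type u) [CommRing A] [IsNoetherianRing A]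
    [IsLocalRing A] (M N : Type u) [AddCommGroup M] [Module A M] [AddCommGroup N] [Module A N]
    [Module.Finite A M] [Module.Finite A N] [Nontrivial M] [Nontrivial N]
    (d r i : ℕ) (hd : LocCoh.depth A M = d) (hr : Module.supportDim A N = r) (hi : i + r < d) :
    Subsingleton (Abelian.Ext (ModuleCat.of A N) (ModuleCat.of A M) i) := by
  have key : ∀ (r : ℕ) (N : Type u) [AddCommGroup N] [Module A N] [Module.Finite A N] (i : ℕ),
      Module.supportDim A N ≤ (r : WithBot ℕ∞) → i + r < d →
        Subsingleton (Abelian.Ext (ModuleCat.of A N) (ModuleCat.of A M) i) := by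
    intro r
    induction r using Nat.strong_induction_on with
    | _ r ihr =>
      intro N _ _ hfin
      induction ‹Module.Finite A N› using IsNoetherianRing.induction_on_isQuotientEquivQuotientPrime with
      | subsingleton N =>
        intro i _ _
        exact subsingleton_of_forall_eq 0 fun x =>
          ((ModuleCat.isZero_of_subsingleton (ModuleCat.of A N)).eq_of_src (𝟙 _) 0) |> fun h => by
            rw [← Abelian.Ext.mk₀_id_comp x, h, Abelian.Ext.mk₀_zero, Abelian.Ext.zero_comp]
      | quotient N p e =>
        intro i hdim hid
        haveI := (ModuleCat.of A (A ⧸ p.asIdeal))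
        have hsupp : Module.support A N = PrimeSpectrum.zeroLocus (p.asIdeal : Set A) := by
          rw [e.support_eq, Module.support_eq_zeroLocus, Ideal.annihilator_quotient]
        by_cases hpm : p.asIdeal = IsLocalRing.maximalIdeal A
        · exact DepthLib.subsingleton_ext_of_lt_idealDepth (I := IsLocalRing.maximalIdeal A)
            (hsupp.le.trans (by rw [hpm]))
            (show (i : ℕ∞) < LocCoh.depth A M by rw [hd]; exact_mod_cast (by omega : i < d))
        · obtain ⟨x, hxm, hxp⟩ := SetLike.exists_of_lt
            (lt_of_le_of_ne (IsLocalRing.le_maximalIdeal p.isPrime.ne_top) hpm)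
          have hreg : IsSMulRegular N x := by
            rw [e.isSMulRegular_congr, isSMulRegular_iff_right_eq_zero_of_smul]
            intro z hz
            obtain ⟨a, rfl⟩ := Ideal.Quotient.mk_surjective z
            rw [Ideal.Quotient.eq_zero_iff_mem]
            exact (p.isPrime.mem_or_mem (Ideal.Quotient.eq_zero_iff_mem.mp
              (show Ideal.Quotient.mk p.asIdeal (x * a) = 0 from hz))).resolve_left hxp
          haveI : Nontrivial N := e.toEquiv.nontrivial_congr.mpr (Ideal.Quotient.nontrivial_iff.mpr p.isPrime.ne_top)
          have hq := Module.supportDim_quotSMulTop_succ_eq_supportDim hreg hxm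
          obtain ⟨r', rfl⟩ : ∃ r', r = r' + 1 := by
            refine Nat.exists_eq_succ_of_ne_zero fun h0 => ?_
            subst h0
            haveI : Nontrivial (QuotSMulTop x N) := by
              rw [← Module.supportDim_ne_bot_iff_nontrivial A]
              intro hb
              rw [hb, WithBot.bot_add] at hq
              exact Module.supportDim_ne_bot_of_nontrivial A N hq.symm
            obtain ⟨g, hg⟩ := DepthLib.exists_nat_supportDim (R := A) (QuotSMulTop x N)
            rw [← hq, hg] at hdim
            have : ((g + 1 : ℕ) : WithBot ℕ∞) ≤ ((0 : ℕ) : WithBot ℕ∞) := by exact_mod_cast hdim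
            exact absurd (Nat.cast_le.mp this) (by omega)
          have hQ : Module.supportDim A (QuotSMulTop x N) ≤ (r' : WithBot ℕ∞) :=
            DepthLib.withBot_le_of_add_one_le (hq.le.trans (hdim.trans (by push_cast; rfl)))
          have h1 := ihr r' (Nat.lt_succ_self r') (QuotSMulTop x N) (i + 1) hQ (by omega)
          refine subsingleton_of_forall_eq 0 fun z => ?_
          have htop : (⊤ : Submodule A (Abelian.Ext (ModuleCat.of A N) (ModuleCat.of A M) i)) ≤
              Ideal.span {x} • ⊤ := fun y _ => by
            obtain ⟨y', hy'⟩ := Abelian.Ext.contravariant_sequence_exact₁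
              (IsSMulRegular.smulShortComplex_shortExact (M := ModuleCat.of A N) (r := x) hreg)
              (ModuleCat.of A M) y (n₁ := i + 1) (add_comm 1 i)
              (@Subsingleton.elim _ h1 _ _)
            rw [← hy', show (Abelian.Ext.mk₀ (ModuleCat.of A N |>.smulShortComplex x).f).comp y' (zero_add i)
              = x • y' by
                rw [ModuleCat.smulShortComplex_f_eq_smul_id]
                erw [Abelian.Ext.mk₀_smul, Abelian.Ext.smul_comp, Abelian.Ext.mk₀_id_comp]
                rfl]
            exact Submodule.smul_mem_smul (Ideal.mem_span_singleton_self x) trivial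
          have hbot := Submodule.eq_bot_of_le_smul_of_le_jacobson_bot (Ideal.span {x}) _
            Module.Finite.fg_top htop (((Ideal.span_singleton_le_iff_mem _).mpr hxm).trans
              (IsLocalRing.maximalIdeal_le_jacobson _))
          exact (Submodule.mem_bot A).mp (hbot ▸ Submodule.mem_top)
      | exact N₁ N₂ N₃ f g hf hg hfg ih1 ih3 =>
        intro i hdim hid
        have hS := DepthLib.shortExact_of_exact hf hg hfg
        have h1 := ih1 i ((Module.supportDim_le_of_injective f hf).trans hdim) hid
        have h3 := ih3 i ((Module.supportDim_le_of_surjective g hg).trans hdim) hid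
        refine subsingleton_of_forall_eq 0 fun z => ?_
        obtain ⟨y, rfl⟩ := Abelian.Ext.contravariant_sequence_exact₂ hS (ModuleCat.of A M) z (@Subsingleton.elim _ h1 _ _)
        rw [@Subsingleton.elim _ h3 y 0, Abelian.Ext.comp_zero]
  exact key r N i hr.le hi

end Groth.Agent.S14420
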