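import Mathlib
import Groth.Statements.S14421
-- import your own Groth.Agent.* helpers here

set_option autoImplicit false
universe u v
open CategoryTheory
open HomAlg

namespace Groth.Agent.S14421

/-- Let φ : K → J be a morphism of cochain complexes of modules over a ring which is surjective in
degree p − 1. Then the map induced on cohomology in degree p is surjective if and only if the map
induced on cocycles in degree p is surjective. (Stated for cochain complexes indexed by the
integers; the published statement is for three-term complexes in degrees p − 1, p, p + 1, which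
embed as such complexes.) -/
theorem result {R : Type u} [Ring R]
    (K J : CochainComplex (ModuleCat.{v} R) ℤ) (φ : K ⟶ J) (p : ℤ) [Epi (φ.f (p - 1))] :
    Epi (HomologicalComplex.homologyMap φ p) ↔ Epi (HomologicalComplex.cyclesMap φ p) := by
  constructor
  · intro _
    rw [epi_iff_surjective_up_to_refinements]
    intro A z
    obtain ⟨A₁, π₁, _, h, hh⟩ := surjective_up_to_refinements_of_epi (HomologicalComplex.homologyMap φ p) (z ≫ J.homologyπ p)
    obtain ⟨A₂, π₂, _, z', hz'⟩ := surjective_up_to_refinements_of_epi (K.homologyπ p) h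
    have h0 : (π₂ ≫ π₁ ≫ z - z' ≫ HomologicalComplex.cyclesMap φ p) ≫ J.homologyπ p = 0 := by
      rw [Preadditive.sub_comp, Category.assoc, Category.assoc, Category.assoc, hh,
        ← HomologicalComplex.homologyπ_naturality, ← Category.assoc, ← Category.assoc, hz', sub_self]
    obtain ⟨A₃, π₃, _, b, hb⟩ := (ShortComplex.exact_of_g_is_cokernel
      (ShortComplex.mk (J.toCycles (p - 1) p) (J.homologyπ p) (by simp))
      (J.homologyIsCokernel (p - 1) p (by simp))).exact_up_to_refinements _ h0
    obtain ⟨A₄, π₄, _, b', hb'⟩ := surjective_up_to_refinements_of_epi (φ.f (p - 1)) b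
    refine ⟨A₄, π₄ ≫ π₃ ≫ π₂ ≫ π₁, inferInstance, π₄ ≫ π₃ ≫ z' + b' ≫ K.toCycles (p - 1) p, ?_⟩
    have e : π₄ ≫ π₃ ≫ (π₂ ≫ π₁ ≫ z - z' ≫ HomologicalComplex.cyclesMap φ p) = (b' ≫ φ.f (p - 1)) ≫ J.toCycles (p - 1) p := by
      rw [← hb', Category.assoc, hb]
    simp only [Preadditive.comp_sub, Category.assoc, sub_eq_iff_eq_add] at e
    have en : K.toCycles (p - 1) p ≫ HomologicalComplex.cyclesMap φ p = φ.f (p - 1) ≫ J.toCycles (p - 1) p := by
      simp [← cancel_mono (J.iCycles p)]
    simp only [Preadditive.add_comp, Category.assoc, en, e]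
    abel
  · intro _
    haveI : Epi (K.homologyπ p ≫ HomologicalComplex.homologyMap φ p) := by
      rw [HomologicalComplex.homologyπ_naturality]; infer_instance
    exact epi_of_epi (K.homologyπ p) _

end Groth.Agent.S14421
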