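import Groth.Statements.S14425
import Groth.Agent.DepthLib.Sequence

set_option autoImplicit false
universe u
open LocCoh

namespace Groth.Agent.S14425

/-- Let (R, m) be a Noetherian local ring, M a nonzero finitely generated R-module and x_1, …, x_n
elements of m generating the ideal a. Then depth(a, M) = n if and only if x_1, …, x_n is an
M-regular sequence (each x_i a non-zero-divisor on M/(x_1, …, x_{i-1})M; the condition (x)M ≠ M is
automatic here). -/
theorem result {R : Type u} [CommRing R] [IsNoetherianRing R] [IsLocalRing R]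
    {M : Type u} [AddCommGroup M] [Module R M] [Module.Finite R M] [Nontrivial M]
    (xs : List R) (hxs : ∀ x ∈ xs, x ∈ IsLocalRing.maximalIdeal R) :
    LocCoh.idealDepth (Ideal.span {x | x ∈ xs}) M = xs.length ↔ RingTheory.Sequence.IsWeaklyRegular M xs := by
  refine ⟨fun h => DepthLib.isWeaklyRegular_of_length_le_idealDepth xs hxs h.ge, fun h => ?_⟩
  have hI : ∀ r ∈ xs, r ∈ Ideal.ofList xs := fun r hr => Ideal.subset_span hr
  change LocCoh.idealDepth (Ideal.ofList xs) M = xs.length
  rw [← DepthLib.idealDepth_quot_ofList_add_length xs M h hI]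
  have h0 : LocCoh.idealDepth (Ideal.ofList xs) (M ⧸ (Ideal.ofList xs • ⊤ : Submodule R M)) = 0 := by
    by_contra hne
    obtain ⟨r, hr, hreg⟩ := DepthLib.one_le_idealDepth_iff.mp
      (Order.one_le_iff_pos.mpr (pos_iff_ne_zero.mpr hne))
    haveI : Nontrivial (M ⧸ (Ideal.ofList xs • ⊤ : Submodule R M)) :=
      Submodule.Quotient.nontrivial_iff.mpr
        ((IsLocalRing.isRegular_iff_isWeaklyRegular_of_subset_maximalIdeal hxs).mpr h).top_ne_smul.symm
    obtain ⟨z, hz⟩ := exists_ne (0 : M ⧸ (Ideal.ofList xs • ⊤ : Submodule R M))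
    refine hz (hreg.right_eq_zero_of_smul ?_)
    obtain ⟨m, rfl⟩ := Submodule.Quotient.mk_surjective _ z
    rw [← Submodule.Quotient.mk_smul, Submodule.Quotient.mk_eq_zero]
    exact Submodule.smul_mem_smul hr trivial
  rw [h0, zero_add]

end Groth.Agent.S14425
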