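import Groth.Statements.S14426
import Groth.Agent.KoszulCone.Depth

set_option autoImplicit false
universe u
open Koszul3

namespace Groth.Agent.S14426

variable {R : Type u} [CommRing R]

private lemma eq_zero_top (M : ModuleCat.{u} R) (xs : List R) (i : ℤ) (hi : i = 0)
    (h : ∀ x : (CohIII.koszulCx M xs).homology i, x = 0) : Ideal.ofList xs • (⊤ : Submodule R M) = ⊤ := by
  subst hi
  obtain ⟨π, hπ, hker⟩ := KoszulCone.exists_top_map M xs
  exact top_le_iff.1 fun x _ => (hker x).1 (h _)


open CategoryTheory CategoryTheory.Limits in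
/-- Let (R, m) be a Noetherian local ring, M a nonzero finitely generated R-module and x_1, …, x_n
elements of m generating the ideal a. Then depth(a, M) ≤ n; the Koszul cohomology H^p(x; M) vanishes
for every p < depth(a, M); and H^r(x; M) is nonzero for r = depth(a, M). (Cohomological indexing
with H^n(x; M) = M/(x)M; in homological indexing this reads H_i = 0 for i > n − r and H_{n−r} ≠ 0.
Koszul complex realised by iterated mapping cones, as in the prelude.) -/
theorem result {R : Type u} [CommRing R] [IsNoetherianRing R] [IsLocalRing R]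
    (M : Type u) [AddCommGroup M] [Module R M] [Module.Finite R M] [Nontrivial M]
    (xs : List R) (hxs : ∀ x ∈ xs, x ∈ IsLocalRing.maximalIdeal R) :
    LocCoh.idealDepth (Ideal.span {x | x ∈ xs}) M ≤ xs.length ∧
      (∀ p : ℕ, (p : ℕ∞) < LocCoh.idealDepth (Ideal.span {x | x ∈ xs}) M → IsZero (CohIII.koszulH xs (ModuleCat.of R M) p)) ∧
      (∀ r : ℕ, LocCoh.idealDepth (Ideal.span {x | x ∈ xs}) M = r → ¬ IsZero (CohIII.koszulH xs (ModuleCat.of R M) r)) := by
  have hle : Ideal.span {x | x ∈ xs} ≤ IsLocalRing.maximalIdeal R := Ideal.span_le.2 hxs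
  have htop : Ideal.span {x | x ∈ xs} • (⊤ : Submodule R M) ≠ ⊤ := fun h =>
    DepthLib.maximalIdeal_smul_top_ne_top (R := R) (M := M) (top_le_iff.1 (le_of_eq_of_le h.symm
      (Submodule.smul_mono_left hle)))
  refine ⟨not_lt.1 fun h => ?_, fun p hp => ?_, fun r hr hz => ?_⟩
  · obtain ⟨rs, hlen, hreg, hmem⟩ := DepthLib.exists_isWeaklyRegular_of_natCast_le_idealDepth htop (xs.length + 1)
      (by rw [Nat.cast_add, Nat.cast_one]; exact Order.add_one_le_of_lt h)
    exact htop (eq_zero_top (ModuleCat.of R M) xs 0 rfl fun x =>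
      KoszulCone.koszul_eq_zero_of_regular xs rs (ModuleCat.of R M) hreg hmem 0 (by omega) x)
  · obtain ⟨rs, hlen, hreg, hmem⟩ := DepthLib.exists_isWeaklyRegular_of_natCast_le_idealDepth htop (p + 1)
      (by rw [Nat.cast_add, Nat.cast_one]; exact Order.add_one_le_of_lt hp)
    haveI := subsingleton_of_forall_eq (0 : CohIII.koszulH xs (ModuleCat.of R M) p) fun x =>
      KoszulCone.koszul_eq_zero_of_regular xs rs (ModuleCat.of R M) hreg hmem _ (by omega) x
    exact ModuleCat.isZero_of_subsingleton _
  · obtain ⟨x, hx⟩ := KoszulCone.exists_ne_zero_of_idealDepth_eq xs r (ModuleCat.of R M) inferInstance hr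
    exact hx ((ModuleCat.subsingleton_of_isZero hz).elim _ _)

end Groth.Agent.S14426
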