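import Groth.Statements.S14427
import Mathlib

set_option autoImplicit false
universe u
open CAlgX

namespace Groth.Agent.S14427

/-- Let k be a field and Λ a set of n ≥ 3 nonzero vectors of k^3 which are pairwise linearly
independent, i.e. n distinct k-rational points of the projective plane. Then the space of
homogeneous forms of degree n − 1 in k[x_0, x_1, x_2] vanishing at every point of Λ — the global
sections of I_Λ(n − 1) — has dimension C(n+1, 2) − n over k, the same for all such Λ. (The published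
statement is over an algebraically closed field; this row allows any field and k-rational points,
which is all its argument uses.) -/
theorem result (k : Type u) [Field k] (n : ℕ) (hn : 3 ≤ n)
    (Λ : Finset (Fin 3 → k)) (hcard : Λ.card = n) (h0 : ∀ v ∈ Λ, v ≠ 0)
    (hdist : ∀ v ∈ Λ, ∀ w ∈ Λ, v ≠ w → LinearIndependent k ![v, w]) :
    Module.finrank k ↥(MvPolynomial.homogeneousSubmodule (Fin 3) k (n - 1) ⊓ ⨅ v ∈ Λ, LinearMap.ker (MvPolynomial.aeval v).toLinearMap) = Nat.choose (n + 1) 2 - n := by
  classical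
  set H := MvPolynomial.homogeneousSubmodule (Fin 3) k (n - 1)
  let ev : H →ₗ[k] (Λ → k) :=
    (LinearMap.pi fun v : Λ => (MvPolynomial.aeval (R := k) (v : Fin 3 → k)).toLinearMap).comp H.subtype
  have hsep : ∀ v ∈ Λ, ∃ p ∈ H, MvPolynomial.aeval v p ≠ 0 ∧
      ∀ w ∈ Λ, w ≠ v → MvPolynomial.aeval w p = 0 := by
    intro v hv
    have hlin : ∀ w : Fin 3 → k, ∃ p : MvPolynomial (Fin 3) k, w ∈ Λ → w ≠ v →
        p.IsHomogeneous 1 ∧ MvPolynomial.aeval w p = 0 ∧ MvPolynomial.aeval v p ≠ 0 := by
      intro w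
      by_cases h : w ∈ Λ ∧ w ≠ v
      · have hli := hdist w h.1 v hv h.2
        have hnot : v ∉ k ∙ w := by
          intro hm
          obtain ⟨c, hc⟩ := Submodule.mem_span_singleton.1 hm
          have := LinearIndependent.pair_iff.1 hli c (-1) (by rw [hc]; simp)
          simp at this
        obtain ⟨f, hfv, hfw⟩ := Submodule.exists_dual_map_eq_bot_of_notMem hnot inferInstance
        have hev : ∀ u : Fin 3 → k,
            MvPolynomial.aeval u (∑ i, MvPolynomial.C (f (Pi.single i 1)) * MvPolynomial.X i) = f u := by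
          intro u
          conv_rhs => rw [pi_eq_sum_univ' u]
          simp [mul_comm]
        refine ⟨∑ i, MvPolynomial.C (f (Pi.single i 1)) * MvPolynomial.X i, fun _ _ =>
          ⟨?_, ?_, ?_⟩⟩
        · exact MvPolynomial.IsHomogeneous.sum _ _ _ fun i _ =>
            (MvPolynomial.isHomogeneous_X k i).C_mul _
        · rw [hev]
          have : f w ∈ (k ∙ w).map f := Submodule.mem_map_of_mem (Submodule.mem_span_singleton_self w)
          rw [hfw] at this
          exact (Submodule.mem_bot k).1 this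
        · rw [hev]; exact hfv
      · exact ⟨0, fun h1 h2 => (h ⟨h1, h2⟩).elim⟩
    choose p hp using hlin
    refine ⟨∏ w ∈ Λ.erase v, p w, ?_, ?_, ?_⟩
    · rw [MvPolynomial.mem_homogeneousSubmodule]
      have := MvPolynomial.IsHomogeneous.prod (Λ.erase v) p (fun _ => 1) fun w hw =>
        (hp w (Finset.mem_erase.1 hw).2 (Finset.mem_erase.1 hw).1).1
      simpa [Finset.card_erase_of_mem hv, hcard] using this
    · rw [map_prod, Finset.prod_ne_zero_iff]
      exact fun w hw => (hp w (Finset.mem_erase.1 hw).2 (Finset.mem_erase.1 hw).1).2.2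
    · intro w hw hne
      rw [map_prod]
      exact Finset.prod_eq_zero (Finset.mem_erase.2 ⟨hne, hw⟩) (hp w hw hne).2.1
  have hsurj : Function.Surjective ev := by
    rw [← LinearMap.range_eq_top, eq_top_iff, ← (Pi.basisFun k Λ).span_eq, Submodule.span_le]
    rintro _ ⟨v, rfl⟩
    obtain ⟨p, hp, hpv, hpw⟩ := hsep v v.2
    refine ⟨(MvPolynomial.aeval (v : Fin 3 → k) p)⁻¹ • ⟨p, hp⟩, funext fun w => ?_⟩
    rw [Pi.basisFun_apply]
    rcases eq_or_ne w v with rfl | hne
    · simp [ev]; exact inv_mul_cancel₀ hpv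
    · simp [ev, hne, hpw w w.2 (fun h => hne (Subtype.ext h))]
  have hfin : {d : Fin 3 →₀ ℕ | d.degree = n - 1} =
      ↑((Finset.univ : Finset (Fin 3)).finsuppAntidiag (n - 1)) := by
    ext d; simp [Finset.mem_finsuppAntidiag, Finsupp.degree_eq_sum]
  haveI hft : Fintype {d : Fin 3 →₀ ℕ | d.degree = n - 1} := by
    rw [hfin]; infer_instance
  let e : H ≃ₗ[k] ({d : Fin 3 →₀ ℕ | d.degree = n - 1} →₀ k) :=
    (LinearEquiv.ofEq _ _ (MvPolynomial.homogeneousSubmodule_eq_finsupp_supported (Fin 3) k _)).trans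
      (AddMonoidAlgebra.supportedEquivFinsupp _)
  have hdim : Module.finrank k H = Nat.choose (n + 1) 2 := by
    rw [e.finrank_eq, Module.finrank_finsupp_self, ← Nat.card_eq_fintype_card,
      Nat.card_coe_set_eq, hfin, Set.ncard_coe_finset, Finset.card_finsuppAntidiag_nat_eq_choose]
    simp only [Finset.card_univ, Fintype.card_fin]
    rw [show 3 + (n - 1) - 1 = n + 1 by omega, ← Nat.choose_symm (show 2 ≤ n + 1 by omega)]
    rfl
  haveI : Module.Finite k H := Module.Finite.equiv e.symm
  have hrn := LinearMap.finrank_range_add_finrank_ker ev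
  rw [LinearMap.range_eq_top.2 hsurj, finrank_top, Module.finrank_pi, Fintype.card_coe, hcard,
    hdim] at hrn
  have hker : (LinearMap.ker ev).map H.subtype =
      H ⊓ ⨅ v ∈ Λ, LinearMap.ker (MvPolynomial.aeval (R := k) v).toLinearMap := by
    ext x
    simp only [Submodule.mem_map, Submodule.mem_inf, Submodule.mem_iInf, LinearMap.mem_ker]
    constructor
    · rintro ⟨⟨y, hy⟩, h, rfl⟩
      exact ⟨hy, fun v hv => congrFun h ⟨v, hv⟩⟩
    · rintro ⟨hx, h⟩
      exact ⟨⟨x, hx⟩, funext fun v => h v v.2, rfl⟩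
  rw [← hker, Submodule.finrank_map_subtype_eq]
  omega

end Groth.Agent.S14427
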