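import Groth.Statements.S14428
import Mathlib

set_option autoImplicit false
universe u
open CAlgX

namespace Groth.Agent.S14428

/-- Let k be a field, n ≥ 3, and let Λ and Λ' be two sets of n nonzero, pairwise linearly independent
vectors of k^3 (n distinct k-rational points of the projective plane each), neither lying on a line
(no nonzero linear form vanishes on all of Λ, resp. Λ'). If the spaces of homogeneous forms of
degree n − 1 vanishing on Λ and on Λ' coincide, then Λ and Λ' define the same set of points of the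
plane: the assignment Λ ↦ H^0(P^2, I_Λ(n − 1)), with values in a Grassmannian, is injective on
non-collinear sets. (The published statement is over an algebraically closed field; this row allows
any field and k-rational points, which is all its argument uses.) -/
theorem result (k : Type u) [Field k] (n : ℕ) (hn : 3 ≤ n)
    (Λ Λ' : Finset (Fin 3 → k)) (hcard : Λ.card = n) (hcard' : Λ'.card = n)
    (h0 : ∀ v ∈ Λ, v ≠ 0) (h0' : ∀ v ∈ Λ', v ≠ 0)
    (hdist : ∀ v ∈ Λ, ∀ w ∈ Λ, v ≠ w → LinearIndependent k ![v, w])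
    (hdist' : ∀ v ∈ Λ', ∀ w ∈ Λ', v ≠ w → LinearIndependent k ![v, w])
    (hline : ¬ ∃ ℓ : (Fin 3 → k) →ₗ[k] k, ℓ ≠ 0 ∧ ∀ v ∈ Λ, ℓ v = 0)
    (hline' : ¬ ∃ ℓ : (Fin 3 → k) →ₗ[k] k, ℓ ≠ 0 ∧ ∀ v ∈ Λ', ℓ v = 0)
    (heq : (MvPolynomial.homogeneousSubmodule (Fin 3) k (n - 1) ⊓ ⨅ v ∈ Λ, LinearMap.ker (MvPolynomial.aeval v).toLinearMap) = (MvPolynomial.homogeneousSubmodule (Fin 3) k (n - 1) ⊓ ⨅ v ∈ Λ', LinearMap.ker (MvPolynomial.aeval v).toLinearMap)) :
    (∀ v ∈ Λ, ∃ w ∈ Λ', ∃ c : k, v = c • w) ∧ (∀ w ∈ Λ', ∃ v ∈ Λ, ∃ c : k, w = c • v) := by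
  classical
  have main : ∀ A B : Finset (Fin 3 → k), A.card = n → (∀ v ∈ A, v ≠ 0) → (∀ v ∈ B, v ≠ 0) →
      (¬ ∃ ℓ : (Fin 3 → k) →ₗ[k] k, ℓ ≠ 0 ∧ ∀ v ∈ A, ℓ v = 0) →
      (MvPolynomial.homogeneousSubmodule (Fin 3) k (n - 1) ⊓ ⨅ v ∈ A, LinearMap.ker (MvPolynomial.aeval v).toLinearMap) ≤
        (MvPolynomial.homogeneousSubmodule (Fin 3) k (n - 1) ⊓ ⨅ v ∈ B, LinearMap.ker (MvPolynomial.aeval v).toLinearMap) →
      ∀ P ∈ B, ∃ w ∈ A, ∃ c : k, P = c • w := by
    intro A B hA hA0 hB0 hl hle P hP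
    by_contra hcon
    push Not at hcon
    have hind : ∀ w ∈ A, crossProduct w P ≠ 0 := by
      intro w hw
      rw [crossProduct_ne_zero_iff_linearIndependent, linearIndependent_fin2]
      refine ⟨by simpa using hB0 P hP, fun c => ?_⟩
      intro h
      simp only [Matrix.cons_val_one, Matrix.cons_val_zero] at h
      rcases eq_or_ne c 0 with rfl | hc
      · exact hA0 w hw (by rw [← h, zero_smul])
      · exact hcon w hw c⁻¹ (by rw [← h, inv_smul_smul₀ hc])
    obtain ⟨v, hv⟩ : A.Nonempty := Finset.card_pos.1 (by omega)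
    obtain ⟨w, hw, hvw⟩ : ∃ w ∈ A, dotProduct (crossProduct v P) w ≠ 0 := by
      by_contra! h
      exact hl ⟨dotProductBilin k k (crossProduct v P), fun h0 => hind v hv (funext fun i => by
        simpa using LinearMap.congr_fun h0 (Pi.single i 1)), h⟩
    have hne : v ≠ w := by
      rintro rfl
      exact hvw (by rw [dotProduct_comm]; exact dot_self_cross v P)
    have hex : ∀ u ∈ A, ∃ c : Fin 3 → k, dotProduct c u = 0 ∧ dotProduct c P ≠ 0 := by
      intro u hu
      obtain ⟨i, hi⟩ := Function.ne_iff.1 (hind u hu)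
      refine ⟨crossProduct (Pi.single i 1) u, ?_, ?_⟩
      · rw [dotProduct_comm, dot_cross_self]
      · rw [dotProduct_comm, triple_product_permutation, single_dotProduct, one_mul]
        exact hi
    choose! c hc using hex
    let L : (Fin 3 → k) → MvPolynomial (Fin 3) k := fun c => ∑ i, MvPolynomial.C (c i) * MvPolynomial.X i
    have hL : ∀ c, (L c).IsHomogeneous 1 := fun c => MvPolynomial.IsHomogeneous.sum _ _ _ fun i _ =>
      (MvPolynomial.isHomogeneous_C_mul_X (c i) i)
    have hLe : ∀ c z, MvPolynomial.aeval z (L c) = dotProduct c z := fun c z => by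
      simp [L, dotProduct]
    set R := (A.erase v).erase w
    set G := L (crossProduct v w) * ∏ u ∈ R, L (c u)
    have hG : G ∈ (MvPolynomial.homogeneousSubmodule (Fin 3) k (n - 1) ⊓ ⨅ v ∈ A, LinearMap.ker (MvPolynomial.aeval v).toLinearMap) := by
      refine Submodule.mem_inf.2 ⟨?_, ?_⟩
      · rw [MvPolynomial.mem_homogeneousSubmodule]
        have hR : R.card = n - 2 := by
          rw [Finset.card_erase_of_mem (Finset.mem_erase.2 ⟨hne.symm, hw⟩), Finset.card_erase_of_mem hv, hA]
          omega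
        have := (hL (crossProduct v w)).mul (MvPolynomial.IsHomogeneous.prod R (fun u => L (c u)) (fun _ => 1)
          fun u _ => hL (c u))
        simp only [Finset.sum_const, smul_eq_mul, mul_one, hR] at this
        rwa [show 1 + (n - 2) = n - 1 by omega] at this
      · simp only [Submodule.mem_iInf, LinearMap.mem_ker, AlgHom.toLinearMap_apply, G, map_mul, map_prod, hLe]
        intro u hu
        by_cases huv : u = v
        · rw [huv, dotProduct_comm, dot_self_cross, zero_mul]
        by_cases huw : u = w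
        · rw [huw, dotProduct_comm, dot_cross_self, zero_mul]
        · have : ∏ x ∈ R, dotProduct (c x) u = 0 :=
            Finset.prod_eq_zero (i := u) (Finset.mem_erase.2 ⟨huw, Finset.mem_erase.2 ⟨huv, hu⟩⟩) (hc u hu).1
          rw [this, mul_zero]
    have h2 := (Submodule.mem_inf.1 (hle hG)).2
    simp only [Submodule.mem_iInf, LinearMap.mem_ker, AlgHom.toLinearMap_apply, G, map_mul, map_prod, hLe] at h2
    rcases mul_eq_zero.1 (h2 P hP) with h | h
    · apply hvw
      simp only [dotProduct, Fin.sum_univ_three, cross_apply, Matrix.cons_val_zero, Matrix.cons_val_one,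
        Matrix.cons_val_two, Matrix.head_cons, Matrix.tail_cons] at h ⊢
      linear_combination -h
    · obtain ⟨u, hu, hu0⟩ := Finset.prod_eq_zero_iff.1 h
      exact (hc u (Finset.mem_of_mem_erase (Finset.mem_of_mem_erase hu))).2 hu0
  exact ⟨main Λ' Λ hcard' h0' h0 hline' heq.ge, main Λ Λ' hcard h0 h0' hline heq.le⟩

end Groth.Agent.S14428
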