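import Groth.Statements.S14431
import Groth.Agent.BertiniZero.Main
-- import your own Groth.Agent.* helpers here

set_option autoImplicit false
universe u
open CategoryTheory CategoryTheory.Limits AlgebraicGeometry
open Variety

namespace Groth.Agent.S14431

/-- Let k be an algebraically closed field of characteristic zero, X an integral k-scheme of finite type
which is smooth over k, L an invertible O_X-module and s_0, …, s_m global sections of L (morphisms
O_X → L) generating L, i.e. their zero schemes have empty intersection (the sum of their zero ideal
sheaves is the unit ideal). Then the members of the linear system spanned by the s_i corresponding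
to a nonempty Zariski-open set of parameters are smooth: there is a nonzero polynomial p in m + 1
variables over k such that for every c ∈ k^{m+1} with p(c) ≠ 0 the zero scheme of the section Σ c_i
s_i is smooth over k (equivalently, the corresponding divisor is reduced with smooth support). (The
published statement is for varieties, which are separated; this row does not assume X separated.) -/
theorem result (k : Type u) [Field k] [IsAlgClosed k] [CharZero k]
    (X : Scheme.{u}) [X.Over (Spec (CommRingCat.of k))] [IsIntegral X]
    [Smooth (X ↘ Spec (CommRingCat.of k))] [QuasiCompact (X ↘ Spec (CommRingCat.of k))]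
    (L : X.Modules) (hL : FlatMod.IsFinLocFreeOfRank 1 L) (m : ℕ)
    (s : Fin (m + 1) → (Coh.structureModule X ⟶ L))
    (hgen : ⨆ i : Fin (m + 1), PicF2.zeroScheme L (s i) = ⊤) :
    ∃ p : MvPolynomial (Fin (m + 1)) k, p ≠ 0 ∧ ∀ c : Fin (m + 1) → k, MvPolynomial.eval c p ≠ 0 →
      Smooth ((PicF2.zeroScheme L (∑ i : Fin (m + 1), Formal.smulMod k (Coh.structureModule X) (c i) ≫ s i)).subschemeι ≫
        (X ↘ Spec (CommRingCat.of k))) := by
  have h := BertiniZero.exists_generic_smooth k L (BertiniZero.isInvertible_of_rankOne hL) s 0
    fun U ℓ g₀ g hℓ h0 hg => by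
      letI := BertiniZero.algOver k U.1
      haveI := BertiniZero.smooth_algOver k (Y := X) U.2
      have hz : g₀ = 0 := by
        have hb := (hℓ U.1 le_rfl).1
        simp only [QCohLib.map_self] at hb
        exact hb (h0.symm.trans ((show BertiniZero.secv L 0 U.1 = 0 from rfl).trans (zero_smul _ ℓ).symm))
      obtain ⟨p, hp, hp'⟩ := BertiniZero.bertini_generated (k := k) g
        (BertiniZero.span_coord_eq_top L (BertiniZero.isInvertible_of_rankOne hL) s hgen U hℓ g hg)
      exact ⟨p, hp, fun a ha => by rw [hz, zero_add]; exact hp' a ha⟩
  obtain ⟨q, hq, hq'⟩ := h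
  exact ⟨q, hq, fun c hc => (congrArg (fun t => Smooth ((PicF2.zeroScheme L t).subschemeι ≫
    (X ↘ Spec (CommRingCat.of k)))) (zero_add _)).mp (hq' c hc)⟩

end Groth.Agent.S14431
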