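import Groth.Statements.S14434
import Groth.Agent.GluePair.Tor
-- import your own Groth.Agent.* helpers here

set_option autoImplicit false
universe u
open CAlg
open CategoryTheory

namespace Groth.Agent.S14434

/-- Let R be a commutative ring, M an R-module and x ∈ R a non-zero-divisor on R and on M. Then
Tor_i^R(M, R/(x)) = 0 for all i ≥ 1 (Tor computed as the left derived functors of the tensor product
on R-modules). -/
theorem result {R : Type u} [CommRing R] (M : Type u) [AddCommGroup M] [Module R M]
    (x : R) (hxR : IsSMulRegular R x) (hxM : IsSMulRegular M x) (i : ℕ) (hi : 1 ≤ i) :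
    Subsingleton (DRing.Tor R i M (R ⧸ Ideal.span {x})) := by
  have hinj : Function.Injective (LinearMap.mulLeft R x) := hxR
  rcases Nat.lt_or_ge 1 i with h2 | h2
  · refine ModuleCat.subsingleton_of_isZero (Groth.Agent.ProjDim.isZero_tor_of_projDim _ _ 1 ?_ i h2)
    let S : ShortComplex (ModuleCat.{u} R) := ShortComplex.mk (ModuleCat.ofHom (LinearMap.mulLeft R x))
      (ModuleCat.ofHom (Submodule.mkQ (Ideal.span {x})))
      (by ext; exact (Submodule.Quotient.mk_eq_zero _).2 (Ideal.mem_span_singleton'.2 ⟨_, mul_comm _ _⟩))
    have hS : S.ShortExact :=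
      { exact := (ShortComplex.ShortExact.moduleCat_exact_iff_function_exact S).2 fun y =>
          ⟨fun h => by
            obtain ⟨a, ha⟩ := Ideal.mem_span_singleton'.1 ((Submodule.Quotient.mk_eq_zero _).1 h)
            exact ⟨a, (mul_comm x a).trans ha⟩,
           fun ⟨a, ha⟩ => (Submodule.Quotient.mk_eq_zero _).2 (Ideal.mem_span_singleton'.2 ⟨a, (mul_comm a x).trans ha⟩)⟩
        mono_f := (ModuleCat.mono_iff_injective _).2 hinj
        epi_g := (ModuleCat.epi_iff_surjective _).2 (Submodule.Quotient.mk_surjective _) }
    have h1 : HasProjectiveDimensionLT (ModuleCat.of R R) 1 :=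
      (projective_iff_hasProjectiveDimensionLT_one.1 ((IsProjective.iff_projective R).1 inferInstance))
    exact hS.hasProjectiveDimensionLT_X₃ 1 h1 (@hasProjectiveDimensionLT_of_ge _ _ _ (ModuleCat.of R R) 1 2 (by omega) h1)
  · obtain rfl : i = 1 := le_antisymm h2 hi
    refine Groth.Agent.GluePair.subsingleton_tor_one M _ R (Submodule.mkQ (Ideal.span {x})) (Submodule.Quotient.mk_surjective _) ?_
    let c : R →ₗ[R] LinearMap.ker (Submodule.mkQ (Ideal.span {x})) := (LinearMap.mulLeft R x).codRestrict _ fun a => by
      rw [Submodule.ker_mkQ]; exact Ideal.mem_span_singleton'.2 ⟨a, mul_comm a x⟩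
    have hc : Function.Surjective c := fun ⟨y, hy⟩ => by
      rw [Submodule.ker_mkQ] at hy
      obtain ⟨a, rfl⟩ := Ideal.mem_span_singleton'.1 hy
      exact ⟨a, Subtype.ext (mul_comm x a)⟩
    intro u v huv
    obtain ⟨u, rfl⟩ := LinearMap.lTensor_surjective M hc u
    obtain ⟨v, rfl⟩ := LinearMap.lTensor_surjective M hc v
    refine congrArg _ ((TensorProduct.rid R M).injective (hxM ?_))
    have key : ∀ w, TensorProduct.rid R M ((LinearMap.ker (Submodule.mkQ (Ideal.span {x}))).subtype.lTensor M
        (c.lTensor M w)) = x • TensorProduct.rid R M w := fun w => by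
      induction w using TensorProduct.induction_on with
      | zero => simp
      | tmul m a => simp [c, mul_smul]
      | add a b ha hb => simp only [map_add, smul_add, ha, hb]
    change x • TensorProduct.rid R M u = x • TensorProduct.rid R M v
    rw [← key, ← key, huv]

end Groth.Agent.S14434
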