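import Groth.Statements.S14435
import Groth.Agent.LocCohLib.FiniteAnn
import Mathlib.RingTheory.Noetherian.Basic

set_option autoImplicit false
universe u
open LocCoh

namespace Groth.Agent.S14435

/-- Let (A, m) be a Noetherian local ring, φ : A → B a finite homomorphism of commutative rings, a ⊆ m
an ideal and M a finitely generated B-module. Then depth(a, M), computed over A, equals depth(aB,
M), computed over B (depths by regular sequences, ⊤ when aM = M). -/
theorem result {A B : Type u} [CommRing A] [IsNoetherianRing A] [IsLocalRing A]
    [CommRing B] [Algebra A B] [Module.Finite A B] (a : Ideal A) (ha : a ≤ IsLocalRing.maximalIdeal A)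
    (M : Type u) [AddCommGroup M] [Module B M] [Module A M] [IsScalarTower A B M] [Module.Finite B M] :
    LocCoh.idealDepth a M = LocCoh.idealDepth (a.map (algebraMap A B)) M := by
  haveI : IsNoetherianRing B := IsNoetherianRing.of_finite A B
  haveI : Module.Finite A M := Module.Finite.trans B M
  let e : (Groth.Agent.LocCohLib.res A B).obj (ModuleCat.of B M) ≅ ModuleCat.of A M :=
    LinearEquiv.toModuleIso (X₁ := (Groth.Agent.LocCohLib.res A B).obj (ModuleCat.of B M)) (X₂ := M)
      (m₁ := ((Groth.Agent.LocCohLib.res A B).obj (ModuleCat.of B M)).isModule)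
      { toFun := fun x => x
        map_add' := fun _ _ => rfl
        map_smul' := fun r x => @algebraMap_smul A _ B _ _ M _ _ _ _ r x
        invFun := fun x => x
        left_inv := fun _ => rfl
        right_inv := fun _ => rfl }
  refine Groth.Agent.DepthLib.enat_eq_of_forall_le fun n => ?_
  rw [Groth.Agent.LocCohLib.natCast_le_idealDepth_iff_vanishing,
    Groth.Agent.LocCohLib.natCast_le_idealDepth_iff_vanishing]
  refine forall₂_congr fun i _ => ?_
  obtain ⟨f⟩ := Groth.Agent.LocCohLib.nonempty_resEquiv (R := A) (R' := B) a i (ModuleCat.of B M)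
  let g := ((localCohomology a i).mapIso e).toLinearEquiv
  exact ⟨fun h => (f.trans g).toEquiv.subsingleton, fun h => by
    haveI : Subsingleton ((Groth.Agent.LocCohLib.res A B).obj
        ((localCohomology (a.map (algebraMap A B)) i).obj (ModuleCat.of B M))) := h
    exact (f.trans g).symm.toEquiv.subsingleton⟩

end Groth.Agent.S14435
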