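import Groth.Statements.S14437
import Mathlib.RingTheory.Kaehler.Basic
import Mathlib.RingTheory.Ideal.Cotangent
import Mathlib.LinearAlgebra.Dimension.RankNullity
import Mathlib.LinearAlgebra.Dimension.DivisionRing
import Mathlib.LinearAlgebra.FreeModule.Finite.Basic

set_option autoImplicit false
universe u
open CAlg

namespace Groth.Agent.S14437

/-- Let k be a field and A → B a local homomorphism of Noetherian local k-algebras with residue fields k
(k → A/m_A and k → B/m_B bijective) — for instance the local rings at a closed point x and at its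
image y under a morphism of schemes of finite type over an algebraically closed k. Then dim_k
(Ω_{B/A} ⊗_B B/m_B) + rank(m_A/m_A² → m_B/m_B²) = dim_k (m_B/m_B²): the fibre at x of the sheaf of
relative differentials is dual to the kernel of the tangent map T_x X → T_y Y. (The published
statement is the canonical isomorphism (Ω_{X/Y})_(x)^∨ ≅ ker(df_x); stated here as the resulting
equality of dimensions. Its second assertion, dim (Ω_{X/Y})_(x) ≥ r when the fibre has an
r-dimensional component through x, is not included.) -/
theorem result (k : Type u) [Field k]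
    (A B : Type u) [CommRing A] [CommRing B] [IsLocalRing A] [IsLocalRing B] [IsNoetherianRing A] [IsNoetherianRing B]
    [Algebra k A] [Algebra k B] [Algebra A B] [IsScalarTower k A B]
    (hle : IsLocalRing.maximalIdeal A ≤ Ideal.comap (IsScalarTower.toAlgHom k A B) (IsLocalRing.maximalIdeal B))
    (hA : Function.Bijective (algebraMap k (IsLocalRing.ResidueField A)))
    (hB : Function.Bijective (algebraMap k (IsLocalRing.ResidueField B))) :
    Module.finrank (IsLocalRing.ResidueField B) (TensorProduct B (IsLocalRing.ResidueField B) (Ω[B⁄A])) +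
      Module.finrank k ↥(LinearMap.range (Ideal.mapCotangent (IsLocalRing.maximalIdeal A) (IsLocalRing.maximalIdeal B)
        (IsScalarTower.toAlgHom k A B) hle)) =
      Module.finrank k (IsLocalRing.CotangentSpace B) := by
  classical
  let m := IsLocalRing.maximalIdeal B
  let K := IsLocalRing.ResidueField B
  let ε : k ≃+* K := RingEquiv.ofBijective (algebraMap k K) hB
  let c : B → k := fun b => ε.symm (IsLocalRing.residue B b)
  have hcval : ∀ b, b - algebraMap k B (c b) ∈ m := fun b => by
    show _ ∈ IsLocalRing.maximalIdeal B
    rw [← IsLocalRing.residue_eq_zero_iff, map_sub, sub_eq_zero]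
    exact (ε.apply_symm_apply _).symm.trans (IsScalarTower.algebraMap_apply k B K (c b))
  let W := LinearMap.range (Ideal.mapCotangent (IsLocalRing.maximalIdeal A) m (IsScalarTower.toAlgHom k A B) hle)
  have hsm0 : ∀ b ∈ m, ∀ w : m.Cotangent, b • w = 0 := fun b hb w => by
    obtain ⟨x, rfl⟩ := Ideal.toCotangent_surjective _ w
    rw [← map_smul, Ideal.toCotangent_eq_zero, pow_two]
    exact Ideal.mul_mem_mul hb x.2
  have hsm : ∀ (b : B) (w : m.Cotangent), b • w = c b • w := fun b w => by
    rw [← algebraMap_smul B (c b), ← sub_eq_zero, ← sub_smul]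
    exact hsm0 _ (hcval b) w
  let WB : Submodule B m.Cotangent :=
    { W.toAddSubmonoid with smul_mem' := fun b w hw => by rw [hsm]; exact W.smul_mem _ hw }
  let Q := m.Cotangent ⧸ WB
  let dl : B →ₗ[A] Q :=
    { toFun := fun b => WB.mkQ (m.toCotangent ⟨b - algebraMap k B (c b), hcval b⟩)
      map_add' := fun a b => by
        rw [← map_add, ← map_add]
        refine congrArg WB.mkQ (congrArg m.toCotangent (Subtype.ext ?_))
        show a + b - algebraMap k B (c (a + b)) = (a - _) + (b - _)
        simp only [c, map_add]
        ring
      map_smul' := fun a b => by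
        rw [RingHom.id_apply, ← algebraMap_smul B a (WB.mkQ _), ← map_smul, ← map_smul, Submodule.mkQ_apply,
          Submodule.mkQ_apply, Submodule.Quotient.eq, ← map_sub]
        obtain ⟨a0, ha0⟩ := hA.2 (IsLocalRing.residue A a)
        have ha : a - algebraMap k A a0 ∈ IsLocalRing.maximalIdeal A := by
          rw [← IsLocalRing.residue_eq_zero_iff, map_sub, ← ha0, sub_eq_zero]
          exact IsScalarTower.algebraMap_apply k A (IsLocalRing.ResidueField A) a0
        have hca : c (algebraMap A B a) = a0 := by
          have h1 : IsLocalRing.residue B (algebraMap A B a - algebraMap k B a0) = 0 := by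
            rw [IsScalarTower.algebraMap_apply k A B, ← map_sub, IsLocalRing.residue_eq_zero_iff]
            exact hle ha
          rw [map_sub, sub_eq_zero] at h1
          show ε.symm _ = _
          rw [h1, RingEquiv.symm_apply_eq]
          exact (IsScalarTower.algebraMap_apply k B K a0).symm
        have hc2 : c (a • b) = a0 * c b := by
          rw [Algebra.smul_def, ← hca]
          simp only [c, map_mul]
        have h := W.smul_mem (c b) (LinearMap.mem_range_self _ ((IsLocalRing.maximalIdeal A).toCotangent ⟨_, ha⟩) :
          Ideal.mapCotangent (IsLocalRing.maximalIdeal A) m (IsScalarTower.toAlgHom k A B) hle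
            ((IsLocalRing.maximalIdeal A).toCotangent ⟨_, ha⟩) ∈ W)
        rw [Ideal.mapCotangent_toCotangent, ← algebraMap_smul B (c b), ← map_smul] at h
        show m.toCotangent _ ∈ W
        convert h using 2
        refine Subtype.ext ?_
        show a • b - algebraMap k B (c (a • b)) - algebraMap A B a * (b - algebraMap k B (c b)) =
          algebraMap k B (c b) * algebraMap A B (a - algebraMap k A a0)
        rw [hc2, Algebra.smul_def, map_sub, map_mul, ← IsScalarTower.algebraMap_apply]
        ring }
  let d : Derivation A B Q := Derivation.mk' dl fun a b => by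
    show WB.mkQ _ = a • WB.mkQ _ + b • WB.mkQ _
    rw [← map_smul WB.mkQ, ← map_smul WB.mkQ, ← map_smul m.toCotangent, ← map_smul m.toCotangent, ← map_add WB.mkQ,
      ← map_add m.toCotangent]
    refine congrArg WB.mkQ ((Ideal.toCotangent_eq _).mpr ?_)
    show a * b - algebraMap k B (c (a * b)) - (a * (b - algebraMap k B (c b)) + b * (a - algebraMap k B (c a))) ∈ m ^ 2
    rw [show c (a * b) = c a * c b by simp only [c, map_mul], map_mul,
      show a * b - algebraMap k B (c a) * algebraMap k B (c b) - (a * (b - algebraMap k B (c b)) +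
        b * (a - algebraMap k B (c a))) = -((a - algebraMap k B (c a)) * (b - algebraMap k B (c b))) by ring, pow_two]
    exact neg_mem (Ideal.mul_mem_mul (hcval a) (hcval b))
  let fwd : TensorProduct B K (Ω[B⁄A]) →ₗ[B] Q :=
    TensorProduct.lift (Submodule.liftQ m
      (LinearMap.toSpanSingleton B (Ω[B⁄A] →ₗ[B] Q) d.liftKaehlerDifferential) fun b hb => by
        refine LinearMap.ext fun w => ?_
        show b • d.liftKaehlerDifferential w = 0
        obtain ⟨y, hy⟩ := WB.mkQ_surjective (d.liftKaehlerDifferential w)
        rw [← hy, ← map_smul, hsm0 b hb, map_zero])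
  have hK0 : ∀ b ∈ m, ∀ z : TensorProduct B K (Ω[B⁄A]), b • z = 0 := fun b hb z => by
    rw [← algebraMap_smul K b z, show algebraMap B K b = 0 from (IsLocalRing.residue_eq_zero_iff b).mpr hb, zero_smul]
  let bm : m →ₗ[B] TensorProduct B K (Ω[B⁄A]) :=
    { toFun := fun x => (1 : K) ⊗ₜ[B] KaehlerDifferential.D A B (x : B)
      map_add' := fun x y => by simp [TensorProduct.tmul_add]
      map_smul' := fun b x => by
        simp only [RingHom.id_apply, SetLike.val_smul, smul_eq_mul, Derivation.leibniz, TensorProduct.tmul_add,
          TensorProduct.tmul_smul]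
        rw [hK0 _ x.2, add_zero] }
  let bc : m.Cotangent →ₗ[B] TensorProduct B K (Ω[B⁄A]) := Submodule.liftQ _ bm fun z hz => by
    refine Submodule.smul_induction_on hz (fun b hb x _ => ?_) fun a b ha hb => add_mem ha hb
    rw [LinearMap.mem_ker, map_smul, hK0 b hb]
  have hbc : ∀ x, bc (m.toCotangent x) = (1 : K) ⊗ₜ[B] KaehlerDifferential.D A B (x : B) := fun x => rfl
  let bwd : Q →ₗ[B] TensorProduct B K (Ω[B⁄A]) := Submodule.liftQ WB bc fun w hw => by
    obtain ⟨v, rfl⟩ : w ∈ W := hw
    obtain ⟨v, rfl⟩ := Ideal.toCotangent_surjective _ v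
    rw [LinearMap.mem_ker, Ideal.mapCotangent_toCotangent, hbc]
    show (1 : K) ⊗ₜ[B] KaehlerDifferential.D A B (algebraMap A B v) = 0
    rw [Derivation.map_algebraMap, TensorProduct.tmul_zero]
  have h12 : ∀ y, fwd (bwd y) = y := fun y => by
    obtain ⟨y, rfl⟩ := WB.mkQ_surjective y
    obtain ⟨x, rfl⟩ := Ideal.toCotangent_surjective _ y
    show fwd ((1 : K) ⊗ₜ[B] KaehlerDifferential.D A B (x : B)) = _
    show (1 : B) • d.liftKaehlerDifferential (KaehlerDifferential.D A B (x : B)) = _
    rw [one_smul, Derivation.liftKaehlerDifferential_comp_D]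
    show WB.mkQ _ = WB.mkQ _
    have hc0 : c (x : B) = 0 := by
      show ε.symm _ = 0
      rw [(IsLocalRing.residue_eq_zero_iff _).mpr x.2, map_zero]
    refine congrArg WB.mkQ (congrArg m.toCotangent (Subtype.ext ?_))
    show (x : B) - algebraMap k B (c x) = x
    rw [hc0, map_zero, sub_zero]
  have h21 : ∀ y, bwd (fwd y) = y := fun y => by
    induction y using TensorProduct.induction_on with
    | zero => simp
    | add a b ha hb => rw [map_add, map_add, ha, hb]
    | tmul r w =>
      obtain ⟨r, rfl⟩ := IsLocalRing.residue_surjective r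
      induction (KaehlerDifferential.span_range_derivation A B).ge (Submodule.mem_top (x := w)) using
        Submodule.span_induction with
      | mem w hw =>
        obtain ⟨b, rfl⟩ := hw
        show bwd (r • d.liftKaehlerDifferential (KaehlerDifferential.D A B b)) = _
        rw [map_smul, Derivation.liftKaehlerDifferential_comp_D]
        show r • ((1 : K) ⊗ₜ[B] KaehlerDifferential.D A B (b - algebraMap k B (c b))) = _
        rw [map_sub, IsScalarTower.algebraMap_apply k A B, Derivation.map_algebraMap, sub_zero, TensorProduct.smul_tmul',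
          ← Algebra.algebraMap_eq_smul_one]
        rfl
      | zero => simp
      | add a b _ _ ha hb => rw [TensorProduct.tmul_add, map_add, map_add, ha, hb]
      | smul b w _ hw => rw [TensorProduct.tmul_smul, map_smul, map_smul, hw]
  let e : TensorProduct B K (Ω[B⁄A]) ≃ₗ[B] Q := LinearEquiv.ofLinearMap fwd bwd (LinearMap.ext h12) (LinearMap.ext h21)
  haveI : Module.Finite k K := Module.Finite.of_surjective (Algebra.linearMap k K) hB.2
  haveI : IsScalarTower k K (IsLocalRing.CotangentSpace B) := IsScalarTower.of_algebraMap_smul fun a w => by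
    rw [IsScalarTower.algebraMap_apply k B K, algebraMap_smul K, algebraMap_smul B]
  haveI : Module.Finite k (IsLocalRing.CotangentSpace B) := Module.Finite.trans K (IsLocalRing.CotangentSpace B)
  have hfr1 : Module.finrank K (TensorProduct B K (Ω[B⁄A])) = Module.finrank k (TensorProduct B K (Ω[B⁄A])) := by
    rw [← Module.finrank_mul_finrank k K (TensorProduct B K (Ω[B⁄A]))]
    rw [show Module.finrank k K = 1 from
      ((LinearEquiv.ofBijective (Algebra.linearMap k K) hB).finrank_eq).symm.trans (Module.finrank_self k), one_mul]
  have hfr2 : Module.finrank k (TensorProduct B K (Ω[B⁄A])) = Module.finrank k (m.Cotangent ⧸ W) := by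
    refine (e.restrictScalars k).finrank_eq.trans ((Submodule.Quotient.restrictScalarsEquiv k WB).symm.trans
      (Submodule.quotEquivOfEq _ W (SetLike.ext fun _ => Iff.rfl))).finrank_eq
  rw [hfr1, hfr2]
  exact Submodule.finrank_quotient_add_finrank W

end Groth.Agent.S14437
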