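import Groth.Statements.S14438
import Mathlib
-- import your own Groth.Agent.* helpers here

set_option autoImplicit false
universe u
open CAlg

namespace Groth.Agent.S14438

section Aux
open TensorProduct

variable {A B : Type u} [CommRing A] [IsLocalRing A] [CommRing B] [Algebra A B]

theorem main [Module.Free A B] [Module.Finite A B] (d : ℕ) (hd : Module.finrank A B = d)
    (hres : ∀ (n : Ideal B) [n.IsMaximal] (h : Ideal.map (algebraMap A B) (IsLocalRing.maximalIdeal A) ≤ n),
      Function.Bijective (Ideal.quotientMap n (algebraMap A B) (Ideal.map_le_iff_le_comap.mp h))) :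
    finsum (fun n : {n : MaximalSpectrum B // Ideal.map (algebraMap A B) (IsLocalRing.maximalIdeal A) ≤ n.asIdeal} =>
      Module.length (Localization.AtPrime n.1.asIdeal)
        (LocalizedModule n.1.asIdeal.primeCompl (B ⧸ Ideal.map (algebraMap A B) (IsLocalRing.maximalIdeal A)))) = (d : ℕ∞) := by
  classical
  set m := IsLocalRing.maximalIdeal A
  set I := Ideal.map (algebraMap A B) m with hI
  -- the length over `A`
  let b : Module.Basis (Fin d) A B := Module.finBasisOfFinrankEq A B hd
  let e₀ : (B ⧸ I) ≃ₗ[A] (Fin d → A ⧸ m) :=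
    (TensorProduct.quotTensorEquivQuotSMul B m ≪≫ₗ Submodule.quotEquivOfEq _ _ (Ideal.smul_top_eq_map m) ≪≫ₗ
      Submodule.Quotient.restrictScalarsEquiv A (m.map (algebraMap A B))).symm ≪≫ₗ
      LinearEquiv.lTensor (A ⧸ m) b.equivFun ≪≫ₗ TensorProduct.piScalarRight A A (A ⧸ m) (Fin d)
  haveI hms : IsSimpleModule A (A ⧸ m) := isSimpleModule_iff_quot_maximal.2
    ⟨m, IsLocalRing.maximalIdeal.isMaximal A, ⟨LinearEquiv.refl _ _⟩⟩
  have hQ : Module.length A (B ⧸ I) = (d : ℕ∞) := by
    rw [e₀.length_eq, Module.length_pi_of_fintype]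
    simp
  obtain ⟨hNA, hAA⟩ := isFiniteLength_iff_isNoetherian_isArtinian.1
    (Module.length_ne_top_iff.1 (show Module.length A (B ⧸ I) ≠ ⊤ by rw [hQ]; exact ENat.coe_ne_top d))
  haveI : IsArtinian B (B ⧸ I) := isArtinian_of_tower A hAA
  haveI : IsNoetherian B (B ⧸ I) := isNoetherian_of_tower A hNA
  haveI : IsArtinianRing (B ⧸ I) := isArtinian_of_tower B ‹_›
  haveI : Finite {n : MaximalSpectrum B // I ≤ n.asIdeal} := by
    refine Finite.of_injective (fun n => (⟨n.1.asIdeal.map (Ideal.Quotient.mk I),
      Ideal.map_isPrime_of_surjective Ideal.Quotient.mk_surjective (by rw [Ideal.mk_ker]; exact n.2)⟩ :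
        PrimeSpectrum (B ⧸ I))) fun n n' h => Subtype.ext (MaximalSpectrum.ext ?_)
    have h2 := congrArg (fun p => Ideal.comap (Ideal.Quotient.mk I) p.asIdeal) h
    simpa [Ideal.comap_map_of_surjective _ Ideal.Quotient.mk_surjective, ← RingHom.ker_eq_comap_bot,
      n.2, n'.2] using h2
  haveI := Fintype.ofFinite {n : MaximalSpectrum B // I ≤ n.asIdeal}
  rw [finsum_eq_sum_of_fintype, ← hQ]
  -- the statement for all modules of finite length killed by `I`
  suffices key : ∀ (M : Type u) [AddCommGroup M] [Module B M], IsFiniteLength B M →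
      ∀ [Module A M] [IsScalarTower A B M], (∀ r ∈ I, ∀ x : M, r • x = 0) →
      ∑ n : {n : MaximalSpectrum B // I ≤ n.asIdeal}, Module.length (Localization.AtPrime n.1.asIdeal)
        (LocalizedModule n.1.asIdeal.primeCompl M) = Module.length A M by
    refine key (B ⧸ I) (isFiniteLength_iff_isNoetherian_isArtinian.2 ⟨‹_›, ‹_›⟩) fun r hr x => ?_
    obtain ⟨x, rfl⟩ := Ideal.Quotient.mk_surjective x
    exact Ideal.Quotient.eq_zero_iff_mem.2 (I.mul_mem_right x hr)
  intro M _ _ hM
  induction hM with
  | @of_subsingleton M _ _ _ =>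
    intro _ _ _
    simp
  | @of_simple_quotient M _ _ N hsimp hN ih =>
    intro _ _ hk
    have hloc : ∀ n : {n : MaximalSpectrum B // I ≤ n.asIdeal},
        Module.length (Localization.AtPrime n.1.asIdeal) (LocalizedModule n.1.asIdeal.primeCompl M) =
          Module.length (Localization.AtPrime n.1.asIdeal) (LocalizedModule n.1.asIdeal.primeCompl N) +
            Module.length (Localization.AtPrime n.1.asIdeal) (LocalizedModule n.1.asIdeal.primeCompl (M ⧸ N)) :=
      fun n => Module.length_eq_add_of_exact _ _
        (LocalizedModule.map_injective n.1.asIdeal.primeCompl N.subtype N.injective_subtype)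
        (LocalizedModule.map_surjective n.1.asIdeal.primeCompl N.mkQ N.mkQ_surjective)
        (LocalizedModule.map_exact n.1.asIdeal.primeCompl N.subtype N.mkQ (LinearMap.exact_subtype_mkQ N))
    rw [Finset.sum_congr rfl (fun n _ => hloc n), Finset.sum_add_distrib,
      ih (fun r hr x => Subtype.ext (hk r hr x)),
      Module.length_eq_add_of_exact (N.subtype.restrictScalars A) (N.mkQ.restrictScalars A)
        N.injective_subtype N.mkQ_surjective (fun x => LinearMap.exact_subtype_mkQ N x)]
    congr 1
    -- the simple module `M ⧸ N`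
    obtain ⟨m₀, hm₀, ⟨e⟩⟩ := isSimpleModule_iff_quot_maximal.1 hsimp
    have hIm : I ≤ m₀ := by
      intro r hr
      obtain ⟨x, hx⟩ := N.mkQ_surjective (e.symm (Submodule.Quotient.mk 1))
      have h0 : r • (Submodule.Quotient.mk 1 : B ⧸ m₀) = 0 := by
        rw [← e.apply_symm_apply (Submodule.Quotient.mk 1), ← map_smul, ← hx, ← map_smul, hk r hr, map_zero,
          map_zero]
      rw [← Submodule.Quotient.mk_smul, Submodule.Quotient.mk_eq_zero, smul_eq_mul, mul_one] at h0
      exact h0
    rw [(e.restrictScalars A).length_eq]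
    have hA1 : Module.length A (B ⧸ m₀) = 1 := by
      let eA : (A ⧸ m) →ₗ[A] B ⧸ m₀ :=
        { toFun := Ideal.quotientMap m₀ (algebraMap A B) (Ideal.map_le_iff_le_comap.mp hIm)
          map_add' := map_add _
          map_smul' := fun a x => by
            obtain ⟨x, rfl⟩ := Ideal.Quotient.mk_surjective x
            rw [RingHom.id_apply, Algebra.smul_def, map_mul, Algebra.smul_def]
            rfl }
      haveI : IsSimpleModule A (B ⧸ m₀) :=
        IsSimpleModule.congr (LinearEquiv.ofBijective eA (hres m₀ hIm)).symm
      exact Module.length_eq_one A _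
    rw [hA1, Finset.sum_eq_single (⟨⟨m₀, hm₀⟩, hIm⟩ : {n : MaximalSpectrum B // I ≤ n.asIdeal})]
    · haveI : IsSimpleModule B (M ⧸ N) := hsimp
      have hbij : Function.Bijective (LocalizedModule.mkLinearMap m₀.primeCompl (M ⧸ N)) := by
        have hunit : ∀ s : m₀.primeCompl, Function.Bijective fun x : M ⧸ N => (s : B) • x := by
          intro s
          obtain ⟨t, ht⟩ : ∃ t, 1 - t * (s : B) ∈ m₀ := by
            have := hm₀.exists_inv s.2
            obtain ⟨y, i, hi, hyi⟩ := this
            exact ⟨y, by rw [← hyi, add_sub_cancel_left]; exact hi⟩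
          have h1 : ∀ x : M ⧸ N, (t * (s : B)) • x = x := fun x => by
            apply e.injective
            obtain ⟨z, hz⟩ := Submodule.Quotient.mk_surjective _ (e x)
            rw [map_smul, ← hz, ← Submodule.Quotient.mk_smul, Submodule.Quotient.eq]
            have h2 := m₀.mul_mem_right z (m₀.neg_mem ht)
            convert h2 using 1
            rw [smul_eq_mul]; ring
          refine ⟨fun x y h => ?_, fun x => ⟨t • x, ?_⟩⟩
          · rw [← h1 x, ← h1 y, mul_smul, mul_smul]; exact congrArg (t • ·) h
          · show (s : B) • t • x = x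
            rw [smul_smul, mul_comm]; exact h1 x
        constructor
        · intro x y h
          obtain ⟨c, hc⟩ := IsLocalizedModule.exists_of_eq (S := m₀.primeCompl) h
          exact (hunit c).1 hc
        · intro z
          obtain ⟨⟨x, s⟩, hxs⟩ := IsLocalizedModule.surj m₀.primeCompl (LocalizedModule.mkLinearMap m₀.primeCompl (M ⧸ N)) z
          obtain ⟨y, hy⟩ := (hunit s).2 x
          refine ⟨y, ((Module.End.isUnit_iff _).1 (IsLocalizedModule.map_units
            (LocalizedModule.mkLinearMap m₀.primeCompl (M ⧸ N)) s)).1 ?_⟩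
          show (s : B) • LocalizedModule.mkLinearMap m₀.primeCompl (M ⧸ N) y = (s : B) • z
          rw [← map_smul, show (s : B) • y = x from hy]
          exact hxs.symm
      have hsB : IsSimpleModule B (LocalizedModule m₀.primeCompl (M ⧸ N)) :=
        IsSimpleModule.congr (LinearEquiv.ofBijective _ hbij).symm
      haveI := IsSimpleModule.nontrivial B (LocalizedModule m₀.primeCompl (M ⧸ N))
      rw [Module.length_eq_one_iff]
      refine (isSimpleModule_iff _ _).2 ⟨fun P => ?_⟩
      haveI := hsB
      rcases eq_bot_or_eq_top (P.restrictScalars B) with h | h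
      · exact Or.inl ((Submodule.restrictScalars_eq_bot_iff _ _ _).1 h)
      · exact Or.inr ((Submodule.restrictScalars_eq_top_iff _ _ _).1 h)
    · intro n _ hn
      have hne : ¬ m₀ ≤ n.1.asIdeal := fun hle => hn (Subtype.ext (MaximalSpectrum.ext
        (hm₀.eq_of_le n.1.isMaximal.ne_top hle).symm))
      obtain ⟨s, hs, hsn⟩ := SetLike.not_le_iff_exists.1 hne
      haveI : Subsingleton (LocalizedModule n.1.asIdeal.primeCompl (M ⧸ N)) := by
        rw [LocalizedModule.subsingleton_iff]
        intro x
        refine ⟨s, hsn, e.injective ?_⟩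
        obtain ⟨z, hz⟩ := Submodule.Quotient.mk_surjective _ (e x)
        rw [map_smul, map_zero, ← hz, ← Submodule.Quotient.mk_smul, Submodule.Quotient.mk_eq_zero]
        exact m₀.mul_mem_right z hs
      exact Module.length_eq_zero
    · simp

end Aux

/-- Let (A, m) be a local ring, B a commutative A-algebra which is free of finite rank d as an A-module,
and assume that for every maximal ideal n of B containing mB the induced map of residue fields A/m →
B/n is bijective (as for the points of a fibre of a finite flat morphism of varieties over an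
algebraically closed field). Then the multiplicities of the points of the fibre add up to the
degree: the sum over all such n of the length of the B_n-module (B/mB)_n equals d. -/
theorem result (A B : Type u) [CommRing A] [IsLocalRing A] [CommRing B] [Algebra A B]
    [Module.Free A B] [Module.Finite A B] (d : ℕ) (hd : Module.finrank A B = d)
    (hres : ∀ (n : Ideal B) [n.IsMaximal] (h : Ideal.map (algebraMap A B) (IsLocalRing.maximalIdeal A) ≤ n),
      Function.Bijective (Ideal.quotientMap n (algebraMap A B) (Ideal.map_le_iff_le_comap.mp h))) :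
    finsum (fun n : {n : MaximalSpectrum B // Ideal.map (algebraMap A B) (IsLocalRing.maximalIdeal A) ≤ n.asIdeal} =>
      Module.length (Localization.AtPrime n.1.asIdeal)
        (LocalizedModule n.1.asIdeal.primeCompl (B ⧸ Ideal.map (algebraMap A B) (IsLocalRing.maximalIdeal A)))) = (d : ℕ∞) := by
  exact main d hd hres

end Groth.Agent.S14438
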