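import Mathlib
import Groth.Statements.S14442
-- import your own Groth.Agent.* helpers here

set_option autoImplicit false
universe u
open GrNak

namespace Groth.Agent.S14442

/-- Let R be a commutative ℕ-graded ring with irrelevant ideal R_+ = ⊕_{i>0} R_i, M an ℕ-graded R-module
and N a graded submodule of M (closed under taking homogeneous components). If M = R_+ M + N then N
= M. (The published statement is for finitely generated ℤ-graded modules over a graded quotient of a
polynomial ring, whose degrees are then bounded below; stated here for non-negatively graded modules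
over any ℕ-graded commutative ring, where the same lowest-degree argument applies without finite
generation.) -/
theorem result {R : Type u} [CommRing R] {σ : Type u} [SetLike σ R] [AddSubmonoidClass σ R]
    (𝒜 : ℕ → σ) [GradedRing 𝒜]
    {M : Type u} [AddCommGroup M] [Module R M] {τ : Type u} [SetLike τ M] [AddSubmonoidClass τ M]
    (ℳ : ℕ → τ) [DirectSum.Decomposition ℳ] [SetLike.GradedSMul 𝒜 ℳ]
    (N : Submodule R M) (hN : ∀ x ∈ N, ∀ i : ℕ, (DirectSum.decompose ℳ x i : M) ∈ N)
    (h : (HomogeneousIdeal.irrelevant 𝒜).toIdeal • (⊤ : Submodule R M) ⊔ N = ⊤) :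
    N = ⊤ := by
  classical
  let π : ℕ → M →+ M := fun i =>
    { toFun := fun x => (DirectSum.decompose ℳ x i : M)
      map_zero' := by simp
      map_add' := fun x y => by simp }
  suffices ∀ i x, π i x ∈ N by
    refine eq_top_iff.mpr fun x _ => ?_
    rw [← DirectSum.sum_support_decompose ℳ x]
    exact Submodule.sum_mem _ fun i _ => this i x
  intro i
  induction i using Nat.strong_induction_on with
  | _ i ih =>
    intro x
    obtain ⟨u, hu, n, hn, rfl⟩ := Submodule.mem_sup.mp (h ▸ Submodule.mem_top : x ∈ _)
    rw [map_add]
    refine N.add_mem ?_ (hN n hn i)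
    induction hu using Submodule.smul_induction_on' with
    | add a _ b _ ha hb => rw [map_add]; exact N.add_mem ha hb
    | smul a ha z _ =>
      rw [← DirectSum.sum_support_decompose 𝒜 a, ← DirectSum.sum_support_decompose ℳ z, Finset.sum_smul, map_sum]
      refine N.sum_mem fun j _ => ?_
      rw [Finset.smul_sum, map_sum]
      refine N.sum_mem fun k _ => ?_
      have hmem : ((DirectSum.decompose 𝒜 a j : R)) • (DirectSum.decompose ℳ z k : M) ∈ ℳ (j + k) :=
        SetLike.GradedSMul.smul_mem (DirectSum.decompose 𝒜 a j).2 (DirectSum.decompose ℳ z k).2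
      by_cases hjk : j + k = i
      · have hj : j ≠ 0 → k < i := by omega
        by_cases hj0 : j = 0
        · have : (DirectSum.decompose 𝒜 a j : R) = 0 := by
            subst hj0
            exact (HomogeneousIdeal.mem_irrelevant_iff 𝒜 a).mp ha
          rw [this, zero_smul, map_zero]; exact N.zero_mem
        · rw [show π i _ = _ from DirectSum.decompose_of_mem_same ℳ (hjk ▸ hmem)]
          exact N.smul_mem _ (ih k (hj hj0) z)
      · rw [show π i _ = _ from DirectSum.decompose_of_mem_ne ℳ hmem hjk]
        exact N.zero_mem

end Groth.Agent.S14442
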