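import Groth.Statements.S14446
import Groth.Agent.FibBasics.Basic
-- import your own Groth.Agent.* helpers here

set_option autoImplicit false
open CategoryTheory
universe v₂ u₂ v₃ u₃ v u
open Stk

namespace Groth.Agent.S14446


theorem isPrestackFor_of_fullyFaithful {C : Type u} [Category.{v} C]
    {𝒳 : BasedCategory.{v₂, u₂} C} {𝒴 : BasedCategory.{v₃, u₃} C} (F : 𝒳 ⥤ᵇ 𝒴) (hF : FibCat.IsEquivOver F)
    {U : C} {R : Sieve U} (h : Stk.IsPrestackFor R 𝒴) : Stk.IsPrestackFor R 𝒳 := by
  obtain ⟨⟨hf, hfu⟩, -⟩ := (FibBasics.isEquivOver_iff F).1 hF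
  obtain ⟨h1, h2⟩ := h
  refine ⟨⟨fun {K L} γ => ?_⟩, ⟨fun {K L α β} hαβ => ?_⟩⟩
  · obtain ⟨δ, hδ⟩ := h1.map_surjective (X := BasedFunctor.comp K F) (Y := BasedFunctor.comp L F)
      (BasedCategory.whiskerRight γ F)
    refine ⟨{ app := fun a => F.toFunctor.preimage (δ.app a)
              naturality := fun a b f => F.toFunctor.map_injective (by
                rw [Functor.map_comp, Functor.map_comp]
                erw [Functor.map_preimage, Functor.map_preimage]
                exact δ.naturality f)
              isHomLift' := fun a => (BasedFunctor.isHomLift_iff F _ _).1 ?_ }, ?_⟩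
    · erw [Functor.map_preimage]
      exact δ.isHomLift' a
    · apply BasedNatTrans.homCategory.ext
      apply NatTrans.ext
      funext a
      apply F.toFunctor.map_injective
      exact (F.toFunctor.map_preimage _).trans congr(($hδ).app a)
  · have := h2.map_injective (X := BasedFunctor.comp K F) (Y := BasedFunctor.comp L F)
      (a₁ := BasedCategory.whiskerRight α F) (a₂ := BasedCategory.whiskerRight β F) (by
        apply BasedNatTrans.homCategory.ext
        apply NatTrans.ext
        funext a
        exact congrArg F.toFunctor.map congr(($hαβ).app a))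
    apply BasedNatTrans.homCategory.ext
    apply NatTrans.ext
    funext a
    exact F.toFunctor.map_injective congr(($this).app a)

/-- Let C be a category with a Grothendieck topology J and 𝒳, 𝒴 categories over C which are equivalent
in the 2-category of categories over C. Then 𝒳 is a prestack in groupoids for J — fibred in
groupoids, with restriction from functors C/U → 𝒳 over C to functors R → 𝒳 over C fully faithful for
every covering sieve R on every object U — if and only if 𝒴 is. (The published statement concerns
fibred categories in general; this row is its case for categories fibred in groupoids, with the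
prestack condition in sieve form.) -/
theorem result {C : Type u} [Category.{v} C] (J : GrothendieckTopology C)
    {𝒳 : BasedCategory.{v₂, u₂} C} {𝒴 : BasedCategory.{v₃, u₃} C} (F : 𝒳 ⥤ᵇ 𝒴) (hF : FibCat.IsEquivOver F) :
    Stk.IsPrestack J 𝒳 ↔ Stk.IsPrestack J 𝒴 := by
    refine ⟨fun h => ⟨FibBasics.isFibGrpd_of_isEquivOver hF h.1, fun U R hR => ?_⟩,
      fun h => ⟨?_, fun U R hR => ?_⟩⟩
    · obtain ⟨G, hG, -⟩ := FibBasics.isEquivOver_symm hF
      exact isPrestackFor_of_fullyFaithful G hG (h.2 R hR)
    · obtain ⟨G, hG, -⟩ := FibBasics.isEquivOver_symm hF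
      exact FibBasics.isFibGrpd_of_isEquivOver hG h.1
    · exact isPrestackFor_of_fullyFaithful F hF (h.2 R hR)

end Groth.Agent.S14446
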