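import Mathlib
import Groth.Statements.S14447
-- import your own Groth.Agent.* helpers here

set_option autoImplicit false
universe w v u
open AlgGrp

namespace Groth.Agent.S14447

open CategoryTheory CategoryTheory.Limits in
/-- Let C be a category with finite products and with all coproducts indexed by sets, and assume that
for every set I and every object U the canonical arrow ∐_{i∈I} U → (∐_{i∈I} pt) × U, whose i-th
component pairs U → pt → ∐_{i∈I} pt (i-th coprojection) with the identity of U, is an isomorphism.
Then the discrete-object functor from sets to C, I ↦ ∐_{i∈I} pt, preserves finite products. (Sets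
are the types of one fixed universe, the one indexing the coproducts. The published statement asks
only for the coproducts of copies of one object; this row assumes that C has all coproducts indexed
by sets, which Mathlib's discrete-object functor sigmaConst requires.) -/
theorem result {C : Type u} [Category.{v} C]
    [HasFiniteProducts C] [HasCoproducts.{w} C]
    (h : ∀ (I : Type w) (U : C), IsIso (Sigma.desc fun i : I =>
      prod.lift (terminal.from U ≫ Sigma.ι (fun _ : I => ⊤_ C) i) (𝟙 U))) :
    PreservesFiniteProducts (sigmaConst.{w}.obj (⊤_ C)) := by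
  set T : C := ⊤_ C
  let L : Type w ⥤ C := sigmaConst.{w}.obj T
  haveI : PreservesLimit (Functor.empty.{0} (Type w)) L := by
    haveI : Unique (⊤_ (Type w)) := (Types.terminalIso.{w}).toEquiv.unique
    exact preservesTerminal_of_iso L (coproductUniqueIso (fun _ : ⊤_ (Type w) => T))
  haveI : ∀ I J : Type w, PreservesLimit (pair I J) L := fun I J => by
    refine preservesLimit_of_preserves_limit_cone (Types.binaryProductLimit I J) ?_
    let k : L.obj (I × J) ⟶ L.obj I ⨯ L.obj J :=
      prod.lift (L.map (TypeCat.ofHom Prod.fst)) (L.map (TypeCat.ofHom Prod.snd))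
    let m : (∐ fun _ : I => L.obj J) ⟶ L.obj (I × J) :=
      Sigma.desc fun i => Sigma.desc fun j => Sigma.ι (fun _ : I × J => T) (i, j)
    haveI : IsIso m := by
      refine ⟨Sigma.desc fun p : I × J => Sigma.ι (fun _ : J => T) p.2 ≫ Sigma.ι (fun _ : I => L.obj J) p.1, ?_, ?_⟩
      · refine Limits.Sigma.hom_ext _ _ fun i => Limits.Sigma.hom_ext _ _ fun j => ?_
        simp [m, L]
      · refine Limits.Sigma.hom_ext _ _ fun p => ?_
        simp [m, L]
    have hmk : m ≫ k = Sigma.desc fun i : I => prod.lift (terminal.from (L.obj J) ≫ Sigma.ι (fun _ : I => T) i) (𝟙 (L.obj J)) := by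
      refine Limits.Sigma.hom_ext _ _ fun i => Limits.Sigma.hom_ext _ _ fun j => ?_
      have e : Sigma.ι (fun _ : J => T) j ≫ terminal.from (L.obj J) = 𝟙 T := Subsingleton.elim _ _
      apply prod.hom_ext <;> (simp [m, k, L, reassoc_of% e, show terminal.from T = 𝟙 T from Subsingleton.elim _ _]; try erw [prod.lift_fst, prod.lift_fst]; try erw [prod.lift_snd, prod.lift_snd])
    haveI := h I (L.obj J)
    haveI : IsIso (m ≫ k) := hmk ▸ this
    haveI : IsIso k := IsIso.of_isIso_comp_left m k
    refine (isLimitMapConeBinaryFanEquiv L _ _).symm ?_
    exact IsLimit.ofIsoLimit (prodIsProd (L.obj I) (L.obj J))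
      (BinaryFan.ext (asIso k).symm (by simp [k]; try exact prod.lift_fst _ _) (by simp [k]; try exact prod.lift_snd _ _))
  haveI : PreservesLimitsOfShape (Discrete WalkingPair) L :=
    ⟨fun {K} => preservesLimit_of_iso_diagram L (diagramIsoPair K).symm⟩
  haveI : PreservesLimitsOfShape (Discrete.{0} PEmpty) L := preservesLimitsOfShape_pempty_of_preservesTerminal L
  exact PreservesFiniteProducts.of_preserves_binary_and_terminal L

end Groth.Agent.S14447
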