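import Groth.Statements.S14451
import Groth.Agent.EtMV.PushAcyclic

set_option autoImplicit false
set_option linter.style.haveILetI false
universe u
open CategoryTheory CategoryTheory.Limits AlgebraicGeometry
open EtCore

namespace Groth.Agent.S14451

/-- Let f : X ⟶ Y be a morphism of schemes and F an abelian sheaf on the small étale site of X whose
higher direct images R^q f_* F vanish for all q > 0. Then for every p the canonical map H^p(Y, f_*
F) → H^p(X, F) (pull back along f, then apply the counit f⁻¹ f_* F ⟶ F) is bijective. (Exactness of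
f⁻¹, which always holds, is carried as an instance hypothesis.) -/
theorem result {X Y : Scheme.{u}} (f : X ⟶ Y)
    [PreservesFiniteLimits (EtCoh.pull f)] (F : EtCoh.Ab X)
    (hR : ∀ q : ℕ, 0 < q → IsZero ((EtCoh.Rpush f q).obj F)) (p : ℕ) :
    Function.Bijective (EtLim.HofPush f F p) := by
  haveI : (EtCoh.pull f).Additive := EtCore.pull_additive f
  haveI : PreservesFiniteLimits (EtCoh.push f) :=
    have : PreservesLimitsOfSize.{0, 0} (EtCoh.push f) := (EtCoh.pullPushAdj f).rightAdjoint_preservesLimits
    PreservesLimitsOfSize.preservesFiniteLimits _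
  have hb := Groth.Agent.EtMV.Ψr_bijective (EtCoh.pullPushAdj f) (EtCoh.const Y ℤ) F hR p
  have e : ∀ x : EtCoh.H Y ((EtCoh.push f).obj F) p, EtLim.HofPush f F p x =
      (Abelian.Ext.mk₀ (EtCore.pullConst f ℤ).inv).comp
        (Groth.Agent.EtMV.Ψr (EtCoh.pullPushAdj f) (EtCoh.const Y ℤ) F p x) (zero_add p) := by
    intro x
    rw [Groth.Agent.EtMV.Ψr_apply]
    exact Abelian.Ext.comp_assoc_of_third_deg_zero (Abelian.Ext.mk₀ (EtCore.pullConst f ℤ).inv)
      (Abelian.Ext.mapExactFunctor (EtCoh.pull f) x)
      (Abelian.Ext.mk₀ ((EtCoh.pullPushAdj f).counit.app F)) (zero_add p)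
  rw [funext e]
  have hi : Function.Bijective (fun z : Abelian.Ext ((EtCoh.pull f).obj (EtCoh.const Y ℤ)) F p =>
      (Abelian.Ext.mk₀ (EtCore.pullConst f ℤ).inv).comp z (zero_add p)) :=
    Function.bijective_iff_has_inverse.2
      ⟨fun z => (Abelian.Ext.mk₀ (EtCore.pullConst f ℤ).hom).comp z (zero_add p),
        fun z => by simp, fun z => by simp⟩
  exact hi.comp hb

end Groth.Agent.S14451
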