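import Groth.Statements.S14454
import Groth.Agent.EtSite.Excision
import Groth.Agent.EtMV.EtaleRestr

set_option autoImplicit false
universe u
open CategoryTheory CategoryTheory.Limits AlgebraicGeometry
open EtDual

namespace Groth.Agent.S14454

/-- Let X be a scheme, j : U ⟶ X an open immersion with closed complement Z, f : X' ⟶ X an étale
morphism and j' : U' ⟶ X' an open immersion with image f⁻¹(U), such that f maps Z' = X' − U'
bijectively onto Z with trivial residue field extensions at the points of Z' (f restricts to an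
isomorphism from (f⁻¹Z)_red onto Z_red). Then for every abelian sheaf F on the small étale site of X
and every r, the groups H^r_Z(X, F) and H^r_{Z'}(X', f⁻¹F) are isomorphic; existence of an
isomorphism only, the canonical one being restriction along f. No Noetherian hypothesis on X is
made. -/
theorem result {X X' U U' : Scheme.{u}}
    (f : X' ⟶ X) [AlgebraicGeometry.Etale f] (j : U ⟶ X) [IsOpenImmersion j]
    (j' : U' ⟶ X') [IsOpenImmersion j']
    (hU' : Set.range j'.base = f.base ⁻¹' Set.range j.base)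
    (hZ : Set.BijOn f.base (Set.range j'.base)ᶜ (Set.range j.base)ᶜ)
    (hκ : ∀ x' : ↥X', x' ∉ Set.range j'.base → Function.Surjective (f.residueFieldMap x'))
    (F : EtCoh.Ab X) (r : ℕ) :
    Nonempty ((EtDual.HY j r).obj F ≅ (EtDual.HY j' r).obj ((EtCoh.pull f).obj F)) := by
  have := Groth.Agent.EtMV.jCont f
  let σ := Groth.Agent.EtMV.σEt f
  have hinj := Groth.Agent.EtMV.pull_preservesInjectiveObjects f
  have : (EtShriek.restrAlong f).Additive := Functor.additive_of_iso σ
  have : PreservesFiniteLimits (EtShriek.restrAlong f) := preservesFiniteLimits_of_natIso σ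
  have : PreservesFiniteColimits (EtShriek.restrAlong f) := preservesFiniteColimits_of_natIso σ
  have : (EtShriek.restrAlong f).PreservesInjectiveObjects :=
    ⟨fun {I} hI => Injective.of_iso (σ.app I) (hinj.injective_obj hI)⟩
  have hsub : Set.range (j' ≫ f).base ⊆ Set.range j.base := by
    rintro _ ⟨u, rfl⟩
    have h1 : j'.base u ∈ Set.range j'.base := ⟨u, rfl⟩
    rw [hU'] at h1
    exact (Scheme.Hom.comp_apply j' f u).symm ▸ h1
  have sq : IsPullback (IsOpenImmersion.lift j (j' ≫ f) hsub) j' j f :=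
    IsOpenImmersion.isPullback _ j' j f (IsOpenImmersion.lift_fac _ _ _).symm
      (TopologicalSpace.Opens.ext hU'.symm)
  obtain ⟨eP⟩ := Groth.Agent.EtSite.SuppPull.nonempty_secSupp_pull j f j' _ sq
  let Γ₁ := sheafToPresheaf X.smallEtaleTopology AddCommGrpCat.{u + 1} ⋙
    (evaluation X.Etaleᵒᵖ AddCommGrpCat.{u + 1}).obj (Opposite.op (EtCoh.top X))
  let Γ₂ := sheafToPresheaf X'.smallEtaleTopology AddCommGrpCat.{u + 1} ⋙
    (evaluation X'.Etaleᵒᵖ AddCommGrpCat.{u + 1}).obj (Opposite.op (EtCoh.top X'))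
  let ρ : Γ₁ ⟶ EtShriek.restrAlong f ⋙ Γ₂ :=
    { app := fun G => G.obj.map (Groth.Agent.EtSite.Excision.tMap f).op
      naturality := fun G H a => (a.hom.naturality (Groth.Agent.EtSite.Excision.tMap f).op).symm }
  let α : EtDual.secSupp j ⋙ Γ₁ ⟶ EtDual.secSupp j ⋙ (EtShriek.restrAlong f ⋙ Γ₂) :=
    Functor.whiskerLeft (EtDual.secSupp j) ρ
  have hα : ∀ G, IsIso (α.app G) := fun G => (ConcreteCategory.isIso_iff_bijective _).2
    (Groth.Agent.EtSite.Excision.bijective_res f j j' hU' hZ hκ ((EtDual.secSupp j).obj G)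
      fun W s Ω _ _ ξ t hξ => by
        have hr : Set.range ξ.base ⊆ Set.range j.base := by
          rintro _ ⟨p, rfl⟩
          rwa [Subsingleton.elim p default]
        obtain ⟨ζ, rfl⟩ : ∃ ζ, ζ ≫ j = ξ := ⟨IsOpenImmersion.lift j ξ hr, IsOpenImmersion.lift_fac j ξ hr⟩
        refine (Groth.Agent.EtSite.SuppPull.unit_eq_zero_iff j _ W s).1 ?_ Ω ζ t
        have : Mono ((EtCoh.pull j).map (kernel.ι (EtDual.unitApp j G))) :=
          Groth.Agent.EtSite.pull_mono j _
        have h0 : (EtCoh.pull j).map (𝟙 ((EtDual.secSupp j).obj G)) = 0 := by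
          refine (cancel_mono ((EtCoh.pull j).map (kernel.ι (EtDual.unitApp j G)))).1 ?_
          rw [CategoryTheory.Functor.map_id, Category.id_comp, zero_comp]
          exact Groth.Agent.EtSite.SuppPull.pull_map_eq_zero j _ (kernel.condition _)
        have h1 := Groth.Agent.EtSite.SuppPull.map_comp_unit j _ h0
        rw [Category.id_comp] at h1
        exact ConcreteCategory.congr_hom (congrArg (fun a => a.hom.app (Opposite.op W)) h1) s)
  have hiso : IsIso α := @NatIso.isIso_of_isIso_app _ _ _ _ _ _ α hα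
  let e : EtDual.gammaSupp j ≅ EtShriek.restrAlong f ⋙ EtDual.gammaSupp j' :=
    (@asIso _ _ _ _ α hiso) ≪≫ Functor.isoWhiskerRight (Functor.isoWhiskerLeft (EtDual.secSupp j) σ.symm ≪≫ eP ≪≫
      Functor.isoWhiskerRight σ (EtDual.secSupp j')) Γ₂
  let R := injectiveResolution F
  exact ⟨R.isoRightDerivedObj (EtDual.gammaSupp j) r ≪≫
    (HomologicalComplex.homologyFunctor _ _ r).mapIso ((NatIso.mapHomologicalComplex e _).app R.cocomplex) ≪≫
    ((Groth.Agent.EtSite.SuppPull.mapResolution (EtShriek.restrAlong f) R).isoRightDerivedObj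
      (EtDual.gammaSupp j') r).symm ≪≫
    ((EtDual.gammaSupp j').rightDerived r).mapIso (σ.symm.app F)⟩

end Groth.Agent.S14454
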