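import Groth.Statements.S14460
import Groth.Agent.FEtGalois.Fibres
-- import your own Groth.Agent.* helpers here

set_option autoImplicit false
universe u
open CategoryTheory CategoryTheory.Limits AlgebraicGeometry
open Pi1

namespace Groth.Agent.S14460

open Groth.Agent.FEtGalois

set_option linter.style.haveILetI false in
theorem aux {X : Scheme.{u}} (Y : FEt.Cat X) [Nonempty ↥Y.left] (n : ℕ)
    (hn : ∀ (Ω : Type u) [Field Ω] [IsSepClosed Ω] (ξ : Spec (CommRingCat.of Ω) ⟶ X), Nat.card (FEt.fiberObj ξ Y) = n)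
    (G : Type u) [Group G] [Finite G] (ρ : G →* Aut Y)
    (hfree : ∀ g : G, g ≠ 1 → ∀ (K : Type u) [Field K] (y : Spec (CommRingCat.of K) ⟶ Y.left),
      y ≫ (ρ g).hom.left ≠ y)
    (s : G → (Y.left ⟶ pullback Y.hom Y.hom)) (hs1 : ∀ g, s g ≫ pullback.fst Y.hom Y.hom = 𝟙 _)
    (hs2 : ∀ g, s g ≫ pullback.snd Y.hom Y.hom = (ρ g).hom.left) :
    Nat.card G ≤ n ∧ (Nat.card G = n ↔ IsIso (Limits.Sigma.desc s)) := by
  let π : Y.left ⟶ X := Y.hom
  have hinj : ∀ {K : Type u} [Field K] (y : Spec (CommRingCat.of K) ⟶ Y.left) (g h : G),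
      y ≫ (ρ g).hom.left = y ≫ (ρ h).hom.left → g = h := by
    intro K _ y g h e
    by_contra hne
    refine hfree (h⁻¹ * g) (fun hc => hne (inv_mul_eq_one.1 hc).symm) K y ?_
    have e2 : (ρ (h⁻¹ * g)).hom.left = (ρ g).hom.left ≫ (ρ h).inv.left := by
      rw [map_mul, map_inv]; rfl
    have e3 : (ρ h).hom.left ≫ (ρ h).inv.left = 𝟙 Y.left :=
      congrArg (fun k : Y ⟶ Y => k.left) (ρ h).hom_inv_id
    rw [e2, ← Category.assoc, e, Category.assoc, e3, Category.comp_id]
  let orbit : ∀ {Ω : Type u} [Field Ω] (y : Spec (CommRingCat.of Ω) ⟶ Y.left), G → FEt.fiberObj (y ≫ π) Y :=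
    fun {Ω} _ y g => ⟨y ≫ (ρ g).hom.left, by rw [Category.assoc, MorphismProperty.Over.w (ρ g).hom]⟩
  have orbit_inj : ∀ {Ω : Type u} [Field Ω] (y : Spec (CommRingCat.of Ω) ⟶ Y.left), Function.Injective (orbit y) :=
    fun y g h e => hinj y g h (congrArg Subtype.val e)
  obtain ⟨y₀⟩ := (inferInstance : Nonempty Y.left)
  have hle : Nat.card G ≤ n := by
    rw [← hn _ (geomPt y₀ ≫ π)]
    haveI : Finite (FEt.fiberObj (geomPt y₀ ≫ π) Y) := fiber_finite (Y := Y) _
    exact Nat.card_le_card_of_injective _ (orbit_inj (geomPt y₀))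
  haveI : ∀ g, IsOpenImmersion (s g) := fun g => by
    haveI : Etale (s g ≫ pullback.fst Y.hom Y.hom) := by rw [hs1]; infer_instance
    haveI : Etale (s g) := Etale.of_comp (s g) (pullback.fst Y.hom Y.hom)
    haveI : Mono (s g) := (SplitMono.mk _ (hs1 g)).mono
    exact IsOpenImmersion.of_flat_of_mono _
  have hdisj : Pairwise (Function.onFun Disjoint fun g => Set.range (s g)) := by
    intro g h hne
    rw [Function.onFun, Set.disjoint_left]
    rintro p ⟨a, rfl⟩ ⟨b, hb⟩
    let ζ := geomPt (s g a)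
    have hr : ∀ k, s g a ∈ Set.range (s k) → Set.range ζ ⊆ Set.range (s k) := by
      rintro k hk _ ⟨q, rfl⟩
      rwa [geomPt_apply]
    have key : ∀ k (hk : s g a ∈ Set.range (s k)), ζ ≫ pullback.snd Y.hom Y.hom =
        (ζ ≫ pullback.fst Y.hom Y.hom) ≫ (ρ k).hom.left := by
      intro k hk
      have hl := IsOpenImmersion.lift_fac (s k) ζ (hr k hk)
      generalize IsOpenImmersion.lift (s k) ζ (hr k hk) = l at hl
      rw [← hl]
      simp only [Category.assoc, hs2, reassoc_of% hs1]
    exact hne (hinj _ g h ((key g ⟨a, rfl⟩).symm.trans (key h ⟨b, hb⟩)))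
  haveI : IsOpenImmersion (Limits.Sigma.desc s) := isOpenImmersion_sigmaDesc _ _ hdisj
  refine ⟨hle, fun hcard => ?_, fun hiso => le_antisymm hle ?_⟩
  · haveI : Surjective (Limits.Sigma.desc s) := ⟨fun p => by
      let ζ := geomPt p
      let α := ζ ≫ pullback.fst Y.hom Y.hom
      haveI : Finite (FEt.fiberObj (α ≫ π) Y) := fiber_finite (Y := Y) _
      have hb : Function.Bijective (orbit α) := (orbit_inj α).bijective_of_nat_card_le
        (le_of_eq ((hn _ (α ≫ π)).trans hcard.symm))
      obtain ⟨g, hg⟩ := hb.2 ⟨ζ ≫ pullback.snd Y.hom Y.hom, by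
        simp only [α, π, Category.assoc]; rw [pullback.condition]⟩
      have hζ : ζ = α ≫ s g := by
        apply pullback.hom_ext
        · rw [Category.assoc, hs1]; exact (Category.comp_id α).symm
        · rw [Category.assoc, hs2]; exact (congrArg Subtype.val hg).symm
      refine ⟨Limits.Sigma.ι (fun _ : G => Y.left) g (α default), ?_⟩
      have h4 : Limits.Sigma.ι (fun _ : G => Y.left) g ≫ Limits.Sigma.desc s = s g := Limits.Sigma.ι_desc _ _
      rw [← Scheme.Hom.comp_apply, h4, ← Scheme.Hom.comp_apply, ← hζ, geomPt_apply]⟩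
    haveI : Epi (Limits.Sigma.desc s).base := (TopCat.epi_iff_surjective _).2 (Limits.Sigma.desc s).surjective
    exact IsOpenImmersion.isIso _
  · rw [← hn _ (geomPt y₀ ≫ π)]
    refine Nat.card_le_card_of_surjective (orbit (geomPt y₀)) fun β => ?_
    let ζ : Spec (CommRingCat.of (closureField y₀)) ⟶ pullback Y.hom Y.hom :=
      pullback.lift (geomPt y₀) β.1 β.2.symm
    obtain ⟨w, hw⟩ := (Scheme.Hom.homeomorph (Limits.Sigma.desc s)).surjective (ζ default)
    obtain ⟨⟨g, a⟩, rfl⟩ := (sigmaMk fun _ : G => Y.left).surjective w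
    have hr : Set.range ζ ⊆ Set.range (s g) := by
      rintro _ ⟨q, rfl⟩
      refine ⟨a, ?_⟩
      rw [Subsingleton.elim q default, ← hw, sigmaMk_mk]
      exact congr($((Limits.Sigma.ι_desc s g).symm) a)
    refine ⟨g, Subtype.ext ?_⟩
    have h2 := IsOpenImmersion.lift_fac (s g) ζ hr
    have hfst := congrArg (· ≫ pullback.fst Y.hom Y.hom) h2
    have hsnd := congrArg (· ≫ pullback.snd Y.hom Y.hom) h2
    simp only [Category.assoc, hs1, hs2, Category.comp_id, ζ, pullback.lift_fst, pullback.lift_snd] at hfst hsnd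
    change geomPt y₀ ≫ (ρ g).hom.left = β.1
    rw [← hsnd, hfst]


/-- Let Y → X be finite étale with Y nonempty and all geometric fibres of the same cardinality n, and
let a finite group G act on Y over X without fixed points (no point of Y with values in a field is
fixed by a non-identity element). Then G has at most n elements, and it has exactly n elements if
and only if the morphism from the disjoint union of copies of Y indexed by G to Y ×_X Y, given on
the copy indexed by g by the identity and g, is an isomorphism. (For Y empty the bound fails, since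
every finite group acts without fixed points on the empty cover, whose fibres have cardinality 0;
this row assumes Y nonempty.) -/
theorem result {X : Scheme.{u}} (Y : FEt.Cat X)
    [Nonempty ↥Y.left] (n : ℕ)
    (hn : ∀ (Ω : Type u) [Field Ω] [IsSepClosed Ω] (ξ : Spec (CommRingCat.of Ω) ⟶ X), Nat.card (FEt.fiberObj ξ Y) = n)
    (G : Type u) [Group G] [Finite G] (ρ : G →* Aut Y)
    (hfree : ∀ g : G, g ≠ 1 → ∀ (K : Type u) [Field K] (y : Spec (CommRingCat.of K) ⟶ Y.left),
      y ≫ (ρ g).hom.left ≠ y) :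
    Nat.card G ≤ n ∧
      (Nat.card G = n ↔ IsIso (Limits.Sigma.desc fun g : G =>
        pullback.lift (𝟙 Y.left) (ρ g).hom.left
          ((Category.id_comp Y.hom).trans (Over.w (ρ g).hom.hom).symm) : (∐ fun _ : G => Y.left) ⟶ pullback Y.hom Y.hom)) := by
  exact aux Y n hn G ρ hfree _ (fun g => pullback.lift_fst _ _ _) (fun g => pullback.lift_snd _ _ _)

end Groth.Agent.S14460
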