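import Groth.Statements.S14463
import Mathlib.AlgebraicGeometry.Limits
import Mathlib.AlgebraicGeometry.Pullbacks
import Mathlib.CategoryTheory.Extensive

set_option autoImplicit false
set_option linter.style.haveILetI false
set_option backward.isDefEq.respectTransparency false
set_option backward.isDefEq.respectTransparency.types false
universe u
open CategoryTheory CategoryTheory.Limits AlgebraicGeometry
open BigSite

namespace Groth.Agent.S14463

/-- The covering condition. -/
def Cov {S : Scheme.{u}} (C : MorphismProperty Scheme.{u}) (X : Over S) (R : Sieve X) : Prop :=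
  ∃ (ι : Type u) (U : ι → X.left.Opens), (∀ i, IsAffineOpen (U i)) ∧ ⨆ i, U i = ⊤ ∧
    ∀ i, ∃ (κ : Type u) (_ : Finite κ) (V : κ → Over S) (φ : ∀ j, V j ⟶ X)
      (ψ : ∀ j, (V j).left ⟶ (U i : Scheme.{u})),
      (∀ j, IsAffine (V j).left) ∧ (∀ j, R.arrows (φ j)) ∧ (∀ j, ψ j ≫ (U i).ι = (φ j).left) ∧
        C (Limits.Sigma.desc ψ)

section

variable {S : Scheme.{u}} (C : MorphismProperty Scheme.{u})
  [C.IsStableUnderComposition] [C.IsStableUnderBaseChange]
  (hcoprod : ∀ (κ : Type u) [Finite κ] (A B : κ → Scheme.{u}) (f : ∀ j, A j ⟶ B j),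
    (∀ j, C (f j)) → C (Limits.Sigma.map f))
  (haff : ∀ (U : Scheme.{u}) [IsAffine U] (κ : Type u) [Finite κ] (V : κ → U.Opens),
    (∀ j, IsAffineOpen (V j)) → ⨆ j, V j = ⊤ → C (Limits.Sigma.desc fun j => (V j).ι))

omit [C.IsStableUnderComposition] in
include haff in
lemma cov_top (X : Over S) : Cov C X ⊤ := by
  refine ⟨X.left.affineOpens, fun i => i.1, fun i => i.2, iSup_affineOpens_eq_top X.left, fun i => ?_⟩
  haveI : IsAffine (i.1 : Scheme.{u}) := i.2
  have h := haff (i.1 : Scheme.{u}) PUnit.{u + 1} (fun _ => ⊤) (fun _ => isAffineOpen_top _) iSup_const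
  refine ⟨PUnit.{u + 1}, inferInstance, fun _ => Over.mk (i.1.ι ≫ X.hom),
    fun _ => Over.homMk i.1.ι rfl, fun _ => 𝟙 _, fun _ => i.2, fun _ => trivial, fun _ => Category.id_comp _, ?_⟩
  show C (Limits.Sigma.desc fun _ : PUnit.{u + 1} => 𝟙 (i.1 : Scheme.{u}))
  have e : Limits.Sigma.desc (fun _ : PUnit.{u + 1} => (⊤ : (i.1 : Scheme.{u}).Opens).ι) =
      Limits.Sigma.map (fun _ : PUnit.{u + 1} => (i.1 : Scheme.{u}).topIso.hom) ≫
      Limits.Sigma.desc (fun _ : PUnit.{u + 1} => 𝟙 (i.1 : Scheme.{u})) := by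
    ext : 1
    simp
  rw [e] at h
  exact (C.cancel_left_of_respectsIso _ _).1 h

omit [C.IsStableUnderComposition] in
lemma cov_pullback {X Y : Over S} (R : Sieve X) (f : Y ⟶ X) (hR : Cov C X R) : Cov C Y (R.pullback f) := by
  obtain ⟨ι, U, hU, hU', h⟩ := hR
  refine ⟨{p : ι × Y.left.affineOpens // p.2.1 ≤ f.left ⁻¹ᵁ U p.1}, fun p => p.1.2.1, fun p => p.1.2.2, ?_, ?_⟩
  · rw [eq_top_iff]
    intro y _
    obtain ⟨i, hi⟩ := TopologicalSpace.Opens.mem_iSup.1
      (show f.left.base y ∈ ⨆ i, U i by rw [hU']; trivial)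
    obtain ⟨W, hW, hyW, hle⟩ := (TopologicalSpace.Opens.isBasis_iff_nbhd.1 Y.left.isBasis_affineOpens)
      (show y ∈ f.left ⁻¹ᵁ U i from hi)
    exact TopologicalSpace.Opens.mem_iSup.2 ⟨⟨(i, ⟨W, hW⟩), hle⟩, hyW⟩
  · rintro ⟨⟨i, W⟩, hle⟩
    obtain ⟨κ, hκ, V, φ, ψ, hV, hφR, hψ, hC⟩ := h i
    haveI : IsAffine (W.1 : Scheme.{u}) := W.2
    haveI : IsAffine (U i : Scheme.{u}) := hU i
    haveI := hV
    let g : (W.1 : Scheme.{u}) ⟶ U i := f.left.resLE (U i) W.1 hle
    have hg : g ≫ (U i).ι = W.1.ι ≫ f.left := f.left.resLE_comp_ι hle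
    have hsq : ∀ j, pullback.snd (ψ j) g ≫ W.1.ι ≫ f.left = pullback.fst (ψ j) g ≫ (φ j).left := by
      intro j
      rw [← hψ, ← hg, pullback.condition_assoc]
    refine ⟨κ, hκ, fun j => Over.mk (pullback.snd (ψ j) g ≫ W.1.ι ≫ Y.hom),
      fun j => Over.homMk (pullback.snd (ψ j) g ≫ W.1.ι) (Category.assoc _ _ _),
      fun j => pullback.snd (ψ j) g, fun j => ?_, fun j => ?_, fun j => rfl, ?_⟩
    · show IsAffine (pullback (ψ j) g)
      infer_instance
    · let q : Over.mk (pullback.snd (ψ j) g ≫ W.1.ι ≫ Y.hom) ⟶ V j := Over.homMk (pullback.fst (ψ j) g) (by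
        show pullback.fst (ψ j) g ≫ (V j).hom = _
        rw [← Over.w (φ j), ← reassoc_of% (hsq j), Over.w f]
        rfl)
      have hq : (Over.homMk (pullback.snd (ψ j) g ≫ W.1.ι) (Category.assoc _ _ _) :
          Over.mk (pullback.snd (ψ j) g ≫ W.1.ι ≫ Y.hom) ⟶ Y) ≫ f = q ≫ φ j :=
        Over.OverMorphism.ext ((Category.assoc _ _ _).trans (hsq j))
      show R.arrows (_ ≫ f)
      rw [hq]
      exact R.downward_closed (hφR j) q
    · have hpb := (FinitaryPreExtensive.isUniversal_finiteCoproducts (coproductIsCoproduct fun j => (V j).left)).isPullback_of_isColimit_right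
        ψ (Limits.Sigma.desc ψ) g (fun j => pullback.fst (ψ j) g) (fun j => pullback.snd (ψ j) g)
        (fun j => IsPullback.of_hasPullback _ _) (coproductIsCoproduct fun j => pullback (ψ j) g)
        (fun j => Limits.Sigma.ι_desc ψ j)
      exact MorphismProperty.of_isPullback hpb hC

include hcoprod haff in
lemma cov_trans {X : Over S} (R R' : Sieve X) (hR : Cov C X R)
    (hR' : ∀ ⦃Y : Over S⦄ ⦃f : Y ⟶ X⦄, R.arrows f → Cov C Y (R'.pullback f)) : Cov C X R' := by
  obtain ⟨ι, U, hU, hU', h⟩ := hR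
  refine ⟨ι, U, hU, hU', fun i => ?_⟩
  obtain ⟨κ, hκ, V, φ, ψ, hV, hφR, hψ, hC⟩ := h i
  choose ι' U₁ hU₁ hU₁' h₁ using fun j => hR' (hφR j)
  choose κ' hκ' V' φ' ψ' hV' hφR' hψ' hC' using h₁
  have hfin : ∀ j, ∃ s : Finset (ι' j), ⨆ k : {k // k ∈ s}, U₁ j k.1 = ⊤ := by
    intro j
    haveI := hV j
    obtain ⟨s, hs⟩ := isCompact_univ.elim_finite_subcover (fun k => (U₁ j k : Set (V j).left))
      (fun k => (U₁ j k).2) (fun x _ => Set.mem_iUnion.2
        (TopologicalSpace.Opens.mem_iSup.1 (show x ∈ ⨆ k, U₁ j k by rw [hU₁' j]; trivial)))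
    refine ⟨s, eq_top_iff.2 fun x _ => ?_⟩
    obtain ⟨k, hk, hx⟩ := Set.mem_iUnion₂.1 (hs (Set.mem_univ x))
    exact TopologicalSpace.Opens.mem_iSup.2 ⟨⟨k, hk⟩, hx⟩
  choose s hs using hfin
  let T := Σ j, {k // k ∈ s j}
  haveI : ∀ j k, Finite (κ' j k) := hκ'
  refine ⟨Σ t : T, κ' t.1 t.2.1, inferInstance, fun r => V' r.1.1 r.1.2.1 r.2,
    fun r => φ' r.1.1 r.1.2.1 r.2 ≫ φ r.1.1,
    fun r => ψ' r.1.1 r.1.2.1 r.2 ≫ (U₁ r.1.1 r.1.2.1).ι ≫ ψ r.1.1,
    fun r => hV' _ _ _, fun r => hφR' _ _ _, fun r => ?_, ?_⟩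
  · simp only [Category.assoc, hψ]
    rw [reassoc_of% hψ' r.1.1 r.1.2.1 r.2]
    rfl
  · let g₁ : ∀ t : T, κ' t.1 t.2.1 → Scheme.{u} := fun t l => (V' t.1 t.2.1 l).left
    let g₂ : ∀ j, {k // k ∈ s j} → Scheme.{u} := fun j k => (U₁ j k.1 : Scheme.{u})
    have h1 : C (Limits.Sigma.map fun t : T => Limits.Sigma.desc (ψ' t.1 t.2.1)) :=
      hcoprod T _ _ _ fun t => hC' t.1 t.2.1
    have h2 : C (Limits.Sigma.map fun j => Limits.Sigma.desc fun k : {k // k ∈ s j} => (U₁ j k.1).ι) :=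
      hcoprod κ _ _ _ fun j => by
        haveI := hV j
        exact haff (V j).left _ (fun k : {k // k ∈ s j} => U₁ j k.1) (fun k => hU₁ j k.1) (hs j)
    have e : Limits.Sigma.desc (fun r : Σ t : T, κ' t.1 t.2.1 => ψ' r.1.1 r.1.2.1 r.2 ≫ (U₁ r.1.1 r.1.2.1).ι ≫ ψ r.1.1) =
        (sigmaSigmaIso (fun t : T => κ' t.1 t.2.1) g₁).inv ≫
          (Limits.Sigma.map fun t : T => Limits.Sigma.desc (ψ' t.1 t.2.1)) ≫
          (sigmaSigmaIso (fun j => {k // k ∈ s j}) g₂).inv ≫
          (Limits.Sigma.map fun j => Limits.Sigma.desc fun k : {k // k ∈ s j} => (U₁ j k.1).ι) ≫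
          Limits.Sigma.desc ψ := by
      refine Limits.Sigma.hom_ext _ _ fun r => ?_
      obtain ⟨⟨j, k⟩, l⟩ := r
      simp only [g₁, g₂, sigmaSigmaIso, Limits.Sigma.ι_desc, Limits.Sigma.ι_map, Limits.Sigma.ι_desc_assoc,
        Limits.Sigma.ι_map_assoc, Category.assoc]
    rw [e]
    refine (C.cancel_left_of_respectsIso _ _).2 (C.comp_mem _ _ h1 ?_)
    exact (C.cancel_left_of_respectsIso _ _).2 (C.comp_mem _ _ h2 hC)

end

/-- Fix a scheme S and a class C of quasi-compact morphisms of schemes which is stable under composition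
and base change, closed under finite coproducts, and contains ∐_j V_j → U for every finite affine
open cover (V_j) of an affine scheme U. Declare a sieve R on an S-scheme X to be covering when X has
an affine open cover (U_i) such that for every i there are finitely many affine S-schemes V_j and
S-morphisms V_j → X in R factoring through U_i with the induced morphism ∐_j V_j → U_i in C. Then
there is a Grothendieck topology on S-schemes whose covering sieves are exactly these. (The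
published statement also allows a local property of S-schemes preserved by the class and works on
the S-schemes having it, takes a class of morphisms of S-schemes, and says that covering may
equivalently be tested with arbitrary rather than affine opens and schemes; this row takes no such
property and a class of morphisms of schemes, and defines covering sieves through affine opens and
affine schemes only.) -/
theorem result (S : Scheme.{u})
    (C : MorphismProperty Scheme.{u}) [C.IsStableUnderComposition] [C.IsStableUnderBaseChange]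
    (hqc : ∀ {A B : Scheme.{u}} (f : A ⟶ B), C f → QuasiCompact f)
    (hcoprod : ∀ (κ : Type u) [Finite κ] (A B : κ → Scheme.{u}) (f : ∀ j, A j ⟶ B j),
      (∀ j, C (f j)) → C (Limits.Sigma.map f))
    (haff : ∀ (U : Scheme.{u}) [IsAffine U] (κ : Type u) [Finite κ] (V : κ → U.Opens),
      (∀ j, IsAffineOpen (V j)) → ⨆ j, V j = ⊤ → C (Limits.Sigma.desc fun j => (V j).ι)) :
    ∃ J : GrothendieckTopology (Over S), ∀ (X : Over S) (R : Sieve X), R ∈ J X ↔
      ∃ (ι : Type u) (U : ι → X.left.Opens), (∀ i, IsAffineOpen (U i)) ∧ ⨆ i, U i = ⊤ ∧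
        ∀ i, ∃ (κ : Type u) (_ : Finite κ) (V : κ → Over S) (φ : ∀ j, V j ⟶ X)
          (ψ : ∀ j, (V j).left ⟶ (U i : Scheme.{u})),
          (∀ j, IsAffine (V j).left) ∧ (∀ j, R.arrows (φ j)) ∧ (∀ j, ψ j ≫ (U i).ι = (φ j).left) ∧
            C (Limits.Sigma.desc ψ) := by
  exact ⟨{ sieves := fun X => {R | Cov C X R}
           top_mem' := fun X => cov_top C haff X
           pullback_stable' := fun _ _ R f h => cov_pullback C R f h
           transitive' := fun _ R h R' h' => cov_trans C hcoprod haff R R' h h' },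
    fun X R => Iff.rfl⟩

end Groth.Agent.S14463
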