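import Mathlib
import Groth.Statements.S14478
-- import your own Groth.Agent.* helpers here

set_option autoImplicit false
universe u
open CharCyc

namespace Groth.Agent.S14478

section

variable {k V : Type*} [Field k] [AddCommGroup V] [Module k V] [FiniteDimensional k V]

lemma exists_common_compl (e : ℕ) : ∀ P Q : Submodule k V, Module.finrank k P + e = Module.finrank k V →
    Module.finrank k Q + e = Module.finrank k V → ∃ C, IsCompl P C ∧ IsCompl Q C := by
  induction e with
  | zero =>
    intro P Q hP hQ
    obtain rfl : P = ⊤ := Submodule.eq_top_of_finrank_eq (by omega)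
    obtain rfl : Q = ⊤ := Submodule.eq_top_of_finrank_eq (by omega)
    exact ⟨⊥, isCompl_top_bot, isCompl_top_bot⟩
  | succ e ih =>
    intro P Q hP hQ
    obtain ⟨x, hxP, hxQ⟩ : ∃ x, x ∉ P ∧ x ∉ Q := by
      obtain ⟨a, ha⟩ : ∃ a, a ∉ P := by
        by_contra h; push Not at h
        have : P = ⊤ := eq_top_iff.2 fun z _ => h z
        rw [this, finrank_top] at hP; omega
      obtain ⟨b, hb⟩ : ∃ b, b ∉ Q := by
        by_contra h; push Not at h
        have : Q = ⊤ := eq_top_iff.2 fun z _ => h z
        rw [this, finrank_top] at hQ; omega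
      by_cases haQ : a ∈ Q
      · by_cases hbP : b ∈ P
        · exact ⟨a + b, fun h => ha (by simpa using P.sub_mem h hbP), fun h => hb (by simpa using Q.sub_mem h haQ)⟩
        · exact ⟨b, hbP, hb⟩
      · exact ⟨a, ha, haQ⟩
    have hdim : ∀ R : Submodule k V, x ∉ R → Module.finrank k ↥(R ⊔ k ∙ x) = Module.finrank k R + 1 := by
      intro R hR
      have hx0 : x ≠ 0 := fun h => hR (h ▸ R.zero_mem)
      have hd : R ⊓ (k ∙ x) = ⊥ := disjoint_iff.1 ((Submodule.disjoint_span_singleton' hx0).2 hR)
      have := Submodule.finrank_sup_add_finrank_inf_eq R (k ∙ x)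
      rw [hd, finrank_bot, finrank_span_singleton hx0] at this
      omega
    obtain ⟨C, hCP, hCQ⟩ := ih (P ⊔ k ∙ x) (Q ⊔ k ∙ x) (by rw [hdim P hxP]; omega) (by rw [hdim Q hxQ]; omega)
    have key : ∀ R : Submodule k V, x ∉ R → IsCompl (R ⊔ k ∙ x) C → IsCompl R (C ⊔ k ∙ x) := by
      intro R hR h
      refine ⟨Submodule.disjoint_def.2 fun v hv hv' => ?_, ?_⟩
      · obtain ⟨c, hc, z, hz, rfl⟩ := Submodule.mem_sup.1 hv'
        obtain ⟨r, rfl⟩ := Submodule.mem_span_singleton.1 hz
        have hc0 : c = 0 := Submodule.disjoint_def.1 h.disjoint c (by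
          have := Submodule.sub_mem _ (Submodule.mem_sup_left (T := k ∙ x) hv)
            (Submodule.mem_sup_right (S := R) hz)
          simpa using this) hc
        subst hc0
        rw [zero_add] at hv ⊢
        by_cases hr : r = 0
        · simp [hr]
        · exact absurd ((R.smul_mem_iff hr).1 hv) hR
      · rw [codisjoint_iff, sup_comm C, ← sup_assoc]
        exact h.codisjoint.eq_top
    exact ⟨C ⊔ k ∙ x, key P hxP hCP, key Q hxQ hCQ⟩

lemma rank_split {D : Type*} [AddCommGroup D] [Module k D] (T : Submodule k (V × D)) [FiniteDimensional k T] :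
    Module.finrank k (T.comap (LinearMap.inl k V D)) +
      Module.finrank k (LinearMap.range ((LinearMap.snd k V D).comp T.subtype)) = Module.finrank k T := by
  let sd := (LinearMap.snd k V D).comp T.subtype
  let j : T.comap (LinearMap.inl k V D) →ₗ[k] LinearMap.ker sd :=
    { toFun := fun v => ⟨⟨(v.1, 0), v.2⟩, rfl⟩
      map_add' := fun a b => Subtype.ext (Subtype.ext (Prod.ext rfl (by simp)))
      map_smul' := fun a b => Subtype.ext (Subtype.ext (Prod.ext rfl (by simp))) }
  have hj : Function.Bijective j := by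
    refine ⟨fun a b h => Subtype.ext (congrArg (fun z => z.1.1.1) h), fun z => ?_⟩
    obtain ⟨⟨⟨v, φ⟩, hT'⟩, h0⟩ := z
    change φ = 0 at h0
    subst h0
    exact ⟨⟨v, hT'⟩, rfl⟩
  rw [(LinearEquiv.ofBijective j hj).finrank_eq, add_comm]
  exact LinearMap.finrank_range_add_finrank_ker sd

theorem main (T : Submodule k (V × Module.Dual k V))
    (hT : Module.finrank k T = Module.finrank k V) :
    ∃ (V₂ : Submodule k V) (h : IsCompl (T.comap (LinearMap.inl k V (Module.Dual k V))) V₂),
      ∀ A₁ : T.comap (LinearMap.inl k V (Module.Dual k V)) →ₗ[k]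
          Module.Dual k (T.comap (LinearMap.inl k V (Module.Dual k V))),
        Function.Injective A₁ →
          LinearMap.graph ((Submodule.projectionOnto _ V₂ h).dualMap ∘ₗ A₁ ∘ₗ
              Submodule.projectionOnto _ V₂ h) ⊓ T = ⊥ := by
  set V₁ := T.comap (LinearMap.inl k V (Module.Dual k V)) with hV₁
  let sd := (LinearMap.snd k V (Module.Dual k V)).comp T.subtype
  let P : Submodule k (Module.Dual k V) := LinearMap.range sd
  have hrn : Module.finrank k V₁ + Module.finrank k P = Module.finrank k T := rank_split T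
  have hle : Module.finrank k V₁ ≤ Module.finrank k V := Submodule.finrank_le V₁
  have hco := Subspace.finrank_add_finrank_dualCoannihilator_eq P
  obtain ⟨V₂, h, hQ⟩ := exists_common_compl (Module.finrank k V - Module.finrank k V₁) V₁ P.dualCoannihilator
    (by omega) (by omega)
  refine ⟨V₂, h, fun A₁ hA₁ => eq_bot_iff.2 ?_⟩
  rintro ⟨v, φ⟩ ⟨hg, hT'⟩
  rw [SetLike.mem_coe, LinearMap.mem_graph_iff] at hg
  dsimp only at hg
  have hφ : φ = 0 := by
    refine LinearMap.ext fun z => ?_
    obtain ⟨q, hq, w, hw, rfl⟩ := Submodule.mem_sup.1 (hQ.codisjoint.eq_top ▸ Submodule.mem_top : z ∈ P.dualCoannihilator ⊔ V₂)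
    rw [map_add, (Submodule.mem_dualCoannihilator q).1 hq φ ⟨⟨(v, φ), hT'⟩, rfl⟩, hg]
    have := Submodule.projectionOnto_apply_right h ⟨w, hw⟩
    simp [this]
  subst hφ
  have hv1 : v ∈ V₁ := hT'
  have h0 : A₁ (Submodule.projectionOnto V₁ V₂ h v) = 0 := by
    refine LinearMap.ext fun u => ?_
    have := LinearMap.congr_fun hg (u : V)
    have hu := Submodule.projectionOnto_apply_left h u
    simp [hu] at this
    exact this.symm
  have h1 := hA₁ (h0.trans (map_zero A₁).symm)
  have h2 := Submodule.projectionOnto_apply_left h ⟨v, hv1⟩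
  have hv : v = 0 := congrArg Subtype.val (h2.symm.trans h1)
  simp [hv]

end

/-- Let V be a finite-dimensional vector space over a field k, let W = V × V^∨ with V^∨ the dual space,
and let T ⊆ W be a subspace with dim T = dim V; put V₁ = V ∩ T, where V sits in W as V × 0. Then
there is a complement V₂ of V₁ in V with the following property: for every injective linear map A₁ :
V₁ → V₁^∨, the map A : V → V^∨ extending A₁ by zero along the decompositions V = V₁ ⊕ V₂ and V^∨ =
V₁^∨ ⊕ V₂^∨ (so A v = A₁(p v) ∘ p, with p : V → V₁ the projection along V₂) has graph Γ ⊆ W with Γ ∩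
T = 0. -/
theorem result (k V : Type u) [Field k] [AddCommGroup V] [Module k V]
    [FiniteDimensional k V] (T : Submodule k (V × Module.Dual k V))
    (hT : Module.finrank k T = Module.finrank k V) :
    ∃ (V₂ : Submodule k V) (h : IsCompl (T.comap (LinearMap.inl k V (Module.Dual k V))) V₂),
      ∀ A₁ : T.comap (LinearMap.inl k V (Module.Dual k V)) →ₗ[k]
          Module.Dual k (T.comap (LinearMap.inl k V (Module.Dual k V))),
        Function.Injective A₁ →
          LinearMap.graph ((Submodule.projectionOnto _ V₂ h).dualMap ∘ₗ A₁ ∘ₗ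
              Submodule.projectionOnto _ V₂ h) ⊓ T = ⊥ := by
  exact main T hT

end Groth.Agent.S14478
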