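import Mathlib
import Groth.Statements.S14479
-- import your own Groth.Agent.* helpers here

set_option autoImplicit false
universe u
open CharCyc

namespace Groth.Agent.S14479

/-- Let V be a finite-dimensional vector space over a field k. If dim V is even or the characteristic of
k is different from 2, there is a bilinear form B on V such that the bilinear form (v, w) ↦ B(v, w)
+ B(w, v) (B plus its transpose, as a map V → V^∨) is nondegenerate. -/
theorem result (k V : Type u) [Field k] [AddCommGroup V] [Module k V]
    [FiniteDimensional k V] (h : Even (Module.finrank k V) ∨ ringChar k ≠ 2) :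
    ∃ B : LinearMap.BilinForm k V, (B + B.flip).Nondegenerate := by
  classical
  suffices hM : ∃ (ι : Type) (_ : Fintype ι) (_ : DecidableEq ι) (M : Matrix ι ι k), Fintype.card ι = Module.finrank k V ∧ (M + M.transpose).det ≠ 0 by
    obtain ⟨ι, _, _, M, hcard, hdet⟩ := hM
    let b : Module.Basis ι k V := (Module.finBasisOfFinrankEq k V hcard.symm).reindex (Fintype.equivFin ι).symm
    refine ⟨Matrix.toBilin b M, ?_⟩
    have hflip : (Matrix.toBilin b M).flip = Matrix.toBilin b M.transpose := by
      have e : ∀ (N : Matrix ι ι k) i j, Matrix.toBilin b N (b i) (b j) = N i j := fun N i j => by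
        rw [← LinearMap.BilinForm.toMatrix_apply, LinearMap.BilinForm.toMatrix_toBilin]
      refine LinearMap.BilinForm.ext_basis b fun i j => ?_
      show Matrix.toBilin b M (b j) (b i) = _
      rw [e, e, Matrix.transpose_apply]
    rw [hflip, ← map_add]
    exact (Matrix.nondegenerate_toBilin_iff b).2 (Matrix.nondegenerate_of_det_ne_zero hdet)
  by_cases h2 : (2 : k) = 0
  · have hev : Even (Module.finrank k V) := h.resolve_right fun hne => hne (ringChar.eq_iff.2 (CharTwo.of_one_ne_zero_of_two_eq_zero one_ne_zero h2))
    obtain ⟨n, hn⟩ := hev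
    refine ⟨Fin n ⊕ Fin n, inferInstance, inferInstance, Matrix.fromBlocks 0 1 0 0, by simp [hn], ?_⟩
    rw [Matrix.fromBlocks_transpose, Matrix.fromBlocks_add]
    intro hd
    have hsq : (Matrix.fromBlocks (0 + (0 : Matrix (Fin n) (Fin n) k).transpose) (1 + (0 : Matrix (Fin n) (Fin n) k).transpose) (0 + (1 : Matrix (Fin n) (Fin n) k).transpose) (0 + (0 : Matrix (Fin n) (Fin n) k).transpose)) *
        (Matrix.fromBlocks 0 1 1 0) = 1 := by
      simp [Matrix.fromBlocks_multiply]
    have := congrArg Matrix.det hsq
    rw [Matrix.det_mul, hd, zero_mul, Matrix.det_one] at this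
    exact zero_ne_one this
  · refine ⟨Fin (Module.finrank k V), inferInstance, inferInstance, 1, by simp, ?_⟩
    rw [Matrix.transpose_one, show (1 : Matrix (Fin (Module.finrank k V)) (Fin (Module.finrank k V)) k) + 1 = (2 : k) • 1 by rw [two_smul],
      Matrix.det_smul, Matrix.det_one, mul_one]
    exact pow_ne_zero _ h2

end Groth.Agent.S14479
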