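import Groth.Statements.S5797
import Mathlib
import Groth.Agent.BMCoh.Topology
-- import your own Groth.Agent.* helpers here

set_option autoImplicit false
universe u
open TopDim

namespace Groth.Agent.S5797

/-- If a topological space X is a finite union of closed subsets X_i, then dim(X) = sup_i dim(X_i)
(combinatorial dimensions). -/
theorem result (X : Type u) [TopologicalSpace X] (ι : Type u)
    [Finite ι] (Y : ι → Set X) (hY : ∀ i, IsClosed (Y i)) (hcov : ⋃ i, Y i = Set.univ) :
    topologicalKrullDim X = ⨆ i, topologicalKrullDim (Y i) := by
  refine le_antisymm ?_ (iSup_le fun i => topologicalKrullDim_subspace_le _ _)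
  refine iSup_le fun l => ?_
  classical
  cases nonempty_fintype ι
  obtain ⟨z, hz, hsub⟩ := isIrreducible_iff_sUnion_isClosed.mp
    (RelSeries.last l).isIrreducible (Finset.univ.image Y)
    (by simpa using hY) (by simp [Set.sUnion_range, hcov])
  obtain ⟨i, -, rfl⟩ := Finset.mem_image.mp hz
  exact le_iSup_of_le i (BMCoh.length_le_topologicalKrullDim (Y i) l fun k =>
    Set.Subset.trans (l.monotone (Fin.le_last k)) hsub)

end Groth.Agent.S5797
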