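import Groth.Statements.S14481
import Groth.Agent.RegSeq.Imm
import Groth.Agent.PerfMor.Surj
import Groth.Agent.DimTrdeg.OverField
import Groth.Agent.GeomUnib.DimFormula
import Groth.Agent.CohFinite.Generic
import Groth.Agent.S5797
import Mathlib.RingTheory.Ideal.KrullsHeightTheorem
import Mathlib.AlgebraicGeometry.PullbackCarrier

set_option autoImplicit false
universe u
open CategoryTheory AlgebraicGeometry
open CharCyc

namespace Groth.Agent.S14481

open Groth.Agent Groth.Agent.RegSeq
open CategoryTheory.Limits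

theorem le_pullback_component {K : Type u} [Field K] {X Y Z : Scheme.{u}} (g₀ : Z ⟶ Spec (CommRingCat.of K))
    [LocallyOfFiniteType g₀] [IsIntegral Z] (f : X ⟶ Y) {κ : RegImm.Kind} (c : ℕ)
    (hreg : RegImm.IsRegularImmersionOfCodim κ c f) (ι : Z ⟶ Y) (d : ℕ) (hd : topologicalKrullDim Z = d)
    (T : Set ↥(pullback f ι)) (hT : T ∈ irreducibleComponents ↥(pullback f ι)) :
    ((d : ℕ) : WithBot ℕ∞) ≤ topologicalKrullDim ↥T + c := by
  classical
  obtain ⟨t, ht⟩ := hT.1.nonempty
  obtain ⟨U, hU, hcl, rs, hlen, -, hker⟩ := hreg.2 (pullback.fst f ι t)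
  haveI := hcl
  have hsq : IsPullback (pullback.fst f ι) (pullback.snd f ι) f ι := IsPullback.of_hasPullback f ι
  have htU : pullback.snd f ι t ∈ ι ⁻¹ᵁ U.1 := by
    show ι (pullback.snd f ι t) ∈ U.1
    rw [show ι (pullback.snd f ι t) = f (pullback.fst f ι t) from congr($(hsq.w) t).symm]
    exact hU
  obtain ⟨W, hW, htW, eW⟩ := exists_isAffineOpen_mem_and_subset (U := ι ⁻¹ᵁ U.1) (x := pullback.snd f ι t) htU
  obtain ⟨hcl', hker'⟩ := restrict_baseChange hsq U.2 hW eW
  haveI := hcl'
  obtain ⟨hV, hs⟩ := Groth.Agent.PerfMor.surjective_app_of_restrict (pullback.snd f ι) hW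
  let φ := ((pullback.snd f ι).app W).hom
  rw [hker, Ideal.map_ofList] at hker'
  let g : List Γ(Z, W) := rs.map (ι.appLE U.1 W eW).hom
  -- the component in the affine chart
  have hne : (T ∩ Set.range hV.fromSpec).Nonempty := ⟨t, ht, by rw [hV.range_fromSpec]; exact htW⟩
  have hT' := preimage_mem_irreducibleComponents hT hV.fromSpec.isOpenEmbedding hne
  replace hT' : hV.fromSpec ⁻¹' T ∈ PrimeSpectrum.zeroLocus ∘ (↑) '' minimalPrimes Γ(pullback f ι, pullback.snd f ι ⁻¹ᵁ W) :=
    (PrimeSpectrum.zeroLocus_minimalPrimes (R := Γ(pullback f ι, pullback.snd f ι ⁻¹ᵁ W))).ge hT'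
  obtain ⟨q', hq', hq'T⟩ := hT'
  haveI : q'.IsPrime := hq'.1.1
  let q := q'.comap φ
  have hq : q ∈ (Ideal.ofList g).minimalPrimes := by
    rw [← hker']
    have h := Ideal.comap_minimalPrimes_eq_of_surjective hs (⊥ : Ideal Γ(pullback f ι, pullback.snd f ι ⁻¹ᵁ W))
    rw [← RingHom.ker_eq_comap_bot] at h
    exact h.ge ⟨q', hq', rfl⟩
  have hht : q.height ≤ c := by
    haveI : IsNoetherianRing Γ(Z, W) := by
      haveI : IsLocallyNoetherian Z := LocallyOfFiniteType.isLocallyNoetherian g₀
      exact IsLocallyNoetherian.component_noetherian ⟨W, hW⟩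
    have hset : Ideal.ofList g = Ideal.span (g.toFinset : Set Γ(Z, W)) := by
      rw [List.coe_toFinset]
    rw [hset] at hq
    refine le_trans (Ideal.height_le_card_of_mem_minimalPrimes_span_finset hq) ?_
    exact_mod_cast le_trans (List.toFinset_card_le g) (by simp [g, hlen])
  -- the affine domain
  letI : Z.Over (Spec (CommRingCat.of K)) := ⟨g₀⟩
  haveI : LocallyOfFiniteType (Z ↘ Spec (CommRingCat.of K)) := inferInstanceAs (LocallyOfFiniteType g₀)
  haveI : Nonempty W := ⟨⟨_, htW⟩⟩
  let α : K →+* Γ(Z, W) :=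
    (g₀.appLE ⊤ W le_top).hom.comp (Scheme.ΓSpecIso (CommRingCat.of K)).inv.hom
  have hα : α.FiniteType := RingHom.FiniteType.comp
    (HasRingHomProperty.appLE @LocallyOfFiniteType g₀ inferInstance ⟨⊤, isAffineOpen_top _⟩ ⟨W, hW⟩ le_top)
    (RingHom.FiniteType.of_surjective _ (ConcreteCategory.bijective_of_isIso (Scheme.ΓSpecIso (CommRingCat.of K)).inv).2)
  letI := α.toAlgebra
  haveI : Algebra.FiniteType K Γ(Z, W) := hα
  have hdimW : ringKrullDim Γ(Z, W) = d := by
    rw [← hd, ← Groth.Agent.DimTrdeg.dim_open_eq K Z W ⟨_, htW⟩, ← PrimeSpectrum.topologicalKrullDim_eq_ringKrullDim]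
    exact hW.isoSpec.hom.homeomorph.isHomeomorph.topologicalKrullDim_eq.symm
  obtain ⟨s, r, hs', hr, l, hl, hsl⟩ := Groth.Agent.GeomUnib.exists_series_of_domain K Γ(Z, W) q
  have hlq : (l.length : ℕ∞) ≤ q.height := by
    haveI : l.last.asIdeal.IsPrime := l.last.2
    rw [← hl, PrimeSpectrum.height_eq_orderHeight]
    exact Order.length_le_height_last (p := l)
  have hlc : l.length ≤ c := by exact_mod_cast hlq.trans hht
  have hdim : ringKrullDim (Γ(Z, W) ⧸ q) ≤ topologicalKrullDim T := by
    let e : (Γ(Z, W) ⧸ q) ≃+* Γ(pullback f ι, pullback.snd f ι ⁻¹ᵁ W) ⧸ q' :=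
      (Ideal.quotEquivOfEq (by rw [← RingHom.comap_ker, Ideal.mk_ker])).trans
        (RingHom.quotientKerEquivOfSurjective (f := (Ideal.Quotient.mk q').comp φ)
          (Ideal.Quotient.mk_surjective.comp hs))
    rw [ringKrullDim_eq_of_ringEquiv e, ← PrimeSpectrum.topologicalKrullDim_eq_ringKrullDim]
    have hmem : ∀ x, hV.fromSpec (PrimeSpectrum.comap (Ideal.Quotient.mk q') x) ∈ T := fun x => by
      have h1 : PrimeSpectrum.comap (Ideal.Quotient.mk q') x ∈ PrimeSpectrum.zeroLocus (q' : Set _) := by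
        intro a ha
        show Ideal.Quotient.mk q' a ∈ x.asIdeal
        rw [Ideal.Quotient.eq_zero_iff_mem.2 ha]
        exact zero_mem _
      exact hq'T.le h1
    refine Topology.IsInducing.topologicalKrullDim_le (f := fun x => (⟨_, hmem x⟩ : T)) ?_
    refine Topology.IsInducing.of_comp ?_ continuous_subtype_val ?_
    · exact Continuous.subtype_mk (hV.fromSpec.isOpenEmbedding.continuous.comp (PrimeSpectrum.continuous_comap _)) _
    · exact hV.fromSpec.isOpenEmbedding.isInducing.comp
        (PrimeSpectrum.isClosedEmbedding_comap_of_surjective _ _ Ideal.Quotient.mk_surjective).isInducing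
  have hds : d = s := by exact_mod_cast hdimW.symm.trans hs'
  calc ((d : ℕ) : WithBot ℕ∞) ≤ ((r + c : ℕ) : WithBot ℕ∞) := by exact_mod_cast (show d ≤ r + c by omega)
    _ = (r : WithBot ℕ∞) + c := by push_cast; rfl
    _ ≤ topologicalKrullDim T + c := add_le_add_left (hr ▸ hdim) _

theorem le_component (k : Type u) [Field k] {C X W : Scheme.{u}}
    (q : X ⟶ Spec (CommRingCat.of k)) (π : C ⟶ X) (ι : W ⟶ X) [LocallyOfFiniteType q] [LocallyOfFiniteType π]
    (κ : RegImm.Kind) (n c : ℕ) (hι : RegImm.IsRegularImmersionOfCodim κ c ι)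
    (P : Set C) (hP : P ∈ irreducibleComponents (C : Type u)) (hn : topologicalKrullDim P = n)
    (Q : Set (P ∩ π ⁻¹' Set.range ι : Set C)) (hQ : Q ∈ irreducibleComponents (P ∩ π ⁻¹' Set.range ι : Set C)) :
    ((n : ℕ) : WithBot ℕ∞) ≤ topologicalKrullDim Q + (c : WithBot ℕ∞) := by
  obtain ⟨ξ, hξ⟩ := QuasiSober.sober hP.1 (isClosed_of_mem_irreducibleComponents P hP)
  obtain ⟨Z, i, hi, hZ, hr⟩ := CohFinite.exists_integral_subscheme ξ
  have hr' : Set.range i = P := hr.trans hξ
  haveI := hι.1
  let e : ↥(pullback ι (i ≫ π)) → (P ∩ π ⁻¹' Set.range ι : Set C) := fun x =>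
    ⟨i (pullback.snd ι (i ≫ π) x), hr'.le ⟨_, rfl⟩,
      ⟨pullback.fst ι (i ≫ π) x, congr($(pullback.condition (f := ι) (g := i ≫ π)) x)⟩⟩
  have hemb : Topology.IsEmbedding e := by
    refine Topology.IsEmbedding.of_comp ?_ continuous_subtype_val ?_
    · exact (i.continuous.comp (pullback.snd ι (i ≫ π)).continuous).subtype_mk _
    · exact i.isClosedEmbedding.isEmbedding.comp (pullback.snd ι (i ≫ π)).isEmbedding
  have hsurj : Function.Surjective e := fun y => by
    obtain ⟨z, hz⟩ := hr'.ge y.2.1
    have hz' : z ∈ Set.range (pullback.snd ι (i ≫ π)) := by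
      rw [Scheme.Pullback.range_snd]
      show π (i z) ∈ Set.range ι
      rw [hz]
      exact y.2.2
    obtain ⟨x, hx⟩ := hz'
    exact ⟨x, Subtype.ext (by show i _ = _; rw [hx, hz])⟩
  let h : ↥(pullback ι (i ≫ π)) ≃ₜ (P ∩ π ⁻¹' Set.range ι : Set C) :=
    (Equiv.ofBijective e ⟨hemb.injective, hsurj⟩).toHomeomorphOfIsInducing hemb.isInducing
  have hT := preimage_mem_irreducibleComponents hQ h.isOpenEmbedding (by
    obtain ⟨y, hy⟩ := hQ.1.nonempty
    exact ⟨y, hy, h.surjective y⟩)
  have hdZ : topologicalKrullDim Z = n := by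
    rw [← hn, ← hr']
    exact (i.isClosedEmbedding.isEmbedding.toHomeomorph).isHomeomorph.topologicalKrullDim_eq
  refine le_trans (le_pullback_component (K := k) ((i ≫ π) ≫ q) ι c hι (i ≫ π) n hdZ _ hT) (add_le_add_left ?_ _)
  refine Topology.IsInducing.topologicalKrullDim_le (f := fun x => (⟨h x.1, x.2⟩ : Q)) ?_
  refine Topology.IsInducing.of_comp (g := fun y : Q => y.1) ?_ continuous_subtype_val ?_
  · exact (h.continuous.comp continuous_subtype_val).subtype_mk _
  · exact h.isInducing.comp Topology.IsInducing.subtypeVal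

/-- First equivalence: let k be a field, let π : C → X be a morphism between k-schemes of finite type
such that every irreducible component of C has dimension n, and let ι : W → X be a regular immersion
of codimension c. The following are equivalent: (a) ι meets C properly, that is, whenever P is an
irreducible component of C and Q is an irreducible component of P ×_X W (the subspace P ∩ π⁻¹(ι(W))
of C), one has dim Q = dim P − c; (b) dim C ×_X W ≤ n − c (the subspace π⁻¹(ι(W)) of C). Dimensions
are written additively: dim Q + c = n and dim π⁻¹(ι(W)) + c ≤ n, the empty space having dimension ⊥.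
(Stated for each of the four kinds of regular immersion of codimension c — regular, Koszul-regular,
H₁-regular, quasi-regular; the published statement does not distinguish kinds.) -/
theorem result (k : Type u) [Field k] (C X W : Scheme.{u})
    (q : X ⟶ Spec (CommRingCat.of k)) (π : C ⟶ X) (ι : W ⟶ X)
    [LocallyOfFiniteType q] [CompactSpace X] [LocallyOfFiniteType π] [CompactSpace C]
    (κ : RegImm.Kind) (n c : ℕ) (hι : RegImm.IsRegularImmersionOfCodim κ c ι)
    (hC : ∀ P ∈ irreducibleComponents (C : Type u), topologicalKrullDim P = n) :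
    (∀ P ∈ irreducibleComponents (C : Type u), ∀ Q ∈ irreducibleComponents (P ∩ π ⁻¹' Set.range ι : Set C),
        topologicalKrullDim Q + (c : WithBot ℕ∞) = n) ↔
      topologicalKrullDim (π ⁻¹' Set.range ι : Set C) + (c : WithBot ℕ∞) ≤ n := by
  classical
  haveI : IsLocallyNoetherian C := LocallyOfFiniteType.isLocallyNoetherian (π ≫ q)
  haveI : AlgebraicGeometry.IsNoetherian C := ⟨⟩
  have key : ∀ P ∈ irreducibleComponents (C : Type u), ∀ Q ∈ irreducibleComponents (P ∩ π ⁻¹' Set.range ι : Set C),
      ((n : ℕ) : WithBot ℕ∞) ≤ topologicalKrullDim Q + (c : WithBot ℕ∞) := fun P hP Q hQ =>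
    le_component k q π ι κ n c hι P hP (hC P hP) Q hQ
  constructor
  · intro h
    set S : Set C := π ⁻¹' Set.range ι
    haveI : Finite (irreducibleComponents S) :=
      (TopologicalSpace.NoetherianSpace.finite_irreducibleComponents (α := S)).to_subtype
    rw [S5797.result S (irreducibleComponents S) (fun R => R.1)
      (fun R => isClosed_of_mem_irreducibleComponents R.1 R.2)
      (by rw [← Set.sUnion_eq_iUnion, sUnion_irreducibleComponents])]
    rcases isEmpty_or_nonempty (irreducibleComponents S) with he | hne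
    · simp [iSup_of_empty]
    obtain ⟨R, hR⟩ := exists_eq_ciSup_of_finite (f := fun R : irreducibleComponents S => topologicalKrullDim R.1)
    rw [← hR]
    have hirr : IsIrreducible (Subtype.val '' R.1) := R.2.1.image _ continuous_subtype_val.continuousOn
    obtain ⟨P, hP, hRP⟩ := exists_mem_irreducibleComponents_subset_of_isIrreducible _ hirr
    have hincl : ∀ x : R.1, (x.1.1 : C) ∈ P ∩ S := fun x => ⟨hRP ⟨x.1, x.2, rfl⟩, x.1.2⟩
    let j : R.1 → (P ∩ S : Set C) := fun x => ⟨x.1.1, hincl x⟩
    have hj : Continuous j := (continuous_subtype_val.comp continuous_subtype_val).subtype_mk _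
    haveI : IrreducibleSpace R.1 := Subtype.irreducibleSpace R.2.1
    have hji : IsIrreducible (Set.range j) := by
      rw [← Set.image_univ]
      exact (IrreducibleSpace.isIrreducible_univ R.1).image j hj.continuousOn
    obtain ⟨Q, hQ, hjQ⟩ := exists_mem_irreducibleComponents_subset_of_isIrreducible _ hji
    rw [← h P hP Q hQ]
    refine add_le_add_left ?_ _
    refine Topology.IsInducing.topologicalKrullDim_le (f := fun x => (⟨j x, hjQ ⟨x, rfl⟩⟩ : Q)) ?_
    refine Topology.IsInducing.of_comp (g := fun y : Q => (y.1.1 : C)) (hj.subtype_mk _)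
      (continuous_subtype_val.comp continuous_subtype_val) ?_
    show Topology.IsInducing fun x : R.1 => (x.1.1 : C)
    exact Topology.IsInducing.subtypeVal.comp (g := Subtype.val) Topology.IsInducing.subtypeVal
  · intro h P hP Q hQ
    refine le_antisymm (le_trans (add_le_add_left ?_ _) h) (key P hP Q hQ)
    refine Topology.IsInducing.topologicalKrullDim_le
      (f := fun x => (⟨x.1.1, x.1.2.2⟩ : (π ⁻¹' Set.range ι : Set C))) ?_
    refine Topology.IsInducing.of_comp (g := fun y : (π ⁻¹' Set.range ι : Set C) => (y.1 : C))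
      ((continuous_subtype_val.comp continuous_subtype_val).subtype_mk _) continuous_subtype_val ?_
    show Topology.IsInducing fun x : Q => (x.1.1 : C)
    exact Topology.IsInducing.subtypeVal.comp (g := Subtype.val) Topology.IsInducing.subtypeVal

end Groth.Agent.S14481
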