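import Groth.Statements.S14486
-- import your own Groth.Agent.* helpers here
import Groth.Agent.SurfRR.K3
import Groth.Agent.SurfRR.LES
import Groth.Agent.SurfRR.Setup
import Groth.Agent.SurfRR.CurveInt
import Groth.Agent.SurfRR.CurveCartier
import Groth.Agent.HilbPoly.HdimPush

set_option autoImplicit false
universe u
open CategoryTheory CategoryTheory.Limits AlgebraicGeometry
open Surf

namespace Groth.Agent.S14486

/-- Let k be an algebraically closed field and X a projective K3 surface over k: an integral scheme of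
dimension two with all local rings regular, admitting a closed immersion into some P^n_k over k,
whose structure sheaf O_X is a second exterior power of Ω_{X/k} (the canonical sheaf is trivial) and
with H^1(X, O_X) = 0. Let C be a nonsingular curve of genus g on X: an integral closed subscheme of
dimension one with all local rings regular, with ideal sheaf I ⊆ O_X and g = dim_k H^1(C, O_C); let
M be an inverse of I for the tensor product (M = O_X(C)). Then C² = 2g - 2 and h^0(X, O_X(C)) = g +
1. Writing (L·L') for the intersection number χ(O_X) - χ(L) - χ(L') + χ(L ⊗ L') of two invertible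
modules (packaged as FGA.intNum), C² = (I·I), so the assertion reads (I·I) = 2g - 2 and dim_k H^0(X,
M) = g + 1. (A K3 surface is only required to be proper; this row assumes the projective embedding.) -/
theorem result (k : Type u) [Field k] [IsAlgClosed k] (X : Scheme.{u})
    [X.Over (Spec (CommRingCat.of k))] [IsIntegral X] (hdim : topologicalKrullDim X = 2)
    (hreg : ∀ x : X, IsRegularLocalRing (X.presheaf.stalk x))
    (hproj : ∃ (n : ℕ) (ι : X ⟶ CohB1.ProjSpace n k), IsClosedImmersion ι ∧
      ι ≫ CohB1.ProjSpace.toSpec n k = (X ↘ (Spec (CommRingCat.of k))))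
    (hK : ExtPow.IsExtPow 2 (Omega.sheaf (X ↘ (Spec (CommRingCat.of k)))) (Coh.structureModule X))
    (hH1 : Subsingleton (Coh.HH X (Coh.structureModule X) 1))
    (C : Scheme.{u}) (i : C ⟶ X) [IsClosedImmersion i] [IsIntegral C] (hC : topologicalKrullDim C = 1)
    (hCreg : ∀ c : C, IsRegularLocalRing (C.presheaf.stalk c))
    (M : X.Modules) (hM : ClSub.IsInverseOf M (ClSub.idealMod i.ker)) :
    letI : C.Over (Spec (CommRingCat.of k)) := ⟨i ≫ (X ↘ (Spec (CommRingCat.of k)))⟩
    FGA.intNum k X 2 ![ClSub.idealMod i.ker, ClSub.idealMod i.ker] (Coh.structureModule X) =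
        2 * (Curv2.genus k C : ℤ) - 2 ∧
      Module.finrank k (Coh.HH X M 0) = Curv2.genus k C + 1 := by
  haveI := SurfRR.isProper_of_proj hproj
  letI : C.Over (Spec (CommRingCat.of k)) := ⟨i ≫ (X ↘ (Spec (CommRingCat.of k)))⟩
  obtain ⟨hWi, hdual⟩ := SurfRR.canonical_spec hdim hreg hproj _ hK
  haveI : IsLocallyNoetherian X := LocallyOfFiniteType.isLocallyNoetherian (X ↘ Spec (CommRingCat.of k))
  have hI : PicF.IsInvertible (ClSub.idealMod i.ker) := SurfRR.isInvertible_idealMod_of_regular hdim hreg i hC
  haveI : IsProper (C ↘ Spec (CommRingCat.of k)) := inferInstanceAs (IsProper (i ≫ (X ↘ Spec (CommRingCat.of k))))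
  have hOinv := HilbPoly.isInvertible_structureModule X
  have hO : Coh.IsCoh (Coh.structureModule X) := InvPow.isCoh_of_isInvertible hOinv
  have hOC : Coh.IsCoh (Coh.structureModule C) :=
    haveI : IsLocallyNoetherian C := LocallyOfFiniteType.isLocallyNoetherian i
    InvPow.isCoh_of_isInvertible (HilbPoly.isInvertible_structureModule C)
  have hC' : topologicalKrullDim C ≤ ((1 : ℕ) : WithBot ℕ∞) := hC.le
  have h2 := SurfRR.euler_eq k (X := C) (hC'.trans (by norm_num)) hOC
  have hv : Subsingleton (Coh.HH C (Coh.structureModule C) 2) :=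
    HilbPoly.subsingleton_HH_of_dim k hOC (d := 1) ((topologicalKrullDim_subspace_le C _).trans hC') (by norm_num)
  rw [Module.finrank_zero_of_subsingleton (M := Coh.HH C (Coh.structureModule C) 2), SurfRR.finrank_h0 k (X := C)] at h2
  have hg : (Curv2.genus k C : ℤ) = Module.finrank k (Coh.HH C (Coh.structureModule C) 1) := rfl
  rw [← hg] at h2
  have hsub := SurfRR.euler_sub k i hI
  have hrr := SurfRR.riemann_roch k hdim.le hOinv hdual hI
  rw [SurfRR.intNum_pair k hdim.le hI hOinv, IntTh.inum_swap k hI hOinv, IntTh.inum_head_unit] at hrr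
  -- `χ(O_X) = 2`
  have hs0 := SurfRR.euler_eq k hdim.le hO
  have hd2 := SurfRR.finrank_h2 k hdual hOinv (M := Coh.structureModule X) (SecTwist.unitorR _)
  obtain ⟨u0⟩ := SSExist.nonempty_HH_linearEquiv_of_iso (A := k) (SecTwist.unitorR (Coh.structureModule X)) 0
  rw [u0.finrank_eq, SurfRR.finrank_h0 k (X := X)] at hd2
  rw [SurfRR.finrank_h0 k (X := X), Module.finrank_zero_of_subsingleton (M := Coh.HH X (Coh.structureModule X) 1),
    hd2] at hs0
  push_cast at h2 hs0
  refine ⟨by linarith, ?_⟩
  -- `h⁰(I) = 0`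
  obtain ⟨n, ι, hι, -⟩ := hproj
  haveI := hι
  have hH := SurfRR.isAmple_hyperplane ι
  obtain ⟨H', ⟨eH⟩⟩ := NegVanish.exists_inverse hH.1
  have hH' : PicF.IsInvertible H' := NegVanish.isInvertible_of_inverse hH.1 ⟨eH⟩
  have h0I : Module.finrank k (Coh.HH X (ClSub.idealMod i.ker) 0) = 0 := by
    by_contra hne
    have h1 := SurfRR.inum_nonneg_of_section k hdim.le hI
      (Module.nontrivial_of_finrank_pos (Nat.pos_of_ne_zero hne)) hH
    have h3 := SurfRR.intNum_ideal_inverse k hdim.le i hI hH.1 eH
    rw [SurfRR.intNum_pair k hdim.le hI hH', IntTh.inum_swap k hI hH', SurfRR.inum_inv k hdim.le hH.1 eH hI,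
      IntTh.inum_swap k hH.1 hI] at h3
    have h4 := IntTh.inumOn_pos_of_isAmple k hH i (d := 1) hC
    rw [show List.replicate 1 ((Scheme.Modules.pullback ι).obj (Twist.twistProjSpace n k 1)) =
      [(Scheme.Modules.pullback ι).obj (Twist.twistProjSpace n k 1)] from rfl, IntTh.inumOn_single] at h4
    have h5 : Curv2.deg k C ((Scheme.Modules.pullback i).obj
        ((Scheme.Modules.pullback ι).obj (Twist.twistProjSpace n k 1))) 1 =
        Curv2.euler k C ((Scheme.Modules.pullback i).obj ((Scheme.Modules.pullback ι).obj (Twist.twistProjSpace n k 1))) -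
          Curv2.euler k C (Coh.structureModule C) := by
      rw [Curv2.deg]; push_cast; ring
    rw [h5] at h3
    omega
  -- `h¹(I) = 0`
  let S : ShortComplex X.Modules :=
    ShortComplex.mk (ClSub.idealModι i.ker) (ClSub.toSubscheme i.ker) (kernel.condition _)
  haveI : Epi (ClSub.toSubscheme i.ker) := HilbPoly.epi_toSubscheme _
  haveI : Mono (ClSub.idealModι i.ker) := inferInstanceAs (Mono (kernel.ι _))
  have hS : S.ShortExact :=
    { exact := ShortComplex.exact_of_f_is_kernel _ (kernelIsKernel _)
      mono_f := inferInstanceAs (Mono (kernel.ι _))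
      epi_g := inferInstanceAs (Epi (ClSub.toSubscheme i.ker)) }
  obtain ⟨q⟩ := SurfRR.nonempty_quotMod_iso i
  obtain ⟨uq⟩ := SSExist.nonempty_HH_linearEquiv_of_iso (A := k) q 0
  haveI := InvBasic.isQuasicoherent_structureModule C
  have hp := HilbPoly.hdim_push i k (Coh.structureModule C) 0
  have h0q : Module.finrank k (Coh.HH X (Coh.structureModule X) 0) = Module.finrank k (Coh.HH X S.X₃ 0) := by
    rw [SurfRR.finrank_h0 k (X := X), show Module.finrank k (Coh.HH X S.X₃ 0) =
      Module.finrank k (Coh.HH X ((Scheme.Modules.pushforward i).obj (Coh.structureModule C)) 0) from uq.finrank_eq]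
    have : (Module.finrank k (Coh.HH X ((Scheme.Modules.pushforward i).obj (Coh.structureModule C)) 0) : ℤ) =
        Module.finrank k (Coh.HH C (Coh.structureModule C) 0) := hp
    rw [SurfRR.finrank_h0 k (X := C)] at this
    omega
  have h1I := SurfRR.finrank_h1_le k hS (InvPow.isCoh_of_isInvertible hI) hO (HilbPoly.isCoh_quotMod _) h0I h0q
  change Module.finrank k (Coh.HH X (ClSub.idealMod i.ker) 1) ≤
    Module.finrank k (Coh.HH X (Coh.structureModule X) 1) at h1I
  rw [Module.finrank_zero_of_subsingleton (M := Coh.HH X (Coh.structureModule X) 1)] at h1I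
  -- `h²(I) = h⁰(M)`
  obtain ⟨eM⟩ := hM
  obtain ⟨c⟩ := ProjTwist.nonempty_tensorMod_comm (ClSub.idealMod i.ker) M
  have hd := SurfRR.finrank_h2 k hdual hI (c ≪≫ eM)
  obtain ⟨c'⟩ := ProjTwist.nonempty_tensorMod_comm (Coh.structureModule X) M
  obtain ⟨uM⟩ := SSExist.nonempty_HH_linearEquiv_of_iso (A := k) (c' ≪≫ SecTwist.unitorR M) 0
  rw [uM.finrank_eq] at hd
  have hsI := SurfRR.euler_eq k hdim.le (InvPow.isCoh_of_isInvertible hI)
  rw [h0I, Nat.le_zero.1 h1I, hd] at hsI
  push_cast at hsI
  omega

end Groth.Agent.S14486
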