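import Mathlib
import Groth.Statements.S14491
-- import your own Groth.Agent.* helpers here

set_option autoImplicit false
universe w v u
open DerTri

namespace Groth.Agent.S14491

open CategoryTheory Pretriangulated in
/-- In the derived category D(C) of an abelian category C, let E ⟶ F ⟶ G be two morphisms with E
concentrated in non-positive degrees and G concentrated in non-negative degrees for the canonical
t-structure. If two morphisms G ⟶ E⟦1⟧ both complete E ⟶ F ⟶ G to a distinguished triangle, then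
they are equal. (The published statement is phrased with the morphism G⟦-1⟧ ⟶ E of the triangle
G⟦-1⟧ ⟶ E ⟶ F ⟶ G; this row uses the equivalent connecting morphism G ⟶ E⟦1⟧ of the rotated
triangle.) -/
theorem result {C : Type u} [Category.{v} C] [Abelian C]
    [HasDerivedCategory.{w} C] {E F G : DerivedCategory C} (u : E ⟶ F) (v : F ⟶ G)
    [E.IsLE 0] [G.IsGE 0] (w w' : G ⟶ E⟦(1 : ℤ)⟧)
    (hw : Triangle.mk u v w ∈ distTriang (DerivedCategory C))
    (hw' : Triangle.mk u v w' ∈ distTriang (DerivedCategory C)) :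
    w = w' := by
  obtain ⟨c₀, hc1, hc2⟩ := complete_distinguished_triangle_morphism _ _ hw hw' (𝟙 E) (𝟙 F) ((Category.comp_id u).trans (Category.id_comp u).symm)
  obtain ⟨c, rfl⟩ : ∃ c : G ⟶ G, c = c₀ := ⟨c₀, rfl⟩
  simp only [Triangle.mk_mor₂, Triangle.mk_mor₃, Category.id_comp] at hc1 hc2
  have h0 : v ≫ (c - 𝟙 G) = 0 := by
    rw [Preadditive.comp_sub]
    exact sub_eq_zero.mpr (hc1.trans ((Category.id_comp v).trans (Category.comp_id v).symm))
  obtain ⟨(k : E⟦(1 : ℤ)⟧ ⟶ G), (hk : c - 𝟙 G = w ≫ k)⟩ := Triangle.yoneda_exact₃ _ hw (c - 𝟙 G) h0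
  haveI : (E⟦(1 : ℤ)⟧).IsLE (-1) := DerivedCategory.TStructure.t.isLE_shift E 0 1 (-1)
  have hk0 : k = 0 := DerivedCategory.TStructure.t.zero_of_isLE_of_isGE k (-1) 0 (by omega) inferInstance inferInstance
  have hc : c = 𝟙 G := by
    rw [hk0] at hk
    simp at hk
    exact sub_eq_zero.mp hk
  have h1 : (shiftFunctor (DerivedCategory C) (1 : ℤ)).map (𝟙 E) = 𝟙 (E⟦(1 : ℤ)⟧) := CategoryTheory.Functor.map_id _ _
  exact ((Category.comp_id w).symm.trans (congrArg (fun q => w ≫ q) h1.symm)).trans
    (hc2.trans ((congrArg (fun q => q ≫ w') hc).trans (Category.id_comp w')))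
end Groth.Agent.S14491
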