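import Groth.Statements.S14498
import Mathlib
-- import your own Groth.Agent.* helpers here

set_option autoImplicit false
universe v u
open AbDiag

namespace Groth.Agent.S14498

open CategoryTheory CategoryTheory.Limits in
/-- In an abelian category, let 0 → F → W → E' → 0 (maps a, b) and 0 → E → W → F' → G → G' → 0 (maps c,
d, e, g) be exact sequences such that the composite F → W → F' is a monomorphism. Then the composite
E → W → E' is a monomorphism, and there is a short exact sequence 0 → Coker(E → E') → Coker(F → F')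
→ Ker(G → G') → 0 whose first map is induced by d (through the quotient map b) and whose second map
is induced by e. -/
theorem result
    {V : Type u} [Category.{v} V] [Abelian V] {F W E' E F' G G' : V}
    (a : F ⟶ W) (b : W ⟶ E') (c : E ⟶ W) (d : W ⟶ F') (e : F' ⟶ G) (g : G ⟶ G')
    [Mono a] [Epi b] (wab : a ≫ b = 0) (hab : (ShortComplex.mk a b wab).Exact)
    [Mono c] (wcd : c ≫ d = 0) (hcd : (ShortComplex.mk c d wcd).Exact)
    (wde : d ≫ e = 0) (hde : (ShortComplex.mk d e wde).Exact)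
    (weg : e ≫ g = 0) (heg : (ShortComplex.mk e g weg).Exact) [Epi g]
    (hmono : Mono (a ≫ d)) :
    Mono (c ≫ b) ∧
      ∃ (φ : cokernel (c ≫ b) ⟶ cokernel (a ≫ d)) (ψ : cokernel (a ≫ d) ⟶ kernel g)
        (w : φ ≫ ψ = 0),
        b ≫ cokernel.π (c ≫ b) ≫ φ = d ≫ cokernel.π (a ≫ d) ∧
        cokernel.π (a ≫ d) ≫ ψ ≫ kernel.ι g = e ∧
        (ShortComplex.mk φ ψ w).ShortExact := by
  haveI : Epi (ShortComplex.mk a b wab).g := ‹Epi b›
  let π₁ := cokernel.π (c ≫ b)
  let π₂ := cokernel.π (a ≫ d)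
  let φ₀ : E' ⟶ cokernel (a ≫ d) := hab.desc (d ≫ π₂) (by
    show a ≫ d ≫ π₂ = 0
    rw [← Category.assoc]; exact cokernel.condition _)
  have hφ₀ : b ≫ φ₀ = d ≫ π₂ := hab.g_desc _ _
  let φ : cokernel (c ≫ b) ⟶ cokernel (a ≫ d) := cokernel.desc (c ≫ b) φ₀ (by
    rw [Category.assoc, hφ₀, reassoc_of% wcd, zero_comp])
  let ψ : cokernel (a ≫ d) ⟶ kernel g := cokernel.desc (a ≫ d) (kernel.lift g e weg) (by
    rw [← cancel_mono (kernel.ι g), Category.assoc, kernel.lift_ι, Category.assoc, wde, comp_zero,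
      zero_comp])
  have hφ : b ≫ π₁ ≫ φ = d ≫ π₂ := by simp only [π₁, φ, cokernel.π_desc, hφ₀]
  have hψ : π₂ ≫ ψ ≫ kernel.ι g = e := by simp only [π₂, ψ, cokernel.π_desc_assoc, kernel.lift_ι]
  have w : φ ≫ ψ = 0 := by
    rw [← cancel_epi π₁, ← cancel_epi b, ← cancel_mono (kernel.ι g)]
    simp only [Category.assoc, comp_zero, zero_comp]
    rw [reassoc_of% hφ, hψ, wde]
  have hπ₁ : c ≫ b ≫ π₁ = 0 := by rw [← Category.assoc]; exact cokernel.condition _
  refine ⟨?_, φ, ψ, w, hφ, hψ, ?_⟩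
  · rw [Preadditive.mono_iff_cancel_zero]
    intro P x hx
    obtain ⟨A', π, hπ, y, hy⟩ := hab.exact_up_to_refinements (x ≫ c) (by
      show (x ≫ c) ≫ b = 0
      rw [Category.assoc]; exact hx)
    have hy0 : y = 0 := by
      refine zero_of_comp_mono (a ≫ d) ?_
      have := congrArg (· ≫ d) hy
      simp only [Category.assoc, wcd, comp_zero] at this
      exact this.symm
    rw [hy0, zero_comp] at hy
    exact zero_of_comp_mono c ((cancel_epi π).mp (hy.trans comp_zero.symm))
  · haveI : Mono φ := by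
      rw [Preadditive.mono_iff_cancel_zero]
      intro P x hx
      obtain ⟨A₁, p₁, hp₁, x₁, hx₁⟩ := surjective_up_to_refinements_of_epi (b ≫ π₁) x
      have h1 : (x₁ ≫ d) ≫ π₂ = 0 := by
        rw [Category.assoc, ← hφ, ← Category.assoc b π₁ φ, ← Category.assoc x₁, ← hx₁,
          Category.assoc, hx, comp_zero]
      obtain ⟨A₂, p₂, hp₂, z, hz⟩ :=
        (ShortComplex.exact_cokernel (a ≫ d)).exact_up_to_refinements (x₁ ≫ d) h1
      have h2 : (p₂ ≫ x₁ - z ≫ a) ≫ d = 0 := by
        rw [Preadditive.sub_comp, Category.assoc, hz, Category.assoc]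
        exact sub_self _
      obtain ⟨A₃, p₃, hp₃, t, ht⟩ := hcd.exact_up_to_refinements (p₂ ≫ x₁ - z ≫ a) h2
      have h3 := congrArg (· ≫ b ≫ π₁) ht
      simp only [Category.assoc, Preadditive.sub_comp, Preadditive.comp_sub, hπ₁, comp_zero,
        reassoc_of% wab, zero_comp, sub_zero] at h3
      rw [← cancel_epi p₁, hx₁, comp_zero, ← cancel_epi p₂, comp_zero, ← cancel_epi p₃, comp_zero]
      exact h3
    haveI : Epi ψ := by
      rw [epi_iff_surjective_up_to_refinements]
      intro P x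
      obtain ⟨A', π, hπ, y, hy⟩ := heg.exact_up_to_refinements (x ≫ kernel.ι g) (by
        show (x ≫ kernel.ι g) ≫ g = 0
        rw [Category.assoc, kernel.condition, comp_zero])
      refine ⟨A', π, hπ, y ≫ π₂, ?_⟩
      rw [← cancel_mono (kernel.ι g), Category.assoc, Category.assoc, Category.assoc, hψ]
      exact hy
    refine ShortComplex.ShortExact.mk' ?_ ‹Mono φ› ‹Epi ψ›
    rw [ShortComplex.exact_iff_exact_up_to_refinements]
    intro P x hx
    obtain ⟨A₁, p₁, hp₁, y, hy⟩ := surjective_up_to_refinements_of_epi π₂ x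
    have h1 : y ≫ e = 0 := by
      rw [← hψ, ← Category.assoc, ← Category.assoc, ← hy, Category.assoc p₁ x, 
        show x ≫ ψ = 0 from hx, comp_zero, zero_comp]
    obtain ⟨A₂, p₂, hp₂, z, hz⟩ := hde.exact_up_to_refinements y h1
    refine ⟨A₂, p₂ ≫ p₁, epi_comp _ _, z ≫ b ≫ π₁, ?_⟩
    show (p₂ ≫ p₁) ≫ x = (z ≫ b ≫ π₁) ≫ φ
    rw [Category.assoc, Category.assoc, Category.assoc, hφ, hy, reassoc_of% hz]

end Groth.Agent.S14498
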