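import Groth.Statements.S14503
import Groth.Agent.LatticeDist.Basic
-- import your own Groth.Agent.* helpers here

set_option autoImplicit false
universe u
open IntTh

namespace Groth.Agent.S14503

/-- Let A ⊆ B be a module-finite extension of domains with A Noetherian local of Krull dimension one, K
⊆ L their fraction fields, and r ∈ B nonzero. Then B/rB has finite length as an A-module and
length_A(B/rB) equals the order at the closed point of A of the norm N_{L/K}(r), i.e.
length_A(A/(a)) − length_A(A/(b)) for N_{L/K}(r) = a/b. -/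
theorem result (A : Type u) [CommRing A] [IsDomain A]
    [IsNoetherianRing A] [IsLocalRing A] (hA : ringKrullDim A = 1) (B : Type u) [CommRing B]
    [IsDomain B] [Algebra A B] (hinj : Function.Injective (algebraMap A B)) [Module.Finite A B]
    (K L : Type u) [Field K] [Field L] [Algebra A K] [IsFractionRing A K] [Algebra B L]
    [IsFractionRing B L] [Algebra K L] [Algebra A L] [IsScalarTower A B L] [IsScalarTower A K L]
    [FiniteDimensional K L] (r : B) (hr : r ≠ 0) :
    Module.length A (B ⧸ Ideal.span {r}) < ⊤ ∧
      ((Module.length A (B ⧸ Ideal.span {r})).toNat : ℤ) =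
        CycAlg.ordFrac A K (Algebra.norm K (algebraMap B L r)) := by
  haveI : Ring.KrullDimLE 1 A := Ring.krullDimLE_iff.mpr hA.le
  have hfield : ¬ IsField A := fun h => by
    have h0 := ringKrullDim_eq_zero_of_isField h
    rw [hA] at h0
    exact one_ne_zero h0
  let ι : B →ₗ[A] L := (IsScalarTower.toAlgHom A B L).toLinearMap
  have hι : Function.Injective ι := IsFractionRing.injective B L
  have hspan : Submodule.span K (LinearMap.range ι : Set L) = ⊤ := by
    rw [eq_top_iff]
    intro z _
    obtain ⟨x, ⟨y, hy⟩, hz⟩ := IsLocalization.exists_mk'_eq (nonZeroDivisors B) z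
    have hy0 : y ≠ 0 := nonZeroDivisors.ne_zero hy
    obtain ⟨a, ha', ha⟩ := Submodule.exists_mem_ne_zero_of_ne_bot (Ideal.comap_ne_bot_of_integral_mem hy0
      (Ideal.mem_span_singleton_self y) (Algebra.IsIntegral.isIntegral (R := A) y))
    obtain ⟨c, hc⟩ := Ideal.mem_span_singleton'.mp ha'
    have ha0 : algebraMap A L a ≠ 0 := by
      rw [IsScalarTower.algebraMap_apply A B L, map_ne_zero_iff _ (IsFractionRing.injective B L),
        map_ne_zero_iff _ hinj]
      exact ha
    have hz' : z = (algebraMap A K a)⁻¹ • ι (x * c) := by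
      rw [Algebra.smul_def, map_inv₀, ← IsScalarTower.algebraMap_apply, eq_inv_mul_iff_mul_eq₀ ha0,
        IsScalarTower.algebraMap_apply A B L, ← hc]
      show algebraMap B L (c * y) * z = algebraMap B L (x * c)
      have h1 : algebraMap B L y * z = algebraMap B L x := by
        rw [← hz]
        exact IsLocalization.mk'_spec' L x ⟨y, hy⟩
      rw [map_mul, map_mul, mul_assoc, h1, mul_comm]
    rw [hz']
    exact Submodule.smul_mem _ _ (Submodule.subset_span ⟨_, rfl⟩)
  haveI : Submodule.IsLattice K (LinearMap.range ι) :=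
    ⟨(Module.Finite.iff_fg).mp inferInstance, hspan⟩
  let f : L ≃ₗ[K] L := LinearEquiv.ofBijective (LinearMap.mulLeft K (algebraMap B L r))
    ((mulLeft_bijective₀ (algebraMap B L r) ((map_ne_zero_iff _ (IsFractionRing.injective B L)).mpr hr)))
  have hdet : LinearMap.det f.toLinearMap = Algebra.norm K (algebraMap B L r) := rfl
  have hmem : ∀ z ∈ (LinearMap.range ι).map (f.toLinearMap.restrictScalars A), z ∈ LinearMap.range ι := by
    rintro _ ⟨_, ⟨b, rfl⟩, rfl⟩
    exact ⟨r * b, map_mul (algebraMap B L) r b⟩
  haveI := Groth.Agent.LatticeDist.isLattice_map f.toLinearMap f.surjective (LinearMap.range ι)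
  let e0 : B →ₗ[A] ↥(LinearMap.range ι) ⧸ ((LinearMap.range ι).map (f.toLinearMap.restrictScalars A)).submoduleOf (LinearMap.range ι) :=
    (Submodule.mkQ _).comp ι.rangeRestrict
  have he0 : LinearMap.ker e0 = (Ideal.span {r}).restrictScalars A := by
    ext b
    rw [LinearMap.mem_ker, LinearMap.comp_apply, Submodule.mkQ_apply, Submodule.Quotient.mk_eq_zero]
    constructor
    · rintro ⟨_, ⟨c, rfl⟩, hc⟩
      exact Ideal.mem_span_singleton'.mpr ⟨c, hι (by
        show algebraMap B L (c * r) = algebraMap B L b
        rw [map_mul, mul_comm]; exact hc)⟩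
    · intro hb
      obtain ⟨c, hc⟩ := Ideal.mem_span_singleton'.mp hb
      refine ⟨ι c, ⟨c, rfl⟩, ?_⟩
      show algebraMap B L r * algebraMap B L c = algebraMap B L b
      rw [← map_mul, mul_comm, hc]
  have hlen : Module.length A (B ⧸ Ideal.span {r}) = Module.length A
      (↥(LinearMap.range ι) ⧸ ((LinearMap.range ι).map (f.toLinearMap.restrictScalars A)).submoduleOf (LinearMap.range ι)) :=
    LinearEquiv.length_eq ((((Submodule.Quotient.restrictScalarsEquiv A (Ideal.span {r})).symm).trans
      (Submodule.quotEquivOfEq _ _ he0.symm)).trans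
      (e0.quotKerEquivOfSurjective ((Submodule.mkQ_surjective _).comp ι.surjective_rangeRestrict)))
  refine ⟨hlen ▸ (Groth.Agent.LatticeDist.length_ne_top (K := K) _ _).lt_top, ?_⟩
  rw [hlen, ← hdet, ← Groth.Agent.LatticeDist.chi_eq_ord_det hfield (LinearMap.range ι) f]
  unfold Groth.Agent.LatticeDist.chi
  rw [Groth.Agent.LatticeDist.dist_eq (K := K) ((LinearMap.range ι).map (f.toLinearMap.restrictScalars A))
    (LinearMap.range ι) _ hmem le_rfl]
  haveI : Subsingleton (↥((LinearMap.range ι).map (f.toLinearMap.restrictScalars A)) ⧸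
      ((LinearMap.range ι).map (f.toLinearMap.restrictScalars A)).submoduleOf
        ((LinearMap.range ι).map (f.toLinearMap.restrictScalars A))) :=
    Submodule.Quotient.subsingleton_iff.mpr (Submodule.comap_subtype_self _)
  simp [Groth.Agent.LatticeDist.cl, Module.length_eq_zero]

end Groth.Agent.S14503
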