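import Mathlib
import Groth.Statements.S14509
-- import your own Groth.Agent.* helpers here

set_option autoImplicit false
open IntTh

namespace Groth.Agent.S14509

/-- Let f(t) ∈ ℚ⟦t⟧ be the Todd series, characterised by f(t)·(e^t − 1) = t·e^t, i.e. f(t) = t/(1 −
e^(−t)). Then for every m ∈ ℤ and n ∈ ℕ the coefficient of t^n in e^(mt)·f(t)^(n+1) is the binomial
coefficient C(m+n, n), understood as the polynomial (m+n)(m+n−1)⋯(m+1)/n! in m (so for all integers
m). (The published statement is the Hirzebruch–Riemann–Roch formula χ(E) = ∫ ch(E)·td for vector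
bundles on projective n-space; this row is the identity of formal power series to which its proof
reduces it for E = O(m): the degree-n part of ch(O(m))·td(P^n) = e^(mζ)(ζ/(1 − e^(−ζ)))^(n+1)
against χ(P^n, O(m)) = C(m+n, n).) -/
theorem result (f : PowerSeries ℚ)
    (hf : f * (PowerSeries.exp ℚ - 1) = PowerSeries.X * PowerSeries.exp ℚ) (m : ℤ) (n : ℕ) :
    PowerSeries.coeff n (PowerSeries.rescale (m : ℚ) (PowerSeries.exp ℚ) * f ^ (n + 1)) =
      ((Ring.choose (m + n : ℤ) n : ℤ) : ℚ) := by
  open PowerSeries in
  set E := exp ℚ with hE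
  have hE1 : E - 1 ≠ 0 := by
    intro h
    have := congrArg (coeff (R := ℚ) 1) h
    simp [hE, coeff_exp] at this
  have hd : X * d⁄dX ℚ f = f + X * f - f * f := by
    have h := congrArg (d⁄dX ℚ) hf
    simp only [Derivation.leibniz, map_sub, hE, derivative_exp, derivative_X, Derivation.map_one_eq_zero,
      smul_eq_mul, sub_zero, mul_one] at h
    rw [← hE] at h
    apply mul_right_cancel₀ hE1
    linear_combination (X : ℚ⟦X⟧) * h + (f - 1 - X) * hf
  set G := rescale (m : ℚ) E with hGdef
  have hG : d⁄dX ℚ G = PowerSeries.C (m : ℚ) * G := by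
    ext k
    rw [coeff_derivative, coeff_C_mul, hGdef, coeff_rescale, coeff_rescale, hE, coeff_exp, coeff_exp]
    simp only [Algebra.algebraMap_self, RingHom.id_apply, Nat.factorial_succ, Nat.cast_mul, pow_succ]
    field_simp
    push_cast; ring
  have hrec : ∀ k : ℕ, ((k : ℚ) + 1) * coeff (k+1) (G * f ^ (k + 2)) = ((m : ℚ) + k + 1) * coeff k (G * f ^ (k+1)) := by
    intro k
    have h : X * d⁄dX ℚ (G * f ^ (k+1)) = PowerSeries.C (m : ℚ) * (X * (G * f^(k+1))) +
        PowerSeries.C ((k : ℚ) + 1) * (G * f^(k+1) + X * (G * f ^(k+1)) - G * f^(k+2)) := by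
      rw [Derivation.leibniz, Derivation.leibniz_pow, hG]
      simp only [smul_eq_mul, nsmul_eq_mul, map_add, map_one, map_natCast, Nat.add_sub_cancel, Nat.cast_add, Nat.cast_one]
      linear_combination ((k : ℚ⟦X⟧) + 1) * G * f^k * hd
    have h' := congrArg (coeff (R := ℚ) (k+1)) h
    simp only [LinearMap.map_add, LinearMap.map_sub, coeff_C_mul, coeff_succ_X_mul, coeff_derivative] at h'
    linarith
  have hch : ∀ (r : ℤ) (k : ℕ), ((k : ℤ) + 1) * Ring.choose (r + 1) (k+1) = (r + 1) * Ring.choose r k := by
    intro r k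
    have a := Ring.descPochhammer_eq_factorial_smul_choose r k
    have b := Ring.descPochhammer_eq_factorial_smul_choose (r + 1) (k+1)
    rw [← Polynomial.eval_eq_smeval] at a b
    rw [descPochhammer_succ_left, Polynomial.eval_mul, Polynomial.eval_X, Polynomial.eval_comp,
      Polynomial.eval_sub, Polynomial.eval_X, Polynomial.eval_one, add_sub_cancel_right, a,
      Nat.factorial_succ] at b
    simp only [nsmul_eq_mul] at b
    push_cast at b
    have hk : ((k.factorial : ℕ) : ℤ) ≠ 0 := by exact_mod_cast k.factorial_ne_zero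
    apply mul_left_cancel₀ hk
    linear_combination -b
  induction n with
  | zero =>
    have h1 : constantCoeff f = 1 := by
      have := congrArg (constantCoeff (R := ℚ)) hd
      simp at this
      have h0 : coeff 1 (f * (E - 1)) = coeff 1 (X * E) := by rw [hf]
      simpa [coeff_mul, hE, coeff_exp, Finset.Nat.antidiagonal_succ, coeff_succ_X_mul] using h0
    simp [hGdef, hE, h1]
    rw [← coeff_zero_eq_constantCoeff_apply, coeff_rescale]; simp
  | succ k ih =>
    have hk : ((k : ℚ) + 1) ≠ 0 := by positivity
    apply mul_left_cancel₀ hk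
    rw [hrec k, ih]
    have := congrArg (fun z : ℤ => (z : ℚ)) (hch (m + k) k)
    push_cast at this ⊢
    rw [show m + ((k : ℤ) + 1) = m + k + 1 by ring]
    linarith

end Groth.Agent.S14509
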