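import Mathlib
import Groth.Agent.S14509
import Groth.Statements.S14506
-- import your own Groth.Agent.* helpers here

set_option autoImplicit false
open IntTh

namespace Groth.Agent.S14506

/-- A formal power series f(t) ∈ ℚ⟦t⟧ satisfies, for every n ≥ 0, that the coefficient of t^n in
f(t)^(n+1) is 1, if and only if f(t)·(e^t − 1) = t·e^t, that is f(t) = t/(1 − e^(−t)) = 1 + t/2 +
t²/12 − ⋯. (The published statement is the existence and uniqueness of the Todd class of vector
bundles normalised by multiplicativity, td(O) = 1 and the Riemann–Roch identity for the structure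
sheaf of every projective space; this row is the power-series fact its proof establishes: the
normalisation forces exactly these coefficient conditions on the one-variable series.) -/
theorem result (f : PowerSeries ℚ) :
    (∀ n : ℕ, PowerSeries.coeff n (f ^ (n + 1)) = 1) ↔
      f * (PowerSeries.exp ℚ - 1) = PowerSeries.X * PowerSeries.exp ℚ := by
  open PowerSeries in
  have hex : ∀ g : ℚ⟦X⟧, g * (exp ℚ - 1) = X * exp ℚ → ∀ n : ℕ, coeff n (g ^ (n+1)) = 1 := by
    intro g hg n
    have := S14509.result g hg 0 n
    simpa [rescale_zero, Ring.choose_natCast] using this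
  refine ⟨fun h => ?_, fun h => hex f h⟩
  let E : ℚ⟦X⟧ := mk fun n => coeff (n+1) (exp ℚ - 1)
  have hE : exp ℚ - 1 = X * E := by
    have := eq_X_mul_shift_add_const (exp ℚ - 1)
    simpa [E] using this
  have hE0 : constantCoeff E ≠ 0 := by simp [E, coeff_exp]
  let g := exp ℚ * E⁻¹
  have hg : g * (exp ℚ - 1) = X * exp ℚ := by
    rw [hE]
    linear_combination (X * exp ℚ) * PowerSeries.inv_mul_cancel E hE0
  suffices f = g by rw [this]; exact hg
  have h0 : constantCoeff f = 1 := by simpa using h 0
  have g0 : constantCoeff g = 1 := by simpa using hex g hg 0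
  ext n
  induction n using Nat.strong_induction_on with
  | h n ih =>
    obtain ⟨q, hq⟩ := (X_pow_dvd_iff (φ := f - g) (n := n)).mpr (fun i hi => by simp [ih i hi])
    have hdiff : f ^ (n+1) - g ^ (n+1) = X ^ n * (q * ∑ i ∈ Finset.range (n+1), f ^ i * g ^ (n - i)) := by
      have e := geom_sum₂_mul f g (n+1)
      simp only [Nat.add_sub_cancel] at e
      rw [← e, hq]; ring
    have h' := congrArg (coeff (R := ℚ) n) hdiff
    rw [map_sub, h n, hex g hg n, sub_self, coeff_X_pow_mul', if_pos le_rfl, Nat.sub_self,
      coeff_zero_eq_constantCoeff_apply] at h'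
    simp [map_sum, h0, g0] at h'
    have hq0 : constantCoeff q = 0 := h'.resolve_right (by positivity)
    have := congrArg (coeff (R := ℚ) n) hq
    rw [map_sub, coeff_X_pow_mul', if_pos le_rfl, Nat.sub_self, coeff_zero_eq_constantCoeff_apply, hq0] at this
    linarith

end Groth.Agent.S14506
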