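import Groth.Statements.S14510
import Groth.Agent.SegreDim.Hopf

set_option autoImplicit false
universe u v
open CAlgX

namespace Groth.Agent.S14510

/-- Let k be an algebraically closed field, U, V, W finite-dimensional k-vector spaces with U and V
nonzero, and φ : U ⊗ V → W a linear map which is 1-generic, i.e. φ(u ⊗ v) ≠ 0 for all nonzero u and
v (φ is given here as a bilinear map). Then dim W ≥ dim U + dim V − 1. (Algebraic closedness
matters: complex multiplication ℂ ⊗ ℂ → ℂ over the reals is 1-generic with 2 + 2 − 1 > 2.) -/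
theorem result (k : Type u) [Field k] [IsAlgClosed k]
    (U V W : Type v) [AddCommGroup U] [Module k U] [AddCommGroup V] [Module k V] [AddCommGroup W] [Module k W]
    [Module.Finite k U] [Module.Finite k V] [Module.Finite k W] [Nontrivial U] [Nontrivial V]
    (φ : U →ₗ[k] V →ₗ[k] W) (hφ : ∀ (a : U) (b : V), a ≠ 0 → b ≠ 0 → φ a b ≠ 0) :
    Module.finrank k U + Module.finrank k V ≤ Module.finrank k W + 1 := by
  obtain ⟨r, hr⟩ : ∃ r, Module.finrank k U = r + 1 := ⟨_, (Nat.succ_pred_eq_of_pos Module.finrank_pos).symm⟩
  obtain ⟨s, hs⟩ : ∃ s, Module.finrank k V = s + 1 := ⟨_, (Nat.succ_pred_eq_of_pos Module.finrank_pos).symm⟩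
  let bU := Module.finBasisOfFinrankEq k U hr
  let bV := Module.finBasisOfFinrankEq k V hs
  let bW := Module.finBasis k W
  have h := Groth.Agent.SegreDim.le_of_forall_ne_zero (r := r) (s := s) (w := Module.finrank k W)
    (fun l i j => bW.repr (φ (bU i) (bV j)) l) fun a b h => by
      by_contra hcon
      push Not at hcon
      refine hφ (bU.equivFun.symm a) (bV.equivFun.symm b) ((LinearEquiv.map_ne_zero_iff _).2 hcon.1) ((LinearEquiv.map_ne_zero_iff _).2 hcon.2) ?_
      refine bW.ext_elem fun l => ?_
      simp only [Module.Basis.equivFun_symm_apply, map_sum, map_smul, LinearMap.sum_apply, LinearMap.smul_apply,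
        map_zero, Finsupp.coe_zero, Pi.zero_apply, Finset.sum_apply', Finsupp.smul_apply, smul_eq_mul,
        Finset.mul_sum]
      refine Eq.trans ?_ (h l)
      first
        | exact Finset.sum_congr rfl fun i _ => Finset.sum_congr rfl fun j _ => by ring
        | (rw [Finset.sum_comm]; exact Finset.sum_congr rfl fun i _ => Finset.sum_congr rfl fun j _ => by ring)
  omega

end Groth.Agent.S14510
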