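import Mathlib
import Groth.Statements.S14511
-- import your own Groth.Agent.* helpers here

set_option autoImplicit false
universe u
open CAlgX

namespace Groth.Agent.S14511

/-- Let R be a commutative ring and P ∈ R[x_1, …, x_r] a polynomial of total degree at most r. Then the
coefficient of the monomial x_1 ⋯ x_r in P equals Σ_J (−1)^{|J|} P(δ_J), the sum over all subsets J
⊆ {1, …, r} (the empty one included), where δ_J is the point with coordinate −1 at the indices in J
and 0 at the others. -/
theorem result (R : Type u) [CommRing R] (r : ℕ)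
    (P : MvPolynomial (Fin r) R) (hP : P.totalDegree ≤ r) :
    MvPolynomial.coeff (∑ i : Fin r, Finsupp.single i 1) P =
      ∑ J : Finset (Fin r), (-1 : R) ^ J.card * MvPolynomial.eval (fun j => if j ∈ J then (-1 : R) else 0) P := by
  classical
  set one : Fin r →₀ ℕ := ∑ i : Fin r, Finsupp.single i 1
  have hone : ∀ i, one i = 1 := fun i => by simp [one, Finsupp.finsetSum_apply, Finsupp.single_apply]
  conv_rhs => rw [P.as_sum]
  simp only [map_sum, Finset.mul_sum]
  rw [Finset.sum_comm]
  have key : ∀ d ∈ P.support, (∑ J : Finset (Fin r), (-1 : R) ^ J.card *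
      MvPolynomial.eval (fun j => if j ∈ J then (-1 : R) else 0) (MvPolynomial.monomial d (MvPolynomial.coeff d P))) =
      if d = one then MvPolynomial.coeff d P else 0 := by
    intro d hd
    simp only [MvPolynomial.eval_monomial]
    split_ifs with hdo
    · subst hdo
      rw [Finset.sum_eq_single Finset.univ]
      · rw [Finsupp.prod_fintype _ _ (fun i => pow_zero _)]
        simp only [hone, pow_one, Finset.mem_univ, if_true, Finset.prod_const, Finset.card_univ, Fintype.card_fin]
        rw [mul_left_comm, ← mul_pow]
        simp
      · intro J _ hJ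
        obtain ⟨i, hi⟩ : ∃ i, i ∉ J := by by_contra h; push Not at h; exact hJ (Finset.eq_univ_iff_forall.2 h)
        rw [Finsupp.prod_fintype _ _ (fun i => pow_zero _), Finset.prod_eq_zero (Finset.mem_univ i) (by simp [hi, hone]),
          mul_zero, mul_zero]
      · simp
    · obtain ⟨i, hi⟩ : ∃ i, d i = 0 := by
        by_contra h
        push Not at h
        apply hdo
        have hle : ∑ i, d i ≤ r := by
          refine le_trans ?_ hP
          exact le_trans (le_of_eq (Finsupp.sum_fintype d (fun _ => id) (fun _ => rfl)).symm) (MvPolynomial.le_totalDegree hd)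
        ext i
        rw [hone]
        by_contra hne
        have h1 : ∑ _j : Fin r, 1 < ∑ j, d j := Finset.sum_lt_sum (fun j _ => Nat.one_le_iff_ne_zero.2 (h j))
          ⟨i, Finset.mem_univ i, lt_of_le_of_ne (Nat.one_le_iff_ne_zero.2 (h i)) (Ne.symm hne)⟩
        simp at h1
        omega
      refine Finset.sum_involution (fun J _ => if i ∈ J then J.erase i else insert i J) (fun J _ => ?_) (fun J _ _ => ?_) (fun J _ => Finset.mem_univ _) (fun J _ => ?_)
      · have hprod : ∀ J' : Finset (Fin r), (∀ j, j ≠ i → (j ∈ J' ↔ j ∈ J)) →
            (d.prod fun j e => (if j ∈ J' then (-1 : R) else 0) ^ e) = d.prod fun j e => (if j ∈ J then (-1 : R) else 0) ^ e := by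
          intro J' hJ'
          refine Finsupp.prod_congr fun j hj => ?_
          rw [Finsupp.mem_support_iff] at hj
          simp only [hJ' j (fun e => hj (e ▸ hi))]
        by_cases hiJ : i ∈ J
        · simp only [if_pos hiJ]
          rw [hprod (J.erase i) (fun j hj => by simp [hj]), ← Finset.card_erase_add_one hiJ, pow_succ]
          ring
        · simp only [if_neg hiJ]
          rw [hprod (insert i J) (fun j hj => by simp [hj]), Finset.card_insert_of_notMem hiJ, pow_succ]
          ring
      · by_cases hiJ : i ∈ J
        · simp only [if_pos hiJ]; intro e; exact Finset.notMem_erase i J (e.symm ▸ hiJ)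
        · simp only [if_neg hiJ]; intro e; exact hiJ (e ▸ Finset.mem_insert_self i J)
      · by_cases hiJ : i ∈ J <;> simp [hiJ, Finset.insert_erase]
  rw [Finset.sum_congr rfl key, Finset.sum_ite_eq']
  split_ifs with h
  · rfl
  · exact MvPolynomial.notMem_support_iff.1 h

end Groth.Agent.S14511
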