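import Groth.Statements.S14514
import Groth.Agent.EquidimFlat.IrreducibleFibres
-- import your own Groth.Agent.* helpers here

set_option autoImplicit false
universe u
open CategoryTheory CategoryTheory.Limits AlgebraicGeometry
open Variety

namespace Groth.Agent.S14514

theorem exists_map_eq_genericPoint {k : Type u} [Field k] {X Y : Scheme.{u}} [IrreducibleSpace Y] (f : X ⟶ Y)
    [IsDominant f] [LocallyOfFiniteType f] (qY : Y ⟶ Spec (CommRingCat.of k)) [LocallyOfFiniteType qY]
    [QuasiCompact (f ≫ qY)] : ∃ a, f a = genericPoint Y := by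
  haveI : IsLocallyNoetherian X := LocallyOfFiniteType.isLocallyNoetherian (f ≫ qY)
  haveI : CompactSpace ↥X := QuasiCompact.compactSpace_of_compactSpace (f ≫ qY)
  haveI : IsNoetherian X := {}
  let S : Finset (Set X) := (TopologicalSpace.NoetherianSpace.finite_irreducibleComponents (α := ↥X)).toFinset
  have hu : (Set.univ : Set Y) ⊆ ⋃ Z ∈ S, closure (f '' Z) := by
    rw [← f.denseRange.closure_range]
    refine closure_minimal ?_ (isClosed_biUnion_finset fun _ _ => isClosed_closure)
    rintro _ ⟨x, rfl⟩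
    exact Set.mem_biUnion (x := irreducibleComponent x)
      ((Set.Finite.mem_toFinset _).mpr (irreducibleComponent_mem_irreducibleComponents x))
      (subset_closure ⟨x, mem_irreducibleComponent, rfl⟩)
  obtain ⟨Z, hZ, hgen⟩ := Set.mem_iUnion₂.mp (hu (Set.mem_univ (genericPoint Y)))
  obtain ⟨ξ, hξ, -⟩ := Groth.Agent.FibDim.exists_isMax'_component (Z := X) ((Set.Finite.mem_toFinset _).mp hZ)
  rw [← hξ, closure_image_closure f.continuous, Set.image_singleton] at hgen
  exact ⟨ξ, ((specializes_iff_mem_closure.mpr hgen).antisymm (genericPoint_specializes _)).eq⟩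

/-- Let k be an algebraically closed field and f : X → Y a morphism of algebraic varieties over k (X, Y
reduced, separated and of finite type over k) such that Y is irreducible and the image f(X) is dense
in Y. Then X contains an irreducible closed subset Z with dim Z = dim Y such that f(Z) is dense in
Y. -/
theorem result (k : Type u) [Field k] [IsAlgClosed k]
    (X Y : Scheme.{u}) [X.Over (Spec (CommRingCat.of k))] [Y.Over (Spec (CommRingCat.of k))]
    [IsReduced X] [IsSeparated (X ↘ (Spec (CommRingCat.of k)))] [LocallyOfFiniteType (X ↘ (Spec (CommRingCat.of k)))] [QuasiCompact (X ↘ (Spec (CommRingCat.of k)))]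
    [IsReduced Y] [IsSeparated (Y ↘ (Spec (CommRingCat.of k)))] [LocallyOfFiniteType (Y ↘ (Spec (CommRingCat.of k)))] [QuasiCompact (Y ↘ (Spec (CommRingCat.of k)))] [IrreducibleSpace Y]
    (f : X ⟶ Y) (hf : f ≫ (Y ↘ (Spec (CommRingCat.of k))) = (X ↘ (Spec (CommRingCat.of k)))) [IsDominant f] :
    ∃ Z : Set X, IsClosed Z ∧ IsIrreducible Z ∧ topologicalKrullDim ↥Z = topologicalKrullDim Y ∧
      Dense (f '' Z) := by
  let qY := Y ↘ (Spec (CommRingCat.of k))
  haveI : LocallyOfFiniteType (f ≫ qY) := by rw [hf]; infer_instance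
  haveI : LocallyOfFiniteType f := locallyOfFiniteType_of_comp f qY
  let η := genericPoint Y
  have hη : η ∈ Set.range f.base := by
    haveI : QuasiCompact (f ≫ qY) := by rw [hf]; infer_instance
    obtain ⟨a, ha⟩ := exists_map_eq_genericPoint f qY
    exact ⟨a, ha⟩
  obtain ⟨x₀, hx₀⟩ := hη
  obtain ⟨x, hx, h0⟩ := Groth.Agent.DimFormulaIrr.exists_trdeg_eq_zero f x₀
  obtain ⟨n, hn, hn'⟩ := Groth.Agent.DimFormulaIrr.exists_trdeg_fibre f (f x) (f.asFiber x) x (f.fiberι_asFiber x)
  rw [h0] at hn
  rw [← Groth.Agent.EquidimFlat.fdim_eq_fibre_closure, Nat.cast_eq_zero.mp hn.symm, Nat.cast_zero] at hn'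
  have hfx : f x = η := hx.trans hx₀
  obtain ⟨a, b, c, ha, hb, hc, hcab⟩ := Groth.Agent.EquidimFlat.fdim_comp f qY x
  rw [Groth.Agent.EquidimFlat.fdim_eq_closure, hfx, genericPoint_closure,
    Groth.Agent.FibreDim.dim_homeo (Homeomorph.Set.univ _)] at ha
  rw [Groth.Agent.EquidimFlat.fdim_eq_closure] at hc
  rw [hn'] at hb
  have hb0 : b = 0 := by exact_mod_cast hb.symm
  refine ⟨closure {x}, isClosed_closure, isIrreducible_singleton.closure, ?_, ?_⟩
  · rw [hc, ha, hcab, hb0, add_zero]
  · rw [dense_iff_closure_eq, closure_image_closure f.continuous, Set.image_singleton, hfx]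
    exact genericPoint_closure _

end Groth.Agent.S14514
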