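import Groth.Statements.S1452
import Groth.Agent.UnibFib.EtaleScheme
import Groth.Agent.SourceDescent.Basic

set_option autoImplicit false
universe u
open FlatMor

namespace Groth.Agent.S1452

open AlgebraicGeometry CategoryTheory Limits in
/-- Let f : X → Y and g : Y → Z with Y integral and the local ring of Y at y = f x geometrically
unibranch; assume g ∘ f is étale on an open neighbourhood of x and some generization of x maps to
the generic point of Y. Then f is étale on an open neighbourhood of x and g is étale on an open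
neighbourhood of y. -/
theorem result {X Y Z : Scheme.{u}} (f : X ⟶ Y) (g : Y ⟶ Z) [IsIntegral Y] (x : X)
    (hY : CAlg2.IsGeomUnibranch (Y.presheaf.stalk (f x))) (het : ∃ U : X.Opens, x ∈ U ∧ Etale (U.ι ≫ f ≫ g))
    (hsp : ∃ x' : X, x' ⤳ x ∧ f x' = genericPoint ↑Y) :
    (∃ U : X.Opens, x ∈ U ∧ Etale (U.ι ≫ f)) ∧ ∃ V : Y.Opens, f x ∈ V ∧ Etale (V.ι ≫ g) := by
  obtain ⟨U, hxU, hU⟩ := het
  let f' := U.ι ≫ f
  haveI : Etale (f' ≫ g) := by simpa [f', Category.assoc] using hU
  haveI : LocallyOfFiniteType f' := locallyOfFiniteType_of_comp f' g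
  haveI : FormallyUnramified f' := FormallyUnramified.of_comp f' g
  let u : (U : Scheme.{u}) := ⟨x, hxU⟩
  obtain ⟨x', hx'x, hx'η⟩ := hsp
  have hx'U : x' ∈ U := hx'x.mem_open U.2 hxU
  have hsp' : ∃ u' : (U : Scheme.{u}), u' ⤳ u ∧ f'.base u' = genericPoint Y :=
    ⟨⟨x', hx'U⟩, (U.ι.isOpenEmbedding.toIsInducing.specializes_iff).1 hx'x, hx'η⟩
  obtain ⟨U', huU', hU'⟩ := Groth.Agent.UnibFib.exists_etale_nhd f' u hY hsp'
    ⟨⊤, trivial, MorphismProperty.comp_mem _ _ f' inferInstance inferInstance⟩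
  let h := U'.ι ≫ f'
  haveI : Etale h := hU'
  refine ⟨⟨U.ι ''ᵁ U', ⟨u, huU', rfl⟩, ?_⟩, ?_⟩
  · have : (U.ι ''ᵁ U').ι ≫ f = (Scheme.Hom.isoImage U.ι U').inv ≫ h := by
      rw [← cancel_epi (Scheme.Hom.isoImage U.ι U').hom, Iso.hom_inv_id_assoc]
      simp [h, f']
    rw [this]
    infer_instance
  · let V : Y.Opens := ⟨Set.range h.base, (Groth.Agent.SourceDescent.isOpenMap_of_etale h inferInstance).isOpen_range⟩
    refine ⟨V, ⟨⟨u, huU'⟩, rfl⟩, ?_⟩
    let h' := IsOpenImmersion.lift V.ι h (by rw [Scheme.Opens.range_ι]; exact le_rfl)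
    have hh' : h' ≫ V.ι = h := IsOpenImmersion.lift_fac _ _ _
    haveI : Etale (h' ≫ V.ι) := hh' ▸ inferInstance
    haveI : Etale h' := MorphismProperty.of_postcomp @Etale (W' := @LocallyOfFiniteType ⊓ @FormallyUnramified) h' V.ι
      ⟨inferInstance, inferInstance⟩ inferInstance
    haveI : Surjective h' := ⟨fun v => by
      obtain ⟨w, hw⟩ := (show v.1 ∈ Set.range h.base from v.2)
      refine ⟨w, Subtype.ext ?_⟩
      show (h' ≫ V.ι).base w = v.1
      rw [hh']; exact hw⟩
    haveI : Etale (h' ≫ V.ι ≫ g) := by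
      rw [← Category.assoc, hh']
      show Etale ((U'.ι ≫ f') ≫ g)
      rw [Category.assoc]
      infer_instance
    exact Groth.Agent.SourceDescent.etale_of_comp h' (V.ι ≫ g)

end Groth.Agent.S1452
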