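import Groth.Statements.S14523
import Groth.Agent.BirQF.CodimOne
-- import your own Groth.Agent.* helpers here

set_option autoImplicit false
universe u
open CategoryTheory CategoryTheory.Limits AlgebraicGeometry
open Variety

namespace Groth.Agent.S14523

/-- Let k be an algebraically closed field and f : X → Y a proper, birational morphism over k of
irreducible varieties (X, Y integral, separated and of finite type over k; f restricts to an
isomorphism over some nonempty open subset of Y), with Y normal (all local rings integrally closed).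
Let U ⊆ Y be the largest open subset over which f is an isomorphism (the domain of f^{-1}). Then
codim_Y(Y ∖ U) ≥ 2: for every point y of Y whose local ring has Krull dimension at most one, f
restricts to an isomorphism over some open neighbourhood of y. -/
theorem result (k : Type u) [Field k] [IsAlgClosed k]
    (X Y : Scheme.{u}) [X.Over (Spec (CommRingCat.of k))] [Y.Over (Spec (CommRingCat.of k))]
    [IsIntegral X] [IsSeparated (X ↘ (Spec (CommRingCat.of k)))] [LocallyOfFiniteType (X ↘ (Spec (CommRingCat.of k)))] [QuasiCompact (X ↘ (Spec (CommRingCat.of k)))]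
    [IsIntegral Y] [IsSeparated (Y ↘ (Spec (CommRingCat.of k)))] [LocallyOfFiniteType (Y ↘ (Spec (CommRingCat.of k)))] [QuasiCompact (Y ↘ (Spec (CommRingCat.of k)))] (hY : ∀ y : Y, IsIntegrallyClosed (Y.presheaf.stalk y))
    (f : X ⟶ Y) (hf : f ≫ (Y ↘ (Spec (CommRingCat.of k))) = (X ↘ (Spec (CommRingCat.of k)))) [IsProper f]
    (hbir : ∃ V : Y.Opens, (V : Set Y).Nonempty ∧ IsIso (f ∣_ V))
    (y : Y) (hy : ringKrullDim (Y.presheaf.stalk y) ≤ 1) :
    ∃ V : Y.Opens, y ∈ V ∧ IsIso (f ∣_ V) := by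
  obtain ⟨W, hW, hiW⟩ := hbir
  haveI := hiW
  have hηW : genericPoint ↥Y ∈ W := by
    obtain ⟨w, hw⟩ := hW
    exact (genericPoint_specializes w).mem_open W.2 hw
  obtain ⟨p, hp, hpη⟩ : ∃ p, p ∈ f ⁻¹ᵁ W ∧ f p = genericPoint ↥Y := by
    refine ⟨(f ⁻¹ᵁ W).ι ((inv (f ∣_ W)) ⟨_, hηW⟩), Subtype.prop _, ?_⟩
    show ((inv (f ∣_ W)) ≫ (f ⁻¹ᵁ W).ι ≫ f) ⟨_, hηW⟩ = _
    rw [← morphismRestrict_ι, IsIso.inv_hom_id_assoc]
    rfl
  have hξ : f (genericPoint ↥X) = genericPoint ↥Y :=
    (((genericPoint_specializes p).map f.continuous).trans (Inseparable.of_eq hpη).specializes |>.antisymm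
      (genericPoint_specializes _)).eq
  haveI : IsOpenImmersion ((f ⁻¹ᵁ W).ι ≫ f) := by rw [← morphismRestrict_ι]; infer_instance
  have hst := SpreadFP.isIso_stalkMap_of_comp f (f ⁻¹ᵁ W).ι ⟨genericPoint ↥X, (genericPoint_specializes p).mem_open (f ⁻¹ᵁ W).2 hp⟩
  haveI : IsLocallyNoetherian Y := LocallyOfFiniteType.isLocallyNoetherian (Y ↘ (Spec (CommRingCat.of k)))
  exact BirQF.exists_nhd_isIso_of_ringKrullDim_le_one f hξ (@ConcreteCategory.bijective_of_isIso _ _ _ _ _ _ _ _ (f.stalkMap (genericPoint ↥X)) hst) y (hY y) hy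

end Groth.Agent.S14523
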