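import Groth.Statements.S14525
-- import your own Groth.Agent.* helpers here
import Groth.Agent.SurfRR.Growth
import Groth.Agent.SurfRR.Setup
import Groth.Agent.CohDual.SmoothEquidim

set_option autoImplicit false
universe u
open CategoryTheory CategoryTheory.Limits AlgebraicGeometry
open Surf

namespace Groth.Agent.S14525

/-- Let k be an algebraically closed field, X a smooth projective surface over k (integral, smooth over
k, of dimension two, with a closed immersion over k into some projective space), L an invertible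
O_X-module with tensor inverse L' such that (L·L) > 0, and M an ample invertible module with tensor
inverse M'; intersection numbers are the alternating Euler-characteristic sums in the inverses (the
prelude's FGA.intNum, so (L·L) is computed in L', L' and (L·M) in L', M'). Then (L·M) ≠ 0; if (L·M)
> 0 there is c > 0 with dim_k H^0(X, L^{⊗m}) > c·m² for all large m, and if (L·M) < 0 the same holds
for L' in place of L. -/
theorem result (k : Type u) [Field k] [IsAlgClosed k]
    (X : Scheme.{u}) [X.Over (Spec (CommRingCat.of k))] [IsIntegral X] [Smooth (X ↘ (Spec (CommRingCat.of k)))] (hdim : topologicalKrullDim X = 2)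
    (hprojX : ∃ (N : ℕ) (ι : X ⟶ CohB1.ProjSpace N k), IsClosedImmersion ι ∧ ι ≫ CohB1.ProjSpace.toSpec N k = (X ↘ (Spec (CommRingCat.of k))))
    (L L' : X.Modules) (hL : PicF.IsInvertible L) (hLL' : ClSub.IsInverseOf L L')
    (hpos : 0 < FGA.intNum k X 2 ![L', L'] (Coh.structureModule X))
    (M M' : X.Modules) (hM : CohB1.IsAmple M) (hMM' : ClSub.IsInverseOf M M') :
    FGA.intNum k X 2 ![L', M'] (Coh.structureModule X) ≠ 0 ∧
    (0 < FGA.intNum k X 2 ![L', M'] (Coh.structureModule X) →
      ∃ c : ℚ, 0 < c ∧ ∃ m₀ : ℕ, ∀ m : ℕ, m₀ ≤ m →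
        c * (m : ℚ) ^ 2 < (Module.finrank k (Coh.HH X (CohB1.tensorPow L m) 0) : ℚ)) ∧
    (FGA.intNum k X 2 ![L', M'] (Coh.structureModule X) < 0 →
      ∃ c : ℚ, 0 < c ∧ ∃ m₀ : ℕ, ∀ m : ℕ, m₀ ≤ m →
        c * (m : ℚ) ^ 2 < (Module.finrank k (Coh.HH X (CohB1.tensorPow L' m) 0) : ℚ)) := by
  haveI := SurfRR.isProper_of_proj hprojX
  have hreg : ∀ x : X, IsRegularLocalRing (X.presheaf.stalk x) := fun x =>
    CohDual.SmoothEquidim.isRegularLocalRing_stalk (X ↘ Spec (CommRingCat.of k)) x
  obtain ⟨W, hW, hdual⟩ := SurfRR.exists_canonical hdim hreg hprojX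
  rw [IntTh.intNum_two k hdim.le hL hLL' hL hLL'] at hpos
  rw [IntTh.intNum_two k hdim.le hL hLL' hM.1 hMM']
  obtain ⟨e⟩ := hLL'
  have hL' : PicF.IsInvertible L' := NegVanish.isInvertible_of_inverse hL ⟨e⟩
  have key : ∀ (A : X.Modules), PicF.IsInvertible A → 0 < IntTh.inum k [A, A] (Coh.structureModule X) →
      0 < IntTh.inum k [A, M] (Coh.structureModule X) →
      ∃ c : ℚ, 0 < c ∧ ∃ m₀ : ℕ, ∀ m : ℕ, m₀ ≤ m →
        c * (m : ℚ) ^ 2 < (Module.finrank k (Coh.HH X (CohB1.tensorPow A m) 0) : ℚ) := fun A hA h1 h2 => by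
    obtain ⟨N, hN⟩ := SurfRR.eventually_growth k hdim.le hW hdual hA hM h1 h2
    refine ⟨1 / 4, by norm_num, N, fun m hm => ?_⟩
    have h := (Int.cast_lt (R := ℚ)).2 (hN m hm)
    push_cast at h
    linarith
  refine ⟨SurfRR.inum_ne_zero k hdim hW hdual hL hM hpos, key L hL hpos, fun h => key L' hL' ?_ ?_⟩
  · rw [SurfRR.inum_inv k hdim.le hL e hL', IntTh.inum_swap k hL hL', SurfRR.inum_inv k hdim.le hL e hL, neg_neg]
    exact hpos
  · rw [SurfRR.inum_inv k hdim.le hL e hM.1]
    omega

end Groth.Agent.S14525
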