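import Groth.Statements.S14539
import Groth.Agent.ComodBasic.Cartier
import Groth.Agent.HopfFF.SmoothRed
import Groth.Agent.HopfFF.Sub
import Groth.Agent.HopfFF.Takeuchi
import Groth.Agent.CommGrpDecomp.SubHopfV


set_option autoImplicit false
universe u v w
open TensorProduct
open PrincBund

namespace Groth.Agent.S14539

open TensorProduct CoalgebraStruct HopfRep Groth.Agent Groth.Agent.ComodBasic

theorem isReduced_allDegrees {k : Type*} {A : Type*} [Field k] [IsAlgClosed k] [CharZero k] [CommRing A]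
    [HopfAlgebra k A] : _root_.IsReduced A := by
  refine ⟨fun x hx => ?_⟩
  obtain ⟨C, hxC, hfg, hC1, hC2⟩ := HopfFF.exists_fg_hopfSubalg (k := k) {x} (Set.finite_singleton x)
  letI := CommGrpDecomp.SubV.hopfAlgebra (B := C) ⟨hC1, hC2⟩
  haveI : Algebra.FiniteType k C := C.fg_iff_finiteType.1 hfg
  haveI : _root_.IsReduced C := isReduced_of_charZero (k := k) (A := C)
  have hx' : IsNilpotent (⟨x, hxC rfl⟩ : C) := by
    obtain ⟨n, hn⟩ := hx
    exact ⟨n, Subtype.ext (by simpa using hn)⟩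
  exact congrArg Subtype.val hx'.eq_zero

/-- a graph of a point of a Hopf subalgebra -/
def IsPtGraph (k : Type*) {A : Type*} [Field k] [CommRing A] [HopfAlgebra k A]
    (G : Subalgebra k (A × k)) : Prop :=
  (∀ c : k, ((0, c) : A × k) ∈ G → c = 0) ∧
    (∀ b ∈ G.map (AlgHom.fst k A k), comul (R := k) b ∈ LinearMap.range (TensorProduct.map
      (G.map (AlgHom.fst k A k)).val.toLinearMap (G.map (AlgHom.fst k A k)).val.toLinearMap)) ∧
    ∀ b ∈ G.map (AlgHom.fst k A k), HopfAlgebraStruct.antipode (R := k) (A := A) b ∈ G.map (AlgHom.fst k A k)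

theorem range_map_mono {k : Type*} {A : Type*} [CommRing k] [CommRing A] [Algebra k A]
    {D E : Subalgebra k A} (h : D ≤ E) :
    LinearMap.range (TensorProduct.map D.val.toLinearMap D.val.toLinearMap) ≤
      LinearMap.range (TensorProduct.map E.val.toLinearMap E.val.toLinearMap) := by
  rintro - ⟨z, rfl⟩
  refine ⟨TensorProduct.map (Subalgebra.inclusion h).toLinearMap (Subalgebra.inclusion h).toLinearMap z, ?_⟩
  rw [← LinearMap.comp_apply, ← TensorProduct.map_comp]
  rfl

theorem hopf_sup {k : Type*} {A : Type*} [Field k] [CommRing A] [HopfAlgebra k A] {D E : Subalgebra k A}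
    (hD : ∀ b ∈ D, comul (R := k) b ∈ LinearMap.range (TensorProduct.map D.val.toLinearMap D.val.toLinearMap))
    (hD' : ∀ b ∈ D, HopfAlgebraStruct.antipode (R := k) (A := A) b ∈ D)
    (hE : ∀ b ∈ E, comul (R := k) b ∈ LinearMap.range (TensorProduct.map E.val.toLinearMap E.val.toLinearMap))
    (hE' : ∀ b ∈ E, HopfAlgebraStruct.antipode (R := k) (A := A) b ∈ E) :
    (∀ b ∈ D ⊔ E, comul (R := k) b ∈
        LinearMap.range (TensorProduct.map (D ⊔ E).val.toLinearMap (D ⊔ E).val.toLinearMap)) ∧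
      ∀ b ∈ D ⊔ E, HopfAlgebraStruct.antipode (R := k) (A := A) b ∈ D ⊔ E := by
  constructor
  · intro b hb
    suffices h : D ⊔ E ≤ (Algebra.TensorProduct.map (D ⊔ E).val (D ⊔ E).val).range.comap
        (Bialgebra.comulAlgHom k A) from h hb
    refine sup_le (fun x hx => ?_) fun x hx => ?_
    · exact range_map_mono le_sup_left (hD x hx)
    · exact range_map_mono le_sup_right (hE x hx)
  · intro b hb
    suffices h : D ⊔ E ≤ (D ⊔ E).comap (HopfAlgebra.antipodeAlgHom k A) from h hb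
    exact sup_le (fun x hx => (le_sup_left (b := E) : D ≤ D ⊔ E) (hD' x hx))
      (fun x hx => (le_sup_right (a := D) : E ≤ D ⊔ E) (hE' x hx))

/-- points extend along inclusions of Hopf subalgebras -/
theorem exists_point_ext {k : Type*} {A : Type*} [Field k] [IsAlgClosed k] [CommRing A] [HopfAlgebra k A]
    {C : Subalgebra k A}
    (hC : ∀ b ∈ C, comul (R := k) b ∈ LinearMap.range (TensorProduct.map C.val.toLinearMap C.val.toLinearMap))
    (hC' : ∀ b ∈ C, HopfAlgebraStruct.antipode (R := k) (A := A) b ∈ C) (g : C →ₐ[k] k) :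
    ∃ G : A →ₐ[k] k, ∀ c : C, G c = g c := by
  classical
  let G0 : Subalgebra k (A × k) := (C.val.prod g).range
  have hmap0 : G0.map (AlgHom.fst k A k) = C := by
    apply le_antisymm
    · rintro - ⟨-, ⟨c, rfl⟩, rfl⟩; exact c.2
    · exact fun c hc => ⟨_, ⟨⟨c, hc⟩, rfl⟩, rfl⟩
  have h0 : IsPtGraph k G0 := by
    refine ⟨?_, by rw [hmap0]; exact hC, by rw [hmap0]; exact hC'⟩
    rintro c ⟨x, hx⟩
    have h1 : (x : A) = 0 := congrArg Prod.fst hx
    have h2 : x = 0 := Subtype.ext h1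
    have h3 : g x = c := congrArg Prod.snd hx
    rw [← h3, h2, map_zero]
  obtain ⟨M, hM0, hMP, hMmax⟩ : ∃ M, G0 ≤ M ∧ IsPtGraph k M ∧ ∀ M', IsPtGraph k M' → M ≤ M' → M' = M := by
    obtain ⟨M, hM1, hM2⟩ := zorn_le_nonempty₀ {G : Subalgebra k (A × k) | IsPtGraph k G} (fun c hc hch G hG => by
      haveI : Nonempty c := ⟨⟨G, hG⟩⟩
      have hdir : Directed (· ≤ ·) fun i : c => (i : Subalgebra k (A × k)) := hch.directed
      refine ⟨⨆ i : c, (i : Subalgebra k (A × k)), ⟨?_, ?_, ?_⟩,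
        fun z hz => le_iSup (fun i : c => (i : Subalgebra k (A × k))) ⟨z, hz⟩⟩
      · intro a ha
        obtain ⟨i, hi⟩ := Set.mem_iUnion.1 ((Subalgebra.coe_iSup_of_directed hdir).subset ha)
        exact (hc i.2).1 a hi
      · rintro - ⟨x, hx, rfl⟩
        obtain ⟨i, hi⟩ := Set.mem_iUnion.1 ((Subalgebra.coe_iSup_of_directed hdir).subset hx)
        exact range_map_mono (Subalgebra.map_mono (f := AlgHom.fst k A k)
          (le_iSup (fun i : c => (i : Subalgebra k (A × k))) i)) ((hc i.2).2.1 _ ⟨x, hi, rfl⟩)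
      · rintro - ⟨x, hx, rfl⟩
        obtain ⟨i, hi⟩ := Set.mem_iUnion.1 ((Subalgebra.coe_iSup_of_directed hdir).subset hx)
        exact Subalgebra.map_mono (f := AlgHom.fst k A k)
          (le_iSup (fun i : c => (i : Subalgebra k (A × k))) i) ((hc i.2).2.2 _ ⟨x, hi, rfl⟩)) G0 h0
    exact ⟨M, hM1, hM2.1, fun M' h1 h2 => le_antisymm (hM2.2 h1 h2) h2⟩
  let D := M.map (AlgHom.fst k A k)
  have huniq : ∀ (a : A) (c c' : k), (a, c) ∈ M → (a, c') ∈ M → c = c' := by
    intro a c c' h h'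
    have h' := M.sub_mem h h'
    rw [Prod.mk_sub_mk, sub_self] at h'
    exact sub_eq_zero.1 (hMP.1 _ h')
  choose v hv using fun d : D => (show ∃ c, ((d : A), c) ∈ M by
    obtain ⟨⟨a, c⟩, h, e⟩ := d.2
    exact ⟨c, by rw [← e]; exact h⟩)
  let gD : D →ₐ[k] k :=
    { toFun := v
      map_one' := huniq _ _ _ (hv 1) M.one_mem
      map_zero' := huniq _ _ _ (hv 0) M.zero_mem
      map_mul' := fun x y => huniq _ _ _ (hv (x * y)) (M.mul_mem (hv x) (hv y))
      map_add' := fun x y => huniq _ _ _ (hv (x + y)) (M.add_mem (hv x) (hv y))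
      commutes' := fun c => huniq _ _ _ (hv (algebraMap k D c)) (M.algebraMap_mem c) }
  have hDtop : D = ⊤ := by
    by_contra hne
    obtain ⟨x, -, hx⟩ := SetLike.exists_of_lt (lt_of_le_of_ne le_top hne)
    obtain ⟨E, hxE, hEfg, hE1, hE2⟩ := HopfFF.exists_fg_hopfSubalg (k := k) {x} (Set.finite_singleton x)
    haveI : Module.FaithfullyFlat D A := HopfFF.faithfullyFlat D hMP.2.1 hMP.2.2
    let P : Ideal D := RingHom.ker gD
    have hPne : P.map (algebraMap D A) ≠ ⊤ := by
      intro h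
      have h' := congrArg (Ideal.comap (algebraMap D A)) h
      rw [Ideal.comap_map_eq_self_of_faithfullyFlat, Ideal.comap_top] at h'
      exact RingHom.ker_ne_top _ h'
    let Q : Ideal ↥(D ⊔ E) := (P.map (algebraMap D A)).comap (D ⊔ E).val
    have hQne : Q ≠ ⊤ := fun h => hPne ((Ideal.eq_top_iff_one _).2 (by
      have := (Ideal.eq_top_iff_one _).1 h
      simpa [Q] using this))
    have hft : Algebra.FiniteType k (↥(D ⊔ E) ⧸ Q) := by
      let f : E →ₐ[k] ↥(D ⊔ E) ⧸ Q :=
        (Ideal.Quotient.mkₐ k Q).comp (Subalgebra.inclusion le_sup_right)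
      haveI : Algebra.FiniteType k E := E.fg_iff_finiteType.1 hEfg
      refine (inferInstance : Algebra.FiniteType k E).of_surjective f fun y => ?_
      obtain ⟨⟨y, hy⟩, rfl⟩ := Ideal.Quotient.mk_surjective y
      let R : Subalgebra k ↥(D ⊔ E) := (f.range).comap (Ideal.Quotient.mkₐ k Q)
      have hR : D ⊔ E ≤ R.map (D ⊔ E).val := by
        refine sup_le (fun d hd => ?_) fun e he => ⟨⟨e, _⟩, ⟨⟨e, he⟩, rfl⟩, rfl⟩
        refine ⟨⟨d, (le_sup_left : D ≤ D ⊔ E) hd⟩, ⟨algebraMap k E (gD ⟨d, hd⟩), ?_⟩, rfl⟩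
        show f (algebraMap k E (gD ⟨d, hd⟩)) = _
        rw [AlgHom.commutes]
        refine Ideal.Quotient.eq.2 ?_
        show (((algebraMap k ↥(D ⊔ E) (gD ⟨d, hd⟩) - ⟨d, _⟩ : ↥(D ⊔ E))) : A) ∈ P.map (algebraMap D A)
        refine Ideal.mem_map_of_mem (algebraMap D A) (x := algebraMap k D (gD ⟨d, hd⟩) - ⟨d, hd⟩) ?_
        show gD _ = 0
        rw [map_sub, AlgHom.commutes, Algebra.algebraMap_self, RingHom.id_apply, sub_self]
      obtain ⟨y', hy', e⟩ := hR hy
      obtain rfl : y' = ⟨y, hy⟩ := Subtype.ext e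
      exact hy'
    obtain ⟨m, hm, -⟩ := Ideal.exists_le_maximal (⊥ : Ideal (↥(D ⊔ E) ⧸ Q))
      (haveI : Nontrivial (↥(D ⊔ E) ⧸ Q) := Ideal.Quotient.nontrivial_iff.2 hQne; bot_ne_top)
    obtain ⟨w, -⟩ := exists_point_ker_eq (k := k) m
    let g' : ↥(D ⊔ E) →ₐ[k] k := w.comp (Ideal.Quotient.mkₐ k Q)
    have hmap : ((D ⊔ E).val.prod g').range.map (AlgHom.fst k A k) = D ⊔ E := by
      apply le_antisymm
      · rintro - ⟨-, ⟨c, rfl⟩, rfl⟩; exact c.2
      · exact fun c hc => ⟨_, ⟨⟨c, hc⟩, rfl⟩, rfl⟩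
    have hM' : ((D ⊔ E).val.prod g').range = M := by
      refine hMmax _ ⟨?_, ?_, ?_⟩ ?_
      · rintro c ⟨y, hy⟩
        have h1 : (y : A) = 0 := congrArg Prod.fst hy
        have h2 : y = 0 := Subtype.ext h1
        have h3 : g' y = c := congrArg Prod.snd hy
        rw [← h3, h2, map_zero]
      · rw [hmap]; exact (hopf_sup hMP.2.1 hMP.2.2 hE1 hE2).1
      · rw [hmap]; exact (hopf_sup hMP.2.1 hMP.2.2 hE1 hE2).2
      · rintro ⟨a, c⟩ hac
        have ha : a ∈ D := ⟨(a, c), hac, rfl⟩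
        refine ⟨⟨a, (le_sup_left : D ≤ D ⊔ E) ha⟩, ?_⟩
        refine Prod.ext rfl ?_
        show g' _ = c
        rw [← huniq a _ c (hv ⟨a, ha⟩) hac]
        show w (Ideal.Quotient.mk Q _) = gD ⟨a, ha⟩
        have : Ideal.Quotient.mk Q (⟨a, (le_sup_left : D ≤ D ⊔ E) ha⟩ : ↥(D ⊔ E)) =
            algebraMap k _ (gD ⟨a, ha⟩) := by
          refine Ideal.Quotient.eq.2 ?_
          show (((⟨a, _⟩ - algebraMap k ↥(D ⊔ E) (gD ⟨a, ha⟩) : ↥(D ⊔ E))) : A) ∈ P.map (algebraMap D A)
          refine Ideal.mem_map_of_mem (algebraMap D A) (x := ⟨a, ha⟩ - algebraMap k D (gD ⟨a, ha⟩)) ?_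
          show gD _ = 0
          rw [map_sub, AlgHom.commutes, Algebra.algebraMap_self, RingHom.id_apply, sub_self]
        rw [this, AlgHom.commutes, Algebra.algebraMap_self, RingHom.id_apply]
    refine hx ?_
    show x ∈ M.map (AlgHom.fst k A k)
    rw [← hM', hmap]
    exact (le_sup_right : E ≤ D ⊔ E) (hxE rfl)
  refine ⟨gD.comp ((AlgHom.id k A).codRestrict D fun a => hDtop ▸ Algebra.mem_top), fun c => ?_⟩
  exact huniq _ _ _ (hv _) (hM0 ⟨c, rfl⟩)


/-- Let k be an algebraically closed field of characteristic 0, A a commutative Hopf algebra over k (the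
coordinate ring of an affine group scheme G over k, not necessarily of finite type) and V a right
A-comodule, of any dimension. If a k-subspace W of V is mapped into itself by the action of every
k-rational point of G (every k-algebra homomorphism A → k, acting on V through the coaction), then W
is a subcomodule of V. -/
theorem result (k : Type u) (A : Type v) [Field k] [IsAlgClosed k]
    [CharZero k] [CommRing A] [HopfAlgebra k A]
    (V : Type w) [AddCommGroup V] [Module k V] [HopfRep.Comod k A V] (W : Submodule k V)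
    (hW : ∀ g : A →ₐ[k] k, W.map (HopfRep.Comod.act k A V g) ≤ W) :
    HopfRep.IsSubcomod (k := k) (A := A) W := by
  haveI : _root_.IsReduced A := isReduced_allDegrees (k := k)
  have key : ∀ a : A, (∀ g : A →ₐ[k] k, g a = 0) → a = 0 := by
    intro a ha
    obtain ⟨C, haC, hfg, hC1, hC2⟩ := HopfFF.exists_fg_hopfSubalg (k := k) {a} (Set.finite_singleton a)
    haveI : Algebra.FiniteType k C := C.fg_iff_finiteType.1 hfg
    have hn : IsNilpotent (⟨a, haC rfl⟩ : C) := HopfFF.SmoothCrit.isNilpotent_of_forall_point fun g => by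
      obtain ⟨G, hG⟩ := exists_point_ext hC1 hC2 g
      rw [← hG]
      exact ha G
    exact (hn.map C.val).eq_zero
  intro w hw
  refine ((rTensor_exact A (LinearMap.exact_subtype_mkQ W) W.mkQ_surjective) _).1
    (eq_zero_of_lslice _ fun ξ => key _ fun g => ?_)
  have h : W.mkQ (Comod.act k A V g w) = 0 := by
    rw [Submodule.mkQ_apply, Submodule.Quotient.mk_eq_zero]
    exact hW g ⟨w, hw, rfl⟩
  rw [← map_zero ξ, ← h, Comod.act, LinearMap.comp_apply, LinearMap.comp_apply]
  generalize Comod.coact (k := k) (A := A) w = z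
  induction z using TensorProduct.induction_on with
  | zero => simp
  | add x y hx hy => simp only [map_add, hx, hy]
  | tmul x y => simp [mul_comm]

end Groth.Agent.S14539
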