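import Groth.Statements.S1454
import Groth.Agent.GeomUnib.Irred
-- import your own Groth.Agent.* helpers here

set_option autoImplicit false
universe u
open FlatMor

namespace Groth.Agent.S1454

open AlgebraicGeometry CategoryTheory Limits in
/-- Consider a locally quasi-finite f : X → Y whose target is locally Noetherian with geometrically
unibranch local rings, and assume every irreducible component of X dominates an irreducible
component of Y (its generic point maps to a generic point of an irreducible component of Y). Then f
is universally open. -/
theorem result {X Y : Scheme.{u}} (f : X ⟶ Y) [LocallyQuasiFinite f] [LocallyOfFiniteType f] [IsLocallyNoetherian Y]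
    (hY : ∀ y : Y, CAlg2.IsGeomUnibranch (Y.presheaf.stalk y))
    (hdom : ∀ Z ∈ irreducibleComponents ↑X, ∀ x : X, IsGenericPoint x Z → ∃ W ∈ irreducibleComponents ↑Y, IsGenericPoint (f x) W) :
    UniversallyOpen f := by
  have h : ∀ x : X, EGA43.IsUnivOpenAt f x := fun x => by
    let Z := irreducibleComponent x
    have hZ : Z ∈ irreducibleComponents ↑X := irreducibleComponent_mem_irreducibleComponents x
    have hZc : IsClosed Z := isClosed_irreducibleComponent
    have hirr : IsIrreducible Z := isIrreducible_irreducibleComponent
    have hgen : IsGenericPoint hirr.genericPoint Z := by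
      have := hirr.isGenericPoint_genericPoint_closure
      rwa [hZc.closure_eq] at this
    obtain ⟨W, hW, hWgen⟩ := hdom Z hZ _ hgen
    have hsp : hirr.genericPoint ⤳ x := hgen.specializes mem_irreducibleComponent
    obtain ⟨U₀, hy, hU₀⟩ := GeomUnib.exists_opens_subset_closure (f x) (f hirr.genericPoint)
      (hsp.map f.continuous) (GeomUnib.maximal_of_component _ W hW hWgen) (hY _).1.1
    exact GeomUnib.isUnivOpenAt_of_quasiFinite f x (f.quasiFiniteAt x) _ hsp U₀ hy hU₀ (hY _)
  exact GeomUnib.universallyOpen_of_forall f h

end Groth.Agent.S1454
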