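import Groth.Statements.S14547
import Groth.Agent.FpqcTorsor.Trivialize
-- import your own Groth.Agent.* helpers here

set_option autoImplicit false
set_option linter.style.haveILetI false
set_option backward.isDefEq.respectTransparency false
universe u
open CategoryTheory MonoidalCategory CartesianMonoidalCategory MonObj GrpObj AlgebraicGeometry
open PrincBund

namespace Groth.Agent.S14547

/-- Let f : X' → X be a faithfully flat quasi-compact morphism of schemes, J a group scheme affine over
X with an action a on an X-scheme P, and a' the induced action of the base change J' = J ×_X X' on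
P' = P ×_X X'. Then P with a is a J-torsor for the fpqc topology if and only if P' with a' is a
J'-torsor for the fpqc topology. (The published statement allows any morphism X' → X that is
covering for the fpqc topology, and an action of a pregroupoid; this row is the case of a faithfully
flat quasi-compact X' → X and the trivial pregroupoid.) -/
theorem result {X X' : Scheme.{u}} (f : X' ⟶ X)
    [Flat f] [Surjective f] [QuasiCompact f]
    {J P : Over X} [GrpObj J] [IsAffineHom J.hom] (a : AlgGrp.Action J P)
    (a' : AlgGrp.Action (Red.bc f J) (Red.bc f P))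
    (ha' : Functor.LaxMonoidal.μ (Over.pullback f) J P ≫ (Over.pullback f).map a.act = a'.act) :
    NonAbH1.IsTorsorFor Scheme.fpqcPrecoverage a ↔ NonAbH1.IsTorsorFor Scheme.fpqcPrecoverage a' := by
  let θ : J ⊗ P ⟶ P ⊗ P := lift a.act (snd J P)
  have key : lift a'.act (snd (Red.bc f J) (Red.bc f P)) ≫ Functor.LaxMonoidal.μ (Over.pullback f) P P =
      Functor.LaxMonoidal.μ (Over.pullback f) J P ≫ (Over.pullback f).map θ := by
    rw [← cancel_mono (Functor.Monoidal.μIso (Over.pullback f) P P).inv]
    apply CartesianMonoidalCategory.hom_ext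
    · simp [θ, ← ha']
    · simp [θ]
  constructor
  · rintro ⟨hp, R, hR, hsec⟩
    haveI : IsIso θ := hp
    refine ⟨?_, ?_⟩
    · show IsIso (lift a'.act (snd (Red.bc f J) (Red.bc f P)))
      haveI : IsIso (lift a'.act (snd (Red.bc f J) (Red.bc f P)) ≫
          Functor.LaxMonoidal.μ (Over.pullback f) P P) := by rw [key]; infer_instance
      exact IsIso.of_isIso_comp_right _ (Functor.LaxMonoidal.μ (Over.pullback f) P P)
    · obtain ⟨𝒰, rfl⟩ := Precoverage.mem_iff_exists_zeroHypercover.1 hR
      refine ⟨_, (𝒰.pullback₁ f).mem₀, ?_⟩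
      rintro T g ⟨i⟩
      obtain ⟨s, hs⟩ := hsec (𝒰.f i) ⟨i⟩
      exact ⟨Limits.pullback.lift (Limits.pullback.snd f (𝒰.f i) ≫ s) (Limits.pullback.fst f (𝒰.f i))
        (by rw [Category.assoc, hs, ← Limits.pullback.condition]), Limits.pullback.lift_snd _ _ _⟩
  · rintro ⟨hp, R, hR, hsec⟩
    haveI : IsIso (lift a'.act (snd (Red.bc f J) (Red.bc f P))) := hp
    haveI : IsIso (Functor.LaxMonoidal.μ (Over.pullback f) J P ≫ (Over.pullback f).map θ) := by
      rw [← key]; infer_instance
    haveI := IsIso.of_isIso_comp_left (Functor.LaxMonoidal.μ (Over.pullback f) J P) ((Over.pullback f).map θ)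
    refine ⟨FpqcTorsor.isIso_of_forall_whiskerRight θ f.singleton_mem_fpqcPrecoverage fun S' g hg => ?_, ?_⟩
    · cases hg
      haveI : IsIso ((θ ▷ Over.mk f).left) := by
        have : (θ ▷ Over.mk f).left = ((Over.pullback f).map θ).left := by
          refine Limits.pullback.hom_ext ?_ ?_
          · exact (congrArg CommaMorphism.left (whiskerRight_fst θ (Over.mk f))).trans
              (Limits.pullback.lift_fst _ _ _).symm
          · exact (congrArg CommaMorphism.left (whiskerRight_snd θ (Over.mk f))).trans
              (Limits.pullback.lift_snd _ _ _).symm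
        rw [this]; infer_instance
      haveI : IsIso ((Over.forget X).map (θ ▷ Over.mk f)) := ‹IsIso ((θ ▷ Over.mk f).left)›
      exact isIso_of_reflects_iso _ (Over.forget X)
    · obtain ⟨𝒱, rfl⟩ := Precoverage.mem_iff_exists_zeroHypercover.1 hR
      have h1 : Presieve.ofArrows (fun _ : PUnit.{u + 2} => X') (fun _ => f) ∈ Scheme.fpqcPrecoverage X := by
        rw [Presieve.ofArrows_pUnit]; exact f.singleton_mem_fpqcPrecoverage
      refine ⟨_, Precoverage.comp_mem_coverings (fun _ : PUnit.{u + 2} => f) h1 (fun _ j => 𝒱.f j) (fun _ => 𝒱.mem₀), ?_⟩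
      rintro T g ⟨⟨_, j⟩⟩
      obtain ⟨s, hs⟩ := hsec (𝒱.f j) ⟨j⟩
      refine ⟨s ≫ Limits.pullback.fst P.hom f, ?_⟩
      rw [Category.assoc, Limits.pullback.condition, ← Category.assoc]
      exact congrArg (· ≫ f) hs

end Groth.Agent.S14547
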