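import Groth.Statements.S14577
import Mathlib
import Groth.Agent.RigidProd.Point
-- import your own Groth.Agent.* helpers here

set_option autoImplicit false
universe u
open CategoryTheory MonoidalCategory CartesianMonoidalCategory MonObj GrpObj AlgebraicGeometry CategoryTheory.Limits
open AlgGrp

namespace Groth.Agent.S14577

open Groth.Agent in
/-- Two maps out of an affine scheme over `k` agreeing on a jointly injective family are equal. -/
theorem ext_of_jointly_injective {k : Type u} [Field k] {A Z : Over (Spec (CommRingCat.of k))}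
    [IsAffine A.left] [IsSeparated Z.hom] {u v : A ⟶ Z} {σ : Type*} (T : σ → Over (Spec (CommRingCat.of k)))
    (j : ∀ n, T n ⟶ A) (hj : ∀ a, (∀ n, (j n).left.appTop a = 0) → a = 0) (h : ∀ n, j n ≫ u = j n ≫ v) :
    u = v := by
  let e := equalizer.ι u v
  have : IsClosedImmersion e.left := inferInstance
  obtain ⟨_, hsurj⟩ := IsClosedImmersion.isAffine_surjective_of_isAffine e.left
  have hinj : Function.Injective e.left.appTop := (injective_iff_map_eq_zero _).2 fun a ha => hj a fun n => by
    rw [show (j n).left = (equalizer.lift (j n) (h n)).left ≫ e.left by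
      rw [← Over.comp_left, equalizer.lift_ι], Scheme.Hom.comp_appTop]
    change (equalizer.lift (j n) (h n)).left.appTop (e.left.appTop a) = 0
    rw [ha, map_zero]
  have : IsIso e.left.appTop := (ConcreteCategory.isIso_iff_bijective _).mpr ⟨hinj, hsurj⟩
  have : IsIso e.left := by
    exact (HasAffineProperty.iff_of_isAffine (P := MorphismProperty.isomorphisms Scheme) (f := e.left)).mpr
      ⟨inferInstance, inferInstance⟩
  apply Over.OverMorphism.ext
  rw [← cancel_epi e.left]
  exact congr($(equalizer.condition u v).left)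

open scoped TensorProduct in
/-- Krull intersection after a free base change. -/
theorem eq_zero_of_forall_pow {k B R : Type u} [Field k] [CommRing B] [Algebra k B] [CommRing R] [IsDomain R]
    [IsNoetherianRing R] [Algebra k R] {q : Ideal R} (hq : q ≠ ⊤) (x : B ⊗[k] R)
    (h : ∀ n : ℕ, Algebra.TensorProduct.map (AlgHom.id k B) (Ideal.Quotient.mkₐ k (q ^ n)) x = 0) : x = 0 := by
  let b := Module.Free.chooseBasis k B
  have key : ∀ (n : ℕ) (y : B ⊗[k] R) i,
      TensorProduct.equivFinsuppOfBasisLeft b (Algebra.TensorProduct.map (AlgHom.id k B) (Ideal.Quotient.mkₐ k (q ^ n)) y) i =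
        Ideal.Quotient.mk (q ^ n) (TensorProduct.equivFinsuppOfBasisLeft b y i) := by
    intro n y i
    induction y using TensorProduct.induction_on with
    | zero => simp
    | tmul c r => simp [Algebra.smul_def]
    | add y z hy hz => simp only [map_add, Finsupp.add_apply, hy, hz]
  apply (TensorProduct.equivFinsuppOfBasisLeft b).injective
  rw [map_zero]
  ext i
  have : TensorProduct.equivFinsuppOfBasisLeft b x i ∈ ⨅ n : ℕ, q ^ n :=
    Submodule.mem_iInf _ |>.2 fun n => Ideal.Quotient.eq_zero_iff_mem.1 (by rw [← key n x i, h n]; simp)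
  rwa [Ideal.iInf_pow_eq_bot_of_isDomain q hq] at this

/-- The spectrum of a `k`-algebra over `k`. -/
noncomputable abbrev spec (k : Type u) [Field k] (R : Type u) [CommRing R] [Algebra k R] :
    Over (Spec (CommRingCat.of k)) := Over.mk (Spec.map (CommRingCat.ofHom (algebraMap k R)))

instance isAffine_spec (k : Type u) [Field k] (R : Type u) [CommRing R] [Algebra k R] : IsAffine (spec k R).left :=
  inferInstanceAs (IsAffine (Spec _))

/-- The map of spectra of a map of algebras. -/
noncomputable abbrev specMap {k : Type u} [Field k] {R S : Type u} [CommRing R] [Algebra k R] [CommRing S]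
    [Algebra k S] (m : R →ₐ[k] S) : spec k S ⟶ spec k R :=
  Over.homMk (Spec.map (CommRingCat.ofHom m.toRingHom)) (by
    simp only [Over.mk_hom]; rw [← Spec.map_comp]; congr 1; ext c; exact m.commutes c)

open scoped TensorProduct in
theorem whiskerLeft_specMap {k B R S : Type u} [Field k] [CommRing B] [Algebra k B] [CommRing R] [Algebra k R]
    [CommRing S] [Algebra k S] (m : R →ₐ[k] S) :
    (spec k B ◁ specMap m).left ≫ (pullbackSpecIso k B R).hom =
      (pullbackSpecIso k B S).hom ≫ Spec.map (CommRingCat.ofHom (Algebra.TensorProduct.map (AlgHom.id k B) m).toRingHom) := by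
  rw [← Iso.eq_comp_inv, Category.assoc]
  refine pullback.hom_ext ?_ ?_
  · simp only [Category.assoc]
    erw [pullbackSpecIso_inv_fst, ← Spec.map_comp]
    refine (congr($(whiskerLeft_fst (spec k B) (specMap m)).left)).trans ?_
    rw [show CommRingCat.ofHom Algebra.TensorProduct.includeLeftRingHom ≫
      CommRingCat.ofHom (Algebra.TensorProduct.map (AlgHom.id k B) m).toRingHom =
      CommRingCat.ofHom (Algebra.TensorProduct.includeLeftRingHom : B →+* B ⊗[k] S) by ext c; simp]
    exact (pullbackSpecIso_hom_fst k B S).symm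
  · simp only [Category.assoc]
    erw [pullbackSpecIso_inv_snd, ← Spec.map_comp]
    refine (congr($(whiskerLeft_snd (spec k B) (specMap m)).left)).trans ?_
    simp only [← AlgHom.toRingHom_eq_coe]
    erw [show CommRingCat.ofHom (Algebra.TensorProduct.includeRight : R →ₐ[k] B ⊗[k] R).toRingHom ≫
      CommRingCat.ofHom (Algebra.TensorProduct.map (AlgHom.id k B) m).toRingHom =
      CommRingCat.ofHom m.toRingHom ≫
        CommRingCat.ofHom (Algebra.TensorProduct.includeRight : S →ₐ[k] B ⊗[k] S).toRingHom by ext c; simp,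
      Spec.map_comp, pullbackSpecIso_hom_snd_assoc]
    rfl

open scoped TensorProduct in
/-- Agreement on all infinitesimal neighbourhoods, for two affine factors. -/
theorem ext_of_forall_pow_affine {k B R : Type u} [Field k] [CommRing B] [Algebra k B] [CommRing R] [IsDomain R]
    [IsNoetherianRing R] [Algebra k R] {q : Ideal R} (hq : q ≠ ⊤) {Z : Over (Spec (CommRingCat.of k))}
    [IsSeparated Z.hom] (u v : spec k B ⊗ spec k R ⟶ Z)
    (h : ∀ n : ℕ, (spec k B ◁ specMap (Ideal.Quotient.mkₐ k (q ^ n))) ≫ u =
      (spec k B ◁ specMap (Ideal.Quotient.mkₐ k (q ^ n))) ≫ v) : u = v := by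
  have : IsAffine (spec k B ⊗ spec k R).left :=
    .of_isIso (pullbackSpecIso k B R).hom
  refine ext_of_jointly_injective _ (fun n => spec k B ◁ specMap (Ideal.Quotient.mkₐ k (q ^ n))) (fun a ha => ?_) h
  have hiso : ∀ (S : Type u) [CommRing S] [Algebra k S], IsIso ((Scheme.ΓSpecIso (CommRingCat.of (B ⊗[k] S))).inv ≫
      Scheme.Hom.appTop (pullbackSpecIso k B S).hom) := fun S _ _ => by
    have : IsIso (Scheme.Hom.appTop (pullbackSpecIso k B S).hom) :=
      inferInstanceAs (IsIso ((pullbackSpecIso k B S).hom.app ⊤))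
    exact IsIso.comp_isIso
  have := hiso R
  have := fun n : ℕ => hiso (R ⧸ q ^ n)
  obtain ⟨x, rfl⟩ : ∃ x : B ⊗[k] R, ((Scheme.ΓSpecIso _).inv ≫ (pullbackSpecIso k B R).hom.appTop).hom x = a :=
    (ConcreteCategory.bijective_of_isIso ((Scheme.ΓSpecIso _).inv ≫ (pullbackSpecIso k B R).hom.appTop)).2 a
  rw [eq_zero_of_forall_pow hq x fun n => ?_, map_zero]
  have h1 := ha n
  rw [← CommRingCat.comp_apply, Category.assoc, ← Scheme.Hom.comp_appTop, whiskerLeft_specMap,
    Scheme.Hom.comp_appTop, ← Scheme.ΓSpecIso_inv_naturality_assoc, CommRingCat.comp_apply] at h1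
  exact (injective_iff_map_eq_zero _).1 (ConcreteCategory.bijective_of_isIso ((Scheme.ΓSpecIso _).inv ≫
    (pullbackSpecIso k B _).hom.appTop)).1 _ h1

/-- Agreement on all infinitesimal neighbourhoods, for an affine integral Noetherian base. -/
theorem ext_of_forall_pow {k R : Type u} [Field k] [CommRing R] [IsDomain R] [IsNoetherianRing R]
    [Algebra k R] {q : Ideal R} (hq : q ≠ ⊤)
    {X Z : Over (Spec (CommRingCat.of k))} [IsSeparated Z.hom] (u v : X ⊗ spec k R ⟶ Z)
    (h : ∀ n : ℕ, (X ◁ specMap (Ideal.Quotient.mkₐ k (q ^ n))) ≫ u =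
      (X ◁ specMap (Ideal.Quotient.mkₐ k (q ^ n))) ≫ v) : u = v := by
  apply Over.OverMorphism.ext
  refine Scheme.Cover.hom_ext (Scheme.Pullback.openCoverOfLeft X.left.affineCover X.hom (spec k R).hom) _ _ fun i => ?_
  let C := X.left.affineOpenCover.X i
  obtain ⟨ψ, hψ⟩ := Spec.map_surjective (R := CommRingCat.of k) (S := C) (X.left.affineCover.f i ≫ X.hom)
  let : Algebra k C := ψ.hom.toAlgebra
  let vι : spec k C ⟶ X := Over.homMk (X.left.affineCover.f i) hψ.symm
  suffices he : (vι ▷ spec k R) ≫ u = (vι ▷ spec k R) ≫ v by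
    let e := pullback.congrHom (f₁ := X.left.affineCover.f i ≫ X.hom) (g₁ := (spec k R).hom) hψ.symm rfl
    have heq : e.hom ≫ (vι ▷ spec k R).left =
        (Scheme.Pullback.openCoverOfLeft X.left.affineCover X.hom (spec k R).hom).f i := by
      rw [Scheme.Pullback.openCoverOfLeft_f]
      refine pullback.hom_ext ?_ ?_
      · rw [Category.assoc, pullback.lift_fst]
        refine (congrArg (e.hom ≫ ·) (congr($(whiskerRight_fst vι (spec k R)).left))).trans ?_
        simp only [e, vι, pullback.congrHom_hom, Over.comp_left, Over.homMk_left]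
        erw [pullback.lift_fst_assoc]
        simp
      · rw [Category.assoc, pullback.lift_snd, Category.comp_id]
        refine (congrArg (e.hom ≫ ·) (congr($(whiskerRight_snd vι (spec k R)).left))).trans ?_
        simp only [e, pullback.congrHom_hom]
        erw [pullback.lift_snd]
        simp
    rw [← heq]
    exact (Category.assoc _ _ _).trans ((congrArg (e.hom ≫ ·) congr($(he).left)).trans (Category.assoc _ _ _).symm)
  refine ext_of_forall_pow_affine hq _ _ fun n => ?_
  rw [← Category.assoc, ← Category.assoc, whisker_exchange, Category.assoc, Category.assoc, h n]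

/-- Let k be a field, X a quasi-compact separated k-scheme with O(X) = k, Y a separated, reduced and
irreducible locally Noetherian k-scheme, Z a separated k-scheme, and x₀, y₀ rational points of X, Y.
If a k-morphism f : X × Y → Z satisfies f(x, y₀) = f(x₀, y₀) identically (as morphisms from X), then
f(x, y) = f(x₀, y) identically on X × Y. (The published statement does not ask Y to be reduced; the
final density step of its proof uses that the infinitesimal neighbourhoods of y₀ are schematically
dense in Y, which holds when Y is moreover reduced, so Y is taken reduced, hence integral, here.) -/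
theorem result (k : Type u) [Field k]
    (X Y Z : Over (Spec (CommRingCat.of k))) [QuasiCompact X.hom] [IsSeparated X.hom]
    (hX : Function.Bijective ((Scheme.ΓSpecIso (CommRingCat.of k)).inv ≫ X.hom.appTop).hom)
    [IsSeparated Y.hom] [IsLocallyNoetherian Y.left] [IrreducibleSpace ↥Y.left] [IsReduced Y.left] [IsSeparated Z.hom]
    (x₀ : 𝟙_ (Over (Spec (CommRingCat.of k))) ⟶ X) (y₀ : 𝟙_ (Over (Spec (CommRingCat.of k))) ⟶ Y) (f : X ⊗ Y ⟶ Z)
    (hf : (X ◁ y₀) ≫ f = toUnit _ ≫ lift x₀ y₀ ≫ f) :
    f = snd X Y ≫ lift (toUnit Y ≫ x₀) (𝟙 Y) ≫ f := by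
  have : IsIntegral Y.left := isIntegral_of_irreducibleSpace_of_isReduced _
  let P := y₀.left (IsLocalRing.closedPoint k)
  have : Subsingleton (Spec (CommRingCat.of k)) := inferInstance
  have : Nonempty (𝟙_ (Over (Spec (CommRingCat.of k)))).left := ⟨IsLocalRing.closedPoint k⟩
  have : IsClosedImmersion y₀.left :=
    isClosedImmersion_of_comp_eq_id (Y := Spec (CommRingCat.of k)) Y.hom y₀.left (Over.w y₀)
  obtain ⟨W, hW, hPW, -⟩ := exists_isAffineOpen_mem_and_subset (X := Y.left) (x := P) (U := ⊤) trivial
  obtain ⟨ψ, hψ⟩ := Spec.map_surjective (R := CommRingCat.of k) (hW.fromSpec ≫ Y.hom)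
  let : Algebra k Γ(Y.left, W) := ψ.hom.toAlgebra
  have : Nonempty W := ⟨⟨P, hPW⟩⟩
  have : IsDomain Γ(Y.left, W) := IsIntegral.component_integral W
  have : IsNoetherianRing Γ(Y.left, W) := IsLocallyNoetherian.component_noetherian ⟨W, hW⟩
  let p := hW.primeIdealOf ⟨P, hPW⟩
  let wι : spec k Γ(Y.left, W) ⟶ Y := Over.homMk hW.fromSpec hψ.symm
  have : IsOpenImmersion wι.left := inferInstanceAs (IsOpenImmersion hW.fromSpec)
  have : IsDominant wι.left := ⟨by
    rw [DenseRange, show Set.range wι.left = (W : Set Y.left) from hW.range_fromSpec]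
    exact W.isOpen.dense ⟨P, hPW⟩⟩
  have : IsSchemeTheoreticallyDominant wι.left := .of_isDominant _
  have : IsAffineHom wι.left := by
    have : Y.left.IsSeparated := ⟨by rw [← terminal.comp_from Y.hom]; infer_instance⟩
    have : IsAffineHom (wι.left ≫ Y.hom) := by rw [Over.w wι]; exact inferInstanceAs (IsAffineHom (Spec.map _))
    exact IsAffineHom.of_comp wι.left Y.hom
  have : Flat (snd X Y).left :=
    MorphismProperty.of_isPullback (P := @Flat) (IsPullback.of_hasPullback X.hom Y.hom) inferInstance
  have : IsSchemeTheoreticallyDominant (X ◁ wι).left :=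
    .of_isPullback (Groth.Agent.RigidProd.isPullback_whiskerLeft X wι)
  refine Groth.Agent.RigidProd.ext_of_stdom (X ◁ wι) ?_
  refine ext_of_forall_pow (q := p.asIdeal) p.2.ne_top _ _ fun n => ?_
  let T := spec k (Γ(Y.left, W) ⧸ p.asIdeal ^ n)
  let g : T ⟶ Y := specMap (Ideal.Quotient.mkₐ k (p.asIdeal ^ n)) ≫ wι
  have hg : ∀ t : T.left, g.left t = P := fun t => by
    have ht : Spec.map (CommRingCat.ofHom (Ideal.Quotient.mk (p.asIdeal ^ n))) t = p := by
      refine PrimeSpectrum.ext ?_
      have hle : p.asIdeal ^ n ≤ (Spec.map (CommRingCat.ofHom (Ideal.Quotient.mk (p.asIdeal ^ n))) t).asIdeal :=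
        fun a ha => show Ideal.Quotient.mk _ a ∈ t.asIdeal from (Ideal.Quotient.eq_zero_iff_mem.2 ha).symm ▸ zero_mem _
      have hP : IsClosed ({P} : Set Y.left) := by
        rw [show ({P} : Set Y.left) = Set.range y₀.left from
          (Set.range_eq_singleton_iff.mpr fun c => congrArg y₀.left (Subsingleton.elim _ _)).symm]
        exact y₀.left.isClosedEmbedding.isClosed_range
      have hp : IsClosed ({p} : Set (Spec Γ(Y.left, W))) := by
        have := hP.preimage hW.fromSpec.continuous
        convert this using 1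
        ext w
        refine ⟨fun h => h ▸ hW.fromSpec_primeIdealOf ⟨P, hPW⟩, fun h => ?_⟩
        exact hW.fromSpec.isOpenEmbedding.injective (h.trans (hW.fromSpec_primeIdealOf ⟨P, hPW⟩).symm)
      have hmax := (PrimeSpectrum.isClosed_singleton_iff_isMaximal p).mp hp
      refine (hmax.eq_of_le (PrimeSpectrum.isPrime _).ne_top ?_).symm
      rcases n with _ | n
      · simp [pow_zero] at hle
        exact absurd hle (PrimeSpectrum.isPrime _).ne_top
      · exact ((PrimeSpectrum.isPrime _).pow_le_iff (Nat.succ_ne_zero n)).mp hle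
    change (Spec.map (CommRingCat.ofHom (Ideal.Quotient.mk (p.asIdeal ^ n))) ≫ hW.fromSpec) t = P
    rw [Scheme.Hom.comp_apply, ht, hW.fromSpec_primeIdealOf]
  have hsub := Groth.Agent.RigidProd.subsingleton_image_fibre (X := X) (IsLocalRing.closedPoint k) y₀
    (lift x₀ y₀ ≫ f) f (hf.trans (by rw [toUnit_unique (snd X _) (toUnit _)]))
  let z₁ := f.left ((lift x₀ y₀).left (IsLocalRing.closedPoint k))
  obtain ⟨U, hU, hzU, -⟩ := exists_isAffineOpen_mem_and_subset (X := Z.left) (x := z₁) (U := ⊤) trivial
  have hrange : Set.range ((X ◁ g) ≫ f).left ⊆ (U : Set Z.left) := by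
    rintro _ ⟨r, rfl⟩
    rw [Over.comp_left, Scheme.Hom.comp_apply]
    have hz : f.left ((X ◁ g).left r) = z₁ := hsub ⟨_, by
        rw [Set.mem_preimage, ← Scheme.Hom.comp_apply, ← Over.comp_left, whiskerLeft_snd, Over.comp_left,
          Scheme.Hom.comp_apply, hg]; rfl, rfl⟩ ⟨_, by
        rw [Set.mem_preimage, ← Scheme.Hom.comp_apply, ← Over.comp_left, lift_snd]; rfl, rfl⟩
    exact hz ▸ hzU
  have key := Groth.Agent.RigidProd.eq_of_range (X := X) hX x₀ ((X ◁ g) ≫ f) hU hrange
  simp only [g, whiskerLeft_comp, Category.assoc] at key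
  rw [key]
  simp only [← Category.assoc]
  congr 1
  ext <;> simp <;> rfl

end Groth.Agent.S14577
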