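import Groth.Statements.S1458
import Mathlib.RingTheory.Finiteness.ModuleFinitePresentation
import Mathlib.LinearAlgebra.TensorProduct.Pi
import Mathlib.LinearAlgebra.TensorProduct.RightExactness

set_option autoImplicit false
universe u
open FlatMor

namespace Groth.Agent.S1458

open scoped TensorProduct

/-- Relations between generators after base change come from relations before base change. -/
theorem exists_of_sum_tmul_eq_zero {A B A' : Type u} [CommRing A] [CommRing B] [Algebra A B] [CommRing A'] [Algebra A A']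
    {n r : ℕ} {π : (Fin n → A) →ₗ[A] B} {g : (Fin r → A) →ₗ[A] (Fin n → A)} (hπ : Function.Surjective π)
    (hex : Function.Exact g π) (d : Fin n → A')
    (h : ∑ m, π (Pi.single m 1) ⊗ₜ[A] d m = 0) :
    ∃ y : Fin r → A', ∀ m, d m = ∑ j, y j * algebraMap A A' (g (Pi.single j 1) m) := by
  classical
  let t : A' ⊗[A] (Fin n → A) := ∑ m, d m ⊗ₜ Pi.single m 1
  have ht : LinearMap.lTensor A' π t = 0 := by
    have h' := congrArg (TensorProduct.comm A B A') h
    rw [map_zero, map_sum] at h'
    simpa [t, map_sum] using h'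
  obtain ⟨u, hu⟩ := ((lTensor_exact A' hex hπ) t).mp ht
  let φn := TensorProduct.piScalarRight A A' A' (Fin n)
  let φr := TensorProduct.piScalarRight A A' A' (Fin r)
  refine ⟨φr u, fun m => ?_⟩
  have h1 : φn t m = d m := by
    simp [φn, t, map_sum, Finset.sum_apply, Pi.single_apply]
  rw [← h1, ← hu]
  clear ht hu
  induction u with
  | zero => simp
  | add p q hp hq => simp [map_add, hp, hq, add_mul, Finset.sum_add_distrib]
  | tmul a v =>
    simp only [LinearMap.lTensor_tmul, φn, φr, TensorProduct.piScalarRight_apply,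
      TensorProduct.piScalarRightHom_tmul]
    conv_lhs => rw [show v = ∑ j, v j • Pi.single j (1 : A) from pi_eq_sum_univ' v]
    simp only [map_sum, map_smul, Finset.sum_apply, Pi.smul_apply, smul_eq_mul]
    simp only [Algebra.smul_def, map_sum, map_mul, Finset.sum_mul]
    refine Finset.sum_congr rfl fun j _ => ?_
    ring

open TensorProduct in
/-- Let A → B be a finite ring map of finite presentation. Then there are a finitely presented A-algebra
A_u and an idempotent e_u of B ⊗_A A_u such that for every A-algebra A' and every idempotent e of B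
⊗_A A' there is an A-algebra map A_u → A' whose induced map B ⊗ A_u → B ⊗ A' sends e_u to e. -/
theorem result {A B : Type u} [CommRing A] [CommRing B] [Algebra A B] [Module.Finite A B] [Algebra.FinitePresentation A B] :
    ∃ (Au : Type u) (_ : CommRing Au) (_ : Algebra A Au) (eu : B ⊗[A] Au), Algebra.FinitePresentation A Au ∧ IsIdempotentElem eu ∧
      ∀ (A' : Type u) [CommRing A'] [Algebra A A'] (e : B ⊗[A] A'), IsIdempotentElem e →
        ∃ φ : Au →ₐ[A] A', Algebra.TensorProduct.map (AlgHom.id A B) φ eu = e := by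
  classical
  have : Module.FinitePresentation A B := Module.FinitePresentation.of_finite_of_finitePresentation A B
  obtain ⟨n, π, hπ⟩ := Module.Finite.exists_fin' A B
  obtain ⟨r, s, hs⟩ := Submodule.fg_iff_exists_fin_generating_family.mp (Module.FinitePresentation.fg_ker π hπ)
  let g : (Fin r → A) →ₗ[A] (Fin n → A) := Fintype.linearCombination A s
  have hgs : ∀ j, g (Pi.single j 1) = s j := fun j => by simp [g, Fintype.linearCombination_apply_single]
  have hex : Function.Exact g π := by
    rw [LinearMap.exact_iff, Fintype.range_linearCombination, hs]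
  let b : Fin n → B := fun m => π (Pi.single m 1)
  have hexp : ∀ x : B, ∃ c : Fin n → A, x = ∑ m, c m • b m := fun x => by
    obtain ⟨v, rfl⟩ := hπ x
    refine ⟨v, ?_⟩
    conv_lhs => rw [show v = ∑ m, v m • Pi.single m (1 : A) from pi_eq_sum_univ' v]
    simp [b, map_sum, map_smul]
  choose c hc using fun i l => hexp (b i * b l)
  let x : Fin n → (MvPolynomial (Fin n ⊕ Fin r) A) := fun i => MvPolynomial.X (Sum.inl i)
  let y : Fin r → (MvPolynomial (Fin n ⊕ Fin r) A) := fun j => MvPolynomial.X (Sum.inr j)
  let rel : Fin n → (MvPolynomial (Fin n ⊕ Fin r) A) := fun m => (∑ i, ∑ l, MvPolynomial.C (c i l m) * (x i * x l)) - x m -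
    ∑ j, y j * MvPolynomial.C (g (Pi.single j 1) m)
  let Au := (MvPolynomial (Fin n ⊕ Fin r) A) ⧸ Ideal.span (Set.range rel)
  -- the square of a combination of generators
  have hsq : ∀ (R : Type u) [CommRing R] [Algebra A R] (a : Fin n → R),
      (∑ m, b m ⊗ₜ[A] a m) * (∑ m, b m ⊗ₜ[A] a m) - (∑ m, b m ⊗ₜ[A] a m) =
        ∑ m, b m ⊗ₜ[A] ((∑ i, ∑ l, algebraMap A R (c i l m) * (a i * a l)) - a m) := by
    intro R _ _ a
    simp only [TensorProduct.tmul_sub, Finset.sum_sub_distrib]
    congr 1
    simp only [Finset.sum_mul, Finset.mul_sum, Algebra.TensorProduct.tmul_mul_tmul, TensorProduct.tmul_sum]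
    conv_rhs => rw [Finset.sum_comm]; enter [2, i]; rw [Finset.sum_comm]
    rw [Finset.sum_comm]
    refine Finset.sum_congr rfl fun i _ => Finset.sum_congr rfl fun l _ => ?_
    rw [hc i l, TensorProduct.sum_tmul]
    refine Finset.sum_congr rfl fun m _ => ?_
    rw [← Algebra.smul_def, TensorProduct.smul_tmul]
  let a : Fin n → Au := fun i => Ideal.Quotient.mk _ (x i)
  refine ⟨Au, inferInstance, inferInstance, ∑ m, b m ⊗ₜ[A] a m,
    Algebra.FinitePresentation.quotient (Submodule.fg_span (Set.finite_range rel)), ?_, ?_⟩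
  · rw [IsIdempotentElem, ← sub_eq_zero, hsq]
    have h1 : ∀ m, (∑ i, ∑ l, algebraMap A Au (c i l m) * (a i * a l)) - a m =
        ∑ j, (g (Pi.single j 1) m) • (Ideal.Quotient.mk _ (y j) : Au) := by
      intro m
      have h2 : (Ideal.Quotient.mk (Ideal.span (Set.range rel)) (rel m)) = 0 :=
        Ideal.Quotient.eq_zero_iff_mem.mpr (Ideal.subset_span (Set.mem_range_self m))
      simp only [rel, map_sub, map_sum, map_mul, sub_eq_zero] at h2
      refine h2.trans (Finset.sum_congr rfl fun j _ => ?_)
      rw [mul_comm]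
      exact (Algebra.smul_def (A := MvPolynomial (Fin n ⊕ Fin r) A ⧸ Ideal.span (Set.range rel)) (g (Pi.single j 1) m) _).symm
    simp only [h1, TensorProduct.tmul_sum]
    rw [Finset.sum_comm]
    refine Finset.sum_eq_zero fun j _ => ?_
    simp only [TensorProduct.tmul_smul, TensorProduct.smul_tmul', ← TensorProduct.sum_tmul]
    have h3 : ∑ m, g (Pi.single j 1) m • b m = 0 := by
      have h4 := congrArg π (pi_eq_sum_univ' (g (Pi.single j 1)))
      rw [(hex.apply_apply_eq_zero _)] at h4
      rw [h4, map_sum]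
      simp [b, map_smul]
    rw [h3, TensorProduct.zero_tmul]
  · intro A' _ _ e he
    obtain ⟨d, hd⟩ : ∃ d : Fin n → A', e = ∑ m, b m ⊗ₜ[A] d m := by
      clear he
      induction e with
      | zero => exact ⟨0, by simp⟩
      | add p q hp hq =>
        obtain ⟨d₁, rfl⟩ := hp
        obtain ⟨d₂, rfl⟩ := hq
        exact ⟨d₁ + d₂, by simp [TensorProduct.tmul_add, Finset.sum_add_distrib]⟩
      | tmul u v =>
        obtain ⟨w, rfl⟩ := hexp u
        exact ⟨fun m => w m • v, by simp [TensorProduct.sum_tmul, TensorProduct.smul_tmul]⟩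
    subst hd
    have h0 := hsq A' d
    rw [he.eq, sub_self] at h0
    obtain ⟨z, hz⟩ := exists_of_sum_tmul_eq_zero hπ hex _ h0.symm
    let ev : (MvPolynomial (Fin n ⊕ Fin r) A) →ₐ[A] A' := MvPolynomial.aeval (Sum.elim d z)
    have hev : ∀ p ∈ Ideal.span (Set.range rel), ev p = 0 := by
      intro p hp
      refine (Ideal.span_le (I := RingHom.ker ev)).mpr ?_ hp
      rintro _ ⟨m, rfl⟩
      show ev (rel m) = 0
      simp only [rel, ev, x, y, map_sub, map_sum, map_mul, MvPolynomial.aeval_C, MvPolynomial.aeval_X,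
        Sum.elim_inl, Sum.elim_inr]
      rw [hz m, sub_self]
    refine ⟨Ideal.Quotient.liftₐ _ ev hev, ?_⟩
    simp only [map_sum, Algebra.TensorProduct.map_tmul, AlgHom.id_apply]
    refine Finset.sum_congr rfl fun m _ => ?_
    congr 1
    show ev (x m) = d m
    simp [ev, x]

end Groth.Agent.S1458
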