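import Groth.Statements.S19519
import Groth.Agent.HomogSep.Qs
import Groth.Agent.GrpSchField.Orbit
import Groth.Agent.FibreDim.Topo
import Groth.Agent.FibDim.Scheme
import Groth.Agent.GeomUnib.HyperplaneFibre
-- import your own Groth.Agent.* helpers here

set_option autoImplicit false
set_option linter.style.haveILetI false
set_option backward.isDefEq.respectTransparency false
universe u
open CategoryTheory MonoidalCategory CartesianMonoidalCategory MonObj GrpObj AlgebraicGeometry
open AlgGrp

namespace Groth.Agent.S19519

open Groth.Agent.GrpSchField Groth.Agent.HomogSep TopologicalSpace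

theorem isClosed_orbit {k : Type u} [Field k] [IsAlgClosed k]
    {G X : Over (Spec (CommRingCat.of k))} [GrpObj G] [LocallyOfFiniteType G.hom] [QuasiCompact G.hom]
    [LocallyOfFiniteType X.hom] (a : AlgGrp.Action G X)
    (x : 𝟙_ (Over (Spec (CommRingCat.of k))) ⟶ X)
    (hmin : ∀ y : 𝟙_ (Over (Spec (CommRingCat.of k))) ⟶ X,
      topologicalKrullDim (Set.range (a.orbitMap x).left.base) ≤ topologicalKrullDim (Set.range (a.orbitMap y).left.base)) :
    IsClosed (Set.range (a.orbitMap x).left.base) := by
  haveI : JacobsonSpace X.left := LocallyOfFiniteType.jacobsonSpace X.hom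
  haveI : JacobsonSpace G.left := LocallyOfFiniteType.jacobsonSpace G.hom
  haveI : IsLocallyNoetherian G.left := LocallyOfFiniteType.isLocallyNoetherian G.hom
  haveI : CompactSpace G.left := QuasiCompact.compactSpace_of_compactSpace G.hom
  haveI : IsNoetherian G.left := {}
  let R : Set X.left := Set.range (a.orbitMap x).left
  have hR : IsLocallyClosed R := isLocallyClosed_range_orbitMap a x
  suffices hcl : closure R ⊆ R from isClosed_of_closure_subset hcl
  by_contra hne
  let Z : Set X.left := closure R \ R
  have hZne : Z.Nonempty := by rwa [Set.nonempty_iff_ne_empty, ne_eq, Set.diff_eq_empty]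
  let W : X.left.Opens := ⟨coborder R, hR.isOpen_coborder⟩
  have hWR : coborder R ∩ closure R = R := coborder_inter_closure
  have hZc : IsClosed Z := by
    have : Z = closure R ∩ (coborder R)ᶜ := by
      ext z
      exact ⟨fun hz => ⟨hz.1, fun h => hz.2 (hWR.le ⟨h, hz.1⟩)⟩, fun hz => ⟨hz.1, fun h => hz.2 (subset_coborder h)⟩⟩
    rw [this]
    exact isClosed_closure.inter hR.isOpen_coborder.isClosed_compl
  obtain ⟨y₀, hy₀, hy₀c⟩ := nonempty_inter_closedPoints hZne hZc.isLocallyClosed
  obtain ⟨y, rfl⟩ := exists_section_of_closed (A := X) hy₀c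
  -- the orbit of `y` is in `Z`
  have hyZ : Set.range (a.orbitMap y).left ⊆ Z := by
    rintro _ ⟨g, rfl⟩
    have hpre : IsClosed ((a.orbitMap y).left ⁻¹' Z) := hZc.preimage (a.orbitMap y).left.continuous
    suffices h : closedPoints G.left ⊆ (a.orbitMap y).left ⁻¹' Z from
      closure_minimal h hpre (closure_closedPoints.ge (Set.mem_univ g))
    intro c hc
    obtain ⟨gs, rfl⟩ := exists_section_of_closed (A := G) hc
    show (a.orbitMap y).left (gs.left (IsLocalRing.closedPoint k)) ∈ Z
    have e1 : gs ≫ a.orbitMap y = y ≫ (translX a gs).hom := by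
      simp only [AlgGrp.Action.orbitMap, translX, ← Category.assoc, comp_lift, Category.comp_id]
      rw [toUnit_unique (gs ≫ toUnit G) (toUnit _), toUnit_unique (y ≫ toUnit X) (toUnit _),
        toUnit_unique (toUnit (𝟙_ (Over (Spec (CommRingCat.of k))))) (𝟙 _), Category.id_comp, Category.id_comp]
    have e2 : (a.orbitMap y).left (gs.left (IsLocalRing.closedPoint k)) = (translX a gs).hom.left (pt₀ y) := by
      rw [← comp_left_apply, e1, comp_left_apply]
    rw [e2]
    have hT : (translX a gs).hom.left '' R = R := by
      refine Set.Subset.antisymm ?_ ?_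
      · rintro _ ⟨_, ⟨g', rfl⟩, rfl⟩
        exact ⟨_, (translX_orbit a gs x g').symm⟩
      · rintro _ ⟨g', rfl⟩
        refine ⟨_, ⟨(translG gs).inv.left g', rfl⟩, ?_⟩
        rw [translX_orbit, left_hom_inv]
    let e : X.left ≃ₜ X.left :=
      { toFun := (translX a gs).hom.left
        invFun := (translX a gs).inv.left
        left_inv := left_inv_hom (translX a gs)
        right_inv := left_hom_inv (translX a gs)
        continuous_toFun := (translX a gs).hom.left.continuous
        continuous_invFun := (translX a gs).inv.left.continuous }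
    have hZ : e '' Z = Z := by
      show e '' (closure R \ R) = closure R \ R
      rw [Set.image_diff e.injective, e.image_closure, show e '' R = R from hT]
    exact hZ.le ⟨_, hy₀, rfl⟩
  -- closures of the images of the components cover the closure of the orbit
  let o := (a.orbitMap x).left
  let M : Set G.left := {g | ∀ g', g' ⤳ g → g ⤳ g'}
  have hMfin : (irreducibleComponents G.left).Finite := NoetherianSpace.finite_irreducibleComponents
  have hgen : ∀ C : irreducibleComponents G.left, ∃ ξ, IsGenericPoint ξ C.1 := fun C =>
    QuasiSober.sober C.2.1 (isClosed_of_mem_irreducibleComponents C.1 C.2)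
  choose ξ hξ using hgen
  haveI : Fintype (irreducibleComponents G.left) := hMfin.fintype
  have hcov : closure R ⊆ ⋃ C : irreducibleComponents G.left, closure {o (ξ C)} := by
    refine closure_minimal ?_ (isClosed_iUnion_of_finite fun _ => isClosed_closure)
    rintro _ ⟨g, rfl⟩
    refine Set.mem_iUnion.mpr ⟨⟨_, irreducibleComponent_mem_irreducibleComponents g⟩, ?_⟩
    exact specializes_iff_mem_closure.mp (((hξ _).specializes mem_irreducibleComponent).map o.continuous)
  have hnat : ∀ p : X.left, ∃ n : ℕ, topologicalKrullDim (closure ({p} : Set X.left)) = (n : WithBot ℕ∞) := fun p => by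
    obtain ⟨n, -, hn⟩ := DimTrdeg.exists_dim_closure_eq_trdeg X.hom p
    exact ⟨n, hn⟩
  choose n hn using hnat
  haveI : Nonempty (irreducibleComponents G.left) :=
    ⟨⟨_, irreducibleComponent_mem_irreducibleComponents (e G)⟩⟩
  obtain ⟨C₀, -, hC₀⟩ := Finset.exists_max_image Finset.univ (fun C : irreducibleComponents G.left => n (o (ξ C)))
    Finset.univ_nonempty
  let N := n (o (ξ C₀))
  have hNR : (N : WithBot ℕ∞) ≤ topologicalKrullDim R := by
    let r : W.toScheme := ⟨o (ξ C₀), subset_coborder ⟨_, rfl⟩⟩
    haveI : LocallyOfFiniteType (W.ι ≫ X.hom) := inferInstance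
    rw [← hn, show o (ξ C₀) = W.ι r from rfl, FibDim.dim_closure_openImmersion W.ι X.hom r,
      ← FibreDim.dim_image W.ι.isOpenEmbedding.isEmbedding]
    refine FibreDim.dim_mono ?_
    rintro _ ⟨w, hw, rfl⟩
    refine hWR.le ⟨w.2, closure_mono (Set.singleton_subset_iff.mpr ⟨ξ C₀, rfl⟩ :
      ({W.ι r} : Set X.left) ⊆ R) ?_⟩
    exact specializes_iff_mem_closure.mp ((specializes_iff_mem_closure.mpr hw).map W.ι.continuous)
  have hlt : ∀ z ∈ Z, n z < N := by
    intro z hz
    obtain ⟨C, hC⟩ := Set.mem_iUnion.mp (hcov hz.1)
    refine lt_of_lt_of_le ?_ (hC₀ C (Finset.mem_univ _))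
    have hss : closure ({z} : Set X.left) ⊂ closure {o (ξ C)} := by
      refine ⟨closure_minimal (Set.singleton_subset_iff.mpr hC) isClosed_closure, fun h => hz.2 ?_⟩
      have h1 : z ⤳ o (ξ C) := specializes_iff_mem_closure.mpr (h (subset_closure rfl))
      have h2 : o (ξ C) ⤳ z := specializes_iff_mem_closure.mpr hC
      exact ⟨ξ C, (h2.antisymm h1).eq⟩
    exact GeomUnib.dim_add_one_le hss.subset isClosed_closure isIrreducible_singleton.closure hss.ne (hn z) (hn _)
  have hN : 1 ≤ N := Nat.one_le_of_lt (hlt _ hy₀)
  haveI : QuasiSober Z := hZc.isClosedEmbedding_subtypeVal.quasiSober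
  have hdZ : topologicalKrullDim Z ≤ ((N - 1 : ℕ) : WithBot ℕ∞) := by
    refine FibreDim.dim_le_of_points fun t => ?_
    rw [← FibreDim.dim_image Topology.IsEmbedding.subtypeVal]
    refine le_trans (FibreDim.dim_mono (image_closure_subset_closure_image continuous_subtype_val)) ?_
    rw [Set.image_singleton, hn]
    exact_mod_cast Nat.le_sub_one_of_lt (hlt _ t.2)
  have := (hNR.trans (hmin y)).trans ((FibreDim.dim_mono hyZ).trans hdZ)
  have : N ≤ N - 1 := by exact_mod_cast this
  omega

/-- Let k be an algebraically closed field, G a smooth k-group scheme of finite type acting on a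
k-scheme X of finite type, and x a rational point of X. If the orbit of x — the image of the orbit
map G → X, g ↦ g · x, with its subspace topology — has Krull dimension at most that of the orbit of
every rational point of X, then the orbit of x is closed in X. (The first assertions of the lemma,
local closedness and smoothness of orbits over any field, are not restated here.) -/
theorem result (k : Type u) [Field k] [IsAlgClosed k]
    (G X : Over (Spec (CommRingCat.of k))) [GrpObj G] [Smooth G.hom] [QuasiCompact G.hom]
    [LocallyOfFiniteType X.hom] [QuasiCompact X.hom] (a : AlgGrp.Action G X)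
    (x : 𝟙_ (Over (Spec (CommRingCat.of k))) ⟶ X)
    (hmin : ∀ y : 𝟙_ (Over (Spec (CommRingCat.of k))) ⟶ X,
      topologicalKrullDim (Set.range (a.orbitMap x).left.base) ≤ topologicalKrullDim (Set.range (a.orbitMap y).left.base)) :
    IsClosed (Set.range (a.orbitMap x).left.base) := by
  exact isClosed_orbit a x hmin

end Groth.Agent.S19519
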