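import Groth.Statements.S14587
import Mathlib.AlgebraicGeometry.Morphisms.FlatMono
import Mathlib.AlgebraicGeometry.Morphisms.QuasiFinite
import Mathlib.Topology.Separation.Connected
-- import your own Groth.Agent.* helpers here

set_option autoImplicit false
set_option linter.style.haveILetI false
set_option backward.isDefEq.respectTransparency false
universe u
open CategoryTheory MonoidalCategory CartesianMonoidalCategory MonObj GrpObj AlgebraicGeometry CategoryTheory.Limits
open AlgGrp

namespace Groth.Agent.S14587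

/-- Let k be a perfect field and G a finite k-group scheme, r : G_red → G its reduced subgroup scheme (a
homomorphism and closed immersion from a reduced k-group scheme, surjective on underlying spaces)
and i₀ : G⁰ → G its neutral component (a homomorphism and open immersion from a connected k-group
scheme). Then the multiplication morphism G_red × G⁰ → G is an isomorphism, exhibiting G as the
semi-direct product of G⁰ by G_red. -/
theorem result (k : Type u) [Field k] [PerfectField k]
    (G Gr G₀ : Over (Spec (CommRingCat.of k))) [GrpObj G] [GrpObj Gr] [GrpObj G₀] [IsFinite G.hom]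
    (r : Gr ⟶ G) [IsMonHom r] [IsClosedImmersion r.left] [IsReduced Gr.left] [Surjective r.left]
    (i₀ : G₀ ⟶ G) [IsMonHom i₀] [IsOpenImmersion i₀.left] [ConnectedSpace ↥G₀.left] :
    IsIso ((r ⊗ₘ i₀) ≫ μ[G]) := by
  haveI : DiscreteTopology ↥G.left := by
    have h := G.hom.isDiscrete_preimage (s := Set.univ) (by
      haveI : Subsingleton ↥(Spec (CommRingCat.of k)) := inferInstance
      exact isDiscrete_univ_iff.mpr inferInstance)
    rw [Set.preimage_univ] at h
    exact isDiscrete_univ_iff.mp h
  haveI : DiscreteTopology ↥G₀.left := i₀.left.isOpenEmbedding.isEmbedding.discreteTopology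
  haveI : Subsingleton ↥G₀.left := by
    haveI : TotallyDisconnectedSpace ↥G₀.left := inferInstance
    exact PreconnectedSpace.trivial_of_discrete
  haveI : Subsingleton ↥(Spec (CommRingCat.of k)) := inferInstance
  -- the unit is a scheme point of `Gr` and of `G₀`
  have hone : (η[Gr] ≫ r).left = (η[G₀] ≫ i₀).left := by rw [IsMonHom.one_hom, IsMonHom.one_hom]
  -- a point of `Gr` that lies in `G₀` is the unit
  have key : ∀ (T : Over (Spec (CommRingCat.of k))) (c : T ⟶ Gr) (d : T ⟶ G₀), c ≫ r = d ≫ i₀ → c = 1 := by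
    intro T c d h
    let U : Gr.left.Opens := r.left ⁻¹ᵁ i₀.left.opensRange
    haveI : Subsingleton ↥(U : Scheme.{u}) := ⟨fun a b => by
      apply U.ι.isOpenEmbedding.injective
      apply r.left.isClosedEmbedding.injective
      obtain ⟨a', ha'⟩ : r.left (U.ι a) ∈ i₀.left.opensRange := a.2
      obtain ⟨b', hb'⟩ : r.left (U.ι b) ∈ i₀.left.opensRange := b.2
      rw [← ha', ← hb', Subsingleton.elim a' b']⟩
    have he : Set.range (η[Gr]).left ⊆ Set.range U.ι := by
      rintro _ ⟨s, rfl⟩
      rw [U.range_ι]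
      refine ⟨(η[G₀]).left s, ?_⟩
      rw [← Scheme.Hom.comp_apply, ← Scheme.Hom.comp_apply, ← Over.comp_left, ← Over.comp_left, hone]
    let e' : Spec (CommRingCat.of k) ⟶ (U : Scheme.{u}) := IsOpenImmersion.lift U.ι (η[Gr]).left he
    have he' : e' ≫ U.ι ≫ Gr.hom = 𝟙 _ := by
      rw [IsOpenImmersion.lift_fac_assoc]; exact Over.w η[Gr]
    haveI : IsSeparated r.left := inferInstance
    haveI : IsSeparated Gr.hom := by rw [← Over.w r]; infer_instance
    haveI : IsClosedImmersion e' := isClosedImmersion_of_comp_eq_id _ _ he'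
    haveI : IsReduced (U : Scheme.{u}) := inferInstance
    haveI : Surjective e' := ⟨fun a => ⟨IsLocalRing.closedPoint k, Subsingleton.elim _ _⟩⟩
    haveI : IsIso e' := isIso_of_isClosedImmersion_of_surjective e'
    have hU : (U.ι ≫ Gr.hom) ≫ e' = 𝟙 _ := by
      rw [← cancel_epi e', ← Category.assoc, he', Category.id_comp, Category.comp_id]
    have hc : Set.range c.left ⊆ Set.range U.ι := by
      rintro _ ⟨s, rfl⟩
      rw [U.range_ι]
      refine ⟨d.left s, ?_⟩
      rw [← Scheme.Hom.comp_apply, ← Scheme.Hom.comp_apply, ← Over.comp_left, ← Over.comp_left, h]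
    apply Over.OverMorphism.ext
    let c' := IsOpenImmersion.lift U.ι c.left hc
    calc c.left = c' ≫ U.ι := (IsOpenImmersion.lift_fac _ _ _).symm
      _ = c' ≫ ((U.ι ≫ Gr.hom) ≫ e') ≫ U.ι := by rw [hU, Category.id_comp]
      _ = ((c' ≫ U.ι) ≫ Gr.hom) ≫ (e' ≫ U.ι) := by simp only [Category.assoc]
      _ = (1 : T ⟶ Gr).left := by
        rw [IsOpenImmersion.lift_fac, IsOpenImmersion.lift_fac, Over.w c, Hom.one_def, Over.comp_left, Over.toUnit_left]
  let m : Gr ⊗ G₀ ⟶ G := (r ⊗ₘ i₀) ≫ μ[G]
  have hm : ∀ {T : Over (Spec (CommRingCat.of k))} (t : T ⟶ Gr ⊗ G₀),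
      t ≫ m = ((t ≫ fst _ _) ≫ r) * ((t ≫ snd _ _) ≫ i₀) := by
    intro T t
    rw [Hom.mul_def, ← Category.assoc]
    congr 1
    apply CartesianMonoidalCategory.hom_ext <;> simp
  haveI : Mono i₀ := by
    haveI : Mono i₀.left := inferInstance
    exact Over.mono_of_mono_left i₀
  haveI hmono : Mono m := ⟨fun {T} a b h => by
    rw [hm, hm] at h
    have h1 := key T ((b ≫ fst _ _)⁻¹ * (a ≫ fst _ _)) ((b ≫ snd _ _) * (a ≫ snd _ _)⁻¹) (by
      rw [mul_comp, inv_comp, mul_comp, inv_comp, inv_mul_eq_iff_eq_mul, ← _root_.mul_assoc, ← h, _root_.mul_assoc, mul_inv_cancel,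
        _root_.mul_one])
    have hf : a ≫ fst _ _ = b ≫ fst _ _ := by rwa [inv_mul_eq_one, eq_comm] at h1
    rw [hf, mul_left_cancel_iff, cancel_mono] at h
    exact CartesianMonoidalCategory.hom_ext _ _ hf h⟩
  haveI : Mono m.left := inferInstance
  -- flatness through the shear of `Gr ⊗ G`
  let σ : Gr ⊗ G ≅ Gr ⊗ G :=
    { hom := lift (fst _ _) ((fst _ _ ≫ r) * snd _ _)
      inv := lift (fst _ _) ((fst _ _ ≫ r)⁻¹ * snd _ _)
      hom_inv_id := by
        apply CartesianMonoidalCategory.hom_ext <;> simp [comp_mul, comp_inv]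
      inv_hom_id := by
        apply CartesianMonoidalCategory.hom_ext <;> simp [comp_mul, comp_inv] }
  have hfac : m = (Gr ◁ i₀) ≫ σ.hom ≫ snd _ _ := by
    rw [lift_snd, comp_mul, whiskerLeft_fst_assoc, whiskerLeft_snd, ← Category.id_comp m, hm, Category.id_comp,
      Category.id_comp]
  haveI : Flat m.left := by
    haveI : Flat (Gr ◁ i₀).left := by rw [Over.whiskerLeft_left]; infer_instance
    haveI : IsIso σ.hom.left := inferInstanceAs (IsIso ((Over.forget _).mapIso σ).hom)
    haveI : Flat (snd Gr G).left := by dsimp; infer_instance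
    rw [hfac, Over.comp_left, Over.comp_left]
    infer_instance
  haveI : Surjective m.left := ⟨fun g => by
    obtain ⟨a, ha⟩ := r.left.surjective g
    refine ⟨(lift (𝟙 Gr) (1 : Gr ⟶ G₀)).left a, ?_⟩
    rw [← Scheme.Hom.comp_apply, ← Over.comp_left, hm, lift_fst, lift_snd, one_comp, _root_.mul_one, Category.id_comp]
    exact ha⟩
  haveI : QuasiCompact m.left := by
    haveI : Finite ↥G₀.left := inferInstance
    haveI : QuasiCompact Gr.hom := by rw [← Over.w r]; infer_instance
    haveI : CompactSpace ↥Gr.left := QuasiCompact.compactSpace_of_compactSpace Gr.hom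
    haveI : QuasiCompact G₀.hom := quasiCompact_of_compactSpace _
    haveI : QuasiCompact (Gr ⊗ G₀).hom := by dsimp; infer_instance
    haveI : QuasiCompact (m.left ≫ G.hom) := by rw [Over.w m]; infer_instance
    exact QuasiCompact.of_comp m.left G.hom
  haveI := Flat.isIso_of_surjective_of_mono m.left
  show IsIso m
  haveI : IsIso ((Over.forget _).map m) := this
  exact isIso_of_reflects_iso m (Over.forget _)

end Groth.Agent.S14587
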