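import Groth.Statements.S1459
import Groth.Agent.FlatDescent.Slicing.Chart

set_option autoImplicit false
universe u
open FlatMor

namespace Groth.Agent.S1459

open AlgebraicGeometry CategoryTheory Limits in
/-- Let f : X → S be locally of finite presentation and flat at x with image s, and let h_1, …, h_r be
elements of O_{X,x} whose images in O_{X,x} / m_s O_{X,x} form a regular sequence. Then there are an
affine open U ∋ x and sections on U with these germs such that the closed subscheme Z of U they cut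
out is a regular closed immersion whose image contains x, Z → S is flat and locally of finite
presentation, and the base change of Z → U along any S' → S is again a regular closed immersion. -/
theorem result {X S : Scheme.{u}} (f : X ⟶ S) [LocallyOfFinitePresentation f] (x : X)
    (hflat : (f.stalkMap x).hom.Flat) (hs : List ↑(X.presheaf.stalk x))
    (hreg : RingTheory.Sequence.IsRegular (↑(X.presheaf.stalk x) ⧸ Ideal.map (f.stalkMap x).hom (IsLocalRing.maximalIdeal ↑(S.presheaf.stalk (f x))))
      (hs.map (Ideal.Quotient.mk (Ideal.map (f.stalkMap x).hom (IsLocalRing.maximalIdeal ↑(S.presheaf.stalk (f x))))))) :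
    ∃ (U : X.Opens) (hU : IsAffineOpen U) (hx : x ∈ U) (hs' : List Γ(X, U)), hs'.map (X.presheaf.germ U x hx) = hs ∧
      Mor2.IsRegularClosedImmersion (Spec.map (CommRingCat.ofHom (Ideal.Quotient.mk (Ideal.ofList hs'))) ≫ hU.isoSpec.inv) ∧
      x ∈ Set.range ⇑(Spec.map (CommRingCat.ofHom (Ideal.Quotient.mk (Ideal.ofList hs'))) ≫ hU.fromSpec) ∧
      Flat (Spec.map (CommRingCat.ofHom (Ideal.Quotient.mk (Ideal.ofList hs'))) ≫ hU.fromSpec ≫ f) ∧ LocallyOfFinitePresentation (Spec.map (CommRingCat.ofHom (Ideal.Quotient.mk (Ideal.ofList hs'))) ≫ hU.fromSpec ≫ f) ∧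
      ∀ (S' : Scheme.{u}) (g : S' ⟶ S), Mor2.IsRegularClosedImmersion
        (pullback.map (Spec.map (CommRingCat.ofHom (Ideal.Quotient.mk (Ideal.ofList hs'))) ≫ hU.isoSpec.inv ≫ U.ι ≫ f) g (U.ι ≫ f) g (Spec.map (CommRingCat.ofHom (Ideal.Quotient.mk (Ideal.ofList hs'))) ≫ hU.isoSpec.inv) (𝟙 S') (𝟙 S)
          (Category.comp_id _) ((Category.comp_id g).trans (Category.id_comp g).symm)) := by
  have hmem : ∀ a ∈ hs, a ∈ IsLocalRing.maximalIdeal (X.presheaf.stalk x) := fun a ha hu => by
    have h1 := hreg.top_ne_smul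
    refine h1 ?_
    rw [smul_eq_mul, Ideal.mul_top]
    let I := Ideal.map (f.stalkMap x).hom (IsLocalRing.maximalIdeal ↑(S.presheaf.stalk (f x)))
    exact (Ideal.eq_top_of_isUnit_mem (Ideal.ofList (hs.map (Ideal.Quotient.mk I)))
      (Ideal.subset_span (List.mem_map_of_mem ha : Ideal.Quotient.mk I a ∈ hs.map (Ideal.Quotient.mk I)))
      (IsUnit.map (Ideal.Quotient.mk I) hu)).symm
  obtain ⟨V, U, hV, hU, e, hx, n, b, hb, hbm, hfl⟩ :=
    Groth.FlatDescent.Slicing.exists_slice f x hflat hs hmem hreg.toIsWeaklyRegular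
  have hJ := Groth.FlatDescent.Slicing.ofList_ofFn b
  exact ⟨U, hU, hx, List.ofFn b, hb,
    Groth.FlatDescent.Slicing.isRegularClosedImmersion_slice f hU e b hfl _ hJ,
    Groth.FlatDescent.Slicing.mem_range_slice hU b _ hJ hx hbm,
    Groth.FlatDescent.Slicing.flat_slice f hV hU e b hfl _ hJ,
    Groth.FlatDescent.Slicing.lfp_slice f hV hU e b _ hJ,
    fun S' g => Groth.FlatDescent.Slicing.isRegularClosedImmersion_slice_baseChange f hV hU e b hfl _ hJ g⟩

end Groth.Agent.S1459
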