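import Groth.Statements.S14606
import Mathlib.RingTheory.Nilpotent.GeometricallyReduced
import Mathlib.RingTheory.Noetherian.Nilpotent
import Mathlib.RingTheory.FiniteStability

set_option autoImplicit false
universe u
open FrobAlg

namespace Groth.Agent.S14606

/-- Let k be a field of characteristic p > 0 and R a finitely generated commutative k-algebra. The
scheme-theoretic image of the n-th relative Frobenius morphism of Spec R is the spectrum of the
k-subalgebra k[R^(p^n)] generated by all p^n-th powers; for n large enough this image is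
geometrically reduced: there is an n such that k[R^(p^n)] is a geometrically reduced k-algebra.
(Stated in affine, ring-theoretic form.) -/
theorem result (k : Type u) [Field k] (p : ℕ) [Fact p.Prime] [CharP k p]
    (R : Type u) [CommRing R] [Algebra k R] [Algebra.FiniteType k R] :
    ∃ n : ℕ, Algebra.IsGeometricallyReduced k ↥(Algebra.adjoin k (Set.range (fun x : R => x ^ (p ^ n)))) := by
  classical
  open TensorProduct in
  let L := AlgebraicClosure k
  have hp : p.Prime := Fact.out
  have : CharP L p := charP_of_injective_algebraMap (RingHom.injective (algebraMap k L)) p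
  let T := L ⊗[k] R
  have : Algebra.FiniteType L T := inferInstance
  have : IsNoetherianRing T := Algebra.FiniteType.isNoetherianRing L T
  obtain ⟨m, hm⟩ := IsNoetherianRing.isNilpotent_nilradical T
  refine ⟨m, (Algebra.isGeometricallyReduced_field_iff _ _).2 ?_⟩
  let A := Algebra.adjoin k (Set.range fun x : R => x ^ p ^ m)
  let f : L ⊗[k] A →ₐ[L] T := Algebra.TensorProduct.map (AlgHom.id L L) A.val
  have hf : Function.Injective f :=
    Module.Flat.lTensor_preserves_injective_linearMap A.val.toLinearMap Subtype.val_injective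
  rcases subsingleton_or_nontrivial T with hT | hT
  · have : Subsingleton (L ⊗[k] A) := hf.subsingleton
    exact ⟨fun x _ => Subsingleton.elim _ _⟩
  have : CharP T p := (CharP.charP_iff_prime_eq_zero hp).2 (by
    rw [← map_natCast (algebraMap L T), CharP.cast_eq_zero, map_zero])
  let P := (iterateFrobenius T p m).range
  have hA : ∀ a ∈ A, (1 : L) ⊗ₜ[k] a ∈ P := by
    intro a ha
    induction ha using Algebra.adjoin_induction with
    | mem z hz =>
      obtain ⟨x, rfl⟩ := hz
      exact ⟨(1 : L) ⊗ₜ[k] x, by rw [iterateFrobenius_def, Algebra.TensorProduct.tmul_pow, one_pow]⟩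
    | algebraMap r =>
      obtain ⟨d, hd⟩ := IsAlgClosed.exists_pow_nat_eq (algebraMap k L r) (pow_pos hp.pos m)
      refine ⟨d ⊗ₜ[k] 1, ?_⟩
      rw [iterateFrobenius_def, Algebra.TensorProduct.tmul_pow, one_pow, hd,
        Algebra.algebraMap_eq_smul_one, Algebra.algebraMap_eq_smul_one, ← TensorProduct.smul_tmul]
    | add _ _ _ _ h1 h2 => rw [TensorProduct.tmul_add]; exact add_mem h1 h2
    | mul x y _ _ h1 h2 =>
      rw [show (1 : L) ⊗ₜ[k] (x * y) = ((1 : L) ⊗ₜ[k] x) * ((1 : L) ⊗ₜ[k] y) by simp]
      exact mul_mem h1 h2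
  have hz : ∀ z, f z ∈ P := by
    intro z
    induction z using TensorProduct.induction_on with
    | zero => simp
    | add _ _ h1 h2 => rw [map_add]; exact add_mem h1 h2
    | tmul c a =>
      obtain ⟨d, hd⟩ := IsAlgClosed.exists_pow_nat_eq c (pow_pos hp.pos m)
      rw [show f (c ⊗ₜ[k] a) = (c ⊗ₜ[k] (1 : R)) * ((1 : L) ⊗ₜ[k] (a : R)) from by
        rw [Algebra.TensorProduct.tmul_mul_tmul, mul_one, one_mul]
        exact Algebra.TensorProduct.map_tmul (AlgHom.id L L) A.val c a]
      refine mul_mem ⟨d ⊗ₜ[k] 1, ?_⟩ (hA a a.2)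
      rw [iterateFrobenius_def, Algebra.TensorProduct.tmul_pow, one_pow, hd]
  refine ⟨fun z hn => hf ?_⟩
  obtain ⟨y, hy⟩ := hz z
  rw [iterateFrobenius_def] at hy
  have h1 : IsNilpotent y := by
    obtain ⟨i, hi⟩ := hn.map f
    exact ⟨p ^ m * i, by rw [pow_mul, hy, hi]⟩
  have h2 := Ideal.pow_mem_pow (mem_nilradical.2 h1) m
  rw [hm, Ideal.zero_eq_bot, Ideal.mem_bot] at h2
  rw [map_zero, ← hy]
  exact pow_eq_zero_of_le (Nat.lt_pow_self hp.one_lt).le h2

end Groth.Agent.S14606
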