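import Groth.Statements.S14609
import Groth.Agent.FibreDimUniv.Basic
-- import your own Groth.Agent.* helpers here

set_option autoImplicit false
universe u v
open CAlg

namespace Groth.Agent.S14609

open TensorProduct in
/-- Let A be a Noetherian ring, M a finitely generated A-module, F a finitely generated free A-module
and δ : M → F an A-linear map. Then the function on Spec A sending a prime p with residue field κ(p)
to the κ(p)-dimension of the kernel of δ ⊗ κ(p) : M ⊗ κ(p) → F ⊗ κ(p) is upper semicontinuous. -/
theorem result (A : Type u) [CommRing A]
    [IsNoetherianRing A] (M : Type v) (F : Type v) [AddCommGroup M] [Module A M] [Module.Finite A M]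
    [AddCommGroup F] [Module A F] [Module.Finite A F] [Module.Free A F] (δ : M →ₗ[A] F) :
    UpperSemicontinuous (fun x : PrimeSpectrum A =>
      Module.finrank x.asIdeal.ResidueField
        (LinearMap.ker (δ.baseChange x.asIdeal.ResidueField))) := by
    intro x n hn
    have : Module.FinitePresentation A F := Module.finitePresentation_of_finite A F
    obtain ⟨U, hU, hxU, hle⟩ := FibreDimUniv.exists_isOpen_fibreDim_le (A := A) (F ⧸ LinearMap.range δ) x
    obtain ⟨V, hV, hxV, hVle⟩ := FibreDimUniv.exists_isOpen_fibreDim_le (A := A) M x
    filter_upwards [hU.mem_nhds hxU, hV.mem_nhds hxV, FibreDimUniv.fibreDim_eventually_eq (A := A) F x] with y hy hy' he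
    have h1 := FibreDimUniv.rangeDim_add δ x
    have h2 := FibreDimUniv.rangeDim_add δ y
    have := hle y hy
    have h3 := hVle y hy'
    have k1 := (δ.baseChange x.asIdeal.ResidueField).finrank_range_add_finrank_ker
    have k2 := (δ.baseChange y.asIdeal.ResidueField).finrank_range_add_finrank_ker
    simp only [FibreDimUniv.fibreDim] at *
    omega

end Groth.Agent.S14609
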