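import Mathlib
import Groth.Statements.S14612
-- import your own Groth.Agent.* helpers here

set_option autoImplicit false
universe u
open FlatCx

namespace Groth.Agent.S14612

open scoped TensorProduct

open CategoryTheory CategoryTheory.Limits in
/-- Let A be a commutative ring and F a cochain complex of flat A-modules which is bounded above (F^i =
0 for all large i) and whose cohomology H^p(F) vanishes for every p > d. Then the module of
d-cocycles Z^d = ker(F^d → F^{d+1}) is flat over A; hence the truncation τ_{≤ d} F is again a
complex of flat modules (and τ_{≤ d} F → F is a quasi-isomorphism, which is not restated).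
Boundedness cannot be dropped. -/
theorem result (A : Type u) [CommRing A]
    (F : CochainComplex (ModuleCat.{u} A) ℤ) (hF : ∀ i, Module.Flat A (F.X i))
    (hb : ∃ b : ℤ, ∀ i, b < i → IsZero (F.X i)) (d : ℤ) (hac : ∀ p, d < p → IsZero (F.homology p)) :
    Module.Flat A (F.cycles d) := by
  obtain ⟨b, hb⟩ := hb
  let Z : ℤ → Type u := fun p => LinearMap.ker (F.d p (p + 1)).hom
  have hstep : ∀ p : ℤ, IsZero (F.homology (p + 1)) → Module.Flat A (LinearMap.ker (F.d (p + 1) (p + 1 + 1)).hom) →
      Module.Flat A (LinearMap.ker (F.d p (p + 1)).hom) := by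
    intro p hz hfl
    have hdd : ∀ x, (F.d (p + 1) (p + 1 + 1)).hom ((F.d p (p + 1)).hom x) = 0 := fun x => by
      rw [← ModuleCat.comp_apply, F.d_comp_d]; rfl
    let π : F.X p →ₗ[A] LinearMap.ker (F.d (p + 1) (p + 1 + 1)).hom :=
      (F.d p (p + 1)).hom.codRestrict _ hdd
    have hπ : Function.Surjective π := by
      intro y
      have hex : (F.sc' p (p + 1) (p + 1 + 1)).Exact := by
        rw [← F.exactAt_iff' p (p + 1) (p + 1 + 1) (by simp) (by simp),
          HomologicalComplex.exactAt_iff_isZero_homology]
        exact hz
      rw [ShortComplex.moduleCat_exact_iff] at hex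
      obtain ⟨x, hx⟩ := hex (y : F.X (p + 1)) y.2
      exact ⟨x, Subtype.ext hx⟩
    have hfl' := hF p
    rw [Module.Flat.iff_lTensor_injective']
    intro J
    let K := LinearMap.ker (F.d p (p + 1)).hom
    have hexK : Function.Exact K.subtype π := by
      intro x
      constructor
      · intro hx
        exact ⟨⟨x, congrArg Subtype.val hx⟩, rfl⟩
      · rintro ⟨w, rfl⟩
        exact Subtype.ext w.2
    have h1 : Function.Injective (K.subtype.rTensor J) :=
      (LinearMap.lTensor_inj_iff_rTensor_inj _ _).1
        (LinearMap.lTensor_injective_of_exact_of_flat π hπ K.subtype K.injective_subtype hexK J)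
    have h2 : Function.Injective ((J.subtype.lTensor (F.X p)) ∘ₗ K.subtype.rTensor J) :=
      (Module.Flat.lTensor_preserves_injective_linearMap (M := F.X p) J.subtype
        Subtype.val_injective).comp h1
    have h3 : (J.subtype.lTensor (F.X p)) ∘ₗ K.subtype.rTensor J =
        K.subtype.rTensor A ∘ₗ J.subtype.lTensor K :=
      TensorProduct.ext' fun x y => by simp
    rw [h3, LinearMap.coe_comp] at h2
    exact Function.Injective.of_comp h2
  have key : ∀ (n : ℕ) (p : ℤ), d ≤ p → b < p + n → Module.Flat A (LinearMap.ker (F.d p (p + 1)).hom) := by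
    intro n
    induction n with
    | zero =>
      intro p _ hp
      have : Subsingleton (F.X p) := ModuleCat.subsingleton_of_isZero (hb p (by omega))
      infer_instance
    | succ n ih =>
      intro p hdp hp
      exact hstep p (hac _ (by omega)) (ih (p + 1) (by omega) (by push_cast at hp; omega))
  have hker := key ((b - d).toNat + 1) d le_rfl (by push_cast; omega)
  have e : F.cycles d ≅ ModuleCat.of A (LinearMap.ker (F.d d (d + 1)).hom) :=
    F.cyclesIsoSc' (d - 1) d (d + 1) (by simp) (by simp) ≪≫ (F.sc' (d - 1) d (d + 1)).moduleCatCyclesIso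
  exact Module.Flat.of_linearEquiv e.toLinearEquiv

end Groth.Agent.S14612
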