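import Groth.Statements.S14613
import Groth.Agent.KFlat.RingFlat
import Groth.Agent.KFlat.Pro.Factor
-- import your own Groth.Agent.* helpers here

set_option autoImplicit false
universe u
open FlatCx

namespace Groth.Agent.S14613

open CategoryTheory CategoryTheory.Limits MonoidalCategory HomologicalComplex Groth.Agent.KFlat in
lemma singleX_natural_left {A : Type u} [CommRing A] {C D : DRing.Cx A} (φ : C ⟶ D) (M : ModuleCat.{u} A) (p : ℤ) :
    (singleX (curriedTensor (ModuleCat.{u} A)) C M p).hom ≫ (φ ▷ (single (ModuleCat.{u} A) (ComplexShape.up ℤ) 0).obj M).f p =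
      φ.f p ▷ M ≫ (singleX (curriedTensor (ModuleCat.{u} A)) D M p).hom := by
  dsimp [singleX]
  rw [Category.assoc]
  erw [HomologicalComplex.ι_mapBifunctorMap]
  simp [← whisker_exchange_assoc]

open CategoryTheory CategoryTheory.Limits in
/-- Let A be a commutative ring (not necessarily Noetherian), C and D cochain complexes of flat
A-modules that are bounded above (zero in all large degrees), φ : C → D a quasi-isomorphism and M an
arbitrary A-module. Then φ ⊗ id_M : C ⊗_A M → D ⊗_A M, the tensor product taken degreewise, is a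
quasi-isomorphism. Boundedness cannot be dropped. -/
theorem result (A : Type u) [CommRing A]
    (C D : CochainComplex (ModuleCat.{u} A) ℤ)
    (hC : ∀ i, Module.Flat A (C.X i)) (hD : ∀ i, Module.Flat A (D.X i))
    (bC : ∃ b : ℤ, ∀ i, b < i → IsZero (C.X i)) (bD : ∃ b : ℤ, ∀ i, b < i → IsZero (D.X i))
    (φ : C ⟶ D) [QuasiIso φ] (M : ModuleCat.{u} A) :
    QuasiIso (((MonoidalCategory.tensorRight M).mapHomologicalComplex (ComplexShape.up ℤ)).map φ) := by
  open Groth.Agent.KFlat MonoidalCategory HomologicalComplex in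
  obtain ⟨b, hb⟩ := bC
  obtain ⟨b', hb'⟩ := bD
  have hKC := isKFlat_of_boundedAbove (P := C) b hb hC
  have hKD := isKFlat_of_boundedAbove (P := D) b' hb' hD
  let L : DRing.Cx A := (single (ModuleCat.{u} A) (ComplexShape.up ℤ) 0).obj M
  have hq : QuasiIso (show (L ⊗ C : DRing.Cx A) ⟶ L ⊗ D from L ◁ φ) :=
    quasiIso_whiskerLeft_of_kFlat hKC hKD φ inferInstance L
  let e : ∀ E : DRing.Cx A, ((MonoidalCategory.tensorRight M).mapHomologicalComplex (ComplexShape.up ℤ)).obj E ≅ L ⊗ E :=
    fun E => singleIso (curriedTensor (ModuleCat.{u} A)) E M ≪≫ DTen.braidCx E L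
  have hw : ((MonoidalCategory.tensorRight M).mapHomologicalComplex (ComplexShape.up ℤ)).map φ ≫ (e D).hom =
      (e C).hom ≫ (L ◁ φ) := by
    have h1 : ((MonoidalCategory.tensorRight M).mapHomologicalComplex (ComplexShape.up ℤ)).map φ ≫
        (singleIso (curriedTensor (ModuleCat.{u} A)) D M).hom =
        (singleIso (curriedTensor (ModuleCat.{u} A)) C M).hom ≫ (show (C ⊗ L : DRing.Cx A) ⟶ D ⊗ L from φ ▷ L) :=
      HomologicalComplex.hom_ext _ _ fun p => (singleX_natural_left φ M p).symm
    show _ ≫ _ ≫ _ = (_ ≫ _) ≫ _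
    rw [reassoc_of% h1, Category.assoc]
    refine congrArg (_ ≫ ·) ?_
    have h2 := DTen.braidCx_naturality φ (𝟙 L)
    simpa using h2
  exact (MorphismProperty.arrow_mk_iso_iff (HomologicalComplex.quasiIso (ModuleCat.{u} A) (ComplexShape.up ℤ))
    (Arrow.isoMk (e C) (e D) hw.symm)).2 hq

end Groth.Agent.S14613
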