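import Groth.Statements.S14614
import Groth.Agent.ThickProps.Deform
import Mathlib.AlgebraicGeometry.Morphisms.UniversallyOpen
import Mathlib.AlgebraicGeometry.Noetherian
import Mathlib.RingTheory.Filtration
-- import your own Groth.Agent.* helpers here

set_option autoImplicit false
universe u
open Mor

namespace Groth.Agent.S14614
open CategoryTheory AlgebraicGeometry

theorem kills {S Z : Scheme.{u}} {A : CommRingCat.{u}} [IsLocalRing A] (i : Z ⟶ S) (g' : Spec A ⟶ Z)
    (g : Spec A ⟶ S) (hg : g = g' ≫ i) (U : S.Opens) (hU : g (IsLocalRing.closedPoint A) ∈ U) (a : Γ(S, U))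
    (ha : i.app U a = 0) : (S.presheaf.germ U _ hU ≫ Scheme.stalkClosedPointTo g) a = 0 := by
  subst hg
  rw [Scheme.stalkClosedPointTo_comp]
  show Scheme.stalkClosedPointTo g' (i.stalkMap _ (S.presheaf.germ U _ hU a)) = 0
  erw [Scheme.Hom.germ_stalkMap_apply i U, ha]
  simp

theorem mem_pow {S Z : Scheme.{u}} [IsLocallyNoetherian S] (i : Z ⟶ S) [IsClosedImmersion i]
    (h : ∀ (A : Type u) [CommRing A] [IsArtinianRing A] [IsLocalRing A] (g : Spec (CommRingCat.of A) ⟶ S),
      (∃ t : Spec (CommRingCat.of (IsLocalRing.ResidueField A)) ⟶ Z,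
          t ≫ i = Spec.map (CommRingCat.ofHom (IsLocalRing.residue A)) ≫ g) →
        ∃ g' : Spec (CommRingCat.of A) ⟶ Z, g' ≫ i = g)
    (z : Z) (U : S.Opens) (hU : i z ∈ U) (a : Γ(S, U)) (ha : i.app U a = 0) (n : ℕ) :
    S.presheaf.germ U _ hU a ∈ IsLocalRing.maximalIdeal (S.presheaf.stalk (i z)) ^ (n + 1) := by
  let O := S.presheaf.stalk (i z)
  let J := IsLocalRing.maximalIdeal O ^ (n + 1)
  let A := O ⧸ J
  have hJ : J ≠ ⊤ := ne_top_of_le_ne_top (IsLocalRing.maximalIdeal.isMaximal O).ne_top (Ideal.pow_le_self n.succ_ne_zero)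
  haveI : Nontrivial A := Ideal.Quotient.nontrivial_iff.mpr hJ
  haveI : IsLocalRing A := IsLocalRing.of_surjective' (Ideal.Quotient.mk J) Ideal.Quotient.mk_surjective
  haveI hAn : IsNoetherianRing A := inferInstance
  haveI : IsLocalHom (Ideal.Quotient.mk J) := IsLocalHom.of_surjective _ Ideal.Quotient.mk_surjective
  haveI : IsArtinianRing A := by
    refine isArtinianRing_iff_isNilpotent_maximalIdeal _ |>.mpr ⟨n + 1, ?_⟩
    rw [← IsLocalRing.map_maximalIdeal_of_surjective (Ideal.Quotient.mk J) Ideal.Quotient.mk_surjective, ← Ideal.map_pow]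
    exact Ideal.map_quotient_self J
  let π : O ⟶ CommRingCat.of A := CommRingCat.ofHom (Ideal.Quotient.mk J)
  haveI : IsLocalHom π.hom := inferInstanceAs (IsLocalHom (Ideal.Quotient.mk J))
  let kA := IsLocalRing.ResidueField A
  let ρ : O →+* kA := (IsLocalRing.residue A).comp (Ideal.Quotient.mk J)
  have hρ : RingHom.ker (i.stalkMap z).hom ≤ RingHom.ker ρ := by
    intro e he
    have hm : e ∈ IsLocalRing.maximalIdeal O := fun hu => by
      have := hu.map (i.stalkMap z).hom
      rw [RingHom.mem_ker.mp he] at this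
      exact not_isUnit_zero this
    refine RingHom.mem_ker.mpr ((IsLocalRing.residue_eq_zero_iff _).mpr fun hu => ?_)
    exact hm (isUnit_of_map_unit (Ideal.Quotient.mk J) e hu)
  let τ := (i.stalkMap z).hom.liftOfSurjective (i.stalkMap_surjective z) ⟨ρ, hρ⟩
  have hτ : i.stalkMap z ≫ CommRingCat.ofHom τ = π ≫ CommRingCat.ofHom (IsLocalRing.residue A) :=
    CommRingCat.hom_ext (RingHom.liftOfRightInverse_comp _ _ _ _)
  obtain ⟨g', hg'⟩ := h A (Spec.map π ≫ S.fromSpecStalk (i z))
    ⟨Spec.map (CommRingCat.ofHom τ) ≫ Z.fromSpecStalk z, by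
      rw [Category.assoc, ← Scheme.SpecMap_stalkMap_fromSpecStalk, ← Spec.map_comp_assoc]
      erw [hτ]
      rw [Spec.map_comp_assoc]⟩
  have hU' : (Spec.map π ≫ S.fromSpecStalk (i z)) (IsLocalRing.closedPoint A) ∈ U := by
    show S.fromSpecStalk (i z) (Spec.map π (IsLocalRing.closedPoint (CommRingCat.of A))) ∈ U
    have e : (Spec.map π) (IsLocalRing.closedPoint (CommRingCat.of A)) = IsLocalRing.closedPoint O :=
      IsLocalRing.comap_closedPoint π.hom
    refine (congrArg (fun p => S.fromSpecStalk (i z) p) e).trans S.fromSpecStalk_closedPoint |>.symm ▸ ?_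
    exact hU
  have h0 := kills (A := CommRingCat.of A) i g' _ hg'.symm U hU' a ha
  rw [Scheme.germ_stalkClosedPointTo_Spec_fromSpecStalk] at h0
  exact Ideal.Quotient.eq_zero_iff_mem.mp h0

theorem stalkMap_injective (S : Scheme.{u}) [IsLocallyNoetherian S] {Z : Scheme.{u}} (i : Z ⟶ S) [IsClosedImmersion i]
    (h : ∀ (A : Type u) [CommRing A] [IsArtinianRing A] [IsLocalRing A] (g : Spec (CommRingCat.of A) ⟶ S),
      (∃ t : Spec (CommRingCat.of (IsLocalRing.ResidueField A)) ⟶ Z,
          t ≫ i = Spec.map (CommRingCat.ofHom (IsLocalRing.residue A)) ≫ g) →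
        ∃ g' : Spec (CommRingCat.of A) ⟶ Z, g' ≫ i = g) (z : Z) : Function.Injective (i.stalkMap z).hom := by
  rw [injective_iff_map_eq_zero]
  intro e he
  obtain ⟨U, hU, a, rfl⟩ := S.presheaf.exists_germ_eq e
  have he' : Z.presheaf.germ (i ⁻¹ᵁ U) z hU (i.app U a) = Z.presheaf.germ (i ⁻¹ᵁ U) z hU 0 := by
    rw [map_zero]; exact (Scheme.Hom.germ_stalkMap_apply i U z hU a).symm.trans he
  obtain ⟨W, hzW, i₁, i₂, hW⟩ := Z.presheaf.germ_eq z hU hU _ _ he'
  obtain ⟨G, hG, hGW⟩ := i.isEmbedding.isInducing.isOpen_iff.mp W.isOpen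
  let U' : S.Opens := U ⊓ ⟨G, hG⟩
  have hzU' : i z ∈ U' := ⟨hU, show z ∈ i ⁻¹' G by rw [hGW]; exact hzW⟩
  have hsub : i ⁻¹ᵁ U' ≤ W := fun w hw => by
    have : w ∈ i ⁻¹' G := hw.2
    rwa [hGW] at this
  have ha : i.app U' (S.presheaf.map (homOfLE (inf_le_left : U' ≤ U)).op a) = 0 := by
    have h1 := congr($(i.naturality (homOfLE (inf_le_left : U' ≤ U)).op).hom a)
    refine h1.trans ?_
    have h2 := congrArg (Z.presheaf.map (homOfLE hsub).op) hW
    simp only [map_zero] at h2
    rw [← h2, ← CommRingCat.comp_apply, ← Functor.map_comp]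
    rfl
  rw [← S.presheaf.germ_res_apply (homOfLE (inf_le_left : U' ≤ U)) (i z) hzU' a]
  refine Ideal.mem_bot.mp ?_
  rw [← Ideal.iInf_pow_eq_bot_of_isLocalRing (IsLocalRing.maximalIdeal _) (IsLocalRing.maximalIdeal.isMaximal _).ne_top]
  refine Ideal.mem_iInf.mpr fun n => ?_
  exact Ideal.pow_le_pow_right (Nat.le_succ n) (mem_pow i h z U' hzU' _ ha n)

open CategoryTheory AlgebraicGeometry in
/-- Let S be a locally Noetherian scheme and i : Z → S a closed immersion with the following property: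
for every Artinian local ring A with residue field k and every morphism g : Spec A → S, if the
restriction Spec k → Spec A → S of g factors through i then so does g. Then i is also an open
immersion, i.e. the closed subscheme Z is open in S as a subscheme. (The published hypothesis is an
equivalence; its other direction always holds, so this row assumes only the implication.) -/
theorem result (S : Scheme.{u}) [IsLocallyNoetherian S]
    {Z : Scheme.{u}} (i : Z ⟶ S) [IsClosedImmersion i]
    (h : ∀ (A : Type u) [CommRing A] [IsArtinianRing A] [IsLocalRing A] (g : Spec (CommRingCat.of A) ⟶ S),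
      (∃ t : Spec (CommRingCat.of (IsLocalRing.ResidueField A)) ⟶ Z,
          t ≫ i = Spec.map (CommRingCat.ofHom (IsLocalRing.residue A)) ≫ g) →
        ∃ g' : Spec (CommRingCat.of A) ⟶ Z, g' ≫ i = g) :
    IsOpenImmersion i := by
  haveI : Flat i := by
    refine Flat.of_stalkMap _ fun z => ?_
    exact RingHom.Flat.of_bijective ⟨stalkMap_injective S i h z, i.stalkMap_surjective z⟩
  haveI : LocallyOfFinitePresentation i := inferInstance
  exact Groth.Agent.ThickProps.isOpenImmersion_of_flat_mono i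
    (Topology.IsOpenEmbedding.mk i.isEmbedding i.isOpenMap.isOpen_range)

end Groth.Agent.S14614
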