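import Groth.Statements.S14617
set_option linter.unusedVariables false

set_option autoImplicit false
universe u
open Formal2

namespace Groth.Agent.S14617

/-- Let 0 → (G'_n) → (G_n) → (G''_n) → 0 be a short exact sequence of inverse systems of abelian groups
indexed by ℕ: maps u_n : G'_n → G_n and v_n : G_n → G''_n commuting with the transition maps, with
u_n injective, v_n surjective and ker v_n = im u_n for every n. Writing lim and lim¹ for the kernel
and cokernel of (x_n) ↦ (x_n − t_n(x_{n+1})) on the product, there is an exact sequence 0 → lim G' →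
lim G → lim G'' → lim¹ G' → lim¹ G → lim¹ G'' → 0 in which the four outer maps are the ones induced
by u and v on products and the connecting map δ sends a compatible sequence (z_n) to the class of
the unique (w_n) with u_n(w_n) = y_n − t_n(y_{n+1}), for any levelwise lift (y_n) of (z_n). -/
theorem result (G' G G'' : ℕ → Type u)
    [∀ n, AddCommGroup (G' n)] [∀ n, AddCommGroup (G n)] [∀ n, AddCommGroup (G'' n)]
    (t' : ∀ n, G' (n + 1) →+ G' n) (t : ∀ n, G (n + 1) →+ G n) (t'' : ∀ n, G'' (n + 1) →+ G'' n)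
    (u : ∀ n, G' n →+ G n) (v : ∀ n, G n →+ G'' n)
    (hu : ∀ n x, t n (u (n + 1) x) = u n (t' n x)) (hv : ∀ n x, t'' n (v (n + 1) x) = v n (t n x))
    (hinj : ∀ n, Function.Injective (u n)) (hsurj : ∀ n, Function.Surjective (v n))
    (hex : ∀ n, (v n).ker = (u n).range) :
    ∃ (α : Formal2.limZero G' t' →+ Formal2.limZero G t) (β : Formal2.limZero G t →+ Formal2.limZero G'' t'')
      (δ : Formal2.limZero G'' t'' →+ Formal2.limOne G' t')
      (ε : Formal2.limOne G' t' →+ Formal2.limOne G t) (ζ : Formal2.limOne G t →+ Formal2.limOne G'' t''),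
      (∀ (x : Formal2.limZero G' t') (n : ℕ), (α x : ∀ n, G n) n = u n ((x : ∀ n, G' n) n)) ∧
      (∀ (x : Formal2.limZero G t) (n : ℕ), (β x : ∀ n, G'' n) n = v n ((x : ∀ n, G n) n)) ∧
      (∀ (z : Formal2.limZero G'' t'') (y : ∀ n, G n) (w : ∀ n, G' n),
          (∀ n, v n (y n) = (z : ∀ n, G'' n) n) → (∀ n, u n (w n) = Formal2.towerDiff G t y n) →
            δ z = (QuotientAddGroup.mk w : Formal2.limOne G' t')) ∧
      (∀ y : ∀ n, G' n, ε (QuotientAddGroup.mk y : Formal2.limOne G' t') =
          (QuotientAddGroup.mk (fun n => u n (y n)) : Formal2.limOne G t)) ∧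
      (∀ y : ∀ n, G n, ζ (QuotientAddGroup.mk y : Formal2.limOne G t) =
          (QuotientAddGroup.mk (fun n => v n (y n)) : Formal2.limOne G'' t'')) ∧
      Function.Injective α ∧ α.range = β.ker ∧ β.range = δ.ker ∧ δ.range = ε.ker ∧ ε.range = ζ.ker ∧
      Function.Surjective ζ := by
  classical
  have hD : ∀ (H : ℕ → Type u) [∀ n, AddCommGroup (H n)] (s : ∀ n, H (n + 1) →+ H n) (x : ∀ n, H n) (n : ℕ),
      Formal2.towerDiff H s x n = x n - s n (x (n + 1)) := fun _ _ _ _ _ => rfl
  let U : (∀ n, G' n) →+ (∀ n, G n) :=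
    { toFun := fun x n => u n (x n), map_zero' := by ext; simp, map_add' := fun a b => by ext; simp }
  let V : (∀ n, G n) →+ (∀ n, G'' n) :=
    { toFun := fun x n => v n (x n), map_zero' := by ext; simp, map_add' := fun a b => by ext; simp }
  set D' := Formal2.towerDiff G' t'
  set D := Formal2.towerDiff G t
  set D'' := Formal2.towerDiff G'' t''
  have cU : ∀ x, D (U x) = U (D' x) := fun x => funext fun n => by simp [D, D', U, hD, hu]
  have cV : ∀ x, D'' (V x) = V (D x) := fun x => funext fun n => by simp [D'', D, V, hD, hv]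
  have Uinj : Function.Injective U := fun a b h => funext fun n => hinj n (congrFun h n)
  have Vsurj : Function.Surjective V := fun z =>
    ⟨fun n => (hsurj n (z n)).choose, funext fun n => (hsurj n (z n)).choose_spec⟩
  have hUV : ∀ y, V y = 0 ↔ ∃ x, U x = y := by
    intro y
    constructor
    · intro h
      have h' : ∀ n, y n ∈ (u n).range := fun n => hex n ▸ (congrFun h n)
      choose x hx using h'
      exact ⟨x, funext hx⟩
    · rintro ⟨x, rfl⟩
      funext n
      have : u n (x n) ∈ (v n).ker := (hex n).symm ▸ ⟨x n, rfl⟩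
      exact this
  let α : Formal2.limZero G' t' →+ Formal2.limZero G t :=
    (U.comp (Formal2.limZero G' t').subtype).codRestrict _ (fun x => by
      change D (U x.1) = 0
      rw [cU, show D' x.1 = 0 from x.2, map_zero])
  let β : Formal2.limZero G t →+ Formal2.limZero G'' t'' :=
    (V.comp (Formal2.limZero G t).subtype).codRestrict _ (fun x => by
      change D'' (V x.1) = 0
      rw [cV, show D x.1 = 0 from x.2, map_zero])
  let ε : Formal2.limOne G' t' →+ Formal2.limOne G t := QuotientAddGroup.map _ _ U (by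
    rintro _ ⟨x, rfl⟩; exact ⟨U x, cU x⟩)
  let ζ : Formal2.limOne G t →+ Formal2.limOne G'' t'' := QuotientAddGroup.map _ _ V (by
    rintro _ ⟨x, rfl⟩; exact ⟨V x, cV x⟩)
  have hex2 : ∀ z : Formal2.limZero G'' t'', ∃ p : (∀ n, G n) × (∀ n, G' n),
      V p.1 = z.1 ∧ U p.2 = D p.1 := by
    intro z
    obtain ⟨y, hy⟩ := Vsurj z.1
    obtain ⟨w, hw⟩ := (hUV (D y)).1 (by rw [← cV, hy]; exact z.2)
    exact ⟨(y, w), hy, hw⟩
  choose p hp1 hp2 using hex2
  have key : ∀ (z : Formal2.limZero G'' t'') (y : ∀ n, G n) (w : ∀ n, G' n), V y = z.1 → U w = D y →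
      (QuotientAddGroup.mk (p z).2 : Formal2.limOne G' t') = QuotientAddGroup.mk w := by
    intro z y w hy hw
    obtain ⟨x, hx⟩ := (hUV (y - (p z).1)).1 (by rw [map_sub, hy, hp1, sub_self])
    rw [QuotientAddGroup.eq]
    refine ⟨x, Uinj ?_⟩
    rw [← cU, hx, map_sub, map_add, map_neg, hw, hp2]
    abel
  let δ : Formal2.limZero G'' t'' →+ Formal2.limOne G' t' :=
    AddMonoidHom.mk' (fun z => QuotientAddGroup.mk (p z).2) (fun a b => by
      rw [← QuotientAddGroup.mk_add]
      exact key (a + b) ((p a).1 + (p b).1) _ (by simp [hp1]) (by simp [hp2]))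
  refine ⟨α, β, δ, ε, ζ, fun x n => rfl, fun x n => rfl, ?_, fun y => rfl, fun y => rfl,
    ?_, ?_, ?_, ?_, ?_, ?_⟩
  · intro z y w hy hw
    exact key z y w (funext hy) (funext hw)
  · intro a b h
    exact Subtype.ext (Uinj (congrArg Subtype.val h))
  · ext y
    constructor
    · rintro ⟨x, rfl⟩
      exact Subtype.ext ((hUV _).2 ⟨x.1, rfl⟩)
    · intro h
      obtain ⟨x, hx⟩ := (hUV y.1).1 (congrArg Subtype.val (h : β y = 0))
      refine ⟨⟨x, Uinj ?_⟩, Subtype.ext hx⟩
      rw [← cU, hx, map_zero]; exact y.2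
  · ext z
    constructor
    · rintro ⟨y, rfl⟩
      change QuotientAddGroup.mk _ = _
      rw [key (β y) y.1 0 rfl (by rw [map_zero]; exact y.2.symm)]
      rfl
    · intro h
      have h' : (QuotientAddGroup.mk (p z).2 : Formal2.limOne G' t') = 0 := h
      obtain ⟨x, hx⟩ := (QuotientAddGroup.eq_zero_iff _).1 h'
      have e : D ((p z).1 - U x) = 0 := by rw [map_sub, cU, hx, hp2, sub_self]
      refine ⟨⟨(p z).1 - U x, e⟩, Subtype.ext ?_⟩
      change V ((p z).1 - U x) = z.1
      rw [map_sub, hp1, (hUV _).2 ⟨x, rfl⟩, sub_zero]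
  · ext c
    constructor
    · rintro ⟨z, rfl⟩
      change (QuotientAddGroup.mk (U (p z).2) : Formal2.limOne G t) = 0
      exact (QuotientAddGroup.eq_zero_iff _).2 ⟨(p z).1, (hp2 z).symm⟩
    · intro h
      induction c using QuotientAddGroup.induction_on with
      | _ w =>
        obtain ⟨y, hy⟩ := (QuotientAddGroup.eq_zero_iff _).1 (show (QuotientAddGroup.mk (U w) : Formal2.limOne G t) = 0 from h)
        exact ⟨⟨V y, by change D'' _ = 0; rw [cV]; exact (hUV _).2 ⟨w, hy.symm⟩⟩, key _ y w rfl hy.symm⟩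
  · ext c
    constructor
    · rintro ⟨c', rfl⟩
      induction c' using QuotientAddGroup.induction_on with
      | _ w =>
        change (QuotientAddGroup.mk (V (U w)) : Formal2.limOne G'' t'') = 0
        rw [(hUV _).2 ⟨w, rfl⟩]; rfl
    · intro h
      induction c using QuotientAddGroup.induction_on with
      | _ y =>
        obtain ⟨z, hz⟩ := (QuotientAddGroup.eq_zero_iff _).1 (show (QuotientAddGroup.mk (V y) : Formal2.limOne G'' t'') = 0 from h)
        obtain ⟨y', rfl⟩ := Vsurj z
        obtain ⟨x, hx⟩ := (hUV (y - D y')).1 (by rw [map_sub, ← cV, hz, sub_self])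
        refine ⟨QuotientAddGroup.mk x, ?_⟩
        change (QuotientAddGroup.mk (U x) : Formal2.limOne G t) = _
        rw [QuotientAddGroup.eq, hx]
        exact ⟨y', by abel⟩
  · intro c
    induction c using QuotientAddGroup.induction_on with
    | _ z =>
      obtain ⟨y, rfl⟩ := Vsurj z
      exact ⟨QuotientAddGroup.mk y, rfl⟩

end Groth.Agent.S14617
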