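import Groth.Statements.S14619
import Groth.Agent.BCCx.Amplitude
import Groth.Agent.BCCx.Chart
import Groth.Agent.BCCx.Fibre
import Groth.Agent.BCCx.ChartData
import Groth.Agent.TFun.Exact

set_option autoImplicit false
universe u
open Coherent

namespace Groth.Agent.S14619

open CategoryTheory CategoryTheory.Limits AlgebraicGeometry in
/-- Let A be a Noetherian ring, X a proper scheme over Spec A and F a coherent O_X-module flat over Spec
A. Suppose H^p(X, F) = 0 for all p > d and H^p(X_y, F|X_y) = 0 for every point y of Spec A and every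
p < d'. Then there is a cochain complex L of finitely generated projective A-modules, with L^i = 0
unless d' ≤ i ≤ d and with L = 0 when all H^p(X, F) vanish, such that for every A-algebra B and
every p the cohomology H^p(X ×_A Spec B, ξ^*F) of the pulled-back module is isomorphic to H^p(L ⊗_A
B). Only the existence of these isomorphisms of abelian groups is asserted (no naturality in B). -/
theorem result (A : Type u) [CommRing A] [IsNoetherianRing A] (X : Scheme.{u}) [X.Over (Spec (CommRingCat.of A))]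
    [IsProper (X ↘ Spec (CommRingCat.of A))] (F : X.Modules) (hF : Coh.IsCoh F)
    (hfl : FlatMod.IsFlatOver (X ↘ Spec (CommRingCat.of A)) F) (d' d : ℕ)
    (hd : ∀ p : ℕ, d < p → Subsingleton (Coh.HH X F p))
    (hd' : ∀ (y : ↑(Spec (CommRingCat.of A))) (p : ℕ), p < d' →
      Subsingleton (CohIII.fiberH (X ↘ Spec (CommRingCat.of A)) F y p)) :
    ∃ L : CochainComplex (ModuleCat.{u} A) ℤ,
      (∀ i, Module.Finite A (L.X i) ∧ Module.Projective A (L.X i)) ∧
      (∀ i : ℤ, i < (d' : ℤ) ∨ (d : ℤ) < i → IsZero (L.X i)) ∧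
      ((∀ p : ℕ, Subsingleton (Coh.HH X F p)) → ∀ i, IsZero (L.X i)) ∧
      ∀ (B : Type u) [CommRing B] [Algebra A B] (p : ℕ),
        Nonempty (Coh.HH (pullback (X ↘ Spec (CommRingCat.of A)) (Spec.map (CommRingCat.ofHom (algebraMap A B))))
            ((Scheme.Modules.pullback (pullback.fst (X ↘ Spec (CommRingCat.of A))
              (Spec.map (CommRingCat.ofHom (algebraMap A B))))).obj F) p ≃+
          CohIII.T L (p : ℤ) (ModuleCat.of A B)) := by
  haveI : F.IsQuasicoherent := hF.1
  let f := X ↘ Spec (CommRingCat.of A)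
  haveI : CompactSpace X := QuasiCompact.compactSpace_of_compactSpace f
  obtain ⟨N, L, hL, hL0, hz, hm⟩ := BCCx.exists_main' F hF hfl
  have hP : ∀ i, Module.Flat A (L.X i) := fun i => (BCCx.finite_flat hL i).2
  have hneg : ∀ q : ℤ, q < 0 → ∀ M : ModuleCat.{u} A, IsZero ((CohIII.TFun L q).obj M) := fun q hq M => by
    haveI := ModuleCat.isZero_iff_subsingleton.1 (hL0 q hq)
    refine (HomologicalComplex.exactAt_iff_isZero_homology _ _).1 (ShortComplex.exact_of_isZero_X₂ _ ?_)
    show IsZero ((MonoidalCategory.tensorRight M).obj (L.X q))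
    exact (MonoidalCategory.tensorRight M).map_isZero (hL0 q hq)
  let hH : ∀ (p : ℕ) (q : ℤ), (N : ℤ) - q = (p : ℤ) → Nonempty (L.homology q ≃+ Coh.HH X F p) :=
    fun p q hpq => by
      obtain ⟨e, -⟩ := hm p q hpq
      exact ⟨((TFun.obj_self L).symm ≪≫ₗ (e (ModuleCat.of A A)).symm ≪≫ₗ
        (HigherDirect.hhIso (BCCx.rho A F).symm p).symm).toAddEquiv⟩
  have hlo : ∀ q : ℤ, q < max 0 ((N : ℤ) - d) → IsZero (L.homology q) := fun q hq => by
    obtain hlt | hge := lt_or_ge q 0
    · exact IsZero.of_iso (hneg q hlt (ModuleCat.of A A)) (TFun.obj_self L).toModuleIso.symm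
    · obtain hle | hgt := le_or_gt q (N : ℤ)
      · obtain ⟨p, hp⟩ : ∃ p : ℕ, (N : ℤ) - q = (p : ℤ) := ⟨((N : ℤ) - q).toNat, by omega⟩
        obtain ⟨e⟩ := hH p q hp
        haveI := hd p (by omega)
        exact ModuleCat.isZero_iff_subsingleton.2 e.injective.subsingleton
      · exact IsZero.of_iso (hz q hgt (ModuleCat.of A A)) (TFun.obj_self L).toModuleIso.symm
  have hhi : ∀ q : ℤ, (N : ℤ) - d' < q → ∀ M : ModuleCat.{u} A, IsZero ((CohIII.TFun L q).obj M) := fun q hq M => by
    obtain hle | hgt := le_or_gt q (N : ℤ)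
    · obtain ⟨p, hp⟩ : ∃ p : ℕ, (N : ℤ) - q = (p : ℤ) := ⟨((N : ℤ) - q).toNat, by omega⟩
      refine BCCx.isZero_TFun_of_residueFields L hL q (fun x => ?_) M
      obtain ⟨w⟩ := BCCx.nonempty_fibreH (A := A) F x p
      obtain ⟨e, -⟩ := hm p q hp
      haveI := hd' x p (by omega)
      haveI : Subsingleton (Coh.HH X ((BCCx.TA A F).obj (ModuleCat.of A x.asIdeal.ResidueField)) p) :=
        w.symm.injective.subsingleton
      exact ModuleCat.isZero_iff_subsingleton.2 (e _).surjective.subsingleton
    · exact hz q hgt M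
  obtain ⟨L', hL', hsupp, hzero, hiso⟩ : ∃ L' : ChainComplex (ModuleCat.{u} A) ℤ,
      (∀ i, Module.Finite A (L'.X i) ∧ Module.Projective A (L'.X i)) ∧
      (∀ i : ℤ, i < (N : ℤ) - d ∨ (N : ℤ) - d' < i → IsZero (L'.X i)) ∧
      ((∀ q, IsZero (L.homology q)) → ∀ i, IsZero (L'.X i)) ∧
      ∀ q (M : ModuleCat.{u} A), Nonempty ((CohIII.TFun L' q).obj M ≅ (CohIII.TFun L q).obj M) := by
    by_cases hall : ∀ q, IsZero (L.homology q)
    · let Z : ChainComplex (ModuleCat.{u} A) ℤ :=
        { X := fun _ => ModuleCat.of A PUnit.{u + 1}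
          d := fun _ _ => 0 }
      haveI : ∀ i, Subsingleton (Z.X i) := fun i => inferInstanceAs (Subsingleton PUnit.{u + 1})
      refine ⟨Z, fun i => ⟨inferInstance, inferInstance⟩, fun i _ => ModuleCat.isZero_of_subsingleton _,
        fun _ i => ModuleCat.isZero_of_subsingleton _, fun q M => ⟨IsZero.iso ?_ ?_⟩⟩
      · exact (HomologicalComplex.exactAt_iff_isZero_homology _ _).1 (ShortComplex.exact_of_isZero_X₂ _
          ((MonoidalCategory.tensorRight M).map_isZero (ModuleCat.isZero_of_subsingleton (Z.X q))))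
      · have hflat : ∀ n : ℤ, n ≤ max q 0 → Module.Flat A (L.homology n) := fun n _ => by
          haveI := ModuleCat.isZero_iff_subsingleton.1 (hall n)
          infer_instance
        obtain hlt | hge := lt_or_ge q 0
        · exact hneg q hlt M
        · have hc : Module.Flat A (TFun.coker L q (q - 1)) := (TFun.preservesEpi_iff L hP (sub_add_cancel q 1)).1
            (TFun.exact_of_flat_homology L hP 0 hL0 (max q 0) hflat (by omega)).2
          obtain ⟨t, -⟩ := TFun.exists_obj_equiv_tensor L (p := q) rfl (sub_add_cancel q 1) (hP _) M (.inr hc)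
          haveI := ModuleCat.isZero_iff_subsingleton.1 (hall q)
          exact ModuleCat.isZero_iff_subsingleton.2 t.injective.subsingleton
    · have hab : max 0 ((N : ℤ) - d) ≤ (N : ℤ) - d' := by
        by_contra hlt
        refine hall fun q => ?_
        obtain h1 | h1 := lt_or_ge q (max 0 ((N : ℤ) - d))
        · exact hlo q h1
        · exact IsZero.of_iso (hhi q (by omega) (ModuleCat.of A A)) (TFun.obj_self L).toModuleIso.symm
      obtain ⟨L', h1, h2, h3⟩ := BCCx.exists_amplitude L
        (fun i => ⟨(hL i).1, haveI := (hL i).2; Module.Projective.of_free⟩)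
        (fun i hi => ModuleCat.isZero_iff_subsingleton.1 (hL0 i hi)) _ _ (le_max_left 0 _) hab hlo hhi
      exact ⟨L', h1, fun i hi => h2 i (by omega), fun h => absurd h hall, h3⟩
  refine ⟨(BCCx.revF' (N : ℤ)).obj L', fun i => hL' _, fun i hi => hsupp ((N : ℤ) - i) (by omega),
    fun h i => hzero (fun q => ?_) _, fun B _ _ p => ?_⟩
  · obtain hlt | hge := lt_or_ge q 0
    · exact IsZero.of_iso (hneg q hlt (ModuleCat.of A A)) (TFun.obj_self L).toModuleIso.symm
    · obtain hle | hgt := le_or_gt q (N : ℤ)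
      · obtain ⟨k, hk⟩ : ∃ k : ℕ, (N : ℤ) - q = (k : ℤ) := ⟨((N : ℤ) - q).toNat, by omega⟩
        obtain ⟨e⟩ := hH k q hk
        haveI := h k
        exact ModuleCat.isZero_iff_subsingleton.2 e.injective.subsingleton
      · exact IsZero.of_iso (hz q hgt (ModuleCat.of A A)) (TFun.obj_self L).toModuleIso.symm
  let s := Spec.map (CommRingCat.ofHom (algebraMap A B))
  letI : (pullback f s).Over (Spec (CommRingCat.of B)) := ⟨pullback.snd f s⟩
  obtain ⟨b⟩ := BCCx.nonempty_HH_bc (A := A) (K := B) (g := pullback.fst f s) (X' := pullback f s)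
    (IsPullback.of_hasPullback f s) F p
  let R := (ModuleCat.restrictScalars (algebraMap A B)).obj (ModuleCat.of B B)
  let rl : R ≃ₗ[A] B :=
    { toFun := fun x => x, invFun := fun x => x, map_add' := fun _ _ => rfl,
      map_smul' := fun a x => (Algebra.smul_def a (show B from x)).symm }
  let r : R ≅ ModuleCat.of A B := rl.toModuleIso
  obtain ⟨e, -⟩ := hm p ((N : ℤ) - p) (sub_sub_cancel _ _)
  obtain ⟨i⟩ := hiso ((N : ℤ) - p) (ModuleCat.of A B)
  exact ⟨b.trans ((e R).trans (((CohIII.TFun L ((N : ℤ) - p)).mapIso r ≪≫ i.symm ≪≫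
    ((BCCx.revHomIso' (N : ℤ) (p : ℤ)).app (CohIII.tensorObj L' (ModuleCat.of A B))).symm).toLinearEquiv)).toAddEquiv⟩

end Groth.Agent.S14619
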