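import Groth.Statements.S1462
import Groth.Agent.FibreApprox.Props

set_option autoImplicit false
universe u
open FlatMor

namespace Groth.Agent.S1462

open AlgebraicGeometry CategoryTheory Limits in
/-- Let f : X → S be a morphism of finite presentation between affine schemes whose fibres are
geometrically irreducible. Then f is the base change of a morphism of finite type f₀ : X₀ → S₀
between affine schemes with S₀ of finite type over ℤ, where f₀ can be chosen with the same property. -/
theorem result {X S : Scheme.{u}} (f : X ⟶ S) [IsAffine X] [IsAffine S] [LocallyOfFinitePresentation f] [GeometricallyIrreducible f] :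
    ∃ (X₀ S₀ : Scheme.{u}) (f₀ : X₀ ⟶ S₀) (g : S ⟶ S₀) (g' : X ⟶ X₀), IsAffine X₀ ∧ IsAffine S₀ ∧ IsPullback g' f f₀ g ∧
      Algebra.FiniteType ℤ Γ(S₀, ⊤) ∧ LocallyOfFiniteType f₀ ∧ GeometricallyIrreducible f₀ := by
  obtain ⟨X₀, S₀, f₀, g, g', h1, h2, h3, h4, h5, -, h6⟩ :=
    Groth.Agent.FibreApprox.exists_approx_forall (fun _ _ f => {y | MoreMor.nGeomIrredComp f y = 1})
      (fun _ _ _ _ f g f' g' h _ y => by
        show _ = 1 ↔ _ = 1
        rw [Groth.Agent.GeomComp.nGeomIrredComp_baseChange h y])
      (fun _ _ f hf hq hs => haveI := hf; haveI := hq; haveI := hs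
        Groth.Agent.GeomComp.isLocallyConstructible_counts f {p | p.1 = 1})
      f ((Groth.Agent.FibreApprox.geometricallyIrreducible_iff_forall f).1 ‹_›)
  exact ⟨X₀, S₀, f₀, g, g', h1, h2, h3, h4, h5, (Groth.Agent.FibreApprox.geometricallyIrreducible_iff_forall f₀).2 h6⟩

end Groth.Agent.S1462
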