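import Groth.Statements.S14620
import Groth.Agent.S0505
import Mathlib.FieldTheory.PurelyInseparable.Basic

set_option autoImplicit false
universe u
open Hensel

namespace Groth.Agent.S14620

/-- In the strictly henselian case, let f : A → B be a finite local homomorphism of local rings. If A is
strictly henselian (henselian local with separably closed residue field), then so is B. -/
theorem result {A B : Type u} [CommRing A] [IsLocalRing A]
    [CommRing B] [IsLocalRing B] (f : A →+* B) (hf : f.Finite) [IsLocalHom f]
    (hA : EtCoh.IsStrictlyHenselianLocalRing A) : EtCoh.IsStrictlyHenselianLocalRing B := by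
  obtain ⟨hA₁, hA₂⟩ := hA
  letI := f.toAlgebra
  haveI : Module.Finite A B := hf
  haveI := hA₁
  haveI : IsLocalHom (algebraMap A B) := ‹IsLocalHom f›
  refine ⟨Groth.Agent.S0505.result A B, ?_⟩
  haveI : IsSepClosed (IsLocalRing.ResidueField A) := hA₂
  haveI : Algebra.IsAlgebraic (IsLocalRing.ResidueField A) (IsLocalRing.ResidueField B) :=
    Algebra.IsAlgebraic.of_finite _ _
  exact Algebra.IsAlgebraic.isSepClosed (F := IsLocalRing.ResidueField A)

end Groth.Agent.S14620
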