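import Groth.Statements.S14621
import Mathlib.CategoryTheory.Sites.Limits
import Mathlib.CategoryTheory.Limits.Types.Filtered

set_option autoImplicit false
open CategoryTheory CategoryTheory.Limits
universe u
open CohSite

namespace Groth.Agent.S14621

/-- Let C be a small category with pullbacks and J a Grothendieck topology on C in which every object is
quasi-compact in the site sense (every covering sieve contains finitely many morphisms which already
generate a covering sieve). Then for every small filtered category I the inclusion of sheaves of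
sets on (C, J) into presheaves preserves colimits of shape I: filtered colimits of sheaves are
computed objectwise. (Only sheaves of sets are stated; the same holds for sheaves of abelian groups
or modules. All pullbacks in C are assumed.) -/
theorem result {C : Type u} [SmallCategory C]
    [HasPullbacks C] (J : GrothendieckTopology C) (hJ : ∀ U : C, ToposFin.IsQCSite J U)
    (I : Type u) [SmallCategory I] [IsFiltered I] :
    PreservesColimitsOfShape I (sheafToPresheaf J (Type u)) := by
  open Opposite CategoryTheory.Limits in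
  refine ⟨fun {G} => ?_⟩
  suffices CreatesColimit G (sheafToPresheaf J (Type u)) from inferInstance
  refine Sheaf.createsColimitOfIsSheaf _ (fun c hc => ?_)
  rw [isSheaf_iff_isSheaf_of_type]
  let P := fun i => (G.obj i).obj
  have hP : ∀ i, Presieve.IsSheaf J (P i) := fun i => (isSheaf_iff_isSheaf_of_type _ _).1 (G.obj i).property
  have hX : ∀ X : C, IsColimit (((evaluation Cᵒᵖ (Type u)).obj (op X)).mapCocone c) := fun X =>
    isColimitOfPreserves _ hc
  have rep : ∀ (X : C) (x : c.pt.obj (op X)), ∃ (i : I) (z : (P i).obj (op X)),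
      (c.ι.app i).app (op X) z = x := fun X x => Types.jointly_surjective _ (hX X) x
  have push : ∀ {X : C} {i k : I} (a : i ⟶ k) (z : (P i).obj (op X)),
      (c.ι.app k).app (op X) ((G.map a).hom.app (op X) z) = (c.ι.app i).app (op X) z :=
    fun {X i k} a z => ConcreteCategory.congr_hom
      (congrArg (fun m : NatTrans _ _ => m.app (op X)) (c.w a)) z
  have eqv : ∀ (X : C) {i k : I} (z : (P i).obj (op X)) (z' : (P k).obj (op X)),
      (c.ι.app i).app (op X) z = (c.ι.app k).app (op X) z' → ∃ (l : I) (a : i ⟶ l) (b : k ⟶ l),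
        (G.map a).hom.app (op X) z = (G.map b).hom.app (op X) z' := fun X {i k} z z' h =>
    (Types.FilteredColimit.isColimit_eq_iff _ (hX X)).1 h
  have nat : ∀ {X Y : C} (i : I) (g : Y ⟶ X) (z : (P i).obj (op X)),
      c.pt.map g.op ((c.ι.app i).app (op X) z) = (c.ι.app i).app (op Y) ((P i).map g.op z) :=
    fun i g z => ((c.ι.app i).naturality_apply g.op z).symm
  have nat' : ∀ {X Y : C} {i k : I} (a : i ⟶ k) (g : Y ⟶ X) (z : (P i).obj (op X)),
      (G.map a).hom.app (op Y) ((P i).map g.op z) = (P k).map g.op ((G.map a).hom.app (op X) z) :=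
    fun a g z => (G.map a).hom.naturality_apply g.op z
  have fin : ∀ {ι : Type} [Finite ι] (i : I) (k : ι → I) (a : ∀ q, i ⟶ k q),
      ∃ (l : I) (b : i ⟶ l) (d : ∀ q, k q ⟶ l), ∀ q, a q ≫ d q = b := fun {ι} _ i k a => by
    classical
    cases nonempty_fintype ι
    let O : Finset I := insert i (Finset.univ.image k)
    have hi : i ∈ O := Finset.mem_insert_self _ _
    have hk : ∀ q, k q ∈ O := fun q => Finset.mem_insert_of_mem (Finset.mem_image_of_mem k (Finset.mem_univ q))
    let H : Finset (Σ' (X Y : I) (_ : X ∈ O) (_ : Y ∈ O), X ⟶ Y) :=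
      Finset.univ.image fun q => ⟨i, k q, hi, hk q, a q⟩
    obtain ⟨l, T, hT⟩ := IsFiltered.sup_exists O H
    exact ⟨l, T hi, fun q => T (hk q), fun q => hT hi (hk q) (Finset.mem_image_of_mem _ (Finset.mem_univ q))⟩
  have sep : ∀ (X : C) (S : Sieve X), S ∈ J X → ∀ x y : c.pt.obj (op X),
      (∀ ⦃Y⦄ (g : Y ⟶ X), S g → c.pt.map g.op x = c.pt.map g.op y) → x = y := by
    intro X S hS x y h
    obtain ⟨n, V, g, hg, hcov⟩ := hJ X S hS
    obtain ⟨i, zx, rfl⟩ := rep X x
    obtain ⟨i', zy, rfl⟩ := rep X y
    let m := IsFiltered.max i i'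
    let zx' := (G.map (IsFiltered.leftToMax i i')).hom.app (op X) zx
    let zy' := (G.map (IsFiltered.rightToMax i i')).hom.app (op X) zy
    rw [← push (IsFiltered.leftToMax i i') zx, ← push (IsFiltered.rightToMax i i') zy] at h ⊢
    have hk : ∀ q, ∃ (l : I) (a : m ⟶ l),
        (G.map a).hom.app _ ((P m).map (g q).op zx') = (G.map a).hom.app _ ((P m).map (g q).op zy') := by
      intro q
      obtain ⟨l, a, b, hab⟩ := eqv (V q) ((P m).map (g q).op zx') ((P m).map (g q).op zy')
        ((nat m (g q) zx').symm.trans ((h (g q) (hg q)).trans (nat m (g q) zy')))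
      refine ⟨IsFiltered.coeq a b, a ≫ IsFiltered.coeqHom a b, ?_⟩
      conv_rhs => rw [IsFiltered.coeq_condition]
      simp only [Functor.map_comp, ObjectProperty.FullSubcategory.comp_hom, NatTrans.comp_app, ConcreteCategory.comp_apply]
      exact congrArg _ hab
    choose l a hla using hk
    obtain ⟨L, b, d, hd⟩ := fin m l a
    have : (G.map b).hom.app (op X) zx' = (G.map b).hom.app (op X) zy' := by
      refine ((hP L) _ hcov).isSeparatedFor.ext ?_
      rintro Z _ ⟨_, e, _, ⟨q⟩, rfl⟩
      rw [op_comp, Functor.map_comp_apply, Functor.map_comp_apply, ← nat' b (g q) zx', ← nat' b (g q) zy']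
      refine congrArg _ ?_
      rw [← hd q]
      simp only [Functor.map_comp, ObjectProperty.FullSubcategory.comp_hom, NatTrans.comp_app, ConcreteCategory.comp_apply]
      exact congrArg _ (hla q)
    rw [← push b zx', ← push b zy', this]
  intro X S hS x hx
  obtain ⟨n, V, g, hg, hcov⟩ := hJ X S hS
  choose i z hz using fun q => rep (V q) (x (g q) (hg q))
  classical
  obtain ⟨m₀, hm₀⟩ := IsFiltered.sup_objs_exists (Finset.univ.image i)
  let a₀ : ∀ q, i q ⟶ m₀ := fun q => (hm₀ (Finset.mem_image_of_mem i (Finset.mem_univ q))).some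
  let z₀ : ∀ q, (P m₀).obj (op (V q)) := fun q => (G.map (a₀ q)).hom.app _ (z q)
  have hz₀ : ∀ q, (c.ι.app m₀).app _ (z₀ q) = x (g q) (hg q) := fun q => (push (a₀ q) (z q)).trans (hz q)
  have hk : ∀ p : Fin n × Fin n, ∃ (l : I) (a : m₀ ⟶ l),
      (G.map a).hom.app _ ((P m₀).map (pullback.fst (g p.1) (g p.2)).op (z₀ p.1)) =
        (G.map a).hom.app _ ((P m₀).map (pullback.snd (g p.1) (g p.2)).op (z₀ p.2)) := by
    intro p
    obtain ⟨l, a, b, hab⟩ := eqv _ ((P m₀).map (pullback.fst (g p.1) (g p.2)).op (z₀ p.1))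
      ((P m₀).map (pullback.snd (g p.1) (g p.2)).op (z₀ p.2)) (by
        rw [← nat, ← nat, hz₀, hz₀]
        exact hx _ _ (hg p.1) (hg p.2) pullback.condition)
    refine ⟨IsFiltered.coeq a b, a ≫ IsFiltered.coeqHom a b, ?_⟩
    conv_rhs => rw [IsFiltered.coeq_condition]
    simp only [Functor.map_comp, ObjectProperty.FullSubcategory.comp_hom, NatTrans.comp_app, ConcreteCategory.comp_apply]
    exact congrArg _ hab
  choose l a hla using hk
  obtain ⟨L, b, d, hd⟩ := fin m₀ l a
  have hsh := (Presieve.isSheafFor_arrows_iff (P L) g).1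
    ((Presieve.isSheafFor_iff_generate _).2 ((hP L) _ hcov)) (fun q => (G.map b).hom.app _ (z₀ q))
    (fun q r Z gq gr hqr => by
      have e : ∀ (p : Fin n × Fin n),
          (P L).map (pullback.fst (g p.1) (g p.2)).op ((G.map b).hom.app _ (z₀ p.1)) =
            (P L).map (pullback.snd (g p.1) (g p.2)).op ((G.map b).hom.app _ (z₀ p.2)) := fun p => by
        rw [← nat' b (pullback.fst (g p.1) (g p.2)) (z₀ p.1), ← nat' b (pullback.snd (g p.1) (g p.2)) (z₀ p.2),
          ← hd p]
        simp only [Functor.map_comp, ObjectProperty.FullSubcategory.comp_hom, NatTrans.comp_app, ConcreteCategory.comp_apply]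
        exact congrArg _ (hla p)
      have := congrArg ((P L).map (pullback.lift gq gr hqr).op) (e (q, r))
      rwa [← Functor.map_comp_apply, ← Functor.map_comp_apply, ← op_comp, ← op_comp,
        pullback.lift_fst, pullback.lift_snd] at this)
  obtain ⟨t, ht, -⟩ := hsh
  refine ⟨(c.ι.app L).app _ t, fun Y h hh => ?_, fun t' ht' => ?_⟩
  · refine sep Y _ (J.pullback_stable h hcov) _ _ fun Z e he => ?_
    obtain ⟨_, w, _, ⟨q⟩, hw⟩ := he
    rw [← Functor.map_comp_apply, ← op_comp, ← hw, op_comp, Functor.map_comp_apply, nat L (g q) t,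
      ht q, push, hz₀]
    exact hx w e (hg q) hh hw
  · refine sep X _ hcov _ _ fun Z e he => ?_
    obtain ⟨_, w, _, ⟨q⟩, rfl⟩ := he
    rw [op_comp, Functor.map_comp_apply, Functor.map_comp_apply, ht' (g q) (hg q), nat L (g q) t,
      ht q, push, hz₀]

end Groth.Agent.S14621
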