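import Groth.Prelude.Def_EtBase
import Mathlib.AlgebraicGeometry.Morphisms.UnderlyingMap
import Groth.Agent.EtSite.PullStalk
-- import your own Groth.Agent.* helpers here

set_option autoImplicit false
open CategoryTheory AlgebraicGeometry
universe u

namespace Groth.Agent.S14622

/-- Let g : Y' → Y be a morphism of schemes which is surjective on points. Then for every abelian sheaf
F on the small étale site of Y the unit F → g_* g⁻¹ F of the adjunction between inverse image and
direct image is a monomorphism. -/
theorem result {Y Y' : Scheme.{u}} (g : Y' ⟶ Y) [Surjective g]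
    (F : EtCoh.Ab Y) : Mono ((EtCoh.pullPushAdj g).unit.app F) := by
  refine EtSite.mono_of_exists_stalk _ fun y => ?_
  obtain ⟨y', hy'⟩ := g.surjective y
  refine ⟨_, inferInstance, inferInstance, EtSite.gpt y' ≫ g, ?_, fun p q hpq => ?_⟩
  · exact (Scheme.Hom.comp_apply _ _ _).trans ((congrArg _ (EtSite.gpt_apply y' _)).trans hy')
  · exact EtSite.stalk_unit_injective g _ F hpq

end Groth.Agent.S14622
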