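import Groth.Statements.S14623
import Groth.Agent.DerAdj.Basic

set_option autoImplicit false
open CategoryTheory CategoryTheory.Limits
universe w v u
open CohDer

namespace Groth.Agent.S14623

theorem exists_resolution {A : Type*} [Category* A] [Abelian A] [HasDerivedCategory A] [EnoughInjectives A]
    (Y : HomotopyCategory.Plus A) :
    ∃ (I : HomotopyCategory.Plus A) (s : Y ⟶ I), HomotopyCategory.Plus.quasiIso A s ∧
      ∀ X, Function.Bijective (DerivedCategory.Plus.Qh.map : (X ⟶ I) → _) := by
  obtain ⟨K, rfl⟩ := HomotopyCategory.Plus.quotient_obj_surjective Y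
  obtain ⟨n, hn⟩ := K.property
  haveI := hn
  obtain ⟨L, hL, i, hi⟩ := CochainComplex.Plus.exists_quasiIso_injective K n
  refine ⟨_, (HomotopyCategory.Plus.quotient A).map i,
    (HomotopyCategory.quotient_map_mem_quasiIso_iff i.hom).2 hi,
    fun X => DerivedCategory.Plus.Qh_map_bijective_of_isKInjective _ _ ?_⟩
  haveI := hL
  haveI : ∀ m, Injective ((((InjectiveObject.ι A).mapCochainComplexPlus).obj L).obj.X m) :=
    fun m => (L.obj.X m).property
  haveI : CochainComplex.IsStrictlyGE (((InjectiveObject.ι A).mapCochainComplexPlus).obj L).obj n :=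
    inferInstanceAs (CochainComplex.IsStrictlyGE
      (((InjectiveObject.ι A).mapHomologicalComplex (ComplexShape.up ℤ)).obj L.obj) n)
  exact CochainComplex.isKInjective_of_injective
    (((InjectiveObject.ι A).mapCochainComplexPlus).obj L).obj n

/-- Let A and B be abelian categories with enough injectives, L : A ⥤ B an exact additive functor and R
: B ⥤ A an additive right adjoint of L. Then on bounded below derived categories the functor induced
by L (written as its total right derived functor, L being exact) is left adjoint to the right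
derived functor of R; the existence of an adjunction is asserted. -/
theorem result {A B : Type u} [Category.{v} A] [Category.{v} B]
    [Abelian A] [Abelian B] [HasDerivedCategory.{w} A] [HasDerivedCategory.{w} B]
    [EnoughInjectives A] [EnoughInjectives B] {L : A ⥤ B} {R : B ⥤ A} (adj : L ⊣ R)
    [L.Additive] [R.Additive] [PreservesFiniteLimits L] [PreservesFiniteColimits L] :
    Nonempty (L.rightDerivedFunctorPlus ⊣ R.rightDerivedFunctorPlus) := by
  let hK := Groth.Agent.DerAdj.mapHomotopyCategoryAdj adj
  let adjP : L.mapHomotopyCategoryPlus ⊣ R.mapHomotopyCategoryPlus :=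
    hK.restrictFullyFaithful (HomotopyCategory.plus A).fullyFaithfulι (HomotopyCategory.plus B).fullyFaithfulι
      (Iso.refl _) (Iso.refl _)
  let WA := HomotopyCategory.Plus.quasiIso A
  let WB := HomotopyCategory.Plus.quasiIso B
  have hinv : WA.IsInvertedBy (L.mapHomotopyCategoryPlus ⋙ DerivedCategory.Plus.Qh) := fun X Y f hf => by
    haveI := Localization.inverts DerivedCategory.Qh (HomotopyCategory.quasiIso A (ComplexShape.up ℤ)) f.hom hf
    haveI h1 : IsIso ((L.mapHomotopyCategory (ComplexShape.up ℤ) ⋙ DerivedCategory.Qh).map f.hom) :=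
      (NatIso.isIso_map_iff L.mapDerivedCategoryFactorsh f.hom).1
        (inferInstanceAs (IsIso (L.mapDerivedCategory.map (DerivedCategory.Qh.map f.hom))))
    haveI : IsIso (DerivedCategory.Plus.ι.map ((L.mapHomotopyCategoryPlus ⋙ DerivedCategory.Plus.Qh).map f)) := h1
    exact isIso_of_reflects_iso _ DerivedCategory.Plus.ι
  let α := L.rightDerivedFunctorPlusUnit
  let β := R.rightDerivedFunctorPlusUnit
  haveI : IsIso α :=
    Functor.isIso_of_isRightDerivedFunctor_of_inverts L.rightDerivedFunctorPlus α hinv
  haveI : L.rightDerivedFunctorPlus.IsLeftDerivedFunctor (inv α) WA :=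
    Functor.isLeftDerivedFunctor_of_inverts WA _ (asIso α).symm
  haveI : (L.rightDerivedFunctorPlus ⋙ R.rightDerivedFunctorPlus).IsLeftDerivedFunctor
      ((Functor.associator _ _ _).inv ≫ Functor.whiskerRight (inv α) R.rightDerivedFunctorPlus) WA :=
    Functor.isLeftDerivedFunctor_of_inverts WA _
      ((Functor.associator _ _ _).symm ≪≫ Functor.isoWhiskerRight (asIso α).symm _)
  haveI : (R.rightDerivedFunctorPlus ⋙ L.rightDerivedFunctorPlus).IsRightDerivedFunctor
      (Functor.whiskerRight β L.rightDerivedFunctorPlus ≫ (Functor.associator _ _ _).hom) WB :=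
    Groth.Agent.DerAdj.isRightDerivedFunctor_comp DerivedCategory.Plus.Qh WB exists_resolution _ β _
  exact ⟨adjP.derived WA WB (inv α) β⟩


end Groth.Agent.S14623
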