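import Groth.Prelude.Def_EtGm
import Mathlib.Data.ZMod.Basic
import Groth.Agent.EtSite.MuConst
-- import your own Groth.Agent.* helpers here

set_option autoImplicit false
open CategoryTheory AlgebraicGeometry
universe u

namespace Groth.Agent.S14625

/-- Let A be a strictly henselian local ring, n ≥ 1 an integer invertible in A, and X a scheme over Spec
A. Then the étale sheaf μ_n of n-th roots of unity on X is isomorphic to the constant sheaf with
value ℤ/n. Only the existence of an isomorphism is asserted; it depends on the choice of a primitive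
n-th root of unity in A. -/
theorem result (A : Type u) [CommRing A]
    (hA : EtCoh.IsStrictlyHenselianLocalRing A) (n : ℕ) (hn : 1 ≤ n) (hu : IsUnit (n : A))
    (X : Scheme.{u}) (f : X ⟶ Spec (CommRingCat.of A)) :
    Nonempty (EtCoh.mu X n ≅ EtCoh.const X (ZMod n)) := by
  obtain ⟨_, _⟩ := hA
  let k := IsLocalRing.ResidueField A
  let π : A →+* k := IsLocalRing.residue A
  have hnk : (n : k) ≠ 0 := by
    rw [← map_natCast π n]
    exact (hu.map π).ne_zero
  have : NeZero (n : k) := ⟨hnk⟩
  have hsep : (Polynomial.cyclotomic n k).Separable := Polynomial.separable_cyclotomic n k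
  obtain ⟨a₀, ha₀⟩ := IsSepClosed.exists_root (Polynomial.cyclotomic n k)
    (Polynomial.degree_cyclotomic_pos n k hn).ne' hsep
  obtain ⟨b, rfl⟩ := IsLocalRing.residue_surjective a₀
  have hb : π ((Polynomial.cyclotomic n A).eval b) = 0 := by
    rw [← Polynomial.eval₂_at_apply, ← Polynomial.eval_map, Polynomial.map_cyclotomic]
    exact ha₀
  have hd : IsUnit ((Polynomial.cyclotomic n A).derivative.eval b) := by
    refine (IsLocalRing.residue_ne_zero_iff_isUnit _).1 ?_
    rw [← Polynomial.eval₂_at_apply, ← Polynomial.eval_map, ← Polynomial.derivative_map,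
      Polynomial.map_cyclotomic]
    exact hsep.eval₂_derivative_ne_zero (RingHom.id k) ha₀
  obtain ⟨a, ha, -⟩ := HenselianLocalRing.is_henselian (Polynomial.cyclotomic n A)
    (Polynomial.cyclotomic.monic n A) b ((IsLocalRing.residue_eq_zero_iff _).1 hb) hd
  have ha' : Polynomial.aeval a (Polynomial.cyclotomic n ℤ) = 0 := by
    rw [← Polynomial.map_cyclotomic_int n A, Polynomial.IsRoot, Polynomial.eval_map] at ha
    rw [Polynomial.aeval_def]
    exact ha
  let g : A →+* Γ(X, ⊤) := ((Scheme.ΓSpecIso (CommRingCat.of A)).inv ≫ f.appTop).hom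
  exact EtSite.MuConst.nonempty_iso hn (by simpa only [map_natCast] using hu.map g)
    (EtSite.MuConst.aeval_map g ha')

end Groth.Agent.S14625
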