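import Groth.Prelude.Def_EtBase
import Mathlib.AlgebraicGeometry.Morphisms.QuasiSeparated
import Groth.Agent.EtSite.PushEpi
-- import your own Groth.Agent.* helpers here

set_option autoImplicit false
open CategoryTheory AlgebraicGeometry
universe u

namespace Groth.Agent.S14631

/-- Let X be a quasi-separated scheme and U an étale X-scheme. Then there is a jointly surjective family
of étale U-schemes each of which is quasi-compact and quasi-separated, hence of finite presentation,
over X. (Sheaves on the small étale site are therefore determined by their values on étale X-schemes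
of finite presentation; that equivalence is not stated here.) -/
theorem result (X : Scheme.{u})
    [QuasiSeparatedSpace ↥X] (U : X.Etale) :
    ∃ (ι : Type u) (V : ι → Over U), (∀ i, QuasiCompact (V i).left.hom ∧ QuasiSeparated (V i).left.hom) ∧
      ∀ x : ↥(U.left), ∃ (i : ι) (y : ↥((V i).left.left)), (V i).hom.left.base y = x := by
  choose W hW hxW hsub using fun x : U.left =>
    exists_isAffineOpen_mem_and_subset (U := (⊤ : U.left.Opens)) (x := x) trivial
  have hU : Etale U.hom := U.prop
  let V : U.left → Over U := fun x =>
    Over.mk (MorphismProperty.Over.homMk (W x).ι rfl : Scheme.Etale.mk ((W x).ι ≫ U.hom) ⟶ U)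
  refine ⟨U.left, V, fun x => ?_, fun x => ⟨x, ⟨x, hxW x⟩, rfl⟩⟩
  have : IsAffine (W x : Scheme.{u}) := hW x
  let h : (W x : Scheme.{u}) ⟶ X := (W x).ι ≫ U.hom
  exact ⟨(inferInstance : QuasiCompact h), (inferInstance : QuasiSeparated h)⟩

end Groth.Agent.S14631
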