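import Groth.Statements.S14639
import Mathlib
-- import your own Groth.Agent.* helpers here

set_option autoImplicit false
universe u
open Polynomial
open AlgGrp

namespace Groth.Agent.S14639

open Polynomial in
theorem key {k : Type u} [Field k] [CharZero k] {B : Type u} [CommRing B] [Nontrivial B] [Algebra k B] (u : B) (N : ℕ)
    (hu : u ^ (N + 1) = 0) (hsplit : ∀ b : B, ∃ κ : k, ∃ b', b = algebraMap k B κ + u * b')
    (A : Subalgebra k B) (σ : B →ₐ[k] B) (hσ : σ u * (1 + u) = u) (hA : A.map σ ≤ A) :
    ∃ n : ℕ, 1 ≤ n ∧ n ≤ N + 1 ∧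
      Subalgebra.toSubmodule A = Submodule.span k {1} ⊔ (Ideal.span {u ^ n}).restrictScalars k := by
  classical
  have hnil : ∀ b, IsNilpotent (u * b) := fun b => ⟨N + 1, by rw [mul_pow, hu, zero_mul]⟩
  have hP : ∃ m, 1 ≤ m ∧ (∃ w, u ^ m * w ∈ A ∧ IsUnit w) := ⟨N + 1, by omega, 1, by rw [hu, zero_mul]; exact A.zero_mem, isUnit_one⟩
  set n := Nat.find hP with hn
  obtain ⟨hn1, hw⟩ := Nat.find_spec hP
  have hnN : n ≤ N + 1 := Nat.find_min' hP ⟨by omega, 1, by rw [hu, zero_mul]; exact A.zero_mem, isUnit_one⟩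
  obtain ⟨v, hv⟩ : ∃ v, (1 + u) * v = 1 := by
    have : IsUnit (1 + u * 1) := (hnil 1).isUnit_one_add
    rw [mul_one] at this
    exact this.exists_right_inv
  have hσu : σ u = u * v := by linear_combination (-σ u) * hv + v * hσ
  have hall : ∀ j, ∃ w, u ^ (n + j) * w ∈ A ∧ IsUnit w := by
    intro j
    induction j with
    | zero => exact hw
    | succ j ih =>
      obtain ⟨w, hwA, hwu⟩ := ih
      obtain ⟨c, h, hh⟩ := hsplit w
      obtain ⟨c', h', hh'⟩ := hsplit h
      have hsub : σ (u ^ (n + j) * w) - u ^ (n + j) * w ∈ A :=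
        A.sub_mem (hA ⟨_, hwA, rfl⟩) hwA
      obtain ⟨P, hPv⟩ : ∃ P, v ^ (n + j) = 1 - ((n + j : ℕ) : B) * u + u ^ 2 * P := by
        have hv1 : v = 1 - u + u ^ 2 * v := by linear_combination (1 - u) * hv
        generalize n + j = m
        induction m with
        | zero => exact ⟨0, by simp⟩
        | succ m ihm =>
          obtain ⟨P, hP⟩ := ihm
          refine ⟨(m : B) + P - u * P + v * (1 - (m : B) * u + u ^ 2 * P), ?_⟩
          rw [pow_succ, hP]
          conv_lhs => arg 2; rw [hv1]
          push_cast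
          ring
      have hcne : c ≠ 0 := fun h0 => by
        rw [hh, h0, map_zero, zero_add] at hwu
        exact (hnil h).not_isUnit hwu
      refine ⟨algebraMap k B (-((n + j : ℕ) : k) * c) + u *
        (P * algebraMap k B c - ((n + j : ℕ) : B) * v * σ h + u * P * v * σ h - v * algebraMap k B c'
          + v * v * σ h' - h'), ?_, ?_⟩
      · have hv1 : v = 1 - u * v := by linear_combination hv
        have hσh : σ h = algebraMap k B c' + u * v * σ h' := by rw [hh', map_add, AlgHom.commutes, map_mul, hσu]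
        convert hsub using 1
        simp only [map_mul, map_pow, hσu, mul_pow, hPv, hh, map_add, AlgHom.commutes, map_neg, map_natCast]
        rw [← add_assoc, pow_succ]
        linear_combination (-(u ^ (n + j) * u * v)) * hσh + (u ^ (n + j) * u) * hh' - (u ^ (n + j) * u * algebraMap k B c') * hv1
      · refine (hnil _).isUnit_add_left_of_commute ?_ (Commute.all _ _)
        exact (isUnit_iff_ne_zero.mpr (mul_ne_zero (neg_ne_zero.mpr (Nat.cast_ne_zero.mpr (by omega))) hcne)).map _
  have hideal : ∀ d j, n + j + d = N + 1 → ∀ b, u ^ (n + j) * b ∈ A := by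
    intro d
    induction d with
    | zero => intro j hj b; rw [show n + j = N + 1 by omega, hu, zero_mul]; exact A.zero_mem
    | succ d ih =>
      intro j hj b
      obtain ⟨w, hwA, hwu⟩ := hall j
      obtain ⟨c, h, hh⟩ := hsplit (b * ↑hwu.unit⁻¹)
      have hb : b = algebraMap k B c * w + u * (h * w) := by
        have e := hwu.val_inv_mul
        linear_combination w * hh - b * e
      rw [hb, mul_add, ← mul_assoc, mul_comm (u ^ (n + j)) (algebraMap k B c), mul_assoc, ← mul_assoc (u ^ (n + j)) u,
        ← pow_succ]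
      exact A.add_mem (A.mul_mem (A.algebraMap_mem c) hwA) (ih (j + 1) (by omega) _)
  refine ⟨n, hn1, hnN, le_antisymm ?_ ?_⟩
  · intro a ha
    obtain ⟨c, h, hh⟩ := hsplit a
    have huh : u * h ∈ A := by
      rw [show u * h = a - algebraMap k B c by rw [hh]; ring]
      exact A.sub_mem ha (A.algebraMap_mem c)
    have hmem : ∀ (d m : ℕ), m + d = n → ∀ b, 1 ≤ m → u ^ m * b ∈ A → u ^ m * b ∈ Ideal.span {u ^ n} := by
      intro d
      induction d with
      | zero => intro m hm b _ _; rw [← hm, add_zero]; exact Ideal.mem_span_singleton.mpr (dvd_mul_right _ _)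
      | succ d ih =>
        intro m hm b hm1 hb
        obtain ⟨c, h, hh⟩ := hsplit b
        by_cases hc : c = 0
        · rw [hh, hc, map_zero, zero_add, ← mul_assoc, ← pow_succ] at hb ⊢
          exact ih (m + 1) (by omega) h (by omega) hb
        · exfalso
          have : n ≤ m := Nat.find_min' hP ⟨hm1, b, hb, by
            rw [hh]
            exact (hnil h).isUnit_add_left_of_commute ((isUnit_iff_ne_zero.mpr hc).map _) (Commute.all _ _)⟩
          omega
    refine Submodule.mem_sup.mpr ⟨algebraMap k B c, ?_, u * h, ?_, hh.symm⟩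
    · rw [Algebra.algebraMap_eq_smul_one]; exact Submodule.smul_mem _ _ (Submodule.mem_span_singleton_self 1)
    · have := hmem (n - 1) 1 (by omega) h le_rfl (by rwa [pow_one])
      rwa [pow_one] at this
  · refine sup_le ((Submodule.span_singleton_le_iff_mem _ _).mpr A.one_mem) fun b hb => ?_
    obtain ⟨c, rfl⟩ := Ideal.mem_span_singleton'.mp hb
    rw [mul_comm]
    exact hideal (N + 1 - n) 0 (by omega) c

/-- Classification of the subalgebras of a truncated polynomial ring that are stable under the unipotent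
substitutions, which is the algebraic step behind the classification of curves almost homogeneous
under the additive group in characteristic zero. Let k be a field of characteristic zero, N ≥ 0 and
R = k[u]/(u^(N+1)). The additive group acts on R through the substitutions u ↦ u/(1 + a u), a in k.
If A is a k-subalgebra of R stable under all these substitutions (stated for every k-algebra
endomorphism σ of R with σ(u)(1 + a u) = u for some a in k), then there is an integer n with 1 ≤ n ≤
N + 1 such that A = k ⊕ (u^n): as a k-subspace, A is the span of 1 plus the ideal generated by u^n.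
(In positive characteristic p and for N ≥ p + 1, the subalgebra generated by u^p is stable and not
of this form.) -/
theorem result (k : Type u) [Field k] [CharZero k]
    (N : ℕ) (A : Subalgebra k (AdjoinRoot ((Polynomial.X : Polynomial k) ^ (N + 1))))
    (hA : ∀ (a : k) (σ : AdjoinRoot ((Polynomial.X : Polynomial k) ^ (N + 1)) →ₐ[k] AdjoinRoot ((Polynomial.X : Polynomial k) ^ (N + 1))),
      σ (AdjoinRoot.root ((Polynomial.X : Polynomial k) ^ (N + 1))) * (1 + algebraMap k (AdjoinRoot ((Polynomial.X : Polynomial k) ^ (N + 1))) a * AdjoinRoot.root ((Polynomial.X : Polynomial k) ^ (N + 1))) = AdjoinRoot.root ((Polynomial.X : Polynomial k) ^ (N + 1)) →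
        A.map σ ≤ A) :
    ∃ n : ℕ, 1 ≤ n ∧ n ≤ N + 1 ∧
      Subalgebra.toSubmodule A =
        Submodule.span k {1} ⊔ (Ideal.span {AdjoinRoot.root ((Polynomial.X : Polynomial k) ^ (N + 1)) ^ n}).restrictScalars k := by
  have hu0 : (AdjoinRoot.root ((Polynomial.X : Polynomial k) ^ (N + 1))) ^ (N + 1) = 0 := by
    have := AdjoinRoot.mk_self (f := ((Polynomial.X : Polynomial k) ^ (N + 1)))
    rwa [map_pow, AdjoinRoot.mk_X] at this
  have hsplit : ∀ b, ∃ κ : k, ∃ b', b = algebraMap k (AdjoinRoot ((Polynomial.X : Polynomial k) ^ (N + 1))) κ + (AdjoinRoot.root ((Polynomial.X : Polynomial k) ^ (N + 1))) * b' := by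
    intro b
    obtain ⟨p, rfl⟩ := AdjoinRoot.mk_surjective b
    refine ⟨p.coeff 0, AdjoinRoot.mk ((Polynomial.X : Polynomial k) ^ (N + 1)) p.divX, ?_⟩
    conv_lhs => rw [← Polynomial.X_mul_divX_add p]
    rw [map_add, map_mul, AdjoinRoot.mk_X, AdjoinRoot.mk_C]
    exact add_comm _ _
  obtain ⟨v, hv⟩ : ∃ v, (1 + (AdjoinRoot.root ((Polynomial.X : Polynomial k) ^ (N + 1)))) * v = 1 :=
    (IsNilpotent.isUnit_one_add (⟨N + 1, hu0⟩ : IsNilpotent (AdjoinRoot.root ((Polynomial.X : Polynomial k) ^ (N + 1))))).exists_right_inv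
  let σ : AdjoinRoot ((Polynomial.X : Polynomial k) ^ (N + 1)) →ₐ[k] AdjoinRoot ((Polynomial.X : Polynomial k) ^ (N + 1)) := AdjoinRoot.liftAlgHom ((Polynomial.X : Polynomial k) ^ (N + 1)) (Algebra.ofId _ _) ((AdjoinRoot.root ((Polynomial.X : Polynomial k) ^ (N + 1))) * v) (by
    rw [Polynomial.eval₂_X_pow, mul_pow, hu0, zero_mul])
  have hσ : σ (AdjoinRoot.root ((Polynomial.X : Polynomial k) ^ (N + 1))) = (AdjoinRoot.root ((Polynomial.X : Polynomial k) ^ (N + 1))) * v := by
    show AdjoinRoot.liftAlgHom _ _ _ _ (AdjoinRoot.root _) = _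
    erw [AdjoinRoot.coe_liftAlgHom, AdjoinRoot.lift_root]
  have hσ1 : σ (AdjoinRoot.root ((Polynomial.X : Polynomial k) ^ (N + 1))) * (1 + (AdjoinRoot.root ((Polynomial.X : Polynomial k) ^ (N + 1)))) = (AdjoinRoot.root ((Polynomial.X : Polynomial k) ^ (N + 1))) := by rw [hσ]; linear_combination (AdjoinRoot.root ((Polynomial.X : Polynomial k) ^ (N + 1))) * hv
  haveI : Nontrivial (AdjoinRoot ((Polynomial.X : Polynomial k) ^ (N + 1))) :=
    AdjoinRoot.nontrivial _ (by rw [Polynomial.degree_X_pow]; exact_mod_cast Nat.succ_ne_zero N)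
  exact key (AdjoinRoot.root ((Polynomial.X : Polynomial k) ^ (N + 1))) N hu0 hsplit A σ hσ1 (hA 1 σ (by rw [map_one, one_mul]; exact hσ1))

end Groth.Agent.S14639
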