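import Groth.Statements.S14641
import Groth.Agent.GrpSchField.Orbit
-- import your own Groth.Agent.* helpers here

set_option autoImplicit false
set_option linter.style.haveILetI false
set_option backward.isDefEq.respectTransparency false
universe u
open CategoryTheory MonoidalCategory CartesianMonoidalCategory MonObj GrpObj AlgebraicGeometry CategoryTheory.Limits
open AlgGrp
open Groth.Agent.GrpSchField

namespace Groth.Agent.S14641

theorem flat_left_of_isPullback {S : Scheme.{u}} {P A B C : Over S} {f : P ⟶ A} {g : P ⟶ B} {u : A ⟶ C} {v : B ⟶ C}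
    (h : IsPullback f g u v) (hv : Flat v.left) : Flat f.left :=
  MorphismProperty.of_isPullback (P := @Flat) (h.map (Over.forget S)).flip hv

theorem surjective_left_of_isPullback {S : Scheme.{u}} {P A B C : Over S} {f : P ⟶ A} {g : P ⟶ B} {u : A ⟶ C} {v : B ⟶ C}
    (h : IsPullback f g u v) (hv : Surjective v.left) : Surjective f.left :=
  MorphismProperty.of_isPullback (P := @Surjective) (h.map (Over.forget S)).flip hv

/-- Over a field k, let G be a k-group scheme of finite type, i : H → G a closed subgroup scheme, and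
(Q, o) the quotient G/H: a k-scheme with a G-action and a rational point o exhibiting it as the
quotient (orbit map flat and surjective, G × H ≅ G ×_Q G). Let n : N → G be a closed subgroup scheme
which is the kernel of the action of G on Q, i.e. for every k-scheme T, a T-point g of G factors
through N exactly when g acts as the identity on Q_T (on all points of Q over T-schemes). Then N is
normal in G and contained in H, and N is the largest such subgroup: every closed subgroup scheme N'
of G which is normal in G and factors through H factors through N. -/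
theorem result (k : Type u) [Field k]
    (G H Q N : Over (Spec (CommRingCat.of k))) [GrpObj G] [LocallyOfFiniteType G.hom] [QuasiCompact G.hom]
    [GrpObj H] (i : H ⟶ G) [IsMonHom i] [IsClosedImmersion i.left]
    (a : AlgGrp.Action G Q) (o : 𝟙_ (Over (Spec (CommRingCat.of k))) ⟶ Q) (hQ : AGF.IsQuotient i Q a o)
    [GrpObj N] (n : N ⟶ G) [IsMonHom n] [IsClosedImmersion n.left]
    (hN : ∀ (T : Over (Spec (CommRingCat.of k))) (g : T ⟶ G),
      (∃ m : T ⟶ N, m ≫ n = g) ↔
        ∀ (T' : Over (Spec (CommRingCat.of k))) (s : T' ⟶ T) (x : T' ⟶ Q),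
          CartesianMonoidalCategory.lift (s ≫ g) x ≫ a.act = x) :
    AlgGrp.IsNormalHom n ∧ (∃ f : N ⟶ H, f ≫ i = n) ∧
      ∀ (N' : Over (Spec (CommRingCat.of k))) [GrpObj N'] (n' : N' ⟶ G) [IsMonHom n'] [IsClosedImmersion n'.left],
        AlgGrp.IsNormalHom n' → (∃ f : N' ⟶ H, f ≫ i = n') → ∃ f' : N' ⟶ N, f' ≫ n = n' := by
  have key : ∀ {T : Over (Spec (CommRingCat.of k))} (g : T ⟶ G), g ≫ a.orbitMap o = lift g (toUnit T ≫ o) ≫ a.act := by
    intro T g
    rw [AlgGrp.Action.orbitMap, ← Category.assoc, comp_lift, Category.comp_id, ← Category.assoc,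
      toUnit_unique (g ≫ toUnit G) (toUnit T)]
  have hstab : ∀ {T : Over (Spec (CommRingCat.of k))} (g : T ⟶ G),
      (∃ f : T ⟶ H, f ≫ i = g) ↔ lift g (toUnit T ≫ o) ≫ a.act = toUnit T ≫ o := by
    intro T g
    have hu : (1 : T ⟶ G) ≫ a.orbitMap o = toUnit T ≫ o := by rw [key, lift_act_one]
    rw [← key]
    constructor
    · rintro ⟨f, rfl⟩
      have h := congrArg (fun m => lift (1 : T ⟶ G) f ≫ m) hQ.2.2.2.w
      simp only [lift_fst_assoc, Category.assoc] at h
      have e : lift (1 : T ⟶ G) f ≫ (G ◁ i) ≫ μ[G] = f ≫ i := by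
        rw [lift_whiskerLeft_assoc, ← Hom.mul_def, _root_.one_mul]
      rw [reassoc_of% e, hu] at h
      rw [Category.assoc]; exact h.symm
    · intro h
      refine ⟨hQ.2.2.2.lift 1 g (hu.trans h.symm) ≫ snd G H, ?_⟩
      have e1 := hQ.2.2.2.lift_fst 1 g (hu.trans h.symm)
      have e2 := hQ.2.2.2.lift_snd 1 g (hu.trans h.symm)
      set l := hQ.2.2.2.lift 1 g (hu.trans h.symm) with hl
      have e3 : l = lift (1 : T ⟶ G) (l ≫ snd G H) := by
        apply CartesianMonoidalCategory.hom_ext <;> simp [e1]
      rw [e3, lift_whiskerLeft_assoc, ← Hom.mul_def, _root_.one_mul] at e2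
      exact e2
  refine ⟨?_, ?_, ?_⟩
  · intro T g m
    obtain ⟨m', hm'⟩ := (hN T (g * (m ≫ n) * g⁻¹)).mpr fun T' s x => by
      have hm1 := (hN T' (s ≫ m ≫ n)).mp ⟨s ≫ m, by simp⟩ T' (𝟙 _) (lift (s ≫ g)⁻¹ x ≫ a.act)
      rw [Category.id_comp] at hm1
      rw [MonObj.comp_mul, MonObj.comp_mul, GrpObj.comp_inv, lift_act_mul, lift_act_mul, hm1, ← lift_act_mul,
        mul_inv_cancel, lift_act_one]
    exact ⟨m', hm'.symm⟩
  · refine (hstab n).mpr ?_
    have := (hN N n).mp ⟨𝟙 N, Category.id_comp n⟩ N (𝟙 N) (toUnit N ≫ o)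
    rwa [Category.id_comp] at this
  · intro N' _ n' _ _ hn ⟨f, hf⟩
    refine (hN N' n').mpr fun T' s x => ?_
    let π := a.orbitMap o
    haveI : Flat π.left := hQ.2.1
    haveI : Surjective π.left := hQ.2.2.1
    let p := pullback.fst x π
    let h := pullback.snd x π
    haveI : Flat p.left := flat_left_of_isPullback (IsPullback.of_hasPullback x π) inferInstance
    haveI : Surjective p.left := surjective_left_of_isPullback (IsPullback.of_hasPullback x π) inferInstance
    haveI : Epi p.left := Flat.epi_of_flat_of_surjective p.left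
    haveI : Epi p := (Over.forget _).epi_of_epi_map ‹Epi p.left›
    rw [← cancel_epi p]
    obtain ⟨m, hm⟩ := hn _ h⁻¹ (p ≫ s)
    rw [_root_.inv_inv] at hm
    have hfix : lift (m ≫ n') (toUnit _ ≫ o) ≫ a.act = toUnit _ ≫ o :=
      (hstab _).mp ⟨m ≫ f, by rw [Category.assoc, hf]⟩
    have hx : p ≫ x = lift h (toUnit _ ≫ o) ≫ a.act := (pullback.condition).trans (key h)
    rw [← Category.assoc, comp_lift, hx, ← lift_act_mul]
    rw [show (p ≫ s ≫ n') * h = h * (m ≫ n') by
      rw [← hm, ← Category.assoc]; simp [_root_.mul_assoc], lift_act_mul, hfix]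

end Groth.Agent.S14641
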