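import Groth.Statements.S14655
import Groth.Agent.ProjCM.Dehomog
-- import your own Groth.Agent.* helpers here

set_option autoImplicit false
universe u
open FiltBl

namespace Groth.Agent.S14655

open AlgebraicGeometry


open AlgebraicGeometry in
/-- Let A be a Noetherian ℕ-graded commutative ring which is a Cohen–Macaulay ring. Then the scheme Proj
A is Cohen–Macaulay: every local ring of Proj A is a Cohen–Macaulay local ring. -/
theorem result (A : Type u) [CommRing A]
    (𝒜 : ℕ → AddSubgroup A) [GradedRing 𝒜] [LocCoh.IsCohenMacaulayRing A] (x : Proj 𝒜) :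
    LocCoh.IsCohenMacaulayLocalRing ((Proj 𝒜).presheaf.stalk x) := by
  obtain ⟨e, he, t, ht, htx⟩ := ProjCM.exists_notMem 𝒜 x
  obtain ⟨y, ⟨ey⟩⟩ := ProjCM.exists_stalk_equiv 𝒜 x ht he htx
  haveI := ProjCM.isCohenMacaulayRing_away 𝒜 he ht
  haveI := LocCoh.IsCohenMacaulayRing.isCohenMacaulayLocalRing_localization
    (R := HomogeneousLocalization.Away 𝒜 t) y.asIdeal
  exact Catenary.isCohenMacaulayLocalRing_of_ringEquiv (A := Localization.AtPrime y.asIdeal) (B := (Proj 𝒜).presheaf.stalk x) ey.symm

end Groth.Agent.S14655
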