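import Groth.Statements.S14656
import Groth.Agent.ProjS1.Basic
-- import your own Groth.Agent.* helpers here

set_option autoImplicit false
universe u
open FiltBl

namespace Groth.Agent.S14656

open AlgebraicGeometry

open AlgebraicGeometry in
/-- Let A be a Noetherian ℕ-graded commutative ring satisfying Serre's condition (S_1) (every
localization A_p has depth at least min(1, dim A_p)). Then every local ring of the scheme Proj A
satisfies (S_1). -/
theorem result (A : Type u) [CommRing A] [IsNoetherianRing A]
    (𝒜 : ℕ → AddSubgroup A) [GradedRing 𝒜] (hA : LocCoh.HasSk 1 A A) (x : Proj 𝒜) :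
    LocCoh.HasSk 1 ((Proj 𝒜).presheaf.stalk x) ((Proj 𝒜).presheaf.stalk x) := by
  classical
  let p := x.asHomogeneousIdeal.toIdeal
  haveI : p.IsPrime := x.isPrime
  have hf : ∃ (d : ℕ) (f : A), 0 < d ∧ f ∈ 𝒜 d ∧ f ∉ p := by
    by_contra h0
    push Not at h0
    refine x.not_irrelevant_le fun r hr => ?_
    show r ∈ p
    rw [← DirectSum.sum_support_decompose 𝒜 r]
    refine sum_mem fun i hi => ?_
    rcases Nat.eq_zero_or_pos i with rfl | hi0
    · rw [show (DirectSum.decompose 𝒜 r 0 : A) = 0 by simpa [GradedRing.proj_apply] using hr]; exact zero_mem p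
    · exact h0 i _ hi0 (Subtype.prop _)
  have hB := ProjS1.hasSk_one 𝒜 p hA hf
  rw [FlatSerre.hasSk_iff_forall_skLoc] at hB ⊢
  intro Q _
  let e := (Proj.stalkIso 𝒜 x).commRingCatIsoToRingEquiv
  haveI : (Q.comap e.symm.toRingHom).IsPrime := Ideal.IsPrime.comap _
  exact (hB (Q.comap e.symm.toRingHom)).congr (IsLocalization.ringEquivOfRingEquiv
    (M := (Q.comap e.symm.toRingHom).primeCompl) (T := Q.primeCompl) _ _ e.symm (by
      ext y
      constructor
      · rintro ⟨z, hz, rfl⟩; exact hz
      · intro hy
        exact ⟨e y, fun h => hy (by simpa using h), e.symm_apply_apply y⟩))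

end Groth.Agent.S14656
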