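import Groth.Statements.S14665
import Mathlib
import Groth.Agent.SGA1QuotLib.SymQuotBC
-- import your own Groth.Agent.* helpers here

set_option autoImplicit false
universe u
open CategoryTheory CategoryTheory.Limits AlgebraicGeometry
open SymProd

namespace Groth.Agent.S14665

/-- Let f : X ⟶ S be a flat morphism such that every finite set of points of X lying over a single point
of S is contained in an affine open of X, let n ≥ 0 and let (Y, q, g) be an n-th symmetric power of
X over S (q : X ×_S ⋯ ×_S X ⟶ Y a quotient of the n-fold fibre power by the symmetric group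
permuting the factors: affine, invariant, identifying sections of O_Y with invariant sections; q ≫ g
= the structure map). Then the formation of the symmetric power commutes with arbitrary base change:
for any b : S' ⟶ S, with X' = X ×_S S' and f' its projection to S', let c be the morphism from the
n-fold fibre power of X' over S' to that of X over S whose components are the first projections X' ⟶
X and which lies over b, and let q' be the morphism from the fibre power of X' to Y ×_S S' with
components c ≫ q and the structure map to S'. Then q' together with the projection Y ×_S S' ⟶ S' is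
an n-th symmetric power of X' over S'. -/
theorem result {X S S' Y : Scheme.{u}} (f : X ⟶ S) [Flat f]
    (hAF : SymProd.IsAF f) (n : ℕ) (q : SymProd.fibPow f n ⟶ Y) (g : Y ⟶ S) (hq : SymProd.IsSymProd f n q g)
    (b : S' ⟶ S)
    (c : SymProd.fibPow (pullback.snd f b) n ⟶ SymProd.fibPow f n)
    (hcπ : ∀ i : Fin n, c ≫ WidePullback.π (fun _ => f) i = WidePullback.π (fun _ => pullback.snd f b) i ≫ pullback.fst f b)
    (hcb : c ≫ WidePullback.base (fun _ => f) = WidePullback.base (fun _ => pullback.snd f b) ≫ b)
    (q' : SymProd.fibPow (pullback.snd f b) n ⟶ pullback g b)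
    (hq'₁ : q' ≫ pullback.fst g b = c ≫ q)
    (hq'₂ : q' ≫ pullback.snd g b = WidePullback.base (fun _ => pullback.snd f b)) :
    SymProd.IsSymProd (pullback.snd f b) n q' (pullback.snd g b) := by
  let bA := WidePullback.base (fun _ : Fin n => f)
  let f' := pullback.snd f b
  let bA' := WidePullback.base (fun _ : Fin n => f')
  let ε : SymProd.fibPow f' n ⟶ pullback bA b := pullback.lift c bA' hcb
  let υ : pullback bA b ⟶ SymProd.fibPow f' n :=
    WidePullback.lift (pullback.snd bA b)
      (fun i => pullback.lift (pullback.fst bA b ≫ WidePullback.π (fun _ => f) i) (pullback.snd bA b)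
        (by rw [Category.assoc, WidePullback.π_arrow]; exact pullback.condition))
      (fun i => pullback.lift_snd _ _ _)
  have h1 : ε ≫ υ = 𝟙 _ := by
    refine WidePullback.hom_ext (fun _ : Fin n => f') _ _ (fun i => ?_) ?_
    · rw [Category.id_comp, Category.assoc, WidePullback.lift_π]
      apply pullback.hom_ext
      · rw [Category.assoc, pullback.lift_fst, pullback.lift_fst_assoc, hcπ]
      · rw [Category.assoc, pullback.lift_snd, pullback.lift_snd, WidePullback.π_arrow]
    · rw [Category.id_comp, Category.assoc, WidePullback.lift_base, pullback.lift_snd]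
  have h2 : υ ≫ ε = 𝟙 _ := by
    apply pullback.hom_ext
    · rw [Category.id_comp, Category.assoc, pullback.lift_fst]
      refine WidePullback.hom_ext (fun _ : Fin n => f) _ _ (fun i => ?_) ?_
      · rw [Category.assoc, hcπ, WidePullback.lift_π_assoc, pullback.lift_fst]
      · rw [Category.assoc, hcb, WidePullback.lift_base_assoc]
        exact pullback.condition.symm
    · rw [Category.id_comp, Category.assoc, pullback.lift_snd, WidePullback.lift_base]
  have H : IsPullback c bA' bA b := IsPullback.of_iso_pullback ⟨hcb⟩ ⟨ε, υ, h1, h2⟩
    (pullback.lift_fst _ _ _) (pullback.lift_snd _ _ _)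
  have hperm : ∀ σ, SymProd.permHom f' n σ ≫ c = c ≫ SymProd.permHom f n σ := fun σ => by
    refine WidePullback.hom_ext (fun _ : Fin n => f) _ _ (fun i => ?_) ?_
    · rw [Category.assoc, Category.assoc, hcπ, SymProd.permHom_π, hcπ, SymProd.permHom_π_assoc]
    · rw [Category.assoc, Category.assoc, hcb, SymProd.permHom_base, hcb, SymProd.permHom_base_assoc]
  refine ⟨Groth.Agent.SGA1QuotLib.isQuot_of_isPullback_symProd f n q g hq b c bA' H (pullback.fst g b)
    (pullback.snd g b) (IsPullback.of_hasPullback g b) q' hq'₁ hq'₂ (SymProd.permActU f' n)
    (fun σ => hperm σ.down) (fun σ => ?_), hq'₂⟩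
  apply pullback.hom_ext
  · rw [Category.assoc, hq'₁, ← Category.assoc, SymProd.permActU_hom, hperm, Category.assoc]
    exact congrArg (c ≫ ·) (hq.isQuot.inv σ)
  · rw [Category.assoc, hq'₂, SymProd.permActU_hom]
    exact SymProd.permHom_base f' n σ.down

end Groth.Agent.S14665
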