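import Groth.Statements.S14666
import Mathlib

set_option autoImplicit false
universe u
open CategoryTheory CategoryTheory.Limits AlgebraicGeometry
open AbSch

namespace Groth.Agent.S14666

/-- Morphisms out of the base agree when they agree after a surjection with `O = ξ_* O`. -/
theorem hom_ext_of_bijective_app {X W Z : Scheme.{u}} (π : X ⟶ W) [Surjective π]
    (h0 : ∀ U : W.Opens, Function.Bijective (π.app U).hom) (k₁ k₂ : W ⟶ Z) (h : π ≫ k₁ = π ≫ k₂) :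
    k₁ = k₂ := by
  have hpt : ∀ w : W, k₁ w = k₂ w := fun w => by
    obtain ⟨x, rfl⟩ := π.surjective w
    rw [← Scheme.Hom.comp_apply, h, Scheme.Hom.comp_apply]
  choose V hV hwV _h using fun w : W => exists_isAffineOpen_mem_and_subset (X := Z) (x := k₁ w)
    (U := (⊤ : Z.Opens)) trivial
  refine (Scheme.openCoverOfIsOpenCover W (fun w => k₁ ⁻¹ᵁ V w)
    (TopologicalSpace.IsOpenCover.mk (top_le_iff.mp fun w _ =>
      TopologicalSpace.Opens.mem_iSup.mpr ⟨w, hwV w⟩))).hom_ext _ _ fun w => ?_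
  show (k₁ ⁻¹ᵁ V w).ι ≫ k₁ = (k₁ ⁻¹ᵁ V w).ι ≫ k₂
  let A := k₁ ⁻¹ᵁ V w
  have hle : A ≤ k₂ ⁻¹ᵁ V w := fun z hz => by
    show k₂ z ∈ V w
    rw [← hpt]; exact hz
  haveI : IsAffine (V w).toScheme := hV w
  let l₁ : (A : Scheme.{u}) ⟶ V w := k₁ ∣_ V w
  let l₂ : (A : Scheme.{u}) ⟶ V w := W.homOfLE hle ≫ k₂ ∣_ V w
  have e₁ : l₁ ≫ (V w).ι = A.ι ≫ k₁ := morphismRestrict_ι _ _
  have e₂ : l₂ ≫ (V w).ι = A.ι ≫ k₂ := by
    simp only [l₂, Category.assoc, morphismRestrict_ι, Scheme.homOfLE_ι_assoc]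
  have e₃ : π ∣_ A ≫ l₁ = π ∣_ A ≫ l₂ := by
    rw [← cancel_mono (V w).ι, Category.assoc, Category.assoc, e₁, e₂, morphismRestrict_ι_assoc,
      morphismRestrict_ι_assoc, h]
  have e₄ : l₁ = l₂ := by
    refine ext_of_isAffine ?_
    haveI : IsIso (π ∣_ A).appTop := by
      rw [morphismRestrict_appTop]
      exact IsIso.comp_isIso' ((ConcreteCategory.isIso_iff_bijective _).mpr (h0 _))
        (Functor.map_isIso X.presheaf _)
    rw [← cancel_mono (π ∣_ A).appTop, ← Scheme.Hom.comp_appTop, ← Scheme.Hom.comp_appTop, e₃]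
  rw [← e₁, e₄, e₂]

/-- Morphisms to an affine scheme factor through a morphism inducing an iso on global sections. -/
theorem exists_factor_affine {X W V : Scheme.{u}} [IsAffine V] (π : X ⟶ W) [IsIso π.appTop]
    (q : X ⟶ V) : ∃ k : W ⟶ V, π ≫ k = q := by
  refine ⟨W.toSpecΓ ≫ Spec.map (q.appTop ≫ inv π.appTop) ≫ V.isoSpec.inv, ext_of_isAffine ?_⟩
  have hk : (W.toSpecΓ ≫ Spec.map (q.appTop ≫ inv π.appTop) ≫ V.isoSpec.inv).appTop =
      q.appTop ≫ inv π.appTop := by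
    rw [Scheme.Hom.comp_appTop, Scheme.Hom.comp_appTop, Scheme.toSpecΓ_appTop, Category.assoc,
      Scheme.ΓSpecIso_naturality, ← Category.assoc]
    simp [Scheme.isoSpec, Scheme.toSpecΓ_appTop]
  rw [Scheme.Hom.comp_appTop, hk, Category.assoc, IsIso.inv_hom_id, Category.comp_id]

/-- Let S be a locally Noetherian scheme, ξ : X ⟶ S a proper morphism all of whose geometric fibres are
integral and for which O_S ⟶ ξ_*O_X is an isomorphism (the map Γ(U, O_S) → Γ(ξ⁻¹U, O_X) is bijective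
for every open U of S), v : Y ⟶ S an arbitrary S-scheme and f : X ⟶ Y a morphism over S. Let U be
the set of points s of S such that f sends every point of the fibre ξ⁻¹(s) to one and the same point
of Y. Then U is open in S, and for every morphism τ : T ⟶ S the base change of f to T factors
through the projection X ×_S T ⟶ T — that is, there is r : T ⟶ Y with r ≫ v = τ and fst ≫ f = snd ≫
r on X ×_S T — if and only if τ maps every point of T into U. -/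
theorem result {X Y S : Scheme.{u}} [IsLocallyNoetherian S]
    (ξ : X ⟶ S) [IsProper ξ] [GeometricallyIntegral ξ]
    (h0 : ∀ U : S.Opens, Function.Bijective (ξ.app U).hom)
    (v : Y ⟶ S) (f : X ⟶ Y) (hf : f ≫ v = ξ) :
    IsOpen {s : ↥S | ∃ y : ↥Y, ∀ x : ↥X, ξ.base x = s → f.base x = y} ∧
    ∀ (T : Scheme.{u}) (τ : T ⟶ S),
      ((∃ r : T ⟶ Y, r ≫ v = τ ∧ pullback.fst ξ τ ≫ f = pullback.snd ξ τ ≫ r) ↔
        ∀ t : ↥T, τ.base t ∈ {s : ↥S | ∃ y : ↥Y, ∀ x : ↥X, ξ.base x = s → f.base x = y}) := by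
  let U₀ : Set S := {s : ↥S | ∃ y : ↥Y, ∀ x : ↥X, ξ.base x = s → f.base x = y}
  have happ : ∀ (W : S.Opens) (A : (W : Scheme.{u}).Opens),
      Function.Bijective ((ξ ∣_ W).app A).hom := by
    intro W A
    rw [morphismRestrict_app]
    haveI : IsIso (ξ.app (W.ι ''ᵁ A)) := (ConcreteCategory.isIso_iff_bijective _).mpr (h0 _)
    haveI : IsIso (X.presheaf.map (eqToHom (image_morphismRestrict_preimage ξ W A)).op) :=
      Functor.map_isIso X.presheaf _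
    exact ConcreteCategory.bijective_of_isIso
      (ξ.app (W.ι ''ᵁ A) ≫ X.presheaf.map (eqToHom (image_morphismRestrict_preimage ξ W A)).op)
  have hloc : ∀ s ∈ U₀, ∃ W : S.Opens, s ∈ W ∧ ∃ k : (W : Scheme.{u}) ⟶ Y,
      (ξ ⁻¹ᵁ W).ι ≫ f = ξ ∣_ W ≫ k := by
    rintro s ⟨y, hy⟩
    obtain ⟨V, hV, hyV, -⟩ := exists_isAffineOpen_mem_and_subset (X := Y) (x := y)
      (U := (⊤ : Y.Opens)) trivial
    have hZ : IsClosed (ξ '' (f ⁻¹ᵁ V : Set X)ᶜ) := ξ.isClosedMap _ (f ⁻¹ᵁ V).isOpen.isClosed_compl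
    let W : S.Opens := ⟨(ξ '' (f ⁻¹ᵁ V : Set X)ᶜ)ᶜ, hZ.isOpen_compl⟩
    refine ⟨W, ?_, ?_⟩
    · rintro ⟨x, hx, rfl⟩
      exact hx (show f x ∈ V by rw [hy x rfl]; exact hyV)
    · have hle : ξ ⁻¹ᵁ W ≤ f ⁻¹ᵁ V := fun z hz => by
        by_contra hn
        exact hz ⟨z, hn, rfl⟩
      haveI : IsAffine V.toScheme := hV
      haveI : IsIso (ξ ∣_ W).appTop := (ConcreteCategory.isIso_iff_bijective _).mpr (happ W ⊤)
      let q := X.homOfLE hle ≫ f ∣_ V
      obtain ⟨k, hq⟩ := exists_factor_affine (ξ ∣_ W) q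
      refine ⟨k ≫ V.ι, ?_⟩
      rw [← Category.assoc, hq]
      simp only [q, Category.assoc, morphismRestrict_ι, Scheme.homOfLE_ι_assoc]
  choose W hW k hk using hloc
  have hsub : ∀ s (hs : s ∈ U₀), (W s hs : Set S) ⊆ U₀ := by
    intro s hs t ht
    refine ⟨(k s hs) ⟨t, ht⟩, fun x hx => ?_⟩
    subst hx
    exact congrArg (fun h : (ξ ⁻¹ᵁ W s hs : Scheme.{u}) ⟶ Y => h ⟨x, ht⟩) (hk s hs) |>.trans
      (congrArg (k s hs).base (Subtype.ext (morphismRestrict_base_coe ξ (W s hs) ⟨x, ht⟩)))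
  have hU : IsOpen U₀ := isOpen_iff_forall_mem_open.mpr fun s hs =>
    ⟨W s hs, hsub s hs, (W s hs).isOpen, hW s hs⟩
  refine ⟨hU, fun T τ => ⟨?_, ?_⟩⟩
  · rintro ⟨r, -, hr⟩ t
    refine ⟨r t, fun x hx => ?_⟩
    obtain ⟨z, hz1, hz2⟩ := Scheme.Pullback.exists_preimage_pullback (f := ξ) (g := τ) x t hx
    show f x = r t
    rw [← hz1, ← hz2, ← Scheme.Hom.comp_apply, hr, Scheme.Hom.comp_apply]
  · intro hτ
    let U : S.Opens := ⟨U₀, hU⟩
    let 𝒲 := fun i : U₀ => U.ι ⁻¹ᵁ W i.1 i.2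
    have hcov : TopologicalSpace.IsOpenCover 𝒲 := TopologicalSpace.IsOpenCover.mk
      (top_le_iff.mp fun w _ => TopologicalSpace.Opens.mem_iSup.mpr ⟨⟨w.1, w.2⟩, hW w.1 w.2⟩)
    let 𝒰 := Scheme.openCoverOfIsOpenCover U.toScheme 𝒲 hcov
    let φ : ∀ i : U₀, (𝒲 i : Scheme.{u}) ⟶ Y := fun i => U.ι ∣_ W i.1 i.2 ≫ k i.1 i.2
    -- the composite with `ξ`
    have hφ : ∀ (i : U₀) (Z : Scheme.{u}) (a : Z ⟶ X) (b : Z ⟶ 𝒲 i),
        a ≫ ξ = b ≫ (𝒲 i).ι ≫ U.ι → a ≫ f = b ≫ φ i := by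
      intro i Z a b hab
      have hr : Set.range a ⊆ Set.range (ξ ⁻¹ᵁ W i.1 i.2).ι := by
        rw [Scheme.Opens.range_ι]
        rintro _ ⟨z, rfl⟩
        show ξ (a z) ∈ W i.1 i.2
        rw [← Scheme.Hom.comp_apply, hab]
        exact ((b z).2 : U.ι (b z).1 ∈ W i.1 i.2)
      rw [← IsOpenImmersion.lift_fac (ξ ⁻¹ᵁ W i.1 i.2).ι a hr, Category.assoc, hk, ← Category.assoc,
        show φ i = U.ι ∣_ W i.1 i.2 ≫ k i.1 i.2 from rfl, ← Category.assoc b]
      congr 1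
      rw [← cancel_mono (W i.1 i.2).ι, Category.assoc, morphismRestrict_ι, ← Category.assoc,
        IsOpenImmersion.lift_fac, hab, Category.assoc, morphismRestrict_ι]
    have hglue : ∀ i j : U₀, pullback.fst (𝒰.f i) (𝒰.f j) ≫ φ i = pullback.snd (𝒰.f i) (𝒰.f j) ≫ φ j := by
      intro i j
      show pullback.fst (𝒲 i).ι (𝒲 j).ι ≫ φ i = pullback.snd (𝒲 i).ι (𝒲 j).ι ≫ φ j
      let P := pullback (𝒲 i).ι (𝒲 j).ι
      let m : P ⟶ S := pullback.fst (𝒲 i).ι (𝒲 j).ι ≫ (𝒲 i).ι ≫ U.ι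
      have hm : pullback.snd (𝒲 i).ι (𝒲 j).ι ≫ (𝒲 j).ι ≫ U.ι = m :=
        (pullback.condition_assoc (f := (𝒲 i).ι) (g := (𝒲 j).ι) U.ι).symm
      haveI : IsOpenImmersion m := inferInstance
      let P' : S.Opens := m.opensRange
      haveI : Surjective (ξ ∣_ P') := inferInstance
      refine (cancel_epi m.isoOpensRange.inv).mp ?_
      apply hom_ext_of_bijective_app (ξ ∣_ P') (happ P')
      have e1 := hφ i _ (ξ ⁻¹ᵁ P').ι ((ξ ∣_ P') ≫ m.isoOpensRange.inv ≫ pullback.fst (𝒲 i).ι (𝒲 j).ι) (by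
        simp only [Category.assoc]
        rw [Scheme.Hom.isoOpensRange_inv_comp, morphismRestrict_ι])
      have e2 := hφ j _ (ξ ⁻¹ᵁ P').ι ((ξ ∣_ P') ≫ m.isoOpensRange.inv ≫ pullback.snd (𝒲 i).ι (𝒲 j).ι) (by
        simp only [Category.assoc]
        rw [hm, Scheme.Hom.isoOpensRange_inv_comp, morphismRestrict_ι])
      simp only [Category.assoc] at e1 e2
      rw [← e1, ← e2]
    let K : U.toScheme ⟶ Y := 𝒰.glueMorphisms φ hglue
    have hK : (ξ ⁻¹ᵁ U).ι ≫ f = ξ ∣_ U ≫ K := by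
      refine Scheme.Cover.hom_ext (𝒰.pullback₁ (ξ ∣_ U)) _ _ fun i => ?_
      show pullback.fst (ξ ∣_ U) (𝒰.f i) ≫ _ = pullback.fst (ξ ∣_ U) (𝒰.f i) ≫ _
      rw [pullback.condition_assoc, 𝒰.ι_glueMorphisms φ hglue i, ← Category.assoc]
      refine hφ i _ _ _ ?_
      rw [Category.assoc, ← morphismRestrict_ι, pullback.condition_assoc]
      rfl
    haveI : Surjective (ξ ∣_ U) := inferInstance
    have hKv : K ≫ v = U.ι := by
      apply hom_ext_of_bijective_app (ξ ∣_ U) (happ U)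
      rw [← Category.assoc, ← hK, Category.assoc, hf, morphismRestrict_ι]
    let τ' : T ⟶ U.toScheme := IsOpenImmersion.lift U.ι τ (by
      rw [Scheme.Opens.range_ι]
      rintro _ ⟨t, rfl⟩
      exact hτ t)
    have hτ' : τ' ≫ U.ι = τ := IsOpenImmersion.lift_fac _ _ _
    refine ⟨τ' ≫ K, by rw [Category.assoc, hKv, hτ'], ?_⟩
    have hr : Set.range (pullback.fst ξ τ) ⊆ Set.range (ξ ⁻¹ᵁ U).ι := by
      rw [Scheme.Opens.range_ι]
      rintro _ ⟨z, rfl⟩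
      show ξ _ ∈ U
      rw [← Scheme.Hom.comp_apply, pullback.condition, Scheme.Hom.comp_apply]
      exact hτ _
    rw [← IsOpenImmersion.lift_fac (ξ ⁻¹ᵁ U).ι (pullback.fst ξ τ) hr, Category.assoc, hK,
      ← Category.assoc, ← Category.assoc (pullback.snd ξ τ)]
    congr 1
    rw [← cancel_mono U.ι, Category.assoc, morphismRestrict_ι, ← Category.assoc,
      IsOpenImmersion.lift_fac, Category.assoc, hτ', pullback.condition]

end Groth.Agent.S14666
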