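import Groth.Statements.S1996
import Groth.Agent.EtAlgLib.Weakly
import Groth.Agent.FlatDescent.Local
-- import your own Groth.Agent.* helpers here

set_option autoImplicit false
universe u
open EtAlg

namespace Groth.Agent.S1996

/-- Let A -> B -> C be ring maps with B -> C faithfully flat. Weak etaleness of A -> C then implies weak
etaleness of A -> B. -/
theorem result (A B C : Type u) [CommRing A] [CommRing B] [CommRing C] [Algebra A B]
    [Algebra B C] [Algebra A C] [IsScalarTower A B C] [Module.FaithfullyFlat B C] [Algebra.WeaklyEtale A C] :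
    Algebra.WeaklyEtale A B := by
  haveI : Module.Flat A B :=
    Groth.FlatDescent.flat_of_faithfullyFlat_of_flat (R := A) (S := B) (M := C)
  refine ⟨inferInstance, ?_⟩
  have hBC : (algebraMap B C).Flat := RingHom.flat_algebraMap_iff.2 inferInstance
  let m : TensorProduct A B B →ₐ[A] TensorProduct A C C :=
    Algebra.TensorProduct.map (IsScalarTower.toAlgHom A B C) (IsScalarTower.toAlgHom A B C)
  have hm : m.toRingHom.Flat := RingHom.Flat.tensorProductMap hBC hBC
  have hcomp : (Algebra.TensorProduct.lmul' A (S := C)).comp m =
      (IsScalarTower.toAlgHom A B C).comp (Algebra.TensorProduct.lmul' A (S := B)) := by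
    apply Algebra.TensorProduct.ext'
    intro x y
    simp [m]
  have h : ((algebraMap B C).comp (Algebra.TensorProduct.lmul' A (S := B)).toRingHom).Flat := by
    have h1 : ((Algebra.TensorProduct.lmul' A (S := C)).toRingHom.comp m.toRingHom).Flat :=
      RingHom.Flat.comp hm (Algebra.WeaklyEtale.flat_lmul' A C)
    rwa [show (Algebra.TensorProduct.lmul' A (S := C)).toRingHom.comp m.toRingHom =
      (algebraMap B C).comp (Algebra.TensorProduct.lmul' A (S := B)).toRingHom from
      congrArg AlgHom.toRingHom hcomp] at h1
  letI : Algebra (TensorProduct A B B) B :=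
    (Algebra.TensorProduct.lmul' A (S := B)).toRingHom.toAlgebra
  letI : Algebra (TensorProduct A B B) C :=
    ((algebraMap B C).comp (Algebra.TensorProduct.lmul' A (S := B)).toRingHom).toAlgebra
  haveI : IsScalarTower (TensorProduct A B B) B C := IsScalarTower.of_algebraMap_eq' rfl
  haveI : Module.Flat (TensorProduct A B B) C := h
  exact Groth.FlatDescent.flat_of_faithfullyFlat_of_flat (R := TensorProduct A B B) (S := B) (M := C)

end Groth.Agent.S1996
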