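import Groth.Statements.S1467
import Groth.Agent.S1412
import Groth.Agent.S1996
import Groth.Agent.S7127
import Groth.Agent.S0736
import Groth.Agent.HenselLib.IndEtale
import Groth.Agent.HenselLib.HenselizationLocal
import Groth.Agent.WEtaleVal.Olivier

set_option autoImplicit false
set_option linter.style.haveILetI false
universe u
open FlatMor

namespace Groth.Agent.S1467

open IsLocalRing in
/-- A strict henselization of a local weakly étale algebra is one of the base. -/
theorem of_weaklyEtale (A B R : Type u) [CommRing A] [IsLocalRing A] [CommRing B] [IsLocalRing B]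
    [CommRing R] [IsLocalRing R] [Algebra A B] [Algebra B R] [Algebra A R] [IsScalarTower A B R]
    [Algebra.WeaklyEtale A B] [IsLocalHom (algebraMap B R)] [IsLocalHom (algebraMap A R)]
    [hR : Hensel.IsStrictHenselization B R] : Hensel.IsStrictHenselization A R := by
  haveI := hR.henselian
  haveI : IsSepClosed (ResidueField R) := hR.isSepClosure.sep_closed
  haveI : Algebra.WeaklyEtale B R := Groth.Agent.S0736.result B R
    (Groth.Agent.HenselLib.exists_colim_of_isStrictHenselization B R).isIndEtale
  haveI : Algebra.WeaklyEtale A R := Algebra.WeaklyEtale.trans A B R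
  haveI : Algebra.IsSeparable (ResidueField A) (ResidueField R) := ⟨fun z => by
    obtain ⟨r, rfl⟩ := residue_surjective z
    let ψ : TensorProduct A (ResidueField A) R →ₐ[ResidueField A] ResidueField R :=
      Algebra.TensorProduct.lift (Algebra.ofId _ _) (IsScalarTower.toAlgHom A R (ResidueField R))
        (fun _ _ => Commute.all _ _)
    have h := Groth.Agent.WEtaleField.isSeparable_map (K := ResidueField A) ψ (1 ⊗ₜ[A] r)
    rw [show ψ ((1 : ResidueField A) ⊗ₜ[A] r) = residue R r by simp [ψ]] at h
    exact h⟩
  haveI : IsSepClosure (ResidueField A) (ResidueField R) := ⟨‹_›, ‹_›⟩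
  obtain ⟨H, _, _, ρ, hc⟩ := Groth.Agent.HenselLib.exists_isNbhdColim A (ResidueField R)
    Groth.Agent.HenselLib.generated_of_isSeparable
  haveI := hc.isLocalRing
  haveI := hc.isLocalHom fun r hr =>
    Groth.Agent.HenselLib.algebraMap_eq_zero_of_tower (K := ResidueField R) hr
  haveI hH := Groth.Agent.HenselLib.isStrictHenselization_of_colim hc
  haveI := hc.henselian
  haveI : IsSepClosed (ResidueField H) := hH.isSepClosure.sep_closed
  haveI : Algebra.WeaklyEtale A H := Groth.Agent.S0736.result A H hc.isIndEtale
  obtain ⟨g, hg, -⟩ := hc.existsUnique_map (T := R) (RingHom.id _) fun r => rfl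
  letI : Algebra H R := g.toRingHom.toAlgebra
  haveI : IsScalarTower A H R := .of_algebraMap_eq fun r => (g.commutes r).symm
  haveI : IsLocalHom (algebraMap H R) := ⟨fun x hx => by
    refine hc.isUnit x fun h0 => (hx.map (residue R)).ne_zero ?_
    exact (hg x).trans h0⟩
  haveI : Algebra.WeaklyEtale H R := Groth.Agent.S7127.result A H R
  have hbij := Groth.Agent.WEtaleVal.bijective_of_strictlyHenselian H R
  exact Groth.Agent.HenselLib.isStrictHenselization_of_colim
    (hc.of_algEquiv (AlgEquiv.ofBijective g hbij).symm)

open IsLocalRing in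
/-- Weak etaleness from coincidence of strict henselizations. -/
theorem of_isStrictHenselization (A B R : Type u) [CommRing A] [IsLocalRing A] [CommRing B] [IsLocalRing B]
    [CommRing R] [IsLocalRing R] [Algebra A B] [Algebra B R] [Algebra A R] [IsScalarTower A B R]
    [IsLocalHom (algebraMap B R)] [IsLocalHom (algebraMap A R)]
    [Hensel.IsStrictHenselization B R] [Hensel.IsStrictHenselization A R] :
    Algebra.WeaklyEtale A B := by
  haveI : Algebra.WeaklyEtale A R := Groth.Agent.S0736.result A R
    (Groth.Agent.HenselLib.exists_colim_of_isStrictHenselization A R).isIndEtale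
  haveI : Module.FaithfullyFlat B R :=
    (Groth.Agent.HenselLib.exists_colim_of_isStrictHenselization B R).faithfullyFlat
      fun r hr => Groth.Agent.HenselLib.algebraMap_eq_zero_of_tower hr
  exact Groth.Agent.S1996.result A B R

open AlgebraicGeometry CategoryTheory Limits in
/-- A morphism f : X → Y is weakly étale if and only if, for every point x of X, strict henselizations
of the local rings at f x and at x coincide under the stalk map: every strict henselization of O_{X,
x} is, through the composite map O_{Y, f x} → O_{X, x} → (strict henselization), a strict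
henselization of O_{Y, f x}. -/
theorem result {X Y : Scheme.{u}} (f : X ⟶ Y) :
    WeaklyEtale f ↔ ∀ (x : X) (R : Type u) [CommRing R] [IsLocalRing R] [Algebra ↑(X.presheaf.stalk x) R]
      [IsLocalHom (algebraMap ↑(X.presheaf.stalk x) R)] [Hensel.IsStrictHenselization ↑(X.presheaf.stalk x) R],
      letI : Algebra ↑(Y.presheaf.stalk (f x)) R := ((algebraMap ↑(X.presheaf.stalk x) R).comp (f.stalkMap x).hom).toAlgebra
      ∃ _ : IsLocalHom (algebraMap ↑(Y.presheaf.stalk (f x)) R), Hensel.IsStrictHenselization ↑(Y.presheaf.stalk (f x)) R := by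
  constructor
  · intro _ x R _ _ _ _ _
    letI := (f.stalkMap x).hom.toAlgebra
    have h := (Groth.Agent.S1412.result f).1 inferInstance x
    haveI : Algebra.WeaklyEtale (Y.presheaf.stalk (f x)) (X.presheaf.stalk x) :=
      { flat := h.1, flat_lmul' := h.2 }
    letI : Algebra ↑(Y.presheaf.stalk (f x)) R :=
      ((algebraMap ↑(X.presheaf.stalk x) R).comp (f.stalkMap x).hom).toAlgebra
    haveI : IsScalarTower (Y.presheaf.stalk (f x)) (X.presheaf.stalk x) R := .of_algebraMap_eq fun _ => rfl
    haveI : IsLocalHom (algebraMap (Y.presheaf.stalk (f x)) (X.presheaf.stalk x)) :=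
      inferInstanceAs (IsLocalHom (f.stalkMap x).hom)
    haveI : IsLocalHom (algebraMap (Y.presheaf.stalk (f x)) R) := ⟨fun a ha =>
      IsLocalHom.map_nonunit (f := algebraMap (Y.presheaf.stalk (f x)) (X.presheaf.stalk x)) a
        (IsLocalHom.map_nonunit (f := algebraMap (X.presheaf.stalk x) R) _ ha)⟩
    exact ⟨‹_›, of_weaklyEtale (Y.presheaf.stalk (f x)) (X.presheaf.stalk x) R⟩
  · intro h
    refine (Groth.Agent.S1412.result f).2 fun x => ?_
    letI := (f.stalkMap x).hom.toAlgebra
    obtain ⟨R, _, _, _, _, hR⟩ := Groth.Agent.HenselLib.exists_strictHenselization (X.presheaf.stalk x)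
    haveI := hR
    letI : Algebra ↑(Y.presheaf.stalk (f x)) R :=
      ((algebraMap ↑(X.presheaf.stalk x) R).comp (f.stalkMap x).hom).toAlgebra
    haveI : IsScalarTower (Y.presheaf.stalk (f x)) (X.presheaf.stalk x) R := .of_algebraMap_eq fun _ => rfl
    obtain ⟨hloc, hS⟩ := h x R
    haveI := hloc
    haveI := hS
    have := of_isStrictHenselization (Y.presheaf.stalk (f x)) (X.presheaf.stalk x) R
    exact ⟨this.flat, this.flat_lmul'⟩

end Groth.Agent.S1467
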