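import Groth.Statements.S14670
import Groth.Agent.Miracle.Basic
import Groth.Agent.ComplDeriv.RegUnram
import Mathlib.RingTheory.Flat.Localization

set_option autoImplicit false
universe u
open CAlg

namespace Groth.Agent.S14670

/-- Let R be a regular local ring and S an integral domain containing R as a subring over which it is a
finitely generated module, such that the localization of S at each of its maximal ideals is a
Cohen–Macaulay local ring. Then S is a flat R-module. (The published statement does not require S to
be a domain; in that generality it fails — for a discrete valuation ring R with residue field κ the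
ring R × κ contains R diagonally, is finite over R with Cohen–Macaulay localizations, and is not
flat — and the printed argument needs every maximal ideal of S to have height dim R, which holds
when S is a domain by going down.) -/
theorem result (R S : Type u) [CommRing R] [CommRing S]
    [IsRegularLocalRing R] [IsDomain S] [Algebra R S] [Module.Finite R S]
    (hinj : Function.Injective (algebraMap R S))
    (hCM : ∀ (q : Ideal S) [q.IsMaximal], LocCoh.IsCohenMacaulayLocalRing (Localization.AtPrime q)) :
    Module.Flat R S := by
  classical
  have : IsDomain R := DepthLib.isDomain_of_isRegularLocalRing R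
  have : IsIntegrallyClosed R := DepthLib.isIntegrallyClosed_of_isRegularLocalRing R
  have : IsNoetherianRing S := IsNoetherianRing.of_finite R S
  refine Module.flat_of_isLocalized_maximal (R := R) (S := S) (M := S) (fun q _ => Localization.AtPrime q)
    (fun q _ => Algebra.linearMap S _) fun q _ => ?_
  let T := Localization.AtPrime q
  have := hCM q
  have hq : q.comap (algebraMap R S) = IsLocalRing.maximalIdeal R :=
    IsLocalRing.eq_maximalIdeal (Ideal.isMaximal_comap_of_isIntegral_of_isMaximal q)
  have : IsLocalHom (algebraMap R T) := by
    refine ⟨fun a ha => ?_⟩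
    by_contra h
    rw [IsScalarTower.algebraMap_apply R S T, IsLocalization.AtPrime.isUnit_to_map_iff T q] at ha
    refine ha ?_
    change a ∈ q.comap (algebraMap R S)
    rw [hq]
    exact h
  refine Miracle.flat (R := R) (S := T) _ rfl (le_antisymm Miracle.ringKrullDim_le_add ?_)
  have hF : ringKrullDim (T ⧸ (IsLocalRing.maximalIdeal R).map (algebraMap R T)) ≤ (0 : ℕ) := by
    refine Ring.krullDimLE_iff.mp (Ring.krullDimLE_zero_iff.mpr fun P hP => ?_)
    let Q := P.comap (Ideal.Quotient.mk _)
    have hQ : (IsLocalRing.maximalIdeal R).map (algebraMap R T) ≤ Q := fun x hx => by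
      rw [Ideal.mem_comap, Ideal.Quotient.eq_zero_iff_mem.mpr hx]; exact P.zero_mem
    let Q₀ := Q.comap (algebraMap S T)
    have h0 : Q₀.comap (algebraMap R S) = IsLocalRing.maximalIdeal R := by
      rw [Ideal.comap_comap, ← IsScalarTower.algebraMap_eq]
      exact ((IsLocalRing.maximalIdeal.isMaximal R).eq_of_le (Ideal.IsPrime.ne_top inferInstance)
        (Ideal.map_le_iff_le_comap.mp hQ)).symm
    have hmax : Q₀.IsMaximal := Ideal.isMaximal_of_isIntegral_of_isMaximal_comap (R := R) Q₀ (by rw [h0]; infer_instance)
    have hle : Q₀ ≤ q := by
      intro x hx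
      by_contra hxq
      exact (Ideal.IsPrime.ne_top (I := Q) inferInstance)
        (Ideal.eq_top_of_isUnit_mem _ hx ((IsLocalization.AtPrime.isUnit_to_map_iff T q x).mpr hxq))
    have hQm : Q = IsLocalRing.maximalIdeal T := by
      rw [← IsLocalization.map_under q.primeCompl T Q, ← IsLocalization.AtPrime.map_eq_maximalIdeal q T]
      exact congrArg (Ideal.map _) (hmax.eq_of_le (Ideal.IsPrime.ne_top inferInstance) hle)
    have : Q.IsMaximal := hQm ▸ inferInstance
    exact (Ideal.map_comap_of_surjective _ Ideal.Quotient.mk_surjective P) ▸
      (Ideal.map_eq_top_or_isMaximal_of_surjective _ Ideal.Quotient.mk_surjective this).resolve_left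
        (fun h => hP.ne_top ((Ideal.map_comap_of_surjective _ Ideal.Quotient.mk_surjective P).symm.trans h))
  refine le_trans (b := ringKrullDim R) ?_ ?_
  · exact (add_le_add le_rfl hF).trans_eq (by rw [Nat.cast_zero, add_zero])
  rw [IsLocalization.AtPrime.ringKrullDim_eq_height q T, ← IsLocalRing.maximalIdeal_height_eq_ringKrullDim]
  have h := ComplDeriv.height_under_le (P := R) (⊥ : Ideal S) q bot_le
    (by rw [← RingHom.ker_eq_comap_bot]; exact (RingHom.injective_iff_ker_eq_bot _).mp hinj)
  rw [show q.under R = IsLocalRing.maximalIdeal R from hq] at h
  exact WithBot.coe_le_coe.mpr h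

end Groth.Agent.S14670
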