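import Groth.Statements.S14676
import Mathlib
-- import your own Groth.Agent.* helpers here

set_option autoImplicit false
universe u
open CAlg

namespace Groth.Agent.S14676

/-- Let A be a commutative ring which is separated and complete for the I-adic topology of an ideal I,
let P be any polynomial over A (not assumed monic) and a₀ an element of A such that P(a₀) lies in I
and P'(a₀) is a unit modulo I. Then there is a unique a in A congruent to a₀ modulo I with P(a) = 0. -/
theorem result (A : Type u) [CommRing A] (I : Ideal A) [IsAdicComplete I A]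
    (P : Polynomial A) (a₀ : A) (h₀ : P.eval a₀ ∈ I)
    (h₁ : IsUnit (Ideal.Quotient.mk I (P.derivative.eval a₀))) :
    ∃! a : A, a - a₀ ∈ I ∧ P.IsRoot a := by
  classical
  have hU : ∀ n : ℕ, ∃! r : A ⧸ I ^ n, IsNilpotent (Ideal.Quotient.mk (I ^ n) a₀ - r) ∧ Polynomial.aeval r P = 0 := by
    intro n
    have hnil : ∀ x ∈ I, IsNilpotent (Ideal.Quotient.mk (I ^ n) x) := fun x hx =>
      ⟨n, by rw [← map_pow, Ideal.Quotient.eq_zero_iff_mem]; exact Ideal.pow_mem_pow hx n⟩
    refine Polynomial.existsUnique_nilpotent_sub_and_aeval_eq_zero ?_ ?_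
    · rw [← Ideal.Quotient.algebraMap_eq, Polynomial.aeval_algebraMap_apply, Polynomial.coe_aeval_eq_eval]
      exact hnil _ h₀
    · rw [← Ideal.Quotient.algebraMap_eq, Polynomial.aeval_algebraMap_apply, Polynomial.coe_aeval_eq_eval,
        Ideal.Quotient.algebraMap_eq]
      obtain ⟨v, hv⟩ := h₁.exists_right_inv
      obtain ⟨v, rfl⟩ := Ideal.Quotient.mk_surjective v
      rw [← map_mul, ← map_one (Ideal.Quotient.mk I), Ideal.Quotient.eq] at hv
      have := (hnil _ hv).isUnit_add_one
      rw [map_sub, map_one, sub_add_cancel, map_mul] at this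
      exact isUnit_of_mul_isUnit_left this
  choose r hr hru using hU
  choose a ha using fun n => Ideal.Quotient.mk_surjective (r n)
  have hcompat : ∀ {m n : ℕ}, m ≤ n → Ideal.Quotient.mk (I ^ m) (a n) = r m := by
    intro m n hmn
    let π : A ⧸ I ^ n →ₐ[A] A ⧸ I ^ m := Ideal.Quotient.factorₐ A (Ideal.pow_le_pow_right hmn)
    have hπ : ∀ x, π (Ideal.Quotient.mk (I ^ n) x) = Ideal.Quotient.mk (I ^ m) x := fun x => rfl
    refine hru m _ ⟨?_, ?_⟩
    · have := ((hr n).1).map π
      rwa [← ha n, map_sub, hπ, hπ] at this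
    · rw [← hπ, ha n, Polynomial.aeval_algHom_apply, (hr n).2, map_zero]
  obtain ⟨L, hL⟩ := IsPrecomplete.prec (I := I) inferInstance (f := a) fun {m n} hmn => by
    rw [SModEq.sub_mem, smul_eq_mul, Ideal.mul_top, ← Ideal.Quotient.eq, ha m, hcompat hmn]
  have hLr : ∀ n, Ideal.Quotient.mk (I ^ n) L = r n := fun n => by
    have h := hL n
    rw [SModEq.sub_mem, smul_eq_mul, Ideal.mul_top, ← Ideal.Quotient.eq, ha n] at h
    exact h.symm
  refine ⟨L, ⟨?_, ?_⟩, fun b ⟨hb, hb'⟩ => ?_⟩
  · have h1 : Ideal.Quotient.mk (I ^ 1) a₀ = r 1 := hru 1 _ ⟨by simp, by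
      rw [← Ideal.Quotient.algebraMap_eq, Polynomial.aeval_algebraMap_apply, Polynomial.coe_aeval_eq_eval,
        Ideal.Quotient.algebraMap_eq, Ideal.Quotient.eq_zero_iff_mem, pow_one]
      exact h₀⟩
    rw [← hLr 1, eq_comm, Ideal.Quotient.eq, pow_one] at h1
    exact h1
  · refine IsHausdorff.haus (I := I) inferInstance _ fun n => ?_
    have h := (hr n).2
    rw [← hLr n, ← Ideal.Quotient.algebraMap_eq, Polynomial.aeval_algebraMap_apply, Polynomial.coe_aeval_eq_eval,
      Ideal.Quotient.algebraMap_eq, Ideal.Quotient.eq_zero_iff_mem] at h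
    rwa [SModEq.zero, smul_eq_mul, Ideal.mul_top]
  · refine sub_eq_zero.mp (IsHausdorff.haus (I := I) inferInstance _ fun n => ?_)
    have h : Ideal.Quotient.mk (I ^ n) b = r n := hru n _ ⟨⟨n, by
      rw [← map_sub, ← map_pow, Ideal.Quotient.eq_zero_iff_mem, ← neg_sub]
      exact Ideal.pow_mem_pow (neg_mem hb) n⟩, by
      rw [← Ideal.Quotient.algebraMap_eq, Polynomial.aeval_algebraMap_apply, Polynomial.coe_aeval_eq_eval,
        hb'.eq_zero, map_zero]⟩
    rw [SModEq.zero, smul_eq_mul, Ideal.mul_top, ← Ideal.Quotient.eq, h, hLr]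

end Groth.Agent.S14676
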