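import Groth.Statements.S14677
import Mathlib
-- import your own Groth.Agent.* helpers here

set_option autoImplicit false
universe u
open CAlg

namespace Groth.Agent.S14677

/-- Let A be a Noetherian commutative ring, I and J ideals of A and M a finitely generated A-module.
Then the map of I-adic completions induced by the inclusion of the submodule JM into M is injective
with image exactly J·M̂, where M̂ is the I-adic completion of M; that is, the completion of JM is J
times the completion of M. (The published statement does not say that A is Noetherian; its proof
uses exactness of completion on finitely generated modules, which needs it, so this row assumes A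
Noetherian.) -/
theorem result (A : Type u) [CommRing A] [IsNoetherianRing A] (I J : Ideal A)
    (M : Type u) [AddCommGroup M] [Module A M] [Module.Finite A M] :
    Function.Injective (AdicCompletion.map I (J • (⊤ : Submodule A M)).subtype) ∧
      LinearMap.range (AdicCompletion.map I (J • (⊤ : Submodule A M)).subtype) =
        (J.map (algebraMap A (AdicCompletion I A))) • (⊤ : Submodule (AdicCompletion I A) (AdicCompletion I M)) := by
  have hsmul : ∀ (j : A) (x : AdicCompletion I M),
      AdicCompletion.map I (j • (LinearMap.id : M →ₗ[A] M)) x = algebraMap A (AdicCompletion I A) j • x := by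
    intro j x
    rw [algebraMap_smul]
    apply AdicCompletion.induction_on I M x
    intro a
    ext n
    rw [AdicCompletion.val_smul_apply]
    simp
  refine ⟨AdicCompletion.map_injective I (Submodule.injective_subtype _), le_antisymm ?_ ?_⟩
  · obtain ⟨n, v, hv⟩ := Submodule.fg_iff_exists_fin_generating_family.1 (IsNoetherian.noetherian J)
    have hvJ : ∀ i, v i ∈ J := fun i => hv ▸ Submodule.subset_span ⟨i, rfl⟩
    let φ : (Fin n → M) →ₗ[A] (J • (⊤ : Submodule A M) : Submodule A M) :=
      LinearMap.codRestrict _ (∑ i, (v i • (LinearMap.id : M →ₗ[A] M)).comp (LinearMap.proj i)) (fun x => by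
        simp only [LinearMap.sum_apply, LinearMap.comp_apply, LinearMap.smul_apply, LinearMap.id_apply, LinearMap.proj_apply]
        exact Submodule.sum_mem _ fun i _ => Submodule.smul_mem_smul (hvJ i) trivial)
    have hφ : Function.Surjective φ := by
      rintro ⟨y, hy⟩
      suffices ∃ x : Fin n → M, ∑ i, v i • x i = y by
        obtain ⟨x, hx⟩ := this
        exact ⟨x, Subtype.ext (by simpa [φ, LinearMap.sum_apply] using hx)⟩
      refine Submodule.smul_induction_on hy ?_ ?_
      · intro r hr m _
        obtain ⟨c, hc⟩ := (Submodule.mem_span_range_iff_exists_fun A).1 (hv ▸ hr)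
        exact ⟨fun i => c i • m, by rw [← hc, Finset.sum_smul]; simp [smul_smul, mul_comm]⟩
      · intro a b ha hb
        obtain ⟨x, hx⟩ := ha
        obtain ⟨x', hx'⟩ := hb
        exact ⟨x + x', by simp [Finset.sum_add_distrib, hx, hx']⟩
    rintro _ ⟨z, rfl⟩
    obtain ⟨w, rfl⟩ := AdicCompletion.map_surjective I hφ z
    rw [AdicCompletion.map_comp_apply, LinearMap.subtype_comp_codRestrict]
    have hsum : ∀ s : Finset (Fin n),
        AdicCompletion.map I (∑ i ∈ s, (v i • (LinearMap.id : M →ₗ[A] M)).comp (LinearMap.proj i)) w =
          ∑ i ∈ s, algebraMap A (AdicCompletion I A) (v i) • AdicCompletion.map I (LinearMap.proj i : (Fin n → M) →ₗ[A] M) w := by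
      intro s
      induction s using Finset.induction_on with
      | empty => simp
      | @insert i s hi ih =>
        rw [Finset.sum_insert hi, Finset.sum_insert hi, ← ih, ← hsmul, AdicCompletion.map_comp_apply]
        apply AdicCompletion.induction_on I (Fin n → M) w
        intro a
        ext k
        simp
        simp only [← Submodule.mkQ_apply, map_sum, map_smul]
    rw [hsum]
    exact Submodule.sum_mem _ fun i _ => Submodule.smul_mem_smul (Ideal.mem_map_of_mem _ (hvJ i)) trivial
  · rw [Submodule.smul_le]
    intro r hr x _
    induction hr using Submodule.span_induction generalizing x with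
    | mem r hr =>
      obtain ⟨j, hj, rfl⟩ := hr
      rw [← hsmul]
      refine ⟨AdicCompletion.map I ((j • (LinearMap.id : M →ₗ[A] M)).codRestrict (J • ⊤)
        (fun m => Submodule.smul_mem_smul hj trivial)) x, ?_⟩
      rw [AdicCompletion.map_comp_apply, LinearMap.subtype_comp_codRestrict]
    | zero => simp
    | add a b _ _ ha hb => rw [add_smul]; exact Submodule.add_mem _ (ha x trivial) (hb x trivial)
    | smul c a _ ha => rw [smul_eq_mul, mul_smul]; exact Submodule.smul_mem _ _ (ha x trivial)

end Groth.Agent.S14677
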