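import Groth.Statements.S14679
import Mathlib.AlgebraicGeometry.PullbackCarrier
import Mathlib.AlgebraicGeometry.Morphisms.Preimmersion

set_option autoImplicit false
universe u
open CategoryTheory CategoryTheory.Limits AlgebraicGeometry
open EtBase

namespace Groth.Agent.S14679

/-- Given a morphism of schemes f : X ⟶ Y and a point x ∈ X with image y = f(x), such that the residue
field map κ(y) → κ(x) is bijective; let ℓ be an algebraic extension field of κ(y) and form the base
change X ×_Y Spec ℓ along Spec ℓ ⟶ Spec κ(y) ⟶ Y. Then there is exactly one point of X ×_Y Spec ℓ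
mapping to x under the first projection. (The published statement takes ℓ to be an algebraic closure
of κ(y), noting that any algebraic extension works, and also identifies the local ring at the point
with O_{X,x} ⊗_{O_{Y,y}} ℓ; this row allows any algebraic extension ℓ and states only the first
assertion.) -/
theorem result {X Y : Scheme.{u}} (f : X ⟶ Y) (x : ↥X)
    (hx : Function.Bijective (f.residueFieldMap x).hom)
    (ℓ : Type u) [Field ℓ] [Algebra (Y.residueField (f.base x)) ℓ] [Algebra.IsAlgebraic (Y.residueField (f.base x)) ℓ] :
    ∃! z : ↥(pullback f (Spec.map (CommRingCat.ofHom (algebraMap (Y.residueField (f.base x)) ℓ)) ≫ Y.fromSpecResidueField (f.base x))),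
      (pullback.fst f (Spec.map (CommRingCat.ofHom (algebraMap (Y.residueField (f.base x)) ℓ)) ≫ Y.fromSpecResidueField (f.base x))).base z = x := by
  set a := Spec.map (CommRingCat.ofHom (algebraMap (Y.residueField (f.base x)) ℓ))
  have : IsIso (f.residueFieldMap x) := (ConcreteCategory.isIso_iff_bijective _).mpr hx
  set g := a ≫ Y.fromSpecResidueField (f.base x) with hg
  have hj : X.fromSpecResidueField x ≫ f = Spec.map (f.residueFieldMap x) ≫ Y.fromSpecResidueField _ :=
    (Scheme.Hom.SpecMap_residueFieldMap_fromSpecResidueField f x).symm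
  let w : Spec (CommRingCat.of ℓ) ⟶ pullback (X.fromSpecResidueField x ≫ f) g :=
    pullback.lift (a ≫ inv (Spec.map (f.residueFieldMap x))) (𝟙 _) (by
      rw [hj, Category.assoc, IsIso.inv_hom_id_assoc, Category.id_comp, hg])
  have hP : IsPreimmersion (pullback.snd (X.fromSpecResidueField x ≫ f) g) := by
    refine MorphismProperty.pullback_snd (P := @IsPreimmersion) _ _ ?_
    rw [hj]; infer_instance
  let m := pullback.map (X.fromSpecResidueField x ≫ f) g f g (X.fromSpecResidueField x) (𝟙 _) (𝟙 _)
    (by simp) (by simp)
  have hm1 : m ≫ pullback.fst f g = pullback.fst _ _ ≫ X.fromSpecResidueField x := pullback.lift_fst _ _ _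
  obtain ⟨q⟩ : Nonempty ↥(Spec (CommRingCat.of ℓ)) := inferInstance
  refine ⟨m (w q), ?_, fun z hz => ?_⟩
  · show (pullback.fst f g) (m (w q)) = x
    rw [← Scheme.Hom.comp_apply, hm1, Scheme.Hom.comp_apply]
    exact X.fromSpecResidueField_apply x _
  · have hz' : z ∈ Set.range m := by
      rw [Scheme.Pullback.range_map, Scheme.range_fromSpecResidueField]
      exact ⟨hz, z |> pullback.snd f g, rfl⟩
    obtain ⟨z', rfl⟩ := hz'
    congr 1
    apply (pullback.snd (X.fromSpecResidueField x ≫ f) g).isEmbedding.injective
    exact @Subsingleton.elim _ (show Subsingleton (PrimeSpectrum ℓ) from inferInstance) _ _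

end Groth.Agent.S14679
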