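import Groth.Statements.S14680
import Mathlib.RingTheory.AdicCompletion.Exactness
import Mathlib.RingTheory.Filtration
-- import your own Groth.Agent.* helpers here

set_option autoImplicit false
universe u
open CAlg

namespace Groth.Agent.S14680

/-- Let A be a Noetherian commutative ring and f : M' → M, g : M → M'' linear maps between finitely
generated A-modules. Then the sequence 0 → M' → M → M'' → 0 is exact — f injective, the image of f
equal to the kernel of g, g surjective — if and only if for every maximal ideal m of A the sequence
of m-adic completions 0 → M'^ → M^ → M''^ → 0 (maps induced by f and g) is exact in the same sense. -/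
theorem result (A : Type u) [CommRing A] [IsNoetherianRing A]
    (M' M M'' : Type u) [AddCommGroup M'] [Module A M'] [AddCommGroup M] [Module A M] [AddCommGroup M''] [Module A M'']
    [Module.Finite A M'] [Module.Finite A M] [Module.Finite A M''] (f : M' →ₗ[A] M) (g : M →ₗ[A] M'') :
    (Function.Injective f ∧ Function.Exact f g ∧ Function.Surjective g) ↔
      ∀ (m : Ideal A) [m.IsMaximal],
        Function.Injective (AdicCompletion.map m f) ∧ Function.Exact (AdicCompletion.map m f) (AdicCompletion.map m g) ∧
          Function.Surjective (AdicCompletion.map m g) := by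
  classical
  have sep : ∀ (Q : Type u) [AddCommGroup Q] [Module A Q] [Module.Finite A Q] (x : Q),
      (∀ (m : Ideal A), m.IsMaximal → AdicCompletion.of m Q x = 0) → x = 0 := by
    intro Q _ _ _ x hx
    by_contra hne
    have hann : Submodule.colon (⊥ : Submodule A Q) {x} ≠ ⊤ := by
      rw [Ne, Ideal.eq_top_iff_one, Submodule.mem_colon_singleton, one_smul, Submodule.mem_bot]
      exact hne
    obtain ⟨m, hm, hle⟩ := Ideal.exists_le_maximal _ hann
    have hmem : x ∈ (⨅ i : ℕ, m ^ i • ⊤ : Submodule A Q) := Submodule.mem_iInf _ |>.2 fun i => by
      have h0 := congrArg (fun y : AdicCompletion m Q => y.1 i) (hx m hm)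
      simp only [AdicCompletion.of_apply, AdicCompletion.val_zero_apply,
        Submodule.mkQ_apply] at h0
      exact (Submodule.Quotient.mk_eq_zero _).1 h0
    obtain ⟨r, hr⟩ := (Ideal.mem_iInf_smul_pow_eq_bot_iff m x).1 hmem
    have h1 : (1 - (r : A)) ∈ m := hle (by
      rw [Submodule.mem_colon_singleton, Submodule.mem_bot, sub_smul, one_smul, hr, sub_self])
    exact hm.ne_top ((Ideal.eq_top_iff_one _).2 (by simpa using m.add_mem h1 r.2))
  constructor
  · rintro ⟨h1, h2, h3⟩ m hm
    exact ⟨AdicCompletion.map_injective m h1, AdicCompletion.map_exact h1 h2 h3 |> id,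
      AdicCompletion.map_surjective m h3⟩
  · intro h
    refine ⟨?_, ?_, ?_⟩
    · rw [injective_iff_map_eq_zero]
      intro x hx
      refine sep M' x fun m hm => (h m).1 ?_
      rw [AdicCompletion.map_of, hx, map_zero, map_zero]
    · intro x
      constructor
      · intro hx
        suffices (LinearMap.range f).mkQ x = 0 by
          rwa [Submodule.mkQ_apply, Submodule.Quotient.mk_eq_zero] at this
        refine sep _ _ fun m hm => ?_
        obtain ⟨y, hy⟩ := ((h m).2.1 (AdicCompletion.of m M x)).1
          (by rw [AdicCompletion.map_of, hx, map_zero])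
        rw [← AdicCompletion.map_of, ← hy, AdicCompletion.map_comp_apply,
          LinearMap.range_mkQ_comp, AdicCompletion.map_zero, LinearMap.zero_apply]
      · rintro ⟨y, rfl⟩
        refine sep _ _ fun m hm => ?_
        rw [← AdicCompletion.map_of, ← AdicCompletion.map_of]
        exact (h m).2.1.apply_apply_eq_zero _
    · rw [← LinearMap.range_eq_top, eq_top_iff]
      intro x _
      suffices (LinearMap.range g).mkQ x = 0 by
        rwa [Submodule.mkQ_apply, Submodule.Quotient.mk_eq_zero] at this
      refine sep _ _ fun m hm => ?_
      obtain ⟨y, hy⟩ := (h m).2.2 (AdicCompletion.of m M'' x)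
      rw [← AdicCompletion.map_of, ← hy, AdicCompletion.map_comp_apply,
        LinearMap.range_mkQ_comp, AdicCompletion.map_zero, LinearMap.zero_apply]

end Groth.Agent.S14680
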