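import Groth.Statements.S4114
import Groth.Agent.FinHopf.Reduced
import Mathlib.AlgebraicGeometry.Group.Affine

set_option autoImplicit false
universe u
open CategoryTheory MonoidalCategory CartesianMonoidalCategory MonObj GrpObj AlgebraicGeometry CategoryTheory.Limits
open SGA3

namespace Groth.Agent.S4114

open WithConv
open scoped CategoryTheory.Obj

lemma map_pow' {C D : Type*} [Category C] [CartesianMonoidalCategory C] [Category D]
    [CartesianMonoidalCategory D] (F : C ⥤ D) [F.Monoidal] {X G : C} [GrpObj G] (x : X ⟶ G) (n : ℕ) :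
    F.map (x ^ n) = (F.map x) ^ n := by
  induction n with
  | zero => simp [Functor.map_one]
  | succ n ih => rw [pow_succ, pow_succ, Functor.map_mul, ih]

/-- affine group scheme of rank `n` over a reduced ring -/
lemma affine_case (R : CommRingCat.{u}) [_root_.IsReduced R] (G : Over (Spec R)) [GrpObj G]
    [IsAffine G.left] [IsFinite G.hom] [Flat G.hom] [LocallyOfFinitePresentation G.hom] (n : ℕ)
    (hn : ∀ y, G.hom.finrank y = n) : (𝟙 G : G ⟶ G) ^ n = 1 := by
  obtain ⟨H, ⟨e⟩⟩ : (hopfSpec R).essImage (Grp.mk G) := essImage_hopfSpec.2 (inferInstanceAs (IsAffine G.left))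
  let A : Type u := H.unop
  let X : Over (Spec R) := (Spec (.of A)).asOver (Spec (.of R))
  let i : X ⟶ G := e.hom.hom.hom
  haveI : IsMonHom i := e.hom.hom.isMonHom_hom
  haveI : IsIso i := ((Grp.forget _).mapIso e).isIso_hom
  haveI : IsIso i.left := ((Over.forget _).mapIso (asIso i)).isIso_hom
  let il : Spec (CommRingCat.of A) ⟶ G.left := i.left
  haveI : IsIso il := inferInstanceAs (IsIso i.left)
  have hw : (Spec.map (CommRingCat.ofHom (algebraMap R A))) = il ≫ G.hom := (Over.w i).symm
  have hfin : IsFinite (Spec.map (CommRingCat.ofHom (algebraMap R A))) := by rw [hw]; infer_instance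
  have hflat : Flat (Spec.map (CommRingCat.ofHom (algebraMap R A))) := by rw [hw]; infer_instance
  have hfp : LocallyOfFinitePresentation (Spec.map (CommRingCat.ofHom (algebraMap R A))) := by
    rw [hw]; infer_instance
  haveI : Module.Finite R A := by
    rw [IsFinite.SpecMap_iff] at hfin
    exact RingHom.finite_algebraMap.1 hfin
  haveI : Module.Flat R A := by
    rw [Flat.SpecMap_iff] at hflat
    exact RingHom.flat_algebraMap_iff.1 hflat
  haveI : Module.Projective R A := by
    rw [HasRingHomProperty.Spec_iff (P := @LocallyOfFinitePresentation)] at hfp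
    haveI : Algebra.FinitePresentation R A := RingHom.finitePresentation_algebraMap.1 hfp
    haveI : Module.FinitePresentation R A :=
      Module.FinitePresentation.of_finite_of_finitePresentation R A
    exact Module.Flat.projective_of_finitePresentation
  have hA : (toConv (AlgHom.id R A)) ^ n = 1 := by
    refine Groth.Agent.FinHopf.pow_rank_eq_one n fun p => ?_
    have h := Scheme.Hom.finrank_SpecMap_algebraMap R A p
    rw [hw, Scheme.Hom.finrank_comp_left_of_isIso] at h
    exact h.symm.trans (hn p)
  have h1 := congrArg (AlgebraicGeometry.Spec.mapMulEquiv (R := R) (S := A) (T := A)) hA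
  rw [map_pow, map_one] at h1
  have hid : AlgebraicGeometry.Spec.mapMulEquiv (R := R) (S := A) (T := A) (toConv (AlgHom.id R A))
      = 𝟙 _ := by
    ext1
    show Spec.map (CommRingCat.ofHom (RingHom.id A)) = _
    simp
    rfl
  rw [hid] at h1
  have h2 : i ≫ (𝟙 G : G ⟶ G) ^ n = i ≫ 1 := by
    rw [MonObj.comp_pow, MonObj.comp_one, Category.comp_id]
    calc i ^ n = (𝟙 X ≫ i) ^ n := by rw [Category.id_comp]
      _ = ((𝟙 X : X ⟶ X) ^ n) ≫ i := (MonObj.pow_comp (𝟙 X) n i).symm
      _ = (1 : X ⟶ X) ≫ i := by rw [show ((𝟙 X : X ⟶ X) ^ n) = 1 from h1]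
      _ = 1 := MonObj.one_comp i
  exact (cancel_epi i).1 h2


/-- restriction to an affine open of the base -/
lemma local_case {S : Scheme.{u}} [IsReduced S] (G : Over S) [GrpObj G] [IsFinite G.hom] [Flat G.hom]
    [LocallyOfFinitePresentation G.hom] (n : ℕ) (hn : ∀ y, G.hom.finrank y = n)
    (R : CommRingCat.{u}) (jV : Spec R ⟶ S) [IsOpenImmersion jV] (T : Over (Spec R))
    (x : (Over.map jV).obj T ⟶ G) : x ^ n = 1 := by
  let G' := (Over.pullback jV).obj G
  haveI : IsFinite G'.hom := inferInstanceAs (IsFinite (pullback.snd G.hom jV))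
  haveI : Flat G'.hom := inferInstanceAs (Flat (pullback.snd G.hom jV))
  haveI : LocallyOfFinitePresentation G'.hom :=
    inferInstanceAs (LocallyOfFinitePresentation (pullback.snd G.hom jV))
  haveI : IsAffine G'.left := isAffine_of_isAffineHom G'.hom
  haveI : IsReduced (Spec R) := isReduced_of_isOpenImmersion jV
  haveI : _root_.IsReduced R := (affine_isReduced_iff R).1 inferInstance
  have hj : (𝟙 G' : G' ⟶ G') ^ n = 1 := by
    refine affine_case R G' n fun y => ?_
    show (pullback.snd G.hom jV).finrank y = n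
    rw [Scheme.Hom.finrank_pullback_snd]
    exact hn _
  let adj := Over.mapPullbackAdj jV
  apply (adj.homEquiv T G).injective
  rw [Adjunction.homEquiv_unit, Adjunction.homEquiv_unit, map_pow', Functor.map_one,
    MonObj.comp_pow, MonObj.comp_one]
  have h := congrArg (fun z => (adj.unit.app T ≫ (Over.pullback jV).map x) ≫ z) hj
  simp only [MonObj.comp_pow, MonObj.comp_one] at h
  rw [Category.comp_id] at h
  exact h

/-- Let S be a reduced scheme and G an S-group scheme which is finite locally free of constant rank n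
over S. Then the n-th power morphism of G is the trivial endomorphism (g ↦ gⁿ factors through the
unit section). -/
theorem result (S : Scheme.{u}) [IsReduced S] (G : Over S) [GrpObj G] (n : ℕ)
    (hG : Mor2.IsFinLocFreeOfDeg n G.hom) : (𝟙 G : G ⟶ G) ^ n = 1 := by
  obtain ⟨⟨hfin, hflat, hfp⟩, hdeg⟩ := hG
  haveI := hfin; haveI := hflat; haveI := hfp
  apply Over.OverMorphism.ext
  let 𝒰 := S.affineOpenCover
  refine Scheme.Cover.hom_ext (𝒰.openCover.pullback₁ G.hom) _ _ fun j => ?_
  let jV : Spec (𝒰.X j) ⟶ S := 𝒰.f j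
  haveI : IsOpenImmersion jV := S.affineOpenCover.map_prop j
  let T : Over (Spec (𝒰.X j)) := Over.mk (pullback.snd G.hom jV)
  let x : (Over.map jV).obj T ⟶ G := Over.homMk (pullback.fst G.hom jV) pullback.condition
  have h : x ≫ (𝟙 G : G ⟶ G) ^ n = x ≫ (1 : G ⟶ G) := by
    rw [MonObj.comp_pow, MonObj.comp_one, Category.comp_id, local_case G n hdeg _ jV T x]
  exact congrArg CommaMorphism.left h

end Groth.Agent.S4114
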