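import Groth.Statements.S14691
import Groth.Agent.S4114
-- import your own Groth.Agent.* helpers here

set_option autoImplicit false
universe u
open CategoryTheory AlgebraicGeometry
open SekSuwa
open scoped CategoryTheory.Obj
open MonoidalCategory CartesianMonoidalCategory MonObj GrpObj

namespace Groth.Agent.S14691

/-- Let R be a discrete valuation ring of characteristic zero and residue characteristic p, and G a
commutative finite flat R-group scheme of order m (finite locally free of degree m over Spec R).
Then the endomorphism of Ext¹(G, 𝔾_m) induced by the m-th power map of the multiplicative group —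
that is, multiplication by m on this group — is zero. Here Ext¹ is taken between the abelian sheaves
of points of G and of the split multiplicative group on the big fppf site of Spec R. (The published
statement is made under a standing assumption that R contains a primitive p²-th root of unity; this
row does not assume it, the argument not using it.) -/
theorem result (R : Type u) [CommRing R] [IsDomain R] [IsDiscreteValuationRing R] [CharZero R]
    (p : ℕ) [Fact p.Prime] [CharP (IsLocalRing.ResidueField R) p]
    (G : Over (Spec (CommRingCat.of R))) [GrpObj G] [IsCommMonObj G]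
    (m : ℕ) (hG : Mor2.IsFinLocFreeOfDeg m G.hom)
    (x : CGrpSh.ExtS Scheme.fppfPrecoverage G (Red.diag R ℤ) 1) : m • x = 0 := by
  have hpow : (𝟙 G : G ⟶ G) ^ m = 1 :=
    Groth.Agent.S4114.result (Spec (CommRingCat.of R)) G m hG
  have h0 : m • 𝟙 (CGrpSh.pts Scheme.fppfPrecoverage G) = 0 := by
    refine (sheafToPresheaf _ _).map_injective ?_
    rw [Functor.map_nsmul, Functor.map_zero]
    refine NatTrans.ext (funext fun T => ?_)
    rw [NatTrans.app_nsmul]
    refine AddCommGrpCat.hom_ext (AddMonoidHom.ext fun y => ?_)
    rw [AddCommGrpCat.hom_nsmul]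
    show m • y = 0
    obtain ⟨g⟩ := y
    refine ULift.ext _ _ (congrArg Additive.ofMul ?_)
    show (Additive.toMul g : Opposite.unop T ⟶ G) ^ m = 1
    rw [← Category.comp_id (Additive.toMul g), ← MonObj.comp_pow, hpow, MonObj.comp_one]
  have h1 : m • x = (Abelian.Ext.mk₀ (m • 𝟙 (CGrpSh.pts Scheme.fppfPrecoverage G))).comp x (zero_add 1) := by
    rw [show Abelian.Ext.mk₀ (m • 𝟙 (CGrpSh.pts Scheme.fppfPrecoverage G)) =
        m • Abelian.Ext.mk₀ (𝟙 (CGrpSh.pts Scheme.fppfPrecoverage G)) from
      map_nsmul Abelian.Ext.addEquiv₀.symm m _]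
    rw [show ((m • Abelian.Ext.mk₀ (𝟙 (CGrpSh.pts Scheme.fppfPrecoverage G))).comp x (zero_add 1)) =
        (Abelian.Ext.bilinearComp _ _ _ 0 1 1 (zero_add 1) (m • Abelian.Ext.mk₀ (𝟙 _))) x from rfl,
      map_nsmul, AddMonoidHom.nsmul_apply]
    exact congrArg (m • ·) (Abelian.Ext.mk₀_id_comp x).symm
  rw [h1, h0, Abelian.Ext.mk₀_zero, Abelian.Ext.zero_comp]

end Groth.Agent.S14691
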