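import Groth.Statements.S14692
import Mathlib
-- import your own Groth.Agent.* helpers here

set_option autoImplicit false
universe u
open CAlg

namespace Groth.Agent.S14692

open Polynomial

theorem choose_dvd {p : ℕ} (hp : p.Prime) {n i : ℕ} (hi : 0 < i) (hiN : i < p ^ n) :
    ∃ a < n, p ^ a ≤ i ∧ p ^ (n - a) ∣ (p ^ n).choose i ∧ p ^ n - i ≤ p ^ n - p ^ a := by
  obtain ⟨a, m, hm, rfl⟩ := Nat.exists_eq_pow_mul_and_not_dvd hi.ne' p hp.ne_one
  have hm0 : 0 < m := Nat.pos_of_ne_zero fun h => hm (h ▸ dvd_zero p)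
  have hle : p ^ a ≤ p ^ a * m := Nat.le_mul_of_pos_right _ hm0
  have han : a < n := (Nat.pow_lt_pow_iff_right hp.one_lt).1 (lt_of_le_of_lt hle hiN)
  refine ⟨a, han, hle, ?_, Nat.sub_le_sub_left hle _⟩
  have h := Nat.add_one_mul_choose_eq (p ^ n - 1) (p ^ a * m - 1)
  rw [Nat.sub_add_cancel (Nat.one_le_pow _ _ hp.pos), Nat.sub_add_cancel hi] at h
  have hd : p ^ a * p ^ (n - a) ∣ p ^ a * (m * (p ^ n).choose (p ^ a * m)) := by
    rw [← pow_add, Nat.add_sub_cancel' han.le]
    exact ⟨(p ^ n - 1).choose (p ^ a * m - 1), by rw [h]; ring⟩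
  have hd' := (Nat.mul_dvd_mul_iff_left (pow_pos hp.pos a)).1 hd
  exact (Nat.Coprime.pow_left _ ((Nat.Prime.coprime_iff_not_dvd hp).2 hm)).dvd_of_dvd_mul_left hd'

theorem pow_sub_pow_le {p : ℕ} (hp : 0 < p) : ∀ (a d : ℕ), p ^ (a + d + 1) - p ^ a ≤ (d + 1) * (p ^ (a + d) * (p - 1))
  | a, 0 => by simp [pow_succ, Nat.mul_sub]
  | a, d + 1 => by
    have h := pow_sub_pow_le hp a d
    have e : p ^ (a + (d + 1) + 1) - p ^ (a + d + 1) = p ^ (a + (d + 1)) * (p - 1) := by
      rw [Nat.mul_sub, mul_one, ← pow_succ]; rfl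
    have mono : p ^ (a + d) * (p - 1) ≤ p ^ (a + (d + 1)) * (p - 1) :=
      Nat.mul_le_mul_right _ (Nat.pow_le_pow_right hp (by omega))
    have e' : p ^ (a + (d + 1) + 1) - p ^ a ≤ (p ^ (a + (d + 1) + 1) - p ^ (a + d + 1)) + (p ^ (a + d + 1) - p ^ a) := by
      omega
    calc _ ≤ _ := e'
      _ ≤ p ^ (a + (d + 1)) * (p - 1) + (d + 1) * (p ^ (a + (d + 1)) * (p - 1)) := by
        rw [e]; exact Nat.add_le_add_left (h.trans (Nat.mul_le_mul_left _ mono)) _
      _ = _ := by ring

/-- `(1 + π^j Y)^N = 1 + π^(jN) (Y^N + π (∑ cᵢ Yⁱ))`. -/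
theorem expansion {A : Type*} [CommRing A] (p : ℕ) (hp : p.Prime) (π : A) (n j : ℕ) (hn : 0 < n)
    (hj : π ^ (p ^ (n - 1) * (p - 1) * (j + 1)) ∣ (p : A)) :
    ∃ c : ℕ → A, ∀ (L : Type _) [CommRing L] [Algebra A L] (y : L),
      (1 + algebraMap A L π ^ j * y) ^ (p ^ n) = 1 + algebraMap A L π ^ (j * p ^ n) *
        (y ^ (p ^ n) + algebraMap A L π * ∑ i ∈ Finset.Ico 1 (p ^ n), algebraMap A L (c i) * y ^ i) := by
  have key : ∀ i ∈ Finset.Ico 1 (p ^ n), π ^ (j * p ^ n + 1) ∣ ((p ^ n).choose i : A) * π ^ (j * i) := by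
    intro i hi
    rw [Finset.mem_Ico] at hi
    obtain ⟨a, han, -, hd, hle⟩ := choose_dvd hp hi.1 hi.2
    obtain ⟨d, rfl⟩ : ∃ d, n = a + d + 1 := ⟨n - a - 1, by omega⟩
    have hb := le_trans hle (pow_sub_pow_le hp.pos a d)
    rw [show a + d + 1 - 1 = a + d by omega] at hj
    rw [show a + d + 1 - a = d + 1 by omega] at hd
    set X := p ^ (a + d) * (p - 1) with hX
    have hX1 : 1 ≤ X := Nat.mul_pos (pow_pos hp.pos _) (Nat.sub_pos_of_lt hp.one_lt)
    have hexp : j * p ^ (a + d + 1) + 1 ≤ X * (j + 1) * (d + 1) + j * i := by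
      have hN : p ^ (a + d + 1) ≤ (d + 1) * X + i := by omega
      nlinarith [Nat.mul_le_mul_left j hN]
    refine (pow_dvd_pow π hexp).trans ?_
    rw [pow_add, pow_mul]
    refine mul_dvd_mul_right ((pow_dvd_pow_of_dvd hj _).trans ?_) _
    exact_mod_cast Nat.cast_dvd_cast (α := A) hd
  choose! c hc using key
  refine ⟨c, fun L _ _ y => ?_⟩
  have hN : 0 < p ^ n := pow_pos hp.pos n
  rw [add_comm (1 : L), add_pow, Finset.sum_range_succ, Finset.range_eq_Ico,
    Finset.sum_eq_sum_Ico_succ_bot hN]
  have hmid : ∀ i ∈ Finset.Ico 1 (p ^ n), (algebraMap A L π ^ j * y) ^ i * 1 ^ (p ^ n - i) * ((p ^ n).choose i : L) =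
      algebraMap A L π ^ (j * p ^ n) * (algebraMap A L π * (algebraMap A L (c i) * y ^ i)) := by
    intro i hi
    have := congrArg (algebraMap A L) (hc i hi)
    simp only [map_mul, map_pow, map_natCast] at this
    rw [one_pow, mul_one, mul_pow, ← pow_mul]
    linear_combination y ^ i * this
  rw [Finset.sum_congr rfl hmid, ← Finset.mul_sum, ← Finset.mul_sum]
  simp [Nat.choose_self, mul_pow, ← pow_mul]
  ring

/-- the minimal polynomial argument: an integral affine transform of a Kummer generator. -/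
theorem descent_step {A : Type u} [CommRing A] [IsDomain A] [IsIntegrallyClosed A] (π f : A) (hπ : π ≠ 0) (N : ℕ) (hN : 0 < N)
    {L : Type u} [CommRing L] [IsDomain L] [Algebra A L] (hinj : Function.Injective (algebraMap A L))
    (Z z : L) (hz : IsIntegral A z) (g u : A) (e : ℕ) (hg : g ≠ 0)
    (hrel : algebraMap A L g * Z = algebraMap A L u + algebraMap A L π ^ e * z)
    (hdeg : ∀ q : A[X], aeval Z q = 0 → q.natDegree < N → q = 0)
    (hZ : Z ^ N = algebraMap A L f) :
    ∃ c : A, u ^ N - f * g ^ N = π ^ (e * N) * c := by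
  have : Module.IsTorsionFree A L := Module.isTorsionFree_iff_algebraMap_injective.2 hinj
  set m := minpoly A z
  have hm : m.Monic := minpoly.monic hz
  have hge : N ≤ m.natDegree := by
    by_contra hlt
    push Not at hlt
    set d := m.natDegree with hd
    let q : A[X] := ∑ i ∈ Finset.range (d + 1), C (m.coeff i * π ^ (e * (d - i))) * (C g * X - C u) ^ i
    have hlin : (C g * X - C u).natDegree = 1 := by rw [sub_eq_add_neg, ← map_neg, natDegree_linear hg]
    have hco : q.coeff d = g ^ d := by
      simp only [q, finset_sum_coeff, coeff_C_mul]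
      rw [Finset.sum_eq_single d]
      · rw [hm.coeff_natDegree, Nat.sub_self, mul_zero, pow_zero, mul_one, one_mul]
        have := coeff_pow_of_natDegree_le (m := d) (le_of_eq hlin)
        rw [mul_one] at this
        rw [this]; simp
      · intro i hi hne
        rw [Finset.mem_range] at hi
        rw [coeff_eq_zero_of_natDegree_lt (lt_of_le_of_lt natDegree_pow_le (by rw [hlin]; omega)), mul_zero]
      · simp
    have hqd : q.natDegree ≤ d := natDegree_sum_le_of_forall_le _ _ fun i hi =>
      (natDegree_C_mul_le _ _).trans (natDegree_pow_le.trans (by rw [hlin]; rw [Finset.mem_range] at hi; omega))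
    have hq0 : aeval Z q = 0 := by
      have hmz := minpoly.aeval A z
      rw [aeval_eq_sum_range (R := A)] at hmz
      simp only [q, map_sum, map_mul, map_pow, map_sub, aeval_C, aeval_X, hrel, add_sub_cancel_left]
      have e1 : ∀ i ∈ Finset.range (d + 1), algebraMap A L (m.coeff i) * algebraMap A L π ^ (e * (d - i)) *
          (algebraMap A L π ^ e * z) ^ i = algebraMap A L π ^ (e * d) * (m.coeff i • z ^ i) := by
        intro i hi
        rw [Finset.mem_range] at hi
        rw [Algebra.smul_def, mul_pow, ← pow_mul]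
        rw [show e * d = e * (d - i) + e * i by rw [← Nat.mul_add, Nat.sub_add_cancel (by omega)], pow_add]
        ring
      rw [Finset.sum_congr rfl e1, ← Finset.mul_sum, hmz, mul_zero]
    have := hdeg q hq0 (lt_of_le_of_lt hqd hlt)
    exact pow_ne_zero d hg (by rw [← hco, this, coeff_zero])
  let P : A[X] := (C (π ^ e) * X + C u) ^ N - C (f * g ^ N)
  have hP : aeval z P = 0 := by
    simp only [P, map_sub, map_pow, map_add, map_mul, aeval_C, aeval_X]
    rw [show algebraMap A L π ^ e * z + algebraMap A L u = algebraMap A L g * Z by rw [hrel]; ring, mul_pow, hZ]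
    ring
  obtain ⟨r, hr⟩ := minpoly.isIntegrallyClosed_dvd hz hP
  have hlin : (C (π ^ e) * X + C u).natDegree = 1 := natDegree_linear (pow_ne_zero _ hπ)
  have hPd : P.natDegree ≤ N := by
    simp only [P]
    rw [natDegree_sub_C, natDegree_pow, hlin, mul_one]
  have hPN : P.coeff N = π ^ (e * N) := by
    simp only [P, coeff_sub, coeff_C, hN.ne', if_false, sub_zero]
    have := coeff_pow_of_natDegree_le (m := N) (le_of_eq hlin)
    rw [mul_one] at this
    rw [this]; simp [pow_mul, ← map_pow]
  have hr0 : r ≠ 0 := by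
    intro h0
    rw [h0, mul_zero] at hr
    rw [hr, coeff_zero] at hPN
    exact pow_ne_zero _ hπ hPN.symm
  have hmul : m.natDegree + r.natDegree ≤ N := by
    rw [← natDegree_mul hm.ne_zero hr0, ← hr]; exact hPd
  have hrC : r = C (r.coeff 0) := eq_C_of_natDegree_eq_zero (by omega)
  have hr1 : r.coeff 0 = π ^ (e * N) := by
    rw [← hPN, hr, show N = m.natDegree by omega, show m * r = C (r.coeff 0) * m by rw [← hrC, mul_comm],
      coeff_C_mul, hm.coeff_natDegree, mul_one]
  refine ⟨m.coeff 0, ?_⟩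
  have h0 : P.coeff 0 = (m * r).coeff 0 := by rw [← hr]
  rw [mul_coeff_zero, hr1, coeff_zero_eq_eval_zero] at h0
  simp only [P, eval_sub, eval_pow, eval_add, eval_mul, eval_C, eval_X, mul_zero, zero_add] at h0
  linear_combination h0


/-- Let R be a discrete valuation ring of characteristic zero and residue characteristic p, with
uniformizer π and a primitive p^n-th root of unity ζ (n ≥ 1), and A a Noetherian integrally closed
domain which is a faithfully flat R-algebra, in which πA is a prime ideal and every element that is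
a unit modulo π is a unit (as when A is π-adically complete, or local). Let f, g be units of A, j a
natural number with π^{p^{n−1}(p−1)(j+1)} dividing p (that is, j is less than the valuation of ζ −
1, so that the polynomials ((1 + π^{j}T)^{p^n} − 1)/π^{jp^n} and ((1 + π^{j+1}T)^{p^n} −
1)/π^{(j+1)p^n} have coefficients in R), and f₀ ∈ A with f·g^{p^n} = 1 + π^{j p^n}·f₀; suppose j is
maximal with this property: there is no unit g' of A with f·g'^{p^n} ≡ 1 modulo π^{(j+1)p^n}.
Suppose moreover that the algebra L = A[1/π][Z]/(Z^{p^n} − f) is an integral domain (the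
μ_{p^n}-torsor Z^{p^n} = f is connected on the generic fibre) and that, B denoting the integral
closure of A in L (the normalization of Spec A in that cover), the ideal πB is radical (the
normalization has reduced special fibre). Then f₀ is not congruent modulo πA to a p^n-th power. (The
published statement phrases the hypothesis on j as: the class of the torsor Z^{p^n} = f lies in
H¹(Spec A, G_{π^j,n}) and not in H¹(Spec A, G_{π^{j+1},n}); the conditions on g and g' are its
ring-theoretic form, which is the first assertion of the same lemma; A is there factorial and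
π-adically complete, or normal local, which this row keeps only through the consequences used:
integrally closed, and units lift modulo π.) -/
theorem result
    (R : Type u) [CommRing R] [IsDomain R] [IsDiscreteValuationRing R] [CharZero R]
    (p : ℕ) [Fact p.Prime] [CharP (IsLocalRing.ResidueField R) p] (ϖ : R) (hϖ : Irreducible ϖ)
    (n : ℕ) (hn : 0 < n) (ζ : R) (hζ : IsPrimitiveRoot ζ (p ^ n))
    (A : Type u) [CommRing A] [IsDomain A] [IsNoetherianRing A] [IsIntegrallyClosed A] [Algebra R A]
    [Module.FaithfullyFlat R A]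
    (hprime : (Ideal.span {algebraMap R A ϖ}).IsPrime)
    (hlift : ∀ a : A, IsUnit (Ideal.Quotient.mk (Ideal.span {algebraMap R A ϖ}) a) → IsUnit a)
    (f g : Aˣ) (j : ℕ) (hj : ϖ ^ (p ^ (n - 1) * (p - 1) * (j + 1)) ∣ (p : R)) (f₀ : A)
    (hfg : (f : A) * (g : A) ^ (p ^ n) = 1 + (algebraMap R A ϖ) ^ (j * p ^ n) * f₀)
    (hmax : ∀ (g' : Aˣ) (c : A), (f : A) * (g' : A) ^ (p ^ n) ≠ 1 + (algebraMap R A ϖ) ^ ((j + 1) * p ^ n) * c)
    [IsDomain (AdjoinRoot (Polynomial.X ^ (p ^ n) - Polynomial.C (algebraMap A (Localization.Away (algebraMap R A ϖ)) (f : A))))]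
    (hred : (Ideal.span {algebraMap A (integralClosure A (AdjoinRoot (Polynomial.X ^ (p ^ n) - Polynomial.C (algebraMap A (Localization.Away (algebraMap R A ϖ)) (f : A))))) (algebraMap R A ϖ)}).IsRadical)
    (g₀ : A) : f₀ - g₀ ^ (p ^ n) ∉ Ideal.span {(algebraMap R A ϖ)} := by
  intro hmem
  have hp : p.Prime := Fact.out
  set π := algebraMap R A ϖ with hπdef
  set N := p ^ n with hNdef
  have hN : 0 < N := pow_pos hp.pos n
  have hπ : π ≠ 0 := fun h => hϖ.ne_zero ((FaithfulSMul.algebraMap_injective R A) (by rw [← hπdef, h, map_zero]))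
  have hjA : π ^ (p ^ (n - 1) * (p - 1) * (j + 1)) ∣ (p : A) := by
    simpa [hπdef] using map_dvd (algebraMap R A) hj
  have : IsDomain (Localization.Away π) :=
    IsLocalization.isDomain_localization (powers_le_nonZeroDivisors_of_noZeroDivisors hπ)
  set L := AdjoinRoot (Polynomial.X ^ N - Polynomial.C (algebraMap A (Localization.Away π) (f : A)))
  have hinj : Function.Injective (algebraMap A L) := by
    rw [IsScalarTower.algebraMap_eq A (Localization.Away π) L]
    exact (AdjoinRoot.of.injective_of_degree_ne_zero (by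
      rw [Polynomial.degree_X_pow_sub_C hN]; exact_mod_cast hN.ne')).comp
      (IsLocalization.injective (Localization.Away π) (powers_le_nonZeroDivisors_of_noZeroDivisors hπ))
  obtain ⟨ι, hι⟩ : ∃ ι : L, algebraMap A L π * ι = 1 :=
    ((IsLocalization.Away.algebraMap_isUnit (S := Localization.Away π) π).map (algebraMap (Localization.Away π) L)).exists_right_inv.imp
      fun x hx => by rw [← hx, IsScalarTower.algebraMap_apply A (Localization.Away π) L]
  let Z : L := AdjoinRoot.root _
  have hZ : Z ^ N = algebraMap A L (f : A) := by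
    have := AdjoinRoot.aeval_eq (f := Polynomial.X ^ N - Polynomial.C (algebraMap A (Localization.Away π) (f : A))) (Polynomial.X ^ N - Polynomial.C (algebraMap A (Localization.Away π) (f : A)))
    rw [AdjoinRoot.mk_self, map_sub, map_pow, Polynomial.aeval_X, Polynomial.aeval_C, sub_eq_zero] at this
    rw [IsScalarTower.algebraMap_apply A (Localization.Away π) L]
    exact this
  obtain ⟨c, hc⟩ := expansion p hp π n j hn hjA
  let y : L := (algebraMap A L g * Z - 1) * ι ^ j
  have hgy : algebraMap A L g * Z = 1 + algebraMap A L π ^ j * y := by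
    have : algebraMap A L π ^ j * ι ^ j = 1 := by rw [← mul_pow, hι, one_pow]
    simp only [y]; linear_combination -(algebraMap A L g * Z - 1) * this
  have hQ : y ^ N + algebraMap A L π * ∑ i ∈ Finset.Ico 1 N, algebraMap A L (c i) * y ^ i = algebraMap A L f₀ := by
    have h1 := hc L y
    rw [← hgy, mul_pow, hZ, ← map_pow, ← map_mul, mul_comm, hfg, map_add, map_one, map_mul, map_pow] at h1
    refine mul_left_cancel₀ (pow_ne_zero (j * N) ?_) (add_left_cancel h1.symm)
    exact fun h => one_ne_zero (α := L) (by rw [← hι, h, zero_mul])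
  have hy : IsIntegral A y := by
    refine ⟨Polynomial.X ^ N + (Polynomial.C π * ∑ i ∈ Finset.Ico 1 N, Polynomial.C (c i) * Polynomial.X ^ i - Polynomial.C f₀),
      Polynomial.monic_X_pow_add ?_, ?_⟩
    · refine lt_of_le_of_lt (Polynomial.degree_sub_le _ _) (max_lt ?_ (lt_of_le_of_lt Polynomial.degree_C_le (by exact_mod_cast hN)))
      refine lt_of_le_of_lt (Polynomial.degree_mul_le _ _) (lt_of_le_of_lt (add_le_add Polynomial.degree_C_le le_rfl) ?_)
      rw [zero_add]
      refine lt_of_le_of_lt (Polynomial.degree_sum_le _ _) ((Finset.sup_lt_iff (WithBot.bot_lt_coe N)).2 fun i hi => ?_)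
      exact lt_of_le_of_lt (Polynomial.degree_C_mul_X_pow_le _ _) (WithBot.coe_lt_coe.2 (Finset.mem_Ico.1 hi).2)
    · simp only [← Polynomial.aeval_def, map_add, map_sub, map_mul, map_sum, map_pow, Polynomial.aeval_X, Polynomial.aeval_C]
      linear_combination hQ
  let Y : integralClosure A L := ⟨y, hy⟩
  obtain ⟨b, hb⟩ := Ideal.mem_span_singleton'.1 hmem
  have hYN : (Y - algebraMap A _ g₀) ^ N ∈ Ideal.span {algebraMap A (integralClosure A L) π} := by
    obtain ⟨r, hr⟩ := (Commute.all (Y - algebraMap A _ g₀) (algebraMap A _ g₀)).exists_add_pow_prime_pow_eq hp n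
    rw [sub_add_cancel] at hr
    obtain ⟨w, hw⟩ : π ∣ (p : A) := (dvd_pow_self π (Nat.mul_ne_zero (Nat.mul_ne_zero (pow_ne_zero _ hp.ne_zero)
      (Nat.sub_pos_of_lt hp.one_lt).ne') (Nat.succ_ne_zero j))).trans hjA
    have hQY : Y ^ N + algebraMap A _ π * ∑ i ∈ Finset.Ico 1 N, algebraMap A _ (c i) * Y ^ i = algebraMap A _ f₀ :=
      Subtype.ext (by simp only [AddMemClass.coe_add, MulMemClass.coe_mul, SubmonoidClass.coe_pow,
        AddSubmonoidClass.coe_finset_sum]; exact hQ)
    refine Ideal.mem_span_singleton'.2 ⟨algebraMap A _ b - ∑ i ∈ Finset.Ico 1 N, algebraMap A _ (c i) * Y ^ i - algebraMap A _ w * ((Y - algebraMap A _ g₀) * algebraMap A _ g₀ * r), ?_⟩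
    have hb' := congrArg (algebraMap A (integralClosure A L)) hb
    have hw' := congrArg (algebraMap A (integralClosure A L)) hw
    rw [map_mul, map_sub, map_pow] at hb'
    rw [map_natCast, map_mul] at hw'
    linear_combination hb' - hQY + hr + ((Y - algebraMap A _ g₀) * algebraMap A _ g₀ * r) * hw'
  obtain ⟨z, hz⟩ := Ideal.mem_span_singleton'.1 (hred ⟨N, hYN⟩)
  have hzL : (z : L) * algebraMap A L π = y - algebraMap A L g₀ := by
    simpa [Y] using congrArg Subtype.val hz
  have hrel : algebraMap A L g * Z = algebraMap A L (1 + π ^ j * g₀) + algebraMap A L π ^ (j + 1) * z := by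
    rw [hgy, map_add, map_one, map_mul, map_pow]
    linear_combination -(algebraMap A L π ^ j) * hzL
  obtain ⟨c', hc'⟩ := descent_step π (f : A) hπ N hN hinj Z z z.2 g (1 + π ^ j * g₀) (j + 1) g.ne_zero hrel (by
    intro q hq hdq
    have h0 : Polynomial.aeval Z (q.map (algebraMap A (Localization.Away π))) = 0 := by
      rw [Polynomial.aeval_map_algebraMap]; exact hq
    rw [AdjoinRoot.aeval_eq, AdjoinRoot.mk_eq_zero] at h0
    have := Polynomial.eq_zero_of_dvd_of_natDegree_lt h0 (lt_of_le_of_lt Polynomial.natDegree_map_le (by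
      rw [Polynomial.natDegree_X_pow_sub_C]; exact hdq))
    exact Polynomial.map_injective _ (IsLocalization.injective (Localization.Away π)
      (powers_le_nonZeroDivisors_of_noZeroDivisors hπ)) (by rw [this, Polynomial.map_zero])) hZ
  have hu : IsUnit (1 + π ^ j * g₀) := by
    refine hlift _ ?_
    have e : (Ideal.Quotient.mk (Ideal.span {π})) π = 0 :=
      Ideal.Quotient.eq_zero_iff_mem.2 (Ideal.mem_span_singleton_self π)
    refine (isUnit_pow_iff (a := Ideal.Quotient.mk (Ideal.span {π}) (1 + π ^ j * g₀)) hN.ne').1 ?_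
    have h := congrArg (Ideal.Quotient.mk (Ideal.span {π})) hc'
    rw [map_sub, map_mul _ (π ^ _), map_pow _ π, e, zero_pow (Nat.mul_ne_zero (by omega) hN.ne'), zero_mul, sub_eq_zero, map_pow] at h
    rw [h]
    exact (f * g ^ N).isUnit.map _
  obtain ⟨v, hv⟩ := hu
  refine hmax (g * v⁻¹) (-c' * ↑(v⁻¹) ^ N) ?_
  rw [← hv] at hc'
  have hvv : (v : A) ^ N * (↑(v⁻¹) : A) ^ N = 1 := by rw [← mul_pow, Units.mul_inv, one_pow]
  rw [Units.val_mul, mul_pow]
  linear_combination -(↑(v⁻¹) : A) ^ N * hc' + hvv

end Groth.Agent.S14692
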