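import Groth.Statements.S14693
-- import your own Groth.Agent.* helpers here

set_option autoImplicit false
universe u
open CategoryTheory AlgebraicGeometry
open SekSuwa

open CategoryTheory CategoryTheory.Limits MonoidalCategory CartesianMonoidalCategory MonObj AlgebraicGeometry

namespace Groth.Agent.S14693

/-- For any commutative ring R, λ ∈ R and N such that λ is a non-zero-divisor and λ^N divides (1 + λX)^N
− 1 in R[X] with quotient P_{λ,N}, the closed subgroup scheme G_{λ,N} = Spec R[T]/(P_{λ,N}(T)) of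
the affine R-group G^(λ) = Spec R[T, 1/(1+λT)] (group law s + t + λst) is the kernel of the
homomorphism ψ_{λ,N} : G^(λ) → G^(λ^N), T ↦ P_{λ,N}(T): the square with sides the inclusion G_{λ,N}
→ G^(λ), ψ_{λ,N}, the unit section of G^(λ^N) and G_{λ,N} → Spec R is cartesian. (The published
text, over a discrete valuation ring and with N = p^n, introduces G_{λ,n} as the kernel of the
isogeny ψ_{λ,n}; this row is that assertion for every N, including the degenerate N = 0 where ψ is
trivial and G_{λ,0} = G^(λ).) -/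
theorem result (R : Type u) [CommRing R] (lam : R) (N : ℕ) (h : SekSuwa.DivCond lam N) :
    AlgGrp.IsKernel (SekSuwa.incl R lam N h) (SekSuwa.psi R lam N h) := by
  let q : CommRingCat.of (SekSuwa.A R (lam ^ N)) ⟶ CommRingCat.of (SekSuwa.A R lam) :=
    CommRingCat.ofHom (SekSuwa.psiHom R lam N h : SekSuwa.A R (lam ^ N) →+* SekSuwa.A R lam)
  let ε : CommRingCat.of (SekSuwa.A R (lam ^ N)) ⟶ CommRingCat.of R :=
    CommRingCat.ofHom (Bialgebra.counitAlgHom R (SekSuwa.A R (lam ^ N)) : SekSuwa.A R (lam ^ N) →+* R)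
  let mk : CommRingCat.of (SekSuwa.A R lam) ⟶ CommRingCat.of (SekSuwa.AK R lam N h) :=
    CommRingCat.ofHom (SekSuwa.AK.mkHom R lam N h : SekSuwa.A R lam →+* SekSuwa.AK R lam N h)
  let strMap : CommRingCat.of R ⟶ CommRingCat.of (SekSuwa.AK R lam N h) :=
    CommRingCat.ofHom (algebraMap R (SekSuwa.AK R lam N h))
  have hcomm : q ≫ mk = ε ≫ strMap := by
    ext z
    exact DFunLike.congr_fun (SekSuwa.mkHom_comp_psiHom R lam N h) z
  have hpo : IsPushout q ε mk strMap := by
    have key : ∀ (s : PushoutCocone q ε), ∀ a ∈ SekSuwa.kerIdeal lam N h, s.inl.hom a = 0 := by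
      intro s a ha
      obtain ⟨c, rfl⟩ := Ideal.mem_span_singleton'.mp ha
      have e := congrArg (fun k => k.hom (SekSuwa.A.t : SekSuwa.A R (lam ^ N))) s.condition
      change s.inl.hom (SekSuwa.psiHom R lam N h SekSuwa.A.t) =
        s.inr.hom (CoalgebraStruct.counit (R := R) (SekSuwa.A.t : SekSuwa.A R (lam ^ N))) at e
      rw [SekSuwa.psiHom_t, SekSuwa.A.counit_t, map_zero] at e
      rw [map_mul, e, mul_zero]
    refine IsPushout.of_isColimit' ⟨hcomm⟩ (PushoutCocone.IsColimit.mk _
      (fun s => CommRingCat.ofHom (Ideal.Quotient.lift (SekSuwa.kerIdeal lam N h) s.inl.hom (key s)))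
      (fun s => ?_) (fun s => ?_) (fun s m h1 _ => ?_))
    · ext z
      exact Ideal.Quotient.lift_mk _ _ (key s)
    · ext r
      have e := congrArg (fun k => k.hom (algebraMap R (SekSuwa.A R (lam ^ N)) r)) s.condition
      change s.inl.hom (SekSuwa.psiHom R lam N h (algebraMap R (SekSuwa.A R (lam ^ N)) r)) =
        s.inr.hom (Bialgebra.counitAlgHom R (SekSuwa.A R (lam ^ N)) (algebraMap R (SekSuwa.A R (lam ^ N)) r)) at e
      rw [AlgHom.commutes, AlgHomClass.commutes] at e
      exact (Ideal.Quotient.lift_mk _ _ (key s)).trans e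
    · ext z
      obtain ⟨z, rfl⟩ := Ideal.Quotient.mk_surjective z
      exact (congrArg (fun k => k.hom z) h1).trans (Ideal.Quotient.lift_mk _ _ (key s)).symm
  have hsq := isPullback_SpecMap_of_isPushout q ε mk strMap hpo
  show IsPullback (SekSuwa.incl R lam N h) (toUnit _) (SekSuwa.psi R lam N h) η[SekSuwa.G R (lam ^ N)]
  refine IsPullback.of_map (Over.forget _) ?_ ?_
  · rw [SekSuwa.incl_psi, Hom.one_def]
  · have hu : (toUnit (SekSuwa.GK R lam N h)).left = Spec.map strMap := by
      rw [← Category.comp_id (toUnit (SekSuwa.GK R lam N h)).left]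
      exact Over.w (toUnit (SekSuwa.GK R lam N h))
    simp only [Over.forget_map]
    rw [hu, one_spec_asOver_spec_left]
    exact hsq

end Groth.Agent.S14693
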