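import Groth.Statements.S14694
-- import your own Groth.Agent.* helpers here

set_option autoImplicit false
universe u
open CategoryTheory AlgebraicGeometry
open SekSuwa

namespace Groth.Agent.S14694

/-- For any commutative ring R, λ ∈ R and N ≥ 1 such that λ is a non-zero-divisor and λ^N divides (1 +
λX)^N − 1 in R[X] with quotient P_{λ,N}, the R-group scheme G_{λ,N}, defined as the closed subscheme
of the affine R-group G^(λ) = Spec R[T, 1/(1+λT)] cut out by P_{λ,N}(T), is finite locally free of
degree N over Spec R (its coordinate ring is R[T]/(P_{λ,N}(T)) with P_{λ,N} monic of degree N). (The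
published text states this over a discrete valuation ring with N = p^n: G_{λ,n} is a commutative
finite flat group scheme of rank p^n.) -/
theorem result (R : Type u) [CommRing R] (lam : R) (N : ℕ) (hN : 0 < N) (h : SekSuwa.DivCond lam N) :
    Mor2.IsFinLocFreeOfDeg N (SekSuwa.GK R lam N h).hom := by
  classical
  let P := SekSuwa.psiPoly lam N h
  have hco : ∀ k : ℕ, lam ^ N * P.coeff k = (if k = 0 then 0 else (N.choose k : R) * lam ^ k) := by
    intro k
    have e := congrArg (fun q => Polynomial.coeff q k) (SekSuwa.psiPoly_spec h)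
    have h1 : (1 + Polynomial.C lam * Polynomial.X) ^ N = ((1 + Polynomial.X : Polynomial R) ^ N).comp (Polynomial.C lam * Polynomial.X) := by
      simp [Polynomial.pow_comp]
    simp only [Polynomial.coeff_C_mul, Polynomial.coeff_sub, h1, Polynomial.comp_C_mul_X_coeff,
      Polynomial.coeff_one_add_X_pow, Polynomial.coeff_one] at e
    rw [e]
    by_cases hk : k = 0 <;> simp [hk]
  have hN' : P.coeff N = 1 := by
    have e := hco N
    rw [if_neg hN.ne', Nat.choose_self, Nat.cast_one, one_mul] at e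
    have h0 : P.coeff N - 1 = 0 := (mul_right_mem_nonZeroDivisors_eq_zero_iff h.pow_nzd).mp
      (by rw [mul_comm, mul_sub, e, mul_one, sub_self])
    exact sub_eq_zero.mp h0
  have hle : P.natDegree ≤ N := Polynomial.natDegree_le_iff_coeff_eq_zero.mpr fun k hk => by
    have e := hco k
    rw [if_neg (by omega), Nat.choose_eq_zero_of_lt hk, Nat.cast_zero, zero_mul] at e
    exact (mul_right_mem_nonZeroDivisors_eq_zero_iff h.pow_nzd).mp (by rw [mul_comm]; exact e)
  have hmon : P.Monic := Polynomial.monic_of_natDegree_le_of_coeff_eq_one N hle hN'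
  let r : AdjoinRoot P := AdjoinRoot.root P
  have hrel : (1 + lam • r) * (1 + lam • r) ^ (N - 1) = 1 := by
    rw [← pow_succ', Nat.sub_add_cancel hN]
    have e := SekSuwa.aeval_psiPoly h r
    have hz : Polynomial.aeval r (SekSuwa.psiPoly lam N h) = 0 := by
      rw [AdjoinRoot.aeval_eq, AdjoinRoot.mk_self]
    rw [hz, mul_zero] at e
    rw [Algebra.smul_def]
    exact sub_eq_zero.mp e.symm
  let g₀ : SekSuwa.A R lam →ₐ[R] AdjoinRoot P := SekSuwa.A.lift R lam r _ hrel
  let g : SekSuwa.AK R lam N h →ₐ[R] AdjoinRoot P := Ideal.Quotient.liftₐ (SekSuwa.kerIdeal lam N h) g₀ (by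
    intro a ha
    obtain ⟨c, rfl⟩ := Ideal.mem_span_singleton'.mp ha
    rw [map_mul, SekSuwa.kerGen, ← Polynomial.aeval_algHom_apply, SekSuwa.A.lift_t, AdjoinRoot.aeval_eq,
      AdjoinRoot.mk_self, mul_zero])
  let f : AdjoinRoot P →ₐ[R] SekSuwa.AK R lam N h :=
    AdjoinRoot.liftAlgHom P (Algebra.ofId R _) SekSuwa.AK.t SekSuwa.AK.aeval_t
  have hgt : g SekSuwa.AK.t = r := SekSuwa.A.lift_t _ _ hrel
  have hgi : g SekSuwa.AK.inv = (1 + lam • r) ^ (N - 1) := SekSuwa.A.lift_inv _ _ hrel
  have hft : f r = SekSuwa.AK.t := AdjoinRoot.liftAlgHom_root _ _ _ _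
  let e : AdjoinRoot P ≃ₐ[R] SekSuwa.AK R lam N h := AlgEquiv.ofAlgHom f g (by
    apply SekSuwa.AK.algHom_ext
    · rw [AlgHom.comp_apply, hgt, hft]; rfl
    · rw [AlgHom.comp_apply, hgi, map_pow, map_add, map_one, map_smul, hft, AlgHom.id_apply]
      have hu : (1 + lam • (SekSuwa.AK.t : SekSuwa.AK R lam N h)) * SekSuwa.AK.inv = 1 := by
        have e := congrArg (SekSuwa.AK.mkHom R lam N h) (SekSuwa.A.u_mul_inv (R := R) (lam := lam))
        rw [map_mul, SekSuwa.A.u, map_add, map_one, map_smul] at e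
        exact e
      calc (1 + lam • (SekSuwa.AK.t : SekSuwa.AK R lam N h)) ^ (N - 1)
          = (1 + lam • (SekSuwa.AK.t : SekSuwa.AK R lam N h)) ^ (N - 1) * ((1 + lam • SekSuwa.AK.t) * SekSuwa.AK.inv) := by
            rw [hu, mul_one]
        _ = SekSuwa.AK.inv := by rw [← mul_assoc, ← pow_succ, Nat.sub_add_cancel hN, SekSuwa.AK.u_pow, one_mul])
    (AdjoinRoot.algHom_ext (by rw [AlgHom.comp_apply, hft, hgt]; rfl))
  let b := (AdjoinRoot.powerBasis' hmon).basis.map e.toLinearEquiv
  haveI : Module.Free R (SekSuwa.AK R lam N h) := Module.Free.of_basis b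
  haveI : Module.Finite R (SekSuwa.AK R lam N h) := Module.Finite.of_basis b
  let π := Spec.map (CommRingCat.ofHom (algebraMap R (SekSuwa.AK R lam N h)))
  have hπ : (SekSuwa.GK R lam N h).hom = π := rfl
  rw [hπ]
  refine ⟨⟨IsFinite.SpecMap_iff _ |>.2 (RingHom.finite_algebraMap.2 inferInstance), ?_, ?_⟩, fun p => ?_⟩
  · exact (HasRingHomProperty.Spec_iff (P := @Flat)).2 (RingHom.flat_algebraMap_iff.mpr inferInstance)
  · haveI : Algebra.FinitePresentation R (SekSuwa.AK R lam N h) :=
      (AdjoinRoot.finitePresentation P).equiv e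
    exact (HasRingHomProperty.Spec_iff (P := @LocallyOfFinitePresentation)).2
      (RingHom.finitePresentation_algebraMap.mpr inferInstance)
  · haveI : Nontrivial R := p.nontrivial
    simp only [π]
    refine (Scheme.Hom.finrank_SpecMap_algebraMap R (SekSuwa.AK R lam N h) p).trans ?_
    rw [Module.rankAtStalk_eq_finrank_of_free]
    show Module.finrank R (SekSuwa.AK R lam N h) = N
    rw [Module.finrank_eq_card_basis b, Fintype.card_fin, AdjoinRoot.powerBasis'_dim]
    exact le_antisymm hle (Polynomial.le_natDegree_of_ne_zero (by rw [hN']; exact one_ne_zero))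

end Groth.Agent.S14694
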