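import Groth.Statements.S14708
import Groth.Agent.DescSec.Fun

set_option autoImplicit false
universe u
open HRes

namespace Groth.Agent.S14708

open CategoryTheory AlgebraicGeometry in
/-- Let S be a scheme, K a precoverage on schemes with its big site over S, F an abelian sheaf on that
site and n ≥ 0. For every class x ∈ H^n(S, F), restricting x along the identity of S and then
applying the map induced on cohomology by the canonical isomorphism (𝟙_S)⁻¹ F ≅ F gives back x; this
is the identity law of the presheaf U ↦ H^n(U, F) given by the restriction maps. The statement is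
asserted for every precoverage K; it has no hypothesis depending on K. -/
theorem result (K : Precoverage Scheme.{u}) (S : Scheme.{u})
    (F : BigSite.Ab K S) (n : ℕ) (x : BigSite.H K S F n) :
    Sheaf.H.map ((K.toGrothendieck.overMapPullbackId AddCommGrpCat.{u + 1} S).hom.app F) n
      (HRes.pull K (𝟙 S) F n x) = x := by
  let Z := (constantSheaf (QuotSh.J K S) AddCommGrpCat.{u + 1}).obj (AddCommGrpCat.of (ULift.{u + 1} ℤ))
  let θ : BigSite.pullBig K (𝟙 S) AddCommGrpCat.{u + 1} ⟶ 𝟭 _ :=
    (K.toGrothendieck.overMapPullbackId AddCommGrpCat.{u + 1} S).hom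
  let e := HRes.pullConst K (𝟙 S) (AddCommGrpCat.of (ULift.{u + 1} ℤ))
  have h1 : e.inv ≫ θ.app Z = 𝟙 _ := by
    apply ObjectProperty.hom_ext
    apply CategoryTheory.sheafify_hom_ext _ _ _ ((constantSheaf (QuotSh.J K S) AddCommGrpCat.{u + 1}).obj _).property
    have hts := Functor.toSheafify_pullbackSheafificationCompatibility (Over.map (𝟙 S)) AddCommGrpCat.{u + 1}
      (QuotSh.J K S) (QuotSh.J K S) ((Functor.const (Over S)ᵒᵖ).obj (AddCommGrpCat.of (ULift.{u + 1} ℤ)))
    refine ((Category.assoc _ _ _).symm.trans (congrArg (· ≫ (θ.app Z).hom) hts)).trans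
      (Eq.trans ?_ (Category.comp_id _).symm)
    refine NatTrans.ext (funext fun V => ?_)
    have := (toSheafify (QuotSh.J K S) ((Functor.const (Over S)ᵒᵖ).obj (AddCommGrpCat.of (ULift.{u + 1} ℤ)))).naturality
      ((Over.mapId S).inv.app V.unop).op
    exact this.symm.trans (Category.id_comp _)
  show ((Abelian.Ext.mk₀ e.inv).comp (x.mapExactFunctor (BigSite.pullBig K (𝟙 S) AddCommGrpCat.{u + 1})) (zero_add n)).comp
    (Abelian.Ext.mk₀ (θ.app F)) (add_zero n) = x
  rw [Abelian.Ext.comp_assoc_of_third_deg_zero, Groth.Agent.DescSec.mapExactFunctor_toId _ θ x,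
    ← Abelian.Ext.comp_assoc_of_second_deg_zero, Abelian.Ext.mk₀_comp_mk₀, h1, Abelian.Ext.mk₀_id_comp]

end Groth.Agent.S14708
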