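import Groth.Statements.S14709
import Groth.Agent.DescSec.Fun

set_option autoImplicit false
universe u
open HRes

namespace Groth.Agent.S14709

open CategoryTheory AlgebraicGeometry in
/-- Let g : T' ⟶ T and f : T ⟶ S be morphisms of schemes, K a precoverage on schemes with its big sites,
F an abelian sheaf on the big site of S and n ≥ 0. For every x ∈ H^n(S, F), the restriction of x
along g ≫ f is the restriction of x along f, restricted further along g, and then carried along the
map induced on cohomology by the canonical isomorphism g⁻¹(f⁻¹ F) ≅ (g ≫ f)⁻¹ F; this is the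
composition law of the presheaf U ↦ H^n(U, F) given by the restriction maps. The statement is
asserted for every precoverage K; it has no hypothesis depending on K. -/
theorem result (K : Precoverage Scheme.{u}) {S T T' : Scheme.{u}}
    (f : T ⟶ S) (g : T' ⟶ T) (F : BigSite.Ab K S) (n : ℕ) (x : BigSite.H K S F n) :
    HRes.pull K (g ≫ f) F n x =
      Sheaf.H.map ((K.toGrothendieck.overMapPullbackComp AddCommGrpCat.{u + 1} g f).hom.app F) n
        (HRes.pull K g ((BigSite.pullBig K f AddCommGrpCat.{u + 1}).obj F) n (HRes.pull K f F n x)) := by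
  let M := AddCommGrpCat.of (ULift.{u + 1} ℤ)
  let Z := (constantSheaf (QuotSh.J K S) AddCommGrpCat.{u + 1}).obj M
  let Pf := BigSite.pullBig K f AddCommGrpCat.{u + 1}
  let Pg := BigSite.pullBig K g AddCommGrpCat.{u + 1}
  let θ : Pf ⋙ Pg ⟶ BigSite.pullBig K (g ≫ f) AddCommGrpCat.{u + 1} :=
    (K.toGrothendieck.overMapPullbackComp AddCommGrpCat.{u + 1} g f).hom
  have hts := fun {A B : Scheme.{u}} (h : A ⟶ B) => Functor.toSheafify_pullbackSheafificationCompatibility
    (Over.map h) AddCommGrpCat.{u + 1} (QuotSh.J K A) (QuotSh.J K B) ((Functor.const (Over B)ᵒᵖ).obj M)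
  have h1 : (HRes.pullConst K g M).inv ≫ Pg.map (HRes.pullConst K f M).inv ≫ θ.app Z =
      (HRes.pullConst K (g ≫ f) M).inv := by
    apply ObjectProperty.hom_ext
    apply CategoryTheory.sheafify_hom_ext _ _ _
      ((BigSite.pullBig K (g ≫ f) AddCommGrpCat.{u + 1}).obj ((constantSheaf (QuotSh.J K S) AddCommGrpCat.{u + 1}).obj M)).property
    refine Eq.trans ?_ (hts (g ≫ f)).symm
    refine ((Category.assoc _ _ _).symm.trans (congrArg (· ≫ (Pg.map (HRes.pullConst K f M).inv ≫ θ.app Z).hom) (hts g))).trans ?_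
    refine NatTrans.ext (funext fun V => ?_)
    have h3 := (toSheafify (QuotSh.J K S) ((Functor.const (Over S)ᵒᵖ).obj M)).naturality
      ((Over.mapComp g f).hom.app V.unop).op
    refine ((Category.assoc _ _ _).symm.trans (congrArg (· ≫ (θ.app Z).hom.app V) (congrArg (fun a => a.app (Opposite.op ((Over.map g).obj V.unop))) (hts f)))).trans ?_
    exact h3.symm.trans (Category.id_comp _)
  show (Abelian.Ext.mk₀ (HRes.pullConst K (g ≫ f) M).inv).comp
      (x.mapExactFunctor (BigSite.pullBig K (g ≫ f) AddCommGrpCat.{u + 1})) (zero_add n) =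
    ((Abelian.Ext.mk₀ (HRes.pullConst K g M).inv).comp
      (((Abelian.Ext.mk₀ (HRes.pullConst K f M).inv).comp (x.mapExactFunctor Pf) (zero_add n)).mapExactFunctor Pg)
      (zero_add n)).comp (Abelian.Ext.mk₀ (θ.app F)) (add_zero n)
  rw [← h1, Abelian.Ext.mapExactFunctor_comp, Abelian.Ext.mapExactFunctor_mk₀,
    Abelian.Ext.comp_assoc_of_third_deg_zero, Abelian.Ext.comp_assoc_of_third_deg_zero,
    Groth.Agent.EtMV.mapExactFunctor_natTrans Pf Pg _ θ x,
    ← Abelian.Ext.comp_assoc_of_second_deg_zero, ← Abelian.Ext.comp_assoc_of_second_deg_zero,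
    Abelian.Ext.mk₀_comp_mk₀, Abelian.Ext.mk₀_comp_mk₀, Category.assoc]

end Groth.Agent.S14709
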