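import Groth.Statements.S14726
import Groth.Agent.WEtaleVal.Etale

set_option autoImplicit false
set_option linter.style.haveILetI false
universe u
open ValPrufer

namespace Groth.Agent.S14726

/-- Let V be a valuation ring with maximal ideal m, A an integral domain that is a smooth V-algebra, and
p a prime ideal of A minimal among the primes containing mA (a generic point of the special fibre of
Spec A over V). Then A_p is a valuation ring, V → A_p is an injective local homomorphism, and every
nonzero element of A_p is a unit of A_p times the image of an element of V, so that V → A_p induces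
a bijection on value groups. (The published statement takes A faithfully flat and a semilocalisation
of a smooth V-algebra at finitely many primes; the local ring A_p is then a local ring of the smooth
algebra itself at such a prime, and faithful flatness follows from the existence of p, so this row
states the smooth case, which carries the whole content.) -/
theorem result
    (V : Type u) [CommRing V] [IsDomain V] [ValuationRing V]
    (A : Type u) [CommRing A] [IsDomain A] [Algebra V A] [Algebra.Smooth V A]
    (p : Ideal A) [p.IsPrime]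
    (hp : p ∈ ((IsLocalRing.maximalIdeal V).map (algebraMap V A)).minimalPrimes) :
    ValuationRing (Localization.AtPrime p) ∧
      Function.Injective (algebraMap V (Localization.AtPrime p)) ∧
      IsLocalHom (algebraMap V (Localization.AtPrime p)) ∧
      ∀ x : Localization.AtPrime p, x ≠ 0 →
        ∃ (v : V) (w : (Localization.AtPrime p)ˣ), x = algebraMap V (Localization.AtPrime p) v * w := by
  classical
  obtain ⟨f, hfp, n, _, _, _⟩ :=
    Algebra.IsSmoothAt.exists_isStandardEtale_mvPolynomial (R := V) (p := p)
  let R := MvPolynomial (Fin n) V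
  let B := Localization.Away f
  let C := Localization.AtPrime p
  -- the prime of polynomials with coefficients in the maximal ideal
  let P0 : Ideal R := RingHom.ker (MvPolynomial.map (IsLocalRing.residue V))
  haveI hP0 : P0.IsPrime := RingHom.ker_isPrime _
  have hP0eq : P0 = (IsLocalRing.maximalIdeal V).map MvPolynomial.C := by
    rw [← IsLocalRing.ker_residue]; exact MvPolynomial.ker_map _
  have hmp : ∀ x ∈ IsLocalRing.maximalIdeal V, algebraMap V A x ∈ p := fun x hx =>
    hp.1.2 (Ideal.mem_map_of_mem _ hx)
  -- contraction of the maximal ideal to polynomials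
  let p' : Ideal B := p.map (algebraMap A B)
  have hdisj : Disjoint (Submonoid.powers f : Set A) (p : Set A) :=
    (Ideal.disjoint_powers_iff_notMem_of_isPrime _).2 hfp
  haveI hp' : p'.IsPrime :=
    IsLocalization.isPrime_of_isPrime_disjoint (.powers f) _ _ ‹_› hdisj
  have hp'c : p'.comap (algebraMap A B) = p :=
    IsLocalization.comap_map_of_isPrime_disjoint (.powers f) B ‹_› hdisj
  have hle : P0 ≤ p'.under R := by
    rw [hP0eq, Ideal.map_le_iff_le_comap]
    intro x hx
    show algebraMap R B (MvPolynomial.C x) ∈ p'
    rw [show algebraMap R B (MvPolynomial.C x) = algebraMap A B (algebraMap V A x) by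
      rw [← MvPolynomial.algebraMap_eq, ← IsScalarTower.algebraMap_apply V R B,
        IsScalarTower.algebraMap_apply V A B]]
    exact Ideal.mem_map_of_mem _ (hmp x hx)
  obtain ⟨P, hPle, hPprime, hPover⟩ :=
    Ideal.exists_ideal_le_liesOver_of_le (p := P0) (q := p'.under R) p' hle
  have hPc : P.comap (algebraMap A B) = p := by
    have h1 : P.comap (algebraMap A B) ≤ p := hp'c ▸ Ideal.comap_mono hPle
    refine le_antisymm h1 (hp.2 ⟨Ideal.IsPrime.comap _, Ideal.map_le_iff_le_comap.2 fun x hx => ?_⟩ h1)
    show algebraMap A B (algebraMap V A x) ∈ P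
    rw [← IsScalarTower.algebraMap_apply V A B, IsScalarTower.algebraMap_apply V R B]
    show algebraMap V R x ∈ P.under R
    rw [← hPover.over, hP0eq]
    exact Ideal.mem_map_of_mem _ hx
  have hPp' : P = p' := by
    rw [← IsLocalization.map_comap (.powers f) B P]
    exact congrArg (Ideal.map (algebraMap A B)) hPc
  have hcontr : p'.under R = P0 := by rw [← hPp']; exact hPover.over.symm
  -- the algebra structures on the local ring
  have hfu : IsUnit (algebraMap A C f) := IsLocalization.map_units C (⟨f, hfp⟩ : p.primeCompl)
  letI : Algebra B C := (IsLocalization.Away.lift f hfu : B →+* C).toAlgebra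
  haveI : IsScalarTower A B C :=
    .of_algebraMap_eq fun x => (IsLocalization.Away.lift_eq f hfu x).symm
  haveI : IsLocalization (p.primeCompl.map (algebraMap A B)) C :=
    IsLocalization.isLocalization_of_submonoid_le B C (.powers f) p.primeCompl
      (Submonoid.powers_le.2 hfp)
  letI : Algebra R C := ((algebraMap B C).comp (algebraMap R B)).toAlgebra
  haveI : IsScalarTower R B C := .of_algebraMap_eq fun _ => rfl
  have hVC : ∀ x : V, algebraMap R C (algebraMap V R x) = algebraMap V C x := fun x => by
    rw [IsScalarTower.algebraMap_apply R B C, ← IsScalarTower.algebraMap_apply V R B,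
      IsScalarTower.algebraMap_apply V A B, ← IsScalarTower.algebraMap_apply A B C,
      ← IsScalarTower.algebraMap_apply V A C]
  have hunit : ∀ a : R, IsUnit (algebraMap R C a) ↔ a ∉ P0 := by
    intro a
    rw [← hcontr, IsScalarTower.algebraMap_apply R B C]
    show IsUnit _ ↔ algebraMap R B a ∉ p'
    obtain ⟨⟨x, s⟩, hs⟩ := IsLocalization.surj (Submonoid.powers f) (algebraMap R B a)
    have hsu : IsUnit (algebraMap A B s) := IsLocalization.map_units B s
    rw [← Ideal.mul_unit_mem_iff_mem p' hsu, hs, ← Ideal.mem_comap, hp'c]
    show _ ↔ x ∈ p.primeCompl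
    rw [← IsLocalization.AtPrime.isUnit_to_map_iff C p x, IsScalarTower.algebraMap_apply A B C, ← hs, map_mul]
    exact ⟨fun h => h.mul (hsu.map _), isUnit_of_mul_isUnit_left⟩
  -- the Gauss valuation ring
  let V' := Localization.AtPrime P0
  haveI : IsDomain V' :=
    IsLocalization.isDomain_localization (Ideal.primeCompl_le_nonZeroDivisors P0)
  have hinjR : Function.Injective (algebraMap R V') :=
    IsLocalization.injective V' (Ideal.primeCompl_le_nonZeroDivisors P0)
  have gauss : ∀ x : V', ∃ (v : V) (u : V'ˣ), x = u * algebraMap R V' (MvPolynomial.C v) := by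
    intro x
    obtain ⟨g, s, rfl⟩ := IsLocalization.exists_mk'_eq P0.primeCompl x
    rcases eq_or_ne g 0 with rfl | hg
    · exact ⟨0, 1, by simp⟩
    obtain ⟨i, hi, hmin⟩ : ∃ i ∈ g.support, ∀ j ∈ g.support, g.coeff i ∣ g.coeff j := by
      have : ∀ t : Finset (Fin n →₀ ℕ), t.Nonempty → ∃ i ∈ t, ∀ j ∈ t, g.coeff i ∣ g.coeff j := by
        intro t ht
        induction ht using Finset.Nonempty.cons_induction with
        | singleton a =>
          exact ⟨a, Finset.mem_singleton_self a, fun j hj => by rw [Finset.mem_singleton.1 hj]⟩
        | cons a t ha ht ih =>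
          obtain ⟨i, hi, h⟩ := ih
          rcases ValuationRing.dvd_total (g.coeff a) (g.coeff i) with h' | h'
          · refine ⟨a, Finset.mem_cons_self a t, fun j hj => ?_⟩
            rcases Finset.mem_cons.1 hj with rfl | hj
            · exact dvd_rfl
            · exact h'.trans (h j hj)
          · refine ⟨i, Finset.mem_cons_of_mem hi, fun j hj => ?_⟩
            rcases Finset.mem_cons.1 hj with rfl | hj
            · exact h'
            · exact h j hj
      exact this _ (MvPolynomial.support_nonempty.2 hg)
    obtain ⟨g', hg'⟩ : MvPolynomial.C (g.coeff i) ∣ g := by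
      rw [MvPolynomial.C_dvd_iff_dvd_coeff]
      intro j
      by_cases hj : j ∈ g.support
      · exact hmin j hj
      · rw [MvPolynomial.notMem_support_iff.1 hj]; exact dvd_zero _
    have hg'u : g' ∉ P0 := by
      intro hmem
      have h1 : g.coeff i = g.coeff i * g'.coeff i := by
        conv_lhs => rw [hg', MvPolynomial.coeff_C_mul]
      have h2 : g'.coeff i = 1 :=
        mul_left_cancel₀ (MvPolynomial.mem_support_iff.1 hi) (by rw [← h1, mul_one])
      have h3 := congrArg (MvPolynomial.coeff i) (RingHom.mem_ker.1 hmem)
      rw [MvPolynomial.coeff_map, h2, map_one, MvPolynomial.coeff_zero] at h3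
      exact one_ne_zero h3
    obtain ⟨w, hw⟩ := IsLocalization.map_units V' (⟨g', hg'u⟩ : P0.primeCompl)
    obtain ⟨t, ht⟩ := IsLocalization.map_units V' s
    refine ⟨g.coeff i, w * t⁻¹, ?_⟩
    rw [IsLocalization.mk'_eq_iff_eq_mul]
    conv_lhs => rw [hg', map_mul, ← hw]
    rw [← ht, Units.val_mul]
    calc algebraMap R V' (MvPolynomial.C (g.coeff i)) * (w : V')
        = (w : V') * ((t⁻¹ : V'ˣ) * (t : V')) * algebraMap R V' (MvPolynomial.C (g.coeff i)) := by
          rw [Units.inv_mul, mul_one, mul_comm]
      _ = _ := by ring
  haveI : PreValuationRing V' := PreValuationRing.iff_dvd_total.2 ⟨fun a b => by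
    obtain ⟨v, u, rfl⟩ := gauss a
    obtain ⟨v', u', rfl⟩ := gauss b
    simp only [Units.mul_left_dvd, Units.dvd_mul_left]
    rcases ValuationRing.dvd_total v v' with h | h
    · exact Or.inl (map_dvd _ (map_dvd _ h))
    · exact Or.inr (map_dvd _ (map_dvd _ h))⟩
  haveI : ValuationRing V' := { }
  have hlift : ∀ y : P0.primeCompl, IsUnit (algebraMap R C y) := fun y => (hunit y).2 y.2
  letI : Algebra V' C := (IsLocalization.lift hlift : V' →+* C).toAlgebra
  haveI : IsScalarTower R V' C :=
    .of_algebraMap_eq fun x => (IsLocalization.lift_eq hlift x).symm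
  haveI : IsLocalHom (algebraMap V' C) := ⟨fun x hx => by
    obtain ⟨a, s, rfl⟩ := IsLocalization.exists_mk'_eq P0.primeCompl x
    refine (IsLocalization.AtPrime.isUnit_mk'_iff V' P0 a s).2 ((hunit a).1 ?_)
    rw [IsScalarTower.algebraMap_apply R V' C, ← IsLocalization.mk'_spec V' a s, map_mul,
      ← IsScalarTower.algebraMap_apply R V' C]
    exact hx.mul (hlift s)⟩
  haveI : Algebra.WeaklyEtale R V' :=
    Groth.Agent.WEtaleVal.weaklyEtale_of_isLocalization P0.primeCompl
  obtain ⟨hdom, hval, hinj, hunr⟩ := Groth.Agent.WEtaleVal.main (R := R) (V := V') (B := B) (C := C)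
    hinjR (p.primeCompl.map (algebraMap A B))
  have hVC' : ∀ x : V, algebraMap V' C (algebraMap R V' (MvPolynomial.C x)) = algebraMap V C x :=
    fun x => by rw [← IsScalarTower.algebraMap_apply R V' C, ← hVC x, MvPolynomial.algebraMap_eq]
  refine ⟨hval _, fun x y h => ?_, ⟨fun x hx => ?_⟩, fun x hx => ?_⟩
  · rw [← hVC', ← hVC'] at h
    exact MvPolynomial.C_injective _ _ (hinjR (hinj h))
  · by_contra h
    rw [IsScalarTower.algebraMap_apply V A C] at hx
    exact (IsLocalization.AtPrime.isUnit_to_map_iff C p _).1 hx (hmp x h)
  · obtain ⟨c, u, rfl⟩ := hunr x hx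
    obtain ⟨v, u', rfl⟩ := gauss c
    refine ⟨v, u * Units.map (algebraMap V' C : V' →* C) u', ?_⟩
    rw [map_mul, hVC', Units.val_mul, Units.coe_map]
    simp only [MonoidHom.coe_coe]
    ring

end Groth.Agent.S14726
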