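import Groth.Statements.S14727
import Mathlib
-- import your own Groth.Agent.* helpers here

set_option autoImplicit false
universe u
open ValPrufer

namespace Groth.Agent.S14727

section

variable {R : Type*} [CommRing R] (I : Ideal R)

/-- The elements of `R` that lie in `I ^ n` after localisation at `m`. -/
def locKer (n : ℕ) (m : MaximalSpectrum R) : Ideal R :=
  ((I ^ n).map (algebraMap R (Localization.AtPrime m.asIdeal))).comap
    (algebraMap R (Localization.AtPrime m.asIdeal))

lemma mem_smul_top_iff (n : ℕ) (m : MaximalSpectrum R) (x : R) :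
    Algebra.linearMap R (Localization.AtPrime m.asIdeal) x ∈
      (I ^ n • ⊤ : Submodule R (Localization.AtPrime m.asIdeal)) ↔ x ∈ locKer I n m := by
  rw [Ideal.smul_top_eq_map]
  exact Iff.rfl

variable (hI : ∀ (p : Ideal R), p.IsPrime → I ≤ p → p.IsMaximal)
include hI

lemma eq_of_locKer_le {n : ℕ} {m : MaximalSpectrum R} (hm : I ≤ m.asIdeal) {P : Ideal R}
    [hP : P.IsMaximal] (h : locKer I n m ≤ P) : P = m.asIdeal := by
  by_contra hne
  obtain ⟨x, hxm, hxP⟩ := SetLike.not_le_iff_exists.mp
    (fun hle : m.asIdeal ≤ P => hne (m.isMaximal.eq_of_le hP.ne_top hle).symm)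
  have hrad : algebraMap R (Localization.AtPrime m.asIdeal) x ∈
      ((I ^ n).map (algebraMap R (Localization.AtPrime m.asIdeal))).radical := by
    rw [Ideal.radical_eq_sInf, Submodule.mem_sInf]
    rintro Q ⟨hQ, hQp⟩
    haveI := hQp
    have hle : Ideal.comap (algebraMap R (Localization.AtPrime m.asIdeal)) Q ≤ m.asIdeal := by
      intro y hy
      by_contra hy'
      exact hQp.ne_top (Ideal.eq_top_of_isUnit_mem _ hy
        (IsLocalization.map_units _ (⟨y, hy'⟩ : m.asIdeal.primeCompl)))
    have hIQ : I ≤ Ideal.comap (algebraMap R (Localization.AtPrime m.asIdeal)) Q := by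
      rcases Nat.eq_zero_or_pos n with rfl | hn
      · rw [pow_zero, Ideal.one_eq_top, Ideal.map_top] at hQ
        exact absurd (top_le_iff.mp hQ) hQp.ne_top
      · exact Ideal.IsPrime.le_of_pow_le (Ideal.map_le_iff_le_comap.mp hQ)
    have heq := (hI _ inferInstance hIQ).eq_of_le m.isMaximal.ne_top hle
    show x ∈ Ideal.comap (algebraMap R (Localization.AtPrime m.asIdeal)) Q
    rw [heq]
    exact hxm
  obtain ⟨N, hN⟩ := hrad
  rw [← map_pow] at hN
  exact hxP (hP.isPrime.mem_of_pow_mem N (h hN))

omit hI in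
lemma le_of_locKer_le {n : ℕ} {m : MaximalSpectrum R} {P : Ideal R} [hP : P.IsPrime]
    (h : locKer I n m ≤ P) (hn : 0 < n) : I ≤ P :=
  Ideal.IsPrime.le_of_pow_le fun x hx => h (Ideal.mem_map_of_mem _ hx)

lemma level_injective (n : ℕ) (x : R)
    (hx : ∀ m : MaximalSpectrum R, I ≤ m.asIdeal → x ∈ locKer I n m) : x ∈ I ^ n := by
  let K : Ideal R := Submodule.comap (LinearMap.mulRight R x) (I ^ n)
  by_contra hxn
  have hK : K ≠ ⊤ := fun h => hxn (by
    have h1 : (1 : R) ∈ K := h ▸ Submodule.mem_top
    have h2 : (1 : R) * x ∈ I ^ n := h1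
    rwa [one_mul] at h2)
  obtain ⟨P, hP, hKP⟩ := Ideal.exists_le_maximal K hK
  have hIP : I ≤ P := by
    rcases Nat.eq_zero_or_pos n with rfl | hn
    · exact absurd (by simp) hxn
    · exact Ideal.IsPrime.le_of_pow_le fun a ha => hKP (show a * x ∈ I ^ n from
        Ideal.mul_mem_right _ _ ha)
  obtain ⟨u, hu⟩ := (IsLocalization.algebraMap_mem_map_algebraMap_iff P.primeCompl
    (Localization.AtPrime P) (I ^ n) x).mp (hx ⟨P, hP⟩ hIP)
  exact hu.1 (hKP (show u * x ∈ I ^ n from hu.2))

lemma exists_rep (n : ℕ) (m : MaximalSpectrum R) (hm : I ≤ m.asIdeal)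
    (z : Localization.AtPrime m.asIdeal) :
    ∃ a : R, z - algebraMap R _ a ∈ (I ^ n).map (algebraMap R (Localization.AtPrime m.asIdeal)) := by
  obtain ⟨r, s, rfl⟩ := IsLocalization.exists_mk'_eq m.asIdeal.primeCompl z
  have htop : locKer I n m ⊔ Ideal.span {(s : R)} = ⊤ := by
    by_contra h
    obtain ⟨P, hP, hle⟩ := Ideal.exists_le_maximal _ h
    have hsP : (s : R) ∈ P := hle (Ideal.mem_sup_right (Ideal.mem_span_singleton_self _))
    rw [eq_of_locKer_le I hI hm (le_sup_left.trans hle)] at hsP
    exact s.2 hsP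
  obtain ⟨u, hu, v, hv, huv⟩ := Submodule.mem_sup.mp (htop ▸ Submodule.mem_top : (1 : R) ∈ _)
  obtain ⟨t, rfl⟩ := Ideal.mem_span_singleton'.mp hv
  refine ⟨r * t, ?_⟩
  have hu' : algebraMap R (Localization.AtPrime m.asIdeal) u ∈
      (I ^ n).map (algebraMap R (Localization.AtPrime m.asIdeal)) := hu
  have : IsLocalization.mk' (Localization.AtPrime m.asIdeal) r s -
      algebraMap R _ (r * t) = IsLocalization.mk' (Localization.AtPrime m.asIdeal) r s *
        algebraMap R _ u := by
    rw [show u = 1 - t * (s : R) from eq_sub_of_add_eq huv, map_sub, map_one, mul_sub, mul_one,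
      map_mul, map_mul, mul_comm (algebraMap R _ t) (algebraMap R _ (s : R)), ← mul_assoc,
      IsLocalization.mk'_spec]
  rw [this]
  exact Ideal.mul_mem_left _ _ hu'

lemma level_surjective [Finite (MaximalSpectrum R)] (n : ℕ)
    (z : ∀ m : {m : MaximalSpectrum R // I ≤ m.asIdeal}, Localization.AtPrime m.1.asIdeal) :
    ∃ a : R, ∀ m : {m : MaximalSpectrum R // I ≤ m.asIdeal},
      z m - algebraMap R _ a ∈ (I ^ n).map (algebraMap R (Localization.AtPrime m.1.asIdeal)) := by
  choose x hx using fun m : {m : MaximalSpectrum R // I ≤ m.asIdeal} =>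
    exists_rep I hI n m.1 m.2 (z m)
  rcases Nat.eq_zero_or_pos n with rfl | hn
  · exact ⟨0, fun m => by simp [Ideal.map_top]⟩
  have hco : Pairwise (Function.onFun IsCoprime
      (fun m : {m : MaximalSpectrum R // I ≤ m.asIdeal} => locKer I n m.1)) := by
    intro m m' hne
    show IsCoprime (locKer I n m.1) (locKer I n m'.1)
    rw [Ideal.isCoprime_iff_sup_eq]
    by_contra h
    obtain ⟨P, hP, hle⟩ := Ideal.exists_le_maximal _ h
    apply hne
    apply Subtype.ext
    apply MaximalSpectrum.ext
    rw [← eq_of_locKer_le I hI m.2 (P := P) (le_sup_left.trans hle),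
      ← eq_of_locKer_le I hI m'.2 (P := P) (le_sup_right.trans hle)]
  obtain ⟨a, ha⟩ := Ideal.exists_forall_sub_mem_ideal hco x
  refine ⟨a, fun m => ?_⟩
  have h1 : algebraMap R (Localization.AtPrime m.1.asIdeal) (a - x m) ∈
      (I ^ n).map (algebraMap R (Localization.AtPrime m.1.asIdeal)) := ha m
  have := Ideal.sub_mem _ (hx m) h1
  rw [map_sub] at this
  convert this using 1
  ring


end

/-- Let R be a semilocal ring (finitely many maximal ideals) and I an ideal of R of co-height zero, i.e.
every prime ideal containing I is maximal. Then the canonical map from the I-adic completion of R to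
the product, over the maximal ideals m ⊇ I, of the I-adic completions of the local rings R_m
(equivalently their IR_m-adic completions) is bijective; it is the continuous ring isomorphism of
the source, stated here as bijectivity of the canonical map of completed modules. -/
theorem result
    (R : Type u) [CommRing R] (hR : Finite (MaximalSpectrum R)) (I : Ideal R)
    (hI : ∀ (p : Ideal R), p.IsPrime → I ≤ p → p.IsMaximal) :
    Function.Bijective (LinearMap.pi (fun m : {m : MaximalSpectrum R // I ≤ m.asIdeal} =>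
      AdicCompletion.map I (Algebra.linearMap R (Localization.AtPrime m.1.asIdeal)))) := by
  haveI := hR
  have hzero : ∀ (n : ℕ) (a : R) (m : MaximalSpectrum R),
      (Submodule.Quotient.mk (Algebra.linearMap R (Localization.AtPrime m.asIdeal) a) :
        Localization.AtPrime m.asIdeal ⧸ (I ^ n • ⊤ : Submodule R _)) = 0 ↔ a ∈ locKer I n m :=
    fun n a m => (Submodule.Quotient.mk_eq_zero _).trans (mem_smul_top_iff I n m a)
  have hidl : ∀ n : ℕ, (I ^ n • ⊤ : Submodule R R) = I ^ n := fun n => by
    rw [smul_eq_mul, Ideal.mul_top]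
  refine ⟨?_, ?_⟩
  · rw [injective_iff_map_eq_zero]
    intro x hx
    ext n
    obtain ⟨a, ha⟩ := Submodule.Quotient.mk_surjective _ (x.val n)
    rw [← ha]
    refine (Submodule.Quotient.mk_eq_zero _).mpr ?_
    rw [hidl]
    refine level_injective I hI n a fun m hm => (hzero n a m).mp ?_
    have h := congrArg (fun y => y.val n) (congrFun hx ⟨m, hm⟩)
    simp only [LinearMap.pi_apply, AdicCompletion.map_val_apply, ← ha] at h
    exact h
  · intro y
    choose z hz using fun (n : ℕ) (m : {m : MaximalSpectrum R // I ≤ m.asIdeal}) =>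
      Submodule.Quotient.mk_surjective _ ((y m).val n)
    choose a ha using fun n => level_surjective I hI n (z n)
    have hmk : ∀ n (m : {m : MaximalSpectrum R // I ≤ m.asIdeal}),
        (Submodule.Quotient.mk (Algebra.linearMap R (Localization.AtPrime m.1.asIdeal) (a n)) :
          Localization.AtPrime m.1.asIdeal ⧸ (I ^ n • ⊤ : Submodule R _)) = (y m).val n := fun n m => by
      rw [← hz n m, eq_comm, Submodule.Quotient.eq, Ideal.smul_top_eq_map]
      exact ha n m
    refine ⟨⟨fun n => Submodule.Quotient.mk (a n), fun {i j} hij => ?_⟩, funext fun m => ?_⟩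
    · show (Submodule.Quotient.mk (a j) : R ⧸ (I ^ i • ⊤ : Submodule R R)) = Submodule.Quotient.mk (a i)
      rw [Submodule.Quotient.eq, hidl]
      refine level_injective I hI i _ fun m hm => (hzero i _ m).mp ?_
      rw [map_sub, Submodule.Quotient.mk_sub, sub_eq_zero, hmk i ⟨m, hm⟩,
        ← (y ⟨m, hm⟩).2 hij, ← hmk j ⟨m, hm⟩]
      rfl
    · ext n
      exact hmk n m

end Groth.Agent.S14727
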