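import Groth.Statements.S14728
import Mathlib
-- import your own Groth.Agent.* helpers here

set_option autoImplicit false
universe u
open ValPrufer

namespace Groth.Agent.S14728

theorem surjective_localRingHom_of_isLocalization {R B : Type u} [CommRing R] [CommRing B]
    [Algebra R B] (S : Submonoid R) [IsLocalization S B] (q : Ideal B) [q.IsPrime] :
    Function.Surjective (Localization.localRingHom (q.comap (algebraMap R B)) q (algebraMap R B) rfl) := by
  intro x
  obtain ⟨b, ⟨c, hc⟩, rfl⟩ := IsLocalization.exists_mk'_eq q.primeCompl x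
  obtain ⟨r, s, rfl⟩ := IsLocalization.exists_mk'_eq S b
  obtain ⟨r', s', rfl⟩ := IsLocalization.exists_mk'_eq S c
  have e1 : algebraMap R B r = IsLocalization.mk' B r s * algebraMap R B (s : R) :=
    (IsLocalization.mk'_spec B r s).symm
  have e2 : algebraMap R B r' = IsLocalization.mk' B r' s' * algebraMap R B (s' : R) :=
    (IsLocalization.mk'_spec B r' s').symm
  have hp : (s : R) * r' ∈ (q.comap (algebraMap R B)).primeCompl := by
    intro h
    rw [SetLike.mem_coe, Ideal.mem_comap, map_mul, e2] at h
    rcases ‹q.IsPrime›.mem_or_mem h with h | h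
    · exact ‹q.IsPrime›.ne_top (Ideal.eq_top_of_isUnit_mem _ h (IsLocalization.map_units B s))
    rcases ‹q.IsPrime›.mem_or_mem h with h | h
    · exact hc h
    · exact ‹q.IsPrime›.ne_top (Ideal.eq_top_of_isUnit_mem _ h (IsLocalization.map_units B s'))
  refine ⟨IsLocalization.mk' _ (r * (s' : R)) ⟨_, hp⟩, ?_⟩
  rw [Localization.localRingHom_mk', IsLocalization.mk'_eq_iff_eq]
  congr 1
  simp only [map_mul, e1, e2]
  ring

theorem surjective_localRingHom_of_surjective {R B : Type u} [CommRing R] [CommRing B] (f : R →+* B)
    (hf : Function.Surjective f) (q : Ideal B) [q.IsPrime] :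
    Function.Surjective (Localization.localRingHom (q.comap f) q f rfl) := by
  intro x
  obtain ⟨b, ⟨c, hc⟩, rfl⟩ := IsLocalization.exists_mk'_eq q.primeCompl x
  obtain ⟨r, rfl⟩ := hf b
  obtain ⟨r', rfl⟩ := hf c
  exact ⟨IsLocalization.mk' _ r ⟨r', hc⟩, Localization.localRingHom_mk' ..⟩


/-- Let R be a Prüfer domain, i.e. a domain all of whose local rings at primes are valuation rings. (a)
For a multiplicative subset S, any localisation B = S⁻¹R that is a domain (S not containing 0) is a
Prüfer domain. (b) For a prime ideal I, the quotient R/I is a Prüfer domain. -/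
theorem result
    (R : Type u) [CommRing R] [IsDomain R]
    (hR : ∀ (p : Ideal R) [p.IsPrime], ValuationRing (Localization.AtPrime p))
    (S : Submonoid R) (B : Type u) [CommRing B] [IsDomain B] [Algebra R B] [IsLocalization S B]
    (I : Ideal R) [I.IsPrime] :
    (∀ (q : Ideal B) [q.IsPrime], ValuationRing (Localization.AtPrime q)) ∧
      (∀ (q : Ideal (R ⧸ I)) [q.IsPrime], ValuationRing (Localization.AtPrime q)) := by
  refine ⟨fun q _ => ?_, fun q _ => ?_⟩
  · haveI := hR (q.comap (algebraMap R B))
    exact Function.Surjective.valuationRing _ (surjective_localRingHom_of_isLocalization S q)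
  · haveI := hR (q.comap (Ideal.Quotient.mk I))
    exact Function.Surjective.valuationRing _
      (surjective_localRingHom_of_surjective (Ideal.Quotient.mk I) Ideal.Quotient.mk_surjective q)

end Groth.Agent.S14728
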