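import Groth.Statements.S14729
import Groth.Agent.PruferInter.Basic
-- import your own Groth.Agent.* helpers here

set_option autoImplicit false
universe u
open ValPrufer

namespace Groth.Agent.S14729

/-- Let R be a semilocal Prüfer domain (an integral domain with finitely many maximal ideals whose
localisations at primes are valuation rings) with fraction field L, and let K ⊆ L be a subfield.
Then R ∩ K is again a semilocal Prüfer domain and its fraction field is K, i.e. every element of K
is a quotient of two elements of R ∩ K. -/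
theorem result
    (R L : Type u) [CommRing R] [IsDomain R] [Field L] [Algebra R L] [IsFractionRing R L]
    (hR : ∀ (p : Ideal R) [p.IsPrime], ValuationRing (Localization.AtPrime p))
    (hfin : Finite (MaximalSpectrum R)) (K : Subfield L) :
    (∀ (p : Ideal ↥((algebraMap R L).range ⊓ K.toSubring)) [p.IsPrime],
        ValuationRing (Localization.AtPrime p)) ∧
      Finite (MaximalSpectrum ↥((algebraMap R L).range ⊓ K.toSubring)) ∧
      ∀ x : L, x ∈ K → ∃ a b : L, a ∈ (algebraMap R L).range ⊓ K.toSubring ∧
        b ∈ (algebraMap R L).range ⊓ K.toSubring ∧ b ≠ 0 ∧ x = a / b := by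
  classical
  let e : R ≃+* (algebraMap R L).range := RingEquiv.ofBijective (algebraMap R L).rangeRestrict
    ⟨fun a b h => IsFractionRing.injective R L (congrArg Subtype.val h), (algebraMap R L).rangeRestrict_surjective⟩
  let ψ : ↥((algebraMap R L).range ⊓ K.toSubring) →+* R :=
    e.symm.toRingHom.comp (Subring.inclusion inf_le_left)
  have hψv : ∀ a, algebraMap R L (ψ a) = (a : L) := fun a =>
    congrArg Subtype.val (e.apply_symm_apply (Subring.inclusion inf_le_left a))
  have hψ : Function.Injective ψ := fun a b h => Subtype.ext (by rw [← hψv, h, hψv])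
  have hK : ∀ r : R, algebraMap R L r ∈ K ↔ ∃ a, ψ a = r := fun r =>
    ⟨fun h => ⟨⟨algebraMap R L r, ⟨r, rfl⟩, h⟩, IsFractionRing.injective R L (hψv _)⟩,
      fun ⟨a, ha⟩ => by rw [← ha, hψv]; exact a.2.2⟩
  refine ⟨fun p _ => PruferInter.valuationRing ψ K hR hfin hψ hK p,
    PruferInter.finite_maximalSpectrum ψ K hfin hψ hK, fun x hx => ?_⟩
  obtain ⟨a, b, hb, he⟩ := PruferInter.exists_div ψ K hR hfin hK x hx
  rw [hψv] at hb
  rw [hψv, hψv] at he
  exact ⟨a, b, a.2, b.2, hb, he⟩

end Groth.Agent.S14729
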