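import Groth.Statements.S14730
import Groth.Agent.PruferInter.Basic
-- import your own Groth.Agent.* helpers here

set_option autoImplicit false
universe u
open ValPrufer

namespace Groth.Agent.S14730

/-- Let R be a semilocal Prüfer domain (an integral domain with finitely many maximal ideals whose
localisations at primes are valuation rings). Then R is the increasing union of subrings that are
semilocal Prüfer domains of finite Krull dimension; equivalently, every finite subset of R is
contained in such a subring. -/
theorem result
    (R : Type u) [CommRing R] [IsDomain R]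
    (hR : ∀ (p : Ideal R) [p.IsPrime], ValuationRing (Localization.AtPrime p))
    (hfin : Finite (MaximalSpectrum R)) (s : Finset R) :
    ∃ R' : Subring R, (↑s : Set R) ⊆ R' ∧
      (∀ (p : Ideal R') [p.IsPrime], ValuationRing (Localization.AtPrime p)) ∧
      Finite (MaximalSpectrum R') ∧ ringKrullDim R' < ⊤ := by
  classical
  let L := FractionRing R
  let t : Finset L := s.image (algebraMap R L)
  let K : Subfield L := Subfield.closure (t : Set L)
  let R' : Subring R := K.toSubring.comap (algebraMap R L)
  have hψ : Function.Injective R'.subtype := Subtype.val_injective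
  have hK : ∀ r : R, algebraMap R L r ∈ K ↔ ∃ a, R'.subtype a = r := fun r =>
    ⟨fun h => ⟨⟨r, h⟩, rfl⟩, fun ⟨a, ha⟩ => ha ▸ a.2⟩
  refine ⟨R', fun r hr => Subfield.subset_closure (Finset.mem_coe.2 (Finset.mem_image_of_mem _ hr)),
    fun p _ => PruferInter.valuationRing R'.subtype K hR hfin hψ hK p,
    PruferInter.finite_maximalSpectrum R'.subtype K hfin hψ hK, ?_⟩
  refine lt_of_le_of_lt (PruferInter.dim_le ((algebraMap R L).comp R'.subtype)
    ((IsFractionRing.injective R L).comp hψ) t (fun a => a.2)
    (fun p _ a b => PruferInter.dvd_or_dvd R'.subtype K hR hfin hψ hK p a b)) ?_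
  exact WithBot.coe_lt_coe.2 (ENat.coe_lt_top (2 * t.card + 1))

end Groth.Agent.S14730
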