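import Groth.Statements.S14731
import Groth.Agent.SmoothModel.Basic
-- import your own Groth.Agent.* helpers here

set_option autoImplicit false
universe u
open ValPrufer

namespace Groth.Agent.S14731

/-- In characteristic zero, every field K generated as a field by a finite set is the fraction field of
a subring A of K of finite type and smooth over the integers. -/
theorem result
    (K : Type u) [Field K] [CharZero K] (s : Finset K)
    (hs : Subfield.closure (↑s : Set K) = ⊤) :
    ∃ A : Subring K, Algebra.FiniteType ℤ A ∧ Algebra.Smooth ℤ A ∧ IsFractionRing A K := by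
  classical
  haveI : Algebra.EssFiniteType ℚ K := by
    rw [← IntermediateField.fg_top_iff]
    refine ⟨s, eq_top_iff.2 fun x _ => ?_⟩
    have hx : x ∈ Subfield.closure (↑s : Set K) := hs ▸ Subfield.mem_top x
    exact (Subfield.closure_le.2 (IntermediateField.subset_adjoin ℚ _) :
      Subfield.closure (↑s : Set K) ≤ (IntermediateField.adjoin ℚ (↑s : Set K)).toSubfield) hx
  obtain ⟨A, hft, hsm, hfr⟩ := SmoothModel.exists_model (D := ℤ) (k := ℚ) (K := K)
  let e : ↥A ≃+* ↥A.toSubring := RingEquiv.refl _
  refine ⟨A.toSubring, ?_, ?_, hfr⟩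
  · exact Algebra.FiniteType.equiv hft e.toIntAlgEquiv
  · exact Algebra.Smooth.of_equiv e.toIntAlgEquiv

end Groth.Agent.S14731
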