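import Groth.Statements.S14732
import Groth.Agent.SmoothModel.Basic
-- import your own Groth.Agent.* helpers here

set_option autoImplicit false
universe u
open ValPrufer

namespace Groth.Agent.S14732

/-- In characteristic p > 0, a field K that is finitely generated over its prime subfield F (a field
with p elements) is the fraction field of an integral scheme smooth over F; concretely, there is an
F-subalgebra A of K, of finite type and smooth over F, whose fraction field is K. -/
theorem result
    (K : Type u) [Field K] (p : ℕ) [Fact p.Prime] [CharP K p] (s : Finset K)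
    (hs : Subfield.closure (↑s : Set K) = ⊤) :
    ∃ A : Subalgebra (⊥ : Subfield K) K, Algebra.FiniteType (⊥ : Subfield K) A ∧
      Algebra.Smooth (⊥ : Subfield K) A ∧ IsFractionRing A K := by
  classical
  haveI : Algebra.EssFiniteType (⊥ : Subfield K) K := by
    rw [← IntermediateField.fg_top_iff]
    refine ⟨s, eq_top_iff.2 fun x _ => ?_⟩
    have hx : x ∈ Subfield.closure (↑s : Set K) := hs ▸ Subfield.mem_top x
    exact (Subfield.closure_le.2 (IntermediateField.subset_adjoin _ _) :
      Subfield.closure (↑s : Set K) ≤ (IntermediateField.adjoin (⊥ : Subfield K) (↑s : Set K)).toSubfield) hx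
  haveI : Finite (⊥ : Subfield K) := by
    letI := ZMod.algebra K p
    have h : ((⊥ : Subfield K) : Set K) ⊆ Set.range (algebraMap (ZMod p) K) := fun x hx =>
      (bot_le : (⊥ : Subfield K) ≤ (algebraMap (ZMod p) K).fieldRange) hx
    exact ((Set.finite_range _).subset h).to_subtype
  exact SmoothModel.exists_model (D := (⊥ : Subfield K)) (k := (⊥ : Subfield K)) (K := K)

end Groth.Agent.S14732
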