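import Mathlib
import Groth.Statements.S14743
-- import your own Groth.Agent.* helpers here

set_option autoImplicit false
universe u
open CategoryTheory MonoidalCategory CartesianMonoidalCategory MonObj GrpObj AlgebraicGeometry
open AlgGrp

namespace Groth.Agent.S14743

set_option backward.isDefEq.respectTransparency false
set_option backward.isDefEq.respectTransparency.types false

/-- Over an algebraically closed field k let L, G, B be commutative k-group schemes, i : L → G and π : G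
→ B homomorphisms with i the kernel of π, and suppose that every k-morphism B × B → L is constant
(factors through a k-point of L). If π admits a section which is a morphism of k-schemes, then it
admits a section which is a homomorphism, so the extension splits. (The published statement is for
algebraic groups, that is, of finite type over k; finiteness plays no role and is not assumed here.) -/
theorem result (k : Type u) [Field k] [IsAlgClosed k]
    (L G B : Over (Spec (CommRingCat.of k))) [GrpObj L] [GrpObj G] [GrpObj B]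
    [IsCommMonObj L] [IsCommMonObj G] [IsCommMonObj B]
    (i : L ⟶ G) [IsMonHom i] (π : G ⟶ B) [IsMonHom π] (hker : AlgGrp.IsKernel i π)
    (hconst : ∀ f : B ⊗ B ⟶ L, ∃ l : 𝟙_ (Over (Spec (CommRingCat.of k))) ⟶ L, f = toUnit (B ⊗ B) ≫ l)
    (s : B ⟶ G) (hs : s ≫ π = 𝟙 B) :
    ∃ s' : B ⟶ G, IsMonHom s' ∧ s' ≫ π = 𝟙 B := by
  set s₀ : B ⟶ G := s * (toUnit B ≫ η[B] ≫ s)⁻¹ with hs₀
  have hηπ : η[G] ≫ π = η[B] := IsMonHom.one_hom π
  have hmulπ : ∀ {T : Over (Spec (CommRingCat.of k))} (a b : T ⟶ G), (a * b) ≫ π = (a ≫ π) * (b ≫ π) := by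
    intro T a b
    exact MonObj.mul_comp a b π
  have hinvπ : ∀ {T : Over (Spec (CommRingCat.of k))} (a : T ⟶ G), a⁻¹ ≫ π = (a ≫ π)⁻¹ := by
    intro T a
    exact GrpObj.inv_comp a π
  have hone : ∀ (T : Over (Spec (CommRingCat.of k))), (1 : T ⟶ B) = toUnit T ≫ η[B] := fun T => rfl
  have hs₀π : s₀ ≫ π = 𝟙 B := by
    rw [hs₀, hmulπ, hinvπ, Category.assoc, Category.assoc, hs, Category.comp_id, ← hone, inv_one, _root_.mul_one]
  have hs₀η : η[B] ≫ s₀ = η[G] := by
    rw [hs₀, MonObj.comp_mul, GrpObj.comp_inv, ← Category.assoc (η[B]), toUnit_unique (η[B] ≫ toUnit B) (𝟙 _),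
      Category.id_comp, mul_inv_cancel]
    show toUnit (𝟙_ _) ≫ η[G] = η[G]
    rw [toUnit_unique (toUnit (𝟙_ _)) (𝟙 _), Category.id_comp]
  let c : B ⊗ B ⟶ G := ((fst B B * snd B B) ≫ s₀)⁻¹ * ((fst B B ≫ s₀) * (snd B B ≫ s₀))
  have hcπ : c ≫ π = toUnit (B ⊗ B) ≫ η[B] := by
    simp only [c, hmulπ, hinvπ, Category.assoc, hs₀π, Category.comp_id, inv_mul_cancel]
    exact hone _
  obtain ⟨l, hl⟩ := hconst (hker.lift c (toUnit _) hcπ)
  have hc : c = toUnit (B ⊗ B) ≫ l ≫ i := by
    rw [← Category.assoc, ← hl, hker.lift_fst]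
  have hli : l ≫ i = η[G] := by
    have h1 := congrArg (fun q => lift (η[B]) (η[B]) ≫ q) hc
    simp only [c, MonObj.comp_mul, GrpObj.comp_inv, lift_fst_assoc, lift_snd_assoc, hs₀η] at h1
    rw [← Category.assoc (lift _ _) (toUnit _), toUnit_unique (lift (η[B]) (η[B]) ≫ toUnit (B ⊗ B)) (𝟙 _), Category.id_comp] at h1
    rw [← h1]
    have h2 : lift (η[B]) (η[B]) ≫ (fst B B * snd B B) = η[B] := by
      rw [MonObj.comp_mul, lift_fst, lift_snd]
      rw [show η[B] = (1 : 𝟙_ _ ⟶ B) from by rw [hone, toUnit_unique (toUnit (𝟙_ _)) (𝟙 _), Category.id_comp], _root_.mul_one]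
    have h3 : (η[G] : 𝟙_ _ ⟶ G) = (1 : 𝟙_ _ ⟶ G) := by
      show η[G] = toUnit (𝟙_ _) ≫ η[G]
      rw [toUnit_unique (toUnit (𝟙_ _)) (𝟙 _), Category.id_comp]
    rw [← Category.assoc, h2, hs₀η, h3]
    simp
  refine ⟨s₀, ⟨hs₀η, ?_⟩, hs₀π⟩
  rw [hli] at hc
  have hc1 : c = 1 := hc
  rw [inv_mul_eq_one] at hc1
  rw [MonObj.mul_eq_mul, hc1, MonObj.mul_eq_mul, MonObj.comp_mul (s₀ ⊗ₘ s₀), tensorHom_fst, tensorHom_snd]

end Groth.Agent.S14743
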