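import Groth.Statements.S14766
import Groth.Agent.SubtrVal.Basic

set_option backward.isDefEq.respectTransparency false
set_option backward.isDefEq.respectTransparency.types false

set_option autoImplicit false
universe u
open CategoryTheory CategoryTheory.Limits AlgebraicGeometry
open Subtr

namespace Groth.Agent.S14766

/-- Let V be a discrete valuation ring and f : X ⟶ Spec V any morphism of schemes. Then the underlying
continuous map of f is a quotient map (f is submersive) if and only if every ordered pair of points
of Spec V lifts to an ordered pair of points of X. -/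
theorem result (V : Type u) [CommRing V] [IsDomain V]
    [IsDiscreteValuationRing V] {X : Scheme.{u}} (f : X ⟶ Spec (CommRingCat.of V)) :
    Topology.IsQuotientMap f ↔ Subtr.IsSSubtrusive f := by
  let g : Spec (CommRingCat.of V) := Groth.Agent.SubtrVal.gen V
  let c : Spec (CommRingCat.of V) := IsLocalRing.closedPoint V
  have two : ∀ p : Spec (CommRingCat.of V), p = g ∨ p = c := fun p => by
    haveI := p.isPrime
    by_cases h : p.asIdeal = ⊥
    · exact Or.inl (PrimeSpectrum.ext h)
    · exact Or.inr (PrimeSpectrum.ext (IsLocalRing.eq_maximalIdeal (p.isPrime.isMaximal h)))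
  have hgo : IsOpen ({g} : Set (Spec (CommRingCat.of V))) := by
    have hcl : IsClosed ({c} : Set (Spec (CommRingCat.of V))) := IsLocalRing.isClosed_singleton_closedPoint V
    have hne : g ≠ c := fun h => IsDiscreteValuationRing.not_a_field V (congrArg PrimeSpectrum.asIdeal h).symm
    have : ({g} : Set (Spec (CommRingCat.of V))) = {c}ᶜ := by
      ext p; rcases two p with rfl | rfl <;> simp [hne, hne.symm]
    rw [this]; exact hcl.isOpen_compl
  constructor
  · intro hq
    have h4 : ∃ x x' : X, x' ⤳ x ∧ f x = c ∧ f x' = g := by
      by_contra hno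
      have hopen : IsOpen (f ⁻¹' ({c} : Set (Spec (CommRingCat.of V)))) := by
        have : f ⁻¹' ({c} : Set (Spec (CommRingCat.of V))) = (closure (f ⁻¹' {g}))ᶜ := by
          ext x
          refine ⟨fun hx hxc => hno ?_, fun hx => ?_⟩
          · obtain ⟨x', hx', hfx'⟩ := Groth.Agent.SubtrVal.exists_generization f x hxc
            exact ⟨x, x', hx', hx, hfx'⟩
          · exact (two (f x)).resolve_left fun h => hx (subset_closure h)
        rw [this]; exact isClosed_closure.isOpen_compl
      have hc := hq.isOpen_preimage.1 hopen
      have : g ∈ ({c} : Set (Spec (CommRingCat.of V))) :=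
        (Groth.Agent.SubtrVal.gen_specializes c).mem_open hc rfl
      exact IsDiscreteValuationRing.not_a_field V (congrArg PrimeSpectrum.asIdeal this).symm
    exact ((Groth.Agent.SubtrVal.tfae f).out 3 1).1 h4
  · intro h
    refine (Topology.isQuotientMap_iff _).2 ⟨Topology.isCoinducing_iff.2 fun S => ⟨fun hS => ?_, fun hS => hS.preimage f.continuous⟩, fun y => let ⟨x, _, _, hx, _⟩ := h (specializes_refl y); ⟨x, hx⟩⟩
    by_cases hc : c ∈ S
    · obtain ⟨x, x', hx, hxc, hxg⟩ := h (Groth.Agent.SubtrVal.gen_specializes c)
      have hxS : x ∈ f ⁻¹' S := by rw [Set.mem_preimage, hxc]; exact hc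
      have hg : g ∈ S := by
        have := hx.mem_open hS hxS
        rw [Set.mem_preimage, hxg] at this
        exact this
      have : S = Set.univ := Set.eq_univ_of_forall fun p => by rcases two p with rfl | rfl <;> assumption
      rw [this]; exact isOpen_univ
    · have : S ⊆ {g} := fun p hp => (two p).resolve_right fun h => hc (h ▸ hp)
      rcases Set.subset_singleton_iff_eq.1 this with h | h <;> rw [h]
      exacts [isOpen_empty, hgo]

end Groth.Agent.S14766
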