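import Groth.Statements.S14767
import Groth.Agent.SubtrVal.Basic
import Groth.Agent.SubtrVal.Noeth

set_option backward.isDefEq.respectTransparency false
set_option backward.isDefEq.respectTransparency.types false

set_option autoImplicit false
universe u
open CategoryTheory CategoryTheory.Limits AlgebraicGeometry
open Subtr

namespace Groth.Agent.S14767

/-- Let f : X ⟶ Y be a quasi-compact morphism of schemes. Then f is universally submersive if and only
if, for every valuation ring V and every morphism Spec V ⟶ Y, the base change X ×_Y Spec V ⟶ Spec V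
is submersive (its underlying continuous map is a quotient map). (The published statement asks
instead that f be universally submersive for the constructible topologies, which holds for
quasi-compact surjective morphisms; both sides here force f to be surjective.) -/
theorem result {X Y : Scheme.{u}} (f : X ⟶ Y) [QuasiCompact f] :
    SGA1.UnivSubmersive f ↔
      ∀ (V : Type u) [CommRing V] [IsDomain V] [ValuationRing V] (g : Spec (CommRingCat.of V) ⟶ Y),
        Topology.IsQuotientMap (pullback.snd f g) := by
  refine ⟨fun h V _ _ _ g => h _ _ _ (IsPullback.of_hasPullback f g).flip, fun h X' Y' i₁ i₂ f' hpb => ?_⟩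
  haveI : QuasiCompact f' := MorphismProperty.of_isPullback (P := @QuasiCompact) hpb.flip ‹QuasiCompact f›
  -- every specialization pair of `Y'` is hit by the spectrum of a valuation ring
  have key : ∀ (V : Type u) [CommRing V] [IsDomain V] [ValuationRing V] (g : Spec (CommRingCat.of V) ⟶ Y'),
      ∃ (P : Scheme.{u}) (q : P ⟶ Spec (CommRingCat.of V)) (l : P ⟶ X'),
        Topology.IsQuotientMap q ∧ l ≫ f' = q ≫ g := fun V _ _ _ g => by
    refine ⟨_, pullback.snd f (g ≫ i₂), hpb.flip.lift (pullback.fst f (g ≫ i₂)) (pullback.snd f (g ≫ i₂) ≫ g)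
      (by rw [pullback.condition, Category.assoc]), h V (g ≫ i₂), ?_⟩
    rw [hpb.flip.lift_snd]
  show Topology.IsQuotientMap f'
  have hsurj : Function.Surjective f'.base := fun y => by
    obtain ⟨A, _, _, _, g, hgc, -⟩ := Groth.Agent.S19530.exists_valuation_pair (specializes_refl y)
    obtain ⟨P, q, l, hq, hl⟩ := key A g
    obtain ⟨z, hz⟩ := hq.surjective (IsLocalRing.closedPoint A)
    exact ⟨l z, show f' (l z) = y by rw [← Scheme.Hom.comp_apply, hl, Scheme.Hom.comp_apply, hz, hgc]⟩
  refine (Topology.isQuotientMap_iff _).2 ⟨Topology.isCoinducing_iff.2 fun S => ⟨fun hS => ?_, fun hS => hS.preimage f'.continuous⟩, hsurj⟩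
  ·
    rw [← isClosed_compl_iff, ← Set.image_preimage_eq (Sᶜ) hsurj]
    refine Groth.Agent.SubtrVal.isClosed_image_of_stable f' hS.isClosed_compl ?_
    rw [Set.image_preimage_eq _ hsurj]
    intro y' y hyy hy' hy
    refine hy' ?_
    obtain ⟨A, _, _, _, g, hgc, hgg⟩ := Groth.Agent.S19530.exists_valuation_pair hyy
    obtain ⟨P, q, l, hq, hl⟩ := key A g
    have hopen : IsOpen (g ⁻¹' S) := by
      refine hq.isOpen_preimage.1 ?_
      have : q ⁻¹' (g ⁻¹' S) = l ⁻¹' (f' ⁻¹' S) := by
        ext z
        show g (q z) ∈ S ↔ f' (l z) ∈ S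
        rw [← Scheme.Hom.comp_apply, ← Scheme.Hom.comp_apply, hl]
      rw [this]
      exact hS.preimage l.continuous
    have hc : IsLocalRing.closedPoint A ∈ g ⁻¹' S := show g (IsLocalRing.closedPoint A) ∈ S by rw [hgc]; exact hy
    have := (Groth.Agent.SubtrVal.gen_specializes (V := A) (IsLocalRing.closedPoint A)).mem_open hopen hc
    exact hgg ▸ this

end Groth.Agent.S14767
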