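import Groth.Statements.S14789
import Mathlib.AlgebraicGeometry.Properties
-- import your own Groth.Agent.* helpers here

set_option autoImplicit false
universe u
open CategoryTheory CategoryTheory.Limits AlgebraicGeometry
open Subtr

namespace Groth.Agent.S14789

/-- Let f : X ⟶ Y be a morphism of schemes with the lifting property for ordered pairs of points, and U
⊆ Y a subset containing every maximal point of Y (every point all of whose generizations are equal
to it). Then the closure of f⁻¹(U) maps onto Y. -/
theorem result {X Y : Scheme.{u}} (f : X ⟶ Y)
    (hf : Subtr.IsSSubtrusive f) (U : Set Y) (hU : ∀ y : Y, (∀ y' : Y, y' ⤳ y → y' = y) → y ∈ U) :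
    f '' closure (f ⁻¹' U) = Set.univ := by
  refine Set.eq_univ_of_forall fun y => ?_
  have hirr := isIrreducible_irreducibleComponent (x := y)
  have hgp := hirr.isGenericPoint_genericPoint isClosed_irreducibleComponent
  obtain ⟨x, x', hspec, hx, hx'⟩ := hf (hgp.specializes mem_irreducibleComponent)
  have hmax : hirr.genericPoint ∈ U := by
    refine hU _ fun z hz => ?_
    have hsub : irreducibleComponent y ⊆ closure {z} := by
      rw [← hgp.def]
      exact closure_minimal (Set.singleton_subset_iff.mpr hz.mem_closure) isClosed_closure
    have hle := (irreducibleComponent_mem_irreducibleComponents y).2 isIrreducible_singleton.closure hsub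
    exact (hz.antisymm (hgp.specializes (hle (subset_closure rfl)))).eq
  exact ⟨x, hspec.mem_closed isClosed_closure (subset_closure (show f x' ∈ U by rw [hx']; exact hmax)), hx⟩

end Groth.Agent.S14789
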