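import Groth.Statements.S1479
import Groth.Agent.SmoothPair.Basic
import Groth.Agent.EtaleChart.Basic
-- import your own Groth.Agent.* helpers here

set_option autoImplicit false
set_option linter.style.haveILetI false
universe u
open scoped TensorProduct
open FlatMor

namespace Groth.Agent.S1479

open AlgebraicGeometry CategoryTheory Limits in
/-- Let X and Y be smooth over S and i : Y → X a closed immersion over S. For every point y of Y there
are an open U of X containing i y, natural numbers m, n, and an étale S-morphism π from U to affine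
(m+n)-space over S such that the closed subscheme Y ∩ U of U is the pullback along π of the
coordinate subspace given by the vanishing of the last n coordinates. -/
theorem result {S X Y : Scheme.{u}} (pX : X ⟶ S) (pY : Y ⟶ S) [Smooth pX] [Smooth pY]
    (i : Y ⟶ X) [IsClosedImmersion i] (w : i ≫ pX = pY) (y : Y) :
    ∃ (U : X.Opens) (m n : ℕ) (π : (U : Scheme.{u}) ⟶ 𝔸(ULift.{u} (Fin m ⊕ Fin n); S)) (ρ : (↑(i ⁻¹ᵁ U) : Scheme.{u}) ⟶ 𝔸(ULift.{u} (Fin m); S)),
      i y ∈ U ∧ Etale π ∧ π ≫ (𝔸(ULift.{u} (Fin m ⊕ Fin n); S) ↘ S) = U.ι ≫ pX ∧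
      IsPullback ρ (i ∣_ U)
        (AffineSpace.homOfVector (𝔸(ULift.{u} (Fin m); S) ↘ S)
          (fun j : ULift.{u} (Fin m ⊕ Fin n) => Sum.elim (fun a => AffineSpace.coord S (ULift.up a)) (fun _ => 0) j.down))
        π := by
  obtain ⟨V, hV, hyV, -⟩ := exists_isAffineOpen_mem_and_subset (x := pX (i y)) (U := (⊤ : S.Opens)) trivial
  obtain ⟨W, hW, hyW, hWs⟩ := exists_isAffineOpen_mem_and_subset (x := i y) (U := pX ⁻¹ᵁ V) hyV
  have hWV : W ≤ pX ⁻¹ᵁ V := hWs
  have hY : IsAffineOpen (i ⁻¹ᵁ W) := hW.preimage i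
  have hYV : i ⁻¹ᵁ W ≤ pY ⁻¹ᵁ V := by
    subst w
    exact fun z hz => hWV hz
  letI : Algebra Γ(S, V) Γ(X, W) := (pX.appLE V W hWV).hom.toAlgebra
  letI : Algebra Γ(S, V) Γ(Y, i ⁻¹ᵁ W) := (pY.appLE V _ hYV).hom.toAlgebra
  haveI : Algebra.Smooth Γ(S, V) Γ(X, W) := pX.smooth_appLE hV hW hWV
  haveI : Algebra.Smooth Γ(S, V) Γ(Y, i ⁻¹ᵁ W) := pY.smooth_appLE hV hY hYV
  let iA : Γ(X, W) →ₐ[Γ(S, V)] Γ(Y, i ⁻¹ᵁ W) :=
    { (i.app W).hom with
      commutes' := fun r => by
        show (pX.appLE V W hWV ≫ i.app W).hom r = (pY.appLE V _ hYV).hom r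
        subst w
        rw [Scheme.Hom.app_eq_appLE, Scheme.Hom.appLE_comp_appLE] }
  have hsurj : Function.Surjective iA := i.app_surjective W hW
  let J : Ideal Γ(X, W) := RingHom.ker iA
  haveI : Algebra.Smooth Γ(S, V) (Γ(X, W) ⧸ J) :=
    Algebra.Smooth.of_equiv (Ideal.quotientKerAlgEquivOfSurjective hsurj).symm
  have hJ : J.FG := Algebra.FinitePresentation.ker_fG_of_surjective iA hsurj
  let q := (hW.primeIdealOf ⟨i y, hyW⟩).asIdeal
  have hJq : J ≤ q := by
    intro x hx
    by_contra hxq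
    have h1 : i y ∈ X.basicOpen x := by
      rw [X.mem_basicOpen _ _ hyW]
      letI : Algebra Γ(X, W) (X.presheaf.stalk (i y)) := X.presheaf.algebra_section_stalk ⟨i y, hyW⟩
      haveI := hW.isLocalization_stalk ⟨i y, hyW⟩
      exact IsLocalization.map_units (M := q.primeCompl) (X.presheaf.stalk (i y)) ⟨x, hxq⟩
    have h2 : y ∈ i ⁻¹ᵁ X.basicOpen x := h1
    rw [Scheme.preimage_basicOpen, show i.app W x = 0 from hx, Scheme.basicOpen_zero] at h2
    exact h2
  let Q : Ideal (Γ(X, W) ⧸ J) := q.map (Ideal.Quotient.mk J)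
  haveI : Q.IsPrime := Ideal.map_isPrime_of_surjective Ideal.Quotient.mk_surjective (by rw [Ideal.mk_ker]; exact hJq)
  have hQ : Q.comap (Ideal.Quotient.mk J) = q := by
    rw [Ideal.comap_map_of_surjective _ Ideal.Quotient.mk_surjective, ← RingHom.ker_eq_comap_bot, Ideal.mk_ker,
      sup_eq_left.2 hJq]
  haveI : Algebra.IsSmoothAt Γ(S, V) q := Algebra.FormallySmooth.comp Γ(S, V) Γ(X, W) _
  haveI : Algebra.IsSmoothAt Γ(S, V) Q := Algebra.FormallySmooth.comp Γ(S, V) (Γ(X, W) ⧸ J) _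
  let R := Localization.AtPrime q
  let κ := q.ResidueField
  let Jq : Ideal R := J.map (algebraMap Γ(X, W) R)
  haveI : Module.Finite R Jq := .of_fg (Ideal.FG.map hJ _)
  haveI : IsLocalizedModule q.primeCompl (Algebra.idealMap (S := R) J) := inferInstance
  let e1 : R ⊗[Γ(X, W)] J ≃ₗ[R] Jq :=
    (IsLocalizedModule.isBaseChange q.primeCompl R (Algebra.idealMap (S := R) J)).equiv
  let e : κ ⊗[Γ(X, W)] J ≃ₗ[κ] κ ⊗[R] Jq :=
    (TensorProduct.AlgebraTensorModule.cancelBaseChange Γ(X, W) R κ κ J).symm.trans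
      (TensorProduct.AlgebraTensorModule.congr (LinearEquiv.refl κ κ) e1)
  let t : J → κ ⊗[Γ(X, W)] J := fun z => 1 ⊗ₜ z
  have ht : ⊤ ≤ Submodule.span κ (Set.range t) := by
    rintro z -
    induction z using TensorProduct.induction_on with
    | zero => exact zero_mem _
    | add x y hx hy => exact add_mem hx hy
    | tmul c z =>
      rw [← mul_one c, ← smul_eq_mul, ← TensorProduct.smul_tmul']
      exact Submodule.smul_mem _ _ (Submodule.subset_span ⟨z, rfl⟩)
  obtain ⟨ι, a, -, hasp, hali⟩ := exists_linearIndependent' κ t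
  let bι : Module.Basis ι κ (κ ⊗[Γ(X, W)] J) := Module.Basis.mk hali (by rw [hasp]; exact ht)
  haveI : Module.Finite Γ(X, W) J := .of_fg hJ
  haveI : Finite ι := Module.Finite.finite_basis bι
  obtain ⟨n, ⟨en⟩⟩ := Finite.exists_equiv_fin ι
  let g : Fin n → Γ(X, W) := fun j => (a (en.symm j)).1
  have hmin : n = Module.finrank κ (κ ⊗[Γ(X, W)] J) := by
    rw [Module.finrank_eq_card_basis (bι.reindex en), Fintype.card_fin]
  have hgen : J.map (algebraMap Γ(X, W) R) = Ideal.span (Set.range fun j => algebraMap Γ(X, W) R (g j)) := by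
    let gk : Fin n → Jq := fun j => Algebra.idealMap (S := R) J (a (en.symm j))
    have h1 : Submodule.span R (Set.range gk) = ⊤ :=
      IsLocalRing.span_eq_top_of_tmul_eq_basis gk ((bι.reindex en).map e) fun j => by
        simp [bι, t, e, e1, gk, IsBaseChange.equiv_tmul]
    have h2 := congrArg (Submodule.map Jq.subtype) h1
    rw [Submodule.map_span, ← Set.range_comp, Submodule.map_subtype_top] at h2
    exact h2.symm
  obtain ⟨f, hf, m, b, het, hJf⟩ :=
    Groth.Agent.SmoothPair.exists_coordinates (A := Γ(S, V)) J hJ q hJq Q hQ n g (fun j => (a (en.symm j)).2) hgen hmin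
  let U := X.basicOpen f
  have hU : IsAffineOpen U := hW.basicOpen f
  haveI : IsAffine U.toScheme := hU
  haveI : IsAffine V.toScheme := hV
  have hyU : i y ∈ U := by
    rw [X.mem_basicOpen _ _ hyW]
    letI : Algebra Γ(X, W) (X.presheaf.stalk (i y)) := X.presheaf.algebra_section_stalk ⟨i y, hyW⟩
    haveI := hW.isLocalization_stalk ⟨i y, hyW⟩
    exact IsLocalization.map_units (M := q.primeCompl) (X.presheaf.stalk (i y)) ⟨f, hf⟩
  have hUV : U ≤ pX ⁻¹ᵁ V := (X.basicOpen_le f).trans hWV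
  let res : Γ(X, W) →+* Γ(X, U) := (X.presheaf.map (homOfLE (X.basicOpen_le f)).op).hom
  let c : ULift.{u} (Fin m ⊕ Fin n) → Γ(X, U) := fun j => res (Sum.elim b g j.down)
  let φ : Γ(S, V) →+* Γ(X, U) := (pX.appLE V U hUV).hom
  have hφ : φ = res.comp (pX.appLE V W hWV).hom := by
    show (pX.appLE V U hUV).hom = (pX.appLE V W hWV ≫ X.presheaf.map (homOfLE (X.basicOpen_le f)).op).hom
    rw [Scheme.Hom.appLE_map]
  have hc : (MvPolynomial.eval₂Hom φ c).Etale := by
    haveI := hW.isLocalization_basicOpen f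
    let el : Localization.Away f ≃ₐ[Γ(X, W)] Γ(X, U) := IsLocalization.algEquiv (Submonoid.powers f) _ _
    let σ : ULift.{u} (Fin m ⊕ Fin n) ≃ Fin n ⊕ Fin m := Equiv.ulift.trans (Equiv.sumComm _ _)
    have heq : MvPolynomial.eval₂Hom φ c = el.toRingEquiv.toRingHom.comp
        (((algebraMap Γ(X, W) (Localization.Away f)).comp
          (MvPolynomial.aeval (Sum.elim g b) : MvPolynomial (Fin n ⊕ Fin m) Γ(S, V) →ₐ[Γ(S, V)] Γ(X, W)).toRingHom).comp
          (MvPolynomial.renameEquiv _ σ).toRingEquiv.toRingHom) := by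
      refine MvPolynomial.ringHom_ext (fun r => ?_) fun j => ?_
      · rw [MvPolynomial.eval₂Hom_C, hφ]
        simp [el, res]
        rfl
      · rw [MvPolynomial.eval₂Hom_X']
        obtain ⟨j | j⟩ := j <;> simp [el, res, c, σ] <;> rfl
    rw [heq]
    exact RingHom.Etale.respectsIso.1 _ _ (RingHom.Etale.respectsIso.2 _ _ het)
  have hker : RingHom.ker (i.app U).hom = Ideal.span (Set.range fun j => res (g j)) := by
    haveI := hW.isLocalization_basicOpen f
    rw [← i.ker_apply ⟨U, hU⟩, ← i.ker.map_ideal (U := ⟨U, hU⟩) (V := ⟨W, hW⟩) (X.basicOpen_le f), i.ker_apply]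
    show J.map res = _
    let el : Localization.Away f ≃ₐ[Γ(X, W)] Γ(X, U) := IsLocalization.algEquiv (Submonoid.powers f) _ _
    have h1 := congrArg (Ideal.map el.toRingEquiv.toRingHom) hJf
    rw [Ideal.map_map, Ideal.map_span, ← Set.range_comp] at h1
    convert h1 using 2
    · ext x; exact (el.commutes x).symm
    · exact congrArg Set.range (funext fun j => (el.commutes (g j)).symm)
  let v : ULift.{u} (Fin m ⊕ Fin n) → Γ(U.toScheme, ⊤) := fun j => U.topIso.inv (c j)
  have hv : (MvPolynomial.eval₂Hom (pX.resLE V U hUV).appTop.hom v).Etale := by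
    let eV : Γ(V.toScheme, ⊤) ≃+* Γ(S, V) := V.topIso.commRingCatIsoToRingEquiv
    let eU : Γ(X, U) ≃+* Γ(U.toScheme, ⊤) := U.topIso.symm.commRingCatIsoToRingEquiv
    have heq : MvPolynomial.eval₂Hom (pX.resLE V U hUV).appTop.hom v =
        eU.toRingHom.comp ((MvPolynomial.eval₂Hom φ c).comp (MvPolynomial.mapEquiv _ eV).toRingHom) := by
      refine MvPolynomial.ringHom_ext (fun r => ?_) fun j => ?_
      · rw [MvPolynomial.eval₂Hom_C, Scheme.Hom.appTop, Scheme.Hom.resLE_app_top]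
        simp [eU, eV, φ]
      · simp [eU, eV, v]
    rw [heq]
    exact RingHom.Etale.respectsIso.1 _ eU (RingHom.Etale.respectsIso.2 _ (MvPolynomial.mapEquiv _ eV) hc)
  let π : U.toScheme ⟶ 𝔸(ULift.{u} (Fin m ⊕ Fin n); S) :=
    AffineSpace.homOfVector (pX.resLE V U hUV) v ≫ AffineSpace.map _ V.ι
  have hπo : π ≫ (𝔸(ULift.{u} (Fin m ⊕ Fin n); S) ↘ S) = U.ι ≫ pX := by
    simp [π]
  have hπc : ∀ j, π.appTop (AffineSpace.coord S j) = v j := fun j => by
    simp only [π, Scheme.Hom.comp_appTop, CommRingCat.comp_apply]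
    rw [AffineSpace.map_appTop_coord, AffineSpace.homOfVector_appTop_coord]
  have hπ : Etale π := by
    haveI := (EtaleChart.etale_homOfVector_iff (pX.resLE V U hUV) v).2 hv
    haveI : IsOpenImmersion (AffineSpace.map (ULift.{u} (Fin m ⊕ Fin n)) V.ι) :=
      MorphismProperty.of_isPullback (AffineSpace.isPullback_map V.ι).flip inferInstance
    infer_instance
  let i' := i ∣_ U
  have hker' : RingHom.ker i'.appTop.hom = Ideal.span (Set.range fun j : Fin n => v (ULift.up (Sum.inr j))) := by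
    have h1 : i'.appTop = U.topIso.hom ≫ i.app U ≫ (i ⁻¹ᵁ U).topIso.inv := by
      show (i ∣_ U).app ⊤ = _
      rw [← Scheme.Hom.resLE_eq_morphismRestrict, Scheme.Hom.resLE_app_top, Scheme.Hom.app_eq_appLE]
    let eU : Γ(X, U) ≃+* Γ(U.toScheme, ⊤) := U.topIso.symm.commRingCatIsoToRingEquiv
    let eY : Γ(Y, i ⁻¹ᵁ U) ≃+* Γ((i ⁻¹ᵁ U).toScheme, ⊤) := (i ⁻¹ᵁ U).topIso.symm.commRingCatIsoToRingEquiv
    have h3 : U.topIso.inv ≫ i'.appTop = i.app U ≫ (i ⁻¹ᵁ U).topIso.inv := by
      rw [h1, Iso.inv_hom_id_assoc]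
    have h4 : ∀ z, i'.appTop.hom (eU z) = eY ((i.app U).hom z) := fun z => congrArg (fun g => g.hom z) h3
    have h2 : Ideal.map eU (RingHom.ker (i.app U).hom) = RingHom.ker i'.appTop.hom := by
      ext x
      rw [Ideal.mem_map_of_equiv]
      constructor
      · rintro ⟨z, hz, rfl⟩
        rw [RingHom.mem_ker] at hz ⊢
        rw [h4, hz, map_zero]
      · intro hx
        refine ⟨eU.symm x, ?_, eU.apply_symm_apply x⟩
        rw [RingHom.mem_ker] at hx ⊢
        refine eY.injective ?_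
        rw [map_zero, ← h4, eU.apply_symm_apply, hx]
    rw [← h2, hker, Ideal.map_span, ← Set.range_comp]
    rfl
  let ρ : (i ⁻¹ᵁ U).toScheme ⟶ 𝔸(ULift.{u} (Fin m); S) :=
    AffineSpace.homOfVector ((i ⁻¹ᵁ U).ι ≫ pY) fun a => i'.appTop (v (ULift.up (Sum.inl a.down)))
  have hover : i' ≫ U.ι ≫ pX = (i ⁻¹ᵁ U).ι ≫ pY := by
    rw [morphismRestrict_ι_assoc, w]
  refine ⟨U, m, n, π, ρ, hyU, hπ, hπo, ?_⟩
  set z := AffineSpace.homOfVector (𝔸(ULift.{u} (Fin m); S) ↘ S)
    (fun j : ULift.{u} (Fin m ⊕ Fin n) => Sum.elim (fun a => AffineSpace.coord S (ULift.up a)) (fun _ => 0) j.down)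
    with hz
  have hzo : z ≫ (𝔸(ULift.{u} (Fin m ⊕ Fin n); S) ↘ S) = 𝔸(ULift.{u} (Fin m); S) ↘ S :=
    AffineSpace.homOfVector_over _ _
  have hzc : ∀ j, z.appTop (AffineSpace.coord S j) =
      Sum.elim (fun a => AffineSpace.coord S (ULift.up a)) (fun _ => 0) j.down :=
    fun j => AffineSpace.homOfVector_appTop_coord _ _ j
  have hsq : ρ ≫ z = i' ≫ π := by
    refine AffineSpace.hom_ext ?_ fun j => ?_
    · simp [ρ, hzo, hπo, hover]
    · simp only [Scheme.Hom.comp_appTop, CommRingCat.comp_apply, hπc, hzc,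
        AffineSpace.homOfVector_appTop_coord]
      obtain ⟨j | j⟩ := j
      · simp only [Sum.elim_inl, ρ, AffineSpace.homOfVector_appTop_coord]
      · simp only [Sum.elim_inr, map_zero]
        exact (RingHom.mem_ker.1 (hker'.ge (Ideal.subset_span ⟨j, rfl⟩))).symm
  haveI : Mono i' := inferInstance
  have key : ∀ s : PullbackCone z π, i'.ker ≤ (s.snd).ker := by
    intro s
    rw [Scheme.ker_of_isAffine, Scheme.ker_of_isAffine]
    refine Scheme.IdealSheafData.le_of_isAffine ?_
    simp only [Scheme.IdealSheafData.ofIdealTop_ideal]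
    refine Ideal.map_mono ?_
    rw [hker', Ideal.span_le]
    rintro _ ⟨j, rfl⟩
    rw [SetLike.mem_coe, RingHom.mem_ker]
    have h := congrArg (fun h => h.appTop (AffineSpace.coord S (ULift.up (Sum.inr j)))) s.condition
    simp only [Scheme.Hom.comp_appTop, CommRingCat.comp_apply, hπc, hzc,
      AffineSpace.homOfVector_appTop_coord, Sum.elim_inr, map_zero] at h
    exact h.symm
  refine IsPullback.of_isLimit' ⟨hsq⟩ (PullbackCone.IsLimit.mk _ (fun s => IsClosedImmersion.lift i' s.snd (key s))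
    (fun s => ?_) (fun s => IsClosedImmersion.lift_fac _ _ _) fun s l _ hl => ?_)
  · refine AffineSpace.hom_ext ?_ fun a => ?_
    · simp only [ρ, Category.assoc, AffineSpace.homOfVector_over]
      rw [← hover, IsClosedImmersion.lift_fac_assoc, ← hπo, ← s.condition_assoc, hzo]
    · have h := congrArg (fun h => h.appTop (AffineSpace.coord S (ULift.up (Sum.inl a.down)))) s.condition
      simp only [Scheme.Hom.comp_appTop, CommRingCat.comp_apply, hπc, hzc,
        AffineSpace.homOfVector_appTop_coord, Sum.elim_inl] at h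
      simp only [Scheme.Hom.comp_appTop, CommRingCat.comp_apply, ρ, AffineSpace.homOfVector_appTop_coord]
      rw [h, ← CommRingCat.comp_apply, ← Scheme.Hom.comp_appTop, IsClosedImmersion.lift_fac]
  · rw [← cancel_mono i', hl, IsClosedImmersion.lift_fac]

end Groth.Agent.S1479
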