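import Groth.Statements.S14790
import Groth.Agent.SubtrVal.LocClosed
import Groth.Agent.FlatDescent.Scheme

set_option backward.isDefEq.respectTransparency false

set_option autoImplicit false
universe u
open CategoryTheory CategoryTheory.Limits AlgebraicGeometry
open Subtr

namespace Groth.Agent.S14790

open Topology in
lemma isField_stalk_of_maximal {Y : Scheme.{u}} (ξ : Y) [_root_.IsReduced (Y.presheaf.stalk ξ)]
    (hξ : ∀ w, w ⤳ ξ → w = ξ) : IsField (Y.presheaf.stalk ξ) := by
  have hall : ∀ q : PrimeSpectrum (Y.presheaf.stalk ξ), Y.fromSpecStalk ξ q = ξ := fun q => hξ _ (by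
    have h : Y.fromSpecStalk ξ q ∈ Set.range (Y.fromSpecStalk ξ) := ⟨q, rfl⟩
    rw [Scheme.range_fromSpecStalk] at h
    exact h)
  haveI : Ring.KrullDimLE 0 (Y.presheaf.stalk ξ) := Ring.KrullDimLE.mk₀ fun I hI => by
    have h := (Y.fromSpecStalk ξ).isEmbedding.injective
      ((hall ⟨I, hI⟩).trans (hall (IsLocalRing.closedPoint (Y.presheaf.stalk ξ))).symm)
    obtain rfl : I = IsLocalRing.maximalIdeal (Y.presheaf.stalk ξ) := congrArg PrimeSpectrum.asIdeal h
    exact IsLocalRing.maximalIdeal.isMaximal _
  exact Ring.KrullDimLE.isField_of_isReduced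

/-- Take a scheme Y that is reduced, quasi-compact and quasi-separated, whose set of maximal points
(points with no proper generization) is quasi-compact, and f : X ⟶ Y a morphism of finite
presentation. Then there is a dense quasi-compact open subset U ⊆ Y over which f is flat. -/
theorem result {X Y : Scheme.{u}} [IsReduced Y]
    [CompactSpace Y] [QuasiSeparatedSpace Y]
    (hgen : IsCompact {y : Y | ∀ y' : Y, y' ⤳ y → y' = y})
    (f : X ⟶ Y) [LocallyOfFinitePresentation f] [QuasiCompact f] [QuasiSeparated f] :
    ∃ U : Y.Opens, Dense (U : Set Y) ∧ IsCompact (U : Set Y) ∧ Flat (f ∣_ U) := by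
  set M : Set Y := {y : Y | ∀ y' : Y, y' ⤳ y → y' = y}
  let T : Set Y := f.base '' {x : X | (f.stalkMap x).hom.Flat}ᶜ
  have hT : ProCons.IsProConstructible T := Groth.Agent.ProConsLib.isPro_image f
    (Groth.Agent.SubtrVal.isPro_of_isClosed (Groth.FlatDescent.isOpen_flatLocus_hom f).isClosed_compl)
  have hMT : M ⊆ (closure T)ᶜ := by
    intro y hy hyc
    obtain ⟨b, ⟨x, hx, rfl⟩, hb⟩ := (Groth.Agent.SubtrVal.mem_closure_pro hT y).1 hyc
    have hxy : f x = y := hy _ hb
    refine hx ?_
    haveI : _root_.IsReduced (Y.presheaf.stalk (f x)) := inferInstance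
    letI := (isField_stalk_of_maximal (f x) fun w hw => (hy w (hw.trans hb)).trans hxy.symm).toField
    show (f.stalkMap x).hom.Flat
    algebraize [(f.stalkMap x).hom]
    show Module.Flat (Y.presheaf.stalk (f x)) (X.presheaf.stalk x)
    infer_instance
  obtain ⟨t, ht, htW, hcov⟩ := Groth.Agent.ProConsLib.exists_finite_affine_cover hgen isClosed_closure.isOpen_compl hMT
  let U : Y.Opens := ⨆ V ∈ t, (V.1 : Y.Opens)
  have hUset : (U : Set Y) = ⋃ V ∈ t, (V.1 : Set Y) := by simp [U, TopologicalSpace.Opens.coe_iSup]
  refine ⟨U, ?_, ?_, ?_⟩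
  · intro y
    have hirr := isIrreducible_irreducibleComponent (x := y)
    have hgp := hirr.isGenericPoint_genericPoint isClosed_irreducibleComponent
    have hmax : hirr.genericPoint ∈ M := by
      intro z hz
      have hsub : irreducibleComponent y ⊆ closure {z} := by
        rw [← hgp.def]
        exact closure_minimal (Set.singleton_subset_iff.mpr hz.mem_closure) isClosed_closure
      have hle := (irreducibleComponent_mem_irreducibleComponents y).2 isIrreducible_singleton.closure hsub
      exact (hz.antisymm (hgp.specializes (hle (subset_closure rfl)))).eq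
    exact (hgp.specializes mem_irreducibleComponent).mem_closed isClosed_closure
      (subset_closure (hUset.symm ▸ hcov hmax))
  · rw [hUset]
    exact ht.isCompact_biUnion fun V _ => V.2.isCompact
  · rw [Flat.iff_flat_stalkMap]
    intro x
    have h : (f.stalkMap x.1).hom.Flat := by
      by_contra hx
      have hm : f x.1 ∈ (U : Set Y) := x.2
      rw [hUset] at hm
      obtain ⟨V, hV, hxV⟩ := Set.mem_iUnion₂.1 hm
      exact htW V hV hxV (subset_closure ⟨x.1, hx, rfl⟩)
    haveI := RingHom.toMorphismProperty_respectsIso_iff.1 RingHom.Flat.respectsIso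
    exact ((RingHom.toMorphismProperty RingHom.Flat).arrow_mk_iso_iff (morphismRestrictStalkMap f U x)).2 h

end Groth.Agent.S14790
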