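import Groth.Statements.S14795
import Mathlib.AlgebraicGeometry.Morphisms.UniversallyInjective
import Mathlib.AlgebraicGeometry.Morphisms.Integral
import Mathlib.FieldTheory.IsAlgClosed.AlgebraicClosure
import Mathlib.RingTheory.LocalRing.ResidueField.Ideal
import Mathlib.RingTheory.Nilpotent.Lemmas
-- import your own Groth.Agent.* helpers here

set_option autoImplicit false
set_option linter.style.haveILetI false
universe u
open CategoryTheory CategoryTheory.Limits AlgebraicGeometry
open Subtr

namespace Groth.Agent.S14795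

open TensorProduct

/-- Two field valued points of a universally injective extension agreeing on the base agree. -/
theorem eq_of_universallyInjective {A D : Type u} [CommRing A] [CommRing D] [Algebra A D]
    [UniversallyInjective (Spec.map (CommRingCat.ofHom (algebraMap A D)))] {Ω : Type u} [Field Ω] (f g : D →+* Ω)
    (h : f.comp (algebraMap A D) = g.comp (algebraMap A D)) : f = g := by
  have hfield := ((tfae_universallyInjective (Spec.map (CommRingCat.ofHom (algebraMap A D)))).out 0 1).mp ‹_›
  have h2 := hfield Ω (a₁ := Spec.map (CommRingCat.ofHom f)) (a₂ := Spec.map (CommRingCat.ofHom g))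
    (by simp only [← Spec.map_comp, ← CommRingCat.ofHom_comp, h])
  exact congrArg CommRingCat.Hom.hom (Spec.map_injective h2)

theorem exists_extend {A B Ω : Type u} [CommRing A] [CommRing B] [Algebra A B] [Algebra.IsIntegral A B]
    [Field Ω] [IsAlgClosed Ω] (D : Subalgebra A B) (f : D →+* Ω) :
    ∃ f' : B →+* Ω, f'.comp D.val.toRingHom = f := by
  haveI : Algebra.IsIntegral D B := Algebra.IsIntegral.tower_top A
  haveI := RingHom.ker_isPrime f
  obtain ⟨Q, -, hQ, hQf⟩ := Ideal.exists_ideal_over_prime_of_isIntegral (S := B) (RingHom.ker f) ⊥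
    (fun x hx => by rw [show x = 0 from Subtype.ext (by simpa using hx)]; exact zero_mem _)
  haveI := hQ
  let φ : D ⧸ RingHom.ker f →+* B ⧸ Q := Ideal.quotientMap Q D.val.toRingHom hQf.ge
  have hφ : Function.Injective φ := Ideal.quotientMap_injective' hQf.le
  let fb : D ⧸ RingHom.ker f →+* Ω := RingHom.kerLift f
  have hfb : Function.Injective fb := RingHom.kerLift_injective f
  letI : Algebra (D ⧸ RingHom.ker f) (B ⧸ Q) := φ.toAlgebra
  letI : Algebra (D ⧸ RingHom.ker f) Ω := fb.toAlgebra
  haveI : Algebra.IsIntegral (D ⧸ RingHom.ker f) (B ⧸ Q) := ⟨fun z => by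
    obtain ⟨z, rfl⟩ := Ideal.Quotient.mk_surjective z
    obtain ⟨q, hq, hq'⟩ := Algebra.IsIntegral.isIntegral (R := D) z
    refine ⟨q.map (Ideal.Quotient.mk _), hq.map _, ?_⟩
    rw [Polynomial.eval₂_map, show (algebraMap (D ⧸ RingHom.ker f) (B ⧸ Q)).comp (Ideal.Quotient.mk _) =
      (Ideal.Quotient.mk Q).comp (algebraMap D B) from RingHom.ext fun _ => rfl, ← Polynomial.hom_eval₂, hq', map_zero]⟩
  haveI : IsDomain (D ⧸ RingHom.ker f) := (Ideal.Quotient.isDomain_iff_prime _).2 (RingHom.ker_isPrime f)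
  haveI : FaithfulSMul (D ⧸ RingHom.ker f) (B ⧸ Q) := (faithfulSMul_iff_algebraMap_injective _ _).2 hφ
  haveI : FaithfulSMul (D ⧸ RingHom.ker f) Ω := (faithfulSMul_iff_algebraMap_injective _ _).2 hfb
  haveI : Algebra.IsAlgebraic (D ⧸ RingHom.ker f) (B ⧸ Q) := Algebra.IsIntegral.isAlgebraic
  haveI : Module.IsTorsionFree (D ⧸ RingHom.ker f) (B ⧸ Q) := Module.isTorsionFree_iff_algebraMap_injective.2 hφ
  haveI : Module.IsTorsionFree (D ⧸ RingHom.ker f) Ω := Module.isTorsionFree_iff_algebraMap_injective.2 hfb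
  let l : B ⧸ Q →ₐ[D ⧸ RingHom.ker f] Ω := IsAlgClosed.lift
  exact ⟨l.toRingHom.comp (Ideal.Quotient.mk Q), RingHom.ext fun d => l.commutes (Ideal.Quotient.mk _ d)⟩

theorem isUnivHomeo_of_points {A B : Type u} [CommRing A] [CommRing B] [Algebra A B] [Algebra.IsIntegral A B]
    (hinj : Function.Injective (algebraMap A B)) (D : Subalgebra A B)
    (h : ∀ (Ω : Type u) [Field Ω] (f g : D →+* Ω), f.comp (algebraMap A D) = g.comp (algebraMap A D) → f = g) :
    FlatMor.IsUnivHomeo (Spec.map (CommRingCat.ofHom (algebraMap A D))) := by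
  have hi : Function.Injective (algebraMap A D) := fun a a' e => hinj congr(($e : B))
  haveI : Algebra.IsIntegral A D := Algebra.IsIntegral.of_injective D.val Subtype.val_injective
  haveI : IsIntegralHom (Spec.map (CommRingCat.ofHom (algebraMap A D))) :=
    IsIntegralHom.SpecMap_iff.mpr (algebraMap_isIntegral_iff.mpr inferInstance : (algebraMap A D).IsIntegral)
  haveI hsurj : Surjective (Spec.map (CommRingCat.ofHom (algebraMap A D))) := ⟨fun (P : PrimeSpectrum A) => by
    haveI := P.isPrime
    obtain ⟨Q, -, hQ, hQP⟩ := Ideal.exists_ideal_over_prime_of_isIntegral (S := D) P.asIdeal ⊥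
      (fun a ha => by
        rw [Ideal.mem_comap, Ideal.mem_bot, map_eq_zero_iff _ hi] at ha
        rw [ha]; exact zero_mem _)
    exact ⟨⟨Q, hQ⟩, PrimeSpectrum.ext hQP⟩⟩
  haveI huinj : UniversallyInjective (Spec.map (CommRingCat.ofHom (algebraMap A D))) := by
    refine ((tfae_universallyInjective _).out 0 1).mpr ?_
    intro Ω _ g₁ g₂ e
    obtain ⟨f₁, rfl⟩ := Spec.map_surjective g₁
    obtain ⟨f₂, rfl⟩ := Spec.map_surjective g₂
    simp only [← Spec.map_comp] at e
    exact congrArg Spec.map (CommRingCat.hom_ext (h Ω f₁.hom f₂.hom (congrArg CommRingCat.Hom.hom (Spec.map_injective e))))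
  intro X Y i j g hP
  haveI : UniversallyClosed g := MorphismProperty.of_isPullback hP.flip inferInstance
  haveI : Surjective g := MorphismProperty.of_isPullback hP.flip hsurj
  haveI : UniversallyInjective g := MorphismProperty.of_isPullback hP.flip huinj
  exact isHomeomorph_iff_continuous_isClosedMap_bijective.mpr
    ⟨g.continuous, g.isClosedMap, g.injective, g.surjective⟩

/-- Let A ⊆ B be an integral ring extension and C ⊆ B the weak subintegral closure of A in B, that is
the largest A-subalgebra C of B such that Spec C ⟶ Spec A is a universal homeomorphism (C is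
characterised here by that maximality). Then b ∈ B lies in C if and only if b ⊗ 1 − 1 ⊗ b is
nilpotent in B ⊗_A B (b ⊗ 1 = 1 ⊗ b in the reduction of B ⊗_A B). -/
theorem result {A B : Type u} [CommRing A] [CommRing B]
    [Algebra A B] (hinj : Function.Injective (algebraMap A B)) [Algebra.IsIntegral A B]
    (C : Subalgebra A B) (hC : FlatMor.IsUnivHomeo (Spec.map (CommRingCat.ofHom (algebraMap A C))))
    (hmax : ∀ D : Subalgebra A B, FlatMor.IsUnivHomeo (Spec.map (CommRingCat.ofHom (algebraMap A D))) → D ≤ C) (b : B) :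
    b ∈ C ↔ IsNilpotent (b ⊗ₜ[A] (1 : B) - (1 : B) ⊗ₜ[A] b) := by
  obtain ⟨hu, hhom⟩ : UniversallyInjective (Spec.map (CommRingCat.ofHom (algebraMap A C))) ∧ True := by
    refine ⟨⟨?_⟩, trivial⟩
    intro X Y i j g hP
    exact (hC i j g hP).injective
  refine ⟨fun hb => ?_, fun hb => ?_⟩
  · rw [← mem_nilradical, nilradical_eq_sInf, Ideal.mem_sInf]
    intro P hP
    haveI : P.IsPrime := hP
    have h := eq_of_universallyInjective (A := A) (D := C) ((algebraMap (B ⊗[A] B) P.ResidueField).comp
        ((Algebra.TensorProduct.includeLeftRingHom : B →+* B ⊗[A] B).comp C.val.toRingHom))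
      ((algebraMap (B ⊗[A] B) P.ResidueField).comp
        ((Algebra.TensorProduct.includeRight : B →ₐ[A] B ⊗[A] B).toRingHom.comp C.val.toRingHom))
      (RingHom.ext fun a => by
        show algebraMap (B ⊗[A] B) P.ResidueField (algebraMap A B a ⊗ₜ 1) =
          algebraMap (B ⊗[A] B) P.ResidueField (1 ⊗ₜ algebraMap A B a)
        exact congrArg _ (Algebra.TensorProduct.tmul_one_eq_one_tmul a))
    have h2 := congr($h ⟨b, hb⟩)
    change algebraMap (B ⊗[A] B) P.ResidueField (b ⊗ₜ 1) = algebraMap (B ⊗[A] B) P.ResidueField (1 ⊗ₜ b) at h2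
    rwa [← sub_eq_zero, ← map_sub, Ideal.algebraMap_residueField_eq_zero] at h2
  · have hbD : b ∈ Algebra.adjoin A {b} := Algebra.subset_adjoin rfl
    refine hmax (Algebra.adjoin A {b}) (isUnivHomeo_of_points hinj _ fun Ω _ f g hfg => ?_) hbD
    obtain ⟨f', hf'⟩ := exists_extend (B := B) (Algebra.adjoin A {b}) ((algebraMap Ω (AlgebraicClosure Ω)).comp f)
    obtain ⟨g', hg'⟩ := exists_extend (B := B) (Algebra.adjoin A {b}) ((algebraMap Ω (AlgebraicClosure Ω)).comp g)
    let := ((algebraMap Ω (AlgebraicClosure Ω)).comp (f.comp (algebraMap A (Algebra.adjoin A {b})))).toAlgebra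
    let f₁ : B →ₐ[A] AlgebraicClosure Ω := ⟨f', fun a => RingHom.congr_fun hf' (algebraMap A _ a)⟩
    let g₁ : B →ₐ[A] AlgebraicClosure Ω := ⟨g', fun a => (RingHom.congr_fun hg' (algebraMap A _ a)).trans
      (congrArg (algebraMap Ω (AlgebraicClosure Ω)) (RingHom.congr_fun hfg a).symm)⟩
    have hbb : f' b = g' b := by
      have := (hb.map (Algebra.TensorProduct.lift f₁ g₁ fun _ _ => .all _ _)).eq_zero
      rwa [map_sub, Algebra.TensorProduct.lift_tmul, Algebra.TensorProduct.lift_tmul, map_one, map_one,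
        one_mul, mul_one, sub_eq_zero] at this
    have hfb : f ⟨b, hbD⟩ = g ⟨b, hbD⟩ := (algebraMap Ω (AlgebraicClosure Ω)).injective
      ((congr($hf' ⟨b, hbD⟩)).symm.trans (hbb.trans congr($hg' ⟨b, hbD⟩)))
    ext ⟨y, hy⟩
    induction hy using Algebra.adjoin_induction with
    | mem z hz => obtain rfl : z = b := hz; exact hfb
    | algebraMap a => exact congr($hfg a)
    | add u v hu hv h1 h2 => exact (map_add f ⟨u, hu⟩ ⟨v, hv⟩).trans ((congrArg₂ (· + ·) h1 h2).trans (map_add g _ _).symm)
    | mul u v hu hv h1 h2 => exact (map_mul f ⟨u, hu⟩ ⟨v, hv⟩).trans ((congrArg₂ (· * ·) h1 h2).trans (map_mul g _ _).symm)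

end Groth.Agent.S14795
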