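import Groth.Statements.S14796
import Groth.Agent.S14795
import Groth.Agent.HenselLib.EtaleNormal
import Mathlib.RingTheory.LocalProperties.Reduced
import Mathlib.RingTheory.Localization.BaseChange
import Mathlib.RingTheory.Flat.Stability
import Mathlib.RingTheory.Etale.Basic
import Mathlib.AlgebraicGeometry.Pullbacks
import Mathlib.AlgebraicGeometry.Morphisms.Integral
-- import your own Groth.Agent.* helpers here

set_option autoImplicit false
set_option linter.style.haveILetI false
universe u
open CategoryTheory CategoryTheory.Limits AlgebraicGeometry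
open Subtr

namespace Groth.Agent.S14796

open TensorProduct

theorem univHomeo_of_algEquiv {A X Y : Type u} [CommRing A] [CommRing X] [CommRing Y] [Algebra A X] [Algebra A Y]
    (e : X ≃ₐ[A] Y) (h : FlatMor.IsUnivHomeo (Spec.map (CommRingCat.ofHom (algebraMap A X)))) :
    FlatMor.IsUnivHomeo (Spec.map (CommRingCat.ofHom (algebraMap A Y))) := by
  haveI : FlatMor.IsUnivHomeo.{u}.RespectsIso := MorphismProperty.universally_respectsIso _
  rw [show CommRingCat.ofHom (algebraMap A Y) =
    CommRingCat.ofHom (algebraMap A X) ≫ e.toRingEquiv.toCommRingCatIso.hom from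
    CommRingCat.hom_ext (RingHom.ext fun a => (e.commutes a).symm), Spec.map_comp]
  exact (MorphismProperty.cancel_left_of_respectsIso _ _ _).mpr h

theorem univHomeo_baseChange (A A' X : Type u) [CommRing A] [CommRing A'] [CommRing X] [Algebra A A'] [Algebra A X]
    (h : FlatMor.IsUnivHomeo (Spec.map (CommRingCat.ofHom (algebraMap A X)))) :
    FlatMor.IsUnivHomeo (Spec.map (CommRingCat.ofHom (algebraMap A' (A' ⊗[A] X)))) := by
  haveI : FlatMor.IsUnivHomeo.{u}.IsStableUnderBaseChange := MorphismProperty.universally_isStableUnderBaseChange _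
  exact MorphismProperty.of_isPullback
    (isPullback_SpecMap_of_isPushout _ _ _ _ (CommRingCat.isPushout_tensorProduct A A' X)).flip h

theorem universallyInjective_of_univHomeo {X Y : Scheme.{u}} {f : X ⟶ Y} (h : FlatMor.IsUnivHomeo f) :
    UniversallyInjective f :=
  ⟨fun _ _ i j g hP => (h i j g hP).injective⟩

theorem isIntegral_of_univHomeo {A X : Type u} [CommRing A] [CommRing X] [Algebra A X]
    (h : FlatMor.IsUnivHomeo (Spec.map (CommRingCat.ofHom (algebraMap A X)))) : Algebra.IsIntegral A X := by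
  haveI : UniversallyClosed (Spec.map (CommRingCat.ofHom (algebraMap A X))) :=
    ⟨fun _ _ i j g hP => (h i j g hP).isClosedMap⟩
  have h1 : IsIntegralHom (Spec.map (CommRingCat.ofHom (algebraMap A X))) :=
    IsIntegralHom.iff_universallyClosed_and_isAffineHom.mpr ⟨inferInstance, inferInstance⟩
  exact algebraMap_isIntegral_iff.mp (IsIntegralHom.SpecMap_iff.mp h1 :)

theorem eq_of_isReduced {A D R : Type u} [CommRing A] [CommRing D] [CommRing R] [Algebra A D] [IsReduced R]
    (hD : FlatMor.IsUnivHomeo (Spec.map (CommRingCat.ofHom (algebraMap A D)))) (f g : D →+* R)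
    (hfg : f.comp (algebraMap A D) = g.comp (algebraMap A D)) : f = g := by
  haveI := universallyInjective_of_univHomeo hD
  ext d
  rw [← sub_eq_zero]
  refine IsNilpotent.eq_zero ?_
  rw [← mem_nilradical, nilradical_eq_sInf, Ideal.mem_sInf]
  intro P hP
  haveI : P.IsPrime := hP
  have h2 := RingHom.congr_fun (S14795.eq_of_universallyInjective (A := A) ((algebraMap R P.ResidueField).comp f)
    ((algebraMap R P.ResidueField).comp g) (by rw [RingHom.comp_assoc, hfg, RingHom.comp_assoc])) d
  rwa [RingHom.comp_apply, RingHom.comp_apply, ← sub_eq_zero, ← map_sub, Ideal.algebraMap_residueField_eq_zero] at h2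

theorem isReduced_baseChange (A A' R : Type u) [CommRing A] [CommRing A'] [CommRing R] [Algebra A A'] [Algebra A R]
    [IsReduced R] (hA' : (∃ M : Submonoid A, IsLocalization M A') ∨ Algebra.Etale A A') : IsReduced (A' ⊗[A] R) := by
  have : IsReduced (R ⊗[A] A') := by
    rcases hA' with ⟨M, hM⟩ | hE
    · exact isReduced_localizationPreserves (Algebra.algebraMapSubmonoid R M) _ inferInstance
    · exact HenselLib.isReduced_of_etale R _
  exact isReduced_of_injective (Algebra.TensorProduct.comm A A' R) (AlgEquiv.injective _)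

theorem exists_equalizer {A I : Type u} [CommRing A] [CommRing I] [Algebra A I] (C₁ : Subalgebra A I)
    (hmem : ∀ y : I, y ∈ C₁ ↔ IsNilpotent (y ⊗ₜ[A] (1 : I) - (1 : I) ⊗ₜ[A] y)) :
    ∃ (R : Type u) (_ : CommRing R) (_ : Algebra A R) (_ : IsReduced R) (i₁ i₂ : I →ₐ[A] R),
      ∀ y, i₁ y = i₂ y ↔ y ∈ C₁ := by
  refine ⟨(I ⊗[A] I) ⧸ nilradical (I ⊗[A] I), inferInstance, inferInstance,
    (Ideal.isRadical_iff_quotient_reduced _).mp (Ideal.radical_isRadical _),
    (Ideal.Quotient.mkₐ A _).comp Algebra.TensorProduct.includeLeft,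
    (Ideal.Quotient.mkₐ A _).comp Algebra.TensorProduct.includeRight, fun y => ?_⟩
  change Ideal.Quotient.mk _ (y ⊗ₜ[A] (1 : I)) = Ideal.Quotient.mk _ ((1 : I) ⊗ₜ[A] y) ↔ _
  rw [Ideal.Quotient.eq, mem_nilradical, ← hmem]

theorem mem_range_of_equalizer {A A' I R D : Type u} [CommRing A] [CommRing A'] [CommRing I] [CommRing R] [CommRing D]
    [Algebra A A'] [Algebra A I] [Algebra A R] [Algebra A' D] [Module.Flat A A'] [IsReduced (A' ⊗[A] R)]
    (hD : FlatMor.IsUnivHomeo (Spec.map (CommRingCat.ofHom (algebraMap A' D))))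
    (κ : D →ₐ[A'] A' ⊗[A] I) (C₁ : Subalgebra A I) (i₁ i₂ : I →ₐ[A] R) (hi : ∀ y, i₁ y = i₂ y ↔ y ∈ C₁) (d : D) :
    κ d ∈ LinearMap.range (LinearMap.lTensor A' C₁.val.toLinearMap) := by
  let δ : I →ₗ[A] R := i₁.toLinearMap - i₂.toLinearMap
  have hex : Function.Exact C₁.val.toLinearMap δ := fun y => by
    refine sub_eq_zero.trans ((hi y).trans ?_)
    exact ⟨fun h => ⟨⟨y, h⟩, rfl⟩, fun ⟨c, hc⟩ => hc ▸ c.2⟩
  let j₁ := Algebra.TensorProduct.map (AlgHom.id A' A') i₁
  let j₂ := Algebra.TensorProduct.map (AlgHom.id A' A') i₂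
  have hδ : ∀ w, LinearMap.lTensor A' δ w = j₁ w - j₂ w := fun w => by
    induction w with
    | zero => simp
    | tmul a y => exact TensorProduct.tmul_sub a _ _
    | add a b ha hb => simp only [map_add, ha, hb]; abel
  have h12 := eq_of_isReduced hD (j₁.comp κ).toRingHom (j₂.comp κ).toRingHom
    (RingHom.ext fun a => ((j₁.comp κ).commutes a).trans ((j₂.comp κ).commutes a).symm)
  refine ((Module.Flat.lTensor_exact A' hex) _).mp ?_
  rw [hδ, sub_eq_zero]
  exact RingHom.congr_fun h12 d

set_option maxHeartbeats 1600000 in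
/-- Let A ⊆ B be a ring extension and A ⟶ A' a ring map that is a localization or étale; put B' = A' ⊗_A
B. Let C ⊆ B be the weak subintegral closure of A in B and C' ⊆ B' that of A' in B' (each the
largest subalgebra whose spectrum maps to the base by a universal homeomorphism, characterised here
by that maximality). Then C' is the image of A' ⊗_A C ⟶ A' ⊗_A B: the weak subintegral closure
commutes with such base changes. -/
theorem result {A B A' : Type u} [CommRing A] [CommRing B]
    [CommRing A'] [Algebra A B] [Algebra A A'] (hinj : Function.Injective (algebraMap A B))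
    (hA' : (∃ M : Submonoid A, IsLocalization M A') ∨ Algebra.Etale A A')
    (C : Subalgebra A B) (hC : FlatMor.IsUnivHomeo (Spec.map (CommRingCat.ofHom (algebraMap A C))))
    (hmax : ∀ D : Subalgebra A B, FlatMor.IsUnivHomeo (Spec.map (CommRingCat.ofHom (algebraMap A D))) → D ≤ C)
    (C' : Subalgebra A' (TensorProduct A A' B)) (hC' : FlatMor.IsUnivHomeo (Spec.map (CommRingCat.ofHom (algebraMap A' C'))))
    (hmax' : ∀ D : Subalgebra A' (TensorProduct A A' B), FlatMor.IsUnivHomeo (Spec.map (CommRingCat.ofHom (algebraMap A' D))) → D ≤ C') :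
    (C' : Set (TensorProduct A A' B)) =
      Set.range (Algebra.TensorProduct.map (AlgHom.id A A') C.val) := by
  classical
  haveI : Module.Flat A A' := by
    rcases hA' with ⟨M, hM⟩ | hE
    · exact IsLocalization.flat A' M
    · infer_instance
  let f₀ : A' ⊗[A] C →ₐ[A'] A' ⊗[A] B := Algebra.TensorProduct.map (AlgHom.id A' A') C.val
  have hf₀ : Function.Injective f₀ :=
    Module.Flat.lTensor_preserves_injective_linearMap (M := A') C.val.toLinearMap Subtype.val_injective
  have hrange : Set.range (Algebra.TensorProduct.map (AlgHom.id A A') C.val) = (f₀.range : Set (A' ⊗[A] B)) := rfl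
  rw [hrange]
  refine le_antisymm (fun x hx => ?_) (hmax' f₀.range
    (univHomeo_of_algEquiv (AlgEquiv.ofInjective f₀ hf₀) (univHomeo_baseChange A A' C hC)))
  -- integral closure commutes with the base change
  let I := integralClosure A B
  haveI hCi := isIntegral_of_univHomeo hC
  haveI hC'i := isIntegral_of_univHomeo hC'
  have hbij : Function.Bijective (TensorProduct.toIntegralClosure A A' B) := by
    rcases hA' with ⟨M, hM⟩ | hE
    · exact TensorProduct.toIntegralClosure_bijective_of_isLocalization M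
    · exact TensorProduct.toIntegralClosure_bijective_of_smooth
  let e := AlgEquiv.ofBijective _ hbij
  have hle : C' ≤ integralClosure A' (A' ⊗[A] B) := fun y hy =>
    (Algebra.IsIntegral.isIntegral (R := A') (⟨y, hy⟩ : C')).map C'.val
  let κ : C' →ₐ[A'] A' ⊗[A] I := e.symm.toAlgHom.comp (Subalgebra.inclusion hle)
  let ι : A' ⊗[A] I →ₐ[A'] A' ⊗[A] B := Algebra.TensorProduct.map (AlgHom.id A' A') I.val
  have hικ : ι (κ ⟨x, hx⟩) = x := congr(($(e.apply_symm_apply (Subalgebra.inclusion hle ⟨x, hx⟩)) : A' ⊗[A] B))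
  -- the weak subintegral closure inside `I`
  have hCI : C ≤ I := fun y hy => (Algebra.IsIntegral.isIntegral (R := A) (⟨y, hy⟩ : C)).map C.val
  let C₁ : Subalgebra A I := C.comap I.val
  let e₁ : C ≃ₐ[A] C₁ := AlgEquiv.ofBijective
      (((Subalgebra.inclusion hCI).comp (AlgHom.id A C)).codRestrict C₁ fun c => c.2)
    ⟨fun a b h => Subtype.ext congr((($h : I) : B)), fun y => ⟨⟨((y : I) : B), y.2⟩, rfl⟩⟩
  haveI : Algebra.IsIntegral A I := integralClosure.AlgebraIsIntegral
  have hinjI : Function.Injective (algebraMap A I) := fun a a' h => hinj congr(($h : B))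
  have hmem := S14795.result hinjI C₁ (univHomeo_of_algEquiv e₁ hC) (fun D hD y hy =>
    hmax (D.map I.val) (univHomeo_of_algEquiv (D.equivMapOfInjective I.val Subtype.val_injective) hD) ⟨y, hy, rfl⟩)
  obtain ⟨R, _, _, _, i₁, i₂, hi⟩ := exists_equalizer C₁ hmem
  haveI := isReduced_baseChange A A' R hA'
  obtain ⟨c, hc⟩ := mem_range_of_equalizer hC' κ C₁ i₁ i₂ hi ⟨x, hx⟩
  rw [← hικ, ← hc]
  clear hc
  induction c with
  | zero => rw [map_zero, map_zero]; exact zero_mem f₀.range
  | tmul a c => exact ⟨a ⊗ₜ[A] (⟨((c : I) : B), c.2⟩ : C), rfl⟩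
  | add a b ha hb => rw [map_add, map_add]; exact add_mem (S := Subalgebra A' _) ha hb

end Groth.Agent.S14796
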