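import Groth.Statements.S1480
import Groth.Agent.SectTF.Scheme

set_option autoImplicit false
universe u
open FlatMor

namespace Groth.Agent.S1480

open AlgebraicGeometry CategoryTheory Limits in
/-- Let f : X → S be flat, locally of finite presentation and locally quasi-finite, and g a nonzero
global function on X. Then there are affine opens V of X and U of S with f(V) ⊆ U and g nonzero on
V, an ideal F of O_S(U), a positive integer r and an injective O_S(U)-linear map from F^r to O_X(V)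
whose image contains the restriction of g to V. -/
theorem result {X S : Scheme.{u}} (f : X ⟶ S) [Flat f] [LocallyOfFinitePresentation f] [LocallyQuasiFinite f]
    (g : Γ(X, ⊤)) (hg : g ≠ 0) :
    ∃ (U : S.Opens) (hU : IsAffineOpen U) (V : X.Opens) (hV : IsAffineOpen V) (hVU : V ≤ f ⁻¹ᵁ U),
      X.presheaf.map (homOfLE le_top).op g ≠ (0 : Γ(X, V)) ∧
      ∃ (F : Ideal Γ(S, U)) (r : ℕ), 0 < r ∧
        letI := (f.appLE U V hVU).hom.toAlgebra
        ∃ φ : (Fin r → ↥F) →ₗ[Γ(S, U)] Γ(X, V), Function.Injective φ ∧ X.presheaf.map (homOfLE le_top).op g ∈ LinearMap.range φ := by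
  obtain ⟨U₀, hU₀, V₀, hV₀, hVU₀, hg₀⟩ := Groth.Agent.SectTF.exists_affine_ne_zero f g hg
  obtain ⟨U₁, hU₁, V₁, hV₁, hVU₁, hle₁, hg₁, J, hJ, hJg, hfin⟩ :=
    Groth.Agent.SectTF.exists_step_finite f hU₀ hV₀ hVU₀ _ hg₀
  obtain ⟨U₂, hU₂, V₂, hV₂, hVU₂, hle₂, hg₂, F, r, hr, φ, hφ, hgφ⟩ :=
    Groth.Agent.SectTF.exists_step_free f hU₁ hV₁ hVU₁ _ hg₁ J hJ hJg hfin
  have e : X.presheaf.map (homOfLE hle₂).op (X.presheaf.map (homOfLE hle₁).op
      (X.presheaf.map (homOfLE (le_top : V₀ ≤ ⊤)).op g)) = X.presheaf.map (homOfLE (le_top : V₂ ≤ ⊤)).op g := by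
    simp only [← CommRingCat.comp_apply, ← Functor.map_comp]
    rfl
  rw [e] at hg₂ hgφ
  exact ⟨U₂, hU₂, V₂, hV₂, hVU₂, hg₂, F, r, hr, φ, hφ, hgφ⟩

end Groth.Agent.S1480
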