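import Groth.Statements.S14801
import Groth.Agent.LabChain.Connecting

set_option autoImplicit false
universe u
open Finset
open LabGraph

namespace Groth.Agent.S14801

open LabChain in
theorem betaHom_mulVec {V E : Type u} [Fintype V] [Fintype E] [DecidableEq V] [DecidableEq E]
    {ends : E → V × V} {β : V → ℤ} (hβ : IsMultFn ends β) (c : V → ℤ) :
    betaHom β ((mfMatrix ends β).mulVec c) = 0 := by
  have hrow : ∀ w, ∑ v, mfMatrix ends β w v * β v = 0 := fun w => by
    rw [← Finset.add_sum_erase _ _ (mem_univ w)]
    have e1 : ∀ v ∈ univ.erase w, mfMatrix ends β w v * β v = β v * (edgeMult ends w v : ℤ) := by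
      intro v hv; rw [mfMatrix, if_neg (Finset.ne_of_mem_erase hv).symm, mul_comm]
    rw [sum_congr rfl e1]
    simp only [mfMatrix, if_pos]
    rw [Int.ediv_mul_cancel (hβ w).2.neg_right]
    ring
  have hsymm : ∀ v w, mfMatrix ends β v w = mfMatrix ends β w v := fun v w => by
    by_cases h : v = w
    · subst h; rfl
    · simp only [mfMatrix, if_neg h, if_neg (Ne.symm h), edgeMult_comm ends v w]
  simp only [betaHom, Fintype.linearCombination_apply, smul_eq_mul, Matrix.mulVec, dotProduct,
    Finset.sum_mul]
  rw [Finset.sum_comm]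
  refine Finset.sum_eq_zero fun w _ => ?_
  have : ∀ v, mfMatrix ends β v w * c w * β v = c w * (mfMatrix ends β w v * β v) := fun v => by
    rw [hsymm v w]; ring
  rw [sum_congr rfl fun v _ => this v, ← Finset.mul_sum, hrow, mul_zero]

theorem exists_clear {V E : Type u} [Fintype V] [Fintype E] [DecidableEq V] [DecidableEq E]
    {ends : E → V × V} {β : V → ℤ} {m : ℕ} {f : Fin (m + 1) → V} {e : Fin m → E}
    (H : LabChain.Cfg ends β m f e) (z : V → ℤ) (t : ℕ) :
    ∃ c : V → ℤ, ∀ i : Fin (m + 1), i ≠ 0 → m < i.val + t →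
      (z + (mfMatrix ends β).mulVec c) (f i) = 0 := by
  induction t with
  | zero => exact ⟨0, fun i _ h => absurd i.isLt (by omega)⟩
  | succ t ih =>
    obtain ⟨c, hc⟩ := ih
    by_cases ht : m ≤ t
    · exact ⟨c, fun i hi _ => hc i hi (by have : i.val ≠ 0 := fun h => hi (Fin.ext (by simpa using h)); omega)⟩
    · set i0 : Fin (m + 1) := ⟨m - t, by omega⟩
      set j0 : Fin (m + 1) := ⟨m - t - 1, by omega⟩
      refine ⟨c + Pi.single (f j0) (-((z + (mfMatrix ends β).mulVec c) (f i0))), fun i hi hlt => ?_⟩
      have hne : i ≠ j0 := fun h => by rw [h] at hlt; simp [j0] at hlt; omega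
      rw [Matrix.mulVec_add, ← add_assoc, Pi.add_apply, Matrix.mulVec_single]
      simp only [Pi.smul_apply, Matrix.col_apply, mfMatrix, if_neg (H.hC.1.ne hne), H.mult_chain hne]
      by_cases h0 : i = i0
      · subst h0
        rw [if_pos (Or.inr (by simp [i0, j0]; omega))]
        simp
      · have : i.val ≠ m - t := fun h => h0 (Fin.ext h)
        rw [if_neg (by simp [j0]; omega), hc i hi (by omega)]
        simp

/-- Let (G, β) be a finite multigraph with a multiplicity function and α its matrix (α_{vw} = #edges(v,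
w) for v ≠ w, diagonal entries defined by Σ_w β(w) α_{vw} = 0); let L be a connecting chain of
length m (vertices v₀, …, v_m, edges e₁, …, e_m, each connecting) with β(v_i) = m and α_{v_i v_i} =
-2 for all i; let (G', β') be the contraction of L and f : ℤ^{V(G')} → ℤ^{V(G)} the map extending a
vector by zero along the section of V(G) → V(G') that sends the contracted vertex to v₀. Then f
carries ker β' into ker β, and there is a map h : ℤ^{V(G')} → ℤ^{V(G)} with f ∘ α' = α ∘ h, so that
f induces a homomorphism of component groups ker β'/im α' → ker β/im α; this homomorphism is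
surjective. -/
theorem result {V E : Type u} [Fintype V] [Fintype E] [DecidableEq V] [DecidableEq E]
    (ends : E → V × V) (β : V → ℤ) (hβ : LabGraph.IsMultFn ends β)
    (m : ℕ) (f : Fin (m + 1) → V) (e : Fin m → E) (hC : LabGraph.IsChain ends f e)
    (hconn : ∀ i, LabGraph.IsConnecting ends (e i)) (hβm : ∀ i, β (f i) = m)
    (hα : ∀ i, LabGraph.mfMatrix ends β (f i) (f i) = -2) :
    ∃ φ : LabGraph.CompGrp (DualGr.ctrEnds ends (univ.image e)) (LabGraph.ctrFn ends (univ.image e) β) →+
        LabGraph.CompGrp ends β,
      Function.Surjective φ ∧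
      ∀ (x : LinearMap.ker (LabGraph.betaHom (LabGraph.ctrFn ends (univ.image e) β)))
        (y : LinearMap.ker (LabGraph.betaHom β)),
        (y : V → ℤ) = LabGraph.liftAt ends (univ.image e) (f 0) (x : DualGr.CtrVert ends (univ.image e) → ℤ) →
        φ (Submodule.Quotient.mk x) = Submodule.Quotient.mk y := by
  classical
  have H : LabChain.Cfg ends β m f e := ⟨hβ, hC, hconn, hβm, hα⟩
  let L : (DualGr.CtrVert ends (univ.image e) → ℤ) →ₗ[ℤ] (V → ℤ) :=
    { toFun := LabGraph.liftAt ends (univ.image e) (f 0)
      map_add' := fun a b => by funext v; simp only [LabGraph.liftAt, Pi.add_apply]; split_ifs <;> simp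
      map_smul' := fun a b => by
        funext v; simp only [LabGraph.liftAt, Pi.smul_apply, RingHom.id_apply]; split_ifs <;> simp }
  have hL : ∀ x, L x = LabGraph.liftAt ends (univ.image e) (f 0) x := fun x => rfl
  let Lk := L.restrict (p := LinearMap.ker (LabGraph.betaHom (LabGraph.ctrFn ends (univ.image e) β)))
    (q := LinearMap.ker (LabGraph.betaHom β)) (fun x hx => by
      rw [LinearMap.mem_ker] at hx ⊢
      rw [hL, H.betaHom_liftAt, hx])
  let φ := Submodule.mapQ
    ((LinearMap.range (Matrix.mulVecLin (mfMatrix (DualGr.ctrEnds ends (univ.image e))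
      (LabGraph.ctrFn ends (univ.image e) β)))).comap
      (LinearMap.ker (LabGraph.betaHom (LabGraph.ctrFn ends (univ.image e) β))).subtype)
    ((LinearMap.range (Matrix.mulVecLin (mfMatrix ends β))).comap
      (LinearMap.ker (LabGraph.betaHom β)).subtype) Lk (by
      intro x hx
      obtain ⟨y, hy⟩ := hx
      obtain ⟨z, hz⟩ := H.exists_preimage y
      refine ⟨z, ?_⟩
      rw [Matrix.mulVecLin_apply, hz]
      show _ = LabGraph.liftAt ends (univ.image e) (f 0) x.1
      rw [Matrix.mulVecLin_apply] at hy
      exact congrArg _ hy)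
  refine ⟨φ.toAddMonoidHom, ?_, ?_⟩
  · intro q
    induction q using Submodule.Quotient.induction_on with
    | _ z =>
      obtain ⟨c, hc⟩ := exists_clear H z.1 m
      let x : DualGr.CtrVert ends (univ.image e) → ℤ := fun cl =>
        if cl = LabChain.mk ends e (f 0) then (z.1 + (mfMatrix ends β).mulVec c) (f 0)
        else (z.1 + (mfMatrix ends β).mulVec c) (Quotient.out (s := DualGr.ctrSetoid ends (univ.image e)) cl)
      have hx : LabGraph.liftAt ends (univ.image e) (f 0) x = z.1 + (mfMatrix ends β).mulVec c := by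
        funext v
        by_cases hv : v ∈ LabChain.Out f
        · have hr : v = Quotient.out (s := DualGr.ctrSetoid ends (univ.image e)) (LabChain.mk ends e v) :=
            LabChain.mk_inj_out ends hC (LabChain.out_iff.1 hv) (Quotient.out_eq (LabChain.mk ends e v)).symm
          rw [H.liftAt_out x hv]
          simp only [x, if_neg (LabChain.mk_ne_chain ends hC (LabChain.out_iff.1 hv)), ← hr]
        · obtain ⟨i, rfl⟩ : ∃ i, f i = v := by
            rw [LabChain.out_iff] at hv; push Not at hv; exact hv
          by_cases hi : i = 0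
          · subst hi; rw [H.liftAt_f0]; exact if_pos rfl
          · rw [H.liftAt_f x hi, hc i hi (by have : i.val ≠ 0 := fun h => hi (Fin.ext (by simpa using h)); omega)]
      have hxk : x ∈ LinearMap.ker (LabGraph.betaHom (LabGraph.ctrFn ends (univ.image e) β)) := by
        rw [LinearMap.mem_ker, ← H.betaHom_liftAt, hx, map_add, betaHom_mulVec hβ, add_zero]
        exact LinearMap.mem_ker.1 z.2
      refine ⟨Submodule.Quotient.mk ⟨x, hxk⟩, ?_⟩
      show φ (Submodule.Quotient.mk ⟨x, hxk⟩) = _
      rw [Submodule.mapQ_apply, Submodule.Quotient.eq]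
      refine ⟨c, ?_⟩
      show Matrix.mulVecLin (mfMatrix ends β) c = L x - z.1
      rw [Matrix.mulVecLin_apply, hL, hx]
      abel
  · intro x y hy
    show φ (Submodule.Quotient.mk x) = _
    rw [Submodule.mapQ_apply]
    exact congrArg _ (Subtype.ext hy.symm)

end Groth.Agent.S14801
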