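import Groth.Statements.S14803
import Groth.Agent.MatTree.Incidence
import Groth.Agent.MatTree.Index
import Mathlib.Tactic.FieldSimp
import Mathlib.Algebra.BigOperators.Field
import Mathlib.Algebra.GCDMonoid.Finset

set_option autoImplicit false
universe u
open Finset
open LabGraph

namespace Groth.Agent.S14803

open Classical in
/-- Let (G, β) be a connected finite multigraph with a multiplicity function, α its matrix (α_{vw} =
#edges(v, w) for v ≠ w, Σ_w β(w) α_{vw} = 0) and Φ(G) = ker β / im α its component group; let m be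
the gcd of all the values β(v). Then Φ(G) is finite of order m² · Σ_T Π_v β(v)^{#N_T(v) - 2}, where
T runs over the spanning trees of G and N_T(v) is the set of neighbours of v in T. (The published
statement gives this order for the Néron component group of a curve's Jacobian, G being the weighted
dual graph of a proper regular model and β its component multiplicities; this row states the
identity for every connected pair (G, β) with a positive multiplicity function.) -/
theorem result {V E : Type u} [Fintype V] [Fintype E] [DecidableEq V] [DecidableEq E]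
    (ends : E → V × V) (β : V → ℤ) (hβ : LabGraph.IsMultFn ends β) (hG : LabGraph.Connected ends) :
    (Nat.card (LabGraph.CompGrp ends β) : ℚ) =
      ((univ.gcd β : ℤ) : ℚ) ^ 2 *
        ∑ T ∈ univ.powerset.filter (fun T : Finset E => LabGraph.IsSpanningTree ends T),
          ∏ v : V, ((β v : ℚ) ^ ((LabGraph.nbrCount ends T v : ℤ) - 2)) := by
  obtain ⟨v0⟩ := hG.1
  have hpos : ∀ v, 0 < β v := fun v => (hβ v).1
  set g := (univ.gcd β : ℤ) with hg
  have hgne : g ≠ 0 := fun h => (hpos v0).ne' (Finset.gcd_eq_zero_iff.1 h v0 (mem_univ _))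
  have hgnn : 0 ≤ g := Int.nonneg_of_normalize_eq_self (Finset.normalize_gcd)
  have hgpos : 0 < g := lt_of_le_of_ne hgnn (Ne.symm hgne)
  obtain ⟨c, hc⟩ := Finset.gcd_eq_sum_mul univ β
  choose b hb using fun v => (Finset.gcd_dvd (s := univ) (f := β) (mem_univ v) : g ∣ β v)
  have hc1 : ∑ v, c v * b v = 1 := by
    apply mul_left_cancel₀ hgne
    rw [mul_one, mul_sum]
    conv_rhs => rw [hg, hc]
    exact sum_congr rfl fun v _ => by rw [hb v]; ring
  have hb0 : 0 < b v0 := pos_of_mul_pos_right (hb v0 ▸ hpos v0) hgnn
  -- the matrix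
  set A := mfMatrix ends β with hA
  have hsymm : A.IsSymm := by
    refine Matrix.IsSymm.ext fun i j => ?_
    by_cases h : i = j
    · subst h; rfl
    · simp only [hA, mfMatrix, if_neg h, if_neg (Ne.symm h)]
      unfold edgeMult; push_cast; congr 2; ext e; simp [or_comm]
  have hdiag : ∀ i, A i i * β i = -∑ u ∈ univ.erase i, β u * (edgeMult ends i u : ℤ) := fun i => by
    simp only [hA, mfMatrix, if_pos]
    exact Int.ediv_mul_cancel (hβ i).2.neg_right
  have hrow : ∀ i, ∑ j, A i j * β j = 0 := fun i => by
    rw [← Finset.add_sum_erase _ _ (mem_univ i), hdiag]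
    rw [neg_add_eq_zero]
    refine sum_congr rfl fun j hj => ?_
    simp only [hA, mfMatrix, if_neg (Finset.ne_of_mem_erase hj).symm]
    ring
  have hAb : A.mulVec b = 0 := by
    funext i
    show ∑ j, A i j * b j = 0
    apply mul_left_cancel₀ hgne
    rw [mul_zero, mul_sum]
    refine Eq.trans (sum_congr rfl fun j _ => ?_) (hrow i)
    rw [hb j]; ring
  set M := A.submatrix (Subtype.val : {v // v ≠ v0} → V) (Subtype.val : {v // v ≠ v0} → V) with hM
  -- Laplacian with edge weights
  let w : E → ℤ := fun e => β (ends e).1 * β (ends e).2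
  have hoff : ∀ i j : V, i ≠ j → ∑ e, w e * (MatTree.inc ends e i * MatTree.inc ends e j) =
      -(β i * β j * A i j) := by
    intro i j hij
    have key : ∀ e, w e * (MatTree.inc ends e i * MatTree.inc ends e j) =
        if ends e = (i, j) ∨ ends e = (j, i) then -(β i * β j) else 0 := by
      intro e
      split_ifs with h
      · rcases h with h | h <;> simp [MatTree.inc, w, h, hij, Ne.symm hij, mul_comm]
      · suffices MatTree.inc ends e i * MatTree.inc ends e j = 0 by rw [this, mul_zero]
        by_contra hne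
        obtain ⟨hi, hj⟩ := mul_ne_zero_iff.1 hne
        have hend : ∀ v, MatTree.inc ends e v ≠ 0 → (ends e).1 = v ∨ (ends e).2 = v := fun v hv => by
          by_contra h'
          push Not at h'
          exact hv (by simp [MatTree.inc, h'.1, h'.2])
        rcases hend i hi with a | a <;> rcases hend j hj with a' | a'
        · exact hij (a.symm.trans a')
        · exact h (Or.inl (Prod.ext a a'))
        · exact h (Or.inr (Prod.ext a' a))
        · exact hij (a.symm.trans a')
    rw [sum_congr rfl fun e _ => key e, ← Finset.sum_filter, Finset.sum_const, nsmul_eq_mul]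
    simp only [hA, mfMatrix, if_neg hij, edgeMult]
    ring
  have hlap : MatTree.lap v0 ends w =
      Matrix.diagonal (fun i : {v // v ≠ v0} => β i.1) * (-M) *
        Matrix.diagonal (fun i : {v // v ≠ v0} => β i.1) := by
    ext i j
    rw [Matrix.mul_diagonal, Matrix.diagonal_mul, Matrix.neg_apply, hM, Matrix.submatrix_apply]
    simp only [MatTree.lap, Matrix.of_apply]
    by_cases hij : i.1 = j.1
    · rw [hij]
      have hz : ∑ k, ∑ e, w e * (MatTree.inc ends e j.1 * MatTree.inc ends e k) = 0 := by
        rw [Finset.sum_comm]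
        refine sum_eq_zero fun e _ => ?_
        simp only [← mul_sum]
        have := MatTree.sum_inc (ends := ends) e (fun _ => (1 : ℤ))
        simp only [mul_one, sub_self] at this
        rw [this, mul_zero, mul_zero]
      rw [← Finset.add_sum_erase _ _ (mem_univ j.1),
        sum_congr rfl (fun k hk => hoff j.1 k (Finset.ne_of_mem_erase hk).symm), sum_neg_distrib] at hz
      have h2 : ∑ k ∈ univ.erase j.1, β j.1 * β k * A j.1 k = -(β j.1 * (A j.1 j.1 * β j.1)) := by
        rw [hdiag, mul_neg, neg_neg, mul_sum]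
        refine sum_congr rfl fun k hk => ?_
        simp only [hA, mfMatrix, if_neg (Finset.ne_of_mem_erase hk).symm]
        ring
      rw [h2] at hz
      linarith
    · rw [hoff _ _ hij]; ring
  set Z := ∑ T ∈ univ.powerset.filter (fun T : Finset E => LabGraph.IsSpanningTree ends T),
    ∏ e ∈ T, w e with hZ
  have hwpos : ∀ e, 0 < w e := fun e => mul_pos (hpos _) (hpos _)
  have hZpos : 0 < Z := by
    haveI := hG.1
    obtain ⟨T, -, hT⟩ := MatTree.exists_tree (MatTree.spans_univ hG)
    exact sum_pos (fun T _ => prod_pos fun e _ => hwpos e) ⟨T, mem_filter.2 ⟨mem_powerset.2 (subset_univ _), hT⟩⟩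
  set P' := ∏ i : {v // v ≠ v0}, β i.1 with hP'
  have hdetL : P' * (-M).det * P' = Z := by
    rw [hZ, ← MatTree.det_lap v0 w, hlap, Matrix.det_mul, Matrix.det_mul, Matrix.det_diagonal]
  have hMne : M.det ≠ 0 := by
    intro h
    rw [Matrix.det_neg, h] at hdetL
    simp only [mul_zero, zero_mul] at hdetL
    exact hZpos.ne hdetL
  have hidx := MatTree.index_image A b v0 hsymm hAb hb0 c hc1 hMne
    (LinearMap.ker (betaHom β)).toAddSubgroup (fun z => by
      rw [Submodule.mem_toAddSubgroup, LinearMap.mem_ker]
      simp only [betaHom, Fintype.linearCombination_apply, smul_eq_mul]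
      rw [show ∑ v, z v * β v = g * ∑ v, z v * b v by
        rw [mul_sum]; exact sum_congr rfl fun v _ => by rw [hb v]; ring]
      simp [hgne])
  have hcard : Nat.card (LabGraph.CompGrp ends β) =
      ((A.mulVecLin.toAddMonoidHom.range).addSubgroupOf (LinearMap.ker (betaHom β)).toAddSubgroup).index := rfl
  rw [← hcard, ← hM] at hidx
  set N := Nat.card (LabGraph.CompGrp ends β)
  have hidx' : (N : ℤ) * b v0 ^ 2 = |M.det| := by
    rw [Int.abs_eq_natAbs, ← hidx]
    push_cast
    rw [sq_abs]
  have hP'pos : 0 < P' := prod_pos fun i _ => hpos _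
  have habs : P' * |M.det| * P' = Z := by
    have h := congrArg abs hdetL
    rw [abs_mul, abs_mul, Matrix.det_neg, abs_mul, abs_pow, abs_neg, abs_one, one_pow, one_mul,
      abs_of_pos hP'pos, abs_of_pos hZpos] at h
    exact h
  rw [← hidx'] at habs
  have hfull : ∏ v, β v = β v0 * P' := by
    rw [← Finset.mul_prod_erase _ _ (mem_univ v0), hP',
      ← Finset.prod_subtype (univ.erase v0) (by simp) β]
  have hmain : (N : ℚ) * (((∏ v, β v : ℤ) : ℚ)) ^ 2 = (g : ℚ) ^ 2 * (Z : ℚ) := by
    have : (N : ℤ) * (∏ v, β v) ^ 2 = g ^ 2 * Z := by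
      rw [hfull, hb v0, ← habs]; ring
    exact_mod_cast this
  have hne : (((∏ v, β v : ℤ) : ℚ)) ≠ 0 := Int.cast_ne_zero.2 (prod_pos fun v _ => hpos v).ne'
  have hterm : ∀ T ∈ univ.powerset.filter (fun T : Finset E => LabGraph.IsSpanningTree ends T),
      ∏ v : V, ((β v : ℚ) ^ ((LabGraph.nbrCount ends T v : ℤ) - 2)) =
        ((∏ e ∈ T, w e : ℤ) : ℚ) / (((∏ v, β v : ℤ) : ℚ)) ^ 2 := by
    intro T hT
    have hw : ∏ e ∈ T, w e = ∏ v, β v ^ LabGraph.nbrCount ends T v := by
      simp only [← MatTree.endCount_eq_nbrCount (mem_filter.1 hT).2, endCount, ← prod_pow_eq_pow_sum]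
      rw [Finset.prod_comm]
      refine prod_congr rfl fun e _ => ?_
      rw [Finset.prod_congr rfl (fun v _ => pow_add _ _ _), prod_mul_distrib]
      simp [pow_ite, w]
    rw [hw, Int.cast_prod, Int.cast_prod, ← prod_pow, ← prod_div_distrib]
    refine prod_congr rfl fun v _ => ?_
    rw [zpow_sub₀ (Int.cast_ne_zero.2 (hpos v).ne'), Int.cast_pow, zpow_natCast, zpow_ofNat]
  rw [sum_congr rfl hterm, ← Finset.sum_div, ← Int.cast_sum, ← hZ, mul_div_assoc', eq_div_iff (pow_ne_zero 2 hne)]
  exact hmain

end Groth.Agent.S14803
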