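import Groth.Statements.S14807
import Mathlib

set_option autoImplicit false
universe u
open CAlg

namespace Groth.Agent.S14807

/-- Let G be a finite abelian group, written additively, and ℓ a prime number. Every sequence (g_n)_{n ≥
0} of elements of G with ℓ^n · g_n = 0 and ℓ · g_{n+1} = g_n for all n is identically zero; in other
words the inverse limit of the subgroups of ℓ^n-torsion elements, with transition maps
multiplication by ℓ, vanishes. -/
theorem result (G : Type u) [AddCommGroup G] [Finite G]
    (ℓ : ℕ) (hℓ : ℓ.Prime) (g : ℕ → G) (htor : ∀ n : ℕ, ℓ ^ n • g n = 0)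
    (hcomp : ∀ n : ℕ, ℓ • g (n + 1) = g n) (n : ℕ) : g n = 0 := by
  have h : ∀ k m, g m = ℓ ^ k • g (m + k) := by
    intro k
    induction k with
    | zero => simp
    | succ k ih => intro m; rw [ih m, pow_succ, mul_smul, ← add_assoc, hcomp]
  obtain ⟨a, b, hab, heq⟩ := Finite.exists_ne_map_eq_of_infinite (fun k => g (n + k))
  have key : ∀ i j, i < j → g (n + i) = g (n + j) → g n = 0 := by
    intro i j hij he
    obtain ⟨d, rfl⟩ := Nat.exists_eq_add_of_le hij.le
    have hd : ℓ ^ d • g (n + i) = g (n + i) := by
      conv_rhs => rw [h d (n + i), add_assoc, ← he]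
    have hiter : ∀ k, ℓ ^ (d * k) • g (n + i) = g (n + i) := by
      intro k
      induction k with
      | zero => simp
      | succ k ih => rw [Nat.mul_succ, pow_add, mul_smul, hd, ih]
    have hx : g (n + i) = 0 := by
      obtain ⟨c, hc⟩ := Nat.exists_eq_add_of_le (Nat.le_mul_of_pos_left (n + i) (show 0 < d by omega))
      rw [← hiter (n + i), hc, pow_add, mul_comm, mul_smul, htor, smul_zero]
    rw [h i n, hx, smul_zero]
  rcases hab.lt_or_gt with h' | h'
  · exact key _ _ h' heq
  · exact key _ _ h' heq.symm

end Groth.Agent.S14807
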