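import Groth.Statements.S14808
import Groth.Agent.CurveDeg.Ample
import Mathlib
-- import your own Groth.Agent.* helpers here

set_option autoImplicit false
universe u
open CategoryTheory CategoryTheory.Limits AlgebraicGeometry
open PicF

namespace Groth.Agent.S14808

open Groth.Agent InvBasic ProjUniv

variable {X : Scheme.{u}}

/-- A morphism out of `O` kills everything iff it kills `1`. -/
theorem hom_eq_zero {L : X.Modules} (s : Coh.structureModule X ⟶ L)
    (h : s.app ⊤ (show Γ(Coh.structureModule X, ⊤) from (1 : Γ(X, ⊤))) = 0) : s = 0 := by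
  refine Scheme.Modules.hom_ext _ _ fun W => ?_
  ext r
  have h1 : s.app W (show Γ(Coh.structureModule X, W) from (1 : Γ(X, W))) = 0 := by
    have hn := congrArg (fun φ => φ.hom (show Γ(Coh.structureModule X, ⊤) from (1 : Γ(X, ⊤))))
      (s.mapPresheaf.naturality (homOfLE (le_top : W ≤ ⊤)).op)
    have e : (Coh.structureModule X).presheaf.map (homOfLE (le_top : W ≤ ⊤)).op
        (show Γ(Coh.structureModule X, ⊤) from (1 : Γ(X, ⊤))) = (show Γ(Coh.structureModule X, W) from (1 : Γ(X, W))) :=
      map_one (X.presheaf.map (homOfLE (le_top : W ≤ ⊤)).op).hom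
    rw [← e]
    exact hn.trans ((congrArg (fun z => (L.presheaf.map (homOfLE (le_top : W ≤ ⊤)).op).hom z) h).trans (map_zero (L.presheaf.map (homOfLE (le_top : W ≤ ⊤)).op).hom))
  have hr : r = (show Γ(X, W) from r) • (show Γ(Coh.structureModule X, W) from (1 : Γ(X, W))) :=
    (mul_one (show Γ(X, W) from r)).symm
  rw [hr, Scheme.Modules.Hom.app_smul, h1, smul_zero]
  rfl

theorem key [IsIntegral X] (hfield : IsField (Γ(X, ⊤) : Type u)) (L : X.Modules) (hL : PicF.IsInvertible L)
    (σ : Γ(L, ⊤)) (hσ : σ ≠ 0) (t : L ⟶ Coh.structureModule X) (ht : t ≠ 0) :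
    Nonempty (L ≅ Coh.structureModule X) := by
  let a : Γ(X, ⊤) := t.app ⊤ σ
  have nat : ∀ {W W' : X.Opens} (h : W' ≤ W) (q : Γ(L, W)),
      (show Γ(X, W') from t.app W' (L.presheaf.map (homOfLE h).op q)) =
        X.presheaf.map (homOfLE h).op (show Γ(X, W) from t.app W q) := fun h q =>
    congrArg (fun φ => φ.hom q) (t.mapPresheaf.naturality (homOfLE h).op)
  have ha : a ≠ 0 := by
    intro ha0
    obtain ⟨x0, hx0⟩ := CurveDeg.genOpen_nonempty_of_ne_zero hL hσ
    refine ht (Scheme.Modules.hom_ext _ _ fun V => ?_)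
    ext q
    rcases eq_or_ne V ⊥ with rfl | hV
    · exact @Subsingleton.elim (Γ(X, (⊥ : X.Opens))) inferInstance _ _
    · obtain ⟨v, hv⟩ : (V : Set X).Nonempty := by
        by_contra hc
        exact hV (TopologicalSpace.Opens.ext (Set.not_nonempty_iff_eq_empty.1 hc))
      let W := V ⊓ genOpen hL σ
      obtain ⟨c, hc⟩ := (isBasis_genOpen hL σ W inf_le_right).2 (L.presheaf.map (homOfLE (inf_le_left : W ≤ V)).op q)
      haveI : Nonempty W := by
        obtain ⟨z, hz⟩ := nonempty_preirreducible_inter V.2 (genOpen hL σ).2 ⟨v, hv⟩ ⟨x0, hx0⟩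
        exact ⟨⟨z, hz⟩⟩
      refine (map_injective_of_isIntegral X (homOfLE (inf_le_left : W ≤ V))) ?_
      refine (nat inf_le_left q).symm.trans ?_
      rw [← hc]
      dsimp only
      have e := res_res L (le_top : genOpen hL σ ≤ ⊤) (inf_le_right : W ≤ genOpen hL σ) σ
      rw [show (L.presheaf.map (homOfLE (inf_le_right : W ≤ genOpen hL σ)).op (gres L σ (genOpen hL σ)) : Γ(L, W)) =
        L.presheaf.map (homOfLE (le_top : W ≤ ⊤)).op σ from e, Scheme.Modules.Hom.app_smul]
      have e2 : (show Γ(X, W) from t.app W (L.presheaf.map (homOfLE (le_top : W ≤ ⊤)).op σ)) = 0 := by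
        rw [nat]; exact (congrArg _ ha0).trans (map_zero _)
      show c * (show Γ(X, W) from t.app W (L.presheaf.map (homOfLE (le_top : W ≤ ⊤)).op σ)) = _
      rw [e2, mul_zero]
      exact (map_zero _).symm
  obtain ⟨b, hb⟩ := hfield.mul_inv_cancel ha
  have hau : IsUnit a := IsUnit.of_mul_eq_one b hb
  have htop : genOpen hL σ = ⊤ := by
    refine top_unique fun x _ => ?_
    obtain ⟨U, hxU, ℓ, hℓ⟩ := exists_isBasis hL x
    obtain ⟨c, hc⟩ := (hℓ U le_rfl).2 (gres L σ U)
    dsimp only at hc
    rw [QCohLib.map_self] at hc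
    have hcu : IsUnit c := by
      have e3 : (show Γ(X, U) from t.app U (gres L σ U)) = X.presheaf.map (homOfLE (le_top : U ≤ ⊤)).op a :=
        nat le_top σ
      rw [← hc, Scheme.Modules.Hom.app_smul] at e3
      have h4 : IsUnit (c * (show Γ(X, U) from t.app U ℓ)) := by
        show IsUnit (show Γ(X, U) from c • t.app U ℓ)
        rw [e3]; exact hau.map _
      exact isUnit_of_mul_isUnit_left h4
    refine (mem_genOpen hL).2 fun y => ?_
    obtain ⟨d, hd⟩ := (hℓ.stalk_bijective hxU).2 y
    obtain ⟨u, hu⟩ := hcu.map (X.presheaf.germ U x hxU).hom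
    refine ⟨d * ↑u⁻¹, ?_⟩
    have e1 : L.presheaf.germ U x hxU (gres L σ U) = L.presheaf.germ ⊤ x trivial σ :=
      TopCat.Presheaf.germ_res_apply _ _ _ _ _
    rw [← e1, ← hc, InvBasic.germ_smul]
    dsimp only at hd
    rw [← hd]
    show _ • ((X.presheaf.germ U x hxU).hom c • _) = _
    rw [← hu, smul_smul, Units.inv_mul_cancel_right]
  have hbasis : IsBasis L σ := isBasis_of_cover fun x _ => by
    obtain ⟨V, hxV, hV'⟩ := exists_nhd_of_gen hL (htop.ge trivial : x ∈ genOpen _ σ)
    exact ⟨V, le_top, hxV, hV'⟩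
  obtain ⟨i⟩ := ProjTwist.nonempty_structureModule_iso L σ fun W => hbasis W le_top
  exact ⟨i.symm⟩


/-- Let X be an integral scheme such that Γ(X, O_X) is a field and L an invertible O_X-module. If L has
a nonzero global section (a nonzero morphism O_X → L) and its dual has a nonzero global section (a
nonzero morphism L → O_X), then L is isomorphic to O_X. -/
theorem result (X : Scheme.{u}) [IsIntegral X]
    (hfield : IsField (Γ(X, ⊤) : Type u)) (L : X.Modules) (hL : PicF.IsInvertible L)
    (s : Coh.structureModule X ⟶ L) (hs : s ≠ 0) (t : L ⟶ Coh.structureModule X) (ht : t ≠ 0) :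
    Nonempty (L ≅ Coh.structureModule X) := by
  exact key hfield L hL _ (fun h => hs (hom_eq_zero s h)) t ht

end Groth.Agent.S14808
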