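import Groth.Statements.S14809
import Groth.Agent.InvPow.Locus
import Groth.Agent.InvPow.Transfer
import Groth.Agent.InvPow.DualBasis
import Groth.Agent.InvGlue.Components
-- import your own Groth.Agent.* helpers here

set_option autoImplicit false
universe u
open CategoryTheory CategoryTheory.Limits AlgebraicGeometry
open PicF

namespace Groth.Agent.S14809

/-- Let X be an integral scheme such that Γ(X, O_X) is a field and L an invertible O_X-module with a
nonzero global section (a nonzero morphism O_X → L). If some tensor power L^{⊗d} with d ≥ 1 is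
isomorphic to O_X, then L itself is isomorphic to O_X. -/
theorem result (X : Scheme.{u}) [IsIntegral X]
    (hfield : IsField (Γ(X, ⊤) : Type u)) (L : X.Modules) (hL : PicF.IsInvertible L)
    (s : Coh.structureModule X ⟶ L) (hs : s ≠ 0) (d : ℕ) (hd : 0 < d)
    (htriv : Nonempty (CohB1.tensorPow L d ≅ Coh.structureModule X)) :
    Nonempty (L ≅ Coh.structureModule X) := by
  obtain ⟨τ⟩ := htriv
  obtain ⟨σ, rfl⟩ := Groth.Agent.InvPow.exists_globalHom_eq s
  choose V hxV ℓ hℓ using Groth.Agent.InvBasic.exists_isBasis hL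
  choose c hc using fun x => Groth.Agent.InvPow.exists_coef (hℓ x) (L.presheaf.map (homOfLE (le_top : V x ≤ ⊤)).op σ)
  let m : Γ(CohB1.tensorPow L d, ⊤) := Groth.Agent.InvPow.pw L σ d
  have hm : ∀ x, (CohB1.tensorPow L d).presheaf.map (homOfLE (le_top : V x ≤ ⊤)).op m =
      c x ^ d • Groth.Agent.InvPow.pw L (ℓ x) d := by
    intro x
    refine (Groth.Agent.InvPow.res_pw (le_top : V x ≤ ⊤) σ d).trans ?_
    rw [show Groth.Agent.ProjUniv.res L (le_top : V x ≤ ⊤) σ = c x • ℓ x from hc x, Groth.Agent.InvPow.pw_smul]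
  let β : Γ(CohB1.tensorPow L d, ⊤) := τ.inv.app ⊤ (Groth.Agent.InvPow.oneSec X ⊤)
  have hβ : Groth.Agent.InvBasic.IsBasis (CohB1.tensorPow L d) β :=
    Groth.Agent.InvPow.isBasis_of_iso τ.symm (Groth.Agent.InvPow.isBasis_oneSec ⊤)
  obtain ⟨f, hf⟩ := Groth.Agent.InvPow.exists_coef hβ m
  have hmV : ∀ x, c x ^ d • Groth.Agent.InvPow.pw L (ℓ x) d =
      X.presheaf.map (homOfLE (le_top : V x ≤ ⊤)).op f •
        (CohB1.tensorPow L d).presheaf.map (homOfLE (le_top : V x ≤ ⊤)).op β := fun x => by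
    rw [← hm, hf, Scheme.Modules.map_smul]
  have hf0 : f ≠ 0 := by
    intro h0
    apply hs
    have hσ : σ = 0 := by
      refine Groth.Agent.InvPow.sections_ext L V (fun x => ⟨x, hxV x⟩) fun x => ?_
      show L.presheaf.map _ σ = L.presheaf.map _ (0 : Γ(L, ⊤))
      have hcd : c x ^ d = 0 := by
        refine Groth.Agent.InvPow.coef_unique (Groth.Agent.InvPow.isBasis_pw (hℓ x) d) ?_
        rw [hmV, h0, map_zero, zero_smul, zero_smul]
      haveI : Nonempty (V x).toScheme := ⟨⟨x, hxV x⟩⟩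
      have hc0 : c x = 0 := eq_zero_of_pow_eq_zero hcd
      rw [← Groth.Agent.QCohLib.map_map L (inf_le_right : ⊤ ⊓ V x ≤ V x) (le_top : V x ≤ ⊤), hc, hc0, zero_smul,
        map_zero, map_zero]
    rw [hσ]
    refine Scheme.Modules.hom_ext _ _ (fun W => AddCommGrpCat.ext ?_)
    intro (r : Γ(X, W))
    rw [Groth.Agent.ProjTwist.globalHom_app, map_zero, smul_zero]
    rfl
  have hfu : IsUnit f := by
    obtain ⟨g, hg⟩ := hfield.mul_inv_cancel hf0
    exact IsUnit.of_mul_eq_one _ hg
  have hcu : ∀ x, IsUnit (c x) := by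
    intro x
    have hb := hβ.restrict (le_top : V x ≤ ⊤)
    obtain ⟨a, ha⟩ := Groth.Agent.InvPow.exists_coef hb (Groth.Agent.InvPow.pw L (ℓ x) d)
    have h1 : c x ^ d * a = X.presheaf.map (homOfLE (le_top : V x ≤ ⊤)).op f :=
      Groth.Agent.InvPow.coef_unique hb (by rw [mul_smul, ← ha, hmV])
    exact (isUnit_pow_iff hd.ne').1 (isUnit_of_mul_isUnit_left (h1 ▸ hfu.map _))
  have hσb : ∀ x, Groth.Agent.InvBasic.IsBasis L (L.presheaf.map (homOfLE (le_top : V x ≤ ⊤)).op σ) := by
    intro x W hW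
    have e : (fun r : Γ(X, W) => r • (L.presheaf.map (homOfLE hW).op (L.presheaf.map (homOfLE (le_top : V x ≤ ⊤)).op σ) : Γ(L, W))) =
        (fun r => r • L.presheaf.map (homOfLE hW).op (ℓ x)) ∘ fun r => r * X.presheaf.map (homOfLE hW).op (c x) := by
      funext r
      show r • L.presheaf.map (homOfLE hW).op _ = _
      rw [hc, Scheme.Modules.map_smul, smul_smul]
      rfl
    rw [e]
    exact ((hℓ x) W hW).comp ((hcu x).map (X.presheaf.map (homOfLE hW).op).hom).unit.mulRight.bijective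
  haveI : IsIso (Groth.Agent.ProjTwist.globalHom L σ) := by
    refine Groth.Agent.InvGlue.isIso_of_basis _ V (fun x => ⟨x, hxV x⟩) (fun x => Groth.Agent.InvPow.oneSec X (V x))
      (fun x => Groth.Agent.InvPow.isBasis_oneSec (V x)) fun x => ?_
    convert hσb x using 1
    rw [Groth.Agent.ProjTwist.globalHom_app]
    exact one_smul _ _
  exact ⟨(asIso (Groth.Agent.ProjTwist.globalHom L σ)).symm⟩

end Groth.Agent.S14809
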