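import Groth.Statements.S14830
import Mathlib
import Groth.Agent.RigidProd.Abelian
-- import your own Groth.Agent.* helpers here

set_option autoImplicit false
universe u
open CategoryTheory MonoidalCategory CartesianMonoidalCategory MonObj GrpObj AlgebraicGeometry
open AbVar

namespace Groth.Agent.S14830

open CategoryTheory MonoidalCategory CartesianMonoidalCategory MonObj in
lemma mulHom {C : Type*} [Category C] [CartesianMonoidalCategory C] [BraidedCategory C] {M N : C}
    [MonObj M] [MonObj N] [IsCommMonObj N] (f g : M ⟶ N) [IsMonHom f] [IsMonHom g] : IsMonHom (f * g) where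
  one_hom := by
    rw [MonObj.comp_mul, IsMonHom.one_hom, IsMonHom.one_hom]
    simp [one_eq_one]
  mul_hom := by
    have hm : ∀ (h : M ⟶ N) [IsMonHom h], μ[M] ≫ h = (fst M M ≫ h) * (snd M M ≫ h) := fun h _ => by
      rw [IsMonHom.mul_hom, Hom.mul_def]
      congr 1
      ext : 1 <;> simp
    rw [MonObj.comp_mul, hm f, hm g, _root_.mul_mul_mul_comm, ← MonObj.comp_mul, ← MonObj.comp_mul, Hom.mul_def]
    congr 1
    ext : 1 <;> simp

/-- Let k be a field and X, Y proper, geometrically integral k-schemes with k-rational points x₀ and y₀.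
Let albX : X → A and albY : Y → B be Albanese morphisms: A, B abelian varieties over k (proper,
geometrically integral group schemes), albX(x₀) = 0, albY(y₀) = 0, each universal among pointed
k-morphisms into abelian varieties (geometrically reduced, connected, proper group schemes). Then
the product morphism albX × albY : X ×_k Y → A ×_k B is the Albanese morphism of X ×_k Y pointed at
(x₀, y₀): for every abelian variety C and every k-morphism g : X ×_k Y → C with g(x₀, y₀) = 0 there
is a unique homomorphism h : A ×_k B → C with (albX × albY) ≫ h = g. -/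
theorem result (k : Type u) [Field k] (X Y : Scheme.{u}) [X.Over (Spec (CommRingCat.of k))] [Y.Over (Spec (CommRingCat.of k))]
    [IsProper (X ↘ Spec (CommRingCat.of k))] [IsProper (Y ↘ Spec (CommRingCat.of k))]
    [GeometricallyIntegral (X ↘ Spec (CommRingCat.of k))] [GeometricallyIntegral (Y ↘ Spec (CommRingCat.of k))]
    (x₀ : 𝟙_ (Over (Spec (CommRingCat.of k))) ⟶ Over.mk (X ↘ Spec (CommRingCat.of k))) (y₀ : 𝟙_ (Over (Spec (CommRingCat.of k))) ⟶ Over.mk (Y ↘ Spec (CommRingCat.of k)))
    (A : Over (Spec (CommRingCat.of k))) [GrpObj A] [IsProper A.hom] [GeometricallyIntegral A.hom]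
    (albX : Over.mk (X ↘ Spec (CommRingCat.of k)) ⟶ A) (halbX : x₀ ≫ albX = η[A])
    (hunivA : ∀ (C : Over (Spec (CommRingCat.of k))) [GrpObj C] [IsProper C.hom] [GeometricallyReduced C.hom] [ConnectedSpace ↥C.left]
      (g : Over.mk (X ↘ Spec (CommRingCat.of k)) ⟶ C), x₀ ≫ g = η[C] → ∃! h : A ⟶ C, IsMonHom h ∧ albX ≫ h = g)
    (B : Over (Spec (CommRingCat.of k))) [GrpObj B] [IsProper B.hom] [GeometricallyIntegral B.hom]
    (albY : Over.mk (Y ↘ Spec (CommRingCat.of k)) ⟶ B) (halbY : y₀ ≫ albY = η[B])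
    (hunivB : ∀ (C : Over (Spec (CommRingCat.of k))) [GrpObj C] [IsProper C.hom] [GeometricallyReduced C.hom] [ConnectedSpace ↥C.left]
      (g : Over.mk (Y ↘ Spec (CommRingCat.of k)) ⟶ C), y₀ ≫ g = η[C] → ∃! h : B ⟶ C, IsMonHom h ∧ albY ≫ h = g)
    (C : Over (Spec (CommRingCat.of k))) [GrpObj C] [IsProper C.hom] [GeometricallyReduced C.hom] [ConnectedSpace ↥C.left]
    (g : Over.mk (X ↘ Spec (CommRingCat.of k)) ⊗ Over.mk (Y ↘ Spec (CommRingCat.of k)) ⟶ C) (hg : lift x₀ y₀ ≫ g = η[C]) :
    ∃! h : A ⊗ B ⟶ C, IsMonHom h ∧ (albX ⊗ₘ albY) ≫ h = g := by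
  have : GeometricallyIntegral C.hom := Groth.Agent.RigidProd.geometricallyIntegral_of_connected C
  have : IsCommMonObj C := isCommMonObj_of_isProper_of_geometricallyIntegral C
  have : IsIntegral (Over.mk (X ↘ Spec (CommRingCat.of k))).left :=
    GeometricallyIntegral.isIntegral_of_subsingleton (X ↘ Spec (CommRingCat.of k))
  have : IsIntegral (Over.mk (Y ↘ Spec (CommRingCat.of k))).left :=
    GeometricallyIntegral.isIntegral_of_subsingleton (Y ↘ Spec (CommRingCat.of k))
  have : IsProper (Over.mk (X ↘ Spec (CommRingCat.of k))).hom :=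
    (inferInstance : IsProper (X ↘ Spec (CommRingCat.of k)))
  have hX := Groth.Agent.RigidProd.trivialSections_of_isIntegral (Over.mk (X ↘ Spec (CommRingCat.of k))) x₀
  have hdec := Groth.Agent.RigidProd.eq_mul_of_proper hX x₀ y₀ g hg
  obtain ⟨a, ⟨ha, hag⟩, hau⟩ := hunivA C (lift (𝟙 (Over.mk (X ↘ Spec (CommRingCat.of k)))) (toUnit (Over.mk (X ↘ Spec (CommRingCat.of k))) ≫ y₀) ≫ g) (by
    rw [← Category.assoc, comp_lift, Category.comp_id, ← Category.assoc x₀ (toUnit (Over.mk (X ↘ Spec (CommRingCat.of k)))),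
      toUnit_unique (x₀ ≫ toUnit (Over.mk (X ↘ Spec (CommRingCat.of k)))) (𝟙 _), Category.id_comp, hg])
  obtain ⟨b, ⟨hb, hbg⟩, hbu⟩ := hunivB C (lift (toUnit (Over.mk (Y ↘ Spec (CommRingCat.of k))) ≫ x₀) (𝟙 (Over.mk (Y ↘ Spec (CommRingCat.of k)))) ≫ g) (by
    rw [← Category.assoc, comp_lift, Category.comp_id, ← Category.assoc y₀ (toUnit (Over.mk (Y ↘ Spec (CommRingCat.of k)))),
      toUnit_unique (y₀ ≫ toUnit (Over.mk (Y ↘ Spec (CommRingCat.of k)))) (𝟙 _), Category.id_comp, hg])
  refine ⟨(fst A B ≫ a) * (snd A B ≫ b), ⟨(have := ha; have := hb; mulHom _ _), ?_⟩, ?_⟩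
  · rw [MonObj.comp_mul, tensorHom_fst_assoc, tensorHom_snd_assoc, hag, hbg]
    exact hdec.symm
  · rintro h ⟨hh, hhg⟩
    have eA : lift (𝟙 A) (toUnit A ≫ η[B]) ≫ h = a := by
      refine hau _ ⟨?_, ?_⟩
      · have : IsMonHom (lift (𝟙 A) (toUnit A ≫ η[B])) := inferInstance
        infer_instance
      · rw [← Category.assoc, comp_lift, Category.comp_id, ← Category.assoc albX (toUnit A),
          toUnit_unique (albX ≫ toUnit A) (toUnit (Over.mk (X ↘ Spec (CommRingCat.of k)))), ← halbY, ← hhg]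
        rw [← Category.assoc (lift (𝟙 (Over.mk (X ↘ Spec (CommRingCat.of k)))) _), lift_map]
        simp
    have eB : lift (toUnit B ≫ η[A]) (𝟙 B) ≫ h = b := by
      refine hbu _ ⟨?_, ?_⟩
      · have : IsMonHom (lift (toUnit B ≫ η[A]) (𝟙 B)) := inferInstance
        infer_instance
      · rw [← Category.assoc, comp_lift, Category.comp_id, ← Category.assoc albY (toUnit B),
          toUnit_unique (albY ≫ toUnit B) (toUnit (Over.mk (Y ↘ Spec (CommRingCat.of k)))), ← halbX, ← hhg]
        rw [← Category.assoc (lift _ (𝟙 (Over.mk (Y ↘ Spec (CommRingCat.of k))))), lift_map]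
        simp
    rw [← eA, ← eB, ← Category.assoc, ← Category.assoc, ← MonObj.mul_comp]
    have : (fst A B ≫ lift (𝟙 A) (toUnit A ≫ η[B])) * (snd A B ≫ lift (toUnit B ≫ η[A]) (𝟙 B)) = 𝟙 (A ⊗ B) := by
      ext : 1
      · rw [MonObj.mul_comp, Category.assoc, Category.assoc, lift_fst, lift_fst, Category.comp_id,
          ← Category.assoc, toUnit_unique (snd A B ≫ toUnit B) (toUnit _), Category.id_comp]
        exact mul_one _
      · rw [MonObj.mul_comp, Category.assoc, Category.assoc, lift_snd, lift_snd, Category.comp_id,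
          ← Category.assoc, toUnit_unique (fst A B ≫ toUnit A) (toUnit _), Category.id_comp]
        exact one_mul _
    rw [this, Category.id_comp]

end Groth.Agent.S14830
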