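import Groth.Statements.S1484
import Mathlib
-- import your own Groth.Agent.* helpers here

set_option autoImplicit false
universe u
open FlatMor

namespace Groth.Agent.S1484

/-- Let R be a ring, p_1, …, p_r primes of R none of which is contained in another, k_i ⊆ κ(p_i)
subfields over which κ(p_i) is not algebraic, and J an ideal of R contained in none of the p_i. Then
some x ∈ J has image in κ(p_i) transcendental over k_i for every i. -/
theorem result {R : Type u} [CommRing R] {r : ℕ} (p : Fin r → Ideal R) [∀ i, (p i).IsPrime]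
    (hp : ∀ i j, i ≠ j → ¬ p i ≤ p j) (k : ∀ i, Subfield (p i).ResidueField)
    (hk : ∀ i, ¬ Algebra.IsAlgebraic ↥(k i) (p i).ResidueField) (J : Ideal R) (hJ : ∀ i, ¬ J ≤ p i) :
    ∃ x ∈ J, ∀ i, Transcendental ↥(k i) (algebraMap R (p i).ResidueField x) := by
  classical
  have he : ∀ i, ∃ e ∈ J, e ∉ p i ∧ ∀ j, j ≠ i → e ∈ p j := by
    intro i
    have : ¬ (J * ∏ j ∈ Finset.univ.erase i, p j) ≤ p i := by
      intro hle
      rcases (inferInstance : (p i).IsPrime).mul_le.1 hle with h | h
      · exact hJ i h
      · obtain ⟨j, hj, hj'⟩ := ((inferInstance : (p i).IsPrime).prod_le).1 h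
        exact hp j i (Finset.ne_of_mem_erase hj) hj'
    obtain ⟨e, he1, he2⟩ := SetLike.not_le_iff_exists.1 this
    refine ⟨e, Ideal.mul_le_left he1, he2, fun j hj => ?_⟩
    exact (Ideal.mul_le_right.trans (Ideal.prod_le_inf.trans (Finset.inf_le (Finset.mem_erase.2 ⟨hj, Finset.mem_univ j⟩)))) he1
  choose e heJ hei hej using he
  have hy : ∀ i, ∃ y : R, Transcendental ↥(k i) (algebraMap R (p i).ResidueField (e i * y)) := by
    intro i
    by_contra hcon
    simp only [not_exists, Transcendental, not_not] at hcon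
    refine hk i ⟨fun z => ?_⟩
    let L := algebraicClosure ↥(k i) (p i).ResidueField
    have hmem : ∀ y : R, algebraMap R (p i).ResidueField y ∈ L := fun y => by
      have h1 : algebraMap R (p i).ResidueField (e i) ∈ L :=
        mem_algebraicClosure_iff.2 (by simpa using hcon 1)
      have h2 : algebraMap R (p i).ResidueField (e i * y) ∈ L := mem_algebraicClosure_iff.2 (hcon y)
      rw [map_mul] at h2
      have h0 : algebraMap R (p i).ResidueField (e i) ≠ 0 := fun h => hei i (Ideal.algebraMap_residueField_eq_zero.1 h)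
      have h3 := L.mul_mem (L.inv_mem h1) h2
      rwa [inv_mul_cancel_left₀ h0] at h3
    obtain ⟨a, b, -, rfl⟩ := IsFractionRing.div_surjective (A := R ⧸ p i) z
    obtain ⟨a, rfl⟩ := Ideal.Quotient.mk_surjective a
    obtain ⟨b, rfl⟩ := Ideal.Quotient.mk_surjective b
    exact mem_algebraicClosure_iff.1 (L.div_mem (hmem a) (hmem b))
  choose y hy using hy
  refine ⟨∑ i, e i * y i, Ideal.sum_mem _ fun i _ => Ideal.mul_mem_right _ _ (heJ i), fun i => ?_⟩
  rw [map_sum, Finset.sum_eq_single i (fun j _ hj => by
    rw [Ideal.algebraMap_residueField_eq_zero]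
    exact Ideal.mul_mem_right _ _ (hej j i hj.symm)) (by simp)]
  exact hy i

end Groth.Agent.S1484
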