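import Groth.Statements.S14841
import Groth.Agent.ComodBasic.Coalg

set_option autoImplicit false
universe u v w
open HopfRep

namespace Groth.Agent.S14841

open Groth.Agent.ComodBasic

open TensorProduct in
/-- Over a field K, let C be a coalgebra and E a simple right C-comodule, and let D be the coefficient
space of E, the least subspace D' of C such that the coaction of E lands in E ⊗ D'. Then D is a
simple subcoalgebra of C: it is nonzero, its comultiplication lands in the image of D ⊗ D, and any
subcoalgebra of C contained in D is 0 or D. Here a subcoalgebra of C is a subspace B whose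
comultiplication lands in the image of B ⊗ B, and a simple subcoalgebra is a nonzero subcoalgebra D
whose only subcoalgebras contained in D are 0 and D. (Stated for right comodules; the published
statement is for left comodules, with D' ⊗ E in place of E ⊗ D'.) -/
theorem result {K : Type u} {C : Type v} [Field K]
    [AddCommGroup C] [Module K C] [Coalgebra K C]
    {E : Type w} [AddCommGroup E] [Module K E] [HopfRep.Comod K C E]
    (hE : HopfRep.IsSimpleComod K C E) (D : Submodule K C)
    (hD : IsLeast {D' : Submodule K C |
      ∀ e : E, HopfRep.Comod.coact (k := K) (A := C) e ∈ LinearMap.range (LinearMap.lTensor E D'.subtype)} D) :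
    D ≠ ⊥ ∧ (∀ b ∈ D, CoalgebraStruct.comul (R := K) b ∈ LinearMap.range (TensorProduct.map D.subtype D.subtype)) ∧
      ∀ B : Submodule K C, B ≤ D → (∀ b ∈ B, CoalgebraStruct.comul (R := K) b ∈ LinearMap.range (TensorProduct.map B.subtype B.subtype)) → B = ⊥ ∨ B = D := by

  haveI := (isSimpleComod_iff).1 hE
  obtain rfl := eq_coeffSub_of_isLeast hD
  haveI := finite_of_isSimpleModule (k := K) (C := C) (V := E) inferInstance
  refine ⟨?_, isSubcoalg_restrict isFullyInvariant_coeffSub, fun B hB hB' => ?_⟩
  · obtain ⟨e, he⟩ := @exists_ne E (IsSimpleModule.nontrivial (Cv K C) E) 0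
    obtain ⟨f, hf⟩ := exists_hom_ne_zero (k := K) (C := C) he
    intro h
    have : f e ∈ (coeffSub (k := K) (C := C) E).restrictScalars K := le_coeffSub f ⟨e, rfl⟩
    rw [h, Submodule.mem_bot] at this
    exact hf this
  · obtain ⟨M, hM, rfl⟩ := (isSubcoalg_iff B).1 hB'
    simp only [Submodule.restrictScalars_eq_bot_iff, Submodule.restrictScalars_inj]
    refine Classical.or_iff_not_imp_left.2 fun hne => le_antisymm ((Submodule.restrictScalars_le K).1 hB) ?_
    obtain ⟨S, hS, hSs⟩ := exists_simple_le hne
    have hle : S ≤ sSup (Set.range fun f : E →ₗ[Cv K C] C => LinearMap.range f) := by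
      rw [sSup_range]
      exact hS.trans ((Submodule.restrictScalars_le K).1 hB)
    haveI : ∀ m : (Set.range fun f : E →ₗ[Cv K C] C => LinearMap.range f),
        IsSemisimpleModule (Cv K C) m := by
      rintro ⟨_, f, rfl⟩
      exact IsSemisimpleModule.range f
    obtain ⟨_, ⟨f, rfl⟩, T, hT, ⟨e⟩⟩ := Submodule.le_linearEquiv_of_le_sSup S _ hle
    have hTne : T ≠ ⊥ := fun h => @not_subsingleton _ (IsSimpleModule.nontrivial (Cv K C) S)
      (h ▸ e.toEquiv).subsingleton
    have hTeq : T = LinearMap.range f := by
      have hf0 : f ≠ 0 := fun h => hTne <| le_bot_iff.1 <| hT.trans <| by simp [h]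
      have := IsSimpleModule.congr (LinearEquiv.ofInjective f (LinearMap.injective_of_ne_zero hf0)).symm
      exact ((isSimpleModule_iff_isAtom.1 this).le_iff_eq hTne).1 hT
    subst hTeq
    have hf0 : f ≠ 0 := fun h => hTne (by rw [h, LinearMap.range_zero])
    let g : E →ₗ[Cv K C] C := S.subtype ∘ₗ e.symm.toLinearMap ∘ₗ f.rangeRestrict
    have hg : Function.Injective g :=
      S.subtype_injective.comp (e.symm.injective.comp fun a b hab =>
        LinearMap.injective_of_ne_zero hf0 (congrArg Subtype.val hab))
    refine iSup_le fun f' => ?_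
    obtain ⟨h, rfl⟩ := exists_extend g hg f'
    rintro _ ⟨x, rfl⟩
    exact hM h (hS (e.symm (f.rangeRestrict x)).2)

end Groth.Agent.S14841
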