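import Groth.Statements.S14842
import Groth.Agent.ComodBasic.Coalg

set_option autoImplicit false
universe u v
open HopfRep

namespace Groth.Agent.S14842

open Groth.Agent.ComodBasic

open TensorProduct in
/-- Over a field K, every simple subcoalgebra D of a coalgebra C is the coefficient space of a simple
comodule. Precisely: there is a subspace E of C contained in D which is a simple subcomodule of the
regular right comodule C (E is nonzero, stable under the coaction, and its only subcomodules are 0
and E) and such that D is the least subspace D' of C with comul(E) inside the image of E ⊗ D'. Here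
a subcoalgebra of C is a subspace B whose comultiplication lands in the image of B ⊗ B, and a simple
subcoalgebra is a nonzero subcoalgebra D whose only subcoalgebras contained in D are 0 and D.
(Stated for right comodules; the published statement is for left comodules.) -/
theorem result {K : Type u} {C : Type v} [Field K]
    [AddCommGroup C] [Module K C] [Coalgebra K C]
    (D : Submodule K C) (hD0 : D ≠ ⊥) (hD : (∀ b ∈ D, CoalgebraStruct.comul (R := K) b ∈ LinearMap.range (TensorProduct.map D.subtype D.subtype)))
    (hDs : ∀ B : Submodule K C, B ≤ D → (∀ b ∈ B, CoalgebraStruct.comul (R := K) b ∈ LinearMap.range (TensorProduct.map B.subtype B.subtype)) → B = ⊥ ∨ B = D) :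
    ∃ E : Submodule K C, E ≤ D ∧ E ≠ ⊥ ∧ HopfRep.IsSubcomod (k := K) (A := C) E ∧
      (∀ E' : Submodule K C, E' ≤ E → HopfRep.IsSubcomod (k := K) (A := C) E' → E' = ⊥ ∨ E' = E) ∧
      IsLeast {D' : Submodule K C |
        ∀ e ∈ E, CoalgebraStruct.comul (R := K) e ∈ LinearMap.range (TensorProduct.map E.subtype D'.subtype)} D := by

  obtain ⟨M, hM, rfl⟩ := (isSubcoalg_iff D).1 hD
  obtain ⟨S, hS, hSs⟩ := exists_simple_le (mt (Submodule.restrictScalars_eq_bot_iff K _ _).2 hD0)
  have hatom := isSimpleModule_iff_isAtom.1 hSs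
  have hSne : S.restrictScalars K ≠ ⊥ := mt (Submodule.restrictScalars_eq_bot_iff K _ _).1 hatom.1
  refine ⟨S.restrictScalars K, (Submodule.restrictScalars_le K).2 hS, hSne, isSubcomod_restrict S,
    fun E' hle hE' => ?_, fun e he => ?_, fun D' hD' => ?_⟩
  · rcases hatom.le_iff.1 (show toSub E' hE' ≤ S from fun v hv => hle hv) with h | h
    · exact Or.inl (by rw [(toSub_eq_iff hE' _).1 h, Submodule.restrictScalars_bot])
    · exact Or.inr ((toSub_eq_iff hE' _).1 h)
  · rw [mem_range_map_iff]
    exact ⟨fun φ => S.smul_mem (WithConv.toConv φ) he, fun ξ => hM (coef ξ) (hS he)⟩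
  · have hinv : (⨆ h : C →ₗ[Cv K C] C, S.map h).IsFullyInvariant := by
      intro g
      refine iSup_le fun h => ?_
      rintro _ ⟨m, hm, rfl⟩
      exact Submodule.mem_iSup_of_mem (g ∘ₗ h) ⟨m, hm, rfl⟩
    have hle : (⨆ h : C →ₗ[Cv K C] C, S.map h) ≤ M :=
      iSup_le fun h => (Submodule.map_mono hS).trans (Submodule.map_le_iff_le_comap.2 (hM h))
    have hBne : (⨆ h : C →ₗ[Cv K C] C, S.map h) ≠ ⊥ := fun h => hatom.1 <| le_bot_iff.1 <|
      h ▸ (Submodule.map_id S).ge.trans (le_iSup (fun h : C →ₗ[Cv K C] C => S.map h) LinearMap.id)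
    have heq := (hDs _ ((Submodule.restrictScalars_le K).2 hle) (isSubcoalg_restrict hinv)).resolve_left
      (mt (Submodule.restrictScalars_eq_bot_iff K _ _).1 hBne)
    rw [← heq, Submodule.restrictScalars_iSup]
    refine iSup_le fun h => ?_
    rintro _ ⟨m, hm, rfl⟩
    have := ((mem_range_map_iff _ _ _).1 (hD' m hm)).2
      (CoalgebraStruct.counit (R := K) (A := C) ∘ₗ h.restrictScalars K)
    rw [eq_coef h]
    exact this

end Groth.Agent.S14842
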