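import Groth.Statements.S14844
import Groth.Agent.ComodBasic.Basic
import Mathlib.LinearAlgebra.Projection

set_option autoImplicit false
universe u v w w'
open HopfRep

namespace Groth.Agent.S14844

open Groth.Agent.ComodBasic

open TensorProduct in
/-- Let R be a commutative ring and C an R-coalgebra, flat over R, which is the internal direct sum of
subcoalgebras D_i (submodules whose comultiplication lands in the image of D_i ⊗ D_i, independent
and with supremum C). Then every right C-comodule V is the internal direct sum of the subcomodules
V_i, where V_i is the preimage under the coaction of the image of V ⊗ D_i in V ⊗ C, and the coaction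
maps V_i into the image of V_i ⊗ D_i, so that the comodule structure of V_i reduces to a
D_i-comodule structure. (The published statement is for a flat sheaf of coalgebras over a base
scheme and left comodules on a scheme over it; this row is the case of an affine base with modules
of global sections, for right comodules.) -/
theorem result {R : Type u} {C : Type v} [CommRing R]
    [AddCommGroup C] [Module R C] [Coalgebra R C] [Module.Flat R C]
    {ι : Type w} (D : ι → Submodule R C)
    (hD : ∀ i, ∀ d ∈ D i, CoalgebraStruct.comul (R := R) d ∈
      LinearMap.range (TensorProduct.map (D i).subtype (D i).subtype))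
    (hind : iSupIndep D) (htop : iSup D = ⊤)
    {V : Type w'} [AddCommGroup V] [Module R V] [HopfRep.Comod R C V] :
    (∀ i, HopfRep.IsSubcomod (k := R) (A := C) ((LinearMap.range (LinearMap.lTensor V (D i).subtype)).comap
        (HopfRep.Comod.coact (k := R) (A := C) (V := V)))) ∧
    iSupIndep (fun i => ((LinearMap.range (LinearMap.lTensor V (D i).subtype)).comap
        (HopfRep.Comod.coact (k := R) (A := C) (V := V)))) ∧
    (⨆ i, ((LinearMap.range (LinearMap.lTensor V (D i).subtype)).comap
        (HopfRep.Comod.coact (k := R) (A := C) (V := V)))) = ⊤ ∧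
    ∀ i, ∀ v ∈ ((LinearMap.range (LinearMap.lTensor V (D i).subtype)).comap
        (HopfRep.Comod.coact (k := R) (A := C) (V := V))),
      HopfRep.Comod.coact (k := R) (A := C) v ∈
        LinearMap.range (TensorProduct.map ((LinearMap.range (LinearMap.lTensor V (D i).subtype)).comap
        (HopfRep.Comod.coact (k := R) (A := C) (V := V))).subtype (D i).subtype) := by
  classical
  have hc : ∀ i, IsCompl (D i) (⨆ (j : ι) (_ : j ≠ i), D j) := fun i =>
    ⟨hind i, codisjoint_iff.2 (eq_top_iff.2 (htop ▸ iSup_le fun j => by
      by_cases h : j = i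
      · exact h ▸ le_sup_left
      · exact le_sup_of_le_right (le_iSup₂_of_le j h le_rfl)))⟩
  let π : ι → (C →ₗ[R] C) := fun i => (D i).subtype ∘ₗ (D i).projectionOnto _ (hc i)
  have hπmem : ∀ i c, π i c ∈ D i := fun i c => ((D i).projectionOnto _ (hc i) c).2
  have hπself : ∀ i, ∀ d ∈ D i, π i d = d := fun i d hd =>
    congrArg Subtype.val (Submodule.projectionOnto_apply_left (hc i) ⟨d, hd⟩)
  have hπne : ∀ i j, j ≠ i → ∀ d ∈ D j, π i d = 0 := fun i j hji d hd =>
    congrArg Subtype.val (Submodule.projectionOnto_apply_of_mem_right (hc i) (x := d)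
      (Submodule.mem_iSup_of_mem j (Submodule.mem_iSup_of_mem hji hd)))
  have hsub : ∀ i j, π i ∘ₗ (D j).subtype = if j = i then (D j).subtype else 0 := by
    intro i j
    ext d
    split_ifs with h
    · subst h; exact hπself _ _ d.2
    · exact hπne i j h _ d.2
  let φ : ι → (C →ₗ[R] R) := fun i => CoalgebraStruct.counit (R := R) (A := C) ∘ₗ π i
  have hΔ : ∀ i c, slice (φ i) (CoalgebraStruct.comul (R := R) c) = π i c ∧
      lslice (φ i) (CoalgebraStruct.comul (R := R) c) = π i c := by
    intro i c
    have hcu1 : ∀ d : C, slice (CoalgebraStruct.counit (R := R) (A := C)) (CoalgebraStruct.comul (R := R) d) = d := by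
      intro d
      have := congrArg (TensorProduct.rid R C) (Coalgebra.lTensor_counit_comul (R := R) d)
      simpa [slice] using this
    have hcu2 : ∀ d : C, lslice (CoalgebraStruct.counit (R := R) (A := C)) (CoalgebraStruct.comul (R := R) d) = d := by
      intro d
      have := congrArg (TensorProduct.lid R C) (Coalgebra.rTensor_counit_comul (R := R) d)
      simpa [lslice] using this
    have hmem : c ∈ ⨆ j, D j := htop ▸ Submodule.mem_top
    induction hmem using Submodule.iSup_induction' with
    | mem j d hd =>
      obtain ⟨y, hy⟩ := hD j d hd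
      have e1 : slice (φ i) (CoalgebraStruct.comul (R := R) d) =
          if j = i then slice (CoalgebraStruct.counit (R := R) (A := C)) (CoalgebraStruct.comul (R := R) d) else 0 := by
        rw [← hy]
        clear hy
        induction y using TensorProduct.induction_on with
        | zero => simp
        | add a b ha hb => rw [map_add, map_add, ha, hb]; split_ifs <;> simp
        | tmul a b =>
          simp only [TensorProduct.map_tmul, slice_tmul, φ, LinearMap.comp_apply]
          rw [← LinearMap.comp_apply (π i), hsub]
          split_ifs <;> simp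
      have e2 : lslice (φ i) (CoalgebraStruct.comul (R := R) d) =
          if j = i then lslice (CoalgebraStruct.counit (R := R) (A := C)) (CoalgebraStruct.comul (R := R) d) else 0 := by
        rw [← hy]
        clear hy e1
        induction y using TensorProduct.induction_on with
        | zero => simp
        | add a b ha hb => rw [map_add, map_add, ha, hb]; split_ifs <;> simp
        | tmul a b =>
          simp only [TensorProduct.map_tmul, lslice_tmul, φ, LinearMap.comp_apply]
          rw [← LinearMap.comp_apply (π i), hsub]
          split_ifs <;> simp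
      rw [e1, e2, hcu1, hcu2]
      split_ifs with h
      · subst h; simp [hπself _ d hd]
      · simp [hπne i j h d hd]
    | zero => simp
    | add a b _ _ ha hb => simp only [map_add, ha, hb, and_self]
  let ρ := HopfRep.Comod.coact (k := R) (A := C) (V := V)
  have hE1 : ∀ i v, ρ (act (φ i) v) = (π i).lTensor V (ρ v) := by
    intro i v
    rw [show π i = act (φ i) from LinearMap.ext fun c => (hΔ i c).1.symm]
    exact coact_act (φ i) v
  have hE2 : ∀ i v, (act (φ i)).rTensor C (ρ v) = (π i).lTensor V (ρ v) := by
    intro i v
    rw [show π i = lslice (φ i) ∘ₗ CoalgebraStruct.comul (R := R) from LinearMap.ext fun c => (hΔ i c).2.symm,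
      LinearMap.lTensor_comp_apply]
    have h := LinearMap.congr_fun (HopfRep.Comod.coassoc (k := R) (A := C) (V := V)) v
    simp only [LinearMap.comp_apply, LinearEquiv.coe_coe] at h
    simp only [ρ, ← h]
    generalize HopfRep.Comod.coact (k := R) (A := C) v = x
    induction x using TensorProduct.induction_on with
    | zero => simp
    | add a b ha hb => simp only [map_add, ha, hb]
    | tmul a b =>
      simp only [LinearMap.rTensor_tmul, act_apply]
      generalize HopfRep.Comod.coact (k := R) (A := C) a = y
      induction y using TensorProduct.induction_on with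
      | zero => simp
      | add c d hc hd => simp only [map_add, TensorProduct.add_tmul, hc, hd]
      | tmul c d => simp [TensorProduct.smul_tmul]
  let Vi : ι → Submodule R V := fun i => (LinearMap.range (LinearMap.lTensor V (D i).subtype)).comap ρ
  have hfix : ∀ i v, v ∈ Vi i ↔ (π i).lTensor V (ρ v) = ρ v := by
    intro i v
    constructor
    · rintro ⟨y, hy⟩
      rw [← hy, ← LinearMap.lTensor_comp_apply, hsub, if_pos rfl]
    · intro h
      refine ⟨((D i).projectionOnto _ (hc i)).lTensor V (ρ v), ?_⟩
      rw [← LinearMap.lTensor_comp_apply]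
      exact h
  have hEmem : ∀ i v, act (φ i) v ∈ Vi i := by
    intro i v
    rw [hfix, hE1, ← LinearMap.lTensor_comp_apply]
    congr 2
    ext c
    exact hπself i _ (hπmem i c)
  have hEself : ∀ i, ∀ v ∈ Vi i, act (φ i) v = v := by
    intro i v hv
    rw [act_apply]
    change slice (CoalgebraStruct.counit (R := R) (A := C) ∘ₗ π i) (ρ v) = v
    rw [← slice_lTensor, (hfix i v).1 hv]
    exact act_counit v
  have hEne : ∀ i j, j ≠ i → ∀ v ∈ Vi j, act (φ i) v = 0 := by
    intro i j hji v hv
    obtain ⟨y, hy⟩ := hv
    rw [act_apply]
    change slice (CoalgebraStruct.counit (R := R) (A := C) ∘ₗ π i) (ρ v) = 0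
    rw [← slice_lTensor, ← hy, ← LinearMap.lTensor_comp_apply, hsub, if_neg hji]
    simp
  have hsum : ∀ x : V ⊗[R] C, ∃ s : Finset ι, ∀ t, s ⊆ t → ∑ i ∈ t, (π i).lTensor V x = x := by
    intro x
    induction x using TensorProduct.induction_on with
    | zero => exact ⟨∅, fun t _ => by simp⟩
    | add a b ha hb =>
      obtain ⟨s, hs⟩ := ha
      obtain ⟨s', hs'⟩ := hb
      refine ⟨s ∪ s', fun t ht => ?_⟩
      simp only [map_add, Finset.sum_add_distrib]
      rw [hs t (Finset.union_subset_left ht), hs' t (Finset.union_subset_right ht)]
    | tmul a c =>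
      have key : ∃ s : Finset ι, ∀ t, s ⊆ t → ∑ i ∈ t, π i c = c := by
        have hmem : c ∈ ⨆ j, D j := htop ▸ Submodule.mem_top
        induction hmem using Submodule.iSup_induction' with
        | mem j d hd =>
          refine ⟨{j}, fun t ht => ?_⟩
          rw [Finset.sum_eq_single j (fun i _ hij => hπne i j hij.symm d hd)
            (fun h => absurd (ht (Finset.mem_singleton_self j)) h), hπself j d hd]
        | zero => exact ⟨∅, fun t _ => by simp⟩
        | add a b _ _ ha hb =>
          obtain ⟨s, hs⟩ := ha
          obtain ⟨s', hs'⟩ := hb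
          refine ⟨s ∪ s', fun t ht => ?_⟩
          simp only [map_add, Finset.sum_add_distrib]
          rw [hs t (Finset.union_subset_left ht), hs' t (Finset.union_subset_right ht)]
      obtain ⟨s, hs⟩ := key
      exact ⟨s, fun t ht => by simp only [LinearMap.lTensor_tmul, ← TensorProduct.tmul_sum, hs t ht]⟩
  refine ⟨fun i v hv => ?_, fun i => ?_, ?_, fun i v hv => ?_⟩
  · refine ⟨((act (φ i)).codRestrict (Vi i) (hEmem i)).rTensor C (ρ v), ?_⟩
    rw [← LinearMap.rTensor_comp_apply]
    exact (hE2 i v).trans ((hfix i v).1 hv)
  · rw [Submodule.disjoint_def]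
    intro v hv hv'
    have h0 : act (φ i) v = 0 := by
      have hle : (⨆ (j : ι) (_ : j ≠ i), Vi j) ≤ LinearMap.ker (act (φ i)) :=
        iSup₂_le fun j hj w hw => hEne i j hj w hw
      exact hle hv'
    exact (hEself i v hv).symm.trans h0
  · refine eq_top_iff.2 fun v _ => ?_
    obtain ⟨s, hs⟩ := hsum (ρ v)
    have : v = ∑ i ∈ s, act (φ i) v := by
      conv_lhs => rw [← act_counit (k := R) (C := C) v, act_apply]
      change slice _ (ρ v) = _
      rw [← hs s subset_rfl, map_sum]
      refine Finset.sum_congr rfl fun i _ => ?_
      rw [slice_lTensor]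
      rfl
    rw [this]
    exact Submodule.sum_mem _ fun i _ => Submodule.mem_iSup_of_mem i (hEmem i v)
  · refine ⟨TensorProduct.map ((act (φ i)).codRestrict (Vi i) (hEmem i))
      ((D i).projectionOnto _ (hc i)) (ρ v), ?_⟩
    rw [TensorProduct.map_map]
    change TensorProduct.map (act (φ i)) (π i) (ρ v) = ρ v
    rw [← LinearMap.lTensor_comp_rTensor, LinearMap.comp_apply, hE2, (hfix i v).1 hv, (hfix i v).1 hv]

end Groth.Agent.S14844
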