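import Groth.Statements.S14846
import Mathlib
-- import your own Groth.Agent.* helpers here

set_option autoImplicit false
universe u v w
open Brauer

namespace Groth.Agent.S14846

open TensorProduct in
/-- Let L/K be a Galois extension with group Γ = Aut_K(L), and A a K-algebra which is a simple ring. If
L ⊗_K A is semisimple, then Γ, acting on L ⊗_K A through the first tensor factor, permutes its
simple components, i.e. its minimal nonzero two-sided ideals, transitively: any minimal two-sided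
ideal is carried onto any other by some γ ⊗ id. -/
theorem result
    {K : Type u} {L : Type v} [Field K] [Field L] [Algebra K L] [IsGalois K L]
    {A : Type w} [Ring A] [Algebra K A] [IsSimpleRing A]
    [IsSemisimpleRing (L ⊗[K] A)]
    (I J : TwoSidedIdeal (L ⊗[K] A)) (hI : IsAtom I) (hJ : IsAtom J) :
    ∃ γ : L ≃ₐ[K] L, (J : Set (L ⊗[K] A)) =
      Algebra.TensorProduct.map (γ : L →ₐ[K] L) (AlgHom.id K A) '' (I : Set (L ⊗[K] A)) := by
  classical
  let φ : (L ≃ₐ[K] L) → (L ⊗[K] A →+* L ⊗[K] A) := fun γ =>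
    (Algebra.TensorProduct.map (γ : L →ₐ[K] L) (AlgHom.id K A)).toRingHom
  have hφt : ∀ γ (l : L) (a : A), φ γ (l ⊗ₜ[K] a) = γ l ⊗ₜ[K] a := fun γ l a => rfl
  have hφc : ∀ (γ δ : L ≃ₐ[K] L) x, φ γ (φ δ x) = φ (δ.trans γ) x := fun γ δ x => by
    induction x using TensorProduct.induction_on with
    | zero => simp
    | add a b ha hb => simp only [map_add, ha, hb]
    | tmul l a => simp [hφt]
  have hφ1 : ∀ x, φ AlgEquiv.refl x = x := fun x => by
    induction x using TensorProduct.induction_on with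
    | zero => simp
    | add a b ha hb => simp only [map_add, ha, hb]
    | tmul l a => simp [hφt]
  have hinv : ∀ (γ : L ≃ₐ[K] L) x, φ γ (φ γ.symm x) = x := fun γ x => by
    rw [hφc, show γ.symm.trans γ = AlgEquiv.refl from AlgEquiv.ext fun y => γ.apply_symm_apply y, hφ1]
  have hinv' : ∀ (γ : L ≃ₐ[K] L) x, φ γ.symm (φ γ x) = x := fun γ x => by
    rw [hφc, show γ.trans γ.symm = AlgEquiv.refl from AlgEquiv.ext fun y => γ.symm_apply_apply y, hφ1]
  -- translates of `I`
  let tr : (L ≃ₐ[K] L) → TwoSidedIdeal (L ⊗[K] A) := fun γ => TwoSidedIdeal.comap (φ γ.symm) I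
  have htr : ∀ γ x, x ∈ tr γ ↔ φ γ.symm x ∈ I := fun γ x => TwoSidedIdeal.mem_comap _
  have hle : ∀ γ, J ≤ tr γ → J = tr γ := fun γ h => by
    let J' : TwoSidedIdeal (L ⊗[K] A) := TwoSidedIdeal.comap (φ γ) J
    have hJ' : J' ≤ I := fun x hx => by
      have := (htr γ _).1 (h ((TwoSidedIdeal.mem_comap _).1 hx))
      rwa [hinv'] at this
    rcases hI.le_iff.1 hJ' with e | e
    · exfalso
      refine hJ.1 (le_antisymm (fun x hx => ?_) bot_le)
      have : φ γ.symm x ∈ J' := (TwoSidedIdeal.mem_comap _).2 (by rw [hinv]; exact hx)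
      rw [e, TwoSidedIdeal.mem_bot] at this
      rw [TwoSidedIdeal.mem_bot, ← hinv γ x, this, map_zero]
    · refine le_antisymm h fun x hx => ?_
      have : φ γ.symm x ∈ J' := by rw [e]; exact (htr γ x).1 hx
      have := (TwoSidedIdeal.mem_comap _).1 this
      rwa [hinv] at this
  by_contra hne
  push Not at hne
  have hdis : ∀ γ, J ⊓ tr γ = ⊥ := fun γ => by
    rcases hJ.le_iff.1 (inf_le_left : J ⊓ tr γ ≤ J) with e | e
    · exact e
    · refine absurd ?_ (hne γ)
      rw [hle γ (inf_eq_left.1 e)]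
      ext x
      refine ⟨fun hx => ⟨φ γ.symm x, (htr γ x).1 hx, hinv γ x⟩, ?_⟩
      rintro ⟨y, hy, rfl⟩
      exact (htr γ _).2 (by show φ γ.symm (φ γ y) ∈ I; rwa [hinv'])
  -- the stable ideal
  let T : TwoSidedIdeal (L ⊗[K] A) := TwoSidedIdeal.span (⋃ γ, (tr γ : Set (L ⊗[K] A)))
  have hann : ∀ x ∈ T, ∀ j ∈ J, j * x = 0 := by
    intro x hx
    induction hx using TwoSidedIdeal.span_induction with
    | mem y hy =>
      obtain ⟨γ, hγ⟩ := Set.mem_iUnion.1 hy
      intro j hj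
      have : j * y ∈ J ⊓ tr γ := ⟨J.mul_mem_right _ _ hj, (tr γ).mul_mem_left _ _ hγ⟩
      rwa [hdis γ, TwoSidedIdeal.mem_bot] at this
    | zero => intro j _; rw [mul_zero]
    | add a b _ _ ha hb => intro j hj; rw [mul_add, ha j hj, hb j hj, add_zero]
    | neg a _ ha => intro j hj; rw [mul_neg, ha j hj, neg_zero]
    | left_absorb r a _ ha => intro j hj; rw [← mul_assoc, ha _ (J.mul_mem_right _ _ hj)]
    | right_absorb r a _ ha => intro j hj; rw [← mul_assoc, ha j hj, zero_mul]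
  have hstab : ∀ (σ : L ≃ₐ[K] L) x, x ∈ T → φ σ x ∈ T := by
    intro σ x hx
    refine (TwoSidedIdeal.mem_comap (φ σ)).1 ((TwoSidedIdeal.span_le (I := TwoSidedIdeal.comap (φ σ) T)).2 ?_ hx)
    intro y hy
    obtain ⟨γ, hγ⟩ := Set.mem_iUnion.1 hy
    refine (TwoSidedIdeal.mem_comap _).2 (TwoSidedIdeal.subset_span (Set.mem_iUnion.2 ⟨γ.trans σ, ?_⟩))
    refine (htr _ _).2 ?_
    rw [hφc, show σ.trans (γ.trans σ).symm = γ.symm from AlgEquiv.ext fun z => by simp]
    exact (htr γ y).1 hγ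
  -- a fixed element
  let b := Module.Free.chooseBasis K A
  let e := TensorProduct.equivFinsuppOfBasisRight (M := L) b
  have hsm : ∀ (c : L) x i, e ((c ⊗ₜ[K] (1 : A)) * x) i = c * e x i := fun c x i => by
    induction x using TensorProduct.induction_on with
    | zero => simp
    | add u v hu hv => rw [mul_add, map_add, Finsupp.add_apply, hu, hv, map_add, Finsupp.add_apply, mul_add]
    | tmul l a => simp [e, Algebra.TensorProduct.tmul_mul_tmul]
  have heσ : ∀ (σ : L ≃ₐ[K] L) x i, e (φ σ x) i = σ (e x i) := fun σ x i => by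
    induction x using TensorProduct.induction_on with
    | zero => simp
    | add u v hu hv => simp only [map_add, Finsupp.add_apply, hu, hv]
    | tmul l a => simp [e, hφt]
  obtain ⟨y, hyI, hy0⟩ : ∃ y ∈ I, y ≠ 0 := by
    by_contra hc
    push Not at hc
    exact hI.1 (le_antisymm (fun x hx => by rw [TwoSidedIdeal.mem_bot]; exact hc x hx) bot_le)
  have hyT : y ∈ T := TwoSidedIdeal.subset_span (Set.mem_iUnion.2 ⟨AlgEquiv.refl, (htr _ _).2 (by
    rw [show (AlgEquiv.refl : L ≃ₐ[K] L).symm = AlgEquiv.refl from rfl, hφ1]; exact hyI)⟩)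
  obtain ⟨x, ⟨hxT, hx0⟩, hmin⟩ : ∃ x, (x ∈ T ∧ x ≠ 0) ∧ ∀ z, z ∈ T ∧ z ≠ 0 → (e x).support.card ≤ (e z).support.card := by
    have hex : ∃ n, ∃ z, (z ∈ T ∧ z ≠ 0) ∧ (e z).support.card = n := ⟨_, y, ⟨hyT, hy0⟩, rfl⟩
    obtain ⟨z, hz, hzn⟩ := Nat.find_spec hex
    exact ⟨z, hz, fun w hw => hzn ▸ Nat.find_le ⟨w, hw, rfl⟩⟩
  obtain ⟨i₀, hi₀⟩ : ∃ i, e x i ≠ 0 := by
    by_contra hc
    push Not at hc
    exact hx0 (e.injective (Finsupp.ext fun i => by simpa using hc i))
  let x₁ := ((e x i₀)⁻¹ ⊗ₜ[K] (1 : A)) * x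
  have hx₁ : e x₁ i₀ = 1 := by rw [hsm, inv_mul_cancel₀ hi₀]
  have hx₁T : x₁ ∈ T := T.mul_mem_left _ _ hxT
  have hsupp : (e x₁).support ⊆ (e x).support := fun i hi => by
    rw [Finsupp.mem_support_iff, hsm] at hi
    exact Finsupp.mem_support_iff.2 (right_ne_zero_of_mul hi)
  have hfix : ∀ σ : L ≃ₐ[K] L, φ σ x₁ = x₁ := by
    intro σ
    by_contra hc
    have hlt := hmin (φ σ x₁ - x₁) ⟨sub_mem (hstab σ _ hx₁T) hx₁T, sub_ne_zero.2 hc⟩
    refine absurd (Finset.card_lt_card ?_) (not_lt.2 hlt)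
    refine Finset.ssubset_iff_of_subset ?_ |>.2 ⟨i₀, Finsupp.mem_support_iff.2 hi₀, ?_⟩
    · intro i hi
      rw [Finsupp.mem_support_iff, map_sub, Finsupp.sub_apply, heσ] at hi
      refine hsupp (Finsupp.mem_support_iff.2 fun h => hi ?_)
      rw [h, map_zero, sub_zero]
    · rw [Finsupp.mem_support_iff, not_not, map_sub, Finsupp.sub_apply, heσ, hx₁, map_one, sub_self]
  have hcoef : ∀ i, ∃ c : K, algebraMap K L c = e x₁ i := fun i =>
    (InfiniteGalois.mem_range_algebraMap_iff_fixed _).2 fun σ => by rw [← heσ, hfix]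
  choose c hc using hcoef
  let a : A := ∑ i ∈ (e x₁).support, c i • b i
  have hxa : (1 : L) ⊗ₜ[K] a = x₁ := e.injective (Finsupp.ext fun j => by
    have hr : b.repr a j = if j ∈ (e x₁).support then c j else 0 := by
      simp [a, Finsupp.single_apply]
    show e ((1 : L) ⊗ₜ[K] a) j = e x₁ j
    rw [show e ((1 : L) ⊗ₜ[K] a) j = b.repr a j • (1 : L) from
      TensorProduct.equivFinsuppOfBasisRight_apply_tmul_apply _ _ _ _, hr]
    split_ifs with h
    · rw [Algebra.smul_def, mul_one, hc]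
    · rw [zero_smul, Finsupp.notMem_support_iff.1 h])
  have ha0 : a ≠ 0 := fun h => by
    rw [h, TensorProduct.tmul_zero] at hxa
    rw [← hxa, map_zero, Finsupp.zero_apply] at hx₁
    exact zero_ne_one hx₁
  have h1 : (1 : L ⊗[K] A) ∈ T := by
    let P : TwoSidedIdeal A :=
      TwoSidedIdeal.comap (Algebra.TensorProduct.includeRight : A →ₐ[K] L ⊗[K] A) T
    have haP : a ∈ P := (TwoSidedIdeal.mem_comap _).2 (by
      rw [Algebra.TensorProduct.includeRight_apply, hxa]; exact hx₁T)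
    have hP : P = ⊤ := (IsSimpleRing.simple.eq_bot_or_eq_top P).resolve_left fun h => ha0 (by
      rw [h, TwoSidedIdeal.mem_bot] at haP; exact haP)
    have : (1 : A) ∈ P := by rw [hP]; trivial
    simpa [Algebra.TensorProduct.one_def] using (TwoSidedIdeal.mem_comap _).1 this
  refine hJ.1 (le_antisymm (fun j hj => ?_) bot_le)
  rw [TwoSidedIdeal.mem_bot, ← mul_one j]
  exact hann 1 h1 j hj


end Groth.Agent.S14846
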