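import Groth.Statements.S14847
import Groth.Agent.ComodBasic.Integral
import Groth.Agent.ComodBasic.Coalg
import Mathlib.Algebra.CharP.Defs

set_option autoImplicit false
universe u v
open HopfRep

namespace Groth.Agent.S14847

open Groth.Agent.ComodBasic

open TensorProduct in
/-- When K is a field of characteristic zero and G = Spec A is a finite group scheme over K, the
coordinate Hopf algebra A is cosemisimple, i.e. A is the internal direct sum of simple
subcoalgebras. Here a subcoalgebra of A is a subspace B whose comultiplication lands in the image of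
B ⊗ B, and a simple subcoalgebra is a nonzero subcoalgebra D whose only subcoalgebras contained in D
are 0 and D. -/
theorem result {K : Type u} {A : Type v} [Field K] [CharZero K]
    [CommRing A] [HopfAlgebra K A] [Module.Finite K A] :
    ∃ (ι : Type v) (D : ι → Submodule K A), iSupIndep D ∧ iSup D = ⊤ ∧ ∀ i,
        D i ≠ ⊥ ∧ (∀ b ∈ (D i), CoalgebraStruct.comul (R := K) b ∈ LinearMap.range (TensorProduct.map (D i).subtype (D i).subtype)) ∧
        ∀ B : Submodule K A, B ≤ D i → (∀ b ∈ B, CoalgebraStruct.comul (R := K) b ∈ LinearMap.range (TensorProduct.map B.subtype B.subtype)) → B = ⊥ ∨ B = D i := by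
  haveI : Nontrivial A := RingHom.domain_nontrivial (Bialgebra.counitAlgHom K A).toRingHom
  have hd : (Module.finrank K A : K) ≠ 0 := Nat.cast_ne_zero.2 Module.finrank_pos.ne'
  let α : A →ₗ[K] K := (Module.finrank K A : K)⁻¹ • Algebra.trace K A
  have hα : IsLeftInt α := by
    intro x
    rw [slice_smul, isLeftInt_trace x, smul_smul]
    rfl
  have h1 : α 1 = 1 := by
    simp only [α, LinearMap.smul_apply, smul_eq_mul]
    rw [← map_one (algebraMap K A), Algebra.trace_algebraMap, nsmul_one, inv_mul_cancel₀ hd]
  haveI : IsSemisimpleModule (Cv K A) A := isSemisimpleModule_of_isLeftInt hα h1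
  exact exists_decomposition

end Groth.Agent.S14847
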