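import Groth.Statements.S14848
import Groth.Agent.McKayLib.Rot

set_option autoImplicit false
universe u v
open McKay

namespace Groth.Agent.S14848

/-- Let K be a field of characteristic zero, L an extension field of K and ξ ∈ L a primitive n-th root
of unity (n ≥ 1) with ξ + ξ⁻¹ ∈ K, say ξ + ξ⁻¹ = 2c with c ∈ K (the character of the natural
two-dimensional representation of the cyclic group of order n takes values in K). Then the cyclic
group of order n is realisable over K as a subgroup of SL(2, K): there is an element of SL(2, K) of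
order n. -/
theorem result {K : Type u} {L : Type v} [Field K] [Field L]
    [CharZero K] [Algebra K L] (n : ℕ) (hn : 1 ≤ n) (ξ : L) (hξ : IsPrimitiveRoot ξ n) (c : K)
    (hc : algebraMap K L (2 * c) = ξ + ξ⁻¹) :
    ∃ M : Matrix.SpecialLinearGroup (Fin 2) K, orderOf M = n := by
  classical
  have hξ0 : ξ ≠ 0 := hξ.ne_zero (by omega)
  by_cases h2 : ξ = ξ⁻¹
  · have hsq : ξ ^ 2 = 1 := by rw [sq]; nth_rw 2 [h2]; exact mul_inv_cancel₀ hξ0
    have hdvd : n ∣ 2 := hξ.dvd_of_pow_eq_one 2 hsq
    rcases (Nat.dvd_prime Nat.prime_two).mp hdvd with rfl | rfl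
    · exact ⟨1, orderOf_one⟩
    · let M : Matrix.SpecialLinearGroup (Fin 2) K := ⟨-1, by rw [Matrix.det_neg]; simp⟩
      refine ⟨M, orderOf_eq_prime_iff.mpr ⟨Subtype.ext (by rw [Matrix.SpecialLinearGroup.coe_pow, Matrix.SpecialLinearGroup.coe_one]; show (-1 : Matrix (Fin 2) (Fin 2) K) ^ 2 = 1; rw [neg_one_sq]), fun h => ?_⟩⟩
      have := congrFun (congrFun (congrArg Subtype.val h) 0) 0
      simp [M] at this
      norm_num at this
  · obtain ⟨h1, -⟩ := Groth.Agent.McKayLib.rot_pow_spec hξ0 h2 hc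
    refine ⟨Groth.Agent.McKayLib.rot c, ?_⟩
    rw [hξ.eq_orderOf]
    exact orderOf_eq_orderOf_iff.mpr h1

end Groth.Agent.S14848
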