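import Groth.Statements.S14849
import Groth.Agent.McKayLib.Rot

set_option autoImplicit false
universe u v
open McKay

namespace Groth.Agent.S14849

/-- Let K be a field of characteristic zero, L an extension field of K, n ≥ 2, and ξ ∈ L a primitive
2n-th root of unity with ξ + ξ⁻¹ = 2c for some c ∈ K. If the Hilbert symbol of -1 and c² - 1 over K
equals 1, i.e. x² - (c² - 1) y² = -1 has a solution in K, then the binary dihedral group of order 4n
(generators σ, τ with τ² = σⁿ = (τσ)²) is isomorphic to a subgroup of SL(2, K). (The published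
statement is an equivalence; this row is the direction realising the group from a solution of the
conic.) -/
theorem result {K : Type u} {L : Type v}
    [Field K] [Field L] [CharZero K] [Algebra K L] (n : ℕ) (hn : 2 ≤ n) (ξ : L)
    (hξ : IsPrimitiveRoot ξ (2 * n)) (c : K) (hc : algebraMap K L (2 * c) = ξ + ξ⁻¹)
    (hsol : ∃ x y : K, x ^ 2 - (c ^ 2 - 1) * y ^ 2 = -1) :
    ∃ f : QuaternionGroup n →* Matrix.SpecialLinearGroup (Fin 2) K, Function.Injective f := by
  obtain ⟨x, y, hxy⟩ := hsol
  have hξ0 : ξ ≠ 0 := hξ.ne_zero (by omega)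
  have hne : ξ ≠ ξ⁻¹ := fun h => by
    have hsq : ξ ^ 2 = 1 := by rw [sq]; nth_rw 2 [h]; exact mul_inv_cancel₀ hξ0
    have := Nat.le_of_dvd two_pos (hξ.dvd_of_pow_eq_one 2 hsq)
    omega
  obtain ⟨h1, hneg⟩ := Groth.Agent.McKayLib.rot_pow_spec hξ0 hne hc
  let σ : Matrix.SpecialLinearGroup (Fin 2) K := Groth.Agent.McKayLib.rot c
  let τ : Matrix.SpecialLinearGroup (Fin 2) K := ⟨!![x, -((c ^ 2 - 1) * y); y, -x], by
    rw [Matrix.det_fin_two_of]; linear_combination -hxy⟩
  have hord : orderOf σ = 2 * n := by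
    rw [hξ.eq_orderOf]; exact orderOf_eq_orderOf_iff.mpr h1
  have hn0 : NeZero (2 * n) := ⟨by omega⟩
  let e : ZMod (2 * n) → Matrix.SpecialLinearGroup (Fin 2) K := fun i => σ ^ i.val
  have eadd : ∀ i j, e (i + j) = e i * e j := fun i j => by
    simp only [e, ← pow_add, ZMod.val_add]
    conv_rhs => rw [← pow_mod_orderOf, hord]
  have e0 : e 0 = 1 := by simp [e]
  have eneg : ∀ i, e (-i) = (e i)⁻¹ := fun i => eq_inv_of_mul_eq_one_left (by rw [← eadd, neg_add_cancel, e0])
  have einj : Function.Injective e := fun i j h => by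
    refine ZMod.val_injective _ (pow_injOn_Iio_orderOf ?_ ?_ h) <;>
      simp [hord, ZMod.val_lt]
  have hneg1 : ξ ^ n = -1 := by
    have h := hξ.pow_eq_one
    rw [mul_comm, pow_mul, sq_eq_one_iff] at h
    refine h.resolve_left fun he => ?_
    have := Nat.le_of_dvd (by omega) (hξ.dvd_of_pow_eq_one n he)
    omega
  have hen : e n = σ ^ n := by
    simp only [e]; rw [ZMod.val_natCast, Nat.mod_eq_of_lt (by omega)]
  have hτ2 : τ * τ = e n := by
    apply Subtype.ext
    rw [hen, hneg n hneg1, Matrix.SpecialLinearGroup.coe_mul]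
    ext i j
    fin_cases i <;> fin_cases j <;> simp [τ, Matrix.mul_apply, Fin.sum_univ_two] <;> first | linear_combination hxy | linear_combination -hxy | ring
  have hcomm : σ * τ * σ = τ := by
    apply Subtype.ext
    rw [Matrix.SpecialLinearGroup.coe_mul, Matrix.SpecialLinearGroup.coe_mul]
    ext i j
    fin_cases i <;> fin_cases j <;>
      simp [σ, τ, Groth.Agent.McKayLib.rot, Matrix.mul_apply, Fin.sum_univ_two] <;> ring
  have hswap : ∀ m : ℕ, σ ^ m * τ = τ * (σ ^ m)⁻¹ := by
    intro m
    induction m with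
    | zero => simp
    | succ m ih =>
      have h' : σ * τ = τ * σ⁻¹ := eq_mul_inv_of_mul_eq hcomm
      rw [pow_succ, mul_assoc, h', ← mul_assoc, ih, mul_inv_rev, mul_assoc, ← mul_inv_rev, ← mul_inv_rev, ← pow_succ, ← pow_succ']
  let F : QuaternionGroup n → Matrix.SpecialLinearGroup (Fin 2) K
    | .a i => e i
    | .xa i => τ * e i
  have hswap' : ∀ i, e i * τ = τ * e (-i) := fun i => by rw [eneg]; exact hswap _
  refine ⟨MonoidHom.mk' F ?_, ?_⟩
  · rintro (i | i) (j | j)
    · exact eadd i j
    · show τ * e (j - i) = e i * (τ * e j)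
      rw [← mul_assoc, hswap', mul_assoc, ← eadd, neg_add_eq_sub]
    · show τ * e (i + j) = τ * e i * e j
      rw [eadd, mul_assoc]
    · show e ((n : ZMod (2 * n)) + j - i) = τ * e i * (τ * e j)
      rw [← mul_assoc, mul_assoc τ (e i) τ, hswap', ← mul_assoc, hτ2, ← eadd, ← eadd]
      congr 1
      abel
  · have hmix : ∀ i j, e i ≠ τ * e j := fun i j h => by
      have hτe : τ = e (i - j) := by
        rw [sub_eq_add_neg, eadd, eneg, h, mul_inv_cancel_right]
      have hc2 := hswap' 1
      rw [hτe, ← eadd, ← eadd] at hc2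
      have h2 : ((2 : ℕ) : ZMod (2 * n)) = 0 := by
        have := einj hc2
        push_cast
        linear_combination this
      rw [ZMod.natCast_eq_zero_iff] at h2
      have := Nat.le_of_dvd two_pos h2
      omega
    rintro (i | i) (j | j) h
    · exact congrArg _ (einj h)
    · exact absurd h (hmix i j)
    · exact absurd h.symm (hmix j i)
    · exact congrArg _ (einj (mul_left_cancel h))

end Groth.Agent.S14849
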