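import Groth.Statements.S14850
import Groth.Agent.ComodBasic.Coalg
import Groth.Prelude.Def_ComodSub

set_option autoImplicit false
universe u v
open HopfRep

namespace Groth.Agent.S14850

open Groth.Agent.ComodBasic

open TensorProduct in
/-- Over a field K, a nonzero coalgebra C is simple if and only if C is isotypic as a right comodule
over itself, i.e. C is the internal direct sum of the images of a family of injective comodule maps
from one simple right C-comodule E. Here a subcoalgebra of C is a subspace B whose comultiplication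
lands in the image of B ⊗ B, and C is simple when its only subcoalgebras are 0 and C. (Stated for
the right regular comodule; the published statement allows left or right.) -/
theorem result {K : Type u} {C : Type v} [Field K] [AddCommGroup C]
    [Module K C] [Coalgebra K C] [Nontrivial C] :
    (∀ B : Submodule K C, (∀ b ∈ B, CoalgebraStruct.comul (R := K) b ∈ LinearMap.range (TensorProduct.map B.subtype B.subtype)) → B = ⊥ ∨ B = ⊤) ↔
    ∃ (E : Type v) (_ : AddCommGroup E) (_ : Module K E) (_ : HopfRep.Comod K C E),
      HopfRep.IsSimpleComod K C E ∧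
      ∃ (ι : Type v) (f : ι → (E →ₗ[K] C)),
        (∀ i, Hoch.IsComodHom C (f i) ∧ Function.Injective (f i)) ∧
        iSupIndep (fun i => LinearMap.range (f i)) ∧ (⨆ i, LinearMap.range (f i)) = ⊤ := by
  constructor
  · intro hs
    haveI : IsSemisimpleModule (Cv K C) C := isSemisimpleModule_of_decomposition
      ⟨PUnit, fun _ => ⊤, by intro i; simp, by simp, fun _ => ⟨top_ne_bot,
        fun b _ => (isSubcoalg_iff _).2 ⟨⊤, fun _ _ _ => Submodule.mem_top, Submodule.restrictScalars_top K _ _⟩ b trivial,
        fun B _ hB => hs B hB⟩⟩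
    have hiso : IsIsotypic (Cv K C) C := isIsotypic_iff_isFullyInvariant_imp_bot_or_top.2 fun N hN => by
      simpa using hs _ (isSubcoalg_restrict hN)
    obtain ⟨s, hind, hsup, hsimp⟩ := IsSemisimpleModule.exists_sSupIndep_sSup_simples_eq_top (Cv K C) C
    obtain ⟨S, -, hS⟩ := exists_simple_le (k := K) (C := C) (V := C) (M := ⊤) (by simp)
    let E := ↥(S.restrictScalars K)
    letI cE : HopfRep.Comod K C E := ComodSub.Comod.restr _ (S.restrictScalars K) (isSubcomod_restrict S)
    let incl : E →ₗ[Cv K C] C := toLin (S.restrictScalars K).subtype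
      (ComodSub.isComodHom_subtype _ (S.restrictScalars K) (isSubcomod_restrict S))
    have hinj : Function.Injective incl := Subtype.val_injective
    have hrange : LinearMap.range incl = S := by
      ext x
      exact ⟨fun ⟨y, hy⟩ => hy ▸ y.2, fun hx => ⟨⟨x, hx⟩, rfl⟩⟩
    let eE : E ≃ₗ[Cv K C] S := (LinearEquiv.ofInjective incl hinj).trans (LinearEquiv.ofEq _ _ hrange)
    haveI : IsSimpleModule (Cv K C) E := IsSimpleModule.congr eE
    have hm : ∀ m : s, Nonempty (E ≃ₗ[Cv K C] m.1) := fun m => by
      haveI := hsimp m.1 m.2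
      haveI := hS
      obtain ⟨e⟩ := hiso m.1 S
      exact ⟨eE.trans e⟩
    choose e he using fun m => (hm m).elim fun e => (⟨e, trivial⟩ : ∃ _e : E ≃ₗ[Cv K C] (m : Submodule (Cv K C) C), True)
    refine ⟨E, inferInstance, inferInstance, cE, isSimpleComod_iff.2 inferInstance, s,
      fun m => (m.1.subtype ∘ₗ (e m).toLinearMap).restrictScalars K, fun m => ⟨isComodHom_restrict _,
        m.1.subtype_injective.comp (e m).injective⟩, ?_⟩
    have hr : (fun m : s => LinearMap.range ((m.1.subtype ∘ₗ (e m).toLinearMap).restrictScalars K)) =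
        fun m : s => m.1.restrictScalars K := by
      funext m
      ext x
      exact ⟨fun ⟨y, hy⟩ => hy ▸ (e m y).2,
        fun hx => ⟨(e m).symm ⟨x, hx⟩, congrArg Subtype.val ((e m).apply_symm_apply ⟨x, hx⟩)⟩⟩
    rw [hr, ← Submodule.restrictScalars_iSup, ← sSup_eq_iSup', hsup, Submodule.restrictScalars_top]
    refine ⟨fun m => ?_, rfl⟩
    have hd := ((sSupIndep_iff s).1 hind) m
    rw [disjoint_iff] at hd ⊢
    simp only [← Submodule.restrictScalars_iSup, ← Submodule.restrictScalars_inf, hd,
      Submodule.restrictScalars_bot]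
  · rintro ⟨E, _, _, _, hE, ι, f, hf, -, hsup⟩ B hB
    haveI := isSimpleComod_iff.1 hE
    let g := fun i => toLin (f i) (hf i).1
    haveI : ∀ m : Set.range (fun i => LinearMap.range (g i)), IsSimpleModule (Cv K C) m := by
      rintro ⟨_, i, rfl⟩
      exact IsSimpleModule.congr (LinearEquiv.ofInjective (g i) (hf i).2).symm
    have htop : sSup (Set.range fun i => LinearMap.range (g i)) = ⊤ := by
      rw [sSup_range, ← Submodule.restrictScalars_eq_top_iff K, Submodule.restrictScalars_iSup]
      exact hsup
    haveI : IsSemisimpleModule (Cv K C) C := isSemisimpleModule_of_isSemisimpleModule_submodule'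
      (p := fun i => LinearMap.range (g i)) (fun i => IsSemisimpleModule.range _) (by rw [← htop, sSup_range])
    have hiso : IsIsotypic (Cv K C) C := by
      refine IsIsotypicOfType.isIsotypic (S := E) fun m _ => ?_
      obtain ⟨_, ⟨i, rfl⟩, ⟨e⟩⟩ := m.linearEquiv_of_sSup_eq_top _ htop
      exact ⟨e.trans (LinearEquiv.ofInjective (g i) (hf i).2).symm⟩
    obtain ⟨M, hM, rfl⟩ := (isSubcoalg_iff B).1 hB
    simpa using isIsotypic_iff_isFullyInvariant_imp_bot_or_top.1 hiso M hM

end Groth.Agent.S14850
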