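import Groth.Statements.S14851
import Groth.Agent.ComodBasic.Coalg

set_option autoImplicit false
universe u v w w'
open HopfRep

namespace Groth.Agent.S14851

open Groth.Agent.ComodBasic

open TensorProduct in
/-- The map E ↦ C(E) from isomorphism classes of simple comodules to simple subcoalgebras is injective,
that is: over a field K, two simple right comodules E, E' over a coalgebra C with the same
coefficient space D (the least subspace D' of C such that the coaction lands in E ⊗ D', resp. E' ⊗
D') are isomorphic as comodules. (The published statement is made for a cosemisimple coalgebra and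
for left comodules; the printed argument for this part uses neither restriction.) -/
theorem result {K : Type u} {C : Type v} [Field K]
    [AddCommGroup C] [Module K C] [Coalgebra K C]
    {E : Type w} [AddCommGroup E] [Module K E] [HopfRep.Comod K C E]
    {E' : Type w'} [AddCommGroup E'] [Module K E'] [HopfRep.Comod K C E']
    (hE : HopfRep.IsSimpleComod K C E) (hE' : HopfRep.IsSimpleComod K C E') (D : Submodule K C)
    (hD : IsLeast {D' : Submodule K C |
      ∀ e : E, HopfRep.Comod.coact (k := K) (A := C) e ∈ LinearMap.range (LinearMap.lTensor E D'.subtype)} D)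
    (hD' : IsLeast {D' : Submodule K C |
      ∀ e : E', HopfRep.Comod.coact (k := K) (A := C) e ∈ LinearMap.range (LinearMap.lTensor E' D'.subtype)} D) :
    ∃ e : E ≃ₗ[K] E', Hoch.IsComodHom C e.toLinearMap := by

  haveI := (isSimpleComod_iff).1 hE
  haveI := (isSimpleComod_iff).1 hE'
  obtain ⟨x, hx⟩ := @exists_ne E' (IsSimpleModule.nontrivial (Cv K C) E') 0
  obtain ⟨g, hg⟩ := exists_hom_ne_zero (k := K) (C := C) hx
  have hg0 : g ≠ 0 := fun h => hg (by rw [h]; rfl)
  haveI : IsSimpleModule (Cv K C) (LinearMap.range g) :=
    IsSimpleModule.congr (LinearEquiv.ofInjective g (LinearMap.injective_of_ne_zero hg0)).symm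
  have heq : coeffSub (k := K) (C := C) E = coeffSub (k := K) (C := C) E' :=
    Submodule.restrictScalars_injective K _ _
      ((eq_coeffSub_of_isLeast hD).symm.trans (eq_coeffSub_of_isLeast hD'))
  have hle : LinearMap.range g ≤ sSup (Set.range fun f : E →ₗ[Cv K C] C => LinearMap.range f) := by
    rw [sSup_range]
    exact (le_coeffSub g).trans heq.ge
  haveI : ∀ m : (Set.range fun f : E →ₗ[Cv K C] C => LinearMap.range f),
      IsSemisimpleModule (Cv K C) m := by
    rintro ⟨_, f, rfl⟩
    exact IsSemisimpleModule.range f
  obtain ⟨_, ⟨f, rfl⟩, T, hT, ⟨e⟩⟩ := Submodule.le_linearEquiv_of_le_sSup (LinearMap.range g) _ hle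
  have hTne : T ≠ ⊥ := fun h => @not_subsingleton _ (IsSimpleModule.nontrivial (Cv K C) (LinearMap.range g))
    (h ▸ e.toEquiv).subsingleton
  have hf0 : f ≠ 0 := fun h => hTne <| le_bot_iff.1 <| hT.trans <| by simp [h]
  let ef := LinearEquiv.ofInjective f (LinearMap.injective_of_ne_zero hf0)
  haveI : IsSimpleModule (Cv K C) (LinearMap.range f) := IsSimpleModule.congr ef.symm
  have hTeq : T = LinearMap.range f := ((isSimpleModule_iff_isAtom.1 this).le_iff_eq hTne).1 hT
  let φ : E ≃ₗ[Cv K C] E' := ef.trans ((LinearEquiv.ofEq _ _ hTeq.symm).trans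
    (e.symm.trans (LinearEquiv.ofInjective g (LinearMap.injective_of_ne_zero hg0)).symm))
  exact ⟨φ.restrictScalars K, isComodHom_restrict φ.toLinearMap⟩

end Groth.Agent.S14851
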