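import Groth.Statements.S14852
import Groth.Agent.ComodBasic.Coalg

set_option autoImplicit false
universe u v w w'
open HopfRep

namespace Groth.Agent.S14852

open Groth.Agent.ComodBasic

open TensorProduct in
/-- Over a field K, let C be a cosemisimple coalgebra and D₁ ≠ D₂ simple subcoalgebras of C. If V is a
right C-comodule whose coaction lands in V ⊗ D₁ and W one whose coaction lands in W ⊗ D₂, then the
only comodule map V → W is zero. Here a subcoalgebra of C is a subspace B whose comultiplication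
lands in the image of B ⊗ B, and a simple subcoalgebra is a nonzero subcoalgebra D whose only
subcoalgebras contained in D are 0 and D; cosemisimple means C is the internal direct sum of a
family of simple subcoalgebras. (The published statement is for quasi-coherent G-sheaves on a scheme
with trivial action of G = Spec C; this row is the statement on spaces of sections to which its
proof reduces.) -/
theorem result {K : Type u} {C : Type v} [Field K]
    [AddCommGroup C] [Module K C] [Coalgebra K C]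
    (hC : ∃ (ι : Type v) (D : ι → Submodule K C), iSupIndep D ∧ iSup D = ⊤ ∧ ∀ i,
        D i ≠ ⊥ ∧ (∀ b ∈ (D i), CoalgebraStruct.comul (R := K) b ∈ LinearMap.range (TensorProduct.map (D i).subtype (D i).subtype)) ∧
        ∀ B : Submodule K C, B ≤ D i → (∀ b ∈ B, CoalgebraStruct.comul (R := K) b ∈ LinearMap.range (TensorProduct.map B.subtype B.subtype)) → B = ⊥ ∨ B = D i)
    (D₁ D₂ : Submodule K C) (hne : D₁ ≠ D₂)
    (h₁ : D₁ ≠ ⊥ ∧ (∀ b ∈ D₁, CoalgebraStruct.comul (R := K) b ∈ LinearMap.range (TensorProduct.map D₁.subtype D₁.subtype)) ∧ ∀ B : Submodule K C, B ≤ D₁ → (∀ b ∈ B, CoalgebraStruct.comul (R := K) b ∈ LinearMap.range (TensorProduct.map B.subtype B.subtype)) → B = ⊥ ∨ B = D₁)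
    (h₂ : D₂ ≠ ⊥ ∧ (∀ b ∈ D₂, CoalgebraStruct.comul (R := K) b ∈ LinearMap.range (TensorProduct.map D₂.subtype D₂.subtype)) ∧ ∀ B : Submodule K C, B ≤ D₂ → (∀ b ∈ B, CoalgebraStruct.comul (R := K) b ∈ LinearMap.range (TensorProduct.map B.subtype B.subtype)) → B = ⊥ ∨ B = D₂)
    {V : Type w} [AddCommGroup V] [Module K V] [HopfRep.Comod K C V]
    {W : Type w'} [AddCommGroup W] [Module K W] [HopfRep.Comod K C W]
    (hV : ∀ v : V, HopfRep.Comod.coact (k := K) (A := C) v ∈ LinearMap.range (LinearMap.lTensor V D₁.subtype))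
    (hW : ∀ w : W, HopfRep.Comod.coact (k := K) (A := C) w ∈ LinearMap.range (LinearMap.lTensor W D₂.subtype))
    (φ : V →ₗ[K] W) (hφ : Hoch.IsComodHom C φ) : φ = 0 := by

  obtain ⟨M₁, hM₁, rfl⟩ := (isSubcoalg_iff D₁).1 h₁.2.1
  obtain ⟨M₂, hM₂, rfl⟩ := (isSubcoalg_iff D₂).1 h₂.2.1
  refine LinearMap.ext fun v => by_contra fun hv => ?_
  obtain ⟨f, hf⟩ := exists_hom_ne_zero (k := K) (C := C) hv
  have ha : f (φ v) ∈ M₁ := (coact_mem_iff _ v).1 (hV v) (f ∘ₗ toLin φ hφ)
  have hb : f (φ v) ∈ M₂ := (coact_mem_iff _ (φ v)).1 (hW (φ v)) f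
  have hinv : (M₁ ⊓ M₂).IsFullyInvariant := fun g x hx => ⟨hM₁ g hx.1, hM₂ g hx.2⟩
  have hbot : (M₁ ⊓ M₂).restrictScalars K = ⊥ := by
    refine (h₁.2.2 _ ((Submodule.restrictScalars_le K).2 inf_le_left) (isSubcoalg_restrict hinv)).resolve_right
      fun h => hne ?_
    refine (h₂.2.2 _ ?_ h₁.2.1).resolve_left h₁.1
    rw [← h]
    exact (Submodule.restrictScalars_le K).2 inf_le_right
  exact hf ((Submodule.mem_bot K).1 (hbot.le ⟨ha, hb⟩))

end Groth.Agent.S14852
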