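import Mathlib
import Groth.Statements.S14856
-- import your own Groth.Agent.* helpers here

set_option autoImplicit false
universe u
open CAlg

namespace Groth.Agent.S14856

/-- Let p be a prime and S a commutative ring in which p is a non-zero-divisor. For a p-typical Witt
vector x over S, a natural number m and an integer s ≥ 1, the power p^s divides each of the Witt
components x_0, …, x_m if and only if p^(n+s) divides the n-th ghost component w_n(x) = x_0^(p^n) +
p x_1^(p^(n-1)) + ⋯ + p^n x_n for every n ≤ m. -/
theorem result (p : ℕ) [Fact p.Prime] (S : Type u) [CommRing S]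
    (hS : ∀ y : S, (p : S) * y = 0 → y = 0) (x : WittVector p S) (m s : ℕ) (hs : 1 ≤ s) :
    (∀ i ≤ m, (p : S) ^ s ∣ x.coeff i) ↔
      (∀ n ≤ m, (p : S) ^ (n + s) ∣ WittVector.ghostComponent n x) := by
  classical
  have hp2 := (Fact.out : p.Prime).two_le
  have hgh : ∀ n, WittVector.ghostComponent n x = ∑ i ∈ Finset.range (n + 1), (p : S) ^ i * x.coeff i ^ p ^ (n - i) := fun n => by
    simp [WittVector.ghostComponent_apply, wittPolynomial_eq_sum_C_mul_X_pow]
  have hterm : ∀ n i, i ≤ n → (p : S) ^ s ∣ x.coeff i → (p : S) ^ (n + s) ∣ (p : S) ^ i * x.coeff i ^ p ^ (n - i) := by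
    intro n i hi hd
    have h1 : n + s ≤ i + s * p ^ (n - i) := by
      have h2 : n - i + 1 ≤ p ^ (n - i) := Nat.lt_pow_self hp2
      have h3 := Nat.mul_le_mul_left s h2
      have h4 : n - i + s ≤ s * (n - i + 1) := by nlinarith
      omega
    refine (pow_dvd_pow _ h1).trans ?_
    rw [pow_add, pow_mul]
    exact mul_dvd_mul_left _ (pow_dvd_pow_of_dvd hd _)
  refine ⟨fun h n hn => ?_, fun h => ?_⟩
  · rw [hgh]
    exact Finset.dvd_sum fun i hi => hterm n i (by rw [Finset.mem_range] at hi; omega) (h i (by rw [Finset.mem_range] at hi; omega))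
  · have hcancel : ∀ (n : ℕ) (a b : S), (p : S) ^ n * a = (p : S) ^ n * b → a = b := by
      intro n
      induction n with
      | zero => simp
      | succ n ih => intro a b hab; rw [pow_succ, mul_assoc, mul_assoc] at hab; exact sub_eq_zero.1 (hS _ (by rw [mul_sub, ih _ _ hab, sub_self]))
    intro n
    induction n using Nat.strong_induction_on with
    | _ n ih =>
      intro hn
      have hw := h n hn
      rw [hgh, Finset.sum_range_succ, Nat.sub_self, pow_zero, pow_one, dvd_add_right (Finset.dvd_sum fun i hi => hterm n i (Finset.mem_range.1 hi).le (ih i (Finset.mem_range.1 hi) ((Finset.mem_range.1 hi).le.trans hn)))] at hw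
      obtain ⟨c, hc⟩ := hw
      exact ⟨c, hcancel n _ _ (by rw [hc, pow_add, mul_assoc])⟩

end Groth.Agent.S14856
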