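import Groth.Statements.S14857
import Mathlib.RingTheory.WittVector.Identities
import Mathlib.RingTheory.WittVector.Domain
-- import your own Groth.Agent.* helpers here

set_option autoImplicit false
open CAlg

namespace Groth.Agent.S14857

/-- For a prime p, the Teichmüller representative [p^p] of the element p^p of the p-adic integers is
divisible by p in the ring of p-typical Witt vectors W(ℤ_p). -/
theorem result (p : ℕ) [Fact p.Prime] :
    (p : WittVector p ℤ_[p]) ∣ WittVector.teichmuller p ((p : ℤ_[p]) ^ p) := by
  have hp : (WittVector.teichmuller p ((p : ℤ_[p]) ^ p)) = (WittVector.teichmuller p (p : ℤ_[p])) ^ p :=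
    map_pow _ _ _
  rw [hp]
  set d : WittVector p ℤ_[p] := WittVector.teichmuller p (p : ℤ_[p]) - (p : WittVector p ℤ_[p]) with hd
  have h0 : d.coeff 0 = 0 := by
    have : WittVector.constantCoeff d = 0 := by
      rw [hd, map_sub, map_natCast (WittVector.constantCoeff (p := p) (R := ℤ_[p]))]
      simp [WittVector.constantCoeff, WittVector.teichmuller_coeff_zero]
    simpa [WittVector.constantCoeff] using this
  have hV : WittVector.verschiebung (d.shift 1) = d := by
    have := WittVector.verschiebung_shift d 0 (fun i hi => by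
      obtain rfl : i = 0 := by omega
      exact h0)
    have h0' : d.shift 0 = d := by
      refine WittVector.ext fun n => ?_
      simp [WittVector.shift]
    exact this.trans h0'
  have hsq : (p : WittVector p ℤ_[p]) ∣ d * d := by
    refine ⟨WittVector.verschiebung (d.shift 1 * d.shift 1), ?_⟩
    conv_lhs => rw [← hV]
    rw [← WittVector.verschiebung_mul_frobenius, WittVector.frobenius_verschiebung, ← mul_assoc,
      mul_comm _ (p : WittVector p ℤ_[p]), ← nsmul_eq_mul, map_nsmul, nsmul_eq_mul]
  obtain ⟨k, hk⟩ := Nat.exists_eq_add_of_le (Fact.out : p.Prime).two_le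
  have hdp : (p : WittVector p ℤ_[p]) ∣ d ^ p :=
    (hsq.trans ⟨d ^ k, by rw [show d ^ p = d ^ (2 + k) by rw [← hk]]; ring⟩)
  have h1 : (p : WittVector p ℤ_[p]) ∣ ((p : WittVector p ℤ_[p]) + d) ^ p - d ^ p := by
    refine dvd_trans ?_ (sub_dvd_pow_sub_pow _ _ p)
    rw [add_sub_cancel_right]
  have := dvd_add h1 hdp
  rwa [sub_add_cancel, hd, add_sub_cancel] at this

end Groth.Agent.S14857
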