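import Groth.Statements.S14858
import Mathlib
import Groth.Agent.S14855
-- import your own Groth.Agent.* helpers here

set_option autoImplicit false
universe u v
open Disp

namespace Groth.Agent.S14858

section
variable {W : Type u} [CommRing W] (I : Ideal W) {P : Type v} [AddCommGroup P] [Module W P]

lemma coord_mem {M : Type v} [AddCommGroup M] [Module W M] (f : M →ₗ[W] W) {m : ℕ} {z : M}
    (hz : z ∈ (I ^ m • ⊤ : Submodule W M)) : f z ∈ I ^ m := by
  have := Submodule.mem_map_of_mem (f := f) hz
  rw [Submodule.map_smul''] at this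
  exact Submodule.smul_le.2 (fun a ha b _ => Ideal.mul_mem_right b _ ha) this

lemma hausdorff_precomplete [IsAdicComplete I W] [Module.Finite W P] [Module.Projective W P] :
    IsAdicComplete I P := by
  obtain ⟨n, f, g, -, -, hfg⟩ := Module.Finite.exists_comp_eq_id_of_projective W P
  have hfg' : ∀ z, f (g z) = z := fun z => LinearMap.congr_fun hfg z
  have hcoord : ∀ (j : Fin n) {m : ℕ} {z : P}, z ∈ (I ^ m • ⊤ : Submodule W P) → g z j ∈ I ^ m :=
    fun j m z hz => coord_mem I (LinearMap.proj j ∘ₗ g) hz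
  have htop : ∀ (m : ℕ), (I ^ m • ⊤ : Submodule W W) = I ^ m := fun m => by
    rw [smul_eq_mul, Ideal.mul_top]
  haveI : IsHausdorff I P := ⟨fun z hz => by
    rw [← hfg' z]
    suffices g z = 0 by rw [this, map_zero]
    funext j
    refine IsHausdorff.haus' (I := I) _ fun m => ?_
    rw [SModEq.zero, htop]
    exact hcoord j (SModEq.zero.1 (hz m))⟩
  haveI : IsPrecomplete I P := ⟨fun x hx => by
    have hL : ∀ j, ∃ L : W, ∀ m, g (x m) j ≡ L [SMOD (I ^ m • ⊤ : Submodule W W)] := fun j => by
      refine IsPrecomplete.prec' (fun m => g (x m) j) fun {a b} hab => ?_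
      rw [SModEq.sub_mem, htop]
      have := hcoord j (SModEq.sub_mem.1 (hx hab))
      simpa using this
    choose L hL using hL
    refine ⟨f L, fun m => ?_⟩
    rw [SModEq.sub_mem]
    have e : x m - f L = ∑ j, (g (x m) j - L j) • f (Pi.single j 1) := by
      conv_lhs => rw [← hfg' (x m), ← map_sub, pi_eq_sum_univ' (g (x m) - L)]
      simp [map_sum, map_smul]
    rw [e]
    refine Submodule.sum_mem _ fun j _ => Submodule.smul_mem_smul ?_ Submodule.mem_top
    rw [← htop m]
    exact SModEq.sub_mem.1 (hL j m)⟩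
  exact ⟨⟩

/-- lift of an idempotent modulo `I` -/
lemma exists_idem [IsAdicComplete I P] (e₀ : Module.End W P)
    (h : ∀ x, (e₀ * e₀ - e₀) x ∈ (I • ⊤ : Submodule W P)) :
    ∃ e : Module.End W P, e * e = e ∧ ∀ x, (e - e₀) x ∈ (I • ⊤ : Submodule W P) := by
  let E : ℕ → Module.End W P := fun n => Nat.rec e₀ (fun _ e => 3 • e ^ 2 - 2 • e ^ 3) n
  have hsmul : ∀ (a : Module.End W P) (m : ℕ), ∀ z ∈ (I ^ m • ⊤ : Submodule W P), a z ∈ (I ^ m • ⊤ : Submodule W P) :=
    fun a m z hz => by
      have := Submodule.mem_map_of_mem (f := a) hz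
      rw [Submodule.map_smul''] at this
      exact Submodule.smul_mono le_rfl le_top this
  have hmul : ∀ (a b : Module.End W P) (m k : ℕ), (∀ x, a x ∈ (I ^ m • ⊤ : Submodule W P)) →
      (∀ x, b x ∈ (I ^ k • ⊤ : Submodule W P)) → ∀ x, (a * b) x ∈ (I ^ (m + k) • ⊤ : Submodule W P) := by
    intro a b m k ha hb x
    have := Submodule.mem_map_of_mem (f := a) (hb x)
    rw [Submodule.map_smul''] at this
    rw [pow_add, mul_comm, Submodule.mul_smul]
    refine Submodule.smul_mono le_rfl ?_ this
    rintro _ ⟨z, -, rfl⟩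
    exact ha z
  have hq : ∀ n, ∀ x, (E n * E n - E n) x ∈ (I ^ (n + 1) • ⊤ : Submodule W P) := by
    intro n
    induction n with
    | zero => simpa [E] using h
    | succ n ih =>
      intro x
      let e := E n
      let q := e * e - e
      have key : E (n + 1) * E (n + 1) - E (n + 1) = (q * q) * (4 • q - 3 • 1) := by
        simp only [E, q, e, pow_succ, pow_zero, one_mul]
        noncomm_ring
      rw [key, Module.End.mul_apply]
      exact Submodule.smul_mono (Ideal.pow_le_pow_right (by omega)) le_rfl (hmul q q _ _ ih ih _)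
  have hd : ∀ n x, (E (n + 1) - E n) x ∈ (I ^ (n + 1) • ⊤ : Submodule W P) := fun n x => by
    have key : E (n + 1) - E n = (E n * E n - E n) * (1 - 2 • E n) := by
      simp only [E, pow_succ, pow_zero, one_mul]
      noncomm_ring
    rw [key, Module.End.mul_apply]
    exact hq n _
  have hcau : ∀ x {m n : ℕ}, m ≤ n → E m x ≡ E n x [SMOD (I ^ m • ⊤ : Submodule W P)] := by
    intro x m n hmn
    induction n, hmn using Nat.le_induction with
    | base => exact SModEq.rfl
    | succ n hmn ih =>
      refine ih.trans (SModEq.sub_mem.2 ?_)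
      rw [← neg_sub]
      exact Submodule.neg_mem _ (Submodule.smul_mono (Ideal.pow_le_pow_right (by omega)) le_rfl (hd n x))
  have hlim : ∀ x, ∃ L, ∀ m, E m x ≡ L [SMOD (I ^ m • ⊤ : Submodule W P)] := fun x =>
    IsPrecomplete.prec' (fun n => E n x) (fun h => hcau x h)
  choose L hL using hlim
  have huniq : ∀ a b : P, (∀ m, a ≡ b [SMOD (I ^ m • ⊤ : Submodule W P)]) → a = b := fun a b hab =>
    sub_eq_zero.1 (IsHausdorff.haus' (I := I) _ fun m => SModEq.zero.2 (SModEq.sub_mem.1 (hab m)))
  let e : Module.End W P :=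
    { toFun := L
      map_add' := fun x y => huniq _ _ fun m =>
        (hL (x + y) m).symm.trans ((SModEq.sub_mem.2 (by rw [map_add, sub_self]; exact Submodule.zero_mem _) : E m (x + y) ≡ E m x + E m y [SMOD (I ^ m • ⊤ : Submodule W P)]).trans ((hL x m).add (hL y m)))
      map_smul' := fun c x => huniq _ _ fun m =>
        (hL (c • x) m).symm.trans ((SModEq.sub_mem.2 (by rw [map_smul, sub_self]; exact Submodule.zero_mem _) : E m (c • x) ≡ c • E m x [SMOD (I ^ m • ⊤ : Submodule W P)]).trans ((hL x m).smul c)) }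
  refine ⟨e, LinearMap.ext fun x => huniq _ _ fun m => ?_, fun x => ?_⟩
  · change L (L x) ≡ L x [SMOD _]
    refine ((hL (L x) m).symm.trans ?_).trans (hL x m)
    have h1 : E m (L x) ≡ E m (E m x) [SMOD (I ^ m • ⊤ : Submodule W P)] := by
      rw [SModEq.sub_mem, ← map_sub]
      exact hsmul _ _ _ (SModEq.sub_mem.1 (hL x m).symm)
    refine h1.trans (SModEq.sub_mem.2 ?_)
    exact Submodule.smul_mono (Ideal.pow_le_pow_right (by omega)) le_rfl (hq m x)
  · have h0 : E 1 x - L x ∈ (I ^ 1 • ⊤ : Submodule W P) := SModEq.sub_mem.1 (hL x 1)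
    have h1 := hd 0 x
    rw [zero_add, pow_one] at h1
    rw [pow_one] at h0
    have : (e - e₀) x = (E 1 - E 0) x - (E 1 x - L x) := by
      simp only [LinearMap.sub_apply, E, e, LinearMap.coe_mk, AddHom.coe_mk]
      abel
    rw [this]
    exact Submodule.sub_mem _ h1 h0

theorem normal [IsAdicComplete I W] [Module.Finite W P] [Module.Projective W P] (Q C : Submodule W P)
    (hsup : Q ⊔ C = ⊤) (hinf : Q ⊓ C = I • ⊤) :
    ∃ L T : Submodule W P, IsCompl L T ∧ Q = L ⊔ I • T := by
  haveI := hausdorff_precomplete I (P := P)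
  have hπ : Function.Surjective (C.mkQ ∘ₗ Q.subtype) := fun z => by
    obtain ⟨p, rfl⟩ := Submodule.mkQ_surjective C z
    obtain ⟨q, hq, c, hc, rfl⟩ := Submodule.mem_sup.1 (hsup ▸ Submodule.mem_top : p ∈ Q ⊔ C)
    refine ⟨⟨q, hq⟩, ?_⟩
    simp [(Submodule.Quotient.mk_eq_zero C).2 hc]
  obtain ⟨s, hs⟩ := Module.projective_lifting_property (C.mkQ ∘ₗ Q.subtype) C.mkQ hπ
  let e₀ : Module.End W P := Q.subtype ∘ₗ s
  have he₀Q : ∀ x, e₀ x ∈ Q := fun x => (s x).2
  have he₀C : ∀ x, e₀ x - x ∈ C := fun x => (Submodule.Quotient.eq C).1 (LinearMap.congr_fun hs x)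
  obtain ⟨e, hee, he⟩ := exists_idem I e₀ fun x => by
    rw [LinearMap.sub_apply, Module.End.mul_apply, ← hinf]
    exact ⟨Q.sub_mem (he₀Q _) (he₀Q _), he₀C _⟩
  have hIQ : (I • ⊤ : Submodule W P) ≤ Q := hinf ▸ inf_le_left
  have hL : ∀ x, e x ∈ Q := fun x => by
    have := Q.add_mem (hIQ (he x)) (he₀Q x)
    simpa using this
  have hfix : ∀ x, e (e x) = e x := fun x => LinearMap.congr_fun hee x
  refine ⟨LinearMap.range e, LinearMap.ker e, ?_, le_antisymm (fun q hq => ?_) (sup_le ?_ ?_)⟩
  · refine ⟨disjoint_iff.2 ((Submodule.eq_bot_iff _).2 ?_), codisjoint_iff.2 (Submodule.eq_top_iff'.2 fun x => ?_)⟩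
    · rintro _ ⟨⟨y, rfl⟩, hy⟩
      rw [← hfix y]; exact hy
    · exact Submodule.mem_sup.2 ⟨e x, ⟨x, rfl⟩, x - e x, by simp [hfix], add_sub_cancel _ _⟩
  · refine Submodule.mem_sup.2 ⟨e q, ⟨q, rfl⟩, q - e q, ?_, add_sub_cancel _ _⟩
    have h1 : e₀ q - q ∈ (I • ⊤ : Submodule W P) := hinf ▸ ⟨Q.sub_mem (he₀Q q) hq, he₀C q⟩
    have h2 : q - e q ∈ (I • ⊤ : Submodule W P) := by
      have := Submodule.neg_mem _ (Submodule.add_mem _ (he q) h1)
      simpa using this
    have h3 := Submodule.mem_map_of_mem (f := (1 : Module.End W P) - e) h2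
    rw [Submodule.map_smul''] at h3
    have h4 : ((1 : Module.End W P) - e) (q - e q) = q - e q := by simp [hfix]
    rw [h4] at h3
    refine Submodule.smul_mono le_rfl ?_ h3
    rintro _ ⟨z, -, rfl⟩
    simp [hfix]
  · rintro _ ⟨x, rfl⟩; exact hL x
  · exact (Submodule.smul_mono le_rfl le_top).trans hIQ

end


/-- Let p be a prime and R a commutative ring which is complete and separated for the p-adic topology;
write W = W(R) for the p-typical Witt vectors and I for the ideal of W generated by the image of the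
Verschiebung. Let P be a finitely generated projective W-module and Q a submodule of P which admits
a complement modulo I·P, that is a submodule C with Q + C = P and Q ∩ C = I·P (equivalently I·P ⊆ Q
and the graded pieces P/Q and Q/I·P of the filtration I·P ⊆ Q ⊆ P are finitely generated projective
R-modules). Then there is a direct sum decomposition P = L ⊕ T by submodules with Q = L + I·T, so
that together with any Frobenius-semilinear operators F and V⁻¹ satisfying the remaining axioms the
pair (P, Q) underlies a 3n-display. -/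
theorem result (p : ℕ) [Fact p.Prime] (R : Type u) [CommRing R]
    [IsAdicComplete (Ideal.span {(p : R)}) R]
    (P : Type v) [AddCommGroup P] [Module (WittVector p R) P]
    [Module.Finite (WittVector p R) P] [Module.Projective (WittVector p R) P]
    (Q : Submodule (WittVector p R) P)
    (hQ : ∃ C : Submodule (WittVector p R) P,
      Q ⊔ C = ⊤ ∧ Q ⊓ C = W4c1extbt610.IV p R • (⊤ : Submodule (WittVector p R) P)) :
    ∃ L T : Submodule (WittVector p R) P, IsCompl L T ∧ Q = L ⊔ W4c1extbt610.IV p R • T := by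
  obtain ⟨C, hsup, hinf⟩ := hQ
  have hIV : RingHom.ker (WittVector.constantCoeff : WittVector p R →+* R) = W4c1extbt610.IV p R := by
    refine le_antisymm (fun x hx => ?_) (Ideal.span_le.2 ?_)
    · have hx0 : x.coeff 0 = 0 := hx
      have e : WittVector.verschiebung (x.shift 1) = x := by
        ext (_ | i)
        · rw [WittVector.verschiebung_coeff_zero, hx0]
        · rw [WittVector.verschiebung_coeff_succ, WittVector.shift_coeff, add_comm 1 i]
      rw [← e]
      exact W4c1extbt610.verschiebung_mem_IV p R _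
    · rintro _ ⟨w, rfl⟩
      exact WittVector.verschiebung_coeff_zero w
  haveI : IsAdicComplete (W4c1extbt610.IV p R) (WittVector p R) :=
    hIV ▸ (Groth.Agent.S14855.result p R).2
  exact normal _ Q C hsup hinf

end Groth.Agent.S14858
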