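import Groth.Statements.S14859
import Groth.Agent.DispTwenty.VSharp
-- import your own Groth.Agent.* helpers here

set_option autoImplicit false
universe u v w
open Disp

namespace Groth.Agent.S14859

theorem basis_Vinv_F (p : ℕ) [Fact p.Prime] (R : Type u) [CommRing R]
    (P : Type v) [AddCommGroup P] [Module (WittVector p R) P] (D : W4c1extbt610.Display3n p R P)
    (L T : Submodule (WittVector p R) P) (hLT : IsCompl L T)
    (hQ : D.Q = L ⊔ W4c1extbt610.IV p R • T) (hLQ : L ≤ D.Q)
    (ιL ιT : Type w) (bL : Module.Basis ιL (WittVector p R) L) (bT : Module.Basis ιT (WittVector p R) T) :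
    LinearIndependent (WittVector p R)
        (Sum.elim (fun i : ιL => D.Vinv ⟨(bL i : P), hLQ (bL i).2⟩) (fun j : ιT => D.F (bT j : P))) ∧
      Submodule.span (WittVector p R)
        (Set.range (Sum.elim (fun i : ιL => D.Vinv ⟨(bL i : P), hLQ (bL i).2⟩) (fun j : ιT => D.F (bT j : P)))) = ⊤ := by
  let W := WittVector p R
  set v := Sum.elim (fun i : ιL => D.Vinv ⟨(bL i : P), hLQ (bL i).2⟩) (fun j : ιT => D.F (bT j : P))
  set M := Submodule.span W (Set.range v)
  have hF : ∀ t ∈ T, D.F t ∈ M := fun t ht => by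
    let g : T →ₛₗ[(WittVector.frobenius : W →+* W)] P := D.F.comp T.subtype
    suffices H : ∀ u : T, g u ∈ M from H ⟨t, ht⟩
    intro u
    induction bT.mem_span u using Submodule.span_induction with
    | mem x hx =>
      obtain ⟨i, rfl⟩ := hx
      exact Submodule.subset_span ⟨Sum.inr i, rfl⟩
    | zero => rw [map_zero]; exact zero_mem _
    | add x y _ _ hx hy => rw [map_add]; exact add_mem hx hy
    | smul a x _ hx => rw [map_smulₛₗ]; exact Submodule.smul_mem _ _ hx
  have hL : ∀ (l : L), D.Vinv ⟨(l : P), hLQ l.2⟩ ∈ M := by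
    intro l
    let g : L →ₛₗ[(WittVector.frobenius : W →+* W)] P := D.Vinv.comp (Submodule.inclusion hLQ)
    have : g l ∈ M := by
      induction bL.mem_span l using Submodule.span_induction with
      | mem x hx =>
        obtain ⟨i, rfl⟩ := hx
        exact Submodule.subset_span ⟨Sum.inl i, rfl⟩
      | zero => rw [map_zero]; exact zero_mem _
      | add x y _ _ hx hy => rw [map_add]; exact add_mem hx hy
      | smul a x _ hx => rw [map_smulₛₗ]; exact Submodule.smul_mem _ _ hx
    exact this
  have hspan : M = ⊤ := by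
    rw [eq_top_iff, ← D.span_range_Vinv, Submodule.span_le]
    rintro _ ⟨⟨y, hy⟩, rfl⟩
    have hy' := hy
    rw [hQ] at hy'
    obtain ⟨l, hl, t, ht, rfl⟩ := Submodule.mem_sup.1 hy'
    have ht' : ∃ h : t ∈ D.Q, D.Vinv ⟨t, h⟩ ∈ M := by
      refine Submodule.smul_induction_on ht (fun a ha x hx => ?_) (fun x x' hx hx' => ?_)
      · obtain ⟨b, rfl⟩ := Groth.Agent.DispTwenty.exists_verschiebung ha
        refine ⟨Groth.Agent.DispTwenty.mem_Q_smul D ha x, ?_⟩
        rw [Groth.Agent.DispTwenty.Vinv_V_smul]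
        exact Submodule.smul_mem _ _ (hF x hx)
      · obtain ⟨h, hx⟩ := hx
        obtain ⟨h', hx'⟩ := hx'
        exact ⟨add_mem h h', by rw [show (⟨x + x', add_mem h h'⟩ : D.Q) = ⟨x, h⟩ + ⟨x', h'⟩ from rfl, map_add]; exact add_mem hx hx'⟩
    obtain ⟨h, hM⟩ := ht'
    rw [SetLike.mem_coe, show (⟨l + t, hy⟩ : D.Q) = ⟨l, hLQ hl⟩ + ⟨t, h⟩ from rfl, map_add]
    exact add_mem (hL ⟨l, hl⟩) hM
  refine ⟨?_, hspan⟩
  haveI := D.finite
  rcases subsingleton_or_nontrivial W with hW | hW
  · rw [linearIndependent_iff]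
    exact fun l _ => Finsupp.ext fun i => Subsingleton.elim _ _
  let e := ((bL.prod bT).map (Submodule.prodEquivOfIsCompl L T hLT))
  haveI := Module.Finite.finite_basis e
  haveI := Fintype.ofFinite (ιL ⊕ ιT)
  let f : P →ₗ[W] P := (e.constr W) v
  have hf : Function.Surjective f := by
    rw [← LinearMap.range_eq_top, Module.Basis.constr_range]
    exact hspan
  have hinj := OrzechProperty.injective_of_surjective_endomorphism f hf
  have := e.linearIndependent.map' f (LinearMap.ker_eq_bot.2 hinj)
  rwa [show ⇑f ∘ ⇑e = v from funext fun i => e.constr_basis W v i] at this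

/-- Let p be a prime, R a commutative ring with p-typical Witt vectors W = W(R), and (P, Q, F, V⁻¹) a
3n-display over R with a normal decomposition P = L ⊕ T, Q = L + I_R·T. Then V⁻¹ ⊕ F : L ⊕ T → P is
a Frobenius-linear isomorphism; stated here in the case where L and T are free with bases (l_i) and
(t_j): the family consisting of the V⁻¹(l_i) and the F(t_j) is a basis of the W-module P, i.e. it is
linearly independent over W and spans P. -/
theorem result (p : ℕ) [Fact p.Prime] (R : Type u) [CommRing R]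
    (P : Type v) [AddCommGroup P] [Module (WittVector p R) P] (D : W4c1extbt610.Display3n p R P)
    (L T : Submodule (WittVector p R) P) (hLT : IsCompl L T)
    (hQ : D.Q = L ⊔ W4c1extbt610.IV p R • T) (hLQ : L ≤ D.Q)
    (ιL ιT : Type w) (bL : Module.Basis ιL (WittVector p R) L) (bT : Module.Basis ιT (WittVector p R) T) :
    LinearIndependent (WittVector p R)
        (Sum.elim (fun i : ιL => D.Vinv ⟨(bL i : P), hLQ (bL i).2⟩) (fun j : ιT => D.F (bT j : P))) ∧
      Submodule.span (WittVector p R)
        (Set.range (Sum.elim (fun i : ιL => D.Vinv ⟨(bL i : P), hLQ (bL i).2⟩) (fun j : ιT => D.F (bT j : P)))) = ⊤ := by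
  exact basis_Vinv_F p R P D L T hLT hQ hLQ ιL ιT bL bT

end Groth.Agent.S14859
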