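import Groth.Statements.S14860
import Mathlib
-- import your own Groth.Agent.* helpers here

set_option autoImplicit false
universe u v
open CAlg

namespace Groth.Agent.S14860

section
open WittVector

variable {p : ℕ} [Fact p.Prime] {R : Type u} [CommRing R]

local notation "II" n:max => RingHom.ker (WittVector.truncate (p := p) (R := R) n)

theorem vv (a b : WittVector p R) : verschiebung a * verschiebung b = (p : WittVector p R) * verschiebung (a * b) := by
  rw [← verschiebung_mul_frobenius, frobenius_verschiebung, ← mul_assoc, mul_comm _ (p : WittVector p R),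
    ← nsmul_eq_mul, ← nsmul_eq_mul, map_nsmul]

theorem I_antitone {m n : ℕ} (h : m ≤ n) : II n ≤ II m := fun x hx => by
  rw [mem_ker_truncate] at hx ⊢
  exact fun i hi => hx i (lt_of_lt_of_le hi h)

theorem pa_step {a : ℕ} (ha : (p : R) ^ a = 0) (n : ℕ) (x : WittVector p R) (hx : x ∈ II n) :
    (p : WittVector p R) ^ a * x ∈ II (n + 1) := by
  obtain ⟨z, rfl⟩ : ∃ z, x = verschiebung^[n] z :=
    ⟨_, eq_iterate_verschiebung ((mem_ker_truncate _ _).1 hx)⟩
  have hcomm : ∀ k, verschiebung^[k] (p ^ a • z) = p ^ a • verschiebung^[k] z := by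
    intro k
    induction k with
    | zero => rfl
    | succ k ih => rw [Function.iterate_succ_apply', Function.iterate_succ_apply', ih, map_nsmul]
  rw [← Nat.cast_pow, ← nsmul_eq_mul, ← hcomm, nsmul_eq_mul, mem_ker_truncate]
  intro i hi
  rcases lt_or_eq_of_le (Nat.lt_succ_iff.1 hi) with h | rfl
  · exact iterate_verschiebung_coeff_eq_zero _ h
  · have hc := iterate_verschiebung_coeff (((p ^ a : ℕ) : WittVector p R) * z) i 0
    rw [zero_add] at hc
    rw [hc]
    show constantCoeff (((p ^ a : ℕ) : WittVector p R) * z) = 0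
    rw [map_mul, map_natCast, Nat.cast_pow, ha, zero_mul]

theorem p_pow_mem {a : ℕ} (ha : (p : R) ^ a = 0) : ∀ n, (p : WittVector p R) ^ (a * n) ∈ II n
  | 0 => (mem_ker_truncate _ _).2 fun i hi => absurd hi (Nat.not_lt_zero _)
  | n + 1 => by
    rw [mul_add, mul_one, pow_add, mul_comm]
    exact pa_step ha n _ (p_pow_mem ha n)

theorem I_one_pow (k : ℕ) : (II 1) ^ (k + 1) ≤ Ideal.span {(p : WittVector p R) ^ k} * II 1 := by
  induction k with
  | zero => simp [Ideal.span_singleton_one]
  | succ k ih =>
    rw [pow_succ]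
    refine (Ideal.mul_mono_left ih).trans ?_
    rw [pow_succ, ← Ideal.span_singleton_mul_span_singleton, mul_assoc, mul_assoc]
    refine Ideal.mul_mono_right (Ideal.mul_le.2 fun x hx y hy => ?_)
    have e : ∀ w ∈ II 1, ∃ z, w = verschiebung z := fun w hw =>
      ⟨_, eq_iterate_verschiebung (n := 1) ((mem_ker_truncate _ _).1 hw)⟩
    obtain ⟨a, rfl⟩ := e x hx
    obtain ⟨b, rfl⟩ := e y hy
    rw [vv]
    refine Ideal.mul_mem_mul (Ideal.mem_span_singleton_self _) ?_
    rw [mem_ker_truncate]
    intro i hi
    obtain rfl : i = 0 := by omega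
    exact verschiebung_coeff_zero _

theorem nilp (hp : IsNilpotent (p : R)) (n : ℕ) : ∃ N, (II 1) ^ N ≤ II n := by
  obtain ⟨a, ha⟩ := hp
  refine ⟨a * n + 1, (I_one_pow _).trans (Ideal.mul_le_left.trans ?_)⟩
  rw [Ideal.span_singleton_le_iff_mem]
  exact p_pow_mem ha n

theorem sep {x y : WittVector p R} (h : ∀ n, x - y ∈ II n) : x = y := by
  have h0 : x - y = 0 := by
    ext i
    rw [(mem_ker_truncate _ _).1 (h (i + 1)) i (Nat.lt_succ_self i)]
    simp
  exact sub_eq_zero.1 h0

theorem complete (c : ℕ → WittVector p R) (h : ∀ n, c (n + 1) - c n ∈ II n) :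
    ∃ w, ∀ n, w - c n ∈ II n := by
  have key : ∀ m n, n ≤ m → truncate n (c m) = truncate n (c n) := by
    intro m n hnm
    induction m, hnm using Nat.le_induction with
    | base => rfl
    | succ m hm ih =>
      rw [← ih, ← sub_eq_zero, ← map_sub, ← RingHom.mem_ker]
      exact I_antitone hm (h m)
  refine ⟨WittVector.mk p fun i => (c (i + 1)).coeff i, fun n => ?_⟩
  rw [RingHom.mem_ker, map_sub, sub_eq_zero]
  ext i
  rw [coeff_truncate, coeff_truncate, WittVector.coeff_mk]
  have h' := congrArg (fun t => TruncatedWittVector.coeff ⟨i.1, Nat.lt_succ_self _⟩ t) (key n (i.1 + 1) i.2)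
  simp only [coeff_truncate] at h'
  exact h'.symm

variable {P : Type v} [AddCommGroup P] [Module (WittVector p R) P]

theorem range_sup (hp : IsNilpotent (p : R)) (M : Submodule (WittVector p R) P)
    (h : M ⊔ II 1 • ⊤ = ⊤) (n : ℕ) : M ⊔ II n • ⊤ = ⊤ := by
  obtain ⟨N, hN⟩ := nilp hp n
  have key : ∀ m, M ⊔ (II 1) ^ m • ⊤ = ⊤ := by
    intro m
    induction m with
    | zero => simp
    | succ m ih =>
      rw [eq_top_iff]
      calc (⊤ : Submodule (WittVector p R) P) = M ⊔ II 1 • ⊤ := h.symm
        _ = M ⊔ II 1 • (M ⊔ (II 1) ^ m • ⊤) := by rw [ih]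
        _ ≤ _ := by
          rw [Submodule.smul_sup, ← Submodule.mul_smul, ← pow_succ']
          exact sup_le le_sup_left (sup_le (Submodule.smul_le_right.trans le_sup_left) le_sup_right)
  exact eq_top_iff.2 ((key N).ge.trans (sup_le_sup_left (Submodule.smul_mono_left hN) _))

theorem level_step {W : Type u} [CommRing W] {P : Type v} [AddCommGroup P] [Module W P] {k : ℕ} (g : Fin k → P)
    (I J : Ideal W) (hIJ : I ≤ J) (hgen : Submodule.span W (Set.range g) ⊔ I • ⊤ = ⊤)
    [Module.Projective (W ⧸ I) (P ⧸ (I • ⊤ : Submodule W P))]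
    (σ : P →ₗ[W] (Fin k → W ⧸ J))
    (hσ : ∀ x (c : Fin k → W), σ x = (fun i => Ideal.Quotient.mk J (c i)) → x - ∑ i, c i • g i ∈ J • (⊤ : Submodule W P)) :
    ∃ τ : P →ₗ[W] (Fin k → W ⧸ I),
      (∀ x (c : Fin k → W), τ x = (fun i => Ideal.Quotient.mk I (c i)) → x - ∑ i, c i • g i ∈ I • (⊤ : Submodule W P)) ∧
      ∀ x (c : Fin k → W), τ x = (fun i => Ideal.Quotient.mk I (c i)) → σ x = fun i => Ideal.Quotient.mk J (c i) := by
  classical
  let q := (I • ⊤ : Submodule W P).mkQ
  have hq0 : ∀ x, q x = 0 ↔ x ∈ I • (⊤ : Submodule W P) := fun x => Submodule.Quotient.mk_eq_zero _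
  let π : (Fin k → W ⧸ I) →ₗ[W ⧸ I] P ⧸ (I • ⊤ : Submodule W P) := Fintype.linearCombination (W ⧸ I) (fun i => q (g i))
  have hπc : ∀ c : Fin k → W, π (fun i => Ideal.Quotient.mk I (c i)) = q (∑ i, c i • g i) := fun c => by
    simp only [π, Fintype.linearCombination_apply, map_sum, map_smul]
    exact Finset.sum_congr rfl fun i _ => rfl
  have hπ : Function.Surjective π := fun z => by
    obtain ⟨x, rfl⟩ := Submodule.mkQ_surjective _ z
    obtain ⟨a, ha, b, hb, rfl⟩ := Submodule.mem_sup.1 (hgen.ge (Submodule.mem_top : x ∈ ⊤))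
    obtain ⟨c, rfl⟩ := (Submodule.mem_span_range_iff_exists_fun W).1 ha
    exact ⟨_, (hπc c).trans ((sub_eq_zero.1 (by rw [← map_sub]; exact (hq0 _).2 (by simpa using hb))).symm)⟩
  obtain ⟨σ', hσ'⟩ := Module.projective_lifting_property π LinearMap.id hπ
  -- adjusted images of the generators
  have hy : ∀ i, ∃ d : Fin k → W, σ (g i) = (fun l => Ideal.Quotient.mk J (d l)) ∧
      g i - ∑ l, d l • g l ∈ I • (⊤ : Submodule W P) := by
    intro i
    choose c hc using fun l => Ideal.Quotient.mk_surjective (σ (g i) l)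
    have h1 := hσ (g i) c (funext fun l => (hc l).symm)
    have h2 : (J • (⊤ : Submodule W P)) ≤
        (J • Submodule.span W (Set.range g)) ⊔ I • (⊤ : Submodule W P) := by
      conv_lhs => rw [← hgen, Submodule.smul_sup]
      exact sup_le le_sup_left (Submodule.smul_le_right.trans le_sup_right)
    obtain ⟨a, ha, b, hb, hab⟩ := Submodule.mem_sup.1 (h2 h1)
    obtain ⟨e, he, rfl⟩ := (Submodule.mem_ideal_smul_span_iff_exists_sum J g a).1 ha
    refine ⟨fun l => c l + e l, funext fun l => ?_, ?_⟩
    · rw [map_add, hc, Ideal.Quotient.eq_zero_iff_mem.2 (he l), add_zero]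
    · rw [Finsupp.sum_fintype e (fun i c => c • g i) (fun i => zero_smul _ _)] at hab
      have : g i - ∑ l, (c l + e l) • g l = b := by
        simp only [add_smul, Finset.sum_add_distrib]
        rw [← sub_sub, ← hab]
        abel
      exact this ▸ hb
  choose d hd1 hd2 using hy
  let L : (Fin k → W ⧸ I) →ₗ[W ⧸ I] (Fin k → W ⧸ I) :=
    Fintype.linearCombination (W ⧸ I) fun i => fun l => Ideal.Quotient.mk I (d i l)
  let τ : P →ₗ[W] (Fin k → W ⧸ I) := ((L.comp σ').restrictScalars W).comp q
  have hcomb : ∀ c : Fin k → W, L (fun i => Ideal.Quotient.mk I (c i)) =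
      fun l => Ideal.Quotient.mk I (∑ i, c i * d i l) := fun c => by
    funext l
    simp [L, Fintype.linearCombination_apply, Finset.sum_apply]
  have main : ∀ x, ∃ e : Fin k → W, τ x = (fun i => Ideal.Quotient.mk I (e i)) ∧
      x - ∑ i, e i • g i ∈ I • (⊤ : Submodule W P) ∧ σ x = fun i => Ideal.Quotient.mk J (e i) := by
    intro x
    choose c hc using fun i => Ideal.Quotient.mk_surjective (σ' (q x) i)
    have hx : x - ∑ i, c i • g i ∈ I • (⊤ : Submodule W P) := by
      rw [← hq0, map_sub, ← hπc, show (fun i => Ideal.Quotient.mk I (c i)) = σ' (q x) from funext hc,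
        show π (σ' (q x)) = q x from LinearMap.congr_fun hσ' (q x), sub_self]
    refine ⟨fun l => ∑ i, c i * d i l, ?_, ?_, ?_⟩
    · show L (σ' (q x)) = _
      rw [show σ' (q x) = fun i => Ideal.Quotient.mk I (c i) from (funext hc).symm, hcomb]
    · have : ∑ l, (∑ i, c i * d i l) • g l = ∑ i, c i • ∑ l, d i l • g l := by
        simp only [Finset.sum_smul, Finset.smul_sum, smul_smul]
        exact Finset.sum_comm
      rw [this]
      have h2 : ∑ i, c i • g i - ∑ i, c i • ∑ l, d i l • g l ∈ I • (⊤ : Submodule W P) := by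
        rw [← Finset.sum_sub_distrib]
        exact Submodule.sum_mem _ fun i _ => by rw [← smul_sub]; exact Submodule.smul_mem _ _ (hd2 i)
      simpa using Submodule.add_mem _ hx h2
    · have h0 : σ (x - ∑ i, c i • g i) = 0 := by
        refine (Submodule.smul_le.2 fun r hr y _ => ?_ : I • (⊤ : Submodule W P) ≤ LinearMap.ker σ) hx
        rw [LinearMap.mem_ker, map_smul]
        funext l
        rw [Pi.smul_apply, Algebra.smul_def, Ideal.Quotient.algebraMap_eq, Ideal.Quotient.eq_zero_iff_mem.2 (hIJ hr),
          zero_mul, Pi.zero_apply]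
      rw [map_sub, sub_eq_zero] at h0
      rw [h0, map_sum]
      funext l
      simp [map_smul, hd1, Algebra.smul_def]
  have eqv : ∀ {c e : Fin k → W}, (fun i => Ideal.Quotient.mk I (c i)) = (fun i => Ideal.Quotient.mk I (e i)) →
      ∀ i, c i - e i ∈ I := fun h i => Ideal.Quotient.eq.1 (congrFun h i)
  refine ⟨τ, fun x c hc => ?_, fun x c hc => ?_⟩
  · obtain ⟨e, he1, he2, -⟩ := main x
    have h : ∑ i, e i • g i - ∑ i, c i • g i ∈ I • (⊤ : Submodule W P) := by
      rw [← Finset.sum_sub_distrib]
      exact Submodule.sum_mem _ fun i _ => by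
        rw [← sub_smul]; exact Submodule.smul_mem_smul (eqv (he1.symm.trans hc) i) Submodule.mem_top
    simpa using Submodule.add_mem _ he2 h
  · obtain ⟨e, he1, -, he3⟩ := main x
    rw [he3]
    funext i
    exact Ideal.Quotient.eq.2 (hIJ (eqv (he1.symm.trans hc) i))

theorem backward (hp : IsNilpotent (p : R))
    (hsep : (⨅ n : ℕ, (II n) • (⊤ : Submodule (WittVector p R) P)) = ⊥)
    (h : ∀ n : ℕ, Module.Finite (WittVector p R ⧸ II n) (P ⧸ (II n • (⊤ : Submodule (WittVector p R) P))) ∧
            Module.Projective (WittVector p R ⧸ II n) (P ⧸ (II n • (⊤ : Submodule (WittVector p R) P)))) :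
    Module.Finite (WittVector p R) P ∧ Module.Projective (WittVector p R) P := by
  classical
  haveI := (h 1).1
  haveI : Module.Finite (WittVector p R) (P ⧸ (II 1 • (⊤ : Submodule (WittVector p R) P))) :=
    Module.Finite.trans (WittVector p R ⧸ II 1) _
  obtain ⟨k, t, ht⟩ := Module.Finite.exists_fin (R := WittVector p R) (M := P ⧸ (II 1 • (⊤ : Submodule (WittVector p R) P)))
  choose g hg using fun i => Submodule.mkQ_surjective (II 1 • (⊤ : Submodule (WittVector p R) P)) (t i)
  have h1 : Submodule.span (WittVector p R) (Set.range g) ⊔ II 1 • ⊤ = ⊤ := by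
    have := congrArg (Submodule.comap (II 1 • (⊤ : Submodule (WittVector p R) P)).mkQ) ht
    rw [Submodule.comap_top, show t = (II 1 • (⊤ : Submodule (WittVector p R) P)).mkQ ∘ g from (funext hg).symm,
      Set.range_comp, Submodule.span_image, Submodule.comap_map_mkQ, sup_comm] at this
    exact this
  have hgen := range_sup hp _ h1
  let Good : ∀ n, (P →ₗ[WittVector p R] (Fin k → WittVector p R ⧸ II n)) → Prop := fun n σ =>
    ∀ x (c : Fin k → WittVector p R), σ x = (fun i => Ideal.Quotient.mk (II n) (c i)) →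
      x - ∑ i, c i • g i ∈ II n • (⊤ : Submodule (WittVector p R) P)
  have good0 : Good 0 0 := fun x c _ => by
    have : II 0 = ⊤ := eq_top_iff.2 fun z _ => (mem_ker_truncate _ _).2 fun i hi => absurd hi (Nat.not_lt_zero _)
    rw [this, Submodule.top_smul]
    exact Submodule.mem_top
  have step : ∀ n (σ : {σ // Good n σ}), ∃ τ : {τ // Good (n + 1) τ}, ∀ x (c : Fin k → WittVector p R),
      τ.1 x = (fun i => Ideal.Quotient.mk (II (n + 1)) (c i)) → σ.1 x = fun i => Ideal.Quotient.mk (II n) (c i) := by
    intro n σ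
    haveI := (h (n + 1)).2
    obtain ⟨τ, h2, h3⟩ := level_step g (II (n + 1)) (II n) (I_antitone (Nat.le_succ n)) (hgen _) σ.1 σ.2
    exact ⟨⟨τ, h2⟩, h3⟩
  choose nxt hnxt using step
  let seq : ∀ n, {σ // Good n σ} := fun n => Nat.rec ⟨0, good0⟩ (fun m σ => nxt m σ) n
  have hseq : ∀ n, seq (n + 1) = nxt n (seq n) := fun n => rfl
  have exlim : ∀ x i, ∃ w : WittVector p R, ∀ n, Ideal.Quotient.mk (II n) w = (seq n).1 x i := by
    intro x i
    choose c hc using fun n l => Ideal.Quotient.mk_surjective ((seq n).1 x l)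
    have hcc : ∀ n, c (n + 1) i - c n i ∈ II n := fun n => by
      have := hnxt n (seq n) x (c (n + 1)) (by rw [← hseq]; exact (funext (hc (n + 1))).symm)
      rw [← Ideal.Quotient.eq, hc n i]
      exact (congrFun this i).symm
    obtain ⟨w, hw⟩ := complete (fun n => c n i) hcc
    exact ⟨w, fun n => (Ideal.Quotient.eq.2 (hw n)).trans (hc n i)⟩
  choose s hs using exlim
  let sL : P →ₗ[WittVector p R] (Fin k → WittVector p R) :=
    { toFun := s
      map_add' := fun x y => funext fun i => sep fun n => by
        rw [← Ideal.Quotient.eq, hs]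
        simp only [map_add, Pi.add_apply, hs]
      map_smul' := fun r x => funext fun i => sep fun n => by
        rw [← Ideal.Quotient.eq, hs]
        simp only [map_smul, Pi.smul_apply, RingHom.id_apply, smul_eq_mul, map_mul, hs, Algebra.smul_def,
          Ideal.Quotient.algebraMap_eq] }
  let π : (Fin k → WittVector p R) →ₗ[WittVector p R] P := Fintype.linearCombination (WittVector p R) g
  have hπs : π.comp sL = LinearMap.id := LinearMap.ext fun x => by
    have h0 : x - π (sL x) ∈ (⨅ n : ℕ, (II n) • (⊤ : Submodule (WittVector p R) P)) := by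
      rw [Submodule.mem_iInf]
      exact fun n => (seq n).2 x (s x) (funext fun i => (hs x i n).symm)
    rw [hsep, Submodule.mem_bot, sub_eq_zero] at h0
    exact h0.symm
  exact ⟨Module.Finite.of_surjective π (fun x => ⟨sL x, LinearMap.congr_fun hπs x⟩),
    Module.Projective.of_split sL π hπs⟩

theorem quot_proj {W : Type u} [CommRing W] {P : Type v} [AddCommGroup P] [Module W P] [Module.Finite W P]
    [Module.Projective W P] (I : Ideal W) :
    Module.Finite (W ⧸ I) (P ⧸ (I • ⊤ : Submodule W P)) ∧ Module.Projective (W ⧸ I) (P ⧸ (I • ⊤ : Submodule W P)) := by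
  refine ⟨Module.Finite.of_restrictScalars_finite W _ _, ?_⟩
  exact Module.Projective.of_equiv (LinearEquiv.extendScalarsOfSurjective Ideal.Quotient.mk_surjective
    (TensorProduct.quotTensorEquivQuotSMul P I))

theorem forward_sep [Module.Finite (WittVector p R) P] [Module.Projective (WittVector p R) P] :
    (⨅ n : ℕ, (II n) • (⊤ : Submodule (WittVector p R) P)) = ⊥ := by
  obtain ⟨k, f, hf⟩ := Module.Finite.exists_fin' (WittVector p R) P
  obtain ⟨s, hs⟩ := Module.projective_lifting_property f LinearMap.id hf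
  rw [eq_bot_iff]
  intro x hx
  rw [Submodule.mem_iInf] at hx
  have hz : s x = 0 := funext fun i => by
    refine sep fun n => ?_
    have : (II n) • (⊤ : Submodule (WittVector p R) P) ≤
        Submodule.comap ((LinearMap.proj i).comp s) (II n) := by
      rw [Submodule.smul_le]
      intro r hr y _
      simp only [Submodule.mem_comap, LinearMap.comp_apply, map_smul, LinearMap.proj_apply, Pi.smul_apply, smul_eq_mul]
      exact Ideal.mul_mem_right _ _ hr
    simpa using this (hx n)
  rw [Submodule.mem_bot, ← LinearMap.id_apply (R := WittVector p R) x, ← hs, LinearMap.comp_apply, hz, map_zero]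

end

/-- Let p be a prime and R a commutative ring in which p is nilpotent; write W = W(R) for the p-typical
Witt vectors and, for n ≥ 0, I_n ⊆ W for the ideal of Witt vectors whose first n components vanish
(the kernel of the truncation W → W_n(R), so W/I_n = W_n(R)). For a W-module P conditions (i) and
(ii) below are equivalent: (i) P is a projective W-module of finite type; (ii) P is separated for
the filtration by the submodules I_n P, and for every n the W_n(R)-module P/I_n P is finitely
generated and projective. (The published statement is made for every ℤ_(p)-algebra R, the section's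
standing convention; over R = ℚ, where W(ℚ) ≅ ℚ^ℕ by the ghost map, the module ⊕_ℕ ℚ satisfies (ii)
but is not finitely generated, and the published proof uses that I_1 is nilpotent in each W_n(R),
which holds when p is nilpotent in R; so p is taken nilpotent here. The third equivalent condition
of the published statement, freeness Zariski-locally on R, is not rendered.) -/
theorem result (p : ℕ) [Fact p.Prime] (R : Type u) [CommRing R]
    (hp : IsNilpotent (p : R))
    (P : Type v) [AddCommGroup P] [Module (WittVector p R) P] :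
    (Module.Finite (WittVector p R) P ∧ Module.Projective (WittVector p R) P) ↔
      ((⨅ n : ℕ, (RingHom.ker (WittVector.truncate (p := p) (R := R) n) • (⊤ : Submodule (WittVector p R) P))) = ⊥ ∧
        ∀ n : ℕ, Module.Finite (WittVector p R ⧸ RingHom.ker (WittVector.truncate (p := p) (R := R) n))
              (P ⧸ (RingHom.ker (WittVector.truncate (p := p) (R := R) n) • (⊤ : Submodule (WittVector p R) P))) ∧
            Module.Projective (WittVector p R ⧸ RingHom.ker (WittVector.truncate (p := p) (R := R) n))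
              (P ⧸ (RingHom.ker (WittVector.truncate (p := p) (R := R) n) • (⊤ : Submodule (WittVector p R) P)))) := by
  constructor
  · rintro ⟨hF, hP⟩
    exact ⟨forward_sep, fun n => quot_proj _⟩
  · rintro ⟨h1, h2⟩
    exact backward hp h1 h2

end Groth.Agent.S14860
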