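import Groth.Statements.S14862
import Groth.Agent.WittDvd.Basic
-- import your own Groth.Agent.* helpers here

set_option autoImplicit false
universe u
open CAlg

namespace Groth.Agent.S14862

/-- Let p be a prime and S a commutative ring without p-torsion which is complete and separated for the
p-adic topology; write W = W(S) for the p-typical Witt vectors, I_r ⊆ W for the ideal of Witt
vectors whose first r components vanish (the image of the r-th iterate of the Verschiebung) and
W(p^s S) ⊆ W for the ideal of Witt vectors all of whose components lie in p^s S (the kernel of W(S)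
→ W(S/p^s S)). Then for every natural number u the ideal p^u W is closed for the linear topology on
W in which the ideals I_r + W(p^s S) form a neighbourhood basis of zero: the intersection over all r
and s of p^u W + I_r + W(p^s S) equals p^u W. (The published statement asks only that S have no
p-torsion; S is moreover taken p-adically complete and separated here, the case in which the result
is applied and through which the published proof goes.) -/
theorem result (p : ℕ) [Fact p.Prime] (S : Type u) [CommRing S]
    (hS : ∀ y : S, (p : S) * y = 0 → y = 0) [IsAdicComplete (Ideal.span {(p : S)}) S] (u : ℕ) :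
    (⨅ r : ℕ, ⨅ s : ℕ,
        Ideal.span {(p : WittVector p S) ^ u} ⊔ RingHom.ker (WittVector.truncate (p := p) (R := S) r) ⊔
          RingHom.ker (WittVector.map (p := p) (Ideal.Quotient.mk (Ideal.span {(p : S) ^ s})))) =
      Ideal.span {(p : WittVector p S) ^ u} := by
  refine le_antisymm (fun a ha => WittDvd.pow_mul_mem_span hS u fun r s => ?_)
    (le_iInf fun r => le_iInf fun s => le_sup_left.trans le_sup_left)
  simp only [Ideal.mem_iInf] at ha
  obtain ⟨b, hb, k₂, hk₂, rfl⟩ := Submodule.mem_sup.1 (ha r s)
  obtain ⟨c, hc, k₁, hk₁, rfl⟩ := Submodule.mem_sup.1 hb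
  obtain ⟨z, rfl⟩ := Ideal.mem_span_singleton'.1 hc
  refine ⟨z, WittDvd.sub_mem_trans (y := z * (p : WittVector p S) ^ u + k₁) (fun i hi => ?_) fun i hi => ?_⟩
  · rw [show (p : WittVector p S) ^ u * z - (z * (p : WittVector p S) ^ u + k₁) = -k₁ by ring,
      (WittVector.mem_ker_truncate (n := r) (-k₁)).1 (neg_mem hk₁) i hi]
    exact zero_mem _
  · rw [show z * (p : WittVector p S) ^ u + k₁ - (z * (p : WittVector p S) ^ u + k₁ + k₂) = -k₂ by ring]
    have := congrArg (fun t => WittVector.coeff t i) (RingHom.mem_ker.1 (neg_mem hk₂))
    simp only [WittVector.map_coeff, WittVector.zero_coeff] at this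
    exact Ideal.Quotient.eq_zero_iff_mem.1 this

end Groth.Agent.S14862
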