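import Groth.Statements.S14863
import Groth.Agent.DispTwenty.DieuMod
-- import your own Groth.Agent.* helpers here

set_option autoImplicit false
universe u v
open Disp

namespace Groth.Agent.S14863

/-- Let p be a prime and k a perfect commutative ring of characteristic p, so that the Frobenius σ of W
= W(k) is an automorphism. Let M be a Dieudonné module over k, that is, a projective W-module of
finite type with a σ-semilinear operator F and a σ⁻¹-semilinear operator V such that FV = VF = p.
Then (M, VM, F, V⁻¹) is a 3n-display over k: there exists a 3n-display structure on the W-module M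
whose distinguished submodule is exactly the image of V, whose Frobenius operator is F, and whose
operator V⁻¹ sends V m to m for every m. (The published statement is the equivalence of the category
of 3n-displays over k with that of Dieudonné modules, displays corresponding to topologically
nilpotent V; this row is the passage from a Dieudonné module to a 3n-display.) -/
theorem result (p : ℕ) [Fact p.Prime] (k : Type u) [CommRing k]
    [CharP k p] [PerfectRing k p]
    (M : Type v) [AddCommGroup M] [Module (WittVector p k) M]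
    [Module.Finite (WittVector p k) M] [Module.Projective (WittVector p k) M]
    (F : M →ₛₗ[(WittVector.frobenius : WittVector p k →+* WittVector p k)] M)
    (V : M →ₛₗ[((WittVector.frobeniusEquiv p k).symm : WittVector p k →+* WittVector p k)] M)
    (hFV : ∀ m : M, F (V m) = (p : WittVector p k) • m) (hVF : ∀ m : M, V (F m) = (p : WittVector p k) • m) :
    ∃ D : W4c1extbt610.Display3n p k M,
      D.F = F ∧ (∀ x : M, x ∈ D.Q ↔ x ∈ Set.range V) ∧
        ∀ (m : M) (h : V m ∈ D.Q), D.Vinv ⟨V m, h⟩ = m := by
  classical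
  obtain ⟨r, π, s, h⟩ := DispTwenty.exists_coords (WittVector p k) M
  have hsymm : ∀ a : WittVector p k, (WittVector.frobeniusEquiv p k).symm (WittVector.frobenius a) = a := fun a => by
    rw [← WittVector.frobeniusEquiv_apply, RingEquiv.symm_apply_apply]
  have hinj : ∀ m, V m = 0 → m = 0 := fun m hm => by
    have h0 := hFV m
    rw [hm, map_zero] at h0
    rw [← DispTwenty.sum_smul_gen h m]
    refine Finset.sum_eq_zero fun j _ => ?_
    have h1 : (0 : WittVector p k) = (p : WittVector p k) * s m j := by
      simpa using congrArg (fun x => s x j) h0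
    have h2 : WittVector.verschiebung (WittVector.frobenius (s m j)) = 0 := by
      rw [WittVector.verschiebung_frobenius, mul_comm, ← h1]
    rw [← hsymm (s m j), (WittVector.verschiebung_injective p k) (h2.trans (map_zero _).symm), map_zero, zero_smul]
  let Q : Submodule (WittVector p k) M :=
    { carrier := Set.range V
      add_mem' := by rintro _ _ ⟨a, rfl⟩ ⟨b, rfl⟩; exact ⟨a + b, map_add V a b⟩
      zero_mem' := ⟨0, map_zero V⟩
      smul_mem' := fun c x hx => by
        obtain ⟨a, rfl⟩ := hx
        exact ⟨WittVector.frobenius c • a, by rw [map_smulₛₗ, RingHom.coe_coe, hsymm]⟩ }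
  obtain ⟨e, he, he'⟩ := DispTwenty.exists_splitting F V hFV hVF
  have htors : Module.IsTorsionBySet (WittVector p k) (M ⧸ Q) (Ideal.span {(p : WittVector p k)}) := by
    intro z a
    obtain ⟨x, rfl⟩ := Q.mkQ_surjective z
    obtain ⟨b, hb⟩ := Ideal.mem_span_singleton'.1 a.2
    show (a : WittVector p k) • Q.mkQ x = 0
    rw [← map_smul, Submodule.mkQ_apply, Submodule.Quotient.mk_eq_zero, ← hb, mul_smul]
    exact Q.smul_mem b ⟨F x, hVF x⟩
  letI : Module (WittVector p k ⧸ Ideal.span {(p : WittVector p k)}) (M ⧸ Q) := htors.module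
  haveI : IsScalarTower (WittVector p k) (WittVector p k ⧸ Ideal.span {(p : WittVector p k)}) (M ⧸ Q) :=
    htors.isScalarTower
  let mk := Ideal.Quotient.mk (Ideal.span {(p : WittVector p k)})
  haveI : Module.Finite (WittVector p k ⧸ Ideal.span {(p : WittVector p k)}) (M ⧸ Q) :=
    Module.Finite.of_restrictScalars_finite (WittVector p k) _ _
  haveI : Module.Projective (WittVector p k ⧸ Ideal.span {(p : WittVector p k)}) (M ⧸ Q) := by
    let i₀ : M →ₗ[WittVector p k] (Fin r → WittVector p k ⧸ Ideal.span {(p : WittVector p k)}) :=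
      ((Algebra.linearMap (WittVector p k) (WittVector p k ⧸ Ideal.span {(p : WittVector p k)})).compLeft (Fin r)) ∘ₗ s ∘ₗ e
    have hi₀ : Q ≤ LinearMap.ker i₀ := fun x hx => by
      obtain ⟨y, rfl⟩ := hx
      obtain ⟨z, hz⟩ := he' y
      rw [LinearMap.mem_ker]
      show ((Algebra.linearMap (WittVector p k) (WittVector p k ⧸ Ideal.span {(p : WittVector p k)})).compLeft (Fin r))
        (s (e (V y))) = 0
      funext j
      rw [hz, map_smul]
      exact Ideal.Quotient.eq_zero_iff_mem.2 (Ideal.mul_mem_right _ _ (Ideal.subset_span rfl))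
    let i₁ := (Q.liftQ i₀ hi₀).extendScalarsOfSurjective (S := WittVector p k ⧸ Ideal.span {(p : WittVector p k)})
      Ideal.Quotient.mk_surjective
    refine Module.Projective.of_split i₁ (Fintype.linearCombination _ fun j => Q.mkQ (DispTwenty.gen π j))
      (LinearMap.ext fun z => ?_)
    obtain ⟨x, rfl⟩ := Q.mkQ_surjective z
    rw [LinearMap.comp_apply, Fintype.linearCombination_apply, LinearMap.id_apply]
    show ∑ j, (algebraMap (WittVector p k) (WittVector p k ⧸ Ideal.span {(p : WittVector p k)})) (s (e x) j) •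
      Q.mkQ (DispTwenty.gen π j) = _
    simp only [algebraMap_smul, ← map_smul, ← map_sum, DispTwenty.sum_smul_gen h]
    obtain ⟨y, hy⟩ := he x
    exact (Submodule.Quotient.eq Q).2 ⟨y, hy⟩
  obtain ⟨n, P, πP, hPf, hPp, hπs, hπk⟩ :=
    HenselLib.exists_proj_lift (Ideal.span {(p : WittVector p k)}) (M ⧸ Q)
  obtain ⟨g, hg⟩ := Module.projective_lifting_property πP Q.mkQ hπs
  have hgs : Function.Surjective g := by
    rw [← LinearMap.range_eq_top, ← top_le_iff]
    refine Submodule.le_of_le_smul_of_le_jacobson_bot Module.Finite.fg_top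
      (IsAdicComplete.le_jacobson_bot (Ideal.span {(p : WittVector p k)})) fun y _ => ?_
    obtain ⟨x, hx⟩ := Q.mkQ_surjective (πP y)
    have hd : y - g x ∈ LinearMap.ker πP := by
      rw [LinearMap.mem_ker, map_sub, sub_eq_zero, ← hx, ← hg]; rfl
    rw [hπk] at hd
    exact Submodule.mem_sup.2 ⟨g x, ⟨x, rfl⟩, y - g x, hd, add_sub_cancel _ _⟩
  obtain ⟨t, ht⟩ := Module.projective_lifting_property g LinearMap.id hgs
  have hgt : ∀ y, g (t y) = y := fun y => LinearMap.congr_fun ht y
  have hker : ∀ x, g x = 0 → x ∈ Q := fun x hx => by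
    rw [← Submodule.Quotient.mk_eq_zero, ← Submodule.mkQ_apply, ← hg, LinearMap.comp_apply, hx, map_zero]
  have hIV : ∀ a ∈ W4c1extbt610.IV p k, ∀ x : M, a • x ∈ Q := fun a ha x => by
    obtain ⟨b, rfl⟩ := DispTwenty.exists_verschiebung ha
    refine ⟨b • F x, ?_⟩
    rw [map_smulₛₗ, hVF, RingHom.coe_coe, smul_smul]
    congr 1
    conv_rhs => rw [← (WittVector.frobeniusEquiv p k).apply_symm_apply b, WittVector.frobeniusEquiv_apply,
      WittVector.verschiebung_frobenius]
  have hp' : (p : WittVector p k) ∈ W4c1extbt610.IV p k :=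
    DispTwenty.mem_IV_of_coeff_zero (by
      show (WittVector.constantCoeff : WittVector p k →+* k) (p : WittVector p k) = 0
      rw [map_natCast, CharP.cast_eq_zero])
  let Vinv : Q →ₛₗ[(WittVector.frobenius : WittVector p k →+* WittVector p k)] M :=
    { toFun := fun x => Classical.choose x.2
      map_add' := fun x y => sub_eq_zero.1 (hinj _ (by
        rw [map_sub, map_add, Classical.choose_spec x.2, Classical.choose_spec y.2, Classical.choose_spec (x + y).2,
          sub_eq_zero]; rfl))
      map_smul' := fun a x => sub_eq_zero.1 (hinj _ (by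
        rw [map_sub, map_smulₛₗ, Classical.choose_spec x.2, Classical.choose_spec (a • x).2, RingHom.coe_coe, hsymm,
          sub_eq_zero]; rfl)) }
  have hVinv : ∀ (m : M) (hm : V m ∈ Q), Vinv ⟨V m, hm⟩ = m := fun m hm => sub_eq_zero.1 (hinj _ (by
    rw [map_sub, sub_eq_zero]; exact Classical.choose_spec hm))
  refine ⟨{
    Q := Q
    F := F
    Vinv := Vinv
    finite := inferInstance
    projective := inferInstance
    IV_smul_le := Submodule.smul_le.2 fun a ha x _ => hIV a ha x
    exists_normal := ⟨LinearMap.ker g, LinearMap.range t, ⟨?_, ?_⟩, le_antisymm (fun x hx => ?_) ?_⟩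
    span_range_Vinv := by
      refine Submodule.eq_top_iff'.2 fun m => Submodule.subset_span ⟨⟨V m, m, rfl⟩, hVinv m _⟩
    Vinv_verschiebung_smul := fun w x => ?_ }, rfl, fun x => Iff.rfl, hVinv⟩
  · rw [Submodule.disjoint_def]
    rintro _ hx ⟨y, rfl⟩
    rw [LinearMap.mem_ker, hgt] at hx
    rw [hx, map_zero]
  · rw [codisjoint_iff, eq_top_iff]
    exact fun x _ => Submodule.mem_sup.2 ⟨x - t (g x), by rw [LinearMap.mem_ker, map_sub, hgt, sub_self],
      t (g x), ⟨g x, rfl⟩, sub_add_cancel _ _⟩
  · refine Submodule.mem_sup.2 ⟨x - t (g x), by rw [LinearMap.mem_ker, map_sub, hgt, sub_self], t (g x), ?_,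
      sub_add_cancel _ _⟩
    have h1 : g x ∈ LinearMap.ker πP := by
      rw [LinearMap.mem_ker, ← LinearMap.comp_apply, hg, Submodule.mkQ_apply, Submodule.Quotient.mk_eq_zero]
      exact hx
    rw [hπk] at h1
    refine Submodule.smul_induction_on h1 (fun a ha y _ => ?_) (fun y z hy hz => ?_)
    · rw [map_smul]
      obtain ⟨b, rfl⟩ := Ideal.mem_span_singleton'.1 ha
      exact Submodule.smul_mem_smul (Ideal.mul_mem_left _ _ hp') ⟨y, rfl⟩
    · rw [map_add]; exact add_mem hy hz
  · exact sup_le (fun x hx => hker x hx) (Submodule.smul_le.2 fun a ha x _ => hIV a ha x)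
  · refine sub_eq_zero.1 (hinj _ ?_)
    rw [map_sub, sub_eq_zero]
    refine (Classical.choose_spec (p := fun m => V m = _) _).trans ?_
    show WittVector.verschiebung w • x = _
    rw [map_smulₛₗ, hVF, RingHom.coe_coe, smul_smul]
    congr 1
    conv_lhs => rw [← (WittVector.frobeniusEquiv p k).apply_symm_apply w, WittVector.frobeniusEquiv_apply,
      WittVector.verschiebung_frobenius]

end Groth.Agent.S14863
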