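import Groth.Statements.S14867
import Groth.Agent.WittNilLift.Basic

set_option autoImplicit false
universe u
open CAlg

namespace Groth.Agent.S14867

/-- Let p be a prime and S → R a surjective homomorphism of commutative rings such that every element of
its kernel 𝔞 is nilpotent and p is nilpotent in S; write J = W(𝔞) for the kernel of the induced
surjection W(S) → W(R) of rings of p-typical Witt vectors. Then finitely generated projective
modules lift along W(S) → W(R), uniquely up to isomorphism: for every finitely generated projective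
W(R)-module P there is a finitely generated projective W(S)-module P̃ together with a surjection P̃
→ P, semilinear over W(S) → W(R), whose kernel is J·P̃ (that is, an isomorphism W(R) ⊗_{W(S)} P̃ ≅
P); and for any two such pairs (P̃_1, π_1), (P̃_2, π_2) there is a W(S)-linear isomorphism P̃_1 ≅
P̃_2 compatible with π_1 and π_2. -/
theorem result (p : ℕ) [Fact p.Prime] (S R : Type u)
    [CommRing S] [CommRing R] (φ : S →+* R) (hφ : Function.Surjective φ)
    (hnil : ∀ a : S, φ a = 0 → IsNilpotent a) (hp : IsNilpotent (p : S))
    (P : Type u) [AddCommGroup P] [Module (WittVector p R) P]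
    [Module.Finite (WittVector p R) P] [Module.Projective (WittVector p R) P] :
    (∃ (P' : Type u) (_ : AddCommGroup P') (_ : Module (WittVector p S) P'),
        Module.Finite (WittVector p S) P' ∧ Module.Projective (WittVector p S) P' ∧
          ∃ π : P' →ₛₗ[WittVector.map (p := p) φ] P, Function.Surjective π ∧
            LinearMap.ker π = RingHom.ker (WittVector.map (p := p) φ) • (⊤ : Submodule (WittVector p S) P')) ∧
      ∀ (P₁ : Type u) [AddCommGroup P₁] [Module (WittVector p S) P₁]
        [Module.Finite (WittVector p S) P₁] [Module.Projective (WittVector p S) P₁]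
        (P₂ : Type u) [AddCommGroup P₂] [Module (WittVector p S) P₂]
        [Module.Finite (WittVector p S) P₂] [Module.Projective (WittVector p S) P₂]
        (π₁ : P₁ →ₛₗ[WittVector.map (p := p) φ] P) (π₂ : P₂ →ₛₗ[WittVector.map (p := p) φ] P),
        Function.Surjective π₁ →
          LinearMap.ker π₁ = RingHom.ker (WittVector.map (p := p) φ) • (⊤ : Submodule (WittVector p S) P₁) →
        Function.Surjective π₂ →
          LinearMap.ker π₂ = RingHom.ker (WittVector.map (p := p) φ) • (⊤ : Submodule (WittVector p S) P₂) →
        ∃ e : P₁ ≃ₗ[WittVector p S] P₂, ∀ x : P₁, π₂ (e x) = π₁ x := by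
  set W := WittVector.map (p := p) φ with hW
  refine ⟨?_, fun P₁ _ _ _ _ P₂ _ _ _ _ π₁ π₂ h₁ k₁ h₂ k₂ => ?_⟩
  · obtain ⟨N, s, hs⟩ := Module.Finite.exists_fin' (WittVector p R) P
    obtain ⟨σ, hσ⟩ := Module.projective_lifting_property s LinearMap.id hs
    have hσ' : ∀ x, s (σ x) = x := fun x => LinearMap.congr_fun hσ x
    let E := LinearMap.toMatrix' (σ ∘ₗ s)
    have hE : IsIdempotentElem E := by
      rw [IsIdempotentElem, ← LinearMap.toMatrix'_comp]
      refine congrArg _ (LinearMap.ext fun x => ?_)
      exact congrArg σ (hσ' (s x))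
    obtain ⟨e, he, hmap⟩ := Groth.Agent.WittNilLift.exists_idempotent_lift φ hφ hnil E hE
    let m : (Fin N → WittVector p S) →ₛₗ[W] (Fin N → WittVector p R) :=
      { toFun := fun x => W ∘ x
        map_add' := fun x y => funext fun j => map_add W _ _
        map_smul' := fun c x => funext fun j => map_mul W _ _ }
    have hm : ∀ x, m (e.mulVec x) = σ (s (m x)) := by
      intro x
      have h1 : σ (s (m x)) = E.mulVec (m x) := (LinearMap.toMatrix'_mulVec (σ ∘ₗ s) (m x)).symm
      rw [h1, ← hmap]
      funext j
      exact RingHom.map_mulVec W e x j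
    let P' := LinearMap.range (Matrix.toLin' e)
    have hfix : ∀ x : P', e.mulVec x.1 = x.1 := by
      rintro ⟨_, y, rfl⟩
      show e.mulVec (e.mulVec y) = e.mulVec y
      rw [Matrix.mulVec_mulVec, he.eq]
    let π : P' →ₛₗ[W] P := s.comp (m.comp P'.subtype)
    have hπ : Function.Surjective π := by
      intro q
      choose y hy using fun j => WittVector.map_surjective φ hφ (σ q j)
      refine ⟨⟨e.mulVec y, y, rfl⟩, ?_⟩
      show s (m (e.mulVec y)) = q
      rw [hm, hσ', show m y = σ q from funext hy, hσ']
    refine ⟨P', inferInstance, inferInstance, Module.Finite.range _, ?_, π, hπ, ?_⟩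
    · refine Module.Projective.of_split P'.subtype (LinearMap.codRestrict P' (Matrix.toLin' e) fun x => ⟨x, rfl⟩) ?_
      exact LinearMap.ext fun x => Subtype.ext (hfix x)
    · refine le_antisymm (fun x hx => ?_) (Submodule.smul_le.2 fun c hc x _ => ?_)
      · have h0 : m x.1 = 0 := by
          have h := hm x.1
          rw [hfix x] at h
          rw [h, show s (m x.1) = 0 from hx, map_zero]
        have hxe : x = ∑ j, x.1 j • (⟨e.mulVec (Pi.single j 1), Pi.single j 1, rfl⟩ : P') := by
          apply Subtype.ext
          rw [Submodule.coe_sum]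
          simp only [Submodule.coe_smul, ← Matrix.mulVec_smul, ← Matrix.mulVec_sum]
          rw [← pi_eq_sum_univ', hfix]
        rw [hxe]
        exact Submodule.sum_mem _ fun j _ =>
          Submodule.smul_mem_smul (RingHom.mem_ker.2 (congrFun h0 j)) Submodule.mem_top
      · rw [LinearMap.mem_ker, map_smulₛₗ, RingHom.mem_ker.1 hc, zero_smul]
  · letI : Module (WittVector p S) P := Module.compHom P W
    let l₁ : P₁ →ₗ[WittVector p S] P :=
      { toFun := π₁, map_add' := map_add π₁, map_smul' := fun c x => map_smulₛₗ π₁ c x }
    let l₂ : P₂ →ₗ[WittVector p S] P :=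
      { toFun := π₂, map_add' := map_add π₂, map_smul' := fun c x => map_smulₛₗ π₂ c x }
    have e₁ : LinearMap.ker l₁ = RingHom.ker W • (⊤ : Submodule (WittVector p S) P₁) := by
      rw [← k₁]; ext x; rfl
    have e₂ : LinearMap.ker l₂ = RingHom.ker W • (⊤ : Submodule (WittVector p S) P₂) := by
      rw [← k₂]; ext x; rfl
    exact Groth.Agent.WittNilLift.exists_equiv (Groth.Agent.WittNilLift.ker_le_jacobson φ hnil) l₁ l₂ h₁ h₂ e₁ e₂

end Groth.Agent.S14867
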