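import Mathlib
import Groth.Statements.S14869
-- import your own Groth.Agent.* helpers here

set_option autoImplicit false
universe u v w
open CAlg

namespace Groth.Agent.S14869

open TensorProduct in
/-- Let S → R be a surjective homomorphism of commutative rings, let π : P_1 → P_2 be a surjective
homomorphism of S-modules with P_2 projective, and let π̄ : R ⊗_S P_1 → R ⊗_S P_2 be its base
change. Then every R-linear section σ̄ of π̄ lifts to a section of π: there is an S-linear map σ :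
P_2 → P_1 with π ∘ σ = id whose base change R ⊗_S σ is σ̄. -/
theorem result (S R : Type u) [CommRing S] [CommRing R] [Algebra S R]
    (hSR : Function.Surjective (algebraMap S R))
    (P₁ : Type v) [AddCommGroup P₁] [Module S P₁]
    (P₂ : Type w) [AddCommGroup P₂] [Module S P₂] [Module.Projective S P₂]
    (π : P₁ →ₗ[S] P₂) (hπ : Function.Surjective π)
    (σ' : R ⊗[S] P₂ →ₗ[R] R ⊗[S] P₁) (hσ' : (π.baseChange R).comp σ' = LinearMap.id) :
    ∃ σ : P₂ →ₗ[S] P₁, π.comp σ = LinearMap.id ∧ σ.baseChange R = σ' := by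
  let T := { q : (R ⊗[S] P₁) × P₂ // π.baseChange R q.1 = (1 : R) ⊗ₜ[S] q.2 }
  let Tsub : Submodule S ((R ⊗[S] P₁) × P₂) :=
    LinearMap.eqLocus ((π.baseChange R).restrictScalars S ∘ₗ LinearMap.fst S _ _) ((TensorProduct.mk S R P₂ 1) ∘ₗ LinearMap.snd S _ _)
  let Φ : P₁ →ₗ[S] Tsub := LinearMap.codRestrict Tsub ((TensorProduct.mk S R P₁ 1).prod π) fun x => by simp [Tsub]
  have hΦ : Function.Surjective Φ := by
    rintro ⟨⟨t, q⟩, hq⟩
    obtain ⟨x, rfl⟩ := TensorProduct.mk_surjective S P₁ R hSR t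
    simp [Tsub] at hq
    obtain ⟨x₀, hx₀⟩ := hπ (q - π x)
    have h0 : π.lTensor R ((1 : R) ⊗ₜ[S] x₀) = 0 := by
      rw [LinearMap.lTensor_tmul, hx₀, TensorProduct.tmul_sub, hq, sub_self]
    obtain ⟨z, hz⟩ := ((lTensor_exact R (LinearMap.exact_subtype_ker_map π) hπ) _).mp h0
    obtain ⟨k, rfl⟩ := TensorProduct.mk_surjective S (LinearMap.ker π) R hSR z
    simp only [TensorProduct.mk_apply, LinearMap.lTensor_tmul, Submodule.subtype_apply] at hz
    refine ⟨x + (x₀ - k), Subtype.ext (Prod.ext ?_ ?_)⟩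
    · simp [Φ, TensorProduct.tmul_add, TensorProduct.tmul_sub, hz]
    · simp [Φ, hx₀]
  let ψ : P₂ →ₗ[S] Tsub := LinearMap.codRestrict Tsub ((σ'.restrictScalars S ∘ₗ TensorProduct.mk S R P₂ 1).prod LinearMap.id) fun q => by
    simpa [Tsub] using LinearMap.congr_fun hσ' ((1 : R) ⊗ₜ[S] q)
  obtain ⟨σ, hσ⟩ := Module.projective_lifting_property Φ ψ hΦ
  have h1 : ∀ q, (Φ (σ q)).1 = (ψ q).1 := fun q => congrArg Subtype.val (LinearMap.congr_fun hσ q)
  refine ⟨σ, LinearMap.ext fun q => ?_, TensorProduct.AlgebraTensorModule.curry_injective ?_⟩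
  · simpa [Φ, ψ] using congrArg Prod.snd (h1 q)
  · ext q
    simpa [Φ, ψ] using congrArg Prod.fst (h1 q)

end Groth.Agent.S14869
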