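import Groth.Statements.S14871
import Mathlib
-- import your own Groth.Agent.* helpers here

set_option autoImplicit false
universe u v
open PLie

namespace Groth.Agent.S14871

theorem pow_succ_mem {k : Type*} [CommRing k] {L : Type*} [LieRing L] [LieAlgebra k L] (I : LieIdeal k L)
    (x : L) (hx : x ∈ I) (y : L) : ∀ n : ℕ, (LieAlgebra.ad k L x ^ (n + 1)) y ∈ I
  | 0 => by rw [pow_one, LieAlgebra.ad_apply]; exact lie_mem_left k L I x y hx
  | n + 1 => by rw [pow_succ', Module.End.mul_apply, LieAlgebra.ad_apply]; exact I.lie_mem (pow_succ_mem I x hx y n)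

theorem ad_ideal_pow {k : Type*} [CommRing k] {L : Type*} [LieRing L] [LieAlgebra k L] (I : LieIdeal k L)
    (x y : I) : ∀ n : ℕ, (((LieAlgebra.ad k I x ^ n) y : I) : L) = (LieAlgebra.ad k L (x : L) ^ n) (y : L)
  | 0 => rfl
  | n + 1 => by
    rw [pow_succ', pow_succ', Module.End.mul_apply, Module.End.mul_apply, LieAlgebra.ad_apply,
      LieAlgebra.ad_apply, ← ad_ideal_pow I x y n]
    rfl

theorem ad_iterate {k : Type*} [CommRing k] {p : ℕ} [CharP k p] {L : Type*} [LieRing L] [LieAlgebra k L]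
    (φ : PLie.PMap k p L) (x : L) :
    ∀ n : ℕ, LieAlgebra.ad k L (φ.toFun^[n] x) = LieAlgebra.ad k L x ^ (p ^ n)
  | 0 => by simp
  | n + 1 => by
    rw [Function.iterate_succ_apply', φ.ad_map, ad_iterate φ x n, ← pow_mul, pow_succ]

/-- Let `L` be a finite-dimensional Lie algebra over a field of characteristic `p` equipped with a
`p`-mapping `φ`. Then the solvable radical of `L` is stable under `φ` (it is a `p`-subalgebra). -/
theorem result
    (k : Type u) [Field k] (p : ℕ) [Fact p.Prime] [CharP k p]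
    (L : Type v) [LieRing L] [LieAlgebra k L] [Module.Finite k L]
    (φ : PLie.PMap k p L) (x : L) (hx : x ∈ LieAlgebra.radical k L) :
    φ x ∈ LieAlgebra.radical k L := by
  have hp := (Fact.out : p.Prime).two_le
  let S := LieAlgebra.radical k L
  let J : LieIdeal k L :=
    { carrier := {y | ∀ z, ⁅y, z⁆ ∈ S}
      add_mem' := fun {a b} ha hb z => by rw [add_lie]; exact add_mem (ha z) (hb z)
      zero_mem' := fun z => by rw [zero_lie]; exact zero_mem _
      smul_mem' := fun c a ha z => by rw [smul_lie]; exact S.smul_mem c (ha z)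
      lie_mem := fun {a m} hm z => by
        rw [lie_lie]
        exact sub_mem (S.lie_mem (hm z)) (hm ⁅a, z⁆) }
  have h1 : LieAlgebra.derivedSeriesOfIdeal k L 1 J ≤ S := by
    rw [LieAlgebra.derivedSeriesOfIdeal_succ, LieAlgebra.derivedSeriesOfIdeal_zero,
      LieSubmodule.lieIdeal_oper_eq_span, LieSubmodule.lieSpan_le]
    rintro m ⟨⟨a, ha⟩, ⟨b, hb⟩, rfl⟩
    exact ha b
  have hJ : J ≤ S := by
    refine (LieAlgebra.LieIdeal.solvable_iff_le_radical (R := k) (L := L) J).1 ((LieAlgebra.isSolvable_iff k _).2 ?_)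
    obtain ⟨n, hn⟩ := LieAlgebra.IsSolvable.solvable (R := k) (L := S)
    rw [LieIdeal.derivedSeries_eq_bot_iff] at hn
    refine ⟨n + 1, ?_⟩
    rw [LieIdeal.derivedSeries_eq_bot_iff, LieAlgebra.derivedSeriesOfIdeal_add, eq_bot_iff, ← hn]
    exact LieAlgebra.derivedSeriesOfIdeal_mono h1 n
  refine hJ fun z => ?_
  rw [← LieAlgebra.ad_apply (R := k), φ.ad_map, show p = (p - 1) + 1 by omega]
  exact pow_succ_mem S x hx z _

end Groth.Agent.S14871
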