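import Groth.Statements.S14872
import Mathlib
-- import your own Groth.Agent.* helpers here

set_option autoImplicit false
universe u v
open PLie

namespace Groth.Agent.S14872

theorem pow_succ_mem {k : Type*} [CommRing k] {L : Type*} [LieRing L] [LieAlgebra k L] (I : LieIdeal k L)
    (x : L) (hx : x ∈ I) (y : L) : ∀ n : ℕ, (LieAlgebra.ad k L x ^ (n + 1)) y ∈ I
  | 0 => by rw [pow_one, LieAlgebra.ad_apply]; exact lie_mem_left k L I x y hx
  | n + 1 => by rw [pow_succ', Module.End.mul_apply, LieAlgebra.ad_apply]; exact I.lie_mem (pow_succ_mem I x hx y n)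

theorem ad_ideal_pow {k : Type*} [CommRing k] {L : Type*} [LieRing L] [LieAlgebra k L] (I : LieIdeal k L)
    (x y : I) : ∀ n : ℕ, (((LieAlgebra.ad k I x ^ n) y : I) : L) = (LieAlgebra.ad k L (x : L) ^ n) (y : L)
  | 0 => rfl
  | n + 1 => by
    rw [pow_succ', pow_succ', Module.End.mul_apply, Module.End.mul_apply, LieAlgebra.ad_apply,
      LieAlgebra.ad_apply, ← ad_ideal_pow I x y n]
    rfl

theorem ad_iterate {k : Type*} [CommRing k] {p : ℕ} [CharP k p] {L : Type*} [LieRing L] [LieAlgebra k L]
    (φ : PLie.PMap k p L) (x : L) :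
    ∀ n : ℕ, LieAlgebra.ad k L (φ.toFun^[n] x) = LieAlgebra.ad k L x ^ (p ^ n)
  | 0 => by simp
  | n + 1 => by
    rw [Function.iterate_succ_apply', φ.ad_map, ad_iterate φ x n, ← pow_mul, pow_succ]

/-- Let `L` be a finite-dimensional Lie algebra over a field of characteristic `p` equipped with a
`p`-mapping `φ`, and let `N` be its nilradical, i.e. the ideal of `L` that is nilpotent as a Lie
ring and contains every ideal of `L` nilpotent as a Lie ring. Then `N` is stable under `φ` (it is a
`p`-subalgebra). (The nilradical is given here through its characterising property; it is not the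
largest submodule on which `L` acts nilpotently.) -/
theorem result
    (k : Type u) [Field k] (p : ℕ) [Fact p.Prime] [CharP k p]
    (L : Type v) [LieRing L] [LieAlgebra k L] [Module.Finite k L]
    (φ : PLie.PMap k p L) (N : LieIdeal k L) (hN : LieRing.IsNilpotent N)
    (hmax : ∀ I : LieIdeal k L, LieRing.IsNilpotent I → I ≤ N)
    (x : L) (hx : x ∈ N) : φ x ∈ N := by
  have hp := (Fact.out : p.Prime).two_le
  have hnad : ∀ n ∈ N, IsNilpotent (LieAlgebra.ad k L n) := by
    intro n hn
    obtain ⟨m, hm⟩ := (LieAlgebra.isNilpotent_iff_forall (R := k)).1 hN ⟨n, hn⟩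
    refine ⟨m + 1, LinearMap.ext fun y => ?_⟩
    rw [pow_succ, Module.End.mul_apply, LieAlgebra.ad_apply, LinearMap.zero_apply]
    have h := ad_ideal_pow N ⟨n, hn⟩ ⟨⁅n, y⁆, lie_mem_left k L N n y hn⟩ m
    rw [hm, LinearMap.zero_apply] at h
    exact h.symm
  have hmod : LieModule.IsNilpotent N L := by
    rw [LieModule.isNilpotent_iff_forall (R := k)]
    intro n
    obtain ⟨m, hm⟩ := hnad n.1 n.2
    refine ⟨m, ?_⟩
    have : LieModule.toEnd k N L n = LieAlgebra.ad k L n.1 := LinearMap.ext fun y => rfl
    rw [this, hm]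
  obtain ⟨K, hK⟩ := (LieModule.isNilpotent_iff k N L).1 hmod
  let V : ℕ → LieSubmodule k L L := fun j => (fun W : LieSubmodule k L L => ⁅N, W⁆)^[j] ⊤
  have hV : ∀ j, ∀ v ∈ V j, v ∈ LieModule.lowerCentralSeries k N L j := by
    intro j
    induction j with
    | zero => intro v _; exact LieSubmodule.mem_top v
    | succ j ih =>
      intro v hv
      simp only [V, Function.iterate_succ', Function.comp_apply] at hv
      rw [← LieSubmodule.mem_toSubmodule, LieSubmodule.lieIdeal_oper_eq_linear_span'] at hv
      rw [LieModule.lowerCentralSeries_succ]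
      induction hv using Submodule.span_induction with
      | mem v hv =>
        obtain ⟨a, ha, b, hb, rfl⟩ := hv
        exact LieSubmodule.lie_mem_lie (LieSubmodule.mem_top (⟨a, ha⟩ : N)) (ih b hb)
      | zero => exact zero_mem _
      | add a b _ _ ha hb => exact add_mem ha hb
      | smul c a _ ha => exact Submodule.smul_mem _ c ha
  obtain ⟨m, hm⟩ : IsNilpotent (LieAlgebra.ad k L (φ x)) := by
    rw [φ.ad_map]
    exact (hnad x hx).pow_of_pos (by omega)
  have hw : ∀ n ∈ N, ∀ c : k, IsNilpotent (LieAlgebra.ad k L (n + c • φ x)) := by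
    intro n hn c
    set W := LieAlgebra.ad k L (n + c • φ x)
    have h1 : ∀ j, ∀ v ∈ V j, ∀ i : ℕ,
        (W ^ i) v - c ^ i • (LieAlgebra.ad k L (φ x) ^ i) v ∈ V (j + 1) := by
      intro j v hv i
      induction i with
      | zero => simp
      | succ i ih =>
        have hstab : ∀ i, (LieAlgebra.ad k L (φ x) ^ i) v ∈ V j := by
          intro i
          induction i with
          | zero => exact hv
          | succ i ih => rw [pow_succ', Module.End.mul_apply]; exact (V j).lie_mem ih
        have hN' : ∀ u ∈ V j, ⁅n, u⁆ ∈ V (j + 1) := by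
          intro u hu
          simp only [V, Function.iterate_succ', Function.comp_apply]
          exact LieSubmodule.lie_mem_lie hn hu
        have e : (W ^ (i + 1)) v - c ^ (i + 1) • (LieAlgebra.ad k L (φ x) ^ (i + 1)) v =
            ⁅n + c • φ x, (W ^ i) v - c ^ i • (LieAlgebra.ad k L (φ x) ^ i) v⁆ +
              c ^ i • ⁅n, (LieAlgebra.ad k L (φ x) ^ i) v⁆ := by
          simp only [W, pow_succ' _ i, Module.End.mul_apply, LieAlgebra.ad_apply, lie_sub, add_lie,
            lie_smul, smul_lie, smul_smul]
          module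
        rw [e]
        exact add_mem ((V (j + 1)).lie_mem ih) ((V (j + 1)).smul_mem _ (hN' _ (hstab i)))
    refine ⟨m * K, LinearMap.ext fun v => ?_⟩
    have h2 : ∀ j, (W ^ (m * j)) v ∈ V j := by
      intro j
      induction j with
      | zero => exact LieSubmodule.mem_top _
      | succ j ih =>
        have := h1 j _ ih m
        rw [hm, LinearMap.zero_apply, smul_zero, sub_zero] at this
        rw [Nat.mul_succ, add_comm (m * j) m, pow_add, Module.End.mul_apply]
        exact this
    have := hV K _ (h2 K)
    rwa [hK, LieSubmodule.mem_bot] at this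
  have hxin : ∀ z : L, ⁅z, φ x⁆ ∈ N := by
    intro z
    rw [← lie_skew]
    refine neg_mem ?_
    rw [← LieAlgebra.ad_apply (R := k), φ.ad_map, show p = (p - 1) + 1 by omega]
    exact pow_succ_mem N x hx z _
  let I : LieIdeal k L :=
    { (N : Submodule k L) ⊔ Submodule.span k {φ x} with
      lie_mem := fun {z m} hm => by
        obtain ⟨a, ha, b, hb, rfl⟩ := Submodule.mem_sup.1 hm
        obtain ⟨c, rfl⟩ := Submodule.mem_span_singleton.1 hb
        rw [lie_add, lie_smul]
        exact Submodule.mem_sup_left (add_mem (N.lie_mem ha) (N.smul_mem c (hxin z))) }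
  have hI : LieRing.IsNilpotent I := by
    rw [LieAlgebra.isNilpotent_iff_forall (R := k)]
    rintro ⟨w, hwI⟩
    obtain ⟨a, ha, b, hb, rfl⟩ := Submodule.mem_sup.1 hwI
    obtain ⟨c, rfl⟩ := Submodule.mem_span_singleton.1 hb
    obtain ⟨r, hr⟩ := hw a ha c
    refine ⟨r, LinearMap.ext fun y => Subtype.ext ?_⟩
    rw [ad_ideal_pow, hr]
    rfl
  exact hmax I hI (Submodule.mem_sup_right (Submodule.mem_span_singleton_self (φ x)))

end Groth.Agent.S14872
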