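import Groth.Statements.S14873
import Mathlib
-- import your own Groth.Agent.* helpers here

set_option autoImplicit false
universe u v
open PLie

namespace Groth.Agent.S14873

theorem pow_succ_mem {k : Type*} [CommRing k] {L : Type*} [LieRing L] [LieAlgebra k L] (I : LieIdeal k L)
    (x : L) (hx : x ∈ I) (y : L) : ∀ n : ℕ, (LieAlgebra.ad k L x ^ (n + 1)) y ∈ I
  | 0 => by rw [pow_one, LieAlgebra.ad_apply]; exact lie_mem_left k L I x y hx
  | n + 1 => by rw [pow_succ', Module.End.mul_apply, LieAlgebra.ad_apply]; exact I.lie_mem (pow_succ_mem I x hx y n)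

theorem ad_ideal_pow {k : Type*} [CommRing k] {L : Type*} [LieRing L] [LieAlgebra k L] (I : LieIdeal k L)
    (x y : I) : ∀ n : ℕ, (((LieAlgebra.ad k I x ^ n) y : I) : L) = (LieAlgebra.ad k L (x : L) ^ n) (y : L)
  | 0 => rfl
  | n + 1 => by
    rw [pow_succ', pow_succ', Module.End.mul_apply, Module.End.mul_apply, LieAlgebra.ad_apply,
      LieAlgebra.ad_apply, ← ad_ideal_pow I x y n]
    rfl

theorem ad_iterate {k : Type*} [CommRing k] {p : ℕ} [CharP k p] {L : Type*} [LieRing L] [LieAlgebra k L]
    (φ : PLie.PMap k p L) (x : L) :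
    ∀ n : ℕ, LieAlgebra.ad k L (φ.toFun^[n] x) = LieAlgebra.ad k L x ^ (p ^ n)
  | 0 => by simp
  | n + 1 => by
    rw [Function.iterate_succ_apply', φ.ad_map, ad_iterate φ x n, ← pow_mul, pow_succ]

/-- Let `L` be a finite-dimensional Lie algebra over a field of characteristic `p` equipped with a
`p`-mapping `φ`, and let `I` be an ideal of `L` stable under `φ` all of whose elements are
`p`-nilpotent (for instance the `p`-radical, the largest such ideal). Then `I` is nilpotent as a Lie
ring, hence lies in the nilradical of `L`. (The published item also records that the nilradical lies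
in the solvable radical, which is immediate since nilpotent ideals are solvable.) -/
theorem result
    (k : Type u) [Field k] (p : ℕ) [Fact p.Prime] [CharP k p]
    (L : Type v) [LieRing L] [LieAlgebra k L] [Module.Finite k L]
    (φ : PLie.PMap k p L) (I : LieIdeal k L) (hsub : ∀ x ∈ I, φ x ∈ I)
    (hnil : ∀ x ∈ I, PLie.IsPNilpotent φ x) : LieRing.IsNilpotent I := by
  rw [LieAlgebra.isNilpotent_iff_forall (R := k)]
  intro x
  obtain ⟨n, hn⟩ := hnil x x.2
  refine ⟨p ^ n, LinearMap.ext fun y => Subtype.ext ?_⟩
  rw [ad_ideal_pow, ← ad_iterate φ, hn, map_zero, LinearMap.zero_apply, LinearMap.zero_apply]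
  rfl

end Groth.Agent.S14873
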