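import Groth.Statements.S14874
import Mathlib
import Groth.Agent.S14872
import Groth.Agent.S14873
-- import your own Groth.Agent.* helpers here

set_option autoImplicit false
universe u v
open PLie

namespace Groth.Agent.S14874

/-- Let `L` be a finite-dimensional Lie algebra over a field of characteristic `p` equipped with a
`p`-mapping `φ`. Let `N` be the nilradical of `L` (the ideal nilpotent as a Lie ring that contains
every such ideal) and `P` its `p`-radical (the largest ideal stable under `φ` all of whose elements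
are `p`-nilpotent). Then `N = P` if and only if the centre of `L` is contained in `P`. -/
theorem result
    (k : Type u) [Field k] (p : ℕ) [Fact p.Prime] [CharP k p]
    (L : Type v) [LieRing L] [LieAlgebra k L] [Module.Finite k L]
    (φ : PLie.PMap k p L)
    (N : LieIdeal k L) (hN : LieRing.IsNilpotent N)
    (hNmax : ∀ I : LieIdeal k L, LieRing.IsNilpotent I → I ≤ N)
    (P : LieIdeal k L) (hPsub : ∀ x ∈ P, φ x ∈ P) (hPnil : ∀ x ∈ P, PLie.IsPNilpotent φ x)
    (hPmax : ∀ J : LieIdeal k L, (∀ x ∈ J, φ x ∈ J) → (∀ x ∈ J, PLie.IsPNilpotent φ x) → J ≤ P) :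
    N = P ↔ LieAlgebra.center k L ≤ P := by
  have hp := (Fact.out : p.Prime).two_le
  have hPn : P ≤ N := hNmax P (Groth.Agent.S14873.result k p L φ P hPsub hPnil)
  have hzero : φ.toFun 0 = 0 := by
    have h := φ.map_smul 0 0
    rwa [zero_smul, zero_pow (show p ≠ 0 by omega), zero_smul] at h
  constructor
  · rintro rfl
    have hab : LieRing.IsNilpotent (LieAlgebra.center k L) := by
      rw [LieAlgebra.isNilpotent_iff_forall (R := k)]
      intro z
      refine ⟨1, LinearMap.ext fun y => Subtype.ext ?_⟩
      rw [pow_one]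
      exact (LieModule.mem_maxTrivSubmodule k L L (y : L)).1 y.2 z
    exact hNmax _ hab
  · intro hZ
    refine le_antisymm (hPmax N (fun x hx => Groth.Agent.S14872.result k p L φ N hN hNmax x hx) ?_) hPn
    intro x hx
    obtain ⟨m, hm⟩ := (LieAlgebra.isNilpotent_iff_forall (R := k)).1 hN ⟨x, hx⟩
    have hmem : φ.toFun^[m + 1] x ∈ LieAlgebra.center k L := by
      rw [LieModule.mem_maxTrivSubmodule]
      intro y
      rw [← lie_skew, neg_eq_zero, ← LieAlgebra.ad_apply (R := k), Groth.Agent.S14873.ad_iterate φ,
        show p ^ (m + 1) = (p ^ (m + 1) - (m + 1)) + (m + 1) by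
          have := Nat.lt_pow_self (n := m + 1) (show 1 < p by omega); omega,
        pow_add, Module.End.mul_apply]
      have h := Groth.Agent.S14873.ad_ideal_pow N ⟨x, hx⟩ ⟨⁅x, y⁆, lie_mem_left k L N x y hx⟩ m
      rw [hm, LinearMap.zero_apply] at h
      have e : (LieAlgebra.ad k L x ^ (m + 1)) y = 0 := by
        rw [pow_succ _ m, Module.End.mul_apply, LieAlgebra.ad_apply]
        exact h.symm.trans rfl
      rw [e, map_zero]
    obtain ⟨r, hr⟩ := hPnil _ (hZ hmem)
    exact ⟨r + (m + 1), by rw [Function.iterate_add_apply]; exact hr⟩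

end Groth.Agent.S14874
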