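import Groth.Statements.S14879
import Mathlib
-- import your own Groth.Agent.* helpers here

set_option autoImplicit false
universe u
open Finset
open AlgGrp

namespace Groth.Agent.S14879

theorem sign_eq_pow {n : ℕ} (σ : Equiv.Perm (Fin n)) :
    Equiv.Perm.sign σ =
      (-1) ^ ((Finset.univ : Finset (Fin n × Fin n)).filter (fun x => x.1 < x.2 ∧ σ x.2 < σ x.1)).card := by
  classical
  rw [σ.sign_eq_prod_prod_Iio, ← Finset.prod_const, Finset.prod_filter, Fintype.prod_prod_type,
    Finset.prod_comm]
  refine Finset.prod_congr rfl fun j _ => ?_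
  rw [show Finset.Iio j = Finset.univ.filter (fun i => i < j) by ext; simp, Finset.prod_filter]
  refine Finset.prod_congr rfl fun i _ => ?_
  simp only
  by_cases h : i < j
  · rw [if_pos h]
    by_cases h' : σ i < σ j
    · rw [if_pos h', if_neg (fun hh => lt_asymm h' hh.2)]
    · rw [if_neg h', if_pos ⟨h, lt_of_le_of_ne (not_lt.1 h') (fun e => h.ne' (σ.injective e))⟩]
  · rw [if_neg h, if_neg (fun hh => h hh.1)]

theorem sum_eq {k : Type*} [CommRing k] {p r : ℕ} (M : Matrix (Fin (p + r)) (Fin (p + r)) k)
    (a : Fin p → Fin (p + r)) (b : Fin r → Fin (p + r)) :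
    ∑ π : Equiv.Perm (Fin (p + r)), (((Equiv.Perm.sign π : ℤˣ) : ℤ) : k) *
      ((M * π.permMatrix k).submatrix a (Fin.castAdd r)).det *
      ((M * π.permMatrix k).submatrix b (Fin.natAdd p)).det =
    ((p.factorial * r.factorial : ℕ) : k) * (M.submatrix (Sum.elim a b ∘ finSumFinEquiv.symm) id).det := by
  classical
  let c : Fin p ⊕ Fin r ≃ Fin (p + r) := finSumFinEquiv
  have key : ∀ (α : Equiv.Perm (Fin p)) (β : Equiv.Perm (Fin r)),
      (((Equiv.Perm.sign α : ℤˣ) : ℤ) : k) * (((Equiv.Perm.sign β : ℤˣ) : ℤ) : k) *
        ∑ π : Equiv.Perm (Fin (p + r)), (((Equiv.Perm.sign π : ℤˣ) : ℤ) : k) *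
          ((∏ i, M (a (α i)) (π.symm (c (Sum.inl i)))) * ∏ i, M (b (β i)) (π.symm (c (Sum.inr i)))) =
      (M.submatrix (Sum.elim a b ∘ c.symm) id).det := by
    intro α β
    let τ := c.permCongr (Equiv.Perm.sumCongr α β)
    have h1 : ∀ π : Equiv.Perm (Fin (p + r)),
        (∏ i, M (a (α i)) (π.symm (c (Sum.inl i)))) * ∏ i, M (b (β i)) (π.symm (c (Sum.inr i))) =
          ∏ i, (M.submatrix (Sum.elim a b ∘ c.symm) id).submatrix τ id (π i) i := fun π => by
      refine (Fintype.prod_sum_type (fun s => M (Sum.elim (a ∘ α) (b ∘ β) s) (π.symm (c s)))).symm.trans ?_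
      refine Fintype.prod_equiv (c.trans π.symm) _ _ fun s => ?_
      cases s <;> simp [τ]
    simp only [h1]
    rw [← Matrix.det_apply', Matrix.det_permute]
    rw [show Equiv.Perm.sign τ = Equiv.Perm.sign α * Equiv.Perm.sign β by
      simp [τ, Equiv.Perm.sign_sumCongr]]
    rw [Units.val_mul, Int.cast_mul, ← mul_assoc]
    rw [mul_mul_mul_comm, ← Int.cast_mul, ← Int.cast_mul]
    simp [← Units.val_mul, Int.units_mul_self]
  calc
    _ = ∑ α : Equiv.Perm (Fin p), ∑ β : Equiv.Perm (Fin r),
          (M.submatrix (Sum.elim a b ∘ c.symm) id).det := by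
      trans ∑ π : Equiv.Perm (Fin (p + r)), ∑ α : Equiv.Perm (Fin p), ∑ β : Equiv.Perm (Fin r),
          (((Equiv.Perm.sign α : ℤˣ) : ℤ) : k) * (((Equiv.Perm.sign β : ℤˣ) : ℤ) : k) *
            ((((Equiv.Perm.sign π : ℤˣ) : ℤ) : k) *
              ((∏ i, M (a (α i)) (π.symm (c (Sum.inl i)))) * ∏ i, M (b (β i)) (π.symm (c (Sum.inr i)))))
      · refine Finset.sum_congr rfl fun π _ => ?_
        rw [Matrix.det_apply', Matrix.det_apply', mul_assoc, Finset.sum_mul_sum, Finset.mul_sum]
        refine Finset.sum_congr rfl fun α _ => ?_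
        rw [Finset.mul_sum]
        refine Finset.sum_congr rfl fun β _ => ?_
        simp only [Matrix.submatrix_apply, PEquiv.mul_toMatrix_toPEquiv, Equiv.Perm.permMatrix, id, c,
          finSumFinEquiv_apply_left, finSumFinEquiv_apply_right]
        ring
      · rw [Finset.sum_comm]
        refine Finset.sum_congr rfl fun α _ => ?_
        rw [Finset.sum_comm]
        refine Finset.sum_congr rfl fun β _ => ?_
        rw [← key α β, Finset.mul_sum]
    _ = _ := by
      simp [Finset.card_univ, Fintype.card_perm, c, mul_assoc]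


/-- Let k be a field of characteristic zero, n = p + r with p, r ≥ 1, M an n × n matrix over k, A a set
of p row indices and B a set of r row indices, both listed increasingly. For a permutation π of the
indices, with permutation matrix P_π, let Y_A(M·P_π) be the minor of M·P_π on the rows A and the
first p columns, and Z_B(M·P_π) the minor on the rows B and the last r columns. Then the sum over
all π of sign(π)·Y_A(M·P_π)·Z_B(M·P_π) equals p!·r!·(−1)^N·det M when B is the complement of A,
where N is the number of pairs (a, b) with a in A, b outside A and b < a, and equals 0 otherwise.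
Taking det M = 1 this says that the pairing (f, h) ↦ Σ_π sign(π) f(π) h(π) between the spans of the
left p-minors and of the right r-minors is invariant under left translation by matrices of
determinant one and pairs Y_A with the signed complementary minor to p!·r!. (The published statement
asserts that the two families of minors are dual bases for this pairing, that is, the value 1 in
place of p!·r!; the p!·r! permutations preserving the two column blocks each contribute the same
signed term, so this row carries that factor, which is 1 only for n = 2.) -/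
theorem result (k : Type u) [Field k] [CharZero k]
    (p r : ℕ) (hp : 1 ≤ p) (hr : 1 ≤ r) (M : Matrix (Fin (p + r)) (Fin (p + r)) k)
    (A : Finset (Fin (p + r))) (hA : A.card = p) (B : Finset (Fin (p + r))) (hB : B.card = r) :
    ∑ π : Equiv.Perm (Fin (p + r)), (((Equiv.Perm.sign π : ℤˣ) : ℤ) : k) *
      ((M * π.permMatrix k).submatrix (A.orderEmbOfFin hA) (Fin.castAdd r)).det *
      ((M * π.permMatrix k).submatrix (B.orderEmbOfFin hB) (Fin.natAdd p)).det =
    if B = Aᶜ then ((p.factorial * r.factorial : ℕ) : k) *
      (-1 : k) ^ ((A ×ˢ Aᶜ).filter (fun ab => ab.2 < ab.1)).card * M.det else 0 := by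
  classical
  let g : Fin p ⊕ Fin r → Fin (p + r) := Sum.elim (A.orderEmbOfFin hA) (B.orderEmbOfFin hB)
  let G : Fin (p + r) → Fin (p + r) := g ∘ finSumFinEquiv.symm
  rw [sum_eq M (A.orderEmbOfFin hA) (B.orderEmbOfFin hB)]
  by_cases hBA : B = Aᶜ
  · rw [if_pos hBA]
    have hGl : ∀ i : Fin p, G (Fin.castAdd r i) = A.orderEmbOfFin hA i := fun i => by simp [G, g]
    have hGr : ∀ i : Fin r, G (Fin.natAdd p i) = B.orderEmbOfFin hB i := fun i => by simp [G, g]
    have hinj : Function.Injective G := by
      refine Function.Injective.comp ?_ finSumFinEquiv.symm.injective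
      refine Function.Injective.sumElim (A.orderEmbOfFin hA).injective (B.orderEmbOfFin hB).injective fun a b h => ?_
      have h1 := B.orderEmbOfFin_mem hB b
      rw [← h] at h1
      exact Finset.mem_compl.1 (hBA ▸ h1) (A.orderEmbOfFin_mem hA a)
    let σ : Equiv.Perm (Fin (p + r)) := Equiv.ofBijective G (Finite.injective_iff_bijective.1 hinj)
    rw [show M.submatrix G id = M.submatrix σ id from rfl, Matrix.det_permute, mul_assoc]
    congr 2
    rw [sign_eq_pow]
    push_cast
    congr 1
    refine Finset.card_nbij' (fun x => (σ x.1, σ x.2)) (fun x => (σ.symm x.1, σ.symm x.2)) ?_ ?_ ?_ ?_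
    · rintro ⟨i, j⟩ hx
      simp only [Finset.coe_filter, Finset.mem_univ, true_and, Set.mem_setOf_eq] at hx
      simp only [Finset.coe_filter, Set.mem_setOf_eq, Finset.mem_product, Finset.mem_compl]
      obtain ⟨hij, hlt⟩ := hx
      induction i using Fin.addCases with
      | left i =>
        induction j using Fin.addCases with
        | left j =>
          exfalso
          rw [show σ (Fin.castAdd r i) = _ from hGl i, show σ (Fin.castAdd r j) = _ from hGl j,
            OrderEmbedding.lt_iff_lt] at hlt
          exact absurd hlt (not_lt.2 (le_of_lt (show i < j from hij)))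
        | right j =>
          refine ⟨⟨?_, ?_⟩, hlt⟩
          · rw [show σ (Fin.castAdd r i) = _ from hGl i]; exact A.orderEmbOfFin_mem hA i
          · rw [show σ (Fin.natAdd p j) = _ from hGr j]
            exact Finset.mem_compl.1 (hBA ▸ B.orderEmbOfFin_mem hB j)
      | right i =>
        induction j using Fin.addCases with
        | left j =>
          exfalso
          rw [Fin.lt_def, Fin.val_natAdd, Fin.val_castAdd] at hij
          omega
        | right j =>
          exfalso
          rw [show σ (Fin.natAdd p i) = _ from hGr i, show σ (Fin.natAdd p j) = _ from hGr j,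
            OrderEmbedding.lt_iff_lt] at hlt
          have hij' : i < j := by
            rw [Fin.lt_def, Fin.val_natAdd, Fin.val_natAdd] at hij
            exact Nat.lt_of_add_lt_add_left hij
          exact absurd hlt (not_lt.2 hij'.le)
    · rintro ⟨a, b⟩ hx
      simp only [Finset.coe_filter, Finset.mem_product, Finset.mem_compl, Set.mem_setOf_eq] at hx
      simp only [Finset.coe_filter, Finset.mem_univ, true_and, Set.mem_setOf_eq, Equiv.apply_symm_apply]
      obtain ⟨⟨ha, hb⟩, hlt⟩ := hx
      refine ⟨?_, hlt⟩
      obtain ⟨i, rfl⟩ : a ∈ Set.range (A.orderEmbOfFin hA) := by rwa [Finset.range_orderEmbOfFin]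
      obtain ⟨j, rfl⟩ : b ∈ Set.range (B.orderEmbOfFin hB) := by
        rw [Finset.range_orderEmbOfFin, hBA]; simpa using hb
      rw [show σ.symm (A.orderEmbOfFin hA i) = Fin.castAdd r i from σ.symm_apply_eq.2 (hGl i).symm,
        show σ.symm (B.orderEmbOfFin hB j) = Fin.natAdd p j from σ.symm_apply_eq.2 (hGr j).symm,
        Fin.lt_def, Fin.val_castAdd, Fin.val_natAdd]
      omega
    · intro x _; simp
    · intro x _; simp
  · rw [if_neg hBA]
    have : ¬ Disjoint A B := fun h => hBA (Finset.eq_of_subset_of_card_le
      (fun x hx => Finset.mem_compl.2 (Finset.disjoint_right.1 h hx))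
      (by rw [Finset.card_compl, Fintype.card_fin, hA, hB]; omega))
    obtain ⟨x, hxA, hxB⟩ := Finset.not_disjoint_iff.1 this
    obtain ⟨i, hi⟩ : x ∈ Set.range (A.orderEmbOfFin hA) := by rwa [Finset.range_orderEmbOfFin]
    obtain ⟨j, hj⟩ : x ∈ Set.range (B.orderEmbOfFin hB) := by rwa [Finset.range_orderEmbOfFin]
    rw [Matrix.det_zero_of_row_eq (i := Fin.castAdd r i) (j := Fin.natAdd p j), mul_zero]
    · intro h
      have := congrArg Fin.val h
      rw [Fin.val_castAdd, Fin.val_natAdd] at this
      omega
    · ext l
      simp [hi, hj]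

end Groth.Agent.S14879
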