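import Groth.Statements.S14885
import Mathlib.Algebra.Ring.Subring.Basic
-- import your own Groth.Agent.* helpers here

set_option autoImplicit false
universe u v
open CategoryTheory TopologicalSpace Opposite AlgebraicGeometry Topology
open AlgGrp

namespace Groth.Agent.S14885

/-- Let a group Γ act on a ringed space X (a topological space with a sheaf of rings) by automorphisms
τ_g, and let π : X → Y be a Γ-invariant morphism of ringed spaces which exhibits Y as the quotient
ringed space X/Γ: the underlying continuous map of π is a topological quotient map whose fibres are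
exactly the Γ-orbits, and for every open subset V of Y the ring map O_Y(V) → O_X(π⁻¹V) is injective
with image the sections s satisfying τ_g^♯(s) = s for all g. Then (Y, π) is a categorical quotient
for the action in the category of ringed spaces: every morphism of ringed spaces f : X → Z with f ∘
τ_g = f for all g (as morphisms of ringed spaces) factors uniquely as f = f̄ ∘ π. -/
theorem result (X Y : SheafedSpace CommRingCat.{u}) (Γ : Type v) [Group Γ]
    (τ : Γ →* Aut X) (π : X ⟶ Y) (hτ : ∀ g : Γ, (τ g).hom ≫ π = π)
    (h1 : IsQuotientMap π.hom.base)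
    (h2 : ∀ x x' : X, π.hom.base x = π.hom.base x' ↔ ∃ g : Γ, (τ g).hom.hom.base x = x')
    (h3 : ∀ V : Opens Y, Function.Injective (π.hom.c.app (op V)) ∧
      Set.range (π.hom.c.app (op V)) =
        {s | ∀ g : Γ, (τ g).hom.hom.c.app (op ((Opens.map π.hom.base).obj V)) s =
          X.presheaf.map (eqToHom (congrArg (fun f : X ⟶ Y => op ((Opens.map f.hom.base).obj V)) (hτ g).symm)) s})
    (Z : SheafedSpace CommRingCat.{u}) (f : X ⟶ Z) (hf : ∀ g : Γ, (τ g).hom ≫ f = f) :
    ∃! fbar : Y ⟶ Z, π ≫ fbar = f := by
  have hfac : ∀ x x', π.hom.base x = π.hom.base x' → f.hom.base x = f.hom.base x' := by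
    intro x x' h
    obtain ⟨g, hg⟩ := (h2 x x').mp h
    rw [← hg]
    exact (congrArg (fun m : X ⟶ Z => m.hom.base x) (hf g)).symm
  let b : (Y : TopCat) ⟶ (Z : TopCat) := TopCat.ofHom
    ⟨fun y => f.hom.base (Function.surjInv h1.surjective y), by
      rw [h1.continuous_iff]
      exact f.hom.base.hom.continuous.congr fun x => hfac _ _ (Function.surjInv_eq h1.surjective _).symm⟩
  have hb : π.hom.base ≫ b = f.hom.base :=
    TopCat.ext fun x => hfac _ _ (Function.surjInv_eq h1.surjective _)
  have hpre : ∀ W : Opens Z, (Opens.map f.hom.base).obj W = (Opens.map π.hom.base).obj ((Opens.map b).obj W) := by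
    intro W; rw [← hb]; rfl
  let tgt : ∀ W : Opens Z, Z.presheaf.obj (op W) ⟶ X.presheaf.obj (op ((Opens.map π.hom.base).obj ((Opens.map b).obj W))) :=
    fun W => f.hom.c.app (op W) ≫ X.presheaf.map (eqToHom (congrArg op (hpre W)))
  have hinv : ∀ (W : Opens Z) (s : Z.presheaf.obj (op W)),
      tgt W s ∈ (π.hom.c.app (op ((Opens.map b).obj W))).hom.range := by
    intro W s
    refine RingHom.mem_range.mpr ?_
    have hm : tgt W s ∈ Set.range (π.hom.c.app (op ((Opens.map b).obj W))) := by
      rw [(h3 _).2]
      intro g
      have e := PresheafedSpace.congr_app (congrArg InducedCategory.Hom.hom (hf g)) (op W)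
      have e' : f.hom.c.app (op W) ≫ (τ g).hom.hom.c.app (op ((Opens.map f.hom.base).obj W)) =
          f.hom.c.app (op W) ≫ X.presheaf.map (eqToHom (congrArg (fun m : X ⟶ Z => op ((Opens.map m.hom.base).obj W)) (hf g).symm)) := e
      have nat := (τ g).hom.hom.c.naturality (eqToHom (congrArg op (hpre W)))
      show (tgt W ≫ (τ g).hom.hom.c.app _) s = (tgt W ≫ X.presheaf.map _) s
      congr 2
      simp only [tgt, Category.assoc]
      rw [nat, reassoc_of% e']
      simp [← Functor.map_comp, TopCat.Presheaf.pushforward_obj_map, eqToHom_map]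
    exact hm
  let e : ∀ V : Opens Y, Y.presheaf.obj (op V) ≃+* (π.hom.c.app (op V)).hom.range := fun V =>
    RingEquiv.ofBijective (π.hom.c.app (op V)).hom.rangeRestrict
      ⟨fun p q h => (h3 V).1 (congrArg Subtype.val h), (π.hom.c.app (op V)).hom.rangeRestrict_surjective⟩
  let bc : ∀ W : Opens Z, Z.presheaf.obj (op W) ⟶ Y.presheaf.obj (op ((Opens.map b).obj W)) := fun W =>
    CommRingCat.ofHom ((e _).symm.toRingHom.comp ((tgt W).hom.codRestrict _ (hinv W)))
  have hbc : ∀ W, bc W ≫ π.hom.c.app (op ((Opens.map b).obj W)) = tgt W := by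
    intro W
    ext s
    exact congrArg Subtype.val ((e _).apply_symm_apply ⟨tgt W s, hinv W s⟩)
  have monoπ : ∀ V, Mono (π.hom.c.app (op V)) := fun V => ConcreteCategory.mono_of_injective _ (h3 V).1
  let fbar : Y ⟶ Z := InducedCategory.homMk
    { base := b
      c :=
        { app := fun W => bc W.unop
          naturality := fun W W' i => by
            haveI := monoπ ((Opens.map b).obj W'.unop)
            rw [← cancel_mono (π.hom.c.app (op ((Opens.map b).obj W'.unop)))]
            have n1 := π.hom.c.naturality ((Opens.map b).map i.unop).op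
            simp only [Category.assoc]
            rw [hbc W'.unop]
            erw [n1]
            rw [reassoc_of% hbc W.unop]
            simp only [tgt, Category.assoc]
            erw [← X.presheaf.map_comp]
            rw [← Category.assoc, f.hom.c.naturality i, Category.assoc]
            erw [← X.presheaf.map_comp]
            rfl } }
  have hfb : π ≫ fbar = f := by
    refine SheafedSpace.ext _ _ hb ?_
    refine NatTrans.ext (funext fun W => ?_)
    rw [NatTrans.comp_app, SheafedSpace.comp_hom_c_app, Functor.whiskerRight_app]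
    show (bc W.unop ≫ π.hom.c.app (op ((Opens.map b).obj W.unop))) ≫ _ = _
    rw [hbc]
    simp [tgt, eqToHom_map, eqToHom_app]
    erw [eqToHom_trans, eqToHom_refl, Category.comp_id]
  refine ⟨fbar, hfb, fun g hg => ?_⟩
  have hbase : g.hom.base = b := by
    refine TopCat.ext fun y => ?_
    obtain ⟨x, rfl⟩ := h1.surjective y
    have := congrArg (fun m : X ⟶ Z => m.hom.base x) (hg.trans hfb.symm)
    exact this
  obtain ⟨⟨gb, gc⟩⟩ := g
  subst hbase
  refine InducedCategory.hom_ext (PresheafedSpace.ext _ _ rfl ?_)
  refine NatTrans.ext (funext fun W => ?_)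
  haveI := monoπ ((Opens.map b).obj W.unop)
  have h4 := PresheafedSpace.congr_app (congrArg InducedCategory.Hom.hom (hg.trans hfb.symm)) W
  show gc.app W ≫ Y.presheaf.map (𝟙 _) = bc W.unop
  erw [Y.presheaf.map_id, Category.comp_id]
  apply (cancel_mono (π.hom.c.app (op ((Opens.map b).obj W.unop)))).mp
  refine h4.trans ?_
  erw [X.presheaf.map_id, Category.comp_id]

end Groth.Agent.S14885
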