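import Groth.Statements.S14887
import Groth.Agent.GeomUnib.ValuationFibre
import Groth.Agent.FlatGenFibre.Basic
import Groth.Agent.GeomUnib.FibreDimSemi
-- import your own Groth.Agent.* helpers here

set_option autoImplicit false
universe u
open CategoryTheory AlgebraicGeometry
open FlatMor

namespace Groth.Agent.S14887

open AlgebraicGeometry CategoryTheory

/-- Over a valuation ring transcendence degrees of residue extensions grow under generization. -/
theorem trdeg_quotient_le {A B : Type u} [CommRing A] [IsDomain A] [ValuationRing A]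
    [CommRing B] [Algebra A B] (g q : Ideal B) [g.IsPrime] [q.IsPrime] (hgq : g ≤ q) :
    Algebra.trdeg (A ⧸ q.under A) (B ⧸ q) ≤ Algebra.trdeg (A ⧸ g.under A) (B ⧸ g) := by
  classical
  refine ciSup_le' fun s => ?_
  choose z hz using fun i : s.1 => Ideal.Quotient.mk_surjective (i : B ⧸ q)
  have hind : AlgebraicIndependent (A ⧸ g.under A) fun i => Ideal.Quotient.mk g (z i) := by
    refine algebraicIndependent_iff.2 fun G hG => ?_
    obtain ⟨G, rfl⟩ := MvPolynomial.map_surjective (Ideal.Quotient.mk (g.under A)) Ideal.Quotient.mk_surjective G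
    have hev : ∀ (J : Ideal B) (G : MvPolynomial s.1 A),
        (MvPolynomial.aeval fun i => Ideal.Quotient.mk J (z i))
          (MvPolynomial.map (Ideal.Quotient.mk (J.under A)) G) = Ideal.Quotient.mk J (MvPolynomial.aeval z G) := by
      intro J G
      refine RingHom.congr_fun (f := (MvPolynomial.aeval fun i => Ideal.Quotient.mk J (z i)).toRingHom.comp
          (MvPolynomial.map (Ideal.Quotient.mk (J.under A))))
        (g := (Ideal.Quotient.mk J).comp (MvPolynomial.aeval z).toRingHom) ?_ G
      refine MvPolynomial.ringHom_ext (fun a => ?_) (fun i => ?_)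
      · simp
      · simp
    rw [hev, Ideal.Quotient.eq_zero_iff_mem] at hG
    by_contra hne
    have hG0 : G ≠ 0 := fun h => hne (by rw [h, map_zero])
    obtain ⟨k₁, hk₁⟩ : ∃ k₁, MvPolynomial.coeff k₁ G ∉ g.under A := by
      by_contra hall
      push Not at hall
      refine hne (MvPolynomial.ext _ _ fun k => ?_)
      rw [MvPolynomial.coeff_map, MvPolynomial.coeff_zero]
      exact Ideal.Quotient.eq_zero_iff_mem.2 (hall k)
    obtain ⟨k₀, hk₀, hdvd⟩ : ∃ k₀ ∈ G.support, ∀ k ∈ G.support, MvPolynomial.coeff k₀ G ∣ MvPolynomial.coeff k G := by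
      have : ∀ S : Finset (s.1 →₀ ℕ), S.Nonempty →
          ∃ k₀ ∈ S, ∀ k ∈ S, MvPolynomial.coeff k₀ G ∣ MvPolynomial.coeff k G := by
        intro S hS
        induction hS using Finset.Nonempty.cons_induction with
        | singleton a => exact ⟨a, Finset.mem_singleton_self a, fun k hk => by rw [Finset.mem_singleton.1 hk]⟩
        | cons a S ha hS ih =>
          obtain ⟨k₀, hk₀, hd⟩ := ih
          rcases ValuationRing.dvd_total (MvPolynomial.coeff a G) (MvPolynomial.coeff k₀ G) with h | h
          · exact ⟨a, Finset.mem_cons_self a S, fun k hk => (Finset.mem_cons.1 hk).elim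
              (fun e => e ▸ dvd_rfl) fun hk => h.trans (hd k hk)⟩
          · exact ⟨k₀, Finset.mem_cons.2 (Or.inr hk₀), fun k hk => (Finset.mem_cons.1 hk).elim
              (fun e => e ▸ h) fun hk => hd k hk⟩
      exact this _ (MvPolynomial.support_nonempty.2 hG0)
    obtain ⟨G₁, hG₁⟩ : ∃ G₁, G = MvPolynomial.C (MvPolynomial.coeff k₀ G) * G₁ := by
      refine (MvPolynomial.C_dvd_iff_dvd_coeff _ _).2 fun k => ?_
      by_cases hk : k ∈ G.support
      · exact hdvd k hk
      · rw [MvPolynomial.notMem_support_iff.1 hk]; exact dvd_zero _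
    have hc : MvPolynomial.coeff k₀ G ≠ 0 := MvPolynomial.mem_support_iff.1 hk₀
    rw [hG₁, map_mul, MvPolynomial.aeval_C] at hG
    have h1 : MvPolynomial.aeval z G₁ ∈ g := ((inferInstance : g.IsPrime).mem_or_mem hG).resolve_left
      fun h => hk₁ ((g.under A).mem_of_dvd (hdvd k₁ (MvPolynomial.mem_support_iff.2 fun h0 =>
        hk₁ (h0 ▸ (g.under A).zero_mem))) h)
    have h2 : MvPolynomial.map (Ideal.Quotient.mk (q.under A)) G₁ = 0 := by
      refine algebraicIndependent_iff.1 s.2 _ ?_
      have := hev q G₁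
      simp only [hz] at this
      simp only [id_eq]
      rw [this, Ideal.Quotient.eq_zero_iff_mem]
      exact hgq h1
    have h3 := congrArg (MvPolynomial.coeff k₀) hG₁
    rw [MvPolynomial.coeff_C_mul] at h3
    have h4 : MvPolynomial.coeff k₀ G₁ = 1 := (mul_eq_left₀ hc).1 h3.symm
    have h5 := congrArg (MvPolynomial.coeff k₀) h2
    rw [MvPolynomial.coeff_map, h4, map_one, MvPolynomial.coeff_zero] at h5
    haveI : Nontrivial (A ⧸ q.under A) := Ideal.Quotient.nontrivial_iff.2 (Ideal.IsPrime.ne_top inferInstance)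
    exact one_ne_zero h5
  exact hind.cardinalMk_le_trdeg


/-- Let R be a valuation ring and let φ : X → Spec R be flat and locally of finite presentation. Call x
∈ X fibre-generic when it is the generic point of an irreducible component of its fibre, i.e. no
point y ≠ x with φ y = φ x specializes to x. Then every generization of a fibre-generic point is
fibre-generic. (The published statement allows an arbitrary base scheme and takes φ finitely
presented. Over a two-dimensional base it fails: for the affine line over the affine plane with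
coordinates a, b, the closed point u = a/b of the generic fibre specializes to the generic point of
the fibre over a = b = 0, and the chain-lifting step of the published proof does not hold in that
generality. This row takes the base to be the spectrum of a valuation ring, the case in which the
result is applied to relative curves, and assumes only local finite presentation, the property being
local on X.) -/
theorem result
    (R : Type u) [CommRing R] [IsDomain R] [ValuationRing R] {X : Scheme.{u}}
    (φ : X ⟶ Spec (CommRingCat.of R)) [Flat φ] [LocallyOfFinitePresentation φ]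
    (x x' : X) (hgen : x' ⤳ x) (hx : ∀ y : X, y ⤳ x → φ y = φ x → y = x) :
    ∀ y : X, y ⤳ x' → φ y = φ x' → y = x' := by
  have hmax : ∀ z : X, φ.base z = φ.base x → x ∈ closure {z} → z = x := fun z hz hcl =>
    hx z (specializes_iff_mem_closure.2 hcl) hz
  intro y hy hφy
  obtain ⟨U, hU, V, hV, hVU, hxV, -, n, ψ, hn, hqf⟩ := FibreDim.exists_chart φ x ⊤ trivial
  have hx'V : x' ∈ V := hgen.mem_open V.2 hxV
  have hyV : y ∈ V := hy.mem_open V.2 hx'V
  have hle : ∀ (a b : X) (ha : a ∈ V) (hb : b ∈ V), a ⤳ b →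
      (hV.primeIdealOf ⟨a, ha⟩).asIdeal ≤ (hV.primeIdealOf ⟨b, hb⟩).asIdeal := fun a b ha hb h => by
    refine (PrimeSpectrum.le_iff_specializes _ _).2 (hV.fromSpec.isOpenEmbedding.toIsInducing.specializes_iff.1 ?_)
    rw [hV.fromSpec_primeIdealOf, hV.fromSpec_primeIdealOf]; exact h
  -- the fibre dimension does not drop under generization over a valuation ring
  have hxx' : FibreDim.fdim φ x ≤ FibreDim.fdim φ x' := by
    have hU' : IsAffineOpen (⊤ : (Spec (CommRingCat.of R)).Opens) := isAffineOpen_top _
    have hVU' : V ≤ φ ⁻¹ᵁ ⊤ := le_top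
    letI := (φ.appLE ⊤ V hVU').hom.toAlgebra
    haveI : IsDomain Γ(Spec (CommRingCat.of R), ⊤) :=
      (Scheme.ΓSpecIso _).commRingCatIsoToRingEquiv.toMulEquiv.isDomain_iff.2 inferInstance
    haveI : ValuationRing Γ(Spec (CommRingCat.of R), ⊤) :=
      Function.Surjective.valuationRing (Scheme.ΓSpecIso (CommRingCat.of R)).inv.hom
        (Scheme.ΓSpecIso (CommRingCat.of R)).commRingCatIsoToRingEquiv.symm.surjective
    obtain ⟨a, ha, hda⟩ := FibreDim.exists_dim_chart φ hU' hV hVU' x hxV
    obtain ⟨b, hb, hdb⟩ := FibreDim.exists_dim_chart φ hU' hV hVU' x' hx'V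
    obtain ⟨k, hk, hkO⟩ := FibreDim.exists_fdim φ x
    obtain ⟨l, hl, hlO⟩ := FibreDim.exists_fdim φ x'
    rw [hk, hl, ← hkO V V.2 hxV, ← hlO V V.2 hx'V, hda, hdb]
    have h1 : (a : Cardinal) ≤ b := by
      rw [← ha, ← hb]
      exact trdeg_quotient_le _ _ (hle x' x hx'V hxV hgen)
    exact_mod_cast h1
  letI := (φ.appLE U V hVU).hom.toAlgebra
  rw [← FibreDim.fibreDimAt_of_maximal φ x hmax, hn] at hxx'
  have hqf' := FibreDim.isQFAt_of_le ψ _ _ (hle x' x hx'V hxV hgen) hqf
  have hqfy := FibreDim.isQFAt_of_le ψ _ _ (hle y x' hyV hx'V hy) hqf'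
  obtain ⟨h1, h2⟩ := FibreDim.fdim_chart φ hU hV hVU x' hx'V ψ hqf'
  have hinj := h2.1 (le_antisymm h1 hxx')
  rw [FibreDim.injective_quotMap_iff] at hinj
  set qy := (hV.primeIdealOf ⟨y, hyV⟩).asIdeal with hqy
  set qx := (hV.primeIdealOf ⟨x', hx'V⟩).asIdeal with hqx
  have hunder : qy.under Γ(Spec (CommRingCat.of R), U) = qx.under Γ(Spec (CommRingCat.of R), U) :=
    (FibreDim.primeIdeal_comap φ hU hV hVU x' hx'V y hyV).1 hφy
  letI : Algebra (MvPolynomial (Fin n) Γ(Spec (CommRingCat.of R), U)) Γ(X, V) := ψ.toRingHom.toAlgebra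
  haveI : Algebra.QuasiFiniteAt (MvPolynomial (Fin n) Γ(Spec (CommRingCat.of R), U)) qx := hqf'
  have heq : qy = qx := by
    refine Algebra.QuasiFiniteAt.eq_of_le_of_under_eq (R := MvPolynomial (Fin n) Γ(Spec (CommRingCat.of R), U))
      (hle y x' hyV hx'V hy) (le_antisymm (Ideal.comap_mono (hle y x' hyV hx'V hy)) ?_)
    show qx.comap ψ.toRingHom ≤ qy.comap ψ.toRingHom
    rw [hinj, MvPolynomial.ker_map, Ideal.mk_ker, ← hunder, Ideal.map_le_iff_le_comap]
    intro a ha
    show ψ (MvPolynomial.C a) ∈ qy
    rw [← MvPolynomial.algebraMap_eq, ψ.commutes]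
    exact ha
  have h := congrArg hV.fromSpec (PrimeSpectrum.ext heq : hV.primeIdealOf ⟨y, hyV⟩ = hV.primeIdealOf ⟨x', hx'V⟩)
  rwa [hV.fromSpec_primeIdealOf, hV.fromSpec_primeIdealOf] at h

end Groth.Agent.S14887
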