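import Groth.Statements.S14888
import Mathlib

set_option autoImplicit false
universe u
open CategoryTheory AlgebraicGeometry
open CAlg

namespace Groth.Agent.S14888

/-- Let R be a valuation ring whose spectrum is finite (finite height) and let f : X → Spec R be locally
of finite type with locally quasi-finite fibres. For every x ∈ X the canonical morphism Spec O_{X,x}
→ X is an open immersion, and the composite Spec O_{X,x} → Spec R is locally of finite type; in
particular O_{X,x} is finitely generated as an R-algebra. (The published statement takes X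
quasi-finite over Spec R; the assertions are local at x, so this row assumes only that X is locally
of finite type with discrete fibres.) -/
theorem result
    (R : Type u) [CommRing R] [IsDomain R] [ValuationRing R] [Finite (PrimeSpectrum R)]
    {X : Scheme.{u}} (f : X ⟶ Spec (CommRingCat.of R)) [LocallyOfFiniteType f] [LocallyQuasiFinite f]
    (x : X) :
    IsOpenImmersion (X.fromSpecStalk x) ∧ LocallyOfFiniteType (X.fromSpecStalk x ≫ f) := by
  classical
  obtain ⟨U, hU, hxU, -⟩ := exists_isAffineOpen_mem_and_subset (X := X) (x := x) (U := ⊤) trivial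
  have hop : IsOpenImmersion (X.fromSpecStalk x) := by
    have hqf : (f.appLE ⊤ U le_top).hom.QuasiFinite :=
      LocallyQuasiFinite.quasiFinite_appLE (isAffineOpen_top _) hU le_top
    letI := (f.appLE ⊤ U le_top).hom.toAlgebra
    haveI : Algebra.QuasiFinite Γ(Spec (CommRingCat.of R), ⊤) Γ(X, U) := hqf
    haveI : Finite (PrimeSpectrum Γ(Spec (CommRingCat.of R), ⊤)) :=
      Finite.of_equiv _ (PrimeSpectrum.comapEquiv (Scheme.ΓSpecIso (CommRingCat.of R)).commRingCatIsoToRingEquiv.symm).toEquiv
    haveI : Finite (PrimeSpectrum Γ(X, U)) :=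
      Algebra.QuasiFinite.finite_primeSpectrum (R := Γ(Spec (CommRingCat.of R), ⊤)) (S := Γ(X, U))
    haveI := Fintype.ofFinite (PrimeSpectrum Γ(X, U))
    set P := (hU.primeIdealOf ⟨x, hxU⟩).asIdeal with hP
    have hsel : ∀ Q : PrimeSpectrum Γ(X, U), ∃ a : Γ(X, U), a ∉ P ∧ (¬ Q.asIdeal ≤ P → a ∈ Q.asIdeal) := fun Q => by
      by_cases hQ : Q.asIdeal ≤ P
      · exact ⟨1, fun h1 => Ideal.IsPrime.ne_top' ((Ideal.eq_top_iff_one P).2 h1), fun h => absurd hQ h⟩
      · obtain ⟨a, haQ, haP⟩ := SetLike.not_le_iff_exists.1 hQ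
        exact ⟨a, haP, fun _ => haQ⟩
    choose a haP haQ using hsel
    let g : Γ(X, U) := ∏ Q, a Q
    have hgP : g ∉ P := fun hf => by
      obtain ⟨Q, -, hQ⟩ := (Ideal.IsPrime.prod_mem_iff).1 hf
      exact haP Q hQ
    have h' : ∀ y : P.primeCompl, ∃ m : Γ(X, U), m * y ∈ Submonoid.powers g := by
      intro y
      have hrad : g ∈ (Ideal.span {(y : Γ(X, U))}).radical := by
        rw [Ideal.radical_eq_sInf, Ideal.mem_sInf]
        rintro Q ⟨hQy, hQp⟩
        have hnle : ¬ Q ≤ P := fun hle => y.2 (hle (hQy (Ideal.mem_span_singleton_self _)))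
        exact Ideal.mem_of_dvd Q (Finset.dvd_prod_of_mem a (Finset.mem_univ (⟨Q, hQp⟩ : PrimeSpectrum Γ(X, U)))) (haQ ⟨Q, hQp⟩ hnle)
      obtain ⟨n, hn⟩ := hrad
      obtain ⟨m, hm⟩ := Ideal.mem_span_singleton.1 hn
      exact ⟨m, n, by show g ^ n = m * y; rw [hm, mul_comm]⟩
    letI : Algebra Γ(X, U) (X.presheaf.stalk x) := (X.presheaf.germ U x hxU).hom.toAlgebra
    haveI : IsLocalization.AtPrime (X.presheaf.stalk x) P := hU.isLocalization_stalk ⟨x, hxU⟩
    haveI : IsLocalization P.primeCompl (Localization.Away g) :=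
      IsLocalization.isLocalization_of_is_exists_mul_mem (Localization.Away g) (Submonoid.powers g) P.primeCompl
        (Submonoid.powers_le.2 hgP) h'
    let e : Localization.Away g ≃ₐ[Γ(X, U)] X.presheaf.stalk x := IsLocalization.algEquiv P.primeCompl _ _
    haveI : IsLocalization.Away g (X.presheaf.stalk x) :=
      IsLocalization.isLocalization_of_algEquiv (Submonoid.powers g) e
    haveI : IsOpenImmersion (Spec.map (X.presheaf.germ U x hxU)) :=
      IsOpenImmersion.of_isLocalization (R := Γ(X, U)) (S := X.presheaf.stalk x) g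
    rw [← hU.fromSpecStalk_eq_fromSpecStalk hxU]
    show IsOpenImmersion (Spec.map (X.presheaf.germ U x hxU) ≫ hU.fromSpec)
    infer_instance
  exact ⟨hop, inferInstance⟩

end Groth.Agent.S14888
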