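import Mathlib
import Groth.Statements.S14891
-- import your own Groth.Agent.* helpers here

set_option autoImplicit false
universe u
open CAlg

namespace Groth.Agent.S14891

open MvPolynomial in
theorem exists_value {K L Γ₀ Γ₁ : Type u} [Field K] [Field L] [Algebra K L]
    [LinearOrderedCommGroupWithZero Γ₀] [LinearOrderedCommGroupWithZero Γ₁]
    (vK : Valuation K Γ₀) (vL : Valuation L Γ₁) [vK.HasExtension vL] {κ : Type u} (u : κ → vL.valuationSubring)
    (hu : AlgebraicIndependent (IsLocalRing.ResidueField vK.valuationSubring) (fun i => IsLocalRing.residue _ (u i)))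
    (g : MvPolynomial κ K) (hg : g ≠ 0) :
    ∃ c : K, c ≠ 0 ∧ vL (aeval (fun i => (u i : L)) g) = vL (algebraMap K L c) := by
  classical
  obtain ⟨j, hj, hmax⟩ := g.support.exists_max_image (fun m => vL (algebraMap K L (coeff m g))) (support_nonempty.mpr hg)
  set c := coeff j g
  have hc : c ≠ 0 := mem_support_iff.mp hj
  have hvc : vL (algebraMap K L c) ≠ 0 := by simp [hc]
  have hmem : ∀ m, c⁻¹ * coeff m g ∈ vK.valuationSubring := fun m => by
    rw [Valuation.mem_valuationSubring_iff, ← Valuation.HasExtension.val_map_le_one_iff vK vL, map_mul, map_mul, map_inv₀, map_inv₀,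
      inv_mul_le_one₀ (zero_lt_iff.mpr hvc)]
    by_cases hm : m ∈ g.support
    · exact hmax m hm
    · simp [notMem_support_iff.mp hm]
  let g' : MvPolynomial κ vK.valuationSubring := ∑ m ∈ g.support, monomial m ⟨c⁻¹ * coeff m g, hmem m⟩
  have hne : MvPolynomial.map (IsLocalRing.residue vK.valuationSubring) g' ≠ 0 := fun h => by
    have h1 := congrArg (coeff j) h
    simp only [g', coeff_map, coeff_sum, coeff_monomial, Finset.sum_ite_eq', if_pos hj, coeff_zero] at h1
    rw [show (⟨c⁻¹ * coeff j g, hmem j⟩ : vK.valuationSubring) = 1 from Subtype.ext (inv_mul_cancel₀ hc), map_one] at h1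
    exact one_ne_zero h1
  have hr : IsLocalRing.residue _ (aeval u g') ≠ 0 := by
    intro h
    refine hne (hu.eq_zero_of_aeval_eq_zero _ ?_)
    rw [aeval_def, eval₂_map, ← h, aeval_def, eval₂_comp_left]
    rfl
  have hu1 : vL ((aeval u g' : vL.valuationSubring) : L) = 1 := by
    obtain ⟨w, hw⟩ := (IsLocalRing.residue_ne_zero_iff_isUnit _).mp hr
    rw [← hw]
    have h1 : vL ((w : vL.valuationSubring) : L) * vL ((↑w⁻¹ : vL.valuationSubring) : L) = 1 := by
      rw [← map_mul, ← MulMemClass.coe_mul, Units.mul_inv]; simp
    have ha : vL ((w : vL.valuationSubring) : L) ≤ 1 := (w : vL.valuationSubring).2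
    have hb : vL ((↑w⁻¹ : vL.valuationSubring) : L) ≤ 1 := (↑w⁻¹ : vL.valuationSubring).2
    exact le_antisymm ha (h1 ▸ mul_le_of_le_one_right' hb)
  have hcoe : ((aeval u g' : vL.valuationSubring) : L) = algebraMap K L c⁻¹ * aeval (fun i => (u i : L)) g := by
    conv_rhs => rw [as_sum g]
    simp only [g', map_sum, AddSubmonoidClass.coe_finsetSum, Finset.mul_sum, aeval_monomial]
    refine Finset.sum_congr rfl fun m _ => ?_
    rw [MulMemClass.coe_mul, ← mul_assoc, ← map_mul]
    congr 1
    exact map_finsuppProd vL.valuationSubring.subtype _ _ |>.trans (by simp [Finsupp.prod])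
  rw [hcoe, map_mul, map_inv₀, map_inv₀] at hu1
  exact ⟨c, hc, ((inv_mul_eq_one₀ hvc).mp hu1).symm⟩

/-- Let L/K be an extension of valued fields, i.e. v_L is a valuation on L whose restriction to K is
equivalent to v_K. Write E for the rational rank of the quotient of value groups |L^×|/|K^×| — here
the rank of the abelian group L^× modulo the subgroup generated by the units of the valuation ring
of v_L and the image of K^× — and F for the transcendence degree of the residue field of v_L over
that of v_K. Then E + F ≤ tr.deg(L/K) (an inequality of cardinals). -/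
theorem result
    {K L Γ₀ Γ₁ : Type u} [Field K] [Field L] [Algebra K L]
    [LinearOrderedCommGroupWithZero Γ₀] [LinearOrderedCommGroupWithZero Γ₁]
    (vK : Valuation K Γ₀) (vL : Valuation L Γ₁) [vK.HasExtension vL] :
    Module.rank ℤ (Additive Lˣ ⧸ Subgroup.toAddSubgroup
        (vL.valuationSubring.unitGroup ⊔ (Units.map (algebraMap K L).toMonoidHom).range)) +
      Algebra.trdeg (IsLocalRing.ResidueField vK.valuationSubring)
        (IsLocalRing.ResidueField vL.valuationSubring) ≤ Algebra.trdeg K L := by
  classical
  set H := vL.valuationSubring.unitGroup ⊔ (Units.map (algebraMap K L).toMonoidHom).range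
  obtain ⟨S, hS, hSli⟩ := exists_set_linearIndependent ℤ (Additive Lˣ ⧸ Subgroup.toAddSubgroup H)
  obtain ⟨U, hU⟩ := exists_isTranscendenceBasis (IsLocalRing.ResidueField vK.valuationSubring)
    (IsLocalRing.ResidueField vL.valuationSubring)
  choose t ht using fun s : S => QuotientAddGroup.mk_surjective s.1
  choose u hu using fun x : U => IsLocalRing.residue_surjective x.1
  have hind : AlgebraicIndependent (IsLocalRing.ResidueField vK.valuationSubring) (fun i => IsLocalRing.residue _ (u i)) := by
    convert hU.1 using 1
    funext i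
    exact hu i
  have huK : AlgebraicIndependent K (fun i => (u i : L)) := by
    rw [algebraicIndependent_iff]
    intro g hg
    by_contra hne
    obtain ⟨c, hc, hv⟩ := exists_value vK vL u hind g hne
    rw [hg, map_zero] at hv
    exact (map_ne_zero vL).mpr ((map_ne_zero (algebraMap K L)).mpr hc) hv.symm
  let T : S → L := fun s => ((Additive.toMul (t s) : Lˣ) : L)
  have htA : AlgebraicIndependent (Algebra.adjoin K (Set.range fun i => (u i : L))) T := by
    rw [algebraicIndependent_iff]
    intro P hP
    by_contra hne
    let f : (S →₀ ℕ) → L := fun m => (MvPolynomial.coeff m P).1 * m.prod fun s k => T s ^ k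
    obtain ⟨j, hj, hmax⟩ := P.support.exists_max_image (fun m => vL (f m)) (MvPolynomial.support_nonempty.mpr hne)
    have hval : ∀ m ∈ P.support, ∃ k : Kˣ, vL (MvPolynomial.coeff m P).1 = vL (algebraMap K L k) := by
      intro m hm
      obtain ⟨g, hg⟩ := (Algebra.adjoin_range_eq_range_aeval K (fun i => (u i : L))).le (MvPolynomial.coeff m P).2
      have hg0 : g ≠ 0 := fun h => MvPolynomial.mem_support_iff.mp hm (Subtype.ext (by rw [← hg, h]; simp))
      obtain ⟨c, hc, hv⟩ := exists_value vK vL u hind g hg0
      exact ⟨Units.mk0 c hc, by rw [← hg]; exact hv⟩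
    have hf0 : ∀ m ∈ P.support, vL (f m) ≠ 0 := fun m hm => by
      refine (map_ne_zero vL).mpr (mul_ne_zero (fun h => MvPolynomial.mem_support_iff.mp hm (Subtype.ext h)) ?_)
      exact Finset.prod_ne_zero_iff.mpr fun s _ => pow_ne_zero _ (Units.ne_zero _)
    have hlt : ∀ i ∈ P.support \ {j}, vL (f i) < vL (f j) := by
      intro i hi
      rw [Finset.mem_sdiff, Finset.mem_singleton] at hi
      refine lt_of_le_of_ne (hmax i hi.1) fun heq => hi.2 ?_
      obtain ⟨a, ha⟩ := hval i hi.1
      obtain ⟨b, hb⟩ := hval j hj
      let x : Lˣ := i.prod fun s k => Additive.toMul (t s) ^ k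
      let y : Lˣ := j.prod fun s k => Additive.toMul (t s) ^ k
      have hx : f i = (MvPolynomial.coeff i P).1 * x := by
        simp only [f, x, T, Finsupp.prod, Units.coe_prod, Units.val_pow_eq_pow_val]
      have hy : f j = (MvPolynomial.coeff j P).1 * y := by
        simp only [f, y, T, Finsupp.prod, Units.coe_prod, Units.val_pow_eq_pow_val]
      rw [hx, hy, map_mul, map_mul, ha, hb] at heq
      have hxy : x / y ∈ H := by
        let w : Lˣ := x / y * Units.map (algebraMap K L).toMonoidHom (a / b)
        have hw : w ∈ vL.valuationSubring.unitGroup := by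
          rw [Valuation.mem_unitGroup_iff]
          simp only [w, Units.val_mul, Units.val_div_eq_div_val, Units.coe_map, map_mul, map_div₀,
            RingHom.toMonoidHom_eq_coe, MonoidHom.coe_coe]
          rw [div_mul_div_comm, div_eq_one_iff_eq (mul_ne_zero (by simp) (by simp)), mul_comm, heq, mul_comm]
        have he : x / y = w * (Units.map (algebraMap K L).toMonoidHom (a / b))⁻¹ := (mul_inv_cancel_right _ _).symm
        rw [he]
        exact Subgroup.mul_mem_sup hw (inv_mem ⟨_, rfl⟩)
      refine (hSli.restrict_scalars (R := ℕ) (fun _ _ h => by simpa using h)).finsuppLinearCombination_injective ?_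
      let q : Additive Lˣ →+ Additive Lˣ ⧸ Subgroup.toAddSubgroup H := QuotientAddGroup.mk' _
      have hq : ∀ m : S →₀ ℕ, Finsupp.linearCombination ℕ (Subtype.val : S → _) m =
          q (Additive.ofMul (m.prod fun s k => Additive.toMul (t s) ^ k)) := fun m => by
        rw [Finsupp.linearCombination_apply, Finsupp.sum, Finsupp.prod, ofMul_prod, map_sum]
        refine Finset.sum_congr rfl fun s _ => ?_
        rw [← ht s, ofMul_pow, map_nsmul]
        rfl
      rw [hq, hq]
      exact (QuotientAddGroup.eq_iff_sub_mem).mpr hxy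
    have hsum : MvPolynomial.aeval T P = ∑ m ∈ P.support, f m := by
      conv_lhs => rw [MvPolynomial.as_sum P, map_sum]
      exact Finset.sum_congr rfl fun m _ => MvPolynomial.aeval_monomial _ _ _
    have := Valuation.map_sum_eq_of_lt vL hj hlt
    rw [← hsum, hP, map_zero] at this
    exact hf0 j hj this.symm
  have := (huK.sumElim htA).cardinalMk_le_trdeg
  rwa [← Cardinal.add_def, hS, hU.cardinalMk_eq_trdeg] at this

end Groth.Agent.S14891
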