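import Groth.Statements.S14896
import Mathlib

set_option autoImplicit false
universe u
open CAlg

namespace Groth.Agent.S14896

/-- Let L/K be a finite extension of valued fields, v_L extending v_K, with K° = the valuation ring of
v_K having finite spectrum (finite height), and L° the valuation ring of v_L. If L° is local-étale
over K°, i.e. L° is the localization at a prime ideal of some étale K°-algebra B compatibly with the
K°-algebra structures, then L° is étale over K°. (For valued fields of finite height 'unramified' in
the local-étale sense is thus the same as K° → L° étale; the published lemma phrases the hypothesis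
as 'L/K unramified'.) -/
theorem result
    {K L Γ₀ Γ₁ : Type u} [Field K] [Field L] [Algebra K L] [FiniteDimensional K L]
    [LinearOrderedCommGroupWithZero Γ₀] [LinearOrderedCommGroupWithZero Γ₁]
    (vK : Valuation K Γ₀) (vL : Valuation L Γ₁) [vK.HasExtension vL]
    [Finite (PrimeSpectrum vK.valuationSubring)]
    (B : Type u) [CommRing B] [Algebra vK.valuationSubring B] [Algebra.Etale vK.valuationSubring B]
    [Algebra B vL.valuationSubring] [IsScalarTower vK.valuationSubring B vL.valuationSubring]
    (P : Ideal B) [P.IsPrime] [IsLocalization.AtPrime vL.valuationSubring P] :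
    Algebra.Etale vK.valuationSubring vL.valuationSubring := by
  classical
  haveI : Algebra.QuasiFinite vK.valuationSubring B := inferInstance
  haveI : Finite (PrimeSpectrum B) := Algebra.QuasiFinite.finite_primeSpectrum (R := vK.valuationSubring) (S := B)
  haveI := Fintype.ofFinite (PrimeSpectrum B)
  have hsel : ∀ Q : PrimeSpectrum B, ∃ a : B, a ∉ P ∧ (¬ Q.asIdeal ≤ P → a ∈ Q.asIdeal) := fun Q => by
    by_cases hQ : Q.asIdeal ≤ P
    · exact ⟨1, fun h1 => Ideal.IsPrime.ne_top' ((Ideal.eq_top_iff_one P).2 h1), fun h => absurd hQ h⟩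
    · obtain ⟨a, haQ, haP⟩ := SetLike.not_le_iff_exists.1 hQ
      exact ⟨a, haP, fun _ => haQ⟩
  choose a haP haQ using hsel
  let f : B := ∏ Q, a Q
  have hfP : f ∉ P := fun hf => by
    obtain ⟨Q, -, hQ⟩ := (Ideal.IsPrime.prod_mem_iff).1 hf
    exact haP Q hQ
  have h' : ∀ x : P.primeCompl, ∃ m : B, m * x ∈ Submonoid.powers f := by
    intro x
    have hrad : f ∈ (Ideal.span {(x : B)}).radical := by
      rw [Ideal.radical_eq_sInf, Ideal.mem_sInf]
      rintro Q ⟨hQx, hQp⟩
      have hnle : ¬ Q ≤ P := fun hle => x.2 (hle (hQx (Ideal.mem_span_singleton_self _)))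
      exact Ideal.mem_of_dvd Q (Finset.dvd_prod_of_mem a (Finset.mem_univ (⟨Q, hQp⟩ : PrimeSpectrum B))) (haQ ⟨Q, hQp⟩ hnle)
    obtain ⟨n, hn⟩ := hrad
    obtain ⟨m, hm⟩ := Ideal.mem_span_singleton.1 hn
    exact ⟨m, n, by show f ^ n = m * x; rw [hm, mul_comm]⟩
  haveI : IsLocalization P.primeCompl (Localization.Away f) :=
    IsLocalization.isLocalization_of_is_exists_mul_mem (Localization.Away f) (Submonoid.powers f) P.primeCompl
      (Submonoid.powers_le.2 hfP) h'
  haveI : Algebra.Etale B (Localization.Away f) := Algebra.Etale.of_isLocalizationAway f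
  let e : Localization.Away f ≃ₐ[B] vL.valuationSubring := IsLocalization.algEquiv P.primeCompl _ _
  haveI : Algebra.Etale B vL.valuationSubring := Algebra.Etale.of_equiv e
  exact Algebra.Etale.comp vK.valuationSubring B vL.valuationSubring

end Groth.Agent.S14896
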