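import Groth.Statements.S14901
import Groth.Agent.EquidimFlat.IrreducibleFibres
import Groth.Agent.DimAffSpace.Basic
import Groth.Agent.LocalDim.Closure
-- import your own Groth.Agent.* helpers here

set_option autoImplicit false
universe u
open MovLem

namespace Groth.Agent.S14901

open AlgebraicGeometry CategoryTheory in
/-- Let k be a field, let S and X be separated k-schemes of finite type that are locally equidimensional
(all irreducible components passing through a given point have the same dimension), let f : S → X be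
a k-morphism and Z ⊆ X a closed subset. Let d be the dimension of the image f(S), as a subspace of
X. If every point s of S with f(s) ∈ Z satisfies dim O_{S,s} ≥ d + 1 (equivalently: the closed
subset f⁻¹(Z) of S has local codimension at least d + 1 at each of its points), then f⁻¹(Z) is
empty. -/
theorem result (k : Type u) [Field k] (S X : Scheme.{u})
    (pS : S ⟶ Spec (CommRingCat.of k)) (pX : X ⟶ Spec (CommRingCat.of k))
    [IsSeparated pS] [LocallyOfFiniteType pS] [QuasiCompact pS]
    [IsSeparated pX] [LocallyOfFiniteType pX] [QuasiCompact pX]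
    (hS : ∀ (s : S) (A B : Set S), A ∈ irreducibleComponents (S : Type u) → B ∈ irreducibleComponents (S : Type u) →
      s ∈ A → s ∈ B → topologicalKrullDim A = topologicalKrullDim B)
    (hX : ∀ (x : X) (A B : Set X), A ∈ irreducibleComponents (X : Type u) → B ∈ irreducibleComponents (X : Type u) →
      x ∈ A → x ∈ B → topologicalKrullDim A = topologicalKrullDim B)
    (f : S ⟶ X) (hf : f ≫ pX = pS) (Z : Set X) (hZ : IsClosed Z)
    (h : ∀ s : S, f.base s ∈ Z →
      topologicalKrullDim (Set.range f.base) + 1 ≤ ringKrullDim (S.presheaf.stalk s)) :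
    f.base ⁻¹' Z = ∅ := by
  subst hf
  haveI : LocallyOfFiniteType f := locallyOfFiniteType_of_comp f pX
  by_contra hne
  obtain ⟨s₁, hs₁⟩ := Set.nonempty_iff_ne_empty.mpr hne
  haveI : JacobsonSpace ↥S := LocallyOfFiniteType.jacobsonSpace (f ≫ pX)
  obtain ⟨s₀, hs₀, hs₀c⟩ := nonempty_inter_closedPoints (X := ↥S) ⟨s₁, hs₁⟩ (hZ.preimage f.continuous).isLocallyClosed
  have hy := Groth.Agent.EquidimFlat.isClosed_image_of_isClosed f pX s₀ hs₀c
  obtain ⟨n, hn, ⟨s, hsy, hss₀, hsn⟩, hall⟩ := Groth.Agent.FibreDim.exists_fibreDimAt_eq f s₀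
  obtain ⟨a, b, c, ha, hb, hc, hsum⟩ := Groth.Agent.EquidimFlat.fdim_comp f pX s
  rw [hsn, Nat.cast_inj] at hb
  rw [Groth.Agent.EquidimFlat.fdim_eq_closure] at ha hc
  rw [show f s = f s₀ from hsy, hy.closure_eq] at ha
  have ha0 : a = 0 := by
    have h0 : topologicalKrullDim ({f s₀} : Set X) ≤ 0 := topologicalKrullDim_zero_of_discreteTopology _
    rw [ha] at h0
    exact Nat.le_zero.mp (by exact_mod_cast h0)
  have hbound := h s (show f s ∈ Z from hsy ▸ hs₀)
  have hloc := Groth.Agent.LocalDim.localDim_eq_stalk_add_closure (f ≫ pX) s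
  obtain ⟨m, hm, ⟨P, hPs, -, hPm⟩, -⟩ := Groth.Agent.LocalDim.exists_localDim (f ≫ pX) s
  obtain ⟨a', b', c', ha', hb', hc', hsum'⟩ := Groth.Agent.EquidimFlat.fdim_comp f pX P
  rw [Groth.Agent.EquidimFlat.fdim_eq_closure] at ha' hc'
  have hb'n : b' ≤ n := by
    obtain ⟨O, hO₀, hO⟩ := Groth.Agent.GeomUnib.exists_nhds_fibreDimAt_le f s₀
    have h1 := (Groth.Agent.FibreDim.fdim_le_fibreDimAt f specializes_rfl).trans (hO P ((hPs.trans hss₀).mem_open O.2 hO₀))
    rw [hb', hn] at h1
    exact_mod_cast h1
  have hrange : topologicalKrullDim (closure ({f P} : Set X)) ≤ topologicalKrullDim (Set.range f.base) := by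
    obtain ⟨W, i, ξ, hi, hr, hξ, hgen⟩ := Groth.Agent.EquidimFlat.exists_closure_subscheme (f P)
    haveI : IrreducibleSpace ↥W :=
      { toPreirreducibleSpace := ⟨by
          rw [show (Set.univ : Set ↥W) = closure {ξ} from (Set.eq_univ_of_forall fun w => (hgen w).mem_closure).symm]
          exact isIrreducible_singleton.closure.2⟩,
        toNonempty := ⟨ξ⟩ }
    have hgen' : ξ = genericPoint ↥W :=
      ((show IsGenericPoint ξ (Set.univ : Set ↥W) from
        Set.eq_univ_of_forall fun w => (hgen w).mem_closure).eq (genericPoint_spec ↥W))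
    haveI : IsLocallyNoetherian W := LocallyOfFiniteType.isLocallyNoetherian (i ≫ pX)
    haveI : CompactSpace ↥W := QuasiCompact.compactSpace_of_compactSpace (i ≫ pX)
    haveI : AlgebraicGeometry.IsNoetherian W := {}
    have hint := Groth.Agent.ProConsLib.genericPoint_mem_interior_range (Limits.pullback.fst i f) (by
      rw [Scheme.Pullback.range_fst, ← hgen']
      exact ⟨P, hξ.symm⟩)
    let U : W.Opens := ⟨interior (Set.range (Limits.pullback.fst i f).base), isOpen_interior⟩
    have hUd : Dense (U : Set ↥W) := U.isOpen.dense ⟨_, hint⟩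
    rw [← hr, ← Groth.Agent.FibreDim.dim_homeo i.isEmbedding.toHomeomorph,
      ← Groth.Agent.DimAffSpace.dim_dense_open k (i ≫ pX) U hUd]
    let j : ↥(U : Scheme.{u}) → ↥(Set.range f.base) := fun w => ⟨i w.1, by
      have h2 : w.1 ∈ Set.range (Limits.pullback.fst i f).base := interior_subset w.2
      rw [Scheme.Pullback.range_fst] at h2
      exact h2⟩
    have hj : Topology.IsInducing j :=
      Topology.IsInducing.of_comp ((i.continuous.comp U.ι.continuous).subtype_mk _) continuous_subtype_val
        ((i.isEmbedding.comp Topology.IsEmbedding.subtypeVal).isInducing)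
    exact hj.topologicalKrullDim_le
  rw [ha'] at hrange
  rw [hc'] at hPm
  rw [hm, hc] at hloc
  have hm' : c' = m := by exact_mod_cast hPm
  have h3 := (add_le_add (add_le_add hrange (le_refl (1 : WithBot ℕ∞))) (le_refl (c : WithBot ℕ∞))).trans
    ((add_le_add hbound le_rfl).trans hloc.ge)
  have h4 : a' + 1 + c ≤ m := by exact_mod_cast h3
  omega

end Groth.Agent.S14901
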