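import Groth.Statements.S14909
import Mathlib
-- import your own Groth.Agent.* helpers here

set_option autoImplicit false
universe u
open Neron

namespace Groth.Agent.S14909

section
open DualNumber

variable {R : Type u} [CommRing R]

abbrev T0 (c : R) : Type u := DualNumber (QuadraticAlgebra R c 0)

def K (ϖ c : R) (v : ℕ) (h : ϖ ∣ c) : Ideal (T0 c) where
  carrier := {z | ϖ ^ (v + 1) ∣ z.fst.re ∧ ϖ ^ v ∣ z.fst.im ∧ ϖ ^ v ∣ z.snd.re ∧ ϖ ^ v ∣ z.snd.im}
  zero_mem' := by simp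
  add_mem' := by
    rintro z w ⟨a1, a2, a3, a4⟩ ⟨b1, b2, b3, b4⟩
    exact ⟨by simpa using dvd_add a1 b1, by simpa using dvd_add a2 b2, by simpa using dvd_add a3 b3,
      by simpa using dvd_add a4 b4⟩
  smul_mem' := by
    rintro s z ⟨a1, a2, a3, a4⟩
    have a1' : ϖ ^ v ∣ z.fst.re := (pow_dvd_pow ϖ (Nat.le_succ v)).trans a1
    have hc : ϖ ^ (v + 1) ∣ c * z.fst.im := by
      rw [pow_succ']; exact mul_dvd_mul h a2
    refine ⟨?_, ?_, ?_, ?_⟩ <;>
      simp only [smul_eq_mul, TrivSqZeroExt.fst_mul, DualNumber.snd_mul, QuadraticAlgebra.re_mul,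
        QuadraticAlgebra.im_mul, QuadraticAlgebra.re_add, QuadraticAlgebra.im_add, zero_mul, add_zero]
    · exact dvd_add (a1.mul_left _) (hc.trans ⟨s.fst.im, by ring⟩)
    · exact dvd_add (a2.mul_left _) (a1'.mul_left _)
    · exact dvd_add (dvd_add (a3.mul_left _) (a4.mul_left _))
        (dvd_add (a1'.mul_left _) (a2.mul_left _))
    · exact dvd_add (dvd_add (a4.mul_left _) (a3.mul_left _))
        (dvd_add (a2.mul_left _) (a1'.mul_left _))

theorem exists_hom (c : R) (Q : Type u) [CommRing Q] (φ : R →+* Q) (s : Fin 2 → Q)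
    (hs : ∀ i, IsNilpotent (s i)) :
    ∃ Φ : MvPowerSeries (Fin 2) R →+* Q, (∀ r, Φ (MvPowerSeries.C r) = φ r) ∧
      ∀ i, Φ (MvPowerSeries.X i) = s i := by
  letI : UniformSpace R := ⊥
  letI : UniformSpace Q := ⊥
  haveI : DiscreteTopology R := ⟨rfl⟩
  haveI : DiscreteTopology Q := ⟨rfl⟩
  have ha : MvPowerSeries.HasEval s := by
    refine ⟨fun i => ?_, by simp⟩
    obtain ⟨N, hN⟩ := hs i
    refine tendsto_const_nhds.congr' ?_
    filter_upwards [Filter.eventually_ge_atTop N] with m hm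
    exact (pow_eq_zero_of_le hm hN).symm
  have hφ : Continuous φ := continuous_of_discreteTopology
  refine ⟨MvPowerSeries.eval₂Hom hφ ha, fun r => ?_, fun i => ?_⟩ <;>
    simp [MvPowerSeries.coe_eval₂Hom]

end

/-- Let R be a discrete valuation ring with uniformizer ϖ, let a₁, a₆ ∈ R with a₁ of valuation v ≥ 1, a₆
of valuation 1, and 2 of valuation at least v (so the residue characteristic is 2; 2 = 0 is
allowed). In the power series ring S = R[[x, y]] let M = (ϖ, x, y) be the maximal ideal and I the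
ideal generated by y² + a₁xy − x³ − a₆, 2y + a₁x and 3x² − a₁y, so that S/I is a local ring with
maximal ideal m = M/I. Then the classes of y^(2v) and x·y^(2v−1) form a basis of the vector space
m^(2v)/m^(2v+1) over the residue field: M^(2v) + I = (y^(2v), x·y^(2v−1)) + I, and whenever a·y^(2v)
+ b·x·y^(2v−1) ∈ M^(2v+1) + I with a, b ∈ R, both a and b lie in the maximal ideal of R. (Generation
holds with any exponent i ≥ 1 in place of 2v: M^i + I = (y^i, x·y^(i−1)) + I.) -/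
theorem result (R : Type u) [CommRing R] [IsDomain R] [IsDiscreteValuationRing R]
    (ϖ a₁ a₆ : R) (hϖ : Irreducible ϖ) (v : ℕ) (hv : 1 ≤ v) (u₁ u₆ : Rˣ) (ha₁ : a₁ = u₁ * ϖ ^ v) (ha₆ : a₆ = u₆ * ϖ)
    (h2 : (2 : R) ∈ IsLocalRing.maximalIdeal R ^ v)
    (x y : MvPowerSeries (Fin 2) R) (hx : x = MvPowerSeries.X 0) (hy : y = MvPowerSeries.X 1)
    (I M : Ideal (MvPowerSeries (Fin 2) R))
    (hI : I = Ideal.span {y ^ 2 + a₁ • (x * y) - x ^ 3 - algebraMap R (MvPowerSeries (Fin 2) R) a₆,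
      2 * y + a₁ • x, 3 * x ^ 2 - a₁ • y})
    (hM : M = Ideal.span {algebraMap R (MvPowerSeries (Fin 2) R) ϖ, x, y}) :
    M ^ (2 * v) ⊔ I = Ideal.span {y ^ (2 * v), x * y ^ (2 * v - 1)} ⊔ I ∧
      ∀ a b : R, a • y ^ (2 * v) + b • (x * y ^ (2 * v - 1)) ∈ M ^ (2 * v + 1) ⊔ I →
        a ∈ IsLocalRing.maximalIdeal R ∧ b ∈ IsLocalRing.maximalIdeal R := by
  classical
  obtain ⟨pS, hpS⟩ : ∃ p, p = algebraMap R (MvPowerSeries (Fin 2) R) ϖ := ⟨_, rfl⟩
  rw [← hpS] at hM
  have hpM : pS ∈ M := hM ▸ Ideal.subset_span (by simp)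
  have hxM : x ∈ M := hM ▸ Ideal.subset_span (by simp)
  have hyM : y ∈ M := hM ▸ Ideal.subset_span (by simp)
  have hmax : IsLocalRing.maximalIdeal R = Ideal.span {ϖ} := hϖ.maximalIdeal_eq
  have hmem : ∀ f ∈ M, ¬ IsUnit f := by
    intro f hf
    rw [MvPowerSeries.isUnit_iff_constantCoeff]
    have : M ≤ Ideal.comap (MvPowerSeries.constantCoeff (σ := Fin 2) (R := R)) (IsLocalRing.maximalIdeal R) := by
      rw [hM, Ideal.span_le]
      rintro _ (rfl | rfl | rfl)
      · simp [hpS, MvPowerSeries.algebraMap_apply, hmax]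
      · simp [hx]
      · simp [hy]
    exact (IsLocalRing.mem_maximalIdeal _).1 (this hf)
  have hjac : M ≤ Ideal.jacobson ⊥ := by
    rw [IsLocalRing.jacobson_eq_maximalIdeal _ bot_ne_top]
    exact fun f hf => (IsLocalRing.mem_maximalIdeal _).2 (hmem f hf)
  have hfg : ∀ i, (M ^ i).FG := fun i => by
    refine Submodule.FG.pow ?_ i
    rw [hM]
    exact Submodule.fg_span (Set.toFinite _)
  have nak : ∀ (J : Ideal (MvPowerSeries (Fin 2) R)) (i : ℕ),
      M ^ i ≤ J ⊔ M ^ (i + 1) → M ^ i ≤ J := fun J i h =>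
    Submodule.le_of_le_smul_of_le_jacobson_bot (hfg i) hjac (by rwa [smul_eq_mul, ← pow_succ'])
  have hI1 : y ^ 2 + a₁ • (x * y) - x ^ 3 - algebraMap R _ a₆ ∈ I := hI ▸ Ideal.subset_span (by simp)
  have hI2 : 2 * y + a₁ • x ∈ I := hI ▸ Ideal.subset_span (by simp)
  have hI3 : 3 * x ^ 2 - a₁ • y ∈ I := hI ▸ Ideal.subset_span (by simp)
  have hsm : ∀ (r : R) (f : MvPowerSeries (Fin 2) R), r • f = algebraMap R _ r * f :=
    fun r f => Algebra.smul_def r f
  have hA1 : algebraMap R (MvPowerSeries (Fin 2) R) a₁ = algebraMap R _ (u₁ : R) * pS ^ v := by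
    rw [ha₁, map_mul, map_pow, hpS]
  have hA6 : algebraMap R (MvPowerSeries (Fin 2) R) a₆ = algebraMap R _ (u₆ : R) * pS := by
    rw [ha₆, map_mul, hpS]
  have hp2 : pS ∈ M ^ 2 ⊔ I := by
    have h6 : algebraMap R (MvPowerSeries (Fin 2) R) a₆ ∈ M ^ 2 ⊔ I := by
      have e : algebraMap R (MvPowerSeries (Fin 2) R) a₆ = (y * y + algebraMap R _ a₁ * (x * y) - x * (x * x)) -
          (y ^ 2 + a₁ • (x * y) - x ^ 3 - algebraMap R _ a₆) := by
        rw [hsm]; ring
      rw [e]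
      have mm : ∀ {f g}, f ∈ M → g ∈ M → f * g ∈ M ^ 2 := fun hf hg => by
        rw [pow_two]; exact Ideal.mul_mem_mul hf hg
      exact Ideal.sub_mem _ (Submodule.mem_sup_left (Ideal.sub_mem _ (Ideal.add_mem _ (mm hyM hyM)
        (Ideal.mul_mem_left _ _ (mm hxM hyM))) (Ideal.mul_mem_left _ _ (mm hxM hxM))))
        (Submodule.mem_sup_right hI1)
    rw [hA6] at h6
    exact (Ideal.unit_mul_mem_iff_mem (M ^ 2 ⊔ I) (u₆.isUnit.map (algebraMap R (MvPowerSeries (Fin 2) R)))).1 h6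
  have hx2 : x ^ 2 ∈ M ^ 3 ⊔ I := by
    have h2v : pS ^ v ∈ M ^ 2 ⊔ I := by
      obtain ⟨k, rfl⟩ := Nat.exists_eq_add_of_le hv
      rw [pow_add, pow_one]
      exact Ideal.mul_mem_right _ _ hp2
    have h3 : 3 * x ^ 2 ∈ M ^ 3 ⊔ I := by
      have e : 3 * x ^ 2 = algebraMap R _ (u₁ : R) * (pS ^ v * y) + (3 * x ^ 2 - a₁ • y) := by
        rw [hsm, hA1]; ring
      rw [e]
      refine Ideal.add_mem _ (Ideal.mul_mem_left _ _ ?_) (Submodule.mem_sup_right hI3)
      have : (M ^ 2 ⊔ I) * M ≤ M ^ 3 ⊔ I := by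
        rw [Ideal.sup_mul, ← pow_succ]
        exact sup_le_sup le_rfl Ideal.mul_le_left
      exact this (Ideal.mul_mem_mul h2v hyM)
    have h3u : IsUnit (3 : MvPowerSeries (Fin 2) R) := by
      have : IsUnit (3 : R) := by
        have h2' : (2 : R) ∈ IsLocalRing.maximalIdeal R := Ideal.pow_le_self (by omega) h2
        by_contra h
        have h3' := (IsLocalRing.mem_maximalIdeal (3 : R)).2 h
        have := Ideal.sub_mem _ h3' h2'
        norm_num at this
      simpa [MvPowerSeries.algebraMap_apply, map_ofNat] using this.map (algebraMap R (MvPowerSeries (Fin 2) R))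
    exact (Ideal.unit_mul_mem_iff_mem _ h3u).1 h3
  have base : M ≤ Ideal.span {x, y} ⊔ I := by
    have := nak (Ideal.span {x, y} ⊔ I) 1 (by
      rw [pow_one, hM, Ideal.span_le]
      rintro _ (rfl | rfl | rfl)
      · rw [← hM]
        exact (sup_le le_sup_right (le_sup_right.trans le_sup_left) : M ^ 2 ⊔ I ≤ _) hp2
      · exact Submodule.mem_sup_left (Submodule.mem_sup_left (Ideal.subset_span (by simp)))
      · exact Submodule.mem_sup_left (Submodule.mem_sup_left (Ideal.subset_span (by simp))))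
    simpa using this
  have gen : ∀ i, M ^ (i + 1) ≤ Ideal.span {y ^ (i + 1), x * y ^ i} ⊔ I := by
    intro i
    induction i with
    | zero =>
      rw [zero_add, pow_one, pow_one, pow_zero, mul_one, Set.pair_comm]
      exact base
    | succ i ih =>
      refine nak _ _ ?_
      calc M ^ (i + 1 + 1) = M ^ (i + 1) * M := pow_succ _ _
        _ ≤ (Ideal.span {y ^ (i + 1), x * y ^ i} ⊔ I) * (Ideal.span {x, y} ⊔ I) := Ideal.mul_mono ih base
        _ ≤ _ := by
          rw [Ideal.sup_mul, Ideal.mul_sup, Ideal.span_mul_span']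
          refine sup_le (sup_le ?_ (Ideal.mul_le_right.trans (le_sup_right.trans le_sup_left)))
            (Ideal.mul_le_left.trans (le_sup_right.trans le_sup_left))
          rw [Ideal.span_le]
          rintro _ ⟨f, hf, g, hg, rfl⟩
          simp only [Set.mem_insert_iff, Set.mem_singleton_iff] at hf hg
          have inJ : ∀ {z}, z ∈ ({y ^ (i + 1 + 1), x * y ^ (i + 1)} : Set (MvPowerSeries (Fin 2) R)) →
              z ∈ Ideal.span {y ^ (i + 1 + 1), x * y ^ (i + 1)} ⊔ I ⊔ M ^ (i + 1 + 1 + 1) :=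
            fun hz => Submodule.mem_sup_left (Submodule.mem_sup_left (Ideal.subset_span hz))
          rcases hf with hf | hf <;> rcases hg with hg | hg <;> rw [hf, hg]
          · show y ^ (i + 1) * x ∈ _
            rw [show y ^ (i + 1) * x = x * y ^ (i + 1) from mul_comm _ _]
            exact inJ (Or.inr rfl)
          · show y ^ (i + 1) * y ∈ _
            rw [← pow_succ]
            exact inJ (Or.inl rfl)
          · show x * y ^ i * x ∈ _
            have : (M ^ 3 ⊔ I) * M ^ i ≤ I ⊔ M ^ (i + 1 + 1 + 1) := by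
              rw [Ideal.sup_mul, ← pow_add]
              exact sup_le (le_sup_of_le_right (Ideal.pow_le_pow_right (by omega)))
                (le_sup_of_le_left Ideal.mul_le_left)
            have h' := this (Ideal.mul_mem_mul hx2 (Ideal.pow_mem_pow hyM i))
            rw [show x * y ^ i * x = x ^ 2 * y ^ i by ring]
            exact (sup_le (le_sup_right.trans le_sup_left) le_sup_right : I ⊔ M ^ (i + 1 + 1 + 1) ≤ _) h'
          · show x * y ^ i * y ∈ _
            rw [mul_assoc, ← pow_succ]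
            exact inJ (Or.inr rfl)
  obtain ⟨w, hw⟩ : ∃ w, 2 * v = w + 1 := ⟨2 * v - 1, by omega⟩
  refine ⟨le_antisymm (sup_le ?_ le_sup_right) (sup_le ?_ le_sup_right), ?_⟩
  · rw [hw, Nat.add_sub_cancel]; exact gen w
  · rw [Ideal.span_le]
    rintro _ (rfl | rfl)
    · exact Submodule.mem_sup_left (Ideal.pow_mem_pow hyM _)
    · rw [hw, Nat.add_sub_cancel, pow_succ']
      exact Submodule.mem_sup_left (Ideal.mul_mem_mul hxM (Ideal.pow_mem_pow hyM _))
  intro a b hab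
  have hc : ϖ ∣ a₆ := ha₆ ▸ dvd_mul_left _ _
  set Km := K ϖ a₆ v hc with hKm
  set mk := Ideal.Quotient.mk Km with hmk
  have h0 : ∀ z : T0 a₆, mk z = 0 ↔ (ϖ ^ (v + 1) ∣ z.fst.re ∧ ϖ ^ v ∣ z.fst.im ∧ ϖ ^ v ∣ z.snd.re ∧ ϖ ^ v ∣ z.snd.im) :=
    fun z => Ideal.Quotient.eq_zero_iff_mem
  set Y : T0 a₆ := TrivSqZeroExt.inl ⟨0, 1⟩ with hY
  set E : T0 a₆ := DualNumber.eps with hE
  have hYY : Y * Y = algebraMap R (T0 a₆) a₆ := by
    ext <;> simp [hY, TrivSqZeroExt.algebraMap_eq_inl']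
  have hYp : Y ^ (2 * v) = algebraMap R (T0 a₆) (a₆ ^ v) := by rw [pow_mul, pow_two, hYY, map_pow]
  have hdv : ∀ k, ϖ ^ k ∣ a₆ ^ k := fun k => pow_dvd_pow_of_dvd hc k
  have hYnil : IsNilpotent (mk Y) := by
    refine ⟨2 * (v + 1), ?_⟩
    rw [← map_pow, pow_mul, pow_two, hYY, ← map_pow, h0]
    simp [-map_pow, TrivSqZeroExt.algebraMap_eq_inl', hdv, (pow_dvd_pow ϖ (Nat.le_succ v)).trans (hdv _)]
  have hEnil : IsNilpotent (mk E) := ⟨2, by rw [← map_pow, pow_two, hE, DualNumber.eps_mul_eps, map_zero]⟩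
  obtain ⟨Φ, hΦC, hΦX⟩ := exists_hom a₆ (T0 a₆ ⧸ Km) (mk.comp (algebraMap R (T0 a₆))) ![mk E, mk Y]
    (fun i => by fin_cases i; exacts [hEnil, hYnil])
  have hΦr : ∀ r, Φ (algebraMap R _ r) = mk (algebraMap R (T0 a₆) r) := fun r => by
    rw [MvPowerSeries.algebraMap_apply, hΦC]; rfl
  have hΦx : Φ x = mk E := by rw [hx, hΦX]; rfl
  have hΦy : Φ y = mk Y := by rw [hy, hΦX]; rfl
  have hv2 : ϖ ^ v ∣ (2 : R) := by
    rw [hmax, Ideal.span_singleton_pow, Ideal.mem_span_singleton] at h2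
    exact h2
  have hv1 : ϖ ^ v ∣ a₁ := ha₁ ▸ dvd_mul_left _ _
  have hker : M ^ (2 * v + 1) ⊔ I ≤ RingHom.ker Φ := by
    have hIk : I ≤ RingHom.ker Φ := by
      rw [hI, Ideal.span_le]
      rintro _ (rfl | rfl | rfl)
      · simp only [SetLike.mem_coe, RingHom.mem_ker, hsm, map_sub, map_add, map_mul, map_pow, hΦr, hΦx, hΦy]
        simp only [← map_pow, ← map_mul, ← map_add, ← map_sub, h0]
        simp [hY, hE, pow_two, pow_three, TrivSqZeroExt.algebraMap_eq_inl', hv1]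
      · simp only [SetLike.mem_coe, RingHom.mem_ker, hsm, map_add, map_mul, map_ofNat, hΦr, hΦx, hΦy]
        rw [← map_ofNat mk 2]
        simp only [← map_mul, ← map_add, h0]
        simp [hY, hE, two_mul, TrivSqZeroExt.algebraMap_eq_inl', hv1, one_add_one_eq_two, hv2]
      · simp only [SetLike.mem_coe, RingHom.mem_ker, hsm, map_sub, map_mul, map_pow, map_ofNat, hΦr, hΦx, hΦy]
        rw [← map_ofNat mk 3]
        simp only [← map_pow, ← map_mul, ← map_sub, h0]
        simp [hY, hE, pow_two, TrivSqZeroExt.algebraMap_eq_inl', hv1]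
    refine sup_le ((gen (2 * v)).trans (sup_le ?_ hIk)) hIk
    rw [Ideal.span_le]
    rintro _ (rfl | rfl)
    · rw [SetLike.mem_coe, RingHom.mem_ker, map_pow, hΦy, ← map_pow, pow_succ, hYp, h0]
      simp [-map_pow, hY, TrivSqZeroExt.algebraMap_eq_inl', hdv]
    · rw [SetLike.mem_coe, RingHom.mem_ker, map_mul, map_pow, hΦy, hΦx, ← map_pow, hYp, ← map_mul, h0]
      simp [-map_pow, hE, TrivSqZeroExt.algebraMap_eq_inl', hdv]
  obtain ⟨k, rfl⟩ : ∃ k, v = k + 1 := ⟨v - 1, by omega⟩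
  have h := hker hab
  rw [RingHom.mem_ker, hsm, hsm, map_add, map_mul, map_mul, map_mul, map_pow, map_pow, hΦr, hΦr, hΦx, hΦy,
    show 2 * (k + 1) - 1 = 2 * k + 1 by omega, ← map_pow, ← map_pow, pow_succ Y, pow_mul Y 2 k, pow_two, hYY, hYp,
    ← map_pow] at h
  simp only [← map_mul mk, ← map_add mk, h0] at h
  simp [-map_pow, hY, hE, TrivSqZeroExt.algebraMap_eq_inl'] at h
  obtain ⟨ha, hb⟩ := h
  rw [hmax, Ideal.mem_span_singleton, Ideal.mem_span_singleton]
  rw [ha₆, mul_pow] at ha hb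
  constructor
  · rw [show a * ((u₆ : R) ^ (k + 1) * ϖ ^ (k + 1)) = ϖ ^ (k + 1) * ((u₆ : R) ^ (k + 1) * a) by ring,
      pow_succ ϖ (k + 1), mul_dvd_mul_iff_left (pow_ne_zero _ hϖ.ne_zero)] at ha
    exact (IsUnit.dvd_mul_left (u₆.isUnit.pow _)).1 ha
  · rw [show b * ((u₆ : R) ^ k * ϖ ^ k) = ϖ ^ k * ((u₆ : R) ^ k * b) by ring,
      pow_succ ϖ k, mul_dvd_mul_iff_left (pow_ne_zero _ hϖ.ne_zero)] at hb
    exact (IsUnit.dvd_mul_left (u₆.isUnit.pow _)).1 hb

end Groth.Agent.S14909
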