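import Groth.Statements.S1493
import Groth.Agent.CotLib.RegSeq
import Groth.Agent.RegEmbed.Scheme
import Groth.Agent.KRIdeal.Pres
import Groth.Agent.DRingPC.RegularPerfect
-- import your own Groth.Agent.* helpers here

set_option autoImplicit false
universe u
attribute [local instance] HasDerivedCategory.standard
open FlatMor

namespace Groth.Agent.S1493

section Lem

open AlgebraicGeometry CategoryTheory IsLocalRing RingTheory.Sequence

theorem isWeaklyRegular_of_regStep {R : Type u} [CommRing R] {rs : List R} (h : CotLib.RegStep rs) :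
    IsWeaklyRegular R rs := by
  refine (isWeaklyRegular_iff R rs).2 fun i hi a b hab => ?_
  obtain ⟨a, rfl⟩ := Submodule.Quotient.mk_surjective _ a
  obtain ⟨b, rfl⟩ := Submodule.Quotient.mk_surjective _ b
  change Submodule.Quotient.mk (rs[i] • a) = Submodule.Quotient.mk (rs[i] • b) at hab
  rw [Submodule.Quotient.eq, ← smul_sub, smul_eq_mul, smul_eq_mul, Ideal.mul_top] at hab
  rw [Submodule.Quotient.eq, smul_eq_mul, Ideal.mul_top]
  exact h i hi _ hab

theorem isRegularRing_sections {S : Scheme.{u}} [IsLocallyNoetherian S] (hreg : ∀ s : S, IsRegularLocalRing (S.presheaf.stalk s))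
    {V : S.Opens} (hV : IsAffineOpen V) : IsRegularRing Γ(S, V) :=
  haveI : IsNoetherianRing Γ(S, V) := IsLocallyNoetherian.component_noetherian ⟨V, hV⟩
  { isRegularLocalRing_localization := fun p _ => by
      let y : PrimeSpectrum Γ(S, V) := ⟨p, inferInstance⟩
      have := hreg (hV.fromSpec y)
      have hy : hV.fromSpec y ∈ V := hV.range_fromSpec.le (Set.mem_range_self y)
      let := TopCat.Presheaf.algebra_section_stalk S.presheaf (⟨hV.fromSpec y, hy⟩ : V)
      have : IsLocalization.AtPrime (S.presheaf.stalk (hV.fromSpec y)) p := hV.isLocalization_stalk' y hy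
      exact IsRegularLocalRing.of_ringEquiv
        (IsLocalization.algEquiv p.primeCompl (S.presheaf.stalk (hV.fromSpec y)) (Localization.AtPrime p)).toRingEquiv }

theorem isKRI_of_regular_quotient {R : Type u} [CommRing R] [IsRegularRing R] (I : Ideal R) [IsRegularRing (R ⧸ I)] :
    LCI.IsKoszulRegularIdeal I := by
  refine (KRIdeal.isKRI_iff I).2 fun p hp hIp => ?_
  let S := Localization.AtPrime p
  haveI hq : (p.map (Ideal.Quotient.mk I)).IsPrime :=
    Ideal.map_isPrime_of_surjective Ideal.Quotient.mk_surjective (by rwa [Ideal.mk_ker])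
  obtain ⟨e⟩ : Nonempty ((S ⧸ I.map (algebraMap R S)) ≃+* Localization.AtPrime (p.map (Ideal.Quotient.mk I))) := by
    let q := p.map (Ideal.Quotient.mk I)
    haveI : IsLocalization (Algebra.algebraMapSubmonoid (R ⧸ I) p.primeCompl) (S ⧸ I.map (algebraMap R S)) :=
      inferInstance
    have hM : Algebra.algebraMapSubmonoid (R ⧸ I) p.primeCompl = q.primeCompl := by
      ext x
      obtain ⟨r, rfl⟩ := Ideal.Quotient.mk_surjective x
      have hr : ∀ r, Ideal.Quotient.mk I r ∈ q ↔ r ∈ p := fun r => by
        rw [← Ideal.mem_comap, Ideal.comap_map_of_surjective' _ Ideal.Quotient.mk_surjective, Ideal.mk_ker,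
          sup_eq_left.2 hIp]
      constructor
      · rintro ⟨s, hs, hsr⟩ hx
        rw [← hsr] at hx
        exact hs ((hr s).1 hx)
      · intro hx
        exact ⟨r, fun h => hx ((hr r).2 h), rfl⟩
    haveI : IsLocalization q.primeCompl (S ⧸ I.map (algebraMap R S)) := hM ▸ ‹IsLocalization _ _›
    exact ⟨(IsLocalization.algEquiv q.primeCompl _ (Localization.AtPrime q)).toRingEquiv⟩
  haveI : IsRegularLocalRing (S ⧸ I.map (algebraMap R S)) := IsRegularLocalRing.of_ringEquiv e.symm
  obtain ⟨rs, hrs, hI⟩ := CotLib.exists_regStep (I.map (algebraMap R S)) inferInstance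
  obtain ⟨g, hg, hT⟩ := Groth.Agent.RegEmbed.exists_spread p I S rs (isWeaklyRegular_of_regStep hrs) hI
  obtain ⟨l, hl, hIl⟩ := hT (Localization.Away g)
  refine KRIdeal.at_of_away hg (Localization.Away g) l.get
    ((KRIdeal.ex_ofFn_get l).2 ((KoszulLib.ex_iff l).2 (RegSeq.isKoszulRegularSeq_of_isWeaklyRegular hl))) ?_
  rw [hIl, Set.range_list_get]

theorem isLCI_of_isRegularRing (A B : Type u) [CommRing A] [CommRing B] [Algebra A B] [IsRegularRing A]
    [IsRegularRing B] [Algebra.FiniteType A B] : LCI.IsLCI A B := by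
  obtain ⟨n, α, hα⟩ := DRingPC.exists_presentation_ft A B
  haveI : IsRegularRing (MvPolynomial (Fin n) A) := inferInstance
  haveI : IsRegularRing (MvPolynomial (Fin n) A ⧸ RingHom.ker α.toRingHom) :=
    IsRegularRing.of_ringEquiv (RingHom.quotientKerEquivOfSurjective (f := α.toRingHom) hα).symm
  exact ⟨inferInstance, n, α, hα, isKRI_of_regular_quotient _⟩

end Lem


open AlgebraicGeometry CategoryTheory Limits in
/-- Let f : X → Y be locally of finite type with X and Y regular (locally Noetherian with regular local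
rings). Then f is a local complete intersection morphism (affine-locally: local complete
intersection ring maps). -/
theorem result {X Y : Scheme.{u}} (f : X ⟶ Y) [LocallyOfFiniteType f] [IsLocallyNoetherian X] [IsLocallyNoetherian Y]
    (hX : ∀ x : X, IsRegularLocalRing ↑(X.presheaf.stalk x)) (hY : ∀ y : Y, IsRegularLocalRing ↑(Y.presheaf.stalk y)) :
    (∀ (U : X.Opens) (V : Y.Opens) (hU : IsAffineOpen U) (hV : IsAffineOpen V) (hUV : U ≤ f ⁻¹ᵁ V),
        letI := (f.appLE V U hUV).hom.toAlgebra
        LCI.IsLCI Γ(Y, V) Γ(X, U)) := by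
  intro U V hU hV hUV
  letI := (f.appLE V U hUV).hom.toAlgebra
  haveI : Algebra.FiniteType Γ(Y, V) Γ(X, U) := f.finiteType_appLE hV hU hUV
  haveI := isRegularRing_sections hY hV
  haveI := isRegularRing_sections hX hU
  exact isLCI_of_isRegularRing _ _

end Groth.Agent.S1493
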