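import Groth.Statements.S14955
import Groth.Agent.EtMilLib.Glue
import Groth.Agent.EtMilLib.Pushout

set_option autoImplicit false
universe u
open TensorProduct
open EtAlg

namespace Groth.Agent.S14955

/-- Let B' = B ×_A A' be a fibre product of commutative rings with A' → A surjective. Then the square is
also a pushout of commutative rings: the canonical map B ⊗_{B'} A' → A is an isomorphism. -/
theorem result (B' B A' A : Type u) [CommRing B'] [CommRing B] [CommRing A'] [CommRing A]
    [Algebra B' B] [Algebra B' A'] [Algebra B A] [Algebra A' A] [Algebra B' A] [IsScalarTower B' B A] [IsScalarTower B' A' A]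
    (hsq : EtMil.IsFibreSquare B' B A' A) : Algebra.IsPushout B' B A' A := by
  set f := (IsScalarTower.toAlgHom B' A' A).toLinearMap
  have hb : Function.Bijective (LinearMap.liftBaseChange B f) := by
    refine ⟨(injective_iff_map_eq_zero _).2 fun t ht => ?_, fun a => ?_⟩
    · obtain ⟨a, rfl⟩ := TensorProduct.mk_surjective B' A' B (Groth.Agent.EtMilLib.surjective_left hsq) t
      rw [TensorProduct.mk_apply, LinearMap.liftBaseChange_tmul, one_smul] at ht
      obtain ⟨j, hj, rfl⟩ := Groth.Agent.EtMilLib.exists_lift_ker hsq a ht
      rw [TensorProduct.mk_apply, Algebra.algebraMap_eq_smul_one, ← TensorProduct.smul_tmul,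
        Algebra.smul_def, mul_one, hj, TensorProduct.zero_tmul]
    · obtain ⟨a', rfl⟩ := hsq.1 a
      exact ⟨(1 : B) ⊗ₜ a', by rw [LinearMap.liftBaseChange_tmul, one_smul]; rfl⟩
  exact ⟨IsBaseChange.of_equiv (LinearEquiv.ofBijective _ hb) fun x => by
    simp [LinearMap.liftBaseChange_tmul, f]⟩

end Groth.Agent.S14955
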