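import Groth.Statements.S14956
import Groth.Agent.CSA.AzumayaDescent
import Groth.Agent.EtMilLib.Basic
-- import your own Groth.Agent.* helpers here

set_option autoImplicit false
universe u
open TensorProduct
open Brauer

open Groth.Agent.EtMilLib

namespace Groth.Agent.S14956

/-- Let B' = B ×_A A' be a fibre product of commutative rings with A' → A surjective and D' a B'-algebra
(associative, unital, not necessarily commutative). Then D' is an Azumaya algebra over B' if and
only if B ⊗_{B'} D' is an Azumaya algebra over B and A' ⊗_{B'} D' is an Azumaya algebra over A'.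
(The published statement is for a quasi-coherent algebra on the pushout scheme Y of a closed
immersion and an affine morphism; this row is the case of an affine Y. Azumaya is taken in the
finite-projective-faithful sense.) -/
theorem result (B' B A' A : Type u) [CommRing B'] [CommRing B] [CommRing A'] [CommRing A]
    [Algebra B' B] [Algebra B' A'] [Algebra B A] [Algebra A' A] [Algebra B' A] [IsScalarTower B' B A] [IsScalarTower B' A' A]
    (hsq : EtMil.IsFibreSquare B' B A' A)
    (D' : Type u) [Ring D'] [Algebra B' D'] :
    IsAzumaya B' D' ↔ IsAzumaya B (B ⊗[B'] D') ∧ IsAzumaya A' (A' ⊗[B'] D') := by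
  constructor
  · intro _
    exact ⟨Groth.Agent.CSA.Azu.isAzumaya_baseChange (R := B') B D', Groth.Agent.CSA.Azu.isAzumaya_baseChange (R := B') A' D'⟩
  rintro ⟨hB, hA⟩
  haveI : Module.FinitePresentation B (B ⊗[B'] D') := Module.finitePresentation_of_projective B _
  haveI : Module.FinitePresentation A' (A' ⊗[B'] D') := Module.finitePresentation_of_projective A' _
  haveI : Module.Finite B' D' := finite_of_pair D' hsq
  haveI : Module.FinitePresentation B' D' := finitePresentation_of_pair D' hsq
  haveI : Module.Flat B' D' := flat_of_pair D' hsq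
  haveI : Module.Projective B' D' := Module.Flat.projective_of_finitePresentation
  haveI : FaithfulSMul B' D' := by
    refine ⟨fun {r₁ r₂} h => eq_of_both hsq ?_ ?_⟩
    · refine FaithfulSMul.eq_of_smul_eq_smul (α := B ⊗[B'] D') fun t => ?_
      induction t using TensorProduct.induction_on with
      | zero => simp
      | add a b ha hb => rw [smul_add, smul_add, ha, hb]
      | tmul s d => rw [algebraMap_smul, algebraMap_smul, ← TensorProduct.tmul_smul, h, TensorProduct.tmul_smul]
    · refine FaithfulSMul.eq_of_smul_eq_smul (α := A' ⊗[B'] D') fun t => ?_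
      induction t using TensorProduct.induction_on with
      | zero => simp
      | add a b ha hb => rw [smul_add, smul_add, ha, hb]
      | tmul s d => rw [algebraMap_smul, algebraMap_smul, ← TensorProduct.tmul_smul, h, TensorProduct.tmul_smul]
  haveI : Module.Projective B' D'ᵐᵒᵖ := Module.Projective.of_equiv (MulOpposite.opLinearEquiv B' : D' ≃ₗ[B'] D'ᵐᵒᵖ)
  haveI : Module.Finite B' D'ᵐᵒᵖ := Module.Finite.equiv (MulOpposite.opLinearEquiv B' : D' ≃ₗ[B'] D'ᵐᵒᵖ)
  let θ : D' ⊗[B'] D'ᵐᵒᵖ →ₗ[B'] Module.End B' D' := (AlgHom.mulLeftRight B' D').toLinearMap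
  have hbc : ∀ (S : Type u) [CommRing S] [Algebra B' S] [IsAzumaya S (S ⊗[B'] D')],
      Function.Bijective (θ.baseChange S) := by
    intro S _ _ _
    obtain ⟨ρ, hρ⟩ := Groth.Agent.CSA.Azu.exists_square B' S D'
    have hcomp : Function.Bijective (fun t => LinearMap.tensorProductEnd B' S D' (θ.baseChange S t)) := by
      have : (fun t => LinearMap.tensorProductEnd B' S D' (θ.baseChange S t)) =
          fun t => AlgHom.mulLeftRight S (S ⊗[B'] D') (ρ t) := funext fun t => (hρ t).symm
      rw [this]
      exact IsAzumaya.bij.comp ρ.bijective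
    exact (Function.Bijective.of_comp_iff' (Groth.Agent.CSA.Azu.bijective_tensorProductEnd B' S D') _).1 hcomp
  have hc : ∀ (S : Type u) [CommRing S] [Algebra B' S] [IsAzumaya S (S ⊗[B'] D')],
      Subsingleton (S ⊗[B'] (Module.End B' D' ⧸ LinearMap.range θ)) := by
    intro S _ _ _
    refine subsingleton_of_forall_eq 0 fun t => ?_
    obtain ⟨t, rfl⟩ := LinearMap.lTensor_surjective S (Submodule.mkQ_surjective (LinearMap.range θ)) t
    obtain ⟨u, rfl⟩ := (hbc S).2 t
    change ((Submodule.mkQ (LinearMap.range θ)).lTensor S) ((θ.lTensor S) u) = 0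
    rw [← LinearMap.comp_apply, ← LinearMap.lTensor_comp, LinearMap.range_mkQ_comp, LinearMap.lTensor_zero]
    rfl
  haveI := hc B
  haveI := hc A'
  have hsurj : Function.Surjective θ := by
    rw [← LinearMap.range_eq_top]
    exact Submodule.Quotient.subsingleton_iff.1 (subsingleton_of_pair _ hsq)
  have : Module.Projective B' (Module.End B' D') := by
    obtain ⟨n, f, g, -, -, hfg⟩ := Module.Finite.exists_comp_eq_id_of_projective B' D'
    refine Module.Projective.of_split ((g.compRight B').comp (f.lcomp B' D'))
      ((f.compRight B').comp (g.lcomp B' (Fin n → B'))) (LinearMap.ext fun u => LinearMap.ext fun p => ?_)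
    simp [show ∀ x, f (g x) = x from LinearMap.congr_fun hfg]
  obtain ⟨σ, hσ⟩ := Module.projective_lifting_property θ LinearMap.id hsurj
  let K := LinearMap.ker θ
  let pr : D' ⊗[B'] D'ᵐᵒᵖ →ₗ[B'] K := (LinearMap.id - σ.comp θ).codRestrict K fun x => by
    rw [LinearMap.mem_ker, LinearMap.sub_apply, map_sub, LinearMap.comp_apply, LinearMap.id_apply,
      ← LinearMap.comp_apply θ σ, hσ, LinearMap.id_apply, sub_self]
  have hcomp : pr.comp K.subtype = LinearMap.id := LinearMap.ext fun x => Subtype.ext (by
    simp [pr, LinearMap.codRestrict_apply, show θ x = 0 from x.2])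
  have hK : ∀ (S : Type u) [CommRing S] [Algebra B' S] [IsAzumaya S (S ⊗[B'] D')],
      Subsingleton (S ⊗[B'] K) := by
    intro S _ _ _
    refine subsingleton_of_forall_eq 0 fun t => ?_
    have h0 : θ.baseChange S (K.subtype.lTensor S t) = 0 := by
      change θ.lTensor S (K.subtype.lTensor S t) = 0
      rw [← LinearMap.comp_apply, ← LinearMap.lTensor_comp, LinearMap.comp_ker_subtype, LinearMap.lTensor_zero]
      rfl
    have h1 : K.subtype.lTensor S t = 0 := (hbc S).1 (by rw [h0, map_zero])
    have h2 := congr_arg (pr.lTensor S) h1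
    rwa [← LinearMap.comp_apply, ← LinearMap.lTensor_comp, hcomp, LinearMap.lTensor_id, map_zero] at h2
  haveI := hK B
  haveI := hK A'
  have : Subsingleton K := subsingleton_of_pair K hsq
  exact ⟨⟨(injective_iff_map_eq_zero θ).2 fun x hx => congr_arg Subtype.val (Subsingleton.elim (⟨x, hx⟩ : K) 0), hsurj⟩⟩


end Groth.Agent.S14956
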