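import Groth.Statements.S14958
import Groth.Agent.TorFlip.Basic
-- import your own Groth.Agent.* helpers here

set_option autoImplicit false
universe u
open TensorProduct CategoryTheory CategoryTheory.Limits
open EtAlg

namespace Groth.Agent.S14958

open Groth.Agent MonoidalCategory

/-- Let B' = B ×_A A' be a fibre product of commutative rings with A' → A surjective and L' a B'-module.
Then L' is a fixed point of the glueing adjunction, i.e. the canonical map from L' to the compatible
pairs in (B ⊗_{B'} L') × (A' ⊗_{B'} L') is injective (it is always surjective), if and only if the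
map Tor_1(L', B) ⊕ Tor_1(L', A') → Tor_1(L', A) over B' induced by B → A and A' → A is surjective.
Here Tor_1(L', –) is the first left derived functor of L' ⊗_{B'} – on B'-modules. -/
theorem result (B' B A' A : Type u) [CommRing B'] [CommRing B] [CommRing A'] [CommRing A]
    [Algebra B' B] [Algebra B' A'] [Algebra B A] [Algebra A' A] [Algebra B' A] [IsScalarTower B' B A] [IsScalarTower B' A' A]
    (hsq : EtMil.IsFibreSquare B' B A' A)
    (L' : Type u) [AddCommGroup L'] [Module B' L'] :
    (∀ l : L', ((1 : B) ⊗ₜ[B'] l : B ⊗[B'] L') = 0 → ((1 : A') ⊗ₜ[B'] l : A' ⊗[B'] L') = 0 → l = 0) ↔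
    Epi (biprod.desc
      (((Tor (ModuleCat.{u} B') 1).obj (ModuleCat.of B' L')).map
        (ModuleCat.ofHom (IsScalarTower.toAlgHom B' B A).toLinearMap))
      (((Tor (ModuleCat.{u} B') 1).obj (ModuleCat.of B' L')).map
        (ModuleCat.ofHom (IsScalarTower.toAlgHom B' A' A).toLinearMap))) := by
  let f : B →ₗ[B'] A := (IsScalarTower.toAlgHom B' B A).toLinearMap
  let g : A' →ₗ[B'] A := (IsScalarTower.toAlgHom B' A' A).toLinearMap
  let ι₀ : B' →ₗ[B'] B × A' := (Algebra.linearMap B' B).prod (Algebra.linearMap B' A')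
  let h₀ : B × A' →ₗ[B'] A := f ∘ₗ LinearMap.fst B' B A' - g ∘ₗ LinearMap.snd B' B A'
  have hι : ∀ b', h₀ (ι₀ b') = 0 := fun b' => by
    show algebraMap B A (algebraMap B' B b') - algebraMap A' A (algebraMap B' A' b') = 0
    rw [← IsScalarTower.algebraMap_apply, ← IsScalarTower.algebraMap_apply, sub_self]
  let S : ShortComplex (ModuleCat.{u} B') :=
    ShortComplex.mk (ModuleCat.ofHom ι₀) (ModuleCat.ofHom h₀) (by ext : 1; exact LinearMap.ext hι)
  have hS : S.ShortExact :=
    { exact := by
        rw [ShortComplex.ShortExact.moduleCat_exact_iff_function_exact]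
        intro p
        constructor
        · intro hp
          have hp' : algebraMap B A p.1 = algebraMap A' A p.2 := sub_eq_zero.mp hp
          obtain ⟨b', ⟨h1, h2⟩, -⟩ := hsq.2 p.1 p.2 hp'
          exact ⟨b', Prod.ext h1 h2⟩
        · rintro ⟨b', rfl⟩
          exact hι b'
      mono_f := by
        rw [ModuleCat.mono_iff_injective]
        intro x y hxy
        have h1 : algebraMap B' B x = algebraMap B' B y := congrArg Prod.fst hxy
        have h2 : algebraMap B' A' x = algebraMap B' A' y := congrArg Prod.snd hxy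
        obtain ⟨z, -, hz⟩ := hsq.2 (algebraMap B' B x) (algebraMap B' A' x) (by
          rw [← IsScalarTower.algebraMap_apply, ← IsScalarTower.algebraMap_apply])
        rw [hz x ⟨rfl, rfl⟩, hz y ⟨h1.symm, h2.symm⟩]
      epi_g := by
        rw [ModuleCat.epi_iff_surjective]
        intro a
        obtain ⟨a', ha'⟩ := hsq.1 a
        refine ⟨(0, -a'), ?_⟩
        show algebraMap B A 0 - algebraMap A' A (-a') = a
        rw [map_zero, map_neg, ha', zero_sub, neg_neg] }
  let L : ModuleCat.{u} B' := ModuleCat.of B' L'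
  let Q := TorFlip.res B' L
  have hT := DRingPC.tensorResSC_shortExact hS Q
  let f0 := HomologicalComplex.homologyMap (DRingPC.tensorResSC (S := S) Q).f 0
  let g1 := HomologicalComplex.homologyMap (DRingPC.tensorResSC (S := S) Q).g 1
  -- left hand side
  have hL : (∀ l : L', ((1 : B) ⊗ₜ[B'] l : B ⊗[B'] L') = 0 → ((1 : A') ⊗ₜ[B'] l : A' ⊗[B'] L') = 0 → l = 0) ↔
      Function.Injective (ι₀.rTensor L') := by
    have key : ∀ l : L', TensorProduct.prodLeft B' B' B A' L' (ι₀.rTensor L' ((1 : B') ⊗ₜ[B'] l)) =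
        ((1 : B) ⊗ₜ[B'] l, (1 : A') ⊗ₜ[B'] l) := fun l => by simp [ι₀]
    constructor
    · intro H
      refine (injective_iff_map_eq_zero _).mpr fun x hx => ?_
      obtain ⟨l, rfl⟩ : ∃ l : L', (1 : B') ⊗ₜ[B'] l = x :=
        ⟨TensorProduct.lid B' L' x, (TensorProduct.lid B' L').injective (by simp)⟩
      have := key l
      rw [hx, map_zero] at this
      rw [H l (congrArg Prod.fst this).symm (congrArg Prod.snd this).symm, TensorProduct.tmul_zero]
    · intro H l h1 h2
      have : ι₀.rTensor L' ((1 : B') ⊗ₜ[B'] l) = 0 :=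
        (TensorProduct.prodLeft B' B' B A' L').injective (by rw [key, h1, h2, map_zero]; rfl)
      have h3 := congrArg (TensorProduct.lid B' L') (H (this.trans (map_zero _).symm))
      simpa using h3
  have hmono : Mono f0 ↔ Function.Injective (ι₀.rTensor L') := by
    have hn : f0 ≫ TorFlip.toTensor B' S.X₂ L = TorFlip.toTensor B' S.X₁ L ≫ S.f ▷ L :=
      TorFlip.toTensor_natL B' S.f L
    haveI := TorFlip.isIso_toTensor B' S.X₁ L
    haveI := TorFlip.isIso_toTensor B' S.X₂ L
    have e : Mono f0 ↔ Mono (S.f ▷ L) :=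
      (MorphismProperty.monomorphisms (ModuleCat.{u} B')).arrow_mk_iso_iff
        (Arrow.isoMk (@asIso _ _ _ _ _ (TorFlip.isIso_toTensor B' S.X₁ L)) (@asIso _ _ _ _ _ (TorFlip.isIso_toTensor B' S.X₂ L)) hn.symm)
    rw [e, ModuleCat.mono_iff_injective]
    exact Iff.rfl
  have hepi : Mono f0 ↔ Epi g1 := by
    constructor
    · intro hm
      have hδ : hT.δ 1 0 (by simp) = 0 := by
        have := hT.δ_comp 1 0 (by simp)
        rwa [← cancel_mono f0, zero_comp]
      exact (hT.homology_exact₃ 1 0 (by simp)).epi_f hδ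
    · intro he
      have hδ : hT.δ 1 0 (by simp) = 0 := by
        rw [← cancel_epi g1, comp_zero]
        exact hT.comp_δ 1 0 (by simp)
      exact (hT.homology_exact₁ 1 0 (by simp)).mono_g hδ
  let F := ((Tor (ModuleCat.{u} B') 1).obj L)
  let e : F ≅ ((TorFlip.T B' 1).flip).obj L :=
    ((TorFlip.torT B' 1).app L) ≪≫ (TorFlip.swapOne B').app L
  have hg1 : Epi g1 ↔ Epi (F.map S.g) :=
    ((MorphismProperty.epimorphisms (ModuleCat.{u} B')).arrow_mk_iso_iff
      (Arrow.isoMk (e.app _) (e.app _) (e.hom.naturality S.g).symm)).symm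
  haveI : (((TorFlip.T B' 1).flip).obj L).Additive := ⟨fun {X Y f' g'} => by
    show HomologicalComplex.homologyMap (TorFlip.mapL B' (f' + g') L) 1 =
      HomologicalComplex.homologyMap (TorFlip.mapL B' f' L) 1 + HomologicalComplex.homologyMap (TorFlip.mapL B' g' L) 1
    rw [← HomologicalComplex.homologyMap_add]
    congr 1
    ext i : 1
    exact MonoidalPreadditive.add_whiskerRight _ _⟩
  haveI : F.Additive := Functor.additive_of_iso e.symm
  have hdesc : Epi (F.map S.g) ↔ Epi (biprod.desc (F.map (ModuleCat.ofHom f)) (F.map (ModuleCat.ofHom g))) := by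
    let p₁ : S.X₂ ⟶ ModuleCat.of B' B := ModuleCat.ofHom (LinearMap.fst B' B A')
    let p₂ : S.X₂ ⟶ ModuleCat.of B' A' := ModuleCat.ofHom (LinearMap.snd B' B A')
    let i₁ : ModuleCat.of B' B ⟶ S.X₂ := ModuleCat.ofHom (LinearMap.inl B' B A')
    let i₂ : ModuleCat.of B' A' ⟶ S.X₂ := ModuleCat.ofHom (-LinearMap.inr B' B A')
    have h1 : biprod.lift (F.map p₁) (-F.map p₂) ≫
        biprod.desc (F.map (ModuleCat.ofHom f)) (F.map (ModuleCat.ofHom g)) = F.map S.g := by
      rw [biprod.lift_desc, Preadditive.neg_comp, ← F.map_comp, ← F.map_comp, ← F.map_neg, ← F.map_add]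
      congr 1
      apply ModuleCat.hom_ext
      apply LinearMap.ext
      intro x
      show f x.1 + -(g x.2) = f x.1 - g x.2
      exact (sub_eq_add_neg _ _).symm
    have h2 : biprod.desc (F.map i₁) (F.map i₂) ≫ F.map S.g =
        biprod.desc (F.map (ModuleCat.ofHom f)) (F.map (ModuleCat.ofHom g)) := by
      apply biprod.hom_ext'
      · rw [biprod.inl_desc_assoc, biprod.inl_desc, ← F.map_comp]
        congr 1
        ext x
        simp [S, i₁, h₀]
      · rw [biprod.inr_desc_assoc, biprod.inr_desc, ← F.map_comp]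
        congr 1
        ext x
        simp [S, i₂, h₀]
    constructor
    · intro he
      rw [← h1] at he
      exact epi_of_epi (biprod.lift (F.map p₁) (-F.map p₂)) _
    · intro he
      rw [← h2] at he
      exact epi_of_epi (biprod.desc (F.map i₁) (F.map i₂)) _
  exact (hL.trans hmono.symm).trans ((hepi.trans hg1).trans hdesc)


end Groth.Agent.S14958
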