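import Groth.Statements.S14959
import Groth.Agent.QCohLib.Pullback
import Groth.Agent.QCohLib.StalkRestrict
import Groth.Agent.QCohLib.Affine
-- import your own Groth.Agent.* helpers here

set_option autoImplicit false
universe u
open AlgebraicGeometry CategoryTheory CategoryTheory.Limits
open Pinch

namespace Groth.Agent.S14959

open CategoryTheory CategoryTheory.Limits AlgebraicGeometry in
theorem subsingleton_of_pinch {R S S' N : Type u} [CommRing R] [CommRing S] [CommRing S'] [AddCommGroup N]
    [Module R N] [Algebra R S] [Algebra R S'] (hs : Function.Surjective (algebraMap R S'))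
    (h0 : RingHom.ker (algebraMap R S) ⊓ RingHom.ker (algebraMap R S') = ⊥)
    (hI : ∀ a ∈ Ideal.map (algebraMap R S) (RingHom.ker (algebraMap R S')),
      ∃ i ∈ RingHom.ker (algebraMap R S'), algebraMap R S i = a)
    (h1 : Subsingleton (TensorProduct R S' N)) (h2 : Subsingleton (TensorProduct R S N)) :
    Subsingleton N := by
  set I := RingHom.ker (algebraMap R S') with hIdef
  have huniq : ∀ a ∈ I, ∀ b ∈ I, algebraMap R S a = algebraMap R S b → a = b := fun a ha b hb hab => by
    have : a - b ∈ RingHom.ker (algebraMap R S) ⊓ I :=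
      ⟨by simp [hab], sub_mem ha hb⟩
    rw [h0, Ideal.mem_bot] at this
    exact sub_eq_zero.1 this
  have hkill : ∀ i ∈ I, ∀ n : N, i • n = 0 := by
    intro i hi n
    choose σ hσI hσ using fun s : S => hI (s * algebraMap R S i) (Ideal.mul_mem_left _ _ (Ideal.mem_map_of_mem _ hi))
    let σ' : S →ₗ[R] R :=
      { toFun := σ
        map_add' := fun s t => huniq _ (hσI _) _ (add_mem (hσI s) (hσI t))
          (by rw [map_add, hσ, hσ, hσ, add_mul])
        map_smul' := fun r s => huniq _ (hσI _) _ (by rw [RingHom.id_apply]; exact Ideal.mul_mem_left _ _ (hσI s))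
          (by rw [RingHom.id_apply, smul_eq_mul, map_mul, hσ, hσ, Algebra.smul_def, mul_assoc]) }
    have h := congrArg (TensorProduct.lift ((LinearMap.lsmul R N).comp σ'))
      (Subsingleton.elim ((1 : S) ⊗ₜ[R] n) 0)
    rw [TensorProduct.lift.tmul, map_zero] at h
    rwa [← show σ' (1 : S) = i from huniq _ (hσI _) _ hi (by rw [hσ, one_mul])]
  let e := Ideal.quotientKerAlgEquivOfSurjective (f := Algebra.ofId R S') hs
  haveI : Subsingleton (TensorProduct R (R ⧸ I) N) :=
    (TensorProduct.congr e.toLinearEquiv (LinearEquiv.refl R N)).injective.subsingleton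
  haveI := (TensorProduct.quotTensorEquivQuotSMul N I).symm.injective.subsingleton
  refine subsingleton_of_forall_eq 0 fun n => ?_
  have hn : n ∈ I • (⊤ : Submodule R N) := (Submodule.Quotient.mk_eq_zero _).1 (Subsingleton.elim _ _)
  refine Submodule.smul_induction_on hn (fun r hr m _ => hkill r hr m) fun a b ha hb => ?_
  rw [ha, hb, add_zero]

open CategoryTheory CategoryTheory.Limits AlgebraicGeometry in
theorem isZero_extendScalars {R S : CommRingCat.{u}} (φ : R ⟶ S) (N : (Spec R).Modules)
    [N.IsQuasicoherent] (h : IsZero ((Scheme.Modules.pullback (Spec.map φ)).obj N)) :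
    IsZero ((ModuleCat.extendScalars φ.hom).obj (Groth.Agent.QCohLib.ΓR N)) :=
  IsZero.of_full_of_faithful_of_isZero (tilde.functor S) _
    ((h.of_iso ((Scheme.Modules.pullback (Spec.map φ)).mapIso (Groth.Agent.QCohLib.counitIso N))).of_iso
      ((Groth.Agent.QCohLib.pullbackTildeIso φ).app (Groth.Agent.QCohLib.ΓR N)))


/-- Let w : X' → X, g : X' → Y', f : X → Y, u : Y' → Y be a cartesian square of schemes with f affine
and u a closed immersion which is a pinching square: for every affine open V of Y, with I(V) the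
kernel of Γ(V, O_Y) → Γ(u⁻¹V, O_Y'), the kernel of Γ(V, O_Y) → Γ(f⁻¹V, O_X) meets I(V) in 0 and the
ideal generated by the image of I(V) in Γ(f⁻¹V, O_X) consists of images of elements of I(V)
(equivalently Γ(V, O_Y) is the fibre product of Γ(u⁻¹V, O_Y') and Γ(f⁻¹V, O_X) over Γ(h⁻¹V, O_X'),
i.e. O_Y = u_*O_Y' ×_{h_*O_X'} f_*O_X). If G is a quasi-coherent O_Y-module whose pullbacks u*G and
f*G are zero, then G = 0. -/
theorem result {X X' Y Y' : Scheme.{u}} (f : X ⟶ Y) (u : Y' ⟶ Y) (w : X' ⟶ X) (g : X' ⟶ Y')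
    (hP : IsPullback w g f u) [IsAffineHom f] [IsClosedImmersion u]
    (hM : ∀ V ∈ Y.affineOpens,
      RingHom.ker (f.app V).hom ⊓ RingHom.ker (u.app V).hom = ⊥ ∧
      ∀ a ∈ Ideal.map (f.app V).hom (RingHom.ker (u.app V).hom),
        ∃ i ∈ RingHom.ker (u.app V).hom, (f.app V).hom i = a)
    (G : Y.Modules) [G.IsQuasicoherent]
    (h1 : IsZero ((Scheme.Modules.pullback u).obj G)) (h2 : IsZero ((Scheme.Modules.pullback f).obj G)) :
    IsZero G := by
  refine Groth.Agent.QCohLib.isZero_of_subsingleton_stalk fun y => ?_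
  obtain ⟨_, ⟨V, hV, rfl⟩, hyV, -⟩ :=
    Y.isBasis_affineOpens.exists_subset_of_mem_open (Set.mem_univ y) isOpen_univ
  haveI hQ := Groth.Agent.QCohLib.isQuasicoherent_pullback hV.fromSpec G
  have key : ∀ {Z : Scheme.{u}} (k : Z ⟶ Y) (hZ : IsAffineOpen (k ⁻¹ᵁ V)),
      IsZero ((Scheme.Modules.pullback k).obj G) → IsZero ((ModuleCat.extendScalars (k.app V).hom).obj
        (Groth.Agent.QCohLib.ΓR ((Scheme.Modules.pullback hV.fromSpec).obj G))) := by
    intro Z k hZ hk
    refine isZero_extendScalars _ _ (IsZero.of_iso ((Scheme.Modules.pullback hZ.fromSpec).map_isZero hk) ?_)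
    refine (Scheme.Modules.pullbackComp (Spec.map (k.app V)) hV.fromSpec).app G ≪≫
      (Scheme.Modules.pullbackCongr ?_).app G ≪≫ ((Scheme.Modules.pullbackComp hZ.fromSpec k).app G).symm
    rw [← hV.SpecMap_appLE_fromSpec k hZ le_rfl]
    simp [Scheme.Hom.appLE]
  have hu : IsAffineOpen (u ⁻¹ᵁ V) := hV.preimage u
  have hf : IsAffineOpen (f ⁻¹ᵁ V) := hV.preimage f
  letI := (f.app V).hom.toAlgebra
  letI := (u.app V).hom.toAlgebra
  have hN : Subsingleton (Groth.Agent.QCohLib.ΓR ((Scheme.Modules.pullback hV.fromSpec).obj G)) :=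
    subsingleton_of_pinch (S := Γ(X, f ⁻¹ᵁ V)) (S' := Γ(Y', u ⁻¹ᵁ V)) (u.app_surjective V hV) (hM V hV).1 (hM V hV).2
      (ModuleCat.subsingleton_of_isZero (key u hu h1)) (ModuleCat.subsingleton_of_isZero (key f hf h2))
  have hz : IsZero ((Scheme.Modules.pullback hV.fromSpec).obj G) :=
    ((tilde.functor _).map_isZero (ModuleCat.isZero_of_subsingleton _)).of_iso
      (Groth.Agent.QCohLib.counitIso _).symm
  have hs := Groth.Agent.QCohLib.subsingleton_stalk_of_isZero
    (hz.of_iso ((Scheme.Modules.restrictFunctorIsoPullback hV.fromSpec).app G)) 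
  obtain ⟨z, rfl⟩ : y ∈ Set.range hV.fromSpec := by rw [hV.range_fromSpec]; exact hyV
  exact (Groth.Agent.QCohLib.subsingleton_restrict_stalk_iff hV.fromSpec G z).1 (hs z)

end Groth.Agent.S14959
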