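import Groth.Statements.S1496
import Groth.Agent.InvPow.Projective
-- import your own Groth.Agent.* helpers here

set_option autoImplicit false
universe u
attribute [local instance] HasDerivedCategory.standard
open FlatMor

namespace Groth.Agent.S1496

open AlgebraicGeometry CategoryTheory Limits in
/-- Let S be a scheme carrying an ample invertible sheaf and f : X → S a morphism. Then f is a closed
immersion into some projective space over S (f factors as a closed immersion X → Pⁿ_S followed by
the projection Pⁿ_S → S, for some n) if and only if f is proper and X carries an ample invertible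
sheaf; and the latter holds if and only if f is proper and some O_X-module is ample relative to f. -/
theorem result {X S : Scheme.{u}} (hS : ∃ N : S.Modules, CohB1.IsAmple N) (f : X ⟶ S) :
    ((∃ (n : ℕ) (i : X ⟶ CohB1.ProjSpaceOver n S), IsClosedImmersion i ∧ i ≫ pullback.snd (CohB1.ProjSpace.toSpec n (ULift.{u} ℤ)) (specULiftZIsTerminal.from S) = f) ↔
      (IsProper f ∧ ∃ L : X.Modules, CohB1.IsAmple L)) ∧
    ((IsProper f ∧ ∃ L : X.Modules, CohB1.IsAmple L) ↔ (IsProper f ∧ ∃ L : X.Modules, RelAmple.IsRelAmple f L)) := by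
  refine ⟨⟨?_, ?_⟩, ⟨?_, ?_⟩⟩
  · rintro ⟨n, i, hi, hf⟩
    obtain ⟨-, -, h3, -⟩ := InvPow.exists_isAmple_of_immersion hS f i hf
    exact ⟨hf ▸ MorphismProperty.comp_mem @IsProper i _ (inferInstance : IsProper i)
      (InvPow.isProper_snd n S), h3⟩
  · rintro ⟨h1, L, hL⟩
    obtain ⟨d, -, hd⟩ := InvPow.exists_bound_isRelVeryAmplePn f hL
    obtain ⟨n, i, hi, hf, -⟩ := hd d le_rfl
    let p : CohB1.ProjSpaceOver n S ⟶ S :=
      pullback.snd (CohB1.ProjSpace.toSpec n (ULift.{u} ℤ)) (specULiftZIsTerminal.from S)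
    have : IsProper p := InvPow.isProper_snd n S
    have : IsProper (i ≫ p) := by
      rw [show i ≫ p = f from hf]; exact h1
    have : IsProper i := IsProper.of_comp i p
    exact ⟨n, i, .of_isPreimmersion i i.isClosedMap.isClosed_range, hf⟩
  · rintro ⟨h1, L, hL⟩
    refine ⟨h1, L, (InvPow.isRelAmple_iff f).mpr ⟨inferInstance, fun V => ?_⟩⟩
    have : CompactSpace (f ⁻¹ᵁ V.1) :=
      isCompact_iff_compactSpace.mp (f.isCompact_preimage V.2.isCompact)
    exact InvPow.ampOn_of_isAmple hL _
  · rintro ⟨h1, L, hL⟩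
    obtain ⟨N, hN⟩ := hS
    obtain ⟨k, -, hk⟩ := InvPow.exists_isAmple_tensor_pullback f hN hL
    exact ⟨h1, _, hk k le_rfl⟩

end Groth.Agent.S1496
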