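import Groth.Statements.S14960
import Groth.Agent.QCohLib.FiniteType
import Groth.Agent.QCohLib.StalkLoc
import Groth.Agent.DCohPerf.FlatFP
import Groth.Agent.ModGroth.PullStalk
-- import your own Groth.Agent.* helpers here

set_option autoImplicit false
universe u
open AlgebraicGeometry CategoryTheory CategoryTheory.Limits
open Pinch

namespace Groth.Agent.S14960

open CategoryTheory CategoryTheory.Limits AlgebraicGeometry TensorProduct in
theorem rTensor_injective_of_linear {R T : Type u} [CommRing R] [CommRing T] [Algebra R T]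
    (N : Type u) [AddCommGroup N] [Module R N] [Module.Flat T (T ⊗[R] N)]
    {M₁ M₂ : Type u} [AddCommGroup M₁] [Module R M₁] [Module T M₁] [IsScalarTower R T M₁]
    [AddCommGroup M₂] [Module R M₂] [Module T M₂] [IsScalarTower R T M₂]
    (f : M₁ →ₗ[T] M₂) (hf : Function.Injective f) :
    Function.Injective ((f.restrictScalars R).rTensor N) := by
  let e₁ := AlgebraTensorModule.cancelBaseChange R T T M₁ N
  let e₂ := AlgebraTensorModule.cancelBaseChange R T T M₂ N
  have h : ∀ z : M₁ ⊗[R] N, (f.restrictScalars R).rTensor N z = e₂ (f.rTensor (T ⊗[R] N) (e₁.symm z)) := by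
    intro z
    induction z using TensorProduct.induction_on with
    | zero => simp only [map_zero]
    | add a b ha hb => simp only [map_add, ha, hb]
    | tmul m n =>
      simp only [e₁, e₂, AlgebraTensorModule.cancelBaseChange_symm_tmul, LinearMap.rTensor_tmul,
        AlgebraTensorModule.cancelBaseChange_tmul, one_smul, LinearMap.restrictScalars_apply]
  intro a b hab
  rw [h, h] at hab
  exact e₁.symm.injective (Module.Flat.rTensor_preserves_injective_linearMap f hf (e₂.injective hab))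

open CategoryTheory CategoryTheory.Limits AlgebraicGeometry TensorProduct in
theorem rTensor_injective_of_killed {R S' : Type u} [CommRing R] [CommRing S'] [Algebra R S']
    (hs : Function.Surjective (algebraMap R S'))
    (N : Type u) [AddCommGroup N] [Module R N] [Module.Flat S' (S' ⊗[R] N)]
    {M₁ M₂ : Type u} [AddCommGroup M₁] [Module R M₁] [AddCommGroup M₂] [Module R M₂]
    (h1 : ∀ i ∈ RingHom.ker (algebraMap R S'), ∀ m : M₁, i • m = 0)
    (h2 : ∀ i ∈ RingHom.ker (algebraMap R S'), ∀ m : M₂, i • m = 0)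
    (f : M₁ →ₗ[R] M₂) (hf : Function.Injective f) : Function.Injective (f.rTensor N) := by
  let e := Ideal.quotientKerAlgEquivOfSurjective (f := Algebra.ofId R S') hs
  have t1 : Module.IsTorsionBySet R M₁ ↑(RingHom.ker (Algebra.ofId R S')) := fun m a => h1 a.1 a.2 m
  have t2 : Module.IsTorsionBySet R M₂ ↑(RingHom.ker (Algebra.ofId R S')) := fun m a => h2 a.1 a.2 m
  letI := t1.module
  letI := t2.module
  letI : Module S' M₁ := Module.compHom M₁ e.symm.toRingEquiv.toRingHom
  letI : Module S' M₂ := Module.compHom M₂ e.symm.toRingEquiv.toRingHom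
  haveI : IsScalarTower R S' M₁ := IsScalarTower.of_algebraMap_smul fun r m => by
    show e.symm (algebraMap R S' r) • m = r • m
    rw [e.symm.commutes]; rfl
  haveI : IsScalarTower R S' M₂ := IsScalarTower.of_algebraMap_smul fun r m => by
    show e.symm (algebraMap R S' r) • m = r • m
    rw [e.symm.commutes]; rfl
  let f' : M₁ →ₗ[S'] M₂ :=
    { toFun := f
      map_add' := map_add f
      map_smul' := fun s m => by
        obtain ⟨r, rfl⟩ := hs s
        simp only [RingHom.id_apply, algebraMap_smul, map_smul] }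
  exact rTensor_injective_of_linear N f' hf

open CategoryTheory CategoryTheory.Limits AlgebraicGeometry TensorProduct in
theorem flat_of_pinch {R S S' N : Type u} [CommRing R] [CommRing S] [CommRing S'] [AddCommGroup N]
    [Module R N] [Algebra R S] [Algebra R S'] (hs : Function.Surjective (algebraMap R S'))
    (h0 : RingHom.ker (algebraMap R S) ⊓ RingHom.ker (algebraMap R S') = ⊥)
    (hI : ∀ a ∈ Ideal.map (algebraMap R S) (RingHom.ker (algebraMap R S')),
      ∃ i ∈ RingHom.ker (algebraMap R S'), algebraMap R S i = a)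
    [Module.Flat S' (S' ⊗[R] N)] [Module.Flat S (S ⊗[R] N)] : Module.Flat R N := by
  set I := RingHom.ker (algebraMap R S') with hIdef
  have hinj : ∀ a ∈ I, algebraMap R S a = 0 → a = 0 := fun a ha h => by
    have : a ∈ RingHom.ker (algebraMap R S) ⊓ I := ⟨h, ha⟩
    rwa [h0, Ideal.mem_bot] at this
  rw [Module.Flat.iff_rTensor_injective']
  intro A
  let J := I.map (algebraMap R S)
  let Qs : Ideal S := J * A.map (algebraMap R S)
  have hQ : ∀ q ∈ Qs, ∃ a ∈ I ⊓ A, algebraMap R S a = q := by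
    intro q hq
    refine Submodule.mul_induction_on hq (fun j hj b hb => ?_) fun x y ⟨a, ha, hax⟩ ⟨b, hb, hby⟩ =>
      ⟨a + b, add_mem ha hb, by rw [map_add, hax, hby]⟩
    revert j
    induction hb using Submodule.span_induction with
    | mem x hx =>
      intro j hj
      obtain ⟨a, ha, rfl⟩ := hx
      obtain ⟨i, hi, rfl⟩ := hI j hj
      exact ⟨i * a, ⟨Ideal.mul_mem_right _ _ hi, Ideal.mul_mem_left _ _ ha⟩, map_mul _ _ _⟩
    | zero => exact fun j _ => ⟨0, zero_mem _, by simp⟩
    | add x y _ _ hx hy =>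
      intro j hj
      obtain ⟨a, ha, hax⟩ := hx j hj
      obtain ⟨b, hb, hby⟩ := hy j hj
      exact ⟨a + b, add_mem ha hb, by rw [map_add, hax, hby, mul_add]⟩
    | smul s x _ hx =>
      intro j hj
      obtain ⟨a, ha, hax⟩ := hx (j * s) (Ideal.mul_mem_right _ _ hj)
      exact ⟨a, ha, by rw [hax, smul_eq_mul, mul_assoc]⟩
  have hQW : Qs ≤ J := Ideal.mul_le_left
  let W : Ideal S := J ⊓ Submodule.colon Qs (J : Set S)
  have hQsW : Qs ≤ W := le_inf hQW fun q hq => Submodule.mem_colon.mpr fun j _ => Ideal.mul_mem_right _ _ hq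
  let K : Submodule R A := Submodule.comap A.subtype I
  have hψmem : ∀ k : K, algebraMap R S k.1.1 ∈ W := fun k =>
    ⟨Ideal.mem_map_of_mem _ k.2, Submodule.mem_colon.mpr fun j hj => by
      rw [smul_eq_mul, mul_comm]
      exact Ideal.mul_mem_mul hj (Ideal.mem_map_of_mem _ k.1.2)⟩
  let ψ : K →ₗ[R] W :=
    { toFun := fun k => ⟨algebraMap R S k.1.1, hψmem k⟩
      map_add' := fun a b => Subtype.ext (map_add (algebraMap R S) a.1.1 b.1.1)
      map_smul' := fun r a => Subtype.ext (by
        show algebraMap R S (r * a.1.1) = r • algebraMap R S a.1.1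
        rw [map_mul, Algebra.smul_def]) }
  let Qw : Submodule R W := (Submodule.comap W.subtype Qs).restrictScalars R
  let B : Submodule R K := Qw.comap ψ
  have hW : ∀ y : K ⊗[R] N, (((W.subtype).restrictScalars R).comp ψ).rTensor N y = 0 → y = 0 := by
    intro y hy
    rw [LinearMap.rTensor_comp_apply] at hy
    have hy1 : ψ.rTensor N y = 0 :=
      rTensor_injective_of_linear N W.subtype Subtype.val_injective (hy.trans (map_zero _).symm)
    let ψ' : (K ⧸ B) →ₗ[R] (W ⧸ Qw) := B.mapQ Qw ψ le_rfl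
    have hψ' : Function.Injective ψ' := by
      rw [← LinearMap.ker_eq_bot]
      simp only [ψ', Submodule.mapQ, Submodule.ker_liftQ, LinearMap.ker_comp, Submodule.ker_mkQ]
      exact Submodule.mkQ_map_self B
    have k1 : ∀ i ∈ I, ∀ m : K ⧸ B, i • m = 0 := by
      intro i hi m
      obtain ⟨k, rfl⟩ := Submodule.Quotient.mk_surjective _ m
      rw [← Submodule.Quotient.mk_smul, Submodule.Quotient.mk_eq_zero]
      show algebraMap R S (i * k.1.1) ∈ Qs
      rw [map_mul]
      exact Ideal.mul_mem_mul (Ideal.mem_map_of_mem _ hi) (Ideal.mem_map_of_mem _ k.1.2)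
    have k2 : ∀ i ∈ I, ∀ m : W ⧸ Qw, i • m = 0 := by
      intro i hi m
      obtain ⟨w, rfl⟩ := Submodule.Quotient.mk_surjective _ m
      rw [← Submodule.Quotient.mk_smul, Submodule.Quotient.mk_eq_zero]
      show (i • (w : S)) ∈ Qs
      rw [Algebra.smul_def, mul_comm]
      exact Submodule.mem_colon.mp w.2.2 _ (Ideal.mem_map_of_mem _ hi)
    have hy2 : B.mkQ.rTensor N y = 0 := by
      refine rTensor_injective_of_killed hs N k1 k2 ψ' hψ' ?_
      rw [map_zero, ← LinearMap.rTensor_comp_apply]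
      have hc : ψ'.comp B.mkQ = Qw.mkQ.comp ψ := Submodule.mapQ_mkQ _ _ _
      rw [hc, LinearMap.rTensor_comp_apply, hy1, map_zero]
    obtain ⟨z, rfl⟩ : y ∈ LinearMap.range (B.subtype.rTensor N) := by
      rw [← rTensor_mkQ N B]; exact hy2
    have hχmem : ∀ b : B, algebraMap R S b.1.1.1 ∈ Qs := fun b => b.2
    let χ : B →ₗ[R] Qs :=
      { toFun := fun b => ⟨algebraMap R S b.1.1.1, hχmem b⟩
        map_add' := fun a b => Subtype.ext (map_add (algebraMap R S) a.1.1.1 b.1.1.1)
        map_smul' := fun r a => Subtype.ext (by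
          show algebraMap R S (r * a.1.1.1) = r • algebraMap R S a.1.1.1
          rw [map_mul, Algebra.smul_def]) }
    have hχ : Function.Bijective χ := by
      refine ⟨fun a b hab => ?_, fun q => ?_⟩
      · have h' : algebraMap R S (a.1.1.1 - b.1.1.1) = 0 := by
          rw [map_sub, sub_eq_zero]; exact congrArg Subtype.val hab
        exact Subtype.ext (Subtype.ext (Subtype.ext (sub_eq_zero.mp (hinj _ (sub_mem a.1.2 b.1.2) h'))))
      · obtain ⟨a, ha, hq⟩ := hQ q.1 q.2
        exact ⟨⟨⟨⟨a, ha.2⟩, ha.1⟩, show algebraMap R S a ∈ Qs by rw [hq]; exact q.2⟩, Subtype.ext hq⟩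
    have hz : z = 0 := by
      refine ((LinearEquiv.ofBijective χ hχ).rTensor N).injective ?_
      rw [map_zero]
      refine rTensor_injective_of_linear N Qs.subtype Subtype.val_injective ?_
      rw [map_zero]
      show ((Qs.subtype).restrictScalars R).rTensor N (χ.rTensor N z) = 0
      rw [← LinearMap.rTensor_comp_apply, ← hy, ← LinearMap.rTensor_comp_apply, ← LinearMap.rTensor_comp_apply]
      rfl
    rw [hz, map_zero]
  refine (injective_iff_map_eq_zero _).mpr fun x hx => ?_
  let gbar : (A ⧸ K) →ₗ[R] (R ⧸ I) := K.mapQ I A.subtype le_rfl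
  have hg : Function.Injective gbar := by
    rw [← LinearMap.ker_eq_bot]
    simp only [gbar, Submodule.mapQ, Submodule.ker_liftQ, LinearMap.ker_comp, Submodule.ker_mkQ]
    exact Submodule.mkQ_map_self K
  have hx2 : K.mkQ.rTensor N x = 0 := by
    refine rTensor_injective_of_killed hs N ?_ ?_ gbar hg ?_
    · intro i hi m
      obtain ⟨a, rfl⟩ := Submodule.Quotient.mk_surjective _ m
      rw [← Submodule.Quotient.mk_smul, Submodule.Quotient.mk_eq_zero]
      exact Ideal.mul_mem_right _ _ hi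
    · intro i hi m
      obtain ⟨a, rfl⟩ := Submodule.Quotient.mk_surjective _ m
      rw [← Submodule.Quotient.mk_smul, Submodule.Quotient.mk_eq_zero]
      exact Ideal.mul_mem_right _ _ hi
    · rw [map_zero, ← LinearMap.rTensor_comp_apply]
      have hc : gbar.comp K.mkQ = (Submodule.mkQ I).comp A.subtype := Submodule.mapQ_mkQ _ _ _
      rw [hc, LinearMap.rTensor_comp_apply, hx, map_zero]
  obtain ⟨y, rfl⟩ : x ∈ LinearMap.range (K.subtype.rTensor N) := by
    rw [← rTensor_mkQ N K]; exact hx2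
  rw [hW y ?_, map_zero]
  have hcomp : (W.subtype.restrictScalars R).comp ψ = (Algebra.linearMap R S).comp (A.subtype.comp K.subtype) := rfl
  rw [hcomp, LinearMap.rTensor_comp_apply, LinearMap.rTensor_comp_apply, hx, map_zero]

open CategoryTheory CategoryTheory.Limits AlgebraicGeometry in
theorem flat_extendScalars {R S : CommRingCat.{u}} (φ : R ⟶ S) (N : (Spec R).Modules)
    [N.IsQuasicoherent] (P : (Spec S).Modules) (eP : P ≅ (Scheme.Modules.pullback (Spec.map φ)).obj N)
    (h : FlatMod.IsFlat P) :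
    Module.Flat S ((ModuleCat.extendScalars φ.hom).obj (QCohLib.ΓR N)) :=
  DCohPerf.flat_of_isFlat_tilde _ (DCohPerf.flatMod_iso
    (eP ≪≫ ((Scheme.Modules.pullback (Spec.map φ)).mapIso (QCohLib.counitIso N)).symm ≪≫
      ((QCohLib.pullbackTildeIso φ).app (QCohLib.ΓR N)).symm) h)

/-- Let w : X' → X, g : X' → Y', f : X → Y, u : Y' → Y be a cartesian square of schemes with f affine
and u a closed immersion which is a pinching square: for every affine open V of Y, with I(V) the
kernel of Γ(V, O_Y) → Γ(u⁻¹V, O_Y'), the kernel of Γ(V, O_Y) → Γ(f⁻¹V, O_X) meets I(V) in 0 and the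
ideal generated by the image of I(V) in Γ(f⁻¹V, O_X) consists of images of elements of I(V)
(equivalently Γ(V, O_Y) is the fibre product of Γ(u⁻¹V, O_Y') and Γ(f⁻¹V, O_X) over Γ(h⁻¹V, O_X'),
i.e. O_Y = u_*O_Y' ×_{h_*O_X'} f_*O_X). A quasi-coherent O_Y-module G is a flat O_Y-module if and
only if u*G is a flat O_Y'-module and f*G is a flat O_X-module. -/
theorem result {X X' Y Y' : Scheme.{u}} (f : X ⟶ Y) (u : Y' ⟶ Y) (w : X' ⟶ X) (g : X' ⟶ Y')
    (hP : IsPullback w g f u) [IsAffineHom f] [IsClosedImmersion u]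
    (hM : ∀ V ∈ Y.affineOpens,
      RingHom.ker (f.app V).hom ⊓ RingHom.ker (u.app V).hom = ⊥ ∧
      ∀ a ∈ Ideal.map (f.app V).hom (RingHom.ker (u.app V).hom),
        ∃ i ∈ RingHom.ker (u.app V).hom, (f.app V).hom i = a)
    (G : Y.Modules) [G.IsQuasicoherent] :
    FlatMod.IsFlat G ↔
      FlatMod.IsFlat ((Scheme.Modules.pullback u).obj G) ∧ FlatMod.IsFlat ((Scheme.Modules.pullback f).obj G) := by
  refine ⟨fun h => ⟨ModGroth.Stalk.isFlat_pullback u h, ModGroth.Stalk.isFlat_pullback f h⟩, fun h y => ?_⟩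
  obtain ⟨V, hV, hy, -⟩ := exists_isAffineOpen_mem_and_subset (x := y) (U := ⊤) (by trivial)
  haveI hQ := QCohLib.isQuasicoherent_pullback hV.fromSpec G
  have hk : ∀ {Z : Scheme.{u}} (k : Z ⟶ Y) (hZ : IsAffineOpen (k ⁻¹ᵁ V)),
      FlatMod.IsFlat ((Scheme.Modules.pullback k).obj G) →
      Module.Flat Γ(Z, k ⁻¹ᵁ V) ((ModuleCat.extendScalars (k.app V).hom).obj
        (QCohLib.ΓR ((Scheme.Modules.pullback hV.fromSpec).obj G))) := by
    intro Z k hZ hk
    refine flat_extendScalars _ _ _ ?_ (ModGroth.Stalk.isFlat_pullback hZ.fromSpec hk)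
    refine (Scheme.Modules.pullbackComp hZ.fromSpec k).app G ≪≫ (Scheme.Modules.pullbackCongr ?_).app G ≪≫
      ((Scheme.Modules.pullbackComp (Spec.map (k.app V)) hV.fromSpec).app G).symm
    rw [← hV.SpecMap_appLE_fromSpec k hZ le_rfl]
    simp [Scheme.Hom.appLE]
  letI := (f.app V).hom.toAlgebra
  letI := (u.app V).hom.toAlgebra
  let N := QCohLib.ΓR ((Scheme.Modules.pullback hV.fromSpec).obj G)
  haveI : Module.Flat Γ(Y', u ⁻¹ᵁ V) (TensorProduct Γ(Y, V) Γ(Y', u ⁻¹ᵁ V) N) := hk u (hV.preimage u) h.1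
  haveI : Module.Flat Γ(X, f ⁻¹ᵁ V) (TensorProduct Γ(Y, V) Γ(X, f ⁻¹ᵁ V) N) := hk f (hV.preimage f) h.2
  haveI : Module.Flat Γ(Y, V) N :=
    flat_of_pinch (S := Γ(X, f ⁻¹ᵁ V)) (S' := Γ(Y', u ⁻¹ᵁ V)) (u.app_surjective V hV) (hM V hV).1 (hM V hV).2
  let e : N ≃ₗ[Γ(Y, V)] Γ(G, V) :=
    ((moduleSpecΓFunctor (R := Γ(Y, V))).mapIso
      ((Scheme.Modules.restrictFunctorIsoPullback hV.fromSpec).app G).symm).toLinearEquiv.trans
      (QCohLib.onSpecΓ G hV)
  haveI : Module.Flat Γ(Y, V) Γ(G, V) := Module.Flat.of_linearEquiv e.symm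
  letI := Y.presheaf.algebra_section_stalk (U := V) ⟨y, hy⟩
  haveI := hV.isLocalization_stalk ⟨y, hy⟩
  letI := QCohLib.germModule G y hy
  haveI : IsScalarTower Γ(Y, V) (Y.presheaf.stalk y) (G.presheaf.stalk y) :=
    IsScalarTower.of_algebraMap_smul fun _ _ => rfl
  haveI := QCohLib.isLocalizedModule_germ (M := G) hV y hy
  exact Module.Flat.isBaseChange Γ(Y, V) (Y.presheaf.stalk y) Γ(G, V) (G.presheaf.stalk y)
    (IsLocalizedModule.isBaseChange (hV.primeIdealOf ⟨y, hy⟩).asIdeal.primeCompl (Y.presheaf.stalk y)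
      (QCohLib.germLinearMap G y hy))

end Groth.Agent.S14960
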