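import Groth.Statements.S14962
import Groth.Agent.S14959
import Groth.Agent.QCohLib.FiniteType
import Groth.Agent.QCohLib.Local
-- import your own Groth.Agent.* helpers here

set_option autoImplicit false
universe u
open AlgebraicGeometry CategoryTheory CategoryTheory.Limits
open Pinch

namespace Groth.Agent.S14962

open CategoryTheory CategoryTheory.Limits AlgebraicGeometry in
theorem finite_of_pinch {R S S' N : Type u} [CommRing R] [CommRing S] [CommRing S'] [AddCommGroup N]
    [Module R N] [Algebra R S] [Algebra R S'] (hs : Function.Surjective (algebraMap R S'))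
    (h0 : RingHom.ker (algebraMap R S) ⊓ RingHom.ker (algebraMap R S') = ⊥)
    (hI : ∀ a ∈ Ideal.map (algebraMap R S) (RingHom.ker (algebraMap R S')),
      ∃ i ∈ RingHom.ker (algebraMap R S'), algebraMap R S i = a)
    (h1 : Module.Finite S' (TensorProduct R S' N)) (h2 : Module.Finite S (TensorProduct R S N)) :
    Module.Finite R N := by
  classical
  have aux : ∀ (T : Type u) [CommRing T] [Algebra R T], Module.Finite T (TensorProduct R T N) →
      ∃ s : Finset N, ∀ N' : Submodule R N, ↑s ⊆ (N' : Set N) → Subsingleton (TensorProduct R T (N ⧸ N')) := by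
    intro T _ _ hT
    obtain ⟨g, hg⟩ := hT.fg_top
    choose m hm using fun x : TensorProduct R T N => TensorProduct.exists_finset x
    refine ⟨g.biUnion fun x => (m x).image Prod.snd, fun N' hN' => subsingleton_of_forall_eq 0 fun z => ?_⟩
    obtain ⟨w, rfl⟩ := LinearMap.baseChange_surjective (A := T) N'.mkQ_surjective z
    have hw : w ∈ Submodule.span T (g : Set (TensorProduct R T N)) := hg ▸ Submodule.mem_top
    induction hw using Submodule.span_induction with
    | mem x hx =>
      rw [hm x, map_sum]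
      refine Finset.sum_eq_zero fun p hp => ?_
      rw [LinearMap.baseChange_tmul, Submodule.mkQ_apply,
        (Submodule.Quotient.mk_eq_zero N').2 (hN' (Finset.mem_biUnion.2 ⟨x, hx, Finset.mem_image_of_mem _ hp⟩)),
        TensorProduct.tmul_zero]
    | zero => rw [map_zero]
    | add a b _ _ ha hb => rw [map_add, ha, hb, add_zero]
    | smul r a _ ha => rw [map_smul, ha, smul_zero]
  obtain ⟨s, hs1⟩ := aux S' h1
  obtain ⟨t, ht1⟩ := aux S h2
  let N' := Submodule.span R ((s ∪ t : Finset N) : Set N)
  have hQ := S14959.subsingleton_of_pinch hs h0 hI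
    (hs1 N' ((Finset.coe_subset.2 Finset.subset_union_left).trans Submodule.subset_span))
    (ht1 N' ((Finset.coe_subset.2 Finset.subset_union_right).trans Submodule.subset_span))
  exact ⟨⟨s ∪ t, Submodule.Quotient.subsingleton_iff.1 hQ⟩⟩

open CategoryTheory CategoryTheory.Limits AlgebraicGeometry in
theorem finite_extendScalars {R S : CommRingCat.{u}} (φ : R ⟶ S) (N : (Spec R).Modules)
    [N.IsQuasicoherent] (P : (Spec S).Modules) (eP : P ≅ (Scheme.Modules.pullback (Spec.map φ)).obj N)
    (h : P.IsFiniteType) :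
    Module.Finite S ((ModuleCat.extendScalars φ.hom).obj (QCohLib.ΓR N)) := by
  let e : P ≅ (tilde.functor S).obj ((ModuleCat.extendScalars φ.hom).obj (QCohLib.ΓR N)) :=
    eP ≪≫ ((Scheme.Modules.pullback (Spec.map φ)).mapIso (QCohLib.counitIso N)).symm ≪≫
      ((QCohLib.pullbackTildeIso φ).app (QCohLib.ΓR N)).symm
  haveI := QCohLib.isQuasicoherent_pullback (Spec.map φ) N
  haveI : P.IsQuasicoherent := QCohLib.isQuasicoherent_of_iso eP.symm
  haveI := QCohLib.isFiniteType_iff_Spec.1 h
  exact Module.Finite.equiv ((moduleSpecΓFunctor (R := S)).mapIso e ≪≫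
    (tilde.toTildeΓNatIso (R := S)).symm.app _).toLinearEquiv


/-- Let w : X' → X, g : X' → Y', f : X → Y, u : Y' → Y be a cartesian square of schemes with f affine
and u a closed immersion which is a pinching square: for every affine open V of Y, with I(V) the
kernel of Γ(V, O_Y) → Γ(u⁻¹V, O_Y'), the kernel of Γ(V, O_Y) → Γ(f⁻¹V, O_X) meets I(V) in 0 and the
ideal generated by the image of I(V) in Γ(f⁻¹V, O_X) consists of images of elements of I(V)
(equivalently Γ(V, O_Y) is the fibre product of Γ(u⁻¹V, O_Y') and Γ(f⁻¹V, O_X) over Γ(h⁻¹V, O_X'),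
i.e. O_Y = u_*O_Y' ×_{h_*O_X'} f_*O_X). A quasi-coherent O_Y-module G is of finite type if and only
if u*G and f*G are of finite type. (The published clause is for flat modules of finite type;
flatness descends separately and the finiteness part does not use it.) -/
theorem result {X X' Y Y' : Scheme.{u}} (f : X ⟶ Y) (u : Y' ⟶ Y) (w : X' ⟶ X) (g : X' ⟶ Y')
    (hP : IsPullback w g f u) [IsAffineHom f] [IsClosedImmersion u]
    (hM : ∀ V ∈ Y.affineOpens,
      RingHom.ker (f.app V).hom ⊓ RingHom.ker (u.app V).hom = ⊥ ∧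
      ∀ a ∈ Ideal.map (f.app V).hom (RingHom.ker (u.app V).hom),
        ∃ i ∈ RingHom.ker (u.app V).hom, (f.app V).hom i = a)
    (G : Y.Modules) [G.IsQuasicoherent] :
    SheafOfModules.IsFiniteType G ↔
      SheafOfModules.IsFiniteType ((Scheme.Modules.pullback u).obj G) ∧
        SheafOfModules.IsFiniteType ((Scheme.Modules.pullback f).obj G) := by
  refine ⟨fun h => ⟨QCohLib.isFiniteType_pullback u G h, QCohLib.isFiniteType_pullback f G h⟩, fun h => ?_⟩
  have key : ∀ V : Y.affineOpens, ∃ σ : (G.restrict V.2.fromSpec).GeneratingSections, σ.IsFiniteType := by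
    rintro ⟨V, hV⟩
    haveI hQ := QCohLib.isQuasicoherent_pullback hV.fromSpec G
    have hk : ∀ {Z : Scheme.{u}} (k : Z ⟶ Y) (hZ : IsAffineOpen (k ⁻¹ᵁ V)),
        ((Scheme.Modules.pullback k).obj G).IsFiniteType →
        Module.Finite Γ(Z, k ⁻¹ᵁ V) ((ModuleCat.extendScalars (k.app V).hom).obj
          (QCohLib.ΓR ((Scheme.Modules.pullback hV.fromSpec).obj G))) := by
      intro Z k hZ hk
      refine finite_extendScalars _ _ _ ?_ (QCohLib.isFiniteType_pullback hZ.fromSpec _ hk)
      refine (Scheme.Modules.pullbackComp hZ.fromSpec k).app G ≪≫ (Scheme.Modules.pullbackCongr ?_).app G ≪≫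
        ((Scheme.Modules.pullbackComp (Spec.map (k.app V)) hV.fromSpec).app G).symm
      rw [← hV.SpecMap_appLE_fromSpec k hZ le_rfl]
      simp [Scheme.Hom.appLE]
    letI := (f.app V).hom.toAlgebra
    letI := (u.app V).hom.toAlgebra
    haveI : Module.Finite Γ(Y, V) (QCohLib.ΓR ((Scheme.Modules.pullback hV.fromSpec).obj G)) :=
      finite_of_pinch (S := Γ(X, f ⁻¹ᵁ V)) (S' := Γ(Y', u ⁻¹ᵁ V)) (u.app_surjective V hV)
        (hM V hV).1 (hM V hV).2 (hk u (hV.preimage u) h.1) (hk f (hV.preimage f) h.2)
    obtain ⟨σ, hσ⟩ := QCohLib.exists_generators_of_finite (M := (Scheme.Modules.pullback hV.fromSpec).obj G) this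
    exact ⟨σ.ofEpi ((Scheme.Modules.restrictFunctorIsoPullback hV.fromSpec).app G).inv,
      ⟨inferInstanceAs (Finite σ.I)⟩⟩
  choose σ hσ using key
  exact QCohLib.isFiniteType_of_cover (fun V : Y.affineOpens => V.2.fromSpec) (fun x => by
    obtain ⟨_, ⟨V, hV, rfl⟩, hxV, -⟩ :=
      Y.isBasis_affineOpens.exists_subset_of_mem_open (Set.mem_univ x) isOpen_univ
    exact ⟨⟨V, hV⟩, by rwa [IsAffineOpen.opensRange_fromSpec]⟩) σ hσ

end Groth.Agent.S14962
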