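import Groth.Statements.S14961
import Groth.Agent.S14960
import Groth.Agent.S14962
import Groth.Agent.DCohPerf.FreeLocus
import Groth.Agent.ModGroth.FinLocFree
-- import your own Groth.Agent.* helpers here

set_option autoImplicit false
universe u
open AlgebraicGeometry CategoryTheory CategoryTheory.Limits
open Pinch

namespace Groth.Agent.S14961

open CategoryTheory CategoryTheory.Limits AlgebraicGeometry TensorProduct in
theorem lTensor_subtype_injective_of_flat_quotient {R T : Type u} [CommRing R] [AddCommGroup T] [Module R T]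
    {F N : Type u} [AddCommGroup F] [Module R F] [AddCommGroup N] [Module R N] [Module.Flat R N]
    (π : F →ₗ[R] N) (hπ : Function.Surjective π) :
    Function.Injective ((LinearMap.ker π).subtype.lTensor T) := by
  let G := T →₀ R
  let q : G →ₗ[R] T := Finsupp.linearCombination R id
  have hq : Function.Surjective q := fun t => ⟨Finsupp.single t 1, (Finsupp.linearCombination_single R 1 t).trans (one_smul R t)⟩
  let K := LinearMap.ker π
  refine (injective_iff_map_eq_zero _).mpr fun x hx => ?_
  obtain ⟨x', rfl⟩ := LinearMap.rTensor_surjective K hq x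
  have h1 : K.subtype.lTensor G x' ∈ LinearMap.ker (q.rTensor F) := by
    rw [LinearMap.mem_ker, ← LinearMap.comp_apply, LinearMap.rTensor_comp_lTensor,
      ← LinearMap.lTensor_comp_rTensor, LinearMap.comp_apply]
    exact hx
  obtain ⟨w, hw⟩ := (_root_.rTensor_exact F (M := ↥(LinearMap.ker q)) (f := (LinearMap.ker q).subtype) (by exact LinearMap.exact_subtype_ker_map q) hq _).mp h1
  have h2 : π.lTensor (LinearMap.ker q) w = 0 := by
    refine Module.Flat.rTensor_preserves_injective_linearMap (M := N) (LinearMap.ker q).subtype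
      Subtype.val_injective ?_
    rw [map_zero, ← LinearMap.comp_apply, LinearMap.rTensor_comp_lTensor, ← LinearMap.lTensor_comp_rTensor,
      LinearMap.comp_apply, hw, ← LinearMap.lTensor_comp_apply]
    rw [show π.comp K.subtype = 0 from LinearMap.ext fun k => k.2, LinearMap.lTensor_zero, LinearMap.zero_apply]
  obtain ⟨v, rfl⟩ := (_root_.lTensor_exact (LinearMap.ker q) (M := ↥(LinearMap.ker π)) (f := (LinearMap.ker π).subtype) (by exact LinearMap.exact_subtype_ker_map π) hπ w).mp h2
  have h3 : x' = (LinearMap.ker q).subtype.rTensor K v := by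
    refine Module.Flat.lTensor_preserves_injective_linearMap (M := G) K.subtype Subtype.val_injective ?_
    rw [← hw, ← LinearMap.comp_apply, LinearMap.rTensor_comp_lTensor, ← LinearMap.lTensor_comp_rTensor,
      LinearMap.comp_apply]
  rw [h3, ← LinearMap.rTensor_comp_apply,
    show q.comp (LinearMap.ker q).subtype = 0 from LinearMap.ext fun k => k.2, LinearMap.rTensor_zero, LinearMap.zero_apply]

open CategoryTheory CategoryTheory.Limits AlgebraicGeometry TensorProduct in
theorem fp_of_pinch {R S S' N : Type u} [CommRing R] [CommRing S] [CommRing S'] [AddCommGroup N]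
    [Module R N] [Algebra R S] [Algebra R S'] (hs : Function.Surjective (algebraMap R S'))
    (h0 : RingHom.ker (algebraMap R S) ⊓ RingHom.ker (algebraMap R S') = ⊥)
    (hI : ∀ a ∈ Ideal.map (algebraMap R S) (RingHom.ker (algebraMap R S')),
      ∃ i ∈ RingHom.ker (algebraMap R S'), algebraMap R S i = a)
    [Module.Flat R N] [Module.FinitePresentation S' (S' ⊗[R] N)] [Module.FinitePresentation S (S ⊗[R] N)] :
    Module.FinitePresentation R N := by
  haveI : Module.Finite R N := S14962.finite_of_pinch hs h0 hI inferInstance inferInstance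
  obtain ⟨n, π, hπ⟩ := Module.Finite.exists_fin' R N
  have key : ∀ (T : Type u) [CommRing T] [Algebra R T], Module.FinitePresentation T (T ⊗[R] N) →
      Module.Finite T (T ⊗[R] LinearMap.ker π) := by
    intro T _ _ hT
    let πT := LinearMap.baseChange T π
    let j := LinearMap.baseChange T (LinearMap.ker π).subtype
    have hsur : Function.Surjective πT := LinearMap.lTensor_surjective T hπ
    have hfg := Module.FinitePresentation.fg_ker πT hsur
    have hex : Function.Exact j πT := _root_.lTensor_exact T (M := ↥(LinearMap.ker π)) (f := (LinearMap.ker π).subtype) (by exact LinearMap.exact_subtype_ker_map π) hπ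
    rw [LinearMap.exact_iff.mp hex] at hfg
    haveI : Module.Finite T (LinearMap.range j) := Module.Finite.iff_fg.mpr hfg
    exact Module.Finite.equiv (LinearEquiv.ofInjective j (lTensor_subtype_injective_of_flat_quotient π hπ)).symm
  haveI : Module.Finite R (LinearMap.ker π) := S14962.finite_of_pinch hs h0 hI (key S' inferInstance) (key S inferInstance)
  exact Module.finitePresentation_of_surjective π hπ (Module.Finite.iff_fg.mp inferInstance)

open CategoryTheory CategoryTheory.Limits AlgebraicGeometry in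
theorem fp_extendScalars {R S : CommRingCat.{u}} (φ : R ⟶ S) (N : (Spec R).Modules)
    [N.IsQuasicoherent] (P : (Spec S).Modules) (eP : P ≅ (Scheme.Modules.pullback (Spec.map φ)).obj N)
    (h : CohB1.IsFP P) :
    Module.FinitePresentation S ((ModuleCat.extendScalars φ.hom).obj (QCohLib.ΓR N)) := by
  let e : P ≅ (tilde.functor S).obj ((ModuleCat.extendScalars φ.hom).obj (QCohLib.ΓR N)) :=
    eP ≪≫ ((Scheme.Modules.pullback (Spec.map φ)).mapIso (QCohLib.counitIso N)).symm ≪≫
      ((QCohLib.pullbackTildeIso φ).app (QCohLib.ΓR N)).symm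
  haveI := QCohLib.isQuasicoherent_pullback (Spec.map φ) N
  haveI : P.IsQuasicoherent := QCohLib.isQuasicoherent_of_iso eP.symm
  haveI := QCohLib.isFinitePresentation_iff_Spec.1 h
  exact Module.FinitePresentation.of_equiv ((moduleSpecΓFunctor (R := S)).mapIso e ≪≫
    (tilde.toTildeΓNatIso (R := S)).symm.app _).toLinearEquiv

/-- Let w : X' → X, g : X' → Y', f : X → Y, u : Y' → Y be a cartesian square of schemes with f affine
and u a closed immersion which is a pinching square: for every affine open V of Y, with I(V) the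
kernel of Γ(V, O_Y) → Γ(u⁻¹V, O_Y'), the kernel of Γ(V, O_Y) → Γ(f⁻¹V, O_X) meets I(V) in 0 and the
ideal generated by the image of I(V) in Γ(f⁻¹V, O_X) consists of images of elements of I(V)
(equivalently Γ(V, O_Y) is the fibre product of Γ(u⁻¹V, O_Y') and Γ(f⁻¹V, O_X) over Γ(h⁻¹V, O_X'),
i.e. O_Y = u_*O_Y' ×_{h_*O_X'} f_*O_X). A quasi-coherent O_Y-module G is finite locally free if and
only if u*G and f*G are finite locally free. -/
theorem result {X X' Y Y' : Scheme.{u}} (f : X ⟶ Y) (u : Y' ⟶ Y) (w : X' ⟶ X) (g : X' ⟶ Y')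
    (hP : IsPullback w g f u) [IsAffineHom f] [IsClosedImmersion u]
    (hM : ∀ V ∈ Y.affineOpens,
      RingHom.ker (f.app V).hom ⊓ RingHom.ker (u.app V).hom = ⊥ ∧
      ∀ a ∈ Ideal.map (f.app V).hom (RingHom.ker (u.app V).hom),
        ∃ i ∈ RingHom.ker (u.app V).hom, (f.app V).hom i = a)
    (G : Y.Modules) [G.IsQuasicoherent] :
    FlatMod.IsFinLocFree G ↔
      FlatMod.IsFinLocFree ((Scheme.Modules.pullback u).obj G) ∧
        FlatMod.IsFinLocFree ((Scheme.Modules.pullback f).obj G) := by
  refine ⟨fun h => ⟨ModGroth.Perf.isFinLocFree_pullback u h, ModGroth.Perf.isFinLocFree_pullback f h⟩, fun h => ?_⟩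
  have hflat : FlatMod.IsFlat G := (S14960.result f u w g hP hM G).2
    ⟨ModGroth.Perf.isFlat_of_isFinLocFree h.1, ModGroth.Perf.isFlat_of_isFinLocFree h.2⟩
  refine DCohPerf.isFinLocFree_of_isFP_flat ?_ hflat
  refine (QCohLib.isFinitePresentation_iff_affine G).2 ?_
  rintro ⟨V, hV⟩
  haveI hQ := QCohLib.isQuasicoherent_pullback hV.fromSpec G
  have hk : ∀ {Z : Scheme.{u}} (k : Z ⟶ Y) (hZ : IsAffineOpen (k ⁻¹ᵁ V)),
      FlatMod.IsFinLocFree ((Scheme.Modules.pullback k).obj G) →
      Module.FinitePresentation Γ(Z, k ⁻¹ᵁ V) ((ModuleCat.extendScalars (k.app V).hom).obj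
        (QCohLib.ΓR ((Scheme.Modules.pullback hV.fromSpec).obj G))) := by
    intro Z k hZ hk
    refine fp_extendScalars _ _ _ ?_ (DCohPerf.isFP_finLocFree (ModGroth.Perf.isFinLocFree_pullback hZ.fromSpec hk))
    refine (Scheme.Modules.pullbackComp hZ.fromSpec k).app G ≪≫ (Scheme.Modules.pullbackCongr ?_).app G ≪≫
      ((Scheme.Modules.pullbackComp (Spec.map (k.app V)) hV.fromSpec).app G).symm
    rw [← hV.SpecMap_appLE_fromSpec k hZ le_rfl]
    simp [Scheme.Hom.appLE]
  letI := (f.app V).hom.toAlgebra
  letI := (u.app V).hom.toAlgebra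
  let N := QCohLib.ΓR ((Scheme.Modules.pullback hV.fromSpec).obj G)
  haveI : Module.Flat Γ(Y, V) N := DCohPerf.flat_of_isFlat_tilde N
    (DCohPerf.flatMod_iso (QCohLib.counitIso _).symm (ModGroth.Stalk.isFlat_pullback hV.fromSpec hflat))
  haveI : Module.FinitePresentation Γ(Y', u ⁻¹ᵁ V) (TensorProduct Γ(Y, V) Γ(Y', u ⁻¹ᵁ V) N) := hk u (hV.preimage u) h.1
  haveI : Module.FinitePresentation Γ(X, f ⁻¹ᵁ V) (TensorProduct Γ(Y, V) Γ(X, f ⁻¹ᵁ V) N) := hk f (hV.preimage f) h.2
  haveI : Module.FinitePresentation Γ(Y, V) N :=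
    fp_of_pinch (S := Γ(X, f ⁻¹ᵁ V)) (S' := Γ(Y', u ⁻¹ᵁ V)) (u.app_surjective V hV) (hM V hV).1 (hM V hV).2
  exact Module.FinitePresentation.of_equiv
    (((moduleSpecΓFunctor (R := Γ(Y, V))).mapIso
      ((Scheme.Modules.restrictFunctorIsoPullback hV.fromSpec).app G).symm).toLinearEquiv.trans
      (QCohLib.onSpecΓ G hV))

end Groth.Agent.S14961
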