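import Groth.Statements.S14964
import Mathlib
-- import your own Groth.Agent.* helpers here

set_option autoImplicit false
universe u v w
open EtAlg

namespace Groth.Agent.S14964

/-- Let f : A → A' be a homomorphism of commutative rings, M an A-module and M' an A'-module together
with an A-linear map u : M → M' whose image generates M' over A' (so M' is a quotient of A' ⊗_A M).
Let I be an ideal of A such that the ideal of A' generated by f(I) consists of the elements f(i), i
∈ I. Then f(I) M' = u(I M) as subsets of M'; in particular u(I M) is an A'-submodule. -/
theorem result (A : Type u) [CommRing A] (A' : Type v) [CommRing A'] [Algebra A A']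
    (M : Type w) [AddCommGroup M] [Module A M] (M' : Type w) [AddCommGroup M'] [Module A' M'] [Module A M'] [IsScalarTower A A' M']
    (u : M →ₗ[A] M') (hu : Submodule.span A' (Set.range u) = ⊤)
    (I : Ideal A) (hI : ∀ a ∈ Ideal.map (algebraMap A A') I, ∃ i ∈ I, algebraMap A A' i = a) :
    ((Ideal.map (algebraMap A A') I) • (⊤ : Submodule A' M')).restrictScalars A = Submodule.map u (I • (⊤ : Submodule A M)) := by
  apply le_antisymm
  · intro x hx
    rw [Submodule.restrictScalars_mem] at hx
    refine Submodule.smul_induction_on hx ?_ ?_
    · intro j hj m' _
      have hm : m' ∈ Submodule.span A' (Set.range u) := by rw [hu]; trivial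
      induction hm using Submodule.span_induction generalizing j with
      | mem y hy =>
        obtain ⟨m, rfl⟩ := hy
        obtain ⟨i, hi, rfl⟩ := hI j hj
        exact ⟨i • m, Submodule.smul_mem_smul hi trivial, by rw [map_smul, algebraMap_smul]⟩
      | zero => simp
      | add y y' _ _ hy hy' => rw [smul_add]; exact add_mem (hy j hj trivial) (hy' j hj trivial)
      | smul b y _ hy => rw [smul_smul]; exact hy (j * b) (Ideal.mul_mem_right _ _ hj) trivial
    · exact fun x y hx hy => add_mem hx hy
  · rintro _ ⟨x, hx, rfl⟩
    rw [Submodule.restrictScalars_mem]
    refine Submodule.smul_induction_on hx ?_ ?_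
    · intro i hi m _
      rw [map_smul, ← algebraMap_smul A' i (u m)]
      exact Submodule.smul_mem_smul (Ideal.mem_map_of_mem _ hi) trivial
    · intro x y hx hy; rw [map_add]; exact add_mem hx hy

end Groth.Agent.S14964
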