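import Groth.Statements.S14965
import Groth.Agent.S14956
import Groth.Agent.EtMilLib.Glue
-- import your own Groth.Agent.* helpers here

set_option autoImplicit false
universe u
open TensorProduct
open Brauer

open Groth.Agent.EtMilLib

namespace Groth.Agent.S14965

/-- Let B' = B ×_A A' be a fibre product of commutative rings with A' → A surjective, N an Azumaya
B-algebra, M' an Azumaya A'-algebra and φ : A ⊗_B N ≅ A ⊗_{A'} M' an isomorphism of A-algebras. If a
B'-algebra D' with B'-algebra homomorphisms π₁ : D' → N and π₂ : D' → M' is the glued algebra N ×_φ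
M', in the sense that (π₁, π₂) is injective with image the pairs (n, m') satisfying φ(1 ⊗ n) = 1 ⊗
m', then D' is an Azumaya B'-algebra. (The published statement is for Azumaya algebras on the
pushout scheme of a closed immersion and an affine morphism, glued as u_*B' ×_{h_*} f_*A; this row
is the case of an affine pushout.) -/
theorem result (B' B A' A : Type u) [CommRing B'] [CommRing B] [CommRing A'] [CommRing A]
    [Algebra B' B] [Algebra B' A'] [Algebra B A] [Algebra A' A] [Algebra B' A] [IsScalarTower B' B A] [IsScalarTower B' A' A]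
    (hsq : EtMil.IsFibreSquare B' B A' A)
    (N : Type u) [Ring N] [Algebra B N] [Algebra B' N] [IsScalarTower B' B N] [IsAzumaya B N]
    (M' : Type u) [Ring M'] [Algebra A' M'] [Algebra B' M'] [IsScalarTower B' A' M'] [IsAzumaya A' M']
    (φ : A ⊗[B] N ≃ₐ[A] A ⊗[A'] M')
    (D' : Type u) [Ring D'] [Algebra B' D'] (π₁ : D' →ₐ[B'] N) (π₂ : D' →ₐ[B'] M')
    (hinj : ∀ d : D', π₁ d = 0 → π₂ d = 0 → d = 0)
    (himg : ∀ (n : N) (m' : M'), φ ((1 : A) ⊗ₜ[B] n) = (1 : A) ⊗ₜ[A'] m' ↔ ∃ d : D', π₁ d = n ∧ π₂ d = m') :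
    IsAzumaya B' D' := by
  let g : D' →ₗ[B'] EtMil.glue B' φ.toLinearEquiv :=
    (π₁.toLinearMap.prod π₂.toLinearMap).codRestrict _ fun d => (himg (π₁ d) (π₂ d)).2 ⟨d, rfl, rfl⟩
  have hg : Function.Bijective g := by
    refine ⟨(injective_iff_map_eq_zero g).2 fun d hd => ?_, fun x => ?_⟩
    · exact hinj d (congrArg (fun z => z.1.1) hd) (congrArg (fun z => z.1.2) hd)
    · obtain ⟨d, h₁, h₂⟩ := (himg x.1.1 x.1.2).1 x.2
      exact ⟨d, Subtype.ext (Prod.ext h₁ h₂)⟩
  have hI := fun i h => exists_lift_ker hsq i h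
  let F₁ : B ⊗[B'] D' →ₐ[B] N :=
    Algebra.TensorProduct.lift (Algebra.ofId B N) π₁ fun b d => Algebra.commutes b (π₁ d)
  let F₂ : A' ⊗[B'] D' →ₐ[A'] M' :=
    Algebra.TensorProduct.lift (Algebra.ofId A' M') π₂ fun b d => Algebra.commutes b (π₂ d)
  have h₁ : Function.Bijective F₁ := by
    have e : (F₁ : B ⊗[B'] D' → N) =
        (LinearMap.liftBaseChange B (EtMil.glueFst B' φ.toLinearEquiv)) ∘
          ((LinearEquiv.ofBijective g hg).baseChange B' B _ _) := funext fun z => by
      induction z using TensorProduct.induction_on with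
      | zero => simp
      | add a b ha hb => simp only [Function.comp_apply, map_add] at ha hb ⊢; rw [ha, hb]
      | tmul b d =>
        simp [F₁, g, EtMil.glueFst, Algebra.smul_def, Algebra.ofId_apply]
    rw [e]
    exact (bijective_fst φ.toLinearEquiv (surjective_left hsq) hsq.1 hI).comp (LinearEquiv.bijective _)
  have h₂ : Function.Bijective F₂ := by
    have e : (F₂ : A' ⊗[B'] D' → M') =
        (LinearMap.liftBaseChange A' (EtMil.glueSnd B' φ.toLinearEquiv)) ∘
          ((LinearEquiv.ofBijective g hg).baseChange B' A' _ _) := funext fun z => by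
      induction z using TensorProduct.induction_on with
      | zero => simp
      | add a b ha hb => simp only [Function.comp_apply, map_add] at ha hb ⊢; rw [ha, hb]
      | tmul b d =>
        simp [F₂, g, EtMil.glueSnd, Algebra.smul_def, Algebra.ofId_apply]
    rw [e]
    exact (bijective_snd φ.toLinearEquiv (surjective_left hsq) hsq.1 hI).comp (LinearEquiv.bijective _)
  exact (Groth.Agent.S14956.result B' B A' A hsq D').2
    ⟨IsAzumaya.of_AlgEquiv B N _ (AlgEquiv.ofBijective F₁ h₁).symm,
      IsAzumaya.of_AlgEquiv A' M' _ (AlgEquiv.ofBijective F₂ h₂).symm⟩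


end Groth.Agent.S14965
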