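import Groth.Statements.S14966
import Groth.Agent.EtMilLib.Glue
import Groth.Agent.EtMilLib.Pushout

set_option autoImplicit false
universe u
open EtAlg

namespace Groth.Agent.S14966

/-- Let A → A' be an injective homomorphism of commutative rings and let I ⊆ A be the conductor, i.e.
the annihilator of the A-module A'/A. Then the conductor square formed by A → A/I, A → A', A/I →
A'/IA' and A' → A'/IA' is a fibre product square of rings with A' → A'/IA' surjective: A = A/I
×_{A'/IA'} A'. (The published Lemma is for the conductor square of a finite modification of schemes;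
this row is the underlying statement for one injective ring map, which needs no finiteness.) -/
theorem result (A A' : Type u) [CommRing A] [CommRing A'] [Algebra A A']
    (hinj : Function.Injective (algebraMap A A')) :
    EtMil.IsFibreSquare A (A ⧸ Module.annihilator A (A' ⧸ LinearMap.range (Algebra.linearMap A A'))) A'
      (A' ⧸ Ideal.map (algebraMap A A') (Module.annihilator A (A' ⧸ LinearMap.range (Algebra.linearMap A A')))) := by
  set I := Module.annihilator A (A' ⧸ LinearMap.range (Algebra.linearMap A A'))
  have hI : ∀ i ∈ I, ∀ a' : A', ∃ r : A, algebraMap A A' r = algebraMap A A' i * a' := fun i hi a' => by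
    have := Module.mem_annihilator.1 hi (Submodule.Quotient.mk a')
    rw [← Submodule.Quotient.mk_smul, Submodule.Quotient.mk_eq_zero] at this
    obtain ⟨r, hr⟩ := this
    exact ⟨r, by rw [← Algebra.smul_def]; exact hr⟩
  have hrange : ∀ x ∈ Ideal.map (algebraMap A A') I, ∃ r ∈ I, algebraMap A A' r = x := by
    intro x hx
    induction hx using Submodule.span_induction with
    | mem x h => obtain ⟨i, hi, rfl⟩ := h; exact ⟨i, hi, rfl⟩
    | zero => exact ⟨0, zero_mem _, map_zero _⟩
    | add x y _ _ hx hy =>
      obtain ⟨r, hr, rfl⟩ := hx; obtain ⟨s, hs, rfl⟩ := hy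
      exact ⟨r + s, add_mem hr hs, map_add _ _ _⟩
    | smul c x _ hx =>
      obtain ⟨i, hi, rfl⟩ := hx
      obtain ⟨r, hr⟩ := hI i hi c
      refine ⟨r, Module.mem_annihilator.2 fun q => ?_, by rw [hr, smul_eq_mul, mul_comm]⟩
      obtain ⟨a', rfl⟩ := Submodule.Quotient.mk_surjective _ q
      obtain ⟨s, hs⟩ := hI i hi (c * a')
      rw [← Submodule.Quotient.mk_smul, Submodule.Quotient.mk_eq_zero]
      exact ⟨s, by rw [Algebra.linearMap_apply, hs, Algebra.smul_def, hr, mul_assoc]⟩
  refine ⟨Ideal.Quotient.mk_surjective, fun b a' h => ?_⟩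
  obtain ⟨b, rfl⟩ := Ideal.Quotient.mk_surjective b
  have hd : a' - algebraMap A A' b ∈ Ideal.map (algebraMap A A') I := Ideal.Quotient.eq.1 h.symm
  obtain ⟨r, hr, hr'⟩ := hrange _ hd
  refine ⟨b + r, ⟨Ideal.Quotient.eq.2 (by rwa [add_sub_cancel_left]), ?_⟩, fun y hy => hinj ?_⟩
  · rw [map_add, hr', add_sub_cancel]
  · rw [hy.2, map_add, hr', add_sub_cancel]

end Groth.Agent.S14966
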