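import Groth.Statements.S1497
import Groth.Agent.InvPow.Projective
-- import your own Groth.Agent.* helpers here

set_option autoImplicit false
universe u
attribute [local instance] HasDerivedCategory.standard
open FlatMor

namespace Groth.Agent.S1497

open AlgebraicGeometry CategoryTheory Limits in
/-- Let S be a scheme with an ample invertible sheaf and f : X → S a morphism. Then f is a quasi-compact
immersion into some projective space P^n_S over S if and only if f is of finite type and X has an
ample invertible sheaf. -/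
theorem result {X S : Scheme.{u}} (hS : ∃ N : S.Modules, CohB1.IsAmple N) (f : X ⟶ S) :
    (∃ (n : ℕ) (i : X ⟶ CohB1.ProjSpaceOver n S), IsImmersion i ∧ QuasiCompact i ∧ i ≫ pullback.snd (CohB1.ProjSpace.toSpec n (ULift.{u} ℤ)) (specULiftZIsTerminal.from S) = f) ↔
      (LocallyOfFiniteType f ∧ QuasiCompact f ∧ ∃ L : X.Modules, CohB1.IsAmple L) := by
  constructor
  · rintro ⟨n, i, hi, hqc, hf⟩
    obtain ⟨h1, h2, h3, -⟩ := InvPow.exists_isAmple_of_immersion hS f i hf
    exact ⟨h1, h2, h3⟩
  · rintro ⟨h1, h2, L, hL⟩
    obtain ⟨d, -, hd⟩ := InvPow.exists_bound_isRelVeryAmplePn f hL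
    obtain ⟨n, i, hi, hf, -⟩ := hd d le_rfl
    let p : CohB1.ProjSpaceOver n S ⟶ S :=
      pullback.snd (CohB1.ProjSpace.toSpec n (ULift.{u} ℤ)) (specULiftZIsTerminal.from S)
    have : IsProper p := InvPow.isProper_snd n S
    have : QuasiCompact (i ≫ p) := by
      rw [show i ≫ p = f from hf]; exact h2
    exact ⟨n, i, hi, QuasiCompact.of_comp i p, hf⟩

end Groth.Agent.S1497
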