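import Groth.Statements.S14984
import Groth.Prelude.Def_CoactBr2


set_option autoImplicit false
universe u v w
open HopfRep

namespace Groth.Agent.S14984
open TensorProduct

theorem exists_hom (R : Type u) [CommRing R] (A : Type v) [CommRing A] [Bialgebra R A]
    (B : Type w) [CommRing B] [Algebra R B] [HopfRep.Comod R A B] [GLin.IsCoactAlg R A B]
    (C : Type w) [CommRing C] [Algebra R C] [Algebra C B] [IsScalarTower R C B]
    (hC : ∀ c : C, HopfRep.Comod.coact (k := R) (A := A) (algebraMap C B c) = algebraMap C B c ⊗ₜ[R] (1 : A))
    (β : TensorProduct R C A →ₗ[C] TensorProduct R C B)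
    (hβ : @Hoch.IsComodHom C _ (TensorProduct R C A) _ _ _ (TensorProduct R C A) _ _
        (HopfRep.Comod.regular C (TensorProduct R C A))
        (TensorProduct R C B) _ _ (CoactBr.Comod.baseChange R C A B) β)
    (hβ1 : β 1 = 1) :
    ∃ α : A →ₗ[R] B, Hoch.IsComodHom A α ∧ α 1 = 1 := by
  let μ : TensorProduct R C B →ₐ[C] B :=
    Algebra.TensorProduct.lift (Algebra.ofId C B) (AlgHom.id R B) fun _ _ => Commute.all _ _
  let ι : TensorProduct R C A →ₐ[C] TensorProduct R B A :=
    Algebra.TensorProduct.lift (Algebra.ofId C (TensorProduct R B A))
      Algebra.TensorProduct.includeRight fun _ _ => Commute.all _ _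
  let μ' : TensorProduct C (TensorProduct R C B) (TensorProduct R C A) →ₐ[C] TensorProduct R B A :=
    Algebra.TensorProduct.lift ((Algebra.TensorProduct.includeLeft : B →ₐ[C] TensorProduct R B A).comp μ) ι
      fun _ _ => Commute.all _ _
  let α : A →ₗ[R] B := μ.toLinearMap.restrictScalars R ∘ₗ β.restrictScalars R ∘ₗ TensorProduct.mk R C A 1
  refine ⟨α, ?_, ?_⟩
  · refine LinearMap.ext fun a => ?_
    have hb := congrArg μ' (LinearMap.congr_fun hβ ((1 : C) ⊗ₜ[R] a))
    simp only [LinearMap.comp_apply] at hb
    have key : ∀ z : TensorProduct R C B, μ' ((CoactBr.Comod.baseChange R C A B).coact z) =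
        HopfRep.Comod.coact (k := R) (A := A) (μ z) := by
      intro z
      induction z using TensorProduct.induction_on with
      | zero => simp
      | add p q hp hq => simp only [map_add, hp, hq]
      | tmul c b =>
        rw [CoactBr.baseChange_coact_tmul, show μ (c ⊗ₜ[R] b) = algebraMap C B c * b from rfl,
          GLin.IsCoactAlg.coact_mul, hC c]
        generalize HopfRep.Comod.coact (k := R) (A := A) b = w
        induction w using TensorProduct.induction_on with
        | zero => simp
        | add p q hp hq => simp only [map_add, TensorProduct.tmul_add, mul_add, hp, hq]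
        | tmul p q =>
          simp [μ', μ, ι, Algebra.TensorProduct.tmul_mul_tmul, Algebra.ofId_apply, mul_comm]
    rw [key] at hb
    refine hb.trans ?_
    change μ' (β.rTensor (TensorProduct R C A)
      (TensorProduct.AlgebraTensorModule.tensorTensorTensorComm R C R C C C A A
        (((1 : C) ⊗ₜ[C] (1 : C)) ⊗ₜ[R] CoalgebraStruct.comul (R := R) a))) =
      α.rTensor A (CoalgebraStruct.comul (R := R) a)
    generalize CoalgebraStruct.comul (R := R) a = z
    induction z using TensorProduct.induction_on with
    | zero => simp
    | add p q hp hq => simp only [map_add, TensorProduct.tmul_add, hp, hq]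
    | tmul p q => simp [μ', μ, ι, α, Algebra.TensorProduct.tmul_mul_tmul]
  · change μ (β (1 : TensorProduct R C A)) = 1
    rw [hβ1, map_one]



/-- Let `R` be a commutative ring, `A` a commutative Hopf algebra over `R`, flat as an `R`-module, `B` a
commutative `R`-algebra with a coaction of `A` that is an algebra map (an action of `G = Spec A` on
`X = Spec B`), and `C = B^A` the ring of invariants. If the action base-changed along `R → C` — the
`C`-Hopf algebra `C ⊗ A` coacting on `C ⊗ B` — is tame, i.e. there is a `C`-linear comodule map `β :
C ⊗ A → C ⊗ B` (regular coaction on the source, base-changed coaction on the target) with `β 1 = 1`,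
then the original action is tame: there is an `R`-linear comodule map `α : A → B` with `α 1 = 1`.
(The converse is the case `S = C` of stability of tameness under base change. The published lemma
also lists, as a third equivalent condition, tameness of the action of `C ⊗ A` on `B` itself over
`C`; that condition is not stated here.) -/
theorem result
    (R : Type u) (A : Type v) (B : Type w)
    [CommRing R] [CommRing A] [HopfAlgebra R A] [Module.Flat R A]
    [CommRing B] [Algebra R B] [HopfRep.Comod R A B] [GLin.IsCoactAlg R A B]
    (h : ∃ β : TensorProduct R ↥(GLin.invariants R A B) A →ₗ[↥(GLin.invariants R A B)]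
        TensorProduct R ↥(GLin.invariants R A B) B,
      @Hoch.IsComodHom ↥(GLin.invariants R A B) _ (TensorProduct R ↥(GLin.invariants R A B) A) _ _ _
        (TensorProduct R ↥(GLin.invariants R A B) A) _ _
        (HopfRep.Comod.regular ↥(GLin.invariants R A B) (TensorProduct R ↥(GLin.invariants R A B) A))
        (TensorProduct R ↥(GLin.invariants R A B) B) _ _
        (CoactBr.Comod.baseChange R ↥(GLin.invariants R A B) A B) β ∧ β 1 = 1) :
    ∃ α : A →ₗ[R] B, Hoch.IsComodHom A α ∧ α 1 = 1 := by
  obtain ⟨β, hβ, hβ1⟩ := h
  exact exists_hom R A B (GLin.invariants R A B) (fun c => c.2) β hβ hβ1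

end Groth.Agent.S14984
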