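import Mathlib
import Groth.Statements.S6870
-- import your own Groth.Agent.* helpers here

set_option autoImplicit false
universe u
open CAlg

namespace Groth.Agent.S6870

/-- Let `R` be a domain, `M` a finite `R`-module and `j : M → M**` the evaluation map into the double
dual. Then one nonzero `c ∈ R` kills the kernel of `j` and multiplies `M**` into the image of `j`.
(The published statement says only that the kernel and cokernel of `j` are torsion; this row gives
one such `c` for both.) -/
theorem result (R : Type u) [CommRing R] [IsDomain R] (M : Type u)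
    [AddCommGroup M] [Module R M] [Module.Finite R M] :
    ∃ c : R, c ≠ 0 ∧ (∀ x : M, Module.Dual.eval R M x = 0 → c • x = 0) ∧
      ∀ y : Module.Dual R (Module.Dual R M), c • y ∈ LinearMap.range (Module.Dual.eval R M) := by
  classical
  obtain ⟨n, s, hs⟩ := Module.Finite.exists_fin (R := R) (M := M)
  obtain ⟨I, hI, hmax⟩ := exists_maximal_linearIndepOn R s
  have hli : LinearIndependent R (fun i : I => s i) := hI
  let F := I →₀ R
  let i : F →ₗ[R] M := Finsupp.linearCombination R (fun i : I => s i)
  have hi : Function.Injective i := hli.finsuppLinearCombination_injective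
  have hmem : ∀ j, ∃ a : R, a ≠ 0 ∧ a • s j ∈ LinearMap.range i := by
    intro j
    rw [Finsupp.range_linearCombination, show Set.range (fun x : I => s x) = s '' I by ext; simp]
    by_cases hj : j ∈ I
    · exact ⟨1, one_ne_zero, by rw [one_smul]; exact Submodule.subset_span ⟨j, hj, rfl⟩⟩
    · exact hmax j hj
  choose a ha0 ha using hmem
  let c := ∏ j, a j
  have hc0 : c ≠ 0 := Finset.prod_ne_zero_iff.2 fun j _ => ha0 j
  have hcM : ∀ x : M, c • x ∈ LinearMap.range i := by
    intro x
    have hx : x ∈ Submodule.span R (Set.range s) := hs ▸ trivial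
    induction hx using Submodule.span_induction with
    | mem x hx =>
      obtain ⟨j, rfl⟩ := hx
      obtain ⟨d, hd⟩ := Finset.dvd_prod_of_mem a (Finset.mem_univ j)
      rw [show c = d * a j by rw [mul_comm]; exact hd, mul_smul]
      exact Submodule.smul_mem _ _ (ha j)
    | zero => simp
    | add x y _ _ hx hy => rw [smul_add]; exact add_mem hx hy
    | smul r x _ hx => rw [smul_comm]; exact Submodule.smul_mem _ _ hx
  let p : M →ₗ[R] F := (LinearEquiv.ofInjective i hi).symm.toLinearMap ∘ₗ
    (c • LinearMap.id : M →ₗ[R] M).codRestrict (LinearMap.range i) hcM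
  have hip : ∀ x, i (p x) = c • x := fun x => by
    simpa [p] using congrArg Subtype.val ((LinearEquiv.ofInjective i hi).apply_symm_apply ⟨c • x, hcM x⟩)
  have hev : ∀ {N P : Type u} [AddCommGroup N] [Module R N] [AddCommGroup P] [Module R P] (g : N →ₗ[R] P) (x : N),
      g.dualMap.dualMap (Module.Dual.eval R N x) = Module.Dual.eval R P (g x) := fun g x => rfl
  refine ⟨c, hc0, fun x hx => ?_, fun y => ?_⟩
  · have h1 : Module.Dual.eval R F (p x) = 0 := by rw [← hev p x, hx, map_zero]
    rw [← hip, (Module.eval_apply_eq_zero_iff R (p x)).1 h1, map_zero]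
  · obtain ⟨z, hz⟩ := (Module.bijective_dual_eval R F).2 (p.dualMap.dualMap y)
    refine ⟨i z, ?_⟩
    rw [← hev i z, hz]
    ext φ
    simp only [LinearMap.dualMap_apply, LinearMap.smul_apply]
    have : (φ.comp i).comp p = c • φ := LinearMap.ext fun x => by simp [hip]
    show y ((φ.comp i).comp p) = c • y φ
    rw [this, map_smul]

end Groth.Agent.S6870
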