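import Mathlib
import Groth.Agent.S6870
import Groth.Statements.S14994
-- import your own Groth.Agent.* helpers here

set_option autoImplicit false
universe u
open CAlg

namespace Groth.Agent.S14994

/-- Let A be a Noetherian integrally closed domain, M a finitely generated torsion-free A-module, N a
submodule of M and ι : M → M** the canonical map to the double dual. Write N** → M** for the double
dual of the inclusion N → M. Then every m ∈ M whose image ι(m) lies in the image of N** is a torsion
element modulo N: some nonzero a ∈ A satisfies a·m ∈ N. In other words the preimage of N** under ι
is contained in the saturation of N in M (the preimage of the torsion submodule of M/N), and the two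
coincide when M/N is torsion-free. (The published statement asserts equality of the preimage with
the saturation for every N; for N = xA inside M = A = k[x] the saturation is all of M while N** has
image xA = N under the identification M** = M, so only the inclusion stated here holds, and it is
the inclusion later used, for saturated N, where the two sides agree.) -/
theorem result (A : Type u) [CommRing A] [IsDomain A]
    [IsNoetherianRing A] [IsIntegrallyClosed A]
    (M : Type u) [AddCommGroup M] [Module A M] [Module.Finite A M] [NoZeroSMulDivisors A M]
    (N : Submodule A M) :
    (LinearMap.range N.subtype.dualMap.dualMap).comap (Module.Dual.eval A M) ≤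
      (Submodule.torsion A (M ⧸ N)).comap N.mkQ := by
  intro x hx
  haveI : Module.Finite A N := inferInstance
  obtain ⟨c, hc0, -, hrange⟩ := Groth.Agent.S6870.result A N
  obtain ⟨c', hc'0, hker, -⟩ := Groth.Agent.S6870.result A M
  obtain ⟨y, hy⟩ := hx
  obtain ⟨z, hz⟩ := hrange y
  have h1 : Module.Dual.eval A M (N.subtype z) = Module.Dual.eval A M (c • x) := by
    rw [map_smul, ← hy, ← map_smul, ← hz]
    rfl
  have h2 : c' • (N.subtype z - c • x) = 0 := hker _ (by rw [map_sub, h1, sub_self])
  rw [smul_eq_zero, or_iff_right hc'0, sub_eq_zero] at h2
  refine ⟨⟨c, mem_nonZeroDivisors_of_ne_zero hc0⟩, ?_⟩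
  show c • N.mkQ x = 0
  rw [← map_smul, Submodule.mkQ_apply, Submodule.Quotient.mk_eq_zero, ← h2]
  exact z.2

end Groth.Agent.S14994
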