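import Mathlib
import Groth.Statements.S14997
-- import your own Groth.Agent.* helpers here

set_option autoImplicit false
open HilbPol

namespace Groth.Agent.S14997

open Polynomial in
/-- Let d and ℓ be natural numbers with ℓ + 1 ≤ d, let a be a nonzero rational number and let P, Q be
polynomials with rational coefficients, both of degree exactly d. For a polynomial R of degree e
write R(m) = Σ_i α_i(R) m^i / i! (so α_i(R) = i! · coeff_i(R)) and let r_ℓ(R) ∈ ℚ^ℓ be the vector
(α_{e−1}(R)/α_e(R), …, α_{e−ℓ}(R)/α_e(R)) of the ℓ coefficients after the leading one of the reduced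
polynomial R/α_e(R), ordered lexicographically. The polynomials P(m) − P(m − a) and Q(m) − Q(m − a)
have degree d − 1, and r_ℓ(P) ≤ r_ℓ(Q) lexicographically if and only if r_ℓ(P(m) − P(m − a)) ≤
r_ℓ(Q(m) − Q(m − a)) lexicographically (hence the same with strict inequalities, by exchanging P and
Q). When P and Q are the Hilbert polynomials of pure d-dimensional coherent sheaves E → F on a
polarized projective scheme and D is a hypersurface section of degree a containing no associated
point of E or F, the Hilbert polynomials of E|_D and F|_D are P(m) − P(m − a) and Q(m) − Q(m − a),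
and the two sides are the comparisons of the ℓ-truncated reduced Hilbert polynomials p_ℓ(E) ≥ p_ℓ(F)
and p_ℓ(E|_D) ≥ p_ℓ(F|_D). (The published statement is phrased for the sheaves; this row is the
statement about their Hilbert polynomials that the displayed coefficient formula yields.) -/
theorem result (d ℓ : ℕ) (hℓ : ℓ + 1 ≤ d) (a : ℚ) (ha : a ≠ 0)
    (P Q : ℚ[X]) (hP : P.natDegree = d) (hQ : Q.natDegree = d) (hP0 : P ≠ 0) (hQ0 : Q ≠ 0) :
    toLex (fun j : Fin ℓ => ((P).coeff (d - 1 - (j : ℕ)) * (Nat.factorial (d - 1 - (j : ℕ)) : ℚ)) / ((P).coeff (d) * (Nat.factorial (d) : ℚ))) ≤ toLex (fun j : Fin ℓ => ((Q).coeff (d - 1 - (j : ℕ)) * (Nat.factorial (d - 1 - (j : ℕ)) : ℚ)) / ((Q).coeff (d) * (Nat.factorial (d) : ℚ))) ↔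
      toLex (fun j : Fin ℓ => ((P - P.comp (X - C a)).coeff ((d - 1) - 1 - (j : ℕ)) * (Nat.factorial ((d - 1) - 1 - (j : ℕ)) : ℚ)) / ((P - P.comp (X - C a)).coeff ((d - 1)) * (Nat.factorial ((d - 1)) : ℚ))) ≤
        toLex (fun j : Fin ℓ => ((Q - Q.comp (X - C a)).coeff ((d - 1) - 1 - (j : ℕ)) * (Nat.factorial ((d - 1) - 1 - (j : ℕ)) : ℚ)) / ((Q - Q.comp (X - C a)).coeff ((d - 1)) * (Nat.factorial ((d - 1)) : ℚ))) := by
  let α : ℚ[X] → ℕ → ℚ := fun R i => R.coeff i * (i.factorial : ℚ)
  let γ : ℕ → ℚ := fun i => -(-a) ^ (i + 1) / ((i + 1).factorial : ℚ)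
  have hD : ∀ (R : ℚ[X]), R.natDegree = d → ∀ k, α (R - R.comp (X - C a)) k = ∑ i ∈ Finset.range d, γ i * α R (k + 1 + i) := by
    intro R hR k
    simp only [α]
    rw [show R.comp (X - C a) = taylor (-a) R by rw [taylor_apply, map_neg, sub_eq_add_neg], coeff_sub, taylor_coeff,
      eval_eq_sum_range' (n := d + 1) (by
        have := natDegree_hasseDeriv_le R k; omega), Finset.sum_range_succ', hasseDeriv_coeff]
    simp only [zero_add, Nat.choose_self, Nat.cast_one, one_mul, pow_zero, mul_one, sub_add_cancel_right, neg_mul, Finset.sum_mul,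
      ← Finset.sum_neg_distrib, hasseDeriv_coeff]
    refine Finset.sum_congr rfl fun i _ => ?_
    rw [show i + 1 + k = k + 1 + i by omega, show k + 1 + i = k + (i + 1) by omega]
    have hch : (((k + (i + 1)).choose k : ℕ) : ℚ) * (k.factorial : ℚ) * ((i + 1).factorial : ℚ) = ((k + (i + 1)).factorial : ℚ) := by
      have := Nat.choose_mul_factorial_mul_factorial (Nat.le_add_right k (i + 1))
      rw [Nat.add_sub_cancel_left] at this
      exact_mod_cast this
    simp only [γ]
    rw [← hch]
    field_simp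
  have hlead : ∀ (R : ℚ[X]), R.natDegree = d → α (R - R.comp (X - C a)) (d - 1) = a * α R d := by
    intro R hR
    rw [hD R hR, Finset.sum_eq_single 0 (fun i _ hi => ?_) (fun h => absurd (Finset.mem_range.2 (by omega)) h)]
    · simp [γ, show d - 1 + 1 + 0 = d by omega]
    · simp [α, coeff_eq_zero_of_natDegree_lt (show R.natDegree < d - 1 + 1 + i by omega)]
  let r : ℚ[X] → Fin ℓ → ℚ := fun R j => α R (d - 1 - (j : ℕ)) / α R d
  let r' : ℚ[X] → Fin ℓ → ℚ := fun R j => α (R - R.comp (X - C a)) (d - 1 - 1 - (j : ℕ)) / α (R - R.comp (X - C a)) (d - 1)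
  show toLex (r P) ≤ toLex (r Q) ↔ toLex (r' P) ≤ toLex (r' Q)
  have hne : ∀ (R : ℚ[X]), R.natDegree = d → R ≠ 0 → α R d ≠ 0 := fun R hR hR0 =>
    mul_ne_zero (by rw [← hR]; exact leadingCoeff_ne_zero.2 hR0) (by exact_mod_cast d.factorial_ne_zero)
  have key : ∀ (A B : ℚ[X]), A.natDegree = d → A ≠ 0 → B.natDegree = d → B ≠ 0 → ∀ j : Fin ℓ,
      (∀ j' : Fin ℓ, j' < j → r A j' = r B j') → r' A j - r' B j = r A j - r B j := by
    intro A B hA hA0 hB hB0 j hj
    have hj2 := j.2
    simp only [r', hlead A hA, hlead B hB, hD A hA, hD B hB, Finset.sum_div, ← Finset.sum_sub_distrib]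
    rw [Finset.sum_eq_single 0 (fun i hi hi0 => ?_) (fun h => absurd (Finset.mem_range.2 (by omega)) h)]
    · simp only [r, add_zero, show d - 1 - 1 - (j : ℕ) + 1 = d - 1 - j by omega, γ, zero_add, pow_one, neg_neg, Nat.factorial_one, Nat.cast_one, div_one]
      rw [mul_div_mul_left _ _ ha, mul_div_mul_left _ _ ha]
    · have hfac : ∀ x y : ℚ, γ i * x / (a * y) = γ i / a * (x / y) := fun x y => mul_div_mul_comm _ _ _ _
      rcases lt_trichotomy (d - 1 - 1 - (j : ℕ) + 1 + i) d with h | h | h
      · have := hj ⟨(j : ℕ) - i, by omega⟩ (by show (j : ℕ) - i < (j : ℕ); omega)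
        simp only [r] at this
        rw [show d - 1 - ((j : ℕ) - i) = d - 1 - 1 - j + 1 + i by omega] at this
        simp only [hfac, this, sub_self]
      · simp only [h, hfac, div_self (hne A hA hA0), div_self (hne B hB hB0), sub_self]
      · simp [α, coeff_eq_zero_of_natDegree_lt (show A.natDegree < _ from hA.trans_lt h), coeff_eq_zero_of_natDegree_lt (show B.natDegree < _ from hB.trans_lt h)]
  have hlt : ∀ (A B : ℚ[X]), A.natDegree = d → A ≠ 0 → B.natDegree = d → B ≠ 0 →
      toLex (r A) < toLex (r B) → toLex (r' A) < toLex (r' B) := by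
    rintro A B hA hA0 hB hB0 ⟨j, hj, hlt⟩
    refine ⟨j, fun j' hj' => sub_eq_zero.1 ?_, ?_⟩
    · show r' A j' - r' B j' = 0
      rw [key A B hA hA0 hB hB0 j' fun j'' h => hj j'' (h.trans hj'), sub_eq_zero]
      exact hj j' hj'
    · have := key A B hA hA0 hB hB0 j fun j' h => hj j' h
      change r A j < r B j at hlt
      show r' A j < r' B j
      linarith
  constructor
  · intro h
    rcases h.lt_or_eq with h | h
    · exact (hlt P Q hP hP0 hQ hQ0 h).le
    · refine le_of_eq (congrArg toLex (funext fun j => sub_eq_zero.1 ?_))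
      have h' : r P = r Q := toLex.injective h
      rw [key P Q hP hP0 hQ hQ0 j fun j' _ => congrFun h' j', h', sub_self]
  · intro h
    exact not_lt.1 fun h' => absurd (hlt Q P hQ hQ0 hP hP0 h') (not_lt.2 h)

end Groth.Agent.S14997
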