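import Mathlib
import Groth.Statements.S15004
-- import your own Groth.Agent.* helpers here

set_option autoImplicit false
universe u v
open Harb

namespace Groth.Agent.S15004

/-- Let C be a finite family of d curves, recorded as an incidence relation between a type of points and
a finite index type, such that any two distinct curves of the family meet in exactly h points; for a
point p write r_p for the number of curves of the family through p. Then for every curve C_i of the
family, Σ_{p ∈ C_i} (r_p − 1) = h (d − 1), the sum being finitely supported. (The published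
statement is for a transversal arrangement of curves on a geometrically ruled surface with invariant
e, all numerically equivalent to a C₀ + b f, where any two of the curves meet transversally in h =
2ab − a²e points; only this common pairwise intersection count enters the proof, and this row states
the identity for an abstract incidence relation.) -/
theorem result (P : Type u) (ι : Type v) [Fintype ι]
    (inc : P → ι → Prop) (h : ℕ)
    (hfin : ∀ i j : ι, i ≠ j → {p : P | inc p i ∧ inc p j}.Finite)
    (hcount : ∀ i j : ι, i ≠ j → {p : P | inc p i ∧ inc p j}.ncard = h) (i : ι) :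
    ∑ᶠ p ∈ {p : P | inc p i}, (Nat.card {j : ι // inc p j} - 1) = h * (Fintype.card ι - 1) := by
  classical
  let S : Finset ι := Finset.univ.filter (fun j => j ≠ i)
  have hSi : ∀ j ∈ S, i ≠ j := fun j hj => (Finset.mem_filter.1 hj).2.symm
  let T : Finset P := S.attach.biUnion fun j => (hfin i j (hSi j j.2)).toFinset
  have hsum : ∀ p ∈ T, Nat.card {j : ι // inc p j} - 1 = ∑ j ∈ S, if inc p j then 1 else 0 := by
    intro p hp
    obtain ⟨j, -, hj⟩ := Finset.mem_biUnion.1 hp
    have hpi : inc p i := ((hfin i j (hSi j j.2)).mem_toFinset.1 hj).1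
    rw [Nat.card_eq_fintype_card, Fintype.card_subtype, Finset.sum_boole, Nat.cast_id]
    have : (Finset.univ.filter fun j => inc p j) = insert i (S.filter fun j => inc p j) := by
      ext a
      by_cases ha : a = i <;> simp [ha, S, hpi]
    rw [this, Finset.card_insert_of_notMem (by simp [S])]
    rfl
  rw [finsum_mem_eq_sum_of_inter_support_eq (t := T)]
  · rw [Finset.sum_congr rfl hsum, Finset.sum_comm]
    have : ∀ j ∈ S, (∑ p ∈ T, if inc p j then 1 else 0) = h := by
      intro j hj
      rw [Finset.sum_boole, Nat.cast_id, ← hcount i j (hSi j hj), Set.ncard_eq_toFinset_card _ (hfin i j (hSi j hj))]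
      congr 1
      ext p
      simp only [Finset.mem_filter, Set.Finite.mem_toFinset, Set.mem_setOf_eq, T, Finset.mem_biUnion, Finset.mem_attach, true_and]
      constructor
      · rintro ⟨⟨j', hj'⟩, hpj⟩
        exact ⟨hj'.1, hpj⟩
      · rintro ⟨h1, h2⟩
        exact ⟨⟨⟨j, hj⟩, h1, h2⟩, h2⟩
    rw [Finset.sum_congr rfl this, Finset.sum_const, smul_eq_mul, mul_comm]
    congr 1
    simp [S, Finset.filter_ne']
  · ext p
    simp only [Set.mem_inter_iff, Set.mem_setOf_eq, Function.mem_support, Finset.mem_coe]
    constructor
    · rintro ⟨hpi, hne⟩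
      refine ⟨?_, hne⟩
      have : 1 < Fintype.card {j : ι // inc p j} := by rw [← Nat.card_eq_fintype_card]; omega
      obtain ⟨⟨a, ha⟩, hai⟩ := Fintype.exists_ne_of_one_lt_card this ⟨i, hpi⟩
      have haS : a ∈ S := by simp [S]; exact fun e => hai (Subtype.ext e)
      exact Finset.mem_biUnion.2 ⟨⟨a, haS⟩, Finset.mem_attach _ _, (hfin i a (hSi a haS)).mem_toFinset.2 ⟨hpi, ha⟩⟩
    · rintro ⟨hp, hne⟩
      obtain ⟨j, -, hj⟩ := Finset.mem_biUnion.1 hp
      exact ⟨((hfin i j (hSi j j.2)).mem_toFinset.1 hj).1, hne⟩

end Groth.Agent.S15004
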