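import Mathlib
import Groth.Statements.S15005
-- import your own Groth.Agent.* helpers here

set_option autoImplicit false
universe u v
open Harb

namespace Groth.Agent.S15005

/-- Let C be a finite family of d curves, recorded as an incidence relation between a type of points and
a finite index type, such that any two distinct curves of the family meet in exactly h points; let
t_k be the number of k-fold points (points lying on exactly k curves of the family). Then f₂ − f₁ =
Σ_{k ≥ 2} k(k − 1) t_k equals h d(d − 1), where f_i = Σ_{k ≥ 2} k^i t_k. (The published statement is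
for a transversal arrangement of curves on a geometrically ruled surface with invariant e, all
numerically equivalent to a C₀ + b f, where any two of the curves meet transversally in h = 2ab −
a²e points; only this common pairwise intersection count enters the proof, and this row states the
identity for an abstract incidence relation.) -/
theorem result (P : Type u) (ι : Type v) [Fintype ι]
    (inc : P → ι → Prop) (h : ℕ)
    (hfin : ∀ i j : ι, i ≠ j → {p : P | inc p i ∧ inc p j}.Finite)
    (hcount : ∀ i j : ι, i ≠ j → {p : P | inc p i ∧ inc p j}.ncard = h) :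
    ∑ k ∈ Finset.Icc 2 (Fintype.card ι), k * (k - 1) * Nat.card {p : P // Nat.card {j : ι // inc p j} = k} =
      h * (Fintype.card ι * (Fintype.card ι - 1)) := by
  classical
  let T : Finset P := (Finset.univ.filter fun q : ι × ι => q.1 ≠ q.2).attach.biUnion
    fun q => (hfin q.1.1 q.1.2 (Finset.mem_filter.1 q.2).2).toFinset
  let deg : P → ℕ := fun p => (Finset.univ.filter fun j => inc p j).card
  have hdeg : ∀ p, Nat.card {j : ι // inc p j} = deg p := fun p => by
    rw [Nat.card_eq_fintype_card, Fintype.card_subtype]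
  have hmemT : ∀ p, 2 ≤ deg p → p ∈ T := by
    intro p hp
    obtain ⟨i, hi, j, hj, hij⟩ := Finset.one_lt_card.1 hp
    simp only [Finset.mem_filter, Finset.mem_univ, true_and] at hi hj
    exact Finset.mem_biUnion.2 ⟨⟨(i, j), Finset.mem_filter.2 ⟨Finset.mem_univ _, hij⟩⟩, Finset.mem_attach _ _, (hfin i j hij).mem_toFinset.2 ⟨hi, hj⟩⟩
  have hk : ∀ k ∈ Finset.Icc 2 (Fintype.card ι), Nat.card {p : P // Nat.card {j : ι // inc p j} = k} = (T.filter fun p => deg p = k).card := by
    intro k hk
    rw [← Nat.card_eq_finsetCard]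
    refine Nat.card_congr (Equiv.subtypeEquivRight fun p => ?_)
    rw [Finset.mem_filter, hdeg]
    exact ⟨fun h' => ⟨hmemT p (by have := Finset.mem_Icc.1 hk; omega), h'⟩, fun h' => h'.2⟩
  rw [Finset.sum_congr rfl fun k hk' => by rw [hk k hk']]
  have hfib : ∑ k ∈ Finset.Icc 2 (Fintype.card ι), k * (k - 1) * (T.filter fun p => deg p = k).card = ∑ p ∈ T, deg p * (deg p - 1) := by
    rw [← Finset.sum_fiberwise_of_maps_to (g := deg) (t := Finset.Icc 2 (Fintype.card ι))]
    · refine Finset.sum_congr rfl fun k _ => ?_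
      rw [Finset.sum_congr rfl fun p hp => by rw [(Finset.mem_filter.1 hp).2], Finset.sum_const, smul_eq_mul, mul_comm]
    · intro p hp
      obtain ⟨⟨⟨i, j⟩, hq⟩, -, hpq⟩ := Finset.mem_biUnion.1 hp
      have hpq' := (hfin i j (Finset.mem_filter.1 hq).2).mem_toFinset.1 hpq
      refine Finset.mem_Icc.2 ⟨Finset.one_lt_card.2 ⟨i, by simp [hpq'.1], j, by simp [hpq'.2], (Finset.mem_filter.1 hq).2⟩, ?_⟩
      exact Finset.card_le_univ _
  rw [hfib]
  have hdd : ∀ p, deg p * (deg p - 1) = ∑ q ∈ Finset.univ.filter (fun q : ι × ι => q.1 ≠ q.2), if inc p q.1 ∧ inc p q.2 then 1 else 0 := by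
    intro p
    rw [Finset.sum_boole, Nat.cast_id, Finset.filter_filter]
    have : Finset.univ.filter (fun q : ι × ι => q.1 ≠ q.2 ∧ inc p q.1 ∧ inc p q.2) = (Finset.univ.filter fun j => inc p j).offDiag := by
      ext ⟨a, b⟩; simp [Finset.mem_offDiag]; tauto
    rw [this, Finset.offDiag_card, Nat.mul_sub_one]
  rw [Finset.sum_congr rfl fun p _ => hdd p, Finset.sum_comm]
  have hq : ∀ q ∈ Finset.univ.filter (fun q : ι × ι => q.1 ≠ q.2), (∑ p ∈ T, if inc p q.1 ∧ inc p q.2 then 1 else 0) = h := by
    intro q hq
    have hne := (Finset.mem_filter.1 hq).2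
    rw [Finset.sum_boole, Nat.cast_id, ← hcount q.1 q.2 hne, Set.ncard_eq_toFinset_card _ (hfin q.1 q.2 hne)]
    congr 1
    ext p
    simp only [Finset.mem_filter, Set.Finite.mem_toFinset, Set.mem_setOf_eq]
    exact ⟨fun h' => h'.2, fun h' => ⟨Finset.mem_biUnion.2 ⟨⟨q, hq⟩, Finset.mem_attach _ _, (hfin q.1 q.2 hne).mem_toFinset.2 h'⟩, h'⟩⟩
  rw [Finset.sum_congr rfl hq, Finset.sum_const, smul_eq_mul, mul_comm]
  congr 1
  rw [show (Finset.univ.filter fun q : ι × ι => q.1 ≠ q.2) = (Finset.univ : Finset ι).offDiag by ext ⟨a, b⟩; simp,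
    Finset.offDiag_card, Finset.card_univ, Nat.mul_sub_one]

end Groth.Agent.S15005
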