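import Mathlib
import Groth.Statements.S15010
-- import your own Groth.Agent.* helpers here

set_option autoImplicit false
universe u
open TFCurv

namespace Groth.Agent.S15010

section

variable {O K : Type*} [CommRing O] [IsDomain O] [Field K] [Algebra O K] [IsFractionRing O K] {n : ℕ}

lemma exists_matrix (M N : Submodule O (Fin n → K))
    (hM1 : Submodule.pi Set.univ (fun _ : Fin n => (1 : Submodule O K)) ≤ M)
    (hN2 : N ≤ Submodule.pi Set.univ (fun _ : Fin n => (Subalgebra.toSubmodule (integralClosure O K))))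
    (φ : M →ₗ[O] N) :
    ∃ A : Matrix (Fin n) (Fin n) ↥(integralClosure O K),
      ∀ x : M, ((φ x : N) : Fin n → K) = (A.map (algebraMap ↥(integralClosure O K) K)).mulVec (x : Fin n → K) := by
  classical
  have he : ∀ j, (Pi.single j 1 : Fin n → K) ∈ M := fun j => hM1 fun i _ => by
    rw [Submodule.one_eq_range]
    by_cases h : i = j
    · subst h; exact ⟨1, by simp⟩
    · exact ⟨0, by simp [h]⟩
  let e : Fin n → M := fun j => ⟨_, he j⟩
  refine ⟨Matrix.of fun i j => ⟨((φ (e j) : N) : Fin n → K) i, hN2 (φ (e j)).2 i trivial⟩, fun x => ?_⟩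
  obtain ⟨⟨d, hd⟩, hdx⟩ := IsLocalization.exist_integer_multiples (nonZeroDivisors O) Finset.univ (fun i => (x : Fin n → K) i)
  choose c hc using fun i => hdx i (Finset.mem_univ i)
  have hd0 : algebraMap O K d ≠ 0 := IsFractionRing.to_map_ne_zero_of_mem_nonZeroDivisors hd
  have hx : d • x = ∑ j, c j • e j := by
    refine Subtype.ext ?_
    funext i
    rw [Submodule.coe_smul, Submodule.coe_sum, Finset.sum_apply, Pi.smul_apply]
    rw [Finset.sum_eq_single i]
    · simp [e, ← hc i, Algebra.smul_def]
    · intro b _ hb; simp [e, Pi.single_eq_of_ne (Ne.symm hb)]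
    · simp
  have hx' := congrArg (fun z : M => ((φ z : N) : Fin n → K)) hx
  funext i
  have h := congrFun hx' i
  simp only [map_smul, map_sum, Submodule.coe_smul, Submodule.coe_sum, Finset.sum_apply, Pi.smul_apply] at h
  refine mul_left_cancel₀ hd0 ?_
  rw [← Algebra.smul_def, h, Matrix.mulVec, dotProduct, Finset.mul_sum]
  refine Finset.sum_congr rfl fun j _ => ?_
  rw [Matrix.map_apply, Matrix.of_apply, Algebra.smul_def, hc, Algebra.smul_def]
  show algebraMap O K d * (x : Fin n → K) j * ((φ (e j) : N) : Fin n → K) i =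
    algebraMap O K d * (((φ (e j) : N) : Fin n → K) i * (x : Fin n → K) j)
  ring

theorem main (M N : Submodule O (Fin n → K))
    (hM1 : Submodule.pi Set.univ (fun _ : Fin n => (1 : Submodule O K)) ≤ M)
    (hM2 : M ≤ Submodule.pi Set.univ (fun _ : Fin n => (Subalgebra.toSubmodule (integralClosure O K))))
    (hN1 : Submodule.pi Set.univ (fun _ : Fin n => (1 : Submodule O K)) ≤ N)
    (hN2 : N ≤ Submodule.pi Set.univ (fun _ : Fin n => (Subalgebra.toSubmodule (integralClosure O K))))
    (φ : ↥M ≃ₗ[O] ↥N) :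
    ∃ A : Matrix (Fin n) (Fin n) ↥(integralClosure O K), IsUnit A ∧
      ∀ x : ↥M, ((φ x : ↥N) : Fin n → K) = (A.map (algebraMap ↥(integralClosure O K) K)).mulVec (x : Fin n → K) := by
  classical
  obtain ⟨A, hA⟩ := exists_matrix M N hM1 hN2 φ.toLinearMap
  obtain ⟨B, hB⟩ := exists_matrix N M hN1 hM2 φ.symm.toLinearMap
  refine ⟨A, IsUnit.of_mul_eq_one B ?_, hA⟩
  have hinj : Function.Injective (algebraMap ↥(integralClosure O K) K) := Subtype.val_injective
  apply Matrix.map_injective hinj
  simp only [Matrix.map_mul, Matrix.map_one _ (map_zero _) (map_one _)]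
  refine Matrix.ext_of_mulVec_single fun j => ?_
  have he : (Pi.single j 1 : Fin n → K) ∈ N := hN1 fun i _ => by
    rw [Submodule.one_eq_range]
    by_cases h : i = j
    · subst h; exact ⟨1, by simp⟩
    · exact ⟨0, by simp [h]⟩
  have h1 := hA (φ.symm ⟨_, he⟩)
  have h2 := hB ⟨_, he⟩
  simp only [LinearEquiv.coe_coe, LinearEquiv.apply_symm_apply] at h1 h2
  rw [Matrix.one_mulVec, ← Matrix.mulVec_mulVec, ← h2, ← h1]

end

/-- Let O be a one-dimensional Noetherian local domain with algebraically closed residue field whose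
integral closure O~ in its fraction field K is a finite O-module. If M and N are O-submodules of K^n
with O^n ⊆ M ⊆ O~^n and O^n ⊆ N ⊆ O~^n, then every O-linear isomorphism M → N is the restriction of
x ↦ A·x for an invertible n × n matrix A with entries in O~. -/
theorem result (O : Type u) [CommRing O] [IsDomain O] [IsNoetherianRing O] [IsLocalRing O] (hdim : ringKrullDim O = 1) [IsAlgClosed (IsLocalRing.ResidueField O)] (K : Type u) [Field K] [Algebra O K] [IsFractionRing O K] (hfin : Module.Finite O ↥(integralClosure O K)) (n : ℕ) (M N : Submodule O (Fin n → K)) (hM1 : Submodule.pi Set.univ (fun _ : Fin n => (1 : Submodule O K)) ≤ M) (hM2 : M ≤ Submodule.pi Set.univ (fun _ : Fin n => (Subalgebra.toSubmodule (integralClosure O K)))) (hN1 : Submodule.pi Set.univ (fun _ : Fin n => (1 : Submodule O K)) ≤ N) (hN2 : N ≤ Submodule.pi Set.univ (fun _ : Fin n => (Subalgebra.toSubmodule (integralClosure O K)))) (φ : ↥M ≃ₗ[O] ↥N) : ∃ A : Matrix (Fin n) (Fin n) ↥(integralClosure O K), IsUnit A ∧ ∀ x : ↥M, ((φ x :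 ↥N) : Fin n → K) = (A.map (algebraMap ↥(integralClosure O K) K)).mulVec (x : Fin n → K) := by
  exact main M N hM1 hM2 hN1 hN2 φ

end Groth.Agent.S15010
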