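import Groth.Statements.S15011
import Mathlib
import Groth.Agent.OneDimLenH4
-- import your own Groth.Agent.* helpers here

set_option autoImplicit false
universe u
open TFCurv

namespace Groth.Agent.S15011

open IsLocalRing

/-- A module is not a finite union of proper submodules if the residual scalars are infinite. -/
lemma exists_notMem {O M ι : Type*} [CommRing O] [AddCommGroup M] [Module O M] {γ : Type*}
    [Infinite γ] (c : γ → O) (hc : ∀ i j, i ≠ j → IsUnit (c i - c j)) (W : ι → Submodule O M)
    (s : Finset ι) (hW : ∀ i ∈ s, W i ≠ ⊤) : ∃ x : M, ∀ i ∈ s, x ∉ W i := by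
  classical
  induction s using Finset.induction with
  | empty => exact ⟨0, by simp⟩
  | insert a s has ih =>
    obtain ⟨x, hx⟩ := ih fun i hi => hW i (Finset.mem_insert_of_mem hi)
    by_cases hxa : x ∈ W a
    · obtain ⟨y, hy⟩ : ∃ y, y ∉ W a := by
        by_contra! h
        exact hW a (Finset.mem_insert_self a s) (eq_top_iff.mpr fun z _ => h z)
      by_contra! hall
      have : ∀ j : γ, ∃ i ∈ s, c j • x + y ∈ W i := fun j => by
        obtain ⟨i, hi, him⟩ := hall (c j • x + y)
        rcases Finset.mem_insert.mp hi with rfl | hi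
        · exact absurd ((Submodule.add_mem_iff_right _ ((W i).smul_mem _ hxa)).mp him) hy
        · exact ⟨i, hi, him⟩
      choose f hfs hf using this
      obtain ⟨j, l, hjl, he⟩ := Finite.exists_ne_map_eq_of_infinite
        (fun j => (⟨f j, hfs j⟩ : s))
      have he' : f j = f l := congrArg Subtype.val he
      have h := (W (f j)).sub_mem (hf j) (he' ▸ hf l)
      rw [add_sub_add_right_eq_sub, ← sub_smul, Submodule.smul_mem_iff_of_isUnit _ (hc j l hjl)] at h
      exact hx _ (hfs j) h
    · exact ⟨x, fun i hi => by
        rcases Finset.mem_insert.mp hi with rfl | hi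
        exacts [hxa, hx i hi]⟩


/-- Let O be a one-dimensional Noetherian local domain with maximal ideal m and algebraically closed
residue field, whose integral closure O~ in its fraction field K is a finite O-module; put e =
length(O~/m O~), the multiplicity of O. Then a finitely generated torsion-free O-module of rank n
can be generated by at most n·e elements. -/
theorem result (O : Type u) [CommRing O] [IsDomain O] [IsNoetherianRing O] [IsLocalRing O] (hdim : ringKrullDim O = 1) [IsAlgClosed (IsLocalRing.ResidueField O)] (K : Type u) [Field K] [Algebra O K] [IsFractionRing O K] (hfin : Module.Finite O ↥(integralClosure O K)) (M : Type u) [AddCommGroup M] [Module O M] [Module.Finite O M] [NoZeroSMulDivisors O M] (n : ℕ) (hn : Module.finrank K (TensorProduct O K M) = n) : ((⊤ : Submodule O M).spanFinrank : ℕ∞) ≤ (n : ℕ∞) * Module.length O (↥(integralClosure O K) ⧸ (IsLocalRing.maximalIdeal O) • (⊤ : Submodule O ↥(integralClosure O K))) := by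
  classical
  haveI hdim1 : Ring.KrullDimLE 1 O := by
    rw [Ring.KrullDimLE, Order.krullDimLE_iff]
    exact hdim.le
  haveI : Module.Finite O (integralClosure O K) := hfin
  haveI : IsNoetherianRing (integralClosure O K) := IsNoetherianRing.of_finite O _
  haveI : IsFractionRing (integralClosure O K) K :=
    IsIntegralClosure.isFractionRing_of_finite_extension O K K (integralClosure O K)
  haveI : IsIntegrallyClosed (integralClosure O K) :=
    integralClosure.isIntegrallyClosedOfFiniteExtension K
  have hmb : maximalIdeal O ≠ ⊥ := fun h => by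
    have hF : IsField O := IsLocalRing.isField_iff_maximalIdeal_eq.mpr h
    rw [ringKrullDim_eq_zero_of_isField hF] at hdim
    exact absurd hdim (by norm_num)
  have hmaxO : ∀ p : Ideal O, p.IsPrime → p ≠ ⊥ → p.IsMaximal := fun p hp hp0 =>
    Ring.krullDimLE_one_iff_of_noZeroDivisors.mp hdim1 p hp0 hp
  haveI : Algebra.IsIntegral O (integralClosure O K) := inferInstance
  haveI : Ring.DimensionLEOne (integralClosure O K) := ⟨fun {P} hP0 hP => by
    haveI := hP
    exact Ideal.IsIntegral.isMaximal_of_isMaximal_comap P
      (hmaxO _ (Ideal.IsPrime.comap _) (Ideal.IsIntegral.comap_ne_bot O hP0))⟩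
  haveI : IsDedekindDomain (integralClosure O K) := { }
  set J : Ideal (integralClosure O K) :=
    (maximalIdeal O).map (algebraMap O (integralClosure O K)) with hJ
  have hinj : Function.Injective (algebraMap O (integralClosure O K)) := fun a b h =>
    IsFractionRing.injective O K (congrArg Subtype.val h)
  have hJ0 : J ≠ ⊥ := by
    rwa [hJ, Ne, Ideal.map_eq_bot_iff_of_injective hinj]
  -- a general element of the maximal ideal
  let fac := (Ideal.finite_factors hJ0).toFinset
  let W : IsDedekindDomain.HeightOneSpectrum (integralClosure O K) → Submodule O (maximalIdeal O) :=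
    fun v => Submodule.comap (maximalIdeal O).subtype
      ((J * v.asIdeal).comap (algebraMap O (integralClosure O K)))
  have hcan : ∀ v : IsDedekindDomain.HeightOneSpectrum (integralClosure O K),
      ¬ J ≤ J * v.asIdeal := fun v h => by
    have he : J * v.asIdeal = J * ⊤ := by
      rw [Ideal.mul_top]; exact le_antisymm (Ideal.mul_le_left (I := J)) h
    exact v.isPrime.ne_top (mul_left_cancel₀ hJ0 he)
  have hW : ∀ v ∈ fac, W v ≠ ⊤ := fun v _ h => by
    refine hcan v (Ideal.map_le_iff_le_comap.mpr fun a ha => ?_)
    have : (⟨a, ha⟩ : maximalIdeal O) ∈ W v := h ▸ Submodule.mem_top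
    exact this
  haveI : Infinite (ResidueField O) := IsAlgClosed.instInfinite
  obtain ⟨⟨x, hxm⟩, hx⟩ := exists_notMem (γ := ResidueField O)
    (Function.surjInv IsLocalRing.residue_surjective) (fun i j hij => by
      rw [← IsLocalRing.residue_ne_zero_iff_isUnit, map_sub,
        Function.surjInv_eq IsLocalRing.residue_surjective,
        Function.surjInv_eq IsLocalRing.residue_surjective, sub_ne_zero]
      exact hij) W fac hW
  -- it generates `J`, or `J` is the unit ideal
  have hxJ : Ideal.span {algebraMap O (integralClosure O K) x} ≤ J :=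
    (Ideal.span_singleton_le_iff_mem _).mpr (Ideal.mem_map_of_mem _ hxm)
  have hJP : ∀ v : IsDedekindDomain.HeightOneSpectrum (integralClosure O K), J ≤ v.asIdeal :=
    fun v => by
      haveI := v.isMaximal
      haveI := Ideal.isMaximal_comap_of_isIntegral_of_isMaximal (R := O) v.asIdeal
      rw [hJ, Ideal.map_le_iff_le_comap]
      exact (IsLocalRing.eq_maximalIdeal (I := v.asIdeal.comap _) inferInstance).ge
  obtain ⟨Q, hQ⟩ := Ideal.dvd_iff_le.mpr hxJ
  have hQtop : Q = ⊤ := by
    by_contra hQt
    obtain ⟨P, hP, hQP⟩ := Ideal.exists_le_maximal Q hQt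
    have hP0 : P ≠ ⊥ := fun hP0 => by
      have h1 := (haveI := hP; Ideal.isMaximal_comap_of_isIntegral_of_isMaximal (R := O) P)
      rw [hP0, Ideal.comap_bot_of_injective _ hinj] at h1
      exact hmb (IsLocalRing.eq_maximalIdeal h1).symm
    let v : IsDedekindDomain.HeightOneSpectrum (integralClosure O K) := ⟨P, hP.isPrime, hP0⟩
    refine hx v ((Ideal.finite_factors hJ0).mem_toFinset.mpr (Ideal.dvd_iff_le.mpr (hJP v))) ?_
    show algebraMap O (integralClosure O K) x ∈ J * P
    exact (hQ.le.trans (Ideal.mul_mono_right hQP)) (Ideal.mem_span_singleton_self _)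
  rw [hQtop, Ideal.mul_top] at hQ
  have hx0 : x ≠ 0 := fun h0 => hJ0 (by rw [← hQ, h0, map_zero, Ideal.span_singleton_eq_bot])
  have hsm : ((maximalIdeal O) • (⊤ : Submodule O (integralClosure O K))) =
      Ideal.span {x} • ⊤ := by
    rw [Ideal.smul_top_eq_map, Ideal.smul_top_eq_map, Ideal.map_span, Set.image_singleton, hQ]
  have hrC : Module.finrank O (integralClosure O K) = 1 := by
    refine le_antisymm ?_ (Module.finrank_pos (R := O))
    calc Module.finrank O (integralClosure O K) ≤ Module.finrank O K := by
            refine Module.finrank_le_finrank_of_rank_le_rank ?_ ?_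
            · simpa using LinearMap.rank_le_of_injective
                (integralClosure O K).val.toLinearMap Subtype.val_injective
            · rw [← IsLocalization.rank_eq K (nonZeroDivisors O) le_rfl]; simp
      _ = 1 := by rw [← IsLocalization.finrank_eq (R := O) (S := K) (nonZeroDivisors O) le_rfl, Module.finrank_self]
  have hrM : Module.finrank O M = n := by
    rw [← Groth.Agent.OneDimLenH4.finrank_tensor (O := O) (N := M) K, hn]
  rw [hsm, Groth.Agent.OneDimLenH4.length_quot_smul x hx0, hrC, Nat.cast_one, one_mul,
    ← hrM, ← Groth.Agent.OneDimLenH4.length_quot_smul x hx0]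
  have hle : (Ideal.span {x} • ⊤ : Submodule O M) ≤ maximalIdeal O • ⊤ :=
    Submodule.smul_mono_left ((Ideal.span_singleton_le_iff_mem _).mpr hxm)
  refine le_trans ?_ (Module.length_le_of_surjective (Submodule.factor hle)
    (Submodule.factor_surjective hle))
  have e1 : ((⊤ : Submodule O M).spanFinrank) =
      Module.finrank (O ⧸ maximalIdeal O) (M ⧸ maximalIdeal O • (⊤ : Submodule O M)) := by
    rw [IsLocalRing.spanFinrank_eq_finrank_quotient (⊤ : Submodule O M) Module.Finite.fg_top]
    have hmap : Submodule.map ((Submodule.topEquiv : (⊤ : Submodule O M) ≃ₗ[O] M) : (⊤ : Submodule O M) →ₗ[O] M)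
        (maximalIdeal O • ⊤) = maximalIdeal O • ⊤ := by
      rw [Submodule.map_smul'', Submodule.map_top, LinearEquiv.range]
    exact ((Submodule.Quotient.equiv _ _ Submodule.topEquiv hmap).extendScalarsOfSurjective
      Ideal.Quotient.mk_surjective).finrank_eq
  rw [Module.length_eq_of_surjective (R := O ⧸ maximalIdeal O) Ideal.Quotient.mk_surjective, e1]
  letI := Ideal.Quotient.field (maximalIdeal O)
  rw [Module.length_eq_finrank]

end Groth.Agent.S15011
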