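import Groth.Statements.S15015
import Mathlib

set_option autoImplicit false
universe u
open TFCurv

namespace Groth.Agent.S15015

/-- Let k be an algebraically closed field and A ≠ k[[t]] a k-subalgebra of k[[t]] that is closed in the
t-adic topology, over which k[[t]] is a finite module, and such that every power series is carried
into A by multiplication with some nonzero element of A (so k[[t]] lies in the fraction field of A
and is its normalisation, as for the complete local ring of a unibranch curve singularity), and let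
Γ ⊆ ℕ be the set of t-orders of the nonzero elements of A (its value semigroup). Then ℕ ∖ Γ is
finite and the k-dimension of k[[t]]/A equals the number of gaps of Γ. -/
theorem result (k : Type u) [Field k] [IsAlgClosed k] (A : Subalgebra k (PowerSeries k)) (hA : Module.Finite ↥A (PowerSeries k)) (hcl : ∀ f : PowerSeries k, (∀ n : ℕ, ∃ g ∈ A, (n : ℕ∞) ≤ PowerSeries.order (f - g)) → f ∈ A) (hsing : A ≠ ⊤) (hbir : ∀ f : PowerSeries k, ∃ a ∈ A, a ≠ 0 ∧ a * f ∈ A) (Γ : Set ℕ) (hΓ : ∀ n : ℕ, n ∈ Γ ↔ ∃ f ∈ A, PowerSeries.order f = n) : Γᶜ.Finite ∧ Module.finrank k (PowerSeries k ⧸ Subalgebra.toSubmodule A) = Γᶜ.ncard := by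

  classical
  -- a conductor
  obtain ⟨c, hc⟩ : ∃ c : ℕ, ∀ f : PowerSeries k, (c : ℕ∞) ≤ PowerSeries.order f → f ∈ A := by
    obtain ⟨S, hS⟩ := hA.fg_top
    choose a ha ha0 haf using hbir
    have hb : ∀ f : PowerSeries k, (∏ g ∈ S, a g) * f ∈ A := by
      intro f
      have hf : f ∈ Submodule.span ↥A (S : Set (PowerSeries k)) := hS ▸ Submodule.mem_top
      induction hf using Submodule.span_induction with
      | mem x hx =>
        rw [← Finset.mul_prod_erase S a (Finset.mem_coe.1 hx)]
        rw [mul_right_comm]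
        exact A.mul_mem (haf x) (A.prod_mem fun g _ => ha g)
      | zero => rw [mul_zero]; exact A.zero_mem
      | add u v _ _ hu hv => rw [mul_add]; exact A.add_mem hu hv
      | smul r u _ hu => rw [Subalgebra.smul_def, smul_eq_mul, mul_left_comm]; exact A.mul_mem r.2 hu
    have hne : (∏ g ∈ S, a g) ≠ 0 := Finset.prod_ne_zero_iff.2 fun g _ => ha0 g
    refine ⟨(PowerSeries.order (∏ g ∈ S, a g)).toNat, fun f hf => ?_⟩
    obtain ⟨u, hu⟩ : (∏ g ∈ S, a g) ∣ f := by
      rw [← PowerSeries.X_pow_order_mul_divXPowOrder (f := ∏ g ∈ S, a g),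
        (PowerSeries.isUnit_divided_by_X_pow_order hne).mul_right_dvd, PowerSeries.X_pow_dvd_iff]
      exact fun m hm => PowerSeries.coeff_of_lt_order m (lt_of_lt_of_le (Nat.cast_lt.2 hm) hf)
    rw [hu]
    exact hb u
  have hsub : Γᶜ ⊆ Set.Iio c := fun n hn => by
    by_contra h
    exact hn ((hΓ n).2 ⟨PowerSeries.X ^ n, hc _ (by rw [PowerSeries.order_X_pow]; exact_mod_cast not_lt.1 h),
      PowerSeries.order_X_pow n⟩)
  have hfin : Γᶜ.Finite := (Set.finite_Iio c).subset hsub
  haveI : Fintype ↥(Γᶜ) := hfin.fintype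
  let v : ↥(Γᶜ) → PowerSeries k ⧸ Subalgebra.toSubmodule A := fun g =>
    Submodule.Quotient.mk (PowerSeries.X ^ g.1)
  -- independence
  have hli : LinearIndependent k v := by
    rw [Fintype.linearIndependent_iff]
    intro a ha g
    let f : PowerSeries k := ∑ g, a g • PowerSeries.X ^ (g : ↥(Γᶜ)).1
    have hfA : f ∈ A := by
      rw [← Subalgebra.mem_toSubmodule, ← Submodule.Quotient.mk_eq_zero, ← ha]
      simp only [f, v, ← Submodule.mkQ_apply, map_sum, map_smul]
    have hcf : ∀ n, PowerSeries.coeff n f = if h : n ∈ Γᶜ then a ⟨n, h⟩ else 0 := by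
      intro n
      simp only [f, map_sum, map_smul, PowerSeries.coeff_X_pow, smul_eq_mul, mul_ite, mul_one, mul_zero]
      split_ifs with h
      · rw [Finset.sum_eq_single ⟨n, h⟩]
        · simp
        · intro b _ hb
          rw [if_neg fun e => hb (Subtype.ext e.symm)]
        · simp
      · exact Finset.sum_eq_zero fun b _ => if_neg fun e : n = b.1 => h (e ▸ b.2)
    have hf0 : f = 0 := by
      by_contra hne
      have ho := PowerSeries.coe_toNat_order hne
      have hmem : (PowerSeries.order f).toNat ∈ Γ := (hΓ _).2 ⟨f, hfA, ho.symm⟩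
      have := PowerSeries.coeff_order hne
      rw [hcf, dif_neg (fun h => h hmem)] at this
      exact this rfl
    have := hcf g.1
    rw [hf0, map_zero, dif_pos g.2] at this
    exact this.symm
  -- spanning
  have hspan : ⊤ ≤ Submodule.span k (Set.range v) := by
    have key : ∀ (d : ℕ) (f : PowerSeries k), (c : ℕ∞) ≤ PowerSeries.order f + d →
        (Submodule.Quotient.mk f : PowerSeries k ⧸ Subalgebra.toSubmodule A) ∈ Submodule.span k (Set.range v) := by
      intro d
      induction d with
      | zero =>
        intro f hf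
        rw [(Submodule.Quotient.mk_eq_zero _).2 (hc f (by simpa using hf))]
        exact zero_mem _
      | succ d ih =>
        intro f hf
        rcases eq_or_ne f 0 with rfl | hf0
        · exact zero_mem _
        obtain ⟨o, ho⟩ : ∃ o : ℕ, PowerSeries.order f = o := ⟨_, (PowerSeries.coe_toNat_order hf0).symm⟩
        obtain ⟨g, hgspan, hgo, hgc⟩ : ∃ g : PowerSeries k,
            (Submodule.Quotient.mk g : PowerSeries k ⧸ Subalgebra.toSubmodule A) ∈ Submodule.span k (Set.range v) ∧
            PowerSeries.order g = o ∧ PowerSeries.coeff o g ≠ 0 := by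
          by_cases hoΓ : o ∈ Γ
          · obtain ⟨g, hg, hgo⟩ := (hΓ o).1 hoΓ
            refine ⟨g, by rw [(Submodule.Quotient.mk_eq_zero _).2 hg]; exact zero_mem _, hgo, ?_⟩
            exact ((PowerSeries.order_eq_nat).1 hgo).1
          · exact ⟨PowerSeries.X ^ o, Submodule.subset_span ⟨⟨o, hoΓ⟩, rfl⟩, PowerSeries.order_X_pow o,
              by simp⟩
        set t := PowerSeries.coeff o f / PowerSeries.coeff o g
        have hlow : ((o + 1 : ℕ) : ℕ∞) ≤ PowerSeries.order (f - t • g) := by
          refine PowerSeries.nat_le_order _ _ fun m hm => ?_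
          rw [map_sub, map_smul, smul_eq_mul]
          rcases Nat.lt_succ_iff_lt_or_eq.1 hm with hm | rfl
          · rw [PowerSeries.coeff_of_lt_order m (ho ▸ Nat.cast_lt.2 hm),
              PowerSeries.coeff_of_lt_order m (hgo ▸ Nat.cast_lt.2 hm), mul_zero, sub_zero]
          · rw [div_mul_cancel₀ _ hgc, sub_self]
        have hrest := ih (f - t • g) (by
          refine hf.trans ?_
          rw [ho]
          calc (o : ℕ∞) + ((d + 1 : ℕ) : ℕ∞) = ((o + 1 : ℕ) : ℕ∞) + d := by push_cast; ring
            _ ≤ _ := add_le_add_left hlow _)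
        have := add_mem hrest (Submodule.smul_mem _ t hgspan)
        rwa [Submodule.Quotient.mk_sub, Submodule.Quotient.mk_smul, sub_add_cancel] at this
    intro x _
    obtain ⟨f, rfl⟩ := Submodule.Quotient.mk_surjective _ x
    exact key c f le_add_self
  refine ⟨hfin, ?_⟩
  rw [Module.finrank_eq_card_basis (Module.Basis.mk hli hspan), Set.ncard_eq_toFinset_card' Γᶜ,
    Set.toFinset_card]


end Groth.Agent.S15015
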