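import Groth.Statements.S15016


set_option autoImplicit false
universe u
open TFCurv

namespace Groth.Agent.S15016

/-- Let k be an algebraically closed field and A ≠ k[[t]] a k-subalgebra of k[[t]] that is closed in the
t-adic topology and over which k[[t]] is a finite module (as for the complete local ring of a
unibranch curve singularity inside its normalisation), and let Γ ⊆ ℕ be the set of t-orders of the
nonzero elements of A (its value semigroup); let c be the conductor of Γ, so that every n ≥ c lies
in Γ and c − 1 does not. Then for a power series f, f · k[[t]] ⊆ A holds exactly when the order of f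
is at least c: the conductor of A in k[[t]] is t^c · k[[t]], of codimension c. -/
theorem result (k : Type u) [Field k] [IsAlgClosed k] (A : Subalgebra k (PowerSeries k)) (hA : Module.Finite ↥A (PowerSeries k)) (hcl : ∀ f : PowerSeries k, (∀ n : ℕ, ∃ g ∈ A, (n : ℕ∞) ≤ PowerSeries.order (f - g)) → f ∈ A) (hsing : A ≠ ⊤) (Γ : Set ℕ) (hΓ : ∀ n : ℕ, n ∈ Γ ↔ ∃ f ∈ A, PowerSeries.order f = n) (c : ℕ) (hc : ∀ n : ℕ, c ≤ n → n ∈ Γ) (hc0 : c ≠ 0) (hc1 : c - 1 ∉ Γ) (f : PowerSeries k) : (∀ g : PowerSeries k, g * f ∈ A) ↔ (c : ℕ∞) ≤ PowerSeries.order f := by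
  classical
  constructor
  · intro h
    by_contra hlt
    push Not at hlt
    obtain ⟨d, hd⟩ := ENat.ne_top_iff_exists.1 (ne_top_of_lt hlt)
    rw [← hd] at hlt
    have hdc : d ≤ c - 1 := by
      have : d < c := by exact_mod_cast hlt
      omega
    refine hc1 ((hΓ _).2 ⟨_, h (PowerSeries.X ^ (c - 1 - d)), ?_⟩)
    rw [PowerSeries.order_mul, PowerSeries.order_X_pow, ← hd, ← Nat.cast_add, Nat.sub_add_cancel hdc]
  · intro hf g
    set h := g * f with hdef
    have hh : (c : ℕ∞) ≤ PowerSeries.order h := by
      rw [hdef, PowerSeries.order_mul]; exact hf.trans le_add_self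
    have key : ∀ m, c ≤ m → ∃ a ∈ A, (m : ℕ∞) ≤ PowerSeries.order (h - a) := by
      intro m hm
      induction m, hm using Nat.le_induction with
      | base => exact ⟨0, zero_mem _, by rwa [sub_zero]⟩
      | succ m hm ih =>
        obtain ⟨a, ha, hma⟩ := ih
        obtain ⟨e, he, heo⟩ := (hΓ m).1 (hc m hm)
        have hem : PowerSeries.coeff m e ≠ 0 := (PowerSeries.order_eq_nat.1 heo).1
        refine ⟨a + (PowerSeries.coeff m (h - a) / PowerSeries.coeff m e) • e, add_mem ha (A.smul_mem he _), ?_⟩
        refine PowerSeries.nat_le_order _ _ fun i hi => ?_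
        rw [← sub_sub, map_sub, PowerSeries.coeff_smul, smul_eq_mul]
        rcases Nat.lt_succ_iff_lt_or_eq.1 hi with hi | rfl
        · rw [PowerSeries.coeff_of_lt_order i (lt_of_lt_of_le (by exact_mod_cast hi) hma),
            (PowerSeries.order_eq_nat.1 heo).2 i hi, mul_zero, sub_zero]
        · rw [div_mul_cancel₀ _ hem, sub_self]
    refine hcl h fun m => ?_
    obtain ⟨a, ha, hma⟩ := key (max m c) (le_max_right _ _)
    exact ⟨a, ha, le_trans (by exact_mod_cast le_max_left m c) hma⟩

end Groth.Agent.S15016
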