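import Groth.Statements.S15017
import Mathlib
-- import your own Groth.Agent.* helpers here

set_option autoImplicit false
open TFCurv

namespace Groth.Agent.S15017

/-- Let Γ be a numerical semigroup (a submonoid of (ℕ, +) with finite complement), Γ ≠ ℕ, with conductor
c (every n ≥ c lies in Γ, c − 1 does not). If Γ is symmetric (for x < c, x is a gap exactly when c −
1 − x ∈ Γ) and has multiplicity greater than 2 (neither 1 nor 2 lies in Γ), then Γ is generated by
its elements smaller than c: every minimal generator of Γ is less than the conductor. -/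
theorem result (Γ : AddSubmonoid ℕ) (c : ℕ) (hc : ∀ n : ℕ, c ≤ n → n ∈ Γ) (hc0 : c ≠ 0) (hc1 : c - 1 ∉ Γ) (hsymm : ∀ x : ℕ, x < c → (x ∉ Γ ↔ c - 1 - x ∈ Γ)) (he : (1 : ℕ) ∉ Γ ∧ (2 : ℕ) ∉ Γ) : AddSubmonoid.closure {γ : ℕ | γ ∈ Γ ∧ γ < c} = Γ := by
  refine le_antisymm (AddSubmonoid.closure_le.mpr fun γ h => h.1) fun n hn => ?_
  induction n using Nat.strong_induction_on with
  | _ n ih =>
  by_cases hlt : n < c
  · exact AddSubmonoid.subset_closure ⟨hn, hlt⟩
  suffices h : ∃ x ∈ Γ, 0 < x ∧ x < n ∧ n - x ∈ Γ by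
    obtain ⟨x, hx, h0, h1, h2⟩ := h
    have := add_mem (ih x h1 hx) (ih (n - x) (by omega) h2)
    rwa [Nat.add_sub_cancel' h1.le] at this
  by_contra hcon
  push_neg at hcon
  obtain ⟨d, hd, hdn⟩ : ∃ d, 1 ≤ d ∧ n = c - 1 + d := ⟨n - (c - 1), by omega, by omega⟩
  -- gaps below `c - 1` are stable under `+ d`
  have hstep : ∀ g, g < c - 1 → g ∉ Γ → g + d ∉ Γ := by
    intro g hg hgΓ hgd
    have hx : c - 1 - g ∈ Γ := (hsymm g (by omega)).mp hgΓ
    refine hcon (c - 1 - g) hx (by omega) (by omega) ?_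
    rwa [show n - (c - 1 - g) = g + d by omega]
  -- hence every gap below `c - 1` is congruent to `c - 1` modulo `d`
  have hmod : ∀ m g, m = c - g → g < c - 1 → g ∉ Γ → ∃ k, g + k * d = c - 1 := by
    intro m
    induction m using Nat.strong_induction_on with
    | _ m ihm =>
      intro g hm hg hgΓ
      have h' := hstep g hg hgΓ
      have hlt' : g + d < c := by
        by_contra hh
        exact h' (hc _ (by omega))
      rcases Nat.lt_or_ge (g + d) (c - 1) with h1 | h1
      · obtain ⟨k, hk⟩ := ihm (c - (g + d)) (by omega) (g + d) rfl h1 h'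
        exact ⟨k + 1, by rw [Nat.succ_mul]; omega⟩
      · exact ⟨1, by omega⟩
  have h1c : 3 ≤ c := by
    by_contra hh
    exact he.2 (hc 2 (by omega))
  have hc2 : 1 < c - 1 := by omega
  have h2c : 2 < c - 1 := by
    by_contra hh
    have : c - 1 = 2 := by omega
    have h := (hsymm 1 (by omega)).mp he.1
    rw [this] at h
    exact he.1 h
  obtain ⟨k₁, hk₁⟩ := hmod _ 1 rfl hc2 he.1
  obtain ⟨k₂, hk₂⟩ := hmod _ 2 rfl h2c he.2
  have hd1 : d = 1 := by
    have hdvd : d ∣ 1 := by
      refine (Nat.dvd_add_right (dvd_mul_left d k₂)).mp ?_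
      exact ⟨k₁, by rw [mul_comm d k₁]; omega⟩
    exact Nat.dvd_one.mp hdvd
  subst hd1
  have hall : ∀ i, 1 ≤ i → i ≤ c - 1 → i ∉ Γ := by
    intro i h1i
    induction i, h1i using Nat.le_induction with
    | base => exact fun _ => he.1
    | succ i _ ihi => exact fun hi => hstep i (by omega) (ihi (by omega))
  exact hall (c - 1 - 1) (by omega) (by omega) ((hsymm 1 (by omega)).mp he.1)

end Groth.Agent.S15017
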