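import Groth.Statements.S15018
import Mathlib
-- import your own Groth.Agent.* helpers here

set_option autoImplicit false
open TFCurv

namespace Groth.Agent.S15018

/-- Let Γ be a numerical semigroup (a submonoid of (ℕ, +) with finite complement), Γ ≠ ℕ, with conductor
c (every n ≥ c lies in Γ, c − 1 does not). Then Γ is symmetric (for x < c, x is a gap exactly when c
− 1 − x ∈ Γ) if and only if there is exactly one gap n of Γ such that Γ ∪ {n} is again stable under
adding elements of Γ, i.e. n + γ ∈ Γ for every nonzero γ ∈ Γ. -/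
theorem result (Γ : AddSubmonoid ℕ) (c : ℕ) (hc : ∀ n : ℕ, c ≤ n → n ∈ Γ) (hc0 : c ≠ 0) (hc1 : c - 1 ∉ Γ) : (∀ x : ℕ, x < c → (x ∉ Γ ↔ c - 1 - x ∈ Γ)) ↔ ∃! n : ℕ, n ∉ Γ ∧ ∀ γ : ℕ, γ ∈ Γ → γ ≠ 0 → n + γ ∈ Γ := by
  classical
  have hpf : c - 1 ∉ Γ ∧ ∀ γ : ℕ, γ ∈ Γ → γ ≠ 0 → c - 1 + γ ∈ Γ :=
    ⟨hc1, fun γ _ h0 => hc _ (by omega)⟩
  have hlt : ∀ x, x ∉ Γ → x < c := fun x hx => by
    by_contra h
    exact hx (hc x (by omega))
  constructor
  · intro hsymm
    refine ⟨c - 1, hpf, fun n ⟨hn, hn'⟩ => ?_⟩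
    by_contra hne
    have hn1 := hlt n hn
    have h1 := (hsymm n hn1).mp hn
    have h2 := hn' _ h1 (by omega)
    rw [show n + (c - 1 - n) = c - 1 by omega] at h2
    exact hc1 h2
  · rintro ⟨m, -, hm⟩ x hx
    have hm' : m = c - 1 := (hm _ hpf).symm
    refine ⟨fun hxΓ => ?_, fun h h' => hc1 ?_⟩
    · by_contra hcx
      let T := (Finset.range c).filter fun y => y ∉ Γ ∧ c - 1 - y ∉ Γ
      have hxT : x ∈ T := Finset.mem_filter.mpr ⟨Finset.mem_range.mpr hx, hxΓ, hcx⟩
      obtain ⟨y, hy, hymax⟩ := T.exists_max_image id ⟨x, hxT⟩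
      obtain ⟨hyc, hy1, hy2⟩ := Finset.mem_filter.mp hy
      have : y = c - 1 := by
        rw [← hm']
        refine hm y ⟨hy1, fun γ hγ h0 => ?_⟩
        by_contra hg
        have hgc := hlt _ hg
        have hg' : c - 1 - (y + γ) ∉ Γ := fun hh => hy2 (by
          have := add_mem hh hγ
          rwa [show c - 1 - (y + γ) + γ = c - 1 - y by omega] at this)
        have := hymax (y + γ) (Finset.mem_filter.mpr ⟨Finset.mem_range.mpr hgc, hg, hg'⟩)
        simp only [id] at this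
        omega
      exact hy2 (by rw [this, Nat.sub_self]; exact zero_mem Γ)
    · have := add_mem h' h
      rwa [show x + (c - 1 - x) = c - 1 by omega] at this

end Groth.Agent.S15018
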