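import Groth.Statements.S15019
import Mathlib
-- import your own Groth.Agent.* helpers here

set_option autoImplicit false
open TFCurv

namespace Groth.Agent.S15019

/-- Let Γ be a numerical semigroup (a submonoid of (ℕ, +) with finite complement), Γ ≠ ℕ, with conductor
c (every n ≥ c lies in Γ, c − 1 does not), let e be its multiplicity (the least nonzero element of
Γ), and let S ⊆ ℕ be a Γ-module in normal form: 0 ∈ S and γ + s ∈ S for all γ ∈ Γ, s ∈ S. Then the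
set of gaps n of S with S ∪ {n} again a Γ-module (n + γ ∈ S for every nonzero γ ∈ Γ) has at most e −
1 elements, and so does the set of nonzero s ∈ S with S ∖ {s} again a Γ-module (s − γ ∉ S for every
nonzero γ ∈ Γ with γ ≤ s). -/
theorem result (Γ : AddSubmonoid ℕ) (c : ℕ) (hc : ∀ n : ℕ, c ≤ n → n ∈ Γ) (hc0 : c ≠ 0) (hc1 : c - 1 ∉ Γ) (e : ℕ) (he : e ∈ Γ) (he0 : e ≠ 0) (hemin : ∀ γ : ℕ, γ ∈ Γ → γ ≠ 0 → e ≤ γ) (S : Set ℕ) (hS0 : (0 : ℕ) ∈ S) (hS : ∀ γ : ℕ, γ ∈ Γ → ∀ s : ℕ, s ∈ S → γ + s ∈ S) : {n : ℕ | n ∉ S ∧ ∀ γ : ℕ, γ ∈ Γ → γ ≠ 0 → n + γ ∈ S}.encard ≤ ((e - 1 : ℕ) : ℕ∞) ∧ {s : ℕ | s ∈ S ∧ s ≠ 0 ∧ ∀ γ : ℕ, γ ∈ Γ → γ ≠ 0 → γ ≤ s → s - γ ∉ S}.encard ≤ ((e - 1 : ℕ) : ℕ∞) := by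
  have hmul : ∀ k, k * e ∈ Γ := fun k => by simpa [smul_eq_mul] using Γ.nsmul_mem he k
  have hcard : ((Finset.Ico 1 e : Finset ℕ) : Set ℕ).encard = ((e - 1 : ℕ) : ℕ∞) := by
    rw [Set.encard_coe_eq_coe_finsetCard, Nat.card_Ico]
  constructor
  · refine le_trans (Set.encard_le_encard_of_injOn (f := fun n => n % e) ?_ ?_) hcard.le
    · intro n hn
      simp only [Finset.coe_Ico, Set.mem_Ico]
      refine ⟨?_, Nat.mod_lt _ (Nat.pos_of_ne_zero he0)⟩
      by_contra h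
      obtain ⟨k, rfl⟩ := Nat.dvd_of_mod_eq_zero (by omega : n % e = 0)
      exact hn.1 (by simpa [mul_comm] using hS _ (hmul k) 0 hS0)
    · intro n hn m hm h
      wlog hlt : n ≤ m generalizing n m
      · exact (this hm hn h.symm (by omega)).symm
      by_contra hne
      obtain ⟨k, hk⟩ := (Nat.modEq_iff_dvd' hlt).mp h
      have h1 := hn.2 (k * e) (hmul k) (by rw [mul_comm, ← hk]; omega)
      rw [show n + k * e = m by rw [mul_comm, ← hk]; omega] at h1
      exact hm.1 h1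
  · refine le_trans (Set.encard_le_encard_of_injOn (f := fun n => n % e) ?_ ?_) hcard.le
    · intro n hn
      simp only [Finset.coe_Ico, Set.mem_Ico]
      refine ⟨?_, Nat.mod_lt _ (Nat.pos_of_ne_zero he0)⟩
      by_contra h
      obtain ⟨k, rfl⟩ := Nat.dvd_of_mod_eq_zero (by omega : n % e = 0)
      exact hn.2.2 (e * k) (by simpa [mul_comm] using hmul k) hn.2.1 le_rfl (by simpa using hS0)
    · intro n hn m hm h
      wlog hlt : n ≤ m generalizing n m
      · exact (this hm hn h.symm (by omega)).symm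
      by_contra hne
      obtain ⟨k, hk⟩ := (Nat.modEq_iff_dvd' hlt).mp h
      refine hm.2.2 (k * e) (hmul k) (by rw [mul_comm, ← hk]; omega) (by rw [mul_comm, ← hk]; omega) ?_
      rw [show m - k * e = n by rw [mul_comm, ← hk]; omega]
      exact hn.1

end Groth.Agent.S15019
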