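import Groth.Statements.S15023
import Mathlib
import Groth.Agent.OneDimLenH4
-- import your own Groth.Agent.* helpers here

set_option autoImplicit false
universe u
open TFCurv

namespace Groth.Agent.S15023

open PowerSeries

section

variable {k : Type*} [Field k]

/-- The orders of the nonzero members of a set of power series. -/
def ords (N : Set (PowerSeries k)) : Set ℕ := {n | ∃ f ∈ N, PowerSeries.order f = n}

lemma mem_of_orders (N : Submodule k (PowerSeries k)) (B : ℕ)
    (hB : ∀ f : PowerSeries k, (∀ i < B, coeff i f = 0) → f ∈ N) (m : ℕ)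
    (hm : ∀ n, m ≤ n → n ∈ ords (N : Set (PowerSeries k))) :
    ∀ f : PowerSeries k, (∀ i < m, coeff i f = 0) → f ∈ N := by
  suffices h : ∀ d m, B ≤ m + d → (∀ n, m ≤ n → n ∈ ords (N : Set (PowerSeries k))) →
      ∀ f : PowerSeries k, (∀ i < m, coeff i f = 0) → f ∈ N from h B m (by omega) hm
  intro d
  induction d with
  | zero => exact fun m hd _ f hf => hB f fun i hi => hf i (by omega)
  | succ d ih =>
    intro m hd hm f hf
    obtain ⟨g, hg, hgo⟩ := hm m le_rfl
    obtain ⟨hgm, hglt⟩ := order_eq_nat.mp hgo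
    have h := ih (m + 1) (by omega) (fun n hn => hm n (by omega))
      (f - (coeff m f * (coeff m g)⁻¹) • g) (fun i hi => by
        rcases Nat.lt_succ_iff_lt_or_eq.mp hi with h | h
        · simp [hf i h, hglt i h]
        · subst h; simp [hgm])
    simpa using N.add_mem h (N.smul_mem (coeff m f * (coeff m g)⁻¹) hg)

lemma finrank_quot (N : Submodule k (PowerSeries k)) (B : ℕ)
    (hB : ∀ f : PowerSeries k, (∀ i < B, coeff i f = 0) → f ∈ N) :
    Module.finrank k (PowerSeries k ⧸ N) = (ords (N : Set (PowerSeries k)))ᶜ.ncard := by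
  classical
  set S := ords (N : Set (PowerSeries k))
  have hfin : Sᶜ ⊆ Set.Iio B := by
    intro n hn
    by_contra h
    refine hn ⟨X ^ n, hB _ fun i hi => ?_, order_X_pow n⟩
    rw [coeff_X_pow, if_neg]
    simp only [Set.mem_Iio, not_lt] at h
    omega
  haveI : Finite ↥(Sᶜ) := ((Set.finite_Iio B).subset hfin).to_subtype
  let F := Fintype.ofFinite ↥(Sᶜ)
  let C : Submodule k (PowerSeries k) :=
    { carrier := {f | ∀ n ∈ S, coeff n f = 0}
      zero_mem' := by simp
      add_mem' := fun {a b} ha hb n hn => by simp [ha n hn, hb n hn]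
      smul_mem' := fun c a ha n hn => by simp [ha n hn] }
  have hred : ∀ d m, B ≤ m + d → ∀ f : PowerSeries k, (∀ i < m, coeff i f = 0) → f ∈ N ⊔ C := by
    intro d
    induction d with
    | zero => exact fun m hd f hf => Submodule.mem_sup_left (hB f fun i hi => hf i (by omega))
    | succ d ih =>
      intro m hd f hf
      by_cases hm : m ∈ S
      · obtain ⟨g, hg, hgo⟩ := hm
        obtain ⟨hgm, hglt⟩ := order_eq_nat.mp hgo
        have h := ih (m + 1) (by omega) (f - (coeff m f * (coeff m g)⁻¹) • g) (fun i hi => by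
          rcases Nat.lt_succ_iff_lt_or_eq.mp hi with h | h
          · simp [hf i h, hglt i h]
          · subst h; simp [hgm])
        simpa using (N ⊔ C).add_mem h
          ((N ⊔ C).smul_mem (coeff m f * (coeff m g)⁻¹) (Submodule.mem_sup_left hg))
      · have hC : monomial m (coeff m f) ∈ C := fun n hn => by
          rw [coeff_monomial, if_neg (fun h : n = m => hm (h ▸ hn))]
        have h := ih (m + 1) (by omega) (f - monomial m (coeff m f)) (fun i hi => by
          rcases Nat.lt_succ_iff_lt_or_eq.mp hi with h | h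
          · simp [coeff_monomial, hf i h, Nat.ne_of_lt h]
          · subst h; simp [coeff_monomial])
        simpa using (N ⊔ C).add_mem h (Submodule.mem_sup_right hC)
  have hc : IsCompl N C := by
    refine ⟨Submodule.disjoint_def.mpr fun f hfN hfC => ?_, ?_⟩
    · by_contra hf
      refine coeff_order hf (hfC _ ⟨f, hfN, ?_⟩)
      rw [ENat.coe_toNat (fun h => hf (order_eq_top.mp h))]
    · rw [codisjoint_iff, eq_top_iff]
      exact fun f _ => hred B 0 (by omega) f fun i hi => absurd hi (by omega)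
  let e : C →ₗ[k] (↥(Sᶜ) → k) := LinearMap.pi fun n => (coeff (n : ℕ)).comp C.subtype
  have he : Function.Bijective e := by
    constructor
    · intro a b hab
      refine Subtype.ext (PowerSeries.ext fun n => ?_)
      by_cases hn : n ∈ S
      · rw [a.2 n hn, b.2 n hn]
      · exact congrFun hab ⟨n, hn⟩
    · intro v
      refine ⟨⟨mk fun n => if h : n ∈ S then 0 else v ⟨n, h⟩, fun n hn => by simp [hn]⟩, ?_⟩
      funext n
      have hn : (n : ℕ) ∉ S := n.2
      simp [e, hn]
  rw [(Submodule.quotientEquivOfIsCompl N C hc).finrank_eq,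
    (LinearEquiv.ofBijective e he).finrank_eq, Module.finrank_pi, ← Nat.card_eq_fintype_card,
    Nat.card_coe_set_eq]

lemma gap_bound {G S : Set ℕ} (hG : Gᶜ.Finite) (hS : Sᶜ.Finite)
    (h : ∀ a ∈ G, ∀ s ∈ S, a + s ∈ S) {n : ℕ} (hn : n ∉ S) :
    n + 1 ≤ Gᶜ.ncard + Sᶜ.ncard := by
  classical
  have hsub : (Finset.range (n + 1) : Set ℕ) ⊆ Gᶜ ∪ (fun s => n - s) '' Sᶜ := by
    intro i hi
    simp only [Finset.coe_range, Set.mem_Iio] at hi
    by_cases hiG : i ∈ G
    · refine Or.inr ⟨n - i, fun hs => hn ?_, by dsimp only; omega⟩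
      have := h i hiG _ hs
      rwa [Nat.add_sub_cancel' (by omega)] at this
    · exact Or.inl hiG
  have h1 := Set.ncard_le_ncard hsub (hG.union (hS.image _))
  rw [Set.ncard_coe_finset, Finset.card_range] at h1
  have h2 := Set.ncard_union_le (Gᶜ) ((fun s => n - s) '' Sᶜ)
  have h3 := Set.ncard_image_le (f := fun s => n - s) hS
  omega

end


/-- Let k be an algebraically closed field and A ≠ k[[t]] a k-subalgebra of k[[t]] that is closed in the
t-adic topology, over which k[[t]] is a finite module, and such that every power series is carried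
into A by multiplication with some nonzero element of A (so k[[t]] lies in the fraction field of A
and is its normalisation, as for the complete local ring of a unibranch curve singularity), and let
Γ ⊆ ℕ be the set of t-orders of the nonzero elements of A (its value semigroup); assume moreover
that A is the monomial ring of Γ (a power series lies in A exactly when all its exponents lie in Γ),
and let δ be the number of gaps of Γ. Then every finitely generated torsion-free A-module of rank
one is isomorphic to an A-submodule M' of k[[t]] with t^{2δ} k[[t]] ⊆ M' and dim_k(k[[t]]/M') = δ,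
equivalently dim_k(M'/t^{2δ}k[[t]]) = δ: every isomorphism class of rank-one torsion-free modules is
represented by a δ-dimensional A-stable subspace of k[[t]]/t^{2δ}k[[t]]. -/
theorem result (k : Type u) [Field k] [IsAlgClosed k] (A : Subalgebra k (PowerSeries k)) (hA : Module.Finite ↥A (PowerSeries k)) (hcl : ∀ f : PowerSeries k, (∀ n : ℕ, ∃ g ∈ A, (n : ℕ∞) ≤ PowerSeries.order (f - g)) → f ∈ A) (hsing : A ≠ ⊤) (hbir : ∀ f : PowerSeries k, ∃ a ∈ A, a ≠ 0 ∧ a * f ∈ A) (Γ : Set ℕ) (hΓ : ∀ n : ℕ, n ∈ Γ ↔ ∃ f ∈ A, PowerSeries.order f = n) (hmono : ∀ f : PowerSeries k, f ∈ A ↔ ∀ n : ℕ, PowerSeries.coeff n f ≠ 0 → n ∈ Γ) (M : Type u) [AddCommGroup M] [Module ↥A M] [Module.Finite ↥A M] [NoZeroSMulDivisors ↥A M] (hrk : Module.finrank (FractionRing ↥A) (TensorProduct ↥A (FractionRing ↥A) M) = 1) : ∃ M' : Submodule ↥A (PowerSeries k), (Ideal.span {(PowerSeries.X : PowerSeries k) ^ (2 * Γᶜ.ncard)}).restrictScalars ↥A ≤ M' ∧ Nonempty (M ≃ₗ[↥A] ↥M') ∧ Module.finrank k (PowerSeries k ⧸ M'.restrictScalars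 k) = Γᶜ.ncard := by
  classical
  haveI : IsDomain ↥A := inferInstance
  -- the semigroup
  have hΓ0 : (0 : ℕ) ∈ Γ := (hΓ 0).mpr ⟨1, one_mem A, by simp⟩
  have hΓadd : ∀ a ∈ Γ, ∀ b ∈ Γ, a + b ∈ Γ := fun a ha b hb => by
    obtain ⟨f, hf, hfo⟩ := (hΓ a).mp ha
    obtain ⟨g, hg, hgo⟩ := (hΓ b).mp hb
    exact (hΓ _).mpr ⟨f * g, mul_mem hf hg, by rw [PowerSeries.order_mul, hfo, hgo]; push_cast; rfl⟩
  obtain ⟨s, hs⟩ := hA.fg_top
  choose a haA ha0 haf using hbir
  have hconst : ∀ f : PowerSeries k, (∏ i ∈ s, a i) * f ∈ A := fun f => by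
    have hf : f ∈ Submodule.span ↥A (s : Set (PowerSeries k)) := hs.symm ▸ Submodule.mem_top
    induction hf using Submodule.span_induction with
    | mem x hx =>
      rw [← Finset.prod_erase_mul s a (Finset.mem_coe.mp hx), mul_assoc]
      exact mul_mem (prod_mem fun i _ => haA i) (haf x)
    | zero => simp
    | add x y _ _ hx hy => rw [mul_add]; exact add_mem hx hy
    | smul r x _ hx =>
      rw [Subalgebra.smul_def, smul_eq_mul, mul_left_comm]
      exact mul_mem r.2 hx
  set c := ∏ i ∈ s, a i with hc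
  have hc0 : c ≠ 0 := Finset.prod_ne_zero_iff.mpr fun i _ => ha0 i
  obtain ⟨e0, he0⟩ := ENat.ne_top_iff_exists.mp
    (fun h => hc0 (PowerSeries.order_eq_top.mp h) : c.order ≠ ⊤)
  have hcofin : Γᶜ.Finite := (Set.finite_Iio e0).subset fun n hn => by
    by_contra h
    simp only [Set.mem_Iio, not_lt] at h
    refine hn ((hΓ n).mpr ⟨_, hconst (PowerSeries.X ^ (n - e0)), ?_⟩)
    rw [PowerSeries.order_mul, PowerSeries.order_X_pow, ← he0]
    norm_cast
    omega
  set δ := Γᶜ.ncard with hδ
  have hcond : ∀ n, 2 * δ ≤ n → n ∈ Γ := fun n hn => by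
    by_contra h
    have := gap_bound hcofin hcofin hΓadd h
    omega
  have hAbig : ∀ f : PowerSeries k, (∀ i < 2 * δ, PowerSeries.coeff i f = 0) → f ∈ A :=
    fun f hf => (hmono f).mpr fun n hn => hcond n (by
      by_contra h
      exact hn (hf n (by omega)))
  -- embed `M` in `A`
  have hr : Module.finrank ↥A M = 1 := by
    rw [← Groth.Agent.OneDimLenH4.finrank_tensor (O := ↥A) (N := M) (FractionRing ↥A), hrk]
  obtain ⟨g, hg, htor⟩ := Groth.Agent.OneDimLenH4.exists_free_le (O := ↥A) (N := M)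
  obtain ⟨r, hr0, hrg⟩ := Groth.Agent.OneDimLenH4.exists_smul_mem htor
  let eg := LinearEquiv.ofInjective g hg
  let i0 : Fin (Module.finrank ↥A M) := ⟨0, by omega⟩
  let emb : M →ₗ[↥A] PowerSeries k :=
    (Algebra.linearMap ↥A (PowerSeries k)).comp ((LinearMap.proj i0).comp
      (eg.symm.toLinearMap.comp
        ((r • (LinearMap.id : M →ₗ[↥A] M)).codRestrict (LinearMap.range g) hrg)))
  have hemb : Function.Injective emb := by
    intro x y hxy
    have h1 : eg.symm ⟨r • x, hrg x⟩ i0 = eg.symm ⟨r • y, hrg y⟩ i0 := Subtype.ext hxy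
    have h2 : eg.symm ⟨r • x, hrg x⟩ = eg.symm ⟨r • y, hrg y⟩ := funext fun j => by
      rw [show j = i0 from Fin.ext (show (j : ℕ) = 0 by omega)]; exact h1
    exact smul_right_injective M hr0 (congrArg Subtype.val (eg.symm.injective h2))
  obtain ⟨x0, hx0⟩ : ∃ x : M, emb x ≠ 0 := by
    by_contra! h
    haveI : Subsingleton M := ⟨fun u v => hemb (by rw [h, h])⟩
    rw [Module.finrank_zero_of_subsingleton] at hr
    omega
  have hex : ∃ n, n ∈ ords ((LinearMap.range emb : Submodule ↥A (PowerSeries k)) : Set (PowerSeries k)) :=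
    ⟨_, emb x0, ⟨x0, rfl⟩, (ENat.coe_toNat (fun h => hx0 (PowerSeries.order_eq_top.mp h))).symm⟩
  set e := Nat.find hex with hedef
  obtain ⟨f1, hf1, hf1o⟩ := Nat.find_spec hex
  have hdiv : ∀ f ∈ LinearMap.range emb, (PowerSeries.X : PowerSeries k) ^ e ∣ f := fun f hf => by
    rw [PowerSeries.X_pow_dvd_iff]
    intro i hi
    by_contra h
    have h1 := PowerSeries.order_le i h
    have hne : f.order ≠ ⊤ := ne_top_of_le_ne_top (ENat.natCast_ne_top i) h1
    have h2 := Nat.find_min' hex ⟨f, hf, (ENat.coe_toNat hne).symm⟩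
    have h3 : f.order.toNat ≤ i := ENat.toNat_le_of_le_coe h1
    omega
  let μ : ℕ → (PowerSeries k →ₗ[↥A] PowerSeries k) := fun d =>
    LinearMap.mulLeft ↥A ((PowerSeries.X : PowerSeries k) ^ d)
  have hμ : ∀ d, Function.Injective (μ d) := fun d =>
    mul_right_injective₀ (pow_ne_zero d PowerSeries.X_ne_zero)
  let N : Submodule ↥A (PowerSeries k) := (LinearMap.range emb).comap (μ e)
  have hNmap : N.map (μ e) = LinearMap.range emb :=
    Submodule.map_comap_eq_self fun f hf => by
      obtain ⟨q, hq⟩ := hdiv f hf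
      exact ⟨q, hq.symm⟩
  obtain ⟨f0, hf0⟩ := hdiv f1 hf1
  have hf0N : f0 ∈ N := by
    show μ e f0 ∈ LinearMap.range emb
    rwa [show μ e f0 = f1 from hf0.symm]
  have hf0o : f0.order = 0 := by
    rw [hf0, PowerSeries.order_mul, PowerSeries.order_X_pow] at hf1o
    exact WithTop.add_left_cancel (ENat.natCast_ne_top e) (hf1o.trans (add_zero _).symm)
  have hu : PowerSeries.constantCoeff f0 ≠ 0 := by
    rw [← PowerSeries.coeff_zero_eq_constantCoeff_apply]
    exact (PowerSeries.order_eq_nat.mp (by exact_mod_cast hf0o)).1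
  set S := ords (N : Set (PowerSeries k)) with hS
  have hGS : ∀ a ∈ Γ, ∀ n ∈ S, a + n ∈ S := fun a ha n hn => by
    obtain ⟨f, hf, hfo⟩ := (hΓ a).mp ha
    obtain ⟨h, hh, hho⟩ := hn
    exact ⟨(⟨f, hf⟩ : ↥A) • h, N.smul_mem _ hh, by
      rw [Subalgebra.smul_def, smul_eq_mul, PowerSeries.order_mul, hfo, hho]; push_cast; rfl⟩
  have h0S : (0 : ℕ) ∈ S := ⟨f0, hf0N, by exact_mod_cast hf0o⟩
  have hΓS : Sᶜ ⊆ Γᶜ := fun n hn hnΓ => hn (by simpa using hGS n hnΓ 0 h0S)
  have hSfin : Sᶜ.Finite := hcofin.subset hΓS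
  have hgle : Sᶜ.ncard ≤ δ := Set.ncard_le_ncard hΓS hcofin
  have hNbig : ∀ h : PowerSeries k, (∀ i < 2 * δ, PowerSeries.coeff i h = 0) → h ∈ N := fun h hh => by
    obtain ⟨q, rfl⟩ := PowerSeries.X_pow_dvd_iff.mpr hh
    have hmem : PowerSeries.X ^ (2 * δ) * (q * f0⁻¹) ∈ A :=
      hAbig _ (PowerSeries.X_pow_dvd_iff.mp (dvd_mul_right _ _))
    have h1 := N.smul_mem (⟨_, hmem⟩ : ↥A) hf0N
    rw [Subalgebra.smul_def, smul_eq_mul, mul_assoc, mul_assoc, PowerSeries.inv_mul_cancel _ hu,
      mul_one] at h1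
    exact h1
  set gg := Sᶜ.ncard with hgg
  have hNcond : ∀ h : PowerSeries k, (∀ i < δ + gg, PowerSeries.coeff i h = 0) → h ∈ N :=
    mem_of_orders (N.restrictScalars k) (2 * δ) hNbig (δ + gg) fun n hn => by
      by_contra h
      have := gap_bound hcofin hSfin hGS h
      omega
  set d := δ - gg with hd
  refine ⟨N.map (μ d), ?_, ⟨?_⟩, ?_⟩
  · intro f hf
    rw [Submodule.restrictScalars_mem, Ideal.mem_span_singleton] at hf
    obtain ⟨q, rfl⟩ := hf
    refine ⟨PowerSeries.X ^ (δ + gg) * q,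
      hNcond _ (PowerSeries.X_pow_dvd_iff.mp (dvd_mul_right _ _)), ?_⟩
    show PowerSeries.X ^ d * (PowerSeries.X ^ (δ + gg) * q) = _
    rw [← mul_assoc, ← pow_add, show d + (δ + gg) = 2 * δ by omega]
  · exact ((LinearEquiv.ofInjective emb hemb).trans (LinearEquiv.ofEq _ _ hNmap.symm)).trans
      ((Submodule.equivMapOfInjective (μ e) (hμ e) N).symm.trans
        (Submodule.equivMapOfInjective (μ d) (hμ d) N))
  · have hbig : ∀ h : PowerSeries k, (∀ i < 2 * δ, PowerSeries.coeff i h = 0) →
        h ∈ (N.map (μ d)).restrictScalars k := fun h hh => by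
      obtain ⟨q, rfl⟩ := PowerSeries.X_pow_dvd_iff.mpr hh
      refine ⟨PowerSeries.X ^ (δ + gg) * q,
        hNcond _ (PowerSeries.X_pow_dvd_iff.mp (dvd_mul_right _ _)), ?_⟩
      show PowerSeries.X ^ d * (PowerSeries.X ^ (δ + gg) * q) = _
      rw [← mul_assoc, ← pow_add, show d + (δ + gg) = 2 * δ by omega]
    rw [finrank_quot _ (2 * δ) hbig]
    have hset : (ords (((N.map (μ d)).restrictScalars k : Submodule k (PowerSeries k)) :
        Set (PowerSeries k)))ᶜ = Set.Iio d ∪ (fun n => d + n) '' Sᶜ := by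
      ext n
      simp only [Set.mem_compl_iff, Set.mem_union, Set.mem_Iio, Set.mem_image]
      constructor
      · intro hn
        by_cases hnd : n < d
        · exact Or.inl hnd
        refine Or.inr ⟨n - d, fun hmem => hn ?_, by omega⟩
        obtain ⟨f, hf, hfo⟩ := hmem
        refine ⟨μ d f, ⟨f, hf, rfl⟩, ?_⟩
        show (PowerSeries.X ^ d * f).order = _
        rw [PowerSeries.order_mul, PowerSeries.order_X_pow, hfo]
        norm_cast
        omega
      · rintro hn ⟨_, ⟨f, hf, rfl⟩, hfo⟩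
        change (PowerSeries.X ^ d * f).order = _ at hfo
        rw [PowerSeries.order_mul, PowerSeries.order_X_pow] at hfo
        have hne : f.order ≠ ⊤ := fun h => by
          rw [h, add_top] at hfo
          exact ENat.top_ne_coe n hfo
        obtain ⟨m, hm⟩ := ENat.ne_top_iff_exists.mp hne
        rw [← hm] at hfo
        norm_cast at hfo
        rcases hn with hn | ⟨m', hm', rfl⟩
        · omega
        · exact hm' ⟨f, hf, by rw [← hm]; norm_cast; omega⟩
    rw [hset, Set.ncard_union_eq (Set.disjoint_left.mpr fun n hn hn' => by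
        obtain ⟨m, -, rfl⟩ := hn'
        simp only [Set.mem_Iio] at hn
        omega) (Set.finite_Iio d) (hSfin.image _),
      Set.ncard_image_of_injective _ (add_right_injective d)]
    rw [show Set.Iio d = ((Finset.range d : Finset ℕ) : Set ℕ) by simp, Set.ncard_coe_finset,
      Finset.card_range]
    omega

end Groth.Agent.S15023
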