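import Groth.Statements.S15028
import Groth.Agent.CurveDeg.Basic
import Groth.Agent.QCohLib.StalkRestrict
-- import your own Groth.Agent.* helpers here

set_option autoImplicit false
set_option backward.isDefEq.respectTransparency false
universe u
open CategoryTheory CategoryTheory.Limits AlgebraicGeometry
open TFCurv

namespace Groth.Agent.S15028

/-- Let X be an integral proper curve (integral, proper, of dimension one) over an algebraically closed
field k, and let f : E → F be a monomorphism of coherent torsion-free O_X-modules which is
generically an isomorphism (the stalk of its cokernel at the generic point vanishes), with E of rank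
n at the generic point. Then deg E ≤ deg F, degrees being taken as modules of rank n (Euler
characteristic minus n times that of O_X), and equality holds if and only if f is an isomorphism.
(The published statement covers in the same words bundles with parabolic structure and a weight α <
1; only the case without parabolic structure is stated here.) -/
theorem result (k : Type u) [Field k] [IsAlgClosed k] (X : Scheme.{u}) [X.Over (Spec (CommRingCat.of k))] [IsIntegral X] [IsProper (X ↘ Spec (CommRingCat.of k))] (hdim : topologicalKrullDim X = 1) (E F : X.Modules) (hEc : Coh.IsCoh E) (hFc : Coh.IsCoh F) (hEt : TorSh.IsTorsionFree E) (hFt : TorSh.IsTorsionFree F) (n : ℕ) (hn : Module.finrank (X.presheaf.stalk (genericPoint X)) (E.presheaf.stalk (genericPoint X)) = n) (f : E ⟶ F) [Mono f] (hgen : Subsingleton ((cokernel f).presheaf.stalk (genericPoint X))) : Curv2.deg k X E n ≤ Curv2.deg k X F n ∧ (Curv2.deg k X E n = Curv2.deg k X F n ↔ IsIso f) := by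
  haveI : IsLocallyNoetherian X := LocallyOfFiniteType.isLocallyNoetherian (X ↘ Spec (CommRingCat.of k))
  have hQ := Groth.Agent.QCohLib.isCoh_cokernel f hEc.1 hFc
  have hcl := Groth.Agent.QCohLib.isClosed_support hQ.2
  have hne : genericPoint X ∉ CohB1.support (cokernel f) :=
    fun h => (show ¬ Subsingleton ((cokernel f).presheaf.stalk (genericPoint X)) from
      not_subsingleton_iff_nontrivial.2 (not_subsingleton_iff_nontrivial.1 h)) hgen
  have hd := Groth.Agent.CurveDeg.dim_compl_le_zero hdim.le (U := ⟨(CohB1.support (cokernel f))ᶜ, hcl.isOpen_compl⟩)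
    ⟨genericPoint X, hne⟩ hcl (Set.disjoint_left.mpr fun y hy hy' => hy' hy)
  let S := ShortComplex.mk f (cokernel.π f) (cokernel.condition f)
  have hS : S.ShortExact := { exact := ShortComplex.exact_of_g_is_cokernel _ (cokernelIsCokernel _) }
  have he := Groth.Agent.HilbPoly.euler_additive (k := k) hS hEc hFc hQ
  dsimp only [S] at he
  have h0 := Groth.Agent.CurveDeg.euler_nonneg_of_dim_zero k hQ hd
  refine ⟨by simp only [Curv2.deg]; linarith, fun heq => ?_, fun hiso => ?_⟩
  · have hz : IsZero (cokernel f) := Groth.Agent.QCohLib.isZero_of_subsingleton_stalk fun x => by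
      by_contra hx
      have hp := Groth.Agent.CurveDeg.euler_pos_of_dim_zero k hQ hd (x := x) hx
      simp only [Curv2.deg] at heq
      linarith
    haveI : Epi f := Abelian.epi_of_cokernel_π_eq_zero f (hz.eq_of_tgt _ _)
    exact isIso_of_mono_of_epi f
  · have hz : IsZero (cokernel f) := IsZero.of_epi_eq_zero (cokernel.π f)
      ((cancel_epi f).1 (by rw [cokernel.condition, comp_zero]))
    have hT : (ShortComplex.mk (𝟙 F) (0 : F ⟶ cokernel f) comp_zero).ShortExact :=
      haveI : Epi (0 : F ⟶ cokernel f) := ⟨fun a b _ => hz.eq_of_src a b⟩
      { exact := ShortComplex.exact_of_g_is_cokernel _ (CokernelCofork.IsColimit.ofπ (0 : F ⟶ cokernel f) comp_zero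
          (fun g _ => 0) (fun g hg => by simpa using hg.symm) (fun g _ m _ => hz.eq_of_src _ _)) }
    have hF := Groth.Agent.HilbPoly.euler_additive (k := k) hT hFc hFc hQ
    dsimp only at hF
    simp only [Curv2.deg]
    linarith

end Groth.Agent.S15028
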