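import Groth.Statements.S7067
import Groth.Agent.DRingPC.Rel
import Groth.Agent.PCohLib.Coherent
-- import your own Groth.Agent.* helpers here

set_option autoImplicit false
universe u
attribute [local instance] HasDerivedCategory.standard
open MoreMor

namespace Groth.Agent.S7067

/-- A finite type homomorphism of commutative rings A → B with A Noetherian is pseudo-coherent: for some
presentation of B as a quotient of a polynomial ring A[x_1, …, x_n], B is a pseudo-coherent module
over that polynomial ring. -/
theorem result (A B : Type u) [CommRing A] [CommRing B] [Algebra A B]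
    [IsNoetherianRing A] [Algebra.FiniteType A B] : MoreMor.IsPseudoCoherentHom A B := by
  obtain ⟨n, α, hα⟩ := Groth.Agent.DRingPC.exists_presentation_ft A B
  refine ⟨n, α, hα, ?_⟩
  letI := α.toRingHom.toAlgebra
  haveI : Module.Finite (MvPolynomial (Fin n) A) B :=
    Module.Finite.of_surjective (Algebra.linearMap (MvPolynomial (Fin n) A) B) hα
  rw [Groth.Agent.DRingPC.isPCModule'_iff]
  intro j
  exact Groth.Agent.PCohLib.NPC_single_of_coh (Groth.Agent.DRingPC.FF.sum _) (Groth.Agent.DRingPC.FF.ql _)
    (fun X _ => Groth.Agent.DRingPC.precoh_of_noetherian X) ((Groth.Agent.DRingPC.coh_iff_finite (ModuleCat.of _ B)).2 inferInstance) j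

end Groth.Agent.S7067
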