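import Groth.Statements.S15036
import Mathlib.Data.Nat.Nth

set_option autoImplicit false
open TFCurv

namespace Groth.Agent.S15036

/-- Let Γ be a numerical semigroup (a submonoid of (ℕ, +) with finite complement), Γ ≠ ℕ, with conductor
c (every n ≥ c lies in Γ, c − 1 does not); let S ⊆ ℕ be a Γ-module in normal form (0 ∈ S, γ + s ∈ S
for γ ∈ Γ, s ∈ S) with conductor c(S) (all n ≥ c(S) in S, c(S) − 1 ∉ S), and let s be a gap of S
such that S ∪ {s} is again a Γ-module. Enumerate S increasingly as s_0 < s_1 < ⋯ and put τ_i(S) =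
s_i + ℓ(S), where ℓ counts the gaps of Γ filled; since ℓ(S ∪ {s}) = ℓ(S) + 1, the termwise
comparison τ(S) ≤ τ(S ∪ {s}) says that the i-th element of S is at most one more than the i-th
element of S ∪ {s} for every i. This holds if and only if s = c(S) − 1, the largest gap of S. -/
theorem result (Γ : AddSubmonoid ℕ) (c : ℕ) (hc : ∀ n : ℕ, c ≤ n → n ∈ Γ) (hc0 : c ≠ 0) (hc1 : c - 1 ∉ Γ) (S : Set ℕ) (hS0 : (0 : ℕ) ∈ S) (hS : ∀ γ : ℕ, γ ∈ Γ → ∀ s : ℕ, s ∈ S → γ + s ∈ S) (cS : ℕ) (hcS : ∀ n : ℕ, cS ≤ n → n ∈ S) (hcS0 : cS ≠ 0) (hcS1 : cS - 1 ∉ S) (s : ℕ) (hs : s ∉ S) (hs' : ∀ γ : ℕ, γ ∈ Γ → γ ≠ 0 → s + γ ∈ S) : (∀ i : ℕ, Nat.nth (fun m => m ∈ S) i ≤ Nat.nth (fun m => m ∈ insert s S) i + 1) ↔ s + 1 = cS := by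
  classical
  have hinf : {m | m ∈ S}.Infinite := by
    apply Set.infinite_of_not_bddAbove
    rintro ⟨b, hb⟩
    have := hb (show max cS (b+1) ∈ {m | m ∈ S} from hcS _ (le_max_left _ _))
    omega
  have hinfT : {m | m ∈ insert s S}.Infinite := hinf.mono (fun m hm => Set.mem_insert_of_mem s hm)
  have hcnt : ∀ n, Nat.count (fun m => m ∈ insert s S) n
      = Nat.count (fun m => m ∈ S) n + (if s < n then 1 else 0) := by
    intro n
    induction n with
    | zero => simp
    | succ n ih =>
      rw [Nat.count_succ, Nat.count_succ, ih]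
      by_cases h : n = s
      · subst h; simp [hs]
      · have : (n ∈ insert s S) ↔ n ∈ S := by simp [h]
        have h1 : (s < n + 1) ↔ s < n := by omega
        simp only [this, h1]
        omega
  constructor
  · intro h
    have hslt : s < cS := by
      by_contra hh
      exact hs (hcS s (by omega))
    by_contra hne
    set n := cS - 1 with hn
    have hsn : s < n := by omega
    set i := Nat.count (fun m => m ∈ S) n
    have h1 : Nat.nth (fun m => m ∈ insert s S) i < n := by
      apply Nat.nth_lt_of_lt_count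
      rw [hcnt n, if_pos hsn]
      omega
    have h2 : n ≤ Nat.nth (fun m => m ∈ S) i := Nat.le_nth_count hinf n
    have h3 : Nat.nth (fun m => m ∈ S) i ≠ n := fun e => hcS1 (by
      have := Nat.nth_mem_of_infinite hinf i; rwa [e] at this)
    have := h i
    omega
  · intro hsc i
    set t := Nat.nth (fun m => m ∈ insert s S) i with ht
    have hct : Nat.count (fun m => m ∈ insert s S) (t+1) = i + 1 := Nat.count_nth_succ_of_infinite hinfT i
    have : Nat.nth (fun m => m ∈ S) i < t + 2 := by
      apply Nat.nth_lt_of_lt_count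
      rw [Nat.count_succ]
      have e := hcnt (t+1)
      rw [hct] at e
      by_cases hts : s < t + 1
      · rw [if_pos hts] at e
        rw [if_pos (hcS (t+1) (by omega))]
        omega
      · rw [if_neg hts] at e
        omega
    omega

end Groth.Agent.S15036
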