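import Groth.Statements.S15037
import Mathlib
-- import your own Groth.Agent.* helpers here

set_option autoImplicit false
open TFCurv

namespace Groth.Agent.S15037

/-- Let Γ be a numerical semigroup (a submonoid of (ℕ, +) with finite complement), Γ ≠ ℕ, with conductor
c (every n ≥ c lies in Γ, c − 1 does not); let S and S' ⊆ ℕ be Γ-modules in normal form with
conductors c(S), c(S'), let δ(S), δ(S') be their numbers of gaps and r(S), r(S') their numbers of
elements below the conductor, and enumerate them increasingly as s_i, s'_i (i ≥ 0). With τ_i(S) =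
s_i + ℓ(S) and ℓ(S) = δ(Γ) − δ(S), the termwise order τ(S) ≤ τ(S') reads s_i + δ(S') ≤ s'_i + δ(S)
for all i. It holds if and only if r(S') ≤ r(S) and s_i + δ(S') ≤ s'_i + δ(S) for all i < r(S')
(beyond r(S) the entries τ_i(S) = i + δ(Γ) are the largest possible). -/
theorem result (Γ : AddSubmonoid ℕ) (c : ℕ) (hc : ∀ n : ℕ, c ≤ n → n ∈ Γ) (hc0 : c ≠ 0) (hc1 : c - 1 ∉ Γ) (S : Set ℕ) (hS0 : (0 : ℕ) ∈ S) (hS : ∀ γ : ℕ, γ ∈ Γ → ∀ s : ℕ, s ∈ S → γ + s ∈ S) (cS : ℕ) (hcS : ∀ n : ℕ, cS ≤ n → n ∈ S) (hcS1 : cS = 0 ∨ cS - 1 ∉ S) (S' : Set ℕ) (hS'0 : (0 : ℕ) ∈ S') (hS' : ∀ γ : ℕ, γ ∈ Γ → ∀ s : ℕ, s ∈ S' → γ + s ∈ S') (cS' : ℕ) (hcS' : ∀ n : ℕ, cS' ≤ n → n ∈ S') (hcS'1 : cS' = 0 ∨ cS' - 1 ∉ S') : (∀ i : ℕ, Nat.nth (fun m => m ∈ S) i + S'ᶜ.ncard ≤ Nat.nth (fun m => m ∈ S') i + Sᶜ.ncard) ↔ ((S' ∩ Set.Iio cS').ncard ≤ (S ∩ Set.Iio cS).ncard ∧ ∀ i : ℕ, i < (S' ∩ Set.Iio cS').ncard → Nat.nth (fun m => m ∈ S) i + S'ᶜ.ncard ≤ Nat.nth (fun m => m ∈ S') i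 + Sᶜ.ncard) := by
  classical
  have key : ∀ (T : Set ℕ) (cT : ℕ), (∀ n, cT ≤ n → n ∈ T) →
      (T ∩ Set.Iio cT).ncard + Tᶜ.ncard = cT ∧
      (∀ i, (T ∩ Set.Iio cT).ncard ≤ i → Nat.nth (fun m => m ∈ T) i = i + Tᶜ.ncard) ∧
      (∀ i, Nat.nth (fun m => m ∈ T) i ≤ i + Tᶜ.ncard) ∧
      (∀ i, i < (T ∩ Set.Iio cT).ncard → Nat.nth (fun m => m ∈ T) i < cT ∧ Nat.nth (fun m => m ∈ T) i ∈ T) := by
    intro T cT hT
    set p := fun m => m ∈ T
    have hinf : (setOf p).Infinite := Set.Infinite.mono (fun n hn => hT n hn) (Set.Ici_infinite cT)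
    have hcount : ∀ n, (T ∩ Set.Iio n).ncard = Nat.count p n := fun n => by
      rw [Nat.count_eq_card_filter_range, ← Set.ncard_coe_finset]
      congr 1
      ext m
      simp [p, and_comm]
    have hfin : Tᶜ.Finite := (Set.finite_Iio cT).subset fun m hm => by
      by_contra h
      exact hm (hT m (not_lt.1 h))
    have hsum : (T ∩ Set.Iio cT).ncard + Tᶜ.ncard = cT := by
      rw [← Set.ncard_union_eq (disjoint_compl_right.mono_left Set.inter_subset_left) ((Set.finite_Iio cT).inter_of_right _) hfin]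
      have : T ∩ Set.Iio cT ∪ Tᶜ = Set.Iio cT := by
        ext m
        simp only [Set.mem_union, Set.mem_inter_iff, Set.mem_Iio, Set.mem_compl_iff]
        constructor
        · rintro (h | h)
          · exact h.2
          · by_contra h'
            exact h (hT m (not_lt.1 h'))
        · intro h
          by_cases hm : m ∈ T
          · exact Or.inl ⟨hm, h⟩
          · exact Or.inr hm
      rw [this, Set.ncard_Iio_nat]
    have hhigh : ∀ j, Nat.count p (cT + j) = (T ∩ Set.Iio cT).ncard + j := by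
      intro j
      induction j with
      | zero => rw [Nat.add_zero, Nat.add_zero, hcount]
      | succ j ih => rw [← Nat.add_assoc, Nat.count_succ, ih, if_pos (hT _ (by omega)), Nat.add_assoc]
    refine ⟨hsum, fun i hi => ?_, fun i => ?_, fun i hi => ?_⟩
    · obtain ⟨j, rfl⟩ := Nat.exists_eq_add_of_le hi
      have h1 := Nat.nth_count (p := p) (hT (cT + j) (by omega))
      rw [hhigh] at h1
      omega
    · have hcn := Nat.count_nth_of_infinite hinf i
      set n := Nat.nth p i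
      rw [← hcount] at hcn
      have hle : (Set.Iio n).ncard ≤ (T ∩ Set.Iio n).ncard + Tᶜ.ncard := by
        refine (Set.ncard_le_ncard (fun m hm => ?_) (((Set.finite_Iio n).inter_of_right _).union hfin)).trans (Set.ncard_union_le _ _)
        by_cases h : m ∈ T
        · exact Or.inl ⟨h, hm⟩
        · exact Or.inr h
      rw [Set.ncard_Iio_nat] at hle
      omega
    · rw [hcount] at hi
      exact ⟨Nat.nth_lt_of_lt_count hi, Nat.nth_mem_of_infinite hinf i⟩
  obtain ⟨hs, hhi, hle, hlo⟩ := key S cS hcS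
  obtain ⟨hs', hhi', hle', hlo'⟩ := key S' cS' hcS'
  constructor
  · intro h
    refine ⟨?_, fun i _ => h i⟩
    by_contra hlt
    push Not at hlt
    have h1 := h ((S' ∩ Set.Iio cS').ncard - 1)
    have h2 := hhi ((S' ∩ Set.Iio cS').ncard - 1) (by omega)
    obtain ⟨h3, h4⟩ := hlo' ((S' ∩ Set.Iio cS').ncard - 1) (by omega)
    have h5 : Nat.nth (fun m => m ∈ S') ((S' ∩ Set.Iio cS').ncard - 1) ≠ cS' - 1 := fun he => by
      rcases hcS'1 with h0 | h0
      · omega
      · exact h0 (he ▸ h4)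
    omega
  · rintro ⟨-, h⟩ i
    by_cases hi : i < (S' ∩ Set.Iio cS').ncard
    · exact h i hi
    · have := hhi' i (not_lt.1 hi)
      have := hle i
      omega

end Groth.Agent.S15037
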