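import Groth.Statements.S15038
import Mathlib
-- import your own Groth.Agent.* helpers here

set_option autoImplicit false
open TFCurv

namespace Groth.Agent.S15038

/-- Let Γ be a numerical semigroup (a submonoid of (ℕ, +) with finite complement), Γ ≠ ℕ, with conductor
c (every n ≥ c lies in Γ, c − 1 does not). If Γ is symmetric (for x < c, x is a gap exactly when c −
1 − x ∈ Γ) and its multiplicity e, the least nonzero element of Γ, is greater than 2, then Γ is
generated as an additive monoid by at most e − 1 elements. -/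
theorem result (Γ : AddSubmonoid ℕ) (c : ℕ) (hc : ∀ n : ℕ, c ≤ n → n ∈ Γ) (hc0 : c ≠ 0) (hc1 : c - 1 ∉ Γ) (hsymm : ∀ x : ℕ, x < c → (x ∉ Γ ↔ c - 1 - x ∈ Γ)) (e : ℕ) (he : e ∈ Γ) (he0 : e ≠ 0) (hemin : ∀ γ : ℕ, γ ∈ Γ → γ ≠ 0 → e ≤ γ) (he2 : 2 < e) : ∃ G : Finset ℕ, G.card ≤ e - 1 ∧ AddSubmonoid.closure (↑G : Set ℕ) = Γ := by
  classical
  have epos : 0 < e := Nat.pos_of_ne_zero he0
  have hex : ∀ i, ∃ n, n ∈ Γ ∧ n % e = i % e := fun i => by
    refine ⟨c * e + i, hc _ ?_, by simp⟩
    have := Nat.le_mul_of_pos_right c epos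
    omega
  let w : ℕ → ℕ := fun i => Nat.find (hex i)
  have hw : ∀ i, w i ∈ Γ ∧ w i % e = i % e := fun i => Nat.find_spec (hex i)
  set f := (c - 1) % e with hf
  have hmul : ∀ k, k * e ∈ Γ := fun k => by simpa [smul_eq_mul] using Γ.nsmul_mem he k
  have hf0 : f ≠ 0 := fun h => by
    obtain ⟨k, hk⟩ := Nat.dvd_of_mod_eq_zero h
    exact hc1 (by rw [hk, mul_comm]; exact hmul k)
  let G : Finset ℕ := insert e ((((Finset.range e).erase 0).erase f).image w)
  have hfe : f < e := Nat.mod_lt _ epos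
  refine ⟨G, ?_, ?_⟩
  · refine (Finset.card_insert_le _ _).trans ?_
    have h1 : (((Finset.range e).erase 0).erase f).card = e - 2 := by
      rw [Finset.card_erase_of_mem (by simp [hf0, hfe]), Finset.card_erase_of_mem (by simp [epos]),
        Finset.card_range]
      omega
    have h2 := Finset.card_image_le (s := ((Finset.range e).erase 0).erase f) (f := w)
    omega
  apply le_antisymm
  · rw [AddSubmonoid.closure_le]
    intro x hx
    simp only [G, Finset.coe_insert, Finset.coe_image, Set.mem_insert_iff, Set.mem_image] at hx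
    rcases hx with rfl | ⟨i, -, rfl⟩
    · exact he
    · exact (hw i).1
  set C := AddSubmonoid.closure (↑G : Set ℕ) with hC
  have heC : ∀ k, k * e ∈ C := fun k => by
    have : e ∈ C := AddSubmonoid.subset_closure (by simp [G])
    simpa [smul_eq_mul] using C.nsmul_mem this k
  have hne : ∀ x ∈ Γ, x % e ≠ f → x ∈ C := by
    intro x hx hxf
    by_cases h0 : x % e = 0
    · obtain ⟨k, rfl⟩ := Nat.dvd_of_mod_eq_zero h0
      rw [mul_comm]
      exact heC k
    · have hle : w (x % e) ≤ x := Nat.find_le ⟨hx, (Nat.mod_mod _ _).symm⟩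
      have hmod : w (x % e) % e = x % e := (hw _).2.trans (Nat.mod_mod _ _)
      obtain ⟨k, hk⟩ := (Nat.modEq_iff_dvd' hle).mp hmod
      have hxe : x = w (x % e) + k * e := by rw [mul_comm, ← hk]; omega
      rw [hxe]
      refine add_mem (AddSubmonoid.subset_closure ?_) (heC k)
      simp only [G, Finset.coe_insert, Finset.coe_image, Set.mem_insert_iff, Set.mem_image]
      exact Or.inr ⟨x % e, by simp [h0, hxf, Nat.mod_lt _ epos], rfl⟩
  intro x hx
  by_cases hxf : x % e = f
  swap
  · exact hne x hx hxf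
  obtain ⟨i, hi0, hie, hif⟩ : ∃ i, i ≠ 0 ∧ i < e ∧ i ≠ f := by
    by_cases h : f = 1
    · exact ⟨2, by omega, by omega, by omega⟩
    · exact ⟨1, by omega, by omega, fun h' => h h'.symm⟩
  have hwi0 : w i ≠ 0 := fun h => by
    have h1 := (hw i).2
    rw [h, Nat.zero_mod, Nat.mod_eq_of_lt hie] at h1
    exact hi0 h1.symm
  have hwe : e ≤ w i := hemin _ (hw i).1 hwi0
  have hnot : w i - e ∉ Γ := fun h => by
    refine Nat.find_min (hex i) (show w i - e < w i by omega) ⟨h, ?_⟩
    rw [← Nat.mod_eq_sub_mod hwe]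
    exact (hw i).2
  have hlt : w i - e < c := not_le.mp fun h => hnot (hc _ h)
  have hy := (hsymm _ hlt).mp hnot
  have hyC : c - 1 - (w i - e) ∈ C := by
    refine hne _ hy fun h => ?_
    have h1 : (c - 1 - (w i - e) + (w i - e)) % e = f := by
      rw [Nat.sub_add_cancel (by omega)]
    have h2 : (w i - e) % e = i := by
      rw [← Nat.mod_eq_sub_mod hwe, (hw i).2, Nat.mod_eq_of_lt hie]
    rw [Nat.add_mod, h, h2] at h1
    have h3 : (f + i) % e = f := h1
    rcases lt_or_ge (f + i) e with h4 | h4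
    · rw [Nat.mod_eq_of_lt h4] at h3
      omega
    · rw [Nat.mod_eq_sub_mod h4, Nat.mod_eq_of_lt (by omega)] at h3
      omega
  have hwiC : w i ∈ C := by
    refine hne _ (hw i).1 ?_
    rw [(hw i).2, Nat.mod_eq_of_lt hie]
    exact hif
  have hgt : c - 1 < x := by
    by_contra hle
    obtain ⟨k, hk⟩ := (Nat.modEq_iff_dvd' (not_lt.mp hle)).mp (hxf.trans hf)
    have h1 := add_mem hx (hmul k)
    rw [show x + k * e = c - 1 by rw [mul_comm, ← hk]; omega] at h1
    exact hc1 h1
  obtain ⟨k, hk⟩ := (Nat.modEq_iff_dvd' hgt.le).mp (hxf.trans hf).symm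
  have hk1 : 1 ≤ k := by
    by_contra h
    have : k = 0 := by omega
    rw [this, mul_zero] at hk
    omega
  have hk2 : x = (c - 1 - (w i - e) + w i) + (k - 1) * e := by
    obtain ⟨j, rfl⟩ := Nat.exists_eq_add_of_le hk1
    rw [Nat.add_sub_cancel_left]
    rw [show e * (1 + j) = e + j * e by ring] at hk
    omega
  rw [hk2]
  exact add_mem (add_mem hyC hwiC) (heC _)

end Groth.Agent.S15038
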