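import Groth.Statements.S15046
import Groth.Agent.SmoothFrob.Main
import Mathlib
-- import your own Groth.Agent.* helpers here

set_option autoImplicit false
open CategoryTheory AlgebraicGeometry
universe u
open Quiet

namespace Groth.Agent.S15046

open TensorProduct in
/-- The absolute Frobenius of an algebra over a perfect ring is its relative Frobenius. -/
theorem exists_twistEquiv (p : ℕ) [Fact p.Prime] (k : Type u) [Field k] [CharP k p] [PerfectRing k p]
    (A : Type u) [CommRing A] [Algebra k A] [CharP A p] :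
    ∃ ι : A ≃+* FrobAlg.BaseChange p k A, ∀ a, ι a = a ⊗ₜ FrobAlg.toTwist p k 1 ∧
      FrobAlg.relFrob p k A (ι a) = a ^ p := by
  have hb : Function.Bijective (Algebra.ofId k (FrobAlg.Twist p k)) :=
    (FrobAlg.toTwist p k).bijective.comp (bijective_frobenius k p)
  let t : k ≃ₐ[k] FrobAlg.Twist p k := AlgEquiv.ofBijective _ hb
  let e : A ≃ₐ[k] FrobAlg.BaseChange p k A :=
    (Algebra.TensorProduct.rid k k A).symm.trans (Algebra.TensorProduct.congr AlgEquiv.refl t)
  have he : ∀ a, e a = a ⊗ₜ FrobAlg.toTwist p k 1 := fun a => by simp [e, t]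
  exact ⟨e.toRingEquiv, fun a => ⟨he a, by
    show FrobAlg.relFrob p k A (e a) = a ^ p
    rw [he, Groth.Agent.SmoothFrob.relFrob_tmul_apply, map_one, mul_one]⟩⟩

theorem hasRoots_frobenius (p : ℕ) [Fact p.Prime] (k : Type u) [Field k] [CharP k p] [PerfectRing k p]
    (L : Type u) [CommRing L] [Algebra k L] [CharP L p] [Algebra.IsStandardSmooth k L] :
    ∃ (n : ℕ) (c : Fin n → L), Groth.Agent.SmoothFrob.HasRoots p (frobenius L p) c c := by
  obtain ⟨n, g, hg⟩ := Groth.Agent.SmoothFrob.exists_etale k L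
  obtain ⟨ι, hι⟩ := exists_twistEquiv p k L
  refine ⟨n, fun i => g (MvPolynomial.X i), ?_⟩
  have h := (Groth.Agent.SmoothFrob.hasRoots_relFrob p k L g hg).conj ι.symm (RingEquiv.refl L)
    (φ' := frobenius L p) (fun r => by
      obtain ⟨a, rfl⟩ := ι.surjective r
      rw [ι.symm_apply_apply, frobenius_def, RingEquiv.refl_apply, (hι a).2])
  have hb : (fun i => ι.symm (g (MvPolynomial.X i) ⊗ₜ FrobAlg.toTwist p k 1)) = fun i => g (MvPolynomial.X i) :=
    funext fun i => ι.symm_apply_eq.2 (hι _).1.symm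
  rw [hb] at h
  exact h

theorem isRootTower_app (p : ℕ) [Fact p.Prime] (R : CommRingCat.{u}) [CharP R p] (g : R)
    [CharP (Localization.Away g) p] {n : ℕ} {c : Fin n → Localization.Away g}
    (h : Groth.Agent.SmoothFrob.HasRoots p (frobenius (Localization.Away g) p) c c)
    (V : (Spec R).Opens) (hV : V = PrimeSpectrum.basicOpen g)
    (φ : Γ(Spec R, PrimeSpectrum.basicOpen g) →+* Γ(Spec R, V))
    (hφ : φ.comp (algebraMap R Γ(Spec R, PrimeSpectrum.basicOpen g)) =
      (algebraMap R Γ(Spec R, V)).comp (frobenius R p)) :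
    letI := φ.toAlgebra
    ∃ n : ℕ, Quiet.IsRootTower p n Γ(Spec R, PrimeSpectrum.basicOpen g) Γ(Spec R, V) := by
  subst hV
  let e : Localization.Away g ≃ₐ[R] Γ(Spec R, PrimeSpectrum.basicOpen g) :=
    IsLocalization.algEquiv (Submonoid.powers g) _ _
  have h' := h.conj e.toRingEquiv e.toRingEquiv (φ' := φ) (by
    have e1 : φ.comp e.toRingEquiv.toRingHom = e.toRingEquiv.toRingHom.comp (frobenius (Localization.Away g) p) := by
      refine IsLocalization.ringHom_ext (Submonoid.powers g) (RingHom.ext fun a => ?_)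
      show φ (e (algebraMap R _ a)) = e (algebraMap R _ a ^ p)
      rw [AlgEquiv.commutes, map_pow, AlgEquiv.commutes, ← map_pow]
      exact RingHom.congr_fun hφ a
    exact fun r => RingHom.congr_fun e1 r)
  letI := φ.toAlgebra
  exact ⟨n, h'.isRootTower p n _ _ _ _⟩

set_option backward.isDefEq.respectTransparency false in
theorem app_comp_algebraMap {R S : CommRingCat.{u}} (f : R ⟶ S) (U : (Spec R).Opens) :
    ((Spec.map f).app U).hom.comp (algebraMap R Γ(Spec R, U)) =
      (algebraMap S Γ(Spec S, Spec.map f ⁻¹ᵁ U)).comp f.hom := by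
  simp only [IsAffineOpen.algebraMap_Spec_obj, ← CommRingCat.hom_comp]
  congr 1
  rw [Category.assoc, Scheme.Hom.naturality, Scheme.ΓSpecIso_inv_naturality_assoc]
  rfl

theorem faithfullyFlat_and_isPthRoot (p : ℕ) [Fact p.Prime]
    (k : Type u) [Field k] [CharP k p] [PerfectRing k p] (A : Type u) [CommRing A] [Algebra k A]
    [CharP A p] [Algebra.Smooth k A] :
    (frobenius A p).FaithfullyFlat ∧
      Quiet.IsPthRoot p (Spec.map (CommRingCat.ofHom (frobenius A p))) := by
  have hp : p.Prime := Fact.out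
  obtain ⟨ι, hι⟩ := exists_twistEquiv p k A
  have hcomap : ∀ x : PrimeSpectrum A, PrimeSpectrum.comap (frobenius A p) x = x := fun x =>
    PrimeSpectrum.ext (Ideal.ext fun a => by
      show frobenius A p a ∈ x.asIdeal ↔ a ∈ x.asIdeal
      rw [frobenius_def]
      exact x.2.pow_mem_iff_mem p hp.pos)
  refine ⟨RingHom.FaithfullyFlat.iff_flat_and_comap_surjective.2 ⟨?_, fun x => ⟨x, hcomap x⟩⟩, fun x => ?_⟩
  · have e : frobenius A p = (FrobAlg.relFrob p k A).comp ι.toRingHom :=
      RingHom.ext fun a => by rw [frobenius_def]; exact (hι a).2.symm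
    rw [e]
    exact (RingHom.Flat.of_bijective ι.bijective).comp (Groth.Agent.SmoothFrob.flat_relFrob p k A)
  obtain ⟨s, hs, hsm⟩ := Algebra.Smooth.exists_span_eq_top_isStandardSmooth k A
  obtain ⟨g, hgs, hgx⟩ : ∃ g ∈ s, g ∉ (x : PrimeSpectrum A).asIdeal := by
    by_contra! h
    exact (x : PrimeSpectrum A).2.ne_top (top_le_iff.1 (hs ▸ Ideal.span_le.2 h))
  haveI : Nontrivial (Localization.Away g) := by
    refine OreLocalization.nontrivial_iff.2 fun h => hgx ?_
    obtain ⟨m, hm⟩ := h
    exact (x : PrimeSpectrum A).2.mem_of_pow_mem m (Eq.mpr (congrArg (· ∈ (x : PrimeSpectrum A).asIdeal) hm) (zero_mem _))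
  haveI := Groth.Agent.SmoothFrob.charP_of_algebra p k (Localization.Away g)
  haveI := hsm g hgs
  obtain ⟨n, c, hc⟩ := hasRoots_frobenius p k (Localization.Away g)
  have hV : Spec.map (CommRingCat.ofHom (frobenius A p)) ⁻¹ᵁ PrimeSpectrum.basicOpen (R := CommRingCat.of A) g =
      PrimeSpectrum.basicOpen (R := CommRingCat.of A) g := by
    rw [SpecMap_preimage_basicOpen]
    exact PrimeSpectrum.basicOpen_pow g p hp.pos
  refine ⟨⟨PrimeSpectrum.basicOpen (R := CommRingCat.of A) g, IsAffineOpen.Spec_basicOpen _⟩, hgx, ?_, ?_⟩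
  · rw [hV]
    exact IsAffineOpen.Spec_basicOpen _
  · exact isRootTower_app p (CommRingCat.of A) g hc _ hV _ (app_comp_algebraMap (CommRingCat.ofHom (frobenius A p)) _)

/-- Let `k` be a perfect field of prime characteristic `p` and `A` a smooth `k`-algebra of
characteristic `p`. Then the Frobenius endomorphism `a ↦ a ^ p` of `A` is faithfully flat, and the
endomorphism of `Spec A` it induces is an extraction of `p`-th roots: every point has an affine open
neighbourhood with affine preimage over which the induced ring map is a tower of finitely many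
elementary extractions `B → B[x]/(x^p - b)`. -/
theorem result (p : ℕ) [Fact p.Prime]
    (k : Type u) [Field k] [CharP k p] [PerfectRing k p] (A : Type u) [CommRing A] [Algebra k A]
    [CharP A p] [Algebra.Smooth k A] :
    (frobenius A p).FaithfullyFlat ∧
      Quiet.IsPthRoot p (Spec.map (CommRingCat.ofHom (frobenius A p))) := by
  exact faithfullyFlat_and_isPthRoot p k A

end Groth.Agent.S15046
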