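import Mathlib
import Groth.Statements.S15047
-- import your own Groth.Agent.* helpers here

set_option autoImplicit false
universe u
open TensorProduct
open Desc

namespace Groth.Agent.S15047

/-- Let A → A' be a faithfully flat homomorphism of commutative rings and M, N any A-modules. An
A'-linear map f : A' ⊗_A M → A' ⊗_A N whose two base changes to A' ⊗_A A' (along a ↦ a ⊗ 1 and a ↦ 1
⊗ a) coincide is the base change of a unique A-linear map h : M → N. Since (A' ⊗_A A') ⊗_A M is
generated over A' ⊗_A A' by the elements 1 ⊗ m, the agreement of the two base changes is stated on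
these generators: for every m, the two images of f (1 ⊗ m) in (A' ⊗_A A') ⊗_A N agree. Equivalently,
the sequence Hom_A(M, N) → Hom_{A'}(A' ⊗ M, A' ⊗ N) ⇉ Hom_{A' ⊗ A'}(A' ⊗ A' ⊗ M, A' ⊗ A' ⊗ N) is an
equalizer diagram. -/
theorem result (A A' : Type u) [CommRing A] [CommRing A'] [Algebra A A']
    [Module.FaithfullyFlat A A'] (M N : Type u) [AddCommGroup M] [Module A M] [AddCommGroup N] [Module A N]
    (f : A' ⊗[A] M →ₗ[A'] A' ⊗[A] N)
    (hf : ∀ m : M,
      LinearMap.rTensor N (Algebra.TensorProduct.includeLeft : A' →ₐ[A] A' ⊗[A] A').toLinearMap (f (1 ⊗ₜ[A] m)) =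
        LinearMap.rTensor N (Algebra.TensorProduct.includeRight : A' →ₐ[A] A' ⊗[A] A').toLinearMap (f (1 ⊗ₜ[A] m))) :
    ∃! h : M →ₗ[A] N, h.baseChange A' = f := by
  classical
  let i : N →ₗ[A] A' ⊗[A] N := TensorProduct.mk A A' N 1
  have hdesc : ∀ z : A' ⊗[A] N, LinearMap.rTensor N (Algebra.TensorProduct.includeLeft : A' →ₐ[A] A' ⊗[A] A').toLinearMap z =
      LinearMap.rTensor N (Algebra.TensorProduct.includeRight : A' →ₐ[A] A' ⊗[A] A').toLinearMap z → z ∈ LinearMap.range i := by
    intro z hz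
    rw [← Submodule.Quotient.mk_eq_zero]
    apply Module.FaithfullyFlat.tensorProduct_mk_injective (A := A) (B := A') _
    rw [map_zero]
    let ψ : (A' ⊗[A] A') ⊗[A] N →ₗ[A] A' ⊗[A] ((A' ⊗[A] N) ⧸ LinearMap.range i) :=
      (LinearMap.range i).mkQ.lTensor A' ∘ₗ (TensorProduct.assoc A A' A' N).toLinearMap
    have hR : ∀ w : A' ⊗[A] N, ψ (LinearMap.rTensor N (Algebra.TensorProduct.includeRight : A' →ₐ[A] A' ⊗[A] A').toLinearMap w) =
        (1 : A') ⊗ₜ[A] (LinearMap.range i).mkQ w := by
      intro w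
      induction w using TensorProduct.induction_on with
      | zero => simp
      | tmul a x => simp [ψ]
      | add a b ha hb => simp only [map_add, TensorProduct.tmul_add, ha, hb]
    have hL : ∀ w : A' ⊗[A] N, ψ (LinearMap.rTensor N (Algebra.TensorProduct.includeLeft : A' →ₐ[A] A' ⊗[A] A').toLinearMap w) = 0 := by
      intro w
      induction w using TensorProduct.induction_on with
      | zero => simp
      | tmul a x =>
        have : (LinearMap.range i).mkQ ((1 : A') ⊗ₜ[A] x) = 0 := (Submodule.Quotient.mk_eq_zero _).2 ⟨x, rfl⟩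
        simp [ψ, -Submodule.mkQ_apply, this]
      | add a b ha hb => simp only [map_add, ha, hb, add_zero]
    show (1 : A') ⊗ₜ[A] (LinearMap.range i).mkQ z = 0
    rw [← hR, ← hz, hL]
  have hinj : Function.Injective i := Module.FaithfullyFlat.tensorProduct_mk_injective (A := A) (B := A') N
  choose h hh using fun m => hdesc _ (hf m)
  refine ⟨{ toFun := h, map_add' := fun a b => hinj ?_, map_smul' := fun r a => hinj ?_ }, ?_, ?_⟩
  · rw [map_add, hh, hh, hh, TensorProduct.tmul_add, map_add]
  · rw [RingHom.id_apply, map_smul, hh, hh, TensorProduct.tmul_smul, LinearMap.map_smul_of_tower]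
  · refine TensorProduct.AlgebraTensorModule.ext fun a m => ?_
    rw [LinearMap.baseChange_tmul]
    show a ⊗ₜ[A] h m = f (a ⊗ₜ[A] m)
    have e1 : a ⊗ₜ[A] h m = a • i (h m) := by simp [i, TensorProduct.smul_tmul']
    have e2 : a ⊗ₜ[A] m = a • ((1 : A') ⊗ₜ[A] m) := by simp [TensorProduct.smul_tmul']
    rw [e1, e2, map_smul, hh]
  · intro g hg
    refine LinearMap.ext fun m => hinj ?_
    show (1 : A') ⊗ₜ[A] g m = i (h m)
    rw [hh, ← hg, LinearMap.baseChange_tmul]

end Groth.Agent.S15047
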