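import Groth.Statements.S15049
import Mathlib
import Groth.Agent.LubinTateLib.Bridge
-- import your own Groth.Agent.* helpers here

set_option autoImplicit false
universe u
open LubinTate

namespace Groth.Agent.S15049

/-- Let O be a discrete valuation ring with finite residue field of cardinality q, π a uniformizer of O,
and f = πT + T^q ∈ O[[T]]. Then there is a one-dimensional commutative formal group law F(X,Y) over
O for which f is an endomorphism, f(F(X,Y)) = F(f(X), f(Y)); and F is the unique power series in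
O[[X,Y]] with zero constant term and linear part X + Y satisfying this identity. (The published
statement is for the ring of integers of a finite extension of ℚ_p or of 𝔽_q((X)); completeness is
not used and any discrete valuation ring with finite residue field is allowed here.) -/
theorem result (O : Type u) [CommRing O] [IsDomain O] [IsDiscreteValuationRing O]
    [Finite (IsLocalRing.ResidueField O)] (π : O) (hπ : Irreducible π) (f : PowerSeries O)
    (hf : f = π • PowerSeries.X + PowerSeries.X ^ Nat.card (IsLocalRing.ResidueField O)) :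
    ∃ F : FormalGroup O, F.IsComm ∧
      PowerSeries.subst F.toPowerSeries f =
        MvPowerSeries.subst (fun i : Fin 2 => PowerSeries.subst (MvPowerSeries.X i : MvPowerSeries (Fin 2) O) f) F.toPowerSeries ∧
      ∀ G : MvPowerSeries (Fin 2) O, G.constantCoeff = 0 → G.coeff (Finsupp.single 0 1) = 1 →
        G.coeff (Finsupp.single 1 1) = 1 →
        PowerSeries.subst G f =
        MvPowerSeries.subst (fun i : Fin 2 => PowerSeries.subst (MvPowerSeries.X i : MvPowerSeries (Fin 2) O) f) G →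
        G = F.toPowerSeries := by
  classical
  set q := Nat.card (IsLocalRing.ResidueField O)
  have hq : 2 ≤ q := Groth.Agent.LubinTateLib.two_le_card
  obtain ⟨F, ⟨hF0, hF1, hFE⟩, huniq⟩ := Groth.Agent.LubinTateLib.existsUnique_series (σ := Fin 2) hπ
    (fun _ => (1 : O))
  have hX : ∀ (n : ℕ) (i : Fin n), MvPowerSeries.constantCoeff (MvPowerSeries.X i : MvPowerSeries (Fin n) O) = 0 :=
    fun n i => MvPowerSeries.constantCoeff_X i
  have key : ∀ (n : ℕ) (a : Fin 2 → MvPowerSeries (Fin n) O), (∀ i, MvPowerSeries.constantCoeff (a i) = 0) →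
      (∀ i, Groth.Agent.LubinTateLib.E π q (a i) = 0) →
      MvPowerSeries.constantCoeff (MvPowerSeries.subst a F) = 0 ∧
      Groth.Agent.LubinTateLib.E π q (MvPowerSeries.subst a F) = 0 ∧
      ∀ j, MvPowerSeries.coeff (Finsupp.single j 1) (MvPowerSeries.subst a F) =
        MvPowerSeries.coeff (Finsupp.single j 1) (a 0) + MvPowerSeries.coeff (Finsupp.single j 1) (a 1) := by
    intro n a ha0 haE
    refine ⟨MvPowerSeries.constantCoeff_subst_eq_zero (MvPowerSeries.hasSubst_of_constantCoeff_zero ha0) ha0 hF0,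
      Groth.Agent.LubinTateLib.E_subst_eq_zero hq F a hFE ha0 haE, fun j => ?_⟩
    rw [Groth.Agent.LubinTateLib.coeff_single_subst F a hF0 ha0, Fin.sum_univ_two, hF1, hF1, one_mul, one_mul]
  have hXE : ∀ (n : ℕ) (i : Fin n), Groth.Agent.LubinTateLib.E π q (MvPowerSeries.X i : MvPowerSeries (Fin n) O) = 0 :=
    fun n i => Groth.Agent.LubinTateLib.E_X (by omega) i
  have k01 := key 3 ![MvPowerSeries.X 0, MvPowerSeries.X 1] (Fin.forall_fin_two.2 ⟨hX 3 0, hX 3 1⟩)
    (Fin.forall_fin_two.2 ⟨hXE 3 0, hXE 3 1⟩)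
  have k12 := key 3 ![MvPowerSeries.X 1, MvPowerSeries.X 2] (Fin.forall_fin_two.2 ⟨hX 3 1, hX 3 2⟩)
    (Fin.forall_fin_two.2 ⟨hXE 3 1, hXE 3 2⟩)
  have kL := key 3 ![MvPowerSeries.subst ![MvPowerSeries.X 0, MvPowerSeries.X 1] F, MvPowerSeries.X 2]
    (Fin.forall_fin_two.2 ⟨k01.1, hX 3 2⟩) (Fin.forall_fin_two.2 ⟨k01.2.1, hXE 3 2⟩)
  have kR := key 3 ![MvPowerSeries.X 0, MvPowerSeries.subst ![MvPowerSeries.X 1, MvPowerSeries.X 2] F]
    (Fin.forall_fin_two.2 ⟨hX 3 0, k12.1⟩) (Fin.forall_fin_two.2 ⟨hXE 3 0, k12.2.1⟩)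
  obtain ⟨G3, -, huniq3⟩ := Groth.Agent.LubinTateLib.existsUnique_series (σ := Fin 3) hπ (fun _ => (1 : O))
  have hassoc := (huniq3 _ ⟨kL.1, fun i => by
      rw [kL.2.2]
      simp only [Matrix.cons_val_zero, Matrix.cons_val_one, k01.2.2]
      fin_cases i <;> simp [MvPowerSeries.coeff_X, Finsupp.single_left_inj], kL.2.1⟩).trans
    (huniq3 _ ⟨kR.1, fun i => by
      rw [kR.2.2]
      simp only [Matrix.cons_val_zero, Matrix.cons_val_one, k12.2.2]
      fin_cases i <;> simp [MvPowerSeries.coeff_X, Finsupp.single_left_inj], kR.2.1⟩).symm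
  have kC := key 2 ![MvPowerSeries.X 1, MvPowerSeries.X 0] (Fin.forall_fin_two.2 ⟨hX 2 1, hX 2 0⟩)
    (Fin.forall_fin_two.2 ⟨hXE 2 1, hXE 2 0⟩)
  have hcomm : MvPowerSeries.subst ![MvPowerSeries.X 1, MvPowerSeries.X 0] F = F := by
    refine huniq _ ⟨kC.1, fun i => ?_, kC.2.1⟩
    rw [kC.2.2]
    fin_cases i <;> simp [MvPowerSeries.coeff_X, Finsupp.single_left_inj]
  refine ⟨⟨F, hF0, hF1 0, hF1 1, hassoc⟩, ⟨?_⟩, (Groth.Agent.LubinTateLib.E_iff hf F hF0).1 hFE, ?_⟩
  · exact hcomm.symm
  · intro G h0 hx hy hG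
    exact huniq G ⟨h0, Fin.forall_fin_two.2 ⟨hx, hy⟩, (Groth.Agent.LubinTateLib.E_iff hf G h0).2 hG⟩

end Groth.Agent.S15049
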