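import Groth.Statements.S15051
import Mathlib
import Groth.Agent.LubinTateLib.Bridge
-- import your own Groth.Agent.* helpers here

set_option autoImplicit false
universe u
open LubinTate

namespace Groth.Agent.S15051

/-- Let O be a discrete valuation ring with finite residue field of cardinality q, π a uniformizer of O,
and f = πT + T^q ∈ O[[T]]; let F be a one-dimensional formal group law over O for which f is an
endomorphism, f(F(X,Y)) = F(f(X), f(Y)), and g ∈ O[[T]] a power series with zero constant term which
commutes with f, g(f(T)) = f(g(T)). Then g is an endomorphism of F, that is g(F(X,Y)) = F(g(X),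
g(Y)); so α ↦ [α] maps O into the endomorphisms of the Lubin–Tate formal group. (The published
statement is for the ring of integers of a finite extension of ℚ_p or of 𝔽_q((X)); completeness is
not used and any discrete valuation ring with finite residue field is allowed here.) -/
theorem result (O : Type u) [CommRing O] [IsDomain O] [IsDiscreteValuationRing O]
    [Finite (IsLocalRing.ResidueField O)] (π : O) (hπ : Irreducible π) (f : PowerSeries O)
    (hf : f = π • PowerSeries.X + PowerSeries.X ^ Nat.card (IsLocalRing.ResidueField O))
    (F : FormalGroup O)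
    (hF : PowerSeries.subst F.toPowerSeries f =
        MvPowerSeries.subst (fun i : Fin 2 => PowerSeries.subst (MvPowerSeries.X i : MvPowerSeries (Fin 2) O) f) F.toPowerSeries)
    (g : PowerSeries O) (hg0 : g.constantCoeff = 0)
    (hgf : PowerSeries.subst g f = PowerSeries.subst f g) :
    PowerSeries.subst F.toPowerSeries g =
      MvPowerSeries.subst (fun i : Fin 2 => PowerSeries.subst (MvPowerSeries.X i : MvPowerSeries (Fin 2) O) g)
        F.toPowerSeries := by
  classical
  set q := Nat.card (IsLocalRing.ResidueField O)
  have hq : 2 ≤ q := Groth.Agent.LubinTateLib.two_le_card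
  have hFE := (Groth.Agent.LubinTateLib.E_iff hf F.toPowerSeries F.zero_constantCoeff).2 hF
  have hgE := (Groth.Agent.LubinTateLib.E_iff_one hf g hg0).2 hgf
  set a : Fin 2 → MvPowerSeries (Fin 2) O := fun i => PowerSeries.subst (MvPowerSeries.X i) g
  have ha0 : ∀ i, MvPowerSeries.constantCoeff (a i) = 0 := fun i =>
    PowerSeries.constantCoeff_subst_eq_zero (MvPowerSeries.constantCoeff_X i) g hg0
  have haE : ∀ i, Groth.Agent.LubinTateLib.E π q (a i) = 0 := fun i =>
    Groth.Agent.LubinTateLib.E_subst_eq_zero hq g _ hgE (fun _ => MvPowerSeries.constantCoeff_X i)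
      (fun _ => Groth.Agent.LubinTateLib.E_X (by omega) i)
  obtain ⟨G, -, huniq⟩ := Groth.Agent.LubinTateLib.existsUnique_series (σ := Fin 2) hπ
    (fun _ => g.coeff 1)
  have hlinX : ∀ i j : Fin 2, (a i).coeff (Finsupp.single j 1) = if j = i then g.coeff 1 else 0 := by
    intro i j
    rw [show a i = MvPowerSeries.subst (fun _ : Unit => MvPowerSeries.X i) g from rfl,
      Groth.Agent.LubinTateLib.coeff_single_subst _ _ hg0 (fun _ => MvPowerSeries.constantCoeff_X i)]
    simp only [Finset.univ_unique, Finset.sum_singleton, MvPowerSeries.coeff_X]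
    rw [show MvPowerSeries.coeff (Finsupp.single default 1) g = g.coeff 1 from rfl]
    by_cases hji : j = i
    · subst hji; simp
    · have : Finsupp.single j (1 : ℕ) ≠ Finsupp.single i 1 := fun h => hji (Finsupp.single_left_injective one_ne_zero h)
      simp [hji, this]
  have h1 := huniq (PowerSeries.subst F.toPowerSeries g) ⟨
    PowerSeries.constantCoeff_subst_eq_zero F.zero_constantCoeff g hg0, fun i => by
      rw [PowerSeries.subst_def, Groth.Agent.LubinTateLib.coeff_single_subst _ _ hg0 (fun _ => F.zero_constantCoeff)]
      simp only [Finset.univ_unique, Finset.sum_singleton]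
      rw [show MvPowerSeries.coeff (Finsupp.single default 1) g = g.coeff 1 from rfl]
      fin_cases i <;> simp [F.lin_coeff_X, F.lin_coeff_Y],
    Groth.Agent.LubinTateLib.E_subst_eq_zero hq g _ hgE (fun _ => F.zero_constantCoeff) (fun _ => hFE)⟩
  have h2 := huniq (MvPowerSeries.subst a F.toPowerSeries) ⟨
    MvPowerSeries.constantCoeff_subst_eq_zero (MvPowerSeries.hasSubst_of_constantCoeff_zero ha0) ha0
      F.zero_constantCoeff, fun i => by
      rw [Groth.Agent.LubinTateLib.coeff_single_subst _ _ F.zero_constantCoeff ha0, Fin.sum_univ_two,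
        F.lin_coeff_X, F.lin_coeff_Y, hlinX, hlinX]
      fin_cases i <;> simp,
    Groth.Agent.LubinTateLib.E_subst_eq_zero hq _ _ hFE ha0 haE⟩
  exact h1.trans h2.symm

end Groth.Agent.S15051
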