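import Groth.Statements.S15052
import Mathlib
-- import your own Groth.Agent.* helpers here

set_option autoImplicit false
universe u
open LubinTate

namespace Groth.Agent.S15052

open MvPowerSeries in
theorem deg_one_of_mul {σ : Type*} {K : Type*} [CommRing K] (g h : MvPowerSeries σ K) (hg : constantCoeff g = 0)
    (hh : constantCoeff h = 0) (m : σ →₀ ℕ) (hm : m.degree ≤ 1) : coeff m (g * h) = 0 := by
  classical
  rw [coeff_mul]
  refine Finset.sum_eq_zero fun x hx => ?_
  rw [Finset.HasAntidiagonal.mem_antidiagonal] at hx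
  rw [← hx, map_add] at hm
  rcases (show x.1.degree = 0 ∨ x.2.degree = 0 by omega) with h0 | h0
  · rw [(Finsupp.degree_eq_zero_iff _).1 h0, coeff_zero_eq_constantCoeff_apply, hg, zero_mul]
  · rw [(Finsupp.degree_eq_zero_iff _).1 h0, coeff_zero_eq_constantCoeff_apply, hh, mul_zero]

/-- coefficients of degree at most one of a substitution -/
theorem coeff_subst_low {σ : Type*} {K : Type*} [CommRing K] (ℓ : PowerSeries K) (g : MvPowerSeries σ K)
    (hg : MvPowerSeries.constantCoeff g = 0) (m : σ →₀ ℕ) (hm : m.degree ≤ 1) (hl : ℓ.constantCoeff = 0) :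
    MvPowerSeries.coeff m (PowerSeries.subst g ℓ) = ℓ.coeff 1 * MvPowerSeries.coeff m g := by
  rw [PowerSeries.coeff_subst (PowerSeries.HasSubst.of_constantCoeff_zero hg), finsum_eq_single _ 1, pow_one, smul_eq_mul]
  intro d hd
  rcases d with _ | _ | d
  · rw [PowerSeries.coeff_zero_eq_constantCoeff, hl, zero_smul]
  · exact absurd rfl hd
  · rw [pow_succ, deg_one_of_mul _ g (by simp [hg]) hg m hm, smul_zero]

open MvPowerSeries in
/-- Schröder uniqueness -/
theorem eq_zero_of_schroder {σ : Type*} [Finite σ] {K : Type*} [Field K] (s : K) (hs : ∀ d, 2 ≤ d → s ^ d ≠ s) (q : ℕ) (hq : 2 ≤ q)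
    (G : MvPowerSeries σ K) (hlow : ∀ m : σ →₀ ℕ, m.degree ≤ 1 → coeff m G = 0)
    (hG : MvPowerSeries.subst (fun i => s • (X i : MvPowerSeries σ K) + X i ^ q) G = s • G) : G = 0 := by
  classical
  ext m
  rw [map_zero]
  induction hd : m.degree using Nat.strong_induction_on generalizing m with
  | _ D ih =>
    rcases Nat.lt_or_ge D 2 with h | h
    · exact hlow m (by omega)
    have ha : HasSubst (fun i => s • (X i : MvPowerSeries σ K) + X i ^ q) := hasSubst_of_constantCoeff_zero fun i => by
      simp [constantCoeff_X, zero_pow (show q ≠ 0 by omega), smul_eq_C_mul]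
    have h1 := congrArg (coeff m) hG
    rw [coeff_subst ha, coeff_smul, finsum_eq_single _ m ?_] at h1
    · have key : coeff m (m.prod fun i e => (s • (X i : MvPowerSeries σ K) + X i ^ q) ^ e) = s ^ D := by
        have hfac : (m.prod fun i e => (s • (X i : MvPowerSeries σ K) + X i ^ q) ^ e) =
            monomial m 1 * m.prod fun i e => (C s + X i ^ (q - 1)) ^ e := by
          rw [show monomial m (1 : K) = m.prod fun i e => (X i : MvPowerSeries σ K) ^ e from (MvPowerSeries.monomial_one_eq m), ← Finsupp.prod_mul]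
          refine Finsupp.prod_congr fun i _ => ?_
          rw [← mul_pow, mul_add, smul_eq_C_mul, ← pow_succ', Nat.sub_add_cancel (by omega : 1 ≤ q), mul_comm]
        rw [hfac, coeff_monomial_mul, if_pos le_rfl, one_mul, tsub_self, coeff_zero_eq_constantCoeff_apply, map_finsuppProd]
        simp only [map_pow, map_add, constantCoeff_C, constantCoeff_X, zero_pow (show q - 1 ≠ 0 by omega), add_zero]
        rw [Finsupp.prod, Finset.prod_pow_eq_pow_sum, ← hd]
        rfl
      rw [key, smul_eq_mul] at h1
      exact (mul_eq_zero.1 (show coeff m G * (s ^ D - s) = 0 by linear_combination h1)).resolve_right (sub_ne_zero.2 (hs D h))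
    · intro d hdm
      by_cases hdd : d.degree < D
      · rw [ih _ hdd d rfl, zero_smul]
      rw [show (d.prod fun i e => (s • (X i : MvPowerSeries σ K) + X i ^ q) ^ e) =
          monomial d 1 * d.prod fun i e => (C s + X i ^ (q - 1)) ^ e from ?_, coeff_monomial_mul, if_neg, smul_zero]
      · intro hle
        obtain ⟨e, rfl⟩ := exists_add_of_le hle
        rw [map_add] at hd
        exact hdm (by rw [(Finsupp.degree_eq_zero_iff e).1 (by omega), add_zero])
      · rw [show monomial d (1 : K) = d.prod fun i e => (X i : MvPowerSeries σ K) ^ e from (MvPowerSeries.monomial_one_eq d), ← Finsupp.prod_mul]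
        refine Finsupp.prod_congr fun i _ => ?_
        rw [← mul_pow, mul_add, smul_eq_C_mul, ← pow_succ', Nat.sub_add_cancel (by omega : 1 ≤ q), mul_comm]

noncomputable def logCoeff {K : Type*} [Field K] (f : PowerSeries K) (s : K) : ℕ → K
  | 0 => 0
  | 1 => 1
  | n + 2 => (∑ j : Fin (n + 2), logCoeff f s j.val * PowerSeries.coeff (n + 2) (f ^ j.val)) / (s - s ^ (n + 2))

theorem exists_log {K : Type*} [Field K] (s : K) (hs : ∀ d, 2 ≤ d → s ^ d ≠ s) (q : ℕ) (hq : 2 ≤ q) (f : PowerSeries K)
    (hf : f = s • PowerSeries.X + PowerSeries.X ^ q) :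
    ∃ ℓ : PowerSeries K, ℓ.constantCoeff = 0 ∧ ℓ.coeff 1 = 1 ∧ PowerSeries.subst f ℓ = s • ℓ := by
  refine ⟨PowerSeries.mk (logCoeff f s), by simp [← PowerSeries.coeff_zero_eq_constantCoeff_apply, logCoeff], by simp [logCoeff], ?_⟩
  have hf0 : PowerSeries.constantCoeff f = 0 := by rw [hf]; simp [zero_pow (show q ≠ 0 by omega), PowerSeries.smul_eq_C_mul]
  ext n
  rw [PowerSeries.coeff_subst' (PowerSeries.HasSubst.of_constantCoeff_zero' hf0), PowerSeries.coeff_smul, PowerSeries.coeff_mk]
  have hfac : ∀ j, f ^ j = PowerSeries.X ^ j * (PowerSeries.C s + PowerSeries.X ^ (q - 1)) ^ j := fun j => by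
    rw [← mul_pow, mul_add, ← pow_succ', Nat.sub_add_cancel (by omega : 1 ≤ q), hf, PowerSeries.smul_eq_C_mul, mul_comm PowerSeries.X]
  have hdiag : ∀ j, PowerSeries.coeff j (f ^ j) = s ^ j := fun j => by
    rw [hfac, PowerSeries.coeff_X_pow_mul', if_pos le_rfl, Nat.sub_self]
    simp [zero_pow (show q - 1 ≠ 0 by omega)]
  have hgt : ∀ j, n < j → PowerSeries.coeff n (f ^ j) = 0 := fun j hj => by
    rw [hfac, PowerSeries.coeff_X_pow_mul', if_neg (by omega)]
  rw [finsum_eq_finsetSum_of_support_subset _ (s := Finset.range (n + 1)) (fun j hj => by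
    simp only [Finset.coe_range, Set.mem_Iio]
    by_contra h
    exact hj (by show _ • _ = _; rw [hgt j (by omega), smul_zero])), Finset.sum_range_succ]
  simp only [PowerSeries.coeff_mk, smul_eq_mul]
  rcases n with _ | _ | n
  · simp [logCoeff]
  · rw [Finset.sum_range_one, hdiag]; simp [logCoeff]
  · rw [hdiag, ← Fin.sum_univ_eq_sum_range (fun j => logCoeff f s j * PowerSeries.coeff (n + 1 + 1) (f ^ j))]
    have hne : s - s ^ (n + 2) ≠ 0 := sub_ne_zero.2 (Ne.symm (hs _ (by omega)))
    have e : logCoeff f s (n + 2) * (s - s ^ (n + 2)) = ∑ j : Fin (n + 2), logCoeff f s j.val * PowerSeries.coeff (n + 2) (f ^ j.val) := by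
      rw [logCoeff, div_mul_cancel₀ _ hne]
    linear_combination -e


/-- Let O be a discrete valuation ring with finite residue field of cardinality q, π a uniformizer of O,
and f = πT + T^q ∈ O[[T]]; let K be the fraction field of O and F a one-dimensional formal group law
over O for which f is an endomorphism, f(F(X,Y)) = F(f(X), f(Y)). Then there is a unique power
series ℓ ∈ K[[T]] with zero constant term and linear coefficient 1 such that ℓ(f(T)) = π·ℓ(T); this
logarithm is a homomorphism to the additive formal group, ℓ(F(T,S)) = ℓ(T) + ℓ(S), and it is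
O-linear in the sense that ℓ(g(T)) = α·ℓ(T) for every α ∈ O and every series g ∈ O[[T]] with zero
constant term and linear coefficient α commuting with f. (The published statement is for the ring of
integers of a finite extension of ℚ_p; completeness is not used and any discrete valuation ring with
finite residue field is allowed here.) -/
theorem result (O : Type u) [CommRing O] [IsDomain O] [IsDiscreteValuationRing O]
    [Finite (IsLocalRing.ResidueField O)] (K : Type u) [Field K] [Algebra O K] [IsFractionRing O K]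
    (π : O) (hπ : Irreducible π) (f : PowerSeries O)
    (hf : f = π • PowerSeries.X + PowerSeries.X ^ Nat.card (IsLocalRing.ResidueField O))
    (F : FormalGroup O)
    (hF : PowerSeries.subst F.toPowerSeries f =
        MvPowerSeries.subst (fun i : Fin 2 => PowerSeries.subst (MvPowerSeries.X i : MvPowerSeries (Fin 2) O) f) F.toPowerSeries) :
    ∃ ℓ : PowerSeries K, (ℓ.constantCoeff = 0 ∧ ℓ.coeff 1 = 1 ∧
      PowerSeries.subst (PowerSeries.map (algebraMap O K) f) ℓ = algebraMap O K π • ℓ) ∧
      (∀ ℓ' : PowerSeries K, ℓ'.constantCoeff = 0 → ℓ'.coeff 1 = 1 →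
        PowerSeries.subst (PowerSeries.map (algebraMap O K) f) ℓ' = algebraMap O K π • ℓ' → ℓ' = ℓ) ∧
      PowerSeries.subst ((F.toPowerSeries).map (algebraMap O K)) ℓ =
        PowerSeries.subst (MvPowerSeries.X (0 : Fin 2) : MvPowerSeries (Fin 2) K) ℓ +
          PowerSeries.subst (MvPowerSeries.X (1 : Fin 2) : MvPowerSeries (Fin 2) K) ℓ ∧
      (∀ (α : O) (g : PowerSeries O), g.constantCoeff = 0 → g.coeff 1 = α →
        PowerSeries.subst g f = PowerSeries.subst f g →
        PowerSeries.subst (PowerSeries.map (algebraMap O K) g) ℓ = algebraMap O K α • ℓ) := by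
  classical
  set q := Nat.card (IsLocalRing.ResidueField O) with hqdef
  have hq : 2 ≤ q := Finite.one_lt_card
  set φ := algebraMap O K
  set s := φ π with hsdef
  have hs : ∀ d, 2 ≤ d → s ^ d ≠ s := fun d hd h => by
    rw [hsdef, ← map_pow] at h
    have h' := IsFractionRing.injective O K h
    obtain ⟨e, rfl⟩ : ∃ e, d = e + 1 + 1 := ⟨d - 2, by omega⟩
    refine hπ.not_isUnit (IsUnit.of_mul_eq_one (π ^ e) (mul_left_cancel₀ hπ.ne_zero ?_))
    rw [mul_one, ← pow_succ', ← pow_succ']; exact h'
  set fK := PowerSeries.map φ f with hfKdef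
  have hfK : fK = s • PowerSeries.X + PowerSeries.X ^ q := by
    rw [hfKdef, hf, map_add, map_pow, PowerSeries.map_X, PowerSeries.smul_eq_C_mul, map_mul, PowerSeries.map_C, PowerSeries.map_X, PowerSeries.smul_eq_C_mul]
  have hfK0 : PowerSeries.constantCoeff fK = 0 := by rw [hfK]; simp [zero_pow (show q ≠ 0 by omega), PowerSeries.smul_eq_C_mul]
  have hfS := PowerSeries.HasSubst.of_constantCoeff_zero' hfK0
  obtain ⟨ℓ, hl0, hl1, hlf⟩ := exists_log s hs q hq fK hfK
  have uni : ∀ G : PowerSeries K, G.constantCoeff = 0 → G.coeff 1 = 0 → PowerSeries.subst fK G = s • G → G = 0 := by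
    intro G h0 h1 hG
    refine eq_zero_of_schroder (σ := Unit) s hs q hq G (fun m hm => ?_) ?_
    · rw [show m = Finsupp.single () (m ()) from (Finsupp.unique_single m)] at hm ⊢
      rw [Finsupp.degree_single] at hm
      rcases (show m () = 0 ∨ m () = 1 by omega) with e | e
      · rw [e]; rw [← PowerSeries.coeff_zero_eq_constantCoeff_apply] at h0; exact h0
      · rw [e]; exact h1
    · rw [show (fun i : Unit => s • (MvPowerSeries.X i : MvPowerSeries Unit K) + MvPowerSeries.X i ^ q) = fun _ => fK from
        funext fun i => by rw [hfK]; rfl]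
      exact hG
  refine ⟨ℓ, ⟨hl0, hl1, hlf⟩, fun ℓ' h0' h1' hf' => ?_, ?_, fun α g hg0 hg1 hcomm => ?_⟩
  · rw [← sub_eq_zero]
    refine uni _ (by rw [map_sub, h0', hl0, sub_zero]) (by rw [map_sub, h1', hl1, sub_self]) ?_
    rw [PowerSeries.subst_sub hfS, hf', hlf, smul_sub]
  · set FK := F.toPowerSeries.map φ with hFKdef
    have hFK0 : MvPowerSeries.constantCoeff FK = 0 := by
      rw [hFKdef, MvPowerSeries.constantCoeff_map, F.zero_constantCoeff, map_zero]
    have hFS := PowerSeries.HasSubst.of_constantCoeff_zero hFK0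
    let a : Fin 2 → MvPowerSeries (Fin 2) K := fun i => s • MvPowerSeries.X i + MvPowerSeries.X i ^ q
    have ha : MvPowerSeries.HasSubst a := MvPowerSeries.hasSubst_of_constantCoeff_zero fun i => by
      simp [a, MvPowerSeries.constantCoeff_X, zero_pow (show q ≠ 0 by omega), MvPowerSeries.smul_eq_C_mul]
    have hXa : ∀ i, PowerSeries.subst (MvPowerSeries.X i : MvPowerSeries (Fin 2) K) fK = a i := fun i => by
      rw [hfK, PowerSeries.subst_add (PowerSeries.HasSubst.X i), PowerSeries.subst_smul (PowerSeries.HasSubst.X i),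
        PowerSeries.subst_pow (PowerSeries.HasSubst.X i), PowerSeries.subst_X (PowerSeries.HasSubst.X i)]
    have hFa : MvPowerSeries.subst a FK = PowerSeries.subst FK fK := by
      have h0 : ∀ i : Fin 2, MvPowerSeries.constantCoeff (PowerSeries.subst (MvPowerSeries.X i : MvPowerSeries (Fin 2) O) f) = 0 :=
        fun i => PowerSeries.constantCoeff_subst_eq_zero (MvPowerSeries.constantCoeff_X i) f (by
          rw [hf]; simp [zero_pow (show q ≠ 0 by omega), PowerSeries.smul_eq_C_mul])
      have h := congrArg (MvPowerSeries.map φ) hF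
      rw [PowerSeries.map_subst (PowerSeries.HasSubst.of_constantCoeff_zero F.zero_constantCoeff),
        MvPowerSeries.map_subst (MvPowerSeries.hasSubst_of_constantCoeff_zero h0)] at h
      rw [h]
      congr 1
      funext i
      rw [PowerSeries.map_subst (PowerSeries.HasSubst.X i), MvPowerSeries.map_X, ← hXa i]
    have hcomp : ∀ (g : MvPowerSeries (Fin 2) K), MvPowerSeries.constantCoeff g = 0 →
        MvPowerSeries.subst a (PowerSeries.subst g ℓ) = PowerSeries.subst (MvPowerSeries.subst a g) ℓ := fun g hg => by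
      rw [PowerSeries.subst_def, MvPowerSeries.subst_comp_subst_apply (PowerSeries.HasSubst.of_constantCoeff_zero hg).const ha]
      rfl
    rw [← sub_eq_zero]
    refine eq_zero_of_schroder s hs q hq _ (fun m hm => ?_) ?_
    · rw [map_sub, map_add, coeff_subst_low ℓ _ hFK0 m hm hl0, coeff_subst_low ℓ _ (MvPowerSeries.constantCoeff_X _) m hm hl0,
        coeff_subst_low ℓ _ (MvPowerSeries.constantCoeff_X _) m hm hl0, hl1, one_mul, one_mul, one_mul]
      rcases (show m.degree = 0 ∨ m.degree = 1 by omega) with e | e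
      · rw [(Finsupp.degree_eq_zero_iff m).1 e]; simp [hFK0]
      · obtain ⟨i, rfl⟩ : ∃ i, Finsupp.single i 1 = m := by
          have : m ∈ Set.range fun i : Fin 2 => Finsupp.single i 1 := by rw [Finsupp.range_single_one]; exact e
          exact this
        fin_cases i <;> simp [FK, MvPowerSeries.coeff_map, F.lin_coeff_X, F.lin_coeff_Y, MvPowerSeries.coeff_X, Finsupp.single_eq_single_iff]
    · show MvPowerSeries.subst a _ = _
      rw [MvPowerSeries.subst_sub ha, MvPowerSeries.subst_add ha, hcomp _ hFK0, hcomp _ (MvPowerSeries.constantCoeff_X _),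
        hcomp _ (MvPowerSeries.constantCoeff_X _), MvPowerSeries.subst_X ha, MvPowerSeries.subst_X ha, hFa, ← hXa, ← hXa,
        ← PowerSeries.subst_comp_subst_apply hfS hFS, ← PowerSeries.subst_comp_subst_apply hfS (PowerSeries.HasSubst.X _),
        ← PowerSeries.subst_comp_subst_apply hfS (PowerSeries.HasSubst.X _), hlf, PowerSeries.subst_smul hFS,
        PowerSeries.subst_smul (PowerSeries.HasSubst.X _), PowerSeries.subst_smul (PowerSeries.HasSubst.X _), smul_sub, smul_add]
  · set gK := PowerSeries.map φ g with hgKdef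
    have hgK0 : PowerSeries.constantCoeff gK = 0 := by
      rw [hgKdef, ← PowerSeries.coeff_zero_eq_constantCoeff_apply, PowerSeries.coeff_map, PowerSeries.coeff_zero_eq_constantCoeff_apply, hg0, map_zero]
    have hgS := PowerSeries.HasSubst.of_constantCoeff_zero' hgK0
    have hf0 : PowerSeries.constantCoeff f = 0 := by rw [hf]; simp [zero_pow (show q ≠ 0 by omega), PowerSeries.smul_eq_C_mul]
    have hc : PowerSeries.subst gK fK = PowerSeries.subst fK gK := by
      have h := congrArg (MvPowerSeries.map φ) hcomm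
      rw [PowerSeries.map_subst (PowerSeries.HasSubst.of_constantCoeff_zero' hg0),
        PowerSeries.map_subst (PowerSeries.HasSubst.of_constantCoeff_zero' hf0)] at h
      exact h
    have hlow : ∀ j, j ≤ 1 → PowerSeries.coeff j (PowerSeries.subst gK ℓ) = PowerSeries.coeff j gK := fun j hj => by
      have := coeff_subst_low ℓ gK hgK0 (Finsupp.single () j) (by rw [Finsupp.degree_single]; exact hj) hl0
      rw [hl1, one_mul] at this
      exact this
    rw [← sub_eq_zero]
    refine uni _ ?_ ?_ ?_
    · rw [map_sub, ← PowerSeries.coeff_zero_eq_constantCoeff_apply, hlow 0 (by omega), PowerSeries.coeff_zero_eq_constantCoeff_apply, hgK0]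
      simp [PowerSeries.smul_eq_C_mul, hl0]
    · rw [map_sub, hlow 1 le_rfl, PowerSeries.coeff_smul, hl1, hgKdef, PowerSeries.coeff_map, hg1, smul_eq_mul, mul_one, sub_self]
    · rw [PowerSeries.subst_sub hfS, PowerSeries.subst_smul hfS, hlf, smul_sub, smul_comm s (φ α),
        PowerSeries.subst_comp_subst_apply hgS hfS, ← hc, ← PowerSeries.subst_comp_subst_apply hfS hgS, hlf,
        PowerSeries.subst_smul hgS]

end Groth.Agent.S15052
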