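import Groth.Statements.S15054
import Mathlib.CategoryTheory.Monoidal.Cartesian.Grp
-- import your own Groth.Agent.* helpers here

set_option autoImplicit false
set_option linter.style.haveILetI false
universe u
open CategoryTheory CategoryTheory.Limits MonoidalCategory CartesianMonoidalCategory MonObj GrpObj AlgebraicGeometry
open BTGrp

namespace Groth.Agent.S15054

/-- Let ℓ be a prime and G = (G_ν)_ν an ℓ-divisible (Barsotti–Tate) group of height h over a scheme S,
given as the system of its finite locally free layers G_ν of order ℓ^{νh} with inclusions G_ν →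
G_{ν+1} exhibiting G_ν as the ℓ^ν-torsion of G_{ν+1} and projections G_{ν+1} → G_ν (multiplication
by ℓ). Let i_t : G_1 → G_{t+1} denote the iterated inclusions, pinned by i_0 = id and i_{t+1} = i_t
followed by G_{t+1} → G_{t+2}. Then for every t, i_t identifies G_1 with the kernel of
multiplication by ℓ on G_{t+1}: the ℓ-torsion of every layer is the first layer. (The published
statement identifies G_v with the ℓ^v-torsion of G_{v+t} for all v; this row is its case v = 1. The
published base is the spectrum of a Noetherian ring; the argument is formal and any base scheme is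
allowed here.) -/
theorem result {S : Scheme.{u}} (ℓ h : ℕ) [Fact ℓ.Prime] (G : BTGrp.ProBT ℓ S h)
    (i : (t : ℕ) → (G.G 1 ⟶ G.G (t + 1))) (hi0 : i 0 = 𝟙 (G.G 1))
    (hi : ∀ t : ℕ, i (t + 1) = i t ≫ G.incl (t + 1)) (t : ℕ) :
    AlgGrp.IsKernel (i t) ((𝟙 (G.G (t + 1))) ^ ℓ) := by
  have one_eq : ∀ {T : Over S} (ν : ℕ), (1 : T ⟶ G.G ν) = toUnit T ≫ η[G.G ν] := fun _ => rfl
  have mono_incl : ∀ ν, Mono (G.incl ν) := fun ν => by
    haveI : Mono η[G.G (ν + 1)] := SplitMono.mono ⟨toUnit _, toUnit_unique _ _⟩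
    exact (G.isKernel ν).mono_fst_of_mono
  have pow_eq : ∀ {T : Over S} {ν : ℕ} (a : T ⟶ G.G ν) (m : ℕ), a ≫ (𝟙 (G.G ν)) ^ m = a ^ m := fun a m => by
    rw [MonObj.comp_pow, Category.comp_id]
  induction t with
  | zero =>
    rw [hi0]
    have hkill : (𝟙 (G.G 1)) ^ ℓ = (1 : G.G 1 ⟶ G.G 1) := by
      haveI := mono_incl 1
      rw [← cancel_mono (G.incl 1), MonObj.pow_comp, MonObj.one_comp, Category.id_comp, one_eq, ← (G.isKernel 1).w,
        pow_eq, pow_one]
    haveI : Mono η[G.G 1] := SplitMono.mono ⟨toUnit _, toUnit_unique _ _⟩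
    refine ⟨⟨by rw [Category.id_comp, hkill, one_eq]⟩, ⟨PullbackCone.IsLimit.mk _ (fun s => s.fst) (fun s => Category.comp_id _)
      (fun s => toUnit_unique _ _) (fun s m h _ => by simpa using h)⟩⟩
  | succ t ih =>
    rw [hi]
    haveI := mono_incl (t + 1)
    haveI : Mono η[G.G (t + 1)] := SplitMono.mono ⟨toUnit _, toUnit_unique _ _⟩
    haveI : Mono (i t) := ih.mono_fst_of_mono
    have w : (i t ≫ G.incl (t + 1)) ≫ (𝟙 (G.G (t + 1 + 1))) ^ ℓ = toUnit _ ≫ η[G.G (t + 1 + 1)] := by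
      rw [← one_eq, Category.assoc, pow_eq (G.incl (t + 1)) ℓ,
        show G.incl (t + 1) ^ ℓ = ((𝟙 (G.G (t + 1))) ^ ℓ) ≫ G.incl (t + 1) by rw [MonObj.pow_comp, Category.id_comp],
        ← Category.assoc, ih.w, ← one_eq, MonObj.one_comp]
    have hex : ∀ s : PullbackCone ((𝟙 (G.G (t + 1 + 1))) ^ ℓ) η[G.G (t + 1 + 1)],
        ∃ b, b ≫ i t ≫ G.incl (t + 1) = s.fst := fun s => by
      have h1 : s.fst ^ ℓ = 1 := (pow_eq s.fst ℓ).symm.trans (s.condition.trans (by rw [toUnit_unique s.snd (toUnit _)]; rfl))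
      have h2 : s.fst ≫ (𝟙 (G.G (t + 1 + 1))) ^ (ℓ ^ (t + 1)) = toUnit s.pt ≫ η[G.G (t + 1 + 1)] := by
        rw [pow_eq, ← one_eq, pow_succ', pow_mul, h1, one_pow]
      let x := (G.isKernel (t + 1)).lift s.fst (toUnit _) h2
      have hx : x ≫ G.incl (t + 1) = s.fst := (G.isKernel (t + 1)).lift_fst _ _ h2
      have h3 : x ≫ (𝟙 (G.G (t + 1))) ^ ℓ = toUnit s.pt ≫ η[G.G (t + 1)] := by
        rw [pow_eq, ← one_eq, ← cancel_mono (G.incl (t + 1)), MonObj.pow_comp, hx, h1, MonObj.one_comp]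
      exact ⟨ih.lift x (toUnit _) h3, by rw [← Category.assoc, ih.lift_fst, hx]⟩
    choose b hb using hex
    exact ⟨⟨w⟩, ⟨PullbackCone.IsLimit.mk _ b hb (fun s => toUnit_unique _ _) (fun s m h _ => by
      rw [← cancel_mono (i t ≫ G.incl (t + 1)), h, hb])⟩⟩

end Groth.Agent.S15054
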