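import Groth.Statements.S15058
import Mathlib
-- import your own Groth.Agent.* helpers here

set_option autoImplicit false
universe u
open FmlGrp

namespace Groth.Agent.S15058

section Aux

open PowerSeries

variable {R : Type u} [CommRing R] (F : FormalGroup R)

theorem hX : MvPowerSeries.constantCoeff (PowerSeries.X : PowerSeries R) = 0 :=
  PowerSeries.constantCoeff_X

/-- the subst `F(X, k)` as a power series -/
noncomputable def Fr (k : PowerSeries R) : PowerSeries R :=
  F.toPowerSeries.subst ![(PowerSeries.X : PowerSeries R), k]

theorem hs2 {a b : PowerSeries R} (ha : a.constantCoeff = 0) (hb : b.constantCoeff = 0) :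
    MvPowerSeries.HasSubst (![a, b] : Fin 2 → PowerSeries R) :=
  MvPowerSeries.hasSubst_of_constantCoeff_zero fun s => by
    fin_cases s
    · exact ha
    · exact hb

theorem Fr_diff {n : ℕ} (hn : n ≠ 0) {k k' : PowerSeries R} (hk : k.constantCoeff = 0)
    (hk' : k'.constantCoeff = 0) (hd : ∀ i < n, coeff i k = coeff i k') :
    coeff n (Fr F k) - coeff n (Fr F k') = coeff n k - coeff n k' := by
  classical
  have hX0 : (PowerSeries.X : PowerSeries R).constantCoeff = 0 := constantCoeff_X
  rw [Fr, Fr, PowerSeries.coeff, MvPowerSeries.coeff_subst (hs2 hX0 hk),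
    MvPowerSeries.coeff_subst (hs2 hX0 hk'),
    ← finsum_sub_distrib (MvPowerSeries.coeff_subst_finite (hs2 hX0 hk) _ _)
      (MvPowerSeries.coeff_subst_finite (hs2 hX0 hk') _ _),
    finsum_eq_single _ (Finsupp.single 1 1)]
  · rw [F.lin_coeff_Y]
    simp [Finsupp.prod_single_index]
  · intro d hne
    rw [← smul_sub, ← map_sub]
    simp only [Finsupp.prod_pow, Fin.prod_univ_two, Matrix.cons_val_zero, Matrix.cons_val_one,
      Matrix.cons_val_fin_one]
    rw [← mul_sub]
    by_cases h1 : d 1 = 0
    · simp [h1]
    have h2 : 2 ≤ d 0 + d 1 := by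
      by_contra hc
      refine hne (Finsupp.ext fun i => ?_)
      fin_cases i
      · simp; omega
      · simp; omega
    have hdv : (PowerSeries.X : PowerSeries R) ^ n ∣ k - k' := X_pow_dvd_iff.2 fun i hi => by
      rw [map_sub, hd i hi, sub_self]
    have hgeom : (PowerSeries.X : PowerSeries R) ^ (d 1 - 1) ∣
        ∑ i ∈ Finset.range (d 1), k ^ i * k' ^ (d 1 - 1 - i) := by
      refine Finset.dvd_sum fun i hi => ?_
      have hi' := Finset.mem_range.1 hi
      have e : (PowerSeries.X : PowerSeries R) ^ (d 1 - 1) = X ^ i * X ^ (d 1 - 1 - i) := by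
        rw [← pow_add]; congr 1; omega
      rw [e]
      exact mul_dvd_mul (pow_dvd_pow_of_dvd (X_dvd_iff.2 hk) _) (pow_dvd_pow_of_dvd (X_dvd_iff.2 hk') _)
    have hall : (PowerSeries.X : PowerSeries R) ^ (n + 1) ∣ X ^ d 0 * (k ^ d 1 - k' ^ d 1) := by
      rw [← geom_sum₂_mul k k' (d 1)]
      refine dvd_trans ?_ (mul_dvd_mul dvd_rfl (mul_dvd_mul hgeom hdv))
      rw [← pow_add, ← pow_add]
      exact pow_dvd_pow _ (by omega)
    rw [show MvPowerSeries.coeff (Finsupp.single () n)
        ((PowerSeries.X : PowerSeries R) ^ d 0 * (k ^ d 1 - k' ^ d 1)) = 0 from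
      X_pow_dvd_iff.1 hall n (by omega), smul_zero]

/-- coefficients of the inverse -/
noncomputable def c : ℕ → R
  | n => if n = 0 then 0 else
      - coeff n (Fr F (PowerSeries.mk fun i => if h : i < n then c i else 0))
  termination_by n => n

theorem Fr_const {k : PowerSeries R} (hk : k.constantCoeff = 0) : (Fr F k).constantCoeff = 0 :=
  MvPowerSeries.constantCoeff_subst_eq_zero (hs2 constantCoeff_X hk) (fun s => by
    fin_cases s
    · exact constantCoeff_X
    · exact hk) F.zero_constantCoeff

theorem exists_right :
    ∃ g : PowerSeries R, g.constantCoeff = 0 ∧ Fr F g = 0 := by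
  have h0 : c F 0 = 0 := by rw [c]; simp
  refine ⟨PowerSeries.mk (c F), by simp [← coeff_zero_eq_constantCoeff_apply, h0], ?_⟩
  ext n
  rcases Nat.eq_zero_or_pos n with rfl | hn
  · simp [coeff_zero_eq_constantCoeff_apply, Fr_const F (k := PowerSeries.mk (c F))
      (by simp [← coeff_zero_eq_constantCoeff_apply, h0])]
  have h := Fr_diff F (n := n) (by omega) (k := PowerSeries.mk (c F))
    (k' := PowerSeries.mk fun i => if h : i < n then c F i else 0)
    (by simp [← coeff_zero_eq_constantCoeff_apply, h0])
    (by simp [← coeff_zero_eq_constantCoeff_apply, h0])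
    (fun i hi => by simp [hi])
  simp only [coeff_mk, lt_self_iff_false, dite_false, sub_zero] at h
  have e : c F n = - coeff n (Fr F (PowerSeries.mk fun i => if h : i < n then c F i else 0)) := by
    rw [c, if_neg (by omega)]
  rw [map_zero]
  linear_combination h + e

end Aux


/-- Let R be a commutative ring and F(X,Y) ∈ R[[X,Y]] a one-dimensional formal group law (zero constant
term, linear part X + Y, associative). Then there is a power series g(X) ∈ R[[X]] with zero constant
term which is a two-sided inverse for F, F(X, g(X)) = 0 = F(g(X), X), and it is unique: every power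
series with zero constant term which is a right inverse or a left inverse equals g. (The published
text proves this for formal group laws of any finite dimension with coefficients in a complete
Noetherian local ring; the argument is a formal degree-by-degree construction, and this row states
the one-dimensional case over an arbitrary commutative ring.) -/
theorem result (R : Type u) [CommRing R] (F : FormalGroup R) :
    ∃ g : PowerSeries R, g.constantCoeff = 0 ∧
      F.toPowerSeries.subst ![PowerSeries.X, g] = (0 : PowerSeries R) ∧
      F.toPowerSeries.subst ![g, PowerSeries.X] = (0 : PowerSeries R) ∧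
      ∀ k : PowerSeries R, k.constantCoeff = 0 →
        (F.toPowerSeries.subst ![PowerSeries.X, k] = (0 : PowerSeries R) ∨
          F.toPowerSeries.subst ![k, PowerSeries.X] = (0 : PowerSeries R)) → k = g := by
  obtain ⟨g, hg, hFg⟩ := exists_right F
  have hX : PowerSeries.HasSubst (PowerSeries.X : PowerSeries R) :=
    PowerSeries.HasSubst.of_constantCoeff_zero PowerSeries.constantCoeff_X
  have hz : PowerSeries.HasSubst (0 : PowerSeries R) :=
    PowerSeries.HasSubst.zero
  have hs : ∀ k : PowerSeries R, k.constantCoeff = 0 → PowerSeries.HasSubst k := fun k hk =>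
    PowerSeries.HasSubst.of_constantCoeff_zero hk
  have hgg0 : (PowerSeries.subst g g).constantCoeff = 0 :=
    PowerSeries.constantCoeff_subst_eq_zero hg g hg
  have hsg : F.toPowerSeries.subst ![g, PowerSeries.subst g g] = (0 : PowerSeries R) := by
    have h := congrArg (PowerSeries.subst g) hFg
    rw [Fr, ← PowerSeries.coe_substAlgHom (hs g hg), map_zero, PowerSeries.coe_substAlgHom (hs g hg),
      PowerSeries.subst, MvPowerSeries.subst_comp_subst_apply (hs2 PowerSeries.constantCoeff_X hg)
        (hs g hg).const] at h
    rw [← h]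
    congr 1
    funext s
    fin_cases s
    · exact (PowerSeries.subst_X (hs g hg)).symm
    · rfl
  have hFg' : F.toPowerSeries.subst ![(PowerSeries.X : PowerSeries R), g] = (0 : PowerSeries R) := hFg
  have hgg : PowerSeries.subst g g = PowerSeries.X := by
    have h := F.assoc' hX (hs g hg) (hs _ hgg0)
    rw [hFg', hsg, F.zero_add (hs _ hgg0), F.add_zero hX] at h
    exact h
  rw [hgg] at hsg
  refine ⟨g, hg, hFg', hsg, fun k hk h => ?_⟩
  rcases h with h | h
  · have e := F.assoc' (hs g hg) hX (hs k hk)
    rw [hsg, h, F.zero_add (hs k hk), F.add_zero (hs g hg)] at e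
    exact e
  · have e := F.assoc' (hs k hk) hX (hs g hg)
    rw [h, hFg', F.zero_add (hs g hg), F.add_zero (hs k hk)] at e
    exact e.symm

end Groth.Agent.S15058
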