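import Groth.Statements.S15060
import Mathlib
import Groth.Agent.LubinTateLib.Bridge
-- import your own Groth.Agent.* helpers here

set_option autoImplicit false
universe u
open LubinTate

namespace Groth.Agent.S15060

/-- Let O be a discrete valuation ring with finite residue field of cardinality q, π a uniformizer of O,
f = πT + T^q ∈ O[[T]], and F a one-dimensional formal group law over O for which f is an
endomorphism, f(F(X,Y)) = F(f(X), f(Y)). For α ∈ O write [α] for a power series with zero constant
term and linear coefficient α commuting with f (it is unique). Then for all α, β ∈ O and all such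
series [α], [β], [αβ], [α+β] one has [α]([β](T)) = [αβ](T) and F([α](T), [β](T)) = [α+β](T): the map
α ↦ [α] is a ring homomorphism from O to the endomorphisms of F with their formal-group addition and
composition. (The published statement is for the ring of integers of a finite extension of ℚ_p or of
𝔽_q((X)); completeness is not used and any discrete valuation ring with finite residue field is
allowed here.) -/
theorem result (O : Type u) [CommRing O] [IsDomain O] [IsDiscreteValuationRing O]
    [Finite (IsLocalRing.ResidueField O)] (π : O) (hπ : Irreducible π) (f : PowerSeries O)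
    (hf : f = π • PowerSeries.X + PowerSeries.X ^ Nat.card (IsLocalRing.ResidueField O))
    (F : FormalGroup O)
    (hF : PowerSeries.subst F.toPowerSeries f =
        MvPowerSeries.subst (fun i : Fin 2 => PowerSeries.subst (MvPowerSeries.X i : MvPowerSeries (Fin 2) O) f)
          F.toPowerSeries)
    (α β : O) (gα gβ gαβ gs : PowerSeries O)
    (hα0 : gα.constantCoeff = 0) (hα1 : gα.coeff 1 = α) (hαf : PowerSeries.subst gα f = PowerSeries.subst f gα)
    (hβ0 : gβ.constantCoeff = 0) (hβ1 : gβ.coeff 1 = β) (hβf : PowerSeries.subst gβ f = PowerSeries.subst f gβ)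
    (hαβ0 : gαβ.constantCoeff = 0) (hαβ1 : gαβ.coeff 1 = α * β)
    (hαβf : PowerSeries.subst gαβ f = PowerSeries.subst f gαβ)
    (hs0 : gs.constantCoeff = 0) (hs1 : gs.coeff 1 = α + β) (hsf : PowerSeries.subst gs f = PowerSeries.subst f gs) :
    PowerSeries.subst gβ gα = gαβ ∧ F.toPowerSeries.subst ![gα, gβ] = gs := by
  classical
  set q := Nat.card (IsLocalRing.ResidueField O)
  have hq : 2 ≤ q := Groth.Agent.LubinTateLib.two_le_card
  have hFE := (Groth.Agent.LubinTateLib.E_iff hf F.toPowerSeries F.zero_constantCoeff).2 hF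
  have hαE := (Groth.Agent.LubinTateLib.E_iff_one hf gα hα0).2 hαf
  have hβE := (Groth.Agent.LubinTateLib.E_iff_one hf gβ hβ0).2 hβf
  constructor
  · obtain ⟨G, -, huniq⟩ := Groth.Agent.LubinTateLib.existsUnique_series (σ := Unit) hπ (fun _ => α * β)
    have h1 := huniq gαβ ⟨hαβ0, fun _ => hαβ1, (Groth.Agent.LubinTateLib.E_iff_one hf gαβ hαβ0).2 hαβf⟩
    refine Eq.trans ?_ h1.symm
    refine huniq (PowerSeries.subst gβ gα) ⟨?_, fun j => ?_,
      Groth.Agent.LubinTateLib.E_subst_eq_zero hq gα _ hαE (fun _ => hβ0) (fun _ => hβE)⟩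
    · exact PowerSeries.constantCoeff_subst_eq_zero hβ0 gα hα0
    · rw [PowerSeries.subst_def, Groth.Agent.LubinTateLib.coeff_single_subst _ _ hα0 (fun _ => hβ0)]
      simp only [Finset.univ_unique, Finset.sum_singleton]
      exact congrArg₂ (· * ·) hα1 hβ1
  · obtain ⟨G, -, huniq⟩ := Groth.Agent.LubinTateLib.existsUnique_series (σ := Unit) hπ (fun _ => α + β)
    have h1 := huniq gs ⟨hs0, fun _ => hs1, (Groth.Agent.LubinTateLib.E_iff_one hf gs hs0).2 hsf⟩
    have ha0 : ∀ i, MvPowerSeries.constantCoeff ((![gα, gβ] : Fin 2 → MvPowerSeries Unit O) i) = 0 :=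
      Fin.forall_fin_two.2 ⟨hα0, hβ0⟩
    refine Eq.trans ?_ h1.symm
    refine huniq (MvPowerSeries.subst ![gα, gβ] F.toPowerSeries) ⟨?_, fun j => ?_,
      Groth.Agent.LubinTateLib.E_subst_eq_zero hq _ _ hFE ha0 (Fin.forall_fin_two.2 ⟨hαE, hβE⟩)⟩
    · exact MvPowerSeries.constantCoeff_subst_eq_zero (MvPowerSeries.hasSubst_of_constantCoeff_zero ha0) ha0 F.zero_constantCoeff
    · rw [Groth.Agent.LubinTateLib.coeff_single_subst _ _ F.zero_constantCoeff ha0, Fin.sum_univ_two,
        F.lin_coeff_X, F.lin_coeff_Y, one_mul, one_mul]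
      exact congrArg₂ (· + ·) hα1 hβ1

end Groth.Agent.S15060
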