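import Groth.Statements.S15062
import Mathlib
-- import your own Groth.Agent.* helpers here

set_option autoImplicit false
universe u
open scoped TensorProduct
open Hopf

namespace Groth.Agent.S15062

theorem sq_ker {R Q : Type*} [CommRing R] [CommRing Q] [Algebra R Q] [Algebra.FormallyUnramified R Q] (e : Q →ₐ[R] R) :
    RingHom.ker e ≤ RingHom.ker e ^ 2 := by
  intro x hx
  let K : Ideal (Q ⧸ RingHom.ker e ^ 2) := (RingHom.ker e).map (Ideal.Quotient.mk (RingHom.ker e ^ 2))
  have hK : K ^ 2 = ⊥ := by rw [← Ideal.map_pow, Ideal.map_quotient_self]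
  have := Algebra.FormallyUnramified.comp_injective K hK
    (a₁ := Ideal.Quotient.mkₐ R (RingHom.ker e ^ 2)) (a₂ := (Algebra.ofId R _).comp e) (by
      ext y
      simp only [AlgHom.comp_apply, Ideal.Quotient.mkₐ_eq_mk]
      rw [Ideal.Quotient.eq]
      show Ideal.Quotient.mk (RingHom.ker e ^ 2) y - algebraMap R _ (e y) ∈ K
      rw [show algebraMap R (Q ⧸ RingHom.ker e ^ 2) (e y) = Ideal.Quotient.mk (RingHom.ker e ^ 2) (algebraMap R Q (e y)) from rfl, ← map_sub]
      exact Ideal.mem_map_of_mem _ (by rw [RingHom.mem_ker, map_sub, AlgHom.commutes]; simp))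
  have h := congrArg (fun f : Q →ₐ[R] _ => f x) this
  simp only [AlgHom.comp_apply, Ideal.Quotient.mkₐ_eq_mk] at h
  rw [RingHom.mem_ker.1 hx, map_zero] at h
  exact Ideal.Quotient.eq_zero_iff_mem.1 h

theorem etale_to_local {R C B : Type*} [CommRing R] [IsNoetherianRing R] [CommRing C] [HopfAlgebra R C] [Module.Finite R C]
    [Algebra.FormallyUnramified R C] [CommRing B] [IsLocalRing B] [Algebra R B] [Nontrivial R] (ε : B →ₐ[R] R) (f : C →ₐ[R] B)
    (hf : ε.comp f = Bialgebra.counitAlgHom R C) (c : C) : f c = algebraMap R B (Bialgebra.counitAlgHom R C c) := by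
  set K := (RingHom.ker (Bialgebra.counitAlgHom R C)).map f.toRingHom with hK
  haveI : IsNoetherianRing C := isNoetherian_of_tower R inferInstance
  have hfg : K.FG := Ideal.FG.map (IsNoetherian.noetherian _) _
  have hsq : K ≤ K • K := by
    show K ≤ K * K
    rw [hK, ← Ideal.map_mul]
    exact Ideal.map_mono ((sq_ker _).trans (le_of_eq (pow_two _)))
  have hle : K ≤ IsLocalRing.maximalIdeal B := by
    rw [hK, Ideal.map_le_iff_le_comap]
    intro x hx
    refine IsLocalRing.le_maximalIdeal (RingHom.ker_ne_top ε) ?_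
    exact (congrArg (fun g : C →ₐ[R] R => g x) hf).trans (RingHom.mem_ker.1 hx)
  have hbot := Submodule.eq_bot_of_le_smul_of_le_jacobson_bot K K hfg hsq
    (by rw [IsLocalRing.jacobson_eq_maximalIdeal _ bot_ne_top]; exact hle)
  rw [← sub_eq_zero, ← AlgHom.commutes f, ← map_sub]
  refine (Submodule.eq_bot_iff _).1 hbot _ (Ideal.mem_map_of_mem _ ?_)
  rw [RingHom.mem_ker, map_sub, AlgHom.commutes]
  simp

open scoped TensorProduct in
theorem invariant_of_etale {R : Type*} [CommRing R] [IsNoetherianRing R] [Nontrivial R] {A : Type*} [CommRing A] [Bialgebra R A] (e : A)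
    (hε : Bialgebra.counitAlgHom R A e = 1) [IsLocalRing (A ⧸ Ideal.span ({1 - e} : Set A))]
    {C : Type*} [CommRing C] [HopfAlgebra R C] [Module.Finite R C] [Algebra.FormallyUnramified R C] (φ : C →ₐc[R] A) (c : C) :
    Algebra.TensorProduct.map (AlgHom.id R A) (Ideal.Quotient.mkₐ R (Ideal.span ({1 - e} : Set A))) (Coalgebra.comul (R := R) (φ c)) =
      φ c ⊗ₜ[R] 1 := by
  let εB : (A ⧸ Ideal.span ({1 - e} : Set A)) →ₐ[R] R := Ideal.Quotient.liftₐ _ (Bialgebra.counitAlgHom R A) (fun a ha => by
    obtain ⟨d, rfl⟩ := Ideal.mem_span_singleton'.1 ha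
    rw [map_mul, map_sub, map_one, hε, sub_self, mul_zero])
  have key : ∀ c, Ideal.Quotient.mk (Ideal.span ({1 - e} : Set A)) (φ c) = algebraMap R _ (Bialgebra.counitAlgHom R C c) :=
    etale_to_local εB ((Ideal.Quotient.mkₐ R _).comp (φ : C →ₐ[R] A)) (by
      ext x
      exact CoalgHomClass.counit_comp_apply φ x)
  have h : ∀ x : C ⊗[R] C, Algebra.TensorProduct.map (AlgHom.id R A) (Ideal.Quotient.mkₐ R (Ideal.span ({1 - e} : Set A))) (TensorProduct.map (φ : C →ₗ[R] A) (φ : C →ₗ[R] A) x) =
      φ (TensorProduct.rid R C (LinearMap.lTensor C (Coalgebra.counit : C →ₗ[R] R) x)) ⊗ₜ[R] 1 := by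
    intro x
    induction x using TensorProduct.induction_on with
    | zero => simp
    | add x y hx hy => rw [map_add, map_add, map_add, map_add, map_add, hx, hy, TensorProduct.add_tmul]
    | tmul a b =>
      rw [TensorProduct.map_tmul, Algebra.TensorProduct.map_tmul, LinearMap.lTensor_tmul, TensorProduct.rid_tmul, map_smul, TensorProduct.smul_tmul]
      show φ a ⊗ₜ[R] Ideal.Quotient.mk (Ideal.span ({1 - e} : Set A)) (φ b) = _
      rw [key, Algebra.algebraMap_eq_smul_one]
      rfl
  rw [← CoalgHomClass.map_comp_comul_apply φ c]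
  refine (h _).trans ?_
  rw [Coalgebra.lTensor_counit_comul, TensorProduct.rid_tmul, one_smul]

/-- Let R be a henselian Noetherian local ring and A a commutative Hopf algebra over R which is finite
and flat as an R-module (a finite flat R-group G = Spec A, not assumed commutative); let e ∈ A be an
idempotent with ε(e) = 1 such that A/(1 − e) is a local ring, so that G⁰ = Spec A/(1 − e) is the
connected component of the unit section, and let B ⊆ A be the subalgebra of functions invariant
under right translation by G⁰: the equaliser of a ↦ (id ⊗ π)(Δ a) and a ↦ a ⊗ 1 into A ⊗_R A/(1 − e)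
(so Spec B = G^ét). Then: (2) for every commutative Hopf algebra C over R which is finite étale over
R (a finite étale R-group H) and every bialgebra homomorphism φ : C → A (a homomorphism G → H), the
image of φ lies in B — the homomorphism factors (necessarily uniquely, A being faithfully flat over
B) through G → G^ét; (3) for every commutative Hopf algebra D over R which is finite and flat over R
and a local ring (a connected finite flat R-group H) and every bialgebra homomorphism ψ : A → D (a
homomorphism H → G), ψ(e) = 1, i.e. ψ kills the ideal (1 − e) and the homomorphism factors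
(uniquely) through G⁰ → G. -/
theorem result (R : Type u) [CommRing R] [HenselianLocalRing R] [IsNoetherianRing R]
    (A : Type u) [CommRing A] [HopfAlgebra R A] [Module.Finite R A] [Module.Flat R A]
    (e : A) (he : IsIdempotentElem e) (hε : Bialgebra.counitAlgHom R A e = 1)
    [IsLocalRing (A ⧸ Ideal.span ({1 - e} : Set A))] :
    (∀ (C : Type u) [CommRing C] [HopfAlgebra R C] [Module.Finite R C] [Algebra.Etale R C] (φ : C →ₐc[R] A) (c : C),
        φ c ∈ (AlgHom.equalizer
          ((Algebra.TensorProduct.map (AlgHom.id R A) (Ideal.Quotient.mkₐ R (Ideal.span ({1 - e} : Set A)))).comp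
            (Bialgebra.comulAlgHom R A))
          (Algebra.TensorProduct.includeLeft : A →ₐ[R] A ⊗[R] (A ⧸ Ideal.span ({1 - e} : Set A))))) ∧
      ∀ (D : Type u) [CommRing D] [HopfAlgebra R D] [Module.Finite R D] [Module.Flat R D] [IsLocalRing D]
        (ψ : A →ₐc[R] D), ψ e = 1 := by
  refine ⟨fun C _ _ _ _ φ c => invariant_of_etale e hε φ c, fun D _ _ _ _ _ ψ => ?_⟩
  have hi : IsIdempotentElem (ψ e) := he.map ψ
  rcases IsLocalRing.isUnit_or_isUnit_one_sub_self (ψ e) with h | h
  · exact (IsIdempotentElem.iff_eq_one_of_isUnit h).1 hi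
  · exfalso
    have h' := (IsIdempotentElem.iff_eq_one_of_isUnit h).1 hi.one_sub
    rw [sub_eq_self] at h'
    have h2 : Bialgebra.counitAlgHom R D (ψ e) = 1 := (CoalgHomClass.counit_comp_apply ψ e).trans hε
    rw [h', map_zero] at h2
    exact zero_ne_one h2

end Groth.Agent.S15062
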