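import Groth.Statements.S15063
import Mathlib
-- import your own Groth.Agent.* helpers here

set_option autoImplicit false
universe u
open Hopf

namespace Groth.Agent.S15063
set_option maxHeartbeats 1600000
open scoped TensorProduct

open scoped TensorProduct in
theorem conv3_triv {R : Type u} [CommRing R] {A : Type u} [CommRing A] [HopfAlgebra R A] {T L : Type u} [CommRing T] [CommRing L] [Algebra R T] [Algebra R L]
    (π : T →ₐ[R] L) (g h : A →ₐ[R] T) (hh : ∀ a, π (h a) = algebraMap R L (Bialgebra.counitAlgHom R A a)) (a : A) :
    π (Dyn.conv3 R A g h (g.comp (HopfAlgebra.antipodeAlgHom R A)) a) = algebraMap R L (Bialgebra.counitAlgHom R A a) := by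
  have key : ∀ y : A ⊗[R] A,
      π ((Algebra.TensorProduct.lmul' (S := T) R) ((Algebra.TensorProduct.map ((Algebra.TensorProduct.lmul' (S := T) R).comp (Algebra.TensorProduct.map g h)) (g.comp (HopfAlgebra.antipodeAlgHom R A)))
        (Algebra.TensorProduct.map (Bialgebra.comulAlgHom R A) (AlgHom.id R A) y))) =
      π (g (LinearMap.mul' R A ((HopfAlgebra.antipode R).lTensor A y))) := by
    intro y
    induction y using TensorProduct.induction_on with
    | zero => simp
    | add x y hx hy => simp only [map_add, hx, hy]
    | tmul u v =>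
      simp only [Algebra.TensorProduct.map_tmul, AlgHom.coe_id, id_eq, Algebra.TensorProduct.lmul'_apply_tmul, LinearMap.lTensor_tmul, LinearMap.mul'_apply, map_mul, AlgHom.comp_apply]
      congr 1
      have h2 : ∀ z : A ⊗[R] A, π (Algebra.TensorProduct.lmul' (S := T) R (Algebra.TensorProduct.map g h z)) =
          π (g (TensorProduct.rid R A (LinearMap.lTensor A (Coalgebra.counit : A →ₗ[R] R) z))) := by
        intro z
        induction z using TensorProduct.induction_on with
        | zero => simp
        | add x y hx hy => simp only [map_add, hx, hy]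
        | tmul p q =>
          rw [Algebra.TensorProduct.map_tmul, Algebra.TensorProduct.lmul'_apply_tmul, LinearMap.lTensor_tmul, TensorProduct.rid_tmul, map_mul, hh, map_smul, map_smul, Algebra.smul_def, mul_comm]
          rfl
      refine (h2 (Coalgebra.comul (R := R) u)).trans ?_
      rw [Coalgebra.lTensor_counit_comul, TensorProduct.rid_tmul, one_smul]
  refine (key (Coalgebra.comul (R := R) a)).trans ?_
  rw [HopfAlgebra.mul_antipode_lTensor_comul_apply, AlgHom.commutes, AlgHom.commutes]
  rfl

/-- Let R be a henselian Noetherian local ring and A a commutative Hopf algebra over R which is finite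
and flat as an R-module (a finite flat R-group G = Spec A, not assumed commutative); let e ∈ A be an
idempotent with ε(e) = 1 such that A/(1 − e) is a local ring, so that Spec A/(1 − e) is the
connected component G⁰ of G containing the unit section. Then G⁰ is normal in G: for every
commutative R-algebra T, every T-valued point g of G and every T-valued point h of G killing the
ideal (1 − e), the conjugate g·h·g⁻¹ again kills (1 − e). (The published statement is for a flat
affine algebraic R-group and also asserts that G⁰ is an open and closed flat subgroup; this row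
states the normality clause for finite flat G.) -/
theorem result (R : Type u) [CommRing R] [HenselianLocalRing R] [IsNoetherianRing R]
    (A : Type u) [CommRing A] [HopfAlgebra R A] [Module.Finite R A] [Module.Flat R A]
    (e : A) (he : IsIdempotentElem e) (hε : Bialgebra.counitAlgHom R A e = 1)
    [IsLocalRing (A ⧸ Ideal.span ({1 - e} : Set A))] :
    SGA3.IsNormalHopfIdeal R A (Ideal.span ({1 - e} : Set A)) := by
  intro T _ _ g h hI a ha
  obtain ⟨c, rfl⟩ := Ideal.mem_span_singleton'.1 ha
  suffices hz : Dyn.conv3 R A g h (g.comp (HopfAlgebra.antipodeAlgHom R A)) e = 1 by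
    rw [map_mul, map_sub, map_one, hz, sub_self, mul_zero]
  let F : A ⊗[R] A →ₐ[R] T := Algebra.TensorProduct.lift g h (fun _ _ => Commute.all _ _)
  haveI : Module.Finite R F.range := Module.Finite.of_surjective F.rangeRestrict.toLinearMap F.rangeRestrict_surjective
  haveI : Algebra.IsIntegral R F.range := Algebra.IsIntegral.of_finite R _
  let g' : A →ₐ[R] F.range := g.codRestrict _ (fun x => ⟨x ⊗ₜ 1, by simp [F]⟩)
  let h' : A →ₐ[R] F.range := h.codRestrict _ (fun x => ⟨1 ⊗ₜ x, by simp [F]⟩)
  set z := Dyn.conv3 R A g' h' (g'.comp (HopfAlgebra.antipodeAlgHom R A)) e with hz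
  have hsub : (z : T) = Dyn.conv3 R A g h (g.comp (HopfAlgebra.antipodeAlgHom R A)) e := by
    have : ∀ y, ((Algebra.TensorProduct.lmul' (S := F.range) R ((Algebra.TensorProduct.map ((Algebra.TensorProduct.lmul' (S := F.range) R).comp (Algebra.TensorProduct.map g' h')) (g'.comp (HopfAlgebra.antipodeAlgHom R A))) y) : F.range) : T) =
        Algebra.TensorProduct.lmul' (S := T) R ((Algebra.TensorProduct.map ((Algebra.TensorProduct.lmul' (S := T) R).comp (Algebra.TensorProduct.map g h)) (g.comp (HopfAlgebra.antipodeAlgHom R A))) y) := by
      intro y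
      induction y using TensorProduct.induction_on with
      | zero => simp
      | add x y hx hy => simp only [map_add, AddMemClass.coe_add, hx, hy]
      | tmul u v =>
        induction u using TensorProduct.induction_on with
        | zero => simp
        | add x y hx hy => simp only [TensorProduct.add_tmul, map_add, AddMemClass.coe_add, hx, hy]
        | tmul p q => simp [g', h'] <;> rfl
    exact this _
  have hone : z = 1 := by
    refine (IsIdempotentElem.iff_eq_one_of_isUnit ?_).1 (he.map (Dyn.conv3 R A g' h' (g'.comp (HopfAlgebra.antipodeAlgHom R A))))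
    by_contra hu
    obtain ⟨M, hM, hzM⟩ := exists_max_ideal_of_mem_nonunits hu
    haveI := hM
    have hh : ∀ x, Ideal.Quotient.mkₐ R M (h' x) = algebraMap R (F.range ⧸ M) (Bialgebra.counitAlgHom R A x) := by
      intro x
      let ψ : (A ⧸ Ideal.span ({1 - e} : Set A)) →ₐ[R] F.range := Ideal.Quotient.liftₐ _ h' (fun y hy => Subtype.ext (hI y hy))
      have hP : (M.comap ψ.toRingHom).IsMaximal := by
        haveI : (M.comap ψ.toRingHom).IsPrime := Ideal.comap_isPrime _ _
        apply Ideal.isMaximal_of_isIntegral_of_isMaximal_comap (R := R)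
        rw [Ideal.comap_comap, show (ψ.toRingHom.comp (algebraMap R _)) = algebraMap R F.range from ψ.comp_algebraMap]
        exact Ideal.isMaximal_comap_of_isIntegral_of_isMaximal M
      rw [← AlgHom.commutes (Ideal.Quotient.mkₐ R M), Ideal.Quotient.mkₐ_eq_mk, Ideal.Quotient.eq, ← AlgHom.commutes h', ← map_sub]
      show Ideal.Quotient.mk _ (x - algebraMap R A (Bialgebra.counitAlgHom R A x)) ∈ M.comap ψ.toRingHom
      rw [IsLocalRing.eq_maximalIdeal hP]
      let εB : (A ⧸ Ideal.span ({1 - e} : Set A)) →ₐ[R] R := Ideal.Quotient.liftₐ _ (Bialgebra.counitAlgHom R A) (fun a ha => by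
        obtain ⟨d, rfl⟩ := Ideal.mem_span_singleton'.1 ha
        rw [map_mul, map_sub, map_one, hε, sub_self, mul_zero])
      refine IsLocalRing.le_maximalIdeal (RingHom.ker_ne_top εB) ?_
      show Bialgebra.counitAlgHom R A (x - algebraMap R A (Bialgebra.counitAlgHom R A x)) = 0
      rw [map_sub, AlgHom.commutes]; simp
    have h1 := conv3_triv (Ideal.Quotient.mkₐ R M) g' h' hh e
    rw [← hz, hε, map_one, Ideal.Quotient.mkₐ_eq_mk, Ideal.Quotient.eq_zero_iff_mem.2 hzM] at h1
    exact zero_ne_one h1
  rw [← hsub, hone]
  rfl

end Groth.Agent.S15063
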