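import Groth.Statements.S15065
import Mathlib
import Groth.Agent.EtPts.Basic
-- import your own Groth.Agent.* helpers here

set_option autoImplicit false
universe u
open Hopf

namespace Groth.Agent.S15065

/-- Let k be an algebraically closed field and A a finite-dimensional commutative and cocommutative Hopf
algebra over k which is reduced (a finite étale commutative k-group G = Spec A), with dim_k A > 1,
and assume G is simple: every Hopf ideal of A is either zero or the augmentation ideal (no closed
subgroup schemes other than G and 1). Then the order dim_k A is a prime number ℓ, so that G is the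
constant group ℤ/ℓℤ. (The published statement lists the simple finite commutative groups over an
algebraically closed field of characteristic p > 0; the étale case does not use the characteristic
and is stated here for any algebraically closed field.) -/
theorem result (k : Type u) [Field k] [IsAlgClosed k] (A : Type u) [CommRing A] [HopfAlgebra k A]
    [Coalgebra.IsCocomm k A] [FiniteDimensional k A] [IsReduced A] (hA : 1 < Module.finrank k A)
    (hsimple : ∀ I : Ideal A, I.IsHopfIdeal k → I = ⊥ ∨ I = RingHom.ker (Bialgebra.counitAlgHom k A)) :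
    (Module.finrank k A).Prime := by
  classical
  haveI : Fintype (A →ₐ[k] k) := Fintype.ofFinite _
  rw [Groth.Agent.EtPts.card_points k A] at hA ⊢
  set n := Fintype.card (A →ₐ[k] k) with hn
  let e : WithConv (A →ₐ[k] k) ≃ (A →ₐ[k] k) := ⟨WithConv.ofConv, WithConv.toConv, fun _ => rfl, fun _ => rfl⟩
  haveI : Fintype (WithConv (A →ₐ[k] k)) := Fintype.ofEquiv _ e.symm
  have hcard : Fintype.card (WithConv (A →ₐ[k] k)) = n := Fintype.card_congr e
  by_contra hp
  have hℓ : n.minFac.Prime := Nat.minFac_prime (by omega)
  haveI : Fact n.minFac.Prime := ⟨hℓ⟩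
  obtain ⟨g, hg⟩ := exists_prime_orderOf_dvd_card n.minFac (G := WithConv (A →ₐ[k] k)) (by rw [hcard]; exact Nat.minFac_dvd n)
  set H := Subgroup.zpowers g with hH
  have hg1 : g ≠ 1 := fun h => hℓ.ne_one (by rw [← hg, h, orderOf_one])
  have hHtop : ∃ χ : A →ₐ[k] k, WithConv.toConv χ ∉ H := by
    by_contra hall
    push_neg at hall
    have : H = ⊤ := (Subgroup.eq_top_iff' H).2 fun x => hall x.ofConv
    have h1 : Nat.card H = n.minFac := by rw [hH, Nat.card_zpowers, hg]
    rw [this, Subgroup.card_top, Nat.card_eq_fintype_card, hcard] at h1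
    exact hp (h1 ▸ hℓ)
  let I : Ideal A := ⨅ χ : {χ : A →ₐ[k] k // WithConv.toConv χ ∈ H}, RingHom.ker χ.1
  have hmem : ∀ x, x ∈ I ↔ ∀ χ : A →ₐ[k] k, WithConv.toConv χ ∈ H → χ x = 0 := fun x => by
    simp [I, Ideal.mem_iInf, RingHom.mem_ker]
  set b := Groth.Agent.EtPts.basis k A with hb
  have hbI : ∀ χ : A →ₐ[k] k, WithConv.toConv χ ∉ H → b χ ∈ I := fun χ hχ => (hmem _).2 fun χ' hχ' => by
    rw [hb, Groth.Agent.EtPts.apply_basis, if_neg]
    rintro rfl; exact hχ hχ'
  have hopf : I.IsHopfIdeal k := by
    refine (Ideal.isHopfIdeal_iff k I).2 ⟨⟨fun x hx => ?_, fun x hx => ?_⟩, fun x hx => (hmem _).2 fun χ hχ => ?_⟩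
    · exact ((hmem x).1 hx (Bialgebra.counitAlgHom k A) (by
        rw [show WithConv.toConv (Bialgebra.counitAlgHom k A) = 1 by rw [AlgHom.convOne_def]; rfl]
        exact one_mem H))
    · rw [← (b.tensorProduct b).linearCombination_repr (Coalgebra.comul (R := k) x), Finsupp.linearCombination_apply, Finsupp.sum, map_sum]
      refine Finset.sum_eq_zero fun p _ => ?_
      obtain ⟨χ, χ'⟩ := p
      rw [map_smul, Module.Basis.tensorProduct_apply, TensorProduct.map_tmul]
      by_cases h1 : WithConv.toConv χ ∈ H
      · by_cases h2 : WithConv.toConv χ' ∈ H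
        · rw [Groth.Agent.EtPts.tensor_repr]
          have h3 := AlgHom.convMul_apply (WithConv.toConv χ) (WithConv.toConv χ') x
          have h4 := (hmem x).1 hx (WithConv.toConv χ * WithConv.toConv χ').ofConv (H.mul_mem h1 h2)
          have h5 : Algebra.TensorProduct.lift χ χ' (fun _ _ => Commute.all _ _) (Coalgebra.comul (R := k) x) = 0 := h3.symm.trans h4
          rw [h5, zero_smul]
        · rw [show (I.restrictScalars k).mkQ (b χ') = 0 from (Submodule.Quotient.mk_eq_zero _).2 (hbI _ h2), TensorProduct.tmul_zero, smul_zero]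
      · rw [show (I.restrictScalars k).mkQ (b χ) = 0 from (Submodule.Quotient.mk_eq_zero _).2 (hbI _ h1), TensorProduct.zero_tmul, smul_zero]
    · exact (hmem x).1 hx ((WithConv.toConv χ)⁻¹).ofConv (H.inv_mem hχ)
  rcases hsimple I hopf with h | h
  · obtain ⟨χ, hχ⟩ := hHtop
    have := hbI χ hχ
    rw [h, Submodule.mem_bot] at this
    exact b.ne_zero χ this
  · have h1 : b g.ofConv ∈ RingHom.ker (Bialgebra.counitAlgHom k A) := by
      rw [RingHom.mem_ker, hb, Groth.Agent.EtPts.apply_basis, if_neg]
      intro he
      apply hg1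
      have := congrArg WithConv.toConv he
      rw [WithConv.toConv_ofConv] at this
      rw [this, AlgHom.convOne_def]; rfl
    rw [← h] at h1
    have h2 := (hmem _).1 h1 g.ofConv (Subgroup.mem_zpowers g)
    rw [hb, Groth.Agent.EtPts.apply_basis, if_pos rfl] at h2
    exact one_ne_zero h2

end Groth.Agent.S15065
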