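import Groth.Statements.S15066
import Groth.Agent.S7979
import Groth.Agent.HopfFF.Normal
import Groth.Agent.CommGrpDecomp.Unip
import Groth.Agent.CommGrpDecomp.Decomp
import Groth.Agent.ComodBasic.HochVanish
import Mathlib


set_option autoImplicit false
universe u
open Hopf

namespace Groth.Agent.S15066

/-- Let k be an algebraically closed field of characteristic p > 0 and A a finite-dimensional
commutative and cocommutative Hopf algebra over k (a finite commutative k-group G = Spec A) which is
a local ring (G connected) and whose dual algebra Hom_k(A, k) with the convolution product is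
reduced (the Cartier dual of G is étale, i.e. G is multiplicative), with dim_k A > 1, and assume G
is simple: every Hopf ideal of A is either zero or the augmentation ideal (no closed subgroup
schemes other than G and 1). Then G is isomorphic to μ_p: A has a group-like element g (Δ(g) = g ⊗
g, ε(g) = 1) with g^p = 1 whose powers 1, g, …, g^(p−1) are linearly independent over k, and dim_k A
= p (so A = k[g]/(g^p − 1)). -/
theorem result (k : Type u) [Field k] [IsAlgClosed k] (p : ℕ) [Fact p.Prime]
    [CharP k p] (A : Type u) [CommRing A] [HopfAlgebra k A] [Coalgebra.IsCocomm k A] [FiniteDimensional k A]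
    [IsLocalRing A] (hdual : IsReduced (WithConv (A →ₗ[k] k))) (hA : 1 < Module.finrank k A)
    (hsimple : ∀ I : Ideal A, I.IsHopfIdeal k → I = ⊥ ∨ I = RingHom.ker (Bialgebra.counitAlgHom k A)) :
    ∃ g : A, IsGroupLikeElem k g ∧ g ^ p = 1 ∧ LinearIndependent k (fun i : Fin p => g ^ (i : ℕ)) ∧
      Module.finrank k A = p := by
  open TensorProduct CoalgebraStruct Groth.Agent.ComodBasic in
  exact (by
    classical
    letI : CommRing (Cv k A) := LinearMap.convCommRing
    haveI : IsReduced (Cv k A) := hdual
    haveI : Module.Finite k (Cv k A) := Module.Finite.of_injective (WithConv.linearEquiv k (A →ₗ[k] k)).toLinearMap (LinearEquiv.injective _)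
    haveI : IsArtinianRing (Cv k A) := isArtinian_of_tower k inferInstance
    haveI : IsSemisimpleRing (Cv k A) := IsArtinianRing.isSemisimpleRing_of_isReduced _
    have hLR : HopfRep.IsLinearlyReductive k A := by
      intro V _ _ _ _
      refine isSemisimpleComod_iff.2 ?_
      infer_instance
    obtain ⟨α, hα, h1⟩ := exists_isLeftInt hLR
    have hp : ∀ f : A, comul (R := k) f = f ⊗ₜ[k] (1 : A) + (1 : A) ⊗ₜ[k] f → f = 0 :=
      fun f hf => S7979.primitive_eq_zero_of_integral ⟨hα, h1⟩ hf
    have hspan : Submodule.span k {a : A | IsGroupLikeElem k a} = ⊤ := by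
      refine top_le_iff.1 ?_
      rw [← CommGrpDecomp.span_groupLike_mul_eq_top (K := k) (H := A), Submodule.span_le]
      rintro _ ⟨g, hg, n, b, hb, rfl⟩
      have hb' : b ∈ (socSeries k A A 1).restrictScalars k := S7979.socSeries_le_one hp n hb
      rw [socSeries_one_regular, Submodule.mem_span_singleton] at hb'
      obtain ⟨t, rfl⟩ := hb'
      rw [mul_smul_comm, mul_one]
      exact Submodule.smul_mem _ _ (Submodule.subset_span hg)
    obtain ⟨g₀, hg₀, hne⟩ : ∃ g, IsGroupLikeElem k g ∧ g ≠ (1 : A) := by
      by_contra h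
      push Not at h
      have hle : (⊤ : Submodule k A) ≤ Submodule.span k {(1 : A)} := by
        rw [← hspan]; exact Submodule.span_mono fun g hg => h g hg
      have h2 : Module.finrank k A ≤ 1 := by
        rw [← finrank_top k A]
        exact (Submodule.finrank_mono hle).trans (finrank_span_singleton (one_ne_zero (α := A))).le
      omega
    haveI : CharP A p := charP_of_injective_algebraMap (algebraMap k A).injective p
    haveI : IsArtinianRing A := isArtinian_of_tower k inferInstance
    obtain ⟨N, hN⟩ : ∃ N, g₀ ^ p ^ N = 1 := by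
      have hm : g₀ - 1 ∈ IsLocalRing.maximalIdeal A := by
        refine IsLocalRing.le_maximalIdeal (RingHom.ker_ne_top (Bialgebra.counitAlgHom k A)) ?_
        show counit (R := k) (g₀ - 1) = 0
        rw [map_sub, hg₀.counit_eq_one, Bialgebra.counit_one, sub_self]
      have hnil : IsNilpotent (g₀ - 1) := by
        obtain ⟨n, hn⟩ := IsArtinianRing.isNilpotent_jacobson_bot (R := A)
        rw [IsLocalRing.jacobson_eq_maximalIdeal ⊥ bot_ne_top] at hn
        have h3 := Ideal.pow_mem_pow hm n
        rw [hn] at h3
        exact ⟨n, h3⟩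
      obtain ⟨n, hn⟩ := hnil
      refine ⟨n, sub_eq_zero.1 ?_⟩
      rw [show g₀ ^ p ^ n - 1 = (g₀ - 1) ^ p ^ n by rw [sub_pow_char_pow, one_pow]]
      exact pow_eq_zero_of_le (Nat.lt_pow_self (Fact.out : p.Prime).one_lt).le hn
    have hex : ∃ n, g₀ ^ p ^ n = 1 := ⟨N, hN⟩
    obtain ⟨m, hm⟩ : ∃ m, Nat.find hex = m + 1 := Nat.exists_eq_succ_of_ne_zero fun h => by
      have := Nat.find_spec hex
      rw [h, pow_zero, pow_one] at this
      exact hne this
    set g := g₀ ^ p ^ m with hgdef
    have hg : IsGroupLikeElem k g := hg₀.pow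
    have hgp : g ^ p = 1 := by
      rw [hgdef, ← pow_mul, ← pow_succ, ← hm]
      exact Nat.find_spec hex
    have hg1 : g ≠ 1 := Nat.find_min hex (by omega)
    have hp0 : 0 < p := (Fact.out : p.Prime).pos
    let S : Set A := Set.range fun i : Fin p => g ^ (i : ℕ)
    have hpow : ∀ n : ℕ, g ^ n ∈ S := fun n => ⟨⟨n % p, Nat.mod_lt _ hp0⟩, by
      show g ^ (n % p) = g ^ n
      conv_rhs => rw [← Nat.mod_add_div n p, pow_add, pow_mul, hgp, one_pow, mul_one]⟩
    let B : Subalgebra k A := (Submodule.span k S).toSubalgebra (Submodule.subset_span (pow_zero g ▸ hpow 0))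
      fun x y hx hy => by
        have h := Submodule.mul_mem_mul hx hy
        rw [Submodule.span_mul_span] at h
        refine Submodule.span_mono ?_ h
        rintro _ ⟨_, ⟨i, rfl⟩, _, ⟨j, rfl⟩, rfl⟩
        show g ^ (i : ℕ) * g ^ (j : ℕ) ∈ S
        rw [← pow_add]
        exact hpow _
    have hB : SGA3.IsHopfSubalgebra k A B := by
      refine ⟨fun b hb => ?_, fun b hb => ?_⟩
      · have hb' : b ∈ Submodule.span k S := hb
        induction hb' using Submodule.span_induction with
        | mem x hx =>
          obtain ⟨i, rfl⟩ := hx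
          refine ⟨(⟨g ^ (i : ℕ), Submodule.subset_span (hpow _)⟩ : B) ⊗ₜ ⟨g ^ (i : ℕ), Submodule.subset_span (hpow _)⟩, ?_⟩
          rw [(hg.pow (n := (i : ℕ))).comul_eq_tmul_self]
          rfl
        | zero => simp
        | add x y hx hy ihx ihy => rw [map_add]; exact add_mem (ihx hx) (ihy hy)
        | smul c x hx ih => rw [map_smul]; exact Submodule.smul_mem _ c (ih hx)
      · have hb' : b ∈ Submodule.span k S := hb
        induction hb' using Submodule.span_induction with
        | mem x hx =>
          obtain ⟨i, rfl⟩ := hx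
          have hinv : g ^ (i : ℕ) * g ^ (p - (i : ℕ)) = 1 := by
            rw [← pow_add, Nat.add_sub_cancel' i.2.le, hgp]
          have : HopfAlgebraStruct.antipode (R := k) (g ^ (i : ℕ)) = g ^ (p - (i : ℕ)) :=
            left_inv_eq_right_inv (hg.pow (n := (i : ℕ))).antipode_mul_cancel hinv
          show HopfAlgebraStruct.antipode (R := k) (g ^ (i : ℕ)) ∈ B
          rw [this]
          exact Submodule.subset_span (hpow _)
        | zero => rw [map_zero]; exact zero_mem _
        | add x y hx hy ihx ihy => rw [map_add]; exact add_mem (ihx hx) (ihy hy)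
        | smul c x hx ih => rw [map_smul]; exact Subalgebra.smul_mem _ (ih hx) c
    let I := SGA3.augIdealSpan k A B
    haveI hI : I.IsHopfIdeal k := CommGrpDecomp.isHopfIdeal_augIdealSpan B hB
    have hIker : I = RingHom.ker (Bialgebra.counitAlgHom k A) := by
      refine (hsimple I hI).resolve_left fun h0 => hg1 ?_
      have h : g - 1 ∈ I := Ideal.subset_span ⟨sub_mem (Submodule.subset_span (pow_one g ▸ hpow 1) : g ∈ B) (one_mem B), by
        rw [map_sub, hg.counit_eq_one, Bialgebra.counit_one, sub_self]⟩
      rw [h0, Submodule.mem_bot] at h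
      exact sub_eq_zero.1 h
    have htop : ∀ x : A, x ∈ B := by
      intro x
      refine HopfFF.mem_of_mem_invSub I hB le_rfl ((HopfFF.mem_invSub I).2 ?_)
      have hq : ∀ a : A, Ideal.Quotient.mkₐ k I a = algebraMap k (A ⧸ I) (counit (R := k) a) := by
        intro a
        rw [← Ideal.Quotient.mk_algebraMap]
        refine Ideal.Quotient.eq.2 (hIker.ge ?_)
        show counit (R := k) _ = 0
        simp
      show Algebra.TensorProduct.map (AlgHom.id k A) (Ideal.Quotient.mkₐ k I) (comul (R := k) x) = _
      have h := congrArg (fun t => (TensorProduct.rid k A t) ⊗ₜ[k] (1 : A ⧸ I))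
        (Coalgebra.lTensor_counit_comul (R := k) x)
      simp only [TensorProduct.rid_tmul, one_smul] at h
      refine Eq.trans ?_ h
      generalize comul (R := k) x = z
      induction z using TensorProduct.induction_on with
      | zero => simp
      | add a b ha hb => simp only [map_add, add_tmul, ha, hb]
      | tmul a b =>
        rw [Algebra.TensorProduct.map_tmul, hq, Algebra.algebraMap_eq_smul_one, tmul_smul, LinearMap.lTensor_tmul,
          TensorProduct.rid_tmul, ← smul_tmul']
        rfl
    have hli : LinearIndependent k (fun i : Fin p => g ^ (i : ℕ)) := by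
      refine (linearIndepOn_isGroupLikeElem (R := k) (A := A)).linearIndependent.comp
        (fun i : Fin p => (⟨g ^ (i : ℕ), hg.pow⟩ : {a : A | IsGroupLikeElem k a})) ?_
      intro i j hij
      have hij' : g ^ (i : ℕ) = g ^ (j : ℕ) := congrArg Subtype.val hij
      have hord : orderOf g = p := orderOf_eq_prime hgp hg1
      exact Fin.ext (pow_injOn_Iio_orderOf (by rw [hord]; exact i.2) (by rw [hord]; exact j.2) hij')
    refine ⟨g, hg, hgp, hli, ?_⟩
    have hS : Submodule.span k S = ⊤ := top_le_iff.1 fun x _ => htop x
    rw [← finrank_top k A, ← hS, finrank_span_eq_card hli, Fintype.card_fin])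

end Groth.Agent.S15066
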