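import Groth.Statements.S18472
import Groth.Agent.HopfKaehler.Basic
-- import your own Groth.Agent.* helpers here

set_option autoImplicit false
universe u v
open Hopf

namespace Groth.Agent.S18472

/-- Let R be a commutative ring and A a commutative Hopf algebra over R which is finitely generated and
projective as an R-module (a finite locally free group scheme G = Spec A over Spec R), and let I =
ker ε be its augmentation ideal. Then A is étale over R if and only if I² = I. (The published text
calls G finite flat, meaning that A is finitely generated and projective.) -/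
theorem result
    (R : Type u) [CommRing R] (A : Type v) [CommRing A] [HopfAlgebra R A]
    [Module.Finite R A] [Module.Projective R A] :
    Algebra.Etale R A ↔
      RingHom.ker (Bialgebra.counitAlgHom R A) ^ 2 = RingHom.ker (Bialgebra.counitAlgHom R A) := by
  let ε := Bialgebra.counitAlgHom R A
  let I : Ideal A := RingHom.ker ε
  obtain ⟨e⟩ := HopfKaehler.nonempty_equiv R A
  have hV : Subsingleton (Ω[A⁄R]) ↔ HopfKaehler.W R A = ⊤ := by
    rw [← e.toEquiv.subsingleton_congr, ← Submodule.Quotient.subsingleton_iff]
    refine ⟨fun h => ⟨fun v w => ?_⟩, fun h => inferInstance⟩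
    have := congrArg (fun z => TensorProduct.lid R (HopfKaehler.V R A)
      (LinearMap.rTensor _ (Coalgebra.counit (R := R) (A := A)) z))
      (@Subsingleton.elim _ h ((1 : A) ⊗ₜ[R] v) ((1 : A) ⊗ₜ[R] w))
    simpa using this
  have hW : HopfKaehler.W R A = ⊤ ↔ I ^ 2 = I := by
    have hgen : ∀ u v : A, u * v - Coalgebra.counit (R := R) u • v - Coalgebra.counit (R := R) v • u =
        (u - algebraMap R A (ε u)) * (v - algebraMap R A (ε v)) - algebraMap R A (ε u * ε v) := by
      intro u v
      simp only [Algebra.smul_def, map_mul, ε, Bialgebra.counitAlgHom_apply]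
      ring
    have hker : ∀ u : A, u - algebraMap R A (ε u) ∈ I := fun u => by
      rw [RingHom.mem_ker, map_sub, AlgHom.commutes]
      simp
    constructor
    · intro h
      refine le_antisymm (Ideal.pow_le_self two_ne_zero) fun x hx => ?_
      have hmem : ∀ w ∈ HopfKaehler.W R A, ∃ c : R, w + algebraMap R A c ∈ I ^ 2 := by
        intro w hw
        induction hw using Submodule.span_induction with
        | mem w hw =>
          obtain ⟨⟨u, v⟩, rfl⟩ := hw
          refine ⟨ε u * ε v, ?_⟩
          dsimp only
          rw [hgen, sub_add_cancel, pow_two]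
          exact Ideal.mul_mem_mul (hker u) (hker v)
        | zero => exact ⟨0, by simp⟩
        | add a b _ _ ha hb =>
          obtain ⟨c, hc⟩ := ha
          obtain ⟨d, hd⟩ := hb
          exact ⟨c + d, by rw [map_add, add_add_add_comm]; exact add_mem hc hd⟩
        | smul r a _ ha =>
          obtain ⟨c, hc⟩ := ha
          refine ⟨r * c, ?_⟩
          rw [map_mul, Algebra.smul_def, ← mul_add]
          exact Ideal.mul_mem_left _ _ hc
      obtain ⟨c, hc⟩ := hmem x (h ▸ trivial)
      have h0 : ε (x + algebraMap R A c) = 0 := Ideal.pow_le_self two_ne_zero hc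
      have hx0 : ε x = 0 := hx
      rw [map_add, AlgHom.commutes, hx0, zero_add] at h0
      have hc0 : c = 0 := by simpa using h0
      simpa [hc0] using hc
    · intro h
      refine eq_top_iff.2 fun b _ => ?_
      have hone : ∀ r : R, algebraMap R A r ∈ HopfKaehler.W R A := by
        intro r
        rw [Algebra.algebraMap_eq_smul_one]
        refine Submodule.smul_mem _ _ ?_
        rw [← neg_neg (1 : A)]
        refine Submodule.neg_mem _ (Submodule.subset_span ⟨(1, 1), ?_⟩)
        simp
      have hI : ∀ y ∈ I ^ 2, y ∈ HopfKaehler.W R A := by
        intro y hy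
        rw [pow_two] at hy
        refine Submodule.mul_induction_on hy (fun u hu v hv => ?_) (fun a b ha hb => add_mem ha hb)
        refine Submodule.subset_span ⟨(u, v), ?_⟩
        have hu0 : Coalgebra.counit (R := R) u = 0 := hu
        have hv0 : Coalgebra.counit (R := R) v = 0 := hv
        simp [hu0, hv0]
      rw [← sub_add_cancel b (algebraMap R A (ε b))]
      exact add_mem (hI _ (h.symm ▸ hker b)) (hone _)
  rw [← hW, ← hV]
  refine ⟨fun h => inferInstance, fun h => ?_⟩
  haveI : Algebra.FormallyUnramified R A := ⟨h⟩
  haveI : Module.FinitePresentation R A := Module.finitePresentation_of_projective R A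
  exact Algebra.Etale.of_formallyUnramified_of_flat

end Groth.Agent.S18472
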