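import Groth.Statements.S15067
import Mathlib
import Groth.Agent.S18472
-- import your own Groth.Agent.* helpers here

set_option autoImplicit false
universe u
open scoped TensorProduct
open Hopf

namespace Groth.Agent.S15067

theorem sq_ker {R Q : Type*} [CommRing R] [CommRing Q] [Algebra R Q] [Algebra.FormallyUnramified R Q] (e : Q →ₐ[R] R) :
    RingHom.ker e ≤ RingHom.ker e ^ 2 := by
  intro x hx
  let K : Ideal (Q ⧸ RingHom.ker e ^ 2) := (RingHom.ker e).map (Ideal.Quotient.mk (RingHom.ker e ^ 2))
  have hK : K ^ 2 = ⊥ := by rw [← Ideal.map_pow, Ideal.map_quotient_self]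
  have := Algebra.FormallyUnramified.comp_injective K hK
    (a₁ := Ideal.Quotient.mkₐ R (RingHom.ker e ^ 2)) (a₂ := (Algebra.ofId R _).comp e) (by
      ext y
      simp only [AlgHom.comp_apply, Ideal.Quotient.mkₐ_eq_mk]
      rw [Ideal.Quotient.eq]
      show Ideal.Quotient.mk (RingHom.ker e ^ 2) y - algebraMap R _ (e y) ∈ K
      rw [show algebraMap R (Q ⧸ RingHom.ker e ^ 2) (e y) = Ideal.Quotient.mk (RingHom.ker e ^ 2) (algebraMap R Q (e y)) from rfl, ← map_sub]
      exact Ideal.mem_map_of_mem _ (by rw [RingHom.mem_ker, map_sub, AlgHom.commutes]; simp))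
  have h := congrArg (fun f : Q →ₐ[R] _ => f x) this
  simp only [AlgHom.comp_apply, Ideal.Quotient.mkₐ_eq_mk] at h
  rw [RingHom.mem_ker.1 hx, map_zero] at h
  exact Ideal.Quotient.eq_zero_iff_mem.1 h

/-- Let R be a henselian Noetherian local ring, A and A'' commutative Hopf algebras over R which are
finite and flat as R-modules (finite flat R-groups G = Spec A, G'' = Spec A''), and A'' → A an
R-algebra homomorphism compatible with the comultiplications and counits (a homomorphism π : G →
G'') making A a faithfully flat A''-module (π faithfully flat). Let J ⊆ A be the ideal generated by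
the image of the augmentation ideal of A'', so that G' = Spec A/J is the kernel of π and 1 → G' → G
→ G'' → 1 is an exact sequence of finite flat R-groups. Then: (2) if A'' and A/J are local rings
(G'' and G' connected), A is a local ring (G is connected); (3) if A'' and A/J are étale over R (G''
and G' finite étale), A is étale over R (G is finite étale). -/
theorem result (R : Type u) [CommRing R] [HenselianLocalRing R] [IsNoetherianRing R]
    (A A'' : Type u) [CommRing A] [HopfAlgebra R A] [Module.Finite R A] [Module.Flat R A]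
    [CommRing A''] [HopfAlgebra R A''] [Module.Finite R A''] [Module.Flat R A'']
    [Algebra A'' A] [IsScalarTower R A'' A] [Module.FaithfullyFlat A'' A]
    (hΔ : (Bialgebra.comulAlgHom R A).comp (IsScalarTower.toAlgHom R A'' A) =
      (Algebra.TensorProduct.map (IsScalarTower.toAlgHom R A'' A) (IsScalarTower.toAlgHom R A'' A)).comp
        (Bialgebra.comulAlgHom R A''))
    (hε : (Bialgebra.counitAlgHom R A).comp (IsScalarTower.toAlgHom R A'' A) = Bialgebra.counitAlgHom R A'') :
    ((IsLocalRing A'' ∧
        IsLocalRing (A ⧸ (RingHom.ker (Bialgebra.counitAlgHom R A'')).map (algebraMap A'' A))) → IsLocalRing A) ∧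
      ((Algebra.Etale R A'' ∧
        Algebra.Etale R (A ⧸ (RingHom.ker (Bialgebra.counitAlgHom R A'')).map (algebraMap A'' A))) →
        Algebra.Etale R A) := by
  set I'' := RingHom.ker (Bialgebra.counitAlgHom R A'') with hI''
  set J := I''.map (algebraMap A'' A) with hJ
  set I := RingHom.ker (Bialgebra.counitAlgHom R A) with hI
  have hJI : J ≤ I := Ideal.map_le_iff_le_comap.2 fun x hx => by
    rw [Ideal.mem_comap, hI, RingHom.mem_ker]
    exact (congrArg (fun f : A'' →ₐ[R] R => f x) hε).trans (RingHom.mem_ker.1 hx)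
  haveI : Module.Finite A'' A := Module.Finite.of_restrictScalars_finite R A'' A
  constructor
  · rintro ⟨hl, hl'⟩
    obtain ⟨M₀, hM₀, huniq⟩ := (IsLocalRing.maximal_ideal_unique (R := A ⧸ J))
    refine IsLocalRing.of_unique_max_ideal ⟨M₀.comap (Ideal.Quotient.mk J), Ideal.comap_isMaximal_of_surjective _ Ideal.Quotient.mk_surjective (K := M₀) (H := hM₀), fun M hM => ?_⟩
    have hJM : J ≤ M := by
      haveI := hM
      have hmax : (M.comap (algebraMap A'' A)).IsMaximal := Ideal.isMaximal_comap_of_isIntegral_of_isMaximal M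
      rw [hJ, Ideal.map_le_iff_le_comap, IsLocalRing.eq_maximalIdeal hmax]
      exact IsLocalRing.le_maximalIdeal (RingHom.ker_ne_top _)
    have hker : RingHom.ker (Ideal.Quotient.mk J) ≤ M := by rwa [Ideal.mk_ker]
    have hmap : (M.map (Ideal.Quotient.mk J)).IsMaximal := by
      haveI := hM
      exact Ideal.IsMaximal.map_of_surjective_of_ker_le Ideal.Quotient.mk_surjective hker
    rw [← huniq _ hmap, Ideal.comap_map_of_surjective _ Ideal.Quotient.mk_surjective, ← RingHom.ker_eq_comap_bot, Ideal.mk_ker, sup_eq_left.2 hJM]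
  · rintro ⟨h1, h2⟩
    haveI : Module.Free R A := Module.free_of_flat_of_isLocalRing
    haveI : Module.Free R A'' := Module.free_of_flat_of_isLocalRing
    refine (Groth.Agent.S18472.result R A).2 (le_antisymm (Ideal.pow_le_self two_ne_zero) ?_)
    have hsq'' := (Groth.Agent.S18472.result R A'').1 h1
    have hJsq : J ≤ I ^ 2 := by
      calc J = (I'' ^ 2).map (algebraMap A'' A) := by rw [hI'', hsq'']
        _ = J ^ 2 := Ideal.map_pow _ _ _
        _ ≤ I ^ 2 := Ideal.pow_right_mono hJI 2
    let e : (A ⧸ J) →ₐ[R] R := Ideal.Quotient.liftₐ J (Bialgebra.counitAlgHom R A) (fun a ha => hJI ha)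
    intro x hx
    have hxe : Ideal.Quotient.mk J x ∈ RingHom.ker e := hx
    have hker : RingHom.ker e = I.map (Ideal.Quotient.mk J) := by
      apply le_antisymm
      · intro q hq
        obtain ⟨y, rfl⟩ := Ideal.Quotient.mk_surjective q
        exact Ideal.mem_map_of_mem _ hq
      · exact Ideal.map_le_iff_le_comap.2 fun y hy => hy
    have := sq_ker e hxe
    rw [hker, ← Ideal.map_pow, ← Ideal.mem_comap, Ideal.comap_map_of_surjective _ Ideal.Quotient.mk_surjective, ← RingHom.ker_eq_comap_bot, Ideal.mk_ker] at this
    exact sup_le le_rfl hJsq this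

end Groth.Agent.S15067
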