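import Groth.Statements.S15068
import Mathlib
-- import your own Groth.Agent.* helpers here

set_option autoImplicit false
universe u
open scoped TensorProduct
open Hopf

namespace Groth.Agent.S15068
set_option maxHeartbeats 1600000

theorem sq_ker {R Q : Type*} [CommRing R] [CommRing Q] [Algebra R Q] [Algebra.FormallyUnramified R Q] (e : Q →ₐ[R] R) :
    RingHom.ker e ≤ RingHom.ker e ^ 2 := by
  intro x hx
  let K : Ideal (Q ⧸ RingHom.ker e ^ 2) := (RingHom.ker e).map (Ideal.Quotient.mk (RingHom.ker e ^ 2))
  have hK : K ^ 2 = ⊥ := by rw [← Ideal.map_pow, Ideal.map_quotient_self]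
  have := Algebra.FormallyUnramified.comp_injective K hK
    (a₁ := Ideal.Quotient.mkₐ R (RingHom.ker e ^ 2)) (a₂ := (Algebra.ofId R _).comp e) (by
      ext y
      simp only [AlgHom.comp_apply, Ideal.Quotient.mkₐ_eq_mk]
      rw [Ideal.Quotient.eq]
      show Ideal.Quotient.mk (RingHom.ker e ^ 2) y - algebraMap R _ (e y) ∈ K
      rw [show algebraMap R (Q ⧸ RingHom.ker e ^ 2) (e y) = Ideal.Quotient.mk (RingHom.ker e ^ 2) (algebraMap R Q (e y)) from rfl, ← map_sub]
      exact Ideal.mem_map_of_mem _ (by rw [RingHom.mem_ker, map_sub, AlgHom.commutes]; simp))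
  have h := congrArg (fun f : Q →ₐ[R] _ => f x) this
  simp only [AlgHom.comp_apply, Ideal.Quotient.mkₐ_eq_mk] at h
  rw [RingHom.mem_ker.1 hx, map_zero] at h
  exact Ideal.Quotient.eq_zero_iff_mem.1 h

/-- Let R be a henselian Noetherian local ring, A and A'' commutative Hopf algebras over R which are
finite and flat as R-modules, and A'' → A an R-algebra homomorphism compatible with
comultiplications and counits making A faithfully flat over A'' (a faithfully flat homomorphism π :
G → G'' of finite flat R-groups); let J ⊆ A be the ideal generated by the image of the augmentation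
ideal of A'' (G' = Spec A/J = ker π, so 1 → G' → G → G'' → 1 is exact). Assume A'' is a local ring
(G'' connected) and A/J is étale over R (G' finite étale), and let e ∈ A be an idempotent with ε(e)
= 1 such that A/(1 − e) is local (G⁰ = Spec A/(1 − e), the unit component of G). Then the composite
A'' → A → A/(1 − e) is bijective: the restriction G⁰ → G'' of π is an isomorphism, whose inverse
splits the extension, G ≅ G' × G''. -/
theorem result (R : Type u) [CommRing R] [HenselianLocalRing R]
    [IsNoetherianRing R] (A A'' : Type u) [CommRing A] [HopfAlgebra R A] [Module.Finite R A] [Module.Flat R A]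
    [CommRing A''] [HopfAlgebra R A''] [Module.Finite R A''] [Module.Flat R A'']
    [Algebra A'' A] [IsScalarTower R A'' A] [Module.FaithfullyFlat A'' A]
    (hΔ : (Bialgebra.comulAlgHom R A).comp (IsScalarTower.toAlgHom R A'' A) =
      (Algebra.TensorProduct.map (IsScalarTower.toAlgHom R A'' A) (IsScalarTower.toAlgHom R A'' A)).comp
        (Bialgebra.comulAlgHom R A''))
    (hε : (Bialgebra.counitAlgHom R A).comp (IsScalarTower.toAlgHom R A'' A) = Bialgebra.counitAlgHom R A'')
    [IsLocalRing A''] [Algebra.Etale R (A ⧸ (RingHom.ker (Bialgebra.counitAlgHom R A'')).map (algebraMap A'' A))]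
    (e : A) (he : IsIdempotentElem e) (heε : Bialgebra.counitAlgHom R A e = 1)
    [IsLocalRing (A ⧸ Ideal.span ({1 - e} : Set A))] :
    Function.Bijective ((Ideal.Quotient.mkₐ R (Ideal.span ({1 - e} : Set A))).comp (IsScalarTower.toAlgHom R A'' A)) := by
  set I'' := RingHom.ker (Bialgebra.counitAlgHom R A'') with hI''
  set J := I''.map (algebraMap A'' A) with hJ
  set I := RingHom.ker (Bialgebra.counitAlgHom R A) with hI
  set E := Ideal.span ({1 - e} : Set A) with hE
  have hJI : J ≤ I := Ideal.map_le_iff_le_comap.2 fun x hx => by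
    rw [Ideal.mem_comap, hI, RingHom.mem_ker]
    exact (congrArg (fun f : A'' →ₐ[R] R => f x) hε).trans (RingHom.mem_ker.1 hx)
  haveI : Module.Finite A'' A := Module.Finite.of_restrictScalars_finite R A'' A
  haveI : Module.Finite A'' (A ⧸ E) := Module.Finite.of_restrictScalars_finite R A'' (A ⧸ E)
  have hEker : E ≤ LinearMap.ker (LinearMap.mul A A e) := by
    rw [hE, Ideal.span, Submodule.span_le, Set.singleton_subset_iff]
    show e * (1 - e) = 0
    rw [mul_sub, mul_one, he.eq, sub_self]
  let s : (A ⧸ E) →ₗ[A''] A := (Submodule.liftQ E (LinearMap.mul A A e) hEker).restrictScalars A''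
  haveI : Module.Flat A'' (A ⧸ E) := Module.Flat.of_retract s (IsScalarTower.toAlgHom A'' A (A ⧸ E)).toLinearMap (by
    ext q
    obtain ⟨a, rfl⟩ := Ideal.Quotient.mk_surjective q
    show Ideal.Quotient.mk E (e * a) = Ideal.Quotient.mk E a
    rw [Ideal.Quotient.eq, hE, Ideal.mem_span_singleton']
    exact ⟨-a, by ring⟩)
  haveI : Module.Free A'' (A ⧸ E) := Module.free_of_flat_of_isLocalRing
  refine ⟨?_, ?_⟩
  · intro x y hxy
    let b := Module.Free.chooseBasis A'' (A ⧸ E)
    obtain ⟨i⟩ := b.index_nonempty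
    have h1 : x • b i = y • b i := by
      rw [Algebra.smul_def, Algebra.smul_def]
      exact congrArg (· * b i) hxy
    have := congrArg (fun v => b.repr v i) h1
    simpa [map_smul] using this
  · let eB : (A ⧸ E) →ₐ[R] R := Ideal.Quotient.liftₐ E (Bialgebra.counitAlgHom R A) (fun a ha => by
      rw [hE, Ideal.mem_span_singleton'] at ha
      obtain ⟨c, rfl⟩ := ha
      rw [map_mul, map_sub, map_one, heε, sub_self, mul_zero])
    let Q := (A ⧸ E) ⧸ (I''.map (algebraMap A'' (A ⧸ E)))
    have hJ2 : I''.map (algebraMap A'' (A ⧸ E)) = J.map (Ideal.Quotient.mk E) := by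
      rw [hJ, Ideal.map_map]; rfl
    let f : (A ⧸ J) →ₐ[R] Q := Ideal.Quotient.liftₐ J ((Ideal.Quotient.mkₐ R _).comp (Ideal.Quotient.mkₐ R E)) (fun a ha => by
      show Ideal.Quotient.mk _ (Ideal.Quotient.mk E a) = 0
      rw [Ideal.Quotient.eq_zero_iff_mem, hJ2]; exact Ideal.mem_map_of_mem _ ha)
    haveI : Algebra.FormallyUnramified R Q := Algebra.FormallyUnramified.of_surjective f (fun q => by
      obtain ⟨q, rfl⟩ := Ideal.Quotient.mk_surjective q
      obtain ⟨a, rfl⟩ := Ideal.Quotient.mk_surjective q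
      exact ⟨Ideal.Quotient.mk J a, rfl⟩)
    let eQ : Q →ₐ[R] R := Ideal.Quotient.liftₐ _ eB (fun a ha => by
      revert a
      change I''.map (algebraMap A'' (A ⧸ E)) ≤ RingHom.ker eB
      exact Ideal.map_le_iff_le_comap.2 fun x hx =>
        (congrArg (fun f : A'' →ₐ[R] R => f x) hε).trans (RingHom.mem_ker.1 hx))
    have hIm : I'' ≤ IsLocalRing.maximalIdeal A'' := IsLocalRing.le_maximalIdeal (RingHom.ker_ne_top _)
    have hQker : ∀ q : Q, eQ q = 0 → q = 0 := by
      intro q hq
      have hne : RingHom.ker eQ ≠ ⊤ := RingHom.ker_ne_top _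
      haveI : Nontrivial Q := RingHom.domain_nontrivial eQ.toRingHom
      haveI : IsLocalRing Q := IsLocalRing.of_surjective' (Ideal.Quotient.mk (I''.map (algebraMap A'' (A ⧸ E)))) Ideal.Quotient.mk_surjective
      haveI : IsNoetherianRing Q := isNoetherian_of_tower R inferInstance
      have hsq : RingHom.ker eQ ≤ (RingHom.ker eQ) • (RingHom.ker eQ) := (sq_ker eQ).trans (le_of_eq (pow_two _))
      have := Submodule.eq_bot_of_le_smul_of_le_jacobson_bot _ (RingHom.ker eQ) (IsNoetherian.noetherian _) (hsq.trans_eq rfl)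
        (by rw [IsLocalRing.jacobson_eq_maximalIdeal _ bot_ne_top]; exact IsLocalRing.le_maximalIdeal hne)
      exact (Submodule.eq_bot_iff _).1 this q hq
    let φ : A'' →ₗ[A''] (A ⧸ E) := Algebra.linearMap A'' (A ⧸ E)
    have hsup : (⊤ : Submodule A'' (A ⧸ E)) ≤ LinearMap.range φ ⊔ I'' • ⊤ := by
      intro q _
      have h0 : eQ (Ideal.Quotient.mk _ (q - algebraMap R (A ⧸ E) (eB q))) = 0 := by
        show eB (q - algebraMap R (A ⧸ E) (eB q)) = 0
        rw [map_sub, AlgHom.commutes]; simp
      have hmem := Ideal.Quotient.eq_zero_iff_mem.1 (hQker _ h0)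
      rw [Ideal.smul_top_eq_map]
      have : q = algebraMap R (A ⧸ E) (eB q) + (q - algebraMap R (A ⧸ E) (eB q)) := by abel
      rw [this]
      exact Submodule.add_mem_sup ⟨algebraMap R A'' (eB q), (IsScalarTower.algebraMap_apply R A'' (A ⧸ E) _).symm⟩ hmem
    have htop := Submodule.le_of_le_smul_of_le_jacobson_bot Module.Finite.fg_top
      (by rw [IsLocalRing.jacobson_eq_maximalIdeal _ bot_ne_top]; exact hIm) hsup
    intro q
    exact htop (Submodule.mem_top (x := q))

end Groth.Agent.S15068
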