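import Groth.Statements.S1507
import Groth.Agent.PerfMor.Surj
-- import your own Groth.Agent.* helpers here

set_option autoImplicit false
universe u
attribute [local instance] HasDerivedCategory.standard
open FlatMor

namespace Groth.Agent.S1507

/-- Let A → B be flat and of finite presentation and I an ideal of B. Then A → B/I is a pseudo-coherent
ring map if and only if I is a pseudo-coherent B-module. -/
theorem result {A B : Type u} [CommRing A] [CommRing B] [Algebra A B] [Module.Flat A B] [Algebra.FinitePresentation A B] (I : Ideal B) :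
    MoreMor.IsPseudoCoherentHom A (B ⧸ I) ↔ DRing.IsPseudoCoherentModule' B ↥I := by
  open Groth.Agent.PCohLib Groth.Agent.DRingPC in
  let q : B →+* B ⧸ I := Ideal.Quotient.mk I
  have hB : Groth.Agent.PerfMor.PCRing (algebraMap A B) := Groth.Agent.PerfMor.perfRing_of_flat_fp.toPC
  have h1 : MoreMor.IsPseudoCoherentHom A (B ⧸ I) ↔ PCHom q := by
    rw [← Groth.Agent.PerfMor.pcRing_algebraMap, IsScalarTower.algebraMap_eq A B (B ⧸ I)]
    constructor
    · exact fun h => Groth.Agent.PerfMor.pcHom_of_surjective Ideal.Quotient.mk_surjective hB h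
    · intro h
      obtain ⟨n, π, hπ, hc, hp⟩ := (Groth.Agent.PerfMor.pcRing_iff _).1 hB
      refine (Groth.Agent.PerfMor.pcRing_iff _).2 ⟨n, q.comp π, Ideal.Quotient.mk_surjective.comp hπ, ?_, hp.comp h⟩
      rw [RingHom.comp_assoc, hc]; rfl
  rw [h1, show q = algebraMap B (B ⧸ I) from rfl, PCHom.of_algebra, isPCModule'_iff, isPCModule'_iff]
  let T : CategoryTheory.ShortComplex (ModuleCat.{u} B) :=
    CategoryTheory.ShortComplex.mk (ModuleCat.ofHom (Submodule.subtype I)) (ModuleCat.ofHom (Submodule.mkQ I)) (by
      ext x; exact (Submodule.Quotient.mk_eq_zero I).2 x.2)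
  have hT : T.ShortExact :=
    { exact := (CategoryTheory.ShortComplex.ShortExact.moduleCat_exact_iff_function_exact T).2 (LinearMap.exact_subtype_mkQ I)
      mono_f := (ModuleCat.mono_iff_injective _).2 Subtype.val_injective
      epi_g := (ModuleCat.epi_iff_surjective _).2 (Submodule.mkQ_surjective I) }
  have hF := fun m => NPC_single_of_mem (show FF B (ModuleCat.of B B) from
    ⟨Module.Finite.self B, Module.Free.self B⟩) m
  refine ⟨fun h m => ?_, fun h m => NPC.of_triangle₃ (FF.sum B) (FF.qs B) (FF.ql B)
    hT.singleTriangle_distinguished (h (m + 1)) (hF m)⟩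
  have h2 := NPC.of_triangle₁ (FF.sum B) (FF.qs B) (FF.ql B) hT.singleTriangle_distinguished (n := m - 1) (hF _)
    (h (m - 1))
  exact h2.mono (by omega)

end Groth.Agent.S1507
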