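import Mathlib
import Groth.Prelude.Def_W4c2movlemaddchowShuffle

/-!
# Shuffles: sorting a permutation along one block
-/

namespace Groth.Agent.ShuffleLibH4

open Equiv W4c2movlemaddchow

variable {n m : ℕ}

/-- Sorting a permutation along the image of `R`. -/
theorem core_exists (R : Fin m → Fin n) (hR : Function.Injective R)
    (ext : Perm (Fin m) → Perm (Fin n)) (hext : ∀ σ k, ext σ (R k) = R (σ k))
    (ν : Perm (Fin n)) :
    ∃ τ σ, τ * ext σ = ν ∧ Monotone (fun k => τ (R k)) ∧ StrictMono (fun k => τ (R k)) := by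
  let g : Fin m → Fin n := fun k => ν (R k)
  refine ⟨ν * (ext (Tuple.sort g).symm)⁻¹, (Tuple.sort g).symm, by simp [mul_assoc], ?_⟩
  have hτ : ∀ k, (ν * (ext (Tuple.sort g).symm)⁻¹) (R k) = g (Tuple.sort g k) := fun k => by
    rw [Perm.mul_apply]
    congr 1
    rw [Perm.inv_eq_iff_eq, hext, Equiv.symm_apply_apply]
  have hmono : Monotone (fun k => (ν * (ext (Tuple.sort g).symm)⁻¹) (R k)) := by
    simp only [hτ]
    exact Tuple.monotone_sort g
  exact ⟨hmono, hmono.strictMono_of_injective ((Equiv.injective _).comp hR)⟩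

/-- The sorted factorisation is unique. -/
theorem core_unique (R : Fin m → Fin n) (hR : Function.Injective R)
    (ext : Perm (Fin m) → Perm (Fin n)) (hext : ∀ σ k, ext σ (R k) = R (σ k))
    {τ τ' : Perm (Fin n)} {σ σ' : Perm (Fin m)} (h : Monotone (fun k => τ (R k)))
    (h' : Monotone (fun k => τ' (R k))) (he : τ * ext σ = τ' * ext σ') : τ = τ' ∧ σ = σ' := by
  have hs : σ = σ' := by
    let g : Fin m → Fin n := fun k => (τ * ext σ) (R k)
    have e : ∀ k, g k = τ (R (σ k)) := fun k => by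
      show (τ * ext σ) (R k) = _
      rw [Perm.mul_apply, hext]
    have e' : ∀ k, g k = τ' (R (σ' k)) := fun k => by
      show (τ * ext σ) (R k) = _
      rw [he, Perm.mul_apply, hext]
    have h1 : Monotone (g ∘ ⇑σ.symm) := by
      have : (g ∘ ⇑σ.symm) = fun k => τ (R k) := funext fun k => by simp [e]
      rw [this]; exact h
    have h2 : Monotone (g ∘ ⇑σ'.symm) := by
      have : (g ∘ ⇑σ'.symm) = fun k => τ' (R k) := funext fun k => by simp [e']
      rw [this]; exact h'
    have h3 := Tuple.unique_monotone h1 h2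
    have hg : Function.Injective g := fun a b hab => hR ((τ * ext σ).injective hab)
    have : σ.symm = σ'.symm := Equiv.ext fun k => hg (congrFun h3 k)
    simpa using congrArg Equiv.symm this
  subst hs
  exact ⟨mul_right_cancel he, rfl⟩

section blocks

variable (r s t : ℕ)

theorem extRight_castAdd (σ : Perm (Fin (r + s))) (k : Fin (r + s)) :
    extRight (r + s) t σ (Fin.castAdd t k) = Fin.castAdd t (σ k) := by
  simp [extRight, Equiv.permCongr_apply]

theorem extRight_natAdd (σ : Perm (Fin (r + s))) (l : Fin t) :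
    extRight (r + s) t σ (Fin.natAdd (r + s) l) = Fin.natAdd (r + s) l := by
  simp [extRight, Equiv.permCongr_apply]

/-- The embedding of the last two blocks. -/
def lastTwo (k : Fin (s + t)) : Fin (r + s + t) :=
  Fin.cast (Nat.add_assoc r s t).symm (Fin.natAdd r k)

/-- The embedding of the first block. -/
def firstOne (i : Fin r) : Fin (r + s + t) := Fin.castAdd t (Fin.castAdd s i)

theorem lastTwo_injective : Function.Injective (lastTwo r s t) := fun a b h => by
  have := congrArg Fin.val h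
  simp [lastTwo] at this
  exact Fin.ext this

theorem lastTwo_castAdd (j : Fin s) :
    lastTwo r s t (Fin.castAdd t j) = Fin.castAdd t (Fin.natAdd r j) := Fin.ext (by simp [lastTwo])

theorem lastTwo_natAdd (l : Fin t) :
    lastTwo r s t (Fin.natAdd s l) = Fin.natAdd (r + s) l :=
  Fin.ext (by simp [lastTwo, Nat.add_assoc])

theorem extLeft_lastTwo (σ : Perm (Fin (s + t))) (k : Fin (s + t)) :
    extLeft r s t σ (lastTwo r s t k) = lastTwo r s t (σ k) := by
  simp [extLeft, lastTwo, Equiv.permCongr_apply, finCongr]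

theorem extLeft_firstOne (σ : Perm (Fin (s + t))) (i : Fin r) :
    extLeft r s t σ (firstOne r s t i) = firstOne r s t i := by
  have h : Fin.cast (Nat.add_assoc r s t) (firstOne r s t i) = Fin.castAdd (s + t) i :=
    Fin.ext (by simp [firstOne])
  have h' : firstOne r s t i = Fin.cast (Nat.add_assoc r s t).symm (Fin.castAdd (s + t) i) :=
    Fin.ext (by simp [firstOne])
  simp [extLeft, Equiv.permCongr_apply, finCongr, h, ← h']

theorem isShuffle₂_congr_iff (τ : Perm (Fin (r + s + t))) :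
    IsShuffle₂ r (s + t) ((finCongr (Nat.add_assoc r s t)).permCongr τ) ↔
      Monotone (fun i => τ (firstOne r s t i)) ∧ Monotone (fun k => τ (lastTwo r s t k)) := by
  have h : ∀ i : Fin r, Fin.cast (Nat.add_assoc r s t).symm (Fin.castAdd (s + t) i) =
      firstOne r s t i := fun i => Fin.ext (by simp [firstOne])
  simp only [IsShuffle₂, Equiv.permCongr_apply, finCongr_symm, finCongr_apply, h]
  exact Iff.rfl

theorem bijOn_right :
    Set.BijOn
      (fun p : Perm (Fin (r + s + t)) × Perm (Fin (r + s)) => p.1 * extRight (r + s) t p.2)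
      ({τ | IsShuffle₂ (r + s) t τ} ×ˢ {σ | IsShuffle₂ r s σ})
      {ν | IsShuffle₃ r s t ν} := by
  have hext := extRight_castAdd r s t
  have hR : Function.Injective (Fin.castAdd t : Fin (r + s) → Fin (r + s + t)) :=
    Fin.castAdd_injective _ _
  refine ⟨?_, ?_, ?_⟩
  · rintro ⟨τ, σ⟩ ⟨⟨h1, h2⟩, h3, h4⟩
    refine ⟨fun a b hab => ?_, fun a b hab => ?_, fun a b hab => ?_⟩
    · simp only [Perm.mul_apply, hext]
      exact h1 (h3 hab)
    · simp only [Perm.mul_apply, hext]
      exact h1 (h4 hab)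
    · simp only [Perm.mul_apply, extRight_natAdd]
      exact h2 hab
  · rintro ⟨τ, σ⟩ ⟨⟨h1, -⟩, -⟩ ⟨τ', σ'⟩ ⟨⟨h1', -⟩, -⟩ he
    obtain ⟨e1, e2⟩ := core_unique _ hR _ hext h1 h1' he
    exact Prod.ext e1 e2
  · intro ν hν
    obtain ⟨τ, σ, rfl, hm, hs⟩ := core_exists _ hR _ hext ν
    obtain ⟨h1, h2, h3⟩ := hν
    simp only [Monotone, Perm.mul_apply, hext, extRight_natAdd] at h1 h2 h3
    exact ⟨(τ, σ), ⟨⟨hm, fun a b hab => h3 hab⟩,
      fun a b hab => hs.le_iff_le.mp (h1 hab), fun a b hab => hs.le_iff_le.mp (h2 hab)⟩, rfl⟩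

theorem bijOn_left :
    Set.BijOn
      (fun p : Perm (Fin (r + s + t)) × Perm (Fin (s + t)) => p.1 * extLeft r s t p.2)
      ({τ | IsShuffle₂ r (s + t) ((finCongr (Nat.add_assoc r s t)).permCongr τ)} ×ˢ
        {σ | IsShuffle₂ s t σ})
      {ν | IsShuffle₃ r s t ν} := by
  have hext := extLeft_lastTwo r s t
  have hR := lastTwo_injective r s t
  refine ⟨?_, ?_, ?_⟩
  · rintro ⟨τ, σ⟩ ⟨h, h3, h4⟩
    obtain ⟨h1, h2⟩ := (isShuffle₂_congr_iff r s t τ).mp h
    refine ⟨fun a b hab => ?_, fun a b hab => ?_, fun a b hab => ?_⟩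
    · show (τ * extLeft r s t σ) (firstOne r s t a) ≤ (τ * extLeft r s t σ) (firstOne r s t b)
      simp only [Perm.mul_apply, extLeft_firstOne]
      exact h1 hab
    · simp only [← lastTwo_castAdd, Perm.mul_apply, hext]
      exact h2 (h3 hab)
    · simp only [← lastTwo_natAdd, Perm.mul_apply, hext]
      exact h2 (h4 hab)
  · rintro ⟨τ, σ⟩ ⟨h, -⟩ ⟨τ', σ'⟩ ⟨h', -⟩ he
    obtain ⟨e1, e2⟩ := core_unique _ hR _ hext ((isShuffle₂_congr_iff r s t τ).mp h).2
      ((isShuffle₂_congr_iff r s t τ').mp h').2 he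
    exact Prod.ext e1 e2
  · intro ν hν
    obtain ⟨τ, σ, rfl, hm, hs⟩ := core_exists _ hR _ hext ν
    obtain ⟨h1, h2, h3⟩ := hν
    change Monotone (fun i => (τ * extLeft r s t σ) (firstOne r s t i)) at h1
    simp only [← lastTwo_castAdd, ← lastTwo_natAdd, Monotone, Perm.mul_apply, hext,
      extLeft_firstOne] at h1 h2 h3
    exact ⟨(τ, σ), ⟨(isShuffle₂_congr_iff r s t τ).mpr ⟨h1, hm⟩,
      fun a b hab => hs.le_iff_le.mp (h2 hab), fun a b hab => hs.le_iff_le.mp (h3 hab)⟩, rfl⟩

theorem sign_extRight (σ : Perm (Fin (r + s))) :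
    Perm.sign (extRight (r + s) t σ) = Perm.sign σ := by
  simp [extRight]

theorem sign_extLeft (σ : Perm (Fin (s + t))) :
    Perm.sign (extLeft r s t σ) = Perm.sign σ := by
  simp [extLeft]

end blocks

end Groth.Agent.ShuffleLibH4
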