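import Mathlib
import Groth.Statements.S15083
-- import your own Groth.Agent.* helpers here

set_option autoImplicit false
universe u
open MovLem

namespace Groth.Agent.S15083

/-- Let K be a field and r ≥ 1. For every element A of the special linear group SL_{r+1}(K) there is an
algebraic path in SL_{r+1} from the identity to A defined over K: a matrix M of determinant 1 with
entries in the polynomial ring K[y] such that M(0) is the identity matrix and M(1) = A. (The
published statement takes K to be the function field of SL_{r+1} over the ground field, A its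
generic point viewed as a K-rational point, and the parameter space to be the projective line minus
the point 1, with endpoints 0 and ∞; this row gives the path for an arbitrary K-point A on the
affine line with endpoints 0 and 1, which is what the published construction provides before
composing with the coordinate change y ↦ y/(y − 1).) -/
theorem result
    (K : Type u) [Field K] (r : ℕ) (hr : 1 ≤ r)
    (A : Matrix.SpecialLinearGroup (Fin (r + 1)) K) :
    ∃ M : Matrix.SpecialLinearGroup (Fin (r + 1)) (Polynomial K),
      Matrix.SpecialLinearGroup.map (Polynomial.evalRingHom (0 : K)) M = 1 ∧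
      Matrix.SpecialLinearGroup.map (Polynomial.evalRingHom (1 : K)) M = A := by
  classical
  let Q : Matrix (Fin (r + 1)) (Fin (r + 1)) K → Prop := fun N => ∃ (d : K) (M : Matrix (Fin (r + 1)) (Fin (r + 1)) (Polynomial K)),
    M.det = 1 ∧ M.map (Polynomial.evalRingHom (0 : K)) = 1 ∧
      Matrix.diagonal (Function.update 1 0 d) * M.map (Polynomial.evalRingHom (1 : K)) = N
  let U : Subgroup (Matrix.SpecialLinearGroup (Fin (r + 1)) K) :=
    { carrier := {g | ∃ M : Matrix.SpecialLinearGroup (Fin (r + 1)) (Polynomial K),
        Matrix.SpecialLinearGroup.map (Polynomial.evalRingHom (0 : K)) M = 1 ∧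
        Matrix.SpecialLinearGroup.map (Polynomial.evalRingHom (1 : K)) M = g}
      one_mem' := ⟨1, map_one _, map_one _⟩
      mul_mem' := by
        rintro a b ⟨M, h1, h2⟩ ⟨N, h3, h4⟩
        exact ⟨M * N, by rw [map_mul, h1, h3, one_mul], by rw [map_mul, h2, h4]⟩
      inv_mem' := by
        rintro a ⟨M, h1, h2⟩
        exact ⟨M⁻¹, by rw [map_inv, h1, inv_one], by rw [map_inv, h2]⟩ }
  have htv : ∀ (i j : Fin (r + 1)) (h : i ≠ j) (c : K), Matrix.SpecialLinearGroup.transvection h c ∈ U := by
    intro i j h c
    refine ⟨⟨Matrix.transvection i j (Polynomial.C c * Polynomial.X), Matrix.det_transvection_of_ne i j h _⟩, ?_, ?_⟩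
    · apply Subtype.ext
      ext a b
      rw [Matrix.SpecialLinearGroup.map_apply_coe]
      simp [Matrix.transvection, Matrix.single_apply, Matrix.one_apply, apply_ite (Polynomial.eval (0 : K))]
    · apply Subtype.ext
      ext a b
      rw [Matrix.SpecialLinearGroup.map_apply_coe, Matrix.SpecialLinearGroup.transvection_coe]
      simp [Matrix.transvection, Matrix.single_apply, Matrix.one_apply, apply_ite (Polynomial.eval (1 : K))]
  haveI : Nontrivial (Fin (r + 1)) := Fin.nontrivial_iff_two_le.2 (by omega)
  refine (Matrix.SpecialLinearGroup.diagonal_transvection_induction' (fun g => g ∈ U) A ?_ htv (fun a b => U.mul_mem) : A ∈ U)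
  intro i j hij c hc
  have hdec : Matrix.SpecialLinearGroup.diag2n hij c hc =
      Matrix.SpecialLinearGroup.transvection hij c * Matrix.SpecialLinearGroup.transvection hij.symm (-c⁻¹) *
      Matrix.SpecialLinearGroup.transvection hij c * Matrix.SpecialLinearGroup.transvection hij (-1) *
      Matrix.SpecialLinearGroup.transvection hij.symm 1 * Matrix.SpecialLinearGroup.transvection hij (-1) := by
    apply Subtype.ext
    simp only [Matrix.SpecialLinearGroup.coe_mul, Matrix.SpecialLinearGroup.diag2n_coe, Matrix.SpecialLinearGroup.transvection_coe]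
    simp [mul_add, add_mul, hij, hij.symm, mul_inv_cancel₀ hc, inv_mul_cancel₀ hc]
    ext a b
    simp [Matrix.single_apply, Matrix.diagonal_apply, Matrix.one_apply]
    grind
  rw [hdec]
  exact U.mul_mem (U.mul_mem (U.mul_mem (U.mul_mem (U.mul_mem (htv _ _ _ _) (htv _ _ _ _)) (htv _ _ _ _)) (htv _ _ _ _)) (htv _ _ _ _)) (htv _ _ _ _)

end Groth.Agent.S15083
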