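import Groth.Statements.S15084
import Mathlib
-- import your own Groth.Agent.* helpers here

set_option autoImplicit false
universe u
open MovLem

namespace Groth.Agent.S15084

/-- Let A be a Noetherian integrally closed domain with fraction field K, let B be a domain with
fraction field L, and let A → B be an injective ring homomorphism, with K → L the induced map of
fraction fields, such that Spec B → Spec A is surjective (every prime ideal of A is the contraction
of a prime ideal of B). If a ∈ K is such that its image in L lies in B, then a ∈ A. (The published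
statement: for a surjective morphism f : Y → X of normal integral separated schemes of finite type
over a perfect field and a Cartier divisor D on X, if f^*D is effective then D is effective; a
Cartier divisor is locally the divisor of a nonzero rational function a, effectivity of div(a) on a
normal scheme means that a is a regular function, and this row is that local statement, which is
what the published proof establishes.) -/
theorem result
    (A B K L : Type u) [CommRing A] [IsDomain A] [IsNoetherianRing A] [IsIntegrallyClosed A]
    [CommRing B] [IsDomain B] [Field K] [Field L]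
    [Algebra A B] [Algebra A K] [IsFractionRing A K] [Algebra B L] [IsFractionRing B L]
    [Algebra K L] [Algebra A L] [IsScalarTower A K L] [IsScalarTower A B L]
    (hinj : Function.Injective (algebraMap A B))
    (hsurj : ∀ p : Ideal A, p.IsPrime → ∃ q : Ideal B, q.IsPrime ∧ q.comap (algebraMap A B) = p)
    (a : K) (ha : algebraMap K L a ∈ (algebraMap B L).range) :
    a ∈ (algebraMap A K).range := by
  classical
  by_contra hna
  let col : K → Ideal A := fun c => Submodule.comap (LinearMap.toSpanSingleton A K c) (LinearMap.range (Algebra.linearMap A K))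
  have hcol : ∀ (c : K) (r : A), r ∈ col c ↔ ∃ s : A, algebraMap A K s = algebraMap A K r * c := fun c r => by
    show (∃ s, algebraMap A K s = r • c) ↔ _
    simp only [Algebra.smul_def]
  let C : Set (Ideal A) :=
    {I | ∃ c : K, c ∉ (algebraMap A K).range ∧ algebraMap K L c ∈ (algebraMap B L).range ∧ I = col c}
  obtain ⟨p, ⟨c, hc, hcB, rfl⟩, hmax⟩ :=
    set_has_maximal_iff_noetherian.2 inferInstance C ⟨_, a, hna, ha, rfl⟩
  have hp : (col c).IsPrime := by
    refine ⟨fun h => hc ?_, fun {y z} hyz => or_iff_not_imp_left.2 fun hy => ?_⟩
    · obtain ⟨s, hs⟩ := (hcol c 1).1 (h ▸ Submodule.mem_top)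
      exact ⟨s, by simpa using hs⟩
    · have hle : col c ≤ col (algebraMap A K y * c) := by
        intro r hr
        obtain ⟨s, hs⟩ := (hcol c r).1 hr
        exact (hcol _ r).2 ⟨y * s, by rw [map_mul, hs]; ring⟩
      have hmem : z ∈ col (algebraMap A K y * c) := by
        obtain ⟨s, hs⟩ := (hcol c _).1 hyz
        exact (hcol _ z).2 ⟨s, by rw [hs, map_mul]; ring⟩
      have hB' : algebraMap K L (algebraMap A K y * c) ∈ (algebraMap B L).range := by
        obtain ⟨b, hb⟩ := hcB
        exact ⟨algebraMap A B y * b, by
          rw [map_mul, map_mul, hb, ← IsScalarTower.algebraMap_apply A B L, ← IsScalarTower.algebraMap_apply A K L]⟩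
      have hny : algebraMap A K y * c ∉ (algebraMap A K).range := fun ⟨s, hs⟩ => hy ((hcol c y).2 ⟨s, hs⟩)
      have heq := eq_of_le_of_not_lt hle (hmax _ ⟨_, hny, hB', rfl⟩)
      exact heq ▸ hmem
  -- an element of `col c` multiplying `c` outside `col c`
  obtain ⟨r, hr, s, hs, hsp⟩ : ∃ r ∈ col c, ∃ s, algebraMap A K s = algebraMap A K r * c ∧ s ∉ col c := by
    by_contra! h
    let N : Submodule A K := Submodule.map (Algebra.linearMap A K) (col c)
    have hN : N ≠ ⊥ := by
      obtain ⟨⟨x, ⟨y, hy⟩⟩, hxy⟩ := IsLocalization.surj (nonZeroDivisors A) c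
      intro h0
      have hyN : algebraMap A K y ∈ N := ⟨y, (hcol c y).2 ⟨x, by rw [mul_comm]; exact hxy.symm⟩, rfl⟩
      rw [h0, Submodule.mem_bot, map_eq_zero_iff _ (IsFractionRing.injective A K)] at hyN
      exact nonZeroDivisors.ne_zero hy hyN
    have hint : IsIntegral A c := by
      refine isIntegral_of_smul_mem_submodule N hN (Submodule.FG.map _ (IsNoetherian.noetherian _)) c ?_
      rintro _ ⟨r, hr, rfl⟩
      obtain ⟨s, hs⟩ := (hcol c r).1 hr
      exact ⟨s, h r hr s hs, by simpa [mul_comm] using hs⟩
    obtain ⟨s, hs⟩ := IsIntegrallyClosed.isIntegral_iff.1 hint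
    exact hc ⟨s, hs⟩
  obtain ⟨q, -, hq⟩ := hsurj (col c) hp
  obtain ⟨b, hb⟩ := hcB
  refine hsp ?_
  rw [← hq, Ideal.mem_comap] at hr ⊢
  have he : algebraMap A B s = algebraMap A B r * b := by
    apply IsFractionRing.injective B L
    rw [map_mul, hb, ← IsScalarTower.algebraMap_apply A B L, ← IsScalarTower.algebraMap_apply A B L,
      IsScalarTower.algebraMap_apply A K L, IsScalarTower.algebraMap_apply A K L, ← map_mul, hs]
  rw [he]
  exact q.mul_mem_right b hr

end Groth.Agent.S15084
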