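import Groth.Statements.S1510
import Groth.Agent.PerfMor.Surj
import Groth.Agent.KRIdeal.Immersion
import Groth.Agent.PerfMor.Mor
-- import your own Groth.Agent.* helpers here

set_option autoImplicit false
universe u
attribute [local instance] HasDerivedCategory.standard
open FlatMor

namespace Groth.Agent.S1510

open AlgebraicGeometry CategoryTheory Limits in
/-- Let f : X → Y and g : Y → S with g smooth and f ≫ g perfect. Then f is perfect. -/
theorem result {X Y S : Scheme.{u}} (f : X ⟶ Y) (g : Y ⟶ S) [Smooth g] (h : MoreMor.IsPerfectMor (f ≫ g)) :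
    MoreMor.IsPerfectMor f := by
  refine (Groth.Agent.PerfMor.isPerfectMor_iff f).2 ?_
  have hfg := (Groth.Agent.PerfMor.isPerfectMor_iff _).1 h
  let σ : X ⟶ pullback g (f ≫ g) := pullback.lift f (𝟙 X) (by simp)
  let p := pullback.snd g (f ≫ g)
  have hσ : σ ≫ p = 𝟙 X := pullback.lift_snd _ _ _
  haveI : Smooth p := inferInstanceAs (Smooth (pullback.snd g (f ≫ g)))
  have h1 : Groth.Agent.PerfMor.PerfMor σ :=
    Groth.Agent.PerfMor.perfMor_of_isKoszulAt σ (Groth.Agent.KRIdeal.isKoszulAt_of_schLCI σ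
      (Groth.Agent.KRIdeal.schLCI_of_section p σ hσ))
  have hf : f = σ ≫ pullback.fst g (f ≫ g) := (pullback.lift_fst _ _ _).symm
  rw [hf]
  exact MorphismProperty.comp_mem _ _ _ h1 (Groth.Agent.PerfMor.perfMor_baseChange g (f ≫ g) hfg)

end Groth.Agent.S1510
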