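import Groth.Statements.S15115
import Groth.Agent.ComodBasic.Reductive


set_option autoImplicit false
universe u
open HopfRep

namespace Groth.Agent.S15115
open Groth.Agent.ComodBasic

open TensorProduct in
/-- Let k be an algebraically closed field, H a finite-dimensional commutative Hopf algebra over k all
of whose finite-dimensional comodules are semisimple (a finite linearly reductive group scheme G
over k), A a commutative k-algebra, and M an A-module with an H-coaction that is A-linear (G acts on
M by A-module maps, A carrying the trivial action). Let A' be a commutative A-algebra and N = A' ⊗_A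
M its base change, exhibited by an A-linear map φ : M → N, with the induced coaction: A'-linear and
compatible with φ. Then invariants commute with this base change: writing M^G for the A-submodule of
coinvariant elements of M, the natural map A' ⊗_A M^G → N, a' ⊗ m ↦ a' φ(m), is injective and its
image is exactly the set of coinvariant elements of N. (The published statement is the isomorphism
ρ^* π_* F → π'_* σ^* F for a tame Deligne–Mumford stack with coarse moduli space π and any base
change ρ of the coarse space; this row is the statement about invariants to which its proof reduces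
it, for modules that need not be finitely generated.) -/
theorem result (k : Type u) [Field k] [IsAlgClosed k]
    (H : Type u) [CommRing H] [HopfAlgebra k H] [Module.Finite k H] (hred : HopfRep.IsLinearlyReductive k H)
    (A : Type u) [CommRing A] [Algebra k A]
    (M : Type u) [AddCommGroup M] [Module k M] [Module A M] [IsScalarTower k A M] [HopfRep.Comod k H M]
    (hlin : ∀ (a : A) (m : M), HopfRep.Comod.coact (k := k) (A := H) (a • m) = a • HopfRep.Comod.coact (k := k) (A := H) m)
    (A' : Type u) [CommRing A'] [Algebra k A'] [Algebra A A'] [IsScalarTower k A A']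
    (N : Type u) [AddCommGroup N] [Module k N] [Module A N] [Module A' N]
    [IsScalarTower k A N] [IsScalarTower A A' N] [IsScalarTower k A' N] [HopfRep.Comod k H N]
    (φ : M →ₗ[A] N) (hφ : IsBaseChange A' φ)
    (hcomp : ∀ m : M, HopfRep.Comod.coact (k := k) (A := H) (φ m) =
      LinearMap.rTensor H (φ.restrictScalars k) (HopfRep.Comod.coact (k := k) (A := H) m))
    (hlinN : ∀ (a' : A') (n : N), HopfRep.Comod.coact (k := k) (A := H) (a' • n) = a' • HopfRep.Comod.coact (k := k) (A := H) n)
    (P : Submodule A M) (hP : (P : Set M) = (HopfRep.fixedPts k H M : Set M)) :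
    Function.Injective (TensorProduct.lift (((Algebra.lsmul A A N : A' →ₐ[A] Module.End A N).toLinearMap).compl₂ (φ ∘ₗ P.subtype))) ∧
      Set.range (TensorProduct.lift (((Algebra.lsmul A A N : A' →ₐ[A] Module.End A N).toLinearMap).compl₂ (φ ∘ₗ P.subtype))) =
        (HopfRep.fixedPts k H N : Set N) := by
  haveI : IsSemisimpleModule (Cv k H) M := isSemisimpleModule_of_finite hred M
  haveI : IsSemisimpleModule (Cv k H) N := isSemisimpleModule_of_finite hred N
  obtain ⟨E, hE, hE'⟩ := exists_reynolds (k := k) (A := H) M
  obtain ⟨F, hF, hF'⟩ := exists_reynolds (k := k) (A := H) N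
  have hPmem : ∀ m, m ∈ P ↔ m ∈ HopfRep.fixedPts k H M := fun m => Set.ext_iff.1 hP m
  have hsmul : ∀ (T : Type u) [CommRing T] [Algebra k T] (X : Type u) [AddCommGroup X] [Module k X]
      [Module T X] [IsScalarTower k T X] [HopfRep.Comod k H X]
      (_ : ∀ (t : T) (x : X), HopfRep.Comod.coact (k := k) (A := H) (t • x) =
        t • HopfRep.Comod.coact (k := k) (A := H) x) (t : T),
      Hoch.IsComodHom H (Algebra.lsmul k k X t) := by
    intro T _ _ X _ _ _ _ _ hT t
    refine LinearMap.ext fun x => ?_
    show HopfRep.Comod.coact (k := k) (A := H) (t • x) = (Algebra.lsmul k k X t).rTensor H _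
    rw [hT]
    generalize HopfRep.Comod.coact (k := k) (A := H) x = z
    induction z using TensorProduct.induction_on with
    | zero => simp
    | add a b ha hb => simp [smul_add, ha, hb]
    | tmul a b => rfl
  have hφ' : Hoch.IsComodHom H (φ.restrictScalars k) := LinearMap.ext hcomp
  have hEA : ∀ (a : A) (m : M), E (a • m) = a • E m := by
    intro a m
    let L : M →ₗ[Cv k H] M := toLin _ (hsmul A M hlin a)
    exact LinearMap.congr_fun (eq_of_eq_on_fixed (E ∘ₗ L) (L ∘ₗ E) (fun v => hE _)
      (fun v => map_mem_fixedPts L (hE v)) fun v hv => by
        rw [LinearMap.comp_apply, LinearMap.comp_apply, hE' v hv, hE' _ (map_mem_fixedPts L hv)]) m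
  let EP : M →ₗ[A] P :=
    { toFun := fun m => ⟨E m, (hPmem _).2 (hE m)⟩
      map_add' := fun a b => Subtype.ext (map_add E a b)
      map_smul' := fun a m => Subtype.ext (hEA a m) }
  have hEP : ∀ p : P, EP p.1 = p := fun p => Subtype.ext (hE' _ ((hPmem _).1 p.2))
  set ι := TensorProduct.lift
    (((Algebra.lsmul A A N : A' →ₐ[A] Module.End A N).toLinearMap).compl₂ (φ ∘ₗ P.subtype)) with hι
  have hιeq : ∀ z, ι z = hφ.equiv (P.subtype.lTensor A' z) := by
    intro z
    induction z using TensorProduct.induction_on with
    | zero => simp
    | add a b ha hb => simp only [map_add, ha, hb]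
    | tmul a p => rw [LinearMap.lTensor_tmul, IsBaseChange.equiv_tmul]; rfl
  constructor
  · intro a b h
    rw [hιeq, hιeq] at h
    have h' := congrArg (EP.lTensor A') (hφ.equiv.injective h)
    rwa [← LinearMap.comp_apply, ← LinearMap.comp_apply, ← LinearMap.lTensor_comp,
      show EP ∘ₗ P.subtype = LinearMap.id from LinearMap.ext hEP, LinearMap.lTensor_id] at h'
  · refine Set.Subset.antisymm ?_ fun n hn => ?_
    · rintro _ ⟨z, rfl⟩
      induction z using TensorProduct.induction_on with
      | zero => rw [map_zero]; exact Submodule.zero_mem _
      | add a b ha hb => rw [map_add]; exact Submodule.add_mem _ ha hb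
      | tmul a p =>
        exact map_mem_fixedPts (toLin _ (hsmul A' N hlinN a))
          (map_mem_fixedPts (toLin _ hφ') ((hPmem _).1 p.2))
    · refine ⟨EP.lTensor A' (hφ.equiv.symm n), ?_⟩
      have key : ∀ z, ι (EP.lTensor A' z) = F (hφ.equiv z) := by
        intro z
        induction z using TensorProduct.induction_on with
        | zero => simp
        | add a b ha hb => simp only [map_add, ha, hb]
        | tmul a m =>
          rw [LinearMap.lTensor_tmul, IsBaseChange.equiv_tmul]
          let L : M →ₗ[Cv k H] N := toLin _ (hsmul A' N hlinN a) ∘ₗ toLin _ hφ'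
          exact LinearMap.congr_fun (eq_of_eq_on_fixed (L ∘ₗ E) (F ∘ₗ L)
            (fun v => map_mem_fixedPts L (hE v)) (fun v => hF _) fun v hv => by
              show L (E v) = F (L v)
              rw [hE' v hv, hF' _ (map_mem_fixedPts L hv)]) m
      rw [key, LinearEquiv.apply_symm_apply, hF' n hn]

end Groth.Agent.S15115
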