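import Mathlib
import Groth.Statements.S15116
-- import your own Groth.Agent.* helpers here

set_option autoImplicit false
universe u v
open NRGIT

namespace Groth.Agent.S15116

/-- Let k be a characteristic-zero field and A a commutative k-algebra, graded by the integers with all
pieces of positive degree zero, and D a k-derivation of A that raises degrees by a fixed positive
integer l. If no maximal ideal of A contains both every piece of negative degree and the image of D,
then there is f with D f = 1. (The published statement is for an affine variety with an action of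
the semidirect product of the additive and multiplicative groups, the multiplicative group acting on
the coordinate ring with non-positive weights and on the Lie algebra of the additive group with
positive weight: the derivation is a generator of that Lie algebra, the maximal ideals containing
the pieces of negative degree are the limit points under the multiplicative group, and a limit point
has trivial additive stabiliser exactly when the image of D is not contained in its ideal; this row
keeps only this algebraic content, for any such graded algebra. The first assertion of the published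
lemma, that every point has a limit in the variety under the multiplicative group as t → 0, is not
part of this row.) -/
theorem result (k : Type u) [Field k] [CharZero k]
    (A : Type v) [CommRing A] [Algebra k A] (𝒜 : ℤ → Submodule k A) [GradedAlgebra 𝒜]
    (hpos : ∀ i : ℤ, 0 < i → 𝒜 i = ⊥)
    (D : Derivation k A A) (l : ℤ) (hl : 0 < l)
    (hD : ∀ (i : ℤ) (a : A), a ∈ 𝒜 i → D a ∈ 𝒜 (i + l))
    (hfree : ∀ m : Ideal A, m.IsMaximal → (∀ i : ℤ, i < 0 → (𝒜 i : Set A) ⊆ m) → ∃ a : A, D a ∉ m) :
    ∃ f : A, D f = 1 := by
  classical
  let S : Submodule k A := (𝒜 (-l)).map D.toLinearMap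
  let pr := GradedAlgebra.proj 𝒜 (0 : ℤ)
  have hzero : ∀ i : ℤ, 0 < i → ∀ a ∈ 𝒜 i, a = 0 := fun i hi a ha => by
    rw [hpos i hi] at ha
    exact (Submodule.mem_bot k).1 ha
  set Gen : Set A := (⋃ i ∈ {i : ℤ | i < 0}, (𝒜 i : Set A)) ∪ Set.range D with hGen
  have htop : Ideal.span Gen = ⊤ := by
    by_contra hne
    obtain ⟨m, hm, hle⟩ := Ideal.exists_le_maximal _ hne
    obtain ⟨a, ha⟩ := hfree m hm fun i hi x hx => hle (Ideal.subset_span (Or.inl (Set.mem_biUnion (show i ∈ {i : ℤ | i < 0} from hi) hx)))
    exact ha (hle (Ideal.subset_span (Or.inr ⟨a, rfl⟩)))
  have key : ∀ x ∈ Ideal.span Gen, ∀ c : A, pr (c * x) ∈ S := by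
    intro x hx
    induction hx using Submodule.span_induction with
    | mem x hx =>
      intro c
      rw [← DirectSum.sum_support_decompose 𝒜 c, Finset.sum_mul, map_sum]
      refine Submodule.sum_mem _ fun j _ => ?_
      set cj := (DirectSum.decompose 𝒜 c j : A) with hcj
      have hcjm : cj ∈ 𝒜 j := Subtype.coe_prop _
      rcases hx with hx | ⟨g, rfl⟩
      · rw [Set.mem_iUnion₂] at hx
        obtain ⟨i, (hi : i < 0), hxi⟩ := hx
        rcases eq_or_ne (j + i) 0 with h | h
        · rw [hzero j (by omega) cj hcjm, zero_mul, map_zero]; exact zero_mem _
        · rw [show pr (cj * x) = 0 from by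
            rw [GradedAlgebra.proj_apply, DirectSum.decompose_of_mem_ne 𝒜 (SetLike.mul_mem_graded hcjm hxi) h]]
          exact zero_mem _
      · rw [← DirectSum.sum_support_decompose 𝒜 g, map_sum, Finset.mul_sum, map_sum]
        refine Submodule.sum_mem _ fun i _ => ?_
        set gi := (DirectSum.decompose 𝒜 g i : A) with hgi
        have hgim : gi ∈ 𝒜 i := Subtype.coe_prop _
        rcases eq_or_ne (j + (i + l)) 0 with h | h
        · rcases lt_trichotomy j 0 with hj | hj | hj
          · rw [hzero (i + l) (by omega) (D gi) (hD i gi hgim), mul_zero, map_zero]; exact zero_mem _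
          · subst hj
            have hc0 : D cj = 0 := hzero (0 + l) (by omega) _ (hD 0 cj hcjm)
            have e : cj * D gi = D (cj * gi) := by rw [Derivation.leibniz, hc0]; simp
            have hi : i = -l := by omega
            subst hi
            have hm : cj * gi ∈ 𝒜 (-l) := by simpa using SetLike.mul_mem_graded hcjm hgim
            have hm' : D (cj * gi) ∈ 𝒜 (0 : ℤ) := by simpa using hD _ _ hm
            rw [e, show pr (D (cj * gi)) = D (cj * gi) from by
              rw [GradedAlgebra.proj_apply, DirectSum.decompose_of_mem_same 𝒜 hm']]
            exact ⟨_, hm, rfl⟩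
          · rw [hzero j hj cj hcjm, zero_mul, map_zero]; exact zero_mem _
        · rw [show pr (cj * D gi) = 0 from by
            rw [GradedAlgebra.proj_apply, DirectSum.decompose_of_mem_ne 𝒜 (SetLike.mul_mem_graded hcjm (hD i gi hgim)) h]]
          exact zero_mem _
    | zero => intro c; rw [mul_zero, map_zero]; exact zero_mem _
    | add u v _ _ hu hv => intro c; rw [mul_add, map_add]; exact add_mem (hu c) (hv c)
    | smul r u _ hu => intro c; rw [smul_eq_mul, ← mul_assoc]; exact hu _
  have h1 := key 1 (htop ▸ Submodule.mem_top) 1
  rw [one_mul, show pr 1 = 1 from by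
    rw [GradedAlgebra.proj_apply, DirectSum.decompose_of_mem_same 𝒜 SetLike.GradedOne.one_mem]] at h1
  obtain ⟨f, -, hf⟩ := h1
  exact ⟨f, hf⟩

end Groth.Agent.S15116
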