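import Mathlib
import Groth.Statements.S15122
-- import your own Groth.Agent.* helpers here

set_option autoImplicit false
universe u v w
open GIT

namespace Groth.Agent.S15122

/-- Let R be a commutative ring, A a commutative R-algebra graded by the natural numbers, σ a
homogeneous element of degree zero, and B the localisation of A away from σ, equipped with a grading
by the natural numbers for which the localisation map ι : A → B is a graded ring homomorphism (such
a grading is necessarily the one induced from A). Then the homogeneous ideal of B generated by the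
image of the irrelevant ideal of A is the whole irrelevant ideal of B; in other words the induced
rational map from Proj B to Proj A is defined everywhere. (The published statement also assumes σ a
non-zero-divisor, which this step does not use, and goes on to conclude that Proj B → Proj A is an
open immersion onto the basic open set of σ.) -/
theorem result
    (R : Type u) (A : Type v) (B : Type w) [CommRing R] [CommRing A] [CommRing B] [Algebra R A] [Algebra R B]
    [Algebra A B] [IsScalarTower R A B]
    (𝒜 : ℕ → Submodule R A) [GradedAlgebra 𝒜] (ℬ : ℕ → Submodule R B) [GradedAlgebra ℬ]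
    (σ : A) (hσ0 : σ ∈ 𝒜 0) [IsLocalization.Away σ B]
    (ι : 𝒜 →+*ᵍ ℬ) (hι : ∀ a : A, ι a = algebraMap A B a) :
    (HomogeneousIdeal.irrelevant 𝒜).map ι = HomogeneousIdeal.irrelevant ℬ := by
  refine le_antisymm ?_ ?_
  · rw [HomogeneousIdeal.map_le_iff_le_comap, HomogeneousIdeal.irrelevant_le]
    intro i hi x hx
    exact HomogeneousIdeal.mem_irrelevant_of_mem ℬ hi (ι.map_mem hx)
  · rw [HomogeneousIdeal.irrelevant_le]
    intro n hn b hb
    obtain ⟨⟨a, ⟨_, k, rfl⟩⟩, e⟩ := IsLocalization.surj (Submonoid.powers σ) b
    have hσk : σ ^ k ∈ 𝒜 0 := by simpa using SetLike.pow_mem_graded k hσ0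
    have hmem : ι a ∈ ℬ n := by
      rw [hι, ← e]
      have := SetLike.mul_mem_graded (show b ∈ ℬ n from hb) (ι.map_mem hσk : ι (σ ^ k) ∈ ℬ 0)
      rw [add_zero] at this
      convert this using 2
      exact (hι _).symm
    have hcomp : ι a = ι (DirectSum.decompose 𝒜 a n : A) := by
      rw [GradedRingHom.map_directSumDecompose, DirectSum.decompose_of_mem_same ℬ hmem]
    have hin : ι a ∈ ((HomogeneousIdeal.irrelevant 𝒜).map ι).toIdeal := by
      rw [hcomp]
      exact Ideal.mem_map_of_mem _ (HomogeneousIdeal.mem_irrelevant_of_mem 𝒜 hn (Subtype.coe_prop _))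
    have hu : IsUnit (algebraMap A B (σ ^ k)) := IsLocalization.map_units B (⟨σ ^ k, k, rfl⟩ : Submonoid.powers σ)
    rw [hι, ← e] at hin
    exact (Ideal.mul_unit_mem_iff_mem _ hu).1 hin

end Groth.Agent.S15122
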