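import Groth.Statements.S15125
import Groth.Agent.EtAlgLib.Small
-- import your own Groth.Agent.* helpers here

set_option autoImplicit false
set_option linter.style.haveILetI false
universe u
open scoped TensorProduct
open Fields

namespace Groth.Agent.S15125

theorem aux {K F L : Type u} [Field K] [Field F] [Field L] [Algebra K F] [Algebra F L] [Algebra K L]
    [IsScalarTower K F L] [Algebra.EssFiniteType K F] (x : F)
    (hgen : IntermediateField.adjoin K {x} = ⊤) (r : KaehlerDifferential.ideal K L)
    (hr : (r : L ⊗[K] L) • (Algebra.TensorProduct.map (IsScalarTower.toAlgHom K F L) (IsScalarTower.toAlgHom K F L)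
        (x ⊗ₜ[K] (1 : F) - (1 : F) ⊗ₜ[K] x)) =
      Algebra.TensorProduct.map (IsScalarTower.toAlgHom K F L) (IsScalarTower.toAlgHom K F L)
        (x ⊗ₜ[K] (1 : F) - (1 : F) ⊗ₜ[K] x)) :
    Algebra.IsSeparable K F := by
  let I := KaehlerDifferential.ideal K L
  let m := Algebra.TensorProduct.map (IsScalarTower.toAlgHom K F L) (IsScalarTower.toAlgHom K F L)
  let z₀ : F ⊗[K] F := x ⊗ₜ[K] (1 : F) - (1 : F) ⊗ₜ[K] x
  set z : L ⊗[K] L := m z₀ with hz
  have hmz : m z₀ = z := hz.symm
  have hμ : ∀ w, Algebra.TensorProduct.lmul' K (S := L) (m w) =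
      algebraMap F L (Algebra.TensorProduct.lmul' K (S := F) w) := fun w =>
    AlgHom.congr_fun (show (Algebra.TensorProduct.lmul' K (S := L)).comp m =
        (IsScalarTower.toAlgHom K F L).comp (Algebra.TensorProduct.lmul' K (S := F)) by
      apply Algebra.TensorProduct.ext'
      intro a b
      simp [m]) w
  let J := KaehlerDifferential.ideal K F
  have hIJ : I.comap m = J := Ideal.ext fun w => by
    show Algebra.TensorProduct.lmul' K (S := L) (m w) = 0 ↔ Algebra.TensorProduct.lmul' K (S := F) w = 0
    rw [hμ]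
    exact map_eq_zero _
  haveI : I.IsPrime := RingHom.ker_isPrime _
  haveI : J.IsPrime := RingHom.ker_isPrime _
  let g := Localization.localRingHom J I m.toRingHom hIJ.symm
  have hg : g.Flat := by
    have hval : (IsScalarTower.toAlgHom K F L).toRingHom.Flat :=
      RingHom.flat_algebraMap_iff.2 (inferInstance : Module.Flat F L)
    exact RingHom.Flat.localRingHom (RingHom.Flat.tensorProductMap hval hval) _ _ _
  letI := g.toAlgebra
  haveI : Module.Flat (Localization.AtPrime J) (Localization.AtPrime I) := hg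
  haveI : IsLocalHom (algebraMap (Localization.AtPrime J) (Localization.AtPrime I)) :=
    Localization.isLocalHom_localRingHom J I m.toRingHom hIJ.symm
  haveI : Module.FaithfullyFlat (Localization.AtPrime J) (Localization.AtPrime I) :=
    Module.FaithfullyFlat.of_flat_of_isLocalHom
  have hz0 : algebraMap (F ⊗[K] F) (Localization.AtPrime J) z₀ = 0 := by
    apply FaithfulSMul.algebraMap_injective (Localization.AtPrime J) (Localization.AtPrime I)
    rw [map_zero]
    show g _ = 0
    rw [Localization.localRingHom_to_map, show m.toRingHom z₀ = z from hmz,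
      IsLocalization.map_eq_zero_iff I.primeCompl]
    refine ⟨⟨1 - (r : L ⊗[K] L), fun h => ?_⟩, ?_⟩
    · exact (Ideal.IsPrime.ne_top ‹I.IsPrime›) ((Ideal.eq_top_iff_one _).2 (by simpa using add_mem h r.2))
    · rw [smul_eq_mul] at hr
      simp [sub_mul, hr]
  let E₁ : F →+* Localization.AtPrime J :=
    (algebraMap (F ⊗[K] F) (Localization.AtPrime J)).comp
      (Algebra.TensorProduct.includeLeft (R := K) (S := K) : F →ₐ[K] F ⊗[K] F).toRingHom
  let E₂ : F →+* Localization.AtPrime J :=
    (algebraMap (F ⊗[K] F) (Localization.AtPrime J)).comp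
      (Algebra.TensorProduct.includeRight (R := K) : F →ₐ[K] F ⊗[K] F).toRingHom
  have hall : ∀ u : F, E₁ u = E₂ u := by
    let S : IntermediateField K F :=
      { E₁.eqLocusField E₂ with
        algebraMap_mem' := fun c => by
          show E₁ (algebraMap K F c) = E₂ (algebraMap K F c)
          simp [E₁, E₂] }
    have hxS : x ∈ S := sub_eq_zero.1 (show E₁ x - E₂ x = 0 by rw [← hz0]; exact (map_sub (algebraMap (F ⊗[K] F) (Localization.AtPrime J)) _ _).symm)
    intro u
    exact (IntermediateField.adjoin_simple_le_iff.2 hxS : IntermediateField.adjoin K {x} ≤ S)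
      (hgen ▸ IntermediateField.mem_top)
  have hJ : IsIdempotentElem J := by
    refine le_antisymm Ideal.mul_le_left ?_
    conv_lhs => rw [show J = _ from (KaehlerDifferential.span_range_eq_ideal K F).symm]
    refine Ideal.span_le.2 ?_
    rintro _ ⟨u, rfl⟩
    have h0 : algebraMap (F ⊗[K] F) (Localization.AtPrime J) ((1 : F) ⊗ₜ[K] u - u ⊗ₜ[K] (1 : F)) = 0 := by
      rw [map_sub, sub_eq_zero]
      exact (hall u).symm
    obtain ⟨⟨a, ha⟩, h1⟩ := (IsLocalization.map_eq_zero_iff J.primeCompl _ _).1 h0
    set c := Algebra.TensorProduct.lmul' K (S := F) a with hc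
    have hc0 : c ≠ 0 := ha
    let a' : F ⊗[K] F := 1 - (c⁻¹ ⊗ₜ[K] (1 : F)) * a
    have ha' : a' ∈ J := by
      show Algebra.TensorProduct.lmul' K (S := F) a' = 0
      simp [a', ← hc, hc0]
    have hJu : (1 : F) ⊗ₜ[K] u - u ⊗ₜ[K] (1 : F) ∈ J := by
      show Algebra.TensorProduct.lmul' K (S := F) _ = 0
      simp
    have : (1 : F) ⊗ₜ[K] u - u ⊗ₜ[K] (1 : F) = a' * ((1 : F) ⊗ₜ[K] u - u ⊗ₜ[K] (1 : F)) := by
      show _ = (1 - _ * a) * _
      rw [sub_mul, one_mul, mul_assoc]
      simp only at h1
      rw [h1, mul_zero, sub_zero]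
    show (1 : F) ⊗ₜ[K] u - u ⊗ₜ[K] (1 : F) ∈ J * J
    rw [this]
    exact Ideal.mul_mem_mul ha' hJu
  haveI : Algebra.FormallyUnramified K F :=
    ⟨(Ideal.cotangent_subsingleton_iff _).2 hJ⟩
  exact Algebra.FormallyUnramified.isSeparable K F

/-- Let L be a finitely generated field extension of K, and I ⊆ L ⊗_K L the kernel of multiplication L
⊗_K L → L. An element x of L has the property that x ⊗ 1 and 1 ⊗ x have the same image in the I-adic
completion of L ⊗_K L if and only if x is separable algebraic over K. Equivalently, the equaliser of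
the two natural maps from L to that completion is the separable algebraic closure of K in L. -/
theorem result
    (K L : Type u) [Field K] [Field L] [Algebra K L]
    (hfg : (⊤ : IntermediateField K L).FG) (x : L) :
    AdicCompletion.of (KaehlerDifferential.ideal K L) (L ⊗[K] L) (x ⊗ₜ[K] (1 : L)) =
        AdicCompletion.of (KaehlerDifferential.ideal K L) (L ⊗[K] L) ((1 : L) ⊗ₜ[K] x) ↔
      x ∈ separableClosure K L := by
  haveI : Algebra.EssFiniteType K L := IntermediateField.fg_top_iff.1 hfg
  haveI : IsNoetherianRing (L ⊗[K] L) := Algebra.EssFiniteType.isNoetherianRing L (L ⊗[K] L)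
  let I := KaehlerDifferential.ideal K L
  set z : L ⊗[K] L := x ⊗ₜ[K] (1 : L) - (1 : L) ⊗ₜ[K] x with hz
  have hiff : (AdicCompletion.of I (L ⊗[K] L) (x ⊗ₜ[K] (1 : L)) =
      AdicCompletion.of I (L ⊗[K] L) ((1 : L) ⊗ₜ[K] x)) ↔ ∃ r : I, (r : L ⊗[K] L) • z = z := by
    rw [← Ideal.mem_iInf_smul_pow_eq_bot_iff, Submodule.mem_iInf]
    refine ⟨fun h n => ?_, fun h => AdicCompletion.ext fun n => ?_⟩
    · have := congrArg (fun y => y.1 n) h
      simp only [AdicCompletion.of_apply, Submodule.mkQ_apply] at this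
      exact (Submodule.Quotient.eq _).1 this
    · simp only [AdicCompletion.of_apply, Submodule.mkQ_apply]
      exact (Submodule.Quotient.eq _).2 (h n)
  rw [hiff, mem_separableClosure_iff]
  obtain ⟨F, hF, hxF⟩ : ∃ F : IntermediateField K L, F = IntermediateField.adjoin K {x} ∧ x ∈ F :=
    ⟨_, rfl, IntermediateField.mem_adjoin_simple_self K x⟩
  haveI : Algebra.EssFiniteType K F :=
    IntermediateField.essFiniteType_iff.2 (hF ▸ IntermediateField.fg_adjoin_of_finite (Set.finite_singleton x))
  let m : F ⊗[K] F →ₐ[K] L ⊗[K] L := Algebra.TensorProduct.map F.val F.val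
  let z₀ : F ⊗[K] F := (⟨x, hxF⟩ : F) ⊗ₜ[K] (1 : F) - (1 : F) ⊗ₜ[K] ⟨x, hxF⟩
  have hmz : m z₀ = z := by simp [m, z₀, hz]
  have hμ : ∀ w, Algebra.TensorProduct.lmul' K (S := L) (m w) =
      F.val (Algebra.TensorProduct.lmul' K (S := F) w) := fun w =>
    AlgHom.congr_fun (show (Algebra.TensorProduct.lmul' K (S := L)).comp m =
        F.val.comp (Algebra.TensorProduct.lmul' K (S := F)) by
      apply Algebra.TensorProduct.ext'
      intro a b
      simp [m]) w
  constructor
  · rintro ⟨r, hr⟩
    haveI : Algebra.IsSeparable K F := by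
      refine aux (L := L) (⟨x, hxF⟩ : F) ?_ r (by
        show (r : L ⊗[K] L) • m z₀ = m z₀
        rw [hmz]; exact hr)
      subst hF
      apply IntermediateField.map_injective (IntermediateField.adjoin K {x}).val
      rw [IntermediateField.adjoin_map, Set.image_singleton, ← AlgHom.fieldRange_eq_map,
        IntermediateField.fieldRange_val]
      rfl
    exact IsSeparable.map (x := (⟨x, hxF⟩ : F)) F.val F.val.toRingHom.injective
      (Algebra.IsSeparable.isSeparable K _)
  · intro hx
    haveI : Algebra.IsSeparable K F :=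
      hF ▸ (IntermediateField.isSeparable_adjoin_simple_iff_isSeparable K L).2 hx
    haveI : Algebra.FormallyEtale K F := Algebra.FormallyEtale.of_isSeparable K F
    haveI : Module.Finite K F := Algebra.FormallyUnramified.finite_of_free K F
    haveI : Algebra.Etale K F :=
      { finitePresentation := Algebra.FinitePresentation.of_finiteType.1 inferInstance }
    letI : Algebra (F ⊗[K] F) F := (Algebra.TensorProduct.lmul' K (S := F)).toRingHom.toAlgebra
    haveI : Module.Flat (F ⊗[K] F) F := Algebra.WeaklyEtale.flat_lmul' K F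
    obtain ⟨k, hk, hzk⟩ := Groth.Agent.EtAlgLib.exists_eq_mul_of_flat (A := F ⊗[K] F) (B := F)
      (fun b => ⟨b ⊗ₜ 1, by simp [RingHom.algebraMap_toAlgebra]⟩) (a := z₀)
      (by simp [z₀, RingHom.algebraMap_toAlgebra])
    refine ⟨⟨m k, ?_⟩, ?_⟩
    · show Algebra.TensorProduct.lmul' K (S := L) (m k) = 0
      rw [hμ, show Algebra.TensorProduct.lmul' K (S := F) k = 0 from hk, map_zero]
    · show m k * z = z
      rw [← hmz, ← map_mul, ← hzk]

end Groth.Agent.S15125
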