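import Groth.Statements.S15126
import Mathlib

set_option autoImplicit false
universe u
open Formal

namespace Groth.Agent.S15126

set_option maxHeartbeats 1000000 in
/-- Affine case. Let k be a field, n > 0, and R a commutative algebra over the power series ring
k[[z_1,…,z_n]]; for a commutative k-algebra Q regard Q[[z_1,…,z_n]] as a k[[z]]-algebra
coefficientwise. Then the functor Q ↦ Hom_{k[[z]]-alg}(R, Q[[z]]) on commutative k-algebras is
corepresentable: there exist a commutative k-algebra P and a k[[z]]-algebra homomorphism u : R →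
P[[z]] such that every k[[z]]-algebra homomorphism R → Q[[z]] arises from u by applying a unique
k-algebra homomorphism P → Q coefficientwise. If moreover R is countably generated as a
k[[z]]-algebra, P may be taken countably generated over k. (The published statement is for an adic
formal scheme Y over the formal disc Spf k[[z]], asserting that the sheaf of sections of Y over the
disc is a scheme, affine over the fibre of Y at the origin, and of pro-finite type when Y is; this
row is the case Y = Spf R, to which the published argument reduces, stated for the underlying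
algebra R; k is algebraically closed there, which is not used.) -/
theorem result
    (k : Type u) [Field k] (n : ℕ) (hn : 0 < n)
    (R : Type u) [CommRing R] [Algebra (MvPowerSeries (Fin n) k) R] :
    ∃ (P : Type u) (_ : CommRing P) (_ : Algebra k P)
      (u : R →ₐ[MvPowerSeries (Fin n) k] MvPowerSeries (Fin n) P),
      (∀ (Q : Type u) [CommRing Q] [Algebra k Q]
          (f : R →ₐ[MvPowerSeries (Fin n) k] MvPowerSeries (Fin n) Q),
          ∃! g : P →ₐ[k] Q,
            (MvPowerSeries.map (σ := Fin n) (g : P →+* Q)).comp (u : R →+* MvPowerSeries (Fin n) P) =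
              (f : R →+* MvPowerSeries (Fin n) Q)) ∧
      ((∃ s : Set R, s.Countable ∧ Algebra.adjoin (MvPowerSeries (Fin n) k) s = ⊤) →
        ∃ t : Set P, t.Countable ∧ Algebra.adjoin k t = ⊤) := by
  classical
  let P₀ := MvPolynomial (R × (Fin n →₀ ℕ)) k
  let U₀ : R → MvPowerSeries (Fin n) P₀ := fun r d => MvPolynomial.X (r, d)
  let rel : Set P₀ :=
    {z | (∃ r s d, z = MvPowerSeries.coeff d (U₀ (r + s) - (U₀ r + U₀ s))) ∨
      (∃ r s d, z = MvPowerSeries.coeff d (U₀ (r * s) - U₀ r * U₀ s)) ∨
      (∃ w d, z = MvPowerSeries.coeff d (U₀ (algebraMap (MvPowerSeries (Fin n) k) R w) -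
        MvPowerSeries.map (algebraMap k P₀) w))}
  let J : Ideal P₀ := Ideal.span rel
  let P := P₀ ⧸ J
  let π : P₀ →ₐ[k] P := Ideal.Quotient.mkₐ k J
  let U : R → MvPowerSeries (Fin n) P := fun r => MvPowerSeries.map (π : P₀ →+* P) (U₀ r)
  have hrel : ∀ z ∈ rel, π z = 0 := fun z hz => Ideal.Quotient.eq_zero_iff_mem.mpr (Ideal.subset_span hz)
  have hadd : ∀ r s, U (r + s) = U r + U s := fun r s => by
    show MvPowerSeries.map (π : P₀ →+* P) _ = _
    rw [← map_add]
    ext d
    rw [MvPowerSeries.coeff_map, MvPowerSeries.coeff_map, ← sub_eq_zero, ← map_sub, ← map_sub (MvPowerSeries.coeff d)]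
    exact hrel _ (Or.inl ⟨r, s, d, rfl⟩)
  have hmul : ∀ r s, U (r * s) = U r * U s := fun r s => by
    show MvPowerSeries.map (π : P₀ →+* P) _ = _
    rw [← map_mul]
    ext d
    rw [MvPowerSeries.coeff_map, MvPowerSeries.coeff_map, ← sub_eq_zero, ← map_sub, ← map_sub (MvPowerSeries.coeff d)]
    exact hrel _ (Or.inr (Or.inl ⟨r, s, d, rfl⟩))
  have halg : ∀ w, U (algebraMap (MvPowerSeries (Fin n) k) R w) = MvPowerSeries.map (algebraMap k P) w := fun w => by
    ext d
    rw [MvPowerSeries.coeff_map, MvPowerSeries.coeff_map, ← π.commutes, RingHom.coe_coe, ← sub_eq_zero, ← map_sub,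
      show algebraMap k P₀ (MvPowerSeries.coeff d w) = MvPowerSeries.coeff d (MvPowerSeries.map (algebraMap k P₀) w) from
        (MvPowerSeries.coeff_map _ _ _).symm, ← map_sub (MvPowerSeries.coeff d)]
    exact hrel _ (Or.inr (Or.inr ⟨w, d, rfl⟩))
  obtain ⟨u, hgen⟩ : ∃ u : R →ₐ[MvPowerSeries (Fin n) k] MvPowerSeries (Fin n) P,
      ∀ (r : R) d, MvPowerSeries.coeff d (u r) = π (MvPolynomial.X (r, d)) := by
    refine ⟨
    { toFun := U
      map_one' := by
        have := halg 1
        rwa [map_one, map_one] at this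
      map_mul' := hmul
      map_zero' := by
        have := halg 0
        rwa [map_zero, map_zero] at this
      map_add' := hadd
      commutes' := halg }, ?_⟩
    exact fun r d => MvPowerSeries.coeff_map (π : P₀ →+* P) d (U₀ r)
  refine ⟨P, inferInstance, inferInstance, u, fun Q _ _ f => ?_, ?_⟩
  · let g₀ : P₀ →ₐ[k] Q := MvPolynomial.aeval fun p => MvPowerSeries.coeff p.2 (f p.1)
    have hg₀ : ∀ r, MvPowerSeries.map (g₀ : P₀ →+* Q) (U₀ r) = f r := fun r => by
      ext d
      rw [MvPowerSeries.coeff_map]
      exact MvPolynomial.aeval_X _ _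
    have hJ : ∀ z ∈ J, g₀ z = 0 := by
      intro z hz
      refine (Ideal.span_le (I := RingHom.ker (g₀ : P₀ →+* Q))).mpr ?_ hz
      rintro z (⟨r, s, d, rfl⟩ | ⟨r, s, d, rfl⟩ | ⟨w, d, rfl⟩) <;>
        rw [SetLike.mem_coe, RingHom.mem_ker, ← MvPowerSeries.coeff_map, map_sub]
      · rw [map_add, hg₀, hg₀, hg₀, map_add f, sub_self, map_zero]
      · rw [map_mul, hg₀, hg₀, hg₀, map_mul f, sub_self, map_zero]
      · rw [hg₀, f.commutes, sub_eq_zero.mpr, map_zero]
        ext e
        rw [MvPowerSeries.coeff_map, MvPowerSeries.coeff_map]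
        exact (MvPowerSeries.coeff_map _ _ _).trans (g₀.commutes _).symm
    refine ⟨Ideal.Quotient.liftₐ J g₀ hJ, RingHom.ext fun r => ?_, fun g hg => ?_⟩
    · ext d
      rw [RingHom.comp_apply, RingHom.coe_coe, RingHom.coe_coe, MvPowerSeries.coeff_map, hgen]
      exact MvPolynomial.aeval_X _ _
    · refine Ideal.Quotient.algHom_ext k (MvPolynomial.algHom_ext fun p => ?_)
      have h1 : MvPowerSeries.coeff p.2 (MvPowerSeries.map (g : P →+* Q) (u p.1)) = MvPowerSeries.coeff p.2 (f p.1) :=
        congrArg (MvPowerSeries.coeff p.2) (RingHom.congr_fun hg p.1)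
      rw [MvPowerSeries.coeff_map, hgen] at h1
      refine h1.trans ?_
      exact (MvPolynomial.aeval_X (R := k) (fun p : R × (Fin n →₀ ℕ) => MvPowerSeries.coeff p.2 (f p.1)) p).symm
  · rintro ⟨s, hs, hs'⟩
    refine ⟨⋃ r ∈ s, Set.range fun d => MvPowerSeries.coeff d (u r), hs.biUnion fun r _ => Set.countable_range _, ?_⟩
    set S := Algebra.adjoin k (⋃ r ∈ s, Set.range fun d => MvPowerSeries.coeff d (u r)) with hS
    have hall : ∀ r d, MvPowerSeries.coeff d (u r) ∈ S := by
      intro r
      have hr : r ∈ Algebra.adjoin (MvPowerSeries (Fin n) k) s := by rw [hs']; trivial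
      induction hr using Algebra.adjoin_induction with
      | mem x hx => exact fun d => Algebra.subset_adjoin (Set.mem_biUnion hx ⟨d, rfl⟩)
      | algebraMap w =>
        intro d
        rw [u.commutes]
        show MvPowerSeries.coeff d (MvPowerSeries.map (algebraMap k P) w) ∈ S
        rw [MvPowerSeries.coeff_map]
        exact S.algebraMap_mem _
      | add x y _ _ hx hy => intro d; rw [map_add, map_add]; exact add_mem (hx d) (hy d)
      | mul x y _ _ hx hy =>
        intro d
        rw [map_mul, MvPowerSeries.coeff_mul]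
        exact sum_mem fun p _ => mul_mem (hx _) (hy _)
    rw [eq_top_iff]
    rintro z -
    obtain ⟨p, rfl⟩ := Ideal.Quotient.mk_surjective z
    induction p using MvPolynomial.induction_on with
    | C a => exact S.algebraMap_mem a
    | add a b ha hb => rw [map_add]; exact add_mem ha hb
    | mul_X a i ha =>
      rw [map_mul]
      exact mul_mem ha ((hgen i.1 i.2) ▸ hall i.1 i.2)

end Groth.Agent.S15126
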