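import Mathlib
import Groth.Statements.S15128
-- import your own Groth.Agent.* helpers here

set_option autoImplicit false
universe u v
open CAlg

namespace Groth.Agent.S15128

/-- Over an Artinian local ring A with residue field k, a linear map h between flat A-modules (of any
size) is injective, resp. surjective, as soon as its reduction k ⊗_A h is. (The published statement
is for local Artinian algebras over an algebraically closed field of characteristic zero having that
field as residue field; this row allows any Artinian local ring.) -/
theorem result
    (A : Type u) [CommRing A] [IsLocalRing A] [IsArtinianRing A]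
    (P L : Type v) [AddCommGroup P] [Module A P] [AddCommGroup L] [Module A L]
    [Module.Flat A P] [Module.Flat A L] (h : P →ₗ[A] L) :
    (Function.Injective (h.lTensor (IsLocalRing.ResidueField A)) → Function.Injective h) ∧
    (Function.Surjective (h.lTensor (IsLocalRing.ResidueField A)) → Function.Surjective h) := by
  classical
  set m := IsLocalRing.maximalIdeal A
  constructor
  · intro hk
    have key : ∀ (Q : Type u) [AddCommGroup Q] [Module A Q] [Module.Finite A Q], Function.Injective (h.lTensor Q) := by
      intro Q _ _ hQ
      induction hQ using IsNoetherianRing.induction_on_isQuotientEquivQuotientPrime (A := A) with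
      | subsingleton N => exact fun a b _ => Subsingleton.elim a b
      | quotient N p e =>
        have hp : p.asIdeal = m := IsLocalRing.eq_maximalIdeal (IsArtinianRing.isMaximal_of_isPrime _)
        let e' : N ≃ₗ[A] IsLocalRing.ResidueField A :=
          e.trans (Submodule.quotEquivOfEq _ _ hp)
        have hc : h.lTensor N = (e'.symm.toLinearMap.rTensor L).comp ((h.lTensor _).comp (e'.toLinearMap.rTensor P)) := by
          refine TensorProduct.ext' fun a b => ?_
          simp
        rw [hc]
        exact (e'.symm.rTensor L).injective.comp (hk.comp (e'.rTensor P).injective)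
      | exact M₁ M₂ M₃ f g hf hg hfg h1 h3 =>
        rw [injective_iff_map_eq_zero]
        intro x hx
        have h2 : g.rTensor P x = 0 := by
          apply h3
          rw [map_zero, ← LinearMap.comp_apply, LinearMap.lTensor_comp_rTensor, ← LinearMap.rTensor_comp_lTensor,
            LinearMap.comp_apply, hx, map_zero]
        obtain ⟨y, rfl⟩ := ((rTensor_exact P hfg hg) x).1 h2
        rw [← LinearMap.comp_apply, LinearMap.lTensor_comp_rTensor, ← LinearMap.rTensor_comp_lTensor, LinearMap.comp_apply] at hx
        have h4 := Module.Flat.rTensor_preserves_injective_linearMap (M := L) f hf (hx.trans (map_zero _).symm)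
        rw [h1 (h4.trans (map_zero _).symm), map_zero]
    have := key A
    intro a b hab
    have h5 : h.lTensor A (TensorProduct.tmul A (1 : A) a) = h.lTensor A (TensorProduct.tmul A (1 : A) b) := by simp [hab]
    simpa using congrArg (TensorProduct.lid A P) (this h5)
  · intro hk
    let C := L ⧸ LinearMap.range h
    have hC : Subsingleton (TensorProduct A (IsLocalRing.ResidueField A) C) := by
      refine subsingleton_of_forall_eq 0 fun z => ?_
      obtain ⟨w, rfl⟩ := LinearMap.lTensor_surjective (IsLocalRing.ResidueField A) (Submodule.mkQ_surjective (LinearMap.range h)) z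
      obtain ⟨v, rfl⟩ := hk w
      rw [← LinearMap.comp_apply, ← LinearMap.lTensor_comp, LinearMap.range_mkQ_comp, LinearMap.lTensor_zero, LinearMap.zero_apply]
    have hmC : (⊤ : Submodule A C) ≤ m • ⊤ := fun c _ => by
      rw [← Submodule.Quotient.mk_eq_zero]
      have hC' : Subsingleton (TensorProduct A (A ⧸ m) C) := hC
      have e := congrArg (TensorProduct.quotTensorEquivQuotSMul C m) (hC'.elim (TensorProduct.tmul A (Ideal.Quotient.mk m 1) c) 0)
      replace e := e.trans (map_zero _)
      rw [TensorProduct.quotTensorEquivQuotSMul_mk_tmul, one_smul] at e
      exact e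
    obtain ⟨N, hN⟩ := (isArtinianRing_iff_isNilpotent_maximalIdeal A).mp ‹_›
    have hall : ∀ j, (⊤ : Submodule A C) ≤ m ^ j • ⊤ := by
      intro j
      induction j with
      | zero => simp
      | succ j ih => exact ih.trans (by rw [pow_succ, ← smul_eq_mul, Submodule.smul_assoc]; exact Submodule.smul_mono le_rfl hmC)
    intro l
    have h6 := hall N (trivial : (Submodule.Quotient.mk l : C) ∈ ⊤)
    rw [hN, Submodule.zero_eq_bot, Submodule.bot_smul, Submodule.mem_bot, Submodule.Quotient.mk_eq_zero] at h6
    exact h6

end Groth.Agent.S15128
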