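import Groth.Statements.S15129
import Mathlib.RingTheory.Flat.Equalizer
import Mathlib.RingTheory.Flat.Tensor
import Mathlib.RingTheory.FiniteLength
import Mathlib.RingTheory.Artinian.Ring
import Mathlib.RingTheory.HopkinsLevitzki
import Mathlib.RingTheory.SimpleModule.Basic

set_option autoImplicit false
universe u v
open CAlg

namespace Groth.Agent.S15129

/-- Over an Artinian local ring A with residue field k, for an exact sequence 0 → M → N → P → 0 of
A-modules with N flat: if k ⊗_A M → k ⊗_A N is injective then P is flat; if P is flat then M is flat
and k ⊗_A M → k ⊗_A N is injective. (The published statement is for local Artinian algebras over an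
algebraically closed field of characteristic zero having that field as residue field; this row
allows any Artinian local ring.) -/
theorem result
    (A : Type u) [CommRing A] [IsLocalRing A] [IsArtinianRing A]
    (M N P : Type v) [AddCommGroup M] [Module A M] [AddCommGroup N] [Module A N]
    [AddCommGroup P] [Module A P] [Module.Flat A N] (f : M →ₗ[A] N) (g : N →ₗ[A] P)
    (hf : Function.Injective f) (hg : Function.Surjective g) (hfg : Function.Exact f g) :
    (Function.Injective (f.lTensor (IsLocalRing.ResidueField A)) → Module.Flat A P) ∧
    (Module.Flat A P → Module.Flat A M ∧ Function.Injective (f.lTensor (IsLocalRing.ResidueField A))) := by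

  constructor
  · intro hk
    have key : ∀ (X : Type u) [AddCommGroup X] [Module A X], IsFiniteLength A X →
        Function.Injective (f.lTensor X) := by
      intro X _ _ hX
      induction hX with
      | of_subsingleton => exact Function.injective_of_subsingleton _
      | @of_simple_quotient X _ _ K _ hK ih =>
          obtain ⟨m, hm, ⟨e⟩⟩ := isSimpleModule_iff_quot_maximal.mp
            (inferInstance : IsSimpleModule A (X ⧸ K))
          obtain rfl := IsLocalRing.eq_maximalIdeal hm
          have hQ : Function.Injective (f.lTensor (X ⧸ K)) := by
            intro a b hab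
            apply (LinearEquiv.rTensor M e).injective
            apply hk
            have h := congrArg (e.toLinearMap.rTensor N) hab
            rw [← LinearMap.comp_apply, ← LinearMap.comp_apply,
              LinearMap.rTensor_comp_lTensor, ← LinearMap.lTensor_comp_rTensor] at h
            exact h
          rw [injective_iff_map_eq_zero]
          intro z hz
          have h1 : K.mkQ.rTensor M z = 0 := by
            apply hQ
            rw [map_zero, ← LinearMap.comp_apply, LinearMap.lTensor_comp_rTensor,
              ← LinearMap.rTensor_comp_lTensor, LinearMap.comp_apply, hz, map_zero]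
          obtain ⟨w, rfl⟩ := (rTensor_exact M (LinearMap.exact_subtype_mkQ K)
            (Submodule.mkQ_surjective K) z).mp h1
          have h2 : f.lTensor K w = 0 := by
            apply Module.Flat.rTensor_preserves_injective_linearMap (M := N) K.subtype
              K.injective_subtype
            rw [map_zero, ← LinearMap.comp_apply, LinearMap.rTensor_comp_lTensor,
              ← LinearMap.lTensor_comp_rTensor, LinearMap.comp_apply]
            exact hz
          rw [ih (h2.trans (map_zero _).symm), map_zero]
    refine Module.Flat.iff_rTensor_injective'.mpr (fun I => ?_)
    rw [injective_iff_map_eq_zero]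
    intro z hz
    obtain ⟨y, rfl⟩ := LinearMap.lTensor_surjective I hg z
    have h1 : g.lTensor A (I.subtype.rTensor N y) = 0 := by
      rw [← LinearMap.comp_apply, LinearMap.lTensor_comp_rTensor,
        ← LinearMap.rTensor_comp_lTensor, LinearMap.comp_apply]
      exact hz
    obtain ⟨w, hw⟩ := (lTensor_exact A hfg hg _).mp h1
    have hfin : IsFiniteLength A (A ⧸ I) :=
      isFiniteLength_iff_isNoetherian_isArtinian.mpr
        ⟨isNoetherian_of_isNoetherianRing_of_finite A _, inferInstance⟩
    have hqz : (Submodule.mkQ I).rTensor N (I.subtype.rTensor N y) = 0 := by
      rw [← LinearMap.comp_apply, ← LinearMap.rTensor_comp]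
      have : (Submodule.mkQ I).comp I.subtype = 0 :=
        LinearMap.ext fun x => (Submodule.Quotient.mk_eq_zero I).mpr x.2
      rw [this, LinearMap.rTensor_zero, LinearMap.zero_apply]
    have h2 : (Submodule.mkQ I).rTensor M w = 0 := by
      apply key (A ⧸ I) hfin
      rw [map_zero, ← LinearMap.comp_apply, LinearMap.lTensor_comp_rTensor,
        ← LinearMap.rTensor_comp_lTensor, LinearMap.comp_apply, hw]
      exact hqz
    obtain ⟨v, rfl⟩ := (rTensor_exact M (LinearMap.exact_subtype_mkQ I)
      (Submodule.mkQ_surjective I) w).mp h2
    have h3 : f.lTensor I v = y := by
      apply Module.Flat.rTensor_preserves_injective_linearMap (M := N) I.subtype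
        I.injective_subtype
      rw [← hw, ← LinearMap.comp_apply, LinearMap.rTensor_comp_lTensor,
        ← LinearMap.lTensor_comp_rTensor, LinearMap.comp_apply]
    rw [← h3, ← LinearMap.comp_apply, ← LinearMap.lTensor_comp, hfg.linearMap_comp_eq_zero,
      LinearMap.lTensor_zero, LinearMap.zero_apply]
  · intro hP
    haveI := hP
    refine ⟨Module.Flat.iff_rTensor_injective'.mpr (fun I => ?_),
      LinearMap.lTensor_injective_of_exact_of_flat g hg f hf hfg _⟩
    have h : Function.Injective ((f.lTensor A).comp (I.subtype.rTensor M)) := by
      rw [LinearMap.lTensor_comp_rTensor, ← LinearMap.rTensor_comp_lTensor]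
      exact (Module.Flat.rTensor_preserves_injective_linearMap (M := N) I.subtype
        I.injective_subtype).comp (LinearMap.lTensor_injective_of_exact_of_flat g hg f hf hfg I)
    exact Function.Injective.of_comp h

end Groth.Agent.S15129
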