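import Groth.Statements.S15130
import Groth.Agent.CodimOneFlat.Main
-- import your own Groth.Agent.* helpers here

set_option autoImplicit false
universe u v
open CAlg

namespace Groth.Agent.S15130

/-- Let A be an Artinian local ring with residue field k and P → Q → R → M → 0 a complex of A-modules
with P, Q, R flat which is exact at R and at M. If the reduced complex k ⊗ P → k ⊗ Q → k ⊗ R is
exact (the rest of the reduced sequence is then automatically exact), then M is flat and the
original complex is exact at Q as well. (The published statement is for local Artinian algebras over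
an algebraically closed field of characteristic zero having that field as residue field; this row
allows any Artinian local ring.) -/
theorem result
    (A : Type u) [CommRing A] [IsLocalRing A] [IsArtinianRing A]
    (P Q R M : Type v) [AddCommGroup P] [Module A P] [AddCommGroup Q] [Module A Q]
    [AddCommGroup R] [Module A R] [AddCommGroup M] [Module A M]
    [Module.Flat A P] [Module.Flat A Q] [Module.Flat A R]
    (f : P →ₗ[A] Q) (g : Q →ₗ[A] R) (h : R →ₗ[A] M)
    (hfg : g ∘ₗ f = 0) (hgh : Function.Exact g h) (hh : Function.Surjective h)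
    (hred : Function.Exact (f.lTensor (IsLocalRing.ResidueField A)) (g.lTensor (IsLocalRing.ResidueField A))) :
    Module.Flat A M ∧ Function.Exact f g := by
  classical
  let m := IsLocalRing.maximalIdeal A
  have one_tmul : ∀ (N : Type v) [AddCommGroup N] [Module A N] (x : N),
      ((1 : IsLocalRing.ResidueField A) ⊗ₜ[A] x) = 0 ↔ x ∈ m • (⊤ : Submodule A N) := by
    intro N _ _ x
    let e := TensorProduct.quotTensorEquivQuotSMul N m
    have he : e (Ideal.Quotient.mk m (1 : A) ⊗ₜ[A] x) = Submodule.Quotient.mk ((1 : A) • x) :=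
      TensorProduct.quotTensorEquivQuotSMul_mk_tmul (M := N) m 1 x
    rw [one_smul] at he
    rw [← Submodule.Quotient.mk_eq_zero (m • (⊤ : Submodule A N)), ← he, LinearEquiv.map_eq_zero_iff]
    rfl
  -- flat modules: `a x ∈ I N` with `a ∉ I` forces `x ∈ m N`
  have key : ∀ (N : Type v) [AddCommGroup N] [Module A N] [Module.Flat A N] (I : Ideal A) (a : A), a ∉ I →
      ∀ x : N, a • x ∈ I • (⊤ : Submodule A N) → x ∈ m • (⊤ : Submodule A N) := by
    intro N _ _ _ I a ha x hx
    obtain ⟨l, γ, hγ⟩ := (Submodule.fg_iff_exists_fin_generating_family).mp (IsNoetherian.noetherian I)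
    have hsum : ∃ r : Fin l → N, a • x = ∑ i, γ i • r i := by
      rw [← hγ] at hx
      refine Submodule.smul_induction_on hx (fun c hc y _ => ?_) ?_
      · obtain ⟨d, rfl⟩ := (Submodule.mem_span_range_iff_exists_fun A).1 hc
        exact ⟨fun i => d i • y, by simp [Finset.sum_smul, smul_smul, mul_comm]⟩
      · rintro _ _ ⟨r₁, rfl⟩ ⟨r₂, rfl⟩
        exact ⟨r₁ + r₂, by simp [Finset.sum_add_distrib]⟩
    obtain ⟨r, hr⟩ := hsum
    let c : Option (Fin l) → A := fun o => o.elim a (fun i => - γ i)
    let v : Option (Fin l) → N := fun o => o.elim x r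
    have hrel : ∑ o, c o • v o = 0 := by
      rw [Fintype.sum_option]
      simp only [c, v, Option.elim, neg_smul, Finset.sum_neg_distrib, ← hr, add_neg_cancel]
    obtain ⟨κ, α, y, hv, hα⟩ := Module.Flat.isTrivialRelation_of_sum_smul_eq_zero (R := A) (M := N) hrel
    rw [show x = ∑ j, α none j • y j from hv none]
    refine Submodule.sum_mem _ fun j _ => Submodule.smul_mem_smul ?_ trivial
    by_contra hu
    refine ha ((Ideal.unit_mul_mem_iff_mem I (IsLocalRing.notMem_maximalIdeal.mp hu)).mp ?_)
    have h0 := hα j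
    rw [Fintype.sum_option] at h0
    simp only [c, Option.elim, neg_mul, Finset.sum_neg_distrib] at h0
    rw [mul_comm, eq_of_sub_eq_zero ((sub_eq_add_neg _ _).trans h0)]
    exact Ideal.sum_mem _ fun i _ => I.mul_mem_right _ (hγ ▸ Submodule.subset_span ⟨i, rfl⟩)
  have gsmul : ∀ (I : Ideal A) (q : Q), q ∈ I • (⊤ : Submodule A Q) → g q ∈ I • (⊤ : Submodule A R) := by
    intro I q hq
    have h1 := Submodule.mem_map_of_mem (f := g) hq
    rw [Submodule.map_smul''] at h1
    exact (Submodule.smul_mono le_rfl le_top) h1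
  have E : ∀ (I : Ideal A) (q : Q), g q ∈ I • (⊤ : Submodule A R) → ∃ p, q - f p ∈ I • (⊤ : Submodule A Q) := by
    intro I
    induction I using WellFoundedGT.induction with
    | ind I ih =>
      intro q hq
      rcases eq_or_ne I ⊤ with rfl | hI
      · exact ⟨0, by rw [Submodule.top_smul]; trivial⟩
      obtain ⟨a, haI, hma⟩ := Groth.Agent.CodimOneFlat.exists_succ hI
      have hlt : I < I ⊔ Ideal.span {a} := lt_of_le_not_ge le_sup_left fun h =>
        haI (h (Ideal.mem_sup_right (Ideal.mem_span_singleton_self a)))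
      obtain ⟨p, hp⟩ := ih _ hlt q (Submodule.smul_mono_left le_sup_left hq)
      rw [Submodule.sup_smul, Submodule.mem_sup] at hp
      obtain ⟨i, hi, y, hy, hiy⟩ := hp
      rw [Submodule.ideal_span_singleton_smul, Submodule.mem_smul_pointwise_iff_exists] at hy
      obtain ⟨q', -, rfl⟩ := hy
      have hgf : g (f p) = 0 := LinearMap.congr_fun hfg p
      have h1 : a • g q' ∈ I • (⊤ : Submodule A R) := by
        rw [show a • g q' = g q - g i by rw [← map_smul, ← map_sub, show a • q' = q - f p - i by rw [← hiy]; abel, map_sub, map_sub, hgf, map_sub]; abel]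
        exact sub_mem hq (gsmul I i hi)
      have h2 : (1 : IsLocalRing.ResidueField A) ⊗ₜ[A] g q' = 0 := (one_tmul R _).2 (key R I a haI _ h1)
      obtain ⟨w, hw⟩ := (hred ((1 : IsLocalRing.ResidueField A) ⊗ₜ[A] q')).1 (by rw [LinearMap.lTensor_tmul, h2])
      obtain ⟨p', rfl⟩ := TensorProduct.mk_surjective A P (IsLocalRing.ResidueField A) IsLocalRing.residue_surjective w
      simp only [TensorProduct.mk_apply, LinearMap.lTensor_tmul] at hw
      have h3 : q' - f p' ∈ m • (⊤ : Submodule A Q) :=
        (one_tmul Q _).1 (by rw [TensorProduct.tmul_sub, hw, sub_self])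
      refine ⟨p + a • p', ?_⟩
      rw [map_add, map_smul, show q - (f p + a • f p') = i + a • (q' - f p') by rw [smul_sub, add_sub, hiy]; abel]
      refine add_mem hi (Submodule.smul_induction_on h3 (fun μ hμ z _ => ?_) fun z w hz hw => by
        rw [smul_add]; exact add_mem hz hw)
      rw [smul_smul, mul_comm]
      exact Submodule.smul_mem_smul (hma μ hμ) trivial
  refine ⟨?_, fun q => ⟨fun hq => ?_, ?_⟩⟩
  · rw [Module.Flat.iff_rTensor_injective']
    intro I
    rw [injective_iff_map_eq_zero]
    intro z hz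
    obtain ⟨w, rfl⟩ := LinearMap.lTensor_surjective I hh z
    let μ : TensorProduct A I R →ₗ[A] R := (TensorProduct.lid A R).toLinearMap.comp (I.subtype.rTensor R)
    have hμmem : ∀ r ∈ I • (⊤ : Submodule A R), ∃ w, μ w = r := fun r hr =>
      Submodule.smul_induction_on hr (fun c hc y _ => ⟨(⟨c, hc⟩ : I) ⊗ₜ[A] y, by simp [μ]⟩)
        (by rintro _ _ ⟨w₁, rfl⟩ ⟨w₂, rfl⟩; exact ⟨w₁ + w₂, map_add _ _ _⟩)
    have hμmem' : μ w ∈ I • (⊤ : Submodule A R) := by
      clear hz
      induction w with
      | zero => rw [map_zero]; exact zero_mem _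
      | add a b ha hb => rw [map_add]; exact add_mem ha hb
      | tmul c y => simp [μ]; exact Submodule.smul_mem_smul c.2 trivial
    have hhμ : h (μ w) = 0 := by
      have e : h ∘ₗ μ = ((TensorProduct.lid A M).toLinearMap.comp (I.subtype.rTensor M)).comp (h.lTensor I) := by
        apply TensorProduct.ext'
        intro c y
        simp [μ]
      rw [← LinearMap.comp_apply, e, LinearMap.comp_apply, LinearMap.comp_apply, hz, map_zero]
    obtain ⟨q, hq⟩ := (hgh _).1 hhμ
    obtain ⟨p, hp⟩ := E I q (hq ▸ hμmem')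
    have hw' : ∃ w' : TensorProduct A I Q, g.lTensor I w' = w := by
      have hgen : ∀ q₀ ∈ I • (⊤ : Submodule A Q), ∃ w' : TensorProduct A I Q, μ (g.lTensor I w') = g q₀ := fun q₀ hq₀ =>
        Submodule.smul_induction_on hq₀ (fun c hc y _ => ⟨(⟨c, hc⟩ : I) ⊗ₜ[A] y, by simp [μ]⟩)
          (by rintro x₁ x₂ ⟨w₁, h₁⟩ ⟨w₂, h₂⟩; exact ⟨w₁ + w₂, by rw [map_add, map_add, map_add, h₁, h₂]⟩)
      obtain ⟨w', hw'⟩ := hgen _ hp
      refine ⟨w', ?_⟩
      apply Module.Flat.iff_rTensor_injective'.1 (inferInstance : Module.Flat A R) I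
      apply (TensorProduct.lid A R).injective
      rw [show g (q - f p) = g q by rw [map_sub, show g (f p) = 0 from LinearMap.congr_fun hfg p, sub_zero], hq] at hw'
      exact hw'
    obtain ⟨w', rfl⟩ := hw'
    rw [← LinearMap.comp_apply, ← LinearMap.lTensor_comp, hgh.linearMap_comp_eq_zero]
    simp
  · obtain ⟨p, hp⟩ := E ⊥ q (by rw [hq]; exact zero_mem _)
    rw [Submodule.bot_smul, Submodule.mem_bot, sub_eq_zero] at hp
    exact ⟨p, hp.symm⟩
  · rintro ⟨p, rfl⟩
    exact LinearMap.congr_fun hfg p

end Groth.Agent.S15130
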