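import Groth.Statements.S15132
import Groth.Agent.ArtFunLib.Criteria
import Groth.Agent.ArtFunLib.Split
import Groth.Agent.S12711
import Mathlib

set_option autoImplicit false
universe u v
open CategoryTheory
open ArtFun

namespace Groth.Agent.S15132

/-- Let k be a field and F a functor on local Artinian k-algebras with residue field k with F(k) a
single point. If F satisfies (H1), (H2) and (H4) — surjectivity of the comparison map F(A₁ ×_A A₂) →
F(A₁) ×_{F(A)} F(A₂) when A₂ → A is a small extension, bijectivity when A = k and A₂ = k[ε], and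
bijectivity for A₂ ×_A A₂ with A₂ → A a small extension — then F is homogeneous: the comparison map
is bijective for every fibre-product square in which A₂ → A is surjective. (The converse
implications are immediate.) -/
theorem result
    {k : Type u} [Field k] (F : ArtFun.Art k k ⥤ Type v)
    (h0 : ArtFun.H0 F) (h1 : ArtFun.Hbar F) (h2 : ArtFun.Heps F) (h4 : ArtFun.HSq F)
    ⦃B A A' A'' : ArtFun.Art k k⦄ (p' : B ⟶ A') (p'' : B ⟶ A'') (f' : A' ⟶ A) (f'' : A'' ⟶ A)
    (h : ArtFun.Art.IsFibreProd p' p'' f' f'') (hf : Function.Surjective f'') :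
    Function.Bijective (ArtFun.cmp F h) := by
  open Groth.Agent.ArtFunLib ArtFun ArtFun.Art in
  refine ⟨cmp_inj_of_small ?_ p' p'' f' f'' h hf, s1_of_hbar h1 p' p'' f' f'' h hf⟩
  intro B A A' A'' p' p'' f' f'' hP hs
  refine cmp_injective fun z z' e₁ e₂ => ?_
  have hp' : IsSmallExt p' := Groth.Agent.S12711.result hP hs
  obtain ⟨P, r₁, r₂, hR⟩ := exists_fibreProd p' p' hp'.1
  obtain ⟨Q, q₁, q₂, hQ⟩ := exists_fibreProd f'' f'' hs.1
  obtain ⟨gQ, hgQ, hgδ⟩ := exists_torsor hs hQ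
  obtain ⟨π, hπ₁, hπ₂⟩ := exists_lift hQ (g₁ := r₁ ≫ p'') (g₂ := r₂ ≫ p'')
    (by rw [Category.assoc, Category.assoc, ← hP.w, ← Category.assoc, hR.w, Category.assoc])
  have hB : IsFibreProd r₁ (π ≫ gQ) (toBase B) (toBase (dual k k)) := by
    refine ⟨(eq_toBase _).trans (eq_toBase _).symm, fun a b h₁ h₂ => ?_, fun b d hbd => ?_⟩
    · have hπ : π a = π b := hgQ.inj _ _
        ((congr_hom hπ₁ a).trans ((congrArg p'' h₁).trans (congr_hom hπ₁ b).symm)) h₂
      refine hR.inj a b h₁ (hP.inj _ _ ?_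
        ((congr_hom hπ₂ a).symm.trans ((congrArg q₂ hπ).trans (congr_hom hπ₂ b))))
      rw [← hR.w_apply, ← hR.w_apply, h₁]
    · obtain ⟨w, hw₁, hw₂⟩ := hgQ.surj (p'' b) d ((res_app p'' b).trans hbd)
      obtain ⟨b', hb₁, hb₂⟩ := hP.surj (p' b) (q₂ w)
        (by rw [hP.w_apply, ← hw₁, hQ.w_apply])
      obtain ⟨a, ha₁, ha₂⟩ := hR.surj b b' hb₁.symm
      refine ⟨a, ha₁, ?_⟩
      have : π a = w := hQ.inj _ _ ((congr_hom hπ₁ a).trans ((congrArg p'' ha₁).trans hw₁.symm))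
        ((congr_hom hπ₂ a).trans ((congrArg p'' ha₂).trans hb₂))
      exact (congrArg gQ this).trans hw₂
  obtain ⟨δ, hδ₁, hδ₂⟩ := exists_lift hR (g₁ := 𝟙 B) (g₂ := 𝟙 B) rfl
  obtain ⟨w, hw₁, hw₂⟩ := exists_of_surj (h1 r₁ r₂ p' p' hR hp') z z' e₁
  have hπw : F.map π w = F.map π (F.map δ z) := by
    refine eq_of_inj (h4 q₁ q₂ f'' hQ hs).1 ?_ ?_
    · rw [← map_comp', hπ₁, map_comp', hw₁, ← map_comp', hπ₁, map_comp', ← map_comp' F δ r₁, hδ₁, map_id']
    · rw [← map_comp', hπ₂, map_comp', hw₂, ← map_comp', hπ₂, map_comp', ← map_comp' F δ r₂, hδ₂, map_id', e₂]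
  have hw : w = F.map δ z := by
    refine eq_of_inj (h2 r₁ (π ≫ gQ) hB).1 ?_ ?_
    · rw [hw₁, ← map_comp', hδ₁, map_id']
    · rw [map_comp', map_comp', hπw]
  rw [← hw₂, hw, ← map_comp', hδ₂, map_id']

end Groth.Agent.S15132
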