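import Groth.Statements.S15134
import Groth.Agent.ArtFunLib.Criteria
import Groth.Agent.ArtFunLib.Trunc
import Groth.Agent.ArtFunLib.Separable
import Mathlib

set_option autoImplicit false
universe u v
open CategoryTheory
open ArtFun

namespace Groth.Agent.S15134

/-- Let k be a field and F a functor on local Artinian k-algebras with residue field k with F(k) a
point. If F satisfies (H2') — the comparison map F(A₁ ×_k A₂) → F(A₁) × F(A₂) is bijective for every
pair of objects — then F satisfies condition (L): for every small extension f : B → A with kernel J,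
writing P = B ×_k B, Q = A ×_k A, r : P → Q for the map induced by f, and C = P/K with K the ideal
of P consisting of the pairs (b, b) with b ∈ J, every element of F(Q) whose two images in F(A) agree
lifts along F(C) → F(Q). Here P and Q are pinned as fibre products over k, K is described through
the two projections, and the two inequalities on K (it lies in the maximal ideal of P and is killed
by r), which always hold, are taken as hypotheses so that the quotient object and the factored map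
can be named. -/
theorem result
    {k : Type u} [Field k] (F : ArtFun.Art k k ⥤ Type v) (h0 : ArtFun.H0 F)
    (h2' : ∀ ⦃P A' A'' : ArtFun.Art k k⦄ (p' : P ⟶ A') (p'' : P ⟶ A'')
      (h : ArtFun.Art.IsFibreProd p' p'' (ArtFun.Art.toBase A') (ArtFun.Art.toBase A'')),
      Function.Bijective (ArtFun.cmp F h))
    ⦃B A : ArtFun.Art k k⦄ (f : B ⟶ A) (hf : ArtFun.Art.IsSmallExt f)
    ⦃P : ArtFun.Art k k⦄ (p₁ p₂ : P ⟶ B)
    (hP : ArtFun.Art.IsFibreProd p₁ p₂ (ArtFun.Art.toBase B) (ArtFun.Art.toBase B))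
    ⦃Q : ArtFun.Art k k⦄ (q₁ q₂ : Q ⟶ A)
    (hQ : ArtFun.Art.IsFibreProd q₁ q₂ (ArtFun.Art.toBase A) (ArtFun.Art.toBase A))
    (r : P ⟶ Q) (hr₁ : r ≫ q₁ = p₁ ≫ f) (hr₂ : r ≫ q₂ = p₂ ≫ f)
    (hK : Ideal.span {z : P | p₁ z = p₂ z ∧ f (p₁ z) = 0} ≤ IsLocalRing.maximalIdeal P)
    (hKr : Ideal.span {z : P | p₁ z = p₂ z ∧ f (p₁ z) = 0} ≤ RingHom.ker r.toAlgHom)
    (y : F.obj Q) (hy : F.map q₁ y = F.map q₂ y) :
    ∃ z : F.obj (ArtFun.Art.quot P (Ideal.span {z : P | p₁ z = p₂ z ∧ f (p₁ z) = 0}) hK),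
      F.map (ArtFun.Art.quotFactor hK r hKr) z = y := by
  open Groth.Agent.ArtFunLib ArtFun ArtFun.Art ArtFun.CRing in
  let C := quot P _ hK
  have hδ : ∃ δ : B ⟶ P, δ ≫ p₁ = 𝟙 B ∧ δ ≫ p₂ = 𝟙 B :=
    exists_lift hP ((eq_toBase _).trans (eq_toBase _).symm)
  obtain ⟨δ, hδ₁, hδ₂⟩ := hδ
  have hk : RingHom.ker f.toAlgHom ≤ RingHom.ker (δ ≫ quotMk P _ hK).toAlgHom := fun b hb =>
    Ideal.Quotient.eq_zero_iff_mem.mpr (Ideal.subset_span
      ⟨(congr_hom hδ₁ b).trans (congr_hom hδ₂ b).symm, (congrArg f (congr_hom hδ₁ b)).trans hb⟩)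
  let s := factor f hf.1 (δ ≫ quotMk P _ hK) hk
  refine ⟨F.map s (F.map q₁ y), eq_of_inj (h2' q₁ q₂ hQ).1 ?_ ?_⟩
  · rw [← map_comp', ← map_comp', ← map_comp']
    refine congrArg (fun g : Q ⟶ A => F.map g y) (hom_ext' fun z => ?_)
    obtain ⟨b, hb⟩ := hf.1 (q₁ z)
    change q₁ (quotFactor hK r hKr (s (q₁ z))) = q₁ z
    rw [← hb, show s (f b) = quotMk P _ hK (δ b) from factor_apply _ _ _ _ b]
    exact (congr_hom hr₁ (δ b)).trans (congrArg f (congr_hom hδ₁ b))
  · rw [← hy, ← map_comp', ← map_comp', ← map_comp']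
    refine congrArg (fun g : Q ⟶ A => F.map g y) (hom_ext' fun z => ?_)
    obtain ⟨b, hb⟩ := hf.1 (q₁ z)
    change q₂ (quotFactor hK r hKr (s (q₁ z))) = q₁ z
    rw [← hb, show s (f b) = quotMk P _ hK (δ b) from factor_apply _ _ _ _ b]
    exact (congr_hom hr₂ (δ b)).trans (congrArg f (congr_hom hδ₂ b))

end Groth.Agent.S15134
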