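import Groth.Statements.S15135
import Mathlib
-- import your own Groth.Agent.* helpers here

set_option autoImplicit false
universe u v
open Deform

namespace Groth.Agent.S15135

/-- For R-modules M ⊆ N, the first-order embedded deformations of M in N are in canonical bijection with
Hom_R(M, N/M). Writing N ⊗ k[ε] = N ⊕ εN as N × N (the pair (x, y) standing for x + εy), such a
deformation is an R-submodule L of N × N which is stable under multiplication by ε (if (x, y) ∈ L
then (0, x) ∈ L), reduces to M (x ∈ M exactly when (x, y) ∈ L for some y) and is flat over the dual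
numbers, flatness being stated elementwise as: (0, y) ∈ L only if y ∈ M (for a submodule reducing to
M this is the equality of the kernel and the image of ε on L, i.e. flatness over k[ε] when R is an
algebra over a field k). To φ : M → N/M corresponds the submodule of all (x, y) with x ∈ M and y ≡
φ(x) mod M. The first clause says this rule defines exactly one submodule for each φ; the second
says that a submodule has the three properties precisely when its membership is given by this rule
for some φ. (The published statement is a linear isomorphism t_G ≅ Hom_R(M, N/M) for the functor G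
of flat deformations of M inside N ⊗ A over local Artinian algebras A; this row states only the
underlying bijection, and the obstruction half is not stated here.) -/
theorem result
    (R : Type u) [CommRing R] (N : Type v) [AddCommGroup N] [Module R N] (M : Submodule R N) :
    (∀ φ : M →ₗ[R] (N ⧸ M), ∃! L : Submodule R (N × N),
        ∀ x y : N, (x, y) ∈ L ↔ ∃ h : x ∈ M, Submodule.Quotient.mk y = φ ⟨x, h⟩) ∧
    (∀ L : Submodule R (N × N),
      ((∀ x y : N, (x, y) ∈ L → ((0 : N), x) ∈ L) ∧
        (∀ x : N, x ∈ M ↔ ∃ y : N, (x, y) ∈ L) ∧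
        (∀ y : N, ((0 : N), y) ∈ L → y ∈ M)) ↔
      ∃ φ : M →ₗ[R] (N ⧸ M), ∀ x y : N, (x, y) ∈ L ↔ ∃ h : x ∈ M, Submodule.Quotient.mk y = φ ⟨x, h⟩) := by
  refine ⟨fun φ => ?_, fun L => ⟨fun hL => ?_, ?_⟩⟩
  · refine ⟨{ carrier := {p | ∃ h : p.1 ∈ M, Submodule.Quotient.mk p.2 = φ ⟨p.1, h⟩}
              zero_mem' := ⟨M.zero_mem, (Submodule.Quotient.mk_zero M).trans (map_zero φ).symm⟩
              add_mem' := ?_
              smul_mem' := ?_ }, fun x y => Iff.rfl, ?_⟩
    · rintro ⟨a, b⟩ ⟨c, d⟩ ⟨h, e⟩ ⟨h', e'⟩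
      refine ⟨M.add_mem h h', ?_⟩
      simp only [Prod.mk_add_mk, Submodule.Quotient.mk_add] at e e' ⊢
      rw [e, e', ← map_add]
      rfl
    · rintro r ⟨a, b⟩ ⟨h, e⟩
      refine ⟨M.smul_mem r h, ?_⟩
      simp only [Prod.smul_mk, Submodule.Quotient.mk_smul] at e ⊢
      rw [e, ← map_smul]
      rfl
    · intro L' hL'
      ext ⟨x, y⟩
      exact hL' x y
  · obtain ⟨h1, h2, h3⟩ := hL
    choose f hf using fun x : M => (h2 x).mp x.2
    have huniq : ∀ (x : M) (y : N), ((x : N), y) ∈ L →
        (Submodule.Quotient.mk y : N ⧸ M) = Submodule.Quotient.mk (f x) := by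
      intro x y hy
      rw [Submodule.Quotient.eq]
      refine h3 _ ?_
      simpa using L.sub_mem hy (hf x)
    refine ⟨{ toFun := fun x => Submodule.Quotient.mk (f x), map_add' := ?_, map_smul' := ?_ }, fun x y => ?_⟩
    · intro a b
      rw [← Submodule.Quotient.mk_add]
      exact (huniq (a + b) _ (by simpa using L.add_mem (hf a) (hf b))).symm
    · intro r a
      rw [RingHom.id_apply, ← Submodule.Quotient.mk_smul]
      exact (huniq (r • a) _ (by simpa using L.smul_mem r (hf a))).symm
    · refine ⟨fun h => ⟨(h2 x).mpr ⟨y, h⟩, huniq ⟨x, _⟩ y h⟩, ?_⟩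
      rintro ⟨h, e⟩
      have he : y - f ⟨x, h⟩ ∈ M := (Submodule.Quotient.eq _).mp e
      obtain ⟨y', hy'⟩ := (h2 _).mp he
      simpa using L.add_mem (hf ⟨x, h⟩) (h1 _ _ hy')
  · rintro ⟨φ, hφ⟩
    refine ⟨fun x y h => ?_, fun x => ⟨fun hx => ?_, fun ⟨y, hy⟩ => ((hφ x y).mp hy).1⟩, fun y h => ?_⟩
    · obtain ⟨hx, -⟩ := (hφ x y).mp h
      refine (hφ 0 x).mpr ⟨M.zero_mem, ?_⟩
      rw [(Submodule.Quotient.mk_eq_zero M).mpr hx]
      exact (map_zero φ).symm
    · obtain ⟨y, hy⟩ := Submodule.Quotient.mk_surjective M (φ ⟨x, hx⟩)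
      exact ⟨y, (hφ x y).mpr ⟨hx, hy⟩⟩
    · obtain ⟨h0, e⟩ := (hφ 0 y).mp h
      refine (Submodule.Quotient.mk_eq_zero M).mp (e.trans ?_)
      exact map_zero φ

end Groth.Agent.S15135
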