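import Mathlib
import Groth.Statements.S15146
-- import your own Groth.Agent.* helpers here

set_option autoImplicit false
universe u
open HilbZeta

namespace Groth.Agent.S15146

/-- Let k be a field, s a natural number and R a k-subalgebra of the product of s copies of the power
series ring k[[x]], of finite codimension δ over k and local with residue field k (all components of
an element of R have the same constant term); write v_i for the x-adic order of the i-th component
of an s-tuple, and let c = (c_1, …, c_s) be the conductor exponents, so that an s-tuple f satisfies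
f·g ∈ R for every s-tuple g exactly when v_i(f) ≥ c_i for all i (over an algebraically closed field
such an R is precisely the completed local ring of a reduced curve singularity having s branches
sitting inside its normalisation, δ is its delta invariant and the conductor ideal is generated by
the x_i^{c_i}). If J is an ideal of R of finite colength which contains, for each i, an element f_i
with v_i(f_i) = l_i, then every s-tuple g with v_i(g) ≥ l_i + c_i for all i lies in R and belongs to
J. (The published statement is over an algebraically closed field; this row allows any field.) -/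
theorem result (k : Type u) [Field k] (s : ℕ)
    (R : Subalgebra k (Fin s → PowerSeries k))
    (hfin : Module.Finite k ((Fin s → PowerSeries k) ⧸ Subalgebra.toSubmodule R))
    (hloc : ∀ f ∈ R, ∀ i j : Fin s, PowerSeries.constantCoeff (f i) = PowerSeries.constantCoeff (f j))
    (c : Fin s → ℕ)
    (hc : ∀ f : Fin s → PowerSeries k,
      (∀ g : Fin s → PowerSeries k, g * f ∈ R) ↔ ∀ i, ((c i : ℕ) : ℕ∞) ≤ (f i).order)
    (J : Ideal ↥R) (hJ : Module.Finite k (↥R ⧸ J))
    (l : Fin s → ℕ) (hl : ∀ i : Fin s, ∃ f ∈ J, ((f : Fin s → PowerSeries k) i).order = ((l i : ℕ) : ℕ∞))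
    (g : Fin s → PowerSeries k) (hg : ∀ i : Fin s, ((l i + c i : ℕ) : ℕ∞) ≤ (g i).order) :
    ∃ hgR : g ∈ R, (⟨g, hgR⟩ : ↥R) ∈ J := by
  classical
  choose f hfJ hford using hl
  have hfact : ∀ i, ∃ h : PowerSeries k, g i = (f i : Fin s → PowerSeries k) i * h ∧ ((c i : ℕ) : ℕ∞) ≤ h.order := by
    intro i
    set F := (f i : Fin s → PowerSeries k) i with hF
    have hFne : F ≠ 0 := by
      intro h
      have := hford i
      rw [← hF, h, PowerSeries.order_zero] at this
      exact ENat.top_ne_coe _ this
    obtain ⟨u, hu⟩ : IsUnit F.divXPowOrder := PowerSeries.isUnit_iff_constantCoeff.2 (isUnit_iff_ne_zero.2 (fun h => hFne (PowerSeries.constantCoeff_divXPowOrder_eq_zero_iff.1 h)))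
    have hFe : F = PowerSeries.X ^ l i * (u : PowerSeries k) := by
      conv_lhs => rw [← PowerSeries.X_pow_order_mul_divXPowOrder (f := F)]
      rw [hu]
      simp only [hF, hford i, ENat.toNat_natCast]
    obtain ⟨q, hq⟩ : PowerSeries.X ^ (l i + c i) ∣ g i := by
      rw [PowerSeries.X_pow_dvd_iff]
      intro m hm
      exact PowerSeries.coeff_of_lt_order m (lt_of_lt_of_le (by exact_mod_cast hm) (hg i))
    refine ⟨PowerSeries.X ^ c i * ((↑u⁻¹ : PowerSeries k) * q), ?_, ?_⟩
    · rw [hFe, hq, pow_add]
      linear_combination -(PowerSeries.X ^ l i * PowerSeries.X ^ c i * q) * Units.mul_inv u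
    · refine le_trans ?_ (PowerSeries.le_order_mul _ _)
      rw [PowerSeries.order_X_pow]
      exact le_self_add
  choose h hh hhord using hfact
  have hcond : ∀ i, (Pi.single i (h i) : Fin s → PowerSeries k) ∈ R := by
    intro i
    have := (hc (Pi.single i (h i))).2 (fun j => by
      by_cases hj : j = i
      · subst hj; rw [Pi.single_eq_same]; exact hhord j
      · rw [Pi.single_eq_of_ne hj, PowerSeries.order_zero]; exact le_top) 1
    rwa [one_mul] at this
  have hg' : g = ((∑ i, f i * ⟨_, hcond i⟩ : ↥R) : Fin s → PowerSeries k) := by
    rw [AddSubmonoidClass.coe_finsetSum]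
    funext j
    rw [Finset.sum_apply, Finset.sum_eq_single j]
    · simp [hh j]
    · intro i _ hij
      simp [Pi.single_eq_of_ne (Ne.symm hij)]
    · simp
  subst hg'
  refine ⟨Subtype.coe_prop _, ?_⟩
  rw [Subtype.coe_eta]
  exact J.sum_mem fun i _ => J.mul_mem_right _ (hfJ i)

end Groth.Agent.S15146
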