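import Mathlib
import Groth.Statements.S15150
-- import your own Groth.Agent.* helpers here

set_option autoImplicit false
universe u
open HilbZeta

namespace Groth.Agent.S15150

open scoped TensorProduct

/-- Let A be a reduced commutative ring, S an A-algebra together with an A-algebra homomorphism π : S →
A (a section of Spec S → Spec A), with kernel m, and I an ideal of S such that S/I is a finite
projective A-module of constant rank d and m is contained in the radical of I (the finite flat
subscheme Spec S/I of degree d lies, as a set, on the section). Then m^d ⊆ I: the subscheme lies in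
the (d−1)-st infinitesimal neighbourhood of the section. (The published statement is for a closed
subscheme, flat and proper of degree d over a Noetherian base, of a family of reduced curve
singularities with a section, with no reducedness assumption on the base; over the dual numbers k[ε]
the ideal (x − ε) of k[ε][x] has quotient free of rank one and radical containing x but does not
contain x, so the base is taken reduced here, and the statement is given in its affine form, to
which the argument reduces at once; the curve hypotheses play no role and are dropped; the condition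
that Spec S/I lies set-theoretically on the section, which the published argument deduces from
properness of Z inside the germ, is a hypothesis here.) -/
theorem result (A : Type u) [CommRing A] [IsReduced A]
    (S : Type u) [CommRing S] [Algebra A S] (π : S →ₐ[A] A) (I : Ideal S) (d : ℕ)
    [Module.Finite A (S ⧸ I)] [Module.Projective A (S ⧸ I)]
    (hrank : ∀ p : PrimeSpectrum A, Module.rankAtStalk (R := A) (S ⧸ I) p = d)
    (hsupp : RingHom.ker π ≤ I.radical) :
    RingHom.ker π ^ d ≤ I := by
  intro x hx
  rw [← Ideal.Quotient.eq_zero_iff_mem]
  let N : Ideal (S ⧸ I) := (RingHom.ker π).map (Ideal.Quotient.mk I)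
  have hN : ∀ z ∈ N, IsNilpotent z := by
    intro z hz
    obtain ⟨y, hy, rfl⟩ := (Ideal.mem_map_iff_of_surjective _ Ideal.Quotient.mk_surjective).1 hz
    obtain ⟨k, hk⟩ := hsupp hy
    exact ⟨k, by rw [← map_pow, Ideal.Quotient.eq_zero_iff_mem]; exact hk⟩
  have hxN : Ideal.Quotient.mk I x ∈ N ^ d := by
    rw [← Ideal.map_pow]
    exact Ideal.mem_map_of_mem _ hx
  suffices hfib : ∀ p : PrimeSpectrum A, (1 : p.asIdeal.ResidueField) ⊗ₜ[A] Ideal.Quotient.mk I x = 0 by
    obtain ⟨n, f, hf⟩ := Module.Finite.exists_fin' A (S ⧸ I)
    obtain ⟨s, hs⟩ := Module.projective_lifting_property f LinearMap.id hf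
    have hz : s (Ideal.Quotient.mk I x) = 0 := by
      funext i
      refine IsReduced.eq_zero _ ?_
      rw [nilpotent_iff_mem_prime]
      intro P hP
      have h1 := congrArg (fun z => (TensorProduct.AlgebraTensorModule.rid A P.ResidueField P.ResidueField)
        ((((LinearMap.proj i).comp s).baseChange P.ResidueField) z)) (hfib ⟨P, hP⟩)
      simp only [LinearMap.baseChange_tmul, map_zero, TensorProduct.AlgebraTensorModule.rid_tmul] at h1
      rw [LinearMap.comp_apply, LinearMap.proj_apply, Algebra.smul_def, mul_one, Ideal.algebraMap_residueField_eq_zero] at h1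
      exact h1
    have := LinearMap.congr_fun hs (Ideal.Quotient.mk I x)
    rw [LinearMap.comp_apply, hz, map_zero] at this
    exact this.symm
  intro p
  let κ := p.asIdeal.ResidueField
  let F := κ ⊗[A] (S ⧸ I)
  let ι : (S ⧸ I) →ₐ[A] F := Algebra.TensorProduct.includeRight
  let M : Ideal F := N.map ι
  have hfin : Module.finrank κ F = d := by
    rw [← hrank p, Module.rankAtStalk_eq_finrank_tensorProduct]
    let L := Localization.AtPrime p.asIdeal
    have : Module.Free L (L ⊗[A] (S ⧸ I)) := Module.free_of_flat_of_isLocalRing
    rw [← Module.finrank_baseChange (R := κ) (S := L)]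
    exact (TensorProduct.AlgebraTensorModule.cancelBaseChange A L κ κ (S ⧸ I)).finrank_eq.symm
  have : IsNoetherianRing F := IsNoetherianRing.of_finite κ F
  have hnil : M ≤ nilradical F := by
    rw [Ideal.map_le_iff_le_comap]
    exact fun z hz => mem_nilradical.2 ((hN z hz).map ι)
  obtain ⟨K, hK⟩ := IsNoetherianRing.isNilpotent_nilradical F
  have hMK : M ^ K = ⊥ := le_bot_iff.1 ((Ideal.pow_right_mono hnil K).trans (le_of_eq hK))
  have hchain : ∀ k : ℕ, M ^ k = ⊥ ∨ Module.finrank κ ↥((M ^ k).restrictScalars κ) + k ≤ d := by
    intro k
    induction k with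
    | zero => exact Or.inr (by rw [add_zero, ← hfin]; exact Submodule.finrank_le _)
    | succ k ih =>
      by_cases h0 : M ^ (k + 1) = ⊥
      · exact Or.inl h0
      refine Or.inr ?_
      rcases ih with h | h
      · exact absurd (le_bot_iff.1 (h ▸ Ideal.pow_le_pow_right (I := M) (Nat.le_succ k))) h0
      have hlt : (M ^ (k + 1)).restrictScalars κ < (M ^ k).restrictScalars κ := by
        refine lt_of_le_of_ne (fun z hz => Ideal.pow_le_pow_right (Nat.le_succ k) hz) fun heq => h0 ?_
        have heq' : M ^ (k + 1) = M ^ k := Submodule.restrictScalars_injective κ _ _ heq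
        have : ∀ i, M ^ (k + i) = M ^ k := by
          intro i
          induction i with
          | zero => rfl
          | succ i ih =>
            exact ((pow_succ M (k + i)).trans ((congrArg (· * M) ih).trans (pow_succ M k).symm)).trans heq'
        refine heq'.trans ((this K).symm.trans (le_bot_iff.1 ?_))
        exact le_of_le_of_eq (Ideal.pow_le_pow_right (I := M) (Nat.le_add_left K k)) hMK
      have := Submodule.finrank_lt_finrank_of_lt hlt
      omega
  have hd : M ^ d = ⊥ := by
    rcases hchain d with h | h
    · exact h
    · have h0 : Module.finrank κ ↥((M ^ d).restrictScalars κ) = 0 := by omega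
      rw [Submodule.finrank_eq_zero] at h0
      exact (Submodule.restrictScalars_eq_bot_iff (S := κ) (p := M ^ d)).1 h0
  have h1 : ι (Ideal.Quotient.mk I x) ∈ M ^ d := by
    rw [← Ideal.map_pow]
    exact Ideal.mem_map_of_mem _ hxN
  rw [hd] at h1
  exact (Submodule.mem_bot _).1 h1

end Groth.Agent.S15150
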