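import Mathlib
import Groth.Statements.S15151
-- import your own Groth.Agent.* helpers here

set_option autoImplicit false
universe u
open CategoryTheory AlgebraicGeometry
open HilbZeta

namespace Groth.Agent.S15151

set_option backward.isDefEq.respectTransparency false
set_option backward.isDefEq.respectTransparency.types false

/-- Let k be a field, and let f : X → Y and g : Y → Spec k[t] be morphisms of schemes with f
quasi-compact and with zero kernel ideal sheaf (Y is the scheme-theoretic image of f), such that the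
composite X → Spec k[t] is flat. Then g is flat; in particular a k[t]-subalgebra of a flat
k[t]-algebra is flat. (The published statement has no quasi-compactness hypothesis on f and is over
an algebraically closed field; this row assumes f quasi-compact and allows any field.) -/
theorem result (k : Type u) [Field k]
    (X Y : Scheme.{u}) (f : X ⟶ Y) (g : Y ⟶ Spec (CommRingCat.of (Polynomial k)))
    [QuasiCompact f] (hker : f.ker = ⊥) [Flat (f ≫ g)] : Flat g := by
  let P := Polynomial k
  rw [IsZariskiLocalAtSource.iff_of_iSup_eq_top (P := @Flat) (fun V : Y.affineOpens => V.1) (iSup_affineOpens_eq_top Y)]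
  intro V
  haveI : IsAffine (V.1 : Scheme.{u}) := V.2
  rw [HasRingHomProperty.iff_of_isAffine (P := @Flat)]
  let ψ : P →+* Γ(Y, V.1) := (g.appLE ⊤ V.1 le_top).hom.comp (Scheme.ΓSpecIso (CommRingCat.of P)).inv.hom
  have hreg : ∀ p : P, p ≠ 0 → ∀ s : Γ(Y, V.1), ψ p * s = 0 → s = 0 := by
    intro p hp s hs
    have hker : f.app V.1 s = 0 → s = 0 := fun h0 => by
      have h1 : s ∈ f.ker.ideal V := by rw [Scheme.Hom.ker_apply]; exact h0
      rwa [hker, Scheme.IdealSheafData.ideal_bot, Pi.bot_apply, Ideal.mem_bot] at h1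
    refine hker ?_
    have hU : ∀ W : X.affineOpens, (hW : W.1 ≤ f ⁻¹ᵁ V.1) → (f.appLE V.1 W.1 hW).hom s = 0 := by
      intro W hW
      let ρ : P →+* Γ(X, W.1) := (f.appLE V.1 W.1 hW).hom.comp ψ
      have hflat : ρ.Flat := by
        have h2 := HasRingHomProperty.appLE (P := @Flat) (f ≫ g) inferInstance ⟨⊤, isAffineOpen_top _⟩ W le_top
        have e : ρ = ((f ≫ g).appLE ⊤ W.1 le_top).hom.comp (Scheme.ΓSpecIso (CommRingCat.of P)).inv.hom := by
          rw [show (f ≫ g).appLE ⊤ W.1 le_top = g.appLE ⊤ V.1 le_top ≫ f.appLE V.1 W.1 hW from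
            (Scheme.Hom.appLE_comp_appLE f g ⊤ V.1 W.1 le_top hW).symm, CommRingCat.hom_comp, RingHom.comp_assoc]
        rw [e]
        exact RingHom.Flat.comp (RingHom.Flat.of_bijective (ConcreteCategory.bijective_of_isIso (Scheme.ΓSpecIso (CommRingCat.of P)).inv)) h2
      letI := ρ.toAlgebra
      haveI : Module.Flat P Γ(X, W.1) := hflat
      have h3 := (Module.Flat.isSMulRegular_of_nonZeroDivisors (M := Γ(X, W.1)) (mem_nonZeroDivisors_of_ne_zero hp))
      refine h3 (?_ : p • _ = p • (0 : Γ(X, W.1)))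
      rw [smul_zero, Algebra.smul_def]
      show ρ p * _ = 0
      rw [RingHom.comp_apply, ← map_mul, hs, map_zero]
    refine X.sheaf.eq_of_locally_eq' (fun W : {W : X.affineOpens // W.1 ≤ f ⁻¹ᵁ V.1} => W.1.1) (f ⁻¹ᵁ V.1) (fun W => homOfLE W.2) ?_ _ _ fun W => ?_
    · intro x hx
      obtain ⟨_, ⟨W, hW, rfl⟩, hxW, hle⟩ := X.isBasis_affineOpens.exists_subset_of_mem_open hx (f ⁻¹ᵁ V.1).2
      exact TopologicalSpace.Opens.mem_iSup.mpr ⟨⟨⟨W, hW⟩, hle⟩, hxW⟩
    · rw [map_zero]
      exact hU W.1 W.2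
  have hψ : ψ.Flat := by
    letI := ψ.toAlgebra
    show Module.Flat P Γ(Y, V.1)
    rw [Module.Flat.flat_iff_torsion_eq_bot_of_isBezout, eq_bot_iff]
    rintro s ⟨⟨p, hp⟩, hps⟩
    exact hreg p (nonZeroDivisors.ne_zero hp) s (by rw [← hps]; exact (Algebra.smul_def p s).symm)
  have e2 : (V.1.ι ≫ g).appTop.hom = ((V.1.topIso.inv).hom.comp ψ).comp (Scheme.ΓSpecIso (CommRingCat.of P)).hom.hom := by
    ext a
    simp [ψ, Scheme.Hom.appLE, Scheme.Opens.topIso]
    rw [show (Scheme.ΓSpecIso (CommRingCat.of P)).inv.hom ((Scheme.ΓSpecIso (CommRingCat.of P)).hom.hom a) = a from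
      (congrArg (fun q => q.hom a) (Scheme.ΓSpecIso (CommRingCat.of P)).hom_inv_id :)]
    refine Eq.trans ?_ (CommRingCat.comp_apply (Y.presheaf.map _) (Y.presheaf.map _) _)
    rw [← Functor.map_comp]
    rfl
  rw [e2]
  exact RingHom.Flat.comp (RingHom.Flat.of_bijective (ConcreteCategory.bijective_of_isIso (Scheme.ΓSpecIso (CommRingCat.of P)).hom))
    (RingHom.Flat.comp hψ (RingHom.Flat.of_bijective (ConcreteCategory.bijective_of_isIso V.1.topIso.inv)))

end Groth.Agent.S15151
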