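import Groth.Statements.S15153
import Mathlib
-- import your own Groth.Agent.* helpers here

set_option autoImplicit false
universe u
open TensorProduct
open HilbZeta

namespace Groth.Agent.S15153

open Module

/-- The locus where a family of vectors has rank at least `n` is open. -/
lemma isOpen_rank {A : Type*} [CommRing A] {ι κ : Type*} [Finite κ] (T : ι → κ → A) (n : ℕ) :
    IsOpen {p : PrimeSpectrum A | n ≤ Module.finrank p.asIdeal.ResidueField
      (Submodule.span p.asIdeal.ResidueField
        (Set.range fun i => fun l => algebraMap A p.asIdeal.ResidueField (T i l)))} := by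
  classical
  cases nonempty_fintype κ
  rw [isOpen_iff_forall_mem_open]
  intro p hp
  obtain ⟨f, hfmem, -, hfli⟩ := Submodule.exists_fun_fin_finrank_span_eq p.asIdeal.ResidueField
    (Set.range fun i => fun l => algebraMap A p.asIdeal.ResidueField (T i l))
  choose sel hsel using hfmem
  let V : Fin n → κ → A := fun a => T (sel (Fin.castLE hp a))
  have hV : LinearIndependent p.asIdeal.ResidueField
      (fun a : Fin n => fun l => algebraMap A p.asIdeal.ResidueField (V a l)) := by
    have e : (fun a : Fin n => fun l => algebraMap A p.asIdeal.ResidueField (V a l)) =
        f ∘ Fin.castLE hp := funext fun a => hsel _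
    rw [e]
    exact hfli.comp _ (Fin.castLE_injective hp)
  obtain ⟨L, hL⟩ := LinearMap.exists_leftInverse_of_injective
    (Fintype.linearCombination p.asIdeal.ResidueField
      (fun a : Fin n => fun l => algebraMap A p.asIdeal.ResidueField (V a l)))
    (LinearMap.ker_eq_bot.mpr (linearIndependent_iff_injective_fintypeLinearCombination.mp hV))
  let G : Matrix κ (Fin n) p.asIdeal.ResidueField := fun l b => L (Pi.single l 1) b
  choose G' hG' using fun lb : κ × Fin n =>
    IsLocalRing.residue_surjective (R := Localization.AtPrime p.asIdeal) (G lb.1 lb.2)
  obtain ⟨⟨s, hs⟩, hint⟩ := IsLocalization.exist_integer_multiples_of_finite p.asIdeal.primeCompl G'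
  choose g hg using hint
  let gM : Matrix κ (Fin n) A := fun l b => g (l, b)
  let VM : Matrix (Fin n) κ A := fun a l => V a l
  let d : A := (VM * gM).det
  have hs0 : algebraMap A p.asIdeal.ResidueField s ≠ 0 := fun h =>
    hs (Ideal.algebraMap_residueField_eq_zero.mp h)
  have hd : algebraMap A p.asIdeal.ResidueField d ≠ 0 := by
    have hgG : gM.map (algebraMap A p.asIdeal.ResidueField) =
        algebraMap A p.asIdeal.ResidueField s • G := Matrix.ext fun l b => by
      have := congrArg (IsLocalRing.residue (Localization.AtPrime p.asIdeal)) (hg (l, b))
      simp only [Submonoid.smul_def, Algebra.smul_def, map_mul, hG'] at this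
      simp only [Matrix.map_apply, Matrix.smul_apply, smul_eq_mul, gM]
      exact this
    have hVG : VM.map (algebraMap A p.asIdeal.ResidueField) * G = 1 := Matrix.ext fun a b => by
      have h := congrFun (LinearMap.congr_fun hL (Pi.single a 1)) b
      simp only [LinearMap.comp_apply, Fintype.linearCombination_apply_single, one_smul,
        LinearMap.id_apply] at h
      rw [Matrix.mul_apply, Matrix.one_apply]
      have hsum : (fun l => algebraMap A p.asIdeal.ResidueField (V a l)) =
          ∑ l, algebraMap A p.asIdeal.ResidueField (V a l) • Pi.single l 1 := by
        funext l'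
        simp [Finset.sum_apply, Pi.single_apply, Algebra.smul_def]
      rw [hsum, map_sum, Finset.sum_apply] at h
      simp only [map_smul, Pi.smul_apply, smul_eq_mul] at h
      simp only [Matrix.map_apply, VM, G]
      rw [h, Pi.single_apply]
      simp [eq_comm]
    rw [show d = (VM * gM).det from rfl, RingHom.map_det]
    rw [show (algebraMap A p.asIdeal.ResidueField).mapMatrix (VM * gM) =
      VM.map (algebraMap A p.asIdeal.ResidueField) * gM.map (algebraMap A p.asIdeal.ResidueField)
      from Matrix.map_mul, hgG, Matrix.mul_smul, hVG, Matrix.det_smul, Matrix.det_one, mul_one]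
    exact pow_ne_zero _ hs0
  refine ⟨PrimeSpectrum.basicOpen d, ?_, (PrimeSpectrum.basicOpen d).isOpen, ?_⟩
  · intro q hq
    have hdq : algebraMap A q.asIdeal.ResidueField d ≠ 0 := fun h =>
      (PrimeSpectrum.mem_basicOpen d q).mp hq (Ideal.algebraMap_residueField_eq_zero.mp h)
    have hli : LinearIndependent q.asIdeal.ResidueField
        (fun a : Fin n => fun l => algebraMap A q.asIdeal.ResidueField (V a l)) := by
      rw [Fintype.linearIndependent_iff]
      intro c hc a
      have h1 : Matrix.vecMul c (VM.map (algebraMap A q.asIdeal.ResidueField)) = 0 := by
        funext l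
        simpa [Matrix.vecMul, dotProduct, VM] using congrFun hc l
      have h2 : Matrix.vecMul c ((VM * gM).map (algebraMap A q.asIdeal.ResidueField)) = 0 := by
        rw [Matrix.map_mul, ← Matrix.vecMul_vecMul, h1, Matrix.zero_vecMul]
      have h3 : ((VM * gM).map (algebraMap A q.asIdeal.ResidueField)).det ≠ 0 := by
        rw [← RingHom.mapMatrix_apply, ← RingHom.map_det]
        exact hdq
      exact congrFun (Matrix.eq_zero_of_vecMul_eq_zero h3 h2) a
    have hle := Submodule.finrank_mono (R := q.asIdeal.ResidueField)
      (s := Submodule.span _ (Set.range fun a : Fin n => fun l =>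
        algebraMap A q.asIdeal.ResidueField (V a l)))
      (t := Submodule.span _ (Set.range fun i => fun l =>
        algebraMap A q.asIdeal.ResidueField (T i l)))
      (Submodule.span_mono (by rintro _ ⟨a, rfl⟩; exact ⟨_, rfl⟩))
    rw [finrank_span_eq_card hli, Fintype.card_fin] at hle
    exact hle
  · rw [SetLike.mem_coe, PrimeSpectrum.mem_basicOpen]
    exact fun h => hd (Ideal.algebraMap_residueField_eq_zero.mpr h)


/-- Let A be a Noetherian commutative ring, S a commutative A-algebra and Q an S-module which is finite
and flat as an A-module. For a prime p of A with residue field κ(p), multiplication by an element of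
S induces a κ(p)-linear endomorphism of the fibre κ(p) ⊗_A Q; let φ(p) be the κ(p)-dimension of the
span of these endomorphisms, which is the colength of the annihilator of the fibre module κ(p) ⊗_A Q
in the fibre algebra κ(p) ⊗_A S (the length of the smallest subscheme of the fibre carrying it).
Then p ↦ φ(p) is a constructible function: for every n the primes with φ(p) = n form a constructible
subset of Spec A. (The published statement is for a coherent sheaf, flat and finite over a
Noetherian base, on a family of reduced curve singularities with a section, and its function of the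
base point is this colength; the curve hypotheses play no role and the row is the affine form over
any Noetherian ring.) -/
theorem result (A : Type u) [CommRing A] [IsNoetherianRing A]
    (S : Type u) [CommRing S] [Algebra A S]
    (Q : Type u) [AddCommGroup Q] [Module A Q] [Module S Q] [IsScalarTower A S Q]
    [Module.Finite A Q] [Module.Flat A Q] (n : ℕ) :
    Topology.IsConstructible {p : PrimeSpectrum A |
      Module.finrank p.asIdeal.ResidueField
        (Submodule.span p.asIdeal.ResidueField
          (Set.range fun s : S =>
            LinearMap.baseChange p.asIdeal.ResidueField (DistribSMul.toLinearMap A Q s))) = n} := by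
  classical
  haveI : Module.FinitePresentation A Q := Module.finitePresentation_of_finite A Q
  haveI : Module.Projective A Q := Module.Flat.projective_of_finitePresentation
  obtain ⟨m, π, ι, hπ, -, hπι⟩ := Module.Finite.exists_comp_eq_id_of_projective A Q
  haveI : Module.Finite A (Q →ₗ[A] Q) := inferInstance
  let act : S → (Q →ₗ[A] Q) := fun s => DistribSMul.toLinearMap A Q s
  obtain ⟨r, t, ht⟩ := Submodule.fg_iff_exists_fin_generating_family.mp
    (IsNoetherian.noetherian (Submodule.span A (Set.range act)))
  let b : Module.Basis (Fin m) A (Fin m → A) := Pi.basisFun A (Fin m)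
  let T : Fin r → Fin m × Fin m → A := fun k ij => b.repr (ι (t k (π (b ij.2)))) ij.1
  have key : ∀ p : PrimeSpectrum A,
      Module.finrank p.asIdeal.ResidueField
        (Submodule.span p.asIdeal.ResidueField
          (Set.range fun s : S => LinearMap.baseChange p.asIdeal.ResidueField (act s))) =
      Module.finrank p.asIdeal.ResidueField
        (Submodule.span p.asIdeal.ResidueField
          (Set.range fun k => fun ij => algebraMap A p.asIdeal.ResidueField (T k ij))) := by
    intro p
    let K := p.asIdeal.ResidueField
    let Φ : ((K ⊗[A] Q) →ₗ[K] (K ⊗[A] Q)) →ₗ[K] (Fin m × Fin m → K) :=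
      { toFun := fun e ij => (b.baseChange K).repr
          (ι.baseChange K (e (π.baseChange K (b.baseChange K ij.2)))) ij.1
        map_add' := fun e e' => funext fun ij => by simp
        map_smul' := fun c e => funext fun ij => by simp }
    have hπι' : ∀ x, π.baseChange K (ι.baseChange K x) = x := fun x => by
      rw [← LinearMap.comp_apply, ← LinearMap.baseChange_comp, hπι, LinearMap.baseChange_id]
      rfl
    have hΦ : Function.Injective Φ := fun e e' h => by
      refine LinearMap.ext fun x => ?_
      rw [← hπι' x]
      have hbasis : ((ι.baseChange K).comp (e.comp (π.baseChange K))) =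
          ((ι.baseChange K).comp (e'.comp (π.baseChange K))) :=
        (b.baseChange K).ext fun j => (b.baseChange K).repr.injective
          (Finsupp.ext fun i => congrFun h (i, j))
      have := congrArg (π.baseChange K) (LinearMap.congr_fun hbasis (ι.baseChange K x))
      simpa [hπι'] using this
    have hspan : Submodule.span K (Set.range fun s : S => LinearMap.baseChange K (act s)) =
        Submodule.span K (Set.range fun k => LinearMap.baseChange K (t k)) := by
      have h1 : ∀ X : Set (Q →ₗ[A] Q), Submodule.span K (LinearMap.baseChangeHom A K Q Q ''
          (Submodule.span A X : Set (Q →ₗ[A] Q))) =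
            Submodule.span K (LinearMap.baseChangeHom A K Q Q '' X) := fun X => by
        rw [← Submodule.map_coe, Submodule.map_span, Submodule.span_span_of_tower]
      have h2 := h1 (Set.range act)
      rw [← ht, h1, ← Set.range_comp, ← Set.range_comp] at h2
      exact h2.symm
    have himg : (Submodule.span K (Set.range fun k => LinearMap.baseChange K (t k))).map Φ =
        Submodule.span K (Set.range fun k => fun ij => algebraMap A K (T k ij)) := by
      rw [Submodule.map_span, ← Set.range_comp]
      congr 1
      refine congrArg Set.range (funext fun k => funext fun ij => ?_)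
      show (b.baseChange K).repr _ _ = _
      simp [T, Module.Basis.baseChange_apply, Module.Basis.baseChange_repr_tmul,
        Algebra.smul_def]
    rw [hspan, ← himg]
    exact (Submodule.equivMapOfInjective Φ hΦ _).finrank_eq
  have hopen : ∀ j, Topology.IsConstructible {p : PrimeSpectrum A | j ≤ Module.finrank p.asIdeal.ResidueField
      (Submodule.span p.asIdeal.ResidueField
        (Set.range fun k => fun ij => algebraMap A p.asIdeal.ResidueField (T k ij)))} := fun j =>
    IsRetrocompact.isConstructible (hUcomp := fun _ _ _ => TopologicalSpace.NoetherianSpace.isCompact _)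
      (hUopen := isOpen_rank T j)
  have hset : {p : PrimeSpectrum A | Module.finrank p.asIdeal.ResidueField
      (Submodule.span p.asIdeal.ResidueField
        (Set.range fun s : S => LinearMap.baseChange p.asIdeal.ResidueField (act s))) = n} =
      {p : PrimeSpectrum A | n ≤ Module.finrank p.asIdeal.ResidueField
        (Submodule.span p.asIdeal.ResidueField
          (Set.range fun k => fun ij => algebraMap A p.asIdeal.ResidueField (T k ij)))} \
      {p : PrimeSpectrum A | n + 1 ≤ Module.finrank p.asIdeal.ResidueField
        (Submodule.span p.asIdeal.ResidueField
          (Set.range fun k => fun ij => algebraMap A p.asIdeal.ResidueField (T k ij)))} := by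
    ext p
    simp only [Set.mem_ofPred_eq, Set.mem_sdiff, key p]
    omega
  show Topology.IsConstructible {p : PrimeSpectrum A | Module.finrank p.asIdeal.ResidueField
      (Submodule.span p.asIdeal.ResidueField
        (Set.range fun s : S => LinearMap.baseChange p.asIdeal.ResidueField (act s))) = n}
  rw [hset]
  exact (hopen n).sdiff (hopen (n + 1))

end Groth.Agent.S15153
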