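import Groth.Statements.S15159
import Mathlib
-- import your own Groth.Agent.* helpers here

set_option autoImplicit false
open CAlg

namespace Groth.Agent.S15159

open Module

variable {W H : Type} [AddCommGroup W] [Module ℂ W] [AddCommGroup H] [Module ℂ H] [FiniteDimensional ℂ H]
  (q : H →ₗ[ℂ] H →ₗ[ℂ] W)

/-- orthogonal -/
abbrev perp (V : Submodule ℂ H) : Submodule ℂ H := ⨅ (y : H) (_ : y ∈ V), LinearMap.ker (q.flip y)

theorem mem_perp {V : Submodule ℂ H} {x : H} : x ∈ perp q V ↔ ∀ y ∈ V, q x y = 0 := by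
  simp [perp, Submodule.mem_iInf]

theorem finrank_sup {ι : Type} [DecidableEq ι] (Hs : ι → Submodule ℂ H) (hind : iSupIndep Hs) (S : Finset ι) :
    finrank ℂ (S.sup Hs : Submodule ℂ H) = ∑ i ∈ S, finrank ℂ (Hs i) := by
  induction S using Finset.induction with
  | empty => simp
  | insert a S ha ih =>
    have hd : Disjoint (Hs a) (S.sup Hs) := (hind a).mono_right
      (Finset.sup_le fun b hb => le_iSup₂_of_le b (fun (h : b = a) => ha (h ▸ hb)) le_rfl)
    have h := Submodule.finrank_sup_add_finrank_inf_eq (Hs a) (S.sup Hs)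
    rw [hd.eq_bot, finrank_bot] at h
    rw [Finset.sup_insert, Finset.sum_insert ha, ← ih]
    omega

theorem sum_indicator (m M : ℤ) (hm : m ≤ M) :
    ∑ t ∈ Finset.Icc 1 M, (if t ≤ m then (1 : ℤ) else 0) = max m 0 := by
  rw [Finset.sum_boole, show (Finset.Icc 1 M).filter (fun t => t ≤ m) = Finset.Icc 1 m by
    ext t; simp only [Finset.mem_filter, Finset.mem_Icc]; omega, Int.card_Icc]
  omega

/-- weights from subspaces -/
theorem weights_of_subspaces (strict : Prop) [Decidable strict]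
    (h : ∀ V : Submodule ℂ H, V ≠ ⊥ → (∀ x ∈ V, ∀ y ∈ V, q x y = 0) →
      if strict then finrank ℂ V + finrank ℂ (perp q V) < finrank ℂ H
      else finrank ℂ V + finrank ℂ (perp q V) ≤ finrank ℂ H)
    (ι : Type) [Fintype ι] [DecidableEq ι] (Hs : ι → Submodule ℂ H) (m : ι → ℤ)
    (hint : DirectSum.IsInternal Hs) (hsum : (∑ i, m i * (finrank ℂ (Hs i) : ℤ)) = 0)
    (hex : ∃ i, m i ≠ 0 ∧ Hs i ≠ ⊥) :
    ∃ i j, (∃ x ∈ Hs i, ∃ y ∈ Hs j, q x y ≠ 0) ∧ if strict then m i + m j < 0 else m i + m j ≤ 0 := by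
  classical
  by_contra! hall
  obtain ⟨hind, htop⟩ := (DirectSum.isInternal_submodule_iff_iSupIndep_and_iSup_eq_top _).1 hint
  let d : ι → ℤ := fun i => (finrank ℂ (Hs i) : ℤ)
  let e : ℤ := if strict then 0 else 1
  have hzero : ∀ i j, m i + m j < e → ∀ x ∈ Hs i, ∀ y ∈ Hs j, q x y = 0 := by
    intro i j hij x hx y hy
    by_contra hne
    have := hall i j ⟨x, hx, y, hy, hne⟩
    by_cases hs : strict
    · simp [e, hs] at hij this; omega
    · simp [e, hs] at hij this; omega
  have hn : (finrank ℂ H : ℤ) = ∑ i, d i := by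
    rw [← finrank_top ℂ H, ← htop, ← Finset.sup_univ_eq_iSup, finrank_sup Hs hind, Nat.cast_sum]
  have key : ∀ t : ℤ, 1 ≤ t →
      (∑ i, if m i ≤ -t then d i else 0) ≤ ∑ i, (if t + e ≤ m i then d i else 0) ∧
      (strict → (∃ i, m i ≤ -t ∧ Hs i ≠ ⊥) → (∑ i, if m i ≤ -t then d i else 0) < ∑ i, (if t + e ≤ m i then d i else 0)) := by
    intro t ht
    set V : Submodule ℂ H := (Finset.univ.filter fun i => m i ≤ -t).sup Hs with hV
    set U : Submodule ℂ H := (Finset.univ.filter fun i => m i < t + e).sup Hs with hU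
    have hle : ∀ x ∈ U, ∀ y ∈ V, q x y = 0 := by
      intro x hx y hy
      have h1 : U ≤ LinearMap.ker (q.flip y) := Finset.sup_le fun i hi z hz => by
        have h2 : V ≤ LinearMap.ker (q z) := Finset.sup_le fun j hj w hw => by
          rw [LinearMap.mem_ker]
          exact hzero i j (by
            have := (Finset.mem_filter.1 hi).2
            have := (Finset.mem_filter.1 hj).2
            omega) z hz w hw
        exact h2 hy
      exact h1 hx
    have hVU : V ≤ U := Finset.sup_le fun i hi => Finset.le_sup (f := Hs) (Finset.mem_filter.2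
      ⟨Finset.mem_univ _, by
        have := (Finset.mem_filter.1 hi).2
        have : 0 ≤ e := by simp only [e]; split_ifs <;> omega
        omega⟩)
    have hdV : (finrank ℂ V : ℤ) = ∑ i, if m i ≤ -t then d i else 0 := by
      rw [hV, finrank_sup Hs hind, Nat.cast_sum, Finset.sum_filter]
    have hdU : (finrank ℂ U : ℤ) = ∑ i, if m i < t + e then d i else 0 := by
      rw [hU, finrank_sup Hs hind, Nat.cast_sum, Finset.sum_filter]
    have hsplit : (∑ i, if m i < t + e then d i else 0) + (∑ i, if t + e ≤ m i then d i else 0) = ∑ i, d i := by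
      rw [← Finset.sum_add_distrib]
      refine Finset.sum_congr rfl fun i _ => ?_
      split_ifs <;> omega
    by_cases hV0 : V = ⊥
    · refine ⟨?_, fun _ ⟨i, hi, hne⟩ => absurd ?_ hne⟩
      · rw [← hdV, hV0, finrank_bot]
        exact Finset.sum_nonneg fun i _ => by simp only [d]; split_ifs <;> simp
      · exact le_bot_iff.1 (hV0 ▸ Finset.le_sup (f := Hs) (Finset.mem_filter.2 ⟨Finset.mem_univ _, hi⟩))
    have hU' : U ≤ perp q V := fun x hx => (mem_perp q).2 (hle x hx)
    have hfin := Submodule.finrank_mono hU'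
    have hh := h V hV0 fun x hx y hy => hle x (hVU hx) y hy
    by_cases hs : strict
    · rw [if_pos hs] at hh
      exact ⟨by omega, fun _ _ => by omega⟩
    · rw [if_neg hs] at hh
      exact ⟨by omega, fun h' => absurd h' hs⟩
  have hpos : (∃ i, 0 < m i ∧ Hs i ≠ ⊥) ∧ ∃ i, m i < 0 ∧ Hs i ≠ ⊥ := by
    obtain ⟨i₀, hi₀, hne₀⟩ := hex
    have hd : ∀ i, Hs i ≠ ⊥ → 0 < d i := fun i hi => by
      have : finrank ℂ (Hs i) ≠ 0 := fun h => hi (Submodule.finrank_eq_zero.1 h)
      simp only [d]; omega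
    refine ⟨?_, ?_⟩
    · by_contra! hno
      have := (Finset.sum_eq_zero_iff_of_nonpos fun i _ => ?_).1 hsum i₀ (Finset.mem_univ _)
      · exact mul_ne_zero hi₀ (hd i₀ hne₀).ne' this
      · by_cases hi : Hs i = ⊥
        · rw [hi, finrank_bot, Nat.cast_zero, mul_zero]
        · exact mul_nonpos_of_nonpos_of_nonneg (not_lt.1 fun hlt => hi (hno i hlt)) (hd i hi).le
    · by_contra! hno
      have := (Finset.sum_eq_zero_iff_of_nonneg fun i _ => ?_).1 hsum i₀ (Finset.mem_univ _)
      · exact mul_ne_zero hi₀ (hd i₀ hne₀).ne' this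
      · by_cases hi : Hs i = ⊥
        · rw [hi, finrank_bot, Nat.cast_zero, mul_zero]
        · exact mul_nonneg (not_lt.1 fun hlt => hi (hno i hlt)) (hd i hi).le
  obtain ⟨⟨ip, hip, hipne⟩, ⟨ineg, hin, hinne⟩⟩ := hpos
  set M : ℤ := ∑ i, |m i|
  have hM : ∀ i, |m i| ≤ M := fun i => Finset.single_le_sum (fun j _ => abs_nonneg (m j)) (Finset.mem_univ i)
  have hA : ∀ f : ι → ℤ, (∀ i, f i ≤ M) →
      ∑ t ∈ Finset.Icc 1 M, (∑ i, if t ≤ f i then d i else 0) = ∑ i, max (f i) 0 * d i := fun f hf => by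
    rw [Finset.sum_comm]
    refine Finset.sum_congr rfl fun i _ => ?_
    rw [← sum_indicator (f i) M (hf i), Finset.sum_mul]
    exact Finset.sum_congr rfl fun t _ => by split_ifs <;> simp
  have hAB : ∑ t ∈ Finset.Icc 1 M, (∑ i, if m i ≤ -t then d i else 0) =
      ∑ t ∈ Finset.Icc 1 M, (∑ i, if t ≤ m i then d i else 0) := by
    rw [hA m fun i => (le_abs_self _).trans (hM i)]
    rw [show (∑ t ∈ Finset.Icc 1 M, ∑ i, if m i ≤ -t then d i else 0) =
      ∑ t ∈ Finset.Icc 1 M, ∑ i, if t ≤ -m i then d i else 0 from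
      Finset.sum_congr rfl fun t _ => Finset.sum_congr rfl fun i _ => by split_ifs <;> first | rfl | omega,
      hA (fun i => -m i) fun i => (neg_le_abs _).trans (hM i), ← sub_eq_zero, ← Finset.sum_sub_distrib]
    rw [← neg_eq_zero, ← Finset.sum_neg_distrib, ← hsum]
    refine Finset.sum_congr rfl fun i _ => ?_
    rw [← sub_mul, ← neg_mul]
    congr 1
    omega
  refine (ne_of_lt (Finset.sum_lt_sum (fun t ht => ?_) ?_)) hAB
  · refine ((key t (Finset.mem_Icc.1 ht).1).1).trans (Finset.sum_le_sum fun i _ => ?_)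
    have : 0 ≤ d i := by simp [d]
    split_ifs with h1 h2 <;> first | omega | (exfalso; simp only [e] at h1; split_ifs at h1 <;> omega)
  · by_cases hs : strict
    · refine ⟨-m ineg, Finset.mem_Icc.2 ⟨by omega, (neg_le_abs _).trans (hM ineg)⟩, ?_⟩
      have := (key (-m ineg) (by omega)).2 hs ⟨ineg, by omega, hinne⟩
      simpa [e, hs] using this
    · refine ⟨m ip, Finset.mem_Icc.2 ⟨by omega, (le_abs_self _).trans (hM ip)⟩, lt_of_le_of_lt (key (m ip) (by omega)).1 ?_⟩
      refine Finset.sum_lt_sum (fun i _ => ?_) ⟨ip, Finset.mem_univ _, ?_⟩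
      · have : 0 ≤ d i := by simp [d]
        simp only [e, if_neg hs]
        split_ifs <;> omega
      · have : finrank ℂ (Hs ip) ≠ 0 := fun h => hipne (Submodule.finrank_eq_zero.1 h)
        simp only [e, if_neg hs, d]
        split_ifs <;> omega

variable (s : W →ₗ[ℂ] W) (hq : ∀ x y : H, q x y = s (q y x)) (hq0 : q ≠ 0)

include hq hq0 in
/-- subspaces from weights -/
theorem subspaces_of_weights (strict : Prop) [Decidable strict]
    (h : ∀ (ι : Type) [Fintype ι] [DecidableEq ι] (Hs : ι → Submodule ℂ H) (m : ι → ℤ),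
        DirectSum.IsInternal Hs → (∑ i, m i * (finrank ℂ (Hs i) : ℤ)) = 0 →
        (∃ i, m i ≠ 0 ∧ Hs i ≠ ⊥) →
        ∃ i j, (∃ x ∈ Hs i, ∃ y ∈ Hs j, q x y ≠ 0) ∧ if strict then m i + m j < 0 else m i + m j ≤ 0)
    (V : Submodule ℂ H) (hV : V ≠ ⊥) (hiso : ∀ x ∈ V, ∀ y ∈ V, q x y = 0) :
    if strict then finrank ℂ V + finrank ℂ (perp q V) < finrank ℂ H
    else finrank ℂ V + finrank ℂ (perp q V) ≤ finrank ℂ H := by
  classical
  by_contra hcon
  set P := perp q V
  have hVP : V ≤ P := fun x hx => (mem_perp q).2 (hiso x hx)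
  obtain ⟨C, hC⟩ := exists_isCompl V
  obtain ⟨R, hR⟩ := exists_isCompl P
  set B := C ⊓ P
  have hVB : V ⊔ B = P := by
    rw [show V ⊔ B = (V ⊔ C) ⊓ P from (sup_inf_assoc_of_le C hVP).symm, hC.sup_eq_top, top_inf_eq]
  have hP := Submodule.finrank_sup_add_finrank_inf_eq V B
  rw [hVB, show V ⊓ B = ⊥ from le_bot_iff.1 (le_trans (inf_le_inf_left V inf_le_left) hC.inf_eq_bot.le), finrank_bot] at hP
  have hH := Submodule.finrank_sup_add_finrank_inf_eq P R
  rw [hR.sup_eq_top, hR.inf_eq_bot, finrank_bot, finrank_top] at hH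
  have hVpos : 0 < finrank ℂ V := Nat.pos_of_ne_zero fun h0 => hV (Submodule.finrank_eq_zero.1 h0)
  let a : ℤ := -((finrank ℂ B : ℤ) + finrank ℂ R)
  let b : ℤ := (finrank ℂ V : ℤ) - finrank ℂ R
  let c : ℤ := (finrank ℂ V : ℤ) + finrank ℂ B
  have hBR : 0 < finrank ℂ B + finrank ℂ R := by
    by_contra h0
    have htop : V = ⊤ := Submodule.eq_top_of_finrank_eq (by omega)
    exact hq0 (LinearMap.ext₂ fun x y => hiso x (htop ▸ Submodule.mem_top) y (htop ▸ Submodule.mem_top))
  have hint : DirectSum.IsInternal ![V, B, R] := by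
    rw [DirectSum.isInternal_submodule_iff_iSupIndep_and_iSup_eq_top]
    have key : ∀ v ∈ V, ∀ b ∈ B, ∀ r ∈ R, v + b + r = 0 → v = 0 ∧ b = 0 ∧ r = 0 := by
      intro v hv b hb r hr h0
      have hvb : v + b ∈ P := P.add_mem (hVP hv) hb.2
      have hr0 : r = 0 := Submodule.disjoint_def.1 hR.disjoint r (by
        rw [show r = -(v + b) by linear_combination (norm := module) h0]; exact P.neg_mem hvb) hr
      rw [hr0, add_zero] at h0
      have hv0 : v = 0 := Submodule.disjoint_def.1 hC.disjoint v hv (by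
        rw [show v = -b by linear_combination (norm := module) h0]; exact C.neg_mem hb.1)
      rw [hv0, zero_add] at h0
      exact ⟨hv0, h0, hr0⟩
    refine ⟨fun i => Submodule.disjoint_def.2 fun x hx hx' => ?_, ?_⟩
    · fin_cases i
      · have hle : (⨆ j, ⨆ (_ : j ≠ (0 : Fin 3)), ![V, B, R] j) ≤ B ⊔ R := iSup₂_le fun j hj => by fin_cases j <;> simp at hj ⊢
        obtain ⟨y, hy, z, hz, hyz⟩ := Submodule.mem_sup.1 (hle hx')
        exact (key x hx (-y) (B.neg_mem hy) (-z) (R.neg_mem hz) (by rw [← hyz]; module)).1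
      · have hle : (⨆ j, ⨆ (_ : j ≠ (1 : Fin 3)), ![V, B, R] j) ≤ V ⊔ R := iSup₂_le fun j hj => by fin_cases j <;> simp at hj ⊢
        obtain ⟨y, hy, z, hz, hyz⟩ := Submodule.mem_sup.1 (hle hx')
        exact (key (-y) (V.neg_mem hy) x hx (-z) (R.neg_mem hz) (by rw [← hyz]; module)).2.1
      · have hle : (⨆ j, ⨆ (_ : j ≠ (2 : Fin 3)), ![V, B, R] j) ≤ V ⊔ B := iSup₂_le fun j hj => by fin_cases j <;> simp at hj ⊢
        obtain ⟨y, hy, z, hz, hyz⟩ := Submodule.mem_sup.1 (hle hx')
        exact (key (-y) (V.neg_mem hy) (-z) (B.neg_mem hz) x hx (by rw [← hyz]; module)).2.2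
    · rw [eq_top_iff, ← hR.sup_eq_top, ← hVB]
      exact sup_le (sup_le (le_iSup ![V, B, R] 0) (le_iSup ![V, B, R] 1)) (le_iSup ![V, B, R] 2)
  obtain ⟨i, j, ⟨x, hx, y, hy, hxy⟩, hij⟩ := h (Fin 3) ![V, B, R] ![a, b, c] hint
    (by
      rw [Fin.sum_univ_three]
      change a * (finrank ℂ V : ℤ) + b * (finrank ℂ B : ℤ) + c * (finrank ℂ R : ℤ) = 0
      simp only [a, b, c]
      ring) ⟨0, by simp [a]; omega, by simpa using hV⟩
  have hswap : ∀ v ∈ V, ∀ w ∈ B, q v w = 0 := fun v hv w hw => by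
    rw [hq, (mem_perp q).1 (Submodule.mem_inf.1 hw).2 v hv, map_zero]
  by_cases hs : strict
  · rw [if_pos hs] at hij hcon
    fin_cases i <;> fin_cases j <;> simp [a, b, c] at hx hy hij <;>
      first | omega | exact hxy (hiso x hx y hy) | exact hxy (hswap x hx y hy) | exact hxy ((mem_perp q).1 hx.2 y hy)
  · rw [if_neg hs] at hij hcon
    fin_cases i <;> fin_cases j <;> simp [a, b, c] at hx hy hij <;>
      first | omega | exact hxy (hiso x hx y hy) | exact hxy (hswap x hx y hy) | exact hxy ((mem_perp q).1 hx.2 y hy)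

/-- Let W be a finite-dimensional complex vector space with an involution s, H a finite-dimensional
complex vector space and q : H → H → W a nonzero bilinear map with q(x)(y) = s(q(y)(x)). Write V^⊥ =
{x | q(x)(y) = 0 for all y ∈ V} and call V totally isotropic when q vanishes on V × V. The pair (H,
q) is semistable (dim V + dim V^⊥ ≤ dim H for every nonzero totally isotropic subspace V),
respectively stable (strict inequality), if and only if the line of q is semistable, respectively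
stable, for the action of SL(H), the latter being expressed through one-parameter subgroups: for
every decomposition H = ⊕_i H_i into subspaces with integer weights m_i such that Σ_i m_i dim H_i =
0 and some nonzero H_i has nonzero weight, there are indices i, j with q(H_i, H_j) ≠ 0 and m_i + m_j
≤ 0, respectively m_i + m_j < 0. (The published statement speaks of semistability and stability of
the point of the projective space of such forms under SL(H); this row states the numerical condition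
on one-parameter subgroups to which that is equivalent and which the published argument verifies.) -/
theorem result
    (W : Type) [AddCommGroup W] [Module ℂ W] [FiniteDimensional ℂ W]
    (s : W →ₗ[ℂ] W) (hs : s ∘ₗ s = LinearMap.id)
    (H : Type) [AddCommGroup H] [Module ℂ H] [FiniteDimensional ℂ H]
    (q : H →ₗ[ℂ] H →ₗ[ℂ] W) (hq : ∀ x y : H, q x y = s (q y x)) (hq0 : q ≠ 0) :
    ((∀ V : Submodule ℂ H, V ≠ ⊥ → (∀ x ∈ V, ∀ y ∈ V, q x y = 0) →
        Module.finrank ℂ V + Module.finrank ℂ ↥(⨅ (y : H) (_ : y ∈ V), LinearMap.ker (q.flip y) : Submodule ℂ H) ≤ Module.finrank ℂ H) ↔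
      (∀ (ι : Type) [Fintype ι] [DecidableEq ι] (Hs : ι → Submodule ℂ H) (m : ι → ℤ),
        DirectSum.IsInternal Hs → (∑ i, m i * (Module.finrank ℂ (Hs i) : ℤ)) = 0 →
        (∃ i, m i ≠ 0 ∧ Hs i ≠ ⊥) →
        ∃ i j, (∃ x ∈ Hs i, ∃ y ∈ Hs j, q x y ≠ 0) ∧ m i + m j ≤ 0)) ∧
    ((∀ V : Submodule ℂ H, V ≠ ⊥ → (∀ x ∈ V, ∀ y ∈ V, q x y = 0) →
        Module.finrank ℂ V + Module.finrank ℂ ↥(⨅ (y : H) (_ : y ∈ V), LinearMap.ker (q.flip y) : Submodule ℂ H) < Module.finrank ℂ H) ↔
      (∀ (ι : Type) [Fintype ι] [DecidableEq ι] (Hs : ι → Submodule ℂ H) (m : ι → ℤ),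
        DirectSum.IsInternal Hs → (∑ i, m i * (Module.finrank ℂ (Hs i) : ℤ)) = 0 →
        (∃ i, m i ≠ 0 ∧ Hs i ≠ ⊥) →
        ∃ i j, (∃ x ∈ Hs i, ∃ y ∈ Hs j, q x y ≠ 0) ∧ m i + m j < 0)) := by
  refine ⟨⟨fun h ι _ _ Hs m h1 h2 h3 => ?_, fun h V hV hiso => ?_⟩, ⟨fun h ι _ _ Hs m h1 h2 h3 => ?_, fun h V hV hiso => ?_⟩⟩
  · simpa using weights_of_subspaces q False (by simpa using h) ι Hs m h1 h2 h3
  · simpa using subspaces_of_weights q s hq hq0 False (fun ι _ _ Hs m a b c => by simpa using h ι Hs m a b c) V hV hiso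
  · simpa using weights_of_subspaces q True (by simpa using h) ι Hs m h1 h2 h3
  · simpa using subspaces_of_weights q s hq hq0 True (fun ι _ _ Hs m a b c => by simpa using h ι Hs m a b c) V hV hiso

end Groth.Agent.S15159
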