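import Mathlib
import Groth.Statements.S15162
-- import your own Groth.Agent.* helpers here

set_option autoImplicit false
open Matrix
open BddFin

namespace Groth.Agent.S15162

/-- Let Γ be a finite subgroup of GL_2(ℤ) acting on ℤ² by matrix multiplication. If every element of Γ
has a non-zero fixed vector in ℤ², then there is a non-zero vector of ℤ² fixed by all of Γ. -/
theorem result
    (Γ : Subgroup (Matrix.GeneralLinearGroup (Fin 2) ℤ)) [Finite Γ]
    (h : ∀ γ ∈ Γ, ∃ v : Fin 2 → ℤ, v ≠ 0 ∧ (γ : Matrix (Fin 2) (Fin 2) ℤ) *ᵥ v = v) :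
    ∃ v : Fin 2 → ℤ, v ≠ 0 ∧ ∀ γ ∈ Γ, (γ : Matrix (Fin 2) (Fin 2) ℤ) *ᵥ v = v := by
  classical
  have hdet : ∀ γ ∈ Γ, (γ : Matrix (Fin 2) (Fin 2) ℤ).det = 1 → γ = 1 := by
    intro γ hγ hd
    obtain ⟨v, hv0, hv⟩ := h γ hγ
    set g : Matrix (Fin 2) (Fin 2) ℤ := (γ : Matrix (Fin 2) (Fin 2) ℤ)
    have hdet0 : (g - 1).det = 0 :=
      Matrix.exists_mulVec_eq_zero_iff.1 ⟨v, hv0, by rw [Matrix.sub_mulVec, hv, Matrix.one_mulVec, sub_self]⟩
    rw [Matrix.det_fin_two] at hdet0 hd
    simp at hdet0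
    have htr : g 0 0 + g 1 1 = 2 := by linear_combination hd - hdet0
    have hsq : (g - 1) * (g - 1) = 0 := by
      ext i j
      fin_cases i <;> fin_cases j <;> simp [Matrix.mul_apply, Fin.sum_univ_two]
      · linear_combination (g 0 0 - 1) * htr - hdet0
      · linear_combination g 0 1 * htr
      · linear_combination g 1 0 * htr
      · linear_combination (g 1 1 - 1) * htr - hdet0
    have hpow : ∀ n : ℕ, g ^ n = 1 + n • (g - 1) := by
      intro n
      induction n with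
      | zero => simp
      | succ n ih =>
        have hmul : (g - 1) * g = g - 1 := by
          conv_lhs => arg 2; rw [← sub_add_cancel g 1]
          rw [mul_add, hsq, mul_one, zero_add]
        rw [pow_succ, ih, add_mul, one_mul, smul_mul_assoc, hmul, succ_nsmul]
        abel
    have hfin : IsOfFinOrder (⟨γ, hγ⟩ : Γ) := isOfFinOrder_of_finite _
    obtain ⟨n, hn, hn1⟩ := isOfFinOrder_iff_pow_eq_one.1 hfin
    have hgn : g ^ n = 1 := by
      have h1 := congrArg (fun x : Γ => ((x : Matrix.GeneralLinearGroup (Fin 2) ℤ) : Matrix (Fin 2) (Fin 2) ℤ)) hn1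
      simpa using h1
    rw [hpow] at hgn
    have h0 : n • (g - 1) = 0 := by simpa using hgn
    have h1 : g - 1 = 0 := by
      ext i j
      have h2 := congrFun (congrFun h0 i) j
      rw [Matrix.smul_apply, Matrix.zero_apply, nsmul_eq_mul] at h2
      exact (mul_eq_zero.1 h2).resolve_left (by exact_mod_cast hn.ne')
    exact Units.ext (sub_eq_zero.1 h1)
  have hneg : ∀ γ ∈ Γ, γ ≠ 1 → (γ : Matrix (Fin 2) (Fin 2) ℤ).det = -1 := by
    intro γ hγ hne
    rcases Int.isUnit_iff.1 ((Matrix.isUnit_iff_isUnit_det _).1 γ.isUnit) with h1 | h1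
    · exact absurd (hdet γ hγ h1) hne
    · exact h1
  by_cases hall : ∀ γ ∈ Γ, γ = 1
  · refine ⟨![1, 0], by simp, fun γ hγ => ?_⟩
    rw [hall γ hγ, Units.val_one, Matrix.one_mulVec]
  push_neg at hall
  obtain ⟨a, ha, ha1⟩ := hall
  obtain ⟨v, hv0, hv⟩ := h a ha
  refine ⟨v, hv0, fun γ hγ => ?_⟩
  by_cases hg1 : γ = 1
  · rw [hg1, Units.val_one, Matrix.one_mulVec]
  have haa : a * a = 1 := hdet _ (Γ.mul_mem ha ha) (by simp [Matrix.det_mul, hneg a ha ha1])
  have hga : γ * a = 1 := hdet _ (Γ.mul_mem hγ ha) (by simp [Matrix.det_mul, hneg a ha ha1, hneg γ hγ hg1])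
  rw [show γ = a from mul_right_cancel (hga.trans haa.symm), hv]

end Groth.Agent.S15162
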