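import Mathlib
import Groth.Statements.S15163
-- import your own Groth.Agent.* helpers here

set_option autoImplicit false
open Matrix
open BddFin

namespace Groth.Agent.S15163

/-- Let Γ be a finite subgroup of GL_2(ℤ) and d > 6 an integer. Suppose some vector w of (ℤ/dℤ)², with
m·w ≠ 0 for all 0 < m < d, is fixed by the reduction modulo d of every element of Γ. Then some
non-zero vector of ℤ² is fixed by all of Γ. -/
theorem result
    (Γ : Subgroup (Matrix.GeneralLinearGroup (Fin 2) ℤ)) [Finite Γ] (d : ℕ) (hd : 6 < d)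
    (w : Fin 2 → ZMod d) (hw : ∀ m : ℕ, 0 < m → m < d → m • w ≠ 0)
    (hfix : ∀ γ ∈ Γ, ((γ : Matrix (Fin 2) (Fin 2) ℤ).map (Int.castRingHom (ZMod d))) *ᵥ w = w) :
    ∃ v : Fin 2 → ℤ, v ≠ 0 ∧ ∀ γ ∈ Γ, (γ : Matrix (Fin 2) (Fin 2) ℤ) *ᵥ v = v := by
  classical
  have key : ∀ γ ∈ Γ, ((γ : Matrix (Fin 2) (Fin 2) ℤ) - 1).det = 0 ∧
      ((γ : Matrix (Fin 2) (Fin 2) ℤ).det = 1 → (γ : Matrix (Fin 2) (Fin 2) ℤ) = 1) := by
    intro γ hγ
    set G := (γ : Matrix (Fin 2) (Fin 2) ℤ) with hG
    obtain ⟨N, hN, hpow⟩ := isOfFinOrder_iff_pow_eq_one.mp (isOfFinOrder_of_finite (⟨γ, hγ⟩ : Γ))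
    have hGN : G ^ N = 1 := by
      have := congrArg (fun z : Γ => ((z : Matrix.GeneralLinearGroup (Fin 2) ℤ) : Matrix (Fin 2) (Fin 2) ℤ)) hpow
      simpa using this
    have hdet : G.det = 1 ∨ G.det = -1 := Int.isUnit_iff.mp ((Matrix.isUnit_iff_isUnit_det G).mp γ.isUnit)
    have htr : |G.trace| ≤ 2 := by
      let C : Matrix (Fin 2) (Fin 2) ℂ := (Int.castRingHom ℂ).mapMatrix G
      have hCN : C ^ N = 1 := by rw [← map_pow, hGN, map_one]
      have hroot : ∀ μ ∈ C.charpoly.roots, ‖μ‖ = 1 := by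
        intro μ hμ
        rw [Polynomial.mem_roots C.charpoly_monic.ne_zero, ← Matrix.mem_spectrum_iff_isRoot_charpoly] at hμ
        have := spectrum.pow_mem_pow C N hμ
        rw [hCN, spectrum.one_eq] at this
        exact Complex.norm_eq_one_of_pow_eq_one this hN.ne'
      have h1 : ‖C.trace‖ ≤ 2 := by
        rw [Matrix.trace_eq_sum_roots_charpoly]
        refine (norm_multiset_sum_le _).trans ?_
        rw [Multiset.map_congr rfl hroot, Multiset.map_const', Multiset.sum_replicate,
          IsAlgClosed.card_roots_eq_natDegree, Matrix.charpoly_natDegree_eq_dim]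
        simp
      have h2 : C.trace = ((G.trace : ℤ) : ℂ) := by simp [C, Matrix.trace_fin_two]
      rw [h2, Complex.norm_intCast] at h1
      exact_mod_cast h1
    set e := (G - 1).det with he
    have he' : e = G.det - G.trace + 1 := by
      rw [he, Matrix.det_fin_two, Matrix.det_fin_two, Matrix.trace_fin_two]; simp; ring
    have he4 : e.natAbs ≤ 4 := by
      rw [abs_le] at htr; omega
    have hew : (e : ZMod d) • w = 0 := by
      let M : Matrix (Fin 2) (Fin 2) (ZMod d) := (Int.castRingHom (ZMod d)).mapMatrix (G - 1)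
      have hMw : M *ᵥ w = 0 := by
        simp only [M, map_sub, map_one, Matrix.sub_mulVec, Matrix.one_mulVec]
        exact sub_eq_zero.mpr (hfix γ hγ)
      have := congrArg (fun v => M.adjugate *ᵥ v) hMw
      simp only [Matrix.mulVec_mulVec, Matrix.adjugate_mul, Matrix.smul_mulVec, Matrix.one_mulVec,
        Matrix.mulVec_zero] at this
      simpa [M, Int.cast_det, Matrix.map_map, he] using this
    have he0 : e = 0 := by
      by_contra h
      apply hw e.natAbs (Int.natAbs_pos.mpr h) (by omega)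
      rw [← Nat.cast_smul_eq_nsmul (ZMod d)]
      rcases Int.natAbs_eq e with h' | h' <;> rw [h'] at hew <;> simpa using hew
    refine ⟨he0, fun h1 => ?_⟩
    have hsq : (G - 1) * (G - 1) = 0 := by
      have ht : G.trace = 2 := by omega
      rw [Matrix.trace_fin_two] at ht
      rw [Matrix.det_fin_two] at h1
      ext i j; fin_cases i <;> fin_cases j <;> simp [Matrix.mul_apply, Fin.sum_univ_two] <;> grind
    have hlin : ∀ m : ℕ, G ^ m = 1 + m • (G - 1) := by
      intro m; induction m with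
      | zero => simp
      | succ m ih =>
        rw [pow_succ, ih]
        nth_rw 2 [show G = 1 + (G - 1) by abel]
        rw [add_mul, mul_add, mul_add, smul_mul_assoc, smul_mul_assoc, hsq, one_mul, mul_one, smul_zero,
          succ_nsmul]
        simp; abel
    have := hlin N
    rw [hGN] at this
    have h0 : N • (G - 1) = 0 := by simpa using this
    ext i j
    have h' := congrFun (congrFun h0 i) j
    simp only [Matrix.smul_apply, Matrix.zero_apply, Matrix.sub_apply, smul_eq_zero] at h'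
    exact sub_eq_zero.mp (h'.resolve_left hN.ne')
  by_cases hall : ∀ γ ∈ Γ, (γ : Matrix (Fin 2) (Fin 2) ℤ).det = 1
  · exact ⟨![1, 0], fun h => one_ne_zero (congrFun h 0), fun γ hγ => by rw [(key γ hγ).2 (hall γ hγ)]; simp⟩
  · push_neg at hall
    obtain ⟨g, hg, hgd⟩ := hall
    have hgd' : (g : Matrix (Fin 2) (Fin 2) ℤ).det = -1 :=
      (Int.isUnit_iff.mp ((Matrix.isUnit_iff_isUnit_det _).mp g.isUnit)).resolve_left hgd
    obtain ⟨v, hv, hgv⟩ := Matrix.exists_mulVec_eq_zero_iff.mpr (key g hg).1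
    rw [Matrix.sub_mulVec, Matrix.one_mulVec, sub_eq_zero] at hgv
    refine ⟨v, hv, fun γ hγ => ?_⟩
    rcases Int.isUnit_iff.mp ((Matrix.isUnit_iff_isUnit_det _).mp γ.isUnit) with h | h
    · rw [(key γ hγ).2 h, Matrix.one_mulVec]
    · have h1 := (key _ (mul_mem hγ hg)).2 (by rw [Units.val_mul, Matrix.det_mul, h, hgd']; norm_num)
      conv_lhs => rw [← hgv]
      rw [Matrix.mulVec_mulVec, ← Units.val_mul, h1, Matrix.one_mulVec]

end Groth.Agent.S15163
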