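import Groth.Statements.S15164
import Mathlib.Algebra.CharP.Lemmas
import Mathlib.Algebra.CharP.Algebra
import Mathlib.LinearAlgebra.QuadraticForm.Basic
-- import your own Groth.Agent.* helpers here

set_option autoImplicit false
universe u v
open BddFin

namespace Groth.Agent.S15164

/-- Let K be a field of characteristic p > 2, V a finite-dimensional K-vector space and q a quadratic
form on V that does not represent zero (q x = 0 only for x = 0). Then the group of K-linear
automorphisms of V preserving q has no element of order p: if g preserves q and g ^ p = 1 then g =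
1. (Non-degeneracy of q, also assumed in the published statement, follows from anisotropy since 2 is
invertible, so it is not repeated here.) -/
theorem result
    (K : Type u) [Field K] (p : ℕ) [Fact p.Prime] [CharP K p] (hp : p ≠ 2)
    (V : Type v) [AddCommGroup V] [Module K V] [FiniteDimensional K V]
    (q : QuadraticForm K V) (hq : q.Anisotropic)
    (g : V ≃ₗ[K] V) (hg : ∀ x : V, q (g x) = q x) (hgp : g ^ p = 1) : g = 1 := by
  let N : Module.End K V := (g : V →ₗ[K] V) - 1
  have hgE : ∀ n : ℕ, ((g : V →ₗ[K] V) : Module.End K V) ^ n = ((g ^ n : V ≃ₗ[K] V) : V →ₗ[K] V) := fun n => by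
    induction n with
    | zero => rfl
    | succ n ih => rw [pow_succ, pow_succ, ih]; rfl
  have hN : N ^ p = 0 := by
    rcases subsingleton_or_nontrivial V with h | h
    · exact LinearMap.ext fun x => Subsingleton.elim _ _
    haveI : CharP (Module.End K V) p := (RingHom.charP_iff (algebraMap K (Module.End K V)) (algebraMap K (Module.End K V)).injective p).1 inferInstance
    show ((g : V →ₗ[K] V) - 1 : Module.End K V) ^ p = 0
    rw [sub_pow_char_of_commute (R := Module.End K V) (p := p) (Commute.one_right _), one_pow, hgE, hgp]
    exact sub_eq_zero.2 rfl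
  ext x
  show g x = x
  have key : ∀ v : V, N (N v) = 0 → N v = 0 := by
    intro v hv
    have hgv : g v = v + N v := by simp [N]
    have hgw : g (N v) = N v := by
      have : g (N v) - N v = 0 := hv
      exact sub_eq_zero.1 this
    have hpol : ∀ a b, QuadraticMap.polar q (g a) (g b) = QuadraticMap.polar q a b := fun a b => by
      simp only [QuadraticMap.polar, ← map_add, hg]
    have h := hpol v (N v)
    rw [hgv, hgw, QuadraticMap.polar_add_left] at h
    have h2 : QuadraticMap.polar q (N v) (N v) = 0 := by
      rwa [add_eq_left] at h
    rw [QuadraticMap.polar_self, nsmul_eq_mul] at h2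
    refine hq _ ((mul_eq_zero.1 h2).resolve_left ?_)
    exact Ring.two_ne_zero (by rw [ringChar.eq K p]; exact hp)
  have : ∀ k, ∀ v, (N ^ (k + 1)) v = 0 → N v = 0 := by
    intro k
    induction k with
    | zero => intro v hv; simpa using hv
    | succ k ih =>
      intro v hv
      refine key v (ih (N v) ?_)
      rw [pow_succ] at hv
      exact hv
  obtain ⟨k, hk⟩ := Nat.exists_eq_succ_of_ne_zero (Fact.out : p.Prime).ne_zero
  exact sub_eq_zero.1 (this k x (by rw [← Nat.succ_eq_add_one, ← hk, hN]; rfl))

end Groth.Agent.S15164
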