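import Mathlib
import Groth.Statements.S15165
-- import your own Groth.Agent.* helpers here

set_option autoImplicit false
universe u v
open Polynomial
open BddFin

namespace Groth.Agent.S15165

/-- Let K be a field of characteristic different from 2 such that K contains all roots of unity (for
every n ≥ 1 the polynomial X^n − 1 splits into linear factors over K), V a finite-dimensional
K-vector space and q a quadratic form on V that does not represent zero. If a K-linear automorphism
g of V preserves q and has finite order (g ^ d = 1 for some d ≥ 1), then g ^ 2 = 1. (The published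
statement also covers perfect fields of characteristic 2; this row is the case of characteristic ≠
2.) -/
theorem result
    (K : Type u) [Field K] (hK : ∀ n : ℕ, 0 < n → (X ^ n - 1 : K[X]).Splits) (h2 : (2 : K) ≠ 0)
    (V : Type v) [AddCommGroup V] [Module K V] [FiniteDimensional K V]
    (q : QuadraticForm K V) (hq : q.Anisotropic)
    (g : V ≃ₗ[K] V) (hg : ∀ x : V, q (g x) = q x) (d : ℕ) (hd : 0 < d) (hgd : g ^ d = 1) :
    g ^ 2 = 1 := by
  classical
  let e : Module.End K V := (g : V →ₗ[K] V)
  have hpow : ∀ (m : ℕ) (x : V), (e ^ m) x = (g ^ m) x := by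
    intro m
    induction m with
    | zero => intro x; simp
    | succ m ih => intro x; rw [pow_succ', pow_succ', Module.End.mul_apply, ih]; rfl
  have hed : e ^ d = 1 := LinearMap.ext fun x => by rw [hpow, hgd]; rfl
  have hqN : ∀ x, q ((e ^ 2) x) = q x := fun x => by
    rw [pow_two, Module.End.mul_apply]; exact (hg _).trans (hg x)
  set m := minpoly K e
  have hint : IsIntegral K e := IsIntegral.of_finite K e
  have hdvd : m ∣ (X ^ d - 1 : K[X]) := minpoly.dvd K e (by simp [hed])
  have hne0 : (X ^ d - 1 : K[X]) ≠ 0 := by rw [← C_1]; exact X_pow_sub_C_ne_zero hd 1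
  have hsp : m.Splits := (hK d hd).of_dvd hne0 hdvd
  have hroot : ∀ r ∈ m.roots, (X - C r) ∣ (X ^ 2 - 1 : K[X]) := by
    intro r hr
    obtain ⟨v, hv⟩ := (Module.End.hasEigenvalue_of_isRoot (mem_roots'.mp hr).2).exists_hasEigenvector
    have h := hg v
    rw [show g v = r • v from hv.apply_eq_smul, QuadraticMap.map_smul, smul_eq_mul] at h
    have hqv : q v ≠ 0 := fun h0 => hv.2 (hq v h0)
    rw [dvd_iff_isRoot]
    simp only [IsRoot, eval_sub, eval_pow, eval_X, eval_one]
    apply mul_right_cancel₀ hqv
    linear_combination h
  have hm : m ∣ (X ^ 2 - 1 : K[X]) ^ Multiset.card m.roots := by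
    rw [hsp.eq_prod_roots_of_monic (minpoly.monic hint)]
    rw [Polynomial.roots_multiset_prod_X_sub_C]
    refine (Multiset.prod_dvd_prod_of_dvd _ (fun _ => (X ^ 2 - 1 : K[X])) hroot).trans ?_
    simp
  set N : Module.End K V := e ^ 2 - 1
  have hnil : N ^ Multiset.card m.roots = 0 := by
    obtain ⟨r, hr⟩ := hm
    have := congrArg (aeval e) hr
    simpa [m, N, minpoly.aeval] using this
  have hstep : ∀ w, N (N w) = 0 → N w = 0 := by
    intro w hw
    set v := N w with hv
    have h1 : (e ^ 2) w = w + v := by simp [v, N]
    have h2' : (e ^ 2) v = v := by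
      have : (e ^ 2) v - v = 0 := by simpa [N] using hw
      exact sub_eq_zero.mp this
    have a := hqN w
    rw [h1] at a
    have b := hqN (w + v)
    rw [map_add, h1, h2', a, add_assoc] at b
    have madd : ∀ a b : V, q (a + b) = q a + q b + QuadraticMap.polar q a b := fun a b => by
      simp [QuadraticMap.polar]
    rw [madd] at a b
    rw [← two_smul K v, QuadraticMap.map_smul, QuadraticMap.polar_smul_right, smul_eq_mul, smul_eq_mul] at b
    have : (2 : K) * q v = 0 := by linear_combination b - 2 * a
    exact hq v ((mul_eq_zero.mp this).resolve_left h2)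
  have hN : ∀ (k : ℕ) (w : V), (N ^ k) w = 0 → N w = 0 := by
    intro k
    induction k with
    | zero => intro w hw; simp at hw; simp [hw]
    | succ k ih =>
      intro w hw
      rw [pow_succ, Module.End.mul_apply] at hw
      exact hstep w (ih _ hw)
  apply LinearEquiv.ext
  intro x
  have := hN _ x (by rw [hnil]; rfl)
  rw [← hpow]
  simpa [N, sub_eq_zero] using this

end Groth.Agent.S15165
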