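import Groth.Statements.S15166
import Mathlib
-- import your own Groth.Agent.* helpers here

set_option autoImplicit false
universe u v
open Polynomial
open BddFin

namespace Groth.Agent.S15166

open Polynomial in
theorem inv_of_finite {K : Type u} [Field K] (hK : ∀ n : ℕ, 0 < n → (X ^ n - 1 : K[X]).Splits) (h2 : (2 : K) ≠ 0)
    {V : Type v} [AddCommGroup V] [Module K V]
    (q : QuadraticForm K V) (hq : q.Anisotropic) (g : V →ₗ[K] V) (hg : ∀ x, q (g x) = q x)
    {m : ℕ} (hm : 0 < m) (hgm : g ^ m = 1) : ∀ x, g (g x) = x := by
  set N : V →ₗ[K] V := g * g - 1 with hN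
  have key : ∀ s : Multiset K, ∀ v, aeval g ((s.map fun a => X - C a).prod) v = 0 →
      (N ^ Multiset.card s) v = 0 := by
    intro s
    induction s using Multiset.induction with
    | empty => intro v hv; simpa using hv
    | cons ζ s ih =>
      intro v hv
      rw [Multiset.map_cons, Multiset.prod_cons] at hv
      set P := (s.map fun a => X - C a).prod
      rw [Multiset.card_cons]
      by_cases hz : ζ * ζ = 1
      · have h1 : aeval g P ((g - algebraMap K _ ζ) v) = 0 := by
          rw [mul_comm, map_mul, Module.End.mul_apply] at hv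
          simpa [aeval_sub] using hv
        have h3 : N v = (g + algebraMap K _ ζ) ((g - algebraMap K _ ζ) v) := by
          simp [hN, Module.algebraMap_end_apply, smul_sub, smul_smul, hz]
        rw [pow_succ, Module.End.mul_apply, h3]
        have hc : Commute (N ^ Multiset.card s) (g + algebraMap K _ ζ) := by
          refine Commute.pow_left ?_ _
          rw [hN]
          exact ((((Commute.refl g).mul_left (Commute.refl g)).sub_left (Commute.one_left g)).add_right
            (Algebra.commutes ζ _).symm)
        rw [← Module.End.mul_apply, hc.eq, Module.End.mul_apply, ih _ h1, map_zero]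
      · rw [map_mul, Module.End.mul_apply] at hv
        set w := aeval g P v with hw
        have h1 : g w = ζ • w := by simpa [sub_eq_zero, Module.algebraMap_end_apply] using hv
        have h3 := hg w
        rw [h1, QuadraticMap.map_smul, smul_eq_mul] at h3
        have hw0 : w = 0 := by
          apply hq
          by_contra hne
          exact hz ((mul_eq_right₀ hne).mp h3)
        rw [pow_succ', Module.End.mul_apply, ih v hw0, map_zero]
  have hsp := hK m hm
  have hmon : (X ^ m - 1 : K[X]).Monic := by
    simpa using monic_X_pow_sub_C (1 : K) hm.ne'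
  have hnil : ∀ v, (N ^ Multiset.card (X ^ m - 1 : K[X]).roots) v = 0 := by
    intro v
    apply key
    rw [← hsp.eq_prod_roots_of_monic hmon]
    simp [hgm]
  have step : ∀ v, N (N v) = 0 → N v = 0 := by
    intro v hv
    have h1 : g (g (N v)) = N v := by
      have := hv; rw [hN] at this ⊢; simpa [sub_eq_zero] using this
    have hgg : g (g v) = v + N v := by simp [hN]
    have hgg' : g (g (v + N v)) = v + N v + N v := by rw [map_add, map_add, hgg, h1]
    have e1 : q (g (g v)) = q v := by rw [hg, hg]
    have e2 : q (g (g (v + N v))) = q (v + N v) := by rw [hg, hg]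
    rw [hgg] at e1
    rw [hgg', e1] at e2
    have e3 := QuadraticMap.map_add q v (N v)
    have e4 := QuadraticMap.map_add q (v + N v) (N v)
    rw [e1] at e3
    rw [e2, e1, QuadraticMap.polar_add_left, QuadraticMap.polar_self] at e4
    apply hq
    have e5 : (2 : K) * q (N v) = 0 := by
      simp only [nsmul_eq_mul, Nat.cast_ofNat] at e4
      linear_combination e3 - e4
    exact (mul_eq_zero.mp e5).resolve_left h2
  have hz : ∀ c, ∀ v, (N ^ c) v = 0 → N v = 0 := by
    intro c
    induction c with
    | zero => intro v hv; simp at hv; simp [hv]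
    | succ c ih =>
      intro v hv
      exact step v (ih (N v) (by rwa [pow_succ, Module.End.mul_apply] at hv))
  intro x
  have := hz _ x (hnil x)
  rw [hN] at this
  simpa [sub_eq_zero] using this

/-- Let K be a field of characteristic different from 2 such that K contains all roots of unity (for
every n ≥ 1 the polynomial X^n − 1 splits into linear factors over K), V a finite-dimensional
K-vector space and q a quadratic form on V that does not represent zero. Then every finite subgroup
of the group of K-linear automorphisms of V preserving q is abelian and has order at most 2 ^ (dim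
V). (The published statement also covers perfect fields of characteristic 2; this row is the case of
characteristic ≠ 2.) -/
theorem result
    (K : Type u) [Field K] (hK : ∀ n : ℕ, 0 < n → (X ^ n - 1 : K[X]).Splits) (h2 : (2 : K) ≠ 0)
    (V : Type v) [AddCommGroup V] [Module K V] [FiniteDimensional K V]
    (q : QuadraticForm K V) (hq : q.Anisotropic)
    (G : Subgroup (V ≃ₗ[K] V)) [Finite G] (hG : ∀ g ∈ G, ∀ x : V, q (g x) = q x) :
    (∀ g ∈ G, ∀ h ∈ G, g * h = h * g) ∧ Nat.card G ≤ 2 ^ Module.finrank K V := by
  have hpow : ∀ (g : V ≃ₗ[K] V) (k : ℕ), ((g : V →ₗ[K] V) ^ k) = ((g ^ k : V ≃ₗ[K] V) : V →ₗ[K] V) := by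
    intro g k
    induction k with
    | zero => rfl
    | succ k ih => rw [pow_succ, pow_succ, ih]; rfl
  have hinv : ∀ g ∈ G, ∀ x, g (g x) = x := by
    intro g hg x
    have hfin : IsOfFinOrder (⟨g, hg⟩ : G) := isOfFinOrder_of_finite _
    refine inv_of_finite hK h2 q hq (g : V →ₗ[K] V) (hG g hg) hfin.orderOf_pos ?_ x
    rw [hpow]
    have h1 := congrArg Subtype.val (pow_orderOf_eq_one (⟨g, hg⟩ : G))
    simp only [SubgroupClass.coe_pow, OneMemClass.coe_one] at h1
    rw [h1]
    rfl
  have hsq : ∀ g ∈ G, g * g = 1 := fun g hg => LinearEquiv.ext (hinv g hg)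
  have hcomm : ∀ g ∈ G, ∀ h ∈ G, g * h = h * g := by
    intro g hg h hh
    have e1 := eq_inv_of_mul_eq_one_left (hsq g hg)
    have e2 := eq_inv_of_mul_eq_one_left (hsq h hh)
    have e3 := eq_inv_of_mul_eq_one_left (hsq _ (G.mul_mem hg hh))
    rw [e3, mul_inv_rev, ← e1, ← e2]
  refine ⟨hcomm, ?_⟩
  classical
  haveI := Fintype.ofFinite G
  let E : Finset G → Set V := fun S => {x | ∀ g ∈ S, g.1 x = x ∨ g.1 x = -x}
  have hspan : ∀ S : Finset G, Submodule.span K (E S) = ⊤ := by
    intro S
    induction S using Finset.induction with
    | empty => exact top_le_iff.mp fun x _ => Submodule.subset_span (by simp [E])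
    | insert g S _ ih =>
      rw [eq_top_iff, ← ih, Submodule.span_le]
      intro x hx
      have hp : ∀ s : K, (s = 1 ∨ s = -1) → x + s • g.1 x ∈ E (insert g S) := by
        intro s hs h hh
        rw [Finset.mem_insert] at hh
        rcases hh with rfl | hh
        · rw [map_add, map_smul, hinv h.1 h.2]
          rcases hs with rfl | rfl
          · left; simp [add_comm]
          · right; simp
        · have hc : h.1 (g.1 x) = g.1 (h.1 x) := LinearEquiv.congr_fun (hcomm h.1 h.2 g.1 g.2) x
          rw [map_add, map_smul, hc]
          rcases hx h hh with e | e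
          · left; rw [e]
          · right; rw [e, map_neg, smul_neg, neg_add]
      have hx2 : x = (2 : K)⁻¹ • ((x + (1 : K) • g.1 x) + (x + (-1 : K) • g.1 x)) := by
        rw [add_add_add_comm, ← add_smul, add_neg_cancel, zero_smul, add_zero, ← two_smul K x, smul_smul,
          inv_mul_cancel₀ h2, one_smul]
      rw [SetLike.mem_coe, hx2]
      exact Submodule.smul_mem _ _ (Submodule.add_mem _ (Submodule.subset_span (hp 1 (Or.inl rfl)))
        (Submodule.subset_span (hp (-1) (Or.inr rfl))))
  obtain ⟨b, hbE, hbspan, hbli⟩ := exists_linearIndependent K (E Finset.univ)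
  rw [hspan] at hbspan
  haveI : Fintype b := hbli.setFinite.fintype
  have hinj : Function.Injective (fun (g : G) (x : b) => decide (g.1 x.1 = x.1)) := by
    intro g h hgh
    apply Subtype.ext
    apply LinearEquiv.toLinearMap_injective
    refine LinearMap.ext_on hbspan fun x hx => ?_
    have h1 := congrFun hgh ⟨x, hx⟩
    simp only [decide_eq_decide] at h1
    show g.1 x = h.1 x
    rcases hbE hx g (Finset.mem_univ _) with e1 | e1 <;> rcases hbE hx h (Finset.mem_univ _) with e2 | e2
    · rw [e1, e2]
    · rw [e1, h1.mp e1]
    · rw [e2, h1.mpr e2]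
    · rw [e1, e2]
  refine (Nat.card_le_card_of_injective _ hinj).trans ?_
  rw [Nat.card_eq_fintype_card, Fintype.card_fun, Fintype.card_bool]
  exact Nat.pow_le_pow_right (by norm_num) hbli.fintype_card_le_finrank

end Groth.Agent.S15166
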