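import Groth.Statements.S15167
import Mathlib
import Groth.Agent.CSA.Basic
-- import your own Groth.Agent.* helpers here

set_option autoImplicit false
universe u v
open Polynomial
open BddFin

namespace Groth.Agent.S15167

open TensorProduct in
/-- The dimension of a module over `L ⊗ A`, `A` central simple of dimension `n ^ 2`, is divisible by `n`. -/
theorem dvd_finrank_of_action {K : Type*} [Field K] {A : Type*} [Ring A] [Algebra K A] [Algebra.IsCentral K A]
    [IsSimpleRing A] [FiniteDimensional K A] {n : ℕ} (hn : Module.finrank K A = n ^ 2)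
    {E : Type*} [Field E] [Algebra K E] (W : Type*) [AddCommGroup W] [Module E W] [Module K W]
    [IsScalarTower K E W] [Module.Finite E W] (ρ : A →ₐ[K] Module.End E W) :
    n ∣ Module.finrank E W := by
  classical
  let L := AlgebraicClosure E
  haveI : Algebra.IsCentral L (L ⊗[K] A) := CSA.isCentral_baseChange K L A
  haveI : IsSimpleRing (L ⊗[K] A) := CSA.isSimpleRing_tensor K L A
  obtain ⟨k, hk, ⟨e⟩⟩ := IsSimpleRing.exists_algEquiv_matrix_of_isAlgClosed L (L ⊗[K] A)
  have hkn : k = n := by
    have h := e.toLinearEquiv.finrank_eq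
    rw [Module.finrank_baseChange, hn, Module.finrank_matrix, Fintype.card_fin, Module.finrank_self, mul_one,
      ← pow_two] at h
    exact (Nat.pow_left_injective two_ne_zero h).symm
  subst hkn
  let σ : L ⊗[K] A →ₐ[L] Module.End L (L ⊗[E] W) :=
    AlgHom.liftEquiv K L A (Module.End L (L ⊗[E] W)) (((Module.End.baseChangeHom E L W).restrictScalars K).comp ρ)
  let τ : Matrix (Fin k) (Fin k) L →ₐ[L] Module.End L (L ⊗[E] W) := σ.comp e.symm.toAlgHom
  let U := L ⊗[E] W
  let i₀ : Fin k := ⟨0, Nat.pos_of_ne_zero hk.out⟩
  let u : Fin k → Fin k → Module.End L U := fun i j => τ (Matrix.single i j 1)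
  have hu : ∀ i j l m, u i j * u l m = if j = l then u i m else 0 := by
    intro i j l m
    rw [← map_mul]
    by_cases h : j = l
    · subst h; rw [if_pos rfl, Matrix.single_mul_single_same, mul_one]
    · rw [if_neg h, Matrix.single_mul_single_of_ne (h := h), map_zero]
  let U₀ := LinearMap.range (u i₀ i₀)
  let Ψ : U ≃ₗ[L] (Fin k → U₀) :=
    { toFun := fun v j => ⟨u i₀ j v, ⟨u i₀ j v, by rw [← Module.End.mul_apply, hu, if_pos rfl]⟩⟩
      map_add' := fun v w => funext fun j => Subtype.ext (map_add _ v w)
      map_smul' := fun c v => funext fun j => Subtype.ext (map_smul _ c v)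
      invFun := fun f => ∑ j, u j i₀ (f j : U)
      left_inv := fun v => by
        show ∑ j, u j i₀ (u i₀ j v) = v
        simp_rw [← Module.End.mul_apply, hu, if_true]
        rw [← LinearMap.sum_apply, ← map_sum, show (∑ j : Fin k, Matrix.single j j (1 : L)) = 1 from ?_, map_one]
        · rfl
        · ext a b
          rw [Matrix.sum_apply, Finset.sum_eq_single a]
          · simp [Matrix.single_apply, Matrix.one_apply]
          · intro c _ hca
            simp [Matrix.single_apply, hca]
          · simp
      right_inv := fun f => funext fun j => Subtype.ext <| by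
        show u i₀ j (∑ l, u l i₀ (f l : U)) = (f j : U)
        obtain ⟨w, hw⟩ := (f j).2
        rw [map_sum, Finset.sum_eq_single j]
        · rw [← Module.End.mul_apply, hu, if_pos rfl, ← hw, ← Module.End.mul_apply, hu, if_pos rfl]
        · intro l _ hl
          rw [← Module.End.mul_apply, hu, if_neg (Ne.symm hl)]
          rfl
        · simp }
  haveI : Module.Free L U₀ := Module.Free.of_divisionRing L U₀
  haveI : Module.Finite L U₀ := inferInstance
  have h := Ψ.finrank_eq
  rw [Module.finrank_pi_fintype, Finset.sum_const, Finset.card_univ, Fintype.card_fin, smul_eq_mul,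
    Module.finrank_baseChange] at h
  exact ⟨_, h⟩

open Polynomial in
theorem dvd_finrank_of_endo {K : Type*} [Field K] {A : Type*} [Ring A] [Algebra K A] [Algebra.IsCentral K A]
    [IsSimpleRing A] [FiniteDimensional K A] {n : ℕ} (hn : Module.finrank K A = n ^ 2)
    (F : K[X]) (r : ℕ) (hF : ∀ P : K[X], P.Monic → Irreducible P → P ∣ F → P.natDegree = r)
    (d : ℕ) (V : Type*) [AddCommGroup V] [Module K V] [FiniteDimensional K V] (hd : Module.finrank K V ≤ d)
    (ρ : A →ₐ[K] Module.End K V) (T : Module.End K V) (hT : ∀ a, Commute (ρ a) T) (hTF : aeval T F = 0) :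
    n * r ∣ Module.finrank K V := by
  induction d generalizing V with
  | zero => rw [Nat.le_zero.1 hd]; exact dvd_zero _
  | succ d ih =>
    rcases Nat.eq_zero_or_pos (Module.finrank K V) with h0 | h0
    · rw [h0]; exact dvd_zero _
    haveI : Nontrivial V := Module.nontrivial_of_finrank_pos h0
    have hTint : IsIntegral K T := Algebra.IsIntegral.isIntegral T
    obtain ⟨P, hPm, hPirr, hPdvd⟩ := exists_monic_irreducible_factor (minpoly K T) (minpoly.not_isUnit K T)
    haveI : Fact (Irreducible P) := ⟨hPirr⟩
    have hPr : P.natDegree = r := hF P hPm hPirr (hPdvd.trans (minpoly.dvd K T hTF))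
    let W := LinearMap.ker (aeval T P)
    have hW : W ≠ ⊥ := by
      intro hbot
      obtain ⟨Q, hQ⟩ := hPdvd
      have hQ0 : Q ≠ 0 := fun h => minpoly.ne_zero hTint (by rw [hQ, h, mul_zero])
      have hQT : aeval T Q = 0 := by
        refine LinearMap.ext fun v => LinearMap.ker_eq_bot'.1 hbot _ ?_
        rw [← Module.End.mul_apply, ← map_mul, ← hQ, minpoly.aeval]
        rfl
      have hdeg := natDegree_le_of_dvd (minpoly.dvd K T hQT) hQ0
      rw [hQ, natDegree_mul hPm.ne_zero hQ0] at hdeg
      have := hPirr.natDegree_pos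
      omega
    have hcomm : ∀ (Q : K[X]) a, Commute (ρ a) (aeval T Q) := fun Q a => by
      induction Q using Polynomial.induction_on' with
      | add p q hp hq => rw [map_add]; exact hp.add_right hq
      | monomial i c =>
        rw [aeval_monomial]
        exact (Algebra.commute_algebraMap_right c (ρ a)).mul_right ((hT a).pow_right i)
    have hWρ : ∀ a, ∀ v ∈ W, ρ a v ∈ W := fun a v hv => by
      rw [LinearMap.mem_ker] at hv ⊢
      rw [← Module.End.mul_apply, ← (hcomm P a).eq, Module.End.mul_apply, hv, map_zero]
    have hWT : ∀ v ∈ W, T v ∈ W := fun v hv => by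
      rw [LinearMap.mem_ker] at hv ⊢
      have hc : Commute (aeval T P) T := by simpa using (Commute.all P X).map (aeval T)
      rw [← Module.End.mul_apply, hc.eq, Module.End.mul_apply, hv, map_zero]
    let T₁ : Module.End K W := T.restrict hWT
    let ρ₁ : A →ₐ[K] Module.End K W := AlgHom.ofLinearMap
      { toFun := fun a => (ρ a).restrict (hWρ a)
        map_add' := fun a b => LinearMap.ext fun v => Subtype.ext (by simp)
        map_smul' := fun c a => LinearMap.ext fun v => Subtype.ext (by simp) }
      (LinearMap.ext fun v => Subtype.ext (by simp))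
      (fun a b => LinearMap.ext fun v => Subtype.ext (by simp))
    let T₂ : Module.End K (V ⧸ W) := W.mapQ W T hWT
    let ρ₂ : A →ₐ[K] Module.End K (V ⧸ W) := AlgHom.ofLinearMap
      { toFun := fun a => W.mapQ W (ρ a) (hWρ a)
        map_add' := fun a b => Submodule.linearMap_qext _ (LinearMap.ext fun v => by simp)
        map_smul' := fun c a => Submodule.linearMap_qext _ (LinearMap.ext fun v => by simp) }
      (Submodule.linearMap_qext _ (LinearMap.ext fun v => by simp))
      (fun a b => Submodule.linearMap_qext _ (LinearMap.ext fun v => by simp))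
    have hWpos : 0 < Module.finrank K W :=
      Nat.pos_of_ne_zero fun h => hW (Submodule.finrank_eq_zero.1 h)
    have hsum := W.finrank_quotient_add_finrank
    have h2 : n * r ∣ Module.finrank K (V ⧸ W) := by
      refine ih (V ⧸ W) (by omega) ρ₂ T₂ (fun a => Submodule.linearMap_qext _ (LinearMap.ext fun v => ?_)) ?_
      · show Submodule.Quotient.mk (ρ a (T v)) = Submodule.Quotient.mk (T (ρ a v))
        rw [← Module.End.mul_apply, (hT a).eq, Module.End.mul_apply]
      · refine Submodule.linearMap_qext _ (LinearMap.ext fun v => ?_)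
        have key : ∀ Q : K[X], aeval T₂ Q (Submodule.Quotient.mk v) = Submodule.Quotient.mk (aeval T Q v) := by
          intro Q
          induction Q using Polynomial.induction_on generalizing v with
          | C c => simp
          | add p q hp hq => simp [hp, hq]
          | monomial i c hi =>
            rw [pow_succ, ← mul_assoc, map_mul, map_mul (aeval T), Module.End.mul_apply, Module.End.mul_apply,
              aeval_X, aeval_X]
            exact hi (T v)
        simp [key F, hTF]
    have h1 : n * r ∣ Module.finrank K W := by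
      have hT₁ : aeval T₁ P = 0 := by
        have key : ∀ (Q : K[X]) (v : W), ((aeval T₁ Q v : W) : V) = aeval T Q (v : V) := by
          intro Q
          induction Q using Polynomial.induction_on with
          | C c => intro v; simp
          | add p q hp hq => intro v; simp [hp, hq]
          | monomial i c hi =>
            intro v
            rw [pow_succ, ← mul_assoc, map_mul, map_mul (aeval T), Module.End.mul_apply, Module.End.mul_apply,
              aeval_X, aeval_X]
            exact hi (T₁ v)
        exact LinearMap.ext fun v => Subtype.ext ((key P v).trans v.2)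
      let E := AdjoinRoot P
      let φ : E →ₐ[K] Module.End K W := Ideal.Quotient.liftₐ _ (aeval T₁) fun z hz => by
        obtain ⟨w, rfl⟩ := Ideal.mem_span_singleton.1 hz
        rw [map_mul, hT₁, zero_mul]
      letI : Module E W := Module.compHom W φ.toRingHom
      haveI : IsScalarTower K E W := ⟨fun c z v => by
        show φ (c • z) v = c • φ z v
        rw [map_smul]; rfl⟩
      haveI : Module.Finite E W := Module.Finite.of_restrictScalars_finite K E W
      have hlin : ∀ (a : A) (z : E) (v : W), ρ₁ a (z • v) = z • ρ₁ a v := by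
        intro a z v
        obtain ⟨Q, rfl⟩ := AdjoinRoot.mk_surjective z
        show ρ₁ a (aeval T₁ Q v) = aeval T₁ Q (ρ₁ a v)
        have hc : Commute (ρ₁ a) (aeval T₁ Q) := by
          have h : Commute (ρ₁ a) T₁ := LinearMap.ext fun v => Subtype.ext (by
            show ρ a (T v) = T (ρ a v)
            rw [← Module.End.mul_apply, (hT a).eq, Module.End.mul_apply])
          induction Q using Polynomial.induction_on' with
          | add p q hp hq => rw [map_add]; exact hp.add_right hq
          | monomial i c =>
            rw [aeval_monomial]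
            exact (Algebra.commute_algebraMap_right c (ρ₁ a)).mul_right (h.pow_right i)
        exact LinearMap.congr_fun hc.eq v
      let ρE : A →ₐ[K] Module.End E W := AlgHom.ofLinearMap
        { toFun := fun a => { toFun := ρ₁ a, map_add' := map_add _, map_smul' := hlin a }
          map_add' := fun a b => LinearMap.ext fun v => LinearMap.congr_fun (map_add ρ₁ a b) v
          map_smul' := fun c a => LinearMap.ext fun v => LinearMap.congr_fun (map_smul ρ₁ c a) v }
        (LinearMap.ext fun v => LinearMap.congr_fun (map_one ρ₁) v)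
        (fun a b => LinearMap.ext fun v => LinearMap.congr_fun (map_mul ρ₁ a b) v)
      obtain ⟨j, hj⟩ := dvd_finrank_of_action hn W ρE
      refine ⟨j, ?_⟩
      rw [← Module.finrank_mul_finrank K E W, hj, (AdjoinRoot.powerBasis hPm.ne_zero).finrank,
        AdjoinRoot.powerBasis_dim, hPr]
      ring
    rw [← hsum]
    exact dvd_add h2 h1

open Polynomial in
/-- Over a field with all roots of unity the irreducible factors of `X ^ m - c` are binomials of one degree. -/
theorem exists_degree {K : Type*} [Field K] (hK : ∀ n : ℕ, 0 < n → (X ^ n - 1 : K[X]).Splits) (m : ℕ) (hm : 0 < m)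
    (c : K) (hc : c ≠ 0) : ∃ r : ℕ, 0 < r ∧
      ∀ P : K[X], P.Monic → Irreducible P → P ∣ X ^ m - C c → ∃ a : K, P = X ^ r - C a := by
  classical
  let L := AlgebraicClosure K
  have hne0 : ∀ y : L, y ^ m = algebraMap K L c → y ≠ 0 := by
    rintro y hy rfl
    rw [zero_pow hm.ne'] at hy
    exact hc ((map_eq_zero _).1 hy.symm)
  have hroot : ∀ y z : L, y ^ m = algebraMap K L c → z ^ m = algebraMap K L c →
      ∃ u : K, u ≠ 0 ∧ z = algebraMap K L u * y := by
    intro y z hy hz
    have h1 : (z / y) ^ m = 1 := by rw [div_pow, hy, hz, div_self ((_root_.map_ne_zero _).2 hc)]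
    have hne : (X ^ m - 1 : K[X]) ≠ 0 := by
      rw [← C_1]; exact X_pow_sub_C_ne_zero hm 1
    have h2 : z / y ∈ ((X ^ m - 1 : K[X]).map (algebraMap K L)).roots := by
      rw [mem_roots (map_ne_zero hne)]
      simp [h1]
    rw [(hK m hm).roots_map, Multiset.mem_map] at h2
    obtain ⟨u, -, hu⟩ := h2
    refine ⟨u, ?_, by rw [hu, div_mul_cancel₀ _ (hne0 y hy)]⟩
    rintro rfl
    rw [map_zero] at hu
    rw [← hu, zero_pow hm.ne'] at h1
    exact zero_ne_one h1
  have hmain : ∀ y : L, y ^ m = algebraMap K L c →
      ∃ a : K, y ^ (minpoly K y).natDegree = algebraMap K L a := by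
    intro y hy
    have hyint : IsIntegral K y := Algebra.IsIntegral.isIntegral y
    have hs : ((minpoly K y).map (algebraMap K L)).Splits := IsAlgClosed.splits _
    have hroots : ∀ z ∈ ((minpoly K y).map (algebraMap K L)).roots, ∃ u : K, u ≠ 0 ∧ z = algebraMap K L u * y := by
      intro z hz
      refine hroot y z hy ?_
      rw [mem_roots (map_ne_zero (minpoly.ne_zero hyint)), IsRoot.def, eval_map] at hz
      obtain ⟨Q, hQ⟩ := minpoly.dvd K y (p := X ^ m - C c) (by simp [hy])
      have : aeval z (X ^ m - C c) = 0 := by rw [hQ, map_mul, aeval_def, hz, zero_mul]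
      simpa [sub_eq_zero] using this
    have key : ∀ s : Multiset L, (∀ z ∈ s, ∃ u : K, u ≠ 0 ∧ z = algebraMap K L u * y) →
        ∃ u : K, u ≠ 0 ∧ s.prod = algebraMap K L u * y ^ Multiset.card s := by
      intro s
      induction s using Multiset.induction with
      | empty => exact fun _ => ⟨1, one_ne_zero, by simp⟩
      | cons z s ih =>
        intro h
        obtain ⟨u, hu, hu'⟩ := h z (Multiset.mem_cons_self z s)
        obtain ⟨w, hw, hw'⟩ := ih fun a ha => h a (Multiset.mem_cons_of_mem ha)
        refine ⟨u * w, mul_ne_zero hu hw, ?_⟩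
        rw [Multiset.prod_cons, Multiset.card_cons, hu', hw', map_mul, pow_succ]
        ring
    obtain ⟨u, hu, hprod⟩ := key _ hroots
    have hcard := hs.natDegree_eq_card_roots
    rw [natDegree_map] at hcard
    rw [← hcard] at hprod
    have h0 := hs.coeff_zero_eq_prod_roots_of_monic ((minpoly.monic hyint).map _)
    rw [coeff_map, natDegree_map, hprod] at h0
    refine ⟨(-1) ^ (minpoly K y).natDegree * (minpoly K y).coeff 0 / u, ?_⟩
    rw [map_div₀, map_mul, map_pow, map_neg, map_one, h0, eq_div_iff ((_root_.map_ne_zero _).2 hu), ← mul_assoc,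
      ← pow_add, ← two_mul, pow_mul, neg_one_sq, one_pow, one_mul, mul_comm]
  obtain ⟨y₀, hy₀⟩ := IsAlgClosed.exists_pow_nat_eq (algebraMap K L c) hm
  have hle : ∀ y z : L, y ^ m = algebraMap K L c → z ^ m = algebraMap K L c →
      (minpoly K z).natDegree ≤ (minpoly K y).natDegree := by
    intro y z hy hz
    obtain ⟨a, ha⟩ := hmain y hy
    obtain ⟨u, -, hu⟩ := hroot y z hy hz
    have hpos := minpoly.natDegree_pos (Algebra.IsIntegral.isIntegral (R := K) y)
    refine (natDegree_le_of_dvd (minpoly.dvd K z (p := X ^ (minpoly K y).natDegree -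
      C (u ^ (minpoly K y).natDegree * a)) ?_) (X_pow_sub_C_ne_zero hpos _)).trans natDegree_X_pow_sub_C.le
    rw [map_sub, aeval_X_pow, aeval_C, hu, mul_pow, ha, map_mul, map_pow, sub_self]
  refine ⟨(minpoly K y₀).natDegree, minpoly.natDegree_pos (Algebra.IsIntegral.isIntegral y₀),
    fun P hPm hPirr hPdvd => ?_⟩
  obtain ⟨y, hy⟩ := IsAlgClosed.exists_aeval_eq_zero L P (degree_pos_of_irreducible hPirr).ne'
  have hym : y ^ m = algebraMap K L c := by
    obtain ⟨Q, hQ⟩ := hPdvd
    have : aeval y (X ^ m - C c) = 0 := by rw [hQ, map_mul, hy, zero_mul]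
    simpa [sub_eq_zero] using this
  have hP : P = minpoly K y := minpoly.eq_of_irreducible_of_monic hPirr hy hPm
  obtain ⟨a, ha⟩ := hmain y hym
  have hdeg : (minpoly K y).natDegree = (minpoly K y₀).natDegree :=
    le_antisymm (hle y₀ y hy₀ hym) (hle y y₀ hym hy₀)
  refine ⟨a, ?_⟩
  rw [hP, ← hdeg]
  refine eq_of_monic_of_dvd_of_natDegree_le (minpoly.monic (Algebra.IsIntegral.isIntegral y))
    (monic_X_pow_sub_C a (minpoly.natDegree_pos (Algebra.IsIntegral.isIntegral y)).ne') (minpoly.dvd K y ?_) ?_ |>.symm
  · rw [map_sub, aeval_X_pow, aeval_C, ha, sub_self]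
  · rw [natDegree_X_pow_sub_C]

/-- Let K be a field such that K contains all roots of unity (for every n ≥ 1 the polynomial X^n − 1
splits into linear factors over K), A a central simple K-algebra of dimension n ^ 2, and x an
invertible element of A some power x ^ m (m ≥ 1) of which lies in K. Then there are a positive
integer r dividing n and elements a_i of K such that the minimal polynomial of x over K is the
product of the polynomials X ^ r − a_i. -/
theorem result
    (K : Type u) [Field K] (hK : ∀ n : ℕ, 0 < n → (X ^ n - 1 : K[X]).Splits)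
    (A : Type v) [Ring A] [Algebra K A] [Algebra.IsCentral K A] [IsSimpleRing A] [FiniteDimensional K A]
    (n : ℕ) (hn : Module.finrank K A = n ^ 2)
    (x : A) (hx : IsUnit x) (hxm : ∃ m : ℕ, 0 < m ∧ x ^ m ∈ (algebraMap K A).range) :
    ∃ r : ℕ, 0 < r ∧ r ∣ n ∧ ∃ s : Multiset K, minpoly K x = (s.map fun a : K => X ^ r - C a).prod := by
  classical
  obtain ⟨m, hm, c, hc⟩ := hxm
  have hc0 : c ≠ 0 := by
    rintro rfl
    rw [map_zero] at hc
    exact (hx.pow m).ne_zero hc.symm
  obtain ⟨r, hr, hfac⟩ := exists_degree hK m hm c hc0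
  have hxF : aeval x (X ^ m - C c) = 0 := by rw [map_sub, aeval_X_pow, aeval_C, hc, sub_self]
  have hxint : IsIntegral K x := Algebra.IsIntegral.isIntegral x
  refine ⟨r, hr, ?_, (UniqueFactorizationMonoid.normalizedFactors (minpoly K x)).map fun P => -P.coeff 0, ?_⟩
  · have hF : ∀ P : K[X], P.Monic → Irreducible P → P ∣ X ^ m - C c → P.natDegree = r := by
      intro P h1 h2 h3
      obtain ⟨a, rfl⟩ := hfac P h1 h2 h3
      exact natDegree_X_pow_sub_C
    have hT : ∀ a, Commute (Algebra.lmul K A a) (LinearMap.mulRight K x) := fun a =>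
      LinearMap.ext fun b => (mul_assoc a b x).symm
    have hTF : aeval (LinearMap.mulRight K x) (X ^ m - C c) = 0 := by
      rw [map_sub, aeval_X_pow, aeval_C, LinearMap.pow_mulRight]
      ext b
      simp [← hc, Algebra.commutes, Algebra.smul_def]
    have h := dvd_finrank_of_endo hn (X ^ m - C c) r hF _ A le_rfl (Algebra.lmul K A) _ hT hTF
    rw [hn, pow_two] at h
    rcases Nat.eq_zero_or_pos n with rfl | hn0
    · exact dvd_zero r
    · exact Nat.dvd_of_mul_dvd_mul_left hn0 h
  · rw [Multiset.map_map]
    have hfac' : ∀ P ∈ UniqueFactorizationMonoid.normalizedFactors (minpoly K x),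
        P.Monic ∧ ((fun a : K => X ^ r - C a) ∘ fun P => -P.coeff 0) P = P := by
      intro P hP
      have h1 := UniqueFactorizationMonoid.irreducible_of_normalized_factor P hP
      have h2 : P.Monic := by
        have h := UniqueFactorizationMonoid.normalize_normalized_factor P hP
        rw [← h]
        exact monic_normalize h1.ne_zero
      obtain ⟨a, rfl⟩ := hfac P h2 h1
        ((UniqueFactorizationMonoid.dvd_of_mem_normalizedFactors hP).trans (minpoly.dvd K x hxF))
      refine ⟨h2, ?_⟩
      simp [hr.ne]
    rw [Multiset.map_congr rfl fun P hP => (hfac' P hP).2, Multiset.map_id']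
    exact (eq_of_monic_of_associated (monic_multiset_prod_of_monic _ _ fun P hP => (hfac' P hP).1 : Monic (Multiset.map id _).prod)
      (minpoly.monic hxint) (by simpa using UniqueFactorizationMonoid.prod_normalizedFactors (minpoly.ne_zero hxint))).symm.trans (by simp)

end Groth.Agent.S15167
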