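import Groth.Statements.S15168
import Groth.Agent.CSA.Split
-- import your own Groth.Agent.* helpers here

set_option autoImplicit false
universe u v
open Polynomial
open BddFin

namespace Groth.Agent.S15168

theorem pow_natDegree_mem (K : Type*) [Field K]
    (hK : ∀ n : ℕ, 0 < n → (X ^ n - 1 : K[X]).Splits) {L : Type*} [Field L] [Algebra K L]
    [Algebra.IsIntegral K L] (ξ : L) (m : ℕ) (hm : 0 < m) (c : K)
    (hc : ξ ^ m = algebraMap K L c) :
    ξ ^ (minpoly K ξ).natDegree ∈ (algebraMap K L).range := by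
  classical
  by_cases h0 : ξ = 0
  · subst h0
    exact ⟨0, by simp [minpoly.zero]⟩
  have hint : IsIntegral K ξ := Algebra.IsIntegral.isIntegral ξ
  let Ω := AlgebraicClosure L
  let ι := algebraMap K Ω
  let η : Ω := algebraMap L Ω ξ
  have hη : η ≠ 0 := (_root_.map_ne_zero _).2 h0
  set Q := (minpoly K ξ).map ι with hQ
  have hQm : Q.Monic := (minpoly.monic hint).map _
  have hQs : Q.Splits := IsAlgClosed.splits _
  have hroot : ∀ r ∈ Q.roots, r / η ∈ ι.fieldRange := by
    intro r hr
    have h1 : (minpoly K ξ) ∣ X ^ m - C c := minpoly.dvd K ξ (by simp [hc])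
    have h2 : (X ^ m - C c).map ι |>.IsRoot r :=
      (Polynomial.isRoot_of_mem_roots hr).dvd (Polynomial.map_dvd ι h1)
    have h3 : r ^ m = ι c := by simpa [sub_eq_zero] using h2
    have h4 : η ^ m = ι c := by
      simp only [η, ι, ← map_pow, hc]
      exact (IsScalarTower.algebraMap_apply K L Ω c).symm
    have h5 : (r / η) ^ m = 1 := by
      rw [div_pow, h3, ← h4, div_self (pow_ne_zero _ hη)]
    have h6 : r / η ∈ ((X ^ m - 1 : K[X]).map ι).roots := by
      rw [Polynomial.mem_roots ((Polynomial.map_ne_zero (by simpa using X_pow_sub_C_ne_zero hm (1 : K))))]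
      simp [h5]
    rw [(hK m hm).roots_map ι, Multiset.mem_map] at h6
    obtain ⟨z, -, hz⟩ := h6
    exact ⟨z, hz⟩
  have hmem : (Q.roots.map fun r => r / η).prod ∈ ι.fieldRange :=
    multiset_prod_mem _ fun y hy => by
      obtain ⟨r, hr, rfl⟩ := Multiset.mem_map.1 hy
      exact hroot r hr
  obtain ⟨z, hz⟩ := hmem
  rw [Multiset.prod_map_div, Multiset.map_id', Multiset.map_const', Multiset.prod_replicate,
    ← hQs.natDegree_eq_card_roots, hQ, Polynomial.natDegree_map] at hz
  have hc0 := hQs.coeff_zero_eq_prod_roots_of_monic hQm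
  rw [hQ, Polynomial.coeff_map, Polynomial.natDegree_map] at hc0
  set d := (minpoly K ξ).natDegree with hd
  set a := (minpoly K ξ).coeff 0 with ha
  have ha0 : a ≠ 0 := minpoly.coeff_zero_ne_zero hint h0
  have hp : (Q.roots.prod : Ω) = ι ((-1) ^ d * a) := by
    rw [map_mul, map_pow, map_neg, map_one, hc0, ← mul_assoc, ← pow_add, Even.neg_one_pow ⟨d, rfl⟩,
      one_mul]
  rw [← hQ, hp] at hz
  have hz0 : z ≠ 0 := by
    rintro rfl
    rw [map_zero, eq_comm, div_eq_zero_iff] at hz
    simp [ha0, hη] at hz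
  refine ⟨(-1) ^ d * a / z, (algebraMap L Ω).injective ?_⟩
  rw [← IsScalarTower.algebraMap_apply, map_pow, map_div₀]
  rw [eq_div_iff (pow_ne_zero _ hη)] at hz
  rw [div_eq_iff ((_root_.map_ne_zero _).2 hz0), ← hz]
  exact mul_comm _ _


/-- Let K be a field such that K contains all roots of unity (for every n ≥ 1 the polynomial X^n − 1
splits into linear factors over K), A a central division algebra of dimension n ^ 2 over K, and x an
element of A some power x ^ m (m ≥ 1) of which lies in K. Then x ^ n lies in K; that is, the order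
of the class of x in the quotient of the unit group of A by that of K divides n. -/
theorem result
    (K : Type u) [Field K] (hK : ∀ n : ℕ, 0 < n → (X ^ n - 1 : K[X]).Splits)
    (A : Type v) [DivisionRing A] [Algebra K A] [Algebra.IsCentral K A] [FiniteDimensional K A]
    (n : ℕ) (hn : Module.finrank K A = n ^ 2)
    (x : A) (hxm : ∃ m : ℕ, 0 < m ∧ x ^ m ∈ (algebraMap K A).range) :
    x ^ n ∈ (algebraMap K A).range := by
  classical
  obtain ⟨m, hm, c, hc⟩ := hxm
  -- a maximal commutative subalgebra containing `x`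
  let P : ℕ → Prop := fun r => ∃ L : Subalgebra K A,
    x ∈ L ∧ (∀ a ∈ L, ∀ b ∈ L, a * b = b * a) ∧ Module.finrank K L = r
  have h0 : P (Module.finrank K (Algebra.adjoin K ({x} : Set A))) := by
    refine ⟨Algebra.adjoin K ({x} : Set A), Algebra.subset_adjoin (Set.mem_singleton x), CSA.adjoin_commute K (s := ({x} : Set A)) ?_, rfl⟩
    rintro a rfl b rfl
    rfl
  obtain ⟨L, hxL, hcomm, hLr⟩ := Nat.findGreatest_spec (P := P) (n := Module.finrank K A)
    (Submodule.finrank_le (Algebra.adjoin K ({x} : Set A)).toSubmodule) h0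
  have hmax : ∀ L' : Subalgebra K A, (∀ a ∈ L', ∀ b ∈ L', a * b = b * a) → L ≤ L' → L' = L := by
    intro L' hL' hle
    have h1 : P (Module.finrank K L') := ⟨L', hle hxL, hL', rfl⟩
    have h2 := Nat.le_findGreatest (P := P) (Submodule.finrank_le L'.toSubmodule) h1
    rw [← hLr] at h2
    exact (Subalgebra.toSubmodule_injective
      (Submodule.eq_of_le_of_finrank_le (S₁ := L.toSubmodule) (S₂ := L'.toSubmodule) hle h2)).symm
  have hsq := CSA.finrank_eq_sq_of_maximal K A L hcomm hmax
  have hLn : Module.finrank K L = n := by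
    rw [hn] at hsq
    nlinarith [hsq]
  let : CommRing L :=
    { (inferInstance : Ring L) with mul_comm := fun a b => Subtype.ext (hcomm a a.2 b b.2) }
  let : Field L := fieldOfFiniteDimensional K L
  let ξ : L := ⟨x, hxL⟩
  have hξm : ξ ^ m = algebraMap K L c := Subtype.ext (by simpa [ξ] using hc.symm)
  obtain ⟨q, hq⟩ := pow_natDegree_mem K hK ξ m hm c hξm
  have hint : IsIntegral K ξ := Algebra.IsIntegral.isIntegral ξ
  obtain ⟨e, he⟩ : (minpoly K ξ).natDegree ∣ n := hLn ▸ minpoly.degree_dvd hint
  refine ⟨q ^ e, ?_⟩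
  have h := congrArg (fun z : L => ((z ^ e : L) : A)) hq
  rw [he, pow_mul, map_pow]
  simpa [ξ] using h

end Groth.Agent.S15168
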