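import Groth.Statements.S15169
import Groth.Agent.CSAp.Basic

set_option autoImplicit false
universe u v
open BddFin

namespace Groth.Agent.S15169

/-- (1) ⇒ (2): let K be a field with char K = p > 0 and A a central division K-algebra with dim_K A = p
^ 2. If some element of A is not separable over K, then there are v, u in A with v ^ p and u ^ p in
K and v * u - u * v = 1 which generate A as a K-algebra. -/
theorem result
    (K : Type u) [Field K] (p : ℕ) [Fact p.Prime] [CharP K p]
    (A : Type v) [DivisionRing A] [Algebra K A] [Algebra.IsCentral K A] [FiniteDimensional K A]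
    (hA : Module.finrank K A = p ^ 2) (h : ∃ v : A, ¬ IsSeparable K v) :
    ∃ v u : A, v ^ p ∈ (algebraMap K A).range ∧ u ^ p ∈ (algebraMap K A).range ∧ v * u - u * v = 1 ∧
      Algebra.adjoin K {v, u} = ⊤ := by
  classical
  have hp : p.Prime := Fact.out
  obtain ⟨v, hv⟩ := h
  have hvK : v ∉ (algebraMap K A).range := by
    rintro ⟨k, rfl⟩
    refine hv ?_
    show (minpoly K (algebraMap K A k)).Separable
    rw [minpoly.eq_X_sub_C]
    exact Polynomial.separable_X_sub_C
  have hint : IsIntegral K v := IsIntegral.of_finite K v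
  have hdeg := CSAp.natDegree_minpoly hA hvK
  have hvp : v ^ p ∈ (algebraMap K A).range := by
    rcases Polynomial.separable_or p (minpoly.irreducible hint) with hs | ⟨_, g, -, hg⟩
    · exact absurd hs hv
    have hgd : g.natDegree = 1 := by
      have := congrArg Polynomial.natDegree hg
      rw [Polynomial.natDegree_expand, hdeg] at this
      exact Nat.eq_of_mul_eq_mul_right hp.pos (by rw [this, one_mul])
    have hgm : g.Monic := by
      have h' := minpoly.monic hint
      rw [← hg, Polynomial.monic_expand_iff hp.pos] at h'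
      exact h'
    have h0 := minpoly.aeval K v
    rw [← hg, Polynomial.expand_aeval, hgm.eq_X_add_C hgd] at h0
    simp only [map_add, Polynomial.aeval_X, Polynomial.aeval_C] at h0
    exact ⟨-g.coeff 0, by rw [map_neg]; exact (eq_neg_of_add_eq_zero_left h0).symm⟩
  obtain ⟨a, ha⟩ := hvp
  have hD : ∀ z, ((CSAp.ad (K := K) v) ^ p) z = 0 := fun z => by
    rw [CSAp.ad_pow, ← ha, Algebra.commutes, sub_self]
  obtain ⟨y, hy⟩ : ∃ y, CSAp.ad (K := K) v y ≠ 0 := by
    by_contra! hh
    have hc : v ∈ Subalgebra.center K A :=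
      Subalgebra.mem_center_iff.2 fun b => (sub_eq_zero.1 ((CSAp.ad_apply v b).symm.trans (hh b))).symm
    rw [Algebra.IsCentral.center_eq_bot, Algebra.mem_bot] at hc
    exact hvK hc
  have hex : ∃ m, ((CSAp.ad (K := K) v) ^ (m + 1)) y = 0 :=
    ⟨p, by rw [pow_succ', Module.End.mul_apply, hD, map_zero]⟩
  set m := Nat.find hex with hm
  have hspec : ((CSAp.ad (K := K) v) ^ (m + 1)) y = 0 := Nat.find_spec hex
  obtain ⟨j, hj⟩ : ∃ j, m = j + 1 := by
    rcases hm' : m with _ | j
    · rw [hm', zero_add, pow_one] at hspec; exact absurd hspec hy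
    · exact ⟨j, rfl⟩
  have hmin : ((CSAp.ad (K := K) v) ^ (j + 1)) y ≠ 0 := Nat.find_min hex (by omega)
  set x := ((CSAp.ad (K := K) v) ^ j) y
  set w := CSAp.ad (K := K) v x with hw
  have hwe : w = ((CSAp.ad (K := K) v) ^ (j + 1)) y := by rw [pow_succ', Module.End.mul_apply]
  have hw0 : w ≠ 0 := by rw [hwe]; exact hmin
  have hwv : v * w = w * v := by
    rw [← sub_eq_zero, ← CSAp.ad_apply (K := K), hwe, ← Module.End.mul_apply, ← pow_succ', ← hj]
    exact hspec
  have hvu : v * (x * w⁻¹) - x * w⁻¹ * v = 1 := by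
    have : w⁻¹ * v = v * w⁻¹ := (Commute.inv_right₀ hwv).eq.symm
    rw [mul_assoc x, this, ← mul_assoc, ← mul_assoc, ← sub_mul, ← CSAp.ad_apply (K := K), ← hw]
    exact mul_inv_cancel₀ hw0
  have hne : v * (x * w⁻¹) ≠ x * w⁻¹ * v := fun h => one_ne_zero (hvu ▸ sub_eq_zero.2 h : (1 : A) = 0)
  exact ⟨v, x * w⁻¹, ⟨a, ha⟩, CSAp.pow_mem_range hA hvu, hvu, CSAp.adjoin_pair_eq_top hA hne⟩

end Groth.Agent.S15169
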