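import Mathlib
import Groth.Statements.S1517
-- import your own Groth.Agent.* helpers here

set_option autoImplicit false
universe u
open Brauer

namespace Groth.Agent.S1517

/-- Let A be a ring with no nontrivial two-sided ideals and M a nonzero right ideal, viewed as a right
A-module with endomorphism ring A'. Then every A'-linear endomorphism of M is right multiplication
by exactly one element of A; that is, the natural map from A to the bicommutant of M is a bijection. -/
theorem result (A : Type u) [Ring A] [IsSimpleRing A]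
    (M : Submodule Aᵐᵒᵖ A) (hM : M ≠ ⊥)
    (g : Module.End (Module.End Aᵐᵒᵖ M) M) :
    ∃! a : A, ∀ m : M, (g m : A) = (m : A) * a := by
  have hmem : ∀ (m : M) (a : A), (m : A) * a ∈ M := fun m a => by
    simpa using M.smul_mem (MulOpposite.op a) m.2
  let L : M → Module.End Aᵐᵒᵖ M := fun t =>
    { toFun := fun m => ⟨(t : A) * (m : A), hmem t m⟩
      map_add' := fun _ _ => Subtype.ext (mul_add _ _ _)
      map_smul' := fun r m => Subtype.ext (by simp [mul_assoc, MulOpposite.smul_eq_mul_unop]) }
  have hg : ∀ t m : M, (g ⟨(t : A) * (m : A), hmem t m⟩ : A) = (t : A) * (g m : A) := fun t m => by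
    have := congrArg Subtype.val (map_smul g (L t) m)
    exact this
  let S : Set A := {z | ∃ (a : A) (m : M), a * (m : A) = z}
  let J : TwoSidedIdeal A := TwoSidedIdeal.mk' (AddSubgroup.closure S : Set A) (zero_mem _)
    (fun h1 h2 => add_mem h1 h2) (fun h => neg_mem h)
    (fun {r e} he => by
      induction he using AddSubgroup.closure_induction with
      | mem z hz => obtain ⟨a, m, rfl⟩ := hz; exact AddSubgroup.subset_closure ⟨r * a, m, mul_assoc _ _ _⟩
      | zero => simp
      | add x y _ _ hx hy => simpa [mul_add] using add_mem hx hy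
      | neg x _ hx => simpa using neg_mem hx)
    (fun {e r} he => by
      induction he using AddSubgroup.closure_induction with
      | mem z hz => obtain ⟨a, m, rfl⟩ := hz
                    exact AddSubgroup.subset_closure ⟨a, ⟨_, hmem m r⟩, (mul_assoc _ _ _).symm⟩
      | zero => simp
      | add x y _ _ hx hy => simpa [add_mul] using add_mem hx hy
      | neg x _ hx => simpa using neg_mem hx)
  have h1 : (1 : A) ∈ AddSubgroup.closure S := by
    have hJ : J = ⊤ := by
      refine (eq_bot_or_eq_top J).resolve_left fun h => hM ?_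
      rw [Submodule.eq_bot_iff]
      intro m hm
      have : m ∈ J := by
        rw [TwoSidedIdeal.mem_mk']; exact AddSubgroup.subset_closure ⟨1, ⟨m, hm⟩, one_mul m⟩
      rw [h] at this
      simpa using this
    have : (1 : A) ∈ J := by rw [hJ]; exact trivial
    rw [TwoSidedIdeal.mem_mk'] at this
    exact this
  have hex : ∀ e ∈ AddSubgroup.closure S, ∃ a : A, ∀ x : M, (g ⟨(x : A) * e, hmem x e⟩ : A) = (x : A) * a := by
    intro e he
    induction he using AddSubgroup.closure_induction with
    | mem z hz =>
      obtain ⟨a, m, rfl⟩ := hz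
      refine ⟨a * (g m : A), fun x => ?_⟩
      have := hg ⟨(x : A) * a, hmem x a⟩ m
      simp only [← mul_assoc]
      convert this using 3
    | zero => exact ⟨0, fun x => by
        rw [show (⟨(x : A) * 0, hmem x 0⟩ : M) = 0 from Subtype.ext (by simp), map_zero, ZeroMemClass.coe_zero, mul_zero]⟩
    | add e1 e2 _ _ h h' =>
      obtain ⟨a, ha⟩ := h; obtain ⟨b, hb⟩ := h'
      refine ⟨a + b, fun x => ?_⟩
      rw [show (⟨(x : A) * (e1 + e2), hmem x _⟩ : M) = ⟨_, hmem x e1⟩ + ⟨_, hmem x e2⟩ from Subtype.ext (mul_add _ _ _),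
        map_add, Submodule.coe_add, ha, hb, mul_add]
    | neg e _ h =>
      obtain ⟨a, ha⟩ := h
      refine ⟨-a, fun x => ?_⟩
      rw [show (⟨(x : A) * -e, hmem x _⟩ : M) = -⟨_, hmem x e⟩ from Subtype.ext (mul_neg _ _),
        map_neg, Submodule.coe_neg, ha, mul_neg]
  obtain ⟨a, ha⟩ := hex 1 h1
  have ha' : ∀ x : M, (g x : A) = (x : A) * a := fun x => by
    rw [← ha x]; congr 2; exact Subtype.ext (mul_one _).symm
  refine ⟨a, ha', fun b hb => ?_⟩
  have hz : ∀ e ∈ AddSubgroup.closure S, e * (b - a) = 0 := by
    intro e he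
    induction he using AddSubgroup.closure_induction with
    | mem z hz => obtain ⟨r, m, rfl⟩ := hz; rw [mul_assoc, mul_sub, ← hb m, ← ha' m, sub_self, mul_zero]
    | zero => simp
    | add _ _ _ _ h h' => rw [add_mul, h, h', add_zero]
    | neg _ _ h => rw [neg_mul, h, neg_zero]
  exact sub_eq_zero.1 (by simpa using hz 1 h1)

end Groth.Agent.S1517
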