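import Groth.Statements.S15170
import Groth.Agent.CSAp.Basic

set_option autoImplicit false
universe u v
open BddFin

namespace Groth.Agent.S15170

/-- Artin–Schreier extensions are Galois -/
lemma isGalois_artinSchreier {K : Type u} [Field K] {L : Type v} [Field L] [Algebra K L] {p : ℕ}
    [Fact p.Prime] [CharP K p] (a : K) (t : L) (ht : t ^ p - t = algebraMap K L a)
    (hgen : Algebra.adjoin K {t} = ⊤) : IsGalois K L := by
  have hp : p.Prime := Fact.out
  classical
  haveI : CharP L p := charP_of_injective_algebraMap (algebraMap K L).injective p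
  let f : Polynomial K := Polynomial.X ^ p - Polynomial.X - Polynomial.C a
  have hnd : f.natDegree = p := by
    rw [show f = Polynomial.X ^ p - (Polynomial.X + Polynomial.C a) by simp only [f]; abel,
      Polynomial.natDegree_sub_eq_left_of_natDegree_lt] <;> simp [hp.one_lt]
  have hf0 : f ≠ 0 := fun h => by rw [h] at hnd; simp at hnd; exact hp.ne_zero hnd.symm
  have hroot : ∀ i : ZMod p, Polynomial.aeval (t + (ZMod.castHom (dvd_refl p) L i)) f = 0 := by
    intro i
    have hi : (ZMod.castHom (dvd_refl p) L i) ^ p = ZMod.castHom (dvd_refl p) L i := by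
      rw [← map_pow, ZMod.pow_card]
    simp only [f, map_sub, map_pow, Polynomial.aeval_X, Polynomial.aeval_C, add_pow_char, hi, ← ht]
    abel
  let S : Finset L := Finset.univ.image fun i : ZMod p => t + ZMod.castHom (dvd_refl p) L i
  have hSc : S.card = p := by
    rw [Finset.card_image_of_injective _ fun i j hij =>
      (ZMod.castHom (dvd_refl p) L).injective (add_left_cancel hij)]
    simp
  have hm0 : f.map (algebraMap K L) ≠ 0 := Polynomial.map_ne_zero hf0
  have hsub : S.val ≤ (f.map (algebraMap K L)).roots :=
    Multiset.le_iff_subset S.nodup |>.2 fun x hx => by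
      obtain ⟨i, -, rfl⟩ := Finset.mem_image.1 hx
      rw [Polynomial.mem_roots hm0, Polynomial.IsRoot, Polynomial.eval_map_algebraMap]
      exact hroot i
  have hcard : (f.map (algebraMap K L)).roots.card = (f.map (algebraMap K L)).natDegree := by
    refine le_antisymm (Polynomial.card_roots' _) ?_
    rw [Polynomial.natDegree_map, hnd, ← hSc]
    exact Multiset.card_le_card hsub
  haveI : Polynomial.IsSplittingField K L f := by
    refine ⟨Polynomial.splits_iff_card_roots.2 hcard, ?_⟩
    rw [eq_top_iff, ← hgen]
    refine Algebra.adjoin_mono fun x hx => ?_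
    rw [Polynomial.mem_rootSet]
    have : x = t + ZMod.castHom (dvd_refl p) L 0 := by
      rw [map_zero, add_zero]; exact hx
    exact ⟨hf0, this ▸ hroot 0⟩
  refine IsGalois.of_separable_splitting_field (p := f) ?_
  rw [Polynomial.separable_def]
  refine ⟨0, -1, ?_⟩
  simp [f, Polynomial.derivative_X_pow, CharP.cast_eq_zero K p]


/-- (2) ⇒ (3): let K be a field with char K = p > 0 and A a central division K-algebra with dim_K A = p
^ 2. If v, u in A satisfy v ^ p ∈ K, u ^ p ∈ K and v * u - u * v = 1, then some Galois extension L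
of K with [L : K] = p admits a K-algebra embedding into A (so A has a Galois subfield of degree p
over K). -/
theorem result
    (K : Type u) [Field K] (p : ℕ) [Fact p.Prime] [CharP K p]
    (A : Type v) [DivisionRing A] [Algebra K A] [Algebra.IsCentral K A] [FiniteDimensional K A]
    (hA : Module.finrank K A = p ^ 2) (v u : A) (hv : v ^ p ∈ (algebraMap K A).range)
    (hu : u ^ p ∈ (algebraMap K A).range) (hvu : v * u - u * v = 1) :
    ∃ (L : Type v) (_ : Field L) (_ : Algebra K L), IsGalois K L ∧ Module.finrank K L = p ∧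
      Nonempty (L →ₐ[K] A) := by
  classical
  have hp : p.Prime := Fact.out
  haveI : CharP A p := charP_of_injective_algebraMap (algebraMap K A).injective p
  set θ := u * v with hθ
  have h1 : v * u = u * v + 1 := by rw [← hvu]; abel
  have hne : v * u ≠ u * v := fun h => one_ne_zero (hvu ▸ sub_eq_zero.2 h : (1 : A) = 0)
  have hDv : CSAp.ad (K := K) θ v = -v := by
    rw [CSAp.ad_apply, hθ, ← mul_assoc v u v, h1, add_mul, one_mul]
    abel
  have hDu : CSAp.ad (K := K) θ u = u := by
    rw [CSAp.ad_apply, hθ, mul_assoc u v u, h1, mul_add, mul_one]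
    abel
  have hPv : ∀ n : ℕ, ((CSAp.ad (K := K) θ) ^ n) v = (-1 : A) ^ n * v := fun n => by
    induction n with
    | zero => simp
    | succ n ih =>
      rw [pow_succ', Module.End.mul_apply, ih, pow_succ]
      rcases neg_one_pow_eq_or A n with h | h <;> simp [h, hDv]
  have hPu : ∀ n : ℕ, ((CSAp.ad (K := K) θ) ^ n) u = u := fun n => by
    induction n with
    | zero => simp
    | succ n ih => rw [pow_succ', Module.End.mul_apply, ih, hDu]
  obtain ⟨a, ha⟩ : θ ^ p - θ ∈ (algebraMap K A).range := by
    refine CSAp.mem_range_of_commute hA hne ?_ ?_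
    · have h2 := hPv p
      rw [CSAp.ad_pow, neg_one_pow_char A p, neg_one_mul] at h2
      rw [CSAp.ad_apply] at hDv
      rw [← sub_eq_zero, sub_mul, mul_sub, sub_sub_sub_comm, h2, hDv, sub_self]
    · have h2 := hPu p
      rw [CSAp.ad_pow] at h2
      rw [CSAp.ad_apply] at hDu
      rw [← sub_eq_zero, sub_mul, mul_sub, sub_sub_sub_comm, h2, hDu, sub_self]
  have hθK : θ ∉ (algebraMap K A).range := CSAp.notMem_range_of_comm_ne (y := u) fun h => by
    rw [CSAp.ad_apply, h, sub_self] at hDu
    subst hDu
    simp at hne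
  have hdim : Module.finrank K (Algebra.adjoin K {θ}) = p := by
    rw [CSAp.finrank_adjoin_singleton, CSAp.natDegree_minpoly hA hθK]
  letI : Field (Algebra.adjoin K {θ}) :=
    { (inferInstance : Ring (Algebra.adjoin K {θ})), divisionRingOfFiniteDimensional K (Algebra.adjoin K {θ}) with
      mul_comm := by
        rintro ⟨x, hx⟩ ⟨y, hy⟩
        rw [Algebra.adjoin_singleton_eq_range_aeval] at hx hy
        obtain ⟨qx, rfl⟩ := hx
        obtain ⟨qy, rfl⟩ := hy
        refine Subtype.ext ?_
        show Polynomial.aeval θ qx * Polynomial.aeval θ qy = Polynomial.aeval θ qy * Polynomial.aeval θ qx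
        rw [← map_mul, ← map_mul, mul_comm] }
  refine ⟨Algebra.adjoin K {θ}, inferInstance, inferInstance, ?_, hdim, ⟨Subalgebra.val _⟩⟩
  refine isGalois_artinSchreier (p := p) a ⟨θ, Algebra.subset_adjoin rfl⟩ (Subtype.ext ?_) ?_
  · exact ha.symm
  · have hset : ({⟨θ, Algebra.subset_adjoin rfl⟩} : Set (Algebra.adjoin K {θ}))
        = (Subtype.val : Algebra.adjoin K {θ} → A) ⁻¹' {θ} := by
      ext x; simp [Subtype.ext_iff]
    rw [hset]
    exact Algebra.adjoin_adjoin_coe_preimage

end Groth.Agent.S15170
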