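import Groth.Statements.S15171
import Mathlib

set_option autoImplicit false
universe u v w
open BddFin

namespace Groth.Agent.S15171

open Polynomial

lemma exists_eigen_of_prod {K V : Type*} [Field K] [AddCommGroup V] [Module K V]
    (D : Module.End K V) {ι : Type*} (s : Finset ι) (c : ι → K) {x : V} (hx : x ≠ 0)
    (h : aeval D (∏ i ∈ s, (X - C (c i))) x = 0) :
    ∃ i ∈ s, ∃ y, y ≠ 0 ∧ D y = c i • y := by
  classical
  induction s using Finset.induction_on with
  | empty =>
    rw [Finset.prod_empty, map_one, Module.End.one_apply] at h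
    exact absurd h hx
  | @insert a s ha ih =>
    rw [Finset.prod_insert ha, map_mul, Module.End.mul_apply] at h
    by_cases hz : aeval D (∏ i ∈ s, (X - C (c i))) x = 0
    · obtain ⟨i, hi, hy⟩ := ih hz
      exact ⟨i, Finset.mem_insert_of_mem hi, hy⟩
    · refine ⟨a, Finset.mem_insert_self a s, _, hz, ?_⟩
      simpa [sub_eq_zero, Module.algebraMap_end_apply] using h

lemma prod_X_sub_C_zmod (p : ℕ) [Fact p.Prime] (K : Type*) [Field K] [CharP K p] :
    (∏ i : ZMod p, (X - C (ZMod.castHom (dvd_refl p) K i))) = (X ^ p - X : K[X]) := by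
  have hp : 1 < p := (Fact.out : p.Prime).one_lt
  have h : (∏ i : ZMod p, (X - C i)) = (X ^ p - X : (ZMod p)[X]) := by
    have hr : (X ^ p - X : (ZMod p)[X]).roots = Finset.univ.val := by
      have := FiniteField.roots_X_pow_card_sub_X (ZMod p)
      rwa [ZMod.card] at this
    have hm : (X ^ p - X : (ZMod p)[X]).Monic :=
      monic_X_pow_sub (by rw [degree_X]; exact_mod_cast hp)
    have hc : Multiset.card (X ^ p - X : (ZMod p)[X]).roots = (X ^ p - X : (ZMod p)[X]).natDegree := by
      rw [hr, FiniteField.X_pow_card_sub_X_natDegree_eq (ZMod p) hp]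
      simp
    have := prod_multiset_X_sub_C_of_monic_of_roots_card_eq hm hc
    rw [hr] at this
    exact this
  have := congrArg (Polynomial.map (ZMod.castHom (dvd_refl p) K)) h
  simpa [Polynomial.map_prod] using this

lemma exists_artinSchreier (K L : Type*) [Field K] [Field L] [Algebra K L] (p : ℕ) [Fact p.Prime]
    [CharP K p] [IsGalois K L] (hL : Module.finrank K L = p) :
    ∃ θ : L, θ ∉ Set.range (algebraMap K L) ∧ ∃ a : K, θ ^ p = θ + algebraMap K L a := by
  have hp : p.Prime := Fact.out
  have : FiniteDimensional K L := Module.finite_of_finrank_pos (by rw [hL]; exact hp.pos)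
  have : CharP L p := charP_of_injective_algebraMap (algebraMap K L).injective p
  have hcard : Nat.card Gal(L/K) = p := by rw [IsGalois.card_aut_eq_finrank, hL]
  have : IsCyclic Gal(L/K) := isCyclic_of_prime_card hcard
  obtain ⟨σ, hσ⟩ := IsCyclic.exists_generator (α := Gal(L/K))
  have hord : orderOf σ = p := by rw [orderOf_eq_card_of_forall_mem_zpowers hσ, hcard]
  obtain ⟨c, hc⟩ := Algebra.trace_surjective K L 1
  have hsum : ∑ i ∈ Finset.range p, (σ ^ i) c = 1 := by
    have hbij : Function.Bijective (fun i : Fin p => σ ^ (i : ℕ)) := by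
      rw [Fintype.bijective_iff_injective_and_card]
      refine ⟨fun i j hij => Fin.ext (pow_injOn_Iio_orderOf ?_ ?_ hij), ?_⟩
      · exact hord.symm ▸ i.2
      · exact hord.symm ▸ j.2
      · rw [Fintype.card_fin, ← Nat.card_eq_fintype_card, hcard]
    rw [Finset.sum_range (fun i => (σ ^ i) c),
      Fintype.sum_bijective (fun i : Fin p => σ ^ (i : ℕ)) hbij (fun i => (σ ^ (i : ℕ)) c)
        (fun g => g c) (fun i => rfl),
      ← trace_eq_sum_automorphisms, hc, map_one]
  let θ : L := -∑ i ∈ Finset.range p, (i : L) * (σ ^ i) c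
  have hσθ : σ θ = θ + 1 := by
    have h1 := Finset.sum_range_succ (fun i => (i : L) * (σ ^ i) c) p
    have h2 := Finset.sum_range_succ' (fun i => (i : L) * (σ ^ i) c) p
    have hpc : (p : L) = 0 := CharP.cast_eq_zero L p
    simp only [hpc, zero_mul, add_zero] at h1
    simp only [Nat.cast_zero, zero_mul, add_zero, Nat.cast_add, Nat.cast_one, add_mul, one_mul,
      Finset.sum_add_distrib] at h2
    have h3 : ∀ i : ℕ, σ ((σ ^ i) c) = (σ ^ (i + 1)) c := fun i => by
      rw [pow_succ', AlgEquiv.mul_apply]
    have h4 : ∑ i ∈ Finset.range p, (σ ^ (i + 1)) c = 1 := by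
      have := congrArg σ hsum
      simpa only [map_sum, h3, map_one] using this
    rw [h1, h4] at h2
    simp only [θ, map_neg, map_sum, map_mul, map_natCast, h3]
    rw [h2]
    ring
  refine ⟨θ, ?_, ?_⟩
  · rintro ⟨k, hk⟩
    rw [← hk, AlgEquiv.commutes] at hσθ
    simp at hσθ
  · have hfix : ∀ g : Gal(L/K), g (θ ^ p - θ) = θ ^ p - θ := by
      intro g
      have hs : σ (θ ^ p - θ) = θ ^ p - θ := by
        rw [map_sub, map_pow, hσθ, add_pow_char, one_pow]
        ring
      have hle : Subgroup.zpowers σ ≤ MulAction.stabilizer Gal(L/K) (θ ^ p - θ) :=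
        Subgroup.zpowers_le.mpr hs
      exact hle (hσ g)
    obtain ⟨a, ha⟩ := (IsGalois.mem_range_algebraMap_iff_fixed (θ ^ p - θ)).mpr hfix
    exact ⟨a, by rw [ha]; ring⟩

/-- (3) ⇒ (1): let K be a field with char K = p > 0 and A a central division K-algebra with dim_K A = p
^ 2. If some Galois extension L of K with [L : K] = p admits a K-algebra embedding into A, then some
element of A is not separable over K. -/
theorem result
    (K : Type u) [Field K] (p : ℕ) [Fact p.Prime] [CharP K p]
    (A : Type v) [DivisionRing A] [Algebra K A] [Algebra.IsCentral K A] [FiniteDimensional K A]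
    (hA : Module.finrank K A = p ^ 2) (L : Type w) [Field L] [Algebra K L] [IsGalois K L]
    (hL : Module.finrank K L = p) (ι : L →ₐ[K] A) :
    ∃ v : A, ¬ IsSeparable K v := by
  have hp : p.Prime := Fact.out
  have : ExpChar K p := ExpChar.prime hp
  have : FiniteDimensional K L := Module.finite_of_finrank_pos (by rw [hL]; exact hp.pos)
  have : CharP A p := charP_of_injective_algebraMap (algebraMap K A).injective p
  have : CharP (Module.End K A) p :=
    charP_of_injective_algebraMap (algebraMap K (Module.End K A)).injective p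
  obtain ⟨θ, hθ, a, ha⟩ := exists_artinSchreier K L p hL
  let t : A := ι θ
  let D : Module.End K A := LinearMap.mulLeft K t - LinearMap.mulRight K t
  have hD : ∀ x, D x = t * x - x * t := fun x => rfl
  have htp : t ^ p = t + algebraMap K A a := by
    rw [← map_pow, ha, map_add, AlgHom.commutes]
  have hDp : D ^ p = D := by
    refine LinearMap.ext fun x => ?_
    simp only [D]
    rw [sub_pow_char_of_commute (R := Module.End K A) (p := p) (LinearMap.commute_mulLeft_right t t),
      LinearMap.pow_mulLeft, LinearMap.pow_mulRight]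
    simp only [LinearMap.sub_apply, LinearMap.mulLeft_apply, LinearMap.mulRight_apply, htp, add_mul,
      mul_add, Algebra.commutes a x]
    abel
  obtain ⟨x, hx⟩ : ∃ x, D x ≠ 0 := by
    by_contra! h
    have hc : t ∈ Subalgebra.center K A :=
      Subalgebra.mem_center_iff.mpr fun b => (sub_eq_zero.mp ((hD b).symm.trans (h b))).symm
    rw [Algebra.IsCentral.center_eq_bot, Algebra.mem_bot] at hc
    obtain ⟨k, hk⟩ := hc
    exact hθ ⟨k, ι.toRingHom.injective ((AlgHom.commutes ι k).trans hk)⟩
  classical
  obtain ⟨i₀, hi₀, u, hu, hDu⟩ := exists_eigen_of_prod D (Finset.univ.erase (0 : ZMod p))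
    (fun i => ZMod.castHom (dvd_refl p) K i) hx (by
      have h := prod_X_sub_C_zmod p K
      rw [← Finset.prod_erase_mul Finset.univ _ (Finset.mem_univ (0 : ZMod p)), map_zero, C_0,
        sub_zero] at h
      have h' := congrArg (fun q => aeval D q x) h
      simp only [map_mul, map_sub, map_pow, aeval_X, Module.End.mul_apply, LinearMap.sub_apply,
        hDp, sub_self] at h'
      exact h')
  set i : K := ZMod.castHom (dvd_refl p) K i₀
  have hi : i ≠ 0 := fun h => (Finset.mem_erase.mp hi₀).1
    ((ZMod.castHom (dvd_refl p) K).injective (h.trans (map_zero _).symm))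
  rw [hD, sub_eq_iff_eq_add] at hDu
  have hpow : ∀ j : ℕ, D (u ^ j) = ((j : K) * i) • u ^ j := by
    intro j
    induction j with
    | zero => simp [hD]
    | succ j ih =>
      rw [hD, sub_eq_iff_eq_add] at ih ⊢
      calc t * u ^ (j + 1) = (t * u ^ j) * u := by rw [pow_succ, mul_assoc]
        _ = ((j : K) * i) • u ^ (j + 1) + u ^ j * (t * u) := by
          rw [ih, add_mul, smul_mul_assoc, ← pow_succ, mul_assoc]
        _ = _ := by
          rw [hDu, mul_add, mul_smul_comm, ← pow_succ, ← mul_assoc, ← pow_succ, Nat.cast_succ,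
            add_mul, one_mul, add_smul]
          abel
  let Φ : (Fin p → L) →ₗ[K] A :=
    ∑ j : Fin p, LinearMap.mulRight K (u ^ (j : ℕ)) ∘ₗ ι.toLinearMap ∘ₗ LinearMap.proj j
  have hΦ : ∀ f, Φ f = ∑ j : Fin p, ι (f j) * u ^ (j : ℕ) := fun f => by
    simp [Φ, LinearMap.sum_apply]
  have hDι : ∀ (l : L) (j : ℕ), D (ι l * u ^ j) = ((j : K) * i) • (ι l * u ^ j) := by
    intro l j
    have h := hpow j
    rw [hD] at h ⊢
    have htl : t * ι l = ι l * t := by rw [← map_mul, ← map_mul, mul_comm]
    rw [← mul_assoc t, htl, mul_assoc, mul_assoc, ← mul_sub, h, mul_smul_comm]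
  have hμ : Function.Injective (fun j : Fin p => ((j : ℕ) : K) * i) := fun j k hjk =>
    Fin.ext (CharP.natCast_injOn_Iio K p j.2 k.2 (mul_right_cancel₀ hi hjk))
  have hinj : Function.Injective Φ := by
    rw [injective_iff_map_eq_zero]
    intro f hf
    rw [hΦ] at hf
    have h := ((Module.End.eigenspaces_iSupIndep D).comp hμ)
    rw [iSupIndep_iff_finsetSum_eq_zero_imp_eq_zero] at h
    funext j
    have h0 := h Finset.univ _ (fun k _ => Module.End.mem_eigenspace_iff.mpr (hDι (f k) k)) hf j
      (Finset.mem_univ j)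
    rcases mul_eq_zero.mp h0 with h1 | h1
    · exact ι.toRingHom.injective (h1.trans (map_zero _).symm)
    · exact absurd h1 (pow_ne_zero _ hu)
  have hsurj : Function.Surjective Φ :=
    (LinearMap.injective_iff_surjective_of_finrank_eq_finrank
      (by rw [Module.finrank_pi_fintype, hA]; simp [hL, sq])).mp hinj
  obtain ⟨f, hf⟩ := hsurj (u ^ p)
  have hcomm : Commute t (u ^ p) := sub_eq_zero.mp <| by
    rw [← hD, hpow]
    simp [CharP.cast_eq_zero]
  have hg : Φ (fun j => (((j : ℕ) : K) * i) • f j) = 0 := by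
    have : D (Φ f) = 0 := by rw [hf, hD]; exact sub_eq_zero.mpr hcomm
    rw [← this, hΦ, hΦ, map_sum]
    simp only [hDι, map_smul, smul_mul_assoc]
  have hf0 : ∀ j : Fin p, (j : ℕ) ≠ 0 → f j = 0 := fun j hj => by
    have h := congrFun (hinj (hg.trans (map_zero Φ).symm)) j
    refine (smul_eq_zero.mp h).resolve_left ?_
    intro h0
    exact hj (CharP.natCast_injOn_Iio K p j.2 hp.pos
      ((mul_eq_zero.mp h0).resolve_right hi |>.trans Nat.cast_zero.symm))
  have hupL : u ^ p = ι (f ⟨0, hp.pos⟩) := by
    rw [← hf, hΦ, Finset.sum_eq_single (⟨0, hp.pos⟩ : Fin p)]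
    · simp
    · intro j _ hj
      rw [hf0 j (fun h => hj (Fin.ext h)), map_zero, zero_mul]
    · simp
  have hcent : u ^ p ∈ Subalgebra.center K A := by
    rw [Subalgebra.mem_center_iff]
    intro b
    obtain ⟨g, rfl⟩ := hsurj b
    rw [hΦ, Finset.sum_mul, Finset.mul_sum]
    refine Finset.sum_congr rfl fun j _ => ?_
    rw [mul_assoc, (Commute.pow_pow_self u (j : ℕ) p).eq, ← mul_assoc, ← mul_assoc]
    congr 1
    rw [hupL, ← map_mul, ← map_mul, mul_comm]
  rw [Algebra.IsCentral.center_eq_bot, Algebra.mem_bot] at hcent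
  obtain ⟨c, hc⟩ := hcent
  refine ⟨u, fun hsep => ?_⟩
  have hint : IsIntegral K u := Algebra.IsIntegral.isIntegral u
  have : Fact (Irreducible (minpoly K u)) := ⟨minpoly.irreducible hint⟩
  set r := AdjoinRoot.root (minpoly K u)
  have hr : minpoly K r = minpoly K u := by
    rw [AdjoinRoot.minpoly_root (minpoly.ne_zero hint)]
    simp [(minpoly.monic hint).leadingCoeff]
  have hrp : r ^ p = algebraMap K _ c := by
    have hd : minpoly K u ∣ X ^ p - C c := minpoly.dvd K u (by simp [hc])
    have := AdjoinRoot.mk_eq_zero.mpr hd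
    simpa [sub_eq_zero] using this
  have hrbot : r ∈ (⊥ : IntermediateField K (AdjoinRoot (minpoly K u))) := by
    have hsr : IsSeparable K r := by
      show (minpoly K r).Separable
      rw [hr]
      exact hsep
    have h := IntermediateField.adjoin_simple_eq_adjoin_pow_expChar_of_isSeparable K _ hsr p
    rw [hrp, IntermediateField.adjoin_simple_eq_bot_iff.mpr (IntermediateField.algebraMap_mem _ _)]
      at h
    exact IntermediateField.adjoin_simple_eq_bot_iff.mp h
  have hdeg : (minpoly K u).natDegree = 1 := by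
    rw [← hr, minpoly.natDegree_eq_one_iff]
    exact IntermediateField.mem_bot.mp hrbot
  obtain ⟨k, rfl⟩ := minpoly.natDegree_eq_one_iff.mp hdeg
  rw [← Algebra.commutes k t] at hDu
  exact hu ((smul_eq_zero.mp (by simpa using hDu)).resolve_left hi)

end Groth.Agent.S15171
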