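import Groth.Statements.S15172
import Mathlib.LinearAlgebra.Lagrange
import Mathlib.Algebra.Polynomial.Monic

set_option autoImplicit false
universe u v
open Polynomial
open BddFin

namespace Groth.Agent.S15172

/-- Let L be a field of characteristic p > 0 and s a finite subset of L containing 0 and closed under
addition (a finite additive subgroup). Then the polynomial f = ∏_{a ∈ s} (X - a) is additive: f (x +
y) = f x + f y for all x, y in any commutative L-algebra (equivalently, as an identity of
polynomials in two variables). -/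
theorem result
    (L : Type u) [Field L] (p : ℕ) [Fact p.Prime] [CharP L p] (s : Finset L) (h0 : (0 : L) ∈ s)
    (hadd : ∀ a ∈ s, ∀ b ∈ s, a + b ∈ s) (R : Type v) [CommRing R] [Algebra L R] (x y : R) :
    aeval (x + y) (∏ a ∈ s, (X - C a)) = aeval x (∏ a ∈ s, (X - C a)) + aeval y (∏ a ∈ s, (X - C a)) := by
  classical
  set f : L[X] := ∏ a ∈ s, (X - C a) with hf
  have hmon : f.Monic := monic_prod_of_monic _ _ fun a _ => monic_X_sub_C a
  have hdeg : f.natDegree = s.card := by
    rw [hf, natDegree_prod_of_monic _ _ fun a _ => monic_X_sub_C a]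
    simp
  have hperm : ∀ a ∈ s, f.comp (X + C a) = f := by
    intro a ha
    rw [hf, prod_comp]
    have hbij : ∀ b ∈ s, b - a ∈ s := by
      have hsur : s.image (fun b => b + a) = s := Finset.eq_of_subset_of_card_le
        (fun b hb => by obtain ⟨c, hc, rfl⟩ := Finset.mem_image.1 hb; exact hadd c hc a ha)
        (le_of_eq (Finset.card_image_of_injective _ (add_left_injective a)).symm)
      intro b hb
      rw [← hsur] at hb
      obtain ⟨c, hc, rfl⟩ := Finset.mem_image.1 hb
      simpa using hc
    refine Finset.prod_bij' (fun b _ => b - a) (fun b _ => b + a) hbij (fun b hb => hadd b hb a ha)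
      (fun b _ => sub_add_cancel b a) (fun b _ => add_sub_cancel_right b a) fun b _ => ?_
    simp only [sub_comp, X_comp, C_comp, map_sub]
    ring
  set F : L[X][X] := f.map C with hF
  have hFm : F.Monic := hmon.map C
  have hFd : F.natDegree = s.card := by rw [hF, hmon.natDegree_map, hdeg]
  have key : F.comp (X + C X) = F + C f := by
    by_cases hs : s.card = 0
    · exact absurd (Finset.card_ne_zero_of_mem h0) (not_not_intro hs)
    have hG : (F.comp (X + C X)).Monic := hFm.comp_X_add_C X
    have hGd : (F.comp (X + C X)).natDegree = s.card := by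
      rw [natDegree_comp, natDegree_X_add_C, mul_one, hFd]
    have hHm : (F + C f).Monic := hFm.add_of_left (by
      refine lt_of_le_of_lt degree_C_le ?_
      rw [degree_eq_natDegree hFm.ne_zero, hFd]
      exact_mod_cast Nat.pos_of_ne_zero hs)
    have hHd : (F + C f).natDegree = s.card := by rw [natDegree_add_C, hFd]
    refine Polynomial.eq_of_degree_sub_lt_of_eval_finset_eq
      (s.map ⟨(C : L →+* L[X]), C_injective⟩) ?_ ?_
    · rw [Finset.card_map]
      refine lt_of_lt_of_le (degree_sub_lt ?_ hG.ne_zero
        (by rw [hG.leadingCoeff, hHm.leadingCoeff])) ?_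
      · rw [degree_eq_natDegree hG.ne_zero, degree_eq_natDegree hHm.ne_zero, hGd, hHd]
      · rw [degree_eq_natDegree hG.ne_zero, hGd]
    · intro z hz
      obtain ⟨a, ha, rfl⟩ := Finset.mem_map.1 hz
      have hfa : f.eval a = 0 := by
        rw [hf, eval_prod]; exact Finset.prod_eq_zero ha (by simp)
      show (F.comp (X + C X)).eval (C a) = (F + C f).eval (C a)
      rw [eval_comp, eval_add, eval_X, eval_C, eval_add, eval_C, hF, eval_map, eval_map,
        eval₂_at_apply, hfa, map_zero, zero_add]
      have h2 := hperm a ha
      rwa [comp, add_comm (X : L[X]) (C a)] at h2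
  set Φ : L[X][X] →+* R := eval₂RingHom (aeval x (R := L)).toRingHom y with hΦ
  have hΦC : ∀ g : L[X], Φ (C g) = aeval x g := fun g => by simp [hΦ]
  have hΦX : Φ X = y := by simp [hΦ]
  have hcompC : (Φ.comp C).comp C = algebraMap L R := by ext a; simp [hΦC]
  have h3 := congrArg Φ key
  rw [hF, comp, hom_eval₂, eval₂_map, map_add, hΦC, map_add, hΦX, hΦC, aeval_X, hcompC] at h3
  have h4 : Φ (f.map C) = aeval y f := by
    simp only [hΦ, coe_eval₂RingHom, eval₂_map, aeval_def]
    congr 1
    ext a; simp
  rw [h4] at h3
  rw [aeval_def, add_comm x y, h3]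
  exact add_comm _ _

end Groth.Agent.S15172
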