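import Groth.Statements.S15179
import Groth.Agent.ConicAut.Ext

set_option autoImplicit false
universe u
attribute [local instance] MvPolynomial.gradedAlgebra
open BddFin

namespace Groth.Agent.S15179


open LaurentPolynomial QuadraticAlgebra ConicAut in
/-- The combinatorics of the automorphisms. -/
theorem main {K : Type u} [Field K]
    (hK : ∀ n : ℕ, 0 < n → (Polynomial.X ^ n - 1 : Polynomial K).Splits)
    {c b : K} [Fact (∀ r : K, r ^ 2 ≠ c + b * r)] (D : Datum c b)
    (G : Subgroup (D.B ≃+* D.B)) [Finite G]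
    (hG : ∀ g ∈ G, ∀ (k : K) (z : D.B), g (k • z) = k • g z) :
    (∀ g ∈ G, g ^ 2 = 1) ∧ Nat.card G ≤ 4 := by
  classical
  have hcomp : ∀ (g h : D.B ≃+* D.B) (P : LaurentPolynomial (QuadraticAlgebra K c b)),
      D.ext (g * h) P = D.ext g (D.ext h P) := by
    intro g h P
    obtain ⟨p, rfl⟩ := D.Ψ_surjective P
    rw [D.ext_Ψ, D.ext_Ψ, D.ext_Ψ]
    rfl
  have hone : ∀ P : LaurentPolynomial (QuadraticAlgebra K c b), D.ext 1 P = P := by
    intro P
    obtain ⟨p, rfl⟩ := D.Ψ_surjective P
    rw [D.ext_Ψ]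
    rfl
  let E : ∀ g ∈ G, LaurentPolynomial (QuadraticAlgebra K c b) →+*
      LaurentPolynomial (QuadraticAlgebra K c b) := fun g hg =>
    { toFun := D.ext g
      map_one' := by
        have := D.ext_C g (hG g hg) 1
        rwa [map_one] at this
      map_mul' := D.ext_mul g (hG g hg)
      map_zero' := by
        have := D.ext_C g (hG g hg) 0
        rwa [map_zero] at this
      map_add' := D.ext_add g (hG g hg) }
  have hTz : ∀ g, ∀ hg : g ∈ G, ∀ (lam : QuadraticAlgebra K c b) (n : ℤ), lam ≠ 0 →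
      D.ext g (T 1) = C lam * T n → ∀ j : ℤ, D.ext g (T j) = C (lam ^ j) * T (n * j) := by
    intro g hg lam n hlam h j
    have hinv : D.ext g (T (-1)) = C lam⁻¹ * T (-n) := by
      have h1 : D.ext g (T 1) * D.ext g (T (-1)) = 1 := by
        rw [← D.ext_mul g (hG g hg), ← T_add, add_neg_cancel, T_zero]
        exact (E g hg).map_one
      rw [h] at h1
      have h2 : (C lam * T n) * (C lam⁻¹ * T (-n)) = (1 : LaurentPolynomial _) := by
        rw [mul_mul_mul_comm, ← map_mul, mul_inv_cancel₀ hlam, map_one, one_mul, ← T_add,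
          add_neg_cancel, T_zero]
      exact (((isUnit_iff_ne_zero.2 hlam).map LaurentPolynomial.C).mul (isUnit_T n)).mul_right_inj.1
        (h1.trans h2.symm)
    induction j using Int.induction_on with
    | zero => rw [T_zero, zpow_zero, map_one, mul_zero, T_zero, one_mul]; exact (E g hg).map_one
    | succ i ih =>
      rw [T_add, D.ext_mul g (hG g hg), ih, h, zpow_add_one₀ hlam, map_mul, mul_add, mul_one, T_add]
      ring
    | pred i ih =>
      rw [sub_eq_add_neg, T_add, D.ext_mul g (hG g hg), ih, hinv, ← sub_eq_add_neg,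
        zpow_sub_one₀ hlam, map_mul, mul_sub, mul_one, sub_eq_add_neg, T_add]
      ring
  have hCT : ∀ g, ∀ hg : g ∈ G, ∀ (lam mu : QuadraticAlgebra K c b) (n j : ℤ), lam ≠ 0 →
      D.ext g (T 1) = C lam * T n → D.ext g (C mu * T j) = C (mu * lam ^ j) * T (n * j) := by
    intro g hg lam mu n j hlam h
    rw [D.ext_mul g (hG g hg), D.ext_C g (hG g hg), hTz g hg lam n hlam h, map_mul, mul_assoc]
  have hshape : ∀ g ∈ G, ∃ (lam : QuadraticAlgebra K c b) (n : ℤ), lam ≠ 0 ∧
      D.ext g (T 1) = C lam * T n ∧ (n = 1 ∨ n = -1) ∧ star lam = lam⁻¹ := by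
    intro g hg
    obtain ⟨lam, n, hlam, h⟩ := laurent_isUnit ((isUnit_T 1).map (E g hg))
    replace h : D.ext g (T 1) = C lam * T n := h
    obtain ⟨mu, m, hmu, h'⟩ := laurent_isUnit ((isUnit_T 1).map (E g⁻¹ (G.inv_mem hg)))
    replace h' : D.ext g⁻¹ (T 1) = C mu * T m := h'
    have h1 : D.ext (g * g⁻¹) (T 1) = C (mu * lam ^ m) * T (n * m) := by
      rw [hcomp, h', hCT g hg lam mu n m hlam h]
    rw [mul_inv_cancel, hone] at h1
    have e : C (1 : QuadraticAlgebra K c b) * T 1 = C (mu * lam ^ m) * T (n * m) := by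
      rw [map_one, one_mul]; exact h1
    have h2 := C_mul_T_inj (one_ne_zero : (1 : QuadraticAlgebra K c b) ≠ 0) e
    refine ⟨lam, n, hlam, h, Int.eq_one_or_neg_one_of_mul_eq_one h2.1.symm, ?_⟩
    have h3 := D.ext_σ g (hG g hg) (T 1)
    rw [σ_T, h, map_mul, σ_C, σ_T, hTz g hg lam n hlam h (-1), zpow_neg_one, mul_neg, mul_one] at h3
    exact (C_mul_T_inj (inv_ne_zero hlam) h3).2.symm
  have hdet : ∀ g ∈ G, ∀ h ∈ G, D.ext g (T 1) = D.ext h (T 1) → g = h := by
    intro g hg h hh he
    have hall : ∀ P, D.ext g P = D.ext h P := by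
      obtain ⟨lam, n, hlam, h1, -, -⟩ := hshape g hg
      intro P
      induction P using LaurentPolynomial.induction_on' with
      | add P Q hP hQ => rw [D.ext_add g (hG g hg), D.ext_add h (hG h hh), hP, hQ]
      | C_mul_T j a => rw [hCT g hg lam a n j hlam h1, hCT h hh lam a n j hlam (he ▸ h1)]
    refine RingEquiv.ext fun z => ?_
    have := hall (D.Ψ (z, 0))
    rw [D.ext_Ψ, D.ext_Ψ] at this
    exact congrArg Prod.fst (D.Ψ_injective this)
  have hpm : ∀ g ∈ G, ∀ lam, D.ext g (T 1) = C lam * T 1 → lam = 1 ∨ lam = -1 := by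
    intro g hg lam h
    obtain ⟨lam', n, hlam', h', -, hstar⟩ := hshape g hg
    obtain ⟨-, rfl⟩ := C_mul_T_inj hlam' (h'.symm.trans h)
    have hpow : ∀ j : ℕ, D.ext (g ^ j) (T 1) = C (lam' ^ j) * T 1 := by
      intro j
      induction j with
      | zero => rw [pow_zero, hone, pow_zero, map_one, one_mul]
      | succ j ih =>
        rw [pow_succ', hcomp, ih, hCT g hg lam' _ 1 1 hlam' h, zpow_one, one_mul, pow_succ]
    have hfin : IsOfFinOrder g := by
      have := isOfFinOrder_of_finite (⟨g, hg⟩ : G)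
      exact (Submonoid.isOfFinOrder_coe (x := (⟨g, hg⟩ : G.toSubmonoid))).2 this
    have h1 := hpow (orderOf g)
    rw [pow_orderOf_eq_one, hone] at h1
    have e : C (1 : QuadraticAlgebra K c b) * T 1 = C (lam' ^ orderOf g) * T 1 := by
      rw [map_one, one_mul]; exact h1
    have h2 := (C_mul_T_inj (one_ne_zero : (1 : QuadraticAlgebra K c b) ≠ 0) e).2
    have hm := hfin.orderOf_pos
    obtain ⟨k, hk⟩ := (hK _ hm).mem_range_of_isRoot
      (Polynomial.monic_X_pow_sub_C (1 : K) hm.ne').ne_zero
      (i := algebraMap K (QuadraticAlgebra K c b)) (x := lam')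
      (by simp [Polynomial.IsRoot, ← h2])
    have h3 : lam' * lam' = 1 := by
      rw [← hk, star_algebraMap'] at hstar
      rw [← hk]
      nth_rw 2 [hstar]
      exact mul_inv_cancel₀ (hk ▸ hlam')
    exact mul_self_eq_one_iff.1 h3
  refine ⟨fun g hg => ?_, ?_⟩
  · obtain ⟨lam, n, hlam, h, hn, -⟩ := hshape g hg
    refine hdet _ (G.pow_mem hg 2) _ G.one_mem ?_
    rw [hone, pow_two, hcomp, h, hCT g hg lam lam n n hlam h]
    rcases hn with rfl | rfl
    · rcases hpm g hg lam h with rfl | rfl <;> simp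
    · simp [hlam]
  · let f : G → LaurentPolynomial (QuadraticAlgebra K c b) := fun g => D.ext g.1 (T 1)
    have hf : Function.Injective f := fun g h he => Subtype.ext (hdet _ g.2 _ h.2 he)
    obtain ⟨S, hS, hfS⟩ : ∃ S : Finset (LaurentPolynomial (QuadraticAlgebra K c b)),
        S.card ≤ 4 ∧ ∀ g, f g ∈ S := by
      by_cases hex : ∃ g₀ ∈ G, ∃ lam₀, D.ext g₀ (T 1) = C lam₀ * T (-1)
      · obtain ⟨g₀, hg₀, lam₀, h₀⟩ := hex
        have hlam₀ : lam₀ ≠ 0 := by
          obtain ⟨lam', n', hlam', h', -, -⟩ := hshape g₀ hg₀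
          rw [← (C_mul_T_inj hlam' (h'.symm.trans h₀)).2]
          exact hlam'
        refine ⟨{T 1, -T 1, C lam₀ * T (-1), -(C lam₀ * T (-1))}, Finset.card_le_four, fun g => ?_⟩
        obtain ⟨lam, n, hlam, h, hn, -⟩ := hshape g.1 g.2
        simp only [f, h, Finset.mem_insert, Finset.mem_singleton]
        rcases hn with rfl | rfl
        · rcases hpm g.1 g.2 lam h with rfl | rfl
          · left; rw [map_one, one_mul]
          · right; left; rw [map_neg, map_one, neg_one_mul]
        · have hc : D.ext (g.1 * g₀) (T 1) = C (lam₀ * lam⁻¹) * T 1 := by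
            rw [hcomp, h₀, hCT g.1 g.2 lam lam₀ (-1) (-1) hlam h, zpow_neg_one]; norm_num
          rcases hpm _ (G.mul_mem g.2 hg₀) _ hc with h1 | h1
          · right; right; left
            rw [show lam = lam₀ by field_simp at h1; exact h1.symm]
          · right; right; right
            rw [show lam = -lam₀ by field_simp at h1; rw [h1, neg_neg], map_neg, neg_mul]
      · push Not at hex
        refine ⟨{T 1, -T 1}, Finset.card_le_two.trans (by norm_num), fun g => ?_⟩
        obtain ⟨lam, n, hlam, h, hn, -⟩ := hshape g.1 g.2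
        simp only [f, h, Finset.mem_insert, Finset.mem_singleton]
        rcases hn with rfl | rfl
        · rcases hpm g.1 g.2 lam h with rfl | rfl
          · left; rw [map_one, one_mul]
          · right; rw [map_neg, map_one, neg_one_mul]
        · exact absurd h (hex g.1 g.2 lam)
    calc Nat.card G ≤ Nat.card S :=
          Nat.card_le_card_of_injective (fun g => (⟨f g, hfS g⟩ : S))
            (fun g h he => hf (congrArg Subtype.val he))
      _ = S.card := Nat.card_eq_finsetCard S
      _ ≤ 4 := hS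

open MvPolynomial in
theorem quad_eq {K : Type u} [Field K] (q : MvPolynomial (Fin 2) K) (hq : q.IsHomogeneous 2) :
    q = C (q.coeff (Finsupp.single 0 2)) * X 0 ^ 2 +
      C (q.coeff (Finsupp.single 0 1 + Finsupp.single 1 1)) * (X 0 * X 1) +
      C (q.coeff (Finsupp.single 1 2)) * X 1 ^ 2 := by
  classical
  ext d
  have h2 : (X 0 * X 1 : MvPolynomial (Fin 2) K) =
      monomial (Finsupp.single 0 1 + Finsupp.single 1 1) 1 := by simp [X, monomial_mul]
  simp only [h2, X_pow_eq_monomial, C_mul_monomial, mul_one, coeff_add, coeff_monomial]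
  have heq : ∀ e : Fin 2 →₀ ℕ, e = d ↔ e 0 = d 0 ∧ e 1 = d 1 := fun e =>
    ⟨fun h => by subst h; exact ⟨rfl, rfl⟩, fun h => Finsupp.ext (Fin.forall_fin_two.2 h)⟩
  by_cases hd : d 0 + d 1 = 2
  · by_cases h0 : d 0 = 0
    · obtain rfl : d = Finsupp.single 1 2 := ((heq _).2 (by simp; omega)).symm
      simp [heq]
    · by_cases h1 : d 1 = 0
      · obtain rfl : d = Finsupp.single 0 2 := ((heq _).2 (by simp; omega)).symm
        simp [heq]
      · obtain rfl : d = Finsupp.single 0 1 + Finsupp.single 1 1 :=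
          ((heq _).2 (by simp; omega)).symm
        simp [heq]
  · rw [hq.coeff_eq_zero (by
      rw [Finsupp.degree_eq_sum, Fin.sum_univ_two]; exact hd)]
    simp [heq]
    split_ifs <;> simp_all <;> omega

/-- Let K be a field such that K contains all roots of unity (for every n ≥ 1 the polynomial X^n − 1
splits into linear factors over K). Let q be an irreducible binary quadratic form over K with
non-zero discriminant, so that its zero locus in the projective line over K is a single closed point
with separable quadratic residue field over K (a pair of distinct conjugate geometric points), and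
let U be the complement of that point: the affine curve whose coordinate ring is the ring of
degree-0 fractions f / q ^ k (f a binary form of degree 2k). Then for every finite group G of
K-automorphisms of U (K-linear ring automorphisms of its coordinate ring), every g ∈ G satisfies g ^
2 = 1 and G has at most 4 elements. -/
theorem result
    (K : Type u) [Field K] (hK : ∀ n : ℕ, 0 < n → (Polynomial.X ^ n - 1 : Polynomial K).Splits)
    (q : MvPolynomial (Fin 2) K) (hq : q.IsHomogeneous 2) (hirr : Irreducible q)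
    (hdisc : (q.coeff (Finsupp.single 0 1 + Finsupp.single 1 1)) ^ 2 -
      4 * q.coeff (Finsupp.single 0 2) * q.coeff (Finsupp.single 1 2) ≠ 0)
    (G : Subgroup (HomogeneousLocalization.Away (MvPolynomial.homogeneousSubmodule (Fin 2) K) q ≃+* HomogeneousLocalization.Away (MvPolynomial.homogeneousSubmodule (Fin 2) K) q)) [Finite G]
    (hG : ∀ g ∈ G, ∀ (k : K) (z : HomogeneousLocalization.Away (MvPolynomial.homogeneousSubmodule (Fin 2) K) q), g (k • z) = k • g z) :
    (∀ g ∈ G, g ^ 2 = 1) ∧ Nat.card G ≤ 4 := by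
  classical
  set A := q.coeff (Finsupp.single 0 2) with hA
  set Bc := q.coeff (Finsupp.single 0 1 + Finsupp.single 1 1) with hB
  set Cc := q.coeff (Finsupp.single 1 2) with hC
  have hqe := quad_eq q hq
  rw [← hA, ← hB, ← hC] at hqe
  have hcc : ∀ u v : MvPolynomial (Fin 2) K, MvPolynomial.constantCoeff u = 0 →
      MvPolynomial.constantCoeff v = 0 → q ≠ u * v := by
    intro u v hu hv he
    rcases hirr.isUnit_or_isUnit he with h | h
    · have := h.map (MvPolynomial.constantCoeff (R := K) (σ := Fin 2))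
      rw [hu] at this; exact not_isUnit_zero this
    · have := h.map (MvPolynomial.constantCoeff (R := K) (σ := Fin 2))
      rw [hv] at this; exact not_isUnit_zero this
  have hA0 : A ≠ 0 := by
    intro h
    refine hcc (MvPolynomial.X 1)
      (MvPolynomial.C Bc * MvPolynomial.X 0 + MvPolynomial.C Cc * MvPolynomial.X 1)
      (by simp) (by simp) ?_
    rw [hqe, h, map_zero]; ring
  have hroot : ∀ r : K, r ^ 2 ≠ -Cc / A + -Bc / A * r := by
    intro r hr
    have hr' : A * r ^ 2 + Bc * r + Cc = 0 := by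
      rw [hr]; field_simp; ring
    refine hcc (MvPolynomial.X 0 - MvPolynomial.C r * MvPolynomial.X 1)
      (MvPolynomial.C A * MvPolynomial.X 0 + MvPolynomial.C (Bc + A * r) * MvPolynomial.X 1)
      (by simp) (by simp) ?_
    have hr'' := congrArg (MvPolynomial.C (R := K) (σ := Fin 2)) hr'
    simp only [map_add, map_mul, map_pow, map_zero] at hr'' ⊢
    rw [hqe]
    linear_combination (MvPolynomial.X 1 ^ 2 : MvPolynomial (Fin 2) K) * hr''
  have hFact : Fact (∀ r : K, r ^ 2 ≠ -Cc / A + -Bc / A * r) := ⟨hroot⟩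
  have hsep : -Bc / A ≠ 0 ∨ (2 : K) ≠ 0 := by
    by_contra h
    push Not at h
    obtain ⟨h1, h2⟩ := h
    have : Bc = 0 := by simpa [hA0] using h1
    exact hdisc (by rw [this]; linear_combination (-2 * A * Cc) * h2)
  have hφ : ConicAut.φ (-Cc / A) (-Bc / A) q =
      ConicAut.κ (-Cc / A) (-Bc / A) A * LaurentPolynomial.T 1 := by
    obtain ⟨e1, e2⟩ := ConicAut.φ_ell (-Cc / A) (-Bc / A) hsep
    have hb : (ConicAut.κ (-Cc / A) (-Bc / A) A) * ConicAut.κ (-Cc / A) (-Bc / A) (-Bc / A) =
        -ConicAut.κ (-Cc / A) (-Bc / A) Bc := by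
      rw [← map_mul, ← map_neg]; congr 1; field_simp
    have hc : (ConicAut.κ (-Cc / A) (-Bc / A) A) * ConicAut.κ (-Cc / A) (-Bc / A) (-Cc / A) =
        -ConicAut.κ (-Cc / A) (-Bc / A) Cc := by
      rw [← map_mul, ← map_neg]; congr 1; field_simp
    rw [hqe]
    simp only [ConicAut.φ, map_add, map_mul, map_pow, MvPolynomial.eval₂Hom_C,
      MvPolynomial.eval₂Hom_X']
    rw [ConicAut.Cβ_eq] at e2
    set x := ConicAut.pt (-Cc / A) (-Bc / A) 0
    set y := ConicAut.pt (-Cc / A) (-Bc / A) 1
    set a := LaurentPolynomial.C (ConicAut.α (-Cc / A) (-Bc / A))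
    linear_combination (ConicAut.κ (-Cc / A) (-Bc / A) A * (x - (ConicAut.κ (-Cc / A) (-Bc / A) (-Bc / A) - a) * y)) * e1 +
      (ConicAut.κ (-Cc / A) (-Bc / A) A * LaurentPolynomial.T 1) * e2 +
      (x * y) * hb + y ^ 2 * hc +
      (ConicAut.κ (-Cc / A) (-Bc / A) A * y ^ 2) * ConicAut.Cα_mul (c := -Cc / A) (b := -Bc / A)
  exact main hK
    (⟨A, hA0, q, hq, hφ, hsep, ConicAut.infinite_of_rootsOfUnity K hK⟩ : ConicAut.Datum _ _) G hG

end Groth.Agent.S15179
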