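import Groth.Statements.S1518
import Groth.Agent.CurveDeg.Basic

set_option autoImplicit false
set_option backward.isDefEq.respectTransparency false
universe u
open CategoryTheory CategoryTheory.Limits AlgebraicGeometry
open Variety

namespace Groth.Agent.S1518

/-- On a proper curve over a field, an invertible module admitting a nonzero global section has degree
at least zero. Degree is the Euler characteristic of the module minus that of the structure sheaf. -/
theorem result (k : Type u) [Field k] (X : Scheme.{u}) [X.Over (Spec (CommRingCat.of k))]
    [IsIntegral X] [IsProper (X ↘ (Spec (CommRingCat.of k)))] (hdim : topologicalKrullDim X = 1)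
    (L : X.Modules) (hL : PicF.IsInvertible L) (s : Coh.structureModule X ⟶ L) (hs : s ≠ 0) :
    0 ≤ Curv2.deg k X L 1 := by
  obtain ⟨σ, rfl⟩ := Groth.Agent.InvPow.exists_globalHom_eq s
  have hσ : σ ≠ 0 := fun h => hs (Scheme.Modules.hom_ext _ _ fun V => AddCommGrpCat.ext fun (r : Γ(X, V)) => by
    rw [Groth.Agent.ProjTwist.globalHom_app, h, map_zero, smul_zero]
    rfl)
  exact Groth.Agent.CurveDeg.deg_nonneg_of_section k hdim.le hL σ
    (Groth.Agent.CurveDeg.genOpen_nonempty_of_ne_zero hL hσ)
end Groth.Agent.S1518
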