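import Groth.Statements.S15183
import Mathlib
-- import your own Groth.Agent.* helpers here

set_option autoImplicit false
universe u v
open Polynomial
open BddFin

namespace Groth.Agent.S15183

/-- Let K be a field such that K contains all roots of unity (for every n ≥ 1 the polynomial X^n − 1
splits into linear factors over K), and A a finite-dimensional central simple K-algebra which is not
a division algebra (some non-zero element is not a unit). Then the quotient of the unit group of A
by that of K has elements of every finite order invertible in K: for every d ≥ 1 with d ≠ 0 in K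
there is a unit x of A with x ^ d in K and x ^ k not in K for 0 < k < d. (The published assertion is
phrased for the automorphism group of the Severi–Brauer variety of A, which is isomorphic to the
units of A modulo those of K; this row is the algebra-side statement its proof establishes.) -/
theorem result
    (K : Type u) [Field K] (hK : ∀ n : ℕ, 0 < n → (X ^ n - 1 : K[X]).Splits)
    (A : Type v) [Ring A] [Algebra K A] [Algebra.IsCentral K A] [IsSimpleRing A] [FiniteDimensional K A]
    (hA : ∃ y : A, y ≠ 0 ∧ ¬ IsUnit y) (d : ℕ) (hd : 0 < d) (hdK : (d : K) ≠ 0) :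
    ∃ x : A, IsUnit x ∧ x ^ d ∈ (algebraMap K A).range ∧
      ∀ k : ℕ, 0 < k → k < d → x ^ k ∉ (algebraMap K A).range := by
  haveI : IsArtinianRing A := IsArtinianRing.of_finite K A
  haveI : IsSemisimpleRing A := inferInstance
  obtain ⟨y, hy0, hyu⟩ := hA
  let L : Submodule A A := Submodule.span A {y}
  obtain ⟨J, hJ⟩ := exists_isCompl L
  obtain ⟨e, he, f, hf, hef⟩ := Submodule.mem_sup.1 (hJ.sup_eq_top ▸ Submodule.mem_top (x := (1 : A)))
  have hfac : ∀ l ∈ L, l * e = l := by
    intro l hl
    have h1 : l - l * e = l * f := by rw [sub_eq_iff_eq_add, ← mul_add, add_comm f, hef, mul_one]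
    have hL : l - l * e ∈ L := sub_mem hl (L.smul_mem l he)
    have hJ' : l - l * e ∈ J := h1 ▸ J.smul_mem l hf
    exact (sub_eq_zero.1 (Submodule.disjoint_def.1 hJ.disjoint _ hL hJ')).symm
  have hee : e * e = e := hfac e he
  haveI : Nontrivial A := ⟨⟨y, 0, hy0⟩⟩
  have hnotscalar : ∀ c : K, e ≠ algebraMap K A c := by
    intro c hc
    have hcc : c * c = c := (algebraMap K A).injective (by rw [map_mul, ← hc, hee])
    rcases eq_or_ne c 0 with rfl | hc0
    · rw [map_zero] at hc
      exact hy0 (by rw [← hfac y (Submodule.mem_span_singleton_self y), hc, mul_zero])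
    · have hc1 : c = 1 := mul_left_cancel₀ hc0 (hcc.trans (mul_one c).symm)
      rw [hc1, map_one] at hc
      rw [hc] at he
      obtain ⟨z, hz⟩ := Submodule.mem_span_singleton.1 he
      apply hyu
      exact IsUnit.of_mul_eq_one z (mul_eq_one_comm.1 hz)
  haveI : NeZero (d : K) := ⟨hdK⟩
  obtain ⟨ζ, hζ⟩ : ∃ ζ : K, IsPrimitiveRoot ζ d := by
    have hsp : (Polynomial.cyclotomic d K).Splits :=
      (hK d hd).of_dvd (Polynomial.X_pow_sub_C_ne_zero hd 1) (Polynomial.cyclotomic.dvd_X_pow_sub_one d K)
    obtain ⟨ζ, hζ⟩ := hsp.exists_eval_eq_zero (by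
      rw [Polynomial.degree_cyclotomic]
      exact_mod_cast (Nat.totient_pos.2 hd).ne')
    exact ⟨ζ, Polynomial.isRoot_cyclotomic_iff.1 hζ⟩
  let x : A := algebraMap K A ζ * e + (1 - e)
  have h0 : e * (1 - e) = 0 := by rw [mul_sub, mul_one, hee, sub_self]
  have h0' : (1 - e) * e = 0 := by rw [sub_mul, one_mul, hee, sub_self]
  have hpow : ∀ k : ℕ, x ^ k = algebraMap K A (ζ ^ k) * e + (1 - e) := by
    intro k
    induction k with
    | zero => simp
    | succ k ih =>
      have h1 : (1 - e) * (1 - e) = 1 - e := by rw [mul_sub, mul_one, h0', sub_zero]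
      rw [pow_succ, ih, add_mul, mul_add, mul_add, mul_assoc, ← mul_assoc e, ← Algebra.commutes ζ e, mul_assoc (algebraMap K A ζ), hee,
        ← mul_assoc, ← map_mul, ← pow_succ, mul_assoc, h0, mul_zero, add_zero, ← mul_assoc (1 - e), ← Algebra.commutes ζ (1 - e),
        mul_assoc, h0', mul_zero, zero_add, h1]
  have hxd : x ^ d = 1 := by rw [hpow, hζ.pow_eq_one, map_one, one_mul, add_sub_cancel]
  refine ⟨x, IsUnit.of_pow_eq_one hxd hd.ne', ⟨1, by rw [hxd, map_one]⟩, ?_⟩
  rintro k hk hkd ⟨c, hc⟩
  rw [hpow] at hc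
  have hne : ζ ^ k - 1 ≠ 0 := sub_ne_zero.2 (hζ.pow_ne_one_of_pos_of_lt hk.ne' hkd)
  apply hnotscalar ((c - 1) / (ζ ^ k - 1))
  have h2 : algebraMap K A (c - 1) = algebraMap K A (ζ ^ k - 1) * e := by
    rw [map_sub, map_one, hc, map_sub, map_one, sub_mul, one_mul]
    abel
  rw [div_eq_inv_mul, map_mul, h2, ← mul_assoc, ← map_mul, inv_mul_cancel₀ hne, map_one, one_mul]

end Groth.Agent.S15183
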