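import Groth.Statements.S1520
import Groth.Agent.CurveDeg.Basic
import Groth.Agent.ProjTwist.LocTriv
import Groth.Agent.ProjUniv.Basis
-- import your own Groth.Agent.* helpers here

set_option autoImplicit false
set_option backward.isDefEq.respectTransparency false
universe u
open CategoryTheory CategoryTheory.Limits AlgebraicGeometry
open Variety

namespace Groth.Agent.S1520

/-- On a proper curve over a field, an invertible module of degree at most zero which has a nonzero
global section is isomorphic to the structure sheaf. -/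
theorem result (k : Type u) [Field k] (X : Scheme.{u}) [X.Over (Spec (CommRingCat.of k))]
    [IsIntegral X] [IsProper (X ↘ (Spec (CommRingCat.of k)))] (hdim : topologicalKrullDim X = 1)
    (L : X.Modules) (hL : PicF.IsInvertible L) (s : Coh.structureModule X ⟶ L) (hs : s ≠ 0)
    (hdeg : Curv2.deg k X L 1 ≤ 0) :
    Nonempty (L ≅ Coh.structureModule X) := by
  obtain ⟨σ, rfl⟩ := Groth.Agent.InvPow.exists_globalHom_eq s
  have hσ : σ ≠ 0 := fun h => hs (Scheme.Modules.hom_ext _ _ fun V => AddCommGrpCat.ext fun (r : Γ(X, V)) => by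
    rw [Groth.Agent.ProjTwist.globalHom_app, h, map_zero, smul_zero]
    rfl)
  have h : Groth.Agent.ProjUniv.genOpen hL σ = ⊤ := top_unique fun x _ => by
    by_contra hx
    exact absurd hdeg (not_le.2 (Groth.Agent.CurveDeg.deg_pos_of_section k hdim.le hL σ
      (Groth.Agent.CurveDeg.genOpen_nonempty_of_ne_zero hL hσ) hx))
  refine (Groth.Agent.ProjTwist.nonempty_structureModule_iso L σ fun W => ?_).map fun e => e.symm
  have hW : W ≤ Groth.Agent.ProjUniv.genOpen hL σ := h ▸ le_top
  have hb := Groth.Agent.ProjUniv.isBasis_genOpen hL σ W hW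
  rw [show L.presheaf.map (homOfLE hW).op (Groth.Agent.ProjUniv.gres L σ (Groth.Agent.ProjUniv.genOpen hL σ)) =
    L.presheaf.map (homOfLE (le_top : W ≤ ⊤)).op σ from Groth.Agent.ProjTwist.map_map L _ _ σ] at hb
  exact hb

end Groth.Agent.S1520
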