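import Groth.Statements.S15218
import Groth.Agent.ShStabLib.Crit

set_option autoImplicit false
set_option backward.isDefEq.respectTransparency false
open CategoryTheory CategoryTheory.Limits AlgebraicGeometry Polynomial
universe u
open ShStab

namespace Groth.Agent.S15218

/-- Let X be a scheme proper over a field k with an ample invertible sheaf L, all Hilbert polynomials
being taken with respect to L, and let d ≥ 1. For an O_X-module E the following are equivalent: (i)
E is stable of dimension d in the sense of Gieseker, i.e. coherent, nonzero, pure of dimension d,
with reduced Hilbert polynomial p(F) < p(E) for every nonzero proper coherent submodule F; (ii) E is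
ℓ-stable of dimension d for ℓ = d, i.e. coherent, nonzero, pure of dimension d, and p_d(F) < p_d(E)
for the reduced d-truncated Hilbert polynomials of every coherent submodule F whose multiplicity
satisfies 0 < α_d(F) < α_d(E). (The published remark is made for coherent sheaves on a connected
smooth projective variety with a very ample polarisation and records no argument; this row states
the equivalence for X proper over any field with L ample.) -/
theorem result (k : Type u) [Field k] (X : Scheme.{u})
    [X.Over (Spec (CommRingCat.of k))] [IsProper (X ↘ Spec (CommRingCat.of k))]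
    (L : X.Modules) (hL : CohB1.IsAmple L) (d : ℕ) (hd : 1 ≤ d) (E : X.Modules) :
    ShStab.IsStable k X L E d ↔ ShStab.IsEllStable k X L E d d := by
  rw [ShStabLib.stable_iff_mid k hL E]
  refine and_congr_right fun hE => and_congr_right fun _ => and_congr_right fun hp => ?_
  have hd' := ShStabLib.dim_le_of_isPure hE hp
  have key : ∀ (F : X.Modules) (ι : F ⟶ E), Mono ι → Coh.IsCoh F →
      StabCat.topPart d d (ShStabLib.hp k L F) = ShStabLib.hp k L F := fun F ι _ hF =>
    ShStabLib.topPart_self le_rfl (ShStabLib.natDegree_hp_le k hL hF (ShStabLib.dim_support_le_of_mono ι hd'))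
  have keyE := key E (𝟙 E) inferInstance hE
  refine ⟨fun h F ι hm hF pF pE a b h1 h2 => ?_, fun h F ι hm hF h1 h2 => ?_⟩
  · rw [ShStabLib.eq_hp k hL hF a, ShStabLib.eq_hp k hL hE b] at *
    rw [StabLattice.redLT_iff, key F ι hm hF, keyE]
    exact h F ι hm hF h1 h2
  · have := (StabLattice.redLT_iff d).mp (h F ι hm hF _ _ (ShStabLib.hp_spec k hL hF) (ShStabLib.hp_spec k hL hE) h1 h2)
    rwa [key F ι hm hF, keyE] at this
end Groth.Agent.S15218
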