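import Groth.Statements.S15224
import Mathlib.Tactic
import Mathlib.Data.Nat.Choose.Sum
import Mathlib.Data.Nat.Choose.Cast
-- import your own Groth.Agent.* helpers here

set_option autoImplicit false
open Finset
open W4c2rk2extmaps

namespace Groth.Agent.S15224

/-- In a commutative ℚ-algebra R let y be an element and put c_k = y^k / k! for every k. Then for k ≥ 2,
Σ_{i=1}^{k-1} (-1)^(i-1) c_i c_(k-i) + (-1)^(k-1) c_k = c_k. (The published statement concerns the
Chern classes of a specific vector bundle on a Jacobian, which are of the form c_k = (4θ)^k / k!;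
the printed argument establishes the identity for every sequence of this form in a commutative
ℚ-algebra, which is the form stated here.) -/
theorem result (R : Type*) [CommRing R] [Algebra ℚ R] (y : R)
    (c : ℕ → R) (hc : ∀ k : ℕ, c k = ((Nat.factorial k : ℚ)⁻¹) • y ^ k)
    (k : ℕ) (hk : 2 ≤ k) :
    (∑ i ∈ Finset.Ico 1 k, (-1 : R) ^ (i - 1) * c i * c (k - i)) + (-1 : R) ^ (k - 1) * c k = c k := by
  have hcc : ∀ i ∈ Finset.range (k + 1), (-1 : R) ^ i * c i * c (k - i) =
      ((k.factorial : ℚ)⁻¹) • ((-y) ^ i * y ^ (k - i) * (k.choose i : R)) := by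
    intro i hi
    rw [Finset.mem_range] at hi
    rw [hc, hc, neg_pow y i, mul_smul_comm, mul_smul_comm, smul_mul_assoc, smul_smul,
      show (k.choose i : R) = algebraMap ℚ R (k.choose i : ℚ) by simp, ← Algebra.commutes, ← Algebra.smul_def,
      smul_smul]
    congr 1
    rw [Nat.cast_choose ℚ (show i ≤ k by omega)]
    field_simp
  have htot : ∑ i ∈ Finset.range (k + 1), (-1 : R) ^ i * c i * c (k - i) = 0 := by
    rw [Finset.sum_congr rfl hcc, ← Finset.smul_sum, ← add_pow, neg_add_cancel, zero_pow (by omega), smul_zero]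
  have hc0 : c 0 = 1 := by rw [hc]; simp
  rw [Finset.sum_range_succ, Finset.range_eq_Ico, Finset.sum_eq_sum_Ico_succ_bot (by omega),
    Nat.sub_self, hc0] at htot
  simp only [pow_zero, one_mul, mul_one, Nat.sub_zero] at htot
  have hs : ∑ i ∈ Finset.Ico 1 k, (-1 : R) ^ (i - 1) * c i * c (k - i) =
      - ∑ i ∈ Finset.Ico (0 + 1) k, (-1 : R) ^ i * c i * c (k - i) := by
    rw [← Finset.sum_neg_distrib]
    refine Finset.sum_congr rfl fun i hi => ?_
    rw [Finset.mem_Ico] at hi
    conv_rhs => rw [show i = i - 1 + 1 by omega, pow_succ]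
    rw [show i - 1 + 1 = i by omega]
    ring
  rw [hs, hc0] at *
  rw [show (-1 : R) ^ k = (-1) ^ (k - 1) * (-1) by rw [← pow_succ, show k - 1 + 1 = k by omega]] at htot
  linear_combination -htot

end Groth.Agent.S15224
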