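import Groth.Statements.S15229
import Mathlib
-- import your own Groth.Agent.* helpers here

set_option autoImplicit false
open Finset
open W4c2rk2extmaps

namespace Groth.Agent.S15229

open Finset in
theorem coeff_sum (k : ℕ) (hk : 1 ≤ k) :
    ∑ i ∈ Ico 1 (k + 1), (-1 : ℚ) ^ (i - 1) * ((i.factorial : ℚ)⁻¹ * ((k - i).factorial : ℚ)⁻¹)
      = (k.factorial : ℚ)⁻¹ := by
  have h0 : ((∑ m ∈ range (k + 1), ((-1) ^ m * k.choose m : ℤ) : ℤ) : ℚ) = 0 := by
    rw [Int.alternating_sum_range_choose_of_ne (by omega)]; simp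
  push_cast at h0
  rw [range_eq_Ico, Finset.sum_eq_sum_Ico_succ_bot (by omega : 0 < k + 1)] at h0
  have e : ∀ i ∈ Ico 1 (k + 1), (-1 : ℚ) ^ (i - 1) * ((i.factorial : ℚ)⁻¹ * ((k - i).factorial : ℚ)⁻¹)
      = -((-1 : ℚ) ^ i * k.choose i) * (k.factorial : ℚ)⁻¹ := fun i hi => by
    rw [mem_Ico] at hi
    rw [Nat.cast_choose ℚ (show i ≤ k by omega)]
    obtain ⟨j, rfl⟩ : ∃ j, i = j + 1 := ⟨i - 1, by omega⟩
    have : (k.factorial : ℚ) ≠ 0 := by exact_mod_cast k.factorial_ne_zero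
    field_simp
    simp only [Nat.add_sub_cancel]
    ring
  rw [Finset.sum_congr rfl e, ← Finset.sum_mul, Finset.sum_neg_distrib]
  simp only [pow_zero, Nat.choose_zero_right, Nat.cast_one, mul_one, zero_add] at h0
  rw [show -∑ i ∈ Ico 1 (k + 1), (-1 : ℚ) ^ i * (k.choose i) = 1 by linarith, one_mul]

open Finset in
theorem key {R : Type*} [CommRing R] [Algebra ℚ R]
    (θ η : R) (g : ℕ) (c : ℕ → R)
    (hc : ∀ k : ℕ, c k = ((Nat.factorial k : ℚ)⁻¹) • ((4 : R) * θ) ^ k)
    (hθ : θ ^ (g + 1) = 0)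
    (hrel : η ^ (g + 1) = ∑ i ∈ Ico 1 (g + 2), (-1 : R) ^ (i - 1) * c i * η ^ (g + 1 - i))
    (k : ℕ) : k ≤ g → η ^ (g + k) * θ ^ (g - k) = c k * η ^ g * θ ^ (g - k) := by
  induction k using Nat.strong_induction_on with
  | _ k ih =>
    intro hkg
    let a : ℕ → R := fun i => algebraMap ℚ R ((Nat.factorial i : ℚ)⁻¹)
    have hc' : ∀ i, c i = a i * (4 ^ i * θ ^ i) := fun i => by
      rw [hc, Algebra.smul_def, mul_pow]
    rcases Nat.eq_zero_or_pos k with rfl | hk
    · simp [hc']; simp [a]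
    rw [show η ^ (g + k) = η ^ (g + 1) * η ^ (k - 1) by rw [← pow_add]; congr 1; omega, hrel,
      Finset.sum_mul, Finset.sum_mul,
      ← Finset.sum_Ico_consecutive _ (by omega : 1 ≤ k + 1) (by omega : k + 1 ≤ g + 2)]
    have hz : ∀ i ∈ Ico (k + 1) (g + 2),
        (-1 : R) ^ (i - 1) * c i * η ^ (g + 1 - i) * η ^ (k - 1) * θ ^ (g - k) = 0 := fun i hi => by
      rw [mem_Ico] at hi
      have h0 : θ ^ i * θ ^ (g - k) = 0 := by
        rw [← pow_add, show i + (g - k) = (g + 1) + (i + (g - k) - (g + 1)) by omega, pow_add, hθ,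
          zero_mul]
      rw [hc']
      linear_combination (-1 : R) ^ (i - 1) * a i * 4 ^ i * η ^ (g + 1 - i) * η ^ (k - 1) * h0
    rw [Finset.sum_eq_zero hz, add_zero]
    have he : ∀ i ∈ Ico 1 (k + 1),
        (-1 : R) ^ (i - 1) * c i * η ^ (g + 1 - i) * η ^ (k - 1) * θ ^ (g - k) =
          algebraMap ℚ R ((-1 : ℚ) ^ (i - 1) * ((i.factorial : ℚ)⁻¹ * ((k - i).factorial : ℚ)⁻¹)) *
            (4 ^ k * η ^ g * θ ^ g) := fun i hi => by
      rw [mem_Ico] at hi
      have h1 := ih (k - i) (by omega) (by omega)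
      rw [hc' (k - i)] at h1
      have e1 : η ^ (g + 1 - i) * η ^ (k - 1) = η ^ (g + (k - i)) := by
        rw [← pow_add]; congr 1; omega
      have e2 : θ ^ i * θ ^ (g - k) = θ ^ (g - (k - i)) := by
        rw [← pow_add]; congr 1; omega
      have e3 : θ ^ (k - i) * θ ^ (g - (k - i)) = θ ^ g := by
        rw [← pow_add]; congr 1; omega
      have e4 : (4 : R) ^ k = 4 ^ i * 4 ^ (k - i) := by
        rw [← pow_add]; congr 1; omega
      rw [map_mul, map_mul, map_pow, map_neg, map_one, hc' i, e4]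
      calc _ = (-1 : R) ^ (i - 1) * a i * 4 ^ i *
            ((η ^ (g + 1 - i) * η ^ (k - 1)) * (θ ^ i * θ ^ (g - k))) := by ring
        _ = (-1 : R) ^ (i - 1) * a i * 4 ^ i *
            (a (k - i) * 4 ^ (k - i) * η ^ g * (θ ^ (k - i) * θ ^ (g - (k - i)))) := by
            rw [e1, e2, h1]; ring
        _ = _ := by rw [e3]; ring
    rw [Finset.sum_congr rfl he, ← Finset.sum_mul, ← map_sum, coeff_sum k hk, hc' k]
    have e5 : θ ^ k * θ ^ (g - k) = θ ^ g := by rw [← pow_add]; congr 1; omega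
    rw [← e5]
    ring

/-- In a commutative ℚ-algebra R let θ, η be elements and g a natural number, and put c_k = (4θ)^k / k!.
Suppose θ^(g+1) = 0 and that η satisfies the relation η^(g+1) = Σ_{i=1}^{g+1} (-1)^(i-1) c_i
η^(g+1-i). Then η^(g+k) θ^(g-k) = c_k η^g θ^(g-k) for every 1 ≤ k ≤ g. (The published statement
concerns the first Chern class η of the tautological line bundle on a projective bundle P(U) over a
g-dimensional Jacobian, with c_k the Chern classes of U, which are (4θ)^k / k!; there θ^(g+1)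
vanishes for dimension reasons and the displayed relation is the projective-bundle relation, and the
printed argument derives the identity from exactly these three inputs, which is the form stated
here.) -/
theorem result (R : Type*) [CommRing R] [Algebra ℚ R]
    (θ η : R) (g : ℕ) (c : ℕ → R) (hc : ∀ k : ℕ, c k = ((Nat.factorial k : ℚ)⁻¹) • ((4 : R) * θ) ^ k)
    (hθ : θ ^ (g + 1) = 0)
    (hrel : η ^ (g + 1) = ∑ i ∈ Finset.Ico 1 (g + 2), (-1 : R) ^ (i - 1) * c i * η ^ (g + 1 - i))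
    (k : ℕ) (hk1 : 1 ≤ k) (hkg : k ≤ g) :
    η ^ (g + k) * θ ^ (g - k) = c k * η ^ g * θ ^ (g - k) := by
  exact key θ η g c hc hθ hrel k hkg

end Groth.Agent.S15229
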