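import Groth.Statements.S15231
import Groth.Agent.DRingPC.LTensorValue
-- import your own Groth.Agent.* helpers here

set_option autoImplicit false
universe u
open CategoryTheory CategoryTheory.Limits
attribute [local instance] HasDerivedCategory.standard
open DRing

namespace Groth.Agent.S15231

/-- Let R be a Noetherian local commutative ring with residue field κ, let P be any object of D(R) and
a, b integers. Suppose that H^i(P ⊗^L_R κ) = 0 for every i outside [a, b] (over the field κ this
says exactly that P ⊗^L_R κ has tor amplitude in [a, b] as an object of D(κ)). Then for every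
R-module N of finite length, H^i(P ⊗^L_R N) = 0 for every i outside [a, b]. The derived base change
to κ and the derived tensor products with R-modules are the total left derived functors on D(R),
assumed to exist for every R-module (as they do). -/
theorem result (R : Type u) [CommRing R] [IsNoetherianRing R]
    [IsLocalRing R] [DRing.HasLBaseChange (IsLocalRing.residue R)] [∀ M : ModuleCat.{u} R, DRing.HasLTensor R M]
    (P : Dual.D R) (a b : ℤ)
    (h : ∀ i : ℤ, (i < a ∨ b < i) →
      Subsingleton (Dual.HD (IsLocalRing.ResidueField R) ((DRing.LBaseChange (IsLocalRing.residue R)).obj P) i))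
    (N : Type u) [AddCommGroup N] [Module R N] (hN : IsFiniteLength R N) (i : ℤ) (hi : i < a ∨ b < i) :
    Subsingleton (Dual.HD R ((DRing.LTensor R (ModuleCat.of R N)).obj P) i) := by
  obtain ⟨E, hE, hfl, ⟨e⟩⟩ := Groth.Agent.DRingPC.exists_kFlat_rep P
  refine (Groth.Agent.DRingPC.subsingleton_LTensor_iff _ hE e i).2 ?_
  have hres : ((Groth.Agent.DRingPC.tcx (ModuleCat.of R (IsLocalRing.ResidueField R))).obj E).ExactAt i := by
    haveI : DRing.HasLBaseChange (algebraMap R (IsLocalRing.ResidueField R)) :=
      (inferInstance : DRing.HasLBaseChange (IsLocalRing.residue R))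
    have h' := (Groth.Agent.DRingPC.subsingleton_iff_isZero _).1 (h i hi)
    refine (Groth.Agent.DRingPC.exactAt_tensor_cancel (S := IsLocalRing.ResidueField R)
      (IsLocalRing.ResidueField R) E i).1 ?_
    refine HomologicalComplex.ExactAt.of_iso (K := (Groth.Agent.LBC.ext
      (algebraMap R (IsLocalRing.ResidueField R))).obj E) ?_
      ((Functor.mapHomologicalComplexIdIso _ _).symm.app _ ≪≫
        ((NatIso.mapHomologicalComplex (CategoryTheory.MonoidalCategory.leftUnitorNatIso
          (ModuleCat.{u} (IsLocalRing.ResidueField R))) _).app _).symm)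
    rw [HomologicalComplex.exactAt_iff_isZero_homology]
    exact h'.of_iso ((Groth.Agent.PCohLib.homologyQIso _ i).symm ≪≫
      (DerivedCategory.homologyFunctor _ i).mapIso
        ((Groth.Agent.DRingPC.lbcValueIso (algebraMap R (IsLocalRing.ResidueField R)) E hE).symm ≪≫
          (DRing.LBaseChange (IsLocalRing.residue R)).mapIso e))
  obtain ⟨n, hn⟩ : ∃ n : ℕ, IsLocalRing.maximalIdeal R ^ n • (⊤ : Submodule R N) = ⊥ := by
    clear hres e hfl hE E h
    induction hN with
    | of_subsingleton => exact ⟨0, Subsingleton.elim _ _⟩
    | @of_simple_quotient M _ _ L _ _ ih =>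
      obtain ⟨n, hn⟩ := ih
      refine ⟨n + 1, eq_bot_iff.2 ?_⟩
      have h1 : IsLocalRing.maximalIdeal R • (⊤ : Submodule R M) ≤ L := by
        rw [← Submodule.ker_mkQ L, LinearMap.le_ker_iff_map, Submodule.map_smul'',
          ← LinearMap.range_eq_map, Submodule.range_mkQ]
        refine (eq_bot_or_eq_top _).resolve_right fun htop => ?_
        haveI := IsSimpleModule.nontrivial R (M ⧸ L)
        exact top_ne_bot (Submodule.eq_bot_of_le_smul_of_le_jacobson_bot (IsLocalRing.maximalIdeal R) ⊤
          Module.Finite.fg_top htop.ge (IsLocalRing.jacobson_eq_maximalIdeal ⊥ bot_ne_top).ge)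
      rw [pow_succ, Submodule.mul_smul]
      refine (smul_mono_right _ h1).trans ?_
      rw [← L.range_subtype, LinearMap.range_eq_map, ← Submodule.map_smul'', hn, Submodule.map_bot]
  refine Groth.Agent.DRingPC.exactAt_tensor_of_pow (IsLocalRing.maximalIdeal R) E hfl i (fun N' hN' => ?_)
    n (ModuleCat.of R N) ?_
  · letI : Module (IsLocalRing.ResidueField R) N' := hN'.module
    haveI : IsScalarTower R (IsLocalRing.ResidueField R) N' := hN'.isScalarTower
    exact Groth.Agent.DRingPC.exactAt_tensor_of_field (S := IsLocalRing.ResidueField R) i hres N'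
  · exact hn

end Groth.Agent.S15231
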