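import Groth.Statements.S15232
import Groth.Agent.DRingPC.Nilpotent
-- import your own Groth.Agent.* helpers here

set_option autoImplicit false
universe u
open CategoryTheory CategoryTheory.Limits
attribute [local instance] HasDerivedCategory.standard
open DRing

namespace Groth.Agent.S15232

/-- Let R be a Noetherian commutative ring and I an ideal contained in the Jacobson radical of R, and
assume the derived base change D(R) → D(R/I) exists. Let P be a pseudo-coherent object of D(R) and
a, b integers. If P ⊗^L_R R/I has tor amplitude in [a, b] as an object of D(R/I), then P has tor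
amplitude in [a, b] as an object of D(R). Tor amplitude is taken in the flat-representative form
(isomorphic in the derived category to a complex of flat modules vanishing outside [a, b]). -/
theorem result (R : Type u) [CommRing R] [IsNoetherianRing R]
    (I : Ideal R) (hI : I ≤ Ideal.jacobson (⊥ : Ideal R)) [DRing.HasLBaseChange (Ideal.Quotient.mk I)]
    (P : Dual.D R) (hP : DRing.IsPseudoCoherent' R P) (a b : ℤ)
    (h : DRing.HasTorAmplitudeIn (R ⧸ I) a b ((DRing.LBaseChange (Ideal.Quotient.mk I)).obj P)) :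
    DRing.HasTorAmplitudeIn R a b P := by
  obtain ⟨Z, hz, hZ, ⟨eZ⟩⟩ := h
  refine (Groth.Agent.DRingPC.exists_rep_of_fibres hP a b fun E b' hE hzE he i hi m hm => ?_).2
  obtain ⟨e⟩ := he
  haveI := Groth.Agent.PCohLib.isKProjective_of_mem (P := Groth.Agent.DRingPC.FPj R)
    (Groth.Agent.DRingPC.FPj.lift R) E (fun j => Groth.Agent.DRingPC.FF.toFPj R (hE j)) b' hzE
  haveI : DRing.HasLBaseChange (algebraMap R (R ⧸ I)) :=
    (inferInstance : DRing.HasLBaseChange (Ideal.Quotient.mk I))
  have hp : ∀ j, Module.Projective (R ⧸ I)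
      (((Groth.Agent.LBC.ext (algebraMap R (R ⧸ I))).obj E).X j) := fun j =>
    (Groth.Agent.DRingPC.FPj_extend _ (Groth.Agent.DRingPC.FF.toFPj R (hE j))).2
  have hv := (Groth.Agent.DRingPC.torAmp_iff hp b'
    (fun j hj => (ModuleCat.extendScalars.{u, u, u} _).map_isZero (hzE j hj))
    ((Groth.Agent.LBC.valueIso (algebraMap R (R ⧸ I)) E).symm ≪≫
      (DRing.LBaseChange (Ideal.Quotient.mk I)).mapIso e) a b).1 ⟨Z, hz, hZ, ⟨eZ⟩⟩
  have hIm : I ≤ m := hI.trans (sInf_le ⟨bot_le, hm⟩)
  letI : Algebra (R ⧸ I) (R ⧸ m) := (Ideal.Quotient.factor hIm).toAlgebra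
  haveI : IsScalarTower R (R ⧸ I) (R ⧸ m) := IsScalarTower.of_algebraMap_eq fun _ => rfl
  exact (Groth.Agent.DRingPC.exactAt_tensor_cancel (S := R ⧸ I) (R ⧸ m) E i).1 (hv _ i hi)

end Groth.Agent.S15232
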