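import Mathlib
import Groth.Statements.S15233
-- import your own Groth.Agent.* helpers here

set_option autoImplicit false
universe u
open CategoryTheory CategoryTheory.Limits Opposite
open CohSite

namespace Groth.Agent.S15233

/-- Let C be a small category with a Grothendieck topology J, and let B be a class of objects forming a
prebasis: for every object V and every covering sieve S of V, the arrows of S whose domain lies in B
generate a covering sieve of V. If F is a presheaf of abelian groups on C such that F(U) = 0 for
every object U in B, then the sheafification of F is zero. -/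
theorem result {C : Type u} [SmallCategory C] (J : GrothendieckTopology C)
    (B : ObjectProperty C)
    (hB : ∀ (V : C) (S : Sieve V), S ∈ J V →
      Sieve.generate (fun (U : C) => {g : U ⟶ V | S.arrows g ∧ B U}) ∈ J V)
    (F : Cᵒᵖ ⥤ AddCommGrpCat.{u}) (hF : ∀ U : C, B U → IsZero (F.obj (op U))) :
    IsZero ((presheafToSheaf J AddCommGrpCat.{u}).obj F) := by
  have key : ∀ (G : Sheaf J AddCommGrpCat.{u}) (η : F ⟶ G.val), η = 0 := by
    intro G η
    ext V x
    have hcov := hB V.unop ⊤ (J.top_mem _)
    have hGsheaf : Presheaf.IsSheaf J (G.val ⋙ forget AddCommGrpCat) :=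
      (Presheaf.isSheaf_iff_isSheaf_forget J G.val (forget AddCommGrpCat)).1 G.cond
    have hsh := (isSheaf_iff_isSheaf_of_type J (G.val ⋙ forget AddCommGrpCat)).1 hGsheaf _ hcov
    refine hsh.isSeparatedFor.ext fun W f hf => ?_
    obtain ⟨U, h, g, ⟨-, hU⟩, rfl⟩ := hf
    have hzero : ∀ y : F.obj (op U), η.app (op U) y = 0 := fun y => by
      haveI := AddCommGrpCat.subsingleton_of_isZero (hF U hU)
      rw [Subsingleton.elim y 0, map_zero]
    show G.val.map (h ≫ g).op (η.app V x) = G.val.map (h ≫ g).op ((0 : F ⟶ G.val).app V x)
    have e : G.val.map g.op (η.app V x) = 0 := by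
      have := congrArg (fun φ => φ x) (η.naturality g.op)
      simp only [AddCommGrpCat.comp_apply] at this
      rw [← this, hzero]
    rw [op_comp, Functor.map_comp, AddCommGrpCat.comp_apply, e, map_zero]
    simp
  rw [IsZero.iff_id_eq_zero]
  apply ((sheafificationAdjunction J AddCommGrpCat.{u}).homEquiv _ _).injective
  rw [key _ (((sheafificationAdjunction J AddCommGrpCat.{u}).homEquiv _ _) 0)]
  exact key _ _

end Groth.Agent.S15233
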