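import Groth.Statements.S15235
import Mathlib

set_option autoImplicit false
universe u
open CategoryTheory Opposite
open HomAlg3

namespace Groth.Agent.S15235

/-- Let (G_j) be an inverse system of abelian groups indexed by the natural numbers, with transition
maps G_{j+1} → G_j, and let j₀ be a natural number such that the transition map G_{j+1} → G_j is
surjective for every j ≥ j₀. Then: (a) the system satisfies the Mittag-Leffler condition; (b) the
evaluation map from the inverse limit (realised as the set of compatible families) to G_{j₀} is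
surjective; (c) if in addition the transition maps G_{j+1} → G_j are injective for every j ≥ j₀,
that evaluation map is bijective. (The published statement indexes the system by the negative
integers and assumes j₀ ≥ 1; this row indexes it by the natural numbers and allows j₀ = 0, which
changes nothing.) -/
theorem result (G : ℕᵒᵖ ⥤ AddCommGrpCat.{u})
    (j₀ : ℕ) (hs : ∀ j : ℕ, j₀ ≤ j → Function.Surjective (G.map (homOfLE (Nat.le_succ j)).op).hom) :
    (G ⋙ forget AddCommGrpCat.{u}).IsMittagLeffler ∧
      Function.Surjective (fun s : (G ⋙ forget AddCommGrpCat.{u}).sections => s.1 (op j₀)) ∧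
      ((∀ j : ℕ, j₀ ≤ j → Function.Injective (G.map (homOfLE (Nat.le_succ j)).op).hom) →
        Function.Bijective (fun s : (G ⋙ forget AddCommGrpCat.{u}).sections => s.1 (op j₀))) := by
  let F := G ⋙ forget AddCommGrpCat.{u}
  have hsurj : ∀ m n (hmn : m ≤ n), j₀ ≤ m → Function.Surjective (G.map (homOfLE hmn).op).hom := by
    intro m n hmn hm
    induction n, hmn using Nat.le_induction with
    | base =>
      intro y; refine ⟨y, ?_⟩
      rw [show (homOfLE le_rfl).op = 𝟙 (op m) from rfl, G.map_id]; rfl
    | succ n hmn ih =>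
      intro y
      obtain ⟨z, rfl⟩ := ih y
      obtain ⟨w, rfl⟩ := hs n (hm.trans hmn) z
      refine ⟨w, ?_⟩
      rw [show (homOfLE (hmn.trans (Nat.le_succ n))).op =
        (homOfLE (Nat.le_succ n)).op ≫ (homOfLE hmn).op from rfl, G.map_comp]; rfl
  have hcomp : ∀ (a b c : ℕᵒᵖ) (p : a ⟶ b) (q : b ⟶ c) (r : a ⟶ c) x,
      (G.map q).hom ((G.map p).hom x) = (G.map r).hom x := fun a b c p q r x => by
    rw [Subsingleton.elim r (p ≫ q), G.map_comp]; rfl
  -- a thread through any element above `j₀`
  have thread : ∀ x : G.obj (op j₀), ∃ s : F.sections, s.1 (op j₀) = x := by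
    intro x
    let z : ∀ k : ℕ, G.obj (op (j₀ + k)) := fun k => Nat.rec (motive := fun k => G.obj (op (j₀ + k)))
      x (fun k zk => Function.surjInv (hs (j₀ + k) (Nat.le_add_right _ _)) zk) k
    have hz : ∀ k, (G.map (homOfLE (Nat.le_succ (j₀ + k))).op).hom (z (k + 1)) = z k := fun k =>
      Function.surjInv_eq (hs (j₀ + k) (Nat.le_add_right _ _)) (z k)
    have hz' : ∀ k l (hkl : j₀ + k ≤ j₀ + l),
        (G.map (homOfLE hkl).op).hom (z l) = z k := by
      intro k l hkl
      obtain ⟨d, rfl⟩ := Nat.exists_eq_add_of_le (show k ≤ l by omega)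
      induction d with
      | zero =>
        rw [show (homOfLE hkl).op = 𝟙 (op (j₀ + k)) from rfl]
        erw [G.map_id]
        rfl
      | succ d ih =>
        rw [← hcomp (op (j₀ + (k + d + 1))) (op (j₀ + (k + d))) (op (j₀ + k))
          (homOfLE (by omega)).op (homOfLE (by omega)).op]
        exact (congrArg (G.map (homOfLE _).op).hom (hz (k + d))).trans (ih (by omega))
    refine ⟨⟨fun m => (G.map (homOfLE (Nat.le_add_left m.unop j₀)).op).hom (z m.unop), ?_⟩, ?_⟩
    · intro a b q
      show (G.map q).hom _ = _
      have hba : b.unop ≤ a.unop := leOfHom q.unop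
      rw [hcomp (op (j₀ + a.unop)) a b _ q (homOfLE (le_add_left hba)).op,
        ← hcomp (op (j₀ + a.unop)) (op (j₀ + b.unop)) b (homOfLE (by omega)).op
          (homOfLE (Nat.le_add_left b.unop j₀)).op (homOfLE (le_add_left hba)).op,
        hz' b.unop a.unop (by omega)]
    · show (G.map _).hom (z j₀) = x
      have := hz' 0 j₀ (by omega)
      exact this
  refine ⟨fun j => ?_, thread, fun hinj => ⟨?_, thread⟩⟩
  · refine ⟨op (max j.unop j₀), (homOfLE (le_max_left _ _)).op, fun k g => ?_⟩
    rintro _ ⟨x, rfl⟩
    obtain ⟨y, rfl⟩ := hsurj (max j.unop j₀) (max k.unop (max j.unop j₀)) (le_max_right _ _)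
      (le_max_right _ _) x
    refine ⟨(G.map (homOfLE (le_max_left k.unop (max j.unop j₀))).op).hom y, ?_⟩
    show (G.map g).hom _ = (G.map _).hom _
    rw [hcomp _ _ _ _ _ ((homOfLE (le_max_left k.unop (max j.unop j₀))).op ≫ g),
      hcomp _ _ _ _ _ ((homOfLE (le_max_left k.unop (max j.unop j₀))).op ≫ g)]
  · intro s t hst
    have hst' : s.1 (op j₀) = t.1 (op j₀) := hst
    have hall : ∀ m, j₀ ≤ m → s.1 (op m) = t.1 (op m) := by
      intro m hm
      induction m, hm using Nat.le_induction with
      | base => exact hst'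
      | succ m hm ih =>
        apply hinj m hm
        exact (s.2 (homOfLE (Nat.le_succ m)).op).trans (ih.trans (t.2 _).symm)
    refine Subtype.ext (funext fun m => ?_)
    have h1 := s.2 (j := op (max m.unop j₀)) (j' := m) (homOfLE (le_max_left _ _)).op
    have h2 := t.2 (j := op (max m.unop j₀)) (j' := m) (homOfLE (le_max_left _ _)).op
    rw [← h1, ← h2, hall _ (le_max_right _ _)]

end Groth.Agent.S15235
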