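import Groth.Statements.S15240
import Groth.Agent.S16130
-- import your own Groth.Agent.* helpers here

set_option autoImplicit false
set_option linter.style.haveILetI false
set_option backward.isDefEq.respectTransparency false
universe u
open CategoryTheory CategoryTheory.Limits MonoidalCategory CartesianMonoidalCategory MonObj GrpObj AlgebraicGeometry
open AGF
open Groth.Agent Groth.Agent.GrpSchField Groth.Agent.HomogSep TopologicalSpace

namespace Groth.Agent.S15240

/-- Let k be an algebraically closed field, B a connected solvable affine algebraic group over k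
(affine, smooth, connected, solvable k-group scheme) acting on a complete k-scheme X (separated, of
finite type and proper over k) with finitely many orbits (finitely many subsets of X arise as images
of orbit maps of k-points), and Y a separated k-scheme of finite type on which B acts trivially.
Then every closed irreducible subset Z of X ×_k Y which is stable under the translations by all
k-points of B (acting on the first factor) is of the form V × W: there are a B-stable closed
irreducible subset V of X and a closed irreducible subset W of Y with Z equal to the set of points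
whose two projections lie in V and in W. -/
theorem result (k : Type u) [Field k] [IsAlgClosed k]
    (B X Y : Over (Spec (CommRingCat.of k))) [GrpObj B] [IsAffine B.left] [Smooth B.hom] [ConnectedSpace ↥B.left]
    (hsolv : Red.IsSolvableGrp B)
    [IsProper X.hom]
    [IsSeparated Y.hom] [LocallyOfFiniteType Y.hom] [QuasiCompact Y.hom]
    (a : AlgGrp.Action B X)
    (hfin : Set.Finite {S : Set ↥X.left | ∃ x : 𝟙_ (Over (Spec (CommRingCat.of k))) ⟶ X, S = Set.range ⇑(a.orbitMap x).left.base})
    (Z : Set ↥(X ⊗ Y).left) (hZc : IsClosed Z) (hZi : IsIrreducible Z)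
    (hZs : ∀ b : 𝟙_ (Over (Spec (CommRingCat.of k))) ⟶ B,
      ⇑(CartesianMonoidalCategory.lift (CartesianMonoidalCategory.toUnit (X ⊗ Y) ≫ b) (𝟙 (X ⊗ Y)) ≫
          (α_ B X Y).inv ≫ (a.act ▷ Y)).left.base '' Z ⊆ Z) :
    ∃ (V : Set ↥X.left) (W : Set ↥Y.left), IsClosed V ∧ IsIrreducible V ∧ IsClosed W ∧ IsIrreducible W ∧
      (∀ b : 𝟙_ (Over (Spec (CommRingCat.of k))) ⟶ B,
        ⇑(CartesianMonoidalCategory.lift (CartesianMonoidalCategory.toUnit X ≫ b) (𝟙 X) ≫ a.act).left.base '' V ⊆ V) ∧
      Z = ⇑(CartesianMonoidalCategory.fst X Y).left.base ⁻¹' V ∩ ⇑(CartesianMonoidalCategory.snd X Y).left.base ⁻¹' W := by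
  haveI : JacobsonSpace X.left := LocallyOfFiniteType.jacobsonSpace X.hom
  haveI : LocallyOfFiniteType (X ⊗ Y).hom := inferInstanceAs (LocallyOfFiniteType (Limits.pullback.fst X.hom Y.hom ≫ X.hom))
  haveI : JacobsonSpace (X ⊗ Y).left := LocallyOfFiniteType.jacobsonSpace (X ⊗ Y).hom
  haveI : JacobsonSpace B.left := LocallyOfFiniteType.jacobsonSpace B.hom
  let O := {S : Set ↥X.left | ∃ x : 𝟙_ (Over (Spec (CommRingCat.of k))) ⟶ X, S = Set.range ⇑(a.orbitMap x).left.base}
  haveI : Finite O := hfin
  choose rep hrep using fun S : O => S.2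
  let sx : (𝟙_ (Over (Spec (CommRingCat.of k))) ⟶ X) → (Y ⟶ X ⊗ Y) := fun x => lift (toUnit Y ≫ x) (𝟙 Y)
  let sy : (𝟙_ (Over (Spec (CommRingCat.of k))) ⟶ Y) → (X ⟶ X ⊗ Y) := fun y => lift (𝟙 X) (toUnit X ≫ y)
  let T : O → Set (X ⊗ Y).left := fun S => (fst X Y).left ⁻¹' closure (S : Set X.left) ∩ (snd X Y).left ⁻¹' ((sx (rep S)).left ⁻¹' Z)
  have hcomm : ∀ (b : 𝟙_ (Over (Spec (CommRingCat.of k))) ⟶ B) (y : 𝟙_ (Over (Spec (CommRingCat.of k))) ⟶ Y),
      sy y ≫ (lift (toUnit (X ⊗ Y) ≫ b) (𝟙 (X ⊗ Y)) ≫ (α_ B X Y).inv ≫ (a.act ▷ Y)) = (translX a b).hom ≫ sy y := by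
    intro b y
    apply CartesianMonoidalCategory.hom_ext
    · simp only [sy, translX, Category.assoc, whiskerRight_fst, lift_fst, Category.comp_id]
      simp only [← Category.assoc]
      congr 1
      apply CartesianMonoidalCategory.hom_ext <;> simp only [comp_lift, comp_lift_assoc, Category.assoc, lift_fst, lift_snd, lift_fst_assoc, lift_snd_assoc, associator_inv_fst_fst, associator_inv_fst_snd, Category.comp_id]
      · rw [← Category.assoc, toUnit_unique (lift (𝟙 X) (toUnit X ≫ y) ≫ toUnit (X ⊗ Y)) (toUnit X)]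
    · simp [sy]
  have hpt : ∀ z ∈ closedPoints (X ⊗ Y).left, ∃ (u : 𝟙_ (Over (Spec (CommRingCat.of k))) ⟶ X) (y : 𝟙_ (Over (Spec (CommRingCat.of k))) ⟶ Y),
      z = (sy y).left (pt₀ u) ∧ z = (sx u).left (pt₀ y) ∧ (fst X Y).left z = pt₀ u ∧ (snd X Y).left z = pt₀ y := by
    intro z hz
    obtain ⟨s, rfl⟩ := exists_section_of_closed (A := X ⊗ Y) hz
    refine ⟨s ≫ fst X Y, s ≫ snd X Y, ?_, ?_, (comp_left_apply s (fst X Y) _).symm, (comp_left_apply s (snd X Y) _).symm⟩
    · show s.left _ = (sy _).left ((s ≫ fst X Y).left _)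
      rw [← comp_left_apply]
      rw [show (s ≫ fst X Y) ≫ sy (s ≫ snd X Y) = s by
        apply CartesianMonoidalCategory.hom_ext
        · simp [sy]
        · simp only [sy, Category.assoc, lift_snd]
          rw [← Category.assoc (fst X Y), ← Category.assoc s, toUnit_unique (s ≫ fst X Y ≫ toUnit X) (𝟙 _), Category.id_comp]]
    · show s.left _ = (sx _).left ((s ≫ snd X Y).left _)
      rw [← comp_left_apply]
      rw [show (s ≫ snd X Y) ≫ sx (s ≫ fst X Y) = s by
        apply CartesianMonoidalCategory.hom_ext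
        · simp only [sx, Category.assoc, lift_fst]
          rw [← Category.assoc (snd X Y), ← Category.assoc s, toUnit_unique (s ≫ snd X Y ≫ toUnit Y) (𝟙 _), Category.id_comp]
        · simp [sx]]
  have hsw : ∀ u y, (sy y).left (pt₀ u) = (sx u).left (pt₀ y) := by
    intro u y
    show (sy y).left (u.left _) = (sx u).left (y.left _)
    rw [← comp_left_apply, ← comp_left_apply]
    rw [show u ≫ sy y = y ≫ sx u by
      apply CartesianMonoidalCategory.hom_ext
      · simp only [sx, sy, Category.assoc, lift_fst, Category.comp_id]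
        rw [← Category.assoc y, toUnit_unique (y ≫ toUnit Y) (𝟙 _), Category.id_comp]
      · simp only [sx, sy, Category.assoc, lift_snd, Category.comp_id]
        rw [← Category.assoc u, toUnit_unique (u ≫ toUnit X) (𝟙 _), Category.id_comp]]
  have hmove : ∀ (b : 𝟙_ (Over (Spec (CommRingCat.of k))) ⟶ B) y (w : X.left), (sy y).left w ∈ Z →
      (sy y).left ((translX a b).hom.left w) ∈ Z := by
    intro b y w hw
    rw [← comp_left_apply, ← hcomm, comp_left_apply]
    exact hZs b ⟨_, hw, rfl⟩
  have horb : ∀ (b : 𝟙_ (Over (Spec (CommRingCat.of k))) ⟶ B) x, (translX a b).hom.left (pt₀ x) = (a.orbitMap x).left (pt₀ b) := by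
    intro b x
    show (translX a b).hom.left (x.left _) = (a.orbitMap x).left (b.left _)
    rw [← comp_left_apply, ← comp_left_apply]
    rw [show x ≫ (translX a b).hom = b ≫ a.orbitMap x by
      simp only [translX, AlgGrp.Action.orbitMap, ← Category.assoc, comp_lift, Category.comp_id]
      rw [toUnit_unique (x ≫ toUnit X) (𝟙 _), toUnit_unique (b ≫ toUnit B) (𝟙 _), Category.id_comp, Category.id_comp]]
  have hTc : ∀ S, IsClosed (T S) := fun S =>
    (isClosed_closure.preimage (fst X Y).left.continuous).inter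
      ((hZc.preimage (sx (rep S)).left.continuous).preimage (snd X Y).left.continuous)
  have hTZ : ∀ S, T S ⊆ Z := by
    intro S
    refine fun z hz => closure_minimal (s := T S ∩ closedPoints _) ?_ hZc ((closure_inter_closedPoints (hTc S)).ge hz)
    rintro z ⟨⟨h1, h2⟩, hzc⟩
    obtain ⟨u, y, hzu, -, hf, hs⟩ := hpt z hzc
    have h2' : (sx (rep S)).left (pt₀ y) ∈ Z := hs ▸ (h2 : (sx (rep S)).left ((snd X Y).left z) ∈ Z)
    have hRZ : Set.range (a.orbitMap (rep S)).left ⊆ (sy y).left ⁻¹' Z := by
      rintro _ ⟨g, rfl⟩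
      have hc : IsClosed ((a.orbitMap (rep S)).left ⁻¹' ((sy y).left ⁻¹' Z)) :=
        (hZc.preimage (sy y).left.continuous).preimage (a.orbitMap (rep S)).left.continuous
      suffices h : closedPoints B.left ⊆ (a.orbitMap (rep S)).left ⁻¹' ((sy y).left ⁻¹' Z) from
        closure_minimal h hc (closure_closedPoints.ge (Set.mem_univ g))
      intro c hc'
      obtain ⟨b, rfl⟩ := exists_section_of_closed (A := B) hc'
      show (sy y).left ((a.orbitMap (rep S)).left (pt₀ b)) ∈ Z
      rw [← horb]
      exact hmove b y _ (hsw (rep S) y ▸ h2')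
    rw [hzu]
    have h1' : pt₀ u ∈ closure (Set.range (a.orbitMap (rep S)).left) := by
      rw [← hf, show Set.range (a.orbitMap (rep S)).left = (S : Set X.left) from (hrep S).symm]; exact h1
    exact closure_minimal hRZ (hZc.preimage (sy y).left.continuous) h1'
  have hcov : Z ⊆ ⋃ S, T S := by
    refine fun z hz => closure_minimal (s := Z ∩ closedPoints _) ?_ (isClosed_iUnion_of_finite hTc) ((closure_inter_closedPoints hZc).ge hz)
    rintro z ⟨hzZ, hzc⟩
    obtain ⟨u, y, hzu, -, hf, hs⟩ := hpt z hzc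
    let S : O := ⟨Set.range ⇑(a.orbitMap u).left.base, u, rfl⟩
    have hu : pt₀ u ∈ (S : Set X.left) := ⟨pt₀ (1 : 𝟙_ _ ⟶ B), by
      show (a.orbitMap u).left ((1 : 𝟙_ _ ⟶ B).left _) = u.left _
      rw [← comp_left_apply]
      congr 2
      rw [AlgGrp.Action.orbitMap, ← Category.assoc, comp_lift, Category.comp_id, ← Category.assoc,
        toUnit_unique ((1 : 𝟙_ _ ⟶ B) ≫ toUnit B) (𝟙 _), Category.id_comp, lift_act_one]⟩
    refine Set.mem_iUnion.mpr ⟨S, show (fst X Y).left z ∈ _ from hf ▸ subset_closure hu, ?_⟩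
    show (sx (rep S)).left ((snd X Y).left z) ∈ Z
    rw [hs, ← hsw]
    -- translate back to the representative
    obtain ⟨g, hg⟩ : pt₀ u ∈ Set.range (a.orbitMap (rep S)).left := (hrep S).le hu
    obtain ⟨c, hc, hcc⟩ := nonempty_inter_closedPoints (Z := (a.orbitMap (rep S)).left ⁻¹' {pt₀ u}) ⟨g, hg⟩
      ((S16130.isClosed_pt u : IsClosed ({pt₀ u} : Set X.left)).preimage (a.orbitMap (rep S)).left.continuous).isLocallyClosed
    obtain ⟨b, rfl⟩ := exists_section_of_closed (A := B) hcc
    have h1 : (translX a b⁻¹).hom.left (pt₀ u) = pt₀ (rep S) := by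
      rw [← (hc : (a.orbitMap (rep S)).left (pt₀ b) = pt₀ u), ← horb, ← comp_left_apply]
      rw [show (translX a b).hom ≫ (translX a b⁻¹).hom = 𝟙 X by
        simp only [translX, ← Category.assoc, comp_lift, Category.comp_id]
        rw [toUnit_unique ((lift (toUnit X ≫ b) (𝟙 X) ≫ a.act) ≫ toUnit X) (toUnit X), ← lift_act_mul,
          ← MonObj.comp_mul, inv_mul_cancel, MonObj.comp_one, lift_act_one]]
      rfl
    rw [← h1]
    exact hmove _ _ _ (hzu ▸ hzZ)
  obtain ⟨S, hS⟩ : ∃ S, Z ⊆ T S := by
    obtain ⟨_, ⟨S, rfl⟩, hS⟩ := isIrreducible_iff_sUnion_isClosed.mp hZi ((Set.finite_range T).toFinset)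
      (fun t ht => by obtain ⟨S, rfl⟩ := (Set.Finite.mem_toFinset _).mp ht; exact hTc S)
      (by rw [Set.Finite.coe_toFinset, Set.sUnion_range]; exact hcov) |>.imp fun t h => And.imp_left (Set.Finite.mem_toFinset _).mp h
    exact ⟨S, hS⟩
  have hZT : Z = T S := hS.antisymm (hTZ S)
  refine ⟨closure (S : Set X.left), (sx (rep S)).left ⁻¹' Z, isClosed_closure, ?_, hZc.preimage (sx (rep S)).left.continuous, ?_, ?_, hZT⟩
  · -- the image of `Z`
    obtain ⟨z₀, hz₀⟩ := hZi.nonempty
    obtain ⟨c, hc, hcc⟩ := nonempty_inter_closedPoints ⟨z₀, hz₀⟩ hZc.isLocallyClosed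
    obtain ⟨u, y, -, -, -, hs⟩ := hpt c hcc
    have himg : (fst X Y).left '' Z = closure (S : Set X.left) := by
      refine Set.Subset.antisymm ?_ ?_
      · rintro _ ⟨z, hz, rfl⟩; exact (hS hz).1
      · intro w hw
        refine ⟨(sy y).left w, hTZ S ⟨?_, ?_⟩, ?_⟩
        · rw [Set.mem_preimage, ← comp_left_apply, lift_fst]; exact hw
        · show (sx (rep S)).left ((snd X Y).left ((sy y).left w)) ∈ Z
          rw [← comp_left_apply (sy y), lift_snd, comp_left_apply,
            show y.left ((toUnit X).left w) = (snd X Y).left c from hs ▸ congrArg (fun q => y.left q) (Subsingleton.elim (α := Spec (CommRingCat.of k)) _ _)]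
          exact (hS hc).2
        · rw [← comp_left_apply, lift_fst]; rfl
    rw [← himg]
    exact hZi.image _ (fst X Y).left.continuous.continuousOn
  · have himg : (snd X Y).left '' Z = (sx (rep S)).left ⁻¹' Z := by
      refine Set.Subset.antisymm ?_ ?_
      · rintro _ ⟨z, hz, rfl⟩; exact (hS hz).2
      · intro w hw
        refine ⟨(sx (rep S)).left w, hw, ?_⟩
        rw [← comp_left_apply, lift_snd]; rfl
    rw [← himg]
    exact hZi.image _ (snd X Y).left.continuous.continuousOn
  · intro b
    refine (image_closure_subset_closure_image (translX a b).hom.left.continuous).trans (closure_mono ?_)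
    rw [show (S : Set X.left) = Set.range (a.orbitMap (rep S)).left from hrep S]
    rintro _ ⟨_, ⟨g, rfl⟩, rfl⟩
    exact ⟨_, (translX_orbit a b (rep S) g).symm⟩

end Groth.Agent.S15240
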