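import Groth.Statements.S15247
import Groth.Agent.ForSys.Height
-- import your own Groth.Agent.* helpers here

set_option autoImplicit false
open Fano

namespace Groth.Agent.S15247

/-- Over ℂ, let Y be an irreducible closed subscheme of projective m-space of dimension m − d, where 1 ≤
d and d + 1 ≤ m. Then the hypersurfaces of degree d + 1 containing Y form a linear family of
codimension at least m + 1 (that is, greater than m) in the projective space of all hypersurfaces of
degree d + 1. Here Y is given by a homogeneous ideal I of ℂ[x_0, …, x_m] whose radical is prime and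
with dim ℂ[x_0, …, x_m]/I = m + 1 − d, a hypersurface contains Y when its form lies in I, and the
conclusion reads: the forms of degree d + 1 in I span a subspace of codimension at least m + 1 in
the space of all forms of degree d + 1. -/
theorem result (m d : ℕ) (hd : 1 ≤ d) (hdm : d + 1 ≤ m)
    (I : Ideal (MvPolynomial (Fin (m + 1)) ℂ))
    (hI : I.IsHomogeneous (CohB1.polyGrading m ℂ))
    (hirr : I.radical.IsPrime)
    (hdim : ringKrullDim (MvPolynomial (Fin (m + 1)) ℂ ⧸ I) = ((m + 1 - d : ℕ) : WithBot ℕ∞)) :
    m + 1 + Module.finrank ℂ ↥(CohB1.polyGrading m ℂ (d + 1) ⊓ Submodule.restrictScalars ℂ I)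
      ≤ Module.finrank ℂ (LefPen.Form m ℂ (d + 1)) := by
  classical
  set s := m + 1 - d with hs
  haveI := hirr
  let P := I.radical
  let A := MvPolynomial (Fin (m + 1)) ℂ ⧸ P
  have hdimP : ringKrullDim A = (s : WithBot ℕ∞) := by
    rw [← hdim, ringKrullDim_quotient, ringKrullDim_quotient, PrimeSpectrum.zeroLocus_radical]
  obtain ⟨s', hs', hs'dim⟩ := DimTrdeg.exists_trdeg_eq_ringKrullDim ℂ A
  have hss : s' = s := by rw [hdimP] at hs'dim; exact_mod_cast hs'dim.symm
  subst hss
  let x : Fin (m + 1) → A := fun i => Ideal.Quotient.mk P (MvPolynomial.X i)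
  have hx : MvPolynomial.aeval x = Ideal.Quotient.mkₐ ℂ P := MvPolynomial.algHom_ext fun i => (MvPolynomial.aeval_X x i).trans rfl
  haveI : Algebra.IsAlgebraic (Algebra.adjoin ℂ (Set.range x)) A := by
    refine ⟨fun a => ?_⟩
    obtain ⟨q, rfl⟩ := Ideal.Quotient.mk_surjective a
    have hq : Ideal.Quotient.mk P q ∈ Algebra.adjoin ℂ (Set.range x) := by
      rw [Algebra.adjoin_range_eq_range_aeval]
      exact ⟨q, DFunLike.congr_fun hx q⟩
    exact isAlgebraic_algebraMap (⟨_, hq⟩ : Algebra.adjoin ℂ (Set.range x))
  haveI : FaithfulSMul ℂ A := (faithfulSMul_iff_algebraMap_injective _ _).mpr (RingHom.injective _)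
  obtain ⟨t, hts, ht⟩ := exists_isTranscendenceBasis_subset (R := ℂ) (Set.range x)
  have htcard : t.ncard = m + 1 - d := by
    have := ht.cardinalMk_eq_trdeg
    rw [hs'] at this
    rw [Set.ncard_def, Set.encard, ENat.card, this]
    simp only [map_natCast, ENat.toNat_natCast]
    exact hs
  haveI : Finite t := ((Set.finite_range x).subset hts).to_subtype
  let et : Fin (m + 1 + 1 - (d + 1)) ≃ t :=
    (Finite.equivFinOfCardEq (by rw [Nat.card_coe_set_eq, htcard]; omega)).symm
  choose S hS using fun i => hts (et i).2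
  have hSinj : Function.Injective S := fun a b hab => et.injective (Subtype.ext (by rw [← hS a, ← hS b, hab]))
  have hxS : AlgebraicIndependent ℂ (x ∘ S) := by
    have h2 : x ∘ S = Subtype.val ∘ et := funext fun i => hS i
    rw [h2]
    exact ht.1.comp _ et.injective
  obtain ⟨E, hE, hEd⟩ := ForSys.exists_monomials (m + 1) (d + 1) (by omega) (by omega)
  let F : (Fin (m + 1) → ℂ) →ₗ[ℂ] MvPolynomial (Fin (m + 1)) ℂ :=
    Fintype.linearCombination ℂ fun i => MvPolynomial.rename S (MvPolynomial.monomial (E i) 1)
  have hkey : ∀ c, F c ∈ P → c = 0 := by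
    intro c hc
    have hc' : MvPolynomial.aeval (x ∘ S) (∑ i, MvPolynomial.monomial (E i) (c i)) = 0 := by
      rw [← MvPolynomial.aeval_rename, hx]
      show Ideal.Quotient.mk P _ = 0
      rw [Ideal.Quotient.eq_zero_iff_mem]
      convert hc using 1
      simp [F, Fintype.linearCombination_apply, map_sum, ← map_smul]
    have h1 := hxS.eq_zero_of_aeval_eq_zero _ hc'
    funext i
    have h2 := congrArg (MvPolynomial.coeff (E i)) h1
    simpa [MvPolynomial.coeff_sum, MvPolynomial.coeff_monomial, hE.eq_iff] using h2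
  have hFinj : Function.Injective F := LinearMap.ker_eq_bot.mp <| (Submodule.eq_bot_iff _).mpr fun c hc =>
    hkey c (by rw [LinearMap.mem_ker.mp hc]; exact P.zero_mem)
  let V := CohB1.polyGrading m ℂ (d + 1)
  haveI : FiniteDimensional ℂ ↥V := by
    refine Submodule.finiteDimensional_of_le (S₂ := MvPolynomial.restrictTotalDegree (Fin (m + 1)) ℂ (d + 1)) ?_
    exact fun p hp => (MvPolynomial.mem_restrictTotalDegree _ _ _).mpr
      (MvPolynomial.IsHomogeneous.totalDegree_le hp)
  have hrange : LinearMap.range F ≤ V := by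
    rintro _ ⟨c, rfl⟩
    rw [Fintype.linearCombination_apply]
    refine Submodule.sum_mem _ fun i _ => Submodule.smul_mem _ _ ?_
    exact MvPolynomial.IsHomogeneous.rename_isHomogeneous (MvPolynomial.isHomogeneous_monomial 1 (hEd i))
  have hdisj : Disjoint (LinearMap.range F) (V ⊓ Submodule.restrictScalars ℂ I) := by
    rw [Submodule.disjoint_def]
    rintro _ ⟨c, rfl⟩ hc
    rw [hkey c (Ideal.le_radical hc.2), map_zero]
  haveI : FiniteDimensional ℂ (↑(V ⊓ Submodule.restrictScalars ℂ I) : Type _) :=
    Submodule.finiteDimensional_of_le inf_le_left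
  have h1 := Submodule.finrank_sup_add_finrank_inf_eq (LinearMap.range F) (V ⊓ Submodule.restrictScalars ℂ I)
  rw [hdisj.eq_bot, finrank_bot, LinearMap.finrank_range_of_inj hFinj, Module.finrank_fin_fun] at h1
  have h2 := Submodule.finrank_mono (sup_le hrange (inf_le_left : V ⊓ Submodule.restrictScalars ℂ I ≤ V))
  show m + 1 + Module.finrank ℂ ↥(V ⊓ Submodule.restrictScalars ℂ I) ≤ Module.finrank ℂ ↥V
  omega

end Groth.Agent.S15247
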