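import Groth.Statements.S15248
import Groth.Agent.ForSys.Height
-- import your own Groth.Agent.* helpers here

set_option autoImplicit false
open Fano

namespace Groth.Agent.S15248

/-- Over ℂ, let m and d be integers with 1 ≤ d ≤ m − 2, and consider sequences (X_1, …, X_d) of
hypersurfaces of projective m-space with X_j of degree j. The sequences whose intersection X_1 ∩ ⋯ ∩
X_d has dimension greater than m − d form a locus of codimension greater than m in the product of
the projective spaces of hypersurfaces of degrees 1, …, d. Here a sequence is a point G of the
affine space of tuples of forms in the m + 1 homogeneous coordinates with G_j of degree j (zero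
forms allowed), the dimension condition reads dim ℂ[x_0, …, x_m]/(G_1, …, G_d) ≥ m + 2 − d, and the
conclusion is that this locus has codimension at least m + 1 in that affine space (the ideal of
polynomial functions vanishing on it has height at least m + 1). The tuples with some G_j = 0 belong
to the locus and form a closed subset of codimension exactly m + 1, and away from them the locus is
the inverse image of the projective one, so this affine form carries the same content as the
projective one. -/
theorem result (m d : ℕ) (hd : 1 ≤ d) (hdm : d + 2 ≤ m) :
    LefPen.CodimGE ℂ
      {G : (j : Fin d) → LefPen.Form m ℂ (j.1 + 1) |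
        ((m + 2 - d : ℕ) : WithBot ℕ∞) ≤
          ringKrullDim (MvPolynomial (Fin (m + 1)) ℂ ⧸
            Ideal.span (Set.range fun j : Fin d => (G j).1))}
      (m + 1) := by
  classical
  let e : ((j : Fin d) → LefPen.Form m ℂ (j.1 + 1)) ≃ₗ[ℂ] (ForSys.Slot (m + 1) d → ℂ) :=
    { toFun := fun G s => (G s.1).1.coeff s.2.1
      map_add' := fun a b => funext fun s => by simp
      map_smul' := fun c a => funext fun s => by simp
      invFun := fun c j => ⟨ForSys.mkForm c j, ForSys.isHomogeneous_mkForm c j⟩
      left_inv := fun G => funext fun j => Subtype.ext (ForSys.mkForm_coeff (fun j => (G j).1) (fun j => (G j).2) j)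
      right_inv := fun c => funext fun s => ForSys.coeff_mkForm c s }
  refine ForSys.codimGE_of_coords e _ _ fun q hq hqv => ?_
  haveI := hq
  refine ForSys.height_bad (by omega) q fun f hf => hqv f fun G hG => hf _ ?_
  show ((m + 1 + 1 - d : ℕ) : WithBot ℕ∞) ≤ _
  rw [show ForSys.mkForm (e G) = fun j => (G j).1 from
    funext fun j => ForSys.mkForm_coeff (fun j => (G j).1) (fun j => (G j).2) j]
  rw [show m + 1 + 1 - d = m + 2 - d by omega]
  exact hG

end Groth.Agent.S15248
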