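import Groth.Statements.S15249
import Groth.Agent.ForSys.Lines
-- import your own Groth.Agent.* helpers here

set_option autoImplicit false
open Fano

namespace Groth.Agent.S15249

/-- Over ℂ, let 1 ≤ d ≤ n − 3. For a general hypersurface X of degree d in projective n-space and every
point p of X, the lines contained in X and passing through p form a family of dimension at most n −
d − 1. Here X is given by a form Φ of degree d in n + 1 variables; general means on a set of forms
containing the non-vanishing locus of a nonzero polynomial function; a point of X is a nonzero zero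
v of Φ; and the family of lines through [v] on X is measured by the cone C_v of all w in ℂ^(n+1)
such that Φ vanishes identically on the span of v and w, whose codimension in ℂ^(n+1) is asked to be
at least d (C_v is the inverse image in ℂ^(n+1) of the affine cone over that family of lines, a
subset of the projective space of lines through [v], so this says the family has dimension at most n
− d − 1). (The published statement concludes that, for general X, the projection onto X of the
scheme of pointed lines on X is flat with fibres of dimension n − d − 1; this row states only the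
upper bound n − d − 1 on the dimension of the family of lines through each point of X.) -/
theorem result (n d : ℕ) (hd : 1 ≤ d) (hdn : d + 3 ≤ n) :
    LefPen.IsGeneric ℂ {Φ : LefPen.Form n ℂ d |
      ∀ v : Fin (n + 1) → ℂ, v ≠ 0 → MvPolynomial.eval v Φ.1 = 0 →
        LefPen.CodimGE ℂ {w : Fin (n + 1) → ℂ | ∀ s t : ℂ, MvPolynomial.eval (s • v + t • w) Φ.1 = 0} d} := by
  classical
  choose f hf0 hf using fun a : Fin (n + 1) => ForSys.exists_poly_chart (k := ℂ) (n := n) (d := d) (by omega) a
  let e : LefPen.Form n ℂ d ≃ₗ[ℂ] (ForSys.Mon n d → ℂ) :=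
    { toFun := fun G β => G.1.coeff β.1
      map_add' := fun a b => funext fun s => by simp
      map_smul' := fun c a => funext fun s => by simp
      invFun := fun c => ⟨∑ β, MvPolynomial.monomial β.1 (c β),
        MvPolynomial.IsHomogeneous.sum _ _ _ fun β _ => MvPolynomial.isHomogeneous_monomial _ β.2⟩
      left_inv := fun G => Subtype.ext (MvPolynomial.ext _ _ fun α => by
        rw [MvPolynomial.coeff_sum]
        by_cases hα : α.degree = d
        · rw [Finset.sum_eq_single ⟨α, hα⟩]
          · rw [MvPolynomial.coeff_monomial, if_pos rfl]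
          · exact fun b _ hb => by rw [MvPolynomial.coeff_monomial, if_neg fun h => hb (Subtype.ext h)]
          · simp
        · rw [(G.2 : G.1.IsHomogeneous d).coeff_eq_zero hα, Finset.sum_eq_zero]
          exact fun b _ => (MvPolynomial.coeff_monomial _ _ _).trans (if_neg fun h => hα ((congrArg Finsupp.degree h).symm.trans b.2)))
      right_inv := fun c => funext fun β => by
        simp [MvPolynomial.coeff_sum, MvPolynomial.coeff_monomial, Subtype.coe_inj] }
  refine ForSys.isGeneric_of_coords e _ (∏ a, f a) (Finset.prod_ne_zero_iff.mpr fun a _ => hf0 a) fun Φ hΦ => ?_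
  intro v hv0 hvΦ
  rw [map_prod, Finset.prod_ne_zero_iff] at hΦ
  obtain ⟨a, ha⟩ := Function.ne_iff.mp hv0
  simp only [Pi.zero_apply] at ha
  have hhom : (Φ.1).IsHomogeneous d := Φ.2
  let u : Fin n → ℂ := fun i => v (a.succAbove i) / v a
  have hv : v = fun i => v a * (a.insertNth 1 u : Fin (n + 1) → ℂ) i := by
    funext i
    rcases Fin.eq_self_or_eq_succAbove a i with rfl | ⟨i, rfl⟩
    · simp
    · simp [u, mul_div_cancel₀ _ ha]
  have h0 : MvPolynomial.eval (a.insertNth 1 u) Φ.1 = 0 := by
    rw [hv, ForSys.eval_smul_of_isHomogeneous hhom] at hvΦ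
    exact (mul_eq_zero.mp hvΦ).resolve_left (pow_ne_zero _ ha)
  obtain ⟨c, hc, hev⟩ := ForSys.exists_components a Φ.1 hhom u h0
  have hgood : ringKrullDim (MvPolynomial (Fin n) ℂ ⧸ Ideal.span (Set.range (ForSys.mkForm c))) ≤
      ((n - d : ℕ) : WithBot ℕ∞) := by
    refine ForSys.le_of_lt_cast _ (n + 1 - d) _ (not_le.mp fun hbad => hΦ a (Finset.mem_univ a) ?_) (by omega)
    have := hf a c hbad u
    rw [← hc] at this
    exact this
  refine ForSys.codimGE_of_coords (LinearEquiv.refl ℂ (Fin (n + 1) → ℂ)) _ d fun q hq hqv => ?_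
  haveI := hq
  let A := MvPolynomial (Fin n) ℂ ⧸ Ideal.span (Set.range (ForSys.mkForm c))
  let g : MvPolynomial (Fin n) ℂ →ₐ[ℂ] MvPolynomial (Fin (n + 1)) ℂ ⧸ q :=
    MvPolynomial.aeval fun i => Ideal.Quotient.mk q
      (MvPolynomial.X (a.succAbove i) - MvPolynomial.C (u i) * MvPolynomial.X a)
  have hg : ∀ p, g p = Ideal.Quotient.mk q (MvPolynomial.aeval
      (fun i => MvPolynomial.X (a.succAbove i) - MvPolynomial.C (u i) * MvPolynomial.X a) p) := fun p =>
    (DFunLike.congr_fun (MvPolynomial.comp_aeval _ (Ideal.Quotient.mkₐ ℂ q)) p).symm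
  have hker : ∀ p ∈ Ideal.span (Set.range (ForSys.mkForm c)), g p = 0 := by
    intro p hp
    suffices h : Ideal.span (Set.range (ForSys.mkForm c)) ≤ RingHom.ker g.toRingHom from h hp
    rw [Ideal.span_le]
    rintro _ ⟨j, rfl⟩
    show g _ = 0
    rw [hg, Ideal.Quotient.eq_zero_iff_mem]
    refine hqv _ fun w hw => ?_
    let x : Fin n → ℂ := fun i => w (a.succAbove i) - u i * w a
    have hcomp : MvPolynomial.eval w (MvPolynomial.aeval
        (fun i => MvPolynomial.X (a.succAbove i) - MvPolynomial.C (u i) * MvPolynomial.X a) (ForSys.mkForm c j)) =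
        MvPolynomial.eval x (ForSys.mkForm c j) := by
      rw [← MvPolynomial.aeval_eq_eval, ← AlgHom.comp_apply, MvPolynomial.comp_aeval, ← MvPolynomial.aeval_eq_eval]
      refine congrFun (congrArg DFunLike.coe (MvPolynomial.algHom_ext fun i => ?_)) _
      simp [x]
    show MvPolynomial.eval w _ = 0
    rw [hcomp]
    let P : Polynomial ℂ := ∑ l : Fin d, Polynomial.monomial ((l : ℕ) + 1) (MvPolynomial.eval x (ForSys.mkForm c l))
    have hP : P = 0 := by
      refine Polynomial.funext fun t => ?_
      have h1 := hev fun i => t * x i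
      have h2 : (a.insertNth 1 (fun i => t * x i + u i) : Fin (n + 1) → ℂ) = ((1 - t * w a) / v a) • v + t • w := by
        funext i
        rcases Fin.eq_self_or_eq_succAbove a i with rfl | ⟨i, rfl⟩
        · simp only [Fin.insertNth_apply_same, Pi.add_apply, Pi.smul_apply, smul_eq_mul]
          field_simp
          ring
        · simp only [Fin.insertNth_apply_succAbove, Pi.add_apply, Pi.smul_apply, smul_eq_mul, x, u]
          field_simp
          ring
      rw [h2, hw] at h1
      rw [Polynomial.eval_finsetSum, Polynomial.eval_zero, h1]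
      refine Finset.sum_congr rfl fun l _ => ?_
      rw [Polynomial.eval_monomial, ForSys.eval_smul_of_isHomogeneous (ForSys.isHomogeneous_mkForm c l), mul_comm]
    have h3 := congrArg (fun P : Polynomial ℂ => P.coeff ((j : ℕ) + 1)) hP
    simpa [P, Polynomial.coeff_monomial, Fin.val_inj] using h3
  let g' : A →+* MvPolynomial (Fin (n + 1)) ℂ ⧸ q := Ideal.Quotient.lift _ g.toRingHom hker
  let G : Polynomial A →+* MvPolynomial (Fin (n + 1)) ℂ ⧸ q :=
    Polynomial.eval₂RingHom g' (Ideal.Quotient.mk q (MvPolynomial.X a))
  have hG : Function.Surjective G := by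
    intro y
    obtain ⟨p, rfl⟩ := Ideal.Quotient.mk_surjective y
    induction p using MvPolynomial.induction_on with
    | C r =>
      refine ⟨Polynomial.C (Ideal.Quotient.mk _ (MvPolynomial.C r)), ?_⟩
      simp only [G, g', Polynomial.coe_eval₂RingHom, Polynomial.eval₂_C, Ideal.Quotient.lift_mk]
      show g _ = _
      rw [hg]; simp
    | add p q hp hq =>
      obtain ⟨p', hp⟩ := hp
      obtain ⟨q', hq⟩ := hq
      exact ⟨p' + q', by rw [map_add, map_add, hp, hq]⟩
    | mul_X p i hp =>
      obtain ⟨p', hp⟩ := hp
      suffices hi : ∃ y, G y = Ideal.Quotient.mk q (MvPolynomial.X i) by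
        obtain ⟨y, hy⟩ := hi
        exact ⟨p' * y, by rw [map_mul, map_mul, hp, hy]⟩
      rcases Fin.eq_self_or_eq_succAbove a i with rfl | ⟨i, rfl⟩
      · exact ⟨Polynomial.X, by simp [G]⟩
      · refine ⟨Polynomial.C (Ideal.Quotient.mk _ (MvPolynomial.X i)) +
          Polynomial.C (Ideal.Quotient.mk _ (MvPolynomial.C (u i))) * Polynomial.X, ?_⟩
        simp only [G, g', map_add, map_mul, Polynomial.coe_eval₂RingHom, Polynomial.eval₂_C, Polynomial.eval₂_X,
          Ideal.Quotient.lift_mk]
        show g _ + g _ * _ = _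
        rw [hg, hg, MvPolynomial.aeval_X, MvPolynomial.aeval_C, map_sub, map_mul, MvPolynomial.algebraMap_eq,
          sub_add_cancel]
  have h1 := (ringKrullDim_le_of_surjective G hG).trans (le_of_eq Polynomial.ringKrullDim_of_isNoetherianRing)
  have h2 := ForSys.card_le_height_add_dim q
  have h3 : ((n + 1 : ℕ) : WithBot ℕ∞) ≤ q.height + (((n - d : ℕ) : WithBot ℕ∞) + 1) := by
    rw [Fintype.card_fin] at h2
    exact h2.trans (add_le_add le_rfl (h1.trans (add_le_add hgood le_rfl)))
  generalize q.height = ht at h3
  induction ht with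
  | top => exact le_top
  | coe m =>
    rw [show ((n + 1 : ℕ) : WithBot ℕ∞) = (((n + 1 : ℕ) : ℕ∞) : WithBot ℕ∞) from rfl,
      show ((n - d : ℕ) : WithBot ℕ∞) + 1 = (((n - d + 1 : ℕ) : ℕ∞) : WithBot ℕ∞) from rfl,
      ← WithBot.coe_add, WithBot.coe_le_coe, ← Nat.cast_add] at h3
    have h4 : n + 1 ≤ m + (n - d + 1) := ENat.natCast_le_natCast.mp h3
    exact ENat.natCast_le_natCast.mpr (by omega)

end Groth.Agent.S15249
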