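import Mathlib
import Groth.Statements.S15258
-- import your own Groth.Agent.* helpers here

set_option autoImplicit false
universe u
open CategoryTheory CategoryTheory.Limits AlgebraicGeometry TopologicalSpace
open W4c2seshadripos

namespace Groth.Agent.S15258

lemma ess_comp {A B C : Type*} [CommRing A] [CommRing B] [CommRing C] {f : A →+* B} {g : B →+* C}
    (hf : f.EssFiniteType) (hg : g.EssFiniteType) : (g.comp f).EssFiniteType := by
  algebraize [f, g, g.comp f]
  exact Algebra.EssFiniteType.comp A B C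

lemma ess_of_comp {A B C : Type*} [CommRing A] [CommRing B] [CommRing C] {f : A →+* B} {g : B →+* C}
    (h : (g.comp f).EssFiniteType) : g.EssFiniteType := by
  algebraize [f, g, g.comp f]
  exact Algebra.EssFiniteType.of_comp A B C

lemma ess_restrict {X : Scheme} {U : X.Opens} (hU : IsAffineOpen U) (r : Γ(X, U)) :
    (X.presheaf.map (homOfLE (X.basicOpen_le r)).op).hom.EssFiniteType := by
  have := hU.isLocalization_basicOpen r
  have : Algebra.EssFiniteType Γ(X, U) Γ(X, X.basicOpen r) := .of_isLocalization _ (Submonoid.powers r)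
  show @Algebra.EssFiniteType _ _ _ _ (RingHom.toAlgebra _)
  convert! this


/-- Call f : X → Y locally essentially of finite type when Y has a cover by affine opens U = Spec A such
that each f⁻¹(U) has a cover by affine opens Spec B with A → B essentially of finite type (a
localization of a finite-type A-algebra; Mathlib's RingHom.EssFiniteType), and essentially of finite
type when moreover f is quasi-compact. Then f is locally essentially of finite type exactly when
every affine open U = Spec A of Y has f⁻¹(U) covered by affine opens V = Spec B of X with A → B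
essentially of finite type. -/
theorem result {X Y : Scheme.{u}} (f : X ⟶ Y) :
    (∃ S : Set Y.affineOpens, (⋃ U ∈ S, ((U : Y.Opens) : Set ↥Y)) = Set.univ ∧
      ∀ U ∈ S, ∃ T : Set X.affineOpens, (⋃ V ∈ T, ((V : X.Opens) : Set ↥X)) = ((f ⁻¹ᵁ (U : Y.Opens)) : Set ↥X) ∧
        ∀ V ∈ T, ∃ e : (V : X.Opens) ≤ f ⁻¹ᵁ (U : Y.Opens), (f.appLE (U : Y.Opens) (V : X.Opens) e).hom.EssFiniteType) ↔
    ∀ U : Y.affineOpens, ∃ T : Set X.affineOpens, (⋃ V ∈ T, ((V : X.Opens) : Set ↥X)) = ((f ⁻¹ᵁ (U : Y.Opens)) : Set ↥X) ∧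
        ∀ V ∈ T, ∃ e : (V : X.Opens) ≤ f ⁻¹ᵁ (U : Y.Opens), (f.appLE (U : Y.Opens) (V : X.Opens) e).hom.EssFiniteType := by
  classical
  constructor
  · rintro ⟨S, hSu, hS⟩ U
    refine ⟨{V | ∃ e : (V : X.Opens) ≤ f ⁻¹ᵁ (U : Y.Opens), (f.appLE (U : Y.Opens) (V : X.Opens) e).hom.EssFiniteType}, ?_, fun V hV => hV⟩
    refine Set.Subset.antisymm (Set.iUnion₂_subset fun V hV => hV.1) fun x hx => ?_
    have hy : f.base x ∈ (Set.univ : Set Y) := trivial
    rw [← hSu] at hy
    simp only [Set.mem_iUnion, exists_prop] at hy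
    obtain ⟨U₀, hU₀, hxU₀⟩ := hy
    obtain ⟨T, hTu, hT⟩ := hS U₀ hU₀
    have hx0 : x ∈ ((f ⁻¹ᵁ (U₀ : Y.Opens)) : Set X) := hxU₀
    rw [← hTu] at hx0
    simp only [Set.mem_iUnion, exists_prop] at hx0
    obtain ⟨V, hVT, hxV⟩ := hx0
    obtain ⟨eV, hV⟩ := hT V hVT
    obtain ⟨a, b, hab, hya⟩ := exists_basicOpen_le_affine_inter U.2 U₀.2 (f.base x) ⟨hx, hxU₀⟩
    set b' := f.appLE (U₀ : Y.Opens) (V : X.Opens) eV b
    have hW : X.basicOpen b' = (V : X.Opens) ⊓ f ⁻¹ᵁ (Y.basicOpen b) := Scheme.basicOpen_appLE f _ _ eV b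
    have hxW : x ∈ X.basicOpen b' := by rw [hW]; exact ⟨hxV, (hab ▸ hya : f.base x ∈ Y.basicOpen b)⟩
    have e1 : X.basicOpen b' ≤ f ⁻¹ᵁ (Y.basicOpen a) := by rw [hW, hab]; exact inf_le_right
    have e0 : X.basicOpen b' ≤ f ⁻¹ᵁ (Y.basicOpen b) := by rw [hW]; exact inf_le_right
    have e2 : X.basicOpen b' ≤ f ⁻¹ᵁ (U : Y.Opens) := e1.trans (f.preimage_mono (Y.basicOpen_le a))
    refine Set.mem_biUnion (x := ⟨X.basicOpen b', V.2.basicOpen b'⟩) ⟨e2, ?_⟩ hxW
    have key : (f.appLE (Y.basicOpen b) (X.basicOpen b') e0).hom.EssFiniteType := by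
      refine ess_of_comp (f := (Y.presheaf.map (homOfLE (Y.basicOpen_le b)).op).hom) ?_
      rw [← CommRingCat.hom_comp, Scheme.Hom.map_appLE, ← Scheme.Hom.appLE_map f eV (homOfLE (X.basicOpen_le b')).op, CommRingCat.hom_comp]
      exact ess_comp hV (ess_restrict V.2 b')
    have key' : (f.appLE (Y.basicOpen a) (X.basicOpen b') e1).hom.EssFiniteType := by
      have : ∀ (D : Y.Opens) (hD : D = Y.basicOpen b) (e : X.basicOpen b' ≤ f ⁻¹ᵁ D), (f.appLE D (X.basicOpen b') e).hom.EssFiniteType := by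
        rintro D rfl e; exact key
      exact this _ hab e1
    show (f.appLE (U : Y.Opens) (X.basicOpen b') e2).hom.EssFiniteType
    rw [← Scheme.Hom.map_appLE f e1 (homOfLE (Y.basicOpen_le a)).op, CommRingCat.hom_comp]
    exact ess_comp (ess_restrict U.2 a) key'
  · intro h
    refine ⟨Set.univ, ?_, fun U _ => h U⟩
    refine Set.eq_univ_of_forall fun y => ?_
    obtain ⟨V, hV, hyV, -⟩ := Y.isBasis_affineOpens.exists_subset_of_mem_open (Set.mem_univ y) isOpen_univ
    obtain ⟨V', hV', rfl⟩ := hV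
    exact Set.mem_biUnion (x := ⟨V', hV'⟩) (Set.mem_univ _) hyV

end Groth.Agent.S15258
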