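import Mathlib
import Groth.Statements.S15259
import Groth.Agent.S15258

set_option autoImplicit false
universe u
open CategoryTheory CategoryTheory.Limits AlgebraicGeometry TopologicalSpace
open W4c2seshadripos

namespace Groth.Agent.S15259

/-- Call f : X → Y locally essentially of finite type when Y has a cover by affine opens U = Spec A such
that each f⁻¹(U) has a cover by affine opens Spec B with A → B essentially of finite type (a
localization of a finite-type A-algebra; Mathlib's RingHom.EssFiniteType), and essentially of finite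
type when moreover f is quasi-compact. Then f is essentially of finite type exactly when every
affine open U = Spec A of Y has f⁻¹(U) covered by finitely many affine opens V = Spec B of X with A
→ B essentially of finite type. -/
theorem result {X Y : Scheme.{u}} (f : X ⟶ Y) :
    ((∃ S : Set Y.affineOpens, (⋃ U ∈ S, ((U : Y.Opens) : Set ↥Y)) = Set.univ ∧
      ∀ U ∈ S, ∃ T : Set X.affineOpens, (⋃ V ∈ T, ((V : X.Opens) : Set ↥X)) = ((f ⁻¹ᵁ (U : Y.Opens)) : Set ↥X) ∧
        ∀ V ∈ T, ∃ e : (V : X.Opens) ≤ f ⁻¹ᵁ (U : Y.Opens), (f.appLE (U : Y.Opens) (V : X.Opens) e).hom.EssFiniteType) ∧ QuasiCompact f) ↔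
    ∀ U : Y.affineOpens, ∃ T : Set X.affineOpens, T.Finite ∧ (⋃ V ∈ T, ((V : X.Opens) : Set ↥X)) = ((f ⁻¹ᵁ (U : Y.Opens)) : Set ↥X) ∧
        ∀ V ∈ T, ∃ e : (V : X.Opens) ≤ f ⁻¹ᵁ (U : Y.Opens), (f.appLE (U : Y.Opens) (V : X.Opens) e).hom.EssFiniteType := by
  classical
  constructor
  · rintro ⟨h, hq⟩ U
    obtain ⟨T, hTu, hT⟩ := (Groth.Agent.S15258.result f).1 h U
    have hc : IsCompact ((f ⁻¹ᵁ (U : Y.Opens)) : Set X) := quasiCompact_iff_forall_isAffineOpen.1 hq U U.2
    obtain ⟨s, hs⟩ := hc.elim_finite_subcover (fun V : T => ((V.1 : X.Opens) : Set X)) (fun V => V.1.1.2)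
      (by rw [← hTu, Set.biUnion_eq_iUnion])
    refine ⟨Subtype.val '' (s : Set T), s.finite_toSet.image _, ?_, ?_⟩
    · refine Set.Subset.antisymm ?_ ?_
      · rw [← hTu]
        refine Set.iUnion₂_subset ?_
        rintro V ⟨W, -, rfl⟩
        exact Set.subset_biUnion_of_mem (u := fun V : X.affineOpens => ((V : X.Opens) : Set X)) W.2
      · refine hs.trans ?_
        refine Set.iUnion₂_subset fun W hW => ?_
        exact Set.subset_biUnion_of_mem (u := fun V : X.affineOpens => ((V : X.Opens) : Set X)) ⟨W, hW, rfl⟩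
    · rintro V ⟨W, -, rfl⟩
      exact hT _ W.2
  · intro h
    refine ⟨(Groth.Agent.S15258.result f).2 fun U => ?_, quasiCompact_iff_forall_isAffineOpen.2 fun U hU => ?_⟩
    · obtain ⟨T, -, hTu, hT⟩ := h U
      exact ⟨T, hTu, hT⟩
    · obtain ⟨T, hfin, hTu, -⟩ := h ⟨U, hU⟩
      rw [← hTu]
      exact hfin.isCompact_biUnion fun V _ => V.2.isCompact

end Groth.Agent.S15259
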