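import Mathlib
import Groth.Statements.S15260
-- import your own Groth.Agent.* helpers here

set_option autoImplicit false
universe u
open CategoryTheory CategoryTheory.Limits AlgebraicGeometry TopologicalSpace
open W4c2seshadripos

namespace Groth.Agent.S15260

lemma ess_comp {A B C : Type*} [CommRing A] [CommRing B] [CommRing C] {f : A →+* B} {g : B →+* C}
    (hf : f.EssFiniteType) (hg : g.EssFiniteType) : (g.comp f).EssFiniteType := by
  algebraize [f, g, g.comp f]
  exact Algebra.EssFiniteType.comp A B C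

/-- Say a morphism of schemes h : S → T is locally essentially of finite type when for every affine open
U = Spec A of T the preimage h⁻¹(U) is covered by affine opens V = Spec B of S with A → B
essentially of finite type (a localization of a finite-type A-algebra; this is the every-affine-open
form of the notion). If f : X → Y and g : Y → Z are locally essentially of finite type then so is f
≫ g. (The published statement also covers the quasi-compact variant, essentially of finite type;
that case follows since quasi-compact morphisms are stable under composition.) -/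
theorem result {X Y Z : Scheme.{u}} (f : X ⟶ Y) (g : Y ⟶ Z)
    (hf : ∀ U : Y.affineOpens, ∃ T : Set X.affineOpens, (⋃ V ∈ T, ((V : X.Opens) : Set ↥X)) = ((f ⁻¹ᵁ (U : Y.Opens)) : Set ↥X) ∧
        ∀ V ∈ T, ∃ e : (V : X.Opens) ≤ f ⁻¹ᵁ (U : Y.Opens), (f.appLE (U : Y.Opens) (V : X.Opens) e).hom.EssFiniteType)
    (hg : ∀ U : Z.affineOpens, ∃ T : Set Y.affineOpens, (⋃ V ∈ T, ((V : Y.Opens) : Set ↥Y)) = ((g ⁻¹ᵁ (U : Z.Opens)) : Set ↥Y) ∧
        ∀ V ∈ T, ∃ e : (V : Y.Opens) ≤ g ⁻¹ᵁ (U : Z.Opens), (g.appLE (U : Z.Opens) (V : Y.Opens) e).hom.EssFiniteType)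
    (U : Z.affineOpens) :
    ∃ T : Set X.affineOpens, (⋃ V ∈ T, ((V : X.Opens) : Set ↥X)) = (((f ≫ g) ⁻¹ᵁ (U : Z.Opens)) : Set ↥X) ∧
        ∀ V ∈ T, ∃ e : (V : X.Opens) ≤ (f ≫ g) ⁻¹ᵁ (U : Z.Opens), ((f ≫ g).appLE (U : Z.Opens) (V : X.Opens) e).hom.EssFiniteType := by
  classical
  obtain ⟨T, hTu, hT⟩ := hg U
  choose S hSu hS using fun W : Y.affineOpens => hf W
  refine ⟨⋃ W ∈ T, S W, ?_, ?_⟩
  · rw [Set.biUnion_iUnion]
    simp_rw [Set.biUnion_iUnion, hSu]
    ext x
    simp only [Set.mem_iUnion, exists_prop]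
    constructor
    · rintro ⟨W, hW, hx⟩
      have : f.base x ∈ ((g ⁻¹ᵁ (U : Z.Opens)) : Set Y) := by
        rw [← hTu]; exact Set.mem_biUnion hW hx
      exact this
    · intro hx
      have : f.base x ∈ ((g ⁻¹ᵁ (U : Z.Opens)) : Set Y) := hx
      rw [← hTu] at this
      simpa only [Set.mem_iUnion, exists_prop] using! this
  · intro V hV
    simp only [Set.mem_iUnion, exists_prop] at hV
    obtain ⟨W, hW, hVW⟩ := hV
    obtain ⟨e₁, h₁⟩ := hT W hW
    obtain ⟨e₂, h₂⟩ := hS W V hVW
    refine ⟨e₂.trans ((Opens.map f.base).map (homOfLE e₁)).le, ?_⟩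
    rw [← Scheme.Hom.appLE_comp_appLE f g (U : Z.Opens) (W : Y.Opens) (V : X.Opens) e₁ e₂, CommRingCat.hom_comp]
    exact ess_comp h₁ h₂

end Groth.Agent.S15260
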