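import Mathlib
import Groth.Statements.S15261
-- import your own Groth.Agent.* helpers here

set_option autoImplicit false
universe u
open CategoryTheory CategoryTheory.Limits AlgebraicGeometry TopologicalSpace
open W4c2seshadripos

namespace Groth.Agent.S15261

/-- Say a morphism of schemes h : S → T is locally essentially of finite type when for every affine open
U = Spec A of T the preimage h⁻¹(U) is covered by affine opens V = Spec B of S with A → B
essentially of finite type (the every-affine-open form of the notion). If f : X → Y is locally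
essentially of finite type and g : Y' → Y is any morphism of schemes, then the base change X ×_Y Y'
→ Y' is locally essentially of finite type. (The quasi-compact variant, essentially of finite type,
follows since quasi-compactness is stable under base change.) -/
theorem result {X Y Y' : Scheme.{u}} (f : X ⟶ Y) (g : Y' ⟶ Y)
    (hf : ∀ U : Y.affineOpens, ∃ T : Set X.affineOpens, (⋃ V ∈ T, ((V : X.Opens) : Set ↥X)) = ((f ⁻¹ᵁ (U : Y.Opens)) : Set ↥X) ∧
        ∀ V ∈ T, ∃ e : (V : X.Opens) ≤ f ⁻¹ᵁ (U : Y.Opens), (f.appLE (U : Y.Opens) (V : X.Opens) e).hom.EssFiniteType)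
    (U : Y'.affineOpens) :
    ∃ T : Set (pullback f g).affineOpens, (⋃ V ∈ T, ((V : (pullback f g).Opens) : Set ↥(pullback f g))) = (((pullback.snd f g) ⁻¹ᵁ (U : Y'.Opens)) : Set ↥(pullback f g)) ∧
        ∀ V ∈ T, ∃ e : (V : (pullback f g).Opens) ≤ (pullback.snd f g) ⁻¹ᵁ (U : Y'.Opens), ((pullback.snd f g).appLE (U : Y'.Opens) (V : (pullback f g).Opens) e).hom.EssFiniteType := by
  classical
  refine ⟨{V | ∃ e : (V : (pullback f g).Opens) ≤ (pullback.snd f g) ⁻¹ᵁ (U : Y'.Opens), ((pullback.snd f g).appLE (U : Y'.Opens) (V : (pullback f g).Opens) e).hom.EssFiniteType}, ?_, fun V hV => hV⟩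
  refine Set.Subset.antisymm (Set.iUnion₂_subset fun V hV => hV.1) fun x hx => ?_
  set y := (pullback.snd f g).base x
  obtain ⟨U₀', hU₀, hyU₀, -⟩ := Y.isBasis_affineOpens.exists_subset_of_mem_open (Set.mem_univ (g.base y)) isOpen_univ
  obtain ⟨U₀, hU₀', rfl⟩ := hU₀
  obtain ⟨a, hale, hya⟩ := U.2.exists_basicOpen_le (V := g ⁻¹ᵁ U₀) ⟨y, hyU₀⟩ hx
  obtain ⟨T, hTu, hT⟩ := hf ⟨U₀, hU₀'⟩
  have hcomm : f.base ((pullback.fst f g).base x) = g.base y := by
    rw [← Scheme.Hom.comp_apply, ← Scheme.Hom.comp_apply, pullback.condition]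
  have hx0 : (pullback.fst f g).base x ∈ ((f ⁻¹ᵁ U₀) : Set X) := by
    show f.base _ ∈ U₀
    rw [hcomm]; exact hyU₀
  have hx1 : (pullback.fst f g).base x ∈ ⋃ V ∈ T, ((V : X.Opens) : Set X) := hTu ▸ hx0
  simp only [Set.mem_iUnion, exists_prop] at hx1
  obtain ⟨V, hVT, hxV⟩ := hx1
  obtain ⟨eV, hV⟩ := hT V hVT
  set D := Y'.basicOpen a
  set W := pullback.fst f g ⁻¹ᵁ (V : X.Opens) ⊓ pullback.snd f g ⁻¹ᵁ D with hWdef
  have H := IsPullback.of_hasPullback f g
  have hDaff : IsAffineOpen D := U.2.basicOpen a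
  have : IsAffine (V : X.Opens).toScheme := V.2
  have : IsAffine (Scheme.Opens.toScheme (U₀ : Y.Opens)) := hU₀'
  have : IsAffine D.toScheme := hDaff
  have hWaff : IsAffineOpen W :=
    .of_isIso (Scheme.Hom.isPullback_resLE H hale eV hWdef).isoPullback.hom
  have hsq := (isIso_pushoutSection_iff H hale eV hWdef).1 (isIso_pushoutSection_of_isAffineOpen H hale eV hWdef hU₀' hDaff V.2)
  have eD : W ≤ pullback.snd f g ⁻¹ᵁ D := inf_le_right
  have eU : W ≤ pullback.snd f g ⁻¹ᵁ (U : Y'.Opens) := eD.trans ((pullback.snd f g).preimage_mono (Y'.basicOpen_le a))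
  have : (RingHom.toMorphismProperty RingHom.EssFiniteType).IsStableUnderCobaseChange :=
    RingHom.isStableUnderCobaseChange_toMorphismProperty_iff.2 RingHom.EssFiniteType.isStableUnderBaseChange
  have key : ((pullback.snd f g).appLE D W eD).hom.EssFiniteType := by
    first
      | exact MorphismProperty.of_isPushout (P := RingHom.toMorphismProperty RingHom.EssFiniteType) hsq.flip hV
      | exact MorphismProperty.of_isPushout (P := RingHom.toMorphismProperty RingHom.EssFiniteType) hsq hV
  refine Set.mem_biUnion (x := ⟨W, hWaff⟩) ⟨eU, ?_⟩ (show x ∈ W from ⟨hxV, hya⟩)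
  show ((pullback.snd f g).appLE (U : Y'.Opens) W eU).hom.EssFiniteType
  rw [← Scheme.Hom.map_appLE (pullback.snd f g) eD (homOfLE (Y'.basicOpen_le a)).op, CommRingCat.hom_comp]
  refine RingHom.EssFiniteType.comp ?_ key
  have := U.2.isLocalization_basicOpen a
  have : Algebra.EssFiniteType Γ(Y', U) Γ(Y', Y'.basicOpen a) := .of_isLocalization _ (Submonoid.powers a)
  show @Algebra.EssFiniteType _ _ _ _ (RingHom.toAlgebra _)
  convert! this

end Groth.Agent.S15261
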