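import Groth.Statements.S1527
import Groth.Agent.CurveDeg.Basic

set_option autoImplicit false
set_option backward.isDefEq.respectTransparency false
universe u
open CategoryTheory CategoryTheory.Limits AlgebraicGeometry
open Variety

namespace Groth.Agent.S1527

/-- On a proper scheme over a field, a coherent module whose support has dimension at most zero is
globally generated (a quotient of a free module). -/
theorem result (k : Type u) [Field k] (X : Scheme.{u}) [X.Over (Spec (CommRingCat.of k))] [IsProper (X ↘ (Spec (CommRingCat.of k)))]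
    (F : X.Modules) (hF : Coh.IsCoh F) (hsupp : topologicalKrullDim (CohB1.support F) ≤ 0) :
    Curv2.IsGloballyGenerated F := by
  haveI : CompactSpace X := QuasiCompact.compactSpace_of_compactSpace (X ↘ Spec (CommRingCat.of k))
  haveI : IsLocallyNoetherian X := LocallyOfFiniteType.isLocallyNoetherian (X ↘ Spec (CommRingCat.of k))
  haveI : IsNoetherian X := ⟨⟩
  refine Groth.Agent.InvPow.isGloballyGenerated_of_span fun U t x hx => ?_
  have hcl := Groth.Agent.QCohLib.isClosed_support hF.2
  by_cases hs : x ∈ CohB1.support F
  · obtain ⟨W, hW, g, hxW, hg⟩ := Groth.Agent.CurveDeg.exists_global_eq_near hcl hsupp hs hx t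
    exact ⟨W, hW, hxW, Submodule.subset_span ⟨g, hg⟩⟩
  · refine ⟨U ⊓ ⟨(CohB1.support F)ᶜ, hcl.isOpen_compl⟩, inf_le_left, ⟨hx, hs⟩, ?_⟩
    convert Submodule.zero_mem _
    refine Groth.Agent.QCohLib.section_ext _ _ fun z hz => ?_
    have hsub : Subsingleton (F.presheaf.stalk z) := not_not.mp hz.2
    exact hsub.elim _ _
end Groth.Agent.S1527
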