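import Mathlib
import Groth.Statements.S15285
-- import your own Groth.Agent.* helpers here

set_option autoImplicit false
universe v v' u u'
open PicCat

namespace Groth.Agent.S15285

open CategoryTheory MonoidalCategory in
/-- Let C and D be Picard categories (monoidal groupoids in which tensoring on either side with any
object is an equivalence of categories) and F : C ⥤ D a lax monoidal functor. If F induces a
bijection on isomorphism classes of objects (it is essentially surjective, and F X ≅ F Y only when X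
≅ Y) and a bijection on endomorphisms of the unit object, then F is an equivalence of categories. -/
theorem result
    {C : Type u} [Category.{v} C] [MonoidalCategory C] [IsGroupoid C]
    {D : Type u'} [Category.{v'} D] [MonoidalCategory D] [IsGroupoid D]
    (hC : ∀ X : C, (tensorLeft X).IsEquivalence ∧ (tensorRight X).IsEquivalence)
    (hD : ∀ X : D, (tensorLeft X).IsEquivalence ∧ (tensorRight X).IsEquivalence)
    (F : C ⥤ D) [F.LaxMonoidal] [F.EssSurj]
    (h0 : ∀ X Y : C, Nonempty (F.obj X ≅ F.obj Y) → Nonempty (X ≅ Y))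
    (h1 : Function.Bijective (fun φ : 𝟙_ C ⟶ 𝟙_ C => F.map φ)) :
    F.IsEquivalence := by
  haveI : ∀ {E : D} {E' : D} (f : E ⟶ E'), IsIso f := fun f => IsGroupoid.all_isIso f
  haveI : ∀ {E : C} {E' : C} (f : E ⟶ E'), IsIso f := fun f => IsGroupoid.all_isIso f
  have hend : ∀ X : C, Function.Bijective (fun g : X ⟶ X => F.map g) := by
    intro X
    haveI := (hC X).2
    haveI := (hD (F.obj X)).2
    let a : (𝟙_ C ⟶ 𝟙_ C) → (X ⟶ X) := fun φ => (λ_ X).inv ≫ φ ▷ X ≫ (λ_ X).hom
    have ha : Function.Bijective a := by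
      constructor
      · intro p q h
        simp only [a, cancel_epi, cancel_mono] at h
        exact (tensorRight X).map_injective h
      · intro g
        refine ⟨(tensorRight X).preimage ((λ_ X).hom ≫ g ≫ (λ_ X).inv), ?_⟩
        have h := (tensorRight X).map_preimage ((λ_ X).hom ≫ g ≫ (λ_ X).inv)
        change _ ▷ X = _ at h
        show (λ_ X).inv ≫ _ ▷ X ≫ (λ_ X).hom = g
        rw [h]; simp
    let b : (𝟙_ D ⟶ 𝟙_ D) → (F.obj X ⟶ F.obj X) := fun φ => (λ_ _).inv ≫ φ ▷ (F.obj X) ≫ (λ_ _).hom
    have hb : Function.Bijective b := by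
      constructor
      · intro p q h
        simp only [b, cancel_epi, cancel_mono] at h
        exact (tensorRight (F.obj X)).map_injective h
      · intro g
        refine ⟨(tensorRight (F.obj X)).preimage ((λ_ (F.obj X)).hom ≫ g ≫ (λ_ (F.obj X)).inv), ?_⟩
        have h := (tensorRight (F.obj X)).map_preimage ((λ_ (F.obj X)).hom ≫ g ≫ (λ_ (F.obj X)).inv)
        change _ ▷ (F.obj X) = _ at h
        show (λ_ (F.obj X)).inv ≫ _ ▷ (F.obj X) ≫ (λ_ (F.obj X)).hom = g
        rw [h]; simp
    let ε := Functor.LaxMonoidal.ε F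
    let c : (F.obj (𝟙_ C) ⟶ F.obj (𝟙_ C)) → (𝟙_ D ⟶ 𝟙_ D) := fun g => ε ≫ g ≫ inv ε
    have hc : Function.Bijective c :=
      ⟨fun p q h => (cancel_mono (inv ε)).1 ((cancel_epi ε).1 h), fun g => ⟨inv ε ≫ g ≫ ε, by simp [c]⟩⟩
    have key : (fun g : X ⟶ X => F.map g) ∘ a = b ∘ c ∘ (fun φ : 𝟙_ C ⟶ 𝟙_ C => F.map φ) := by
      funext φ
      simp only [Function.comp_apply, a, b, c]
      rw [← cancel_epi (λ_ (F.obj X)).hom, Iso.hom_inv_id_assoc, comp_whiskerRight, comp_whiskerRight,
        Functor.LaxMonoidal.left_unitality F X]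
      simp only [Category.assoc, ← F.map_comp, Iso.hom_inv_id_assoc]
      rw [F.map_comp, ← Functor.LaxMonoidal.μ_natural_left_assoc]
      simp only [ε, ← comp_whiskerRight_assoc, Category.assoc, IsIso.inv_hom_id, Category.comp_id]
    exact (Function.Bijective.of_comp_iff _ ha).1 (key ▸ hb.comp (hc.comp h1))
  haveI : F.Full := ⟨fun {X Y} g => by
    obtain ⟨e⟩ := h0 X Y ⟨asIso g⟩
    obtain ⟨k, hk⟩ := (hend X).2 (g ≫ F.map e.inv)
    exact ⟨k ≫ e.hom, by simp only [F.map_comp]; simp only at hk; rw [hk, Category.assoc, ← F.map_comp]; simp⟩⟩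
  haveI : F.Faithful := ⟨fun {X Y} p q h => by
    have : p ≫ inv q = 𝟙 X := (hend X).1 (by simp [h])
    simpa using congrArg (· ≫ q) this⟩
  exact { }

end Groth.Agent.S15285
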