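import Groth.Statements.S15286
-- import your own Groth.Agent.* helpers here

set_option autoImplicit false
universe v v' u u'
open PicCat

namespace Groth.Agent.S15286

open CategoryTheory MonoidalCategory

section
variable {D : Type u'} [Category.{v'} D] [MonoidalCategory D]

def act (φ : 𝟙_ D ⟶ 𝟙_ D) (Z : D) : Z ⟶ Z := (λ_ Z).inv ≫ φ ▷ Z ≫ (λ_ Z).hom

theorem act_nat (φ : 𝟙_ D ⟶ 𝟙_ D) {Z W : D} (f : Z ⟶ W) : f ≫ act φ W = act φ Z ≫ f := by
  simp only [act, Category.assoc]
  rw [leftUnitor_inv_naturality_assoc, whisker_exchange_assoc, leftUnitor_naturality]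

theorem act_comp (φ ψ : 𝟙_ D ⟶ 𝟙_ D) (Z : D) : act (φ ≫ ψ) Z = act φ Z ≫ act ψ Z := by
  simp [act]

theorem act_id (Z : D) : act (𝟙 (𝟙_ D)) Z = 𝟙 Z := by simp [act]

theorem act_unit (φ : 𝟙_ D ⟶ 𝟙_ D) : act φ (𝟙_ D) = φ := by
  simp [act, show (λ_ (𝟙_ D)).hom = (ρ_ (𝟙_ D)).hom by monoidal_coherence, show (λ_ (𝟙_ D)).inv = (ρ_ (𝟙_ D)).inv by monoidal_coherence]

theorem act_right (φ : 𝟙_ D ⟶ 𝟙_ D) (Z W : D) : act φ Z ▷ W = act φ (Z ⊗ W) := by
  simp [act]

theorem act_left [BraidedCategory D] (φ : 𝟙_ D ⟶ 𝟙_ D) (Z W : D) : Z ◁ act φ W = act φ (Z ⊗ W) := by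
  rw [← cancel_mono (β_ Z W).hom, BraidedCategory.braiding_naturality_right, act_right, act_nat]

theorem act_bij (Z : D) (hZ : (tensorRight Z).IsEquivalence) :
    Function.Bijective (fun φ : 𝟙_ D ⟶ 𝟙_ D => act φ Z) := by
  haveI := hZ
  constructor
  · intro a b h
    apply (tensorRight Z).map_injective
    simpa [act] using h
  · intro g
    refine ⟨(tensorRight Z).preimage ((λ_ Z).hom ≫ g ≫ (λ_ Z).inv), ?_⟩
    have := (tensorRight Z).map_preimage ((λ_ Z).hom ≫ g ≫ (λ_ Z).inv)
    change ((tensorRight Z).preimage _) ▷ Z = _ at this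
    simp only [act]
    rw [this]; simp

end

open CategoryTheory MonoidalCategory in
/-- Let C be a Picard category, D a commutative (braided) Picard category, F, G : C ⥤ D lax monoidal
functors and θ₀ : F ⟶ G a monoidal natural transformation. Identify an endomorphism φ of the unit of
D with the automorphism λ⁻¹ ≫ (φ ▷ Z) ≫ λ of any object Z. Then the monoidal natural transformations
F ⟶ G form a torsor under the monoid homomorphisms χ from the monoid of isomorphism classes of C to
End(𝟙_D): every monoidal θ : F ⟶ G is X ↦ θ₀_X ≫ (action of χ[X] on G X) for a unique such χ, and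
for every χ this formula defines a monoidal natural transformation. (The published statement allows
D non-commutative; for a non-braided monoidal groupoid the classes so obtained are crossed rather
than plain homomorphisms, so D is taken braided here.) -/
theorem result
    {C : Type u} [Category.{v} C] [MonoidalCategory C] [IsGroupoid C]
    {D : Type u'} [Category.{v'} D] [MonoidalCategory D] [BraidedCategory D] [IsGroupoid D]
    (hC : ∀ X : C, (tensorLeft X).IsEquivalence ∧ (tensorRight X).IsEquivalence)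
    (hD : ∀ X : D, (tensorLeft X).IsEquivalence ∧ (tensorRight X).IsEquivalence)
    (F G : C ⥤ D) [F.LaxMonoidal] [G.LaxMonoidal] (θ₀ : F ⟶ G) [NatTrans.IsMonoidal θ₀] :
    (∀ θ : F ⟶ G, NatTrans.IsMonoidal θ →
      ∃! χ : Skeleton C →* End (𝟙_ D), ∀ X : C,
        θ.app X = θ₀.app X ≫ (λ_ (G.obj X)).inv ≫
          ((χ (toSkeleton X) : 𝟙_ D ⟶ 𝟙_ D) ▷ G.obj X) ≫ (λ_ (G.obj X)).hom) ∧
    (∀ χ : Skeleton C →* End (𝟙_ D), ∃ θ : F ⟶ G, NatTrans.IsMonoidal θ ∧ ∀ X : C,
        θ.app X = θ₀.app X ≫ (λ_ (G.obj X)).inv ≫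
          ((χ (toSkeleton X) : 𝟙_ D ⟶ 𝟙_ D) ▷ G.obj X) ≫ (λ_ (G.obj X)).hom) := by
  constructor
  · intro θ hθ
    have hb := fun X : C => act_bij (G.obj X) (hD _).2
    choose c hc using fun X : C => (hb X).2 (inv (θ₀.app X) ≫ θ.app X)
    have hinv : ∀ {X Y : C} (f : X ⟶ Y), c X = c Y := fun {X Y} f => by
      apply (hb X).1
      show act (c X) _ = act (c Y) _
      rw [← cancel_mono (G.map f), ← act_nat, ← act_nat]
      refine ?_
      have e : act (c X) (G.obj X) ≫ G.map f = G.map f ≫ act (c Y) (G.obj Y) := by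
        simp only [show act (c X) (G.obj X) = _ from hc X, show act (c Y) (G.obj Y) = _ from hc Y,
          Category.assoc, IsIso.inv_comp_eq]
        rw [← θ.naturality, ← θ₀.naturality_assoc, IsIso.hom_inv_id_assoc]
      rw [← act_nat] at e
      exact e
    have hout : ∀ X : C, c (toSkeleton X).out = c X := fun X => hinv (fromSkeletonToSkeletonIso X).hom
    have hone : c (𝟙_ C) = 𝟙 _ := by
      have h1 := NatTrans.IsMonoidal.unit (τ := θ)
      have h2 := NatTrans.IsMonoidal.unit (τ := θ₀)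
      have : Functor.LaxMonoidal.ε G ≫ act (c (𝟙_ C)) _ = Functor.LaxMonoidal.ε G := by
        rw [show act (c _) _ = _ from hc _]
        conv_lhs => rw [← h2]
        rw [Category.assoc, IsIso.hom_inv_id_assoc, h1]
      rw [act_nat, act_unit] at this
      exact (cancel_mono (Functor.LaxMonoidal.ε G)).1 (by simpa using this)
    have hmul : ∀ X Y : C, c (X ⊗ Y) = c Y ≫ c X := fun X Y => by
      have h1 := NatTrans.IsMonoidal.tensor (τ := θ) X Y
      have h2 := NatTrans.IsMonoidal.tensor (τ := θ₀) X Y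
      apply (act_bij (G.obj X ⊗ G.obj Y) (hD _).2).1
      show act _ _ = act _ _
      rw [← cancel_mono (Functor.LaxMonoidal.μ G X Y), ← act_nat, show act (c (X ⊗ Y)) _ = _ from hc _,
        act_comp, ← act_right (c X), ← act_left (c Y), show act (c X) _ = _ from hc _,
        show act (c Y) _ = _ from hc _, ← tensorHom_def', ← cancel_epi (θ₀.app X ⊗ₘ θ₀.app Y),
        ← reassoc_of% h2]
      simp [h1]
    refine ⟨{ toFun := fun s => c s.out, map_one' := ?_, map_mul' := ?_ }, fun X => ?_, fun χ hχ => ?_⟩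
    · rw [Skeleton.one_eq]; exact (hout _).trans hone
    · intro s t
      rw [Skeleton.mul_eq, hout, hmul]; rfl
    · show θ.app X = θ₀.app X ≫ act (c (toSkeleton X).out) _
      rw [hout, show act (c X) _ = _ from hc X]; simp
    · refine MonoidHom.ext fun s => (hb s.out).1 ?_
      show act (χ s) _ = act (c s.out) _
      rw [show act (c _) _ = _ from hc _, hχ s.out, IsIso.inv_hom_id_assoc]
      exact congrArg (fun t => act (χ t) (G.obj s.out)) (toSkeleton_fromSkeleton_obj s).symm
  · intro χ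
    let a : C → (𝟙_ D ⟶ 𝟙_ D) := fun X => χ (toSkeleton X)
    refine ⟨{ app := fun X => θ₀.app X ≫ act (a X) (G.obj X), naturality := fun X Y f => ?_ },
      { unit := ?_, tensor := fun X Y => ?_ }, fun X => rfl⟩
    · have : a X = a Y := congrArg χ (toSkeleton_eq_toSkeleton_iff.2 ⟨asIso f⟩)
      rw [this, θ₀.naturality_assoc, Category.assoc, act_nat]
    · have : a (𝟙_ C) = 𝟙 _ := map_one χ
      simp [this, act_id]
    · have : a (X ⊗ Y) = a Y ≫ a X := (congrArg χ (Skeleton.toSkeleton_tensorObj X Y)).trans (map_mul χ _ _)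
      dsimp only
      rw [NatTrans.IsMonoidal.tensor_assoc, act_nat, this, act_comp, ← act_right (a X),
        ← act_left (a Y), ← tensorHom_def', ← Category.assoc, ← tensorHom_comp_tensorHom]

end Groth.Agent.S15286
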