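import Mathlib
import Groth.Statements.S15292
-- import your own Groth.Agent.* helpers here

set_option autoImplicit false
universe u
open DeRham

namespace Groth.Agent.S15292

open exteriorPower in
/-- Let R → A be a ring map and d a family of R-linear maps from p-forms to (p+1)-forms on the exterior
powers of the Kähler differentials of A over R, p ≥ 0, satisfying the de Rham rule d(b₀ db₁ ∧ … ∧
db_p) = db₀ ∧ db₁ ∧ … ∧ db_p for all p and all bᵢ in A. Then the composite of two consecutive d is
zero in every degree; together with the rule this says that d is a de Rham differential of the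
Kähler differentials. -/
theorem result (R A : Type u) [CommRing R] [CommRing A] [Algebra R A]
    (d : ∀ p : ℕ, ↥(⋀[A]^p (Ω[A⁄R])) →ₗ[R] ↥(⋀[A]^(p + 1) (Ω[A⁄R])))
    (hd : DeRham.IsRule (KaehlerDifferential.D R A) d) :
    DeRham.IsDiff (KaehlerDifferential.D R A) d := by
  refine ⟨hd, fun p => LinearMap.ext fun x => ?_⟩
  have hspan : x ∈ Submodule.span A (exteriorPower.ιMulti A p '' {a | Set.range a ⊆ Set.range (KaehlerDifferential.D R A)}) := by
    rw [exteriorPower.ιMulti_span_of_span A p (Ω[A⁄R]) (KaehlerDifferential.span_range_derivation R A)]
    trivial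
  suffices key : ∀ r : A, d (p + 1) (d p (r • x)) = 0 by simpa using key 1
  induction hspan using Submodule.span_induction with
  | zero => intro r; simp
  | add a b _ _ ha hb => intro r; simp only [smul_add, map_add, ha, hb, add_zero]
  | smul s y _ hy => intro r; rw [smul_smul]; exact hy _
  | mem y hy =>
    intro r
    obtain ⟨a, ha, rfl⟩ := hy
    choose b hb using fun i => ha ⟨i, rfl⟩
    have e : r • exteriorPower.ιMulti A p a = DeRham.gen (KaehlerDifferential.D R A) p r b := by
      rw [DeRham.gen, show (fun i => (KaehlerDifferential.D R A) (b i)) = a from funext hb]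
    rw [e, hd]
    have e1 : exteriorPower.ιMulti A (p + 1) (Fin.cons (KaehlerDifferential.D R A r) (fun i => KaehlerDifferential.D R A (b i))) =
        DeRham.gen (KaehlerDifferential.D R A) (p + 1) 1 (Fin.cons r b) := by
      rw [DeRham.gen, one_smul]
      congr 1
      exact funext fun i => by induction i using Fin.cases <;> simp
    rw [e1, hd, Derivation.map_one_eq_zero]
    exact (exteriorPower.ιMulti A (p + 1 + 1)).map_coord_zero 0 (by simp)

end Groth.Agent.S15292
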