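import Groth.Statements.S15293
import Mathlib
set_option linter.style.haveILetI false

set_option autoImplicit false
universe u
open DeRham

namespace Groth.Agent.S15293

open exteriorPower in
/-- For a commutative square of ring maps R → A → B, R → S → B (B an algebra over R, A and S
compatibly), there is a family of additive maps ψ_p from the p-forms of A over R to the p-forms of B
over S, p ≥ 0, which is the map of de Rham complexes induced by the square: ψ_p sends b₀ db₁ ∧ … ∧
db_p to g(b₀) d(g b₁) ∧ … ∧ d(g b_p), where g : A → B is the structure map. In degree 0 this is g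
and in degree 1 the induced map on Kähler differentials. -/
theorem result (R S A B : Type u) [CommRing R] [CommRing S] [CommRing A] [CommRing B]
    [Algebra R S] [Algebra R A] [Algebra R B] [Algebra A B] [Algebra S B]
    [IsScalarTower R A B] [IsScalarTower R S B] :
    ∃ ψ : ∀ p : ℕ, ↥(⋀[A]^p (Ω[A⁄R])) →+ ↥(⋀[B]^p (Ω[B⁄S])),
      DeRham.IsCxMap (KaehlerDifferential.D R A) (KaehlerDifferential.D S B) (algebraMap A B) ψ := by
  refine ⟨fun p => ?_, ?_⟩
  · exact (exteriorPower.alternatingMapLinearEquiv
      ({ ((exteriorPower.ιMulti B p (M := Ω[B⁄S])).toMultilinearMap.restrictScalars A).compLinearMap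
            (fun _ => KaehlerDifferential.map R S A B) with
          map_eq_zero_of_eq' := fun v i j h hij => (exteriorPower.ιMulti B p).map_eq_zero_of_eq
            (fun l => KaehlerDifferential.map R S A B (v l)) (congrArg _ h) hij } :
        AlternatingMap A (Ω[A⁄R]) ↥(⋀[B]^p (Ω[B⁄S])) (Fin p))).toAddMonoidHom
  · intro p b₀ b
    simp only [DeRham.gen, LinearMap.toAddMonoidHom_coe, map_smul, exteriorPower.alternatingMapLinearEquiv_apply_ιMulti]
    rw [algebraMap_smul]
    refine congrArg (b₀ • ·) ?_
    show exteriorPower.ιMulti B p (fun l => KaehlerDifferential.map R S A B (KaehlerDifferential.D R A (b l))) = _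
    congr 1
    funext l
    exact KaehlerDifferential.map_D R S A B (b l)

end Groth.Agent.S15293
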