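import Mathlib
import Groth.Statements.S15294
-- import your own Groth.Agent.* helpers here

set_option autoImplicit false
universe u
open DeRham

namespace Groth.Agent.S15294

open exteriorPower in
/-- The map of de Rham complexes attached to a square of ring maps is compatible with the differentials.
Precisely: let R → A and S → B be ring maps with B an algebra over A (and over R, compatibly), let d
and d' be de Rham differentials of the Kähler differentials of A over R and of B over S, and let ψ
be a family of additive maps from p-forms of A over R to p-forms of B over S which is the induced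
map for the structure map g : A → B, sending b₀ db₁ ∧ … ∧ db_p to g(b₀) d(g b₁) ∧ … ∧ d(g b_p). Then
ψ in degree p+1 composed with d equals d' composed with ψ in degree p. (The published statement is
for a commutative square of ring maps R → S, A → B; once the family ψ is given the conclusion holds
for any ring maps, the square being needed only to produce ψ.) -/
theorem result (R S A B : Type u) [CommRing R] [CommRing S] [CommRing A] [CommRing B]
    [Algebra R A] [Algebra S B] [Algebra A B] [Algebra R B] [IsScalarTower R A B]
    (d : ∀ p : ℕ, ↥(⋀[A]^p (Ω[A⁄R])) →ₗ[R] ↥(⋀[A]^(p + 1) (Ω[A⁄R])))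
    (hd : DeRham.IsDiff (KaehlerDifferential.D R A) d)
    (d' : ∀ p : ℕ, ↥(⋀[B]^p (Ω[B⁄S])) →ₗ[S] ↥(⋀[B]^(p + 1) (Ω[B⁄S])))
    (hd' : DeRham.IsDiff (KaehlerDifferential.D S B) d')
    (ψ : ∀ p : ℕ, ↥(⋀[A]^p (Ω[A⁄R])) →+ ↥(⋀[B]^p (Ω[B⁄S])))
    (hψ : DeRham.IsCxMap (KaehlerDifferential.D R A) (KaehlerDifferential.D S B) (algebraMap A B) ψ)
    (p : ℕ) (x : ↥(⋀[A]^p (Ω[A⁄R]))) :
    ψ (p + 1) (d p x) = d' p (ψ p x) := by
  have hspan : x ∈ Submodule.span A (exteriorPower.ιMulti A p '' {a | Set.range a ⊆ Set.range (KaehlerDifferential.D R A)}) := by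
    rw [exteriorPower.ιMulti_span_of_span A p (Ω[A⁄R]) (KaehlerDifferential.span_range_derivation R A)]
    trivial
  suffices key : ∀ r : A, ψ (p + 1) (d p (r • x)) = d' p (ψ p (r • x)) by
    simpa using key 1
  induction hspan using Submodule.span_induction with
  | zero => intro r; simp
  | add a b _ _ ha hb => intro r; simp only [smul_add, map_add, ha, hb]
  | smul s y _ hy => intro r; rw [smul_smul]; exact hy _
  | mem y hy =>
    intro r
    obtain ⟨a, ha, rfl⟩ := hy
    choose b hb using fun i => ha ⟨i, rfl⟩
    have e : r • exteriorPower.ιMulti A p a = DeRham.gen (KaehlerDifferential.D R A) p r b := by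
      rw [DeRham.gen, show (fun i => (KaehlerDifferential.D R A) (b i)) = a from funext hb]
    rw [e, hψ, hd'.1, hd.1]
    have h2 := hψ (p + 1) 1 (Fin.cons r b)
    simp only [DeRham.gen, one_smul, map_one] at h2
    have e1 : (fun i => (KaehlerDifferential.D R A) (Fin.cons (α := fun _ => A) r b i)) =
        Fin.cons (KaehlerDifferential.D R A r) (fun i => KaehlerDifferential.D R A (b i)) :=
      funext fun i => by induction i using Fin.cases <;> simp
    have e2 : (fun i => (KaehlerDifferential.D S B) (algebraMap A B (Fin.cons (α := fun _ => A) r b i))) =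
        Fin.cons (KaehlerDifferential.D S B (algebraMap A B r))
          (fun i => KaehlerDifferential.D S B (algebraMap A B (b i))) :=
      funext fun i => by induction i using Fin.cases <;> simp
    rw [e1, e2] at h2
    exact h2

end Groth.Agent.S15294
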