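import Mathlib
import Groth.Statements.S15296


set_option autoImplicit false
universe u
open DeRham

namespace Groth.Agent.S15296

section Ker
variable {A M N : Type u} [CommRing A] [AddCommGroup M] [Module A M] [AddCommGroup N] [Module A N]

/-- Forms with a factor in the kernel. -/
def kerSpan (π : M →ₗ[A] N) (p : ℕ) : Submodule A (⋀[A]^p M) :=
  Submodule.span A {x | ∃ (v : Fin p → M) (i : Fin p), π (v i) = 0 ∧ x = exteriorPower.ιMulti A p v}

lemma ker_map_le (π : M →ₗ[A] N) (hπ : Function.Surjective π) (p : ℕ) :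
    LinearMap.ker (exteriorPower.map p π) ≤ kerSpan π p := by
  classical
  let s : N → M := Function.surjInv hπ
  have hs : ∀ y, π (s y) = y := Function.surjInv_eq hπ
  let K := kerSpan π p
  let g : (Fin p → M) → (⋀[A]^p M) ⧸ K := fun v => K.mkQ (exteriorPower.ιMulti A p v)
  have hg0 : ∀ (v : Fin p → M) i, π (v i) = 0 → g v = 0 := fun v i h =>
    (Submodule.Quotient.mk_eq_zero _).2 (Submodule.subset_span ⟨v, i, h, rfl⟩)
  have hstep : ∀ (v : Fin p → M) (i : Fin p) (x y : M), π x = π y →
      g (Function.update v i x) = g (Function.update v i y) := by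
    intro v i x y h
    have h2 := hg0 (Function.update v i (x - y)) i (by rw [Function.update_self, map_sub, h, sub_self])
    simp only [g, AlternatingMap.map_update_sub, map_sub, sub_eq_zero] at h2
    exact h2
  let G : N [⋀^Fin p]→ₗ[A] ((⋀[A]^p M) ⧸ K) :=
    { toFun := fun v => g (s ∘ v)
      map_update_add' := fun {inst} v i x y => by
        obtain rfl := Subsingleton.elim inst (instDecidableEqFin p)
        have e : ∀ z, (s ∘ Function.update v i z) = Function.update (s ∘ v) i (s z) := fun z => by
          funext j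
          by_cases hj : j = i
          · subst hj; simp
          · simp [Function.update_of_ne hj]
        simp only [e]
        rw [hstep (s ∘ v) i (s (x + y)) (s x + s y) (by rw [map_add, hs, hs, hs])]
        simp only [g, AlternatingMap.map_update_add, map_add]
      map_update_smul' := fun {inst} v i c x => by
        obtain rfl := Subsingleton.elim inst (instDecidableEqFin p)
        have e : ∀ z, (s ∘ Function.update v i z) = Function.update (s ∘ v) i (s z) := fun z => by
          funext j
          by_cases hj : j = i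
          · subst hj; simp
          · simp [Function.update_of_ne hj]
        simp only [e]
        rw [hstep (s ∘ v) i (s (c • x)) (c • s x) (by rw [map_smul, hs, hs])]
        simp only [g, AlternatingMap.map_update_smul, map_smul]
      map_eq_zero_of_eq' := fun v i j h hij => by
        simp only [g]
        rw [(exteriorPower.ιMulti A p).map_eq_zero_of_eq (s ∘ v) (congrArg s h) hij, map_zero] }
  have hGv : ∀ v : Fin p → N, G v = g (s ∘ v) := fun v => rfl
  let ψ := exteriorPower.alternatingMapLinearEquiv G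
  have hψ : ψ ∘ₗ exteriorPower.map p π = K.mkQ := by
    refine exteriorPower.linearMap_ext (AlternatingMap.ext fun v => ?_)
    simp only [LinearMap.compAlternatingMap_apply, LinearMap.comp_apply, exteriorPower.map_apply_ιMulti,
      ψ, exteriorPower.alternatingMapLinearEquiv_apply_ιMulti, hGv]
    suffices h : ∀ (S : Finset (Fin p)), g (fun j => if j ∈ S then s (π (v j)) else v j) = g v by
      have := h Finset.univ
      simp only [Finset.mem_univ, if_true] at this
      exact this
    intro S
    induction S using Finset.induction_on with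
    | empty => simp
    | @insert a S ha ih =>
      rw [← ih]
      have h1 : (fun j => if j ∈ insert a S then s (π (v j)) else v j) =
          Function.update (fun j => if j ∈ S then s (π (v j)) else v j) a (s (π (v a))) := by
        funext j
        by_cases hj : j = a
        · subst hj; simp
        · simp [Function.update_of_ne hj, hj]
      rw [h1, hstep _ a (s (π (v a))) (v a) (hs _)]
      congr 1
      funext j
      by_cases hj : j = a
      · subst hj; simp [ha]
      · simp [Function.update_of_ne hj]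
  intro x hx
  have := LinearMap.congr_fun hψ x
  rw [LinearMap.comp_apply, LinearMap.mem_ker.1 hx, map_zero] at this
  exact (Submodule.Quotient.mk_eq_zero _).1 this.symm

end Ker

section DR
open KaehlerDifferential
variable {R A Ω' : Type u} [CommRing R] [CommRing A] [Algebra R A]
  [AddCommGroup Ω'] [Module A Ω']

local notation "EA" => ExteriorAlgebra A

lemma coe_ιMulti {M : Type u} [AddCommGroup M] [Module A M] {n : ℕ} (x : M) (v : Fin n → M) :
    ((exteriorPower.ιMulti A (n + 1) (Fin.cons x v) : ⋀[A]^(n + 1) M) : ExteriorAlgebra A M) =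
      ExteriorAlgebra.ι A x * (exteriorPower.ιMulti A n v : ⋀[A]^n M) := by
  rw [exteriorPower.ιMulti_apply_coe, exteriorPower.ιMulti_apply_coe, ExteriorAlgebra.ιMulti_succ_apply]
  simp [Matrix.vecTail, Function.comp_def]

lemma coe_map {M N : Type u} [AddCommGroup M] [Module A M] [AddCommGroup N] [Module A N] (π : M →ₗ[A] N) (n : ℕ)
    (x : ⋀[A]^n M) :
    ((exteriorPower.map n π x : ⋀[A]^n N) : ExteriorAlgebra A N) = ExteriorAlgebra.map π (x : ExteriorAlgebra A M) := by
  have hx : x ∈ Submodule.span A (Set.range (exteriorPower.ιMulti A n (M := M))) := by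
    rw [exteriorPower.ιMulti_span]; trivial
  induction hx using Submodule.span_induction with
  | zero => simp
  | add a b _ _ ha hb => simp [ha, hb]
  | smul c a _ ha => simp [ha]
  | mem a ha =>
    obtain ⟨v, rfl⟩ := ha
    rw [exteriorPower.map_apply_ιMulti, exteriorPower.ιMulti_apply_coe, exteriorPower.ιMulti_apply_coe,
      ExteriorAlgebra.map_apply_ιMulti]

variable {dA : ∀ p : ℕ, ↥(⋀[A]^p (Ω[A⁄R])) →ₗ[R] ↥(⋀[A]^(p + 1) (Ω[A⁄R]))}

lemma rule_coe (hdA : DeRham.IsRule (D R A) dA) (q : ℕ) (c : A) (b : Fin q → A) :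
    (dA q (c • exteriorPower.ιMulti A q (fun i => D R A (b i))) : ExteriorAlgebra A (Ω[A⁄R])) =
      ExteriorAlgebra.ι A (D R A c) * (exteriorPower.ιMulti A q (fun i => D R A (b i)) : ⋀[A]^q (Ω[A⁄R])) := by
  rw [← coe_ιMulti]
  exact congrArg Subtype.val (hdA q c b)

lemma oneForm (c : A) (e : A) :
    (exteriorPower.oneEquiv A (Ω[A⁄R])).symm (c • D R A e) =
      c • exteriorPower.ιMulti A 1 (fun i => D R A ((fun _ : Fin 1 => e) i)) := by
  apply (exteriorPower.oneEquiv A (Ω[A⁄R])).injective
  rw [LinearEquiv.apply_symm_apply, map_smul, exteriorPower.oneEquiv_ιMulti]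

lemma cons_form (hdA : DeRham.IsRule (D R A) dA) {q : ℕ} (x : Ω[A⁄R]) (b : Fin q → A) :
    (dA (q + 1) (exteriorPower.ιMulti A (q + 1) (Fin.cons x (fun i => D R A (b i)))) : ExteriorAlgebra A (Ω[A⁄R])) =
      (dA 1 ((exteriorPower.oneEquiv A (Ω[A⁄R])).symm x) : ExteriorAlgebra A (Ω[A⁄R])) *
        (exteriorPower.ιMulti A q (fun i => D R A (b i)) : ⋀[A]^q (Ω[A⁄R])) := by
  have hx : x ∈ Submodule.span A (Set.range (D R A)) := by rw [span_range_derivation]; trivial
  suffices key : ∀ c : A,
      (dA (q + 1) (exteriorPower.ιMulti A (q + 1) (Fin.cons (c • x) (fun i => D R A (b i)))) : ExteriorAlgebra A (Ω[A⁄R])) =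
      (dA 1 ((exteriorPower.oneEquiv A (Ω[A⁄R])).symm (c • x)) : ExteriorAlgebra A (Ω[A⁄R])) *
        (exteriorPower.ιMulti A q (fun i => D R A (b i)) : ⋀[A]^q (Ω[A⁄R])) by
    simpa using key 1
  induction hx using Submodule.span_induction with
  | zero =>
    intro c
    rw [smul_zero, (exteriorPower.ιMulti A (q + 1)).map_coord_zero 0 (by simp)]
    simp
  | add y z _ _ hy hz =>
    intro c
    have h : exteriorPower.ιMulti A (q + 1) (Fin.cons (c • (y + z)) (fun i => D R A (b i))) =
        exteriorPower.ιMulti A (q + 1) (Fin.cons (c • y) (fun i => D R A (b i))) +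
        exteriorPower.ιMulti A (q + 1) (Fin.cons (c • z) (fun i => D R A (b i))) := by
      rw [smul_add]
      exact (exteriorPower.ιMulti A (q + 1)).toMultilinearMap.cons_add _ _ _
    rw [h, map_add, Submodule.coe_add, hy, hz, smul_add, map_add, map_add, Submodule.coe_add, add_mul]
  | smul r y _ hy => intro c; rw [smul_smul]; exact hy _
  | mem y hy =>
    intro c
    obtain ⟨e, rfl⟩ := hy
    have h : exteriorPower.ιMulti A (q + 1) (Fin.cons (c • D R A e) (fun i => D R A (b i))) =
        c • exteriorPower.ιMulti A (q + 1) (fun i => D R A (Fin.cons (α := fun _ => A) e b i)) := by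
      refine ((exteriorPower.ιMulti A (q + 1)).toMultilinearMap.cons_smul _ c (D R A e)).trans ?_
      exact congrArg (fun v => c • exteriorPower.ιMulti A (q + 1) v)
        (funext fun i => by induction i using Fin.cases <;> simp)
    have h1 : (exteriorPower.ιMulti A 1 (fun _ : Fin 1 => D R A e) : ExteriorAlgebra A (Ω[A⁄R])) =
        ExteriorAlgebra.ι A (D R A e) := by
      rw [exteriorPower.ιMulti_apply_coe, ExteriorAlgebra.ιMulti_apply]
      simp
    rw [h, rule_coe hdA, oneForm, rule_coe hdA, h1, mul_assoc]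
    congr 1
    rw [← coe_ιMulti]
    congr 2
    exact funext fun i => by induction i using Fin.cases <;> simp

lemma leibniz (hdA : DeRham.IsRule (D R A) dA) (a : A) (x : Ω[A⁄R]) :
    (dA 1 ((exteriorPower.oneEquiv A (Ω[A⁄R])).symm (a • x)) : ExteriorAlgebra A (Ω[A⁄R])) =
      ExteriorAlgebra.ι A (D R A a) * ExteriorAlgebra.ι A x +
        a • (dA 1 ((exteriorPower.oneEquiv A (Ω[A⁄R])).symm x) : ExteriorAlgebra A (Ω[A⁄R])) := by
  have hx : x ∈ Submodule.span A (Set.range (D R A)) := by rw [span_range_derivation]; trivial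
  suffices key : ∀ c : A,
      (dA 1 ((exteriorPower.oneEquiv A (Ω[A⁄R])).symm (a • c • x)) : ExteriorAlgebra A (Ω[A⁄R])) =
      ExteriorAlgebra.ι A (D R A a) * ExteriorAlgebra.ι A (c • x) +
        a • (dA 1 ((exteriorPower.oneEquiv A (Ω[A⁄R])).symm (c • x)) : ExteriorAlgebra A (Ω[A⁄R])) by
    simpa using key 1
  induction hx using Submodule.span_induction with
  | zero => intro c; simp
  | add y z _ _ hy hz =>
    intro c
    simp only [smul_add, map_add, Submodule.coe_add, hy, hz, mul_add]
    abel
  | smul r y _ hy => intro c; rw [smul_smul c r y]; exact hy _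
  | mem y hy =>
    intro c
    obtain ⟨e, rfl⟩ := hy
    rw [smul_smul, oneForm, oneForm, rule_coe hdA, rule_coe hdA]
    have h1 : (exteriorPower.ιMulti A 1 (fun _ : Fin 1 => D R A e) : ExteriorAlgebra A (Ω[A⁄R])) =
        ExteriorAlgebra.ι A (D R A e) := by
      rw [exteriorPower.ιMulti_apply_coe, ExteriorAlgebra.ιMulti_apply]
      simp
    rw [h1, Derivation.leibniz, map_add, map_smul, map_smul, add_mul, map_smul, smul_mul_assoc, smul_mul_assoc,
      mul_smul_comm]
    abel

variable [Module R Ω'] [IsScalarTower R A Ω'] (π : Ω[A⁄R] →ₗ[A] Ω')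

lemma stable (hdA : DeRham.IsRule (D R A) dA)
    (hker : LinearMap.ker π ≤ Submodule.span A {ω : Ω[A⁄R] | π ω = 0 ∧
      exteriorPower.map 2 π (dA 1 ((exteriorPower.oneEquiv A (Ω[A⁄R])).symm ω)) = 0})
    (p : ℕ) (x : ⋀[A]^p (Ω[A⁄R])) (hx : x ∈ kerSpan π p) :
    exteriorPower.map (p + 1) π (dA p x) = 0 := by
  classical
  let K : Submodule A (⋀[A]^p (Ω[A⁄R])) :=
    { carrier := {x | ∀ a : A, exteriorPower.map (p + 1) π (dA p (a • x)) = 0}
      add_mem' := fun {x y} hx hy a => by rw [smul_add, map_add, map_add, hx a, hy a, add_zero]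
      zero_mem' := fun a => by simp
      smul_mem' := fun c x hx a => by rw [smul_smul]; exact hx _ }
  suffices h : kerSpan π p ≤ K by simpa using h hx 1
  refine Submodule.span_le.2 ?_
  rintro _ ⟨v, i, hi, rfl⟩
  obtain ⟨q, rfl⟩ : ∃ q, p = q + 1 := ⟨p - 1, by have := i.isLt; omega⟩
  suffices main : ∀ w : Fin (q + 1) → Ω[A⁄R], π (w 0) = 0 → exteriorPower.ιMulti A (q + 1) w ∈ K by
    have h1 := main (v ∘ Equiv.swap 0 i) (by simpa using hi)
    rw [AlternatingMap.map_perm] at h1
    rcases Int.units_eq_one_or (Equiv.Perm.sign (Equiv.swap (0 : Fin (q + 1)) i)) with h | h <;> rw [h] at h1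
    · simpa using h1
    · simpa using h1
  intro w hw
  have key : ∀ ω ∈ Submodule.span A {ω : Ω[A⁄R] | π ω = 0 ∧
      exteriorPower.map 2 π (dA 1 ((exteriorPower.oneEquiv A (Ω[A⁄R])).symm ω)) = 0},
      ∀ t : ⋀[A]^q (Ω[A⁄R]),
        exteriorPower.alternatingMapLinearEquiv ((exteriorPower.ιMulti A (q + 1) (M := Ω[A⁄R])).curryLeft ω) t ∈ K := by
    intro ω hω
    induction hω using Submodule.span_induction with
    | zero => intro t; simp
    | add y z _ _ hy hz => intro t; simp only [map_add, LinearMap.add_apply]; exact K.add_mem (hy t) (hz t)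
    | smul c y _ hy => intro t; simp only [map_smul, LinearMap.smul_apply]; exact K.smul_mem c (hy t)
    | mem ω hω =>
      obtain ⟨hω0, hω1⟩ := hω
      intro t
      have ht : t ∈ Submodule.span A (exteriorPower.ιMulti A q '' {a | Set.range a ⊆ Set.range (D R A)}) := by
        rw [exteriorPower.ιMulti_span_of_span A q (Ω[A⁄R]) (span_range_derivation R A)]
        trivial
      induction ht using Submodule.span_induction with
      | zero => simp
      | add y z _ _ hy hz => rw [map_add]; exact K.add_mem hy hz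
      | smul c y _ hy => rw [map_smul]; exact K.smul_mem c hy
      | mem y hy =>
        obtain ⟨u, hu, rfl⟩ := hy
        choose b hb using fun i => hu ⟨i, rfl⟩
        obtain rfl : u = fun i => D R A (b i) := funext fun i => (hb i).symm
        rw [exteriorPower.alternatingMapLinearEquiv_apply_ιMulti]
        intro a
        have hcurry : a • (exteriorPower.ιMulti A (q + 1)).curryLeft ω (fun i => D R A (b i)) =
            exteriorPower.ιMulti A (q + 1) (Fin.cons (a • ω) (fun i => D R A (b i))) :=
          ((exteriorPower.ιMulti A (q + 1)).toMultilinearMap.cons_smul _ a ω).symm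
        rw [hcurry]
        apply Subtype.ext
        rw [coe_map, cons_form hdA, map_mul, leibniz hdA, map_add, map_mul, map_smul, ← coe_map, hω1,
          ExteriorAlgebra.map_apply_ι π ω, hω0]
        simp
  have h := key (w 0) (hker hw) (exteriorPower.ιMulti A q (Fin.tail w))
  rw [exteriorPower.alternatingMapLinearEquiv_apply_ιMulti] at h
  have e : (exteriorPower.ιMulti A (q + 1) (M := Ω[A⁄R])).curryLeft (w 0) (Fin.tail w) =
      exteriorPower.ιMulti A (q + 1) w :=
    congrArg (exteriorPower.ιMulti A (q + 1)) (Fin.cons_self_tail w)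
  rwa [e] at h

end DR

open exteriorPower in
/-- Let R → A be a ring map, π a surjective A-linear map from the Kähler differentials of A over R onto
an A-module Ω', δ = π ∘ d the induced derivation A → Ω', and d_A a de Rham differential of the
Kähler differentials. Suppose the kernel of π is generated over A by elements ω with π(ω) = 0 whose
differential d_A(ω) is killed by the second exterior power of π. Then the exterior powers of Ω' over
A carry a de Rham differential for δ: a family of R-linear maps d from p-forms to (p+1)-forms with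
d(f₀ δf₁ ∧ … ∧ δf_p) = δf₀ ∧ δf₁ ∧ … ∧ δf_p and d ∘ d = 0; moreover d is compatible with d_A through
the exterior powers of π. -/
theorem result (R A Ω' : Type u) [CommRing R] [CommRing A] [Algebra R A]
    [AddCommGroup Ω'] [Module A Ω'] [Module R Ω'] [IsScalarTower R A Ω']
    (π : Ω[A⁄R] →ₗ[A] Ω') (hπ : Function.Surjective π)
    (dA : ∀ p : ℕ, ↥(⋀[A]^p (Ω[A⁄R])) →ₗ[R] ↥(⋀[A]^(p + 1) (Ω[A⁄R])))
    (hdA : DeRham.IsDiff (KaehlerDifferential.D R A) dA)
    (hker : LinearMap.ker π ≤ Submodule.span A {ω : Ω[A⁄R] | π ω = 0 ∧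
      exteriorPower.map 2 π (dA 1 ((exteriorPower.oneEquiv A (Ω[A⁄R])).symm ω)) = 0}) :
    ∃ d : ∀ p : ℕ, ↥(⋀[A]^p Ω') →ₗ[R] ↥(⋀[A]^(p + 1) Ω'),
      DeRham.IsDiff (π.compDer (KaehlerDifferential.D R A)) d ∧
        ∀ (p : ℕ) (x : ↥(⋀[A]^p (Ω[A⁄R]))),
          d p (exteriorPower.map p π x) = exteriorPower.map (p + 1) π (dA p x) := by
  classical
  let f : ∀ p : ℕ, ↥(⋀[A]^p (Ω[A⁄R])) →ₗ[R] ↥(⋀[A]^p Ω') := fun p => (exteriorPower.map p π).restrictScalars R
  have hf : ∀ p, Function.Surjective (f p) := fun p => exteriorPower.map_surjective hπ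
  have hle : ∀ p, LinearMap.ker (f p) ≤ LinearMap.ker (f (p + 1) ∘ₗ dA p) := fun p x hx =>
    stable π hdA.1 hker p x (ker_map_le π hπ p hx)
  let d : ∀ p : ℕ, ↥(⋀[A]^p Ω') →ₗ[R] ↥(⋀[A]^(p + 1) Ω') := fun p =>
    (LinearMap.ker (f p)).liftQ (f (p + 1) ∘ₗ dA p) (hle p) ∘ₗ ((f p).quotKerEquivOfSurjective (hf p)).symm.toLinearMap
  have hd : ∀ p x, d p (f p x) = f (p + 1) (dA p x) := by
    intro p x
    have h : ((f p).quotKerEquivOfSurjective (hf p)).symm (f p x) = Submodule.Quotient.mk x := by
      rw [LinearEquiv.symm_apply_eq, LinearMap.quotKerEquivOfSurjective_apply_mk]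
    simp only [d, LinearMap.comp_apply, LinearEquiv.coe_coe, h, Submodule.liftQ_apply]
  refine ⟨d, ⟨fun p b₀ b => ?_, fun p => LinearMap.ext fun y => ?_⟩, fun p x => hd p x⟩
  · have e : DeRham.gen (π.compDer (KaehlerDifferential.D R A)) p b₀ b =
        f p (DeRham.gen (KaehlerDifferential.D R A) p b₀ b) := by
      simp only [f, LinearMap.coe_restrictScalars, DeRham.gen, map_smul, exteriorPower.map_apply_ιMulti]
      rfl
    rw [e, hd, hdA.1]
    simp only [f, LinearMap.coe_restrictScalars, exteriorPower.map_apply_ιMulti]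
    congr 1
    exact funext fun i => by induction i using Fin.cases <;> simp
  · obtain ⟨x, rfl⟩ := hf p y
    rw [LinearMap.comp_apply, hd, hd, ← LinearMap.comp_apply (f := dA (p + 1)), hdA.2 p]
    simp

end Groth.Agent.S15296
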