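import Mathlib
import Groth.Statements.S15297
-- import your own Groth.Agent.* helpers here

set_option autoImplicit false
universe u
open DeRham

namespace Groth.Agent.S15297

open exteriorPower in
/-- Let R → A be a ring map and d a de Rham differential of the Kähler differentials of A over R. Then
each d from p-forms to (p+1)-forms, an R-linear map between A-modules, is a differential operator of
order at most 1 relative to R → A: every commutator of d with multiplication by an element of A is
A-linear. -/
theorem result (R A : Type u) [CommRing R] [CommRing A] [Algebra R A]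
    (d : ∀ p : ℕ, ↥(⋀[A]^p (Ω[A⁄R])) →ₗ[R] ↥(⋀[A]^(p + 1) (Ω[A⁄R])))
    (hd : DeRham.IsDiff (KaehlerDifferential.D R A) d) (p : ℕ) :
    Diff16.IsDiffOpLE R A ↥(⋀[A]^p (Ω[A⁄R])) ↥(⋀[A]^(p + 1) (Ω[A⁄R])) 1 (d p) := by
  intro e c m
  let Z := Diff16.commutator R A ↥(⋀[A]^p (Ω[A⁄R])) ↥(⋀[A]^(p + 1) (Ω[A⁄R])) (d p) e
  show Z (c • m) = c • Z m
  let δ := KaehlerDifferential.D R A
  have hZ : ∀ (b₀ : A) (b : Fin p → A),
      Z (DeRham.gen δ p b₀ b) = b₀ • exteriorPower.ιMulti A (p + 1) (Fin.cons (δ e) (fun i => δ (b i))) := by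
    intro b₀ b
    have h1 : e • DeRham.gen δ p b₀ b = DeRham.gen δ p (e * b₀) b := smul_smul e b₀ _
    show d p (e • DeRham.gen δ p b₀ b) - e • d p (DeRham.gen δ p b₀ b) = _
    rw [h1, hd.1, hd.1, δ.leibniz]
    let t : Fin p → Ω[A⁄R] := fun i => δ (b i)
    have hadd := (exteriorPower.ιMulti A (p + 1) (M := Ω[A⁄R])).toMultilinearMap.cons_add t
    have hsmul := (exteriorPower.ιMulti A (p + 1) (M := Ω[A⁄R])).toMultilinearMap.cons_smul t
    simp only [AlternatingMap.coe_multilinearMap] at hadd hsmul
    rw [hadd, hsmul, hsmul]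
    abel
  have hspan : m ∈ Submodule.span A (exteriorPower.ιMulti A p '' {a | Set.range a ⊆ Set.range δ}) := by
    rw [exteriorPower.ιMulti_span_of_span A p (Ω[A⁄R]) (KaehlerDifferential.span_range_derivation R A)]
    trivial
  have hprop : ∀ x ∈ exteriorPower.ιMulti A p '' {a | Set.range a ⊆ Set.range δ}, ∀ r : A, Z (r • x) = r • Z x := by
    rintro _ ⟨a, ha, rfl⟩ r
    choose b hb using fun i => ha ⟨i, rfl⟩
    have e1 : exteriorPower.ιMulti A p a = DeRham.gen δ p 1 b := by
      rw [DeRham.gen, one_smul, show (fun i => δ (b i)) = a from funext hb]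
    have e2 : r • exteriorPower.ιMulti A p a = DeRham.gen δ p r b := by
      rw [DeRham.gen, show (fun i => δ (b i)) = a from funext hb]
    rw [e2, e1, hZ, hZ, one_smul]
  have key : ∀ r : A, Z (r • m) = r • Z m := by
    clear c
    induction hspan using Submodule.span_induction with
    | mem x hx => exact hprop x hx
    | zero => intro r; simp
    | add x y _ _ hx hy => intro r; rw [smul_add, map_add, map_add, hx, hy, smul_add]
    | smul s x _ hx => intro r; rw [smul_smul, hx, hx, smul_smul]
  exact key c

end Groth.Agent.S15297
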