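import Groth.Statements.S15298
import Groth.Agent.PP16Lib.AdicTopLift
import Groth.Agent.CohenStruct.PowerSeries

set_option autoImplicit false
universe u
open CAlg

namespace Groth.Agent.S15298

/-- Let k be a field, A a Noetherian k-algebra and x a non-zero-divisor of A such that A is separated
and complete for the (x)-adic topology, and assume that B = A/xA is formally smooth over k. Then A
is a power series ring over B in the variable x: there is a k-algebra isomorphism e : B[[T]] ≅ A
with e(T) = x whose reduction modulo x is the constant-coefficient map, i.e. e(f) ≡ f(0) mod x for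
every power series f. -/
theorem result (k A : Type u) [Field k]
    [CommRing A] [Algebra k A] [IsNoetherianRing A] (x : A) (hx : x ∈ nonZeroDivisors A)
    [IsAdicComplete (Ideal.span {x}) A] [Algebra.FormallySmooth k (A ⧸ Ideal.span {x})] :
    ∃ e : PowerSeries (A ⧸ Ideal.span {x}) ≃ₐ[k] A,
      e PowerSeries.X = x ∧
      ∀ f : PowerSeries (A ⧸ Ideal.span {x}),
        Ideal.Quotient.mk (Ideal.span {x}) (e f) = PowerSeries.constantCoeff f := by
  classical
  let I : Ideal A := Ideal.span {x}
  let B := A ⧸ I
  have hB : EGA41.IsFormallySmoothAdic k (⊥ : Ideal k) B (⊥ : Ideal B) :=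
    PP16Lib.formallySmoothAdic_of_adicSmooth fun E _ _ N hN ψ _ =>
      Algebra.FormallySmooth.comp_surjective k B N hN ψ
  have : IsHausdorff (I.map (Ideal.Quotient.mk I)) B := by rw [Ideal.map_quotient_self]; infer_instance
  obtain ⟨s, -, hs⟩ := PP16Lib.exists_lift_complete hB I ⟨1, by rw [pow_one, Ideal.map_bot]; exact bot_le⟩ I ⟨1, (pow_one I).le⟩ (AlgHom.id k B)
    ⟨1, by rw [pow_one, Ideal.map_bot]; exact bot_le⟩
  have hs' : ∀ b, Ideal.Quotient.mk I (s b) = b := fun b => AlgHom.congr_fun hs b
  let t : Unit → A := fun _ => x
  have ht : ∀ i, t i ∈ I := fun _ => Ideal.mem_span_singleton_self x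
  let e : PowerSeries B →+* A := CohenStruct.evalPS I s.toRingHom t ht
  have heC : ∀ b, e (PowerSeries.C b) = s b := CohenStruct.evalPS_C I s.toRingHom t ht
  have heX : e PowerSeries.X = x := CohenStruct.evalPS_X I s.toRingHom t ht ()
  have hstep : ∀ f : PowerSeries B, e f = x * e (PowerSeries.mk fun p => PowerSeries.coeff (p + 1) f) +
      s (PowerSeries.constantCoeff f) := fun f => by
    conv_lhs => rw [PowerSeries.eq_X_mul_shift_add_const f]
    rw [map_add, map_mul, heX, heC]
  have hmk : ∀ f : PowerSeries B, Ideal.Quotient.mk I (e f) = PowerSeries.constantCoeff f := fun f => by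
    rw [hstep, map_add, map_mul, Ideal.Quotient.eq_zero_iff_mem.mpr (Ideal.mem_span_singleton_self x), zero_mul,
      zero_add, hs']
  have hx0 : ∀ a, x * a = 0 → a = 0 := fun a ha => (mem_nonZeroDivisors_iff.mp hx).1 a ha
  have hinj : Function.Injective e := (injective_iff_map_eq_zero e).mpr fun f hf => by
    have key : ∀ n, ∀ g : PowerSeries B, e g = 0 → PowerSeries.coeff n g = 0 := by
      intro n
      induction n with
      | zero =>
        intro g hg
        rw [PowerSeries.coeff_zero_eq_constantCoeff_apply, ← hmk, hg, map_zero]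
      | succ n ih =>
        intro g hg
        have h0 : PowerSeries.constantCoeff g = 0 := by rw [← hmk, hg, map_zero]
        rw [hstep, h0, map_zero, add_zero] at hg
        have := ih _ (hx0 _ hg)
        rwa [PowerSeries.coeff_mk] at this
    exact PowerSeries.ext fun n => by rw [key n f hf, map_zero]
  have hsurj : Function.Surjective e := by
    intro a
    have hdiv : ∀ y : A, ∃ z, y = s (Ideal.Quotient.mk I y) + x * z := fun y => by
      have h1 : y - s (Ideal.Quotient.mk I y) ∈ I := by
        rw [← Ideal.Quotient.eq, hs']
      obtain ⟨z, hz⟩ := Ideal.mem_span_singleton'.mp h1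
      exact ⟨z, by rw [mul_comm, hz]; ring⟩
    choose q hq using hdiv
    let as : ℕ → A := fun n => Nat.rec a (fun _ y => q y) n
    let fj : ℕ → PowerSeries B := fun j => PowerSeries.mk fun i => Ideal.Quotient.mk I (as (i + j))
    have key : ∀ n j, e (fj j) - as j ∈ I ^ n := by
      intro n
      induction n with
      | zero => intro j; simp
      | succ n ih =>
        intro j
        have h1 : (PowerSeries.mk fun p => PowerSeries.coeff (p + 1) (fj j)) = fj (j + 1) := by
          ext p
          simp [fj, add_assoc, add_comm 1 j]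
        have h2 : PowerSeries.constantCoeff (fj j) = Ideal.Quotient.mk I (as j) := by
          rw [← PowerSeries.coeff_zero_eq_constantCoeff_apply]
          simp [fj]
        have h3 : e (fj j) - as j = x * (e (fj (j + 1)) - as (j + 1)) := by
          rw [hstep, h1, h2, mul_sub, show as (j + 1) = q (as j) from rfl]
          conv_lhs => arg 2; rw [hq (as j)]
          ring
        rw [h3, pow_succ']
        exact Ideal.mul_mem_mul (Ideal.mem_span_singleton_self x) (ih (j + 1))
    refine ⟨fj 0, sub_eq_zero.mp (IsHausdorff.haus (inferInstance : IsHausdorff I A) _ fun n => ?_)⟩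
    rw [SModEq.zero, smul_eq_mul, Ideal.mul_top]
    exact key n 0
  refine ⟨AlgEquiv.ofRingEquiv (f := RingEquiv.ofBijective e ⟨hinj, hsurj⟩) fun c => ?_, heX, hmk⟩
  show e (algebraMap k (PowerSeries B) c) = _
  rw [show algebraMap k (PowerSeries B) c = PowerSeries.C (algebraMap k B c) from PowerSeries.algebraMap_apply, heC,
    s.commutes]

end Groth.Agent.S15298
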