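import Groth.Statements.S15302
import Mathlib

set_option autoImplicit false
universe v u
open HomAlg3

namespace Groth.Agent.S15302
open scoped ZeroObject

open CategoryTheory CategoryTheory.Limits in
/-- In an abelian category with enough injectives, let α : G ⟶ F be a morphism and I an injective
resolution of F. Then G has an injective resolution J together with a morphism of cochain complexes
β : J ⟶ I lying over α (the augmentations commute with α and β) such that for every p there are an
object K^p and an isomorphism J^p ≅ I^p ⊕ K^p identifying β^p with the projection onto the first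
factor (so K^p is injective as well). (The published statement is for abelian sheaves on a
topological space; its proof uses only an embedding of G into an injective object and cokernels, so
the row is stated in any abelian category with enough injectives.) -/
theorem result {C : Type u} [Category.{v} C] [Abelian C]
    [EnoughInjectives C] {G F : C} (α : G ⟶ F) (I : InjectiveResolution F) :
    ∃ (J : InjectiveResolution G) (β : J.cocomplex ⟶ I.cocomplex),
      J.ι ≫ β = (CochainComplex.single₀ C).map α ≫ I.ι ∧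
      ∀ p : ℕ, ∃ (K : C) (e : J.cocomplex.X p ≅ I.cocomplex.X p ⊞ K), β.f p = e.hom ≫ biprod.fst := by
  let J₀ : InjectiveResolution G := (inferInstance : HasInjectiveResolution G).out.some
  let P : ℕ → C := fun i => match i with
    | 0 => 0
    | i + 1 => I.cocomplex.X i
  let q : ∀ i, P i ⟶ I.cocomplex.X i := fun i => match i with
    | 0 => 0
    | i + 1 => I.cocomplex.d i (i + 1)
  have hq : ∀ i j, q i ≫ I.cocomplex.d i j = 0 := by
    rintro (_ | i) j <;> simp [q]
  have hP : ∀ i, Injective (P i) := by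
    rintro (_ | i)
    · exact inferInstanceAs (Injective (0 : C))
    · exact I.injective i
  let dQ : ∀ i, (I.cocomplex.X i ⊞ P i) ⟶ (I.cocomplex.X (i + 1) ⊞ P (i + 1)) :=
    fun i => (biprod.fst : I.cocomplex.X i ⊞ P i ⟶ _) ≫ (biprod.inr : P (i + 1) ⟶ _)
  let Q : CochainComplex C ℕ := CochainComplex.of (fun i => I.cocomplex.X i ⊞ P i) dQ (fun i => by
    simp only [dQ, Category.assoc]
    exact (congrArg (_ ≫ ·) (biprod.inr_fst_assoc _)).trans (by simp))
  have hd : ∀ i, Q.d i (i + 1) = (biprod.fst : I.cocomplex.X i ⊞ P i ⟶ _) ≫ (biprod.inr : P (i + 1) ⟶ _) := fun i => by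
    simp [Q, dQ]
  let π : Q ⟶ I.cocomplex :=
    { f := fun i => biprod.desc (𝟙 _) (q i)
      comm' := by
        rintro i j (rfl : i + 1 = j)
        rw [hd]
        apply biprod.hom_ext' <;> simp [Q, q, hq] }
  have hQ : ∀ i, IsZero (Q.homology i) := by
    rintro (_ | i) <;> rw [← HomologicalComplex.exactAt_iff_isZero_homology]
    · rw [HomologicalComplex.exactAt_iff' _ 0 0 1 (by simp) (by simp)]
      refine ShortComplex.exact_iff_exact_up_to_refinements _ |>.2 fun T x hx => ?_
      refine ⟨T, 𝟙 T, inferInstance, 0, ?_⟩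
      obtain ⟨x, rfl⟩ : ∃ y : T ⟶ I.cocomplex.X 0 ⊞ P 0, y = x := ⟨x, rfl⟩
      have hx' : x ≫ (biprod.fst : I.cocomplex.X 0 ⊞ P 0 ⟶ _) = 0 := by
        have hx2 : x ≫ Q.d 0 1 = 0 := hx
        rw [hd] at hx2
        have := congrArg (fun t => t ≫ biprod.snd) hx2
        simpa using this
      show 𝟙 T ≫ x = (0 : T ⟶ Q.X 0) ≫ Q.d 0 0
      rw [zero_comp]
      apply biprod.hom_ext
      · simp [hx']
      · exact (isZero_zero C).eq_of_tgt _ _
    · rw [HomologicalComplex.exactAt_iff' _ i (i + 1) (i + 1 + 1) (by simp) (by simp)]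
      refine ShortComplex.exact_iff_exact_up_to_refinements _ |>.2 fun T x hx => ?_
      obtain ⟨x, rfl⟩ : ∃ y : T ⟶ I.cocomplex.X (i + 1) ⊞ P (i + 1), y = x := ⟨x, rfl⟩
      refine ⟨T, 𝟙 T, inferInstance,
        x ≫ (biprod.snd : _ ⟶ P (i + 1)) ≫ (biprod.inl : I.cocomplex.X i ⟶ I.cocomplex.X i ⊞ P i), ?_⟩
      have hx' : x ≫ (biprod.fst : I.cocomplex.X (i + 1) ⊞ P (i + 1) ⟶ _) = 0 := by
        have hx2 : x ≫ Q.d (i + 1) (i + 1 + 1) = 0 := hx
        rw [hd] at hx2
        have := congrArg (fun t => t ≫ biprod.snd) hx2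
        simpa using this
      show 𝟙 T ≫ x = (x ≫ biprod.snd ≫ biprod.inl) ≫ Q.d i (i + 1)
      rw [hd]
      show 𝟙 T ≫ x = (x ≫ (biprod.snd : _ ⟶ P (i + 1)) ≫ (biprod.inl : I.cocomplex.X i ⟶ _)) ≫
        (biprod.fst : I.cocomplex.X i ⊞ P i ⟶ _) ≫ (biprod.inr : P (i + 1) ⟶ _)
      apply biprod.hom_ext
      · simp [hx']
      · simp [P]
  have : QuasiIso (biprod.inl : J₀.cocomplex ⟶ J₀.cocomplex ⊞ Q) := by
    refine ⟨fun i => ?_⟩
    rw [quasiIsoAt_iff_isIso_homologyMap]
    refine ⟨⟨HomologicalComplex.homologyMap biprod.fst i, ?_, ?_⟩⟩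
    · rw [← HomologicalComplex.homologyMap_comp, biprod.inl_fst, HomologicalComplex.homologyMap_id]
    · have h := congrArg (fun t => HomologicalComplex.homologyMap t i)
        (biprod.total (X := J₀.cocomplex) (Y := Q))
      simp only [HomologicalComplex.homologyMap_add, HomologicalComplex.homologyMap_comp,
        HomologicalComplex.homologyMap_id] at h
      rw [(hQ i).eq_of_tgt (HomologicalComplex.homologyMap biprod.snd i) 0] at h
      simpa using h
  let J : InjectiveResolution G :=
    { cocomplex := J₀.cocomplex ⊞ Q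
      injective := fun n => by
        have : Injective (Q.X n) := by
          have := hP n
          exact inferInstanceAs (Injective (I.cocomplex.X n ⊞ P n))
        have := J₀.injective n
        exact Injective.of_iso (HomologicalComplex.biprodXIso _ _ n).symm inferInstance
      ι := J₀.ι ≫ biprod.inl
      quasiIso := inferInstance }
  let β₀ : J₀.cocomplex ⟶ I.cocomplex := InjectiveResolution.desc α I J₀
  refine ⟨J, biprod.desc β₀ π, ?_, fun p => ?_⟩
  · simp [J, β₀]
  · let inQ : I.cocomplex.X p ⊞ P p ⟶ J.cocomplex.X p := (biprod.inr : Q ⟶ J₀.cocomplex ⊞ Q).f p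
    let outQ : J.cocomplex.X p ⟶ I.cocomplex.X p ⊞ P p := (biprod.snd : J₀.cocomplex ⊞ Q ⟶ Q).f p
    let inJ : J₀.cocomplex.X p ⟶ J.cocomplex.X p := (biprod.inl : J₀.cocomplex ⟶ J₀.cocomplex ⊞ Q).f p
    let outJ : J.cocomplex.X p ⟶ J₀.cocomplex.X p := (biprod.fst : J₀.cocomplex ⊞ Q ⟶ _).f p
    let β : J.cocomplex.X p ⟶ I.cocomplex.X p := (biprod.desc β₀ π).f p
    have e1 : inJ ≫ outJ = 𝟙 _ := HomologicalComplex.biprod_inl_fst_f ..
    have e2 : inJ ≫ outQ = 0 := HomologicalComplex.biprod_inl_snd_f ..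
    have e3 : inQ ≫ outJ = 0 := HomologicalComplex.biprod_inr_fst_f ..
    have e4 : inQ ≫ outQ = 𝟙 _ := HomologicalComplex.biprod_inr_snd_f ..
    have e5 : inJ ≫ β = β₀.f p := HomologicalComplex.biprod_inl_desc_f ..
    have e6 : inQ ≫ β = biprod.desc (𝟙 _) (q p) := HomologicalComplex.biprod_inr_desc_f ..
    refine ⟨J₀.cocomplex.X p ⊞ P p,
      { hom := biprod.lift β (biprod.lift outJ (outQ ≫ biprod.snd))
        inv := biprod.desc (biprod.inl ≫ inQ) (biprod.desc (inJ - β₀.f p ≫ biprod.inl ≫ inQ)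
          (biprod.inr ≫ inQ - q p ≫ biprod.inl ≫ inQ))
        hom_inv_id := ?_, inv_hom_id := ?_ }, (biprod.lift_fst _ _).symm⟩
    · apply HomologicalComplex.biprodX_ext_from
      · show inJ ≫ _ = inJ ≫ 𝟙 _
        simp [reassoc_of% e1, reassoc_of% e2, reassoc_of% e5]
      · show inQ ≫ _ = inQ ≫ 𝟙 _
        simp [reassoc_of% e3, reassoc_of% e4, reassoc_of% e6]
        apply biprod.hom_ext' <;> simp
    · ext <;> simp [e1, e2, e3, e4, e5, e6, reassoc_of% e1, reassoc_of% e2, reassoc_of% e3, reassoc_of% e4]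

end Groth.Agent.S15302
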