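import Groth.Statements.S15315
import Mathlib
import Groth.Agent.ArLef.Node
-- import your own Groth.Agent.* helpers here

set_option autoImplicit false
universe u
open ArLef

namespace Groth.Agent.S15315

/-- For a Noetherian commutative ring A, elements a, b with a a non-zero-divisor on A/(b), and an ideal
I, one has length(A/(aI + bA)) = length(A/(a, b)) + length(A/(I + bA)) as extended natural numbers;
in particular when two of the three quotients have finite length so does the third. -/
theorem result (A : Type u) [CommRing A] [IsNoetherianRing A] (a b : A) (I : Ideal A)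
    (ha : IsSMulRegular (A ⧸ Ideal.span ({b} : Set A)) a) :
    Module.length A (A ⧸ (Ideal.span {a} * I ⊔ Ideal.span {b})) =
      Module.length A (A ⧸ Ideal.span ({a, b} : Set A)) + Module.length A (A ⧸ (I ⊔ Ideal.span {b})) := by
  have h := Groth.Agent.ArLefLib.len_mul_ideal a b I (fun x hx => by
    have h0 : a • (Ideal.Quotient.mk (Ideal.span ({b} : Set A)) x) = 0 := by
      rw [← Ideal.Quotient.mk_eq_mk, ← Submodule.Quotient.mk_smul, Submodule.Quotient.mk_eq_zero]
      exact Ideal.mem_span_singleton.2 hx
    exact Ideal.mem_span_singleton.1 (Ideal.Quotient.eq_zero_iff_mem.1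
      (ha (h0.trans (smul_zero a).symm))))
  exact h

end Groth.Agent.S15315
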