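import Groth.Statements.S15316
import Mathlib
import Groth.Agent.ArLef.Fix
-- import your own Groth.Agent.* helpers here

set_option autoImplicit false
universe u
open ArLef ArLef.NodeAlg

namespace Groth.Agent.S15316

/-- Let B be a discrete valuation ring with uniformizer π and N = B[[t, e]]/(te - π) the complete local
ring of a semi-stable arithmetic surface at a singular point of the closed fibre. A ring
automorphism σ of N with σ(π) associated to π (for instance a B-algebra automorphism, or one lying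
over an automorphism of B) either stabilizes the two branches, σ(t) = α t and σ(e) = β e for units
α, β, or switches them, σ(t) = α e and σ(e) = β t for units α, β. (The published setting has B
complete with algebraically closed residue field and σ linear over B or over an automorphism of B;
the argument uses only that σ(π) generates (π).) -/
theorem result (B : Type u) [CommRing B] [IsDomain B] [IsDiscreteValuationRing B] (π : B) (hπ : Irreducible π)
    (σ : ArLef.NodeAlg B π ≃+* ArLef.NodeAlg B π)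
    (hσ : Associated (σ (algebraMap B (ArLef.NodeAlg B π) π)) (algebraMap B (ArLef.NodeAlg B π) π)) :
    (∃ α β : (ArLef.NodeAlg B π)ˣ, σ (ArLef.NodeAlg.t π) = (α : ArLef.NodeAlg B π) * ArLef.NodeAlg.t π ∧ σ (ArLef.NodeAlg.e π) = (β : ArLef.NodeAlg B π) * ArLef.NodeAlg.e π) ∨
      (∃ α β : (ArLef.NodeAlg B π)ˣ, σ (ArLef.NodeAlg.t π) = (α : ArLef.NodeAlg B π) * ArLef.NodeAlg.e π ∧ σ (ArLef.NodeAlg.e π) = (β : ArLef.NodeAlg B π) * ArLef.NodeAlg.t π) := by
  obtain ⟨hmax, hdom, hloc, hreg⟩ := Groth.Agent.ArLefLib.node_setup hπ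
  set t := ArLef.NodeAlg.t π
  set e := ArLef.NodeAlg.e π
  have hte : t * e = algebraMap B (ArLef.NodeAlg B π) π := Groth.Agent.ArLefLib.t_mul_e π
  have hr : IsLeftRegular (t * e) := (hreg 0).mul (hreg 1)
  obtain ⟨u, hu⟩ := hσ.symm
  have h1 : σ t * σ e = t * e * u := by rw [← map_mul, hte, hu]
  have hp0 := Groth.Agent.ArLefLib.prime_v π 0
  have hp1 := Groth.Agent.ArLefLib.prime_v π 1
  have hboth : ∀ z : ArLef.NodeAlg B π, t ∣ σ z → e ∣ σ z → z = t ∨ z = e → False := by
    intro z hzt hze hz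
    obtain ⟨x, hx⟩ := hzt
    have hex : e ∣ t * x := hx ▸ hze
    have hne : ¬ e ∣ t := by
      simpa using Groth.Agent.ArLefLib.not_dvd π (show (1 : Fin 2) ≠ 0 by decide) 1
    obtain ⟨y, hy⟩ := Ideal.mem_span_singleton.1 ((hp1.mem_or_mem (Ideal.mem_span_singleton.2 hex)).resolve_left
      (fun h => hne (Ideal.mem_span_singleton.1 h)))
    have h2 : σ z = σ (algebraMap B (ArLef.NodeAlg B π) π) * (((u⁻¹ : (ArLef.NodeAlg B π)ˣ) : ArLef.NodeAlg B π) * y) := by
      rw [hx, hy, ← hu, ← hte]
      linear_combination (-(t * e * y)) * u.mul_inv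
    obtain ⟨w, hw⟩ := σ.surjective (((u⁻¹ : (ArLef.NodeAlg B π)ˣ) : ArLef.NodeAlg B π) * y)
    rw [← hw, ← map_mul, ← hte] at h2
    have h3 := σ.injective h2
    rcases hz with rfl | rfl
    · exact Groth.Agent.ArLefLib.not_isUnit_v π 1 (IsUnit.of_mul_eq_one w
        (hreg 0 (show t * (e * w) = t * 1 by linear_combination -h3)))
    · exact Groth.Agent.ArLefLib.not_isUnit_v π 0 (IsUnit.of_mul_eq_one w
        (hreg 1 (show e * (t * w) = e * 1 by linear_combination -h3)))
  have key : ∀ x y a b : ArLef.NodeAlg B π, (x * y = t * e) → σ t = x * a → σ e = y * b →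
      IsUnit a ∧ IsUnit b := by
    intro x y a b hxy ha hb
    rw [ha, hb] at h1
    have : a * b = u := hr (show t * e * (a * b) = t * e * u by linear_combination h1 - (a * b) * hxy)
    have hu' : IsUnit (a * b) := this ▸ u.isUnit
    exact ⟨isUnit_of_mul_isUnit_left hu', isUnit_of_mul_isUnit_right hu'⟩
  have hdt : t ∣ σ t * σ e := ⟨e * u, by rw [h1]; ring⟩
  have hde : e ∣ σ t * σ e := ⟨t * u, by rw [h1]; ring⟩
  rcases hp0.mem_or_mem (Ideal.mem_span_singleton.2 hdt) with h | h <;>
    rcases hp1.mem_or_mem (Ideal.mem_span_singleton.2 hde) with h' | h' <;>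
    rw [Ideal.mem_span_singleton] at h h'
  · exact (hboth t h h' (Or.inl rfl)).elim
  · left
    obtain ⟨a, ha⟩ := h
    obtain ⟨b, hb⟩ := h'
    obtain ⟨hau, hbu⟩ := key t e a b rfl ha hb
    exact ⟨hau.unit, hbu.unit, ha.trans (mul_comm t a), hb.trans (mul_comm e b)⟩
  · right
    obtain ⟨b, hb⟩ := h
    obtain ⟨a, ha⟩ := h'
    obtain ⟨hau, hbu⟩ := key e t a b (mul_comm e t) ha hb
    exact ⟨hau.unit, hbu.unit, ha.trans (mul_comm e a), hb.trans (mul_comm t b)⟩
  · exact (hboth e h h' (Or.inr rfl)).elim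

end Groth.Agent.S15316
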