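import Groth.Statements.S15317
import Mathlib
import Groth.Agent.ArLef.Fix
-- import your own Groth.Agent.* helpers here

set_option autoImplicit false
universe u
open ArLef ArLef.NodeAlg

namespace Groth.Agent.S15317

/-- Let B be a discrete valuation ring with uniformizer π, N = B[[t, e]]/(te - π), and σ a non-trivial
B-algebra automorphism of N stabilizing both branches of the closed fibre (σ(t) associated to t,
σ(e) associated to e). Then the fixed-point ideal of σ, generated by all σ(r) - r, is g·(t, e) for a
non-zero g: the divisorial part of the fixed locus is cut out by g and its residual part is the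
reduced closed point, of multiplicity one. (Stated in the complete local ring, where the published
argument takes place; the published setting has B complete with algebraically closed residue field.) -/
theorem result (B : Type u) [CommRing B] [IsDomain B] [IsDiscreteValuationRing B] (π : B) (hπ : Irreducible π)
    (σ : ArLef.NodeAlg B π ≃ₐ[B] ArLef.NodeAlg B π) (hσ : σ ≠ AlgEquiv.refl)
    (ht : Associated (σ (ArLef.NodeAlg.t π)) (ArLef.NodeAlg.t π))
    (he : Associated (σ (ArLef.NodeAlg.e π)) (ArLef.NodeAlg.e π)) :
    ∃ g : ArLef.NodeAlg B π, g ≠ 0 ∧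
      ArLef.fixIdeal σ = Ideal.span {g} * Ideal.span ({ArLef.NodeAlg.t π, ArLef.NodeAlg.e π} : Set (ArLef.NodeAlg B π)) := by
  obtain ⟨hmax, hdom, hloc, hreg⟩ := Groth.Agent.ArLefLib.node_setup hπ
  set t := ArLef.NodeAlg.t π
  set e := ArLef.NodeAlg.e π
  set P := algebraMap B (ArLef.NodeAlg B π) π
  have hte : t * e = P := Groth.Agent.ArLefLib.t_mul_e π
  have hr : IsLeftRegular (t * e) := (hreg 0).mul (hreg 1)
  obtain ⟨α, hα⟩ := ht.symm
  obtain ⟨β, hβ⟩ := he.symm
  have hab : (α : ArLef.NodeAlg B π) * β = 1 := by
    apply hr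
    have h1 : σ t * σ e = t * e := by rw [← map_mul, hte]; exact σ.commutes π
    rw [← hα, ← hβ] at h1
    linear_combination h1
  refine ⟨(α : ArLef.NodeAlg B π) - 1, ?_, ?_⟩
  · intro h0
    rw [sub_eq_zero] at h0
    apply hσ
    have hbe : (β : ArLef.NodeAlg B π) = 1 := by rwa [h0, one_mul] at hab
    have hfix := Groth.Agent.ArLefLib.node_fix_le hπ σ.toRingEquiv.toRingHom ⊥
      (fun c => by rw [Submodule.mem_bot, sub_eq_zero]; exact σ.commutes c)
      (by rw [Submodule.mem_bot, sub_eq_zero]; exact hα.symm.trans (by rw [h0, mul_one]))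
      (by rw [Submodule.mem_bot, sub_eq_zero]; exact hβ.symm.trans (by rw [hbe, mul_one]))
    exact AlgEquiv.ext fun r => sub_eq_zero.1 ((Submodule.mem_bot _).1
      (hfix (Groth.Agent.ArLefLib.sub_mem_fix _ r)))
  · refine le_antisymm (Groth.Agent.ArLefLib.node_fix_le hπ σ.toRingEquiv.toRingHom _ (fun c => ?_) ?_ ?_) ?_
    · change σ (algebraMap B _ c) - _ ∈ _
      rw [σ.commutes, sub_self]; exact zero_mem _
    · change σ t - t ∈ _
      rw [← hα, show t * α - t = ((α : ArLef.NodeAlg B π) - 1) * t by ring]
      exact Ideal.mul_mem_mul (Ideal.mem_span_singleton_self _) (Ideal.subset_span (by simp))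
    · change σ e - e ∈ _
      rw [← hβ, show e * β - e = ((α : ArLef.NodeAlg B π) - 1) * ((-(β : ArLef.NodeAlg B π)) * e) by
        linear_combination e * hab]
      exact Ideal.mul_mem_mul (Ideal.mem_span_singleton_self _)
        (Ideal.mul_mem_left _ _ (Ideal.subset_span (by simp)))
    · rw [Ideal.span_mul_span, Ideal.span_le]
      rintro x hx
      simp only [Set.singleton_mul, Set.image_insert_eq, Set.image_singleton, Set.mem_insert_iff,
        Set.mem_singleton_iff] at hx
      rcases hx with rfl | rfl
      · have := Groth.Agent.ArLefLib.sub_mem_fix σ t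
        rw [← hα, show t * α - t = ((α : ArLef.NodeAlg B π) - 1) * t by ring] at this
        exact this
      · have := Ideal.mul_mem_left _ (-(α : ArLef.NodeAlg B π)) (Groth.Agent.ArLefLib.sub_mem_fix σ e)
        rw [← hβ, show (-(α : ArLef.NodeAlg B π)) * (e * β - e) = ((α : ArLef.NodeAlg B π) - 1) * e by
          linear_combination (-e) * hab] at this
        exact this

end Groth.Agent.S15317
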