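import Groth.Statements.S15318
import Mathlib
import Groth.Agent.ArLef.Fix
-- import your own Groth.Agent.* helpers here

set_option autoImplicit false
universe u
open ArLef ArLef.NodeAlg

namespace Groth.Agent.S15318

open ArLef in
theorem switch_reg {B : Type*} [CommRing B] (π : B) [IsDomain (B ⧸ Ideal.span {π})] {i j : Fin 2}
    (hij : i ≠ j) (hr : IsLeftRegular (ArLefLib.v π i)) (α : (NodeAlg B π)ˣ) (h : NodeAlg B π)
    (h0 : h = ArLefLib.v π j - α * ArLefLib.v π i)
    (x : NodeAlg B π) (hx : h ∣ ArLefLib.v π i * x) : h ∣ x := by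
  refine ArLefLib.reg_mod (ArLefLib.prime_v π i) hr (fun hd => ?_) x hx
  have := dvd_add hd (dvd_mul_left (ArLefLib.v π i) (α : NodeAlg B π))
  rw [h0, sub_add_cancel] at this
  exact ArLefLib.not_dvd π hij 1 (by simpa using this)

/-- Let B be a discrete valuation ring with uniformizer π, N = B[[t, e]]/(te - π), and σ a B-algebra
automorphism of N switching the two branches of the closed fibre (σ(t) associated to e, σ(e)
associated to t). Then the fixed-point ideal of σ is principal, generated by an element h of order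
one (h is not in (t, e)²), and π is a non-zero-divisor modulo h: the fixed locus is a horizontal
regular divisor through the point with empty residual part. (Stated in the complete local ring,
where the published argument takes place; the published setting has B complete with algebraically
closed residue field.) -/
theorem result (B : Type u) [CommRing B] [IsDomain B] [IsDiscreteValuationRing B] (π : B) (hπ : Irreducible π)
    (σ : ArLef.NodeAlg B π ≃ₐ[B] ArLef.NodeAlg B π)
    (ht : Associated (σ (ArLef.NodeAlg.t π)) (ArLef.NodeAlg.e π))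
    (he : Associated (σ (ArLef.NodeAlg.e π)) (ArLef.NodeAlg.t π)) :
    ∃ h : ArLef.NodeAlg B π, ArLef.fixIdeal σ = Ideal.span {h} ∧
      h ∉ (Ideal.span ({ArLef.NodeAlg.t π, ArLef.NodeAlg.e π} : Set (ArLef.NodeAlg B π))) ^ 2 ∧
      IsSMulRegular (ArLef.NodeAlg B π ⧸ Ideal.span ({h} : Set (ArLef.NodeAlg B π))) π := by
  obtain ⟨hmax, hdom, hloc, hreg⟩ := Groth.Agent.ArLefLib.node_setup hπ
  set t := ArLef.NodeAlg.t π
  set e := ArLef.NodeAlg.e π
  set P := algebraMap B (ArLef.NodeAlg B π) π
  have hte : t * e = P := Groth.Agent.ArLefLib.t_mul_e π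
  have hr : IsLeftRegular (t * e) := (hreg 0).mul (hreg 1)
  obtain ⟨α, hα⟩ := ht.symm
  obtain ⟨β, hβ⟩ := he.symm
  have hab : (α : ArLef.NodeAlg B π) * β = 1 := by
    apply hr
    have h1 : σ t * σ e = t * e := by rw [← map_mul, hte]; exact σ.commutes π
    rw [← hα, ← hβ] at h1
    linear_combination h1
  refine ⟨t - α * e, le_antisymm (Groth.Agent.ArLefLib.node_fix_le hπ σ.toRingEquiv.toRingHom _ (fun c => ?_) ?_ ?_) ?_, ?_, ?_⟩
  · change σ (algebraMap B _ c) - _ ∈ _
    rw [σ.commutes, sub_self]; exact zero_mem _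
  · change σ t - t ∈ _
    rw [← hα, Ideal.mem_span_singleton]
    exact ⟨-1, by ring⟩
  · change σ e - e ∈ _
    rw [← hβ, Ideal.mem_span_singleton]
    exact ⟨β, by linear_combination e * hab⟩
  · rw [Ideal.span_le, Set.singleton_subset_iff]
    have := neg_mem (Groth.Agent.ArLefLib.sub_mem_fix σ t)
    rw [← hα, show -(e * α - t) = t - α * e by ring] at this
    exact this
  · intro hh
    have h1 := Ideal.mem_map_of_mem (Groth.Agent.ArLefLib.ev π 0) hh
    have hspan : (Ideal.span ({t, e} : Set (ArLef.NodeAlg B π))).map (Groth.Agent.ArLefLib.ev π 0) ≤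
        Ideal.span {PowerSeries.X} := by
      rw [Ideal.map_span, Ideal.span_le]
      rintro _ ⟨x, rfl | rfl, rfl⟩
      · rw [show t = Groth.Agent.ArLefLib.v π 0 from rfl, Groth.Agent.ArLefLib.ev_v_self]
        exact Ideal.mem_span_singleton_self _
      · rw [show e = Groth.Agent.ArLefLib.v π 1 from rfl, Groth.Agent.ArLefLib.ev_v_ne π (by decide)]
        exact zero_mem _
    rw [Ideal.map_pow] at h1
    have h2 := Ideal.pow_right_mono hspan 2 h1
    rw [Ideal.span_singleton_pow, Ideal.mem_span_singleton, map_sub, map_mul,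
      show t = Groth.Agent.ArLefLib.v π 0 from rfl, show e = Groth.Agent.ArLefLib.v π 1 from rfl,
      Groth.Agent.ArLefLib.ev_v_self, Groth.Agent.ArLefLib.ev_v_ne π (show (1 : Fin 2) ≠ 0 by decide),
      mul_zero, sub_zero, pow_two] at h2
    obtain ⟨c, hc⟩ := h2
    have hu : IsUnit (PowerSeries.X : PowerSeries (B ⧸ Ideal.span {π})) :=
      IsUnit.of_mul_eq_one c (mul_left_cancel₀ PowerSeries.X_ne_zero
        (show PowerSeries.X * (PowerSeries.X * c) = PowerSeries.X * 1 by rw [mul_one, ← mul_assoc, ← hc]))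
    rw [PowerSeries.isUnit_iff_constantCoeff, PowerSeries.constantCoeff_X] at hu
    exact not_isUnit_zero hu
  · have h2 : ∀ x, t - α * e ∣ e * x → t - α * e ∣ x :=
      switch_reg π (show (1 : Fin 2) ≠ 0 by decide) (hreg 1) α _ rfl
    have h3 : ∀ x, t - α * e ∣ t * x → t - α * e ∣ x := by
      intro x hx
      refine Groth.Agent.ArLefLib.reg_mod (Groth.Agent.ArLefLib.prime_v π 0) (hreg 0) (fun hd => ?_) x hx
      exact Groth.Agent.ArLefLib.not_dvd π (show (0 : Fin 2) ≠ 1 by decide) 1
        (by rw [pow_one]; exact (Units.dvd_mul_left (u := α)).1 ((dvd_sub_right dvd_rfl).1 hd))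
    rw [isSMulRegular_iff_right_eq_zero_of_smul]
    intro x hx
    obtain ⟨x, rfl⟩ := Ideal.Quotient.mk_surjective x
    change Ideal.Quotient.mk _ (π • x) = 0 at hx
    rw [show π • x = P * x from Algebra.smul_def π x, Ideal.Quotient.eq_zero_iff_mem, Ideal.mem_span_singleton] at hx
    rw [Ideal.Quotient.eq_zero_iff_mem, Ideal.mem_span_singleton]
    change t - α * e ∣ P * x at hx
    rw [← hte, mul_assoc] at hx
    exact h2 x (h3 _ hx)

end Groth.Agent.S15318
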