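import Groth.Statements.S15319
import Mathlib
import Groth.Agent.ArLef.Fix
-- import your own Groth.Agent.* helpers here

set_option autoImplicit false
universe u
open ArLef ArLef.NodeAlg

namespace Groth.Agent.S15319

/-- Let B be a discrete valuation ring with uniformizer π, N = B[[t, e]]/(te - π) the complete local
ring of a semi-stable arithmetic surface over B at a singular point of the closed fibre, and σ a
ring automorphism of N sending π to π + γ π^j with γ a unit of B and j ≥ 1 (σ lies over an
automorphism τ of B with v(τ(π) - π) = j). Then the fixed-point ideal of σ is not contained in (π^j)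
= (t^j e^j): the two branches through the point cannot both occur with multiplicity j in the
divisorial part of the fixed locus. (The published setting has B complete with algebraically closed
residue field.) -/
theorem result (B : Type u) [CommRing B] [IsDomain B] [IsDiscreteValuationRing B] (π : B) (hπ : Irreducible π)
    (j : ℕ) (hj : 1 ≤ j) (γ : B) (hγ : IsUnit γ)
    (σ : ArLef.NodeAlg B π ≃+* ArLef.NodeAlg B π)
    (hσ : σ (algebraMap B (ArLef.NodeAlg B π) π) = algebraMap B (ArLef.NodeAlg B π) (π + γ * π ^ j)) :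
    ¬ ArLef.fixIdeal σ ≤ Ideal.span ({algebraMap B (ArLef.NodeAlg B π) (π ^ j)} : Set (ArLef.NodeAlg B π)) := by
  intro hle
  obtain ⟨hmax, hdom, hloc, hreg⟩ := Groth.Agent.ArLefLib.node_setup hπ
  set t := ArLef.NodeAlg.t π
  set e := ArLef.NodeAlg.e π
  set P := algebraMap B (ArLef.NodeAlg B π) π
  have hte : t * e = P := Groth.Agent.ArLefLib.t_mul_e π
  obtain ⟨x, hx⟩ := Ideal.mem_span_singleton.1 (hle (Groth.Agent.ArLefLib.sub_mem_fix σ t))
  obtain ⟨y, hy⟩ := Ideal.mem_span_singleton.1 (hle (Groth.Agent.ArLefLib.sub_mem_fix σ e))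
  have h1 : σ t * σ e = σ P := by rw [← map_mul, hte]
  rw [sub_eq_iff_eq_add.1 hx, sub_eq_iff_eq_add.1 hy, hσ, map_add, map_mul, map_pow] at h1
  have hr : IsLeftRegular (P ^ j) := by
    rw [← hte, mul_pow]
    exact Groth.Agent.ArLefLib.regular_mul_pow hπ j j
  have h2 : x * e + y * t + P ^ j * x * y = algebraMap B (ArLef.NodeAlg B π) γ := by
    apply hr
    linear_combination h1 - hte
  have hm : algebraMap B (ArLef.NodeAlg B π) γ ∈ IsLocalRing.maximalIdeal _ := by
    rw [← h2]
    refine add_mem (add_mem (Ideal.mul_mem_left _ _ (Groth.Agent.ArLefLib.mem_max 1))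
      (Ideal.mul_mem_left _ _ (Groth.Agent.ArLefLib.mem_max 0))) ?_
    refine Ideal.mul_mem_right _ _ (Ideal.mul_mem_right _ _ (Ideal.pow_mem_of_mem _ ?_ j hj))
    rw [← hte]
    exact Ideal.mul_mem_left _ _ (Groth.Agent.ArLefLib.mem_max 1)
  exact hm (hγ.map _)

end Groth.Agent.S15319
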