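import Groth.Statements.S15320
import Mathlib
import Groth.Agent.ArLef.Fix
-- import your own Groth.Agent.* helpers here

set_option autoImplicit false
universe u
open ArLef ArLef.NodeAlg

namespace Groth.Agent.S15320

open ArLef in
theorem switch_reg {B : Type*} [CommRing B] (π : B) [IsDomain (B ⧸ Ideal.span {π})] {i j : Fin 2}
    (hij : i ≠ j) (hr : IsLeftRegular (ArLefLib.v π i)) (α : (NodeAlg B π)ˣ) (h : NodeAlg B π)
    (h0 : h = ArLefLib.v π j - α * ArLefLib.v π i)
    (x : NodeAlg B π) (hx : h ∣ ArLefLib.v π i * x) : h ∣ x := by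
  refine ArLefLib.reg_mod (ArLefLib.prime_v π i) hr (fun hd => ?_) x hx
  have := dvd_add hd (dvd_mul_left (ArLefLib.v π i) (α : NodeAlg B π))
  rw [h0, sub_add_cancel] at this
  exact ArLefLib.not_dvd π hij 1 (by simpa using this)

/-- Let B be a discrete valuation ring with uniformizer π, N = B[[t, e]]/(te - π) the complete local
ring of a semi-stable arithmetic surface over B at a singular point x of the closed fibre, and σ a
ring automorphism of N over an automorphism τ of B with v(τ(π) - π) = j ≥ 1, that is σ(π) = π + γ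
π^j with γ a unit of B, and with σ(b) - b ∈ π^j N for every b ∈ B (automatic when B is totally
ramified over the fixed ring of τ, as in the published setting, where the residue field is
algebraically closed). If σ switches the two branches through x (σ(t) associated to e and σ(e) to
t), then the fixed-point ideal I of σ is contained in no proper principal ideal (x is not on the
divisorial part of the fixed locus) and N/I has length 2j - 1 (the multiplicity of x in the residual
fixed-point scheme). -/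
theorem result (B : Type u) [CommRing B] [IsDomain B] [IsDiscreteValuationRing B] (π : B) (hπ : Irreducible π)
    (j : ℕ) (hj : 1 ≤ j) (γ : B) (hγ : IsUnit γ)
    (σ : ArLef.NodeAlg B π ≃+* ArLef.NodeAlg B π)
    (hσB : ∀ b : B, σ (algebraMap B (ArLef.NodeAlg B π) b) - algebraMap B (ArLef.NodeAlg B π) b ∈
      Ideal.span ({algebraMap B (ArLef.NodeAlg B π) (π ^ j)} : Set (ArLef.NodeAlg B π)))
    (hσπ : σ (algebraMap B (ArLef.NodeAlg B π) π) = algebraMap B (ArLef.NodeAlg B π) (π + γ * π ^ j))
    (ht : Associated (σ (ArLef.NodeAlg.t π)) (ArLef.NodeAlg.e π)) (he : Associated (σ (ArLef.NodeAlg.e π)) (ArLef.NodeAlg.t π)) :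
    (∀ g : ArLef.NodeAlg B π, ArLef.fixIdeal σ ≤ Ideal.span ({g} : Set (ArLef.NodeAlg B π)) → IsUnit g) ∧
      Module.length (ArLef.NodeAlg B π) (ArLef.NodeAlg B π ⧸ ArLef.fixIdeal σ) = ((2 * j - 1 : ℕ) : ℕ∞) := by
  obtain ⟨hmax, hdom, hloc, hreg⟩ := Groth.Agent.ArLefLib.node_setup hπ
  set t := ArLef.NodeAlg.t π
  set e := ArLef.NodeAlg.e π
  have hte : t * e = algebraMap B (ArLef.NodeAlg B π) π := Groth.Agent.ArLefLib.t_mul_e π
  obtain ⟨α, hα⟩ := ht.symm
  obtain ⟨β, hβ⟩ := he.symm
  set γ' := algebraMap B (ArLef.NodeAlg B π) γ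
  have hab : (α : ArLef.NodeAlg B π) * β - 1 = γ' * (t * e) ^ (j - 1) :=
    Groth.Agent.ArLefLib.mul_units_eq hπ j hj γ σ.toRingHom hσπ _ _ (by
      change σ t * σ e = _
      rw [← hα, ← hβ]; ring)
  obtain ⟨m, rfl⟩ := Nat.exists_eq_add_of_le hj
  rw [show 1 + m - 1 = m by omega] at hab
  set h := t - (α : ArLef.NodeAlg B π) * e with hh
  have h2 : ∀ x, h ∣ e * x → h ∣ x := switch_reg π (show (1 : Fin 2) ≠ 0 by decide) (hreg 1) α _ rfl
  obtain ⟨c, hc⟩ := sub_dvd_pow_sub_pow (t * e) ((α : ArLef.NodeAlg B π) * (e * e)) m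
  have hfix : ArLef.fixIdeal σ = Ideal.span ({e ^ (2 * (1 + m) - 1), h} : Set (ArLef.NodeAlg B π)) := by
    rw [show 2 * (1 + m) - 1 = 2 * m + 1 by omega]
    refine le_antisymm (Groth.Agent.ArLefLib.node_fix_le hπ σ.toRingHom _ (fun b => ?_) ?_ ?_) ?_
    · obtain ⟨d, hd⟩ := Ideal.mem_span_singleton.1 (hσB b)
      change σ (algebraMap B _ b) - _ ∈ _
      rw [hd, map_pow, ← hte, pow_add (t * e), pow_one]
      refine Ideal.mul_mem_right _ _ (Ideal.mem_span_pair.2 ⟨(α : ArLef.NodeAlg B π) ^ m * t, t * e * (c * e), ?_⟩)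
      have hcc : (t * e) ^ m = (α : ArLef.NodeAlg B π) ^ m * (e ^ (2 * m)) + h * (e * c) := by
        rw [mul_pow (α : ArLef.NodeAlg B π), show (e * e) ^ m = e ^ (2 * m) by rw [← pow_two, ← pow_mul]] at hc
        linear_combination hc
      rw [hcc]
      ring
    · change σ t - t ∈ _
      rw [← hα]
      exact Ideal.mem_span_pair.2 ⟨0, -1, by rw [hh]; ring⟩
    · change σ e - e ∈ _
      rw [← hβ]
      refine Ideal.mem_span_pair.2 ⟨γ' * (α : ArLef.NodeAlg B π) ^ m, (β : ArLef.NodeAlg B π) + γ' * e * (e * c), ?_⟩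
      rw [mul_pow (α : ArLef.NodeAlg B π), show (e * e) ^ m = e ^ (2 * m) by rw [← pow_two, ← pow_mul]] at hc
      linear_combination (-e) * hab - (γ' * e) * hc + (β : ArLef.NodeAlg B π) * hh + (γ' * e * e * c) * hh
    · have ht' := Groth.Agent.ArLefLib.sub_mem_fix σ t
      have he' := Groth.Agent.ArLefLib.sub_mem_fix σ e
      rw [← hα] at ht'
      rw [← hβ] at he'
      have hhI : h ∈ ArLef.fixIdeal σ := by
        rw [show h = -(e * α - t) by rw [hh]; ring]; exact neg_mem ht'
      rw [Ideal.span_le]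
      rintro x (rfl | rfl)
      · have hγ' : IsUnit (γ' * (α : ArLef.NodeAlg B π) ^ m) := (hγ.map _).mul (α.isUnit.pow m)
        refine (Ideal.unit_mul_mem_iff_mem _ hγ').1 ?_
        rw [show γ' * (α : ArLef.NodeAlg B π) ^ m * e ^ (2 * m + 1) =
            (t * β - e) + (-(β : ArLef.NodeAlg B π) - γ' * e * (e * c)) * h by
          rw [mul_pow (α : ArLef.NodeAlg B π), show (e * e) ^ m = e ^ (2 * m) by rw [← pow_two, ← pow_mul]] at hc
          linear_combination (-e) * hab - (γ' * e) * hc + (β : ArLef.NodeAlg B π) * hh + (γ' * e * e * c) * hh]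
        exact add_mem he' (Ideal.mul_mem_left _ _ hhI)
      · exact hhI
  constructor
  · intro g hg
    by_contra hu
    rw [hfix, Ideal.span_le] at hg
    have hg1 : g ∣ e ^ (2 * (1 + m) - 1) := Ideal.mem_span_singleton.1 (hg (Set.mem_insert _ _))
    have hg2 : g ∣ h := Ideal.mem_span_singleton.1 (hg (Set.mem_insert_of_mem _ rfl))
    have hee : ∀ n, ∀ g : ArLef.NodeAlg B π, ¬ IsUnit g → g ∣ e ^ n → e ∣ g := by
      intro n
      induction n with
      | zero => intro g hg h1; exact (hg (isUnit_of_dvd_one (by simpa using h1))).elim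
      | succ n ih =>
        intro g hg h1
        obtain ⟨k, hk⟩ := h1
        have hek : e ∣ g * k := ⟨e ^ n, by rw [← hk, pow_succ']⟩
        rcases (Groth.Agent.ArLefLib.prime_v π 1).mem_or_mem (Ideal.mem_span_singleton.2 hek) with h1 | h1
        · exact Ideal.mem_span_singleton.1 h1
        · obtain ⟨k', rfl⟩ := Ideal.mem_span_singleton.1 h1
          exact ih g hg ⟨k', hreg 1 (show e * e ^ n = e * (g * k') by
            rw [← pow_succ', hk]; change g * (e * k') = _; ring)⟩
    have hd := (hee _ g hu hg1).trans hg2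
    exact Groth.Agent.ArLefLib.not_dvd π (show (1 : Fin 2) ≠ 0 by decide) 1 (by
      rw [pow_one]
      change e ∣ t
      have := dvd_add hd (dvd_mul_left e (α : ArLef.NodeAlg B π))
      rwa [hh, sub_add_cancel] at this)
  · rw [hfix]
    change Groth.Agent.ArLefLib.len _ = _
    rw [Groth.Agent.ArLefLib.len_pow e h h2]
    have : Ideal.span ({e, h} : Set (ArLef.NodeAlg B π)) = Ideal.span ({t, e} : Set (ArLef.NodeAlg B π)) := by
      refine le_antisymm ?_ ?_ <;> rw [Ideal.span_le] <;> rintro x (rfl | rfl)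
      · exact Ideal.subset_span (by simp)
      · exact Ideal.mem_span_pair.2 ⟨1, -(α : ArLef.NodeAlg B π), by rw [hh]; ring⟩
      · exact Ideal.mem_span_pair.2 ⟨α, 1, by rw [hh]; ring⟩
      · exact Ideal.subset_span (by simp)
    rw [this, Groth.Agent.ArLefLib.len_v π, mul_one]

end Groth.Agent.S15320
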