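import Groth.Statements.S15321
import Mathlib
import Groth.Agent.ArLef.Fix
-- import your own Groth.Agent.* helpers here

set_option autoImplicit false
universe u
open ArLef

namespace Groth.Agent.S15321

theorem ker_map_residue {B : Type*} [CommRing B] [IsDomain B] [IsDiscreteValuationRing B] {π : B}
    (hπ : Irreducible π) :
    RingHom.ker (PowerSeries.map (IsLocalRing.residue B)) =
      Ideal.span {algebraMap B (PowerSeries B) π} := by
  refine le_antisymm (fun f hf => ?_) ?_
  · have h : ∀ n, ∃ c, PowerSeries.coeff n f = π * c := by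
      intro n
      have h := congrArg (PowerSeries.coeff n) (RingHom.mem_ker.1 hf)
      simp only [PowerSeries.coeff_map, map_zero, IsLocalRing.residue_eq_zero_iff] at h
      rw [hπ.maximalIdeal_eq, Ideal.mem_span_singleton] at h
      exact h
    choose c hc using h
    rw [Ideal.mem_span_singleton]
    exact ⟨PowerSeries.mk c, by ext n; simp [hc, PowerSeries.algebraMap_apply]⟩
  · rw [Ideal.span_le, Set.singleton_subset_iff, SetLike.mem_coe, RingHom.mem_ker,
      PowerSeries.algebraMap_apply, PowerSeries.map_C]
    rw [(IsLocalRing.residue_eq_zero_iff _).2 (by rw [hπ.maximalIdeal_eq]; exact Ideal.mem_span_singleton_self π), map_zero]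
    
theorem length_pi_pow {B : Type*} [CommRing B] [IsDomain B] [IsDiscreteValuationRing B] {π : B}
    (hπ : Irreducible π) (n : ℕ) (f : PowerSeries B) (h0 : ¬ algebraMap B (PowerSeries B) π ∣ f) :
    ArLefLib.len (Ideal.span ({algebraMap B (PowerSeries B) π ^ n, f} : Set (PowerSeries B))) =
      (n : ℕ∞) * ArLefLib.len (Ideal.span
        ({PowerSeries.map (IsLocalRing.residue B) f} : Set (PowerSeries (IsLocalRing.ResidueField B)))) := by
  have hs : Function.Surjective (PowerSeries.map (IsLocalRing.residue B)) :=
    PowerSeries.map_surjective _ IsLocalRing.residue_surjective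
  have hker := ker_map_residue hπ
  have hp : (Ideal.span {algebraMap B (PowerSeries B) π}).IsPrime := hker ▸ RingHom.ker_isPrime _
  have hreg : IsLeftRegular (algebraMap B (PowerSeries B) π) :=
    IsLeftCancelMulZero.mul_left_cancel_of_ne_zero (by
      rw [PowerSeries.algebraMap_apply, Ne, map_eq_zero_iff _ PowerSeries.C_injective]
      simpa using hπ.ne_zero)
  rw [ArLefLib.len_pow _ f (ArLefLib.reg_mod hp hreg h0), ← ArLefLib.len_comap _ hs]
  have h2 : Ideal.map (PowerSeries.map (IsLocalRing.residue B)) (Ideal.span {f}) =
      Ideal.span {PowerSeries.map (IsLocalRing.residue B) f} := by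
    rw [Ideal.map_span, Set.image_singleton]
  have h3 := Ideal.comap_map_of_surjective _ hs (Ideal.span {f})
  rw [h2, ← RingHom.ker_eq_comap_bot, hker] at h3
  rw [h3, Ideal.span_insert, sup_comm]

theorem fix_eq {B : Type*} [CommRing B] [IsDomain B] [IsDiscreteValuationRing B] {π : B}
    (j : ℕ) (γ : B) (hγ : IsUnit γ) (σ : PowerSeries B ≃+* PowerSeries B)
    (hσB : ∀ b : B, σ (algebraMap B (PowerSeries B) b) - algebraMap B (PowerSeries B) b ∈
      Ideal.span ({algebraMap B (PowerSeries B) (π ^ j)} : Set (PowerSeries B)))
    (hσπ : σ (algebraMap B (PowerSeries B) π) = algebraMap B (PowerSeries B) (π + γ * π ^ j)) :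
    ArLef.fixIdeal σ = Ideal.span ({algebraMap B (PowerSeries B) π ^ j,
      σ PowerSeries.X - PowerSeries.X} : Set (PowerSeries B)) := by
  refine le_antisymm ?_ ?_
  · refine ArLefLib.fix_le σ.toRingHom _ (Set.range (algebraMap B (PowerSeries B))) PowerSeries.X
      PowerSeries.X ?_ ?_ (fun r => ?_) ?_ (Ideal.subset_span (by simp)) (Ideal.subset_span (by simp))
    · rw [IsLocalRing.mem_maximalIdeal, mem_nonunits_iff, PowerSeries.isUnit_iff_constantCoeff, PowerSeries.constantCoeff_X]
      exact not_isUnit_zero
    · rw [IsLocalRing.mem_maximalIdeal, mem_nonunits_iff, PowerSeries.isUnit_iff_constantCoeff, PowerSeries.constantCoeff_X]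
      exact not_isUnit_zero
    · refine ⟨_, ⟨PowerSeries.constantCoeff r, rfl⟩, PowerSeries.mk fun n => PowerSeries.coeff (n + 1) r, 0, ?_⟩
      conv_lhs => rw [PowerSeries.eq_X_mul_shift_add_const r]
      rw [PowerSeries.algebraMap_apply, Algebra.algebraMap_self, RingHom.id_apply]
      ring
    · rintro _ ⟨b, rfl⟩
      refine (Ideal.span_le.2 (Set.singleton_subset_iff.2 ?_) : _ ≤ _) (hσB b)
      rw [map_pow]
      exact Ideal.subset_span (by simp)
  · rw [Ideal.span_le]
    rintro x (rfl | rfl)
    · refine (Ideal.unit_mul_mem_iff_mem _ (hγ.map (algebraMap B (PowerSeries B)))).1 ?_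
      have := ArLefLib.sub_mem_fix σ (algebraMap B (PowerSeries B) π)
      rwa [hσπ, map_add, add_sub_cancel_left, map_mul, map_pow] at this
    · exact ArLefLib.sub_mem_fix σ _

/-- In the case of a smooth point with the closed fibre outside the divisorial part, let B be a discrete
valuation ring with uniformizer π and residue field k, B[[t]] the complete local ring of a
semi-stable arithmetic surface over B at a point x where the closed fibre is smooth, and σ a ring
automorphism of B[[t]] over an automorphism τ of B with v(τ(π) - π) = j ≥ 1, that is σ(π) = π + γ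
π^j with γ a unit, and σ(b) - b ∈ π^j B[[t]] for all b ∈ B (automatic for B totally ramified over
the fixed ring of τ, as in the published setting). If π does not divide f = σ(t) - t (the closed
fibre is not in the divisorial part of the fixed locus near x), then the length of B[[t]] modulo the
fixed-point ideal of σ is j m, where m, the length of k[[t]]/(f mod π), is the multiplicity of x as
a fixed point of σ on the closed fibre. -/
theorem result (B : Type u) [CommRing B] [IsDomain B] [IsDiscreteValuationRing B] (π : B) (hπ : Irreducible π)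
    (j : ℕ) (hj : 1 ≤ j) (γ : B) (hγ : IsUnit γ)
    (σ : PowerSeries B ≃+* PowerSeries B)
    (hσB : ∀ b : B, σ (algebraMap B (PowerSeries B) b) - algebraMap B (PowerSeries B) b ∈
      Ideal.span ({algebraMap B (PowerSeries B) (π ^ j)} : Set (PowerSeries B)))
    (hσπ : σ (algebraMap B (PowerSeries B) π) = algebraMap B (PowerSeries B) (π + γ * π ^ j))
    (h0 : ¬ (algebraMap B (PowerSeries B) π ∣ σ PowerSeries.X - PowerSeries.X)) :
    Module.length (PowerSeries B) (PowerSeries B ⧸ ArLef.fixIdeal σ) =
      (j : ℕ∞) * Module.length (PowerSeries (IsLocalRing.ResidueField B)) (PowerSeries (IsLocalRing.ResidueField B) ⧸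
        Ideal.span ({PowerSeries.map (IsLocalRing.residue B) (σ PowerSeries.X - PowerSeries.X)} : Set (PowerSeries (IsLocalRing.ResidueField B)))) := by
  change Groth.Agent.ArLefLib.len _ = _ * Groth.Agent.ArLefLib.len _
  rw [fix_eq j γ hγ σ hσB hσπ, length_pi_pow hπ j _ h0]

end Groth.Agent.S15321
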