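import Groth.Statements.S15322
import Mathlib
-- import your own Groth.Agent.* helpers here

set_option autoImplicit false
universe u
open CategoryTheory AlgebraicGeometry
open ArLef

namespace Groth.Agent.S15322

/-- Let f : D → C be a morphism, τ an automorphism of C and σ an automorphism of D with σ f = f τ; call
σ a good lifting of τ when the fixed-point scheme of σ is the full preimage of that of τ, i.e. every
morphism z : Z → D with z f τ = z f has z σ = z. If f is etale, separated and surjective with D
connected and the fixed-point scheme of τ is non-empty (some point of C, with its residue field, is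
fixed by τ), then τ has at most one good lifting. (The published statement is for a finite etale
cover of smooth projective irreducible curves over a field and a non-trivial τ; the argument uses
only the hypotheses stated here.) -/
theorem result {C D : Scheme.{u}} (f : D ⟶ C) [Etale f] [IsSeparated f] [Surjective f]
    [ConnectedSpace D] (τ : C ≅ C) (σ σ' : D ≅ D)
    (hσ : σ.hom ≫ f = f ≫ τ.hom) (hσ' : σ'.hom ≫ f = f ≫ τ.hom)
    (good : ∀ (Z : Scheme.{u}) (z : Z ⟶ D), z ≫ f ≫ τ.hom = z ≫ f → z ≫ σ.hom = z)
    (good' : ∀ (Z : Scheme.{u}) (z : Z ⟶ D), z ≫ f ≫ τ.hom = z ≫ f → z ≫ σ'.hom = z)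
    (x : C) (hx : C.fromSpecResidueField x ≫ τ.hom = C.fromSpecResidueField x) :
    σ = σ' := by
  obtain ⟨y, hy⟩ := f.surjective x
  subst hy
  set z := D.fromSpecResidueField y with hz
  have hfix : z ≫ f ≫ τ.hom = z ≫ f := by
    rw [← Category.assoc, hz, ← Scheme.Hom.SpecMap_residueFieldMap_fromSpecResidueField, Category.assoc, hx]
  have h1 := good _ z hfix
  have h2 := good' _ z hfix
  let l : D ⟶ Limits.pullback f f := Limits.pullback.lift σ.hom σ'.hom (hσ.trans hσ'.symm)
  let E := Limits.pullback (Limits.pullback.diagonal f) l
  let i : E ⟶ D := Limits.pullback.snd (Limits.pullback.diagonal f) l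
  have hoi : IsOpenImmersion i := MorphismProperty.pullback_snd (P := @IsOpenImmersion) _ _ inferInstance
  have hci : IsClosedImmersion i := by
    have : MorphismProperty.IsStableUnderBaseChange @IsClosedImmersion.{u} := IsClosedImmersion.isStableUnderBaseChange
    exact MorphismProperty.of_isPullback (P := @IsClosedImmersion.{u}) (IsPullback.of_hasPullback (Limits.pullback.diagonal f) l) inferInstance
  have hne : (Set.range i).Nonempty := by
    let q : Spec (D.residueField y) ⟶ E := Limits.pullback.lift z z (by
      apply Limits.pullback.hom_ext
      · rw [Category.assoc, Category.assoc, Limits.pullback.diagonal_fst, Limits.pullback.lift_fst, Category.comp_id, h1]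
      · rw [Category.assoc, Category.assoc, Limits.pullback.diagonal_snd, Limits.pullback.lift_snd, Category.comp_id, h2])
    exact ⟨i (q (IsLocalRing.closedPoint (D.residueField y))), _, rfl⟩
  have hsurj : Surjective i := by
    refine ⟨Set.range_eq_univ.1 ?_⟩
    have hcl : IsClopen (Set.range i) :=
      ⟨i.isClosedEmbedding.isClosed_range, i.isOpenEmbedding.isOpen_range⟩
    exact hcl.eq_univ hne
  have : IsIso i := (isIso_iff_isOpenImmersion_and_surjective i).2 ⟨hoi, hsurj⟩
  refine Iso.ext ((cancel_epi i).1 ?_)
  have hc : Limits.pullback.fst (Limits.pullback.diagonal f) l ≫ Limits.pullback.diagonal f = i ≫ l := Limits.pullback.condition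
  have e1 := congrArg (fun w => w ≫ Limits.pullback.fst f f) hc
  have e2 := congrArg (fun w => w ≫ Limits.pullback.snd f f) hc
  simp only [l, Category.assoc] at e1 e2
  rw [Limits.pullback.lift_fst, Limits.pullback.diagonal_fst, Category.comp_id] at e1
  rw [Limits.pullback.lift_snd, Limits.pullback.diagonal_snd, Category.comp_id] at e2
  exact e1.symm.trans e2

end Groth.Agent.S15322
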