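import Groth.Statements.S15323
import Mathlib
import Groth.Agent.ArLef.Fix
-- import your own Groth.Agent.* helpers here

set_option autoImplicit false
universe u
open ArLef ArLef.NodeAlg

namespace Groth.Agent.S15323

open ArLef in
theorem fix_eq {B : Type*} [CommRing B] [IsDomain B] [IsDiscreteValuationRing B] {π : B}
    (hπ : Irreducible π) (j : ℕ) (hj : 1 ≤ j) (γ : B) (hγ : IsUnit γ)
    (σ : NodeAlg B π ≃+* NodeAlg B π)
    (hσB : ∀ b : B, σ (algebraMap B (NodeAlg B π) b) - algebraMap B (NodeAlg B π) b ∈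
      Ideal.span ({algebraMap B (NodeAlg B π) (π ^ j)} : Set (NodeAlg B π)))
    (hσπ : σ (algebraMap B (NodeAlg B π) π) = algebraMap B (NodeAlg B π) (π + γ * π ^ j))
    (α β : (NodeAlg B π)ˣ) (ht : σ (NodeAlg.t π) = (α : NodeAlg B π) * NodeAlg.t π)
    (he : σ (NodeAlg.e π) = (β : NodeAlg B π) * NodeAlg.e π) :
    fixIdeal σ = Ideal.span ({((α : NodeAlg B π) - 1) * NodeAlg.t π,
      ((β : NodeAlg B π) - 1) * NodeAlg.e π} : Set (NodeAlg B π)) ∧
    (α : NodeAlg B π) * β - 1 =
      algebraMap B (NodeAlg B π) γ * (NodeAlg.t π * NodeAlg.e π) ^ (j - 1) := by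
  have hab := ArLefLib.mul_units_eq hπ j hj γ σ.toRingHom hσπ (α : NodeAlg B π) β (by
    change σ _ * σ _ = _
    rw [ht, he]; ring)
  refine ⟨le_antisymm (ArLefLib.node_fix_le hπ σ.toRingHom _ (fun b => ?_) ?_ ?_) ?_, hab⟩
  · change σ (algebraMap B _ b) - _ ∈ _
    refine (Ideal.span_le.2 (Set.singleton_subset_iff.2 ?_) : _ ≤ _) (hσB b)
    refine (Ideal.unit_mul_mem_iff_mem _ (hγ.map (algebraMap B (NodeAlg B π)))).1 ?_
    rw [map_pow, ← ArLefLib.t_mul_e]
    obtain ⟨m, rfl⟩ := Nat.exists_eq_add_of_le hj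
    rw [show 1 + m - 1 = m by omega] at hab
    refine Ideal.mem_span_pair.2 ⟨NodeAlg.e π, (α : NodeAlg B π) * NodeAlg.t π, ?_⟩
    rw [pow_add, pow_one]
    linear_combination (NodeAlg.t π * NodeAlg.e π) * hab
  · change σ _ - _ ∈ _
    rw [ht]
    exact Ideal.mem_span_pair.2 ⟨1, 0, by ring⟩
  · change σ _ - _ ∈ _
    rw [he]
    exact Ideal.mem_span_pair.2 ⟨0, 1, by ring⟩
  · rw [Ideal.span_le]
    rintro x (rfl | rfl)
    · have := ArLefLib.sub_mem_fix σ (NodeAlg.t π)
      rwa [ht, ← sub_one_mul] at this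
    · have := ArLefLib.sub_mem_fix σ (NodeAlg.e π)
      rwa [he, ← sub_one_mul] at this

/-- In the cases where the branches through the point do not lie in the divisorial part of the fixed
locus, let B be a discrete valuation ring with uniformizer π, N = B[[t, e]]/(te - π) the complete
local ring of a semi-stable arithmetic surface over B at a singular point x of the closed fibre, and
σ a ring automorphism of N with σ(π) = π + γ π^j (γ a unit of B, j ≥ 1) and σ(b) - b ∈ π^j N for all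
b ∈ B (σ lies over an automorphism τ of B with v(τ(π) - π) = j, B totally ramified over the fixed
ring as in the published setting). Suppose σ fixes the branches, σ(t) = α t and σ(e) = β e with
units α, β, and that t does not divide β - 1 and e does not divide α - 1. Then the length of N
modulo the fixed-point ideal of σ (the multiplicity of x in the residual fixed-point scheme) is j
(s₁ + s₂) + 1, where s₁ = length N/(t, β - 1) and s₂ = length N/(e, α - 1) are the fixed-point
multiplicities of σ at x along the two branches, each lowered by one. -/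
theorem result (B : Type u) [CommRing B] [IsDomain B] [IsDiscreteValuationRing B] (π : B) (hπ : Irreducible π)
    (j : ℕ) (hj : 1 ≤ j) (γ : B) (hγ : IsUnit γ)
    (σ : ArLef.NodeAlg B π ≃+* ArLef.NodeAlg B π)
    (hσB : ∀ b : B, σ (algebraMap B (ArLef.NodeAlg B π) b) - algebraMap B (ArLef.NodeAlg B π) b ∈
      Ideal.span ({algebraMap B (ArLef.NodeAlg B π) (π ^ j)} : Set (ArLef.NodeAlg B π)))
    (hσπ : σ (algebraMap B (ArLef.NodeAlg B π) π) = algebraMap B (ArLef.NodeAlg B π) (π + γ * π ^ j))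
    (α β : (ArLef.NodeAlg B π)ˣ) (ht : σ (ArLef.NodeAlg.t π) = (α : ArLef.NodeAlg B π) * ArLef.NodeAlg.t π) (he : σ (ArLef.NodeAlg.e π) = (β : ArLef.NodeAlg B π) * ArLef.NodeAlg.e π)
    (htb : ¬ (ArLef.NodeAlg.t π ∣ (β : ArLef.NodeAlg B π) - 1)) (hea : ¬ (ArLef.NodeAlg.e π ∣ (α : ArLef.NodeAlg B π) - 1)) :
    Module.length (ArLef.NodeAlg B π) (ArLef.NodeAlg B π ⧸ ArLef.fixIdeal σ) =
      (j : ℕ∞) * (Module.length (ArLef.NodeAlg B π) (ArLef.NodeAlg B π ⧸ Ideal.span ({ArLef.NodeAlg.t π, (β : ArLef.NodeAlg B π) - 1} : Set (ArLef.NodeAlg B π))) +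
        Module.length (ArLef.NodeAlg B π) (ArLef.NodeAlg B π ⧸ Ideal.span ({ArLef.NodeAlg.e π, (α : ArLef.NodeAlg B π) - 1} : Set (ArLef.NodeAlg B π)))) + 1 := by
  obtain ⟨hI, hab⟩ := fix_eq hπ j hj γ hγ σ hσB hσπ α β ht he
  rw [hI]
  obtain ⟨m, rfl⟩ := Nat.exists_eq_add_of_le hj
  rw [show 1 + m - 1 = m by omega] at hab
  have h := Groth.Agent.ArLefLib.len_core hπ m m ((α : ArLef.NodeAlg B π) - 1) ((β : ArLef.NodeAlg B π) - 1) α
    (hγ.map (algebraMap B (ArLef.NodeAlg B π))).unit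
    (by rw [IsUnit.unit_spec, ← mul_pow]; linear_combination hab) htb hea
  refine h.trans ?_
  unfold Groth.Agent.ArLefLib.len
  push_cast
  ring

end Groth.Agent.S15323
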