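import Groth.Statements.S15325
import Mathlib
import Groth.Agent.ArLef.Fix
-- import your own Groth.Agent.* helpers here

set_option autoImplicit false
universe u
open ArLef ArLef.NodeAlg

namespace Groth.Agent.S15325

/-- Let k be a field, A = k[[t, e]]/(te) the complete local ring of a nodal curve at a node x, and σ a
k-algebra automorphism of A fixing the two branches, σ(t) = α t and σ(e) = β e with units α, β.
Writing I for the fixed-point ideal of σ (generated by all σ(r) - r), the fixed-point multiplicity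
length(A/I) of σ at x and the fixed-point multiplicities length(A/(I + (t))), length(A/(I + (e))) of
the automorphisms induced on the two branches satisfy length(A/I) + 1 = length(A/(I + (t))) +
length(A/(I + (e))), as extended natural numbers (both sides are infinite when σ fixes a branch
pointwise). (The published setting has k algebraically closed.) -/
theorem result (k : Type u) [Field k]
    (σ : ArLef.NodeAlg k 0 ≃ₐ[k] ArLef.NodeAlg k 0) (α β : (ArLef.NodeAlg k 0)ˣ)
    (ht : σ (ArLef.NodeAlg.t (0 : k)) = (α : ArLef.NodeAlg k 0) * ArLef.NodeAlg.t (0 : k)) (he : σ (ArLef.NodeAlg.e (0 : k)) = (β : ArLef.NodeAlg k 0) * ArLef.NodeAlg.e (0 : k)) :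
    Module.length (ArLef.NodeAlg k 0) (ArLef.NodeAlg k 0 ⧸ ArLef.fixIdeal σ) + 1 =
      Module.length (ArLef.NodeAlg k 0) (ArLef.NodeAlg k 0 ⧸ (ArLef.fixIdeal σ ⊔ Ideal.span ({ArLef.NodeAlg.t (0 : k)} : Set (ArLef.NodeAlg k 0)))) +
        Module.length (ArLef.NodeAlg k 0) (ArLef.NodeAlg k 0 ⧸ (ArLef.fixIdeal σ ⊔ Ideal.span ({ArLef.NodeAlg.e (0 : k)} : Set (ArLef.NodeAlg k 0)))) := by
  have hmax : (Ideal.span {(0 : k)}).IsMaximal := by
    rw [Ideal.span_singleton_eq_bot.2 rfl]; exact Ideal.bot_isMaximal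
  have hdom : IsDomain (k ⧸ Ideal.span {(0 : k)}) := (Ideal.Quotient.isDomain_iff_prime _).2 hmax.isPrime
  have hloc := Groth.Agent.ArLefLib.isLocalRing (0 : k)
  set t := ArLef.NodeAlg.t (0 : k)
  set e := ArLef.NodeAlg.e (0 : k)
  set I := ArLef.fixIdeal σ
  set a := (α : ArLef.NodeAlg k 0) - 1
  set b := (β : ArLef.NodeAlg k 0) - 1
  have hI : I = Ideal.span ({a * t, b * e} : Set (ArLef.NodeAlg k 0)) := by
    refine le_antisymm (Groth.Agent.ArLefLib.fix_le σ.toRingEquiv.toRingHom _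
      (Set.range (algebraMap k (ArLef.NodeAlg k 0))) t e (Groth.Agent.ArLefLib.not_isUnit_v (0 : k) 0)
      (Groth.Agent.ArLefLib.not_isUnit_v (0 : k) 1) (Groth.Agent.ArLefLib.decomp (0 : k)) ?_ ?_ ?_) ?_
    · rintro _ ⟨c, rfl⟩
      change σ _ - _ ∈ _
      rw [σ.commutes, sub_self]; exact zero_mem _
    · change σ t - t ∈ _
      rw [ht, ← sub_one_mul]; exact Ideal.subset_span (by simp [a])
    · change σ e - e ∈ _
      rw [he, ← sub_one_mul]; exact Ideal.subset_span (by simp [b])
    · rw [Ideal.span_le]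
      rintro x (rfl | rfl)
      · have := Groth.Agent.ArLefLib.sub_mem_fix σ t
        rwa [ht, ← sub_one_mul] at this
      · have := Groth.Agent.ArLefLib.sub_mem_fix σ e
        rwa [he, ← sub_one_mul] at this
  set J₁ := I ⊔ Ideal.span {t}
  set J₂ := I ⊔ Ideal.span {e}
  have hte : Ideal.span ({t, e} : Set (ArLef.NodeAlg k 0)) = J₁ ⊔ J₂ := by
    rw [Ideal.span_insert]
    refine le_antisymm (sup_le (le_sup_of_le_left le_sup_right) (le_sup_of_le_right le_sup_right)) ?_
    refine sup_le (sup_le ?_ le_sup_left) (sup_le ?_ le_sup_right) <;>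
      (rw [hI, Ideal.span_le]
       rintro x (rfl | rfl)
       · exact Ideal.mul_mem_left _ _ (Ideal.mem_sup_left (Ideal.mem_span_singleton_self t))
       · exact Ideal.mul_mem_left _ _ (Ideal.mem_sup_right (Ideal.mem_span_singleton_self e)))
  have hinf : J₁ ⊓ J₂ ≤ I := by
    rintro x ⟨h1, h2⟩
    obtain ⟨i, hi, w, hw, rfl⟩ := Submodule.mem_sup.1 h1
    obtain ⟨w, rfl⟩ := Ideal.mem_span_singleton.1 hw
    have hat : a * t ∈ I := hI ▸ Ideal.subset_span (by simp)
    refine add_mem hi ?_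
    have h3 : t * w ∈ J₂ := by
      have := sub_mem h2 (Ideal.mem_sup_left hi)
      simpa using this
    obtain ⟨i', hi', z, hz, hiz⟩ := Submodule.mem_sup.1 h3
    rw [hI] at hi'
    obtain ⟨p, q, rfl⟩ := Ideal.mem_span_pair.1 hi'
    obtain ⟨z, rfl⟩ := Ideal.mem_span_singleton.1 hz
    have h4 : t * (w - p * a) ∈ Ideal.span {e} :=
      Ideal.mem_span_singleton.2 ⟨q * b + z, by linear_combination -hiz⟩
    rcases (Groth.Agent.ArLefLib.prime_v (0 : k) 1).mem_or_mem h4 with h | h
    · exact absurd (by simpa using Ideal.mem_span_singleton.1 h)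
        (by simpa using Groth.Agent.ArLefLib.not_dvd (0 : k) (show (1 : Fin 2) ≠ 0 by decide) 1)
    · obtain ⟨y, hy⟩ := Ideal.mem_span_singleton.1 h
      have hte0 : t * e = 0 := by rw [Groth.Agent.ArLefLib.t_mul_e, map_zero]
      have : t * w = p * (a * t) := by
        change w - p * a = e * y at hy
        linear_combination t * hy + y * hte0
      rw [this]
      exact Ideal.mul_mem_left _ _ hat
  let f : (ArLef.NodeAlg k 0 ⧸ I) →ₗ[ArLef.NodeAlg k 0] (ArLef.NodeAlg k 0 ⧸ J₁) × (ArLef.NodeAlg k 0 ⧸ J₂) :=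
    (Submodule.factor (le_sup_left : I ≤ J₁)).prod (Submodule.factor (le_sup_left : I ≤ J₂))
  let g : (ArLef.NodeAlg k 0 ⧸ J₁) × (ArLef.NodeAlg k 0 ⧸ J₂) →ₗ[ArLef.NodeAlg k 0] ArLef.NodeAlg k 0 ⧸ (J₁ ⊔ J₂) :=
    (Submodule.factor (le_sup_left : J₁ ≤ J₁ ⊔ J₂)).coprod (-Submodule.factor (le_sup_right : J₂ ≤ J₁ ⊔ J₂))
  have hf : Function.Injective f := by
    rw [← LinearMap.ker_eq_bot, LinearMap.ker_eq_bot']
    intro x hx
    obtain ⟨x, rfl⟩ := Submodule.Quotient.mk_surjective _ x
    simp [f] at hx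
    exact (Submodule.Quotient.mk_eq_zero _).2 (hinf ⟨Ideal.Quotient.eq_zero_iff_mem.1 hx.1, Ideal.Quotient.eq_zero_iff_mem.1 hx.2⟩)
  have hg : Function.Surjective g := fun y => by
    obtain ⟨y, rfl⟩ := Submodule.Quotient.mk_surjective _ y
    exact ⟨(Submodule.Quotient.mk y, 0), by simp [g]⟩
  have hfg : Function.Exact f g := by
    rw [LinearMap.exact_iff]
    refine le_antisymm ?_ ?_
    · rintro ⟨x, y⟩ h
      obtain ⟨x, rfl⟩ := Submodule.Quotient.mk_surjective _ x
      obtain ⟨y, rfl⟩ := Submodule.Quotient.mk_surjective _ y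
      simp [g, ← sub_eq_add_neg, ← Submodule.Quotient.mk_sub] at h
      rw [sub_eq_zero, Ideal.Quotient.eq] at h
      obtain ⟨u, hu, v, hv, huv⟩ := Submodule.mem_sup.1 h
      refine ⟨Submodule.Quotient.mk (x - u), Prod.ext ?_ ?_⟩
      · exact (Submodule.Quotient.eq J₁).2 (by simpa using hu)
      · exact (Submodule.Quotient.eq J₂).2 (by change x - u - y ∈ J₂; rw [show x - u - y = v by linear_combination -huv]; exact hv)
    · rintro _ ⟨x, rfl⟩
      obtain ⟨x, rfl⟩ := Submodule.Quotient.mk_surjective _ x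
      simp [f, g]
      exact add_neg_cancel _
  have h := Module.length_eq_add_of_exact f g hf hg hfg
  rw [Module.length_prod] at h
  rw [h, ← hte]
  congr 1
  exact (Groth.Agent.ArLefLib.len_v (0 : k)).symm

end Groth.Agent.S15325
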