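import Groth.Statements.S15326
import Mathlib
import Groth.Agent.ArLef.Node
-- import your own Groth.Agent.* helpers here

set_option autoImplicit false
universe u
open ArLef

namespace Groth.Agent.S15326

/-- Let A be a commutative ring, t an element generating a prime ideal (a local equation of an
irreducible component C of the closed fibre), v an element outside (t) with π = vt the uniformizer,
and σ a ring automorphism of A with σ(vt) = vt whose fixed-point ideal is contained in (t^i) for
some i ≥ 1 (C has multiplicity at least i in the fixed locus). Then σ(t) - t lies in t^(i+1) A_(t),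
the localization at the prime (t): σ - 1 vanishes on (t)/(t^(i+1)) at the generic point of C. -/
theorem result (A : Type u) [CommRing A] (t v : A)
    [ht : (Ideal.span ({t} : Set A)).IsPrime] (hv : v ∉ Ideal.span ({t} : Set A))
    (σ : A ≃+* A) (hσ : σ (v * t) = v * t) (i : ℕ) (hi : 1 ≤ i)
    (hI : ArLef.fixIdeal σ ≤ Ideal.span ({t ^ i} : Set A)) :
    algebraMap A (Localization.AtPrime (Ideal.span ({t} : Set A))) (σ t - t) ∈
      Ideal.span ({algebraMap A (Localization.AtPrime (Ideal.span ({t} : Set A))) (t ^ (i + 1))} :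
        Set (Localization.AtPrime (Ideal.span ({t} : Set A)))) := by
  obtain ⟨c, hc⟩ := Ideal.mem_span_singleton.1 (hI (Groth.Agent.ArLefLib.sub_mem_fix σ t))
  obtain ⟨d, hd⟩ := Ideal.mem_span_singleton.1 (hI (Groth.Agent.ArLefLib.sub_mem_fix σ v))
  obtain ⟨k, rfl⟩ := Nat.exists_eq_add_of_le hi
  rw [map_mul, sub_eq_iff_eq_add.1 hc, sub_eq_iff_eq_add.1 hd] at hσ
  have hv' : IsUnit (algebraMap A (Localization.AtPrime (Ideal.span ({t} : Set A))) v) :=
    IsLocalization.map_units (Localization.AtPrime (Ideal.span ({t} : Set A))) (⟨v, hv⟩ : (Ideal.span ({t} : Set A)).primeCompl)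
  rw [Ideal.mem_span_singleton, ← hv'.dvd_mul_left, ← map_mul, hc]
  refine map_dvd _ ⟨-(d + t ^ k * (c * d)), ?_⟩
  simp only [pow_add, pow_one] at hσ ⊢
  linear_combination hσ

end Groth.Agent.S15326
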