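import Groth.Statements.S15327
import Mathlib.LinearAlgebra.Matrix.PosDef
import Mathlib.Data.Rat.Star

set_option autoImplicit false
open ArLef ArLef.BlowupGraph

namespace Groth.Agent.S15327

open Finset Matrix

variable {n : ℕ} (G : ArLef.BlowupGraph n)

def Pm : Matrix (Fin n) (Fin n) ℚ := fun p m => if p ∈ G.par m then 1 else 0

def Um : Matrix (Fin n) (Fin n) ℚ := 1 - Pm G

noncomputable def Tm : Matrix (Fin n) (Fin n) ℚ := fun k m => (G.tt k m : ℚ)

theorem tt_eq (k m : Fin n) :
    G.tt k m = (if k = m then 1 else 0) + ∑ p ∈ G.par m, G.tt k p := by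
  unfold BlowupGraph.tt
  have key : ∀ p ∈ G.par m, (m : ℕ) ≤ k → G.ttN k p = 0 := by
    intro p hp h
    rw [BlowupGraph.ttN]
    have : (p : ℕ) < m := G.par_lt m p hp
    rw [if_pos (by omega)]
  rw [BlowupGraph.ttN]
  rcases lt_trichotomy (m : ℕ) k with h | h | h
  · rw [if_pos h, if_neg (by intro e; subst e; omega),
      Finset.sum_eq_zero (fun p hp => key p hp h.le)]
    simp
  · rw [if_neg (by omega), if_pos h, if_pos (Fin.ext h.symm),
      Finset.sum_eq_zero (fun p hp => key p hp h.le)]
    simp
  · rw [if_neg (by omega), if_neg (by omega), if_neg (by intro e; subst e; omega), zero_add]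
    rw [Finset.sum_attach (G.parN m) (fun p => G.ttN k p)]
    have : G.parN m = (G.par m).map Fin.valEmbedding := by
      simp [BlowupGraph.parN]
    rw [this, Finset.sum_map]
    rfl

theorem Tm_mul_Um : Tm G * Um G = 1 := by
  ext k m
  rw [Um, Matrix.mul_sub, Matrix.mul_one, Matrix.sub_apply, Matrix.mul_apply]
  have : ∑ p, Tm G k p * Pm G p m = ∑ p ∈ G.par m, (G.tt k p : ℚ) := by
    simp only [Pm, Tm, mul_ite, mul_one, mul_zero, Finset.sum_ite_mem, Finset.univ_inter]
  rw [this, Matrix.one_apply]
  show (G.tt k m : ℚ) - _ = _
  rw [tt_eq G k m]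
  push_cast
  ring

theorem mat_eq : G.mat = -(Um G * (Um G)ᵀ) := by
  have expand : ∀ p q, (Um G * (Um G)ᵀ) p q =
      (1 : Matrix (Fin n) (Fin n) ℚ) p q - Pm G p q - Pm G q p
        + ∑ m, Pm G p m * Pm G q m := by
    intro p q
    rw [Um, Matrix.transpose_sub, Matrix.transpose_one, Matrix.sub_mul, Matrix.one_mul,
      Matrix.mul_sub, Matrix.mul_one, Matrix.sub_apply, Matrix.sub_apply, Matrix.sub_apply,
      Matrix.transpose_apply, Matrix.mul_apply]
    simp only [Matrix.transpose_apply]
    ring
  ext p q
  rw [Matrix.neg_apply, expand]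
  unfold BlowupGraph.mat
  by_cases hpq : p = q
  · subst hpq
    have hpp : p ∉ G.par p := fun h => lt_irrefl _ (G.par_lt p p h)
    rw [if_pos rfl]
    simp [Pm, hpp, BlowupGraph.selfInt, Matrix.one_apply, ← ite_and, Finset.sum_boole]
    ring
  · rw [if_neg hpq, Matrix.one_apply, if_neg hpq]
    wlog hlt : p < q generalizing p q with H
    · have hlt' : q < p := lt_of_le_of_ne (not_lt.1 hlt) (Ne.symm hpq)
      have := H q p (Ne.symm hpq) hlt'
      have hA : G.Adj p q ↔ G.Adj q p := by unfold BlowupGraph.Adj; tauto
      simp only [hA, this, mul_comm (Pm G p _)]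
      ring
    have hqp : q ∉ G.par p := fun h => lt_asymm hlt (G.par_lt p q h)
    have hpair : ∀ m, (p ∈ G.par m ∧ q ∈ G.par m) ↔ G.par m = {p, q} := by
      intro m
      constructor
      · rintro ⟨h1, h2⟩
        symm
        apply Finset.eq_of_subset_of_card_le
        · intro x hx
          simp only [Finset.mem_insert, Finset.mem_singleton] at hx
          rcases hx with rfl | rfl <;> assumption
        · rw [Finset.card_pair hpq]; exact G.card_le_two m
      · intro h; rw [h]; simp
    have hsum : ∑ m, Pm G p m * Pm G q m =
        ((univ.filter fun m => G.par m = {p, q}).card : ℚ) := by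
      simp only [Pm, ite_mul, one_mul, zero_mul, ← ite_and, hpair, Finset.sum_boole]
    rw [hsum]
    have hone : (univ.filter fun m => G.par m = {p, q}).card ≤ 1 := by
      rw [Finset.card_le_one]
      intro a ha b hb
      simp only [Finset.mem_filter, Finset.mem_univ, true_and] at ha hb
      by_contra hab
      have qa : q < a := G.par_lt a q (by rw [ha]; simp)
      have qb : q < b := G.par_lt b q (by rw [hb]; simp)
      rcases lt_or_gt_of_ne hab with h | h
      · exact (G.meet_of_two b p q (by rw [hb]; simp) (by rw [hb]; simp) hlt).2 a qa h ha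
      · exact (G.meet_of_two a p q (by rw [ha]; simp) (by rw [ha]; simp) hlt).2 b qb h hb
    by_cases hex : ∃ m, G.par m = {p, q}
    · obtain ⟨m, hm⟩ := hex
      have h1 : (univ.filter fun m => G.par m = {p, q}).card = 1 :=
        le_antisymm hone (Finset.card_pos.2 ⟨m, by simp [hm]⟩)
      have hpar : p ∈ G.par q := (G.meet_of_two m p q (by rw [hm]; simp) (by rw [hm]; simp) hlt).1
      have hadj : ¬ G.Adj p q := by
        rintro (⟨-, h⟩ | ⟨h, -⟩)
        · exact h m (G.par_lt m q (by rw [hm]; simp)) hm
        · exact hqp h
      rw [if_neg hadj, h1]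
      simp [Pm, hpar, hqp]
    · push Not at hex
      have h0 : (univ.filter fun m => G.par m = {p, q}).card = 0 := by simp [hex]
      have hadj : G.Adj p q ↔ p ∈ G.par q := by
        constructor
        · rintro (⟨h, -⟩ | ⟨h, -⟩)
          · exact h
          · exact absurd h hqp
        · exact fun h => Or.inl ⟨h, fun m _ => hex m⟩
      rw [h0]
      simp [Pm, hqp, hadj]

theorem mult_eq (i j : Fin n) : (G.mult i j : ℚ) = ((Tm G)ᵀ * Tm G) i j := by
  simp [BlowupGraph.mult, Tm, Matrix.mul_apply]

theorem mat_mul_N : G.mat * ((Tm G)ᵀ * Tm G) = -1 := by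
  have h1 : Um G * Tm G = 1 := mul_eq_one_comm.1 (Tm_mul_Um G)
  rw [mat_eq, Matrix.neg_mul, ← Matrix.mul_assoc, Matrix.mul_assoc (Um G) _ (Tm G)ᵀ,
    ← Matrix.transpose_mul, Tm_mul_Um, Matrix.transpose_one, Matrix.mul_one, h1]

theorem isUnit_block (I : Finset (Fin n)) :
    IsUnit (G.mat.submatrix (fun x : I => x.1) (fun x : I => x.1)) := by
  have hU : Function.Injective (Um G).vecMul :=
    Matrix.vecMul_injective_iff_isUnit.2 (IsUnit.of_mul_eq_one _ (mul_eq_one_comm.1 (Tm_mul_Um G)))
  have hpd : (Um G * (Um G)ᵀ).PosDef := by
    have := Matrix.PosDef.mul_conjTranspose_self (Um G) hU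
    rwa [Matrix.conjTranspose_eq_transpose_of_trivial] at this
  have := (hpd.submatrix (e := fun x : I => x.1) Subtype.val_injective).isUnit
  rw [mat_eq]
  exact this.neg


/-- Let Φ be the labelled dual graph of the exceptional curves of n successive blow-ups of closed points
starting from a regular surface with algebraically closed residue fields (vertices = exceptional
curves in order of creation, labels = intersection numbers), I any set of vertices (the curves
contracted to a normal surface) and σ a permutation of the vertices preserving all intersection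
numbers and the set I. Let e_{ij} be the multiplicity of E_i × E_j in the fibre square of the
composite blow-down (the sum over k of c^k_i c^k_j, c^k the total transform of the k-th exceptional
curve) and (E_i · E_j)_I Mumford's rational intersection number of the images after contracting I.
Then the sum over i, j outside I of e_{ij} (σ E_i · E_j)_I equals minus the number of σ-fixed
vertices outside I. (Stated for the dual graphs realized with all residue fields equal to the base
field, which is the case the published argument realizes geometrically.) -/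
theorem result (n : ℕ) (G : ArLef.BlowupGraph n) (I : Finset (Fin n))
    (σ : Equiv.Perm (Fin n)) (hσ : ∀ i j : Fin n, G.mat (σ i) (σ j) = G.mat i j)
    (hσI : ∀ i : Fin n, σ i ∈ I ↔ i ∈ I) :
    G.lNum I σ = ArLef.BlowupGraph.rNum I σ := by
  unfold BlowupGraph.lNum BlowupGraph.rNum
  set N := (Tm G)ᵀ * Tm G with hNdef
  set A := G.mat.submatrix (fun x : I => x.1) (fun x : I => x.1) with hA
  have hN : N.transpose = N := by rw [hNdef, Matrix.transpose_mul, Matrix.transpose_transpose]
  have hMN : ∀ b i, ∑ j, G.mat b j * N j i = if b = i then -1 else 0 := by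
    intro b i
    have := congrFun (congrFun (mat_mul_N G) b) i
    rw [Matrix.mul_apply] at this
    rw [this, Matrix.neg_apply, Matrix.one_apply]
    split <;> simp
  have hJ : ∀ b i, ∑ j ∈ univ.filter (fun j => j ∉ I), G.mat b j * N j i =
      (if b = i then -1 else 0) - ∑ c : I, G.mat b c * N c i := by
    intro b i
    rw [← hMN b i, ← Finset.sum_filter_not_add_sum_filter univ (fun j => j ∈ I),
      Finset.sum_coe_sort I (fun c => G.mat b c * N c i)]
    simp
  have inner : ∀ i, i ∉ I → ∀ a : Fin n,
      ∑ j ∈ univ.filter (fun j => j ∉ I), (G.mult i j : ℚ) * G.pairing I a j =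
        if a = i then -1 else 0 := by
    intro i hi a
    have hb : ∀ b : I, ∑ j ∈ univ.filter (fun j => j ∉ I), G.mat b j * N j i =
        -(A *ᵥ fun c : I => N c i) b := by
      intro b
      rw [hJ, if_neg (fun h : (b : Fin n) = i => hi (h ▸ b.2)), zero_sub]
      rfl
    calc _ = ∑ j ∈ univ.filter (fun j => j ∉ I), G.mat a j * N j i -
          ∑ x : I, ∑ b : I, G.mat a x * A⁻¹ x b *
            ∑ j ∈ univ.filter (fun j => j ∉ I), G.mat b j * N j i := by
            simp only [BlowupGraph.pairing, mult_eq, ← hA, mul_sub, Finset.sum_sub_distrib,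
              Finset.mul_sum]
            congr 1
            · refine Finset.sum_congr rfl fun j _ => ?_
              show N i j * _ = _
              rw [show N j i = N i j from congrFun (congrFun hN i) j, mul_comm]
            · rw [Finset.sum_comm]
              refine Finset.sum_congr rfl fun x _ => ?_
              rw [Finset.sum_comm]
              refine Finset.sum_congr rfl fun b _ => Finset.sum_congr rfl fun j _ => ?_
              show N i j * _ = _
              rw [show N j i = N i j from congrFun (congrFun hN i) j]
              ring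
      _ = ∑ j ∈ univ.filter (fun j => j ∉ I), G.mat a j * N j i +
          ∑ x : I, G.mat a x * (A⁻¹ *ᵥ (A *ᵥ fun c : I => N c i)) x := by
            rw [sub_eq_add_neg, ← Finset.sum_neg_distrib]
            congr 1
            refine Finset.sum_congr rfl fun x _ => ?_
            simp only [hb]
            simp [Matrix.mulVec, dotProduct, Finset.mul_sum, mul_assoc]
      _ = _ := by
            rw [Matrix.mulVec_mulVec, Matrix.nonsing_inv_mul _
              ((Matrix.isUnit_iff_isUnit_det _).1 (isUnit_block G I)), Matrix.one_mulVec, hJ]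
            simp
  rw [Finset.sum_congr rfl (fun i hi => inner i (Finset.mem_filter.1 hi).2 (σ i))]
  rw [Finset.sum_ite, Finset.filter_filter]
  simp

end Groth.Agent.S15327
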