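import Groth.Statements.S15328
import Groth.Agent.CurveVB.MaxSlope
import Groth.Agent.CurveVB.Preimage
import Groth.Agent.CurveVB.Higgs
-- import your own Groth.Agent.* helpers here

set_option autoImplicit false
set_option backward.isDefEq.respectTransparency false
open CategoryTheory AlgebraicGeometry CategoryTheory.Limits
open VBCurve

namespace Groth.Agent.S15328
open Groth.Agent

/-- Let X be a smooth proper integral curve over the complex numbers, L an invertible module on X and
(E, φ) an L-valued Higgs bundle on X: E finite locally free of rank r ≥ 1 and φ : E → E ⊗ L. A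
submodule j : G → E (a monomorphism) is a Higgs submodule when φ restricts to it, that is, some ψ :
G → G ⊗ L followed by j ⊗ L equals j followed by φ; (E, φ) is semistable when deg G · r ≤ deg E · r'
for every finite locally free Higgs submodule G of rank r' ≥ 1, degrees being χ − rank · χ(O).
Suppose (E, φ) is semistable and F is a finite locally free Higgs submodule of rank r' ≥ 1 with the
same slope, deg F · r = deg E · r'. Then the quotient E/F is finite locally free of rank r − r' and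
is semistable of the same slope for its induced Higgs field: for every φ' : E/F → (E/F) ⊗ L
compatible with φ along the projection and every finite locally free submodule G of E/F of rank s ≥
1 to which φ' restricts, deg G · (r − r') ≤ deg(E/F) · s. (The published statement also assumes F
semistable, which the published argument does not use; this row omits it.) -/
theorem result
    (X : Scheme.{0}) [X.Over (Spec (CommRingCat.of ℂ))] [IsIntegral X]
    [IsProper (X ↘ Spec (CommRingCat.of ℂ))] [Smooth (X ↘ Spec (CommRingCat.of ℂ))]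
    (hdim : topologicalKrullDim X = 1)
    (L : X.Modules) (hL : PicF.IsInvertible L)
    (r : ℕ) (hr : 0 < r) (E : X.Modules) (hE : FlatMod.IsFinLocFreeOfRank r E)
    (φ : E ⟶ CohB1.tensorMod E L)
    (hss : ∀ (G : X.Modules) (s : ℕ) (j : G ⟶ E) (ψ : G ⟶ CohB1.tensorMod G L), Mono j → 0 < s →
      FlatMod.IsFinLocFreeOfRank s G →
      ψ ≫ (CohB1.sheafifyMod X).map (MonoidalCategoryStruct.whiskerRight (C := CohB1.PMod X) j.val (CohB1.toPMod L)) = j ≫ φ →
      Curv2.deg ℂ X G s * (r : ℤ) ≤ Curv2.deg ℂ X E r * (s : ℤ))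
    (F : X.Modules) (r' : ℕ) (hr' : 0 < r') (hF : FlatMod.IsFinLocFreeOfRank r' F)
    (i : F ⟶ E) [Mono i] (ψF : F ⟶ CohB1.tensorMod F L)
    (hψF : ψF ≫ (CohB1.sheafifyMod X).map (MonoidalCategoryStruct.whiskerRight (C := CohB1.PMod X) i.val (CohB1.toPMod L)) = i ≫ φ)
    (hslope : Curv2.deg ℂ X F r' * (r : ℤ) = Curv2.deg ℂ X E r * (r' : ℤ)) :
    FlatMod.IsFinLocFreeOfRank (r - r') (cokernel i) ∧
    ∀ (φ' : cokernel i ⟶ CohB1.tensorMod (cokernel i) L),
      cokernel.π i ≫ φ' = φ ≫ (CohB1.sheafifyMod X).map (MonoidalCategoryStruct.whiskerRight (C := CohB1.PMod X) (cokernel.π i).val (CohB1.toPMod L)) →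
      ∀ (G : X.Modules) (s : ℕ) (j : G ⟶ cokernel i) (ψ : G ⟶ CohB1.tensorMod G L), Mono j → 0 < s →
        FlatMod.IsFinLocFreeOfRank s G →
        ψ ≫ (CohB1.sheafifyMod X).map (MonoidalCategoryStruct.whiskerRight (C := CohB1.PMod X) j.val (CohB1.toPMod L)) = j ≫ φ' →
        Curv2.deg ℂ X G s * ((r - r' : ℕ) : ℤ) ≤ Curv2.deg ℂ X (cokernel i) (r - r') * (s : ℤ) := by
  haveI : IsLocallyNoetherian X := LocallyOfFiniteType.isLocallyNoetherian (X ↘ Spec (CommRingCat.of ℂ))
  have hinv : ∀ {A B C : X.Modules} (a : A ⟶ B) (b : B ⟶ C) (hab : a ≫ b = 0),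
      (ShortComplex.mk a b hab).ShortExact → ∀ (ν : A ⟶ CohB1.tensorMod B L), ν ≫ HilbPoly.tMap b L = 0 →
      ∃ χ : A ⟶ CohB1.tensorMod A L, χ ≫ HilbPoly.tMap a L = ν := fun {A B C} a b hab hS ν hν => by
    have h := HilbPoly.shortExact_tSC hS hL
    haveI := h.mono_f
    exact ⟨h.exact.lift ν hν, h.exact.lift_f ν hν⟩
  have hcE := DCohPerf.isCoh_finLocFree (CurveVB.finLocFree_of_rank hE)
  obtain ⟨F', n, p, hip, hp, hF', hrn, hd, heq⟩ := CurveVB.exists_saturation ℂ hdim hF hE i
  have hcK := QCohLib.isCoh_kernel p hcE (DCohPerf.isCoh_finLocFree (CurveVB.finLocFree_of_rank hF')).1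
  obtain ⟨q, -, hq⟩ := CurveVB.exists_rank_sub ℂ hdim hcK hE (kernel.ι p)
  have hS : (ShortComplex.mk (kernel.ι p) p (kernel.condition p)).ShortExact :=
    { exact := ShortComplex.exact_of_f_is_kernel _ (kernelIsKernel _) }
  have hr1 : r = q + n := CurveVB.rank_add _ hS hq hE hF'
  obtain rfl : q = r' := by omega
  obtain ⟨W, hW⟩ := CurveVB.exists_rank_tensor ℂ hdim hF' hL
  have hh : kernel.ι p ≫ φ ≫ HilbPoly.tMap p L = 0 := by
    have hl : kernel.lift p i hip ≫ kernel.ι p ≫ φ ≫ HilbPoly.tMap p L = 0 := by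
      rw [kernel.lift_ι_assoc, ← Category.assoc i φ, ← hψF, Category.assoc]
      change ψF ≫ HilbPoly.tMap i L ≫ HilbPoly.tMap p L = 0
      rw [← LimSh.tensorModMap_comp, hip, show LimSh.tensorModMap (0 : _ ⟶ _) L = 0 from HilbPoly.tMap_zero _ _ hL, comp_zero]
    generalize hgen : kernel.ι p ≫ φ ≫ HilbPoly.tMap p L = h at hl
    haveI : Mono (kernel.lift p i hip) := mono_of_mono_fac (kernel.lift_ι p i hip)
    haveI : Mono (kernel.lift h (kernel.lift p i hip) hl) := mono_of_mono_fac (kernel.lift_ι h _ hl)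
    have hck := QCohLib.isCoh_kernel h hcK (DCohPerf.isCoh_finLocFree (CurveVB.finLocFree_of_rank hW)).1
    obtain ⟨q₂, -, hq₂⟩ := CurveVB.exists_rank_sub ℂ hdim hck hq (kernel.ι h)
    obtain ⟨q₃, h₃, hF₃⟩ := CurveVB.exists_rank_sub ℂ hdim
      (DCohPerf.isCoh_finLocFree (CurveVB.finLocFree_of_rank hF)) hq₂ (kernel.lift h (kernel.lift p i hip) hl)
    obtain ⟨x⟩ : Nonempty X := inferInstance
    have e1 : q₃ = q := (CurveVB.stalk_free hF₃ x).2.2.symm.trans (CurveVB.stalk_free hF x).2.2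
    have hS' : (ShortComplex.mk (kernel.ι h) (cokernel.π _) (cokernel.condition _)).ShortExact :=
      { exact := ShortComplex.exact_of_g_is_cokernel _ (cokernelIsCokernel _) }
    haveI : Mono (cokernel.desc (kernel.ι h) h (kernel.condition h)) :=
      inferInstanceAs (Mono (Abelian.factorThruCoimage h))
    obtain ⟨t, -, ht⟩ := CurveVB.exists_rank_sub ℂ hdim (QCohLib.isCoh_cokernel _ hck.1 hcK) hW
      (cokernel.desc (kernel.ι h) h (kernel.condition h))
    have hadd : q = q₂ + t := CurveVB.rank_add _ hS' hq₂ hq ht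
    obtain rfl : t = 0 := by omega
    rw [← cokernel.π_desc (kernel.ι h) h (kernel.condition h),
      (CurveVB.isZero_of_rank_zero ht).eq_of_src (cokernel.desc (kernel.ι h) h (kernel.condition h)) 0, comp_zero]
  obtain ⟨χ, hχ⟩ := hinv (kernel.ι p) p (kernel.condition p) hS (kernel.ι p ≫ φ) (by rw [Category.assoc]; exact hh)
  have hdK := hss (kernel p) q (kernel.ι p) χ inferInstance hr' hq hχ
  have hdE : Curv2.deg ℂ X E r = Curv2.deg ℂ X (kernel p) q + Curv2.deg ℂ X F' n :=
    S7643.result ℂ X hdim.le _ hS q r n hq hE hF'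
  have hrpos : (0 : ℤ) < r := by exact_mod_cast hr
  have hle : Curv2.deg ℂ X (kernel p) q ≤ Curv2.deg ℂ X F q := le_of_mul_le_mul_right (by linarith) hrpos
  have hT := heq (by linarith)
  let e : cokernel i ≅ F' := (cokernelIsCokernel i).coconePointUniqueUpToIso hT.gIsCokernel
  obtain rfl : n = r - q := by omega
  have hC : FlatMod.IsFinLocFreeOfRank (r - q) (cokernel i) := fun x => by
    obtain ⟨U, hx, ⟨a⟩⟩ := hF' x
    exact ⟨U, hx, ⟨(Scheme.Modules.restrictFunctor U.ι).mapIso e ≪≫ a⟩⟩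
  refine ⟨hC, fun φ' hφ' G s j ψ hj hs hG hψ => ?_⟩
  let T : ShortComplex X.Modules := ShortComplex.mk i (cokernel.π i) (cokernel.condition i)
  have hT' : T.ShortExact := { exact := ShortComplex.exact_of_g_is_cokernel _ (cokernelIsCokernel _) }
  obtain ⟨P, l, hl, hP, hdP, ⟨w, hw⟩, hz, hPS⟩ := CurveVB.exists_preimage_seq ℂ hdim (T := T) hT' hF hE
    (DCohPerf.isCoh_finLocFree (CurveVB.finLocFree_of_rank hC)) hG j
  obtain ⟨χ', hχ'⟩ := hinv l _ hz hPS (l ≫ φ) (by
    change (l ≫ φ) ≫ LimSh.tensorModMap (cokernel.π i ≫ cokernel.π j) L = 0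
    rw [LimSh.tensorModMap_comp, Category.assoc, ← Category.assoc φ]
    change l ≫ (φ ≫ (CohB1.sheafifyMod X).map
      (MonoidalCategoryStruct.whiskerRight (C := CohB1.PMod X) (cokernel.π i).val (CohB1.toPMod L))) ≫ _ = 0
    rw [← hφ', Category.assoc, ← Category.assoc l, ← hw, Category.assoc, ← Category.assoc j φ', ← hψ, Category.assoc]
    change w ≫ ψ ≫ HilbPoly.tMap j L ≫ HilbPoly.tMap (cokernel.π j) L = 0
    rw [← LimSh.tensorModMap_comp, cokernel.condition, show LimSh.tensorModMap (0 : _ ⟶ _) L = 0 from HilbPoly.tMap_zero _ _ hL, comp_zero, comp_zero])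
  have b := hss P (q + s) l χ' hl (by omega) hP hχ'
  rw [hdP] at b
  dsimp only [T] at b
  have hdC : Curv2.deg ℂ X E r = Curv2.deg ℂ X F q + Curv2.deg ℂ X (cokernel i) (r - q) :=
    S7643.result ℂ X hdim.le T hT' q r (r - q) hF hE hC
  have hcast : ((r - q : ℕ) : ℤ) = (r : ℤ) - q := by omega
  push_cast at b
  refine le_of_mul_le_mul_right ?_ hrpos
  have b' : Curv2.deg ℂ X G s * (r : ℤ) ≤ Curv2.deg ℂ X E r * s := by linarith
  have hC' : Curv2.deg ℂ X (cokernel i) (r - q) * (r : ℤ) = Curv2.deg ℂ X E r * ((r : ℤ) - q) := by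
    linear_combination (-(r : ℤ)) * hdC - hslope
  rw [hcast]
  nlinarith [mul_le_mul_of_nonneg_right b' (show (0 : ℤ) ≤ (r : ℤ) - q by omega)]

end Groth.Agent.S15328
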