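import Groth.Statements.S15330
import Groth.Agent.S15328
-- import your own Groth.Agent.* helpers here

set_option autoImplicit false
set_option backward.isDefEq.respectTransparency false
set_option maxHeartbeats 400000
open CategoryTheory AlgebraicGeometry CategoryTheory.Limits
open VBCurve

namespace Groth.Agent.S15330
open Groth.Agent

/-- Let X be a smooth proper integral curve over the complex numbers, L an invertible module on X, and
(E, φ_E), (F, φ_F) two L-valued Higgs bundles on X of the same rank r ≥ 1 and the same degree d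
(degree = χ − rank · χ(O)), each semistable: deg G · r ≤ d · s for every finite locally free
submodule G of rank s ≥ 1 to which the Higgs field restricts. Let E_0 ⊂ E_1 ⊂ … ⊂ E_n = E with E_0 =
0 and F = F_0 ⊃ F_1 ⊃ … ⊃ F_n = 0 be chains of finite locally free submodules to which the Higgs
fields restrict, of ranks with rk E_i + rk F_i = r, which are opposite: E_{i+1}/E_i ≅ F_i/F_{i+1} as
O-modules for i < n. Then every E_i of positive rank and every F_i of positive rank has slope d/r,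
that is deg · r = d · rank, and is semistable for its restricted Higgs field; and each graded piece
E_{i+1}/E_i of positive rank is finite locally free of rank rk E_{i+1} − rk E_i, of slope d/r, and
semistable for every Higgs field on it compatible with that of E_{i+1} along the projection. (The
published statement indexes the second chain so that F_i/F_{i+1} matches E_i/E_{i−1} and takes the
isomorphisms of graded pieces as Higgs bundles; here they are assumed as O-modules only, together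
with the rank bookkeeping rk E_i + rk F_i = r that they imply.) -/
theorem result
    (X : Scheme.{0}) [X.Over (Spec (CommRingCat.of ℂ))] [IsIntegral X]
    [IsProper (X ↘ Spec (CommRingCat.of ℂ))] [Smooth (X ↘ Spec (CommRingCat.of ℂ))]
    (hdim : topologicalKrullDim X = 1)
    (L : X.Modules) (hL : PicF.IsInvertible L) (r : ℕ) (hr : 0 < r) (d : ℤ)
    (E : X.Modules) (hE : FlatMod.IsFinLocFreeOfRank r E) (φE : E ⟶ CohB1.tensorMod E L)
    (hEd : Curv2.deg ℂ X E r = d)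
    (hEss : (∀ (G : X.Modules) (s : ℕ) (j : G ⟶ E) (χ : G ⟶ CohB1.tensorMod G L), Mono j → 0 < s →
        FlatMod.IsFinLocFreeOfRank s G →
        χ ≫ (CohB1.sheafifyMod X).map (MonoidalCategoryStruct.whiskerRight (C := CohB1.PMod X) j.val (CohB1.toPMod L)) = j ≫ φE →
        Curv2.deg ℂ X G s * (r : ℤ) ≤ Curv2.deg ℂ X E r * (s : ℤ)))
    (F : X.Modules) (hF : FlatMod.IsFinLocFreeOfRank r F) (φF : F ⟶ CohB1.tensorMod F L)
    (hFd : Curv2.deg ℂ X F r = d)
    (hFss : (∀ (G : X.Modules) (s : ℕ) (j : G ⟶ F) (χ : G ⟶ CohB1.tensorMod G L), Mono j → 0 < s →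
        FlatMod.IsFinLocFreeOfRank s G →
        χ ≫ (CohB1.sheafifyMod X).map (MonoidalCategoryStruct.whiskerRight (C := CohB1.PMod X) j.val (CohB1.toPMod L)) = j ≫ φF →
        Curv2.deg ℂ X G s * (r : ℤ) ≤ Curv2.deg ℂ X F r * (s : ℤ)))
    (n : ℕ)
    (Es : ℕ → X.Modules) (rE : ℕ → ℕ) (hEs : ∀ i, FlatMod.IsFinLocFreeOfRank (rE i) (Es i))
    (ιE : ∀ i, Es i ⟶ E) (hιE : ∀ i, Mono (ιE i))
    (ψE : ∀ i, Es i ⟶ CohB1.tensorMod (Es i) L)
    (hψE : ∀ i, ψE i ≫ (CohB1.sheafifyMod X).map (MonoidalCategoryStruct.whiskerRight (C := CohB1.PMod X) (ιE i).val (CohB1.toPMod L)) = ιE i ≫ φE)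
    (a : ∀ i, Es i ⟶ Es (i + 1)) (ha : ∀ i, a i ≫ ιE (i + 1) = ιE i)
    (hE0 : IsZero (Es 0)) (hEn : IsIso (ιE n))
    (Fs : ℕ → X.Modules) (rF : ℕ → ℕ) (hFs : ∀ i, FlatMod.IsFinLocFreeOfRank (rF i) (Fs i))
    (ιF : ∀ i, Fs i ⟶ F) (hιF : ∀ i, Mono (ιF i))
    (ψF : ∀ i, Fs i ⟶ CohB1.tensorMod (Fs i) L)
    (hψF : ∀ i, ψF i ≫ (CohB1.sheafifyMod X).map (MonoidalCategoryStruct.whiskerRight (C := CohB1.PMod X) (ιF i).val (CohB1.toPMod L)) = ιF i ≫ φF)
    (b : ∀ i, Fs (i + 1) ⟶ Fs i) (hb : ∀ i, b i ≫ ιF i = ιF (i + 1))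
    (hF0 : IsIso (ιF 0)) (hFn : IsZero (Fs n))
    (hrk : ∀ i, i ≤ n → rE i + rF i = r)
    (hopp : ∀ i, i < n → Nonempty (cokernel (a i) ≅ cokernel (b i))) :
    (∀ i, i ≤ n → 0 < rE i →
      Curv2.deg ℂ X (Es i) (rE i) * (r : ℤ) = d * (rE i : ℤ) ∧
      (∀ (G : X.Modules) (s : ℕ) (j : G ⟶ (Es i)) (χ : G ⟶ CohB1.tensorMod G L), Mono j → 0 < s →
        FlatMod.IsFinLocFreeOfRank s G →
        χ ≫ (CohB1.sheafifyMod X).map (MonoidalCategoryStruct.whiskerRight (C := CohB1.PMod X) j.val (CohB1.toPMod L)) = j ≫ ψE i →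
        Curv2.deg ℂ X G s * (rE i : ℤ) ≤ Curv2.deg ℂ X (Es i) (rE i) * (s : ℤ))) ∧
    (∀ i, i ≤ n → 0 < rF i →
      Curv2.deg ℂ X (Fs i) (rF i) * (r : ℤ) = d * (rF i : ℤ) ∧
      (∀ (G : X.Modules) (s : ℕ) (j : G ⟶ (Fs i)) (χ : G ⟶ CohB1.tensorMod G L), Mono j → 0 < s →
        FlatMod.IsFinLocFreeOfRank s G →
        χ ≫ (CohB1.sheafifyMod X).map (MonoidalCategoryStruct.whiskerRight (C := CohB1.PMod X) j.val (CohB1.toPMod L)) = j ≫ ψF i →
        Curv2.deg ℂ X G s * (rF i : ℤ) ≤ Curv2.deg ℂ X (Fs i) (rF i) * (s : ℤ))) ∧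
    (∀ i, i < n → rE i < rE (i + 1) →
      FlatMod.IsFinLocFreeOfRank (rE (i + 1) - rE i) (cokernel (a i)) ∧
      Curv2.deg ℂ X (cokernel (a i)) (rE (i + 1) - rE i) * (r : ℤ) = d * ((rE (i + 1) - rE i : ℕ) : ℤ) ∧
      ∀ (φ' : cokernel (a i) ⟶ CohB1.tensorMod (cokernel (a i)) L),
        cokernel.π (a i) ≫ φ' = ψE (i + 1) ≫ (CohB1.sheafifyMod X).map (MonoidalCategoryStruct.whiskerRight (C := CohB1.PMod X) (cokernel.π (a i)).val (CohB1.toPMod L)) →
        (∀ (G : X.Modules) (s : ℕ) (j : G ⟶ cokernel (a i)) (χ : G ⟶ CohB1.tensorMod G L), Mono j → 0 < s →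
        FlatMod.IsFinLocFreeOfRank s G →
        χ ≫ (CohB1.sheafifyMod X).map (MonoidalCategoryStruct.whiskerRight (C := CohB1.PMod X) j.val (CohB1.toPMod L)) = j ≫ φ' →
        Curv2.deg ℂ X G s * ((rE (i + 1) - rE i : ℕ) : ℤ) ≤ Curv2.deg ℂ X (cokernel (a i)) (rE (i + 1) - rE i) * (s : ℤ))) := by
  haveI : IsLocallyNoetherian X := LocallyOfFiniteType.isLocallyNoetherian (X ↘ Spec (CommRingCat.of ℂ))
  have hcoh : ∀ {M : X.Modules} {m : ℕ}, FlatMod.IsFinLocFreeOfRank m M → Coh.IsCoh M := fun h =>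
    DCohPerf.isCoh_finLocFree (CurveVB.finLocFree_of_rank h)
  haveI hma : ∀ i, Mono (a i) := fun i => by haveI := hιE i; exact mono_of_mono_fac (ha i)
  haveI hmb : ∀ i, Mono (b i) := fun i => by haveI := hιF (i + 1); exact mono_of_mono_fac (hb i)
  have hses : ∀ {A B : X.Modules} {p q : ℕ} (c : A ⟶ B) [Mono c], FlatMod.IsFinLocFreeOfRank p A → FlatMod.IsFinLocFreeOfRank q B →
      Curv2.euler ℂ X B = Curv2.euler ℂ X A + Curv2.euler ℂ X (cokernel c) := fun {A B p q} c _ hA hB => by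
    have hS : (ShortComplex.mk c (cokernel.π c) (cokernel.condition c)).ShortExact :=
      { exact := ShortComplex.exact_of_g_is_cokernel _ (cokernelIsCokernel _) }
    have hcA : Coh.IsCoh A := hcoh hA
    have hcB : Coh.IsCoh B := hcoh hB
    have hcQ : Coh.IsCoh (cokernel c) := QCohLib.isCoh_cokernel c hcA.1 hcB
    have h := HilbPoly.euler_additive (k := ℂ) hS hcA hcB hcQ
    exact h
  have hchi : ∀ i, i ≤ n → Curv2.euler ℂ X (Es i) + Curv2.euler ℂ X (Fs i) = Curv2.euler ℂ X F := by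
    intro i
    induction i with
    | zero =>
      intro _
      rw [HilbPoly.euler_of_isZero (k := ℂ) hE0, zero_add]
      haveI := hF0
      exact HilbPoly.euler_congr (k := ℂ) (asIso (ιF 0))
    | succ i ih =>
      intro hi
      obtain ⟨e⟩ := hopp i (by omega)
      have h1 := hses (a i) (hEs i) (hEs (i + 1))
      have h2 := hses (b i) (hFs (i + 1)) (hFs i)
      have h3 := HilbPoly.euler_congr (k := ℂ) e
      have h4 := ih (by omega)
      linarith
  have hsum : ∀ i, i ≤ n → Curv2.deg ℂ X (Es i) (rE i) + Curv2.deg ℂ X (Fs i) (rF i) = d := by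
    intro i hi
    have h := hchi i hi
    have hr' : (rE i : ℤ) + rF i = r := by exact_mod_cast hrk i hi
    simp only [Curv2.deg] at hFd ⊢
    linear_combination h + hFd - Curv2.euler ℂ X (Coh.structureModule X) * hr'
  have hdz : ∀ {M : X.Modules} {m : ℕ}, m = 0 → FlatMod.IsFinLocFreeOfRank m M → Curv2.deg ℂ X M m = 0 := fun {M m} h hM => by
    subst h; exact CurveVB.deg_zero ℂ hdim hM
  have leE : ∀ i, Curv2.deg ℂ X (Es i) (rE i) * (r : ℤ) ≤ d * (rE i : ℤ) := fun i => by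
    rcases Nat.eq_zero_or_pos (rE i) with h0 | h0
    · rw [hdz h0 (hEs i), h0]; simp
    · rw [← hEd]; exact hEss _ _ (ιE i) (ψE i) (hιE i) h0 (hEs i) (hψE i)
  have leF : ∀ i, Curv2.deg ℂ X (Fs i) (rF i) * (r : ℤ) ≤ d * (rF i : ℤ) := fun i => by
    rcases Nat.eq_zero_or_pos (rF i) with h0 | h0
    · rw [hdz h0 (hFs i), h0]; simp
    · rw [← hFd]; exact hFss _ _ (ιF i) (ψF i) (hιF i) h0 (hFs i) (hψF i)
  have eqE : ∀ i, i ≤ n → Curv2.deg ℂ X (Es i) (rE i) * (r : ℤ) = d * (rE i : ℤ) ∧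
      Curv2.deg ℂ X (Fs i) (rF i) * (r : ℤ) = d * (rF i : ℤ) := fun i hi => by
    have h := congrArg (· * (r : ℤ)) (hsum i hi)
    have hr' : (r : ℤ) = rE i + rF i := by exact_mod_cast (hrk i hi).symm
    have h' : Curv2.deg ℂ X (Es i) (rE i) * (r : ℤ) + Curv2.deg ℂ X (Fs i) (rF i) * (r : ℤ) = d * (rE i : ℤ) + d * (rF i : ℤ) := by
      rw [← add_mul, hsum i hi, ← mul_add, ← hr']
    have := leE i
    have := leF i
    constructor <;> linarith
  have hrpos : (0 : ℤ) < r := by exact_mod_cast hr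
  have hsub : ∀ {A B : X.Modules} {m : ℕ} (φB : B ⟶ CohB1.tensorMod B L) (ι : A ⟶ B) [Mono ι] (ψ : A ⟶ CohB1.tensorMod A L),
      ψ ≫ HilbPoly.tMap ι L = ι ≫ φB → Curv2.deg ℂ X A m * (r : ℤ) = d * (m : ℤ) →
      (∀ (G : X.Modules) (s : ℕ) (j : G ⟶ B) (χ : G ⟶ CohB1.tensorMod G L), Mono j → 0 < s →
        FlatMod.IsFinLocFreeOfRank s G → χ ≫ HilbPoly.tMap j L = j ≫ φB → Curv2.deg ℂ X G s * (r : ℤ) ≤ d * (s : ℤ)) →
      ∀ (G : X.Modules) (s : ℕ) (j : G ⟶ A) (χ : G ⟶ CohB1.tensorMod G L), Mono j → 0 < s →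
        FlatMod.IsFinLocFreeOfRank s G → χ ≫ HilbPoly.tMap j L = j ≫ ψ → Curv2.deg ℂ X G s * (m : ℤ) ≤ Curv2.deg ℂ X A m * (s : ℤ) := by
    intro A B m φB ι _ ψ hψ heq hss G s j χ hj hs hG hχ
    have b := hss G s (j ≫ ι) χ inferInstance hs hG (by
      show χ ≫ LimSh.tensorModMap (j ≫ ι) L = _
      rw [LimSh.tensorModMap_comp, ← Category.assoc, hχ, Category.assoc, hψ, Category.assoc])
    refine le_of_mul_le_mul_right ?_ hrpos
    nlinarith [mul_le_mul_of_nonneg_right b (Int.natCast_nonneg m)]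
  have hEss' : ∀ (G : X.Modules) (s : ℕ) (j : G ⟶ E) (χ : G ⟶ CohB1.tensorMod G L), Mono j → 0 < s →
      FlatMod.IsFinLocFreeOfRank s G → χ ≫ HilbPoly.tMap j L = j ≫ φE → Curv2.deg ℂ X G s * (r : ℤ) ≤ d * (s : ℤ) :=
    fun G s j χ hj hs hG hχ => by have h := hEss G s j χ hj hs hG hχ; rwa [hEd] at h
  have hFss' : ∀ (G : X.Modules) (s : ℕ) (j : G ⟶ F) (χ : G ⟶ CohB1.tensorMod G L), Mono j → 0 < s →
      FlatMod.IsFinLocFreeOfRank s G → χ ≫ HilbPoly.tMap j L = j ≫ φF → Curv2.deg ℂ X G s * (r : ℤ) ≤ d * (s : ℤ) :=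
    fun G s j χ hj hs hG hχ => by have h := hFss G s j χ hj hs hG hχ; rwa [hFd] at h
  refine ⟨fun i hi _ => ⟨(eqE i hi).1, @hsub _ _ _ φE (ιE i) (hιE i) (ψE i) (hψE i) (eqE i hi).1 hEss'⟩,
    fun i hi _ => ⟨(eqE i hi).2, @hsub _ _ _ φF (ιF i) (hιF i) (ψF i) (hψF i) (eqE i hi).2 hFss'⟩, fun i hi hlt => ?_⟩
  have hss1 := @hsub _ _ _ φE (ιE (i + 1)) (hιE _) (ψE (i + 1)) (hψE _) (eqE (i + 1) hi).1 hEss'
  have hinv : ψE i ≫ HilbPoly.tMap (a i) L = a i ≫ ψE (i + 1) := by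
    haveI := hιE (i + 1)
    haveI := HilbPoly.mono_tMap (ιE (i + 1)) hL
    have h1 : ψE (i + 1) ≫ HilbPoly.tMap (ιE (i + 1)) L = ιE (i + 1) ≫ φE := hψE (i + 1)
    have h2 : ψE i ≫ HilbPoly.tMap (ιE i) L = ιE i ≫ φE := hψE i
    rw [← cancel_mono (HilbPoly.tMap (ιE (i + 1)) L), Category.assoc, Category.assoc, h1, ← LimSh.tensorModMap_comp, ha,
      ← Category.assoc, ha]
    exact h2
  have hc : ((rE (i + 1) - rE i : ℕ) : ℤ) = (rE (i + 1) : ℤ) - rE i := by omega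
  have hdC : ∀ (hC : FlatMod.IsFinLocFreeOfRank (rE (i + 1) - rE i) (cokernel (a i))),
      Curv2.deg ℂ X (cokernel (a i)) (rE (i + 1) - rE i) * (r : ℤ) = d * ((rE (i + 1) - rE i : ℕ) : ℤ) := fun hC => by
    have hS : (ShortComplex.mk (a i) (cokernel.π (a i)) (cokernel.condition (a i))).ShortExact :=
      { exact := ShortComplex.exact_of_g_is_cokernel _ (cokernelIsCokernel _) }
    have h := S7643.result ℂ X hdim.le _ hS _ _ _ (hEs i) (hEs (i + 1)) hC
    dsimp only at h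
    rw [hc]
    linear_combination (-(r : ℤ)) * h + (eqE (i + 1) hi).1 - (eqE i (by omega)).1
  rcases Nat.eq_zero_or_pos (rE i) with h0 | h0
  · have hz : IsZero (Es i) := CurveVB.isZero_of_rank_zero (h0 ▸ hEs i)
    haveI : IsIso (cokernel.π (a i)) := by
      haveI : Mono (cokernel.π (a i)) := (ShortComplex.exact_of_g_is_cokernel
        (ShortComplex.mk (a i) (cokernel.π (a i)) (cokernel.condition (a i))) (cokernelIsCokernel _)).mono_g (hz.eq_of_src _ _)
      exact isIso_of_mono_of_epi _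
    have hC : FlatMod.IsFinLocFreeOfRank (rE (i + 1) - rE i) (cokernel (a i)) := fun x => by
      obtain ⟨U, hx, ⟨e⟩⟩ := (show FlatMod.IsFinLocFreeOfRank (rE (i + 1) - rE i) (Es (i + 1)) by rw [h0, Nat.sub_zero]; exact hEs (i + 1)) x
      exact ⟨U, hx, ⟨(Scheme.Modules.restrictFunctor U.ι).mapIso (asIso (cokernel.π (a i))).symm ≪≫ e⟩⟩
    refine ⟨hC, hdC hC, fun φ' hφ' G s j χ hj hs hG hχ => ?_⟩
    have b := hss1 G s (j ≫ inv (cokernel.π (a i))) χ inferInstance hs hG (by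
      haveI := HilbPoly.mono_tMap (cokernel.π (a i)) hL
      rw [← cancel_mono (HilbPoly.tMap (cokernel.π (a i)) L), Category.assoc, ← LimSh.tensorModMap_comp, Category.assoc j,
        IsIso.inv_hom_id, Category.comp_id, Category.assoc, Category.assoc]
      have h' : cokernel.π (a i) ≫ φ' = ψE (i + 1) ≫ HilbPoly.tMap (cokernel.π (a i)) L := hφ'
      rw [← h', IsIso.inv_hom_id_assoc]
      exact hχ)
    refine le_of_mul_le_mul_right ?_ hrpos
    have hd1 := hdC hC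
    rw [h0] at hd1 ⊢
    simp only [Nat.sub_zero] at hd1 ⊢
    have h' := mul_le_mul_of_nonneg_right b hrpos.le
    nlinarith [(eqE (i + 1) hi).1]
  · obtain ⟨hC, hq⟩ := S15328.result X hdim L hL (rE (i + 1)) (by omega) (Es (i + 1)) (hEs (i + 1)) (ψE (i + 1)) hss1
      (Es i) (rE i) h0 (hEs i) (a i) (ψE i) hinv (by
        refine mul_right_cancel₀ hrpos.ne' ?_
        linear_combination (rE (i + 1) : ℤ) * (eqE i (by omega)).1 - (rE i : ℤ) * (eqE (i + 1) hi).1)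
    exact ⟨hC, hdC hC, hq⟩

end Groth.Agent.S15330
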