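import Groth.Statements.S15331
import Groth.Agent.CurveVB.Bound
import Groth.Agent.S1536
-- import your own Groth.Agent.* helpers here

set_option autoImplicit false
set_option backward.isDefEq.respectTransparency false
universe u
open CategoryTheory CategoryTheory.Limits AlgebraicGeometry
open VBCurve

namespace Groth.Agent.S15331
open Groth.Agent

/-- Let X be a smooth proper integral curve (integral, smooth and proper of dimension one) over an
algebraically closed field k and E a finite locally free O_X-module of rank r ≥ 1. Then the degrees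
of the finite locally free submodules F of E, of any rank r' (degree meaning χ(F) − r'·χ(O_X)), are
bounded above. -/
theorem result (k : Type u) [Field k] [IsAlgClosed k] (X : Scheme.{u}) [X.Over (Spec (CommRingCat.of k))]
    [IsIntegral X] [IsProper (X ↘ Spec (CommRingCat.of k))] [Smooth (X ↘ Spec (CommRingCat.of k))]
    (hdim : topologicalKrullDim X = 1)
    (r : ℕ) (hr : 0 < r) (E : X.Modules) (hE : FlatMod.IsFinLocFreeOfRank r E) :
    ∃ N : ℤ, ∀ (F : X.Modules) (r' : ℕ) (i : F ⟶ E), Mono i → FlatMod.IsFinLocFreeOfRank r' F →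
      Curv2.deg k X F r' ≤ N := by
  refine ⟨(Module.finrank k (Coh.HH X E 0) : ℤ) + (r : ℤ) * |Curv2.euler k X (Coh.structureModule X)|, fun F r' i hi hF => ?_⟩
  have h := CurveVB.euler_le_h0_of_mono k hdim (DCohPerf.isCoh_finLocFree (CurveVB.finLocFree_of_rank hF))
    (DCohPerf.isCoh_finLocFree (CurveVB.finLocFree_of_rank hE)) i
  obtain ⟨q, hq, hF'⟩ := CurveVB.exists_rank_sub k hdim (DCohPerf.isCoh_finLocFree (CurveVB.finLocFree_of_rank hF)) hE i
  obtain ⟨x⟩ : Nonempty X := inferInstance
  have hqr : r' = q := (CurveVB.stalk_free hF x).2.2.symm.trans (CurveVB.stalk_free hF' x).2.2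
  have hle : (r' : ℤ) ≤ r := by exact_mod_cast hqr ▸ hq
  simp only [Curv2.deg]
  nlinarith [mul_le_mul_of_nonneg_right hle (abs_nonneg (Curv2.euler k X (Coh.structureModule X))),
    mul_le_mul_of_nonneg_left (neg_le_abs (Curv2.euler k X (Coh.structureModule X))) (Int.natCast_nonneg r')]

end Groth.Agent.S15331
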