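import Groth.Statements.S15333
import Groth.Agent.CurveVB.Basic
-- import your own Groth.Agent.* helpers here

set_option autoImplicit false
set_option backward.isDefEq.respectTransparency false
universe u
open CategoryTheory CategoryTheory.Limits AlgebraicGeometry
open VBCurve

namespace Groth.Agent.S15333

/-- Let X be a smooth proper integral curve (integral, smooth and proper of dimension one) over an
algebraically closed field k. Let E and F be finite locally free O_X-modules of ranks r ≥ 1 and s ≥
1 which are slope-semistable and slope-stable (deg G · r ≤ deg E · r' for every finite locally free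
submodule G ⊂ E of rank r' ≥ 1, with strict inequality when r' < r, and likewise for F; degree = χ −
rank·χ(O_X)) and which have the same slope, deg E · s = deg F · r. Then either there is no nonzero
homomorphism E → F or E ≅ F; precisely, every nonzero homomorphism E → F is an isomorphism. -/
theorem result (k : Type u) [Field k] [IsAlgClosed k] (X : Scheme.{u}) [X.Over (Spec (CommRingCat.of k))]
    [IsIntegral X] [IsProper (X ↘ Spec (CommRingCat.of k))] [Smooth (X ↘ Spec (CommRingCat.of k))]
    (hdim : topologicalKrullDim X = 1)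
    (r s : ℕ) (hr : 0 < r) (hs : 0 < s) (E F : X.Modules)
    (hE : FlatMod.IsFinLocFreeOfRank r E) (hF : FlatMod.IsFinLocFreeOfRank s F)
    (hEss : ModFun.IsSlopeSemistable k X E r) (hEst : ModFun.IsSlopeStable k X E r)
    (hFss : ModFun.IsSlopeSemistable k X F s) (hFst : ModFun.IsSlopeStable k X F s)
    (hμ : Curv2.deg k X E r * (s : ℤ) = Curv2.deg k X F s * (r : ℤ))
    (f : E ⟶ F) (hf : f ≠ 0) : IsIso f := by
  obtain ⟨K, I, q, t, i, p, j, hi, hj, -, -, hq, ht, hr', hts, hdeg, hm, hz⟩ :=
    Groth.Agent.CurveVB.exists_split k hdim hE hF f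
  have ht0 : 0 < t := Nat.pos_of_ne_zero fun h => hf (hz h)
  rcases Nat.eq_zero_or_pos q with h0 | h0
  · haveI := hm h0
    have hrs : r ≤ s := by omega
    rcases hrs.lt_or_eq with h | h
    · have h3 := hFst E r f inferInstance hr h hE
      linarith
    · subst h
      refine (Groth.Agent.CurveVB.deg_le_of_mono k hdim hE hF f).2 ?_
      exact mul_right_cancel₀ (show (r : ℤ) ≠ 0 by exact_mod_cast hr.ne') hμ
  · have h3 := hEst K q i hi h0 (by omega) hq
    have h2 : Curv2.deg k X I t * (s : ℤ) ≤ Curv2.deg k X F s * (t : ℤ) := hFss I t j hj ht0 ht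
    have h4 : Curv2.deg k X E r * (t : ℤ) < Curv2.deg k X I t * (r : ℤ) := by
      rw [hdeg, hr'] at h3 ⊢
      push_cast at h3 ⊢
      nlinarith
    have h5 := mul_le_mul_of_nonneg_right h2 (show (0 : ℤ) ≤ r by positivity)
    have h6 := mul_lt_mul_of_pos_right h4 (show (0 : ℤ) < s by exact_mod_cast hs)
    have e1 := congrArg (· * (t : ℤ)) hμ

    exfalso
    nlinarith

end Groth.Agent.S15333
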