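import Groth.Statements.S15335
import Groth.Agent.CurveVB.Basic
-- import your own Groth.Agent.* helpers here

set_option autoImplicit false
set_option backward.isDefEq.respectTransparency false
universe u
open CategoryTheory CategoryTheory.Limits AlgebraicGeometry
open VBCurve

namespace Groth.Agent.S15335
open Groth.Agent

/-- Let X be a smooth proper integral curve (integral, smooth and proper of dimension one) over an
algebraically closed field k, and E₁, E₂ finite locally free O_X-modules of ranks r₁ ≥ 1, r₂ ≥ 1.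
The maximal slope of E₁ ⊕ E₂ is at most the larger of the maximal slopes of E₁ and E₂: if m₁, m₂ are
rational numbers such that every finite locally free submodule of positive rank of E₁ (resp. E₂) has
slope deg/rank ≤ m₁ (resp. ≤ m₂), degree meaning χ − rank·χ(O_X), then every finite locally free
submodule F of the biproduct E₁ ⊞ E₂ of rank r' ≥ 1 has slope deg F / r' ≤ max(m₁, m₂). -/
theorem result (k : Type u) [Field k] [IsAlgClosed k] (X : Scheme.{u}) [X.Over (Spec (CommRingCat.of k))]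
    [IsIntegral X] [IsProper (X ↘ Spec (CommRingCat.of k))] [Smooth (X ↘ Spec (CommRingCat.of k))]
    (hdim : topologicalKrullDim X = 1)
    (r₁ r₂ : ℕ) (hr₁ : 0 < r₁) (hr₂ : 0 < r₂) (E₁ E₂ : X.Modules)
    (hE₁ : FlatMod.IsFinLocFreeOfRank r₁ E₁) (hE₂ : FlatMod.IsFinLocFreeOfRank r₂ E₂) (m₁ m₂ : ℚ)
    (h₁ : ∀ (G : X.Modules) (r' : ℕ) (i : G ⟶ E₁), Mono i → 0 < r' → FlatMod.IsFinLocFreeOfRank r' G →
      (Curv2.deg k X G r' : ℚ) / r' ≤ m₁)
    (h₂ : ∀ (G : X.Modules) (r' : ℕ) (i : G ⟶ E₂), Mono i → 0 < r' → FlatMod.IsFinLocFreeOfRank r' G →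
      (Curv2.deg k X G r' : ℚ) / r' ≤ m₂)
    (F : X.Modules) (r' : ℕ) (i : F ⟶ E₁ ⊞ E₂) (hi : Mono i) (hr' : 0 < r')
    (hF : FlatMod.IsFinLocFreeOfRank r' F) :
    (Curv2.deg k X F r' : ℚ) / r' ≤ max m₁ m₂ := by
  obtain ⟨K, I, q, t, a, p, j, ha, hj, -, ha0, hq, ht, hr, -, hdeg, hm, hz⟩ :=
    CurveVB.exists_split k hdim hF hE₂ (i ≫ biprod.snd)
  rcases Nat.eq_zero_or_pos q with h0 | h0
  · haveI := hm h0
    exact (h₂ F r' (i ≫ biprod.snd) inferInstance hr' hF).trans (le_max_right _ _)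
  rcases Nat.eq_zero_or_pos t with h0' | h0'
  · have hs := hz h0'
    haveI : Mono (i ≫ biprod.fst) := Preadditive.mono_of_cancel_zero _ fun g hg => by
      rw [← cancel_mono i, zero_comp]
      exact biprod.hom_ext _ _ (by simpa using hg) (by simp [hs])
    exact (h₁ F r' (i ≫ biprod.fst) inferInstance hr' hF).trans (le_max_left _ _)
  haveI : Mono ((a ≫ i) ≫ biprod.fst) := Preadditive.mono_of_cancel_zero _ fun g hg => by
    rw [← cancel_mono (a ≫ i), zero_comp]
    exact biprod.hom_ext _ _ (by simpa using hg) (by simp [ha0])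
  have b1 := (h₁ K q ((a ≫ i) ≫ biprod.fst) inferInstance h0 hq).trans (le_max_left m₁ m₂)
  have b2 := (h₂ I t j hj h0' ht).trans (le_max_right m₁ m₂)
  rw [div_le_iff₀ (by exact_mod_cast h0)] at b1
  rw [div_le_iff₀ (by exact_mod_cast h0')] at b2
  rw [div_le_iff₀ (by exact_mod_cast hr'), hdeg, hr]
  push_cast
  linarith

end Groth.Agent.S15335
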