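import Groth.Statements.S15340
import Groth.Agent.CurveVB.Basic
-- import your own Groth.Agent.* helpers here

set_option autoImplicit false
set_option backward.isDefEq.respectTransparency false
universe u
open CategoryTheory CategoryTheory.Limits AlgebraicGeometry
open VBCurve

namespace Groth.Agent.S15340
open Groth.Agent

/-- Let X be a smooth proper integral curve (integral, smooth and proper of dimension one) over an
algebraically closed field k and E a finite locally free O_X-module of rank r ≥ 1 which is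
slope-semistable and slope-stable (deg G · r ≤ deg E · r' for finite locally free submodules G of
rank r' ≥ 1, strictly when r' < r; degree = χ − rank·χ(O_X)). Then E is indecomposable: it is
nonzero and whenever E ≅ E₁ ⊞ E₂ as O_X-modules, one of E₁, E₂ is zero. -/
theorem result (k : Type u) [Field k] [IsAlgClosed k] (X : Scheme.{u}) [X.Over (Spec (CommRingCat.of k))]
    [IsIntegral X] [IsProper (X ↘ Spec (CommRingCat.of k))] [Smooth (X ↘ Spec (CommRingCat.of k))]
    (hdim : topologicalKrullDim X = 1)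
    (r : ℕ) (hr : 0 < r) (E : X.Modules) (hE : FlatMod.IsFinLocFreeOfRank r E)
    (hEss : ModFun.IsSlopeSemistable k X E r) (hEst : ModFun.IsSlopeStable k X E r) :
    ¬ IsZero E ∧ ∀ (E₁ E₂ : X.Modules), Nonempty (E ≅ E₁ ⊞ E₂) → IsZero E₁ ∨ IsZero E₂ := by
  refine ⟨fun hz => ?_, fun E₁ E₂ ⟨e⟩ => ?_⟩
  · obtain ⟨x⟩ : Nonempty X := inferInstance
    obtain ⟨-, -, hrk⟩ := CurveVB.stalk_free hE x
    have : Subsingleton (E.presheaf.stalk x) :=
      ModuleCat.subsingleton_of_isZero (ModGroth.Stalk.isZero_stalk (x := x) hz)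
    rw [Module.finrank_zero_of_subsingleton] at hrk
    omega
  · by_cases h : e.hom ≫ biprod.fst ≫ biprod.inl ≫ e.inv = 0
    · left
      rw [IsZero.iff_id_eq_zero]
      calc 𝟙 E₁ = biprod.inl ≫ e.inv ≫ (e.hom ≫ biprod.fst ≫ biprod.inl ≫ e.inv) ≫ e.hom ≫ biprod.fst := by simp
        _ = 0 := by rw [h]; simp
    · right
      haveI := CurveVB.isIso_of_stable k hdim hE (fun G s i hi hG h0 hs => hEst G s i hi h0 hs hG) _ h
      rw [IsZero.iff_id_eq_zero]
      have h2 : (biprod.inr ≫ e.inv) ≫ (e.hom ≫ biprod.fst ≫ biprod.inl ≫ e.inv) = 0 := by simp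
      rw [← zero_comp (f := e.hom ≫ biprod.fst ≫ biprod.inl ≫ e.inv), cancel_mono] at h2
      calc 𝟙 E₂ = (biprod.inr ≫ e.inv) ≫ e.hom ≫ biprod.snd := by simp
        _ = 0 := by rw [h2]; simp

end Groth.Agent.S15340
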