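import Groth.Statements.S15344
import Mathlib
-- import your own Groth.Agent.* helpers here

set_option autoImplicit false
universe u
open CategoryTheory CategoryTheory.Limits AlgebraicGeometry
open Mor

namespace Groth.Agent.S15344

section Aux
open IsLocalRing

theorem reflects_of_lifts {X Y : Scheme.{u}} (f : Y ⟶ X) [Mono f]
    (H : ∀ S : ValuativeCommSq f,
        (∃ l₀ : Spec (CommRingCat.of (IsLocalRing.ResidueField S.R)) ⟶ Y,
            l₀ ≫ f = Spec.map (CommRingCat.ofHom (IsLocalRing.residue S.R)) ≫ S.i₂) →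
          S.commSq.HasLift)
    {X' : Scheme.{u}} (g : X' ⟶ X) (y₀ y₁ : ↥(pullback f g))
    (h : (pullback.snd f g).base y₁ ⤳ (pullback.snd f g).base y₀) : y₁ ⤳ y₀ := by
  let q := pullback.snd f g
  let σ : X'.presheaf.stalk (q y₀) ⟶ (pullback f g).residueField y₁ :=
    X'.presheaf.stalkSpecializes h ≫ q.stalkMap y₁ ≫ (pullback f g).residue y₁
  obtain ⟨A, hA, hA_local⟩ := exists_factor_valuationRing σ.hom
  let α : X'.presheaf.stalk (q y₀) ⟶ .of A := CommRingCat.ofHom (σ.hom.codRestrict _ hA)
  have w : (pullback f g).fromSpecResidueField y₁ ≫ q =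
      Spec.map (CommRingCat.ofHom (algebraMap A ((pullback f g).residueField y₁))) ≫
        Spec.map α ≫ X'.fromSpecStalk (q y₀) := by
    rw [Scheme.fromSpecResidueField, Category.assoc, ← Scheme.SpecMap_stalkMap_fromSpecStalk,
      ← Scheme.SpecMap_stalkSpecializes_fromSpecStalk h]
    simp_rw [← Spec.map_comp_assoc]
    rfl
  have w' : ((pullback f g).fromSpecResidueField y₁ ≫ pullback.fst f g) ≫ f =
      Spec.map (CommRingCat.ofHom (algebraMap A ((pullback f g).residueField y₁))) ≫
        Spec.map α ≫ X'.fromSpecStalk (q y₀) ≫ g := by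
    rw [Category.assoc, pullback.condition, reassoc_of% w]
  -- the residue field of `A` is an extension of that of `y₀`
  let τ : X'.presheaf.stalk (q y₀) ⟶ .of (ResidueField A) :=
    α ≫ CommRingCat.ofHom (residue A)
  haveI : IsLocalHom α.hom := hA_local
  haveI : IsLocalHom τ.hom := inferInstanceAs (IsLocalHom ((residue A).comp α.hom))
  let r := Spec.map (q.residueFieldMap y₀)
  have hr : r ≫ X'.fromSpecResidueField (q y₀) = (pullback f g).fromSpecResidueField y₀ ≫ q :=
    Scheme.Hom.SpecMap_residueFieldMap_fromSpecResidueField _ _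
  haveI : Mono r := mono_of_mono_fac hr
  haveI : Surjective r := ⟨fun _ => ⟨closedPoint _, Subsingleton.elim _ _⟩⟩
  haveI : Flat r := by
    rw [HasRingHomProperty.Spec_iff (P := @Flat)]
    algebraize [(q.residueFieldMap y₀).hom]
    exact Module.Flat.of_free
  haveI : IsIso r := Flat.isIso_of_surjective_of_mono r
  let L₀ := Spec.map (X'.descResidueField τ) ≫ inv r ≫ (pullback f g).fromSpecResidueField y₀
  have hL₀ : L₀ ≫ q = Spec.map (CommRingCat.ofHom (residue A)) ≫ Spec.map α ≫
      X'.fromSpecStalk (q y₀) := by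
    simp only [L₀, Category.assoc]
    rw [← hr, IsIso.inv_hom_id_assoc, Scheme.descResidueField_fromSpecResidueField,
      ← Spec.map_comp_assoc]
  obtain ⟨⟨⟨l, hl₁, hl₂⟩⟩⟩ := H
    { R := A, K := (pullback f g).residueField y₁,
      i₁ := (pullback f g).fromSpecResidueField y₁ ≫ pullback.fst f g,
      i₂ := Spec.map α ≫ X'.fromSpecStalk (q y₀) ≫ g,
      commSq := ⟨w'⟩ }
    ⟨L₀ ≫ pullback.fst f g, by rw [Category.assoc, pullback.condition, reassoc_of% hL₀]⟩
  dsimp only at hl₁ hl₂
  let L : Spec (.of A) ⟶ pullback f g :=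
    pullback.lift l (Spec.map α ≫ X'.fromSpecStalk (q y₀)) (by rw [hl₂, Category.assoc])
  have hL : Spec.map (CommRingCat.ofHom (algebraMap A ((pullback f g).residueField y₁))) ≫ L =
      (pullback f g).fromSpecResidueField y₁ := by
    refine (cancel_mono q).1 ?_
    rw [Category.assoc, w, pullback.lift_snd]
  have h0 : L (closedPoint A) = y₀ := by
    refine q.injective ?_
    rw [← Scheme.Hom.comp_apply, pullback.lift_snd, Scheme.Hom.comp_apply]
    have : Spec.map α (closedPoint A) = closedPoint (X'.presheaf.stalk (q y₀)) :=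
      comap_closedPoint (S := A) α.hom
    rw [this, X'.fromSpecStalk_closedPoint]
  have e1 : L (Spec.map (CommRingCat.ofHom (algebraMap A ((pullback f g).residueField y₁)))
      (closedPoint ((pullback f g).residueField y₁))) = y₁ := by
    rw [← Scheme.Hom.comp_apply, hL, Scheme.fromSpecResidueField_apply]
  exact ((specializes_of_eq e1.symm).trans
    ((specializes_closedPoint _).map L.continuous)).trans (specializes_of_eq h0)

set_option backward.isDefEq.respectTransparency false in
theorem lifts_of_reflects {X Y : Scheme.{u}} (f : Y ⟶ X) [Mono f]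
    (H : ∀ (X' : Scheme.{u}) (g : X' ⟶ X) (y₀ y₁ : ↥(pullback f g)),
        (pullback.snd f g).base y₁ ⤳ (pullback.snd f g).base y₀ → y₁ ⤳ y₀)
    (S : ValuativeCommSq f)
    (hl₀ : ∃ l₀ : Spec (CommRingCat.of (IsLocalRing.ResidueField S.R)) ⟶ Y,
      l₀ ≫ f = Spec.map (CommRingCat.ofHom (IsLocalRing.residue S.R)) ≫ S.i₂) :
    S.commSq.HasLift := by
  obtain ⟨R, K, i₁, i₂, ⟨w⟩⟩ := S
  obtain ⟨l₀, hl₀⟩ := hl₀
  dsimp only at l₀ hl₀
  have : IsDomain (CommRingCat.of R) := ‹_›
  have : ValuationRing (CommRingCat.of R) := ‹_›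
  let : Field (CommRingCat.of K) := ‹_›
  let lft := pullback.lift (Spec.map (CommRingCat.ofHom (algebraMap R K))) i₁ w.symm
  let L₀ := pullback.lift (Spec.map (CommRingCat.ofHom (residue R))) l₀ hl₀.symm
  let x := L₀ (closedPoint (ResidueField R))
  have h₂ : pullback.fst i₂ f x = closedPoint R := by
    simp only [x, ← Scheme.Hom.comp_apply, L₀, pullback.lift_fst]
    exact comap_closedPoint (S := ResidueField R) (residue R)
  let s := pullbackSymmetry i₂ f
  have h₁ : lft (closedPoint K) ⤳ x := by
    have hs : ∀ z, pullback.snd f i₂ (s.hom z) = pullback.fst i₂ f z := fun z => by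
      rw [← Scheme.Hom.comp_apply, pullbackSymmetry_hom_comp_snd]
    have h := H _ i₂ (s.hom x) (s.hom (lft (closedPoint K))) (by
      change pullback.snd f i₂ (s.hom (lft (closedPoint K))) ⤳ pullback.snd f i₂ (s.hom x)
      rw [hs, hs, h₂]
      exact specializes_closedPoint (R := R) _)
    have h' := h.map s.inv.continuous
    simpa only [← Scheme.Hom.comp_apply, Category.assoc, Iso.hom_inv_id, Category.comp_id, Scheme.Hom.id_base, TopCat.hom_id, TopCat.id_app, ContinuousMap.id_apply] using h'
  let e : CommRingCat.of R ≅ (Spec <| .of R).presheaf.stalk (pullback.fst i₂ f x) :=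
    (stalkClosedPointIso (.of R)).symm ≪≫
      (Spec <| .of R).presheaf.stalkCongr (.of_eq h₂.symm)
  let α := e.hom ≫ (pullback.fst i₂ f).stalkMap x
  have : IsLocalHom e.hom.hom := isLocalHom_of_isIso e.hom
  have : IsLocalHom α.hom := inferInstanceAs
    (IsLocalHom (((pullback.fst i₂ f).stalkMap x).hom.comp e.hom.hom))
  let β := (pullback i₂ f).presheaf.stalkSpecializes h₁ ≫ Scheme.stalkClosedPointTo lft
  have hαβ : α ≫ β = CommRingCat.ofHom (algebraMap R K) := by
    simp only [CommRingCat.coe_of, Iso.trans_hom, Iso.symm_hom, TopCat.Presheaf.stalkCongr_hom,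
      Category.assoc, α, e, β, stalkClosedPointIso_inv, StructureSheaf.toStalk]
    change (Scheme.ΓSpecIso (.of R)).inv ≫ (Spec <| .of R).presheaf.germ _ _ _ ≫ _ = _
    simp only [TopCat.Presheaf.germ_stalkSpecializes_assoc, Scheme.Hom.germ_stalkMap_assoc]
    simp only [TopologicalSpace.Opens.map_top]
    rw [Scheme.germ_stalkClosedPointTo lft ⊤ trivial]
    erw [← Scheme.Hom.comp_app_assoc lft (pullback.fst i₂ f)]
    rw [pullback.lift_fst]
    simp
  have hbij := (bijective_rangeRestrict_comp_of_valuationRing (R := R) (K := K) α.hom β.hom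
    (CommRingCat.hom_ext_iff.mp hαβ))
  let φ : (pullback i₂ f).presheaf.stalk x ⟶ CommRingCat.of R := CommRingCat.ofHom <|
    (RingEquiv.ofBijective _ hbij).symm.toRingHom.comp β.hom.rangeRestrict
  have hαφ : α ≫ φ = 𝟙 _ := by ext x; exact (RingEquiv.ofBijective _ hbij).symm_apply_apply x
  have hαφ' : (pullback.fst i₂ f).stalkMap x ≫ φ = e.inv := by
    rw [← cancel_epi e.hom, ← Category.assoc, hαφ, e.hom_inv_id]
  have hφβ : φ ≫ CommRingCat.ofHom (algebraMap R K) = β :=
    hαβ ▸ CommRingCat.hom_ext (RingHom.ext fun x ↦ congr_arg Subtype.val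
      ((RingEquiv.ofBijective _ hbij).apply_symm_apply (β.hom.rangeRestrict x)))
  refine ⟨⟨⟨Spec.map ((pullback.snd i₂ f).stalkMap x ≫ φ) ≫ Y.fromSpecStalk _, ?_, ?_⟩⟩⟩
  · simp only [← Spec.map_comp_assoc, Category.assoc, hφβ]
    simp only [Spec.map_comp, Category.assoc, Scheme.SpecMap_stalkMap_fromSpecStalk,
      Scheme.SpecMap_stalkSpecializes_fromSpecStalk_assoc, β]
    rw [Scheme.Spec_stalkClosedPointTo_fromSpecStalk_assoc]
    simp [lft]
  · simp only [Spec.map_comp, Category.assoc, Scheme.SpecMap_stalkMap_fromSpecStalk,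
      ← pullback.condition]
    rw [← Scheme.SpecMap_stalkMap_fromSpecStalk_assoc, ← Spec.map_comp_assoc, hαφ']
    simp only [Iso.trans_inv, TopCat.Presheaf.stalkCongr_inv, Iso.symm_inv, Spec.map_comp,
      Category.assoc, Scheme.SpecMap_stalkSpecializes_fromSpecStalk_assoc, e]
    rw [← Spec_stalkClosedPointIso, ← Spec.map_comp_assoc,
      Iso.inv_hom_id, Spec.map_id, Category.id_comp]

end Aux

/-- Let f : Y ⟶ X be a monomorphism of schemes, X quasi-separated. Then the projection Y ×_X X' ⟶ X'
reflects specializations (if the image of y₁ specializes to the image of y₀ then y₁ specializes to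
y₀) after every base change X' ⟶ X if and only if, for every valuation ring A with fraction field K
and every commutative square Spec K ⟶ Y, Spec A ⟶ X over f such that, in addition, some morphism
from the spectrum of the residue field of A to Y lies over Spec A ⟶ X, the square admits a lift Spec
A ⟶ Y. -/
theorem result {X Y : Scheme.{u}} [QuasiSeparatedSpace ↥X]
    (f : Y ⟶ X) [Mono f] :
    (∀ (X' : Scheme.{u}) (g : X' ⟶ X) (y₀ y₁ : ↥(pullback f g)),
        (pullback.snd f g).base y₁ ⤳ (pullback.snd f g).base y₀ → y₁ ⤳ y₀) ↔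
      ∀ S : ValuativeCommSq f,
        (∃ l₀ : Spec (CommRingCat.of (IsLocalRing.ResidueField S.R)) ⟶ Y,
            l₀ ≫ f = Spec.map (CommRingCat.ofHom (IsLocalRing.residue S.R)) ≫ S.i₂) →
          S.commSq.HasLift := by
  exact ⟨fun H S h => lifts_of_reflects f H S h, fun H X' g y₀ y₁ h => reflects_of_lifts f H g y₀ y₁ h⟩

end Groth.Agent.S15344
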