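import Groth.Statements.S15347
-- import your own Groth.Agent.* helpers here
import Mathlib

set_option autoImplicit false
universe u
open CategoryTheory CategoryTheory.Limits AlgebraicGeometry
open Mor

namespace Groth.Agent.S15347

/-- Let f : Y ⟶ X be an immersion of schemes. Then: for every valuation ring A with fraction field K and
every commutative square Spec K ⟶ Y, Spec A ⟶ X over f such that some morphism from the spectrum of
the residue field of A to Y lies over Spec A ⟶ X, the square admits a lift; and for every integral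
domain A and every morphism s : Spec A ⟶ X such that the points of a dense subset of Spec A lift to
Y (the residue field of each such point maps to Y over s), there is a nonempty open subscheme U of
Spec A with a morphism U ⟶ Y over s. (The published statement is for a representable, locally
finitely presented morphism of algebraic stacks with locally Noetherian target and a quasi-compact
immersion, and also lists that f is a monomorphism; this row is the case of schemes, for any
immersion and any target.) -/
theorem result {X Y : Scheme.{u}} (f : Y ⟶ X) [IsImmersion f] :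
    (∀ S : ValuativeCommSq f,
        (∃ l₀ : Spec (CommRingCat.of (IsLocalRing.ResidueField S.R)) ⟶ Y,
            l₀ ≫ f = Spec.map (CommRingCat.ofHom (IsLocalRing.residue S.R)) ≫ S.i₂) →
          S.commSq.HasLift) ∧
      ∀ (A : Type u) [CommRing A] [IsDomain A] (s : Spec (CommRingCat.of A) ⟶ X) (D : Set ↥(Spec (CommRingCat.of A))),
        Dense D →
        (∀ p ∈ D, ∃ l : Spec ((Spec (CommRingCat.of A)).residueField p) ⟶ Y,
            l ≫ f = (Spec (CommRingCat.of A)).fromSpecResidueField p ≫ s) →
          ∃ U : (Spec (CommRingCat.of A)).Opens, (U : Set ↥(Spec (CommRingCat.of A))).Nonempty ∧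
            ∃ l : (U : Scheme.{u}) ⟶ Y, l ≫ f = U.ι ≫ s := by
  constructor
  · rintro S ⟨l₀, hl₀⟩
    let W := f.coborderRange
    let cl : Spec (CommRingCat.of (IsLocalRing.ResidueField S.R)) := IsLocalRing.closedPoint _
    have hc : (Spec.map (CommRingCat.ofHom (IsLocalRing.residue S.R))) cl = IsLocalRing.closedPoint S.R :=
      IsLocalRing.comap_closedPoint (IsLocalRing.residue S.R)
    have hmem : S.i₂ (IsLocalRing.closedPoint S.R) ∈ W := by
      rw [← hc, ← Scheme.Hom.comp_apply, ← hl₀, Scheme.Hom.comp_apply]
      exact subset_coborder ⟨_, rfl⟩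
    have hsub : Set.range S.i₂ ⊆ Set.range W.ι := by
      rintro _ ⟨q, rfl⟩
      rw [Scheme.Opens.range_ι]
      exact ((IsLocalRing.specializes_closedPoint q).map S.i₂.continuous).mem_open W.2 hmem
    let i₂' := IsOpenImmersion.lift W.ι S.i₂ hsub
    have h2 : i₂' ≫ W.ι = S.i₂ := IsOpenImmersion.lift_fac _ _ _
    have hex : ValuativeCriterion.Existence f.liftCoborder :=
      (UniversallyClosed.eq_valuativeCriterion.le _ _ f.liftCoborder (inferInstance : UniversallyClosed f.liftCoborder)).1
    let S' : ValuativeCommSq f.liftCoborder :=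
      ⟨S.R, S.K, S.i₁, i₂', ⟨by rw [← cancel_mono W.ι, Category.assoc, Category.assoc, Scheme.Hom.liftCoborder_ι, h2]; exact S.commSq.w⟩⟩
    obtain ⟨⟨l, h₁, h₂⟩⟩ := (hex S').1
    exact ⟨⟨⟨l, h₁, (congrArg (l ≫ ·) (Scheme.Hom.liftCoborder_ι f)).symm.trans ((reassoc_of% h₂) W.ι |>.trans h2)⟩⟩⟩
  · intro A _ _ s D hD hlift
    let W := f.coborderRange
    have hmemD : ∀ p ∈ D, s p ∈ Set.range f := fun p hp => by
      obtain ⟨l, hl⟩ := hlift p hp
      refine ⟨l (IsLocalRing.closedPoint _), ?_⟩
      rw [← Scheme.Hom.comp_apply, hl, Scheme.Hom.comp_apply, Scheme.fromSpecResidueField_apply]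
    let U := s ⁻¹ᵁ W
    obtain ⟨p, hp⟩ : D.Nonempty := hD.nonempty
    refine ⟨U, ⟨p, subset_coborder (hmemD p hp)⟩, ?_⟩
    let g : (U : Scheme.{u}) ⟶ W := IsOpenImmersion.lift W.ι (U.ι ≫ s) (by
      rintro _ ⟨q, rfl⟩
      rw [Scheme.Opens.range_ι, Scheme.Hom.comp_apply]
      exact q.2)
    have hg : g ≫ W.ι = U.ι ≫ s := IsOpenImmersion.lift_fac _ _ _
    let C : TopologicalSpace.Closeds W := ⟨Set.range f.liftCoborder, f.liftCoborder.isClosedEmbedding.isClosed_range⟩
    have hr : ∀ q, g q ∈ (C : Set W) := fun q => by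
      have hU : q ∈ closure (U.ι ⁻¹' D) := by
        rw [(hD.preimage U.ι.isOpenEmbedding.isOpenMap).closure_eq]; trivial
      refine closure_minimal ?_ (C.isClosed'.preimage g.continuous) hU
      intro q' hq'
      obtain ⟨y, hy⟩ := hmemD _ hq'
      refine ⟨y, W.ι.isOpenEmbedding.injective ?_⟩
      rw [← Scheme.Hom.comp_apply, Scheme.Hom.liftCoborder_ι, hy, ← Scheme.Hom.comp_apply g, hg, Scheme.Hom.comp_apply]
    haveI : IsReduced (U : Scheme.{u}) := isReduced_of_isOpenImmersion U.ι
    have hle : f.liftCoborder.ker ≤ g.ker := by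
      have h1 : f.liftCoborder.ker ≤ Scheme.IdealSheafData.vanishingIdeal C := by
        rw [← Scheme.IdealSheafData.le_support_iff_le_vanishingIdeal]
        intro x hx
        exact (Scheme.Hom.support_ker f.liftCoborder).ge (subset_closure hx)
      refine h1.trans (Scheme.IdealSheafData.le_ofIdeals_iff.2 fun V a ha => ?_)
      rw [RingHom.mem_ker]
      change g.app V.1 a = 0
      rw [← basicOpen_eq_bot_iff, ← Scheme.preimage_basicOpen]
      refine le_bot_iff.1 fun w hw => ?_
      obtain ⟨p, hp⟩ := V.2.range_fromSpec.ge (W.toScheme.basicOpen_le a hw)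
      have hb : p ∈ V.2.fromSpec ⁻¹ᵁ W.toScheme.basicOpen a := by
        change V.2.fromSpec p ∈ W.toScheme.basicOpen a
        rw [hp]; exact hw
      rw [V.2.fromSpec_preimage_basicOpen] at hb
      exact (hb ((PrimeSpectrum.mem_vanishingIdeal _ _).1 ha p (by
        change V.2.fromSpec p ∈ (C : Set W)
        rw [hp]; exact hr w))).elim
    refine ⟨IsClosedImmersion.lift f.liftCoborder g hle, ?_⟩
    exact (congrArg (IsClosedImmersion.lift f.liftCoborder g hle ≫ ·) (Scheme.Hom.liftCoborder_ι f)).symm.trans
      ((IsClosedImmersion.lift_fac_assoc f.liftCoborder g hle W.ι).trans hg)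

end Groth.Agent.S15347
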