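import Groth.Statements.S15350
import Groth.Agent.GeomUnib.SectionConnFlat
import Groth.Agent.TrivSec.SmoothGR
import Groth.Agent.GeomUnib.SectionLift
-- import your own Groth.Agent.* helpers here

set_option autoImplicit false
universe u
open CategoryTheory CategoryTheory.Limits AlgebraicGeometry
open MoreMor

namespace Groth.Agent.S15350

/-- Let f : X ⟶ S be smooth, quasi-compact and quasi-separated, let g : S' ⟶ S be universally open and
let e : S' ⟶ X satisfy e ≫ f = g. Then there is an open subset U of X (necessarily unique) such that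
for every point s of S, U ∩ f⁻¹(s) is the union of those connected components of the fibre f⁻¹(s),
with its subspace topology, which meet e(S'). -/
theorem result {S S' X : Scheme.{u}} (f : X ⟶ S)
    [Smooth f] [QuasiCompact f] [QuasiSeparated f] (g : S' ⟶ S) [UniversallyOpen g] (e : S' ⟶ X)
    (he : e ≫ f = g) :
    ∃ U : X.Opens, ∀ s : S, (U : Set ↥X) ∩ f.base ⁻¹' {s} =
      ⋃ x ∈ Set.range e.base ∩ f.base ⁻¹' {s}, connectedComponentIn (f.base ⁻¹' {s}) x := by
  haveI := Groth.Agent.TrivSec.geometricallyReduced_of_smooth f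
  let X' := pullback f g
  let f' : X' ⟶ S' := pullback.snd f g
  let ρ : X' ⟶ X := pullback.fst f g
  let σ : S' ⟶ X' := pullback.lift e (𝟙 _) (by rw [he, Category.id_comp])
  have hσf : σ ≫ f' = 𝟙 _ := pullback.lift_snd _ _ _
  have hσρ : σ ≫ ρ = e := pullback.lift_fst _ _ _
  have hpb : IsPullback ρ f' f g := IsPullback.of_hasPullback f g
  haveI : Smooth f' := MorphismProperty.pullback_snd f g ‹_›
  haveI : QuasiSeparated f' := MorphismProperty.pullback_snd f g ‹_›
  haveI := Groth.Agent.TrivSec.geometricallyReduced_of_smooth f'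
  haveI : UniversallyOpen ρ := MorphismProperty.pullback_fst f g ‹_›
  have hgr : ∀ a : X', FBase.IsGeomReducedAt (f'.fiberToSpecResidueField (f'.base a)) (f'.asFiber a) :=
    fun a => (Groth.Agent.GeomUnib.SectionBC.grk_iff f' a).1 fun K _ k w _ => inferInstance
  have hopen : IsOpen (MoreMor.sectionComponents f' σ) := by
    rw [isOpen_iff_mem_nhds]
    intro x hx
    rw [mem_nhds_iff, ← mem_interior]
    refine Groth.Agent.GeomUnib.SectionConnFlat.subset_interior hσf (fun U hU => ?_) (fun a _ => hgr a) hx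
    haveI : QuasiSeparatedSpace ↥(f' ⁻¹ᵁ U : Scheme.{u}) := by
      haveI : QuasiSeparatedSpace ↥(U : Scheme.{u}) := hU.isQuasiSeparated |> fun h =>
        (isQuasiSeparated_iff_quasiSeparatedSpace _ U.2).1 h
      exact quasiSeparatedSpace_of_quasiSeparated (f' ∣_ U)
    exact (isQuasiSeparated_iff_quasiSeparatedSpace _ (f' ⁻¹ᵁ U).2).2 ‹QuasiSeparatedSpace ↥(f' ⁻¹ᵁ U : Scheme.{u})›
  have hbase : ∀ a, f.base (ρ.base a) = g.base (f'.base a) := fun a => congr($(hpb.w) a)
  have hsec : ∀ s', f'.base (σ.base s') = s' := Groth.Agent.GeomUnib.SectionComp.section_apply hσf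
  have hes : ∀ s', ρ.base (σ.base s') = e.base s' := fun s' => congr($hσρ s')
  refine ⟨⟨ρ.base '' MoreMor.sectionComponents f' σ, ρ.isOpenMap _ hopen⟩, fun s => Set.Subset.antisymm ?_ ?_⟩
  · rintro _ ⟨⟨a, ha, rfl⟩, hs⟩
    replace hs : f.base (ρ.base a) = s := hs
    refine Set.mem_biUnion (x := e.base (f'.base a)) ⟨⟨_, rfl⟩, ?_⟩ ?_
    · show f.base _ = s
      rw [← hes, hbase, hsec, ← hbase, hs]
    · have hsub : ρ.base '' Groth.Agent.GeomUnib.SectionComp.X0 f' σ (f'.base a) ⊆ f.base ⁻¹' {s} := by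
        rintro _ ⟨b, hb, rfl⟩
        show f.base _ = s
        rw [hbase, Groth.Agent.GeomUnib.SectionComp.apply_of_mem_X0 hb, ← hbase, hs]
      exact (isPreconnected_connectedComponentIn.image ρ.base ρ.continuous.continuousOn).subset_connectedComponentIn
        ⟨σ.base (f'.base a), Groth.Agent.GeomUnib.SectionComp.mem_X0 hσf _, hes _⟩ hsub ⟨a, ha, rfl⟩
  · intro p hp
    obtain ⟨_, ⟨⟨s', rfl⟩, hs⟩, hp⟩ := Set.mem_iUnion₂.1 hp
    replace hs : f.base (e.base s') = s := hs
    have hgs : g.base s' = s := by rw [← hs, ← hes, hbase, hsec]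
    subst hgs
    refine ⟨?_, connectedComponentIn_subset _ _ hp⟩
    obtain ⟨a, ha, hap⟩ := Groth.Agent.GeomUnib.SectionLift.exists_mem_component hpb (hsec s') (hes s') hp
    refine ⟨a, ?_, hap⟩
    show a ∈ connectedComponentIn (f'.base ⁻¹' {f'.base a}) (σ.base (f'.base a))
    have : f'.base a = s' := Groth.Agent.GeomUnib.SectionComp.apply_of_mem_X0 (g := σ) ha
    rw [this]
    exact ha

end Groth.Agent.S15350
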