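import Groth.Statements.S15351
import Groth.Agent.GeomUnib.SectionConnFlat
import Groth.Agent.TrivSec.SmoothGR
-- import your own Groth.Agent.* helpers here

set_option autoImplicit false
universe u
open CategoryTheory CategoryTheory.Limits AlgebraicGeometry
open MoreMor

namespace Groth.Agent.S15351

/-- Let f : X ⟶ S be a smooth morphism of schemes, X quasi-separated, with a section e : S ⟶ X, and let
X⁰ ⊆ X be the union over the points s of S of the connected component of e(s) in the fibre f⁻¹(s)
with its subspace topology. Then X⁰ is open in X; no quasi-compactness is assumed. (The published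
statement is for an algebraic space X smooth over S; this row is the case of a scheme.) -/
theorem result {S X : Scheme.{u}} [QuasiSeparatedSpace ↥X] (f : X ⟶ S) [Smooth f]
    (e : S ⟶ X) (he : e ≫ f = 𝟙 S) :
    IsOpen (MoreMor.sectionComponents f e) := by
  haveI := Groth.Agent.TrivSec.geometricallyReduced_of_smooth f
  have hgr : ∀ a : X, FBase.IsGeomReducedAt (f.fiberToSpecResidueField (f.base a)) (f.asFiber a) := fun a =>
    (Groth.Agent.GeomUnib.SectionBC.grk_iff f a).1 fun K _ k w _ => inferInstance
  rw [isOpen_iff_mem_nhds]
  intro x hx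
  rw [mem_nhds_iff, ← mem_interior]
  refine Groth.Agent.GeomUnib.SectionConnFlat.subset_interior he (fun U _ => ?_) (fun a _ => hgr a) hx
  exact (isQuasiSeparated_iff_quasiSeparatedSpace _ (f ⁻¹ᵁ U).2).2
    (f ⁻¹ᵁ U).ι.isOpenEmbedding.quasiSeparatedSpace

end Groth.Agent.S15351
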