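import Groth.Statements.S15352
import Groth.Agent.GrpSchField.ConnComp

set_option autoImplicit false
universe u
open CategoryTheory CategoryTheory.Limits MonoidalCategory CartesianMonoidalCategory MonObj GrpObj AlgebraicGeometry
open GrpSch

namespace Groth.Agent.S15352

/-- Let k be an algebraically closed field, G a group scheme locally of finite type over k, G⁰ ⊆ G the
connected component of the unit point, and U a nonempty open subscheme of G contained in G⁰. Then
every point of G⁰ is in the image of the morphism U ×_k U ⟶ G, (g, h) ↦ g·h⁻¹. (The published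
statement writes U as an open of G mapping to G⁰ × G⁰; this row makes the containment U ⊆ G⁰
explicit.) -/
theorem result (k : Type u) [Field k] [IsAlgClosed k]
    (G : Over (Spec (CommRingCat.of k))) [GrpObj G] [LocallyOfFiniteType G.hom] (U : G.left.Opens)
    (hne : (U : Set ↥G.left).Nonempty)
    (hU : (U : Set ↥G.left) ⊆ connectedComponent (η[G].left.base (IsLocalRing.closedPoint k))) :
    connectedComponent (η[G].left.base (IsLocalRing.closedPoint k)) ⊆ Set.range
      ((((Over.homMk U.ι rfl : Over.mk (U.ι ≫ G.hom) ⟶ G) ⊗ₘ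
          ((Over.homMk U.ι rfl : Over.mk (U.ι ≫ G.hom) ⟶ G) ≫ ι[G])) ≫ μ[G]).left.base) := by
  intro g hg
  have hcc := Groth.Agent.GrpSchField.connectedComponent_eq_unitComp G
  rw [show connectedComponent (η[G].left.base (IsLocalRing.closedPoint k)) = _ from hcc] at hU hg
  let T := Groth.Agent.GrpSchField.pt g
  let gT : T ⟶ G := Groth.Agent.GrpSchField.ptι g
  let φ : G ⊗ T ⟶ G := (snd G T ≫ gT)⁻¹ * fst G T
  let ψ : G ⊗ T ⟶ G ⊗ T := lift ((snd G T ≫ gT) * fst G T) (snd G T)
  have hA := Groth.Agent.GrpSchField.isIrreducible_preimage_unitComp (G := G)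
    (G.left.fromSpecResidueField g ≫ G.hom)
  obtain ⟨v, hv⟩ := hne
  obtain ⟨w, -, hw⟩ := Scheme.Pullback.exists_preimage_pullback (f := T.hom) (g := G.hom)
    (Groth.Agent.GrpSchField.ptPt g) v (Subsingleton.elim (α := Spec (CommRingCat.of k)) _ _)
  obtain ⟨w', hw'⟩ : ∃ w' : (G ⊗ T).left, (fst G T).left w' = v := by
    refine ⟨(β_ T G).hom.left w, ?_⟩
    rw [← Groth.Agent.GrpSchField.comp_left_apply]
    simpa using hw
  have hψ : (fst G T).left (ψ.left w') ∈ Groth.Agent.GrpSchField.unitComp G := by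
    rw [Groth.Agent.GrpSchField.lift_fst_apply, Groth.Agent.GrpSchField.mem_closure_gen_iff,
      Hom.mul_def, Groth.Agent.GrpSchField.comp_left_apply,
      Groth.Agent.GrpSchField.gen_mul _ (by
        rw [Groth.Agent.GrpSchField.lift_snd_apply, hw']; exact hU hv),
      Groth.Agent.GrpSchField.lift_fst_apply, Groth.Agent.GrpSchField.comp_left_apply,
      Groth.Agent.GrpSchField.ptι_apply]
    exact Groth.Agent.GrpSchField.mem_closure_gen_iff.1 hg
  have hφ : φ.left (ψ.left w') = v := by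
    rw [← Groth.Agent.GrpSchField.comp_left_apply,
      show ψ ≫ φ = fst G T by simp [φ, ψ, comp_mul, comp_inv], hw']
  obtain ⟨u, -, hu1, hu2⟩ := hA.2 _ _ (U.2.preimage (fst G T).left.continuous)
    (U.2.preimage φ.left.continuous)
    ⟨w', (congrArg (· ∈ Groth.Agent.GrpSchField.unitComp G) hw').mpr (hU hv),
      (congrArg (· ∈ U) hw').mpr hv⟩
    ⟨ψ.left w', hψ, (congrArg (· ∈ U) hφ).mpr hv⟩
  have hm := Groth.Agent.GrpSchField.mul_apply_mem (s := (U : Set G.left)) (t := ι[G].left '' U)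
    (fst G T) φ⁻¹ u hu1 ((congrArg (fun z => z ∈ ι[G].left '' (U : Set G.left)) (Groth.Agent.GrpSchField.inv_apply φ u)).mpr ⟨_, hu2, rfl⟩)
  rw [show fst G T * φ⁻¹ = snd G T ≫ gT by simp [φ, _root_.mul_inv_rev, ← _root_.mul_assoc]] at hm
  have hm' : g ∈ Groth.Agent.GrpSchField.mulSet (U : Set G.left) (ι[G].left '' U) :=
    (congrArg (fun z => z ∈ Groth.Agent.GrpSchField.mulSet (U : Set G.left) (ι[G].left '' U))
      ((Groth.Agent.GrpSchField.comp_left_apply (snd G T) gT u).trans
        (Groth.Agent.GrpSchField.ptι_apply g _))).mp hm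
  obtain ⟨p, hp, hpg⟩ := hm'
  obtain ⟨q, hq⟩ : p ∈ Set.range ((Over.homMk U.ι rfl : Over.mk (U.ι ≫ G.hom) ⟶ G) ⊗ₘ
      ((Over.homMk U.ι rfl : Over.mk (U.ι ≫ G.hom) ⟶ G) ≫ ι[G])).left := by
    rw [Groth.Agent.GrpSchField.range_tensorHom]
    obtain ⟨hp1, y, hy, hy'⟩ := hp
    refine ⟨?_, ?_⟩
    · change _ ∈ Set.range U.ι
      rw [U.range_ι]; exact hp1
    · rw [← U.range_ι] at hy
      obtain ⟨y0, rfl⟩ := hy
      exact ⟨y0, (Groth.Agent.GrpSchField.comp_left_apply _ _ _).trans hy'⟩
  exact ⟨q, (Groth.Agent.GrpSchField.comp_left_apply _ μ[G] q).trans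
    ((congrArg μ[G].left hq).trans hpg)⟩

end Groth.Agent.S15352
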