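import Groth.Statements.S15353
import Mathlib.RingTheory.Idempotents
import Mathlib.RingTheory.Finiteness.Nakayama
import Mathlib.Algebra.Module.Projective
import Mathlib.LinearAlgebra.Matrix.ToLin
import Mathlib.RingTheory.TensorProduct.Finite

set_option autoImplicit false
universe u
open CAlg

namespace Groth.Agent.S15353

open scoped TensorProduct

variable {R A : Type u} [CommRing R] [CommRing A] [Algebra R A]

theorem isNilpotent_of_mem_ker_mapMatrix {I : Ideal R} (hI : RingHom.ker (algebraMap R A) = I)
    {N : ℕ} (hN : I ^ N = ⊥) {n : ℕ} (x : Matrix (Fin n) (Fin n) R)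
    (hx : x ∈ RingHom.ker ((algebraMap R A).mapMatrix : Matrix (Fin n) (Fin n) R →+* Matrix (Fin n) (Fin n) A)) : IsNilpotent x := by
  have hent : ∀ i j, x i j ∈ I := fun i j => by
    rw [← hI, RingHom.mem_ker]
    exact congrFun (congrFun hx i) j
  have hpow : ∀ k i j, (x ^ k) i j ∈ I ^ k := by
    intro k
    induction k with
    | zero => intro i j; rw [pow_zero, pow_zero, Ideal.one_eq_top]; trivial
    | succ k ih =>
      intro i j
      rw [pow_succ x k, Matrix.mul_apply, pow_succ I k]
      exact Submodule.sum_mem _ fun l _ => Ideal.mul_mem_mul (ih i l) (hent l j)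
  exact ⟨N, by ext i j; simpa [hN] using hpow N i j⟩

set_option maxHeartbeats 1000000 in
/-- Finite projective modules lift along surjections with nilpotent kernel. -/
theorem exists_lift (hf : Function.Surjective (algebraMap R A))
    (hker : IsNilpotent (RingHom.ker (algebraMap R A))) (N : Type u) [AddCommGroup N] [Module A N]
    [Module.Finite A N] [Module.Projective A N] :
    ∃ (P : Type u) (_ : AddCommGroup P) (_ : Module R P), Module.Finite R P ∧ Module.Projective R P ∧
      Nonempty ((A ⊗[R] P) ≃ₗ[A] N) := by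
  classical
  obtain ⟨n, r, s, hr, hs, hrs⟩ := Module.Finite.exists_comp_eq_id_of_projective A N
  obtain ⟨Nn, hNn⟩ := hker
  let e' : (Fin n → A) →ₗ[A] (Fin n → A) := s.comp r
  have he' : IsIdempotentElem (LinearMap.toMatrixAlgEquiv' e') := by
    rw [IsIdempotentElem, ← map_mul]
    congr 1
    exact LinearMap.ext fun v => congrArg s (LinearMap.congr_fun hrs (r v))
  obtain ⟨M, hM⟩ : ∃ M : Matrix (Fin n) (Fin n) R, (algebraMap R A).mapMatrix M = LinearMap.toMatrixAlgEquiv' e' := by
    choose g hg using hf
    exact ⟨Matrix.of fun i j => g (LinearMap.toMatrixAlgEquiv' e' i j), by ext i j; simp [hg]⟩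
  obtain ⟨E, hE, hEe⟩ := exists_isIdempotentElem_eq_of_ker_isNilpotent (algebraMap R A).mapMatrix
    (isNilpotent_of_mem_ker_mapMatrix rfl hNn) (LinearMap.toMatrixAlgEquiv' e') ⟨M, hM⟩ he'
  let e : (Fin n → R) →ₗ[R] (Fin n → R) := Matrix.toLinAlgEquiv' E
  have hee : ∀ v, e (e v) = e v := fun v => by
    rw [← Module.End.mul_apply, ← map_mul, hE.eq]
  let P := LinearMap.range e
  let i : P →ₗ[R] (Fin n → R) := P.subtype
  let q : (Fin n → R) →ₗ[R] P := e.rangeRestrict
  have hqi : q.comp i = LinearMap.id := LinearMap.ext fun ⟨v, w, hw⟩ => Subtype.ext (by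
    show e v = v
    rw [← hw, hee])
  refine ⟨P, inferInstance, inferInstance, Module.Finite.of_surjective q e.surjective_rangeRestrict,
    Module.Projective.of_split i q hqi, ?_⟩
  let φ : (A ⊗[R] (Fin n → R)) ≃ₗ[A] (Fin n → A) := TensorProduct.piScalarRight R A A (Fin n)
  have hφ : ∀ x, φ (e.baseChange A x) = e' (φ x) := by
    intro x
    induction x with
    | zero => simp
    | add a b ha hb => simp [map_add, ha, hb]
    | tmul a v =>
      rw [← mul_one a, ← smul_eq_mul, ← TensorProduct.smul_tmul', map_smul, map_smul, map_smul, map_smul]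
      congr 1
      rw [LinearMap.baseChange_tmul]
      funext k
      rw [show e' = Matrix.toLinAlgEquiv' ((algebraMap R A).mapMatrix E) by
        rw [hEe, Matrix.toLinAlgEquiv'_toMatrixAlgEquiv']]
      simp only [e, φ, TensorProduct.piScalarRight_apply, TensorProduct.piScalarRightHom_tmul,
        Matrix.toLinAlgEquiv'_apply, Matrix.mulVec, dotProduct, RingHom.mapMatrix_apply, Matrix.map_apply,
        Algebra.smul_def, mul_one, map_sum, map_mul]
  have hqi' : ∀ x, q.baseChange A (i.baseChange A x) = x := fun x => by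
    rw [← LinearMap.comp_apply, ← LinearMap.baseChange_comp, hqi, LinearMap.baseChange_id, LinearMap.id_apply]
  have hiq : ∀ x, i.baseChange A (q.baseChange A x) = e.baseChange A x := fun x => by
    rw [← LinearMap.comp_apply, ← LinearMap.baseChange_comp]
    rfl
  refine ⟨LinearEquiv.ofBijective (r.comp (φ.toLinearMap.comp (i.baseChange A))) ⟨?_, ?_⟩⟩
  · intro x y h
    have h1 : s (r (φ (i.baseChange A x))) = s (r (φ (i.baseChange A y))) := congrArg s h
    have h2 : ∀ z, s (r (φ (i.baseChange A z))) = φ (i.baseChange A z) := fun z => by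
      show e' (φ _) = _
      rw [← hφ, ← hiq, hqi']
    rw [h2, h2] at h1
    rw [← hqi' x, ← hqi' y, φ.injective h1]
  · intro y
    refine ⟨q.baseChange A (φ.symm (s y)), ?_⟩
    show r (φ (i.baseChange A (q.baseChange A (φ.symm (s y))))) = y
    rw [hiq, hφ, LinearEquiv.apply_symm_apply]
    show r (s (r (s y))) = y
    have h := fun v => LinearMap.congr_fun hrs v
    simp only [LinearMap.comp_apply, LinearMap.id_apply] at h
    rw [h, h]

/-- A finite projective module which becomes free of rank one after the base change is free. -/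
theorem nonempty_equiv_of_baseChange (hf : Function.Surjective (algebraMap R A))
    (hker : IsNilpotent (RingHom.ker (algebraMap R A))) (X : Type u) [AddCommGroup X] [Module R X]
    [Module.Finite R X] [Module.Projective R X] (h : (A ⊗[R] X) ≃ₗ[A] A) :
    Nonempty (X ≃ₗ[R] R) := by
  obtain ⟨x, hx⟩ := TensorProduct.mk_surjective R X A hf (h.symm 1)
  let g : R →ₗ[R] X := LinearMap.toSpanSingleton R X x
  obtain ⟨N, hN⟩ := hker
  have hjac : RingHom.ker (algebraMap R A) ≤ Ideal.jacobson ⊥ := fun a ha => by
    refine Ideal.radical_le_jacobson ⟨N, ?_⟩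
    exact (Submodule.mem_bot R).mp (hN ▸ Ideal.pow_mem_pow ha N : a ^ N ∈ (0 : Ideal R))
  have hsurj : Function.Surjective g := by
    rw [← LinearMap.range_eq_top, eq_top_iff]
    refine Submodule.le_of_le_smul_of_le_jacobson_bot Module.Finite.fg_top hjac fun y _ => ?_
    obtain ⟨c, hc⟩ := hf (h ((1 : A) ⊗ₜ y))
    have h1 : (1 : A) ⊗ₜ[R] (y - g c) = 0 := by
      apply h.injective
      rw [TensorProduct.tmul_sub, map_sub, map_zero, sub_eq_zero, LinearMap.toSpanSingleton_apply,
        ← TensorProduct.smul_tmul, Algebra.smul_def, mul_one, ← hc]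
      have h2 : algebraMap R A c ⊗ₜ[R] x = algebraMap R A c • ((1 : A) ⊗ₜ[R] x) := by
        rw [TensorProduct.smul_tmul', smul_eq_mul, mul_one]
      rw [h2, show (1 : A) ⊗ₜ[R] x = h.symm 1 from hx, map_smul, LinearEquiv.apply_symm_apply, smul_eq_mul, mul_one]
    have hmem : y - g c ∈ RingHom.ker (algebraMap R A) • (⊤ : Submodule R X) := by
      let eA : (R ⧸ RingHom.ker (algebraMap R A)) ≃ₗ[R] A :=
        (Ideal.quotientKerAlgEquivOfSurjective (f := Algebra.ofId R A) hf).toLinearEquiv
      have h3 := congrArg (TensorProduct.congr eA.symm (LinearEquiv.refl R X)) h1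
      rw [map_zero, TensorProduct.congr_tmul, LinearEquiv.refl_apply] at h3
      have h4 : eA.symm 1 = 1 := by
        rw [LinearEquiv.symm_apply_eq]; exact (map_one (Ideal.quotientKerAlgEquivOfSurjective (f := Algebra.ofId R A) hf)).symm
      rw [h4] at h3
      have h5 := congrArg (TensorProduct.quotTensorEquivQuotSMul X (RingHom.ker (algebraMap R A))) h3
      rw [map_zero] at h5
      have h6 : TensorProduct.quotTensorEquivQuotSMul X (RingHom.ker (algebraMap R A)) ((1 : R ⧸ _) ⊗ₜ (y - g c)) =
          Submodule.Quotient.mk (y - g c) := by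
        rw [← map_one (Ideal.Quotient.mk _), TensorProduct.quotTensorEquivQuotSMul_mk_tmul, one_smul]
      rw [h6] at h5
      exact (Submodule.Quotient.mk_eq_zero _).mp h5
    rw [← add_sub_cancel (g c) y]
    exact Submodule.add_mem_sup ⟨c, rfl⟩ hmem
  obtain ⟨σ, hσ⟩ := Module.projective_lifting_property g LinearMap.id hsurj
  have hσ' : ∀ z, g (σ z) = z := fun z => LinearMap.congr_fun hσ z
  refine ⟨(LinearEquiv.ofBijective g ⟨?_, hsurj⟩).symm⟩
  rw [injective_iff_map_eq_zero]
  intro c hc
  -- `c • x = 0` forces `c` into the nilpotent kernel, and `1 - σ x` is idempotent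
  have hk : ∀ c : R, g c = 0 → algebraMap R A c = 0 := fun c hc => by
    have h2 : algebraMap R A c ⊗ₜ[R] x = (0 : A ⊗[R] X) := by
      rw [Algebra.algebraMap_eq_smul_one, TensorProduct.smul_tmul]
      show (1 : A) ⊗ₜ[R] (g c) = 0
      rw [hc, TensorProduct.tmul_zero]
    have h3 : algebraMap R A c • h.symm 1 = 0 := by
      rw [← show (1 : A) ⊗ₜ[R] x = h.symm 1 from hx, TensorProduct.smul_tmul', smul_eq_mul, mul_one, h2]
    have := congrArg h h3
    rwa [map_smul, LinearEquiv.apply_symm_apply, map_zero, smul_eq_mul, mul_one] at this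
  have hsx : σ (g c) = c * σ x := by rw [LinearMap.toSpanSingleton_apply, map_smul, smul_eq_mul]
  have hid : IsIdempotentElem (1 - σ x) := by
    have : σ x = σ x * σ x := by
      conv_lhs => rw [← hσ' x, LinearMap.toSpanSingleton_apply, map_smul, smul_eq_mul]
    rw [IsIdempotentElem]
    linear_combination (-1 : R) * this
  have h0 : 1 - σ x = 0 := by
    have hg0 : g (1 - σ x) = 0 := by
      rw [map_sub, hσ']; simp [g]
    refine IsIdempotentElem.eq_zero_of_isNilpotent hid ?_
    refine ⟨N, ?_⟩
    exact (Submodule.mem_bot R).mp (hN ▸ Ideal.pow_mem_pow (RingHom.mem_ker.mpr (hk _ hg0)) N :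
      (1 - σ x) ^ N ∈ (0 : Ideal R))
  have hc' : c * σ x = 0 := by rw [← hsx, hc, map_zero]
  linear_combination hc' + c * h0

/-- Let f : A' → A be a surjective ring homomorphism whose kernel is a nilpotent ideal. Then the induced
homomorphism of Picard groups Pic(A') → Pic(A), base change of invertible modules along f, is
bijective. -/
theorem result {A' A : Type u} [CommRing A'] [CommRing A]
    (f : A' →+* A) (hf : Function.Surjective f) (hker : IsNilpotent (RingHom.ker f)) :
    Function.Bijective (CommRing.Pic.mapRingHom f) := by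
  let _ : Algebra A' A := f.toAlgebra
  change Function.Bijective (CommRing.Pic.mapAlgebra A' A)
  constructor
  · rw [injective_iff_map_eq_one]
    intro M hM
    rw [CommRing.Pic.mapAlgebra_apply, CommRing.Pic.mk_eq_one_iff] at hM
    obtain ⟨h⟩ := hM
    obtain ⟨e⟩ := nonempty_equiv_of_baseChange hf hker M h
    rw [← CommRing.Pic.mk_eq_self (M := M), CommRing.Pic.mk_eq_one_iff]
    exact ⟨e⟩
  · intro N
    obtain ⟨P, _, _, _, _, ⟨eP⟩⟩ := exists_lift (R := A') hf hker N
    obtain ⟨Q, _, _, _, _, ⟨eQ⟩⟩ := exists_lift (R := A') hf hker (Module.Dual A N)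
    have eN : A ⊗[A'] (Q ⊗[A'] P) ≃ₗ[A] A :=
      (TensorProduct.AlgebraTensorModule.distribBaseChange A' A Q P).trans
        ((TensorProduct.congr eQ eP).trans (Module.Invertible.linearEquiv A N))
    obtain ⟨e⟩ := nonempty_equiv_of_baseChange hf hker (Q ⊗[A'] P) eN
    have : Module.Invertible A' P := Module.Invertible.right e
    refine ⟨CommRing.Pic.mk A' P, ?_⟩
    rw [CommRing.Pic.mapAlgebra_apply, CommRing.Pic.mk_eq_iff]
    exact ⟨(TensorProduct.AlgebraTensorModule.congr (LinearEquiv.refl A A)
      (CommRing.Pic.mk.linearEquiv A' P)).trans eP⟩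

end Groth.Agent.S15353
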