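import Mathlib
import Groth.Statements.S15354
-- import your own Groth.Agent.* helpers here

set_option autoImplicit false
universe u
open CategoryTheory CategoryTheory.Limits AlgebraicGeometry
open Mor

namespace Groth.Agent.S15354

/-- Let f : Y ⟶ X be a morphism of schemes, A a valuation ring with fraction field K and residue field
k, and ξ, η : Spec A ⟶ Y two A-points of Y over the same A-point of X. If ξ and η restrict to the
same K-point and to the same k-point of Y, then ξ = η. (The published statement is an equivalence,
for algebraic spaces locally of finite presentation over a Noetherian scheme, between local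
separatedness of f and conditions (a), (b); this row is the necessity of (a) in the case of schemes,
where no hypothesis on f is needed.) -/
theorem result {X Y : Scheme.{u}} (f : Y ⟶ X)
    (A : Type u) [CommRing A] [IsDomain A] [ValuationRing A] (K : Type u) [Field K] [Algebra A K]
    [IsFractionRing A K] (ξ η : Spec (CommRingCat.of A) ⟶ Y) (hf : ξ ≫ f = η ≫ f)
    (hK : Spec.map (CommRingCat.ofHom (algebraMap A K)) ≫ ξ = Spec.map (CommRingCat.ofHom (algebraMap A K)) ≫ η)
    (hk : Spec.map (CommRingCat.ofHom (IsLocalRing.residue A)) ≫ ξ =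
      Spec.map (CommRingCat.ofHom (IsLocalRing.residue A)) ≫ η) :
    ξ = η := by
  obtain ⟨_, ⟨W, hW, rfl⟩, hxW, -⟩ := Y.isBasis_affineOpens.exists_subset_of_mem_open
    (Set.mem_univ (ξ (IsLocalRing.closedPoint A))) isOpen_univ
  have hpt : ξ (IsLocalRing.closedPoint A) = η (IsLocalRing.closedPoint A) := by
    let k0 : Spec (CommRingCat.of (IsLocalRing.ResidueField A)) := IsLocalRing.closedPoint _
    have e : Spec.map (CommRingCat.ofHom (IsLocalRing.residue A)) k0 = IsLocalRing.closedPoint A :=
      @IsLocalRing.comap_closedPoint A _ _ (IsLocalRing.ResidueField A) _ _ (IsLocalRing.residue A) _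
    rw [← e, ← Scheme.Hom.comp_apply, ← Scheme.Hom.comp_apply, hk]
  have fac : ∀ (θ : Spec (CommRingCat.of A) ⟶ Y), θ (IsLocalRing.closedPoint A) ∈ W →
      Set.range θ ⊆ Set.range (Scheme.Opens.ι W) := by
    intro θ hθ
    have htop : θ ⁻¹ᵁ W = ⊤ := IsLocalRing.closed_point_mem_iff.1 hθ
    rintro _ ⟨x, rfl⟩
    rw [Scheme.Opens.range_ι]
    have : x ∈ θ ⁻¹ᵁ W := by rw [htop]; trivial
    exact this
  have h1 := fac ξ hxW
  have h2 := fac η (hpt ▸ hxW)
  rw [← IsOpenImmersion.lift_fac (Scheme.Opens.ι W) ξ h1, ← IsOpenImmersion.lift_fac (Scheme.Opens.ι W) η h2] at hK ⊢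
  congr 1
  haveI : IsAffine (Scheme.Opens.toScheme W) := hW
  rw [← Category.assoc, ← Category.assoc, cancel_mono] at hK
  apply ext_of_isAffine
  have hK' := congrArg (fun z => Scheme.Hom.appTop z) hK
  simp only [Scheme.Hom.comp_appTop] at hK'
  haveI : Mono (CommRingCat.ofHom (algebraMap A K)) :=
    ConcreteCategory.mono_of_injective _ (IsFractionRing.injective A K)
  haveI : Mono (Spec.map (CommRingCat.ofHom (algebraMap A K))).appTop := by
    have := Scheme.ΓSpecIso_naturality (CommRingCat.ofHom (algebraMap A K))
    rw [← Iso.eq_comp_inv, Category.assoc] at this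
    rw [this]; infer_instance
  exact (cancel_mono _).1 hK' 

end Groth.Agent.S15354
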