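import Groth.Statements.S15355
import Mathlib
-- import your own Groth.Agent.* helpers here

set_option autoImplicit false
universe u
open CategoryTheory CategoryTheory.Limits AlgebraicGeometry
open Mor

namespace Groth.Agent.S15355

/-- Let f : Y ⟶ X be a morphism of schemes, A an integral domain and ξ, η : Spec A ⟶ Y two A-points of Y
over the same A-point of X. If ξ and η induce the same κ(p)-point of Y at every point p of some
dense subset of Spec A, then ξ and η agree on a nonempty open subscheme of Spec A. (The published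
statement is an equivalence, for algebraic spaces locally of finite presentation over a Noetherian
scheme, between local separatedness of f and conditions (a), (b); this row is the necessity of (b)
in the case of schemes, where no hypothesis on f is needed.) -/
theorem result {X Y : Scheme.{u}} (f : Y ⟶ X)
    (A : Type u) [CommRing A] [IsDomain A] (ξ η : Spec (CommRingCat.of A) ⟶ Y) (hf : ξ ≫ f = η ≫ f)
    (D : Set ↥(Spec (CommRingCat.of A))) (hD : Dense D)
    (hpt : ∀ p ∈ D, (Spec (CommRingCat.of A)).fromSpecResidueField p ≫ ξ =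
      (Spec (CommRingCat.of A)).fromSpecResidueField p ≫ η) :
    ∃ U : (Spec (CommRingCat.of A)).Opens, (U : Set ↥(Spec (CommRingCat.of A))).Nonempty ∧ U.ι ≫ ξ = U.ι ≫ η := by
  obtain ⟨p0, hp0⟩ := hD.nonempty
  have h0 : ξ p0 = η p0 := by
    have h := hpt p0 hp0
    let s : ↥(Spec ((Spec (CommRingCat.of A)).residueField p0)) := IsLocalRing.closedPoint _
    have e := Scheme.fromSpecResidueField_apply p0 s
    calc ξ p0 = ((Spec (CommRingCat.of A)).fromSpecResidueField p0 ≫ ξ) s := by
          rw [Scheme.Hom.comp_apply, e]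
      _ = ((Spec (CommRingCat.of A)).fromSpecResidueField p0 ≫ η) s := by rw [h]
      _ = η p0 := by rw [Scheme.Hom.comp_apply, e]
  obtain ⟨W, hW, hp0W, -⟩ :=
    Y.isBasis_affineOpens.exists_subset_of_mem_open (Set.mem_univ (ξ p0)) isOpen_univ
  obtain ⟨W, hWaff, rfl⟩ : ∃ W' : Y.Opens, IsAffineOpen W' ∧ (W' : Set Y) = W := by
    obtain ⟨W', hW', rfl⟩ := hW
    exact ⟨W', hW', rfl⟩
  let U : (Spec (CommRingCat.of A)).Opens := ξ ⁻¹ᵁ W ⊓ η ⁻¹ᵁ W
  have hp0U : p0 ∈ U := ⟨hp0W, show η p0 ∈ W by rw [← h0]; exact hp0W⟩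
  refine ⟨U, ⟨p0, hp0U⟩, ?_⟩
  haveI : IsAffine W.toScheme := hWaff
  have hr1 : Set.range (U.ι ≫ ξ) ⊆ Set.range W.ι := by
    rintro _ ⟨x, rfl⟩
    rw [Scheme.Opens.range_ι]
    exact x.2.1
  have hr2 : Set.range (U.ι ≫ η) ⊆ Set.range W.ι := by
    rintro _ ⟨x, rfl⟩
    rw [Scheme.Opens.range_ι]
    exact x.2.2
  let ξ' : U.toScheme ⟶ W.toScheme := IsOpenImmersion.lift W.ι (U.ι ≫ ξ) hr1
  let η' : U.toScheme ⟶ W.toScheme := IsOpenImmersion.lift W.ι (U.ι ≫ η) hr2
  have key : ξ' = η' := by
    refine ext_of_fromSpecResidueField_eq ξ' η' (terminal.from _) (U.ι ⁻¹' D)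
      (hD.preimage U.ι.isOpenEmbedding.isOpenMap) ?_ (Subsingleton.elim _ _)
    intro x hx
    rw [← cancel_mono W.ι, Category.assoc, Category.assoc, IsOpenImmersion.lift_fac,
      IsOpenImmersion.lift_fac, ← Category.assoc, ← Category.assoc,
      ← Scheme.Hom.SpecMap_residueFieldMap_fromSpecResidueField, Category.assoc, Category.assoc,
      hpt _ hx]
  have := congrArg (· ≫ W.ι) key
  simpa [ξ', η', IsOpenImmersion.lift_fac] using this

end Groth.Agent.S15355
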