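import Groth.Statements.S15361
import Mathlib.FieldTheory.Finite.Basic
import Mathlib.FieldTheory.Finite.GaloisField
import Mathlib.GroupTheory.Perm.Cycle.Type
import Mathlib.RingTheory.Trace.Defs
import Mathlib.LinearAlgebra.Matrix.GeneralLinearGroup.Defs
import Mathlib.Algebra.CharP.Lemmas
import Mathlib.LinearAlgebra.Matrix.CharP
import Mathlib.Tactic.NoncommRing

set_option autoImplicit false
open GalCoh

namespace Groth.Agent.S15361


open Matrix in
/-- Cauchy plus transitivity give everything. -/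
theorem aux {p : ℕ} [Fact p.Prime] (H : Subgroup (GL (Fin 2) (ZMod p)))
    (trans : ∀ v w : Fin 2 → ZMod p, v ≠ 0 → w ≠ 0 → ∃ g ∈ H, (g : Matrix (Fin 2) (Fin 2) (ZMod p)) *ᵥ v = w)
    (hdet : ∀ a : ZMod p, a ≠ 0 → ∃ g ∈ H, (g : Matrix (Fin 2) (Fin 2) (ZMod p)).det = a)
    (hdvd : p ∣ Nat.card H) : H = ⊤ := by
  classical
  let S : Set (Matrix (Fin 2) (Fin 2) (ZMod p)) :=
    (fun g : GL (Fin 2) (ZMod p) => (g : Matrix (Fin 2) (Fin 2) (ZMod p))) '' H
  have hmul : ∀ A ∈ S, ∀ B ∈ S, A * B ∈ S := by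
    rintro _ ⟨a, ha, rfl⟩ _ ⟨b, hb, rfl⟩
    exact ⟨a * b, H.mul_mem ha hb, rfl⟩
  have hpow : ∀ A ∈ S, ∀ n : ℕ, A ^ n ∈ S := by
    rintro _ ⟨a, ha, rfl⟩ n
    exact ⟨a ^ n, H.pow_mem ha n, Units.val_pow_eq_pow_val a n⟩
  obtain ⟨⟨u, hu⟩, hord⟩ := exists_prime_orderOf_dvd_card' p hdvd
  rw [Subgroup.orderOf_mk] at hord
  set N : Matrix (Fin 2) (Fin 2) (ZMod p) := u - 1 with hN
  have hNp : N ^ p = 0 := by
    have h1 : (u : Matrix (Fin 2) (Fin 2) (ZMod p)) ^ p = 1 := by
      rw [← Units.val_pow_eq_pow_val, orderOf_dvd_iff_pow_eq_one.1 (dvd_of_eq hord), Units.val_one]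
    rw [hN, sub_pow_char_of_commute _ (Commute.one_right _), h1, one_pow, sub_self]
  have hNne : N ≠ 0 := fun h => by
    have : u = 1 := Units.ext (sub_eq_zero.1 h)
    rw [this, orderOf_one] at hord
    exact (Fact.out : p.Prime).one_lt.ne hord
  have hN2 : N * N = 0 := by
    have hnil : IsNilpotent N := ⟨p, hNp⟩
    have hd : N.det = 0 := eq_zero_of_pow_eq_zero (n := p) (by rw [← Matrix.det_pow, hNp, Matrix.det_zero])
    have ht : N.trace = 0 := (Matrix.isNilpotent_trace_of_isNilpotent hnil).eq_zero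
    rw [Matrix.det_fin_two] at hd
    rw [Matrix.trace_fin_two] at ht
    have h11 : N 1 1 = -N 0 0 := eq_neg_of_add_eq_zero_right ht
    rw [h11] at hd
    ext i j
    fin_cases i <;> fin_cases j <;> simp [Matrix.mul_apply, Fin.sum_univ_two, h11] <;>
      first
      | linear_combination -hd
      | ring
  obtain ⟨v, hv, hNv⟩ : ∃ v : Fin 2 → ZMod p, v ≠ 0 ∧ N *ᵥ v = 0 := by
    obtain ⟨w, hw⟩ : ∃ w, N *ᵥ w ≠ 0 := by
      by_contra! h
      exact hNne (Matrix.ext_iff_mulVec.2 fun w => by rw [h w, Matrix.zero_mulVec])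
    exact ⟨N *ᵥ w, hw, by rw [Matrix.mulVec_mulVec, hN2, Matrix.zero_mulVec]⟩
  -- conjugates of `u`
  have hconj : ∀ i : Fin 2, ∃ M : Matrix (Fin 2) (Fin 2) (ZMod p),
      M * M = 0 ∧ M ≠ 0 ∧ M *ᵥ Pi.single i 1 = 0 ∧ 1 + M ∈ S := by
    intro i
    obtain ⟨c, hc, hcv⟩ := trans v (Pi.single i 1) hv (fun h => one_ne_zero (α := ZMod p) (by simpa using congrFun h i))
    let C : Matrix (Fin 2) (Fin 2) (ZMod p) := c
    let C' : Matrix (Fin 2) (Fin 2) (ZMod p) := (c⁻¹ : GL (Fin 2) (ZMod p))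
    have hCC : C' * C = 1 := Units.inv_mul c
    have hCC' : C * C' = 1 := Units.mul_inv c
    refine ⟨C * N * C', ?_, fun h => hNne ?_, ?_, c * u * c⁻¹, H.mul_mem (H.mul_mem hc hu) (H.inv_mem hc), ?_⟩
    · rw [show C * N * C' * (C * N * C') = C * (N * (C' * C) * N) * C' by noncomm_ring, hCC, mul_one,
        hN2, mul_zero, zero_mul]
    · calc N = (C' * C) * N * (C' * C) := by rw [hCC, one_mul, mul_one]
        _ = C' * (C * N * C') * C := by noncomm_ring
        _ = 0 := by rw [h, mul_zero, zero_mul]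
    · rw [← hcv, ← Matrix.mulVec_mulVec, Matrix.mulVec_mulVec _ C' C, hCC, Matrix.one_mulVec,
        ← Matrix.mulVec_mulVec, hNv, Matrix.mulVec_zero]
    · simp only [Units.val_mul]
      change C * (u : Matrix (Fin 2) (Fin 2) (ZMod p)) * C' = 1 + C * N * C'
      rw [hN, mul_sub, mul_one, sub_mul, hCC', add_sub_cancel]
  -- all elementary matrices
  have hU : ∀ x : ZMod p, !![1, x; 0, 1] ∈ S := by
    obtain ⟨M, hM2, hM0, hMe, hMS⟩ := hconj 0
    have h00 : M 0 0 = 0 := by simpa [Matrix.mulVec, dotProduct, Fin.sum_univ_two] using congrFun hMe 0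
    have h10 : M 1 0 = 0 := by simpa [Matrix.mulVec, dotProduct, Fin.sum_univ_two] using congrFun hMe 1
    have h11 : M 1 1 = 0 := by
      have := congrFun (congrFun hM2 1) 1
      simpa [Matrix.mul_apply, Fin.sum_univ_two, h10] using this
    have hb : M 0 1 ≠ 0 := fun h => hM0 (by ext i j; fin_cases i <;> fin_cases j <;> simp [*])
    have hM : (1 : Matrix (Fin 2) (Fin 2) (ZMod p)) + M = !![1, M 0 1; 0, 1] := by
      ext i j; fin_cases i <;> fin_cases j <;> simp [*]
    have hn : ∀ n : ℕ, (!![1, M 0 1; 0, 1] : Matrix (Fin 2) (Fin 2) (ZMod p)) ^ n = !![1, n * M 0 1; 0, 1] := by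
      intro n
      induction n with
      | zero => simp [Matrix.one_fin_two]
      | succ n ih => rw [pow_succ, ih, Matrix.mul_fin_two]; ext i j; fin_cases i <;> fin_cases j <;> simp [add_mul, add_comm]
    intro x
    have := hpow _ hMS (x / M 0 1).val
    rwa [hM, hn, ZMod.natCast_zmod_val, div_mul_cancel₀ _ hb] at this
  have hL : ∀ x : ZMod p, !![1, 0; x, 1] ∈ S := by
    obtain ⟨M, hM2, hM0, hMe, hMS⟩ := hconj 1
    have h01 : M 0 1 = 0 := by simpa [Matrix.mulVec, dotProduct, Fin.sum_univ_two] using congrFun hMe 0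
    have h11 : M 1 1 = 0 := by simpa [Matrix.mulVec, dotProduct, Fin.sum_univ_two] using congrFun hMe 1
    have h00 : M 0 0 = 0 := by
      have := congrFun (congrFun hM2 0) 0
      simpa [Matrix.mul_apply, Fin.sum_univ_two, h01] using this
    have hb : M 1 0 ≠ 0 := fun h => hM0 (by ext i j; fin_cases i <;> fin_cases j <;> simp [*])
    have hM : (1 : Matrix (Fin 2) (Fin 2) (ZMod p)) + M = !![1, 0; M 1 0, 1] := by
      ext i j; fin_cases i <;> fin_cases j <;> simp [*]
    have hn : ∀ n : ℕ, (!![1, 0; M 1 0, 1] : Matrix (Fin 2) (Fin 2) (ZMod p)) ^ n = !![1, 0; n * M 1 0, 1] := by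
      intro n
      induction n with
      | zero => simp [Matrix.one_fin_two]
      | succ n ih => rw [pow_succ, ih, Matrix.mul_fin_two]; ext i j; fin_cases i <;> fin_cases j <;> simp [add_mul, add_comm]
    intro x
    have := hpow _ hMS (x / M 1 0).val
    rwa [hM, hn, ZMod.natCast_zmod_val, div_mul_cancel₀ _ hb] at this
  have hdiag : ∀ a : ZMod p, a ≠ 0 → !![1, 0; 0, a] ∈ S := by
    intro a ha
    obtain ⟨c, hc, hca⟩ := hdet a ha
    have hcS : (c : Matrix (Fin 2) (Fin 2) (ZMod p)) ∈ S := ⟨c, hc, rfl⟩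
    rw [Matrix.eta_fin_two (c : Matrix (Fin 2) (Fin 2) (ZMod p))] at hcS hca
    revert hcS hca
    generalize (c : Matrix (Fin 2) (Fin 2) (ZMod p)) 0 0 = x
    generalize (c : Matrix (Fin 2) (Fin 2) (ZMod p)) 0 1 = y
    generalize (c : Matrix (Fin 2) (Fin 2) (ZMod p)) 1 0 = z
    generalize (c : Matrix (Fin 2) (Fin 2) (ZMod p)) 1 1 = w
    intro hca hcS
    rw [Matrix.det_fin_two_of] at hca
    have step : ∀ x y z w : ZMod p, !![x, y; z, w] ∈ S → x * w - y * z = a → z ≠ 0 →
        !![1, 0; 0, a] ∈ S := by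
      intro x y z w hxy hd hz
      have h1 := hmul _ (hL (-z)) _ (hmul _ (hU ((1 - x) / z)) _ hxy)
      have h2 : (!![1, 0; -z, 1] : Matrix (Fin 2) (Fin 2) (ZMod p)) *
          (!![1, (1 - x) / z; 0, 1] * !![x, y; z, w]) = !![1, y + (1 - x) / z * w; 0, a] := by
        rw [Matrix.mul_fin_two, Matrix.mul_fin_two]
        ext i j
        fin_cases i <;> fin_cases j <;> simp <;> field_simp <;> first | linear_combination hd | ring
      rw [h2] at h1
      have h3 := hmul _ h1 _ (hU (-(y + (1 - x) / z * w)))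
      rw [Matrix.mul_fin_two] at h3
      convert h3 using 5 <;> ring
    by_cases hz : z = 0
    · subst hz
      have hx : x ≠ 0 := fun h => ha (by rw [← hca, h]; ring)
      have h1 := hmul _ (hL 1) _ hcS
      rw [Matrix.mul_fin_two] at h1
      exact step _ _ _ _ h1 (by rw [← hca]; ring) (by simpa using hx)
    · exact step _ _ _ _ hcS hca hz
  refine eq_top_iff.2 fun g _ => ?_
  obtain ⟨c, hc, hce⟩ := trans (Pi.single 0 1) ((g : Matrix (Fin 2) (Fin 2) (ZMod p)) *ᵥ Pi.single 0 1)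
    (fun h => one_ne_zero (α := ZMod p) (by simpa using congrFun h 0))
    (fun h => one_ne_zero (α := ZMod p) (by
      have := congrArg ((↑g⁻¹ : Matrix (Fin 2) (Fin 2) (ZMod p)) *ᵥ ·) h
      simp only [Matrix.mulVec_mulVec, Units.inv_mul, Matrix.one_mulVec, Matrix.mulVec_zero] at this
      simpa using congrFun this 0))
  let h := c⁻¹ * g
  suffices h ∈ H by simpa [h] using H.mul_mem hc this
  have hfix : (h : Matrix (Fin 2) (Fin 2) (ZMod p)) *ᵥ Pi.single 0 1 = Pi.single 0 1 := by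
    rw [show (h : Matrix (Fin 2) (Fin 2) (ZMod p)) = (↑c⁻¹ : Matrix (Fin 2) (Fin 2) (ZMod p)) * g from rfl,
      ← Matrix.mulVec_mulVec, ← hce, Matrix.mulVec_mulVec, Units.inv_mul, Matrix.one_mulVec]
  have e00 : (h : Matrix (Fin 2) (Fin 2) (ZMod p)) 0 0 = 1 := by
    simpa [Matrix.mulVec, dotProduct, Fin.sum_univ_two] using congrFun hfix 0
  have e10 : (h : Matrix (Fin 2) (Fin 2) (ZMod p)) 1 0 = 0 := by
    simpa [Matrix.mulVec, dotProduct, Fin.sum_univ_two] using congrFun hfix 1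
  have ha : (h : Matrix (Fin 2) (Fin 2) (ZMod p)) 1 1 ≠ 0 := fun h0 => by
    have := (h.isUnit.map (Matrix.detMonoidHom : Matrix (Fin 2) (Fin 2) (ZMod p) →* ZMod p)).ne_zero
    simp [Matrix.det_fin_two, e00, e10, h0] at this
  obtain ⟨g', hg', hgg⟩ : (h : Matrix (Fin 2) (Fin 2) (ZMod p)) ∈ S := by
    have := hmul _ (hdiag _ ha) _ (hU ((h : Matrix (Fin 2) (Fin 2) (ZMod p)) 0 1))
    rw [Matrix.mul_fin_two] at this
    convert this using 1
    ext i j; fin_cases i <;> fin_cases j <;> simp [*]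
  rwa [← Units.ext hgg]

theorem zmod_two : ∀ a : ZMod 2, a = 0 ∨ a = 1 := by decide

open Matrix in
/-- An element of the field of determinant `a`. -/
theorem exists_det {p : ℕ} [Fact p.Prime] (E : Subring (Matrix (Fin 2) (Fin 2) (ZMod p)))
    (hE : IsField E) (hcard : Nat.card E = p ^ 2) {a : ZMod p} (ha : a ≠ 0) :
    ∃ e ∈ E, e.det = a := by
  have hscal : ∀ x : ZMod p, Matrix.scalar (Fin 2) x ∈ E := fun x => by
    rw [← ZMod.natCast_zmod_val x, map_natCast]
    exact natCast_mem E _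
  rcases (Fact.out : p.Prime).eq_two_or_odd with rfl | hodd
  · refine ⟨1, one_mem E, ?_⟩
    rw [Matrix.det_one]
    exact (zmod_two a).resolve_left ha |>.symm
  obtain ⟨ω, hω, hns⟩ : ∃ ω ∈ E, ∀ x, ω ≠ Matrix.scalar (Fin 2) x := by
    by_contra! h
    choose f hf using h
    have hle : Nat.card E ≤ Nat.card (ZMod p) :=
      Nat.card_le_card_of_injective (fun e : E => f e e.2) fun e e' he => Subtype.ext
        (by rw [hf e e.2, hf e' e'.2]; exact congrArg _ he)
    rw [hcard, Nat.card_zmod] at hle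
    nlinarith [(Fact.out : p.Prime).two_le]
  have h2 : (2 : ZMod p) ≠ 0 := fun h => by
    have : p ∣ 2 := (ZMod.natCast_eq_zero_iff _ _).1 (by exact_mod_cast h)
    have := Nat.le_of_dvd two_pos this
    have := (Fact.out : p.Prime).two_le
    omega
  set t := ω.trace with ht
  set D := ω.det - t ^ 2 / 4 with hD
  have hdetxy : ∀ x y : ZMod p, (Matrix.scalar (Fin 2) (x - t / 2 * y) + y • ω).det = x ^ 2 + D * y ^ 2 := by
    intro x y
    simp only [hD, ht, Matrix.det_fin_two, Matrix.trace_fin_two, Matrix.add_apply, Matrix.scalar_apply,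
      Matrix.diagonal_apply_eq, Matrix.smul_apply, smul_eq_mul, ne_eq, zero_ne_one, one_ne_zero,
      not_false_eq_true, Matrix.diagonal_apply_ne]
    have h4 : (4 : ZMod p) ≠ 0 := by rw [show (4 : ZMod p) = 2 * 2 by norm_num]; exact mul_ne_zero h2 h2
    field_simp
    ring
  have hmem : ∀ x y : ZMod p, Matrix.scalar (Fin 2) (x - t / 2 * y) + y • ω ∈ E := fun x y => by
    refine add_mem (hscal _) ?_
    rw [← ZMod.natCast_zmod_val y, Nat.cast_smul_eq_nsmul]
    exact nsmul_mem hω _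
  have hDne : D ≠ 0 := by
    intro h0
    have hz : Matrix.scalar (Fin 2) (0 - t / 2 * 1) + (1 : ZMod p) • ω ≠ 0 := fun h => hns (t / 2) (by
      rw [one_smul, zero_sub, mul_one, map_neg, neg_add_eq_zero] at h
      exact h.symm)
    obtain ⟨⟨e, he⟩, hee⟩ := hE.mul_inv_cancel (a := (⟨_, hmem 0 1⟩ : E))
      fun h => hz (congrArg Subtype.val h)
    have := congrArg (fun e : E => (e : Matrix (Fin 2) (Fin 2) (ZMod p)).det) hee
    simp only [Subring.coe_mul, Subring.coe_one, Matrix.det_mul, Matrix.det_one, hdetxy, h0] at this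
    simp at this
  open Polynomial in
  obtain ⟨x, y, hxy⟩ := FiniteField.exists_root_sum_quadratic (R := ZMod p)
    (f := X ^ 2 - C a) (g := C D * X ^ 2) (degree_X_pow_sub_C two_pos a) (degree_C_mul_X_pow 2 hDne)
    (by rw [ZMod.card]; exact hodd)
  refine ⟨_, hmem x y, ?_⟩
  rw [hdetxy]
  simp only [Polynomial.eval_sub, Polynomial.eval_pow, Polynomial.eval_X, Polynomial.eval_C,
    Polynomial.eval_mul] at hxy
  linear_combination hxy

/-- Let p be a prime and H a subgroup of GL₂(𝔽_p). Then H = GL₂(𝔽_p) if and only if (i) some non-split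
Cartan subgroup lies in H, i.e. some subgroup C ≤ H such that C ∪ {0} is a subfield of the matrix
algebra M₂(𝔽_p) with p² elements, and (ii) p divides the order of H. -/
theorem result (p : ℕ) [Fact p.Prime]
    (H : Subgroup (GL (Fin 2) (ZMod p))) :
    H = ⊤ ↔
      (∃ (C : Subgroup (GL (Fin 2) (ZMod p))) (E : Subring (Matrix (Fin 2) (Fin 2) (ZMod p))),
          C ≤ H ∧ IsField E ∧ Nat.card E = p ^ 2 ∧
            (E : Set (Matrix (Fin 2) (Fin 2) (ZMod p))) =
              insert 0 ((fun g : GL (Fin 2) (ZMod p) => (g : Matrix (Fin 2) (Fin 2) (ZMod p))) ''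
                (C : Set (GL (Fin 2) (ZMod p))))) ∧
        p ∣ Nat.card H := by
  classical
  constructor
  · rintro rfl
    refine ⟨?_, ?_⟩
    · let K := GaloisField p 2
      let b : Module.Basis (Fin 2) (ZMod p) K :=
        Module.finBasisOfFinrankEq (ZMod p) K (GaloisField.finrank p two_ne_zero)
      let φ : K →+* Matrix (Fin 2) (Fin 2) (ZMod p) := (Algebra.leftMulMatrix b).toRingHom
      have hφ : Function.Injective φ := Algebra.leftMulMatrix_injective b
      refine ⟨(Units.map (φ : K →* Matrix (Fin 2) (Fin 2) (ZMod p))).range, φ.range, le_top, ?_, ?_, ?_⟩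
      · exact (RingEquiv.ofBijective φ.rangeRestrict
          ⟨fun x y h => hφ (congrArg Subtype.val h), φ.rangeRestrict_surjective⟩).symm.toMulEquiv.isField
            (Field.toIsField K)
      · rw [← Nat.card_congr (RingEquiv.ofBijective φ.rangeRestrict
          ⟨fun x y h => hφ (congrArg Subtype.val h), φ.rangeRestrict_surjective⟩).toEquiv]
        exact GaloisField.card p 2 two_ne_zero
      · ext M
        constructor
        · rintro ⟨x, rfl⟩
          rcases eq_or_ne x 0 with rfl | hx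
          · exact Or.inl (map_zero φ)
          · exact Or.inr ⟨_, ⟨Units.mk0 x hx, rfl⟩, rfl⟩
        · rintro (rfl | ⟨_, ⟨x, rfl⟩, rfl⟩)
          · exact zero_mem φ.range
          · exact ⟨x, rfl⟩
    · let u : GL (Fin 2) (ZMod p) := ⟨!![1, 1; 0, 1], !![1, -1; 0, 1],
        by rw [Matrix.mul_fin_two, Matrix.one_fin_two]; simp,
        by rw [Matrix.mul_fin_two, Matrix.one_fin_two]; simp⟩
      have hu : ∀ n : ℕ, ((u ^ n : GL (Fin 2) (ZMod p)) : Matrix (Fin 2) (Fin 2) (ZMod p)) = !![1, (n : ZMod p); 0, 1] := by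
        intro n
        induction n with
        | zero => simp [Matrix.one_fin_two]
        | succ n ih => rw [pow_succ, Units.val_mul, ih]; simp [u, add_comm]
      have : orderOf u = p := by
        refine orderOf_eq_prime (Units.ext ?_) fun h => ?_
        · rw [hu, Units.val_one, Matrix.one_fin_two]; simp
        · have := congrArg (fun g : GL (Fin 2) (ZMod p) => (g : Matrix (Fin 2) (Fin 2) (ZMod p)) 0 1) h
          simp [u] at this
      have := (orderOf_dvd_natCard u)
      rwa [‹orderOf u = p›, ← Subgroup.card_top] at this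
  · rintro ⟨⟨C, E, hC, hE, hcard, hset⟩, hdvd⟩
    have hinv : ∀ e ∈ E, e ≠ 0 → ∃ g ∈ H, (g : Matrix (Fin 2) (Fin 2) (ZMod p)) = e := by
      intro e he hne
      have : e ∈ (E : Set (Matrix (Fin 2) (Fin 2) (ZMod p))) := he
      rw [hset] at this
      obtain ⟨g, hg, rfl⟩ := this.resolve_left hne
      exact ⟨g, hC hg, rfl⟩
    refine aux H (fun v w hv hw => ?_) (fun a ha => ?_) hdvd
    · have hinj : Function.Injective (fun e : E => Matrix.mulVec (e : Matrix (Fin 2) (Fin 2) (ZMod p)) v) := by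
        intro e e' h
        by_contra hne
        obtain ⟨g, -, hg⟩ := hinv _ (e - e').2 fun h0 => hne (sub_eq_zero.1 (Subtype.ext h0))
        have h0 : Matrix.mulVec (g : Matrix (Fin 2) (Fin 2) (ZMod p)) v = 0 := by
          rw [hg, AddSubgroupClass.coe_sub, Matrix.sub_mulVec]; exact sub_eq_zero.2 h
        apply hv
        have := congrArg (Matrix.mulVec (↑g⁻¹ : Matrix (Fin 2) (Fin 2) (ZMod p))) h0
        rwa [Matrix.mulVec_mulVec, Units.inv_mul, Matrix.one_mulVec, Matrix.mulVec_zero] at this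
      have hbij := (Nat.bijective_iff_injective_and_card (fun e : E => Matrix.mulVec (e : Matrix (Fin 2) (Fin 2) (ZMod p)) v)).2
        ⟨hinj, by rw [hcard]; simp⟩
      obtain ⟨e, he⟩ := hbij.2 w
      obtain ⟨g, hg, hge⟩ := hinv _ e.2 fun h0 => hw (by rw [← he]; simp [h0])
      exact ⟨g, hg, hge ▸ he⟩
    · obtain ⟨e, he, hea⟩ := exists_det E hE hcard ha
      obtain ⟨g, hg, hge⟩ := hinv e he fun h0 => ha (by rw [← hea, h0]; simp)
      exact ⟨g, hg, hge ▸ hea⟩

end Groth.Agent.S15361
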