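import Groth.Statements.S15363
-- import your own Groth.Agent.* helpers here

set_option autoImplicit false
universe u
open CategoryTheory AlgebraicGeometry
open SekSuwa

open CategoryTheory CategoryTheory.Limits AlgebraicGeometry

namespace Groth.Agent.S15363

/-- Let R be an integral domain, p a prime and λ ∈ R a non-zero element with λ^p dividing (1 + λX)^p −
1, so that the congruence group scheme G_λ = Spec R[T]/(P_λ(T)) of level λ and its homomorphism θ_λ
: G_λ → μ_p, X ↦ 1 + λT, are defined. For every scheme G flat over Spec R, composition with θ_λ is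
injective on R-morphisms G → G_λ; in particular θ_λ induces an injective map from the homomorphisms
G → G_λ of a flat R-group scheme G to its homomorphisms G → μ_p. (The published statement is over
the ring of integers of an algebraic closure of a complete discretely valued field of mixed
characteristic, for finite flat commutative group schemes killed by p; the published argument, that
θ_λ is an isomorphism on the generic fibre and G is flat, gives the form stated here.) -/
theorem result (R : Type u) [CommRing R] [IsDomain R]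
    (p : ℕ) [Fact p.Prime] (lam : R) (h : SekSuwa.DivCond lam p)
    (G : Over (Spec (CommRingCat.of R))) [Flat G.hom]
    (f g : G ⟶ SekSuwa.GK R lam p h)
    (hfg : f ≫ SekSuwa.alphaN R lam p h = g ≫ SekSuwa.alphaN R lam p h) : f = g := by
  have hlam : lam ≠ 0 := nonZeroDivisors.ne_zero h.nzd
  let φ : (G ⟶ SekSuwa.GK R lam p h) → (SekSuwa.AK R lam p h →+* Γ(G.left, ⊤)) := fun k =>
    k.left.appTop.hom.comp (Scheme.ΓSpecIso (CommRingCat.of (SekSuwa.AK R lam p h))).inv.hom
  let s : R →+* Γ(G.left, ⊤) := G.hom.appTop.hom.comp (Scheme.ΓSpecIso (CommRingCat.of R)).inv.hom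
  have hR : ∀ (k : G ⟶ SekSuwa.GK R lam p h) (r : R), φ k (algebraMap R _ r) = s r := by
    intro k r
    have e : k.left ≫ Spec.map (CommRingCat.ofHom (algebraMap R (SekSuwa.AK R lam p h))) = G.hom := Over.w k
    have e2 := Scheme.ΓSpecIso_inv_naturality (CommRingCat.ofHom (algebraMap R (SekSuwa.AK R lam p h)))
    show k.left.appTop ((Scheme.ΓSpecIso _).inv (algebraMap R _ r)) = G.hom.appTop ((Scheme.ΓSpecIso _).inv r)
    rw [← e, Scheme.Hom.comp_appTop]
    exact congrArg k.left.appTop (congrArg (fun m => m.hom r) e2)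
  have hreg : ∀ z : Γ(G.left, ⊤), s lam * z = 0 → z = 0 := by
    intro z hz
    refine G.left.sheaf.eq_of_locally_eq' (fun U : G.left.affineOpens => U.1) ⊤ (fun _ => homOfLE le_top)
      (fun x _ => by
        obtain ⟨U, hU, hxU, -⟩ := exists_isAffineOpen_mem_and_subset (x := x) (U := (⊤ : G.left.Opens)) trivial
        exact TopologicalSpace.Opens.mem_iSup.mpr ⟨⟨U, hU⟩, hxU⟩) z 0 fun U => ?_
    have hfl : (G.hom.appLE ⊤ U.1 le_top).hom.Flat :=
      HasRingHomProperty.appLE @Flat G.hom ‹_› ⟨⊤, isAffineOpen_top _⟩ U le_top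
    let A := Γ(Spec (CommRingCat.of R), ⊤)
    letI : Algebra A Γ(G.left, U.1) := (G.hom.appLE ⊤ U.1 le_top).hom.toAlgebra
    haveI : Module.Flat A Γ(G.left, U.1) := hfl
    let a : A := (Scheme.ΓSpecIso (CommRingCat.of R)).inv lam
    have ha : IsSMulRegular A a := by
      intro x y hxy
      apply (ConcreteCategory.bijective_of_isIso (Scheme.ΓSpecIso (CommRingCat.of R)).hom).1
      have := congrArg (Scheme.ΓSpecIso (CommRingCat.of R)).hom hxy
      simp only [smul_eq_mul, map_mul, a, Iso.inv_hom_id_apply] at this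
      exact mul_left_cancel₀ hlam this
    have hb : IsSMulRegular Γ(G.left, U.1) (algebraMap A Γ(G.left, U.1) a) :=
      ha.of_flat_of_isBaseChange (IsBaseChange.linearMap A Γ(G.left, U.1))
    have hs0 : (G.left.presheaf.map (homOfLE (le_top : U.1 ≤ ⊤)).op) (s lam) = algebraMap A Γ(G.left, U.1) a := rfl
    apply hb
    show algebraMap A Γ(G.left, U.1) a • _ = algebraMap A Γ(G.left, U.1) a • _
    rw [smul_eq_mul, smul_eq_mul, ← hs0]
    erw [← map_mul, hz]
    simp
    exact (mul_zero _).symm
  have halpha : φ f (SekSuwa.alphaNHom R lam p h (MonoidAlgebra.single (Multiplicative.ofAdd (1 : ZMod p)) 1)) =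
      φ g (SekSuwa.alphaNHom R lam p h (MonoidAlgebra.single (Multiplicative.ofAdd (1 : ZMod p)) 1)) := by
    have e := congrArg (fun k => k.left.appTop) hfg
    simp only [Over.comp_left, Scheme.Hom.comp_appTop, SekSuwa.alphaN, SekSuwa.specHom_left] at e
    have e2 := Scheme.ΓSpecIso_inv_naturality (CommRingCat.ofHom
      (SekSuwa.alphaNHom R lam p h : MonoidAlgebra R (Multiplicative (ZMod p)) →+* SekSuwa.AK R lam p h))
    have e3 := congrArg (fun m => m.hom (MonoidAlgebra.single (Multiplicative.ofAdd (1 : ZMod p)) (1 : R))) e2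
    show f.left.appTop _ = g.left.appTop _
    dsimp at e3
    rw [RingHom.comp_apply] at *
    erw [e3]
    exact congrArg (fun m : Γ(Spec (CommRingCat.of (MonoidAlgebra R (Multiplicative (ZMod p)))), ⊤) ⟶ Γ(G.left, ⊤) => m.hom ((Scheme.ΓSpecIso (CommRingCat.of (MonoidAlgebra R (Multiplicative (ZMod p))))).inv (MonoidAlgebra.single (Multiplicative.ofAdd (1 : ZMod p)) (1 : R)))) e
  rw [SekSuwa.alphaNHom_single_one] at halpha
  have hu : (1 + lam • (SekSuwa.AK.t : SekSuwa.AK R lam p h)) * SekSuwa.AK.inv = 1 := by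
    have e := congrArg (SekSuwa.AK.mkHom R lam p h) (SekSuwa.A.u_mul_inv (R := R) (lam := lam))
    rw [map_mul, SekSuwa.A.u, map_add, map_one, map_smul] at e
    exact e
  have ht : φ f SekSuwa.AK.t = φ g SekSuwa.AK.t := by
    rw [Algebra.smul_def, map_add, map_add, map_one, map_one, map_mul, map_mul, hR, hR] at halpha
    exact sub_eq_zero.mp (hreg _ (by rw [mul_sub, sub_eq_zero]; exact add_left_cancel halpha))
  have hi : φ f SekSuwa.AK.inv = φ g SekSuwa.AK.inv := by
    have h1 := congrArg (φ f) hu
    have h2 := congrArg (φ g) hu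
    rw [map_mul, map_one] at h1 h2
    calc φ f SekSuwa.AK.inv = φ f SekSuwa.AK.inv * (φ g (1 + lam • SekSuwa.AK.t) * φ g SekSuwa.AK.inv) := by rw [h2, mul_one]
      _ = (φ f (1 + lam • SekSuwa.AK.t) * φ f SekSuwa.AK.inv) * φ g SekSuwa.AK.inv := by rw [← halpha]; ring
      _ = φ g SekSuwa.AK.inv := by rw [h1, one_mul]
  letI : Algebra R Γ(G.left, ⊤) := s.toAlgebra
  let a : (G ⟶ SekSuwa.GK R lam p h) → (SekSuwa.AK R lam p h →ₐ[R] Γ(G.left, ⊤)) := fun k =>
    { φ k with commutes' := hR k }
  have heq : a f = a g := SekSuwa.AK.algHom_ext ht hi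
  haveI : IsAffine (SekSuwa.GK R lam p h).left := inferInstanceAs (IsAffine (Spec (CommRingCat.of (SekSuwa.AK R lam p h))))
  refine Over.OverMorphism.ext (ext_of_isAffine ?_)
  ext z
  have := DFunLike.congr_fun heq ((Scheme.ΓSpecIso (CommRingCat.of (SekSuwa.AK R lam p h))).hom z)
  simp only [a, φ] at this
  change f.left.appTop ((Scheme.ΓSpecIso _).inv ((Scheme.ΓSpecIso _).hom z)) =
    g.left.appTop ((Scheme.ΓSpecIso _).inv ((Scheme.ΓSpecIso _).hom z)) at this
  simpa using this

end Groth.Agent.S15363
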