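import Groth.Statements.S15364
import Groth.Agent.TrivSec.Abelian
import Groth.Agent.TrivSec.SmoothGR

set_option autoImplicit false
universe u
open CategoryTheory CategoryTheory.Limits MonoidalCategory CartesianMonoidalCategory AlgebraicGeometry
open AbSch

open MonObj
namespace Groth.Agent.S15364

/-- For an abelian scheme f : A → T (a commutative T-group scheme, proper and smooth over T with
geometrically connected fibres) and a commutative group scheme H finite and locally free over T, the
adjunction map H → f_* f^* H of fppf sheaves on T is an isomorphism, i.e. for every T-scheme U the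
map H(U) → H(A ×_T U), s ↦ s ∘ pr, is bijective. This row states the case U = T, to which the
general case reduces by base change: composition with the structure morphism A → T is a bijection
from the sections of H over T onto the T-morphisms A → H. The group structure of H plays no role and
is not assumed. (The published statement has an arbitrary base T; the published argument rests on
the rigidity lemma in its form for Noetherian schemes, so T is taken locally Noetherian here.) -/
theorem result {T : Scheme.{u}} [IsLocallyNoetherian T]
    (A : Over T) [GrpObj A] [IsCommMonObj A] [IsProper A.hom] [Smooth A.hom] [GeometricallyConnected A.hom]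
    (H : Over T) [IsFinite H.hom] [Flat H.hom] [LocallyOfFinitePresentation H.hom] :
    Function.Bijective fun s : (𝟙_ (Over T) ⟶ H) => toUnit A ≫ s := by
  haveI := TrivSec.geometricallyReduced_of_smooth A.hom
  refine ⟨fun a b h => ?_, fun m => ?_⟩
  · have h' := congrArg (fun z => η[A] ≫ z) h
    simp only [← Category.assoc] at h'
    rw [toUnit_unique (η[A] ≫ toUnit A) (𝟙 _), Category.id_comp, Category.id_comp] at h'
    exact h'
  · have hall : ∀ s, s ∈ TrivSec.collapsed A.hom m.left := by
      intro s
      have hsub : m.left '' (A.hom ⁻¹' {s}) ⊆ H.hom ⁻¹' {s} := by
        rintro _ ⟨z, hz, rfl⟩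
        show H.hom (m.left z) = s
        rw [← Scheme.Hom.comp_apply, Over.w m]
        exact hz
      haveI : DiscreteTopology ↥(H.hom ⁻¹' {s}) :=
        (H.hom.fiberHomeo s).symm.isEmbedding.discreteTopology
      have hp : _root_.IsPreconnected (m.left '' (A.hom ⁻¹' {s})) :=
        (A.hom.isConnected_preimage_singleton s).isPreconnected.image _ m.left.continuous.continuousOn
      haveI : PreconnectedSpace ↥(m.left '' (A.hom ⁻¹' {s})) :=
        isPreconnected_iff_preconnectedSpace.mp hp
      intro a ha b hb
      exact congrArg Subtype.val
        (PreconnectedSpace.constant ‹_› (continuous_inclusion hsub) (x := ⟨a, ha⟩) (y := ⟨b, hb⟩))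
    obtain ⟨k, hk⟩ := TrivSec.exists_factor A.hom m.left hall
    refine ⟨Over.homMk k ?_, Over.OverMorphism.ext hk⟩
    haveI : Epi A.hom := Flat.epi_of_flat_of_surjective A.hom
    rw [← cancel_epi A.hom, ← Category.assoc, hk, Over.w m]
    exact (Category.comp_id _).symm

end Groth.Agent.S15364
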