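import Groth.Statements.S15365
import Mathlib.RingTheory.Smooth.StandardSmoothCotangent
import Mathlib.RingTheory.Unramified.Basic
import Mathlib.LinearAlgebra.Matrix.ToLinearEquiv
import Mathlib.Algebra.TrivSqZeroExt.Basic
import Mathlib.RingTheory.Nilpotent.Basic

set_option autoImplicit false
universe u
open scoped BigOperators
open CAlg

namespace Groth.Agent.S15365

/-- Let A be a commutative ring of characteristic p > 0 and (h_{ij})_{1 ≤ i,j ≤ n} a square matrix over
A, the matrix of a commutative p-Lie algebra (L, φ) with L free with basis e_1, …, e_n and φ(e_j) =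
Σ_i h_{ij} e_i. The associated finite group scheme Spec A[X_1, …, X_n]/(X_j^p − Σ_i h_{ij} X_i)_{1 ≤
j ≤ n} is étale over A if and only if the matrix (h_{ij}) is invertible, i.e. its determinant is a
unit of A. Only the algebra structure enters this assertion. -/
theorem result (p : ℕ) [Fact p.Prime]
    (A : Type u) [CommRing A] [CharP A p] (n : ℕ) (h : Matrix (Fin n) (Fin n) A) :
    Algebra.Etale A (MvPolynomial (Fin n) A ⧸ Ideal.span (Set.range fun j : Fin n =>
        (MvPolynomial.X j : MvPolynomial (Fin n) A) ^ p -
          ∑ i : Fin n, MvPolynomial.C (h i j) * MvPolynomial.X i)) ↔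
      IsUnit h.det := by
  classical
  have hp : p.Prime := Fact.out
  set rel : Fin n → MvPolynomial (Fin n) A := fun j =>
      (MvPolynomial.X j : MvPolynomial (Fin n) A) ^ p -
          ∑ i : Fin n, MvPolynomial.C (h i j) * MvPolynomial.X i with hrel
  refine ⟨fun hE => ?_, fun hu => ?_⟩
  · by_contra hnu
    obtain ⟨m, hm, hdm⟩ := exists_max_ideal_of_mem_nonunits hnu
    let := Ideal.Quotient.field m
    set q := Ideal.Quotient.mk m
    have hdet : (h.map q).det = 0 := by
      rw [← RingHom.mapMatrix_apply, ← RingHom.map_det]; exact Ideal.Quotient.eq_zero_iff_mem.mpr hdm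
    obtain ⟨v, hv0, hv⟩ := Matrix.exists_vecMul_eq_zero_iff.mpr hdet
    let E := TrivSqZeroExt (A ⧸ m) (A ⧸ m)
    have hmk : ∀ w : Fin n → A ⧸ m, Matrix.vecMul w (h.map q) = 0 →
        ∀ x ∈ Ideal.span (Set.range rel), (MvPolynomial.aeval fun i => (TrivSqZeroExt.inr (w i) : E)) x = 0 := by
      intro w hw x hx
      induction hx using Submodule.span_induction with
      | mem y hy =>
        obtain ⟨j, rfl⟩ := hy
        have h2 : ((TrivSqZeroExt.inr (w j) : E)) ^ p = 0 :=
          pow_eq_zero_of_le hp.two_le (by rw [pow_two, TrivSqZeroExt.inr_mul_inr])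
        have h3 : ∑ i, q (h i j) * w i = 0 := by
          have := congrFun hw j
          simpa [Matrix.vecMul, dotProduct, mul_comm] using this
        have h4 : ∀ i, algebraMap A E (h i j) * TrivSqZeroExt.inr (w i) = TrivSqZeroExt.inr (q (h i j) * w i) := fun i => by
          rw [← Algebra.smul_def, ← TrivSqZeroExt.inr_smul]
          rfl
        simp only [hrel, map_sub, map_pow, MvPolynomial.aeval_X, h2, map_sum, map_mul, MvPolynomial.aeval_C]
        rw [zero_sub, neg_eq_zero]
        refine (Finset.sum_congr rfl (fun i _ => h4 i)).trans ?_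
        rw [← TrivSqZeroExt.inr_sum, h3, TrivSqZeroExt.inr_zero]
      | zero => simp
      | add y z _ _ hy hz => rw [map_add, hy, hz, add_zero]
      | smul r y _ hy => rw [smul_eq_mul, map_mul, hy, mul_zero]
    let g : ∀ w : Fin n → A ⧸ m, Matrix.vecMul w (h.map q) = 0 →
        (MvPolynomial (Fin n) A ⧸ Ideal.span (Set.range rel) →ₐ[A] E) := fun w hw =>
      Ideal.Quotient.liftₐ _ _ (hmk w hw)
    have heq : g v hv = g 0 (Matrix.zero_vecMul _) := by
      refine Algebra.FormallyUnramified.ext' (TrivSqZeroExt.fstHom (A ⧸ m) (A ⧸ m) (A ⧸ m)).toRingHom ?_ _ _ fun x => ?_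
      · refine ⟨2, eq_bot_iff.mpr ?_⟩
        rw [pow_two, Ideal.mul_le]
        intro a ha b hb
        rw [Ideal.mem_bot]
        have ha' : a.fst = 0 := ha
        have hb' : b.fst = 0 := hb
        ext <;> simp [ha', hb']
      · obtain ⟨x, rfl⟩ := Ideal.Quotient.mk_surjective x
        have : ((TrivSqZeroExt.fstHom (A ⧸ m) (A ⧸ m) (A ⧸ m)).restrictScalars A).comp (MvPolynomial.aeval fun i => (TrivSqZeroExt.inr (v i) : E)) =
            ((TrivSqZeroExt.fstHom (A ⧸ m) (A ⧸ m) (A ⧸ m)).restrictScalars A).comp (MvPolynomial.aeval fun i => (TrivSqZeroExt.inr ((0 : Fin n → A ⧸ m) i) : E)) := by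
          ext i; simp
        exact DFunLike.congr_fun this x
    apply hv0
    funext i
    have h5 := congrArg TrivSqZeroExt.snd (DFunLike.congr_fun heq (Ideal.Quotient.mk _ (MvPolynomial.X i)))
    simpa [g] using h5
  · let P : Algebra.SubmersivePresentation A (MvPolynomial (Fin n) A ⧸ Ideal.span (Set.range rel)) (Fin n) (Fin n) :=
      { toPresentation := Algebra.Presentation.naive (v := rel)
        map := id
        map_inj := Function.injective_id
        jacobian_isUnit := by
          rw [Algebra.PreSubmersivePresentation.jacobian_eq_jacobiMatrix_det]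
          refine IsUnit.map _ ?_
          convert (IsUnit.map (MvPolynomial.C (σ := Fin n)) hu).neg.pow 0 |>.mul ((IsUnit.map (MvPolynomial.C (σ := Fin n)) hu).mul ((isUnit_one (M := MvPolynomial (Fin n) A)).neg.pow n)) using 1
          rw [pow_zero, one_mul, RingHom.map_det, RingHom.mapMatrix_apply, mul_comm]
          convert Matrix.det_neg (h.map (MvPolynomial.C (σ := Fin n))) using 1
          · congr 1
            ext i j : 1
            have hpz : (p : MvPolynomial (Fin n) A) = 0 := by
              rw [← map_natCast (MvPolynomial.C (σ := Fin n)), CharP.cast_eq_zero, map_zero]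
            simp [Algebra.PreSubmersivePresentation.jacobiMatrix_apply, hrel, hpz, Pi.single_apply]
          · simp }
    have : Algebra.IsStandardSmoothOfRelativeDimension 0 A (MvPolynomial (Fin n) A ⧸ Ideal.span (Set.range rel)) :=
      ⟨⟨Fin n, Fin n, inferInstance, inferInstance, P, by simp [Algebra.Presentation.dimension]⟩⟩
    infer_instance

end Groth.Agent.S15365
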