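import Groth.Statements.S15367
import Mathlib
set_option linter.style.haveILetI false

set_option autoImplicit false
universe u v
open TensorProduct
open CAlg

namespace Groth.Agent.S15367

/-- `R/ϖ^e` is self-dual in `R/ϖ^n`. -/
theorem nonempty_cyclic_dual {R : Type u} [CommRing R] [IsDomain R] (ϖ : R) (hϖ : ϖ ≠ 0) {e n : ℕ} (he : e ≤ n) :
    Nonempty ((R ⧸ Ideal.span {ϖ ^ e}) ≃ₗ[R] ((R ⧸ Ideal.span {ϖ ^ e}) →ₗ[R] (R ⧸ Ideal.span {ϖ ^ n}))) := by
  obtain ⟨d, rfl⟩ := Nat.exists_eq_add_of_le he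
  let M := R ⧸ Ideal.span {ϖ ^ e}
  let N := R ⧸ Ideal.span {ϖ ^ (e + d)}
  let g : M →ₗ[R] N := Submodule.mapQ (Ideal.span {ϖ ^ e}) (Ideal.span {ϖ ^ (e + d)})
    (LinearMap.mulLeft R (ϖ ^ d)) (by
      intro x hx
      obtain ⟨c, rfl⟩ := Ideal.mem_span_singleton'.1 hx
      exact Ideal.mem_span_singleton'.2 ⟨c, by rw [LinearMap.mulLeft_apply, pow_add]; ring⟩)
  let T : R →ₗ[R] (M →ₗ[R] N) := LinearMap.toSpanSingleton R _ g
  have hg : ∀ r x : R, (T r) (Submodule.Quotient.mk x) = Ideal.Quotient.mk _ (r * (ϖ ^ d * x)) := fun r x => rfl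
  have hker : LinearMap.ker T = Ideal.span {ϖ ^ e} := by
    ext r
    constructor
    · intro hr
      have h : (T r) (Submodule.Quotient.mk 1) = 0 := by rw [LinearMap.mem_ker.1 hr]; rfl
      rw [hg, Ideal.Quotient.eq_zero_iff_mem, Ideal.mem_span_singleton'] at h
      obtain ⟨c, hc⟩ := h
      refine Ideal.mem_span_singleton'.2 ⟨c, mul_right_cancel₀ (pow_ne_zero d hϖ) ?_⟩
      rw [mul_assoc, ← pow_add, hc, mul_one]
    · intro hr
      obtain ⟨c, rfl⟩ := Ideal.mem_span_singleton'.1 hr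
      refine LinearMap.mem_ker.2 (Submodule.linearMap_qext _ (LinearMap.ext fun x => ?_))
      show (T (c * ϖ ^ e)) (Submodule.Quotient.mk x) = 0
      rw [hg, Ideal.Quotient.eq_zero_iff_mem, Ideal.mem_span_singleton']
      exact ⟨c * x, by rw [pow_add]; ring⟩
  have hsurj : Function.Surjective T := by
    intro h
    obtain ⟨w, hw⟩ := Ideal.Quotient.mk_surjective (h (Submodule.Quotient.mk 1))
    have h0 : ϖ ^ e • h (Submodule.Quotient.mk 1) = 0 := by
      rw [← map_smul, ← Submodule.Quotient.mk_smul, (Submodule.Quotient.mk_eq_zero _).2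
        (Ideal.mem_span_singleton'.2 ⟨1, by simp⟩), map_zero]
    rw [← hw, Algebra.smul_def, Ideal.Quotient.algebraMap_eq, ← map_mul, Ideal.Quotient.eq_zero_iff_mem,
      Ideal.mem_span_singleton'] at h0
    obtain ⟨c, hc⟩ := h0
    have hwc : c * ϖ ^ d = w := mul_left_cancel₀ (pow_ne_zero e hϖ) (by rw [← hc, pow_add]; ring)
    refine ⟨c, Submodule.linearMap_qext _ (LinearMap.ext_ring ?_)⟩
    show (T c) (Submodule.Quotient.mk 1) = h (Submodule.Quotient.mk 1)
    rw [hg, ← hw, mul_one, hwc]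
  exact ⟨(Submodule.quotEquivOfEq _ _ hker.symm).trans (T.quotKerEquivOfSurjective hsurj)⟩


/-- Let R be a discrete valuation ring with uniformizer π and residue field k, n ≥ 0, and M₀ a finitely
generated module over R/πⁿR, viewed as an R-module killed by πⁿ; put M₀* = Hom_R(M₀, R/πⁿR). Then
dim_k(M₀*/πM₀*) = dim_k(M₀/πM₀). The published lemma is stated for a finitely presented module over
the quotient of the ring of integers of an algebraic closure of K by the elements of valuation ≥ t,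
with its dual into that quotient ring, and the published proof reduces it by descent to exactly this
statement over the valuation ring of a finite extension of K; the row states that step. -/
theorem result
    (R : Type u) [CommRing R] [IsDomain R] [IsDiscreteValuationRing R] (ϖ : R) (hϖ : Irreducible ϖ) (n : ℕ)
    (M : Type v) [AddCommGroup M] [Module R M] [Module.Finite R M] (hM : ∀ m : M, ϖ ^ n • m = 0) :
    Module.finrank (IsLocalRing.ResidueField R)
        (IsLocalRing.ResidueField R ⊗[R] (M →ₗ[R] (R ⧸ Ideal.span {ϖ ^ n}))) =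
      Module.finrank (IsLocalRing.ResidueField R) (IsLocalRing.ResidueField R ⊗[R] M) := by
  classical
  have htor : Module.IsTorsion R M := fun {m} => ⟨⟨ϖ ^ n, mem_nonZeroDivisors_of_ne_zero (pow_ne_zero n hϖ.ne_zero)⟩, hM m⟩
  obtain ⟨ι, _, p, hp, e, ⟨E⟩⟩ := Module.equiv_directSum_of_isTorsion htor
  have hspan : ∀ i, (R ∙ p i ^ e i) = Ideal.span {ϖ ^ e i} := fun i =>
    Ideal.span_singleton_eq_span_singleton.2
      ((IsDiscreteValuationRing.associated_of_irreducible R (hp i) hϖ).pow_pow)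
  let F : M ≃ₗ[R] ((i : ι) → R ⧸ Ideal.span {ϖ ^ e i}) :=
    E ≪≫ₗ DirectSum.linearEquivFunOnFintype R ι _ ≪≫ₗ
      LinearEquiv.piCongrRight fun i => Submodule.quotEquivOfEq _ _ (hspan i)
  have he : ∀ i, e i ≤ n := fun i => by
    have h : ϖ ^ n • (Pi.single i (Ideal.Quotient.mk _ 1) : (i : ι) → R ⧸ Ideal.span {ϖ ^ e i}) = 0 := by
      obtain ⟨m, hm⟩ := F.surjective (Pi.single i (Ideal.Quotient.mk _ 1))
      rw [← hm, ← map_smul, hM, map_zero]
    have h' := congrFun h i
    rw [Pi.smul_apply, Pi.single_eq_same, Pi.zero_apply, Algebra.smul_def, Ideal.Quotient.algebraMap_eq,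
      ← map_mul, mul_one, Ideal.Quotient.eq_zero_iff_mem, Ideal.mem_span_singleton] at h'
    exact (pow_dvd_pow_iff hϖ.ne_zero hϖ.not_isUnit).1 h'
  let D : M ≃ₗ[R] (M →ₗ[R] R ⧸ Ideal.span {ϖ ^ n}) :=
    F ≪≫ₗ (LinearEquiv.piCongrRight fun i => (nonempty_cyclic_dual ϖ hϖ.ne_zero (he i)).some) ≪≫ₗ
      LinearMap.lsum R (fun i => R ⧸ Ideal.span {ϖ ^ e i}) R ≪≫ₗ
        LinearEquiv.arrowCongr F.symm (LinearEquiv.refl R _)
  exact (LinearEquiv.baseChange R (IsLocalRing.ResidueField R) _ _ D).finrank_eq.symm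

end Groth.Agent.S15367
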