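import Mathlib
import Groth.Statements.S15368
-- import your own Groth.Agent.* helpers here

set_option autoImplicit false
universe u v
open TensorProduct
open CAlg

namespace Groth.Agent.S15368

open scoped TensorProduct

/-- Let R be a discrete valuation ring with uniformizer π and residue field k, n ≥ 0, M₀ a finitely
generated R-module killed by πⁿ and N₀ a submodule of M₀. Then dim_k(N₀/πN₀) ≤ dim_k(M₀/πM₀). The
published lemma is stated for a finitely presented submodule N of a finitely presented module M over
the quotient of the ring of integers of an algebraic closure of K by the elements of valuation ≥ t,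
and the published proof reduces it by descent to exactly this statement over the valuation ring of a
finite extension of K (comparing π-torsion with π-cotorsion by additivity of length); the row states
that step. -/
theorem result
    (R : Type u) [CommRing R] [IsDomain R] [IsDiscreteValuationRing R] (ϖ : R) (hϖ : Irreducible ϖ) (n : ℕ)
    (M : Type v) [AddCommGroup M] [Module R M] [Module.Finite R M] (hM : ∀ m : M, ϖ ^ n • m = 0)
    (N : Submodule R M) :
    Module.finrank (IsLocalRing.ResidueField R) (IsLocalRing.ResidueField R ⊗[R] N) ≤
      Module.finrank (IsLocalRing.ResidueField R) (IsLocalRing.ResidueField R ⊗[R] M) := by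
  classical
  set k := IsLocalRing.ResidueField R
  let b := Module.finBasis k (k ⊗[R] M)
  let ι := Fin (Module.finrank k (k ⊗[R] M))
  have hsur : Function.Surjective (TensorProduct.mk R k M 1) := TensorProduct.mk_surjective R M k IsLocalRing.residue_surjective
  choose l hl using fun i => hsur (b i)
  let π : (ι → R) →ₗ[R] M := Fintype.linearCombination R l
  have hπ : Function.Surjective π := by
    rw [← LinearMap.range_eq_top, Fintype.range_linearCombination, ← IsLocalRing.map_tensorProduct_mk_eq_top, Submodule.map_span,
      ← Set.range_comp, show (TensorProduct.mk R k M 1) ∘ l = b from funext hl]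
    rw [← Submodule.restrictScalars_span R k IsLocalRing.residue_surjective, b.span_eq]
    exact Submodule.restrictScalars_top R k (k ⊗[R] M)
  let P := N.comap π
  let f : P →ₗ[R] N := π.restrict (p := P) (q := N) (fun x hx => hx)
  have hf : Function.Surjective f := fun y => by
    obtain ⟨x, hx⟩ := hπ (y : M)
    exact ⟨⟨x, show π x ∈ N by rw [hx]; exact y.2⟩, Subtype.ext hx⟩
  have hfs : Function.Surjective (f.baseChange k) := by
    intro z
    obtain ⟨w, hw⟩ := LinearMap.lTensor_surjective k hf z
    exact ⟨w, by rw [LinearMap.baseChange_eq_ltensor]; exact hw⟩
  calc Module.finrank k (k ⊗[R] N) ≤ Module.finrank k (k ⊗[R] P) := LinearMap.finrank_le_finrank_of_surjective hfs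
    _ = Module.finrank R P := Module.finrank_baseChange
    _ ≤ Module.finrank R (ι → R) := Submodule.finrank_le P
    _ = Module.finrank k (k ⊗[R] M) := by rw [Module.finrank_pi]; exact Fintype.card_fin _

end Groth.Agent.S15368
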