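import Groth.Statements.S1537
import Groth.Agent.FieldExtConn.Conn

set_option autoImplicit false
universe u
open CategoryTheory CategoryTheory.Limits AlgebraicGeometry
open Variety

namespace Groth.Agent.S1537

theorem fromSpecResidueField_comp (k : Type u) [Field k] (X : Scheme.{u})
    [X.Over (Spec (CommRingCat.of k))] (x : X) :
    X.fromSpecResidueField x ≫ X ↘ Spec (CommRingCat.of k) =
      Spec.map (CommRingCat.ofHom (Curv2.resMap k X x)) := by
  obtain ⟨φ, hφ⟩ := Spec.map_surjective (X.fromSpecResidueField x ≫ X ↘ Spec (CommRingCat.of k))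
  rw [← hφ]
  congr 1
  have h := congrArg (fun g : _ ⟶ Spec (CommRingCat.of k) =>
    (Scheme.ΓSpecIso (CommRingCat.of k)).inv ≫ g.appTop ≫ (Scheme.ΓSpecIso _).hom) hφ
  simp only [Scheme.Hom.comp_appTop, Category.assoc, Scheme.ΓSpecIso_naturality,
    Iso.inv_hom_id_assoc] at h
  rw [h]
  simp [Scheme.fromSpecResidueField, Scheme.fromSpecStalk_appTop, Scheme.ΓSpecIso_naturality,
    Curv2.resMap, Curv2.stalkMap, Coh.toGlobal]


/-- A connected k-scheme is geometrically connected as soon as it has a point whose residue field
contains no element integral over k other than the elements of k. -/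
theorem result (k : Type u) [Field k] (X : Scheme.{u}) [X.Over (Spec (CommRingCat.of k))] [ConnectedSpace X]
    (x : X) (hx : ∀ a : X.residueField x, (Curv2.resMap k X x).IsIntegralElem a → a ∈ (Curv2.resMap k X x).range) :
    GeometricallyConnected (X ↘ (Spec (CommRingCat.of k))) := by
  let _ := Curv2.resAlgebra k X x
  have hP : separableClosure k (X.residueField x) = ⊥ := eq_bot_iff.2 fun a ha => by
    rw [IntermediateField.mem_bot]
    exact hx a (mem_separableClosure_iff.1 ha).isIntegral
  have := Groth.Agent.FieldExtConn.geometricallyConnected_ext_of_primary (k := k) (X.residueField x) hP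
  have : Nonempty (Spec (X.residueField x) : Scheme.{u}) := ⟨IsLocalRing.closedPoint (X.residueField x)⟩
  exact Groth.Agent.FieldExtConn.geometricallyConnected_of_hom _ (X.fromSpecResidueField x)
    (g := Groth.Agent.FieldExtConn.ext k (X.residueField x)) (fromSpecResidueField_comp k X x)

end Groth.Agent.S1537
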