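import Groth.Statements.S15391
import Mathlib.RingTheory.Localization.BaseChange
import Mathlib.RingTheory.Ideal.MinimalPrime.Noetherian
import Mathlib.RingTheory.LocalRing.ResidueField.Ideal
import Mathlib.RingTheory.KrullDimension.Zero
import Mathlib.RingTheory.LocalProperties.Reduced
-- import your own Groth.Agent.* helpers here

set_option autoImplicit false
universe u
open TensorProduct
open TorFree

namespace Groth.Agent.S15391

/-- Let R be a reduced Noetherian commutative ring, M a finitely generated torsion-free R-module (no
non-zero element of M is annihilated by a non-zero-divisor of R), and t an element of M whose image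
1 ⊗ t in the fibre κ(p) ⊗_R M vanishes for every prime ideal p of R, κ(p) being the residue field at
p. Then t = 0. This is the affine form of the claim that a global section of a coherent torsion-free
module on a reduced Noetherian scheme which vanishes in every fibre is zero. -/
theorem result (R : Type u) [CommRing R] [IsReduced R] [IsNoetherianRing R]
    (M : Type u) [AddCommGroup M] [Module R M] [Module.Finite R M] [Module.IsTorsionFree R M]
    (t : M) (ht : ∀ p : PrimeSpectrum R, (1 : p.asIdeal.ResidueField) ⊗ₜ[R] t = (0 : p.asIdeal.ResidueField ⊗[R] M)) :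
    t = 0 := by
  classical
  by_contra hne
  let J : Ideal R := LinearMap.ker (LinearMap.toSpanSingleton R M t)
  have hfin := minimalPrimes.finite_of_isNoetherianRing R
  have hJ : ∀ P ∈ minimalPrimes R, ¬ J ≤ P := by
    intro P hP hle
    haveI := hP.1.1
    set Rp := Localization.AtPrime P
    have hmax : IsLocalRing.maximalIdeal Rp = ⊥ := by
      haveI : Ring.KrullDimLE 0 Rp := Ring.KrullDimLE.of_isLocalization P hP Rp
      haveI : IsReduced Rp := isReduced_localizationPreserves P.primeCompl Rp inferInstance
      rw [← Ring.KrullDimLE.nilradical_eq_maximalIdeal Rp]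
      exact nilradical_eq_zero Rp
    have hres : Function.Bijective ((IsScalarTower.toAlgHom R Rp P.ResidueField).toLinearMap) := by
      refine ⟨?_, IsLocalRing.residue_surjective⟩
      intro x y hxy
      have h1 : IsLocalRing.residue Rp x = IsLocalRing.residue Rp y := hxy
      rw [← sub_eq_zero, ← map_sub, IsLocalRing.residue_eq_zero_iff, hmax, Ideal.mem_bot, sub_eq_zero] at h1
      exact h1
    have h0 : (TensorProduct.mk R Rp M 1) t = 0 := by
      apply (TensorProduct.congr (LinearEquiv.ofBijective _ hres) (LinearEquiv.refl R M)).injective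
      rw [map_zero, TensorProduct.mk_apply, TensorProduct.congr_tmul]
      simpa using ht ⟨P, hP.1.1⟩
    obtain ⟨s, hs⟩ := (IsLocalizedModule.eq_zero_iff P.primeCompl (TensorProduct.mk R Rp M 1)).mp h0
    exact s.2 (hle (by simpa [J, Submonoid.smul_def] using hs))
  have hnle : ¬ (J : Set R) ⊆ ⋃ P ∈ (hfin.toFinset : Set (Ideal R)), (P : Set R) := by
    intro hsub
    obtain ⟨P, hP, hJP⟩ := (Ideal.subset_union_prime ⊥ ⊥
      (fun P hP _ _ => (hfin.mem_toFinset.mp hP).1.1)).mp hsub
    exact hJ P (hfin.mem_toFinset.mp hP) hJP
  obtain ⟨a, haJ, ha⟩ := Set.not_subset.mp hnle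
  have hreg : IsRegular a := by
    rw [isRegular_iff_mem_nonZeroDivisors]
    refine mem_nonZeroDivisors_iff_right.mpr fun z hz => ?_
    have hall : ∀ P ∈ minimalPrimes R, z ∈ P := fun P hP =>
      (hP.1.1.mem_or_mem (hz ▸ P.zero_mem : z * a ∈ P)).resolve_right
        fun h => ha (Set.mem_biUnion (hfin.mem_toFinset.mpr hP) h)
    have h1 : z ∈ sInf (⊥ : Ideal R).minimalPrimes := Submodule.mem_sInf.mpr hall
    rw [Ideal.sInf_minimalPrimes] at h1
    rwa [Ideal.radical_bot_of_isReduced, Ideal.mem_bot] at h1
  have h1 : a • t = a • (0 : M) := by rw [smul_zero]; simpa [J] using haJ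
  exact hne (Module.IsTorsionFree.isSMulRegular hreg h1)

end Groth.Agent.S15391
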