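import Groth.Statements.S1540
import Groth.Agent.GeomRedAt.Change
import Groth.Agent.GeomIrr.Generic
-- import your own Groth.Agent.* helpers here

set_option autoImplicit false
universe u
open CategoryTheory CategoryTheory.Limits AlgebraicGeometry
attribute [local instance] Curv2.resAlgebra Curv2.stalkAlgebra
open Variety

namespace Groth.Agent.S1540

/-- An irreducible scheme X over k with generic point ξ is geometrically irreducible if and only if the
separable algebraic closure of k in the residue field of ξ is k itself. -/
theorem result (k : Type u) [Field k] (X : Scheme.{u}) [X.Over (Spec (CommRingCat.of k))] [IrreducibleSpace X] :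
    GeometricallyIrreducible (X ↘ (Spec (CommRingCat.of k))) ↔
      ∀ a : X.residueField (genericPoint X), IsSeparable k a → a ∈ Set.range (algebraMap k (X.residueField (genericPoint X))) := by
  refine GeomIrr.geometricallyIrreducible_iff_generic (X ↘ Spec (CommRingCat.of k)) (genericPoint_spec X) ?_
  rw [Scheme.fromSpecResidueField, Category.assoc, GeomRedAt.fromSpecStalk_comp, ← Spec.map_comp]
  rfl

end Groth.Agent.S1540
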