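import Groth.Statements.S15411
import Mathlib
-- import your own Groth.Agent.* helpers here

set_option autoImplicit false
universe u
open scoped TensorProduct
open Hopf

namespace Groth.Agent.S15411

/-- Let K be a field and let finitely many commutative K-algebras be given in two layers, K_i for each
vertex i and K_k for each edge k, with K-algebra maps from K_{l k} and from K_{r k} into K_k for
every edge k, such that K is the equalizer of the system: every family (x_i) whose two images in K_k
agree for every k comes from exactly one element of K. Let A and B be commutative K-bialgebras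
(coordinate rings of affine group or monoid schemes over K) and let u_i : K_i ⊗ B ≅ K_i ⊗ A be
isomorphisms of K_i-bialgebras such that, for every edge k, the base changes of u_{l k} and u_{r k}
to K_k agree. Then there is exactly one isomorphism of K-bialgebras v : B ≅ A inducing every u_i,
that is with u_i (1 ⊗ b) = 1 ⊗ v b. (The published statement is for the system obtained from a
finite inverse factorization system of fields by base change to a finite separable extension K, and
for linear algebraic groups; this row keeps from that setting only what the argument uses: K is a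
field and is the equalizer of the finite system, and the group schemes are affine.) -/
theorem result
    (K : Type u) [Field K] (ιv ιe : Type u) [Finite ιv] [Finite ιe]
    (Kv : ιv → Type u) [∀ i, CommRing (Kv i)] [∀ i, Algebra K (Kv i)]
    (Ke : ιe → Type u) [∀ k, CommRing (Ke k)] [∀ k, Algebra K (Ke k)]
    (l r : ιe → ιv) (ρl : ∀ k, Kv (l k) →ₐ[K] Ke k) (ρr : ∀ k, Kv (r k) →ₐ[K] Ke k)
    (hlim : ∀ x : (∀ i, Kv i), (∀ k, ρl k (x (l k)) = ρr k (x (r k))) →
      ∃! a : K, ∀ i, algebraMap K (Kv i) a = x i)
    (A B : Type u) [CommRing A] [CommRing B] [Bialgebra K A] [Bialgebra K B]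
    (u : ∀ i, (Kv i ⊗[K] B) ≃ₐc[Kv i] (Kv i ⊗[K] A))
    (hu : ∀ (k : ιe) (b : B),
      Algebra.TensorProduct.map (ρl k) (AlgHom.id K A) (u (l k) (1 ⊗ₜ[K] b)) =
        Algebra.TensorProduct.map (ρr k) (AlgHom.id K A) (u (r k) (1 ⊗ₜ[K] b))) :
    ∃! v : B ≃ₐc[K] A, ∀ (i : ιv) (b : B), u i (1 ⊗ₜ[K] b) = 1 ⊗ₜ[K] v b := by
  classical
  haveI := Fintype.ofFinite ιv
  have sepK : ∀ a a' : K, (∀ i, algebraMap K (Kv i) a = algebraMap K (Kv i) a') → a = a' := fun a a' h => by
    obtain ⟨c, -, hc⟩ := hlim (fun i => algebraMap K (Kv i) a') (fun k => by simp)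
    rw [hc a h, hc a' (fun i => rfl)]
  have sep : ∀ (V : Type u) [AddCommGroup V] [Module K V] (x y : V), (∀ i, (1 : Kv i) ⊗ₜ[K] x = 1 ⊗ₜ[K] y) → x = y := by
    intro V _ _ x y h
    let b := Module.Free.chooseBasis K V
    refine b.ext_elem fun j => sepK _ _ fun i => ?_
    simpa [Algebra.algebraMap_eq_smul_one] using congrArg (fun z => (b.baseChange (Kv i)).repr z j) (h i)
  let bA := Module.Free.chooseBasis K A
  have desc : ∀ b : B, ∃ a : A, ∀ i, u i (1 ⊗ₜ[K] b) = 1 ⊗ₜ[K] a := by
    intro b
    let c := fun i => (bA.baseChange (Kv i)).repr (u i (1 ⊗ₜ[K] b))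
    have hnat : ∀ (i : ιv) (T : Type u) [CommRing T] [Algebra K T] (ρ : Kv i →ₐ[K] T) (z : Kv i ⊗[K] A) (j),
        ρ ((bA.baseChange (Kv i)).repr z j) = (bA.baseChange T).repr (Algebra.TensorProduct.map ρ (AlgHom.id K A) z) j := by
      intro i T _ _ ρ z j
      induction z using TensorProduct.induction_on with
      | zero => simp
      | add x y hx hy => simp only [map_add, Finsupp.add_apply, hx, hy]
      | tmul t a => simp [Module.Basis.baseChange_repr_tmul]
    have hex : ∀ j, ∃! a : K, ∀ i, algebraMap K (Kv i) a = c i j := fun j => hlim _ fun k => by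
      show ρl k (c (l k) j) = ρr k (c (r k) j)
      rw [hnat, hnat, hu]
    choose g hg hg' using hex
    let f : _ →₀ K := Finsupp.onFinset (Finset.univ.biUnion fun i => (c i).support) g (fun j hj => by
      by_contra hn
      simp only [Finset.mem_biUnion, Finset.mem_univ, true_and, not_exists, Finsupp.mem_support_iff, ne_eq, not_not] at hn
      exact hj (sepK _ 0 fun i => by rw [hg j i, hn i, map_zero]))
    refine ⟨bA.repr.symm f, fun i => (bA.baseChange (Kv i)).ext_elem fun j => ?_⟩
    show c i j = _
    rw [Module.Basis.baseChange_repr_tmul, LinearEquiv.apply_symm_apply, Finsupp.onFinset_apply, ← hg j i, Algebra.algebraMap_eq_smul_one]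
  choose v hv using desc
  have hadd : ∀ b b', v (b + b') = v b + v b' := fun b b' => sep A _ _ fun i => by
    rw [← hv, TensorProduct.tmul_add, map_add (u i), hv, hv, TensorProduct.tmul_add]
  have hmul : ∀ b b', v (b * b') = v b * v b' := fun b b' => sep A _ _ fun i => by
    rw [← hv, show (1 : Kv i) ⊗ₜ[K] (b * b') = (1 ⊗ₜ[K] b) * (1 ⊗ₜ[K] b') by simp, map_mul (u i), hv, hv]; simp
  have hsmul : ∀ (t : K) b, v (t • b) = t • v b := fun t b => sep A _ _ fun i => by
    rw [← hv, TensorProduct.tmul_smul, ← algebraMap_smul (Kv i) t, map_smul (u i), hv, algebraMap_smul, TensorProduct.tmul_smul]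
  have h1 : v 1 = 1 := sep A _ _ fun i => by
    rw [← hv]; exact map_one (u i)
  let va : B →ₐ[K] A := AlgHom.ofLinearMap ⟨⟨v, hadd⟩, hsmul⟩ h1 hmul
  have hcounit : (Bialgebra.counitAlgHom K A).comp va = Bialgebra.counitAlgHom K B := by
    refine AlgHom.ext fun b => sepK _ _ fun i => ?_
    have h := CoalgHomClass.counit_comp_apply (u i) (1 ⊗ₜ[K] b)
    rw [hv, TensorProduct.counit_tmul, TensorProduct.counit_tmul] at h
    simpa [Algebra.algebraMap_eq_smul_one, va] using h
  have hcomul : (Algebra.TensorProduct.map va va).comp (Bialgebra.comulAlgHom K B) = (Bialgebra.comulAlgHom K A).comp va := by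
    refine AlgHom.ext fun b => sep (A ⊗[K] A) _ _ fun i => ?_
    apply (TensorProduct.AlgebraTensorModule.distribBaseChange K (Kv i) A A).injective
    show TensorProduct.AlgebraTensorModule.distribBaseChange K (Kv i) A A (1 ⊗ₜ[K] Algebra.TensorProduct.map va va (Coalgebra.comul (R := K) b)) =
      TensorProduct.AlgebraTensorModule.distribBaseChange K (Kv i) A A (1 ⊗ₜ[K] Coalgebra.comul (R := K) (v b))
    have h := CoalgHomClass.map_comp_comul_apply (u i) (1 ⊗ₜ[K] b)
    rw [hv, TensorProduct.comul_tmul, TensorProduct.comul_tmul, CommSemiring.comul_apply] at h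
    refine Eq.trans ?_ (h.trans ?_)
    · generalize Coalgebra.comul (R := K) b = z
      induction z using TensorProduct.induction_on with
      | zero => simp
      | add x y hx hy => simp only [map_add, TensorProduct.tmul_add, hx, hy]
      | tmul p q =>
        simp [va, ← hv]
    · generalize Coalgebra.comul (R := K) (v b) = z
      induction z using TensorProduct.induction_on with
      | zero => simp
      | add x y hx hy => simp only [map_add, TensorProduct.tmul_add, hx, hy]
      | tmul p q => simp
  let vb : B →ₐc[K] A := BialgHom.ofAlgHom va hcounit hcomul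
  have hbij : Function.Bijective vb := by
    refine ⟨fun b b' h => sep B _ _ fun i => (EquivLike.injective (u i)) (by rw [hv, hv]; exact congrArg _ h), fun a => ?_⟩
    by_contra hne
    obtain ⟨φ, hφa, hφ⟩ := Submodule.exists_dual_map_eq_bot_of_notMem (p := LinearMap.range va.toLinearMap) (x := a) (fun ⟨b, hb⟩ => hne ⟨b, hb⟩) inferInstance
    refine hφa (sepK _ 0 fun i => ?_)
    obtain ⟨z, hz⟩ := EquivLike.surjective (u i) (1 ⊗ₜ[K] a)
    have hzero : ∀ z, TensorProduct.rid K (Kv i) (φ.lTensor (Kv i) (u i z)) = 0 := by
      intro z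
      induction z using TensorProduct.induction_on with
      | zero => rw [map_zero (u i), map_zero, map_zero]
      | add x y hx hy => rw [map_add (u i), map_add, map_add, hx, hy, add_zero]
      | tmul t b =>
        rw [show t ⊗ₜ[K] b = t • ((1 : Kv i) ⊗ₜ[K] b) by simp [TensorProduct.smul_tmul'], map_smul (u i), hv, TensorProduct.smul_tmul']
        have hb0 : φ (v b) = 0 := by
          have : φ (v b) ∈ (LinearMap.range va.toLinearMap).map φ := Submodule.mem_map_of_mem ⟨b, rfl⟩
          rwa [hφ, Submodule.mem_bot] at this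
        simp [hb0]
    have := hzero z
    rw [hz, LinearMap.lTensor_tmul, TensorProduct.rid_tmul] at this
    rw [map_zero, Algebra.algebraMap_eq_smul_one]
    exact this
  refine ⟨BialgEquiv.ofBijective vb hbij, fun i b => hv b i, fun v' hv' => ?_⟩
  refine BialgEquiv.ext fun b => sep A _ _ fun i => ?_
  exact (hv' i b).symm.trans (hv b i)

end Groth.Agent.S15411
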