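import Mathlib
import Groth.Statements.S15412
-- import your own Groth.Agent.* helpers here

set_option autoImplicit false
universe w v u
open CategoryTheory Opposite
open Bitors

namespace Groth.Agent.S15412

/-- On a site, let G and H be sheaves of groups and P a sheaf of sets with a left G-action which is
simply transitive on every set of sections P(U). The right H-actions on P that are compatible with
restriction, commute with the G-action and are simply transitive on every P(U) (for P a G-torsor:
the structures of (G, H)-bitorsor on P) correspond exactly to the families of group isomorphisms φ_p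
: H(U) ≃ G(U), one for each section p of P over each U, compatible with restriction and with φ_{g·p}
= g φ_p g⁻¹ (the equivariant maps from P to the sheaf of isomorphisms from H to G); the
correspondence is the rule p · h = φ_p(h) · p, and the statement is that every right structure
arises by this rule from exactly one family and every family from exactly one right structure. (The
published statement takes P a left G-torsor; only the simple transitivity of the G-action on
sections enters, so local existence of sections is not assumed.) -/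
theorem result
    {C : Type u} [Category.{v} C] {J : GrothendieckTopology C}
    (G H : Sheaf J GrpCat.{w}) (P : NonAbH1.GSheaf G) (hP : P.IsPseudoTorsor) :
    (∀ ρ : Bitors.RightStr P H, ∃! φ : Bitors.IsomFamily P H,
        ∀ (U : Cᵒᵖ) (p : P.P.obj.obj U) (h : H.obj.obj U), ρ.rsmul p h = P.smul (φ.φ p h) p) ∧
    (∀ φ : Bitors.IsomFamily P H, ∃! ρ : Bitors.RightStr P H,
        ∀ (U : Cᵒᵖ) (p : P.P.obj.obj U) (h : H.obj.obj U), ρ.rsmul p h = P.smul (φ.φ p h) p) := by
  have free : ∀ {U : Cᵒᵖ} (g g' : G.obj.obj U) (p : P.P.obj.obj U), P.smul g p = P.smul g' p → g = g' :=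
    fun {U} g g' p h => (hP U p (P.smul g' p)).unique h rfl
  refine ⟨fun ρ => ?_, fun φ => ?_⟩
  · let f : ∀ {U : Cᵒᵖ}, P.P.obj.obj U → H.obj.obj U → G.obj.obj U := fun p h =>
      (hP _ p (ρ.rsmul p h)).exists.choose
    have hf : ∀ {U : Cᵒᵖ} (p : P.P.obj.obj U) (h : H.obj.obj U), P.smul (f p h) p = ρ.rsmul p h := fun p h =>
      (hP _ p (ρ.rsmul p h)).exists.choose_spec
    let φ : Bitors.IsomFamily P H :=
      { φ := fun {U} p => MulEquiv.ofBijective (MonoidHom.mk' (f p) (fun h h' => free _ _ p (by
            rw [hf, P.mul_smul, hf, ρ.rsmul_mul, ← hf p h, ρ.smul_rsmul])))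
          ⟨fun h h' e => (ρ.existsUnique_rsmul p (ρ.rsmul p h')).unique
              ((hf p h).symm.trans ((congrArg (P.smul · p) (show f p h = f p h' from e)).trans (hf p h'))) rfl,
            fun g => by
              obtain ⟨h, hh, -⟩ := ρ.existsUnique_rsmul p (P.smul g p)
              exact ⟨h, free _ _ p ((hf p h).trans hh)⟩⟩
        map_φ := fun {U V} t p h => free _ _ (P.P.obj.map t p) (by
          show P.smul (G.obj.map t (f p h)) _ = P.smul (f _ _) _
          rw [hf, ← P.map_smul, hf, ρ.map_rsmul])
        φ_smul := fun {U} g p h => free _ _ (P.smul g p) (by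
          show P.smul (f (P.smul g p) h) _ = P.smul (g * f p h * g⁻¹) _
          rw [hf, ρ.smul_rsmul, ← hf p h, ← P.mul_smul, ← P.mul_smul, inv_mul_cancel_right]) }
    refine ⟨φ, fun U p h => (hf p h).symm, fun ψ hψ => ?_⟩
    have : ∀ (U : Cᵒᵖ) (p : P.P.obj.obj U), ψ.φ p = φ.φ p := fun U p =>
      MulEquiv.ext fun h => free _ _ p (((hψ U p h).symm).trans (hf p h).symm)
    obtain ⟨ψ₁, ψ₂, ψ₃⟩ := ψ
    obtain rfl : @ψ₁ = @φ.φ := by funext U p; exact this U p
    rfl
  · let ρ : Bitors.RightStr P H :=
      { rsmul := fun {U} p h => P.smul (φ.φ p h) p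
        rsmul_one := fun p => by rw [map_one, P.one_smul]
        rsmul_mul := fun p h h' => by
          rw [← P.mul_smul, φ.φ_smul, inv_mul_cancel_right, map_mul]
        map_rsmul := fun t p h => by rw [P.map_smul, φ.map_φ]
        smul_rsmul := fun g p h => by rw [φ.φ_smul, ← P.mul_smul, inv_mul_cancel_right, P.mul_smul]
        existsUnique_rsmul := fun {U} p q => by
          obtain ⟨g, hg, hu⟩ := hP U p q
          exact ⟨(φ.φ p).symm g, by simp [hg], fun h hh => by rw [← hu _ hh, MulEquiv.symm_apply_apply]⟩ }
    refine ⟨ρ, fun U p h => rfl, fun σ hσ => ?_⟩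
    obtain ⟨σ₁, σ₂, σ₃, σ₄, σ₅, σ₆⟩ := σ
    obtain rfl : @σ₁ = @ρ.rsmul := by funext U p h; exact hσ U p h
    rfl

end Groth.Agent.S15412
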