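import Groth.Statements.S15427
import Mathlib
import Groth.Agent.GrSyzHilb.Basic
-- import your own Groth.Agent.* helpers here

set_option autoImplicit false
universe u
open GrSyz

namespace Groth.Agent.S15427

section
variable {k : Type u} [Field k] {r : ℕ}

theorem one_notMem : (1 : MvPolynomial (Fin (r + 1)) k) ∉ (GrSyz.irrel (GrSyz.stdGr k (Fin (r + 1)))).toIdeal :=
  fun h => by simpa using GrSyzHilb.irrel_le (1 : MvPolynomial (Fin (r + 1)) k) h

theorem isUnit_entry {n : ℤ} {c : MvPolynomial (Fin (r + 1)) k} (hc : c ∈ GrSyz.stdGr k (Fin (r + 1)) n)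
    (hni : c ∉ (GrSyz.irrel (GrSyz.stdGr k (Fin (r + 1)))).toIdeal) : IsUnit c := by
  rcases lt_trichotomy n 0 with h | h | h
  · rw [GrSyzHilb.piece_neg h, Submodule.mem_bot] at hc
    exact absurd (hc ▸ zero_mem _) hni
  · subst h
    have hmem : MvPolynomial.C (MvPolynomial.constantCoeff c) ∈ GrSyz.stdGr k (Fin (r + 1)) 0 :=
      MvPolynomial.isWeightedHomogeneous_C _ _
    have hC : c = MvPolynomial.C (MvPolynomial.constantCoeff c) :=
      sub_eq_zero.1 (GrSyzHilb.piece_zero (sub_mem hc hmem) (by simp))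
    rw [hC]
    refine (isUnit_iff_ne_zero.2 fun h0 => hni ?_).map MvPolynomial.C
    rw [GrSyzHilb.piece_zero hc h0]
    exact zero_mem _
  · exact absurd (show c ∈ (GrSyz.irrel (GrSyz.stdGr k (Fin (r + 1)))).toIdeal from Ideal.subset_span ⟨n, h, hc⟩) hni

theorem exists_rel {R V : Type u} [CommRing R] [AddCommGroup V] [Module R V] {m : ℕ} (v : Fin m → V) (b : Fin m)
    (hb : v b ∈ Submodule.span R (v '' {q | q ≠ b})) :
    ∃ c : Fin m → R, Fintype.linearCombination R v c = 0 ∧ c b = 1 := by
  classical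
  suffices h : Submodule.span R (v '' {q | q ≠ b}) ≤
      (LinearMap.ker (LinearMap.proj b : (Fin m → R) →ₗ[R] R)).map (Fintype.linearCombination R v) by
    obtain ⟨c, hc, hcb⟩ := h hb
    refine ⟨Pi.single b 1 - c, ?_, ?_⟩
    · rw [map_sub, hcb, Fintype.linearCombination_apply_single, one_smul, sub_self]
    · rw [Pi.sub_apply, Pi.single_eq_same, show c b = 0 from hc, sub_zero]
  refine Submodule.span_le.2 ?_
  rintro _ ⟨q, hq, rfl⟩
  refine ⟨Pi.single q 1, ?_, ?_⟩
  · exact LinearMap.mem_ker.2 (Pi.single_eq_of_ne (Ne.symm hq) 1)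
  · rw [Fintype.linearCombination_apply_single, one_smul]

variable {M : Type u} [AddCommGroup M] [Module k M] [Module (MvPolynomial (Fin (r + 1)) k) M]
  {ℳ : ℤ → Submodule k M} [DirectSum.Decomposition ℳ] [SetLike.GradedSMul (GrSyz.stdGr k (Fin (r + 1))) ℳ]

theorem mulVec_mem (F : GrSyz.FreeRes (GrSyz.stdGr k (Fin (r + 1))) ℳ)
    (hF : F.IsMinimal (GrSyz.irrel (GrSyz.stdGr k (Fin (r + 1)))).toIdeal) (i : ℕ)
    (w : Fin (F.rk (i + 1)) → MvPolynomial (Fin (r + 1)) k) (b : Fin (F.rk i)) :
    Matrix.mulVecLin (F.d i) w b ∈ (GrSyz.irrel (GrSyz.stdGr k (Fin (r + 1)))).toIdeal := by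
  rw [Matrix.mulVecLin_apply]
  show (∑ c, F.d i b c * w c) ∈ _
  exact Submodule.sum_mem _ fun c _ => Ideal.mul_mem_right _ _ (hF i b c)

end

/-- Let k be a field, S = k[x_0, …, x_r] graded by degree, 𝔪 = (x_0, …, x_r), M a finitely generated
ℤ-graded S-module and F a graded free resolution of M by free modules of finite rank with chosen
homogeneous bases, written as matrices d_i : F_{i+1} → F_i together with the images aug b ∈ M of the
basis of F_0. Then F is a minimal complex (every matrix entry lies in 𝔪) if and only if every map of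
the resolution carries its basis to an irredundant (minimal) family of generators of its image: for
each b, aug b is not in the S-span of the remaining aug b', and for each i and each column of d_i,
that column is not in the S-span of the remaining columns. -/
theorem result (k : Type u) [Field k] (r : ℕ)
    (M : Type u) [AddCommGroup M] [Module k M] [Module (MvPolynomial (Fin (r + 1)) k) M]
    [IsScalarTower k (MvPolynomial (Fin (r + 1)) k) M] [Module.Finite (MvPolynomial (Fin (r + 1)) k) M]
    (ℳ : ℤ → Submodule k M) [DirectSum.Decomposition ℳ] [SetLike.GradedSMul (GrSyz.stdGr k (Fin (r + 1))) ℳ]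
    (F : GrSyz.FreeRes (GrSyz.stdGr k (Fin (r + 1))) ℳ) :
    F.IsMinimal (GrSyz.irrel (GrSyz.stdGr k (Fin (r + 1)))).toIdeal ↔
      ((∀ b : Fin (F.rk 0), F.aug b ∉ Submodule.span (MvPolynomial (Fin (r + 1)) k) (F.aug '' {b' | b' ≠ b})) ∧
        ∀ (i : ℕ) (b : Fin (F.rk (i + 1))),
          (fun a => F.d i a b) ∉ Submodule.span (MvPolynomial (Fin (r + 1)) k) ((fun b' a => F.d i a b') '' {b' | b' ≠ b})) := by
  classical
  constructor
  · intro hF
    refine ⟨fun b hb => ?_, fun i b hb => ?_⟩
    · obtain ⟨v, hv, hvb⟩ := exists_rel F.aug b hb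
      obtain ⟨w, hw⟩ := F.exact_zero.le (LinearMap.mem_ker.2 hv)
      exact one_notMem (k := k) (r := r) (hvb ▸ hw ▸ mulVec_mem F hF 0 w b)
    · obtain ⟨v, hv, hvb⟩ := exists_rel (fun b a => F.d i a b) b hb
      have hv' : Matrix.mulVecLin (F.d i) v = 0 := by
        rw [Matrix.mulVecLin_apply, ← hv, Fintype.linearCombination_apply]
        funext a
        simp [Matrix.mulVec, dotProduct, mul_comm]
      obtain ⟨w, hw⟩ := (F.exact_succ i).le (LinearMap.mem_ker.2 hv')
      exact one_notMem (k := k) (r := r) (hvb ▸ hw ▸ mulVec_mem F hF (i + 1) w b)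
  · rintro ⟨h0, hs⟩ i p b
    by_contra hni
    have hu := isUnit_entry (F.d_mem i p b) hni
    have hcol : ∀ (V : Type u) [AddCommGroup V] [Module (MvPolynomial (Fin (r + 1)) k) V]
        (v : Fin (F.rk i) → V), Fintype.linearCombination (MvPolynomial (Fin (r + 1)) k) v (fun a => F.d i a b) = 0 →
        v p ∈ Submodule.span (MvPolynomial (Fin (r + 1)) k) (v '' {q | q ≠ p}) := by
      intro V _ _ v hv
      rw [Fintype.linearCombination_apply, ← Finset.add_sum_erase _ _ (Finset.mem_univ p), add_eq_zero_iff_eq_neg] at hv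
      obtain ⟨w, hw⟩ := hu.exists_left_inv
      rw [← one_smul (MvPolynomial (Fin (r + 1)) k) (v p), ← hw, mul_smul, hv]
      exact Submodule.smul_mem _ _ (neg_mem (sum_mem fun q hq => Submodule.smul_mem _ _
        (Submodule.subset_span ⟨q, Finset.ne_of_mem_erase hq, rfl⟩)))
    have hsingle : Matrix.mulVecLin (F.d i) (Pi.single b 1) = fun a => F.d i a b := by
      rw [Matrix.mulVecLin_apply, Matrix.mulVec_single_one]; rfl
    cases i with
    | zero =>
      refine h0 p (hcol M F.aug (LinearMap.mem_ker.1 (F.exact_zero.ge ⟨Pi.single b 1, hsingle⟩)))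
    | succ i =>
      refine hs i p (hcol (Fin (F.rk i) → MvPolynomial (Fin (r + 1)) k) (fun q a => F.d i a q) ?_)
      have h := LinearMap.mem_ker.1 ((F.exact_succ i).ge ⟨Pi.single b 1, hsingle⟩)
      rw [Matrix.mulVecLin_apply] at h
      rw [← h, Fintype.linearCombination_apply]
      funext a
      simp [Matrix.mulVec, dotProduct, mul_comm]

end Groth.Agent.S15427
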