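import Groth.Statements.S15429
import Mathlib
import Groth.Agent.GrSyzHilb.Basic
-- import your own Groth.Agent.* helpers here

set_option autoImplicit false
universe u
open GrSyz

namespace Groth.Agent.S15429

/-- Let k be a field, S = k[x_0, …, x_r] graded by degree and M a ℤ-graded S-module with a finite graded
free resolution 0 → F_m → … → F_0 → M → 0 by free modules of finite rank with homogeneous bases, the
basis vectors of F_i having degrees a_{i,b}. Then there is a polynomial P with rational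
coefficients, the Hilbert polynomial of M, with dim_k M_d = P(d) for every integer d such that d ≥
a_{i,b} − r for all i and b. -/
theorem result (k : Type u) [Field k] (r : ℕ)
    (M : Type u) [AddCommGroup M] [Module k M] [Module (MvPolynomial (Fin (r + 1)) k) M]
    [IsScalarTower k (MvPolynomial (Fin (r + 1)) k) M] [Module.Finite (MvPolynomial (Fin (r + 1)) k) M]
    (ℳ : ℤ → Submodule k M) [DirectSum.Decomposition ℳ] [SetLike.GradedSMul (GrSyz.stdGr k (Fin (r + 1))) ℳ]
    (F : GrSyz.FreeRes (GrSyz.stdGr k (Fin (r + 1))) ℳ) (m : ℕ) (hF : F.HasLengthLE m) :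
    ∃ P : Polynomial ℚ, ∀ d : ℤ, (∀ (i : ℕ) (b : Fin (F.rk i)), F.deg i b - (r : ℤ) ≤ d) →
      ((Module.finrank k ↥(ℳ d) : ℤ) : ℚ) = P.eval (d : ℚ) := by
  classical
  let T : ℤ → Polynomial ℚ := fun a =>
    Polynomial.C ((r.factorial : ℚ)⁻¹) * (descPochhammer ℚ r).comp (Polynomial.X + Polynomial.C (((r : ℤ) - a : ℤ) : ℚ))
  refine ⟨∑ i ∈ Finset.range (m + 1), Polynomial.C ((-1 : ℚ) ^ i) * ∑ b : Fin (F.rk i), T (F.deg i b), fun d hd => ?_⟩
  have hT : ∀ a : ℤ, a - (r : ℤ) ≤ d →
      (T a).eval (d : ℚ) = (((if a ≤ d then ((Nat.choose (r + (d - a).toNat) r : ℕ) : ℤ) else 0) : ℤ) : ℚ) := by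
    intro a ha
    obtain ⟨q, hq⟩ : ∃ q : ℕ, (d : ℤ) + ((r : ℤ) - a) = q := ⟨(d + (r - a)).toNat, by omega⟩
    have hq' : (d : ℚ) + (((r : ℤ) - a : ℤ) : ℚ) = (q : ℚ) := by exact_mod_cast hq
    have he : (T a).eval (d : ℚ) = (Nat.choose q r : ℚ) := by
      simp only [T, Polynomial.eval_mul, Polynomial.eval_C, Polynomial.eval_comp, Polynomial.eval_add, Polynomial.eval_X]
      rw [hq', descPochhammer_eval_eq_descFactorial, Nat.descFactorial_eq_factorial_mul_choose, Nat.cast_mul,
        ← mul_assoc, inv_mul_cancel₀ (by exact_mod_cast r.factorial_ne_zero), one_mul]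
    rw [he]
    by_cases h : a ≤ d
    · rw [if_pos h, show r + (d - a).toNat = q by omega]; push_cast; rfl
    · rw [if_neg h, Nat.choose_eq_zero_of_lt (by omega)]; simp
  rw [GrSyzHilb.hilbert F d hF, Polynomial.eval_finsetSum]
  push_cast
  refine Finset.sum_congr rfl fun i _ => ?_
  rw [Polynomial.eval_mul, Polynomial.eval_C, Polynomial.eval_finsetSum]
  refine congrArg _ (Finset.sum_congr rfl fun b _ => ?_)
  rw [hT _ (hd i b)]
  split_ifs <;> simp

end Groth.Agent.S15429
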