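import Groth.Statements.S15430
import Mathlib
import Groth.Agent.GrSyzMore.Length
-- import your own Groth.Agent.* helpers here

set_option autoImplicit false
universe u
open GrSyz

namespace Groth.Agent.S15430

section
open CategoryTheory GrSyzMore

variable {A : Type u} [CommRing A]

theorem proj_of_ker {m : ℕ} {V : Type u} [AddCommGroup V] [Module A V] (p : (Fin m → A) →ₗ[A] V)
    (hp : Function.Surjective p) (h : LinearMap.ker p = ⊥) : Projective (ModuleCat.of A V) := by
  rw [← IsProjective.iff_projective]
  exact Module.Projective.of_equiv (LinearEquiv.ofBijective p ⟨LinearMap.ker_eq_bot.1 h, hp⟩)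

theorem pd_cover {m : ℕ} {V : Type u} [AddCommGroup V] [Module A V] (p : (Fin m → A) →ₗ[A] V)
    (hp : Function.Surjective p) {K : Submodule A (Fin m → A)} (hK : LinearMap.ker p = K) (n : ℕ) :
    HasProjectiveDimensionLE (ModuleCat.of A V) (n + 1) ↔ HasProjectiveDimensionLE (ModuleCat.of A K) n := by
  subst hK
  let S : ShortComplex (ModuleCat.{u} A) := ShortComplex.mk (ModuleCat.ofHom (LinearMap.ker p).subtype)
    (ModuleCat.ofHom p) (ModuleCat.hom_ext (LinearMap.ext fun z => z.2))
  have hS : S.ShortExact :=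
    { exact := (ShortComplex.ShortExact.moduleCat_exact_iff_function_exact S).2 (LinearMap.exact_subtype_ker_map p)
      mono_f := (ModuleCat.mono_iff_injective _).2 Subtype.val_injective
      epi_g := (ModuleCat.epi_iff_surjective _).2 hp }
  exact hS.hasProjectiveDimensionLT_X₃_iff n (by
    show Projective (ModuleCat.of A (Fin m → A))
    rw [← IsProjective.iff_projective]; infer_instance)

variable {k : Type u} [Field k] {r : ℕ}

theorem ker_eq_bot_of_proj {V : Type u} [AddCommGroup V] [Module (MvPolynomial (Fin (r + 1)) k) V] {m : ℕ}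
    (p : (Fin m → MvPolynomial (Fin (r + 1)) k) →ₗ[MvPolynomial (Fin (r + 1)) k] V) (hp : Function.Surjective p)
    (hV : Projective (ModuleCat.of (MvPolynomial (Fin (r + 1)) k) V))
    (hmin : LinearMap.ker p ≤ idl k r (r + 1) • (⊤ : Submodule (MvPolynomial (Fin (r + 1)) k) (Fin m → MvPolynomial (Fin (r + 1)) k))) :
    LinearMap.ker p = ⊥ := by
  haveI : Module.Projective (MvPolynomial (Fin (r + 1)) k) V :=
    (IsProjective.iff_projective (R := MvPolynomial (Fin (r + 1)) k) V).2 hV
  obtain ⟨s, hs⟩ := Module.projective_lifting_property p LinearMap.id hp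
  let q := LinearMap.id - s ∘ₗ p
  have hq : ∀ v ∈ LinearMap.ker p, q v = v := fun v hv => by
    show v - s (p v) = v
    rw [LinearMap.mem_ker.1 hv, map_zero, sub_zero]
  have hqr : LinearMap.range q ≤ LinearMap.ker p := by
    rintro _ ⟨v, rfl⟩
    show p (v - s (p v)) = 0
    rw [map_sub, show p (s (p v)) = p v from LinearMap.congr_fun hs (p v), sub_self]
  set I := idl k r (r + 1)
  have h2 : LinearMap.ker p ≤ I • LinearMap.ker p := fun v hv => by
    have hmem := Submodule.mem_map_of_mem (f := q) (hmin hv)
    rw [Submodule.map_smul'', Submodule.map_top, hq v hv] at hmem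
    exact Submodule.smul_mono le_rfl hqr hmem
  have h3 : ∀ t : ℕ, LinearMap.ker p ≤ I ^ t • (⊤ : Submodule _ (Fin m → MvPolynomial (Fin (r + 1)) k)) := by
    intro t
    induction t with
    | zero => rw [pow_zero, Ideal.one_eq_top, Submodule.top_smul]; exact le_top
    | succ t ih => rw [pow_succ', Submodule.mul_smul]; exact h2.trans (Submodule.smul_mono le_rfl ih)
  have hne : I ≠ ⊤ := fun h => by
    have h1' : (1 : MvPolynomial (Fin (r + 1)) k) ∈ (GrSyz.irrel (GrSyz.stdGr k (Fin (r + 1)))).toIdeal := by
      rw [irrel_eq]; show (1 : MvPolynomial (Fin (r + 1)) k) ∈ I; rw [h]; trivial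
    simpa using GrSyzHilb.irrel_le (1 : MvPolynomial (Fin (r + 1)) k) h1'
  refine (Submodule.eq_bot_iff _).2 fun v hv => funext fun b => ?_
  show v b = 0
  rw [← Submodule.mem_bot (MvPolynomial (Fin (r + 1)) k), ← Ideal.iInf_pow_eq_bot_of_isDomain I hne, Submodule.mem_iInf]
  exact fun t => (mem_smul_pi _).1 (h3 t hv) b

variable {M : Type u} [AddCommGroup M] [Module k M] [Module (MvPolynomial (Fin (r + 1)) k) M]
  [IsScalarTower k (MvPolynomial (Fin (r + 1)) k) M]
  {ℳ : ℤ → Submodule k M} [DirectSum.Decomposition ℳ] [SetLike.GradedSMul (GrSyz.stdGr k (Fin (r + 1))) ℳ]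
  (F : GrSyz.FreeRes (GrSyz.stdGr k (Fin (r + 1))) ℳ)

/-- The module covered at stage `n`. -/
noncomputable def Vn : ℕ → ModuleCat.{u} (MvPolynomial (Fin (r + 1)) k)
  | 0 => ModuleCat.of _ M
  | n + 1 => ModuleCat.of _ (LinearMap.range (F.dLin n))

theorem main (n : ℕ) : HasProjectiveDimensionLE (ModuleCat.of (MvPolynomial (Fin (r + 1)) k) M) n ↔ Projective (Vn F n) := by
  have key : ∀ (t i : ℕ), HasProjectiveDimensionLE (ModuleCat.of (MvPolynomial (Fin (r + 1)) k) (LinearMap.range (F.dLin i))) t ↔
      Projective (Vn F (i + 1 + t)) := by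
    intro t
    induction t with
    | zero => intro i; exact (projective_iff_hasProjectiveDimensionLE_zero _).symm
    | succ t ih =>
      intro i
      rw [show i + 1 + (t + 1) = i + 1 + 1 + t by omega, ← ih (i + 1)]
      exact pd_cover (F.dLin i).rangeRestrict (F.dLin i).surjective_rangeRestrict
        ((LinearMap.ker_rangeRestrict _).trans (F.exact_succ i)) t
  cases n with
  | zero => exact (projective_iff_hasProjectiveDimensionLE_zero _).symm
  | succ n =>
    rw [pd_cover F.augLin F.aug_surjective F.exact_zero n]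
    rw [show n + 1 = 0 + 1 + n by omega]
    exact key n 0

theorem range_eq_bot (i : ℕ) (h : F.rk (i + 1) = 0) : LinearMap.range (F.dLin i) = ⊥ := by
  haveI : IsEmpty (Fin (F.rk (i + 1))) := by rw [h]; infer_instance
  rw [Subsingleton.elim (F.dLin i) 0, LinearMap.range_zero]

theorem rk_zero (hF : F.IsMinimal (GrSyz.irrel (GrSyz.stdGr k (Fin (r + 1)))).toIdeal) (i : ℕ)
    (h : LinearMap.range (F.dLin i) = ⊥) : F.rk (i + 1) = 0 := by
  by_contra hne
  obtain ⟨c, hc⟩ := GrSyzHilb.column_ne_zero F hF i ⟨0, Nat.pos_of_ne_zero hne⟩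
  refine hc ?_
  have hz : F.dLin i (Pi.single ⟨0, Nat.pos_of_ne_zero hne⟩ 1) = 0 := by
    rw [← Submodule.mem_bot (MvPolynomial (Fin (r + 1)) k), ← h]; exact ⟨_, rfl⟩
  have := congrFun hz c
  rwa [GrSyz.FreeRes.dLin, Matrix.mulVecLin_apply, Matrix.mulVec_single_one] at this

end

/-- Let k be a field, S = k[x_0, …, x_r] graded by degree, 𝔪 = (x_0, …, x_r), M a finitely generated
ℤ-graded S-module and F a minimal graded free resolution of M by free modules of finite rank with
homogeneous bases (all matrix entries in 𝔪). Then the length of F is the projective dimension of M: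
for every natural number n, all terms F_i with i > n vanish if and only if M has projective
dimension at most n as an S-module (all Ext^i_S(M, −) with i > n vanish). -/
theorem result (k : Type u) [Field k] (r : ℕ)
    (M : Type u) [AddCommGroup M] [Module k M] [Module (MvPolynomial (Fin (r + 1)) k) M]
    [IsScalarTower k (MvPolynomial (Fin (r + 1)) k) M] [Module.Finite (MvPolynomial (Fin (r + 1)) k) M]
    (ℳ : ℤ → Submodule k M) [DirectSum.Decomposition ℳ] [SetLike.GradedSMul (GrSyz.stdGr k (Fin (r + 1))) ℳ]
    (F : GrSyz.FreeRes (GrSyz.stdGr k (Fin (r + 1))) ℳ) (hF : F.IsMinimal (GrSyz.irrel (GrSyz.stdGr k (Fin (r + 1)))).toIdeal) (n : ℕ) :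
    F.HasLengthLE n ↔ CategoryTheory.HasProjectiveDimensionLE (ModuleCat.of (MvPolynomial (Fin (r + 1)) k) M) n := by
  rw [main F n]
  constructor
  · intro h
    cases n with
    | zero => exact proj_of_ker (F.augLin) F.aug_surjective (by
        rw [GrSyz.FreeRes.augLin, F.exact_zero]; exact range_eq_bot F 0 (h 1 Nat.one_pos))
    | succ n => exact proj_of_ker (F.dLin n).rangeRestrict (F.dLin n).surjective_rangeRestrict (by
        rw [LinearMap.ker_rangeRestrict, GrSyz.FreeRes.dLin, F.exact_succ n]; exact range_eq_bot F (n + 1) (h (n + 2) (Nat.lt_succ_self _)))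
  · intro h
    have hinj : F.rk (n + 1) = 0 := by
      cases n with
      | zero =>
        have h0 := ker_eq_bot_of_proj F.augLin F.aug_surjective h (by
          rw [GrSyz.FreeRes.augLin, F.exact_zero]; exact GrSyzMore.range_le F hF 0)
        rw [GrSyz.FreeRes.augLin, F.exact_zero] at h0
        exact rk_zero F hF 0 h0
      | succ n =>
        have h0 := ker_eq_bot_of_proj (F.dLin n).rangeRestrict (F.dLin n).surjective_rangeRestrict h (by
          rw [LinearMap.ker_rangeRestrict, GrSyz.FreeRes.dLin, F.exact_succ n]; exact GrSyzMore.range_le F hF (n + 1))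
        rw [LinearMap.ker_rangeRestrict, GrSyz.FreeRes.dLin, F.exact_succ n] at h0
        exact rk_zero F hF (n + 1) h0
    intro i hi
    obtain ⟨l, rfl⟩ : ∃ l, i = n + 1 + l := ⟨i - (n + 1), by omega⟩
    clear hi
    induction l with
    | zero => exact hinj
    | succ l ih =>
      rw [show n + 1 + (l + 1) = (n + l) + 2 by omega]
      refine GrSyzMore.rk_succ_eq_zero F hF ((Submodule.eq_bot_iff _).2 fun v _ => funext fun b => ?_)
      haveI : IsEmpty (Fin (F.rk (n + l + 1))) := by
        rw [show n + l + 1 = n + 1 + l by omega, ih]; infer_instance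
      exact isEmptyElim b

end Groth.Agent.S15430
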