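import Groth.Statements.S15432
import Groth.Agent.GrSyzHilb.Basic
import Mathlib.RingTheory.MvPolynomial.Homogeneous

set_option autoImplicit false
universe u
open GrSyz

namespace Groth.Agent.S15432


open Matrix in
/-- A matrix with injective action and enough left relations has no zero corner block. -/
theorem block {R : Type*} [CommRing R] [IsDomain R] {t : ℕ} (B : Matrix (Fin (t + 1)) (Fin t) R)
    (hinj : ∀ v, B *ᵥ v = 0 → v = 0) (hleft : ∀ i', ∃ w, w ᵥ* B = 0 ∧ w i' ≠ 0) (i : Fin t) :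
    ∃ j l, j ≤ i.castSucc ∧ i ≤ l ∧ B j l ≠ 0 := by
  classical
  by_contra h
  push Not at h
  let A : Matrix {l : Fin t // i ≤ l} {l : Fin t // i ≤ l} R := fun x y => B x.1.succ y.1
  have hA : A.det ≠ 0 := fun h0 => by
    obtain ⟨v, hv, hAv⟩ := Matrix.exists_mulVec_eq_zero_iff.2 h0
    let v' : Fin t → R := fun l => if hl : i ≤ l then v ⟨l, hl⟩ else 0
    have hsum : ∀ j, (B *ᵥ v') j = ∑ y : {l // i ≤ l}, B j y.1 * v y := by
      intro j
      simp only [mulVec, dotProduct]
      rw [← Fintype.sum_subtype_add_sum_subtype (fun l => i ≤ l) (fun l => B j l * v' l)]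
      have h2 : ∑ y : {l // ¬ i ≤ l}, B j y.1 * v' y.1 = 0 :=
        Finset.sum_eq_zero fun y _ => by simp [v', y.2]
      rw [h2, add_zero]
      exact Finset.sum_congr rfl fun y _ => by simp [v', y.2]
    have hv' : v' = 0 := hinj v' <| funext fun j => by
      rw [hsum, Pi.zero_apply]
      by_cases hj : j ≤ i.castSucc
      · exact Finset.sum_eq_zero fun y _ => by rw [h j y.1 hj y.2, zero_mul]
      · obtain ⟨x, rfl⟩ : ∃ x, j = Fin.succ x :=
          Fin.eq_succ_of_ne_zero (fun h0 => hj (h0 ▸ Fin.zero_le _))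
        have hx : i ≤ x := by
          simp only [Fin.le_def, Fin.val_castSucc, Fin.val_succ] at hj ⊢
          omega
        exact congrFun hAv ⟨x, hx⟩
    exact hv (funext fun y => by simpa [v', y.2] using congrFun hv' y.1)
  obtain ⟨w, hw, hwne⟩ := hleft (Fin.last t)
  refine hA (Matrix.exists_vecMul_eq_zero_iff.1 ⟨fun x => w x.1.succ, ?_, ?_⟩)
  · intro h0
    have hi := i.2
    have h1 := congrFun h0 ⟨⟨t - 1, by omega⟩, by simp only [Fin.le_def]; omega⟩
    refine hwne ?_
    rw [show Fin.last t = Fin.succ (⟨t - 1, by omega⟩ : Fin t) from Fin.ext (by simp; omega)]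
    exact h1
  · funext y
    have h1 := congrFun hw y.1
    simp only [vecMul, dotProduct, Pi.zero_apply] at h1 ⊢
    rw [Fin.sum_univ_succ, h 0 y.1 (Fin.zero_le _) y.2, mul_zero, zero_add,
      ← Fintype.sum_subtype_add_sum_subtype (fun l => i ≤ l)] at h1
    have h2 : ∑ x : {l // ¬ i ≤ l}, w x.1.succ * B x.1.succ y.1 = 0 :=
      Finset.sum_eq_zero fun x _ => by
        rw [h x.1.succ y.1 (by have := x.2; simp only [Fin.le_def, Fin.val_castSucc, Fin.val_succ] at this ⊢; omega) y.2, mul_zero]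
    rw [h2, add_zero] at h1
    exact h1

theorem two_choose (n : ℕ) : 2 * (((2 + n).choose 2 : ℕ) : ℤ) = ((n : ℤ) + 2) * (n + 1) := by
  induction n with
  | zero => simp
  | succ n ih =>
    rw [show 2 + (n + 1) = (2 + n) + 1 by ring, Nat.choose_succ_succ, Nat.choose_one_right]
    push_cast at ih ⊢
    linarith

theorem bounded_quadratic {A B C Z N : ℤ}
    (h : ∀ d, N ≤ d → 0 ≤ A * d ^ 2 + B * d + C ∧ A * d ^ 2 + B * d + C ≤ Z) : A = 0 ∧ B = 0 := by
  have hZ : 0 ≤ Z := (h N le_rfl).1.trans (h N le_rfl).2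
  have h0 := h N le_rfl
  have h1 := h (N + (4 * Z + 1)) (by linarith)
  have h2 := h (N + 2 * (4 * Z + 1)) (by linarith)
  have hA : A = 0 := by
    rcases lt_trichotomy A 0 with hA | hA | hA
    · have hA' : 0 ≤ -A - 1 := by linarith
      nlinarith [mul_nonneg hA' (sq_nonneg (4 * Z + 1))]
    · exact hA
    · have hA' : 0 ≤ A - 1 := by linarith
      nlinarith [mul_nonneg hA' (sq_nonneg (4 * Z + 1))]
  refine ⟨hA, ?_⟩
  subst hA
  rcases lt_trichotomy B 0 with hB | hB | hB
  · nlinarith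
  · exact hB
  · nlinarith

section
variable {k : Type u} [Field k]

theorem isHomogeneous_of_mem {σ : Type*} {p : MvPolynomial σ k} {d : ℕ}
    (hp : p ∈ GrSyz.stdGr k σ (d : ℤ)) : p.IsHomogeneous d := fun e he => by
  have h := hp he
  simp only [Finsupp.weight_apply, Finsupp.sum, smul_eq_mul, mul_one, Pi.one_apply, nsmul_eq_mul] at h ⊢
  exact_mod_cast h

variable {M : Type u} [AddCommGroup M] [Module k M] [Module (MvPolynomial (Fin 3) k) M]
  {ℳ : ℤ → Submodule k M} [DirectSum.Decomposition ℳ]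

open DirectSum in
theorem decompose_pi (π : MvPolynomial (Fin 3) k →ₗ[MvPolynomial (Fin 3) k] M)
    (hπg : GrLC.IsGrHom (GrSyz.stdGr k (Fin 3)) ℳ π) (p : MvPolynomial (Fin 3) k) (d : ℤ) :
    (decompose ℳ (π p) d : M) = π (decompose (GrSyz.stdGr k (Fin 3)) p d) := by
  induction p using DirectSum.Decomposition.inductionOn (GrSyz.stdGr k (Fin 3)) with
  | zero => simp
  | add a b ha hb =>
    rw [map_add, decompose_add, DirectSum.add_apply, Submodule.coe_add, ha, hb, decompose_add,
      DirectSum.add_apply, Submodule.coe_add, map_add]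
  | @homogeneous j a =>
    have hmem := hπg j a a.2
    by_cases h : d = j
    · subst h
      rw [decompose_of_mem_same ℳ hmem, decompose_of_mem_same (GrSyz.stdGr k (Fin 3)) a.2]
    · rw [decompose_of_mem_ne ℳ hmem (Ne.symm h),
        decompose_of_mem_ne (GrSyz.stdGr k (Fin 3)) a.2 (Ne.symm h), map_zero]

open DirectSum in
theorem exists_preimage (π : MvPolynomial (Fin 3) k →ₗ[MvPolynomial (Fin 3) k] M)
    (hπ : Function.Surjective π)
    (hπg : GrLC.IsGrHom (GrSyz.stdGr k (Fin 3)) ℳ π) {d : ℤ} {m : M} (hm : m ∈ ℳ d) :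
    ∃ p ∈ GrSyz.stdGr k (Fin 3) d, π p = m := by
  obtain ⟨p, rfl⟩ := hπ m
  exact ⟨_, Submodule.coe_mem _, by rw [← decompose_pi π hπg, decompose_of_mem_same ℳ hm]⟩

theorem finrank_le [IsScalarTower k (MvPolynomial (Fin 3) k) M]
    (Z : Finset (Fin 3 → k)) (I : Ideal (MvPolynomial (Fin 3) k))
    (hI : ∀ f : MvPolynomial (Fin 3) k, f ∈ I ↔
      ∀ p ∈ Z, ∀ j : ℕ, MvPolynomial.eval p (MvPolynomial.homogeneousComponent j f) = 0)
    (π : MvPolynomial (Fin 3) k →ₗ[MvPolynomial (Fin 3) k] M) (hπ : Function.Surjective π)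
    (hπg : GrLC.IsGrHom (GrSyz.stdGr k (Fin 3)) ℳ π) (hker : LinearMap.ker π = I) {d : ℤ}
    (hd : 0 ≤ d) : Module.finrank k (ℳ d) ≤ Z.card := by
  classical
  lift d to ℕ using hd
  have : Module.Finite k (GrSyz.stdGr k (Fin 3) (d : ℤ)) := GrSyzHilb.finite_piece (r := 2) _
  let πd : GrSyz.stdGr k (Fin 3) (d : ℤ) →ₗ[k] ℳ (d : ℤ) :=
    LinearMap.codRestrict _ ((π.restrictScalars k).comp (Submodule.subtype _))
      fun v => hπg _ _ v.2
  have hsurj : Function.Surjective πd := fun ⟨m, hm⟩ => by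
    obtain ⟨p, hp, hpm⟩ := exists_preimage π hπ hπg hm
    exact ⟨⟨p, hp⟩, Subtype.ext hpm⟩
  let ev : GrSyz.stdGr k (Fin 3) (d : ℤ) →ₗ[k] (↥Z → k) :=
    (LinearMap.pi fun z : ↥Z => (MvPolynomial.aeval (R := k) (S₁ := k) (z : Fin 3 → k)).toLinearMap).comp
      (Submodule.subtype _)
  have hle : LinearMap.ker ev ≤ LinearMap.ker πd := fun v hv => by
    rw [LinearMap.mem_ker] at hv ⊢
    refine Subtype.ext ?_
    show π (v : MvPolynomial (Fin 3) k) = 0
    rw [← LinearMap.mem_ker, hker, hI]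
    intro z hz j
    rw [MvPolynomial.homogeneousComponent_of_mem (isHomogeneous_of_mem v.2)]
    split_ifs with hj
    · exact congrFun hv ⟨z, hz⟩
    · exact map_zero _
  have h1 := πd.finrank_range_add_finrank_ker
  have h2 := ev.finrank_range_add_finrank_ker
  rw [LinearMap.range_eq_top.2 hsurj, finrank_top] at h1
  have h3 := Submodule.finrank_mono hle
  have h4 : Module.finrank k (LinearMap.range ev) ≤ Z.card :=
    (Submodule.finrank_le _).trans (by rw [Module.finrank_pi]; simp)
  omega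

end

/-- Let k be a field, Z a nonempty finite set of nonzero vectors of k^3, regarded as points of the
projective plane, I ⊆ S = k[x_0, x_1, x_2] the homogeneous vanishing ideal of Z (a polynomial lies
in I exactly when each of its homogeneous components vanishes at every vector of Z), M = S/I given
as a ℤ-graded S-module with a surjective degree-preserving S-linear map π : S → M with kernel I, and
F a minimal graded free resolution of M of length at most 2 whose terms F_1 and F_2 have ranks t + 1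
and t, with basis degrees a_1 ≥ … ≥ a_{t+1} for F_1 and b_1 ≥ … ≥ b_t for F_2 (non-increasing along
the chosen bases), so that the (i, j) entry of the matrix F_2 → F_1 has degree b_j − a_i. Put e_i =
b_i − a_i and f_i = b_i − a_{i+1}. Then e_i ≥ 1 and f_i ≥ 1 for every i, and Σ_i a_i = Σ_j b_j
(equivalently a_i = Σ_{j < i} e_j + Σ_{j ≥ i} f_j for every i). (The ordering of both bases is the
standing assumption under which the published statement is made; this row carries it as the
hypotheses on the basis degrees. The further inequalities f_i ≥ e_i and f_i ≥ e_{i+1} follow at once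
from the ordering and are not restated.) -/
theorem result (k : Type u) [Field k]
    (Z : Finset (Fin 3 → k)) (hZ : ∀ p ∈ Z, p ≠ 0) (hZne : Z.Nonempty) (I : Ideal (MvPolynomial (Fin 3) k))
    (hI : ∀ f : MvPolynomial (Fin 3) k, f ∈ I ↔
      ∀ p ∈ Z, ∀ j : ℕ, MvPolynomial.eval p (MvPolynomial.homogeneousComponent j f) = 0)
    (M : Type u) [AddCommGroup M] [Module k M] [Module (MvPolynomial (Fin 3) k) M] [IsScalarTower k (MvPolynomial (Fin 3) k) M]
    (ℳ : ℤ → Submodule k M) [DirectSum.Decomposition ℳ] [SetLike.GradedSMul (GrSyz.stdGr k (Fin 3)) ℳ]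
    (π : MvPolynomial (Fin 3) k →ₗ[MvPolynomial (Fin 3) k] M) (hπ : Function.Surjective π)
    (hπg : GrLC.IsGrHom (GrSyz.stdGr k (Fin 3)) ℳ π) (hker : LinearMap.ker π = I)
    (F : GrSyz.FreeRes (GrSyz.stdGr k (Fin 3)) ℳ) (hF : F.IsMinimal (GrSyz.irrel (GrSyz.stdGr k (Fin 3))).toIdeal) (hlen : F.HasLengthLE 2)
    (t : ℕ) (h1 : F.rk 1 = t + 1) (h2 : F.rk 2 = t)
    (ha : ∀ i j : Fin (t + 1), i ≤ j → F.deg 1 (Fin.cast h1.symm j) ≤ F.deg 1 (Fin.cast h1.symm i))
    (hb : ∀ i j : Fin t, i ≤ j → F.deg 2 (Fin.cast h2.symm j) ≤ F.deg 2 (Fin.cast h2.symm i)) :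
    (∀ i : Fin t, 1 ≤ F.deg 2 (Fin.cast h2.symm i) - F.deg 1 (Fin.cast h1.symm i.castSucc) ∧
        1 ≤ F.deg 2 (Fin.cast h2.symm i) - F.deg 1 (Fin.cast h1.symm i.succ)) ∧
      ∑ i : Fin (t + 1), F.deg 1 (Fin.cast h1.symm i) = ∑ j : Fin t, F.deg 2 (Fin.cast h2.symm j) := by
  classical
  have hdeg : ∀ i : Fin t, F.deg 1 (Fin.cast h1.symm i.castSucc) < F.deg 2 (Fin.cast h2.symm i) := by
    intro i
    by_contra hcon
    push Not at hcon
    let B : Matrix (Fin (t + 1)) (Fin t) (MvPolynomial (Fin 3) k) :=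
      fun x y => F.d 1 (Fin.cast h1.symm x) (Fin.cast h2.symm y)
    have hinj : ∀ v, Matrix.mulVec B v = 0 → v = 0 := by
      intro v hv
      let v' : Fin (F.rk (1 + 1)) → MvPolynomial (Fin 3) k := fun y => v (Fin.cast h2 y)
      have hv' : Matrix.mulVecLin (F.d 1) v' = 0 := by
        funext x
        have hx := congrFun hv (Fin.cast h1 x)
        simp only [Matrix.mulVecLin_apply, Matrix.mulVec, dotProduct, Pi.zero_apply] at hx ⊢
        rw [← (finCongr h2.symm).sum_comp]
        exact hx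
      rw [← LinearMap.mem_ker, F.exact_succ 1] at hv'
      obtain ⟨u, hu⟩ := hv'
      have h3 : F.rk (1 + 1 + 1) = 0 := hlen 3 (by norm_num)
      have : IsEmpty (Fin (F.rk (1 + 1 + 1))) := by rw [h3]; infer_instance
      funext y
      have := congrFun hu (Fin.cast h2.symm y)
      simpa [v', Matrix.mulVec, dotProduct] using this.symm
    have hleft : ∀ i', ∃ w, Matrix.vecMul w B = 0 ∧ w i' ≠ 0 := by
      intro i'
      obtain ⟨a, ha⟩ := GrSyzHilb.column_ne_zero (r := 2) F hF 0 (Fin.cast h1.symm i')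
      refine ⟨fun x => F.d 0 a (Fin.cast h1.symm x), ?_, ha⟩
      funext y
      have hker' : Matrix.mulVecLin (F.d 1) (Pi.single (Fin.cast h2.symm y) 1) ∈
          LinearMap.ker (Matrix.mulVecLin (F.d 0)) := by
        rw [F.exact_succ 0]
        exact LinearMap.mem_range_self _ _
      have := congrFun (LinearMap.mem_ker.1 hker') a
      simp only [Matrix.mulVecLin_apply, Matrix.mulVec_single_one, Pi.zero_apply] at this
      rw [Pi.zero_apply, ← this]
      simp only [Matrix.vecMul, Matrix.mulVec, dotProduct, B, Matrix.transpose_apply]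
      exact (finCongr h1.symm).sum_comp (fun x => F.d 0 a x * F.d 1 x (Fin.cast h2.symm y))
    obtain ⟨j, l, hj, hl, hjl⟩ := block B hinj hleft i
    have hh := GrSyzHilb.deg_lt (r := 2) F hF hjl
    have := ha j i.castSucc hj
    have := hb i l hl
    show False
    linarith
  refine ⟨fun i => ⟨by linarith [hdeg i], ?_⟩, ?_⟩
  · have := ha i.castSucc i.succ (Fin.castSucc_le_succ i)
    linarith [hdeg i]
  -- the Hilbert function
  let A : ℤ := (F.rk 0 : ℤ) - F.rk 1 + F.rk 2
  let S : ℤ := (∑ b, F.deg 0 b) - (∑ b, F.deg 1 b) + ∑ b, F.deg 2 b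
  let G : ℕ → ℤ := fun i => ∑ b, (2 - F.deg i b) * (1 - F.deg i b)
  let N : ℤ := (∑ b, |F.deg 0 b|) + (∑ b, |F.deg 1 b|) + ∑ b, |F.deg 2 b|
  have hN : ∀ i : ℕ, i ≤ 2 → ∀ b, F.deg i b ≤ N := by
    have hsum : ∀ i (b : Fin (F.rk i)), F.deg i b ≤ ∑ c, |F.deg i c| := fun i b =>
      (le_abs_self _).trans (Finset.single_le_sum (f := fun c => |F.deg i c|)
        (fun c _ => abs_nonneg _) (Finset.mem_univ b))
    intro i hi b
    have p0 : 0 ≤ ∑ b, |F.deg 0 b| := Finset.sum_nonneg fun _ _ => abs_nonneg _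
    have p1 : 0 ≤ ∑ b, |F.deg 1 b| := Finset.sum_nonneg fun _ _ => abs_nonneg _
    have p2 : 0 ≤ ∑ b, |F.deg 2 b| := Finset.sum_nonneg fun _ _ => abs_nonneg _
    have := hsum i b
    simp only [N]
    interval_cases i <;> linarith
  have hN0 : 0 ≤ N := by positivity
  have hquad : ∀ d, N ≤ d → 2 * (Module.finrank k (ℳ d) : ℤ) =
      A * d ^ 2 + (3 * A - 2 * S) * d + (G 0 - G 1 + G 2) := by
    intro d hd
    rw [GrSyzHilb.hilbert (r := 2) F d hlen]
    have hterm : ∀ i, i ≤ 2 → 2 * ∑ b : Fin (F.rk i),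
        (if F.deg i b ≤ d then ((Nat.choose (2 + (d - F.deg i b).toNat) 2 : ℕ) : ℤ) else 0) =
        F.rk i * d ^ 2 + (3 * (F.rk i : ℤ) - 2 * ∑ b, F.deg i b) * d + G i := by
      intro i hi
      rw [Finset.mul_sum, Finset.sum_congr rfl (g := fun b =>
        d ^ 2 + 3 * d - 2 * d * F.deg i b + (2 - F.deg i b) * (1 - F.deg i b))]
      · simp only [Finset.sum_add_distrib, Finset.sum_sub_distrib, Finset.sum_const,
          Finset.card_univ, Fintype.card_fin, nsmul_eq_mul, ← Finset.mul_sum, G]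
        ring
      · intro b _
        have hb' : F.deg i b ≤ d := (hN i hi b).trans hd
        rw [if_pos hb', two_choose, Int.toNat_of_nonneg (by linarith)]
        ring
    simp only [Finset.sum_range_succ, Finset.sum_range_zero]
    have e0 := hterm 0 (by norm_num)
    have e1 := hterm 1 (by norm_num)
    have e2 := hterm 2 le_rfl
    simp only [A, S]
    linear_combination e0 - e1 + e2
  obtain ⟨hA, hB⟩ := bounded_quadratic (A := A) (B := 3 * A - 2 * S) (C := G 0 - G 1 + G 2)
    (Z := 2 * (Z.card : ℤ)) (N := N) fun d hd => by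
      rw [← hquad d hd]
      have := finrank_le Z I hI π hπ hπg hker (hN0.trans hd)
      exact ⟨by positivity, by exact_mod_cast Nat.mul_le_mul_left 2 this⟩
  have hr0 : F.rk 0 = 1 := by
    simp only [A, h1, h2] at hA
    push_cast at hA
    omega
  have hone : π 1 ≠ 0 := by
    intro h0
    rw [← LinearMap.mem_ker, hker, hI] at h0
    obtain ⟨z, hz⟩ := hZne
    have := h0 z hz 0
    rw [MvPolynomial.homogeneousComponent_zero] at this
    simp at this
  have hone' : π 1 ∈ ℳ 0 := hπg 0 1 SetLike.GradedOne.one_mem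
  obtain ⟨v, hv⟩ := F.aug_surjective (π 1)
  have h00 : ∀ b, F.deg 0 b = 0 := by
    intro b
    have hsub : ∀ c, c = b := fun c => Fin.ext (by have := c.2; have := b.2; omega)
    have hv' : v b • F.aug b = π 1 := by
      rw [← hv, Fintype.linearCombination_apply,
        Finset.sum_eq_single b (fun c _ hc => absurd (hsub c) hc)
          (fun hc => absurd (Finset.mem_univ b) hc)]
    rcases lt_trichotomy (F.deg 0 b) 0 with hlt | heq | hgt
    · exfalso
      obtain ⟨p, hp, hpm⟩ := exists_preimage π hπ hπg (F.aug_mem b)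
      have hp0 : p = 0 := by
        have := GrSyzHilb.piece_neg (k := k) (r := 2) hlt
        rw [this] at hp
        exact (Submodule.mem_bot k).1 hp
      rw [← hpm, hp0, map_zero, smul_zero] at hv'
      exact hone hv'.symm
    · exact heq
    · exfalso
      refine hone ?_
      have h := GrSyzHilb.proj_smul (r := 2) (v b) (F.aug_mem b) 0
      rw [hv', DirectSum.decompose_of_mem_same ℳ hone'] at h
      rw [h]
      have hz : (DirectSum.decompose (GrSyz.stdGr k (Fin 3)) (v b) (0 - F.deg 0 b) :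
          MvPolynomial (Fin 3) k) = 0 := by
        have hm := Submodule.coe_mem (DirectSum.decompose (GrSyz.stdGr k (Fin 3)) (v b) (0 - F.deg 0 b))
        have hneg := GrSyzHilb.piece_neg (k := k) (r := 2) (n := 0 - F.deg 0 b) (by omega)
        exact (Submodule.mem_bot k).1 (hneg.le hm)
      exact (congrArg (fun s : MvPolynomial (Fin 3) k => s • F.aug b) hz).trans (zero_smul _ _)
  have e1 : ∑ b, F.deg 1 b = ∑ i : Fin (t + 1), F.deg 1 (Fin.cast h1.symm i) :=
    ((finCongr h1.symm).sum_comp _).symm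
  have e2 : ∑ b, F.deg 2 b = ∑ j : Fin t, F.deg 2 (Fin.cast h2.symm j) :=
    ((finCongr h2.symm).sum_comp _).symm
  have e0 : ∑ b, F.deg 0 b = 0 := Finset.sum_eq_zero fun b _ => h00 b
  simp only [S] at hB
  linarith [hA, hB, e0, e1, e2]

end Groth.Agent.S15432
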