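import Groth.Statements.S15433
import Mathlib
import Groth.Agent.GrInj.StdReg
-- import your own Groth.Agent.* helpers here

set_option autoImplicit false
universe u
open GrSyz GrLC

namespace Groth.Agent.S15433

section
open GrInj GrLC

theorem comp_span {R : Type u} [CommRing R] [IsNoetherianRing R] {𝒜 : ℤ → AddSubgroup R} [GradedRing 𝒜]
    (hpos : ∀ n : ℤ, n < 0 → 𝒜 n = ⊥) (X : GMod.{u} 𝒜) (n : ℤ) (s : Set X.carrier)
    (hs : ∀ z ∈ s, ∃ j, n ≤ j ∧ z ∈ X.gr j) (y : X.carrier) (hy : y ∈ Submodule.span R s) :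
    ∀ m, m < n → pr X.gr m y = 0 := by
  induction hy using Submodule.span_induction with
  | mem z hz =>
    intro m hm
    obtain ⟨j, hj, hzj⟩ := hs z hz
    exact pr_of_ne hzj (by omega)
  | zero => exact fun m _ => map_zero _
  | add p q _ _ hp hq => exact fun m hm => by rw [map_add, hp m hm, hq m hm, add_zero]
  | smul c p _ hp =>
    intro m hm
    rw [← sum_supp (ℳ := 𝒜) c, Finset.sum_smul, map_sum]
    refine Finset.sum_eq_zero fun d _ => ?_
    rw [pr_smul' (pr_mem d c)]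
    by_cases hd : d < 0
    · rw [(AddSubgroup.eq_bot_iff_forall _).1 (hpos d hd) _ (pr_mem d c), zero_smul]
    · rw [hp (m - d) (by omega), smul_zero]

variable {k : Type u} [Field k] {r : ℕ} {N : Type u} [AddCommGroup N] [Module k N]
  [Module (Std.S k r) N] [IsScalarTower k (Std.S k r) N] [Module.Finite (Std.S k r) N]

theorem comp_one (𝒩 : ℤ → Submodule k N) [DirectSum.Decomposition 𝒩]
    [SetLike.GradedSMul (GrSyz.stdGr k (Fin (r + 1))) 𝒩] (s : Set N) (hs : ∀ z ∈ s, z ∈ (Conv.grp 𝒩) 1)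
    (y : N) (hy : y ∈ Submodule.span (Std.S k r) s) : pr (Conv.grp 𝒩) 1 y ∈ Submodule.span k s := by
  induction hy using Submodule.span_induction with
  | mem z hz => rw [pr_of_mem (hs z hz)]; exact Submodule.subset_span hz
  | zero => rw [map_zero]; exact zero_mem _
  | add p q _ _ hp hq => rw [map_add]; exact add_mem hp hq
  | smul c p hp0 hp =>
    rw [← sum_supp (ℳ := Std.gr k r) c, Finset.sum_smul, map_sum]
    refine sum_mem fun d _ => ?_
    rw [pr_smul' (𝒜 := Std.gr k r) (ℳ := (Conv.grp 𝒩)) (pr_mem d c)]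
    rcases lt_trichotomy d 0 with hd | hd | hd
    · rw [(AddSubgroup.eq_bot_iff_forall _).1 (Std.pos k r d hd) _ (pr_mem d c), zero_smul]; exact zero_mem _
    · subst hd
      rw [sub_zero]
      have hC : pr (Std.gr k r) 0 c = MvPolynomial.C (MvPolynomial.constantCoeff (pr (Std.gr k r) 0 c)) :=
        sub_eq_zero.1 (GrSyzHilb.piece_zero (sub_mem (show _ ∈ GrSyz.stdGr k (Fin (r + 1)) 0 from pr_mem (ℳ := Std.gr k r) 0 c)
          (MvPolynomial.isWeightedHomogeneous_C _ _)) (by simp))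
      rw [hC, ← MvPolynomial.algebraMap_eq, algebraMap_smul (A := MvPolynomial (Fin (r + 1)) k)]
      exact Submodule.smul_mem _ _ hp
    · have h0 : pr (Conv.grp 𝒩) (1 - d) p = 0 :=
        comp_span (Std.pos k r) (Std.modOf r 𝒩) 1 s (fun z hz => ⟨1, le_rfl, hs z hz⟩) p hp0 (1 - d) (by omega)
      rw [h0, smul_zero]
      exact zero_mem _

theorem height_chain (𝒩 : ℤ → Submodule k N) [DirectSum.Decomposition 𝒩]
    [SetLike.GradedSMul (GrSyz.stdGr k (Fin (r + 1))) 𝒩] (U : Submodule (Std.S k r) N)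
    (hU : ∀ u ∈ U, pr (Conv.grp 𝒩) 1 u = 0) {t : ℕ} (v : Fin t → N) (hv : ∀ i, v i ∈ Conv.grp 𝒩 1)
    (hli : LinearIndependent k v) : ∀ j, j ≤ t →
      Order.height U + (j : ℕ∞) ≤ Order.height (U ⊔ Submodule.span (Std.S k r) (v '' {i : Fin t | (i : ℕ) < j})) := by
  intro j
  induction j with
  | zero =>
    intro _
    rw [Nat.cast_zero, add_zero]
    exact Order.height_mono le_sup_left
  | succ j ih =>
    intro hj
    have hlt : U ⊔ Submodule.span (Std.S k r) (v '' {i : Fin t | (i : ℕ) < j}) <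
        U ⊔ Submodule.span (Std.S k r) (v '' {i : Fin t | (i : ℕ) < j + 1}) := by
      have hset : v '' {i : Fin t | (i : ℕ) < j} ⊆ v '' {i : Fin t | (i : ℕ) < j + 1} :=
        Set.image_mono (fun i hi => Nat.lt_succ_of_lt hi)
      have hle : Submodule.span (Std.S k r) (v '' {i : Fin t | (i : ℕ) < j}) ≤
          Submodule.span (Std.S k r) (v '' {i : Fin t | (i : ℕ) < j + 1}) := Submodule.span_mono hset
      refine lt_of_le_of_ne (sup_le (le_sup_left) (hle.trans le_sup_right)) fun h => ?_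
      have hmem : v ⟨j, hj⟩ ∈ U ⊔ Submodule.span (Std.S k r) (v '' {i : Fin t | (i : ℕ) < j}) := by
        rw [h]; exact Submodule.mem_sup_right (Submodule.subset_span ⟨⟨j, hj⟩, Nat.lt_succ_self j, rfl⟩)
      obtain ⟨u, hu, w, hw, huw⟩ := Submodule.mem_sup.1 hmem
      have hsum := congrArg (pr (Conv.grp 𝒩) 1) huw
      rw [map_add, pr_of_mem (hv ⟨j, hj⟩), hU u hu, zero_add] at hsum
      have hspan := comp_one (r := r) 𝒩 _ (fun z hz => by obtain ⟨i, -, rfl⟩ := hz; exact hv i) w hw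
      rw [hsum] at hspan
      exact hli.notMem_span_image (s := {i : Fin t | (i : ℕ) < j}) (fun h' => lt_irrefl j h') hspan
    refine le_trans ?_ (Order.height_add_one_le hlt)
    rw [Nat.cast_succ, ← add_assoc]
    exact add_le_add_left (ih (by omega)) 1

theorem comp_ofList (ys : List (Std.S k r)) (hys : ∀ y ∈ ys, y ∈ GrSyz.stdGr k (Fin (r + 1)) 1) (q : Std.S k r)
    (hq : q ∈ Ideal.ofList ys • (⊤ : Submodule (Std.S k r) (Std.S k r))) :
    pr (Std.gr k r) 1 q ∈ LinearMap.range (Fintype.linearCombination k fun i : Fin ys.length => ys[i]) := by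
  rw [smul_eq_mul, Ideal.mul_top] at hq
  have key : ∀ c : Std.S k r, ∀ i : Fin ys.length, pr (Std.gr k r) 1 (c * ys[i]) ∈
      LinearMap.range (Fintype.linearCombination k fun i : Fin ys.length => ys[i]) := by
    intro c i
    have hi : ys[i] ∈ Std.gr k r 1 := hys _ (List.getElem_mem i.2)
    have h1 := pr_smul' (𝒜 := Std.gr k r) (ℳ := Std.gr k r) hi 1 c
    rw [smul_eq_mul, smul_eq_mul, sub_self] at h1
    have hC : pr (Std.gr k r) 0 c = MvPolynomial.C (MvPolynomial.constantCoeff (pr (Std.gr k r) 0 c)) :=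
      sub_eq_zero.1 (GrSyzHilb.piece_zero (sub_mem (show _ ∈ GrSyz.stdGr k (Fin (r + 1)) 0 from pr_mem (ℳ := Std.gr k r) 0 c)
        (MvPolynomial.isWeightedHomogeneous_C _ _)) (by simp))
    refine ⟨Pi.single i (MvPolynomial.constantCoeff (pr (Std.gr k r) 0 c)), ?_⟩
    rw [Fintype.linearCombination_apply_single, mul_comm c, h1, MvPolynomial.smul_eq_C_mul, ← hC, mul_comm]
  have hrange : {y | y ∈ ys} = Set.range fun i : Fin ys.length => ys[i] := by
    ext y
    simp [List.mem_iff_get, eq_comm]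
  rw [Ideal.ofList, hrange] at hq
  obtain ⟨c, rfl⟩ := Ideal.mem_span_range_iff_exists_fun.1 hq
  rw [map_sum]
  exact sum_mem fun i _ => key (c i) i

end

/-- Let k be a field, S = k[x_0, …, x_r] graded by degree, 𝔪 = (x_0, …, x_r), and M = S/I a graded
quotient of S, given with a surjective degree-preserving S-linear map π : S → M whose kernel I
contains no nonzero linear form. Let y_0, …, y_t be linear forms forming a weakly regular sequence
on M (each a non-zerodivisor modulo the previous ones) and N = M/(y_0, …, y_t)M, given as a graded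
module with a surjective degree-preserving S-linear map σ : M → N with kernel (y_0, …, y_t)M, and
suppose N has finite length ℓ. Then reg M + (r − t) ≤ ℓ, reg being the Castelnuovo–Mumford
regularity of M in the sense of minimal graded free resolutions. (The published statement is reg S_X
≤ deg X − codim X for an arithmetically Cohen–Macaulay subvariety X of P^r not contained in a
hyperplane; this row is the algebraic statement its proof establishes, with S_X any graded quotient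
of S by an ideal without linear forms, the maximal regular sequence of linear forms given, deg X
replaced by the length of S_X/(y_0, …, y_t)S_X and codim X by r − t, which agree with the degree and
the codimension in that situation.) -/
theorem result (k : Type u) [Field k] (r : ℕ)
    (M : Type u) [AddCommGroup M] [Module k M] [Module (MvPolynomial (Fin (r + 1)) k) M]
    [IsScalarTower k (MvPolynomial (Fin (r + 1)) k) M] [Module.Finite (MvPolynomial (Fin (r + 1)) k) M]
    (ℳ : ℤ → Submodule k M) [DirectSum.Decomposition ℳ] [SetLike.GradedSMul (GrSyz.stdGr k (Fin (r + 1))) ℳ]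
    (π : MvPolynomial (Fin (r + 1)) k →ₗ[MvPolynomial (Fin (r + 1)) k] M) (hπ : Function.Surjective π)
    (hπg : GrLC.IsGrHom (GrSyz.stdGr k (Fin (r + 1))) ℳ π)
    (hlin : ∀ x : MvPolynomial (Fin (r + 1)) k, x ∈ GrSyz.stdGr k (Fin (r + 1)) 1 → π x = 0 → x = 0)
    (ys : List (MvPolynomial (Fin (r + 1)) k)) (hys : ∀ y ∈ ys, y ∈ GrSyz.stdGr k (Fin (r + 1)) 1)
    (hreg : RingTheory.Sequence.IsWeaklyRegular M ys)
    (N : Type u) [AddCommGroup N] [Module k N] [Module (MvPolynomial (Fin (r + 1)) k) N]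
    [IsScalarTower k (MvPolynomial (Fin (r + 1)) k) N]
    (𝒩 : ℤ → Submodule k N) [DirectSum.Decomposition 𝒩] [SetLike.GradedSMul (GrSyz.stdGr k (Fin (r + 1))) 𝒩]
    (σ : M →ₗ[MvPolynomial (Fin (r + 1)) k] N) (hσ : Function.Surjective σ) (hσg : GrLC.IsGrHom ℳ 𝒩 σ)
    (hker : LinearMap.ker σ = Ideal.ofList ys • (⊤ : Submodule (MvPolynomial (Fin (r + 1)) k) M))
    (ℓ : ℕ) (hℓ : Module.length (MvPolynomial (Fin (r + 1)) k) N = (ℓ : ℕ∞)) :
    GrSyz.reg (GrSyz.stdGr k (Fin (r + 1))) ℳ (GrSyz.irrel (GrSyz.stdGr k (Fin (r + 1)))).toIdeal + ((((r : ℤ) + 1 - (ys.length : ℤ) : ℤ) : WithTop ℤ) : WithBot (WithTop ℤ)) ≤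
      (((ℓ : ℤ) : WithTop ℤ) : WithBot (WithTop ℤ)) := by
  classical
  haveI hfinN : Module.Finite (MvPolynomial (Fin (r + 1)) k) N := Module.Finite.of_surjective σ hσ
  set a := (GrInj.Std.irr k r).toIdeal
  let NN : GMod.{u} (GrInj.Std.gr k r) := GrInj.Std.modOf r 𝒩
  have hN : IsFiniteLength (MvPolynomial (Fin (r + 1)) k) N :=
    Module.length_ne_top_iff.1 (by rw [hℓ]; exact ENat.coe_ne_top ℓ)
  have hreg' : GrSyz.reg (GrSyz.stdGr k (Fin (r + 1))) ℳ (GrSyz.irrel (GrSyz.stdGr k (Fin (r + 1)))).toIdeal =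
      GrLC.endDeg (fun n => (𝒩 n).toAddSubgroup) := by
    refine GrInj.Std.reg_eq fun d => ?_
    rw [GrInj.vanAbove_iff_regSeq (N := NN) (GrInj.Std.pos k r) (GrInj.Std.irr_eq k r) ys hys
      (GrInj.Std.modOf r ℳ) hreg σ hσg hσ hker, GrInj.endDeg_le_iff,
      GrInj.vanAbove_finiteLength_iff _ (GrInj.Std.torsion_of_finiteLength NN hN) d]
    exact Iff.rfl
  rw [hreg']
  let f : MvPolynomial (Fin (r + 1)) k →ₗ[MvPolynomial (Fin (r + 1)) k] N := σ ∘ₗ π
  have hf : IsGrHom (GrSyz.stdGr k (Fin (r + 1))) 𝒩 f := fun n p hp => hσg n _ (hπg n p hp)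
  have hfs : Function.Surjective f := hσ.comp hπ
  have hfg : IsGrHom (GrInj.Std.gr k r) (GrInj.Conv.grp 𝒩) f := hf
  -- elements of a piece come from the same piece
  have hlift : ∀ n, ∀ y ∈ (GrInj.Conv.grp 𝒩) n, ∃ p ∈ GrInj.Std.gr k r n, f p = y := by
    intro n y hy
    obtain ⟨p, rfl⟩ := hfs y
    exact ⟨GrInj.pr (GrInj.Std.gr k r) n p, GrInj.pr_mem n p, by rw [← GrInj.pr_grHom hfg, GrInj.pr_of_mem hy]⟩
  have hnegN : ∀ n, n < 0 → (GrInj.Conv.grp 𝒩) n = ⊥ := fun n hn => (AddSubgroup.eq_bot_iff_forall _).2 fun y hy => by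
    obtain ⟨p, hp, rfl⟩ := hlift n y hy
    rw [GrInj.Std.pos k r n hn, AddSubgroup.mem_bot] at hp
    rw [hp, map_zero]
  have hnext : ∀ n, 0 ≤ n → (GrInj.Conv.grp 𝒩) n = ⊥ → (GrInj.Conv.grp 𝒩) (n + 1) = ⊥ := fun n hn h0 =>
    (AddSubgroup.eq_bot_iff_forall _).2 fun y hy => by
      obtain ⟨p, hp, rfl⟩ := hlift (n + 1) y hy
      have hp' : p ∈ a := Ideal.subset_span ⟨n + 1, by omega, hp⟩
      obtain ⟨c, hc⟩ := Ideal.mem_span_range_iff_exists_fun.1 ((GrInj.Std.irr_eq_span_X k r).le hp')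
      rw [← GrInj.pr_of_mem (ℳ := GrInj.Std.gr k r) hp, ← hc, map_sum, map_sum]
      refine Finset.sum_eq_zero fun i _ => ?_
      rw [mul_comm, ← smul_eq_mul, GrInj.pr_smul' (𝒜 := GrInj.Std.gr k r) (GrInj.Std.X_mem k r i), map_smul,
        add_sub_cancel_right, (AddSubgroup.eq_bot_iff_forall _).1 h0 _ (hfg n _ (GrInj.pr_mem n (c i))), smul_zero]
  by_cases hsub : ∀ y : N, y = 0
  · have : GrLC.endDeg (fun n => (𝒩 n).toAddSubgroup) = ⊥ := by
      rw [eq_bot_iff]
      exact iSup₂_le fun n hn => absurd ((AddSubgroup.eq_bot_iff_forall _).2 fun y _ => hsub y) hn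
    rw [this, WithBot.bot_add]
    exact bot_le
  push Not at hsub
  obtain ⟨y₀, hy₀⟩ := hsub
  -- the filtration
  let V : ℤ → Submodule (MvPolynomial (Fin (r + 1)) k) N := fun n =>
    Submodule.span _ (⋃ (m : ℤ) (_ : n ≤ m), ((GrInj.Conv.grp 𝒩) m : Set N))
  have hV : ∀ n m, m < n → ∀ y ∈ V n, GrInj.pr (GrInj.Conv.grp 𝒩) m y = 0 := fun n m hm y hy =>
    comp_span (GrInj.Std.pos k r) NN n _ (fun z hz => by
      obtain ⟨j, hj, hz⟩ := Set.mem_iUnion₂.1 hz
      exact ⟨j, hj, hz⟩) y hy m hm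
  have hVmono : ∀ n, V (n + 1) ≤ V n := fun n => Submodule.span_mono fun z hz => by
    obtain ⟨j, hj, hz⟩ := Set.mem_iUnion₂.1 hz
    exact Set.mem_iUnion₂.2 ⟨j, by omega, hz⟩
  have hstep : ∀ n, (GrInj.Conv.grp 𝒩) n ≠ ⊥ → Order.height (V (n + 1)) + 1 ≤ Order.height (V n) := fun n hn => by
    refine Order.height_add_one_le (lt_of_le_of_ne (hVmono n) fun h => hn ?_)
    refine (AddSubgroup.eq_bot_iff_forall _).2 fun y hy => ?_
    have hy' : y ∈ V n := Submodule.subset_span (Set.mem_iUnion₂.2 ⟨n, le_rfl, hy⟩)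
    rw [← h] at hy'
    rw [← GrInj.pr_of_mem (ℳ := (GrInj.Conv.grp 𝒩)) hy, hV (n + 1) n (by omega) y hy']
  -- the bound of the end
  obtain ⟨l, hl⟩ := GrInj.exists_pow_gam a N
  obtain ⟨D, hD⟩ := GrInj.exists_bound_of_pow (GrInj.Std.irr k r) (GrInj.Std.pos k r) (GrInj.Std.irr_eq k r) l NN
    fun s hs y => hl s hs y (GrInj.Std.torsion_of_finiteLength NN hN y)
  have h00 : (GrInj.Conv.grp 𝒩) 0 ≠ ⊥ := by
    intro h0
    refine hy₀ ?_
    obtain ⟨p, rfl⟩ := hfs y₀
    rw [show p = p • (1 : MvPolynomial (Fin (r + 1)) k) by rw [smul_eq_mul, mul_one], map_smul,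
      (AddSubgroup.eq_bot_iff_forall _).1 h0 (f 1) (hfg 0 1 SetLike.GradedOne.one_mem), smul_zero]
  have hex : ∃ T : ℕ, (GrInj.Conv.grp 𝒩) (T : ℤ) ≠ ⊥ ∧ ∀ n : ℤ, (T : ℤ) < n → (GrInj.Conv.grp 𝒩) n = ⊥ := by
    have hex' : ∃ T : ℕ, ∀ n : ℤ, (T : ℤ) < n → (GrInj.Conv.grp 𝒩) n = ⊥ :=
      ⟨D.toNat, fun n hn => (AddSubgroup.eq_bot_iff_forall _).2 fun y hy => hD n (by omega) y hy⟩
    refine ⟨Nat.find hex', ?_, Nat.find_spec hex'⟩
    intro h0
    rcases Nat.eq_zero_or_pos (Nat.find hex') with hz | hz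
    · rw [hz] at h0; exact h00 h0
    · refine Nat.find_min hex' (show Nat.find hex' - 1 < Nat.find hex' by omega) fun n hn => ?_
      rcases eq_or_lt_of_le (show (Nat.find hex' : ℤ) ≤ n by omega) with h | h
      · rw [← h]; exact h0
      · exact Nat.find_spec hex' n h
  obtain ⟨T, hT0, hT⟩ := hex
  have hne : ∀ j : ℕ, j ≤ T → (GrInj.Conv.grp 𝒩) (j : ℤ) ≠ ⊥ := by
    intro j hj h0
    have hall : ∀ i : ℕ, (GrInj.Conv.grp 𝒩) ((j + i : ℕ) : ℤ) = ⊥ := by
      intro i
      induction i with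
      | zero => exact h0
      | succ i ih =>
        rw [show ((j + (i + 1) : ℕ) : ℤ) = ((j + i : ℕ) : ℤ) + 1 by push_cast; ring]
        exact hnext _ (Int.natCast_nonneg _) ih
    exact hT0 (by have := hall (T - j); rwa [Nat.add_sub_cancel' hj] at this)
  have hend : GrLC.endDeg (fun n => (𝒩 n).toAddSubgroup) ≤ (((T : ℤ) : WithTop ℤ) : WithBot (WithTop ℤ)) :=
    (GrInj.endDeg_le_iff _ _).2 fun n hn => hT n hn
  have hhigh : ∀ i : ℕ, i + 1 ≤ T → ((T - i : ℕ) : ℕ∞) ≤ Order.height (V ((i : ℤ) + 1)) := by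
    intro i hi
    obtain ⟨q, hq⟩ : ∃ q, T - i = q + 1 := ⟨T - i - 1, by omega⟩
    induction q generalizing i with
    | zero =>
      rw [hq]
      exact le_trans (by simp) ((hstep _ (by rw [show (i : ℤ) + 1 = ((i + 1 : ℕ) : ℤ) by simp]; exact hne _ hi)))
    | succ q ih =>
      rw [hq]
      have h := ih (i + 1) (by omega) (by omega)
      rw [show T - (i + 1) = q + 1 by omega, show ((i + 1 : ℕ) : ℤ) = (i : ℤ) + 1 by simp] at h
      push_cast
      exact le_trans (add_le_add_left (by exact_mod_cast h) 1)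
        ((hstep _ (by rw [show (i : ℤ) + 1 = ((i + 1 : ℕ) : ℤ) by simp]; exact hne _ hi)))
  -- degree one
  let S1 := GrSyz.stdGr k (Fin (r + 1)) 1
  let φ : ↥S1 →ₗ[k] N := (f.restrictScalars k).comp S1.subtype
  haveI : Module.Finite k ↥S1 := GrSyzHilb.finite_piece 1
  have hdim : r + 1 ≤ Module.finrank k (LinearMap.range φ) + ys.length := by
    have h1 := φ.finrank_range_add_finrank_ker
    have h2 : Module.finrank k ↥S1 = r + 1 := by
      rw [GrSyzHilb.finrank_piece, if_pos (by norm_num)]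
      simp [Nat.choose_symm_add]
    let ψ : (Fin ys.length → k) →ₗ[k] MvPolynomial (Fin (r + 1)) k := Fintype.linearCombination k fun i => ys[i]
    have h3 : Module.finrank k (LinearMap.ker φ) ≤ ys.length := by
      let incl : LinearMap.ker φ →ₗ[k] MvPolynomial (Fin (r + 1)) k := S1.subtype.comp (LinearMap.ker φ).subtype
      have hincl : Function.Injective incl := fun p q h => Subtype.ext (Subtype.ext h)
      rw [← LinearMap.finrank_range_of_inj hincl]
      refine (Submodule.finrank_mono (t := LinearMap.range ψ) ?_).trans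
        ((LinearMap.finrank_range_le ψ).trans (by simp))
      rintro _ ⟨⟨⟨p, hp⟩, hpk⟩, rfl⟩
      show p ∈ LinearMap.range ψ
      have hπp : π p ∈ Ideal.ofList ys • (⊤ : Submodule (MvPolynomial (Fin (r + 1)) k) M) :=
        hker.le (LinearMap.mem_ker.2 (show σ (π p) = 0 from hpk))
      have hmap : (Ideal.ofList ys • (⊤ : Submodule (MvPolynomial (Fin (r + 1)) k) (MvPolynomial (Fin (r + 1)) k))).map π =
          Ideal.ofList ys • ⊤ := by
        rw [Submodule.map_smul'', Submodule.map_top, LinearMap.range_eq_top.2 hπ]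
      obtain ⟨q, hq, hqp⟩ := hmap.ge hπp
      have hq1 : GrInj.pr (GrInj.Std.gr k r) 1 q = p := by
        refine sub_eq_zero.1 (hlin _ (sub_mem (show _ ∈ GrSyz.stdGr k (Fin (r + 1)) 1 from GrInj.pr_mem (ℳ := GrInj.Std.gr k r) (1 : ℤ) q) hp) ?_)
        have hπg' : IsGrHom (GrInj.Std.gr k r) (GrInj.Conv.grp ℳ) π := hπg
        rw [map_sub, ← GrInj.pr_grHom hπg', hqp, GrInj.pr_of_mem (show π p ∈ GrInj.Conv.grp ℳ 1 from hπg 1 p hp), sub_self]
      rw [← hq1]
      exact comp_ofList ys hys q hq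
    omega
  have hrange : ∀ y ∈ LinearMap.range φ, y ∈ (GrInj.Conv.grp 𝒩) 1 := by rintro _ ⟨p, rfl⟩; exact hfg 1 _ p.2
  haveI : Module.Finite k (LinearMap.range φ) := inferInstance
  let bs := Module.finBasis k (LinearMap.range φ)
  set t := Module.finrank k (LinearMap.range φ)
  have h2 : Order.height (V 2) + (t : ℕ∞) ≤ Order.height (V 1) := by
    refine (height_chain (r := r) 𝒩 (V 2) (hV 2 1 (by norm_num)) (fun i => (bs i : N)) (fun i => hrange _ (bs i).2)
      (bs.linearIndependent.map' (LinearMap.range φ).subtype (Submodule.ker_subtype _)) t le_rfl).trans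
      (Order.height_mono (sup_le (hVmono 1) (Submodule.span_le.2 ?_)))
    rintro _ ⟨i, -, rfl⟩
    exact Submodule.subset_span (Set.mem_iUnion₂.2 ⟨1, le_rfl, hrange _ (bs i).2⟩)
  have hlen : Order.height (V 0) ≤ (ℓ : ℕ∞) := by
    rw [← hℓ, Module.length_eq_height]; exact Order.height_mono le_top
  have h1 := (hstep 0 h00).trans hlen
  rw [zero_add] at h1
  have hfinal : T + (r + 1) ≤ ℓ + ys.length := by
    rcases Nat.eq_zero_or_pos T with hz | hz
    · have ht : t = 0 := by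
        by_contra ht
        have : (bs ⟨0, Nat.pos_of_ne_zero ht⟩ : N) = 0 :=
          (AddSubgroup.eq_bot_iff_forall _).1 (hT 1 (by rw [hz]; norm_num)) _ (hrange _ (bs _).2)
        exact bs.ne_zero _ (Subtype.ext this)
      omega
    rcases eq_or_lt_of_le (Nat.one_le_iff_ne_zero.2 hz.ne') with hT1 | hT2
    · have h3 : (t : ℕ∞) + 1 ≤ ℓ := le_trans (add_le_add_left (le_trans le_add_self h2) 1) h1
      have h4 : t + 1 ≤ ℓ := by exact_mod_cast h3
      omega
    · have h3 := hhigh 1 hT2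
      rw [show ((1 : ℕ) : ℤ) + 1 = 2 by norm_num] at h3
      have h5 : ((T - 1 : ℕ) : ℕ∞) + t + 1 ≤ ℓ :=
        le_trans (add_le_add_left (le_trans (add_le_add_left h3 _) h2) 1) h1
      have h4 : T - 1 + t + 1 ≤ ℓ := by exact_mod_cast h5
      omega
  refine (add_le_add_left hend _).trans ?_
  have hf : (T : ℤ) + ((r : ℤ) + 1 - (ys.length : ℤ)) ≤ (ℓ : ℤ) := by omega
  rw [← WithBot.coe_add, ← WithTop.coe_add, WithBot.coe_le_coe, WithTop.coe_le_coe]
  exact hf

end Groth.Agent.S15433
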