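import Groth.Statements.S15436
import Mathlib
import Groth.Agent.DRingPC.TorDim
import Groth.Agent.GrSyzMore.Length
-- import your own Groth.Agent.* helpers here

set_option autoImplicit false
universe u
open GrSyz

namespace Groth.Agent.S15436

open CategoryTheory CategoryTheory.Limits

variable {A : Type u} [CommRing A] {M : Type u} [AddCommGroup M] [Module A M] {𝒜 : ℤ → AddSubgroup A}

/-- The differentials of a resolution given by matrices compose to zero, and the resolution computes `Tor`. -/
theorem exists_res (rk : ℕ → ℕ) (d : (i : ℕ) → (Fin (rk (i + 1)) → A) →ₗ[A] (Fin (rk i) → A))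
    (aug : (Fin (rk 0) → A) →ₗ[A] M) (haug : Function.Surjective aug)
    (h0 : LinearMap.ker aug = LinearMap.range (d 0)) (hs : ∀ i, LinearMap.ker (d i) = LinearMap.range (d (i + 1))) :
    ∃ (P : ProjectiveResolution (ModuleCat.of A M)),
      ∃ e : ∀ i, P.complex.X i ≅ ModuleCat.of A (Fin (rk i) → A),
        ∀ i, P.complex.d (i + 1) i = (e (i + 1)).hom ≫ ModuleCat.ofHom (d i) ≫ (e i).inv := by
  have hsq : ∀ n, ModuleCat.ofHom (d (n + 1)) ≫ ModuleCat.ofHom (d n) = 0 := fun n =>
    ModuleCat.hom_ext (LinearMap.ext fun x => LinearMap.mem_ker.1 ((hs n).ge ⟨x, rfl⟩))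
  let K : ChainComplex (ModuleCat.{u} A) ℕ :=
    ChainComplex.of (fun i => ModuleCat.of A (Fin (rk i) → A)) (fun i => ModuleCat.ofHom (d i)) hsq
  have hK : ∀ n, K.d (n + 1) n = ModuleCat.ofHom (d n) := fun n => by simp [K]
  let φ : K.X 0 ⟶ ModuleCat.of A M := ModuleCat.ofHom aug
  have hφ0 : K.d 1 0 ≫ φ = 0 := by
    rw [hK 0]
    exact ModuleCat.hom_ext (LinearMap.ext fun x => LinearMap.mem_ker.1 (h0.ge ⟨x, rfl⟩))
  haveI hφ : Epi φ := (ModuleCat.epi_iff_surjective _).2 haug
  have ex : (ShortComplex.mk (K.d 1 0) φ hφ0).Exact := by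
    rw [ShortComplex.moduleCat_exact_iff_range_eq_ker]
    show LinearMap.range (K.d 1 0).hom = LinearMap.ker φ.hom
    rw [hK 0]
    exact h0.symm
  have hex : ∀ j : ℕ, K.ExactAt (j + 1) := fun j => by
    rw [HomologicalComplex.exactAt_iff' _ (j + 1 + 1) (j + 1) j (by simp) (by simp),
      ShortComplex.moduleCat_exact_iff_range_eq_ker]
    show LinearMap.range (K.d (j + 1 + 1) (j + 1)).hom = LinearMap.ker (K.d (j + 1) j).hom
    rw [hK, hK]
    exact (hs j).symm
  let π : K ⟶ (ChainComplex.single₀ _).obj (ModuleCat.of A M) :=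
    (ChainComplex.toSingle₀Equiv _ _).symm ⟨φ, hφ0⟩
  have hπ : QuasiIso π := ⟨fun n => by
    cases n
    · rw [ChainComplex.quasiIsoAt₀_iff, ShortComplex.quasiIso_iff_of_zeros']
      · refine (ShortComplex.exact_and_epi_g_iff_of_iso ?_).2 ⟨ex, hφ⟩
        exact ShortComplex.isoMk (Iso.refl _) (Iso.refl _) (Iso.refl _)
          ((Category.id_comp _).trans (Category.comp_id _).symm) (by simp [π]; rfl)
      all_goals first | rfl | exact K.shape _ _ (by simp)
    · rw [quasiIsoAt_iff_exactAt']
      · exact hex _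
      · exact ChainComplex.exactAt_succ_single_obj _ _⟩
  refine ⟨{ complex := K
            projective := fun n => (IsProjective.iff_projective _).1
              (inferInstanceAs (Module.Projective A (Fin (rk n) → A)))
            π := π
            quasiIso := hπ }, fun i => Iso.refl _, fun i => ?_⟩
  show K.d (i + 1) i = 𝟙 _ ≫ ModuleCat.ofHom (d i) ≫ 𝟙 _
  rw [Category.id_comp, Category.comp_id, hK]

/-- A homology module between zero maps is the middle term. -/
theorem length_homology_of_zero (C : ChainComplex (ModuleCat.{u} A) ℕ) (h : ∀ i j, C.d i j = 0) (i : ℕ) :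
    Module.length A (C.homology i) = Module.length A (C.X i) :=
  (ShortComplex.HomologyData.ofZeros (C.sc i) (h _ _) (h _ _)).left.homologyIso.toLinearEquiv.length_eq

open MvPolynomial in
theorem irrel_isMaximal (k : Type u) [Field k] (r : ℕ) :
    (GrSyz.irrel (GrSyz.stdGr k (Fin (r + 1)))).toIdeal.IsMaximal := by
  have h : (GrSyz.irrel (GrSyz.stdGr k (Fin (r + 1)))).toIdeal =
      RingHom.ker (constantCoeff : MvPolynomial (Fin (r + 1)) k →+* k) := by
    rw [GrSyzMore.irrel_eq]
    ext p
    rw [GrSyzMore.idl, mem_ideal_span_X_image, RingHom.mem_ker, constantCoeff_eq]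
    constructor
    · intro hp
      by_contra h0
      obtain ⟨i, -, hi⟩ := hp 0 (mem_support_iff.2 h0)
      exact hi rfl
    · intro hp m hm
      by_contra hno
      push Not at hno
      have hm0 : m = 0 := Finsupp.ext fun i => hno i i.isLt
      rw [hm0, mem_support_iff] at hm
      exact hm hp
  rw [h]
  exact RingHom.ker_isMaximal_of_surjective _ fun a => ⟨C a, constantCoeff_C _ a⟩

/-- Let k be a field, S = k[x_0, …, x_r] graded by degree, 𝔪 = (x_0, …, x_r), M a finitely generated
ℤ-graded S-module and F a minimal graded free resolution of M by free modules of finite rank with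
homogeneous bases (all matrix entries in 𝔪). Then for every i the rank of F_i (the number of
elements of a minimal generating set of the i-th syzygy module) equals the length, i.e. the
dimension over k = S/𝔪, of Tor_i^S(S/𝔪, M), where Tor_i is the i-th left derived functor of S/𝔪 ⊗_S
− on S-modules. (The published statement is the degree-by-degree refinement: F_i has exactly dim_k
Tor_i^S(k, M)_j basis vectors of degree j; the grading on Tor is not available here, so the counts
are summed over j.) -/
theorem result (k : Type u) [Field k] (r : ℕ)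
    (M : Type u) [AddCommGroup M] [Module k M] [Module (MvPolynomial (Fin (r + 1)) k) M]
    [IsScalarTower k (MvPolynomial (Fin (r + 1)) k) M] [Module.Finite (MvPolynomial (Fin (r + 1)) k) M]
    (ℳ : ℤ → Submodule k M) [DirectSum.Decomposition ℳ] [SetLike.GradedSMul (GrSyz.stdGr k (Fin (r + 1))) ℳ]
    (F : GrSyz.FreeRes (GrSyz.stdGr k (Fin (r + 1))) ℳ) (hF : F.IsMinimal (GrSyz.irrel (GrSyz.stdGr k (Fin (r + 1)))).toIdeal) (i : ℕ) :
    Module.length (MvPolynomial (Fin (r + 1)) k)
        (((CategoryTheory.Tor (ModuleCat.{u} (MvPolynomial (Fin (r + 1)) k)) i).obj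
            (ModuleCat.of (MvPolynomial (Fin (r + 1)) k) ((MvPolynomial (Fin (r + 1)) k) ⧸ (GrSyz.irrel (GrSyz.stdGr k (Fin (r + 1)))).toIdeal))).obj
          (ModuleCat.of (MvPolynomial (Fin (r + 1)) k) M)) = (F.rk i : ℕ∞) := by
  classical
  let S := MvPolynomial (Fin (r + 1)) k
  let 𝔪 := (GrSyz.irrel (GrSyz.stdGr k (Fin (r + 1)))).toIdeal
  obtain ⟨P, e, hd⟩ := exists_res F.rk F.dLin F.augLin F.aug_surjective F.exact_zero F.exact_succ
  let N := ModuleCat.of S (S ⧸ 𝔪)
  show Module.length S (((CategoryTheory.Tor (ModuleCat.{u} S) i).obj N).obj (ModuleCat.of S M)) = _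
  rw [(DRingPC.torIso N P i).toLinearEquiv.length_eq]
  have hz : ∀ j, LinearMap.lTensor (S ⧸ 𝔪) (F.dLin j) = 0 := fun j => by
    refine TensorProduct.ext' fun x v => ?_
    show x ⊗ₜ[S] (F.dLin j v) = 0
    rw [pi_eq_sum_univ (F.dLin j v), TensorProduct.tmul_sum]
    refine Finset.sum_eq_zero fun a _ => ?_
    rw [← TensorProduct.smul_tmul]
    have hmem : F.dLin j v a ∈ 𝔪 := by
      show (∑ c, F.d j a c * v c) ∈ 𝔪
      exact Submodule.sum_mem _ fun c _ => Ideal.mul_mem_right _ _ (hF j a c)
    obtain ⟨x, rfl⟩ := Ideal.Quotient.mk_surjective x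
    rw [show F.dLin j v a • Ideal.Quotient.mk 𝔪 x = 0 from by
      rw [Algebra.smul_def, Ideal.Quotient.algebraMap_eq, ← map_mul, Ideal.Quotient.eq_zero_iff_mem]
      exact Ideal.mul_mem_right _ _ hmem, TensorProduct.zero_tmul]
  have hd0 : ∀ a b, (DRingPC.tensorRes N P).d a b = 0 := fun a b => by
    by_cases hab : b + 1 = a
    · subst hab
      show ((MonoidalCategory.tensoringLeft (ModuleCat.{u} S)).obj N).map (P.complex.d (b + 1) b) = 0
      rw [hd b, Functor.map_comp, Functor.map_comp,
        show ((MonoidalCategory.tensoringLeft (ModuleCat.{u} S)).obj N).map (ModuleCat.ofHom (F.dLin b)) = 0 from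
          ModuleCat.hom_ext (hz b), Limits.zero_comp, Limits.comp_zero]
    · exact HomologicalComplex.shape _ a b hab
  rw [length_homology_of_zero _ hd0 i]
  haveI := irrel_isMaximal k r
  haveI : IsSimpleModule S (S ⧸ 𝔪) := isSimpleModule_iff_isCoatom.2 Ideal.IsMaximal.out
  have e2 : (DRingPC.tensorRes N P).X i ≅ ModuleCat.of S (TensorProduct S (S ⧸ 𝔪) (Fin (F.rk i) → S)) :=
    ((MonoidalCategory.tensoringLeft (ModuleCat.{u} S)).obj N).mapIso (e i)
  rw [e2.toLinearEquiv.length_eq, (TensorProduct.piScalarRight S S (S ⧸ 𝔪) (Fin (F.rk i))).length_eq,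
    Module.length_pi, Module.length_eq_one S (S ⧸ 𝔪), mul_one]
  simp

end Groth.Agent.S15436
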