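import Groth.Statements.S15437
import Mathlib
import Groth.Agent.GrSyzHilb.Basic
-- import your own Groth.Agent.* helpers here

set_option autoImplicit false
universe u
open GrSyz

namespace Groth.Agent.S15437

/-- Let k be a field, S = k[x_0, …, x_r] graded by degree and M a ℤ-graded S-module with a finite graded
free resolution F of length at most m by free modules of finite rank with homogeneous bases; write
β_{i,j} for the number of basis vectors of F_i of degree j (the graded Betti numbers when F is
minimal) and B_j = Σ_{i ≤ m} (−1)^i β_{i,j}. Then for every integer d, dim_k M_d = Σ_j B_j C(r + d −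
j, r), where a binomial with d < j counts as zero and only finitely many j contribute; and the B_j
are recovered from the Hilbert function by B_j = dim_k M_j − Σ_{n < j} B_n C(r + j − n, r). (Stated
for any finite graded free resolution; the published statement takes the minimal one.) -/
theorem result (k : Type u) [Field k] (r : ℕ)
    (M : Type u) [AddCommGroup M] [Module k M] [Module (MvPolynomial (Fin (r + 1)) k) M]
    [IsScalarTower k (MvPolynomial (Fin (r + 1)) k) M] [Module.Finite (MvPolynomial (Fin (r + 1)) k) M]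
    (ℳ : ℤ → Submodule k M) [DirectSum.Decomposition ℳ] [SetLike.GradedSMul (GrSyz.stdGr k (Fin (r + 1))) ℳ]
    (F : GrSyz.FreeRes (GrSyz.stdGr k (Fin (r + 1))) ℳ) (m : ℕ) (hF : F.HasLengthLE m) :
    (∀ d : ℤ, (Module.finrank k ↥(ℳ d) : ℤ) =
        ∑ᶠ j : ℤ, (∑ i ∈ Finset.range (m + 1), (-1 : ℤ) ^ i * (F.betti i j : ℤ)) *
          (if j ≤ d then ((Nat.choose (r + (d - j).toNat) r : ℕ) : ℤ) else 0)) ∧
      ∀ j : ℤ, (∑ i ∈ Finset.range (m + 1), (-1 : ℤ) ^ i * (F.betti i j : ℤ)) =
        (Module.finrank k ↥(ℳ j) : ℤ) -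
          ∑ᶠ n : ℤ, (if n < j then (∑ i ∈ Finset.range (m + 1), (-1 : ℤ) ^ i * (F.betti i n : ℤ)) * ((Nat.choose (r + (j - n).toNat) r : ℕ) : ℤ) else 0) := by
  classical
  let J : Finset ℤ := (Finset.range (m + 1)).biUnion fun i => Finset.univ.image (F.deg i)
  let B : ℤ → ℤ := fun j => ∑ i ∈ Finset.range (m + 1), (-1 : ℤ) ^ i * (F.betti i j : ℤ)
  let c : ℤ → ℤ → ℤ := fun d j => if j ≤ d then ((Nat.choose (r + (d - j).toNat) r : ℕ) : ℤ) else 0
  have hB : ∀ j, j ∉ J → B j = 0 := fun j hj => Finset.sum_eq_zero fun i hi => by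
    have hb : F.betti i j = 0 := by
      rw [FreeRes.betti, Finset.card_eq_zero, Finset.filter_eq_empty_iff]
      intro b _ hb
      exact hj (Finset.mem_biUnion.2 ⟨i, hi, Finset.mem_image.2 ⟨b, Finset.mem_univ b, hb⟩⟩)
    rw [hb]; simp
  have h1 : ∀ d : ℤ, (Module.finrank k ↥(ℳ d) : ℤ) = ∑ j ∈ J, B j * c d j := fun d => by
    rw [GrSyzHilb.hilbert F d hF]
    simp only [B, Finset.sum_mul]
    rw [Finset.sum_comm]
    refine Finset.sum_congr rfl fun i hi => ?_
    rw [← Finset.sum_fiberwise_of_maps_to (s := Finset.univ) (t := J) (g := F.deg i)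
      (fun b _ => Finset.mem_biUnion.2 ⟨i, hi, Finset.mem_image.2 ⟨b, Finset.mem_univ b, rfl⟩⟩), Finset.mul_sum]
    refine Finset.sum_congr rfl fun j _ => ?_
    rw [mul_assoc]
    refine congrArg _ ?_
    rw [Finset.sum_congr rfl (fun b hb => by rw [(Finset.mem_filter.1 hb).2]), Finset.sum_const, nsmul_eq_mul]
    rfl
  refine ⟨fun d => ?_, fun j => ?_⟩
  · rw [h1 d]
    exact (finsum_eq_sum_of_support_subset (fun j => B j * c d j) fun j hj => by
      by_contra h; exact hj (by simp [hB j h])).symm
  · rw [finsum_eq_sum_of_support_subset _ (s := J) (fun n hn => by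
      by_contra h
      exact hn (by
        show (if n < j then B n * _ else 0) = 0
        rw [hB n h]; simp)), h1 j]
    show B j = _ - ∑ n ∈ J, (if n < j then B n * _ else 0)
    rw [← Finset.sum_sub_distrib, Finset.sum_eq_single j]
    · simp [c]
    · intro n _ hn
      simp only [c]
      by_cases h : n < j
      · rw [if_pos h.le, if_pos h, sub_self]
      · rw [if_neg (by omega), if_neg h, mul_zero, sub_zero]
    · intro h; simp [hB j h]

end Groth.Agent.S15437
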