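import Groth.Statements.S1544
import Groth.Agent.GeomRedAt.Change
-- import your own Groth.Agent.* helpers here

set_option autoImplicit false
universe u
open CategoryTheory CategoryTheory.Limits AlgebraicGeometry
attribute [local instance] Curv2.resAlgebra Curv2.stalkAlgebra
open Variety

namespace Groth.Agent.S1544

/-- For an integral scheme over k, geometric reducedness of the scheme is equivalent to geometric
reducedness over k of the function field (the local ring at the generic point), i.e. a separable
extension of k in the sense of commutative algebra. The source states this for varieties;
integrality is what the proof uses. -/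
theorem result (k : Type u) [Field k] (X : Scheme.{u}) [X.Over (Spec (CommRingCat.of k))] [IsIntegral X] :
    GeometricallyReduced (X ↘ (Spec (CommRingCat.of k))) ↔ Algebra.IsGeometricallyReduced k X.functionField := by
  have e := GeomRedAt.grAt_iff (GeomRedAt.fromSpecStalk_comp (X ↘ Spec (CommRingCat.of k)) (genericPoint X))
  refine ⟨fun h => e.1 ((GeomRedAt.geometricallyReduced_iff_forall _).1 h _),
    fun h => GeomRedAt.geometricallyReduced_of_generic _ fun η hη => ?_⟩
  have h1 := genericPoint_specializes η
  rw [← (h1.antisymm (hη _ h1)).eq]
  exact e.2 h

end Groth.Agent.S1544
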