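import Groth.Statements.S15451
import Groth.Agent.WeilLib.Kunneth


set_option autoImplicit false
universe u v
open CategoryTheory AlgebraicGeometry
open WeilCoh Groth.Agent.WeilLib

namespace Groth.Agent.S15451

/-- Let H^* be a Weil cohomology theory (coefficients in K of characteristic zero, on nonsingular
connected projective varieties over an algebraically closed field k), φ an endomorphism of such a
variety X of dimension n, p, q the projections of X × X and Γ_φ the graph of φ. If (e^r_i)_i is a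
basis of H^r(X) and (f^{2n−r}_i)_i the dual basis of H^{2n−r}(X) for Poincaré duality,
Tr_X(f^{2n−r}_ℓ ∪ e^r_i) = δ_{i,ℓ}, for every 0 ≤ r ≤ 2n, then cl(Γ_φ) = Σ_{r=0}^{2n} Σ_i
p^*(φ^*(e^r_i)) ∪ q^*(f^{2n−r}_i) in H^{2n}(X × X). Here X × X is any object P with a cartesian
square p, q : P → X over Spec k, Γ_φ is the closure of the image of the generic point of X under the
section j = (id, φ) of p, and the f^{2n−r}_i are any family satisfying the duality relations. -/
theorem result (k : Type u) [Field k] [IsAlgClosed k] (K : Type v) [Field K] [CharZero K]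
    (T : WeilCoh.Theory k K)
    (X P : WeilCoh.Var k) [IrreducibleSpace ↥X.obj.left] (φ : X ⟶ X)
    (p q : P ⟶ X) (hP : WeilCoh.IsProd p q) (j : X ⟶ P) (hjp : j ≫ p = 𝟙 X) (hjq : j ≫ q = φ)
    (ι : ℕ → Type) [∀ r, Fintype (ι r)] [∀ r, DecidableEq (ι r)]
    (e : (r : ℕ) → Module.Basis (ι r) K ↥(T.gr X (r : ℤ)))
    (f : (r : ℕ) → ι r → ↥(T.gr X (2 * (WeilCoh.dim X.obj.left : ℤ) - r)))
    (hef : ∀ r, r ≤ 2 * WeilCoh.dim X.obj.left → ∀ i l : ι r,
      T.tr X ((f r l : T.H X) * (e r i : T.H X)) = if i = l then 1 else 0) :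
    T.cl P (WeilCoh.sm j (genericPoint ↥X.obj.left)) =
      ∑ r ∈ Finset.range (2 * WeilCoh.dim X.obj.left + 1), ∑ i : ι r,
        T.pull p (T.pull φ (e r i : T.H X)) * T.pull q (f r i : T.H X) := by
  have hd := dim_prod T p q hP
  refine kunneth_ext T hP fun s t a ha b hb => ?_
  rw [tr_cl_section T j p hjp, cl_genericPoint, one_mul, map_mul (T.pull j), pull_pull, pull_pull,
    hjp, hjq, pull_id_apply, Finset.sum_mul, map_sum]
  rcases lt_or_ge t 0 with ht | ht
  · simp [eq_zero_of_mem_of_out T hb (Or.inl ht)]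
  obtain ⟨m, rfl⟩ : ∃ m : ℕ, t = (m : ℤ) := ⟨t.toNat, (Int.toNat_of_nonneg ht).symm⟩
  by_cases hm : m ≤ 2 * WeilCoh.dim X.obj.left
  swap
  · simp [eq_zero_of_mem_of_out T hb (Or.inr (by omega))]
  have key : ∀ r i, T.tr P (T.pull p (T.pull φ (e r i : T.H X)) * T.pull q (f r i : T.H X) *
      (T.pull p a * T.pull q b)) = (-1 : K) ^ ((2 * (WeilCoh.dim X.obj.left : ℤ) - r) * s) *
        (T.tr X (T.pull φ (e r i : T.H X) * a) * T.tr X ((f r i : T.H X) * b)) := by
    intro r i
    rw [mul_assoc, ← mul_assoc (T.pull q _),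
      mul_comm_z T (T.pull_mem q _ _ (f r i).2) (T.pull_mem p _ _ ha), smul_mul_assoc,
      mul_smul_comm, map_smul, smul_eq_mul, mul_assoc, ← map_mul (T.pull q), ← mul_assoc,
      ← map_mul (T.pull p), tr_prod' T p q hP
        (SetLike.mul_mem_graded (T.pull_mem φ _ _ (e r i).2) ha)
        (SetLike.mul_mem_graded (f r i).2 hb)]
  rw [Finset.sum_eq_single m]
  · rw [Finset.sum_mul, map_sum]
    simp only [key, ← Finset.mul_sum]
    let g : ↥(T.gr X (m : ℤ)) →ₗ[K] K :=
      T.tr X ∘ₗ LinearMap.mulRight K a ∘ₗ (T.pull φ).toLinearMap ∘ₗ (T.gr X (m : ℤ)).subtype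
    have h₁ := sum_dual T (e m) (f m) (hef m hm) g ⟨b, hb⟩
    rw [Finset.sum_congr rfl (fun i _ => mul_comm _ _), show
      ∑ i, T.tr X ((f m i : T.H X) * b) * T.tr X (T.pull φ (e m i : T.H X) * a) =
        T.tr X (T.pull φ b * a) from h₁]
    rw [mul_comm_z T (T.pull_mem φ _ _ hb) ha, map_smul, smul_eq_mul, ← mul_assoc,
      ← zpow_add₀ (by simp)]
    rw [Even.neg_one_zpow ⟨(WeilCoh.dim X.obj.left : ℤ) * s, by ring⟩, one_mul]
  · intro r _ hr
    rw [Finset.sum_mul, map_sum]
    refine Finset.sum_eq_zero fun i _ => ?_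
    rw [key, tr_mul_eq_zero T (f r i).2 hb (by omega), mul_zero, mul_zero]
  · intro h
    exact absurd (Finset.mem_range.mpr (by omega)) h

end Groth.Agent.S15451
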