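import Groth.Statements.S15450
import Groth.Agent.WeilLib.Kunneth
import Groth.Agent.S15451


set_option autoImplicit false
universe u v
open CategoryTheory AlgebraicGeometry
open WeilCoh Groth.Agent.WeilLib

namespace Groth.Agent.S15450

/-- Let H^* be a Weil cohomology theory (coefficients in K of characteristic zero, on nonsingular
connected projective varieties over an algebraically closed field k), φ an endomorphism of such a
variety X, and Γ_φ, Δ ⊂ X × X the graph of φ and the diagonal. Then (Γ_φ · Δ) = Σ_{i=0}^{2 dim X}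
(−1)^i trace(φ^* | H^i(X)). The intersection number is written in the form Tr_{X×X}(cl(Γ_φ) ∪ cl(Δ))
that the argument establishes (it equals the Chow-ring intersection number once the cycle class map
is known to be a ring homomorphism compatible with degrees); X × X is any object P with a cartesian
square p, q : P → X over Spec k, Γ_φ and Δ are the closures of the images of the generic point of X
under the sections j = (id, φ) and d = (id, id) of p. -/
theorem result (k : Type u) [Field k] [IsAlgClosed k] (K : Type v) [Field K] [CharZero K]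
    (T : WeilCoh.Theory k K)
    (X P : WeilCoh.Var k) [IrreducibleSpace ↥X.obj.left] (φ : X ⟶ X)
    (p q : P ⟶ X) (hP : WeilCoh.IsProd p q) (j d : X ⟶ P)
    (hjp : j ≫ p = 𝟙 X) (hjq : j ≫ q = φ) (hdp : d ≫ p = 𝟙 X) (hdq : d ≫ q = 𝟙 X) :
    T.tr P (T.cl P (WeilCoh.sm j (genericPoint ↥X.obj.left)) * T.cl P (WeilCoh.sm d (genericPoint ↥X.obj.left))) =
      ∑ i ∈ Finset.range (2 * WeilCoh.dim X.obj.left + 1),
        (-1 : K) ^ i * LinearMap.trace K ↥(T.gr X (i : ℤ)) (T.pullDeg φ (i : ℤ)) := by
  obtain ⟨e, f, hef⟩ := exists_bases T X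
  have hΓ := Groth.Agent.S15451.result k K T X P φ p q hP j hjp hjq _ e f hef
  rw [mul_comm_even T (even_two_mul _) (T.cl_mem P _) (T.cl_mem P _), tr_cl_section T d p hdp,
    cl_genericPoint, one_mul, hΓ, map_sum, map_sum]
  refine Finset.sum_congr rfl fun r hr => ?_
  have hr' : r ≤ 2 * WeilCoh.dim X.obj.left := by simpa [Nat.lt_succ_iff] using hr
  rw [map_sum, map_sum, trace_eq_sum T (e r) (f r) (hef r hr'), Finset.mul_sum]
  refine Finset.sum_congr rfl fun i _ => ?_
  rw [map_mul (T.pull d), pull_pull, hdp, pull_id_apply, pull_pull, hdq, pull_id_apply,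
    mul_comm_z T (T.pull_mem φ _ _ (e r i).2) (f r i).2, map_smul, smul_eq_mul]
  congr 1
  rw [← zpow_natCast (-1 : K) r]
  refine zsign_eq ?_
  rcases Int.even_or_odd (r : ℤ) with ⟨t, ht⟩ | ⟨t, ht⟩
  · exact ⟨t * (2 * (WeilCoh.dim X.obj.left : ℤ) - r) - t, by rw [ht]; ring⟩
  · exact ⟨(WeilCoh.dim X.obj.left : ℤ) * r - (t + 1) * (2 * t + 1), by rw [ht]; ring⟩

end Groth.Agent.S15450
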