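import Mathlib
import Groth.Statements.S15465
-- import your own Groth.Agent.* helpers here

set_option autoImplicit false
universe v u
open HomAlg

namespace Groth.Agent.S15465

open CategoryTheory CategoryTheory.Limits in
/-- In an abelian category let 0 → A₂ → B₂ → C₂ → 0 (maps i₂, π₂), 0 → A₁ → A₂ → A₃ → 0 (maps i₁, p₁)
and 0 → C₁ → C₂ → C₃ → 0 (maps j, q) be short exact sequences, let α = i₁ ≫ i₂ : A₁ → B₂ and β = π₂
≫ q : B₂ → C₃, and let K = ker β / im α be the homology object of the complex A₁ → B₂ → C₃. Let f :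
A₃ → K be the map induced by i₂ (the unique map whose composite with p₁ is the homology class of the
cycle i₂) and g : K → C₁ the map induced by π₂ (the unique map whose composite with j is the map K →
C₂ induced by π₂). Then 0 → A₃ → K → C₁ → 0, with maps f and g, is a short exact sequence. (The
hypotheses w, h₂, h₃ are consequences of i₂ ≫ π₂ = 0, carried so that the maps can be named; the
published statement assumes in addition that the category has enough injective objects, which plays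
no role in this assertion.) -/
theorem result
    {C : Type u} [Category.{v} C] [Abelian C] {A₁ A₂ A₃ B₂ C₁ C₂ C₃ : C}
    (i₁ : A₁ ⟶ A₂) (p₁ : A₂ ⟶ A₃) (wA : i₁ ≫ p₁ = 0) (hA : (ShortComplex.mk i₁ p₁ wA).ShortExact)
    (i₂ : A₂ ⟶ B₂) (π₂ : B₂ ⟶ C₂) (wB : i₂ ≫ π₂ = 0) (hB : (ShortComplex.mk i₂ π₂ wB).ShortExact)
    (j : C₁ ⟶ C₂) (q : C₂ ⟶ C₃) (wC : j ≫ q = 0) (hC : (ShortComplex.mk j q wC).ShortExact)
    (w : (i₁ ≫ i₂) ≫ (π₂ ≫ q) = 0) (h₂ : i₂ ≫ (π₂ ≫ q) = 0) (h₃ : (i₁ ≫ i₂) ≫ π₂ = 0)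
    (f : A₃ ⟶ (CategoryTheory.ShortComplex.mk (i₁ ≫ i₂) (π₂ ≫ q) w).homology)
    (g : (CategoryTheory.ShortComplex.mk (i₁ ≫ i₂) (π₂ ≫ q) w).homology ⟶ C₁)
    (hf : p₁ ≫ f = (CategoryTheory.ShortComplex.mk (i₁ ≫ i₂) (π₂ ≫ q) w).liftCycles i₂ h₂ ≫ (CategoryTheory.ShortComplex.mk (i₁ ≫ i₂) (π₂ ≫ q) w).homologyπ)
    (hg : g ≫ j = (CategoryTheory.ShortComplex.mk (i₁ ≫ i₂) (π₂ ≫ q) w).homologyι ≫ (CategoryTheory.ShortComplex.mk (i₁ ≫ i₂) (π₂ ≫ q) w).descOpcycles π₂ h₃) :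
    ∃ wfg : f ≫ g = 0, (ShortComplex.mk f g wfg).ShortExact := by
  have := hA.epi_g
  have := hA.mono_f
  have := hB.mono_f
  have := hB.epi_g
  have := hC.mono_f
  dsimp at *
  have hι : ∀ {T : C} (b : T ⟶ B₂) (hb : b ≫ π₂ ≫ q = 0),
      ((ShortComplex.mk (i₁ ≫ i₂) (π₂ ≫ q) w).liftCycles b hb ≫ (ShortComplex.mk (i₁ ≫ i₂) (π₂ ≫ q) w).homologyπ) ≫ g ≫ j = b ≫ π₂ := fun b hb => by
    rw [hg, Category.assoc, (ShortComplex.mk (i₁ ≫ i₂) (π₂ ≫ q) w).homology_π_ι_assoc, (ShortComplex.mk (i₁ ≫ i₂) (π₂ ≫ q) w).p_descOpcycles, ← Category.assoc, (ShortComplex.mk (i₁ ≫ i₂) (π₂ ≫ q) w).liftCycles_i]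
  have wfg : f ≫ g = 0 := by
    rw [← cancel_epi p₁, ← cancel_mono j, comp_zero, zero_comp, Category.assoc, Category.assoc, reassoc_of% hf, ← Category.assoc, hι, wB]
  refine ⟨wfg, ShortComplex.ShortExact.mk' ?_ ?_ ?_⟩
  · rw [ShortComplex.exact_iff_exact_up_to_refinements]
    intro T k hk
    obtain ⟨T', π, _, b, hb, hkb⟩ := (ShortComplex.mk (i₁ ≫ i₂) (π₂ ≫ q) w).eq_liftCycles_homologyπ_up_to_refinements k
    have h1 : b ≫ π₂ = 0 := by
      rw [← hι b hb, ← hkb]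
      dsimp at hk
      rw [Category.assoc, reassoc_of% hk, zero_comp, comp_zero]
    obtain ⟨T'', π', _, a, ha⟩ := hB.exact.exact_up_to_refinements b h1
    dsimp at ha
    refine ⟨T'', π' ≫ π, inferInstance, a ≫ p₁, ?_⟩
    dsimp
    rw [Category.assoc, hkb, Category.assoc, hf, ← Category.assoc, ← Category.assoc]
    congr 1
    rw [← cancel_mono (ShortComplex.mk (i₁ ≫ i₂) (π₂ ≫ q) w).iCycles]
    simp [ha]
  · refine Preadditive.mono_of_cancel_zero _ fun {T} x hx => ?_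
    dsimp at hx
    obtain ⟨T', π, _, a, ha⟩ := surjective_up_to_refinements_of_epi p₁ x
    have h0 : (ShortComplex.mk (i₁ ≫ i₂) (π₂ ≫ q) w).liftCycles (a ≫ i₂) (by rw [Category.assoc, h₂, comp_zero]) ≫ (ShortComplex.mk (i₁ ≫ i₂) (π₂ ≫ q) w).homologyπ = 0 := by
      rw [← (ShortComplex.mk (i₁ ≫ i₂) (π₂ ≫ q) w).comp_liftCycles i₂ h₂, Category.assoc, ← hf, ← Category.assoc, ← ha, Category.assoc, hx, comp_zero]
    obtain ⟨T'', π', _, b, hb⟩ := ((ShortComplex.mk (i₁ ≫ i₂) (π₂ ≫ q) w).liftCycles_comp_homologyπ_eq_zero_iff_up_to_refinements _ _).1 h0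
    dsimp at hb
    have : π' ≫ a = b ≫ i₁ := by rw [← cancel_mono i₂, Category.assoc, hb, Category.assoc]
    rw [← cancel_epi π, ← cancel_epi π', comp_zero, comp_zero, ha, ← Category.assoc, this, Category.assoc, wA, comp_zero]
  · dsimp
    rw [epi_iff_surjective_up_to_refinements]
    intro T y
    obtain ⟨T', π, _, b, hb⟩ := surjective_up_to_refinements_of_epi π₂ (y ≫ j)
    have hb0 : b ≫ π₂ ≫ q = 0 := by rw [← reassoc_of% hb, wC, comp_zero, comp_zero]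
    refine ⟨T', π, inferInstance, (ShortComplex.mk (i₁ ≫ i₂) (π₂ ≫ q) w).liftCycles b hb0 ≫ (ShortComplex.mk (i₁ ≫ i₂) (π₂ ≫ q) w).homologyπ, ?_⟩
    rw [← cancel_mono j, Category.assoc, hb, Category.assoc, hι]

end Groth.Agent.S15465
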