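import Groth.Statements.S15472
import Groth.Agent.AlgStLib.Basic
import Groth.Agent.AlgSpLib.LocPCover
-- import your own Groth.Agent.* helpers here

set_option autoImplicit false
set_option backward.isDefEq.respectTransparency.types false
universe u
open CategoryTheory AlgebraicGeometry
open IsoNat

namespace Groth.Agent.S15472

/-- Quasi-compactness of algebraic stacks is detected by the presheaf of isomorphism classes. If 𝒳 and 𝒴
are algebraic stacks over a quasi-separated scheme S with isomorphic presheaves of isomorphism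
classes and 𝒳 has a smooth surjective morphism from an affine scheme, so does 𝒴. Here an algebraic
stack over a quasi-separated scheme S means a stack in groupoids for the fppf topology with a smooth
surjective atlas from a scheme, whose diagonal is representable by separated quasi-compact morphisms
of algebraic spaces and whose inertia is locally of finite presentation over it. -/
theorem result
    (S : Scheme.{u}) [QuasiSeparatedSpace S]
    (𝒳 𝒴 : AlgSt.Cat S)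
    (h𝒳 : AlgSt.IsAlgStack Scheme.fppfPrecoverage 𝒳)
    (h𝒳d : AlgSt.RepByAlgSpWith (AlgSp.IsSeparatedMor ⊓ AlgSp.IsQuasiCompactMor)
      (FibCat.diag (FibCat.toSelf 𝒳)))
    (h𝒳i : AlgSt.RepByAlgSpWith (AlgSp.LocP @LocallyOfFinitePresentation)
      (FibCat.inertiaToBase (FibCat.toSelf 𝒳)))
    (h𝒴 : AlgSt.IsAlgStack Scheme.fppfPrecoverage 𝒴)
    (h𝒴d : AlgSt.RepByAlgSpWith (AlgSp.IsSeparatedMor ⊓ AlgSp.IsQuasiCompactMor)
      (FibCat.diag (FibCat.toSelf 𝒴)))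
    (h𝒴i : AlgSt.RepByAlgSpWith (AlgSp.LocP @LocallyOfFinitePresentation)
      (FibCat.inertiaToBase (FibCat.toSelf 𝒴)))
    (φ : IsoNat.FIso 𝒳 𝒴)
    (hqc : AlgSt.IsQuasiCompact 𝒳) :
    AlgSt.IsQuasiCompact 𝒴 := by
  classical
  open AlgSp Groth.Agent.AlgSpLib Groth.Agent.AlgStLib Groth.Agent.FibBasics in
  obtain ⟨U, x, hU, -, hxs⟩ := hqc
  have hX := h𝒳.isStack.1
  have hY := h𝒴.isStack.1
  obtain ⟨V, z, hzsm, hzs⟩ := h𝒴.atlas
  have := isFibered_of_isFibGrpd _ hX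
  have := isFibered_of_isFibGrpd _ hY
  -- the object of `𝒴` corresponding to the atlas
  let ξ₀ : 𝒳.p.Fiber U := ⟨x.obj (one U), x.w_obj _⟩
  obtain ⟨η₀, hη₀⟩ := Quotient.exists_rep (φ.toEquiv U (IsoNat.cls ξ₀))
  obtain ⟨y, -, ⟨iy⟩⟩ := exists_evalAtId_iso η₀
  obtain ⟨F, e, he, hsm⟩ := hzsm U y
  obtain ⟨F₂, e₂, he₂, hsurj₂⟩ := hzs U y
  have hsurj := surjective_of_fieldSurj hY he (fieldSurj_of_surjective hsurj₂)
  -- a chart of the base change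
  obtain ⟨W, σ, hσ, hσs⟩ := F.property.atlas
  let Φ₁ := BasedFunctor.comp e (FibCat.fpFst y z)
  let Φ₂ := BasedFunctor.comp e (FibCat.fpSnd y z)
  obtain ⟨π, hπ⟩ := (yon S).map_surjective (σ ≫ AlgSt.spMapOfOver Φ₁)
  obtain ⟨ω, hω⟩ := (yon S).map_surjective (σ ≫ AlgSt.spMapOfOver Φ₂)
  have hπsm : Smooth π.left := hsm σ (𝟙 _) π hσ (repWith_id _ U) (by rw [Category.comp_id, hπ])
  have hπs : Surjective π.left := (repWith_yon_map_iff _ _).1 (repWith_surjective_of_map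
    ((IsAlgSpace.yon_obj U).representable_from_yon _) fun t => by
      obtain ⟨f, rfl⟩ := hsurj t
      obtain ⟨w, rfl⟩ := surjective_map_of_repWith hσs f
      exact ⟨w, by rw [hπ, Points.map_comp]⟩)
  obtain ⟨s₁, hs₁⟩ := isCompact_univ.elim_finite_subcover (ι := W.left.affineOpens)
    (fun O => π.left '' (O.1 : Set ↥W.left))
    (fun O => isOpenMap_of_flat_lfp π.left ⟨inferInstance, inferInstance⟩ _ O.1.isOpen) (by
      intro u _
      obtain ⟨w, rfl⟩ := π.left.surjective u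
      obtain ⟨O, hO, hw, -⟩ := exists_isAffineOpen_mem_and_subset (X := W.left) (x := w) (U := ⊤) trivial
      exact Set.mem_iUnion.2 ⟨⟨O, hO⟩, w, hw, rfl⟩)
  let C : Set ↥W.left := ⋃ O ∈ s₁, ((O : W.left.affineOpens).1 : Set ↥W.left)
  have hC : IsCompact C := s₁.isCompact_biUnion fun O _ => O.2.isCompact
  obtain ⟨s₂, hs₂⟩ := (hC.image ω.left.continuous).elim_finite_subcover (ι := V.left.affineOpens)
    (fun O => ((O.1 : V.left.Opens) : Set ↥V.left)) (fun O => O.1.isOpen) (by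
      intro v _
      obtain ⟨O, hO, hv, -⟩ := exists_isAffineOpen_mem_and_subset (X := V.left) (x := v) (U := ⊤) trivial
      exact Set.mem_iUnion.2 ⟨⟨O, hO⟩, hv⟩)
  let Y : s₂ → Scheme.{u} := fun i => (i.1.1 : V.left.Opens).toScheme
  have : ∀ i, IsAffine (Y i) := fun i => i.1.2
  let k₀ : ∐ Y ⟶ V.left := Limits.Sigma.desc fun i : s₂ => (i.1.1 : V.left.Opens).ι
  have hk₀ : Etale k₀ := IsZariskiLocalAtSource.sigmaDesc (P := @Etale)
    (fun i => inferInstanceAs (Etale (i.1.1 : V.left.Opens).ι))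
  let V₀ : Over S := Over.mk (k₀ ≫ V.hom)
  let k : V₀ ⟶ V := Over.homMk k₀ rfl
  have hcov : ∀ v ∈ ω.left '' C, ∃ v₀ : ↥V₀.left, k.left v₀ = v := fun v hv => by
    obtain ⟨O, hO, hvO⟩ := Set.mem_iUnion₂.1 (hs₂ hv)
    refine ⟨(Limits.Sigma.ι Y ⟨O, hO⟩) ⟨v, hvO⟩, ?_⟩
    change (Limits.Sigma.ι Y ⟨O, hO⟩ ≫ k₀) ⟨v, hvO⟩ = v
    simp only [k₀, Limits.Sigma.ι_desc]
    rfl
  -- the key: field-valued surjectivity of the new chart
  have key : ∀ (T : Over S) (y' : FibCat.overCat T ⥤ᵇ 𝒴),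
      FieldSurj y' (BasedFunctor.comp (AlgSt.overMap k) z) := by
    intro T y' K _ str t
    let θ : 𝒴.p.Fiber (Over.mk str) := ⟨y'.obj (Over.mk t), y'.w_obj _⟩
    obtain ⟨ξθ, hξθ⟩ := Quotient.exists_rep ((φ.toEquiv _).symm (IsoNat.cls θ))
    obtain ⟨G, -, ⟨iG⟩⟩ := exists_evalAtId_iso ξθ
    obtain ⟨F₃, e₃, -, hsurj₃⟩ := hxs (Over.mk str) G
    obtain ⟨K₁, _, str₁, g, a, ψ, hψ⟩ := fieldSurj_of_surjective hsurj₃ K str (𝟙 _)
    -- the class of `x a` in both directions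
    have ha₁ : 𝒳.p.obj (x.obj a) = Over.mk str₁ := @IsHomLift.domain_eq _ _ _ _ 𝒳.p _ _ _ _ g ψ hψ
    have ha : a.left = Over.mk str₁ := (x.w_obj a).symm.trans ha₁
    let u : Over.mk str₁ ⟶ U := eqToHom ha.symm ≫ a.hom
    obtain ⟨φu, ψu, hφu, hψu⟩ := exists_mk_hom x a (T := Over.mk str₁) ha
    let xu : 𝒳.p.Fiber (Over.mk str₁) := ⟨x.obj (Over.mk u), x.w_obj _⟩
    have hl₁ : 𝒳.p.IsHomLift g ((φu ≫ ψ) ≫ iG.hom.1) := lift₃ hφu hψ iG.hom.2
    obtain ⟨y₁', y₁, b₁, hb₁, hc₁', hc₁⟩ := φ.natural g xu ξθ _ hl₁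
    obtain ⟨y₂', y₂, b₂, hb₂, hc₂', hc₂⟩ := φ.natural u xu ξ₀
      (x.map (Over.homMk u (Category.comp_id u) : (Over.mk u : (FibCat.overCat U).obj) ⟶ one U))
      (slice_map_lift x u (𝟙 U) u (Category.comp_id u))
    have e₀ : IsoNat.cls η₀ = φ.toEquiv U (IsoNat.cls ξ₀) := hη₀
    have eθ : φ.toEquiv _ (IsoNat.cls ξθ) = IsoNat.cls θ :=
      (congrArg (φ.toEquiv _) hξθ).trans (Equiv.apply_symm_apply _ _)
    obtain ⟨m₁, hm₁⟩ := hom_of_cls_eq (hc₁.symm.trans eθ)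
    obtain ⟨m₂, hm₂⟩ := hom_of_cls_eq (hc₂'.symm.trans hc₁')
    obtain ⟨m₃, hm₃⟩ := hom_of_cls_eq (hc₂.symm.trans e₀.symm)
    have := hm₃
    have := hb₂
    have := iy.inv.2
    have hl₂ : 𝒴.p.IsHomLift u ((b₂ ≫ m₃) ≫ iy.inv.1) := inferInstance
    have hl₃ := slice_map_lift y u (𝟙 U) u (Category.comp_id u)
    obtain ⟨χ, hχ⟩ := exists_compare hY u _ _ hl₃ hl₂
    have hl₄ : ∃ β : y.obj (Over.mk u) ⟶ y'.obj (Over.mk t), 𝒴.p.IsHomLift g β := by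
      have := hm₁
      have := hm₂
      have := hb₁
      have := hχ
      exact ⟨((χ.hom ≫ m₂) ≫ b₁) ≫ m₁, inferInstance⟩
    obtain ⟨β, hβ⟩ := hl₄
    -- a common extension
    let u₀ : ↥(Over.mk str₁).left := (IsLocalRing.closedPoint K₁ : PrimeSpectrum K₁)
    obtain ⟨O, hO, w₀, hw₀, hw₀u⟩ := Set.mem_iUnion₂.1 (hs₁ (Set.mem_univ (u.left u₀)))
    obtain ⟨v₀, hv₀⟩ := hcov _ ⟨w₀, Set.mem_iUnion₂.2 ⟨O, hO, hw₀⟩, rfl⟩
    obtain ⟨P, p₁, p₂, sP⟩ : ∃ (P : Over S) (p₁ : P ⟶ W) (p₂ : P ⟶ Over.mk str₁), IsPullback p₁ p₂ π u :=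
      ⟨_, _, _, IsPullback.of_hasPullback π u⟩
    obtain ⟨p, hp, -⟩ := exists_point_pullback (left_isPullback sP) hw₀u
    obtain ⟨Q, q₁, q₂, sQ⟩ : ∃ (Q : Over S) (q₁ : Q ⟶ P) (q₂ : Q ⟶ V₀), IsPullback q₁ q₂ (p₁ ≫ ω) k :=
      ⟨_, _, _, IsPullback.of_hasPullback (p₁ ≫ ω) k⟩
    obtain ⟨q, -, -⟩ := exists_point_pullback (left_isPullback sQ) (x₁ := p) (x₂ := v₀)
      (by rw [Over.comp_left, Scheme.Hom.comp_apply, hp, hv₀])
    let str₂ : Spec (CommRingCat.of ↥(Q.left.residueField q)) ⟶ S := Q.left.fromSpecResidueField q ≫ Q.hom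
    let j : Over.mk str₂ ⟶ Q := Over.homMk (Q.left.fromSpecResidueField q) rfl
    let s := (J S).uliftYonedaEquiv ((yon S).map (j ≫ q₁ ≫ p₁) ≫ σ)
    have hs : ∀ {U' : Over S} (Φ : AlgSt.ofSp F.obj ⥤ᵇ FibCat.overCat U') (π' : W ⟶ U'),
        (yon S).map π' = σ ≫ AlgSt.spMapOfOver Φ →
          AlgSt.secHom Φ ⟨Over.mk str₂, s⟩ = (j ≫ q₁ ≫ p₁) ≫ π' := fun Φ π' hπ' => by
      have h1 := AlgSt.spMapOfOver_app Φ _ s
      rw [← GrothendieckTopology.uliftYonedaEquiv_comp, Category.assoc, ← hπ', ← Functor.map_comp] at h1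
      exact (congrArg ULift.down h1).symm
    obtain ⟨γ, hγ⟩ := exists_hom_of_sec e s
    obtain ⟨δ, -, hδ, -⟩ := exists_mk_hom z ((FibCat.fpSnd y z).obj (e.obj ⟨Over.mk str₂, s⟩))
      (T := Over.mk str₂) ((FibCat.fpSnd y z).w_obj _ |>.trans (e.w_obj _))
    let h : Over.mk str₂ ⟶ Over.mk str₁ := j ≫ q₁ ≫ p₂
    have hh : h ≫ u = AlgSt.secHom Φ₁ ⟨Over.mk str₂, s⟩ := by
      rw [hs Φ₁ π hπ]
      simp only [h, Category.assoc, sP.w]
    have hh₂ : (j ≫ q₂) ≫ k = AlgSt.secHom Φ₂ ⟨Over.mk str₂, s⟩ := by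
      rw [hs Φ₂ ω hω]
      simp only [Category.assoc, sQ.w]
    let a' : (FibCat.overCat V₀).obj := Over.mk (j ≫ q₂)
    let m₀ : z.obj ((AlgSt.overMap k).obj a') ⟶ _ :=
      z.map (Over.homMk (𝟙 _) ((Category.id_comp _).trans hh₂.symm) :
        (Over.mk ((j ≫ q₂) ≫ k) : (FibCat.overCat V).obj) ⟶ Over.mk (AlgSt.secHom Φ₂ ⟨Over.mk str₂, s⟩))
    have hm₀ : 𝒴.p.IsHomLift (𝟙 (Over.mk str₂)) m₀ := slice_map_lift z _ _ _ _
    let δ' : z.obj (Over.mk (AlgSt.secHom Φ₂ ⟨Over.mk str₂, s⟩)) ⟶ _ := δ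
    have hδ' : 𝒴.p.IsHomLift (𝟙 (Over.mk str₂)) δ' := hδ
    let mh : y.obj (Over.mk (AlgSt.secHom Φ₁ ⟨Over.mk str₂, s⟩)) ⟶ y.obj (Over.mk u) :=
      y.map (Over.homMk h hh : Over.mk (AlgSt.secHom Φ₁ ⟨Over.mk str₂, s⟩) ⟶ Over.mk u)
    have hmh : 𝒴.p.IsHomLift h mh := slice_map_lift y h _ _ hh
    exact ⟨_, inferInstance, str₂, h ≫ g, a', (((m₀ ≫ δ') ≫ γ) ≫ mh) ≫ β, lift₅ hm₀ hδ' hγ hmh hβ⟩
  refine ⟨V₀, BasedFunctor.comp (AlgSt.overMap k) z, inferInstanceAs (IsAffine (∐ Y)), fun T y' => ?_,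
    fun T y' => ?_⟩
  · obtain ⟨F', e', he', hsm'⟩ := hzsm T y'
    obtain ⟨P, q, q', e'', sq, he'', hproj⟩ := exists_rep_overMap y' z k he'
    refine ⟨P, e'', he'', ?_⟩
    rw [hproj]
    exact locP_comp P.property F'.property (IsAlgSpace.yon_obj _)
      (locP_baseChange (IsAlgSpace.yon_obj _) (IsAlgSpace.yon_obj _) F'.property sq.flip
        ((locP_yon_map_iff k).2 (inferInstanceAs (Smooth k₀)))) hsm'
  · obtain ⟨F', e', he', -⟩ := hzsm T y'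
    obtain ⟨P, q, q', e'', -, he'', -⟩ := exists_rep_overMap y' z k he'
    exact ⟨P, e'', he'', surjective_of_fieldSurj hY he'' (key T y')⟩

end Groth.Agent.S15472
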