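import Groth.Statements.S15477
import Groth.Agent.AlgStLib.IsoCls
-- import your own Groth.Agent.* helpers here

set_option autoImplicit false
set_option backward.isDefEq.respectTransparency.types false
universe u
open CategoryTheory AlgebraicGeometry
open IsoNat

namespace Groth.Agent.S15477

/-- For morphisms representable by algebraic spaces, surjectivity is detected by the induced map of
presheaves of isomorphism classes. Let f : 𝒳 → 𝒴 and f' : 𝒳' → 𝒴' be morphisms of algebraic stacks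
over a quasi-separated scheme S, both representable by algebraic spaces, with isomorphisms of the
presheaves of isomorphism classes of 𝒳 with 𝒳' and of 𝒴 with 𝒴' under which the induced maps
correspond. If f is surjective (every base change to a scheme is a surjective morphism of algebraic
spaces) then so is f'. Here an algebraic stack over a quasi-separated scheme S means a stack in
groupoids for the fppf topology with a smooth surjective atlas from a scheme, whose diagonal is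
representable by separated quasi-compact morphisms of algebraic spaces and whose inertia is locally
of finite presentation over it. (The published statement compares within the wider class of
quasi-algebraic stacks, which need not have an atlas; this row compares algebraic stacks only.) -/
theorem result
    (S : Scheme.{u}) [QuasiSeparatedSpace S]
    (𝒳 𝒴 : AlgSt.Cat S)
    (h𝒳 : AlgSt.IsAlgStack Scheme.fppfPrecoverage 𝒳)
    (h𝒳d : AlgSt.RepByAlgSpWith (AlgSp.IsSeparatedMor ⊓ AlgSp.IsQuasiCompactMor)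
      (FibCat.diag (FibCat.toSelf 𝒳)))
    (h𝒳i : AlgSt.RepByAlgSpWith (AlgSp.LocP @LocallyOfFinitePresentation)
      (FibCat.inertiaToBase (FibCat.toSelf 𝒳)))
    (h𝒴 : AlgSt.IsAlgStack Scheme.fppfPrecoverage 𝒴)
    (h𝒴d : AlgSt.RepByAlgSpWith (AlgSp.IsSeparatedMor ⊓ AlgSp.IsQuasiCompactMor)
      (FibCat.diag (FibCat.toSelf 𝒴)))
    (h𝒴i : AlgSt.RepByAlgSpWith (AlgSp.LocP @LocallyOfFinitePresentation)
      (FibCat.inertiaToBase (FibCat.toSelf 𝒴)))
    (𝒳' 𝒴' : AlgSt.Cat S)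
    (h𝒳' : AlgSt.IsAlgStack Scheme.fppfPrecoverage 𝒳')
    (h𝒳'd : AlgSt.RepByAlgSpWith (AlgSp.IsSeparatedMor ⊓ AlgSp.IsQuasiCompactMor)
      (FibCat.diag (FibCat.toSelf 𝒳')))
    (h𝒳'i : AlgSt.RepByAlgSpWith (AlgSp.LocP @LocallyOfFinitePresentation)
      (FibCat.inertiaToBase (FibCat.toSelf 𝒳')))
    (h𝒴' : AlgSt.IsAlgStack Scheme.fppfPrecoverage 𝒴')
    (h𝒴'd : AlgSt.RepByAlgSpWith (AlgSp.IsSeparatedMor ⊓ AlgSp.IsQuasiCompactMor)
      (FibCat.diag (FibCat.toSelf 𝒴')))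
    (h𝒴'i : AlgSt.RepByAlgSpWith (AlgSp.LocP @LocallyOfFinitePresentation)
      (FibCat.inertiaToBase (FibCat.toSelf 𝒴')))
    (f : 𝒳 ⥤ᵇ 𝒴) (f' : 𝒳' ⥤ᵇ 𝒴') (φ : IsoNat.FIsoSq f f')
    (hf' : AlgSt.RepByAlgSp1 f')
    (hf : AlgSt.RepByAlgSpWith AlgSp.IsSurjectiveMor f) :
    AlgSt.RepByAlgSpWith AlgSp.IsSurjectiveMor f' := by
  open AlgSp Groth.Agent.AlgSpLib Groth.Agent.AlgStLib Groth.Agent.FibBasics in
  intro T y
  obtain ⟨F, e, he⟩ := hf' T y
  refine ⟨F, e, he, surjective_of_fieldSurj h𝒴'.isStack.1 he ?_⟩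
  intro K _ str t
  have := isFibered_of_isFibGrpd _ h𝒴.isStack.1
  let θ' : 𝒴'.p.Fiber (Over.mk str) := ⟨y.obj (Over.mk t), y.w_obj _⟩
  obtain ⟨θ, hθ⟩ := Quotient.exists_rep ((φ.tgt.toEquiv _).symm (IsoNat.cls θ'))
  obtain ⟨G, -, ⟨iG⟩⟩ := exists_evalAtId_iso θ
  obtain ⟨F₁, e₁, -, hsurj⟩ := hf (Over.mk str) G
  obtain ⟨K₁, _, str₁, g, a, ψ, hψ⟩ := fieldSurj_of_surjective hsurj K str (𝟙 _)
  let a₁ : 𝒳.p.Fiber (Over.mk str₁) :=
    ⟨a, (f.w_obj a).symm.trans (@IsHomLift.domain_eq _ _ _ _ 𝒴.p _ _ _ _ g ψ hψ)⟩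
  have hm : 𝒴.p.IsHomLift g (ψ ≫ iG.hom.1) := by
    exact @IsHomLift.comp_lift_id_right _ _ _ _ 𝒴.p _ _ _ _ _ g ψ hψ _ iG.hom.2
  obtain ⟨a', m', -, hm'⟩ := exists_image_transfer φ g (a := a₁) (θ := θ) (θ' := θ')
    ((congrArg (φ.tgt.toEquiv _) hθ).trans (Equiv.apply_symm_apply _ _)) (ψ ≫ iG.hom.1) hm
  exact ⟨K₁, inferInstance, str₁, g, a'.1, m', hm'⟩

end Groth.Agent.S15477
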