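import Groth.Statements.S15487
import Groth.Agent.AlgStLib.IsoCls
-- import your own Groth.Agent.* helpers here

set_option autoImplicit false
set_option backward.isDefEq.respectTransparency.types false
universe u
open CategoryTheory AlgebraicGeometry
open IsoNat

namespace Groth.Agent.S15487

/-- Surjectivity of a morphism of algebraic stacks is detected by the induced map of presheaves of
isomorphism classes. Let f : 𝒳 → 𝒴 and f' : 𝒳' → 𝒴' be morphisms of algebraic stacks over a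
quasi-separated scheme S with isomorphisms of the presheaves of isomorphism classes of 𝒳 with 𝒳' and
of 𝒴 with 𝒴' under which the induced maps correspond. If f induces a surjective map on spaces of
points, so does f'. Here an algebraic stack over a quasi-separated scheme S means a stack in
groupoids for the fppf topology with a smooth surjective atlas from a scheme, whose diagonal is
representable by separated quasi-compact morphisms of algebraic spaces and whose inertia is locally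
of finite presentation over it. -/
theorem result
    (S : Scheme.{u}) [QuasiSeparatedSpace S]
    (𝒳 𝒴 : AlgSt.Cat S)
    (h𝒳 : AlgSt.IsAlgStack Scheme.fppfPrecoverage 𝒳)
    (h𝒳d : AlgSt.RepByAlgSpWith (AlgSp.IsSeparatedMor ⊓ AlgSp.IsQuasiCompactMor)
      (FibCat.diag (FibCat.toSelf 𝒳)))
    (h𝒳i : AlgSt.RepByAlgSpWith (AlgSp.LocP @LocallyOfFinitePresentation)
      (FibCat.inertiaToBase (FibCat.toSelf 𝒳)))
    (h𝒴 : AlgSt.IsAlgStack Scheme.fppfPrecoverage 𝒴)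
    (h𝒴d : AlgSt.RepByAlgSpWith (AlgSp.IsSeparatedMor ⊓ AlgSp.IsQuasiCompactMor)
      (FibCat.diag (FibCat.toSelf 𝒴)))
    (h𝒴i : AlgSt.RepByAlgSpWith (AlgSp.LocP @LocallyOfFinitePresentation)
      (FibCat.inertiaToBase (FibCat.toSelf 𝒴)))
    (𝒳' 𝒴' : AlgSt.Cat S)
    (h𝒳' : AlgSt.IsAlgStack Scheme.fppfPrecoverage 𝒳')
    (h𝒳'd : AlgSt.RepByAlgSpWith (AlgSp.IsSeparatedMor ⊓ AlgSp.IsQuasiCompactMor)
      (FibCat.diag (FibCat.toSelf 𝒳')))
    (h𝒳'i : AlgSt.RepByAlgSpWith (AlgSp.LocP @LocallyOfFinitePresentation)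
      (FibCat.inertiaToBase (FibCat.toSelf 𝒳')))
    (h𝒴' : AlgSt.IsAlgStack Scheme.fppfPrecoverage 𝒴')
    (h𝒴'd : AlgSt.RepByAlgSpWith (AlgSp.IsSeparatedMor ⊓ AlgSp.IsQuasiCompactMor)
      (FibCat.diag (FibCat.toSelf 𝒴')))
    (h𝒴'i : AlgSt.RepByAlgSpWith (AlgSp.LocP @LocallyOfFinitePresentation)
      (FibCat.inertiaToBase (FibCat.toSelf 𝒴')))
    (f : 𝒳 ⥤ᵇ 𝒴) (f' : 𝒳' ⥤ᵇ 𝒴') (φ : IsoNat.FIsoSq f f')
    (hf : AlgSt.IsSurjective f) :
    AlgSt.IsSurjective f' := by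
  open AlgSp Groth.Agent.AlgSpLib Groth.Agent.AlgStLib Groth.Agent.FibBasics in
  let rep : AlgSt.FPt 𝒴 → AlgSt.FPt 𝒴' := fun p =>
    { K := p.K
      str := p.str
      obj := (Quotient.out (φ.tgt.toEquiv (Over.mk p.str) (IsoNat.cls ⟨p.obj, p.lies⟩))).1
      lies := (Quotient.out (φ.tgt.toEquiv (Over.mk p.str) (IsoNat.cls ⟨p.obj, p.lies⟩))).2 }
  have hrel : ∀ p q, AlgSt.FPt.Rel p q → AlgSt.FPt.Rel (rep p) (rep q) := by
    rintro p q ⟨r, a, b, -⟩
    have tr : ∀ (p : AlgSt.FPt 𝒴) (a : r.obj ⟶ p.obj), Nonempty ((rep r).obj ⟶ (rep p).obj) := fun p a => by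
      let g : Over.mk r.str ⟶ Over.mk p.str := eqToHom r.lies.symm ≫ 𝒴.p.map a ≫ eqToHom p.lies
      obtain ⟨m, -⟩ := exists_hom_transfer φ.tgt g (x' := ⟨r.obj, r.lies⟩) (x := ⟨p.obj, p.lies⟩) a
        (inferInstanceAs (𝒴.p.IsHomLift (eqToHom r.lies.symm ≫ 𝒴.p.map a ≫ eqToHom p.lies) a))
        (Quotient.out_eq _).symm (Quotient.out_eq _).symm
      exact ⟨m⟩
    exact ⟨rep r, (tr p a).some, (tr q b).some, trivial⟩
  let Ψ : AlgSt.Points 𝒴 → AlgSt.Points 𝒴' := Quot.lift (fun p => AlgSt.Points.mk (rep p))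
    fun p q h => AlgSt.Points.sound (hrel p q h)
  intro x'
  obtain ⟨p', rfl⟩ := AlgSt.Points.mk_surjective x'
  obtain ⟨θ, hθ⟩ := Quotient.exists_rep ((φ.tgt.toEquiv (Over.mk p'.str)).symm (IsoNat.cls ⟨p'.obj, p'.lies⟩))
  obtain ⟨z, hz⟩ := hf (AlgSt.Points.mk { K := p'.K, str := p'.str, obj := θ.1, lies := θ.2 })
  obtain ⟨q, rfl⟩ := AlgSt.Points.mk_surjective z
  obtain ⟨a', ha'⟩ := Quotient.exists_rep (φ.src.toEquiv (Over.mk q.str) (IsoNat.cls ⟨q.obj, q.lies⟩))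
  refine ⟨AlgSt.Points.mk { K := q.K, str := q.str, obj := a'.1, lies := a'.2 }, ?_⟩
  have key : ∀ (p : AlgSt.FPt 𝒴) (y : 𝒴'.p.Fiber (Over.mk p.str)),
      φ.tgt.toEquiv _ (IsoNat.cls ⟨p.obj, p.lies⟩) = IsoNat.cls y →
      Ψ (AlgSt.Points.mk p) = AlgSt.Points.mk { K := p.K, str := p.str, obj := y.1, lies := y.2 } := fun p y hy => by
    obtain ⟨m, -⟩ := hom_of_cls_eq ((Quotient.out_eq _).trans hy)
    refine AlgSt.Points.sound ?_
    exact ⟨rep p, 𝟙 _, m, trivial⟩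
  have h1 := key { K := p'.K, str := p'.str, obj := θ.1, lies := θ.2 } ⟨p'.obj, p'.lies⟩
    ((congrArg (φ.tgt.toEquiv _) hθ).trans (Equiv.apply_symm_apply _ _))
  have h2 := key (q.map f) ((IsoNat.fibFun f' (Over.mk q.str)).obj a') (by
    refine (φ.comm (Over.mk q.str) (IsoNat.cls ⟨q.obj, q.lies⟩)).trans ?_
    rw [← ha']
    rfl)
  exact (h2.symm.trans ((congrArg Ψ hz).trans h1))

end Groth.Agent.S15487
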