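import Mathlib
import Groth.Statements.S15488
-- import your own Groth.Agent.* helpers here

set_option autoImplicit false
universe u
open IsoNat

namespace Groth.Agent.S15488

/-- Let A be a nontrivial commutative ring, G a finite group, g an element of G of order ν and l an
element of A with l ^ ν = 1. In the free A-module of functions G → A (the regular representation, g
acting by translation v ↦ v(g·)), the submodule of v with v(g h) = l v(h) for all h is a direct
summand, free of rank |G| / ν (stated as: free, rank · ν = |G|, and a complementary submodule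
exists). (The published statement is over an arbitrary ring and also covers Hom(A^N, −) of the
regular representation, which follows; nontriviality of A is needed for the rank to be meaningful.) -/
theorem result
    (A : Type u) [CommRing A] [Nontrivial A] (G : Type u) [Group G] [Finite G]
    (g : G) (l : A) (hl : l ^ orderOf g = 1) :
    Module.Free A (LinearMap.ker (LinearMap.funLeft A A (fun h : G => g * h) - l • LinearMap.id)) ∧
      Module.finrank A (LinearMap.ker (LinearMap.funLeft A A (fun h : G => g * h) - l • LinearMap.id)) * orderOf g = Nat.card G ∧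
      ∃ E' : Submodule A (G → A), IsCompl (LinearMap.ker (LinearMap.funLeft A A (fun h : G => g * h) - l • LinearMap.id)) E' := by
  classical
  let H := Subgroup.zpowers g
  let st := QuotientGroup.rightRel H
  let q : G → Quotient st := Quotient.mk st
  let r : Quotient st → G := Quotient.out
  have hn : ∀ h : G, ∃ k : ℕ, h = g ^ k * r (q h) := by
    intro h
    have h1 : h * (r (q h))⁻¹ ∈ H := QuotientGroup.rightRel_apply.1 (Quotient.mk_out (s := st) h)
    obtain ⟨k, hk⟩ := mem_powers_iff_mem_zpowers.2 h1
    exact ⟨k, by simp only at hk; rw [hk]; simp⟩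
  choose n hn using hn
  have hl0 : ∀ a b : ℕ, g ^ a = g ^ b → l ^ a = l ^ b := fun a b h => by
    rw [pow_eq_pow_mod a hl, pow_eq_pow_mod b hl, (pow_eq_pow_iff_modEq.1 h : a % orderOf g = b % orderOf g)]
  have hq : ∀ h : G, q (g * h) = q h := fun h =>
    Quotient.sound (QuotientGroup.rightRel_apply.2 (by simp [H]))
  set K := LinearMap.ker (LinearMap.funLeft A A (fun h : G => g * h) - l • LinearMap.id)
  have hK : ∀ v : G → A, v ∈ K ↔ ∀ h, v (g * h) = l * v h := fun v => by
    simp only [K, LinearMap.mem_ker, LinearMap.sub_apply, LinearMap.smul_apply, LinearMap.id_apply,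
      sub_eq_zero, funext_iff, LinearMap.funLeft_apply, Pi.smul_apply, smul_eq_mul]
  have hE : ∀ w : Quotient st → A, (fun h => l ^ n h * w (q h)) ∈ K := fun w => by
    rw [hK]; intro h
    simp only [hq]
    have e : g ^ n (g * h) = g ^ (n h + 1) := by
      have h1 := hn (g * h)
      rw [hq] at h1
      apply mul_right_cancel (b := r (q h))
      rw [← h1, pow_succ', mul_assoc, ← hn h]
    rw [hl0 _ _ e, pow_succ', mul_assoc]
  have hpow : ∀ v ∈ K, ∀ (k : ℕ) (x : G), v (g ^ k * x) = l ^ k * v x := by
    intro v hv k x
    induction k with
    | zero => simp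
    | succ k ih => rw [pow_succ', mul_assoc, (hK v).1 hv, ih, pow_succ', mul_assoc]
  have hqr : ∀ c, q (r c) = c := fun c => Quotient.out_eq c
  have hnr : ∀ c, l ^ n (r c) = 1 := fun c => by
    have h1 := hn (r c)
    rw [hqr] at h1
    have : g ^ n (r c) = g ^ 0 := by
      rw [pow_zero]; exact mul_right_cancel (b := r c) (by rw [one_mul]; exact h1.symm)
    rw [hl0 _ _ this, pow_zero]
  let e : (Quotient st → A) ≃ₗ[A] K :=
    { toFun := fun w => ⟨fun h => l ^ n h * w (q h), hE w⟩
      invFun := fun v => fun c => (v : G → A) (r c)
      map_add' := fun w w' => Subtype.ext (funext fun h => mul_add _ _ _)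
      map_smul' := fun a w => Subtype.ext (funext fun h => by simp; ring)
      left_inv := fun w => funext fun c => by simp only [hqr, hnr, one_mul]
      right_inv := fun v => Subtype.ext (funext fun h => by
        show l ^ n h * (v : G → A) (r (q h)) = (v : G → A) h
        rw [← hpow v v.2, ← hn h]) }
  haveI : Fintype (Quotient st) := Fintype.ofFinite _
  refine ⟨Module.Free.of_equiv e, ?_, _, LinearMap.isCompl_of_proj
    (f := (e.toLinearMap).comp (LinearMap.funLeft A A r)) (fun x => e.apply_symm_apply x)⟩
  rw [← e.finrank_eq, Module.finrank_pi, Fintype.card_eq_nat_card, ← Nat.card_zpowers,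
    Subgroup.card_eq_card_quotient_mul_card_subgroup H,
    Nat.card_congr (QuotientGroup.quotientRightRelEquivQuotientLeftRel H)]

end Groth.Agent.S15488
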