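import Mathlib
import Groth.Statements.S15494
-- import your own Groth.Agent.* helpers here

set_option autoImplicit false
universe u v
open Dieud

namespace Groth.Agent.S15494

/-- Let W be a commutative ring with a ring endomorphism σ, p a natural number, M a W-module and F an
additive self-map of M with F (w • m) = σ w • F m. Let d ≥ 1, c ≥ 1, h = d + c, and let e_1, …, e_h,
… be vectors of M on which F acts through a display matrix in normal form: F e_i = e_{i+1} for 1 ≤ i
< d; F e_d = Σ_{i=1}^{d} a_{i,d} e_i + e_{d+1}; F e_j = Σ_{i=1}^{d} p a_{i,j} e_i + p e_{j+1} for d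
< j < h; F e_h = Σ_{i=1}^{d} p a_{i,h} e_i. Then F^h e_1 = Σ_{i=1}^{d} Σ_{j=d}^{h} p^{j-d}
σ^{h-j}(a_{i,j}) F^{h+i-j-1} e_1. (The published statement is for the Dieudonné module of a
p-divisible group of dimension d and height h over the Witt ring of a field of characteristic p,
with σ the Frobenius and e_1, …, e_h a basis; this row keeps only the relations which the printed
computation uses, so W, σ, p and the vectors are arbitrary.) -/
theorem result
    (W : Type u) [CommRing W] (σ : W →+* W) (p : ℕ)
    (M : Type v) [AddCommGroup M] [Module W M]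
    (F : M →+ M) (hF : ∀ (w : W) (m : M), F (w • m) = σ w • F m)
    (d c : ℕ) (hd : 0 < d) (hc : 0 < c)
    (a : ℕ → ℕ → W) (e : ℕ → M)
    (h1 : ∀ i : ℕ, 1 ≤ i → i < d → F (e i) = e (i + 1))
    (h2 : F (e d) = (∑ i ∈ Finset.Icc 1 d, a i d • e i) + e (d + 1))
    (h3 : ∀ j : ℕ, d < j → j < d + c →
      F (e j) = (∑ i ∈ Finset.Icc 1 d, ((p : W) * a i j) • e i) + (p : W) • e (j + 1))
    (h4 : F (e (d + c)) = ∑ i ∈ Finset.Icc 1 d, ((p : W) * a i (d + c)) • e i) :
    (⇑F)^[d + c] (e 1) = ∑ i ∈ Finset.Icc 1 d, ∑ j ∈ Finset.Icc d (d + c),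
      ((p : W) ^ (j - d) * (⇑σ)^[d + c - j] (a i j)) • (⇑F)^[d + c + i - j - 1] (e 1) := by
  classical
  set h := d + c with hh
  let e' : ℕ → M := Function.update e (h + 1) 0
  have he' : ∀ i, i ≤ h → e' i = e i := fun i hi => Function.update_of_ne (by omega) _ _
  have hbase : ∀ i, i < d → (⇑F)^[i] (e 1) = e (i + 1) := by
    intro i
    induction i with
    | zero => intro _; rfl
    | succ i ih => intro hi; rw [Function.iterate_succ_apply', ih (by omega), h1 (i + 1) (by omega) hi]
  have hstep : ∀ j, d ≤ j → j ≤ h →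
      F (e' j) = (∑ i ∈ Finset.Icc 1 d, ((p : W) ^ (if j = d then 0 else 1) * a i j) • (⇑F)^[i - 1] (e 1)) +
        (p : W) ^ (if j = d then 0 else 1) • e' (j + 1) := by
    intro j hj hjh
    have hs : ∀ (w : ℕ → W), (∑ i ∈ Finset.Icc 1 d, w i • (⇑F)^[i - 1] (e 1)) = ∑ i ∈ Finset.Icc 1 d, w i • e i := by
      intro w
      refine Finset.sum_congr rfl fun i hi => ?_
      rw [Finset.mem_Icc] at hi
      rw [hbase (i - 1) (by omega), Nat.sub_add_cancel hi.1]
    rw [he' j hjh, hs]
    by_cases hjd : j = d
    · subst hjd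
      rw [he' _ (by omega), h2]
      simp
    · simp only [if_neg hjd, pow_one]
      rcases eq_or_lt_of_le hjh with hjc | hjc
      · subst hjc
        rw [show e' (h + 1) = 0 from Function.update_self _ _ _, smul_zero, add_zero]
        exact h4
      · rw [he' _ (by omega)]
        exact h3 j (by omega) hjc
  have main : ∀ j, d ≤ j → j ≤ h → (⇑F)^[j] (e 1) =
      (∑ i ∈ Finset.Icc 1 d, ∑ k ∈ Finset.Icc d j,
        ((p : W) ^ (k - d) * (⇑σ)^[j - k] (a i k)) • (⇑F)^[j + i - k - 1] (e 1)) + (p : W) ^ (j - d) • e' (j + 1) := by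
    intro j hj
    induction j, hj using Nat.le_induction with
    | base =>
      intro _
      have hd1 : e' d = (⇑F)^[d - 1] (e 1) := by
        rw [he' d (by omega), hbase (d - 1) (by omega), Nat.sub_add_cancel hd]
      have hh2 := hstep d le_rfl (by omega)
      rw [hd1, ← Function.iterate_succ_apply' (⇑F), show (d - 1).succ = d by omega] at hh2
      simpa using hh2
    | succ j hj ih =>
      intro hj1
      rw [Function.iterate_succ_apply', ih (by omega), map_add, map_sum, hF, map_pow, map_natCast,
        hstep (j + 1) (by omega) hj1]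
      simp only [if_neg (show j + 1 ≠ d by omega), pow_one, smul_add, Finset.smul_sum, smul_smul]
      rw [← add_assoc, ← Finset.sum_add_distrib, ← pow_succ, show j - d + 1 = j + 1 - d by omega]
      congr 1
      refine Finset.sum_congr rfl fun i hi => ?_
      rw [map_sum, Finset.sum_Icc_succ_top (by omega : d ≤ j + 1)]
      congr 1
      · refine Finset.sum_congr rfl fun k hk => ?_
        rw [Finset.mem_Icc] at hk hi
        rw [hF, map_mul, map_pow, map_natCast, ← Function.iterate_succ_apply' (⇑σ), ← Function.iterate_succ_apply' (⇑F)]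
        rw [show (j - k).succ = j + 1 - k by omega, show (j + i - k - 1).succ = j + 1 + i - k - 1 by omega]
      · rw [Finset.mem_Icc] at hi
        rw [Nat.sub_self, Function.iterate_zero_apply, ← mul_assoc, ← pow_succ,
          show j - d + 1 = j + 1 - d by omega, show i - 1 = j + 1 + i - (j + 1) - 1 by omega]
  have hfin := main h (by omega) le_rfl
  rw [show e' (h + 1) = 0 from Function.update_self _ _ _, smul_zero, add_zero] at hfin
  exact hfin

end Groth.Agent.S15494
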