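import Groth.Statements.S15495
import Mathlib
-- import your own Groth.Agent.* helpers here

set_option autoImplicit false
universe u
open CAlg

namespace Groth.Agent.S15495

/-- In an Artinian local ring R whose maximal ideal m contains the prime number p, the multiplicative
group 1 + m is annihilated under some power of p: there is n with (1 + x)^(p^n) = 1 for every x in
m. (The published text makes this assertion inside a proof, for Artinian local algebras over the
Witt ring of a perfect field of characteristic p; only p ∈ m and the nilpotence of m are used.) -/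
theorem result
    (R : Type u) [CommRing R] [IsLocalRing R] [IsArtinianRing R]
    (p : ℕ) (hp : p.Prime) (hpm : (p : R) ∈ IsLocalRing.maximalIdeal R) :
    ∃ n : ℕ, ∀ x ∈ IsLocalRing.maximalIdeal R, (1 + x) ^ (p ^ n) = 1 := by
  obtain ⟨N, hN⟩ := IsArtinianRing.isNilpotent_jacobson_bot (R := R)
  rw [IsLocalRing.jacobson_eq_maximalIdeal ⊥ bot_ne_top] at hN
  set m := IsLocalRing.maximalIdeal R
  refine ⟨N, fun x hx => ?_⟩
  have h : ∀ k, (1 + x) ^ (p ^ k) - 1 ∈ m ^ (k + 1) := by
    intro k
    induction k with
    | zero => simpa using hx
    | succ k ih =>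
      set y := (1 + x) ^ (p ^ k) with hy
      rw [pow_succ p k, pow_mul, ← hy]
      have hfac : y ^ p - 1 = (∑ i ∈ Finset.range p, y ^ i) * (y - 1) := (geom_sum_mul y p).symm
      rw [hfac, pow_succ' m (k + 1)]
      refine Ideal.mul_mem_mul ?_ ih
      have hsum : (∑ i ∈ Finset.range p, y ^ i) - (p : R) ∈ m := by
        rw [show (p : R) = ∑ i ∈ Finset.range p, (1 : R) by simp, ← Finset.sum_sub_distrib]
        refine Ideal.sum_mem _ fun i _ => ?_
        rw [← geom_sum_mul y i]
        exact Ideal.mul_mem_left _ _ (Ideal.pow_le_self (Nat.succ_ne_zero k) ih)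
      simpa using Ideal.add_mem _ hsum hpm
  have := h N
  rw [pow_succ, hN] at this
  simpa [sub_eq_zero] using this

end Groth.Agent.S15495
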