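import Groth.Statements.S15496
import Mathlib
-- import your own Groth.Agent.* helpers here

set_option autoImplicit false
universe u
open CAlg

namespace Groth.Agent.S15496

/-- Let R be a local ring with maximal ideal m, p a prime number lying in m, and suppose the residue
field of R is perfect, i.e. every element is a p-th power; let n ≥ 0. Then every unit of R is the
product of a p^n-th power of a unit and an element of 1 + m, and an element of 1 + m which is a
p^n-th power of a unit is a p^n-th power of an element of 1 + m; so the inclusion of 1 + m in the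
unit group induces a bijection between (1 + m)/(1 + m)^(p^n) and Rˣ/(Rˣ)^(p^n). (The published text
derives this equality of quotients, inside a proof, from perfectness of the base field K for all
Artinian local algebras over its Witt ring, whose residue fields need not be perfect; this row
assumes the residue field of R perfect of characteristic p, which the equality needs, and does not
assume R Artinian.) -/
theorem result
    (R : Type u) [CommRing R] [IsLocalRing R] (p : ℕ) (hp : p.Prime)
    (hpm : (p : R) ∈ IsLocalRing.maximalIdeal R)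
    (hperf : ∀ a : IsLocalRing.ResidueField R, ∃ b : IsLocalRing.ResidueField R, b ^ p = a)
    (n : ℕ) :
    (∀ u : Rˣ, ∃ v : Rˣ, ∃ x ∈ IsLocalRing.maximalIdeal R, (u : R) = (v : R) ^ (p ^ n) * (1 + x)) ∧
    (∀ x ∈ IsLocalRing.maximalIdeal R, (∃ v : Rˣ, (v : R) ^ (p ^ n) = 1 + x) →
      ∃ y ∈ IsLocalRing.maximalIdeal R, (1 + y) ^ (p ^ n) = 1 + x) := by
  have := Fact.mk hp
  have : CharP (IsLocalRing.ResidueField R) p :=
    (CharP.charP_iff_prime_eq_zero hp).mpr (by rw [← map_natCast (IsLocalRing.residue R)]; exact (IsLocalRing.residue_eq_zero_iff _).mpr hpm)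
  have hroot : ∀ (k : ℕ) (a : IsLocalRing.ResidueField R), ∃ b, b ^ (p ^ k) = a := by
    intro k
    induction k with
    | zero => exact fun a => ⟨a, by simp⟩
    | succ k ih =>
      intro a
      obtain ⟨b, rfl⟩ := hperf a
      obtain ⟨c, rfl⟩ := ih b
      exact ⟨c, by rw [pow_succ, pow_mul]⟩
  refine ⟨fun u => ?_, fun x hx ⟨v, hv⟩ => ?_⟩
  · obtain ⟨b, hb⟩ := hroot n (IsLocalRing.residue R u)
    obtain ⟨b, rfl⟩ := IsLocalRing.residue_surjective b
    have hu : IsUnit b := by
      rw [← isUnit_map_iff (IsLocalRing.residue R), ← isUnit_pow_iff (pow_ne_zero n hp.ne_zero), hb,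
        isUnit_map_iff]
      exact u.isUnit
    refine ⟨hu.unit, ↑(hu.unit ^ (p ^ n))⁻¹ * (u : R) - 1, ?_, ?_⟩
    · rw [← IsLocalRing.residue_eq_zero_iff, map_sub, map_one, map_mul, sub_eq_zero, ← hb, ← map_pow,
        ← map_mul, show b ^ p ^ n = ((hu.unit ^ p ^ n : Rˣ) : R) by simp, Units.inv_mul, map_one]
    · rw [add_sub_cancel, ← Units.val_pow_eq_pow_val, ← mul_assoc, Units.mul_inv, one_mul]
  · refine ⟨(v : R) - 1, ?_, by rw [add_sub_cancel]; exact hv⟩
    rw [← IsLocalRing.residue_eq_zero_iff, map_sub, map_one, sub_eq_zero]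
    refine iterateFrobenius_inj _ p n ?_
    rw [iterateFrobenius_def, iterateFrobenius_def, one_pow, ← map_pow, hv, map_add, map_one,
      (IsLocalRing.residue_eq_zero_iff x).mpr hx, add_zero]

end Groth.Agent.S15496
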