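import Mathlib
import Groth.Statements.S15498
-- import your own Groth.Agent.* helpers here

set_option autoImplicit false
open NewtonPoly

namespace Groth.Agent.S15498

/-- Let m, n ≥ 1 be coprime, h = m + n, δ the segment from (0,0) to (h,m) (the isoclinic Newton polygon
of slope m/h) and ρ the ordinary polygon with n slopes 0 followed with m slopes 1, so ρ(i) = max(0,
i − n). The integer points (i,j), 0 ≤ i ≤ h, on or above ρ and strictly below δ — that is max(0, i −
n) ≤ j and j·h < i·m — are (m−1)(n−1)/2 + (m+n−1) in number (which equals mn − r for r =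
(m−1)(n−1)/2). (The published text works under m ≥ n > 0 coprime; the inequality m ≥ n is not used
and not assumed.) -/
theorem result
    (m n : ℕ) (hm : 0 < m) (hn : 0 < n) (hmn : Nat.Coprime m n) :
    ((Finset.range (m + n + 1) ×ˢ Finset.range (m + 1)).filter
      (fun ij : ℕ × ℕ => ij.1 ≤ ij.2 + n ∧ ij.2 * (m + n) < ij.1 * m)).card
      = (m - 1) * (n - 1) / 2 + (m + n - 1) := by
  classical
  set S := Finset.range (m + n + 1) ×ˢ Finset.range (m + 1) with hS
  have mem : ∀ ij : ℕ × ℕ, ij ∈ S ↔ ij.1 ≤ m + n ∧ ij.2 ≤ m := fun ij => by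
    simp only [hS, Finset.mem_product, Finset.mem_range, Nat.lt_succ_iff]
  let Be := S.filter (fun ij : ℕ × ℕ => ij.2 * (m + n) < ij.1 * m)
  let Ab := S.filter (fun ij : ℕ × ℕ => ij.1 * m < ij.2 * (m + n))
  have flip : ∀ a b : ℕ, a ≤ m + n → b ≤ m →
      ((m + n - a) * m + a * m = (m + n) * m ∧ (m - b) * (m + n) + b * (m + n) = (m + n) * m) := fun a b ha hb =>
    ⟨by rw [← add_mul, Nat.sub_add_cancel ha], by rw [← add_mul, Nat.sub_add_cancel hb, mul_comm]⟩
  have hAB : Be.card = Ab.card := by
    refine Finset.card_nbij' (fun ij => (m + n - ij.1, m - ij.2)) (fun ij => (m + n - ij.1, m - ij.2)) ?_ ?_ ?_ ?_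
    · rintro ⟨a, b⟩ h
      simp only [Be, Finset.mem_coe, Finset.mem_filter, mem] at h
      simp only [Ab, Finset.mem_coe, Finset.mem_filter, mem]
      obtain ⟨e1, e2⟩ := flip a b h.1.1 h.1.2
      exact ⟨⟨Nat.sub_le _ _, Nat.sub_le _ _⟩, by omega⟩
    · rintro ⟨a, b⟩ h
      simp only [Ab, Finset.mem_coe, Finset.mem_filter, mem] at h
      simp only [Be, Finset.mem_coe, Finset.mem_filter, mem]
      obtain ⟨e1, e2⟩ := flip a b h.1.1 h.1.2
      exact ⟨⟨Nat.sub_le _ _, Nat.sub_le _ _⟩, by omega⟩
    · rintro ⟨a, b⟩ h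
      simp only [Be, Finset.mem_coe, Finset.mem_filter, mem] at h
      simp only [Prod.mk.injEq]
      omega
    · rintro ⟨a, b⟩ h
      simp only [Ab, Finset.mem_coe, Finset.mem_filter, mem] at h
      simp only [Prod.mk.injEq]
      omega
  let On := S.filter (fun ij : ℕ × ℕ => ij.1 * m = ij.2 * (m + n))
  have hOn : On = {((0 : ℕ), (0 : ℕ)), (m + n, m)} := by
    ext ⟨a, b⟩
    simp only [On, Finset.mem_filter, mem, Finset.mem_insert, Finset.mem_singleton, Prod.mk.injEq]
    constructor
    · rintro ⟨⟨ha, hb⟩, e⟩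
      have hc : Nat.Coprime (m + n) m := by
        simpa [Nat.coprime_self_add_left] using hmn.symm
      obtain ⟨k, hk⟩ := hc.dvd_of_dvd_mul_right (⟨b, by rw [e, mul_comm]⟩ : (m + n) ∣ a * m)
      have hk1 : k ≤ 1 := by
        by_contra hk1
        have : (m + n) * 2 ≤ (m + n) * k := Nat.mul_le_mul_left _ (by omega)
        omega
      rcases Nat.le_one_iff_eq_zero_or_eq_one.1 hk1 with rfl | rfl
      · subst hk
        left
        refine ⟨by simp, ?_⟩
        have e0 : b * (m + n) = 0 := by simpa using e.symm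
        exact (Nat.mul_eq_zero.1 e0).resolve_right (by omega)
      · right
        refine ⟨by omega, ?_⟩
        rw [mul_one] at hk
        subst hk
        exact (Nat.eq_of_mul_eq_mul_left (show 0 < m + n by omega) (by rw [e, mul_comm])).symm
    · rintro (⟨rfl, rfl⟩ | ⟨rfl, rfl⟩)
      · simp
      · exact ⟨⟨le_rfl, le_rfl⟩, mul_comm _ _⟩
  have hcardOn : On.card = 2 := by
    rw [hOn, Finset.card_pair]; simp; omega
  have hsplit : Be.card + Ab.card + On.card = (m + n + 1) * (m + 1) := by
    rw [← Finset.card_union_of_disjoint, ← Finset.card_union_of_disjoint]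
    · have : Be ∪ Ab ∪ On = S := by
        ext ij
        simp only [Be, Ab, On, Finset.mem_union, Finset.mem_filter]
        constructor
        · rintro ((h | h) | h) <;> exact h.1
        · intro h
          rcases lt_trichotomy (ij.1 * m) (ij.2 * (m + n)) with h' | h' | h'
          · exact .inl (.inr ⟨h, h'⟩)
          · exact .inr ⟨h, h'⟩
          · exact .inl (.inl ⟨h, h'⟩)
      rw [this, hS, Finset.card_product, Finset.card_range, Finset.card_range]
    · rw [Finset.disjoint_left]
      intro ij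
      simp only [Be, Ab, On, Finset.mem_union, Finset.mem_filter]
      rintro (h | h) h' <;> omega
    · rw [Finset.disjoint_left]
      intro ij
      simp only [Be, Ab, Finset.mem_filter]
      rintro h h'; omega
  let T := S.filter (fun ij : ℕ × ℕ => ij.2 + n < ij.1)
  have hBe : Be.card = (S.filter (fun ij : ℕ × ℕ => ij.1 ≤ ij.2 + n ∧ ij.2 * (m + n) < ij.1 * m)).card + T.card := by
    rw [← Finset.card_filter_add_card_filter_not (s := Be) (fun ij : ℕ × ℕ => ij.1 ≤ ij.2 + n)]
    congr 1
    · congr 1; ext ij; simp only [Be, Finset.mem_filter]; tauto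
    · congr 1
      ext ⟨a, b⟩
      simp only [Be, T, Finset.mem_filter, mem, not_le]
      constructor
      · rintro ⟨⟨h1, -⟩, h2⟩; exact ⟨h1, h2⟩
      · rintro ⟨⟨ha, hb⟩, h⟩
        refine ⟨⟨⟨ha, hb⟩, ?_⟩, h⟩
        have h1 : (b + n + 1) * m ≤ a * m := Nat.mul_le_mul_right _ h
        have h2 : b * n ≤ m * n := Nat.mul_le_mul_right _ hb
        nlinarith
  have hT : T.card * 2 = m * (m + 1) := by
    have : T.card = ((Finset.range (m + 1)).sigma (fun j => Finset.Ioc (j + n) (m + n))).card := by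
      refine Finset.card_nbij' (fun ij => ⟨ij.2, ij.1⟩) (fun p => (p.2, p.1)) ?_ ?_ ?_ ?_
      · rintro ⟨a, b⟩ h
        simp only [T, Finset.mem_coe, Finset.mem_filter, mem] at h
        simp [h.2, h.1.1]; omega
      · rintro ⟨a, b⟩ h
        simp only [Finset.mem_coe, Finset.mem_sigma, Finset.mem_range, Finset.mem_Ioc] at h
        simp only [T, Finset.mem_coe, Finset.mem_filter, mem]
        omega
      · intro a _; rfl
      · intro a _; rfl
    rw [this, Finset.card_sigma]
    simp only [Nat.card_Ioc, Nat.add_sub_add_right]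
    have := Finset.sum_range_reflect (fun j => j) (m + 1)
    simp only [Nat.add_sub_cancel] at this
    rw [this, Finset.sum_range_id_mul_two]
    simp [mul_comm]
  have hev : 2 ∣ (m - 1) * (n - 1) := by
    rcases Nat.even_or_odd m with h1 | h1
    · rcases Nat.even_or_odd n with h2 | h2
      · exfalso
        have := Nat.dvd_gcd h1.two_dvd h2.two_dvd
        rw [hmn.gcd_eq_one] at this
        omega
      · obtain ⟨k, rfl⟩ := h2
        exact Dvd.dvd.mul_left ⟨k, by omega⟩ _
    · obtain ⟨k, rfl⟩ := h1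
      exact Dvd.dvd.mul_right ⟨k, by omega⟩ _
  obtain ⟨q, hq⟩ := hev
  rw [hq, Nat.mul_div_cancel_left _ (by norm_num : 0 < 2)]
  obtain ⟨m, rfl⟩ := Nat.exists_eq_succ_of_ne_zero hm.ne'
  obtain ⟨n, rfl⟩ := Nat.exists_eq_succ_of_ne_zero hn.ne'
  simp only [Nat.succ_eq_add_one, Nat.add_sub_cancel] at *
  rw [show m + 1 + (n + 1) - 1 = m + n + 1 by omega]
  have e1 : (m + 1 + (n + 1) + 1) * (m + 1 + 1) = m * m + m * n + 5 * m + 2 * n + 6 := by ring
  have e2 : (m + 1) * (m + 1 + 1) = m * m + 3 * m + 2 := by ring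
  rw [e1] at hsplit
  rw [e2] at hT
  omega

end Groth.Agent.S15498
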