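import Groth.Statements.S1550
import Groth.Agent.GeomRedAt.Change
import Groth.Agent.SmoothDense.SepPoint
-- import your own Groth.Agent.* helpers here

set_option autoImplicit false
universe u
open CategoryTheory CategoryTheory.Limits AlgebraicGeometry
attribute [local instance] Curv2.resAlgebra
open Variety

namespace Groth.Agent.S1550

/-- If X is smooth over a field k, then the set of closed points of X whose residue field is finite
separable over k is dense in X. -/
theorem result (k : Type u) [Field k] (X : Scheme.{u}) [X.Over (Spec (CommRingCat.of k))] [Smooth (X ↘ (Spec (CommRingCat.of k)))] :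
    Dense {x : X | IsClosed ({x} : Set X) ∧ FiniteDimensional k (X.residueField x) ∧ Algebra.IsSeparable k (X.residueField x)} := by
  refine dense_iff_inter_open.2 fun U hU hne => ?_
  obtain ⟨x, hxU, hxc, φ, hφ, hfd, hsep⟩ := SmoothDense.exists_separable_closedPoint (X ↘ Spec (CommRingCat.of k)) hU hne
  have heq : φ = Curv2.resMap k X x := by
    have h1 : CommRingCat.ofHom φ = CommRingCat.ofHom (Curv2.resMap k X x) := by
      refine Spec.map_injective (hφ.trans ?_)
      rw [Scheme.fromSpecResidueField, Category.assoc, GeomRedAt.fromSpecStalk_comp, ← Spec.map_comp]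
      rfl
    exact congrArg CommRingCat.Hom.hom h1
  subst heq
  exact ⟨x, hxU, hxc, hfd, hsep⟩

end Groth.Agent.S1550
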