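import Mathlib
import Groth.Statements.S15504
-- import your own Groth.Agent.* helpers here

set_option autoImplicit false
universe u v
open FrobAlg

namespace Groth.Agent.S15504

/-- Let k be an algebraically closed field of characteristic p, W = W(k) the ring of p-typical Witt
vectors, M a finitely generated torsion W-module and φ a p⁻¹-linear endomorphism of M (additive,
with φ(a·m) = σ⁻¹(a)·φ(m) for the Frobenius automorphism σ of W). Then M = M_s ⊕ M_n for two
φ-stable submodules, with φ bijective on M_s and nilpotent on M_n (one iterate of φ kills M_n). -/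
theorem result (p : ℕ) [Fact p.Prime]
    (k : Type u) [Field k] [CharP k p] [IsAlgClosed k]
    (M : Type v) [AddCommGroup M] [Module (WittVector p k) M] [Module.Finite (WittVector p k) M]
    (hM : Module.IsTorsion (WittVector p k) M)
    (φ : M →ₛₗ[((WittVector.frobeniusEquiv p k).symm : WittVector p k →+* WittVector p k)] M) :
    ∃ Ms Mn : Submodule (WittVector p k) M, IsCompl Ms Mn ∧
      Set.MapsTo φ Ms Ms ∧ Set.MapsTo φ Mn Mn ∧ Set.BijOn φ Ms Ms ∧
      ∃ r : ℕ, ∀ x ∈ Mn, (⇑φ)^[r] x = 0 := by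
  classical
  let W := WittVector p k
  obtain ⟨a, ha, hane⟩ := Submodule.annihilator_top_inter_nonZeroDivisors hM
  have : IsArtinian (WittVector p k) (WittVector p k ⧸ Ideal.span {a}) :=
    (isFiniteLength_iff_isNoetherian_isArtinian.1 (isFiniteLength_quotient_span_singleton (R := WittVector p k) hane)).2
  obtain ⟨n, f, hf⟩ := Module.Finite.exists_fin' (WittVector p k) M
  let g : (Fin n → WittVector p k ⧸ Ideal.span {a}) →ₗ[WittVector p k] M :=
    ∑ i, ((Ideal.span {a}).liftQ (LinearMap.toSpanSingleton (WittVector p k) M (f (Pi.single i 1))) (by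
      rw [Ideal.span_le]
      rintro _ rfl
      simp only [SetLike.mem_coe, LinearMap.mem_ker, LinearMap.toSpanSingleton_apply]
      exact Submodule.mem_annihilator.1 ha _ trivial)) ∘ₗ LinearMap.proj i
  have hg : Function.Surjective g := by
    intro m
    obtain ⟨v, rfl⟩ := hf m
    refine ⟨fun i => Submodule.Quotient.mk (v i), ?_⟩
    conv_rhs => rw [pi_eq_sum_univ' v]
    simp [g, map_sum]
    exact Finset.sum_congr rfl fun i _ => rfl
  have : IsArtinian (WittVector p k) M := isArtinian_of_surjective _ g hg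
  let τ : WittVector p k →+* WittVector p k := ((WittVector.frobeniusEquiv p k).symm : WittVector p k →+* WittVector p k)
  have hadd : ∀ (r : ℕ) (x y : M), (⇑φ)^[r] (x + y) = (⇑φ)^[r] x + (⇑φ)^[r] y := by
    intro r
    induction r with
    | zero => intro x y; rfl
    | succ r ih => intro x y; simp only [Function.iterate_succ_apply', ih, map_add]
  have hzero : ∀ r : ℕ, (⇑φ)^[r] 0 = 0 := fun r => by
    induction r with
    | zero => rfl
    | succ r ih => rw [Function.iterate_succ_apply', ih, map_zero]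
  have hsmul : ∀ (r : ℕ) (c : WittVector p k) (x : M), (⇑φ)^[r] (c • x) = (⇑τ)^[r] c • (⇑φ)^[r] x := by
    intro r
    induction r with
    | zero => intro c x; rfl
    | succ r ih => intro c x; simp only [Function.iterate_succ_apply', ih, LinearMap.map_smulₛₗ]; rfl
  have hτ : Function.Surjective τ := (WittVector.frobeniusEquiv p k).symm.surjective
  let K : ℕ →o Submodule (WittVector p k) M :=
    { toFun := fun r =>
        { carrier := {x | (⇑φ)^[r] x = 0}
          add_mem' := fun {x y} hx hy => by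
            simp only [Set.mem_setOf_eq] at *
            rw [hadd, hx, hy, add_zero]
          zero_mem' := hzero r
          smul_mem' := fun c x hx => by
            simp only [Set.mem_setOf_eq] at *
            rw [hsmul, hx, smul_zero] }
      monotone' := monotone_nat_of_le_succ fun r x (hx : (⇑φ)^[r] x = 0) => by
        show (⇑φ)^[r + 1] x = 0
        rw [Function.iterate_succ_apply', hx, map_zero] }
  let Rg : ℕ →o (Submodule (WittVector p k) M)ᵒᵈ :=
    { toFun := fun r => OrderDual.toDual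
        { carrier := Set.range ((⇑φ)^[r])
          add_mem' := fun {x y} ⟨x', hx⟩ ⟨y', hy⟩ => ⟨x' + y', by rw [hadd, hx, hy]⟩
          zero_mem' := ⟨0, hzero r⟩
          smul_mem' := fun c x ⟨x', hx⟩ => by
            obtain ⟨c', hc'⟩ := hτ.iterate r c
            exact ⟨c' • x', by rw [hsmul, hc', hx]⟩ }
      monotone' := monotone_nat_of_le_succ fun r => OrderDual.toDual_le_toDual.2 fun x ⟨x', hx⟩ =>
        ⟨φ x', by rw [← Function.iterate_succ_apply, hx]⟩ }
  obtain ⟨N₁, hN₁⟩ := monotone_stabilizes_iff_noetherian.2 (inferInstance : IsNoetherian (WittVector p k) M) K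
  obtain ⟨N₂, hN₂⟩ := IsArtinian.monotone_stabilizes Rg
  set N := max N₁ N₂ + 1
  have hK : ∀ r, N ≤ r → K r = K N := fun r hr => by rw [← hN₁ r (by omega), ← hN₁ N (by omega)]
  have hR : ∀ r, N ≤ r → Rg r = Rg N := fun r hr => by rw [← hN₂ r (by omega), ← hN₂ N (by omega)]
  have hR' : ∀ r, N ≤ r → ∀ x, (∃ y, (⇑φ)^[N] y = x) → ∃ y, (⇑φ)^[r] y = x := fun r hr x hx => by
    have : x ∈ OrderDual.ofDual (Rg N) := hx
    rw [← hR r hr] at this
    exact this
  have hK' : ∀ r, N ≤ r → ∀ x, (⇑φ)^[r] x = 0 → (⇑φ)^[N] x = 0 := fun r hr x hx => by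
    have : x ∈ K r := hx
    rw [hK r hr] at this
    exact this
  refine ⟨OrderDual.ofDual (Rg N), K N, ⟨Submodule.disjoint_def.2 ?_, ?_⟩, ?_, ?_, ⟨?_, ?_, ?_⟩, N, fun x hx => hx⟩
  · rintro x ⟨y, rfl⟩ (hx : (⇑φ)^[N] ((⇑φ)^[N] y) = 0)
    rw [← Function.iterate_add_apply] at hx
    exact hK' _ (by omega) _ hx
  · rw [codisjoint_iff, eq_top_iff]
    intro x _
    obtain ⟨y, hy⟩ := hR' (N + N) (by omega) ((⇑φ)^[N] x) ⟨x, rfl⟩
    rw [Function.iterate_add_apply] at hy
    refine Submodule.mem_sup.2 ⟨(⇑φ)^[N] y, ⟨y, rfl⟩, x - (⇑φ)^[N] y, ?_, by abel⟩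
    show (⇑φ)^[N] (x - (⇑φ)^[N] y) = 0
    have := hadd N (x - (⇑φ)^[N] y) ((⇑φ)^[N] y)
    rw [sub_add_cancel, hy] at this
    simpa using this
  · rintro x ⟨y, rfl⟩
    exact ⟨φ y, by rw [← Function.iterate_succ_apply, Function.iterate_succ_apply']⟩
  · intro x (hx : (⇑φ)^[N] x = 0)
    show (⇑φ)^[N] (φ x) = 0
    rw [← Function.iterate_succ_apply, Function.iterate_succ_apply', hx, map_zero]
  · rintro x ⟨y, rfl⟩
    exact ⟨φ y, by rw [← Function.iterate_succ_apply, Function.iterate_succ_apply']⟩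
  · rintro x ⟨y, rfl⟩ x' ⟨y', rfl⟩ e
    rw [← sub_eq_zero]
    have h1 : (⇑φ)^[N] (y - y') = (⇑φ)^[N] y - (⇑φ)^[N] y' := by
      have := hadd N (y - y') y'
      rw [sub_add_cancel] at this
      rw [this, add_sub_cancel_right]
    rw [← h1]
    refine hK' (N + 1) (by omega) _ ?_
    rw [Function.iterate_succ_apply', h1, map_sub, e, sub_self]
  · rintro x hx
    obtain ⟨y, hy⟩ := hR' (N + 1) (by omega) x hx
    exact ⟨(⇑φ)^[N] y, ⟨y, rfl⟩, (Function.iterate_succ_apply' (⇑φ) N y).symm.trans hy⟩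

end Groth.Agent.S15504
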