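import Groth.Statements.S15505
import Groth.Agent.SigmaLang.Basic
import Mathlib.FieldTheory.Finite.Basic

set_option autoImplicit false
universe u v w
open FrobAlg

namespace Groth.Agent.S15505

/-- Let k be an algebraically closed field of characteristic p, V a k-vector space, φ a p⁻¹-linear
endomorphism of V (additive, φ(a·v) = a^{1/p}·φ(v)) and b a finite basis of V consisting of vectors
fixed by φ. Then the vectors fixed by φ are exactly the combinations of the b_i with coefficients in
the prime field: v is fixed if and only if v = Σ c_i·b_i with all c_i in the image of ℤ/p. -/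
theorem result (p : ℕ) [Fact p.Prime]
    (k : Type u) [Field k] [CharP k p] [IsAlgClosed k]
    (V : Type v) [AddCommGroup V] [Module k V]
    (φ : V →ₛₗ[((frobeniusEquiv k p).symm : k →+* k)] V)
    {ι : Type w} [Fintype ι] (b : Module.Basis ι k V) (hb : ∀ i, φ (b i) = b i) (v : V) :
    φ v = v ↔ ∃ c : ι → ZMod p, v = ∑ i, (ZMod.castHom (dvd_refl p) k (c i)) • b i := by
  have hσ : ∀ x : k, (frobeniusEquiv k p).symm x = x ↔ x ^ p = x := fun x => by
    rw [RingEquiv.symm_apply_eq, frobeniusEquiv_def, eq_comm]
  rw [Groth.Agent.SigmaLang.repr_fixed φ b hb]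
  constructor
  · intro h
    have hm : ∀ i, ∃ c : ZMod p, ZMod.castHom (dvd_refl p) k c = b.repr v i := fun i => by
      have hm := (Subfield.mem_bot_iff_pow_eq_self k p).mpr ((hσ _).1 (h i))
      rw [← ZMod.fieldRange_castHom_eq_bot p] at hm
      exact hm
    choose c hc using hm
    exact ⟨c, by simp only [hc, b.sum_repr]⟩
  · rintro ⟨c, rfl⟩ i
    rw [b.repr_sum_self]
    show (frobeniusEquiv k p).symm _ = _
    rw [hσ, ← map_pow, ZMod.pow_card]

end Groth.Agent.S15505
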