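import Mathlib
import Groth.Statements.S15506
-- import your own Groth.Agent.* helpers here

set_option autoImplicit false
universe u
open CategoryTheory AlgebraicGeometry
open EtBase

namespace Groth.Agent.S15506

/-- Let k be a field, K an algebraic closure of k (an algebraically closed field algebraic over k), Ω a
field containing K, and Z a scheme étale over Spec k. Composition with Spec Ω → Spec K is a
bijection from the k-morphisms Spec K → Z onto the k-morphisms Spec Ω → Z: two k-morphisms Spec K →
Z that agree on Spec Ω are equal, and every k-morphism Spec Ω → Z factors through Spec K. (The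
published statement is the case where k has characteristic zero with a chosen embedding of its
algebraic closure into the complex numbers, Ω = ℂ, and Z is the scheme of isomorphisms between two
K3 surfaces over k, known there to be étale over k; this row states the fact about an arbitrary
étale k-scheme that the argument establishes.) -/
theorem result
    (k K Ω : Type u) [Field k] [Field K] [Field Ω] [Algebra k K] [IsAlgClosed K] [Algebra.IsAlgebraic k K]
    [Algebra K Ω] [Algebra k Ω] [IsScalarTower k K Ω]
    (Z : Scheme.{u}) (f : Z ⟶ Spec (CommRingCat.of k)) [AlgebraicGeometry.Etale f] :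
    (∀ g₁ g₂ : Spec (CommRingCat.of K) ⟶ Z,
        g₁ ≫ f = Spec.map (CommRingCat.ofHom (algebraMap k K)) →
        g₂ ≫ f = Spec.map (CommRingCat.ofHom (algebraMap k K)) →
        Spec.map (CommRingCat.ofHom (algebraMap K Ω)) ≫ g₁ = Spec.map (CommRingCat.ofHom (algebraMap K Ω)) ≫ g₂ →
        g₁ = g₂) ∧
    (∀ h : Spec (CommRingCat.of Ω) ⟶ Z, h ≫ f = Spec.map (CommRingCat.ofHom (algebraMap k Ω)) →
        ∃ g : Spec (CommRingCat.of K) ⟶ Z, g ≫ f = Spec.map (CommRingCat.ofHom (algebraMap k K)) ∧
          Spec.map (CommRingCat.ofHom (algebraMap K Ω)) ≫ g = h) := by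
  classical
  -- structure of an affine piece
  have key : ∀ (V : Z.Opens) (hV : IsAffineOpen V) (ψ : Γ(Z, V) ⟶ CommRingCat.of Ω),
      Spec.map ψ ≫ hV.fromSpec ≫ f = Spec.map (CommRingCat.ofHom (algebraMap k Ω)) →
      ∀ b, ψ.hom b ∈ (algebraMap K Ω).range := by
    intro V hV ψ hψ b
    let φ := Spec.preimage (hV.fromSpec ≫ f)
    have hφ : Spec.map φ = hV.fromSpec ≫ f := Spec.map_preimage _
    have het : φ.hom.Etale := by
      have : AlgebraicGeometry.Etale (Spec.map φ) := by rw [hφ]; infer_instance
      exact (HasRingHomProperty.Spec_iff (P := @AlgebraicGeometry.Etale)).1 this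
    letI : Algebra k Γ(Z, V) := φ.hom.toAlgebra
    have : Algebra.Etale k Γ(Z, V) := het
    have : Module.Finite k Γ(Z, V) := Algebra.FormallyUnramified.finite_of_free k Γ(Z, V)
    have hψk : ψ.hom.comp φ.hom = algebraMap k Ω := by
      have : φ ≫ ψ = CommRingCat.ofHom (algebraMap k Ω) := Spec.map_injective (by rw [Spec.map_comp, hφ, hψ])
      exact congrArg CommRingCat.Hom.hom this
    let ψ' : Γ(Z, V) →ₐ[k] Ω := { ψ.hom with commutes' := fun r => RingHom.congr_fun hψk r }
    have hint : IsIntegral K (ψ.hom b) :=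
      (IsIntegral.map ψ' (Algebra.IsIntegral.isIntegral (R := k) b)).tower_top
    exact minpoly.mem_range_of_degree_eq_one K _ (IsAlgClosed.degree_eq_one_of_irreducible K (minpoly.irreducible hint))
  have haff : ∀ z : Z, ∃ (V : Z.Opens) (hV : IsAffineOpen V), z ∈ V := fun z => by
    obtain ⟨V', hV', hz, -⟩ := Z.isBasis_affineOpens.exists_subset_of_mem_open (Set.mem_univ z) isOpen_univ
    obtain ⟨V, hV, rfl⟩ := hV'
    exact ⟨V, hV, hz⟩
  have hlift : ∀ (L : Type u) [Field L] (g : Spec (CommRingCat.of L) ⟶ Z) (V : Z.Opens) (hV : IsAffineOpen V),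
      (∃ pt, g.base pt ∈ V) → ∃ ψ : Γ(Z, V) ⟶ CommRingCat.of L, Spec.map ψ ≫ hV.fromSpec = g := by
    intro L _ g V hV ⟨pt, hpt⟩
    have hr : Set.range g.base ⊆ Set.range hV.fromSpec.base := by
      rintro _ ⟨q, rfl⟩
      rw [hV.range_fromSpec, Subsingleton.elim q pt]; exact hpt
    exact ⟨Spec.preimage (IsOpenImmersion.lift hV.fromSpec g hr), by rw [Spec.map_preimage, IsOpenImmersion.lift_fac]⟩
  constructor
  · intro g₁ g₂ _ _ he
    let ptΩ : Spec (CommRingCat.of Ω) := IsLocalRing.closedPoint Ω
    let pt : Spec (CommRingCat.of K) := (Spec.map (CommRingCat.ofHom (algebraMap K Ω))).base ptΩ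
    obtain ⟨V, hV, hz⟩ := haff (g₁.base pt)
    have hz2 : g₂.base pt ∈ V := by
      have : g₂.base pt = g₁.base pt := by
        simp only [pt, ← Scheme.Hom.comp_apply]
        rw [he]
      rwa [this]
    obtain ⟨ψ₁, rfl⟩ := hlift K g₁ V hV ⟨pt, hz⟩
    obtain ⟨ψ₂, rfl⟩ := hlift K g₂ V hV ⟨pt, hz2⟩
    rw [← Category.assoc, ← Category.assoc, ← Spec.map_comp, ← Spec.map_comp, cancel_mono] at he
    have h2 := Spec.map_injective he
    congr 1
    congr 1
    ext b
    exact (algebraMap K Ω).injective (congrArg (fun q => q.hom b) h2)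
  · intro h hh
    let ptΩ : Spec (CommRingCat.of Ω) := IsLocalRing.closedPoint Ω
    obtain ⟨V, hV, hz⟩ := haff (h.base ptΩ)
    obtain ⟨ψ, rfl⟩ := hlift Ω h V hV ⟨ptΩ, hz⟩
    have hrange := key V hV ψ (by rw [← hh, Category.assoc])
    choose χ hχ using fun b => RingHom.mem_range.1 (hrange b)
    let χ' : Γ(Z, V) →+* K :=
      { toFun := χ
        map_one' := (algebraMap K Ω).injective (by rw [hχ, map_one, map_one])
        map_mul' := fun a b => (algebraMap K Ω).injective (by rw [map_mul, hχ, hχ, hχ, map_mul])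
        map_zero' := (algebraMap K Ω).injective (by rw [hχ, map_zero, map_zero])
        map_add' := fun a b => (algebraMap K Ω).injective (by rw [map_add, hχ, hχ, hχ, map_add]) }
    have hfac : CommRingCat.ofHom χ' ≫ CommRingCat.ofHom (algebraMap K Ω) = ψ := by
      ext b; exact hχ b
    refine ⟨Spec.map (CommRingCat.ofHom χ') ≫ hV.fromSpec, ?_, ?_⟩
    · let φ := Spec.preimage (hV.fromSpec ≫ f)
      have hφ : Spec.map φ = hV.fromSpec ≫ f := Spec.map_preimage _
      have hψk : φ ≫ ψ = CommRingCat.ofHom (algebraMap k Ω) := Spec.map_injective (by rw [Spec.map_comp, hφ, ← hh, Category.assoc])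
      rw [Category.assoc, ← hφ, ← Spec.map_comp]
      congr 1
      ext r
      show χ (φ.hom r) = algebraMap k K r
      apply (algebraMap K Ω).injective
      rw [hχ, ← IsScalarTower.algebraMap_apply k K Ω]
      exact congrArg (fun q => q.hom r) hψk
    · rw [← Category.assoc, ← Spec.map_comp, hfac]

end Groth.Agent.S15506
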