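import Groth.Statements.S15513
-- import your own Groth.Agent.* helpers here
import Groth.Agent.CohDual.CodimApps

set_option autoImplicit false
universe u
open CategoryTheory CategoryTheory.Limits AlgebraicGeometry
open ProjDual

namespace Groth.Agent.S15513

/-- Let k be a field, P = P^N_k, ι : X → P a closed immersion, r a natural number with dim X + r ≤ N (X
has codimension at least r), and E a finite locally free O_P-module. Then for every i < r the Ext
sheaf Ext^i_{O_P}(ι_* O_X, E) — the i-th right derived functor of the internal Hom functor Hom(ι_*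
O_X, -) on O_P-modules (its existence and that of injective resolutions are the stated instance
hypotheses, both true), evaluated at E — is zero. (The published statement takes N ≥ 1 and r = N -
dim X; the case N = 0 and smaller r are trivially included.) -/
theorem result (k : Type u) [Field k] (N : ℕ)
    {X : Scheme.{u}} (ι : X ⟶ CohB1.ProjSpace N k) [IsClosedImmersion ι] (r : ℕ)
    (hr : topologicalKrullDim ↥X + (r : WithBot ℕ∞) ≤ (N : WithBot ℕ∞))
    (E : (CohB1.ProjSpace N k).Modules) (hE : FlatMod.IsFinLocFree E)
    [ModSite.HasSheafHom (O := (CohB1.ProjSpace N k).sheaf) ((Scheme.Modules.pushforward ι).obj (Coh.structureModule X))]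
    [HasInjectiveResolutions (ModSite.Mod (CohB1.ProjSpace N k).sheaf)] (i : ℕ) (hi : i < r) :
    IsZero ((ModSite.extSh (O := (CohB1.ProjSpace N k).sheaf)
      ((Scheme.Modules.pushforward ι).obj (Coh.structureModule X)) i).obj E) := by
  haveI : IsProper (CohB1.ProjSpace.toSpec N k) := Groth.Agent.InvPow.isProper_toSpec N k
  haveI : IsLocallyNoetherian (CohB1.ProjSpace N k) :=
    LocallyOfFiniteType.isLocallyNoetherian (CohB1.ProjSpace.toSpec N k)
  haveI : IsLocallyNoetherian X := LocallyOfFiniteType.isLocallyNoetherian ι
  have hG : Coh.IsCoh ((Scheme.Modules.pushforward ι).obj (Coh.structureModule X)) :=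
    Groth.Agent.QCohLib.isCoh_pushforward ι (Groth.Agent.InvPow.isCoh_of_isInvertible Groth.Agent.NegVanish.isInvertible_structureModule')
  refine (Groth.Agent.CohDual.StalkExtVanish.isZero_extX_iff _ E hG i).2 fun x =>
    Groth.Agent.CohDual.CodimApps.subsingleton_ext_of_dim_support (CohB1.ProjSpace.toSpec N k)
      (fun y => (Groth.Agent.NegVanish.stalk_regular (n := N) (k := k) y).1) N
      (Groth.Agent.CohDual.CodimApps.dim_closure_maximal_proj N) _ E hG hE x r ?_ hi
  rw [Groth.Agent.CohDual.StalkExtVanish.support_push_structureModule, ← Set.image_univ,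
    Groth.Agent.FibreDim.dim_image ι.isClosedEmbedding.isEmbedding,
    show topologicalKrullDim (Set.univ : Set X) = topologicalKrullDim X from
      (Homeomorph.Set.univ X).isHomeomorph.topologicalKrullDim_eq]
  exact hr

end Groth.Agent.S15513
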