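import Groth.Statements.S15520
import Groth.Agent.CohDual.ExtShRes
import Groth.Agent.ModGroth.SheafHomExact

set_option autoImplicit false
universe u
open CategoryTheory CategoryTheory.Limits AlgebraicGeometry
open Coherent

namespace Groth.Agent.S15520

/-- Let X be a scheme, F and G O_X-modules, and E_• → F → 0 a resolution of F whose terms E_i are finite
locally free O_X-modules: E is a chain complex indexed by the natural numbers with an augmentation π
: E_0 → F such that E is exact in every positive degree and E_1 → E_0 → F → 0 is exact. Let C be the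
cochain complex Hom_{O_X}(E_•, G), given with identifications C^i ≅ Hom_{O_X}(E_i, G) under which
its differentials are the maps induced by the differentials of E (contravariant functoriality of the
internal Hom). Then for every i the i-th cohomology object of C is isomorphic to the Ext sheaf
Ext^i_{O_X}(F, G), the i-th right derived functor of the internal Hom functor Hom(F, -) evaluated at
G. (Existence of an isomorphism of O_X-modules only; the published statement is for a ringed space.
The internal Hom functors and injective resolutions are the stated instance hypotheses, all true.) -/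
theorem result (X : Scheme.{u}) (F G : X.Modules)
    (E : ChainComplex X.Modules ℕ) (π : E.X 0 ⟶ F) [Epi π] (hπ : E.d 1 0 ≫ π = 0)
    (hex0 : (ShortComplex.mk (E.d 1 0) π hπ).Exact) (hex : ∀ j : ℕ, E.ExactAt (j + 1))
    (hE : ∀ j : ℕ, FlatMod.IsFinLocFree (E.X j))
    [∀ j : ℕ, ModSite.HasSheafHom (O := X.sheaf) (E.X j)] [ModSite.HasSheafHom (O := X.sheaf) F]
    [HasInjectiveResolutions (ModSite.Mod X.sheaf)]
    (C : CochainComplex X.Modules ℕ) (e : ∀ j : ℕ, C.X j ≅ (ModSite.sheafHom (O := X.sheaf) (E.X j)).obj G)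
    (hC : ∀ j : ℕ, C.d j (j + 1) ≫ (e (j + 1)).hom =
      (e j).hom ≫ (ExtSupp.sheafHomMap (O := X.sheaf) (E.d (j + 1) j)).app G)
    (i : ℕ) :
    Nonempty (C.homology i ≅ (ModSite.extSh (O := X.sheaf) F i).obj G) := by
  haveI : ∀ M : ModSite.Mod X.sheaf, ModSite.HasSheafHom M := Groth.Agent.ModGroth.hasSheafHom
  let E' : ℕ → ModSite.Mod X.sheaf := E.X
  let d' : ∀ j, E' (j + 1) ⟶ E' j := fun j => E.d (j + 1) j
  have hd : ∀ j, d' (j + 1) ≫ d' j = 0 := fun j => E.d_comp_d (j + 1 + 1) (j + 1) j
  have hexd : ∀ j, (ShortComplex.mk _ _ (hd j)).Exact := fun j =>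
    (HomologicalComplex.exactAt_iff' E (j + 1 + 1) (j + 1) j (by simp) (by simp)).1 (hex j)
  have hac : ∀ j p, IsZero ((ModSite.extSh (O := X.sheaf) (E' j) (p + 1)).obj G) := fun j p =>
    Groth.Agent.CohDual.isZero_extSh_succ (O := X.sheaf) (E' j)
      (fun A B g hg => haveI : Epi (C := X.Modules) g := hg
        Groth.Agent.ModGroth.SheafHomExact.epi_sheafHom_map (X := X) (hE j) (G := A) (G' := B) g) G p
  obtain ⟨⟨w₀, hk₀, hm₀⟩, hi⟩ := @Groth.Agent.CohDual.nonempty_homology_extSh _ _ _ X.sheaf _ F G E' d' _ _ π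
    ‹Epi π› hπ hex0 hd hexd hac
  obtain _ | i := i
  · obtain ⟨ψ⟩ := Groth.Agent.CohDual.nonempty_complex_zero (A := X.Modules) C (e 0) (e 1) _ (hC 0)
      ((ExtSupp.sheafHomMap (O := X.sheaf) π).app G) w₀ hk₀ hm₀
    exact ⟨ψ ≪≫ ((ModSite.sheafHom (O := X.sheaf) F).rightDerivedZeroIsoSelf.app G).symm⟩
  · obtain ⟨w, hψ⟩ := hi i
    exact Groth.Agent.CohDual.nonempty_complex_succ (A := X.Modules) C i (e i) (e (i + 1)) (e (i + 1 + 1)) _ _
      (hC i) (hC (i + 1)) w hψ

end Groth.Agent.S15520
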