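import Groth.Statements.S15524
import Mathlib
-- import your own Groth.Agent.* helpers here

set_option autoImplicit false
open Finset
open Zeta

namespace Groth.Agent.S15524

/-- Let q ≥ 1 and let α_1, …, α_{2g} be complex numbers permuted by α ↦ q/α, i.e. α_{σ(i)} α_i = q for a
permutation σ of the indices; these play the role of the inverse roots of the numerator of the zeta
function of a curve over a field with q elements, for which #X(F_{q^N}) = q^N + 1 − Σ_i α_i^N. If
for some d ≥ 1 and real C one has |Σ_i α_i^{dN}| ≤ C q^{dN/2} for every N ≥ 1, then |α_i|^2 = q for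
every i (the Riemann hypothesis for the curve). -/
theorem result {g : ℕ} (q : ℕ) (hq : 0 < q)
    (α : Fin (2 * g) → ℂ) (σ : Equiv.Perm (Fin (2 * g))) (hσ : ∀ i, α (σ i) * α i = q)
    (d : ℕ) (hd : 0 < d) (C : ℝ)
    (hC : ∀ N : ℕ, 1 ≤ N → ‖∑ i, α i ^ (d * N)‖ ≤ C * (q : ℝ) ^ ((d : ℝ) * N / 2))
    (i : Fin (2 * g)) : ‖α i‖ ^ 2 = q := by
  classical
  set r : ℝ := Real.sqrt q ^ d with hr
  have hq0 : (0 : ℝ) < q := by exact_mod_cast hq
  have hrpos : 0 < r := pow_pos (Real.sqrt_pos.2 hq0) d
  have hC' : ∀ N : ℕ, 1 ≤ N → ‖∑ i, (α i ^ d) ^ N‖ ≤ C * r ^ N := by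
    intro N hN
    refine (le_of_eq ?_).trans ((hC N hN).trans (le_of_eq ?_))
    · simp only [pow_mul]
    · rw [hr, ← pow_mul, Real.sqrt_eq_rpow, ← Real.rpow_natCast ((q : ℝ) ^ (1 / 2 : ℝ)), ← Real.rpow_mul hq0.le]
      congr 1
      push_cast
      ring_nf
  have hle : ∀ j, ‖α j ^ d‖ ≤ r := by
    intro j
    set V := Finset.univ.image (fun i => α i ^ d) with hV
    set v := α j ^ d with hv
    have hvV : v ∈ V := Finset.mem_image_of_mem _ (Finset.mem_univ j)
    set L : Polynomial ℂ := ∏ w ∈ V.erase v, (Polynomial.X - Polynomial.C w) with hL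
    have hLv : L.eval v ≠ 0 := by
      rw [hL, Polynomial.eval_prod]
      exact Finset.prod_ne_zero_iff.2 fun w hw => by
        simpa [sub_eq_zero] using (Finset.ne_of_mem_erase hw).symm
    have hkey : ∀ N : ℕ, ∑ k ∈ Finset.range (L.natDegree + 1), L.coeff k * ∑ i, (α i ^ d) ^ (N + k) =
        ((Finset.univ.filter fun i => α i ^ d = v).card : ℂ) * L.eval v * v ^ N := by
      intro N
      calc _ = ∑ i, L.eval (α i ^ d) * (α i ^ d) ^ N := by
              simp only [Finset.mul_sum]
              rw [Finset.sum_comm]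
              refine Finset.sum_congr rfl fun i _ => ?_
              rw [Polynomial.eval_eq_sum_range, Finset.sum_mul]
              exact Finset.sum_congr rfl fun k _ => by rw [pow_add]; ring
        _ = ∑ i ∈ Finset.univ.filter (fun i => α i ^ d = v), L.eval (α i ^ d) * (α i ^ d) ^ N := by
              symm
              refine Finset.sum_subset (Finset.filter_subset _ _) fun i _ hi => ?_
              have hne : α i ^ d ≠ v := by simpa using hi
              rw [hL, Polynomial.eval_prod, Finset.prod_eq_zero (s := V.erase v) (i := α i ^ d) (Finset.mem_erase.2 ⟨hne, hV ▸ Finset.mem_image_of_mem (fun i => α i ^ d) (Finset.mem_univ i)⟩) (by simp), zero_mul]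
        _ = _ := by
              rw [Finset.sum_congr rfl (fun i hi => by rw [(Finset.mem_filter.1 hi).2] : ∀ i ∈ Finset.univ.filter (fun i => α i ^ d = v), L.eval (α i ^ d) * (α i ^ d) ^ N = L.eval v * v ^ N)]
              simp [mul_assoc]
    set K := ∑ k ∈ Finset.range (L.natDegree + 1), ‖L.coeff k‖ * (C * r ^ k) with hK
    set c := ‖((Finset.univ.filter fun i => α i ^ d = v).card : ℂ) * L.eval v‖ with hc
    have hcpos : 0 < c := by
      rw [hc, norm_pos_iff]
      refine mul_ne_zero ?_ hLv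
      rw [Nat.cast_ne_zero]
      exact Finset.card_ne_zero_of_mem (Finset.mem_filter.2 ⟨Finset.mem_univ j, rfl⟩)
    have hbound : ∀ N : ℕ, 1 ≤ N → c * ‖v‖ ^ N ≤ K * r ^ N := by
      intro N hN
      rw [hc, ← norm_pow, ← norm_mul, ← hkey, hK, Finset.sum_mul]
      refine (norm_sum_le _ _).trans (Finset.sum_le_sum fun k _ => ?_)
      rw [norm_mul, mul_assoc, mul_assoc, ← pow_add, add_comm k N]
      exact mul_le_mul_of_nonneg_left (hC' _ (by omega)) (norm_nonneg _)
    by_contra hlt
    push Not at hlt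
    obtain ⟨N, hN⟩ := pow_unbounded_of_one_lt (K / c) ((one_lt_div hrpos).2 hlt)
    have h1 := hbound (N + 1) (by omega)
    have h2 : K / c < (‖v‖ / r) ^ (N + 1) := hN.trans_le (pow_le_pow_right₀ ((one_lt_div hrpos).2 hlt).le (Nat.le_succ N))
    rw [div_pow, div_lt_div_iff₀ hcpos (pow_pos hrpos _)] at h2
    linarith
  have hle2 : ∀ j, ‖α j‖ ≤ Real.sqrt q := fun j => by
    have := hle j
    rw [norm_pow, hr] at this
    exact le_of_pow_le_pow_left₀ hd.ne' (Real.sqrt_nonneg _) this
  have hprod : ‖α (σ i)‖ * ‖α i‖ = q := by rw [← norm_mul, hσ i]; simp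
  have hsq := Real.mul_self_sqrt hq0.le
  have h1 := hle2 i
  have h2 := hle2 (σ i)
  rw [sq]
  apply le_antisymm
  · calc ‖α i‖ * ‖α i‖ ≤ Real.sqrt q * Real.sqrt q := mul_self_le_mul_self (norm_nonneg _) h1
      _ = q := hsq
  · nlinarith [norm_nonneg (α i), norm_nonneg (α (σ i)), Real.sqrt_nonneg (q:ℝ), mul_le_mul_of_nonneg_right h2 (norm_nonneg (α i))]

end Groth.Agent.S15524
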