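import Mathlib
import Groth.Statements.S15525
-- import your own Groth.Agent.* helpers here

set_option autoImplicit false
universe u
open Zeta

namespace Groth.Agent.S15525

/-- Let L be a field with a ring embedding ι into ℂ and M an r × r matrix over L all of whose
eigenvalues, the complex roots of its characteristic polynomial mapped along ι, have absolute value
1. Then every coefficient of the characteristic polynomial of the block-diagonal matrix with blocks
M and the inverse transpose of M is mapped by ι into ℝ. This is the pointwise content of the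
assertion that for a lisse sheaf F pure of weight 0 the sum of F and its dual is real, the Frobenius
of the dual acting by the inverse transpose. -/
theorem result (L : Type u) [Field L] (ι : L →+* ℂ)
    {r : ℕ} (M : Matrix (Fin r) (Fin r) L)
    (hM : ∀ z ∈ ((Matrix.charpoly M).map ι).roots, ‖z‖ = 1) (n : ℕ) :
    (ι ((Matrix.fromBlocks M 0 0 (M⁻¹).transpose).charpoly.coeff n)).im = 0 := by
  let N : Matrix (Fin r) (Fin r) ℂ := M.map ι
  have hz : ∀ z ∈ N.charpoly.roots, ‖z‖ = 1 := fun z h => hM z (by rwa [← Matrix.charpoly_map])
  have hs : N.charpoly.Splits := IsAlgClosed.splits _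
  have hdet : N.det = N.charpoly.roots.prod := Matrix.det_eq_prod_roots_charpoly N
  have hdet0 : N.det ≠ 0 := by
    rw [hdet]
    exact Multiset.prod_ne_zero fun h => by simpa using hz 0 h
  have hcard : N.charpoly.roots.card = r := by
    rw [← hs.natDegree_eq_card_roots, Matrix.charpoly_natDegree_eq_dim, Fintype.card_fin]
  have key : ∀ s : Multiset ℂ, (∀ z ∈ s, ‖z‖ = 1) →
      Polynomial.C s.prod * (s.map fun z => Polynomial.X - Polynomial.C (starRingEnd ℂ z)).prod =
        (-1) ^ s.card * (s.map fun z => Polynomial.X - Polynomial.C z).prod.reverse := by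
    intro s
    induction s using Multiset.induction_on with
    | empty => simp [Polynomial.reverse]
    | cons a s ih =>
      intro hs'
      have ha : a * starRingEnd ℂ a = 1 := by
        rw [Complex.mul_conj, Complex.normSq_eq_norm_sq, hs' a (Multiset.mem_cons_self a s)]; simp
      have hrev : (Polynomial.X - Polynomial.C a).reverse = 1 - Polynomial.C a * Polynomial.X := by
        rw [Polynomial.reverse, Polynomial.natDegree_X_sub_C, Polynomial.reflect_sub, Polynomial.reflect_C]
        simp
      rw [Multiset.map_cons, Multiset.map_cons, Multiset.prod_cons, Multiset.prod_cons, Multiset.prod_cons, Multiset.card_cons,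
        Polynomial.reverse_mul_of_domain, hrev, map_mul, pow_succ]
      have ih' := ih fun z hz => hs' z (Multiset.mem_cons_of_mem hz)
      have ha' : Polynomial.C a * Polynomial.C (starRingEnd ℂ a) = 1 := by rw [← map_mul, ha, map_one]
      linear_combination (Polynomial.C a * Polynomial.X - Polynomial.C a * Polynomial.C (starRingEnd ℂ a)) * ih' +
        (-((-1) ^ s.card * (s.map fun z => Polynomial.X - Polynomial.C z).prod.reverse)) * ha'
  have hconj : N⁻¹.charpoly = N.charpoly.map (starRingEnd ℂ) := by
    rw [Matrix.charpoly_inv N ((Matrix.isUnit_iff_isUnit_det N).2 (isUnit_iff_ne_zero.2 hdet0)), ← Matrix.reverse_charpoly, Fintype.card_fin]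
    have hP : N.charpoly = (N.charpoly.roots.map fun z => Polynomial.X - Polynomial.C z).prod :=
      hs.eq_prod_roots_of_monic (Matrix.charpoly_monic N)
    have hmap : N.charpoly.map (starRingEnd ℂ) = (N.charpoly.roots.map fun z => Polynomial.X - Polynomial.C (starRingEnd ℂ z)).prod := by
      conv_lhs => rw [hP]
      rw [Polynomial.map_multiset_prod, Multiset.map_map]
      simp [Function.comp_def]
    have hk := key _ hz
    rw [← hP, ← hmap, ← hdet, hcard] at hk
    rw [mul_right_comm, ← hk, mul_comm (Polynomial.C N.det), mul_assoc, ← map_mul, Ring.inverse_eq_inv', mul_inv_cancel₀ hdet0, map_one, mul_one]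
  have hinv : M⁻¹.map ι = N⁻¹ := by
    refine (Matrix.inv_eq_left_inv ?_).symm
    show M⁻¹.map ι * M.map ι = 1
    have hM0 : IsUnit M.det := by
      refine isUnit_iff_ne_zero.2 fun h0 => hdet0 ?_
      rw [show N.det = ι M.det from (ι.map_det M).symm, h0, map_zero]
    rw [← Matrix.map_mul, Matrix.nonsing_inv_mul M hM0, Matrix.map_one _ (map_zero ι) (map_one ι)]
  have htot : ((Matrix.fromBlocks M 0 0 (M⁻¹).transpose).charpoly).map ι = N.charpoly * N.charpoly.map (starRingEnd ℂ) := by
    rw [Matrix.charpoly_fromBlocks_zero₁₂, Polynomial.map_mul, Matrix.charpoly_transpose, ← Matrix.charpoly_map, ← Matrix.charpoly_map, hinv, hconj]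
  have hreal : (N.charpoly * N.charpoly.map (starRingEnd ℂ)).map (starRingEnd ℂ) = N.charpoly * N.charpoly.map (starRingEnd ℂ) := by
    rw [Polynomial.map_mul, Polynomial.map_map, show (starRingEnd ℂ).comp (starRingEnd ℂ) = RingHom.id ℂ from RingHom.ext fun z => Complex.conj_conj z, Polynomial.map_id, mul_comm]
  rw [← Polynomial.coeff_map, htot]
  refine Complex.conj_eq_iff_im.1 ?_
  conv_rhs => rw [← hreal]
  rw [Polynomial.coeff_map]

end Groth.Agent.S15525
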