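import Mathlib
import Groth.Statements.S15526
-- import your own Groth.Agent.* helpers here

set_option autoImplicit false
universe u
open MvPolynomial
open CAlg

namespace Groth.Agent.S15526

/-- Let R be a commutative ring, P ∈ R[x] a monic polynomial of degree 2g + 1, and A = R[x, y, z]/(y^2 −
P(x), yz − 1). Then every element of A is a finite sum Σ_n Q_n(x) y^n over integers n, negative
powers of y meaning powers of z, with each Q_n ∈ R[x] of degree at most 2g: the R-submodule of A
spanned by the classes of x^i y^n and x^i z^n with i ≤ 2g and n ≥ 0 is all of A. (The published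
statement takes for R the ring of Witt vectors of a finite field and for P a lift of a separable
polynomial; the argument uses only that P is monic of degree 2g + 1.) -/
theorem result (R : Type u) [CommRing R] (g : ℕ)
    (P : Polynomial R) (hP : P.Monic) (hdeg : P.natDegree = 2 * g + 1) :
    Submodule.span R {a : MvPolynomial (Fin 3) R ⧸
        Ideal.span ({X 1 ^ 2 - Polynomial.aeval (X 0 : MvPolynomial (Fin 3) R) P, X 1 * X 2 - 1} :
          Set (MvPolynomial (Fin 3) R)) |
        ∃ i n : ℕ, i ≤ 2 * g ∧
          (a = Ideal.Quotient.mk _ (X 0 ^ i * X 1 ^ n) ∨ a = Ideal.Quotient.mk _ (X 0 ^ i * X 2 ^ n))} =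
      ⊤ := by
  set J := Ideal.span ({X 1 ^ 2 - Polynomial.aeval (X 0 : MvPolynomial (Fin 3) R) P, X 1 * X 2 - 1} :
      Set (MvPolynomial (Fin 3) R)) with hJ
  set N := Submodule.span R {a : MvPolynomial (Fin 3) R ⧸ J | ∃ i n : ℕ, i ≤ 2 * g ∧
      (a = Ideal.Quotient.mk _ (X 0 ^ i * X 1 ^ n) ∨ a = Ideal.Quotient.mk _ (X 0 ^ i * X 2 ^ n))}
  let q := Ideal.Quotient.mkₐ R J
  let x := q (X 0)
  let y := q (X 1)
  let z := q (X 2)
  have hyz : y * z = 1 := by
    rw [← map_mul, ← map_one q]
    exact Ideal.Quotient.eq.2 (Ideal.subset_span (by simp))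
  let u : (MvPolynomial (Fin 3) R ⧸ J)ˣ := Units.mkOfMulEqOne y z hyz
  have huy : (u : MvPolynomial (Fin 3) R ⧸ J) = y := rfl
  have hP0 : Polynomial.aeval x P = y ^ 2 := by
    rw [Polynomial.aeval_algHom_apply, ← map_pow]
    exact (Ideal.Quotient.eq.2 (Ideal.subset_span (by simp))).symm
  have hP1 : x ^ (2 * g + 1) = y ^ 2 - ∑ j ∈ Finset.range (2 * g + 1), P.coeff j • x ^ j := by
    rw [← hP0, Polynomial.aeval_eq_sum_range' (n := 2 * g + 2) (by omega), Finset.sum_range_succ,
      show P.coeff (2 * g + 1) = 1 from hdeg ▸ hP.coeff_natDegree, one_smul, add_sub_cancel_left]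
  have key : ∀ (i : ℕ) (k : ℤ), x ^ i * ((u ^ k : (MvPolynomial (Fin 3) R ⧸ J)ˣ) : MvPolynomial (Fin 3) R ⧸ J) ∈ N := by
    intro i
    induction i using Nat.strong_induction_on with
    | _ i ih =>
      intro k
      by_cases hi : i ≤ 2 * g
      · refine Submodule.subset_span ⟨i, ?_⟩
        obtain ⟨n, rfl | rfl⟩ := k.eq_nat_or_neg
        · exact ⟨n, hi, Or.inl (by simp [q, x, y, huy])⟩
        · refine ⟨n, hi, Or.inr ?_⟩
          rw [zpow_neg, zpow_natCast, ← inv_pow, Units.val_pow_eq_pow_val]
          simp [q, x, z, u]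
          rfl
      · obtain ⟨i', rfl⟩ : ∃ i', i = i' + (2 * g + 1) := ⟨i - (2 * g + 1), by omega⟩
        rw [pow_add, hP1, mul_sub, sub_mul, Finset.mul_sum, Finset.sum_mul]
        refine sub_mem ?_ (sum_mem fun j hj => ?_)
        · have h2 := ih i' (by omega) (2 + k)
          rw [zpow_add, Units.val_mul, ← mul_assoc] at h2
          simpa [huy] using h2
        · rw [mul_smul_comm, ← pow_add, smul_mul_assoc]
          exact N.smul_mem _ (ih (i' + j) (by simp at hj; omega) k)
  have mon : ∀ (p : MvPolynomial (Fin 3) R) (i : ℕ) (k : ℤ), q p * (x ^ i * ((u ^ k : (MvPolynomial (Fin 3) R ⧸ J)ˣ) : MvPolynomial (Fin 3) R ⧸ J)) ∈ N := by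
    intro p
    induction p using MvPolynomial.induction_on with
    | C r =>
      intro i k
      rw [← MvPolynomial.algebraMap_eq, AlgHom.commutes, ← Algebra.smul_def]
      exact N.smul_mem _ (key i k)
    | add a b ha hb => intro i k; rw [map_add, add_mul]; exact add_mem (ha i k) (hb i k)
    | mul_X a j ha =>
      intro i k
      rw [map_mul, mul_assoc]
      fin_cases j
      · have := ha (i + 1) k
        rw [pow_succ' x, mul_assoc x] at this
        exact this
      · have := ha i (1 + k)
        rw [zpow_add, zpow_one, Units.val_mul, huy, mul_left_comm (x ^ i)] at this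
        exact this
      · have := ha i (-1 + k)
        rw [zpow_add, zpow_neg_one, Units.val_mul, mul_left_comm (x ^ i)] at this
        exact this
  refine eq_top_iff.2 fun a _ => ?_
  obtain ⟨p, rfl⟩ := Ideal.Quotient.mk_surjective a
  simpa [q] using mon p 0 0

end Groth.Agent.S15526
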