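import Groth.Statements.S1553
import Groth.Agent.DimInequality.Local
-- import your own Groth.Agent.* helpers here

set_option autoImplicit false
universe u
open CategoryTheory CategoryTheory.Limits AlgebraicGeometry
open Variety

namespace Groth.Agent.S1553

/-- Let f : X → Y be locally of finite type, x a point with image y such that the local ring of Y at y
is Noetherian, and d a natural number such that at the generic points η of the irreducible
components of X passing through x we have f(η) ≠ y and local fibre dimension d. Then the local
dimension at x of the fibre over y is at most d + dim O_{Y,y} - 1 (written additively). -/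
theorem result {X Y : Scheme.{u}} (f : X ⟶ Y) [LocallyOfFiniteType f]
    (x : X) [IsNoetherianRing (Y.presheaf.stalk (f.base x))] (d : ℕ)
    (hgen : ∀ Z ∈ irreducibleComponents (X : Type u), x ∈ Z → ∀ η : X, IsGenericPoint η Z →
      f.base η ≠ f.base x ∧ FlatMor.fibreDimAt f η = d) :
    FlatMor.fibreDimAt f x + 1 ≤ (d : WithBot ℕ∞) + ringKrullDim (Y.presheaf.stalk (f.base x)) := by
  have hmaxd : ∀ η : X, FibDim.IsMax' η → η ⤳ x → f η ≠ f x ∧ FibreDim.fdim f η = d := fun η hη hηx => by
    rw [← FibreDim.fibreDimAt_of_maximal f η fun z _ hz => hη z (specializes_iff_mem_closure.2 hz)]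
    exact hgen _ (FibDim.closure_mem_components hη) hηx.mem_closure η rfl
  obtain ⟨n, hn, ⟨w, hw, hwx, hwn⟩, -⟩ := FibreDim.exists_fibreDimAt_eq f x
  have hmax : ¬ FibDim.IsMax' w := fun h => (hmaxd w h hwx).1 hw
  haveI : IsNoetherianRing (Y.presheaf.stalk (f w)) := by rw [show f w = f x from hw]; infer_instance
  have h := DimInequality.fdim_add_one_le f w hmax d fun η hη hηw => (hmaxd η hη (hηw.trans hwx)).2.le
  rw [show f w = f x from hw, hwn] at h
  rw [hn, add_comm (d : WithBot ℕ∞)]
  exact h

end Groth.Agent.S1553
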