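import Groth.Statements.S15533
import Groth.Agent.ZarConn.Stein
import Groth.Agent.FittSheaf.ConstDiff
import Groth.Agent.OmegaUniv.Deriv
import Groth.Prelude.Def_OmAff

set_option autoImplicit false
universe u
open OmegaSh

namespace Groth.Agent.S15533

open CategoryTheory AlgebraicGeometry in
/-- For a field k and a smooth proper k-scheme X with structure morphism f, the derivation d : O_X →
Ω_{X/k} of f vanishes on global functions: d(s) = 0 in Γ(X, Ω_{X/k}) for every s ∈ Γ(X, O_X). -/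
theorem result (k : Type u) [Field k] (X : Scheme.{u})
    (f : X ⟶ Spec (CommRingCat.of k)) [IsProper f] [Smooth f] (s : Γ(X, ⊤)) :
    (OmegaSh.dOmega f).app ⊤ s = 0 := by
  haveI : IsNoetherianRing (CommRingCat.of k) := inferInstanceAs (IsNoetherianRing k)
  have hfin := ZarConn.finite_appTop f
  choose U hxU hle using fun x : X =>
    (exists_isAffineOpen_mem_and_subset (x := x) (U := (⊤ : X.Opens)) trivial).elim
      fun U h => (⟨U, h.2.1, h.1⟩ : ∃ U : X.Opens, x ∈ U ∧ IsAffineOpen U)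
  refine TopCat.Sheaf.eq_of_locally_eq' ⟨(Omega.sheaf f).presheaf, (Omega.sheaf f).isSheaf⟩ U ⊤
    (fun x => homOfLE le_top) (fun x _ => TopologicalSpace.Opens.mem_iSup.2 ⟨x, hxU x⟩) _ _ fun x => ?_
  let e : U x ≤ f ⁻¹ᵁ ⊤ := le_top
  letI := (f.appLE ⊤ (U x) e).hom.toAlgebra
  let s' : Γ(X, U x) := X.presheaf.map (homOfLE (le_top : U x ≤ ⊤)).op s
  have hsm : RingHom.Smooth (f.appLE ⊤ (U x) e).hom := f.smooth_appLE (isAffineOpen_top _) (hle x) e
  let a : CommRingCat.of k ⟶ Γ(Spec (CommRingCat.of k), ⊤) := (Scheme.ΓSpecIso (CommRingCat.of k)).inv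
  have ha : Function.Bijective a.hom := (Scheme.ΓSpecIso (CommRingCat.of k)).commRingCatIsoToRingEquiv.symm.bijective
  letI : Field Γ(Spec (CommRingCat.of k), ⊤) :=
    ((Scheme.ΓSpecIso (CommRingCat.of k)).commRingCatIsoToRingEquiv.toMulEquiv.isField
      (Field.toIsField k)).toField
  haveI : Algebra.Smooth Γ(Spec (CommRingCat.of k), ⊤) Γ(X, U x) := RingHom.smooth_algebraMap.1 hsm
  have hint : IsIntegral Γ(Spec (CommRingCat.of k), ⊤) s' := by
    obtain ⟨p, hp, hps⟩ := hfin.to_isIntegral s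
    refine ⟨p, hp, ?_⟩
    have := congrArg (X.presheaf.map (homOfLE (le_top : U x ≤ ⊤)).op).hom hps
    rw [Polynomial.hom_eval₂, map_zero] at this
    exact this
  have h0 := FittConst.D_eq_zero_of_smooth hint
  have h1 := OmAff.toSect_d f ⊤ (U x) e s'
  show (Omega.sheaf f).presheaf.map (homOfLE (le_top : U x ≤ ⊤)).op ((OmegaSh.dOmega f).app ⊤ s) =
    (Omega.sheaf f).presheaf.map (homOfLE (le_top : U x ≤ ⊤)).op 0
  rw [map_zero, ← OmegaUniv.app_map]
  refine (show (OmegaSh.dOmega f).app (U x) s' = OmegaSh.dSect f (U x) s' from rfl).trans (h1.symm.trans ?_)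
  rw [show CommRingCat.KaehlerDifferential.d (f := f.appLE ⊤ (U x) e) s' = 0 from h0, map_zero]

end Groth.Agent.S15533
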