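import Groth.Statements.S1554
import Groth.Agent.DimInequality.Local
import Groth.Agent.S0402
-- import your own Groth.Agent.* helpers here

set_option autoImplicit false
universe u
open CategoryTheory CategoryTheory.Limits AlgebraicGeometry
open Variety

namespace Groth.Agent.S1554

/-- Let f : X → Y be locally of finite type, x a point with image y such that the local ring of Y at y
is Noetherian of dimension at most one, and d a natural number such that the local fibre dimension
is d at the generic points of the irreducible components of X passing through x. Then the local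
dimension at x of the fibre over y equals d. -/
theorem result {X Y : Scheme.{u}} (f : X ⟶ Y) [LocallyOfFiniteType f]
    (x : X) [IsNoetherianRing (Y.presheaf.stalk (f.base x))] (hdimY : ringKrullDim (Y.presheaf.stalk (f.base x)) ≤ 1) (d : ℕ)
    (hgen : ∀ Z ∈ irreducibleComponents (X : Type u), x ∈ Z → ∀ η : X, IsGenericPoint η Z → FlatMor.fibreDimAt f η = d) :
    FlatMor.fibreDimAt f x = d := by
  have hmaxd : ∀ η : X, FibDim.IsMax' η → η ⤳ x → FibreDim.fdim f η = d := fun η hη hηx => by
    rw [← FibreDim.fibreDimAt_of_maximal f η fun z _ hz => hη z (specializes_iff_mem_closure.2 hz)]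
    exact hgen _ (FibDim.closure_mem_components hη) hηx.mem_closure η rfl
  obtain ⟨n, hn, ⟨w, hw, hwx, hwn⟩, -⟩ := FibreDim.exists_fibreDimAt_eq f x
  refine le_antisymm ?_ ?_
  · rw [hn, ← hwn]
    by_cases hmax : FibDim.IsMax' w
    · exact (hmaxd w hmax hwx).le
    haveI : IsNoetherianRing (Y.presheaf.stalk (f w)) := by rw [show f w = f x from hw]; infer_instance
    have h := DimInequality.fdim_add_one_le f w hmax d fun η hη hηw => (hmaxd η hη (hηw.trans hwx)).le
    rw [show f w = f x from hw, hwn] at h
    have h2 : (n : WithBot ℕ∞) + 1 ≤ 1 + (d : WithBot ℕ∞) := h.trans (add_le_add hdimY le_rfl)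
    rw [hwn]
    have h3 : n + 1 ≤ 1 + d := by exact_mod_cast h2
    exact_mod_cast (show n ≤ d by omega)
  · obtain ⟨η, hηx, hη⟩ := FibDim.exists_isMax'_specializes x
    have hopen := FibreSemi.isOpen_le f n
    have h : FlatMor.fibreDimAt f η ≤ n := hηx.mem_open hopen hn.le
    rw [FibreDim.fibreDimAt_of_maximal f η fun z _ hz => hη z (specializes_iff_mem_closure.2 hz), hmaxd η hη hηx] at h
    exact hn ▸ h

end Groth.Agent.S1554
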