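import Groth.Statements.S15542
import Groth.Agent.ProConsLib.Preimage

set_option autoImplicit false
open CategoryTheory AlgebraicGeometry
universe u
open ProCons

namespace Groth.Agent.S15542

/-- The pro-constructible case. Let f : X ⟶ Y be any morphism of schemes and T a pro-constructible
subset of Y (locally on Y an intersection of locally constructible subsets). Then the preimage of T
under f is pro-constructible in X. -/
theorem result {X Y : Scheme.{u}} (f : X ⟶ Y) (T : Set Y)
    (hT : ProCons.IsProConstructible T) :
    ProCons.IsProConstructible (f.base ⁻¹' T) := by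
  intro x
  obtain ⟨U, hU, hxU, S, hS, hE⟩ := hT (f.base x)
  let V : Y.Opens := ⟨U, hU⟩
  refine ⟨f.base ⁻¹' U, hU.preimage f.continuous, hxU,
    (fun T : Set U => (U.restrictPreimage f.base) ⁻¹' T) '' S, ?_, ?_⟩
  · rintro _ ⟨T, hT', rfl⟩
    have h := Groth.Agent.ProConsLib.isLocallyConstructible_preimage (f ∣_ V) (hS T hT')
    rw [morphismRestrict_base] at h
    exact h
  · ext y
    have := Set.ext_iff.mp hE (U.restrictPreimage f.base y)
    simp only [Set.mem_preimage, Set.mem_sInter, Set.forall_mem_image] at this ⊢
    exact this

end Groth.Agent.S15542
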