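import Groth.Statements.S15545
import Groth.Agent.ProConsLib.Basic
import Mathlib


set_option autoImplicit false
open CategoryTheory AlgebraicGeometry
universe u
open FDesc

namespace Groth.Agent.S15545

/-- Let f : X' ⟶ X be flat, quasi-compact and surjective, and Z a pro-constructible subset of X (locally
on X an intersection of locally constructible subsets) which is dense in X. Then the preimage of Z
under f is dense in X'. -/
theorem result {X' X : Scheme.{u}} (f : X' ⟶ X)
    [Flat f] [QuasiCompact f] [Surjective f] (Z : Set X) (hZ : ProCons.IsProConstructible Z)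
    (hd : Dense Z) : Dense (f.base ⁻¹' Z) := by

  intro x
  have hi : f x ∉ interior Zᶜ := by
    rw [interior_compl, Set.mem_compl_iff, not_not]
    exact hd (f x)
  rw [Groth.Agent.ProConsLib.mem_interior_iff_generizations
    ((Groth.Agent.ProConsLib.isInd_iff_isPro_compl).2 (by rwa [compl_compl]))] at hi
  push Not at hi
  obtain ⟨y, hy, hyZ⟩ := hi
  obtain ⟨x₀, hx₀, he⟩ := Flat.generalizingMap f hy
  refine hx₀.mem_closed isClosed_closure (subset_closure ?_)
  show f x₀ ∈ Z
  rw [he]
  exact not_not.1 hyZ

end Groth.Agent.S15545
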