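import Groth.Statements.S15546
import Mathlib
-- import your own Groth.Agent.* helpers here

set_option autoImplicit false
open scoped TensorProduct
universe u
open Unram

namespace Groth.Agent.S15546

/-- Let E be a finite extension of a field k which is not separable over k, and K an algebraic closure
of k. Then E ⊗_k K has a nonzero nilpotent element. -/
theorem result (k E K : Type u) [Field k] [Field E]
    [Algebra k E] [FiniteDimensional k E] [Field K] [Algebra k K] [IsAlgClosure k K]
    (h : ¬ Algebra.IsSeparable k E) : ∃ x : E ⊗[k] K, x ≠ 0 ∧ IsNilpotent x := by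
  classical
  haveI : IsAlgClosed K := IsAlgClosure.isAlgClosed k
  obtain ⟨a, ha⟩ : ∃ a : E, ¬ IsSeparable k a := by
    by_contra hc
    push Not at hc
    exact h ⟨hc⟩
  have hai : IsIntegral k a := Algebra.IsIntegral.isIntegral a
  set g := (minpoly k a).map (algebraMap k K) with hg
  have hg0 : g ≠ 0 := Polynomial.map_ne_zero (minpoly.ne_zero hai)
  have hns : ¬ g.Separable := fun hs => ha ((Polynomial.separable_map _).1 hs)
  rw [← Polynomial.nodup_roots_iff_of_splits hg0 (IsAlgClosed.splits g),
    Multiset.nodup_iff_count_le_one] at hns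
  push Not at hns
  obtain ⟨r, hr⟩ := hns
  rw [Polynomial.count_roots] at hr
  obtain ⟨h', hh'⟩ := (Polynomial.le_rootMultiplicity_iff hg0).1 hr
  set q := (Polynomial.X - Polynomial.C r) * h' with hq
  have hgq : g = (Polynomial.X - Polynomial.C r) * q := by rw [hh', hq, Nat.succ_eq_add_one]; ring
  have hq0 : q ≠ 0 := fun e => hg0 (by rw [hgq, e, mul_zero])
  have hdeg : q.natDegree < (minpoly k a).natDegree := by
    rw [← Polynomial.natDegree_map (algebraMap k K), ← hg, hgq,
      Polynomial.natDegree_mul (Polynomial.X_sub_C_ne_zero r) hq0, Polynomial.natDegree_X_sub_C]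
    omega
  have hga : Polynomial.aeval ((1 : K) ⊗ₜ[k] a) g = 0 := by
    rw [hg, Polynomial.aeval_map_algebraMap, ← Algebra.TensorProduct.includeRight_apply,
      Polynomial.aeval_algHom_apply, minpoly.aeval, map_zero]
  refine ⟨Algebra.TensorProduct.comm k K E (Polynomial.aeval ((1 : K) ⊗ₜ[k] a) q),
    fun h0 => ?_, IsNilpotent.map ⟨2, ?_⟩ (Algebra.TensorProduct.comm k K E).toAlgHom⟩
  · rw [EmbeddingLike.map_eq_zero_iff, Polynomial.aeval_eq_sum_range' hdeg] at h0
    have hli := Module.Flat.linearIndependent_one_tmul (S := K) (linearIndependent_pow (K := k) a)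
    rw [Finset.sum_range] at h0
    have hc := Fintype.linearIndependent_iff.1 hli (fun i => q.coeff i) (by
      simpa only [Algebra.TensorProduct.tmul_pow, one_pow] using h0)
    refine hq0 (Polynomial.ext fun i => ?_)
    rw [Polynomial.coeff_zero]
    rcases lt_or_ge i (minpoly k a).natDegree with hi | hi
    · exact hc ⟨i, hi⟩
    · exact Polynomial.coeff_eq_zero_of_natDegree_lt (lt_of_lt_of_le hdeg hi)
  · have e : q ^ 2 = g * h' := by rw [hgq, hq]; ring
    rw [← map_pow, e, map_mul, hga, zero_mul]

end Groth.Agent.S15546
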