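import Groth.Statements.S15549
import Mathlib
-- import your own Groth.Agent.* helpers here

set_option autoImplicit false
universe u
open CategoryTheory AlgebraicGeometry
open LocCoh

namespace Groth.Agent.S15549

open DirectSum in
/-- homogeneous components of an annihilator of a homogeneous element annihilate it -/
theorem component_smul_eq_zero {R σ : Type u} [CommRing R] [SetLike σ R] [AddSubgroupClass σ R]
    (𝒜 : ℕ → σ) [GradedRing 𝒜] {M τ : Type u} [AddCommGroup M] [Module R M] [SetLike τ M] [AddSubgroupClass τ M]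
    (ℳ : ℕ → τ) [SetLike.GradedSMul 𝒜 ℳ] [DirectSum.Decomposition ℳ]
    {i : ℕ} {m : M} (hm : m ∈ ℳ i) {s : R} (hs : s • m = 0) (j : ℕ) :
    (DirectSum.decompose 𝒜 s j : R) • m = 0 := by
  classical
  have hmem : ∀ j, (DirectSum.decompose 𝒜 s j : R) • m ∈ ℳ (j + i) := fun j =>
    SetLike.GradedSMul.smul_mem (DirectSum.decompose 𝒜 s j).2 hm
  have h0 : ∑ l ∈ DFinsupp.support (DirectSum.decompose 𝒜 s), (DirectSum.decompose 𝒜 s l : R) • m = 0 := by
    rw [← Finset.sum_smul, DirectSum.sum_support_decompose 𝒜 s]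
    exact hs
  by_cases hj : j ∈ DFinsupp.support (DirectSum.decompose 𝒜 s)
  · have h1 : ((DirectSum.decompose ℳ (∑ l ∈ DFinsupp.support (DirectSum.decompose 𝒜 s),
        (DirectSum.decompose 𝒜 s l : R) • m) (j + i) : ℳ (j + i)) : M) = (DirectSum.decompose 𝒜 s j : R) • m := by
      rw [DirectSum.decompose_sum, DFinsupp.finsetSum_apply, AddSubmonoidClass.coe_finsetSum,
        Finset.sum_eq_single j]
      · exact DirectSum.decompose_of_mem_same ℳ (hmem j)
      · intro l _ hl
        exact DirectSum.decompose_of_mem_ne ℳ (hmem l) (by omega)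
      · intro h; exact absurd hj h
    rw [← h1, h0]
    simp
  · rw [DFinsupp.notMem_support_iff] at hj
    rw [hj]
    simp

/-- Let R be a Noetherian commutative ring, positively graded by additive subgroups R_d, with irrelevant
ideal R_+ and X = Proj R, and let M be a graded R-module which is the direct sum of its pieces M_i,
i ≥ 0 (non-negatively graded here). For every i and every m ∈ M_i, the global section of M(i)~
defined by m (the value m/1 at every point) is zero if and only if some power of R_+ annihilates m.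
Equivalently, degree by degree, the kernel of the canonical map from M to the direct sum over all n
of Γ(X, M(n)~) is the R_+-power-torsion submodule H^0_{R_+}(M). -/
theorem result {R σ : Type u} [CommRing R] [IsNoetherianRing R] [SetLike σ R] [AddSubgroupClass σ R]
    (𝒜 : ℕ → σ) [GradedRing 𝒜] {M τ : Type u} [AddCommGroup M] [Module R M] [SetLike τ M] [AddSubgroupClass τ M]
    (ℳ : ℕ → τ) [SetLike.GradedSMul 𝒜 ℳ] [DirectSum.Decomposition ℳ]
    (i : ℕ) (m : ℳ i) :
    GrMod.alpha 𝒜 ℳ i m = 0 ↔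
      ∃ k : ℕ, ∀ r : R, r ∈ (HomogeneousIdeal.irrelevant 𝒜).toIdeal ^ k → r • (m : M) = 0 := by
  have hzero : GrMod.alpha 𝒜 ℳ i m = 0 ↔
      ∀ x : ProjectiveSpectrum 𝒜, ∃ s : R, s ∉ x.asHomogeneousIdeal ∧ s • (m : M) = 0 := by
    constructor
    · intro h x
      have h' : GrMod.globalOf 𝒜 ℳ m = 0 := h
      have h1 := congrArg Subtype.val (congrFun (congrArg Subtype.val h') ⟨x, trivial⟩)
      have h2 : LocalizedModule.mkLinearMap x.asHomogeneousIdeal.toIdeal.primeCompl M (m : M) = 0 := h1
      obtain ⟨s, hs⟩ := (IsLocalizedModule.eq_zero_iff x.asHomogeneousIdeal.toIdeal.primeCompl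
        (LocalizedModule.mkLinearMap x.asHomogeneousIdeal.toIdeal.primeCompl M)).mp h2
      exact ⟨s.1, s.2, hs⟩
    · intro h
      refine Subtype.ext (funext fun x => Subtype.ext ?_)
      haveI := x.1.isPrime
      change LocalizedModule.mkLinearMap x.1.asHomogeneousIdeal.toIdeal.primeCompl M (m : M) = 0
      obtain ⟨s, hs, hs'⟩ := h x.1
      exact (IsLocalizedModule.eq_zero_iff x.1.asHomogeneousIdeal.toIdeal.primeCompl _).mpr ⟨⟨s, hs⟩, hs'⟩
  rw [hzero]
  constructor
  · intro h
    let I : Ideal R := LinearMap.ker (LinearMap.toSpanSingleton R M (m : M))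
    have hI : ∀ r, r ∈ I ↔ r • (m : M) = 0 := fun r => by simp [I, LinearMap.mem_ker]
    have hrad : (HomogeneousIdeal.irrelevant 𝒜).toIdeal ≤ I.radical := by
      intro r hr
      rw [Ideal.radical_eq_sInf, Submodule.mem_sInf]
      rintro p ⟨hIp, hp⟩
      by_cases hle : HomogeneousIdeal.irrelevant 𝒜 ≤ Ideal.homogeneousCore 𝒜 p
      · exact Ideal.toIdeal_homogeneousCore_le 𝒜 p (hle hr)
      · exfalso
        let x : ProjectiveSpectrum 𝒜 := ⟨Ideal.homogeneousCore 𝒜 p, hp.homogeneousCore, hle⟩
        obtain ⟨s, hs, hs'⟩ := h x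
        apply hs
        classical
        show s ∈ Ideal.homogeneousCore 𝒜 p
        rw [← DirectSum.sum_support_decompose 𝒜 s]
        refine Ideal.sum_mem (Ideal.homogeneousCore 𝒜 p).toIdeal fun j _ => ?_
        exact Ideal.mem_homogeneousCore_of_homogeneous_of_mem ⟨j, (DirectSum.decompose 𝒜 s j).2⟩
          (hIp ((hI _).mpr (component_smul_eq_zero 𝒜 ℳ m.2 hs' j)))
    obtain ⟨k, hk⟩ := Ideal.exists_pow_le_of_le_radical_of_fg hrad (IsNoetherian.noetherian _)
    exact ⟨k, fun r hr => (hI r).mp (hk hr)⟩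
  · rintro ⟨k, hk⟩ x
    obtain ⟨r, hr, hrx⟩ := SetLike.not_le_iff_exists.mp x.not_irrelevant_le
    exact ⟨r ^ k, fun h => hrx (x.isPrime.mem_of_pow_mem k h), hk _ (Ideal.pow_mem_pow hr k)⟩

end Groth.Agent.S15549
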