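import Groth.Statements.S15551
import Groth.Agent.ConnDiv.Covers
import Groth.Agent.ConnDiv.Loci

set_option autoImplicit false
set_option backward.isDefEq.respectTransparency false
universe u
open CategoryTheory CategoryTheory.Limits AlgebraicGeometry
open Pi1

namespace Groth.Agent.S15551

/-- Let k be an algebraically closed field and X an integral normal scheme (all local rings integrally
closed domains), proper over k and of dimension at least 2, with an ample invertible module L; let s
be a nonzero global section of L, given as a monomorphism O_X → L, and D = Z(s) ⊆ X its zero scheme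
(the support of an effective ample divisor). Then for every finite étale cover Y → X with Y
connected, the fibre product Y ×_X D is connected. This is the statement that the étale fundamental
group of D maps onto that of X. (The published statement takes X projective over k; this row takes X
proper over k with an ample invertible module, which is equivalent.) -/
theorem result (k : Type u) [Field k] [IsAlgClosed k]
    (X : Scheme.{u}) (f : X ⟶ Spec (CommRingCat.of k)) [IsProper f] [IsIntegral X] (hN : Pi1.IsNormalScheme X)
    (hdim : (2 : WithBot ℕ∞) ≤ topologicalKrullDim X)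
    (L : X.Modules) (hL : CohB1.IsAmple L) (s : Coh.structureModule X ⟶ L) (hs : Mono s)
    (Y : FEt.Cat X) [ConnectedSpace Y.left] :
    ConnectedSpace ↥(pullback Y.hom (PicF2.zeroScheme L s).subschemeι) := by
  obtain ⟨hfin, hp, hint, -, hsur, hd⟩ := Groth.Agent.ConnDiv.cover_facts f hN Y
  let q : Y.left ⟶ X := Y.hom
  haveI : IsFinite q := hfin
  haveI : IsProper (q ≫ f) := hp
  haveI : IrreducibleSpace Y.left := inferInstance
  let U := Groth.Agent.ProjUniv.genOpen hL.1 (PicF2.secVal L s ⊤ : Γ(L, ⊤))
  have hU : IsAffineOpen U := Groth.Agent.ConnDiv.isAffineOpen_genOpen f hL _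
  have hZ := Groth.Agent.NegVanish.support_zeroScheme hL.1 s
  have hc : _root_.IsConnected ((q ⁻¹ᵁ U : Set Y.left)ᶜ) := by
    by_cases hne : (q ⁻¹ᵁ U : Set Y.left).Nonempty
    · exact Groth.Agent.ConnDiv.isConnected_compl_affineOpen (q ≫ f) (hdim.trans hd) (hU.preimage q) hne
    · rw [Set.not_nonempty_iff_eq_empty.mp hne, Set.compl_empty]
      exact isConnected_univ
  have hr : Set.range (pullback.fst q (PicF2.zeroScheme L s).subschemeι) = ((q ⁻¹ᵁ U : Set Y.left))ᶜ := by
    rw [Scheme.Pullback.range_fst, Scheme.IdealSheafData.range_subschemeι, hZ]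
    rfl
  rw [← hr] at hc
  haveI : PreconnectedSpace ↥(pullback q (PicF2.zeroScheme L s).subschemeι) :=
    ⟨(pullback.fst q (PicF2.zeroScheme L s).subschemeι).isEmbedding.isInducing.isPreconnected_image.mp
      (by rw [Set.image_univ]; exact hc.2)⟩
  obtain ⟨_, y, rfl⟩ := hc.nonempty
  exact { toNonempty := ⟨y⟩ }
end Groth.Agent.S15551
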