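import Groth.Statements.S1556
import Groth.Agent.SmoothDense.Apps
-- import your own Groth.Agent.* helpers here

set_option autoImplicit false
universe u
open CategoryTheory CategoryTheory.Limits AlgebraicGeometry
attribute [local instance] Curv2.resAlgebra
open Variety

namespace Groth.Agent.S1556

/-- Let X be a curve over k (integral, separated, of finite type, of dimension one) and x a closed point
whose residue field is separable over k. Then the local ring at x is a discrete valuation ring if
and only if x lies in the smooth locus of X → Spec k. -/
theorem result (k : Type u) [Field k] (X : Scheme.{u}) [X.Over (Spec (CommRingCat.of k))] [IsIntegral X]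
    [IsSeparated (X ↘ (Spec (CommRingCat.of k)))] [LocallyOfFinitePresentation (X ↘ (Spec (CommRingCat.of k)))] [QuasiCompact (X ↘ (Spec (CommRingCat.of k)))]
    (hdim : topologicalKrullDim X = 1) (x : X) (hx : IsClosed ({x} : Set X))
    [Algebra.IsSeparable k (X.residueField x)] :
    IsDiscreteValuationRing (X.presheaf.stalk x) ↔ x ∈ (X ↘ (Spec (CommRingCat.of k))).smoothLocus := by
  let f := X ↘ Spec (CommRingCat.of k)
  let _ : Algebra k (X.presheaf.stalk x) := Curv2.stalkAlgebra k X x
  have halg : X.fromSpecStalk x ≫ f = Spec.map (CommRingCat.ofHom (algebraMap k (X.presheaf.stalk x))) :=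
    GeomRedAt.fromSpecStalk_comp f x
  refine ⟨fun h => ?_, fun hs => ?_⟩
  · have hreg : IsRegularLocalRing (X.presheaf.stalk x) := inferInstance
    have := SmoothDense.essFiniteType_stalk halg
    have : Algebra.FiniteType (X.presheaf.stalk x) (IsLocalRing.ResidueField (X.presheaf.stalk x)) :=
      (inferInstance : Algebra.FiniteType (X.presheaf.stalk x) (X.presheaf.stalk x)).of_surjective
        (Algebra.ofId _ _) IsLocalRing.residue_surjective
    have : Algebra.EssFiniteType k (IsLocalRing.ResidueField (X.presheaf.stalk x)) :=
      Algebra.EssFiniteType.comp k (X.presheaf.stalk x) _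
    have hsep : Algebra.IsSeparable k (IsLocalRing.ResidueField (X.presheaf.stalk x)) := ‹Algebra.IsSeparable k (X.residueField x)›
    have : Algebra.FormallyUnramified k (IsLocalRing.ResidueField (X.presheaf.stalk x)) := .of_isSeparable _ _
    have : Algebra.IsGeometricallyReduced k (IsLocalRing.ResidueField (X.presheaf.stalk x)) := by
      rw [Algebra.isGeometricallyReduced_field_iff]
      exact Algebra.FormallyUnramified.isReduced_of_field (AlgebraicClosure k) _
    exact SmoothDense.mem_smoothLocus_of_regular_separable halg hreg
  · have := SmoothDense.isRegular_of_mem_smoothLocus f hs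
    exact SmoothDense.isDiscreteValuationRing_of_regular (X.presheaf.stalk x)
      ((SmoothDense.ringKrullDim_stalk_le x).trans hdim.le) (SmoothDense.not_isField_stalk hdim hx)

end Groth.Agent.S1556
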