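import Groth.Statements.S15560
import Mathlib
-- import your own Groth.Agent.* helpers here

set_option autoImplicit false
universe u v w
open KronMod

namespace Groth.Agent.S15560

/-- Let f be a Kronecker module with n arrows over a field K, from a space V of dimension d₋₁ > 0 to a
space W of dimension d₀ > 0. If n·d₋₁ < d₀ or n·d₀ < d₋₁, then f is not semistable; that is, there
are no semistable Kronecker modules of dimension vector (d₋₁, d₀). (The published statement assumes
K algebraically closed of characteristic zero and n ≥ 2; this row allows any field K and any number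
n of arrows.) -/
theorem result (K : Type u) [Field K] (V : Type v) (W : Type w)
    [AddCommGroup V] [Module K V] [FiniteDimensional K V]
    [AddCommGroup W] [Module K W] [FiniteDimensional K W]
    (n : ℕ) (f : Fin n → (V →ₗ[K] W))
    (hV : 0 < Module.finrank K V) (hW : 0 < Module.finrank K W)
    (h : n * Module.finrank K V < Module.finrank K W ∨ n * Module.finrank K W < Module.finrank K V) :
    ¬ KronMod.IsSemistable f := by
  rintro ⟨-, hss⟩
  rcases h with h | h
  · let Φ : (Fin n → V) →ₗ[K] W := ∑ j, (f j).comp (LinearMap.proj j)
    have hsub : KronMod.IsSubrep f ⊤ (LinearMap.range Φ) := by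
      rintro j _ ⟨v, -, rfl⟩
      exact ⟨Pi.single j v, by simp [Φ, Pi.single_apply, apply_ite]⟩
    have hlt : Module.finrank K (LinearMap.range Φ) < Module.finrank K W := by
      refine lt_of_le_of_lt ((LinearMap.finrank_range_le Φ).trans ?_) h
      simp [Module.finrank_pi_fintype]
    have := hss ⊤ _ hsub (fun h' => ?_) (fun h' => ?_)
    · rw [finrank_top, mul_comm (Module.finrank K W)] at this
      exact absurd (Nat.le_of_mul_le_mul_left this hV) (not_le.2 hlt)
    · have h1 := congrArg (fun S : Submodule K V => Module.finrank K S) h'.1
      simp only [finrank_top, finrank_bot] at h1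
      omega
    · have h1 := congrArg (fun S : Submodule K W => Module.finrank K S) h'.2
      simp only [finrank_top] at h1
      omega
  · let Φ : V →ₗ[K] (Fin n → W) := LinearMap.pi f
    have hker : 0 < Module.finrank K (LinearMap.ker Φ) := by
      have h1 := LinearMap.finrank_range_add_finrank_ker Φ
      have h2 := Submodule.finrank_le (LinearMap.range Φ)
      rw [Module.finrank_pi_fintype] at h2
      simp only [Finset.sum_const, Finset.card_univ, Fintype.card_fin, smul_eq_mul] at h2
      omega
    have hsub : KronMod.IsSubrep f (LinearMap.ker Φ) ⊥ := by
      rintro j _ ⟨v, hv, rfl⟩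
      exact congrFun (LinearMap.mem_ker.1 hv) j
    have := hss _ ⊥ hsub (fun h' => ?_) (fun h' => ?_)
    · rw [finrank_bot, mul_zero] at this
      exact absurd this (not_le.2 (Nat.mul_pos hW hker))
    · rw [h'.1, finrank_bot] at hker
      omega
    · have h1 := congrArg (fun S : Submodule K W => Module.finrank K S) h'.2
      simp only [finrank_top, finrank_bot] at h1
      omega

end Groth.Agent.S15560
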