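import Mathlib
import Groth.Statements.S15561
-- import your own Groth.Agent.* helpers here

set_option autoImplicit false
universe u v w
open KronMod

namespace Groth.Agent.S15561

/-- Let f be a Kronecker module with n arrows over a field K, from V of dimension d₋₁ > 0 to W of
dimension n·d₋₁. Then f is semistable if and only if the sum map Vⁿ → W sending (v_j)_j to Σ_j
f_j(v_j) is bijective, i.e. every arrow f_j is injective and W is the direct sum of the images
f_j(V). (The published statement assumes K algebraically closed of characteristic zero and n ≥ 2;
this row allows any field K and any number n of arrows.) -/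
theorem result (K : Type u) [Field K] (V : Type v) (W : Type w)
    [AddCommGroup V] [Module K V] [FiniteDimensional K V]
    [AddCommGroup W] [Module K W] [FiniteDimensional K W]
    (n : ℕ) (f : Fin n → (V →ₗ[K] W))
    (hV : 0 < Module.finrank K V) (hW : Module.finrank K W = n * Module.finrank K V) :
    KronMod.IsSemistable f ↔ Function.Bijective (fun v : Fin n → V => ∑ j, f j (v j)) := by
  classical
  let Φ : (Fin n → V) →ₗ[K] W := ∑ j, (f j).comp (LinearMap.proj j)
  have hΦ : ⇑Φ = fun v : Fin n → V => ∑ j, f j (v j) := by funext v; simp [Φ]
  rw [← hΦ]
  have hdim : Module.finrank K (Fin n → V) = Module.finrank K W := by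
    rw [Module.finrank_pi_fintype, hW]; simp
  constructor
  · intro hs
    have hsur : LinearMap.range Φ = ⊤ := by
      by_contra hne
      have := hs.2 ⊤ (LinearMap.range Φ) (fun j => by
          rw [Submodule.map_top]
          rintro _ ⟨x, rfl⟩
          exact ⟨Pi.single j x, by simp [hΦ, Pi.single_apply, apply_ite]⟩)
        (fun h => by
          haveI := Module.nontrivial_of_finrank_pos hV
          exact top_ne_bot h.1)
        (fun h => hne h.2)
      rw [finrank_top, mul_comm, Nat.mul_le_mul_left_iff hV] at this
      exact hne (Submodule.eq_top_of_finrank_eq (le_antisymm (Submodule.finrank_le _) this))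
    have hs' : Function.Surjective Φ := LinearMap.range_eq_top.1 hsur
    exact ⟨(LinearMap.injective_iff_surjective_of_finrank_eq_finrank hdim).2 hs', hs'⟩
  · intro hb
    refine ⟨by omega, fun V' W' hsub _ _ => ?_⟩
    let g : (Fin n → V') →ₗ[K] W' := LinearMap.codRestrict W'
      (Φ.comp (LinearMap.pi fun j => V'.subtype.comp (LinearMap.proj j))) (fun v => by
        simp only [LinearMap.comp_apply, hΦ, LinearMap.pi_apply, LinearMap.proj_apply]
        exact W'.sum_mem fun j _ => hsub j ⟨v j, (v j).2, rfl⟩)
    have hg : Function.Injective g := fun v w h => by
      have := hb.1 (congrArg Subtype.val h)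
      funext j
      exact Subtype.ext (congrFun this j)
    have h1 := LinearMap.finrank_le_finrank_of_injective hg
    rw [Module.finrank_pi_fintype] at h1
    simp at h1
    rw [hW]
    calc n * Module.finrank K V * Module.finrank K V' = Module.finrank K V * (n * Module.finrank K V') := by ring
      _ ≤ _ := Nat.mul_le_mul_left _ h1

end Groth.Agent.S15561
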