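import Groth.Statements.S15562
import Mathlib
-- import your own Groth.Agent.* helpers here

set_option autoImplicit false
universe u v w
open KronMod

namespace Groth.Agent.S15562

variable {K : Type*} [Field K] {V W : Type*} [AddCommGroup V] [Module K V] [AddCommGroup W]
  [Module K W] {n : ℕ}

/-- The map `V^n → W` assembled from the arrows of a Kronecker module. -/
noncomputable def sumMap (f : Fin n → (V →ₗ[K] W)) : (Fin n → V) →ₗ[K] W :=
  ∑ j, (f j).comp (LinearMap.proj j)

lemma sumMap_apply (f : Fin n → (V →ₗ[K] W)) (x : Fin n → V) : sumMap f x = ∑ j, f j (x j) := by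
  simp [sumMap]

lemma sumMap_single (f : Fin n → (V →ₗ[K] W)) (j : Fin n) (v : V) :
    sumMap f (Pi.single j v) = f j v := by
  rw [sumMap_apply, Finset.sum_eq_single j]
  · simp
  · intro b _ hb
    simp [hb]
  · simp

variable [FiniteDimensional K V] [FiniteDimensional K W]

lemma bijective_of_ss (hV : 0 < Module.finrank K V)
    (hW : Module.finrank K W = n * Module.finrank K V)
    {f : Fin n → (V →ₗ[K] W)} (hf : KronMod.IsSemistable f) :
    Function.Bijective (sumMap f) := by
  have htop : LinearMap.range (sumMap f) = ⊤ := by
    by_contra hne
    have h := hf.2 ⊤ (LinearMap.range (sumMap f))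
      (fun j => by
        rintro w ⟨v, -, rfl⟩
        exact ⟨Pi.single j v, sumMap_single f j v⟩)
      (fun h => by
        have := congrArg (fun S : Submodule K V => Module.finrank K S) h.1
        simp only [finrank_top, finrank_bot] at this
        omega)
      (fun h => hne h.2)
    rw [finrank_top] at h
    apply hne
    apply Submodule.eq_top_of_finrank_eq
    exact le_antisymm (Submodule.finrank_le _) (Nat.le_of_mul_le_mul_left
      (by rw [mul_comm]; exact h) hV)
  have hs : Function.Surjective (sumMap f) := LinearMap.range_eq_top.mp htop
  exact ⟨(LinearMap.injective_iff_surjective_of_finrank_eq_finrank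
    (by rw [Module.finrank_pi_fintype]; simp [hW])).mpr hs, hs⟩

lemma ss_of_injective (hV : 0 < Module.finrank K V)
    (hW : Module.finrank K W = n * Module.finrank K V)
    {f : Fin n → (V →ₗ[K] W)} (hf : Function.Injective (sumMap f)) :
    KronMod.IsSemistable f := by
  refine ⟨by omega, fun V' W' h _ _ => ?_⟩
  let g : (Fin n → V') →ₗ[K] W' :=
    ((sumMap f).comp (LinearMap.pi fun j => V'.subtype.comp (LinearMap.proj j))).codRestrict W'
      (fun x => by
        rw [LinearMap.comp_apply, sumMap_apply]
        exact Submodule.sum_mem _ fun j _ => h j ⟨(x j : V), (x j).2, rfl⟩)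
  have hg : Function.Injective g := fun x y hxy => by
    have := hf (congrArg Subtype.val hxy)
    funext j
    exact Subtype.ext (congrFun this j)
  have := LinearMap.finrank_le_finrank_of_injective hg
  rw [Module.finrank_pi_fintype] at this
  simp only [Finset.sum_const, Finset.card_univ, Fintype.card_fin, smul_eq_mul] at this
  calc Module.finrank K W * Module.finrank K V'
      = Module.finrank K V * (n * Module.finrank K V') := by rw [hW]; ring
    _ ≤ _ := Nat.mul_le_mul_left _ this


/-- Over a field K, for V of dimension d₋₁ > 0 and W of dimension n·d₋₁, semistable Kronecker modules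
with n arrows from V to W exist, and any two of them are isomorphic as Kronecker modules; in other
words the moduli space K(n; d₋₁, n·d₋₁) of semistable Kronecker modules is a single point. (The
published statement assumes K algebraically closed of characteristic zero and n ≥ 2; this row allows
any field K and any number n of arrows.) -/
theorem result (K : Type u) [Field K] (V : Type v) (W : Type w)
    [AddCommGroup V] [Module K V] [FiniteDimensional K V]
    [AddCommGroup W] [Module K W] [FiniteDimensional K W]
    (n : ℕ) (hV : 0 < Module.finrank K V) (hW : Module.finrank K W = n * Module.finrank K V) :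
    (∃ f : Fin n → (V →ₗ[K] W), KronMod.IsSemistable f) ∧
    ∀ f f' : Fin n → (V →ₗ[K] W), KronMod.IsSemistable f → KronMod.IsSemistable f' →
      KronMod.AreIso f f' := by
  constructor
  · let e : (Fin n → V) ≃ₗ[K] ULift.{max v w} W :=
      (LinearEquiv.ofFinrankEq (Fin n → V) (ULift.{max v w} W)
        (by rw [Module.finrank_pi_fintype, finrank_ulift]; simp [hW]))
    let e' : (Fin n → V) ≃ₗ[K] W := e.trans ULift.moduleEquiv
    refine ⟨fun j => e'.toLinearMap.comp (LinearMap.single K (fun _ => V) j),
      ss_of_injective hV hW ?_⟩
    have : ∀ x, sumMap (fun j => e'.toLinearMap.comp (LinearMap.single K (fun _ => V) j)) x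
        = e' x := fun x => by
      rw [sumMap_apply]
      simp only [LinearMap.comp_apply, LinearEquiv.coe_coe, LinearMap.single_apply]
      rw [← map_sum, Finset.univ_sum_single]
    intro x y hxy
    rw [this, this] at hxy
    exact e'.injective hxy
  · intro f f' hf hf'
    let e := LinearEquiv.ofBijective _ (bijective_of_ss hV hW hf)
    let e' := LinearEquiv.ofBijective _ (bijective_of_ss hV hW hf')
    refine ⟨LinearEquiv.refl K V, e.symm.trans e', fun j => LinearMap.ext fun v => ?_⟩
    show e' (e.symm (f j v)) = f' j v
    have : e.symm (f j v) = Pi.single j v := by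
      rw [LinearEquiv.symm_apply_eq]
      exact (sumMap_single f j v).symm
    rw [this]
    exact sumMap_single f' j v

end Groth.Agent.S15562
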