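import Mathlib
import Groth.Statements.S15563
-- import your own Groth.Agent.* helpers here

set_option autoImplicit false
universe u v w
open KronMod

namespace Groth.Agent.S15563

/-- Let f be a Kronecker module with n arrows over a field K, from V of dimension d₋₁ > 0 to W of
dimension n·d₋₁. Then f is stable if and only if f is semistable and d₋₁ = 1: for d₋₁ = 1 every
semistable module is stable (so the stable locus of K(n; 1, n) is the one point), while for d₋₁ > 1
no module is stable. (The published statement assumes K algebraically closed of characteristic zero
and n ≥ 2; this row allows any field K and any number n of arrows.) -/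
theorem result (K : Type u) [Field K] (V : Type v) (W : Type w)
    [AddCommGroup V] [Module K V] [FiniteDimensional K V]
    [AddCommGroup W] [Module K W] [FiniteDimensional K W]
    (n : ℕ) (f : Fin n → (V →ₗ[K] W))
    (hV : 0 < Module.finrank K V) (hW : Module.finrank K W = n * Module.finrank K V) :
    KronMod.IsStable f ↔ (KronMod.IsSemistable f ∧ Module.finrank K V = 1) := by
  classical
  have := Module.nontrivial_of_finrank_pos hV
  constructor
  · intro hs
    refine ⟨⟨hs.1, fun V' W' h a b => (hs.2 V' W' h a b).le⟩, ?_⟩
    by_contra hne
    obtain ⟨v, hv⟩ := exists_ne (0 : V)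
    set W' := Submodule.span K (Set.range fun j => f j v)
    have h := hs.2 (K ∙ v) W' (fun j => by
        rw [Submodule.map_span, Submodule.span_le]
        rintro _ ⟨x, rfl, rfl⟩
        exact Submodule.subset_span ⟨j, rfl⟩)
      (fun h => hv (Submodule.span_singleton_eq_bot.1 h.1))
      (fun h => hne (by rw [← finrank_span_singleton (K := K) hv, h.1, finrank_top]))
    rw [finrank_span_singleton hv, hW] at h
    have h2 : Module.finrank K W' ≤ n := (finrank_range_le_card _).trans (by simp)
    nlinarith
  · rintro ⟨hss, h1⟩
    refine ⟨hss.1, fun V' W' h a b => ?_⟩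
    have hV' : Module.finrank K V' ≤ 1 := h1 ▸ Submodule.finrank_le V'
    rcases Nat.lt_or_ge (Module.finrank K V') 1 with h0 | h0
    · have hb : V' = ⊥ := Submodule.finrank_eq_zero.1 (by omega)
      have : W' ≠ ⊥ := fun e => a ⟨hb, e⟩
      have := Submodule.one_le_finrank_iff.2 this
      rw [show Module.finrank K V' = 0 by omega, h1]
      omega
    · have hV'' : V' = ⊤ := Submodule.eq_top_of_finrank_eq (by omega)
      have hlt : Module.finrank K W' < Module.finrank K W := Submodule.finrank_lt (fun e => b ⟨hV'', e⟩)
      have := hss.2 V' W' h a b
      rw [show Module.finrank K V' = 1 by omega, h1] at this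
      omega

end Groth.Agent.S15563
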