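import Groth.Statements.S15564
import Mathlib
-- import your own Groth.Agent.* helpers here

set_option autoImplicit false
universe u v w
open KronMod

namespace Groth.Agent.S15564

/-- For a Kronecker module f with n arrows over a field K between one-dimensional spaces V and W,
semistability, stability and f ≠ 0 are equivalent: the semistable locus and the stable locus of
dimension vector (1, 1) are both the complement of the zero module. (The published statement assumes
K algebraically closed of characteristic zero and n ≥ 2; this row allows any field K and any n.) -/
theorem result (K : Type u) [Field K] (V : Type v) (W : Type w)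
    [AddCommGroup V] [Module K V] [FiniteDimensional K V]
    [AddCommGroup W] [Module K W] [FiniteDimensional K W]
    (n : ℕ) (f : Fin n → (V →ₗ[K] W))
    (hV : Module.finrank K V = 1) (hW : Module.finrank K W = 1) :
    (KronMod.IsSemistable f ↔ f ≠ 0) ∧ (KronMod.IsStable f ↔ f ≠ 0) := by
  have key : f ≠ 0 → KronMod.IsStable f := by
    intro hf
    refine ⟨by omega, fun V' W' hsub h0 h1 => ?_⟩
    have hV' := Submodule.finrank_le V'
    have hW' := Submodule.finrank_le W'
    rw [hV] at hV'
    rw [hW] at hW'
    rw [hV, hW, one_mul, one_mul]
    have htopV : Module.finrank K V' = 1 → V' = ⊤ := fun h => Submodule.eq_top_of_finrank_eq (h.trans hV.symm)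
    have htopW : Module.finrank K W' = 1 → W' = ⊤ := fun h => Submodule.eq_top_of_finrank_eq (h.trans hW.symm)
    rcases Nat.eq_zero_or_pos (Module.finrank K W') with hw | hw
    · rw [Submodule.finrank_eq_zero] at hw
      have hv : Module.finrank K V' ≠ 0 := fun h => h0 ⟨Submodule.finrank_eq_zero.1 h, hw⟩
      refine absurd (funext fun j => ?_) hf
      ext v
      have := hsub j (Submodule.mem_map_of_mem (f := f j) (show v ∈ V' by rw [htopV (by omega)]; trivial))
      rw [hw, Submodule.mem_bot] at this
      simpa using this
    · have hv : Module.finrank K V' = 0 := by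
        by_contra h
        exact h1 ⟨htopV (by omega), htopW (by omega)⟩
      omega
  have key2 : KronMod.IsSemistable f → f ≠ 0 := by
    rintro ⟨-, h⟩ rfl
    have := h ⊤ ⊥ (fun j => by simp) (fun h' => ?_) (fun h' => ?_)
    · rw [finrank_top, finrank_bot, hV, hW] at this
      omega
    · have h1 := congrArg (fun S : Submodule K V => Module.finrank K S) h'.1
      simp only [finrank_top, finrank_bot] at h1
      omega
    · have h1 := congrArg (fun S : Submodule K W => Module.finrank K S) h'.2
      simp only [finrank_top, finrank_bot] at h1
      omega
  have key3 : KronMod.IsStable f → KronMod.IsSemistable f := fun h =>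
    ⟨h.1, fun V' W' a b c => (h.2 V' W' a b c).le⟩
  exact ⟨⟨key2, fun h => key3 (key h)⟩, ⟨fun h => key2 (key3 h), key⟩⟩

end Groth.Agent.S15564
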