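import Mathlib
import Groth.Statements.S15565
-- import your own Groth.Agent.* helpers here

set_option autoImplicit false
universe u v w
open KronMod

namespace Groth.Agent.S15565

/-- Over an algebraically closed field K, a Kronecker module with two arrows between spaces V and W of
the same dimension k ≥ 2 is never stable: the stable locus of dimension vector (k, k) for the
Kronecker quiver with two arrows is empty. (The published statement also assumes characteristic
zero; this row does not.) -/
theorem result (K : Type u) [Field K] [IsAlgClosed K] (V : Type v) (W : Type w)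
    [AddCommGroup V] [Module K V] [FiniteDimensional K V]
    [AddCommGroup W] [Module K W] [FiniteDimensional K W]
    (f : Fin 2 → (V →ₗ[K] W)) (k : ℕ) (hk : 2 ≤ k)
    (hV : Module.finrank K V = k) (hW : Module.finrank K W = k) :
    ¬ KronMod.IsStable f := by
  classical
  intro hs
  haveI : Nontrivial V := Module.nontrivial_of_finrank_pos (R := K) (by omega)
  obtain ⟨v, hv, w, hw0, hw1⟩ : ∃ v : V, v ≠ 0 ∧ ∃ w : W, f 0 v ∈ K ∙ w ∧ f 1 v ∈ K ∙ w := by
    by_cases hinj : Function.Injective (f 1)
    · let e := LinearEquiv.ofBijective (f 1) ⟨hinj, (LinearMap.injective_iff_surjective_of_finrank_eq_finrank (hV.trans hW.symm)).1 hinj⟩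
      obtain ⟨c, hc⟩ := Module.End.exists_eigenvalue (e.symm.toLinearMap.comp (f 0))
      obtain ⟨v, hv⟩ := hc.exists_hasEigenvector
      refine ⟨v, hv.2, f 1 v, ?_, Submodule.mem_span_singleton_self _⟩
      have h := congrArg (f 1) hv.apply_eq_smul
      rw [map_smul] at h
      refine Submodule.mem_span_singleton.2 ⟨c, h.symm.trans ?_⟩
      exact e.apply_symm_apply (f 0 v)
    · obtain ⟨v, hv, hv0⟩ : ∃ v, f 1 v = 0 ∧ v ≠ 0 := by
        by_contra h; push Not at h; exact hinj ((injective_iff_map_eq_zero (f 1)).2 h)
      exact ⟨v, hv0, f 0 v, Submodule.mem_span_singleton_self _, by rw [hv]; exact zero_mem _⟩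
  have h := hs.2 (K ∙ v) (K ∙ w) (fun j => by
      rw [Submodule.map_span, Submodule.span_le]
      rintro _ ⟨x, rfl, rfl⟩
      fin_cases j
      · exact hw0
      · exact hw1)
    (fun h => hv (Submodule.span_singleton_eq_bot.1 h.1))
    (fun h => by
      have := congrArg (fun S : Submodule K V => Module.finrank K S) h.1
      simp only [finrank_span_singleton hv, finrank_top, hV] at this
      omega)
  rw [finrank_span_singleton hv, hV, hW] at h
  have : Module.finrank K (K ∙ w) ≤ 1 := (finrank_span_le_card ({w} : Set W)).trans (by simp)
  nlinarith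

end Groth.Agent.S15565
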