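import Mathlib
import Groth.Statements.S15566
-- import your own Groth.Agent.* helpers here

set_option autoImplicit false
universe u v w
open KronMod

namespace Groth.Agent.S15566

/-- Case of dimension vector (2, 2). Over an algebraically closed field K, if a Kronecker module f with
n arrows between two-dimensional spaces V and W is semistable, then some linear combination Σ_j z_j
f_j of its arrows is a linear isomorphism V → W (equivalently, the determinant of the generic
combination is not identically zero): the semistable locus of dimension vector (2, 2) lies in the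
open set of modules whose generic combination is invertible. (The published statement, over an
algebraically closed field of characteristic zero, covers dimension vectors (1, 1) and (2, 2) for
every n ≥ 2 and (k, k) for two arrows; this row states the (2, 2) case, for any n and without the
characteristic assumption.) -/
theorem result (K : Type u) [Field K] [IsAlgClosed K] (V : Type v) (W : Type w)
    [AddCommGroup V] [Module K V] [FiniteDimensional K V]
    [AddCommGroup W] [Module K W] [FiniteDimensional K W]
    (n : ℕ) (f : Fin n → (V →ₗ[K] W))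
    (hV : Module.finrank K V = 2) (hW : Module.finrank K W = 2)
    (hf : KronMod.IsSemistable f) :
    ∃ z : Fin n → K, Function.Bijective ((∑ j, z j • f j : V →ₗ[K] W) : V → W) := by
  by_contra hcon
  push_neg at hcon
  haveI : FiniteDimensional K W := inferInstance
  have crit : ∀ (g : V →ₗ[K] W) (w x : W), w ≠ 0 → w ∈ LinearMap.range g → x ∈ LinearMap.range g →
      x ∉ K ∙ w → g ∈ Submodule.span K (Set.range f) → False := by
    intro g w x hw hwg hxg hx hg
    obtain ⟨z, hz⟩ := (Submodule.mem_span_range_iff_exists_fun K).mp hg
    apply hcon z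
    rw [hz]
    have hlt : K ∙ w < LinearMap.range g :=
      SetLike.lt_iff_le_and_exists.mpr ⟨(Submodule.span_singleton_le_iff_mem _ _).mpr hwg, x, hxg, hx⟩
    have h1 := Submodule.finrank_lt_finrank_of_lt hlt
    rw [finrank_span_singleton hw] at h1
    have hs : LinearMap.range g = ⊤ :=
      Submodule.eq_top_of_finrank_eq (le_antisymm (Submodule.finrank_le _) (by omega))
    have hs' := LinearMap.range_eq_top.mp hs
    exact ⟨(LinearMap.injective_iff_surjective_of_finrank_eq_finrank (hV.trans hW.symm)).mpr hs', hs'⟩
  have mem : ∀ j, f j ∈ Submodule.span K (Set.range f) := fun j => Submodule.subset_span ⟨j, rfl⟩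
  obtain ⟨a, ha⟩ : ∃ a, f a ≠ 0 := by
    by_contra h; push_neg at h
    have := hf.2 ⊤ ⊥ (fun j => by simp [h j]) (fun h => by
      have := congrArg (fun s : Submodule K V => Module.finrank K s) h.1
      simp [hV] at this) (fun h => by
      have := congrArg (fun s : Submodule K W => Module.finrank K s) h.2
      simp [hW] at this)
    simp [hV, hW] at this
  obtain ⟨u, hu⟩ : ∃ u, f a u ≠ 0 := by
    by_contra h; push_neg at h; exact ha (LinearMap.ext h)
  set w := f a u
  have hra : ∀ y, f a y ∈ K ∙ w := fun y => by
    by_contra h; exact crit (f a) w _ hu ⟨u, rfl⟩ ⟨y, rfl⟩ h (mem a)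
  obtain ⟨v, hv0, hv⟩ : ∃ v, v ≠ 0 ∧ f a v = 0 := by
    by_contra h; push_neg at h
    have hi : Function.Injective (f a) := by
      rw [← LinearMap.ker_eq_bot, Submodule.eq_bot_iff]
      exact fun y hy => by_contra fun hy0 => h y hy0 hy
    have hle : (⊤ : Submodule K W) ≤ K ∙ w := fun y _ => by
      obtain ⟨y, rfl⟩ := (LinearMap.injective_iff_surjective_of_finrank_eq_finrank (hV.trans hW.symm)).mp hi y
      exact hra y
    have := Submodule.finrank_mono hle
    rw [finrank_top, finrank_span_singleton hu, hW] at this
    omega
  have hI : ∀ j, f j v ∈ K ∙ w := by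
    intro j
    by_contra hx
    set x := f j v
    by_cases hju : f j u ∈ K ∙ w
    · obtain ⟨α, hα⟩ := Submodule.mem_span_singleton.mp hju
      refine crit ((1 - α) • f a + f j) w x hu ⟨u, ?_⟩ ⟨v, by simp [hv, x]⟩ hx
        (add_mem (Submodule.smul_mem _ _ (mem a)) (mem j))
      simp [← hα, sub_smul, w]
    · obtain ⟨α, hα⟩ : ∃ α : K, α • x - f j u ∈ K ∙ w := by
        by_contra h; push_neg at h
        have hlt : K ∙ w < Submodule.span K {w, x} :=
          SetLike.lt_iff_le_and_exists.mpr ⟨Submodule.span_mono (by simp), x, Submodule.subset_span (by simp), hx⟩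
        have h1 := Submodule.finrank_lt_finrank_of_lt hlt
        rw [finrank_span_singleton hu] at h1
        have hs : Submodule.span K {w, x} = ⊤ :=
          Submodule.eq_top_of_finrank_eq (le_antisymm (Submodule.finrank_le _) (by omega))
        obtain ⟨c, d, hcd⟩ := Submodule.mem_span_pair.mp (hs ▸ Submodule.mem_top : f j u ∈ Submodule.span K {w, x})
        apply h d
        rw [← hcd, show d • x - (c • w + d • x) = -(c • w) by abel]
        exact neg_mem (Submodule.smul_mem _ _ (Submodule.mem_span_singleton_self w))
      obtain ⟨γ, hγ⟩ := Submodule.mem_span_singleton.mp hα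
      refine crit ((1 + γ) • f a + f j) w x hu ⟨u - α • v, ?_⟩ ⟨v, by simp [hv, x]⟩ hx
        (add_mem (Submodule.smul_mem _ _ (mem a)) (mem j))
      have : f j u = α • x - γ • w := by rw [hγ]; abel
      simp only [LinearMap.add_apply, LinearMap.smul_apply, map_sub, map_smul, hv, smul_zero, sub_zero, zero_add, this]
      change (1 + γ) • w + (α • x - γ • w) - α • x = w
      module
  obtain ⟨b, hb⟩ : ∃ b, f b v ≠ 0 := by
    by_contra h; push_neg at h
    have hne : ¬ (K ∙ v = ⊤) := fun e => by
      have := congrArg (fun s : Submodule K V => Module.finrank K s) e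
      simp [finrank_span_singleton hv0, hV] at this
    have := hf.2 (K ∙ v) ⊥ (fun j => by simp [Submodule.map_span, h j])
      (fun e => hv0 (by simpa using e.1)) (fun e => hne e.1)
    simp [finrank_span_singleton hv0, hV, hW] at this
  obtain ⟨c, hc⟩ := Submodule.mem_span_singleton.mp (hI b)
  have hc0 : c ≠ 0 := fun e => hb (by rw [← hc, e, zero_smul])
  obtain ⟨j, y, hy⟩ : ∃ j y, f j y ∉ K ∙ w := by
    by_contra h; push_neg at h
    have := hf.2 ⊤ (K ∙ w) (fun j => by rintro _ ⟨y, -, rfl⟩; exact h j y)
      (fun e => hu (by simpa using e.2)) (fun e => by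
        have := congrArg (fun s : Submodule K W => Module.finrank K s) e.2
        simp [finrank_span_singleton hu, hW] at this)
    simp [finrank_span_singleton hu, hV, hW] at this
  by_cases hby : f b y ∈ K ∙ w
  · obtain ⟨γ, hγ⟩ := Submodule.mem_span_singleton.mp (hI j)
    refine crit (f j + ((1 - γ) / c) • f b) w (f j y + ((1 - γ) / c) • f b y) hu ⟨v, ?_⟩ ⟨y, by simp⟩
      (fun h => hy (by simpa using sub_mem h (Submodule.smul_mem _ ((1 - γ) / c) hby)))
      (add_mem (mem j) (Submodule.smul_mem _ _ (mem b)))
    simp [← hc, ← hγ, smul_smul, ← add_smul, div_mul_cancel₀ _ hc0]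
  · exact crit (f b) w (f b y) hu ⟨c⁻¹ • v, by simp [← hc, smul_smul, hc0]⟩ ⟨y, rfl⟩ hby (mem b)

end Groth.Agent.S15566
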