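import Groth.Statements.S15567
import Mathlib
-- import your own Groth.Agent.* helpers here

set_option autoImplicit false
universe u v w
open KronMod

namespace Groth.Agent.S15567

open Module KronMod

variable {K : Type u} [Field K] {V : Type v} {W : Type w}
    [AddCommGroup V] [Module K V] [FiniteDimensional K V]
    [AddCommGroup W] [Module K W] [FiniteDimensional K W]
    {n : ℕ} (f : Fin n → (V →ₗ[K] W))

theorem subrep_coann {A : Submodule K (Dual K W)} {B : Submodule K (Dual K V)}
    (h : IsSubrep (fun j => (f j).dualMap) A B) :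
    IsSubrep f B.dualCoannihilator A.dualCoannihilator := by
  intro j
  rintro _ ⟨v, hv, rfl⟩
  rw [Submodule.mem_dualCoannihilator]
  intro φ hφ
  exact (Submodule.mem_dualCoannihilator _).mp hv _ (h j ⟨φ, hφ, rfl⟩)

theorem subrep_ann {V' : Submodule K V} {W' : Submodule K W} (h : IsSubrep f V' W') :
    IsSubrep (fun j => (f j).dualMap) W'.dualAnnihilator V'.dualAnnihilator := by
  intro j
  rintro _ ⟨φ, hφ, rfl⟩
  rw [Submodule.mem_dualAnnihilator]
  intro v hv
  exact (Submodule.mem_dualAnnihilator _).mp hφ _ (h j ⟨v, hv, rfl⟩)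

theorem iff_aux (R : ℕ → ℕ → Prop)
    (hR : ∀ dV dW x y x' y' : ℕ, x + x' = dV → y + y' = dW → (R (dW * x) (dV * y) ↔ R (dV * y') (dW * x'))) :
    (∀ (V' : Submodule K V) (W' : Submodule K W), IsSubrep f V' W' →
      ¬ (V' = ⊥ ∧ W' = ⊥) → ¬ (V' = ⊤ ∧ W' = ⊤) → R (finrank K W * finrank K V') (finrank K V * finrank K W')) ↔
    (∀ (A : Submodule K (Dual K W)) (B : Submodule K (Dual K V)), IsSubrep (fun j => (f j).dualMap) A B →
      ¬ (A = ⊥ ∧ B = ⊥) → ¬ (A = ⊤ ∧ B = ⊤) →
        R (finrank K (Dual K V) * finrank K A) (finrank K (Dual K W) * finrank K B)) := by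
  simp only [Subspace.dual_finrank_eq]
  constructor
  · intro H A B hAB h0 h1
    have hA : A.dualCoannihilator.dualAnnihilator = A := Subspace.dualCoannihilator_dualAnnihilator_eq
    have hB : B.dualCoannihilator.dualAnnihilator = B := Subspace.dualCoannihilator_dualAnnihilator_eq
    refine (hR _ _ _ (finrank K A.dualCoannihilator) _ _ ?_ ?_).mp (H B.dualCoannihilator A.dualCoannihilator
      (subrep_coann f hAB) (fun h => h1 ?_) (fun h => h0 ?_))
    · rw [add_comm]; exact Subspace.finrank_add_finrank_dualCoannihilator_eq B
    · rw [add_comm]; exact Subspace.finrank_add_finrank_dualCoannihilator_eq A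
    · exact ⟨by rw [← hA, h.2, Submodule.dualAnnihilator_bot], by rw [← hB, h.1, Submodule.dualAnnihilator_bot]⟩
    · exact ⟨by rw [← hA, h.2, Submodule.dualAnnihilator_top], by rw [← hB, h.1, Submodule.dualAnnihilator_top]⟩
  · intro H V' W' hVW h0 h1
    have hV : V'.dualAnnihilator.dualCoannihilator = V' := Subspace.dualAnnihilator_dualCoannihilator_eq
    have hW : W'.dualAnnihilator.dualCoannihilator = W' := Subspace.dualAnnihilator_dualCoannihilator_eq
    refine (hR _ _ _ _ (finrank K V'.dualAnnihilator) (finrank K W'.dualAnnihilator) ?_ ?_).mpr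
      (H W'.dualAnnihilator V'.dualAnnihilator (subrep_ann f hVW) (fun h => h1 ?_) (fun h => h0 ?_))
    · exact Subspace.finrank_add_finrank_dualAnnihilator_eq V'
    · exact Subspace.finrank_add_finrank_dualAnnihilator_eq W'
    · exact ⟨by rw [← hV, h.2, Submodule.dualCoannihilator_bot], by rw [← hW, h.1, Submodule.dualCoannihilator_bot]⟩
    · exact ⟨by rw [← hV, h.2, Submodule.dualCoannihilator_top], by rw [← hW, h.1, Submodule.dualCoannihilator_top]⟩


/-- Duality of Kronecker modules. Let f be a Kronecker module with n arrows over a field K, from V to W,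
both finite-dimensional. The dual module has arrows the transposes f_j^∨ : W^∨ → V^∨, so its
dimension vector is (d₀, d₋₁). Then f is semistable if and only if its dual is, and f is stable if
and only if its dual is. This is the module-level content of the isomorphism K(n; d₋₁, d₀) ≅ K(n;
d₀, d₋₁) of moduli spaces, stated here without the moduli spaces. (The published statement assumes K
algebraically closed of characteristic zero and n ≥ 2; this row allows any field K and any number n
of arrows.) -/
theorem result (K : Type u) [Field K] (V : Type v) (W : Type w)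
    [AddCommGroup V] [Module K V] [FiniteDimensional K V]
    [AddCommGroup W] [Module K W] [FiniteDimensional K W]
    (n : ℕ) (f : Fin n → (V →ₗ[K] W)) :
    (KronMod.IsSemistable f ↔ KronMod.IsSemistable (fun j => (f j).dualMap)) ∧
    (KronMod.IsStable f ↔ KronMod.IsStable (fun j => (f j).dualMap)) := by
  refine ⟨and_congr (by rw [Subspace.dual_finrank_eq, Subspace.dual_finrank_eq, add_comm]) ?_,
    and_congr (by rw [Subspace.dual_finrank_eq, Subspace.dual_finrank_eq, add_comm]) ?_⟩
  · refine iff_aux f (· ≤ ·) fun dV dW x y x' y' hx hy => ?_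
    subst hx hy
    constructor <;> intro h <;> nlinarith
  · refine iff_aux f (· < ·) fun dV dW x y x' y' hx hy => ?_
    subst hx hy
    constructor <;> intro h <;> nlinarith

end Groth.Agent.S15567
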