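import Groth.Statements.S15568
import Mathlib
-- import your own Groth.Agent.* helpers here

set_option autoImplicit false
universe u
open QuiverStab

namespace Groth.Agent.S15568

/-- Walls and chambers for stability weights of a quiver. Let I be the finite vertex set, d ∈ ℕ^I a
dimension vector, and call two weights θ₁, θ₂ ∈ ℝ^I orthogonal to d numerically equivalent when, for
every d′ ≤ d in ℕ^I, the numbers θ₁·d′ and θ₂·d′ are both positive, both negative or both zero. The
walls are the hyperplanes W(d′) = {θ ⊥ d : θ·d′ = 0} of d^⊥ for d′ ≤ d such that d is not a multiple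
of d′. Then θ₁ and θ₂ are numerically equivalent if and only if there is a set J₁ of such d′ for
which θ₁ and θ₂ lie in the same connected component of the locally closed subset of d^⊥ consisting
of the weights lying on W(d₁) for every d₁ ∈ J₁ and off W(d₂) for every other wall W(d₂). (Only the
quiver's vertex set enters; multiples are taken with natural-number factors.) -/
theorem result
    (I : Type u) [Fintype I] (d : I → ℕ) (θ₁ θ₂ : I → ℝ)
    (h₁ : ∑ i, θ₁ i * (d i : ℝ) = 0) (h₂ : ∑ i, θ₂ i * (d i : ℝ) = 0) :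
    (∀ d' : I → ℕ, d' ≤ d →
        SignType.sign (∑ i, θ₁ i * (d' i : ℝ)) = SignType.sign (∑ i, θ₂ i * (d' i : ℝ))) ↔
    ∃ J₁ : Set (I → ℕ), J₁ ⊆ {d' | d' ≤ d ∧ ¬ ∃ m : ℕ, d = m • d'} ∧
      θ₂ ∈ connectedComponentIn
        {θ : I → ℝ | ∑ i, θ i * (d i : ℝ) = 0 ∧ (∀ d₁ ∈ J₁, ∑ i, θ i * (d₁ i : ℝ) = 0) ∧
          ∀ d₂ : I → ℕ, d₂ ≤ d → (¬ ∃ m : ℕ, d = m • d₂) → d₂ ∉ J₁ →
            ∑ i, θ i * (d₂ i : ℝ) ≠ 0} θ₁ := by
  classical
  let L : (I → ℕ) → (I → ℝ) → ℝ := fun d' θ => ∑ i, θ i * (d' i : ℝ)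
  have hcont : ∀ d', Continuous (L d') := fun d' => by fun_prop
  have hlin : ∀ d' (a b : ℝ) (θ θ' : I → ℝ), L d' (a • θ + b • θ') = a * L d' θ + b * L d' θ' := by
    intro d' a b θ θ'
    simp only [L, Pi.add_apply, Pi.smul_apply, smul_eq_mul, Finset.mul_sum, ← Finset.sum_add_distrib]
    exact Finset.sum_congr rfl fun i _ => by ring
  constructor
  · intro h
    let J : Set (I → ℕ) := {d' | (d' ≤ d ∧ ¬ ∃ m : ℕ, d = m • d') ∧ L d' θ₁ = 0}
    refine ⟨J, fun d' hd => hd.1, ?_⟩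
    have hzero : ∀ d', d' ≤ d → (L d' θ₁ = 0 ↔ L d' θ₂ = 0) := fun d' hd => by
      rw [← sign_eq_zero_iff, ← sign_eq_zero_iff (a := L d' θ₂), show SignType.sign (L d' θ₁) = SignType.sign (L d' θ₂) from h d' hd]
    refine (convex_segment θ₁ θ₂).isPreconnected.subset_connectedComponentIn (left_mem_segment ℝ _ _) ?_ (right_mem_segment ℝ _ _)
    rintro θ ⟨a, b, ha, hb, hab, rfl⟩
    refine ⟨?_, fun d' hd => ?_, fun d' hd hm hJ => ?_⟩
    · show L d (a • θ₁ + b • θ₂) = 0
      rw [hlin, show L d θ₁ = 0 from h₁, show L d θ₂ = 0 from h₂, mul_zero, mul_zero, add_zero]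
    · show L d' (a • θ₁ + b • θ₂) = 0
      rw [hlin, hd.2, (hzero d' hd.1.1).1 hd.2, mul_zero, mul_zero, add_zero]
    · show L d' (a • θ₁ + b • θ₂) ≠ 0
      have hne : L d' θ₁ ≠ 0 := fun h0 => hJ ⟨⟨hd, hm⟩, h0⟩
      have hne₂ : L d' θ₂ ≠ 0 := fun h0 => hne ((hzero d' hd).2 h0)
      have hs : SignType.sign (L d' θ₁) = SignType.sign (L d' θ₂) := h d' hd
      rw [hlin]
      rcases lt_or_gt_of_ne hne with h1 | h1
      · have h2 : L d' θ₂ < 0 := by
          rw [sign_neg h1, eq_comm, sign_eq_neg_one_iff] at hs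
          exact hs
        rcases eq_or_lt_of_le ha with rfl | ha'
        · rw [show b = 1 by linarith]; simpa using hne₂
        · have := mul_neg_of_pos_of_neg ha' h1
          have := mul_nonpos_of_nonneg_of_nonpos hb h2.le
          linarith
      · have h2 : 0 < L d' θ₂ := by
          rw [sign_pos h1, eq_comm, sign_eq_one_iff] at hs
          exact hs
        rcases eq_or_lt_of_le ha with rfl | ha'
        · rw [show b = 1 by linarith]; simpa using hne₂
        · have := mul_pos ha' h1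
          have := mul_nonneg hb h2.le
          linarith
  · rintro ⟨J, -, hθ⟩ d' hd'
    set F := {θ : I → ℝ | ∑ i, θ i * (d i : ℝ) = 0 ∧ (∀ d₁ ∈ J, ∑ i, θ i * (d₁ i : ℝ) = 0) ∧
      ∀ d₂ : I → ℕ, d₂ ≤ d → (¬ ∃ m : ℕ, d = m • d₂) → d₂ ∉ J → ∑ i, θ i * (d₂ i : ℝ) ≠ 0}
    have hsub := connectedComponentIn_subset F θ₁
    have hθ₁ : θ₁ ∈ connectedComponentIn F θ₁ := mem_connectedComponentIn (connectedComponentIn_nonempty_iff.1 ⟨θ₂, hθ⟩)
    show SignType.sign (L d' θ₁) = SignType.sign (L d' θ₂)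
    by_cases hJ : d' ∈ J
    · rw [show L d' θ₁ = 0 from (hsub hθ₁).2.1 d' hJ, show L d' θ₂ = 0 from (hsub hθ).2.1 d' hJ]
    by_cases hm : ∃ m : ℕ, d = m • d'
    · obtain ⟨m, hm⟩ := hm
      by_cases hm0 : m = 0
      · subst hm0
        rw [zero_smul] at hm
        have : d' = 0 := le_antisymm (hd'.trans_eq hm) zero_le
        simp [L, this]
      · have key : ∀ θ, L d θ = (m : ℝ) * L d' θ := fun θ => by
          simp only [L, hm, Pi.smul_apply, smul_eq_mul, Finset.mul_sum]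
          exact Finset.sum_congr rfl fun i _ => by push_cast; ring
        have a1 : L d' θ₁ = 0 := (mul_eq_zero.1 ((key θ₁).symm.trans h₁)).resolve_left (by exact_mod_cast hm0)
        have a2 : L d' θ₂ = 0 := (mul_eq_zero.1 ((key θ₂).symm.trans h₂)).resolve_left (by exact_mod_cast hm0)
        rw [a1, a2]
    have hne : ∀ θ ∈ connectedComponentIn F θ₁, L d' θ ≠ 0 := fun θ h => (hsub h).2.2 d' hd' hm hJ
    have hpre := isPreconnected_connectedComponentIn (F := F) (x := θ₁)
    rcases lt_or_gt_of_ne (hne _ hθ₁) with a | a <;> rcases lt_or_gt_of_ne (hne _ hθ) with b | b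
    · rw [sign_neg a, sign_neg b]
    · obtain ⟨θ, hm', h0⟩ := hpre.intermediate_value hθ₁ hθ (hcont d').continuousOn ⟨a.le, b.le⟩
      exact absurd h0 (hne θ hm')
    · obtain ⟨θ, hm', h0⟩ := hpre.intermediate_value hθ hθ₁ (hcont d').continuousOn ⟨b.le, a.le⟩
      exact absurd h0 (hne θ hm')
    · rw [sign_pos a, sign_pos b]

end Groth.Agent.S15568
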