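import Groth.Statements.S15569
import Mathlib
-- import your own Groth.Agent.* helpers here

set_option autoImplicit false
universe u v w
open KronMod

namespace Groth.Agent.S15569

variable {K : Type*} [Field K] {V W : Type*} [AddCommGroup V] [Module K V] [AddCommGroup W]
  [Module K W] {n : ℕ}

variable [FiniteDimensional K V] [FiniteDimensional K W]

lemma bijective_of_ss (hW : 0 < Module.finrank K W)
    (hV : Module.finrank K V = n * Module.finrank K W)
    {f : Fin n → (V →ₗ[K] W)} (hf : KronMod.IsSemistable f) :
    Function.Bijective (LinearMap.pi f) := by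
  have hker : LinearMap.ker (LinearMap.pi f) = ⊥ := by
    by_contra hne
    have h := hf.2 (LinearMap.ker (LinearMap.pi f)) ⊥
      (fun j => by
        rintro w ⟨v, hv, rfl⟩
        rw [Submodule.mem_bot]
        exact congrFun (LinearMap.mem_ker.mp hv) j)
      (fun h => hne h.1)
      (fun h => by
        have := congrArg (fun S : Submodule K W => Module.finrank K S) h.2
        simp only [finrank_top, finrank_bot] at this
        omega)
    rw [finrank_bot, mul_zero, Nat.le_zero, mul_eq_zero] at h
    exact hne (Submodule.finrank_eq_zero.mp (h.resolve_left hW.ne'))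
  have hi : Function.Injective (LinearMap.pi f) := LinearMap.ker_eq_bot.mp hker
  exact ⟨hi, (LinearMap.injective_iff_surjective_of_finrank_eq_finrank
    (by rw [Module.finrank_pi_fintype]; simp [hV])).mp hi⟩

lemma ss_of_injective (hW : 0 < Module.finrank K W)
    (hV : Module.finrank K V = n * Module.finrank K W)
    {f : Fin n → (V →ₗ[K] W)} (hf : Function.Injective (LinearMap.pi f)) :
    KronMod.IsSemistable f := by
  refine ⟨by omega, fun V' W' h _ _ => ?_⟩
  let g : V' →ₗ[K] (Fin n → W') :=
    LinearMap.pi fun j => ((f j).comp V'.subtype).codRestrict W' fun x => h j ⟨x, x.2, rfl⟩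
  have hg : Function.Injective g := fun x y hxy => by
    apply Subtype.ext
    apply hf
    funext j
    exact congrArg Subtype.val (congrFun hxy j)
  have := LinearMap.finrank_le_finrank_of_injective hg
  rw [Module.finrank_pi_fintype] at this
  simp only [Finset.sum_const, Finset.card_univ, Fintype.card_fin, smul_eq_mul] at this
  calc Module.finrank K W * Module.finrank K V'
      ≤ Module.finrank K W * (n * Module.finrank K W') := Nat.mul_le_mul_left _ this
    _ = _ := by rw [hV]; ring


/-- Over a field K, for W of dimension d₀ > 0 and V of dimension n·d₀, semistable Kronecker modules with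
n arrows from V to W exist, and any two of them are isomorphic as Kronecker modules: the moduli
space K(n; n·d₀, d₀) is a single point. This is the case dual to dimension vector (d₋₁, n·d₋₁). (The
published statement assumes K algebraically closed of characteristic zero and n ≥ 2; this row allows
any field K and any number n of arrows.) -/
theorem result (K : Type u) [Field K] (V : Type v) (W : Type w)
    [AddCommGroup V] [Module K V] [FiniteDimensional K V]
    [AddCommGroup W] [Module K W] [FiniteDimensional K W]
    (n : ℕ) (hW : 0 < Module.finrank K W) (hV : Module.finrank K V = n * Module.finrank K W) :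
    (∃ f : Fin n → (V →ₗ[K] W), KronMod.IsSemistable f) ∧
    ∀ f f' : Fin n → (V →ₗ[K] W), KronMod.IsSemistable f → KronMod.IsSemistable f' →
      KronMod.AreIso f f' := by
  constructor
  · let e : ULift.{max v w} V ≃ₗ[K] (Fin n → W) :=
      LinearEquiv.ofFinrankEq (ULift.{max v w} V) (Fin n → W)
        (by rw [Module.finrank_pi_fintype, finrank_ulift]; simp [hV])
    let e' : V ≃ₗ[K] (Fin n → W) := ULift.moduleEquiv.symm.trans e
    refine ⟨fun j => (LinearMap.proj j).comp e'.toLinearMap, ss_of_injective hW hV ?_⟩
    exact fun x y hxy => e'.injective hxy
  · intro f f' hf hf'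
    let e := LinearEquiv.ofBijective _ (bijective_of_ss hW hV hf)
    let e' := LinearEquiv.ofBijective _ (bijective_of_ss hW hV hf')
    refine ⟨e.trans e'.symm, LinearEquiv.refl K W, fun j => LinearMap.ext fun v => ?_⟩
    show f j v = f' j (e'.symm (e v))
    exact (congrFun (e'.apply_symm_apply (e v)) j).symm

end Groth.Agent.S15569
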