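import Mathlib
import Groth.Statements.S15570
-- import your own Groth.Agent.* helpers here

set_option autoImplicit false
universe u v w
open KronMod

namespace Groth.Agent.S15570

/-- Let f be a Kronecker module with n arrows over a field K, from V of dimension n·d₀ to W of dimension
d₀ > 0. Then f is stable if and only if f is semistable and d₀ = 1: for d₀ = 1 every semistable
module is stable (the stable locus of K(n; n, 1) is the one point), while for d₀ > 1 no module is
stable. This is the case dual to dimension vector (d₋₁, n·d₋₁). (The published statement assumes K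
algebraically closed of characteristic zero and n ≥ 2; this row allows any field K and any number n
of arrows.) -/
theorem result (K : Type u) [Field K] (V : Type v) (W : Type w)
    [AddCommGroup V] [Module K V] [FiniteDimensional K V]
    [AddCommGroup W] [Module K W] [FiniteDimensional K W]
    (n : ℕ) (f : Fin n → (V →ₗ[K] W))
    (hW : 0 < Module.finrank K W) (hV : Module.finrank K V = n * Module.finrank K W) :
    KronMod.IsStable f ↔ (KronMod.IsSemistable f ∧ Module.finrank K W = 1) := by
  classical
  have := Module.nontrivial_of_finrank_pos hW
  constructor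
  · intro hs
    refine ⟨⟨hs.1, fun V' W' h a b => (hs.2 V' W' h a b).le⟩, ?_⟩
    by_contra hne
    obtain ⟨v, hv⟩ := exists_ne (0 : W)
    obtain ⟨φ, hφ⟩ := exists_ne (0 : Module.Dual K W)
    let L : V →ₗ[K] (Fin n → K) := LinearMap.pi fun j => φ.comp (f j)
    set W' := LinearMap.ker φ
    have hW' : Module.finrank K W' + 1 = Module.finrank K W := Module.Dual.finrank_ker_add_one_of_ne_zero hφ
    have h := hs.2 (LinearMap.ker L) W' (fun j => by
        rintro _ ⟨x, hx, rfl⟩
        exact congrFun hx j)
      (fun h => by
        have : Module.finrank K W' = 0 := by rw [h.2, finrank_bot]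
        omega)
      (fun h => by
        have : Module.finrank K W' = Module.finrank K W := by rw [h.2, finrank_top]
        omega)
    have h2 := LinearMap.finrank_range_add_finrank_ker L
    have h3 : Module.finrank K (LinearMap.range L) ≤ n := (Submodule.finrank_le _).trans (by simp)
    rw [hV] at h h2
    rw [← hW'] at h h2 hne
    nlinarith
  · rintro ⟨hss, h1⟩
    refine ⟨hss.1, fun V' W' h a b => ?_⟩
    have hW' : Module.finrank K W' ≤ 1 := h1 ▸ Submodule.finrank_le W'
    rcases Nat.lt_or_ge (Module.finrank K W') 1 with h0 | h0
    · have hb : W' = ⊥ := Submodule.finrank_eq_zero.1 (by omega)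
      have := Submodule.one_le_finrank_iff.2 (fun e => a ⟨e, hb⟩ : V' ≠ ⊥)
      have := hss.2 V' W' h a b
      rw [show Module.finrank K W' = 0 by omega, h1] at this
      omega
    · have hW'' : W' = ⊤ := Submodule.eq_top_of_finrank_eq (by omega)
      have := Submodule.finrank_lt (fun e => b ⟨e, hW''⟩ : V' ≠ ⊤)
      rw [show Module.finrank K W' = 1 by omega, h1]
      omega

end Groth.Agent.S15570
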