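import Groth.Statements.S15572
import Mathlib
-- import your own Groth.Agent.* helpers here

set_option autoImplicit false
universe u v w
open KronMod

namespace Groth.Agent.S15572

/-- Let f be a Kronecker module with n arrows over a field K, from V of dimension n·d₀ to W of dimension
d₀ > 0. Then f is semistable if and only if the map V → Wⁿ sending v to (f_j(v))_j is bijective,
i.e. the arrows have zero common kernel. This is the characterisation dual to the one for dimension
vector (d₋₁, n·d₋₁), where the sum map Vⁿ → W is bijective. (The published statement assumes K
algebraically closed of characteristic zero and n ≥ 2; this row allows any field K and any number n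
of arrows.) -/
theorem result (K : Type u) [Field K] (V : Type v) (W : Type w)
    [AddCommGroup V] [Module K V] [FiniteDimensional K V]
    [AddCommGroup W] [Module K W] [FiniteDimensional K W]
    (n : ℕ) (f : Fin n → (V →ₗ[K] W))
    (hW : 0 < Module.finrank K W) (hV : Module.finrank K V = n * Module.finrank K W) :
    KronMod.IsSemistable f ↔ Function.Bijective (fun v : V => fun j : Fin n => f j v) := by
  constructor
  · rintro ⟨-, hss⟩
    let Φ : V →ₗ[K] (Fin n → W) := LinearMap.pi f
    show Function.Bijective Φ
    have hinj : Function.Injective Φ := by
      rw [← LinearMap.ker_eq_bot]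
      by_contra hne
      have hsub : KronMod.IsSubrep f (LinearMap.ker Φ) ⊥ := by
        rintro j _ ⟨v, hv, rfl⟩
        exact congrFun (LinearMap.mem_ker.1 hv) j
      have := hss _ ⊥ hsub (fun h' => hne h'.1) (fun h' => by
        have h1 := congrArg (fun S : Submodule K W => Module.finrank K S) h'.2
        simp only [finrank_top, finrank_bot] at h1
        omega)
      rw [finrank_bot, mul_zero] at this
      have hpos : 0 < Module.finrank K (LinearMap.ker Φ) := by
        rw [Nat.pos_iff_ne_zero, ne_eq, Submodule.finrank_eq_zero]; exact hne
      exact absurd this (not_le.2 (Nat.mul_pos hW hpos))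
    refine ⟨hinj, (LinearMap.injective_iff_surjective_of_finrank_eq_finrank ?_).1 hinj⟩
    simp [hV, Module.finrank_pi_fintype]
  · intro hb
    refine ⟨by omega, fun V' W' hsub _ _ => ?_⟩
    let Ψ : V' →ₗ[K] (Fin n → W') :=
      LinearMap.pi fun j => (f j).restrict fun v hv => hsub j (Submodule.mem_map_of_mem hv)
    have h := LinearMap.finrank_le_finrank_of_injective (f := Ψ) (fun a b e => Subtype.ext (hb.1 (funext fun j =>
      congrArg Subtype.val (congrFun e j))))
    simp only [Module.finrank_pi_fintype, Finset.sum_const, Finset.card_univ, Fintype.card_fin, smul_eq_mul] at h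
    rw [hV]
    calc Module.finrank K W * Module.finrank K V' ≤ Module.finrank K W * (n * Module.finrank K W') :=
          Nat.mul_le_mul_left _ h
      _ = n * Module.finrank K W * Module.finrank K W' := by ring

end Groth.Agent.S15572
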