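import Mathlib
import Groth.Statements.S15573
-- import your own Groth.Agent.* helpers here

set_option autoImplicit false
universe u v
open RInv

namespace Groth.Agent.S15573

/-- Let `R` be a commutative ring with an involution `lam` and let `S` be its fixed ring. If there is an
element `r` of `R` such that `r - lam r` is a unit, then `R` is a quadratic etale `S`-algebra. -/
theorem result (S : Type u) (R : Type v) [CommRing S] [CommRing R]
    [Algebra S R] (lam : R ≃+* R) (hlam : Function.Involutive lam) (hS : RInv.IsFixedRing S R lam)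
    (h : ∃ r : R, IsUnit (r - lam r)) : RInv.IsQuadEtale S R := by
  obtain ⟨r, hr⟩ := h
  obtain ⟨hinj, hfix⟩ := hS
  have hlin : ∀ (c : S) (x : R), lam (c • x) = c • lam x := fun c x => by
    rw [Algebra.smul_def, Algebra.smul_def, map_mul, (hfix (algebraMap S R c)).2 ⟨c, rfl⟩]
  let φ : (Fin 2 → S) →ₗ[S] R := Fintype.linearCombination S ![1, r]
  have hφ : ∀ c : Fin 2 → S, φ c = c 0 • (1 : R) + c 1 • r := fun c => by
    simp [φ, Fintype.linearCombination_apply, Fin.sum_univ_two]
  have hb : Function.Bijective φ := by
    refine ⟨fun c c' hcc => ?_, fun x => ?_⟩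
    · rw [hφ, hφ] at hcc
      have h2 := congrArg lam hcc
      simp only [map_add, hlin, map_one] at h2
      have h1 : algebraMap S R (c 1) = algebraMap S R (c' 1) := hr.mul_right_cancel (by
        simp only [Algebra.smul_def, mul_one] at hcc h2
        linear_combination hcc - h2)
      have e1 := hinj h1
      rw [e1] at hcc
      have e0 : c 0 = c' 0 := hinj (by simpa [Algebra.smul_def] using hcc)
      funext l
      fin_cases l <;> assumption
    · obtain ⟨w, hw⟩ := hr
      have hlw : lam (↑w⁻¹ : R) = -↑w⁻¹ := w.isUnit.mul_left_cancel (by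
        have h1 : lam (↑w : R) = -↑w := by rw [hw, map_sub, hlam]; ring
        have h2 : lam (↑w : R) * lam (↑w⁻¹ : R) = 1 := by rw [← map_mul, Units.mul_inv, map_one]
        rw [h1] at h2
        rw [mul_neg, Units.mul_inv]
        linear_combination -h2)
      obtain ⟨b₁, hb₁⟩ := (hfix ((x - lam x) * ↑w⁻¹)).1 (by rw [map_mul, map_sub, hlam, hlw]; ring)
      obtain ⟨a, ha⟩ := (hfix (x - (x - lam x) * ↑w⁻¹ * r)).1 (by
        rw [map_sub, map_mul, map_mul, map_sub, hlam, hlw]
        have h3 : (r - lam r) * ↑w⁻¹ = 1 := by rw [← hw, Units.mul_inv]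
        linear_combination (x - lam x) * h3)
      refine ⟨![a, b₁], ?_⟩
      rw [hφ]
      simp only [Matrix.cons_val_zero, Matrix.cons_val_one, Algebra.smul_def, ha, hb₁]
      ring
  let B₀ : Module.Basis (Fin 2) S R := (Pi.basisFun S (Fin 2)).map (LinearEquiv.ofBijective φ hb)
  haveI : Module.Free S R := Module.Free.of_basis B₀
  haveI : Module.Finite S R := Module.Finite.of_basis B₀
  refine ⟨inferInstance, inferInstance, ⟨?_⟩, fun p => ?_⟩
  · obtain ⟨s, hs⟩ := (hfix (r + lam r)).1 (by rw [map_add, hlam, add_comm])
    obtain ⟨t, ht⟩ := (hfix (r * lam r)).1 (by rw [map_mul, hlam, mul_comm])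
    have hr2 : r * r = algebraMap S R s * r - algebraMap S R t := by rw [hs, ht]; ring
    let d := KaehlerDifferential.D S R
    have h1 : (r - lam r) • d r = 0 := by
      have := congrArg d hr2
      rw [Derivation.leibniz, map_sub, Derivation.leibniz, Derivation.map_algebraMap, Derivation.map_algebraMap] at this
      simp only [smul_zero, add_zero, sub_zero] at this
      rw [show r - lam r = r + r - algebraMap S R s by rw [hs]; ring, sub_smul, add_smul, this, sub_self]
    have h0 : d r = 0 := hr.smul_eq_zero.1 h1
    refine subsingleton_of_forall_eq 0 fun ω => ?_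
    have hω : ω ∈ Submodule.span R (Set.range (KaehlerDifferential.D S R)) := by
      rw [KaehlerDifferential.span_range_derivation]; trivial
    induction hω using Submodule.span_induction with
    | mem z hz =>
      obtain ⟨x, rfl⟩ := hz
      obtain ⟨c, rfl⟩ := hb.2 x
      show d (φ c) = 0
      rw [hφ, map_add, Derivation.map_smul, Derivation.map_smul, Derivation.map_one_eq_zero, h0, smul_zero, smul_zero, add_zero]
    | zero => rfl
    | add _ _ _ _ h1 h2 => rw [h1, h2, add_zero]
    | smul _ _ _ h1 => rw [h1, smul_zero]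
  · haveI : Nontrivial S := ⟨0, 1, fun h01 => p.isPrime.ne_top ((Ideal.eq_top_iff_one _).2 (h01 ▸ zero_mem _))⟩
    rw [Module.rankAtStalk_eq_finrank_of_free]
    show Module.finrank S R = 2
    rw [Module.finrank_eq_card_basis B₀, Fintype.card_fin]

end Groth.Agent.S15573
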