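import Mathlib
import Groth.Statements.S15574
-- import your own Groth.Agent.* helpers here

set_option autoImplicit false
universe u v
open RInv

namespace Groth.Agent.S15574

/-- Let `R` be a commutative ring with an involution `lam` whose fixed ring `S` is local, and suppose
`R` is a quadratic etale `S`-algebra. Then some `r` in `R` has `r - lam r` invertible. -/
theorem result (S : Type u) (R : Type v) [CommRing S] [CommRing R]
    [Algebra S R] (lam : R ≃+* R) (hlam : Function.Involutive lam) (hS : RInv.IsFixedRing S R lam)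
    [IsLocalRing S] (hq : RInv.IsQuadEtale S R) : ∃ r : R, IsUnit (r - lam r) := by
  classical
  obtain ⟨hfin, hproj, hunr, hrank⟩ := hq
  obtain ⟨hinj, hfix⟩ := hS
  haveI := hfin; haveI := hproj; haveI := hunr
  haveI : Module.Free S R := Module.free_of_flat_of_isLocalRing
  have h2 : Module.finrank S R = 2 := by
    have := hrank ⟨IsLocalRing.maximalIdeal S, inferInstance⟩
    rwa [Module.rankAtStalk_eq_finrank_of_free] at this
  let b : Module.Basis (Fin 2) S R := Module.finBasisOfFinrankEq S R h2
  have hsum : ∀ r : R, r = b.repr r 0 • b 0 + b.repr r 1 • b 1 := fun r => by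
    conv_lhs => rw [← b.sum_repr r, Fin.sum_univ_two]
  obtain ⟨i, j, hij, hu⟩ : ∃ i j : Fin 2, i ≠ j ∧ IsUnit (b.repr 1 i) := by
    by_contra! hc
    have h0 : b.repr 1 0 ∈ IsLocalRing.maximalIdeal S := hc 0 1 (by decide)
    have h1 : b.repr 1 1 ∈ IsLocalRing.maximalIdeal S := hc 1 0 (by decide)
    have e : (1 : S) = b.repr 1 0 * b.repr (b 0 * b 0) 0 + b.repr 1 1 * b.repr (b 1 * b 0) 0 := by
      have := congrArg (fun z => b.repr (z * b 0) 0) (hsum 1)
      simpa [add_mul, smul_mul_assoc] using this
    exact (Ideal.ne_top_iff_one _).1 (IsLocalRing.maximalIdeal.isMaximal S).ne_top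
      (e ▸ add_mem (Ideal.mul_mem_right _ _ h0) (Ideal.mul_mem_right _ _ h1))
  obtain ⟨w, hw⟩ := hu
  let v : R →ₗ[S] S := b.coord j - (b.repr 1 j * ↑w⁻¹) • b.coord i
  have hv1 : v 1 = 0 := by
    simp only [v, LinearMap.sub_apply, LinearMap.smul_apply, Module.Basis.coord_apply, smul_eq_mul, ← hw]
    rw [mul_assoc, Units.inv_mul, mul_one, sub_self]
  have hve : v (b j) = 1 := by simp [v, hij.symm, hij]
  have hcover : ∀ r : R, ∃ u t : S, r = algebraMap S R u + t • b j := by
    intro r
    refine ⟨b.repr r i * ↑w⁻¹, v r, b.repr.injective (Finsupp.ext fun l => ?_)⟩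
    have hl : l = i ∨ l = j := by omega
    rcases hl with rfl | rfl
    · rw [Algebra.algebraMap_eq_smul_one]
      simp [hij.symm, hij, ← hw, mul_assoc]
    · rw [Algebra.algebraMap_eq_smul_one]
      simp [v, hij.symm, hij]
      ring
  have hv : ∀ u t : S, v (algebraMap S R u + t • b j) = t := fun u t => by
    rw [Algebra.algebraMap_eq_smul_one, map_add, map_smul, map_smul, hv1, hve]; simp
  obtain ⟨s, hs⟩ := (hfix (b j + lam (b j))).1 (by rw [map_add, hlam, add_comm])
  obtain ⟨t, ht⟩ := (hfix (b j * lam (b j))).1 (by rw [map_mul, hlam, mul_comm])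
  refine ⟨b j, ?_⟩
  have hd : b j - lam (b j) = 2 * b j - algebraMap S R s := by rw [hs]; ring
  have he2 : b j * b j = algebraMap S R s * b j - algebraMap S R t := by rw [hs, ht]; ring
  rw [hd, ← Ideal.span_singleton_eq_top]
  by_contra hne
  let J := Ideal.span {2 * b j - algebraMap S R s}
  let D₀ : R →ₗ[S] R ⧸ J := ((Ideal.Quotient.mkₐ S J).toLinearMap.comp (Algebra.linearMap S R)).comp v
  have hD₀ : ∀ r, D₀ r = Ideal.Quotient.mk J (algebraMap S R (v r)) := fun r => rfl
  have key : ∀ x y : R, D₀ (x * y) = x • D₀ y + y • D₀ x := by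
    intro x y
    obtain ⟨u, p, rfl⟩ := hcover x
    obtain ⟨u', p', rfl⟩ := hcover y
    have hprod : (algebraMap S R u + p • b j) * (algebraMap S R u' + p' • b j) =
        algebraMap S R (u * u' - p * p' * t) + (u * p' + u' * p + p * p' * s) • b j := by
      simp only [Algebra.smul_def, map_sub, map_add, map_mul]
      linear_combination (algebraMap S R p * algebraMap S R p') * he2
    rw [hprod, hD₀, hD₀, hD₀, hv, hv, hv]
    change _ = Ideal.Quotient.mk J _ * Ideal.Quotient.mk J _ + Ideal.Quotient.mk J _ * Ideal.Quotient.mk J _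
    rw [← map_mul, ← map_mul, ← map_add, Ideal.Quotient.eq, Ideal.mem_span_singleton']
    refine ⟨-(algebraMap S R p * algebraMap S R p'), ?_⟩
    simp only [Algebra.smul_def, map_add, map_mul]
    ring
  have h0 : Derivation.mk' D₀ key = 0 := by
    refine Derivation.ext fun x => ?_
    rw [← Derivation.liftKaehlerDifferential_comp (Derivation.mk' D₀ key)]
    show (Derivation.mk' D₀ key).liftKaehlerDifferential (KaehlerDifferential.D S R x) = 0
    rw [Subsingleton.elim (KaehlerDifferential.D S R x) 0, map_zero]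
  have h3 : D₀ (b j) = 0 := DFunLike.congr_fun h0 (b j)
  rw [hD₀, hve, map_one, map_one] at h3
  exact hne ((Ideal.eq_top_iff_one _).2 (Ideal.Quotient.eq_zero_iff_mem.1 (by rw [map_one]; exact h3)))

end Groth.Agent.S15574
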