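import Mathlib
import Groth.Agent.S15573
import Groth.Statements.S15576
-- import your own Groth.Agent.* helpers here

set_option autoImplicit false
universe u v
open RInv

namespace Groth.Agent.S15576

/-- Let `R` be a commutative ring with an involution `lam` whose fixed ring `S` is local. If the
automorphism induced by `lam` on `R` modulo its Jacobson radical is not the identity, then `R` is a
quadratic etale `S`-algebra. -/
theorem result (S : Type u) (R : Type v) [CommRing S] [CommRing R]
    [Algebra S R] (lam : R ≃+* R) (hlam : Function.Involutive lam) (hS : RInv.IsFixedRing S R lam)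
    [IsLocalRing S] (h : ∃ r : R, lam r - r ∉ Ring.jacobson R) : RInv.IsQuadEtale S R := by
  obtain ⟨hinj, hfix⟩ := hS
  haveI : Algebra.IsIntegral S R := ⟨fun x => by
    obtain ⟨s, hs⟩ := (hfix (x + lam x)).1 (by rw [map_add, hlam, add_comm])
    obtain ⟨t, ht⟩ := (hfix (x * lam x)).1 (by rw [map_mul, hlam, mul_comm])
    refine ⟨Polynomial.X ^ 2 - Polynomial.C s * Polynomial.X + Polynomial.C t, by monicity!, ?_⟩
    simp [hs, ht]
    ring⟩
  obtain ⟨r, hr⟩ := h
  obtain ⟨t, ht⟩ := (hfix ((lam r - r) * (lam r - r))).1 (by rw [map_mul, map_sub, hlam]; ring)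
  refine Groth.Agent.S15573.result S R lam hlam ⟨hinj, hfix⟩ ⟨r, ?_⟩
  by_cases hu : IsUnit t
  · have h2 := hu.map (algebraMap S R)
    rw [ht, show (lam r - r) * (lam r - r) = (r - lam r) * (r - lam r) by ring] at h2
    exact isUnit_of_mul_isUnit_left h2
  · refine absurd ?_ hr
    rw [Ring.jacobson_eq_sInf_isMaximal, Submodule.mem_sInf]
    intro (M : Ideal R) (hM : M.IsMaximal)
    haveI := hM
    haveI := Ideal.isMaximal_comap_of_isIntegral_of_isMaximal (R := S) M
    have htm : t ∈ M.comap (algebraMap S R) := by
      rw [IsLocalRing.eq_maximalIdeal (inferInstance : (M.comap (algebraMap S R)).IsMaximal)]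
      exact hu
    rw [Ideal.mem_comap, ht] at htm
    exact (hM.isPrime.mem_or_mem htm).elim id id

end Groth.Agent.S15576
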