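import Mathlib
import Groth.Agent.S15574
import Groth.Statements.S15577
-- import your own Groth.Agent.* helpers here

set_option autoImplicit false
universe u v
open RInv

namespace Groth.Agent.S15577

/-- Let `R` be a commutative ring with an involution `lam` whose fixed ring `S` is local. If `lam`
induces the identity on `R` modulo its Jacobson radical, then `R` is a local ring and is not a
quadratic etale `S`-algebra. -/
theorem result (S : Type u) (R : Type v) [CommRing S] [CommRing R]
    [Algebra S R] (lam : R ≃+* R) (hlam : Function.Involutive lam) (hS : RInv.IsFixedRing S R lam)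
    [IsLocalRing S] (h : ∀ r : R, lam r - r ∈ Ring.jacobson R) :
    IsLocalRing R ∧ ¬ RInv.IsQuadEtale S R := by
  obtain ⟨hinj, hfix⟩ := hS
  haveI : Algebra.IsIntegral S R := ⟨fun x => by
    obtain ⟨s, hs⟩ := (hfix (x + lam x)).1 (by rw [map_add, hlam, add_comm])
    obtain ⟨t, ht⟩ := (hfix (x * lam x)).1 (by rw [map_mul, hlam, mul_comm])
    refine ⟨Polynomial.X ^ 2 - Polynomial.C s * Polynomial.X + Polynomial.C t, by monicity!, ?_⟩
    simp [hs, ht]
    ring⟩
  haveI : Nontrivial R := hinj.nontrivial
  have hjac : ∀ (M : Ideal R) (x : R), M.IsMaximal → lam x - x ∈ M := fun M x hM => by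
    have h1 := h x
    rw [Ring.jacobson_eq_sInf_isMaximal, Submodule.mem_sInf] at h1
    exact h1 M hM
  refine ⟨IsLocalRing.of_unique_max_ideal ?_, fun hq => ?_⟩
  · obtain ⟨M, hM⟩ := Ideal.exists_maximal R
    refine ⟨M, hM, fun M' hM' => ?_⟩
    haveI := hM; haveI := hM'
    refine (hM'.eq_of_le hM.ne_top fun x hx => ?_)
    obtain ⟨t, ht⟩ := (hfix (x * lam x)).1 (by rw [map_mul, hlam, mul_comm])
    haveI := Ideal.isMaximal_comap_of_isIntegral_of_isMaximal (R := S) M
    haveI := Ideal.isMaximal_comap_of_isIntegral_of_isMaximal (R := S) M'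
    have e : M'.comap (algebraMap S R) = M.comap (algebraMap S R) :=
      (IsLocalRing.eq_maximalIdeal (inferInstance : (M'.comap (algebraMap S R)).IsMaximal)).trans
        (IsLocalRing.eq_maximalIdeal (inferInstance : (M.comap (algebraMap S R)).IsMaximal)).symm
    have h1 : t ∈ M'.comap (algebraMap S R) := by rw [Ideal.mem_comap, ht]; exact M'.mul_mem_right _ hx
    rw [e, Ideal.mem_comap, ht] at h1
    rcases hM.isPrime.mem_or_mem h1 with h2 | h2
    · exact h2
    · simpa using M.sub_mem h2 (hjac M x hM)
  · obtain ⟨r, hr⟩ := Groth.Agent.S15574.result S R lam hlam ⟨hinj, hfix⟩ hq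
    obtain ⟨M, hM⟩ := Ideal.exists_maximal R
    exact hM.ne_top (Ideal.eq_top_of_isUnit_mem _ (by simpa using M.neg_mem (hjac M r hM)) hr)

end Groth.Agent.S15577
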