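import Groth.Statements.S15579
import Mathlib
-- import your own Groth.Agent.* helpers here

set_option autoImplicit false
universe u v
open RInv

namespace Groth.Agent.S15579

/-- For a local ring `S` with maximal ideal `m` and a quadratic etale `S`-algebra `R`, the Jacobson
radical of `R` is `mR`. -/
theorem result (S : Type u) (R : Type v) [CommRing S]
    [CommRing R] [Algebra S R] [IsLocalRing S] (hq : RInv.IsQuadEtale S R) :
    Ring.jacobson R = (IsLocalRing.maximalIdeal S).map (algebraMap S R) := by
  obtain ⟨hfin, -, hun, -⟩ := hq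
  haveI := hfin
  haveI := hun
  let m := IsLocalRing.maximalIdeal S
  let J := m.map (algebraMap S R)
  refine le_antisymm ?_ ?_
  · letI : Field (S ⧸ m) := Ideal.Quotient.field m
    let Q := R ⧸ J
    haveI : Algebra.FormallyUnramified S Q := Algebra.FormallyUnramified.of_surjective (Ideal.Quotient.mkₐ S J) Ideal.Quotient.mk_surjective
    haveI : Algebra.FormallyUnramified (S ⧸ m) Q := Algebra.FormallyUnramified.of_restrictScalars S (S ⧸ m) Q
    haveI : Module.Finite (S ⧸ m) Q := Module.Finite.of_restrictScalars_finite S (S ⧸ m) Q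
    haveI : _root_.IsReduced Q := Algebra.FormallyUnramified.isReduced_of_field (S ⧸ m) Q
    haveI : IsArtinianRing Q := IsArtinianRing.of_finite (S ⧸ m) Q
    haveI : IsSemisimpleRing Q := IsArtinianRing.isSemisimpleRing_of_isReduced Q
    intro x hx
    rw [← Ideal.Quotient.eq_zero_iff_mem]
    have hj : Ring.jacobson Q = ⊥ := IsSemisimpleRing.jacobson_eq_bot Q
    have h2 : Ideal.Quotient.mk J x ∈ Ring.jacobson Q :=
      Ring.map_jacobson_le (Ideal.Quotient.mk J) (Submodule.mem_map_of_mem (f := (Ideal.Quotient.mk J).toSemilinearMap) hx)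
    rwa [hj, Ideal.mem_bot] at h2
  · rw [Ring.jacobson_eq_sInf_isMaximal]
    refine le_sInf fun M hM => ?_
    rw [Ideal.map_le_iff_le_comap]
    haveI : M.IsMaximal := hM
    haveI : Algebra.IsIntegral S R := Algebra.IsIntegral.of_finite S R
    have : (M.comap (algebraMap S R)).IsMaximal := Ideal.isMaximal_comap_of_isIntegral_of_isMaximal M
    exact (IsLocalRing.eq_maximalIdeal this).ge

end Groth.Agent.S15579
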