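import Groth.Statements.S1798
import Groth.Agent.LocFreeAnn.Factor
import Groth.Agent.LocFree.Basic
import Groth.Agent.QCohLib.Local

set_option autoImplicit false
universe u
open CategoryTheory AlgebraicGeometry
open LocCoh

namespace Groth.Agent.S1798

open TopologicalSpace

theorem isQuasicoherent_of_isFinLocFree {X : Scheme.{u}} {F : X.Modules}
    (hF : FlatMod.IsFinLocFree F) : F.IsQuasicoherent := by
  choose U n hx e using hF
  refine QCohLib.isQuasicoherent_of_cover (fun x : X => (U x).ι)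
    (fun x => ⟨x, by rw [Scheme.Opens.opensRange_ι]; exact hx x⟩) fun x => ?_
  have := LocFreeAnn.isQuasicoherent_freeMod (↑(U x)) (n x)
  exact QCohLib.isQuasicoherent_of_iso (e x).some.symm

/-- Let A be a ring, J ⊆ I finitely generated ideals, U the open complement of V(I) in Spec A and p ≥ 0.
If some power of J kills H^p(U, O_U), then for each finite locally free O_U-module F some power of J
kills H^p(U, F). -/
theorem result (A : Type u) [CommRing A] (J I : Ideal A) (hJI : J ≤ I) (hJ : J.FG) (hI : I.FG) (p n : ℕ) (hO : ∀ a ∈ J ^ n, ∀ x : Coh.HH (↑(LocCoh.puncturedOpen A I)) (Coh.structureModule (↑(LocCoh.puncturedOpen A I))) p, a • x = 0) (F : (↑(LocCoh.puncturedOpen A I) : Scheme.{u}).Modules) (hF : FlatMod.IsFinLocFree F) : ∃ m : ℕ, ∀ a ∈ J ^ m, ∀ x : Coh.HH (↑(LocCoh.puncturedOpen A I)) F p, a • x = 0 := by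
  classical
  let P := LocCoh.puncturedOpen A I
  have hPc : IsCompact (P : Set (Spec (CommRingCat.of A))) :=
    (QuasiSeparatedSpace.isRetrocompact_iff_isCompact (P.2)).mp
      (PrimeSpectrum.isRetrocompact_zeroLocus_compl_of_fg hI)
  haveI : CompactSpace (P : Scheme.{u}) := isCompact_iff_compactSpace.mp hPc
  haveI : QuasiSeparatedSpace (P : Scheme.{u}) :=
    quasiSeparatedSpace_of_quasiSeparated P.ι
  haveI := isQuasicoherent_of_isFinLocFree hF
  let g : A →+* Coh.Γtop (P : Scheme.{u}) :=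
    Coh.toGlobal ((P : Scheme.{u}) ↘ Spec (CommRingCat.of A))
  have hbo : ∀ a : A, (P : Scheme.{u}).basicOpen (g a : Γ(P, ⊤)) =
      P.ι ⁻¹ᵁ PrimeSpectrum.basicOpen a := by
    intro a
    exact ((congrArg (P.ι ⁻¹ᵁ ·) (basicOpen_eq_of_affine (R := CommRingCat.of A) a)).symm.trans
      (Scheme.Hom.preimage_basicOpen_top P.ι _)).symm
  have key : ∀ x : (P : Scheme.{u}), ∃ a : A, x ∈ P.ι ⁻¹ᵁ PrimeSpectrum.basicOpen a ∧
      ∃ L : ℕ, ∀ r : A, r ∈ J ^ n → ∀ z : Coh.HH (P : Scheme.{u}) F p, (r * a ^ L) • z = 0 := by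
    intro x
    obtain ⟨O, m, hxO, ⟨eO⟩⟩ := hF x
    obtain ⟨_, ⟨a, rfl⟩, hxa, hsub⟩ :=
      PrimeSpectrum.isTopologicalBasis_basic_opens.exists_subset_of_mem_open
        (show P.ι.base x ∈ (P.ι ''ᵁ O : Set _) from ⟨x, hxO, rfl⟩) (P.ι ''ᵁ O).2
    have hle : (P : Scheme.{u}).basicOpen (g a : Γ(P, ⊤)) ≤ O := by
      rw [hbo]
      intro y hy
      obtain ⟨z, hz, hzy⟩ := hsub hy
      rwa [← P.ι.isOpenEmbedding.injective hzy]
    obtain ⟨e⟩ := LocFree.free_of_le hle eO
    obtain ⟨L, hL⟩ := LocFreeAnn.exists_pow_mul_smul_eq_zero hF (g a : Γ(P, ⊤)) e p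
    refine ⟨a, hxa, L, fun r hr z => ?_⟩
    show g (r * a ^ L) • z = 0
    rw [map_mul, mul_smul]
    exact hL (g (a ^ L)) (map_pow g a L) (g r) (fun w => hO r hr w) z
  choose a ha L hL using key
  obtain ⟨S, hS⟩ := (isCompact_univ (X := (P : Scheme.{u}))).elim_finite_subcover
    (fun x => ((P.ι ⁻¹ᵁ PrimeSpectrum.basicOpen (a x) : (P : Scheme.{u}).Opens) :
      Set (P : Scheme.{u})))
    (fun x => Opens.isOpen _) fun x _ => Set.mem_iUnion.2 ⟨x, ha x⟩
  let K : Ideal A := Ideal.span ((fun x => a x ^ L x) '' S)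
  have hJK : J ≤ K.radical := by
    refine hJI.trans ?_
    rw [← PrimeSpectrum.zeroLocus_subset_zeroLocus_iff]
    intro q hq
    by_contra hqI
    obtain ⟨x, hx, hqx⟩ := Set.mem_iUnion₂.1 (hS (Set.mem_univ (⟨q, hqI⟩ : P)))
    have h1 : a x ^ L x ∈ q.asIdeal :=
      hq (Ideal.subset_span ⟨x, hx, rfl⟩)
    exact hqx (q.isPrime.mem_of_pow_mem _ h1)
  obtain ⟨m, hm⟩ := Ideal.exists_pow_le_of_le_radical_of_fg hJK hJ
  refine ⟨n + m, fun r hr z => ?_⟩
  suffices h : J ^ n * K ≤ Module.annihilator A (Coh.HH (P : Scheme.{u}) F p) by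
    rw [pow_add] at hr
    exact Module.mem_annihilator.1 (h (Ideal.mul_mono_right hm hr)) z
  rw [Ideal.mul_le]
  intro b hb c hc
  rw [Module.mem_annihilator]
  induction hc using Submodule.span_induction with
  | mem c hc =>
    obtain ⟨x, -, rfl⟩ := hc
    exact fun w => hL x b hb w
  | zero => intro w; rw [mul_zero, zero_smul]
  | add c d _ _ hc hd => intro w; rw [mul_add, add_smul, hc, hd, add_zero]
  | smul t c _ hc => intro w; rw [smul_eq_mul, mul_left_comm, mul_smul, hc, smul_zero]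

end Groth.Agent.S1798
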