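import Groth.Statements.S1558
import Groth.Agent.HilbPoly.PushForm
import Groth.Agent.CohFinite.DevissageGen
import Groth.Agent.CohFinite.AnnIdeal
import Groth.Agent.DimZeroFin.Basic
import Groth.Agent.ModGroth.PerfTensor
import Groth.Agent.LocFreeAnn.Free
import Groth.Agent.FinLocFree.Push
import Groth.Agent.ProjTwist.LocBij
import Groth.Agent.CohVanish.Sections
import Groth.Agent.S1798

set_option autoImplicit false
set_option linter.style.haveILetI false
set_option backward.isDefEq.respectTransparency false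
universe u
open CategoryTheory CategoryTheory.Limits AlgebraicGeometry
open Variety

namespace Groth.Agent.S1558

open CategoryTheory CategoryTheory.Limits AlgebraicGeometry TopologicalSpace Opposite
open Groth.Agent Groth.Agent.InvBasic Groth.Agent.CohFinite Groth.Agent.HilbPoly

/-- A locally free module of rank `n` on a discrete Noetherian scheme is free. -/
theorem nonempty_free {W : Scheme.{u}} [DiscreteTopology W] {E : W.Modules} [E.IsQuasicoherent] {n : ℕ}
    (hE : FlatMod.IsFinLocFreeOfRank n E) : Nonempty (E ≅ FlatMod.freeMod W n) := by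
  let P : W → W.Opens := fun x => ⟨{x}, isOpen_discrete _⟩
  have hb : ∀ x : W, ∃ b : Fin n → Γ(E, P x), Function.Bijective fun c : Fin n → Γ(W, P x) =>
      ∑ i, c i • b i := by
    intro x
    obtain ⟨U, hxU, ⟨e⟩⟩ := hE x
    obtain ⟨b, hb⟩ := LocFreeAnn.exists_basis e
    have hle : P x ≤ U := by
      rintro y (rfl : y = x)
      exact hxU
    exact ⟨fun i => E.presheaf.map (homOfLE hle).op (b i), hb (P x) hle⟩
  choose b hb using hb
  have hsub : ∀ x y : W, x ≠ y → ∀ z, z ∉ (P x ⊓ P y : W.Opens) := fun x y hxy z hz =>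
    hxy ((show z = x from hz.1).symm.trans (show z = y from hz.2))
  have hglue : ∀ i, ∃ s : Γ(E, ⊤), ∀ x, E.presheaf.map (homOfLE (le_top (a := P x))).op s = b x i := by
    intro i
    obtain ⟨s, hs, -⟩ := TopCat.Sheaf.existsUnique_gluing' ⟨E.presheaf, E.isSheaf⟩ P ⊤
      (fun x => homOfLE le_top) (fun x _ => Opens.mem_iSup.mpr ⟨x, rfl⟩) (fun x => b x i) fun x y => by
        by_cases hxy : x = y
        · subst hxy; rfl
        · exact QCohLib.section_ext (M := E) (U := P x ⊓ P y) _ _ fun z hz => absurd hz (hsub x y hxy z)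
    exact ⟨s, hs⟩
  choose s hs using hglue
  haveI : (FlatMod.freeMod W n).IsQuasicoherent := LocFreeAnn.isQuasicoherent_freeMod W n
  let φ : FlatMod.freeMod W n ⟶ E := Sigma.desc fun i => CohVanish.homOfSection E (s i)
  have hP : ∀ x, IsAffineOpen (P x) := by
    intro x
    obtain ⟨V, hV, hxV, hVle⟩ := exists_isAffineOpen_mem_and_subset (X := W) (x := x) (U := P x) rfl
    have : V = P x := le_antisymm hVle (by rintro y (rfl : y = x); exact hxV)
    exact this ▸ hV
  haveI : IsIso φ := QCohLib.isIso_of_cover_bijective P hP (fun x => ⟨x, rfl⟩) φ fun x => by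
    rw [LocFreeAnn.free_app_bijective_iff]
    have hgen : ∀ i, φ.app ⊤ (LocFreeAnn.gen W n i) = s i := by
      intro i
      have h : φ.app ⊤ (LocFreeAnn.gen W n i) = (CohVanish.homOfSection E (s i)).app ⊤ (1 : Γ(W, ⊤)) := by
        show (Sigma.ι (fun _ : Fin n => Coh.structureModule W) i ≫ φ).app ⊤ (1 : Γ(W, ⊤)) = _
        rw [show Sigma.ι (fun _ : Fin n => Coh.structureModule W) i ≫ φ = CohVanish.homOfSection E (s i)
          from Sigma.ι_desc _ _]
        
      rw [h, CohVanish.homOfSection_app, one_smul]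
      exact QCohLib.map_self E _ _
    simpa only [hgen, hs] using hb x
  exact ⟨(asIso φ).symm⟩

theorem euler_tensor_aux (k : Type u) [Field k] {X W : Scheme.{u}} [X.Over (Spec (CommRingCat.of k))]
    [IsProper (X ↘ (Spec (CommRingCat.of k)))] (F : X.Modules) (hF : Coh.IsCoh F)
    (hsupp : topologicalKrullDim (CohB1.support F) ≤ 0)
    (n : ℕ) (E : X.Modules) (hE : FlatMod.IsFinLocFreeOfRank n E)
    (j : W ⟶ X) [IsClosedImmersion j] (hk : ClSub.KilledByIdeal j.ker F)
    (hr : Set.range j ⊆ CohB1.support F) :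
    Curv2.euler k X (CohB1.tensorMod F E) = n * Curv2.euler k X F := by
  haveI : IsLocallyNoetherian X := LocallyOfFiniteType.isLocallyNoetherian (X ↘ Spec (CommRingCat.of k))
  haveI := hF.1
  letI : W.Over (Spec (CommRingCat.of k)) := ⟨j ≫ (X ↘ Spec (CommRingCat.of k))⟩
  haveI : IsProper (W ↘ Spec (CommRingCat.of k)) :=
    inferInstanceAs (IsProper (j ≫ (X ↘ Spec (CommRingCat.of k))))
  haveI : IsLocallyNoetherian W := LocallyOfFiniteType.isLocallyNoetherian (W ↘ Spec (CommRingCat.of k))
  haveI : CompactSpace W := QuasiCompact.compactSpace_of_compactSpace (W ↘ Spec (CommRingCat.of k))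
  haveI : IsNoetherian W := ⟨⟩
  have hdimW : topologicalKrullDim W ≤ 0 := by
    refine le_trans ?_ hsupp
    exact Topology.IsInducing.topologicalKrullDim_le
      (f := fun w : W => (⟨j w, hr ⟨w, rfl⟩⟩ : CohB1.support F))
      (Topology.IsInducing.of_comp (by fun_prop) continuous_subtype_val j.isClosedEmbedding.isInducing)
  haveI : DiscreteTopology W := DimZeroFin.discreteTopology_of_forall_specializes fun _ _ h =>
    DimZeroFin.eq_of_specializes_of_dim_le_zero hdimW h
  let N := (Scheme.Modules.pullback j).obj F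
  let E' := (Scheme.Modules.pullback j).obj E
  have hE' : FlatMod.IsFinLocFreeOfRank n E' := fun x => by
    obtain ⟨U, hx, ⟨e⟩⟩ := hE (j.base x)
    exact ⟨j ⁻¹ᵁ U, hx, ⟨((ModGroth.Perf.restrPullIso j (j ∣_ U) _ _ (morphismRestrict_ι j U)).app E).symm ≪≫
      (Scheme.Modules.pullback (j ∣_ U)).mapIso e ≪≫ ModGroth.Perf.pullFreeModIso _ n⟩⟩
  haveI : HasFiniteBiproducts W.Modules := HasFiniteBiproducts.of_hasFiniteProducts
  haveI : E.IsQuasicoherent := S1798.isQuasicoherent_of_isFinLocFree fun x => by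
    obtain ⟨U, hx, e⟩ := hE x
    exact ⟨U, n, hx, e⟩
  haveI : E'.IsQuasicoherent := QCohLib.isQuasicoherent_pullback j E
  have hN : Coh.IsCoh N := QCohLib.isCoh_pullback j F hF
  haveI := hN.1
  haveI := isIso_unit j F hk
  let u : F ≅ (Scheme.Modules.pushforward j).obj N :=
    asIso ((Scheme.Modules.pullbackPushforwardAdjunction j).unit.app F)
  obtain ⟨p⟩ := nonempty_push_tensor j N E
  obtain ⟨t⟩ := ProjTwist.nonempty_tensorMod_iso u (Iso.refl E)
  obtain ⟨f⟩ := nonempty_free hE'
  obtain ⟨t'⟩ := ProjTwist.nonempty_tensorMod_iso (Iso.refl N) f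
  obtain ⟨c⟩ := ProjTwist.nonempty_tensorMod_comm N (FlatMod.freeMod W n)
  let q : CohB1.tensorMod N E' ≅ ⨁ fun _ : Fin n => N :=
    t' ≪≫ c ≪≫ ModGroth.Perf.freeTensorIso n N ≪≫ (biproduct.isoCoproduct _).symm
  have hsum : ∀ m : ℕ, Curv2.euler k W (⨁ fun _ : Fin m => N) = m * Curv2.euler k W N := by
    intro m
    induction m with
    | zero =>
      rw [euler_of_isZero]
      · simp
      · rw [IsZero.iff_id_eq_zero]
        exact biproduct.hom_ext _ _ fun i => i.elim0
    | succ m ih =>
      rw [euler_congr (biproductSuccIso N m),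
        euler_additive (CohVanish.shortExact_biprod N (⨁ fun _ : Fin m => N)) hN
          (QCohLib.isCoh_biprod hN (isCoh_biproduct hN m)) (isCoh_biproduct hN m)]
      show Curv2.euler k W N + Curv2.euler k W (⨁ fun _ : Fin m => N) = _
      rw [ih]
      push_cast
      ring
  haveI := (isCoh_biproduct hN n).1
  haveI : (CohB1.tensorMod N E').IsQuasicoherent := QCohLib.isQuasicoherent_of_iso q.symm
  rw [euler_congr (t ≪≫ p), euler_congr u, euler_push j k _, euler_push j k N]
  exact (euler_congr q).trans (hsum n)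


theorem euler_tensor (k : Type u) [Field k] (X : Scheme.{u}) [X.Over (Spec (CommRingCat.of k))]
    [IsProper (X ↘ (Spec (CommRingCat.of k)))] (F : X.Modules) (hF : Coh.IsCoh F)
    (hsupp : topologicalKrullDim (CohB1.support F) ≤ 0)
    (n : ℕ) (E : X.Modules) (hE : FlatMod.IsFinLocFreeOfRank n E) :
    Curv2.euler k X (CohB1.tensorMod F E) = n * Curv2.euler k X F := by
  haveI := hF.1
  refine euler_tensor_aux k F hF hsupp n E hE (annIdeal F hF.2).subschemeι ?_ ?_
  · rw [Scheme.IdealSheafData.ker_subschemeι]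
    exact killedByIdeal_annIdeal F hF.2
  · rw [Scheme.IdealSheafData.range_subschemeι, support_annIdeal]

/-- On a proper scheme over a field, if F is coherent with support of dimension at most zero and E is
finite locally free of rank n, then χ(X, F ⊗ E) = n · χ(X, F). -/
theorem result (k : Type u) [Field k] (X : Scheme.{u}) [X.Over (Spec (CommRingCat.of k))] [IsProper (X ↘ (Spec (CommRingCat.of k)))]
    (F : X.Modules) (hF : Coh.IsCoh F) (hsupp : topologicalKrullDim (CohB1.support F) ≤ 0)
    (n : ℕ) (E : X.Modules) (hE : FlatMod.IsFinLocFreeOfRank n E) :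
    Curv2.euler k X (CohB1.tensorMod F E) = n * Curv2.euler k X F := by
  exact euler_tensor k X F hF hsupp n E hE
end Groth.Agent.S1558
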