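import Mathlib
import Groth.Agent.S15574
import Groth.Statements.S15580
-- import your own Groth.Agent.* helpers here

set_option autoImplicit false
universe u v
open RInv

namespace Groth.Agent.S15580

/-- Let `S` be a local ring, `R` a quadratic etale `S`-algebra and `lam` an involution of `R` with fixed
ring `S`. Then every unit `r` of `R` with `lam r * r = 1` can be written `a⁻¹ * lam a` for a unit
`a` of `R`. -/
theorem result (S : Type u) (R : Type v) [CommRing S] [CommRing R]
    [Algebra S R] (lam : R ≃+* R) (hlam : Function.Involutive lam) (hS : RInv.IsFixedRing S R lam)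
    [IsLocalRing S] (hq : RInv.IsQuadEtale S R) (r : Rˣ) (hr : lam r * r = 1) :
    ∃ a : Rˣ, (r : R) = (a⁻¹ : Rˣ) * lam a := by
  obtain ⟨r₀, hr₀⟩ := Groth.Agent.S15574.result S R lam hlam hS hq
  haveI := hq.1
  obtain ⟨hinj, hfix⟩ := hS
  haveI : Nontrivial R := hinj.nontrivial
  by_contra hne
  push Not at hne
  have hrl : (r : R) * lam (r : R) = 1 := by rw [mul_comm]; exact hr
  have key : ∀ x : R, ∀ M : Ideal R, M.IsMaximal → x + lam (r : R) * lam x ∈ M := by
    intro x M hM
    haveI := hM
    set a := x + lam (r : R) * lam x with ha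
    have hla : lam a = (r : R) * a := by
      rw [ha, map_add, map_mul, hlam, hlam, mul_add, ← mul_assoc, hrl, one_mul, add_comm]
    obtain ⟨t, ht⟩ := (hfix (a * lam a)).1 (by rw [map_mul, hlam, mul_comm])
    by_cases hu : IsUnit t
    · have hu2 : IsUnit a := isUnit_of_mul_isUnit_left (ht ▸ hu.map (algebraMap S R))
      refine absurd ?_ (hne hu2.unit)
      have e : lam (hu2.unit : R) = (r : R) * (hu2.unit : R) := hla
      rw [e, mul_comm (r : R), ← mul_assoc, Units.inv_mul, one_mul]
    · haveI := Ideal.isMaximal_comap_of_isIntegral_of_isMaximal (R := S) M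
      have htm : t ∈ M.comap (algebraMap S R) := by
        rw [IsLocalRing.eq_maximalIdeal (inferInstance : (M.comap (algebraMap S R)).IsMaximal)]
        exact hu
      rw [Ideal.mem_comap, ht, hla, mul_comm, mul_assoc] at htm
      rcases hM.isPrime.mem_or_mem htm with h2 | h2
      · exact absurd (Ideal.eq_top_of_isUnit_mem _ h2 r.isUnit) hM.ne_top
      · exact (hM.isPrime.mem_or_mem h2).elim id id
  obtain ⟨M, hM⟩ := Ideal.exists_maximal R
  refine hM.ne_top (Ideal.eq_top_of_isUnit_mem _ ?_ hr₀)
  have h1 := key 1 M hM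
  have h2 := key r₀ M hM
  rw [map_one, mul_one] at h1
  convert M.sub_mem h2 (M.mul_mem_right (lam r₀) h1) using 1
  ring

end Groth.Agent.S15580
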