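import Mathlib
import Groth.Statements.S15581
-- import your own Groth.Agent.* helpers here

set_option autoImplicit false
universe u v
open RInv

namespace Groth.Agent.S15581

/-- Let `A` be a commutative ring with an involution `lam` whose fixed ring `B` is local with `2`
invertible. Then `Jac(A)^2 ⊆ Jac(B) A`. -/
theorem result (B : Type u) (A : Type v) [CommRing B]
    [CommRing A] [Algebra B A] (lam : A ≃+* A) (hlam : Function.Involutive lam)
    (hB : RInv.IsFixedRing B A lam) [IsLocalRing B] (h2 : IsUnit (2 : B)) :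
    (Ring.jacobson A) ^ 2 ≤ (IsLocalRing.maximalIdeal B).map (algebraMap B A) := by
  obtain ⟨hinj, hfix⟩ := hB
  obtain ⟨w, hw⟩ := h2
  set c := algebraMap B A ↑w⁻¹ with hc
  have hc2 : c * 2 = 1 := by
    rw [hc, ← map_ofNat (algebraMap B A) 2, ← map_mul, ← hw, Units.inv_mul, map_one]
  have hlc : lam c = c := (hfix c).2 ⟨_, rfl⟩
  have hlJ : ∀ x ∈ Ring.jacobson A, lam x ∈ Ring.jacobson A := by
    intro x hx
    rw [Ring.jacobson_eq_sInf_isMaximal, Submodule.mem_sInf] at hx ⊢
    intro (M : Ideal A) (hM : M.IsMaximal)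
    haveI := hM
    exact hx (M.comap lam.toRingHom) (Ideal.comap_isMaximal_of_surjective lam.toRingHom lam.surjective)
  have hm : ∀ y ∈ Ring.jacobson A, lam y = y → y ∈ (IsLocalRing.maximalIdeal B).map (algebraMap B A) := by
    intro y hy hly
    obtain ⟨t, rfl⟩ := (hfix y).1 hly
    refine Ideal.mem_map_of_mem _ ?_
    show ¬ IsUnit t
    intro hu
    rcases subsingleton_or_nontrivial A with hA | hA
    · exact one_ne_zero (hinj (Subsingleton.elim (algebraMap B A 1) (algebraMap B A 0)))
    rw [Ring.jacobson_eq_sInf_isMaximal, Submodule.mem_sInf] at hy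
    obtain ⟨M, hM⟩ := Ideal.exists_maximal A
    exact hM.ne_top (Ideal.eq_top_of_isUnit_mem _ (hy M hM) (hu.map _))
  have hJ : ∀ x ∈ Ring.jacobson A, c * (x + lam x) ∈ (IsLocalRing.maximalIdeal B).map (algebraMap B A) := fun x hx =>
    hm _ (Ideal.mul_mem_left _ _ (add_mem hx (hlJ x hx))) (by rw [map_mul, hlc, map_add, hlam, add_comm])
  rw [sq, Ideal.mul_le]
  intro x hx y hy
  have hxy : c * (x - lam x) * (c * (y - lam y)) ∈ (IsLocalRing.maximalIdeal B).map (algebraMap B A) :=
    hm _ (Ideal.mul_mem_right _ _ (Ideal.mul_mem_left _ _ (sub_mem hx (hlJ x hx))))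
      (by simp only [map_mul, map_sub, hlc, hlam.eq_iff.2, hlam x, hlam y]; ring)
  have e : x * y = c * (x + lam x) * y + (c * (x - lam x) * (c * (y + lam y)) + c * (x - lam x) * (c * (y - lam y))) := by
    linear_combination (-(x * y) - c * (x - lam x) * y) * hc2
  rw [e]
  exact add_mem (Ideal.mul_mem_right _ _ (hJ x hx)) (add_mem (Ideal.mul_mem_left _ _ (hJ y hy)) hxy)

end Groth.Agent.S15581
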