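import Groth.Statements.S15582
import Mathlib.Topology.Sheaves.LocallySurjective
import Mathlib.Topology.Sheaves.SheafCondition.UniqueGluing
import Mathlib.Topology.Sheaves.SheafCondition.Sites
import Mathlib.Topology.Sheaves.Functors
set_option linter.style.haveILetI false

set_option autoImplicit false
universe u
open CategoryTheory TopologicalSpace
open CohTop

namespace Groth.Agent.S15582

/-- Let `π : X → Y` be a continuous map such that every open set containing a fibre `π⁻¹(y)` contains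
the preimage of an open neighbourhood of `y`, and such that every fibre is finite with its points
separated by pairwise disjoint open sets of `X`. Then the direct image of sheaves of sets along `π`
preserves epimorphisms. -/
theorem result
    {X Y : TopCat.{u}} (π : X ⟶ Y)
    (h1 : ∀ (y : Y) (U : Set X), IsOpen U → π ⁻¹' {y} ⊆ U →
      ∃ V : Set Y, IsOpen V ∧ y ∈ V ∧ π ⁻¹' V ⊆ U)
    (h2 : ∀ y : Y, (π ⁻¹' {y}).Finite ∧ ∃ U : X → Set X,
      (∀ x ∈ π ⁻¹' {y}, IsOpen (U x) ∧ x ∈ U x) ∧ (π ⁻¹' {y}).PairwiseDisjoint U) :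
    (TopCat.Sheaf.pushforward (Type u) π).PreservesEpimorphisms := by
  classical
  refine ⟨fun {F G} φ hφ => ?_⟩
  have hl := (TopCat.Sheaf.isLocallySurjective_iff_epi φ).2 hφ
  rw [TopCat.Presheaf.isLocallySurjective_iff] at hl
  refine (TopCat.Sheaf.isLocallySurjective_iff_epi _).1 ?_
  rw [TopCat.Presheaf.isLocallySurjective_iff]
  intro V t y hy
  obtain ⟨hfin, U, hU, hdisj⟩ := h2 y
  let π' : Opens X := (Opens.map π).obj V
  have hx : ∀ x : (π ⁻¹' {y} : Set X), (x : X) ∈ π' := fun x => by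
    show π x.1 ∈ V
    rw [show π x.1 = y from x.2]; exact hy
  choose W hW hWs hxW using fun x : (π ⁻¹' {y} : Set X) => hl π' t x.1 (hx x)
  choose s hs using hWs
  let W' : (π ⁻¹' {y} : Set X) → Opens X := fun x => W x ⊓ ⟨U x.1, (hU x.1 x.2).1⟩
  let s' : ∀ x, F.obj.obj (Opposite.op (W' x)) := fun x => F.obj.map (homOfLE (inf_le_left : W' x ≤ W x)).op (s x)
  have hcompat : TopCat.Presheaf.IsCompatible F.obj W' s' := by
    intro a b
    by_cases hab : a = b
    · subst hab; rfl
    have hbot : W' a ⊓ W' b = ⊥ := by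
      refine Opens.ext (Set.eq_empty_of_forall_notMem fun z hz => ?_)
      exact Set.disjoint_left.1 (hdisj a.2 b.2 (fun h => hab (Subtype.ext h))) hz.1.2 hz.2.2
    have ht := CategoryTheory.Limits.Types.isTerminalEquivUnique _ (hbot ▸ F.isTerminalOfEmpty :
      CategoryTheory.Limits.IsTerminal (F.obj.obj (Opposite.op (W' a ⊓ W' b))))
    exact (ht.eq_default _).trans (ht.eq_default _).symm
  obtain ⟨gl, hgl, -⟩ := F.existsUnique_gluing W' s' hcompat
  obtain ⟨V₀, hV₀o, hyV₀, hV₀⟩ := h1 y (iSup W' : Opens X) (iSup W' : Opens X).2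
    (fun x hx' => Opens.mem_iSup.2 ⟨⟨x, hx'⟩, hxW ⟨x, hx'⟩, (hU x hx').2⟩)
  let V' : Opens Y := ⟨V₀, hV₀o⟩ ⊓ V
  refine ⟨V', inf_le_right, ⟨F.obj.map (homOfLE (show (Opens.map π).obj V' ≤ iSup W' from
    fun z hz => hV₀ hz.1)).op gl, ?_⟩, ⟨hyV₀, hy⟩⟩
  let A : Opens X := (Opens.map π).obj V'
  let C : (π ⁻¹' {y} : Set X) → Opens X := fun x => A ⊓ W' x
  refine G.eq_of_locally_eq' C A (fun x => homOfLE inf_le_left) (fun z hz => ?_) _ _ (fun x => ?_)
  · obtain ⟨x, hxz⟩ := Opens.mem_iSup.1 (show z ∈ iSup W' from hV₀ hz.1)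
    exact Opens.mem_iSup.2 ⟨x, hz, hxz⟩
  · show G.obj.map _ (φ.hom.app _ (F.obj.map _ gl)) = _
    rw [← NatTrans.naturality_apply φ.hom]
    have comp : ∀ (H : TopCat.Sheaf (Type u) X) {a b c : Opens X} (f : a ⟶ b) (g : b ⟶ c) (h : a ⟶ c)
        (z : H.obj.obj (Opposite.op c)), H.obj.map f.op (H.obj.map g.op z) = H.obj.map h.op z := by
      intro H a b c f g h z
      rw [← ConcreteCategory.comp_apply, ← H.obj.map_comp]
      rfl
    have hle : C x ≤ W x := le_trans inf_le_right inf_le_left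
    have e2 := congrArg (G.obj.map (homOfLE hle).op) (hs x)
    rw [← NatTrans.naturality_apply φ.hom] at e2
    have e1 : F.obj.map (homOfLE (inf_le_left : C x ≤ A)).op
        (F.obj.map (homOfLE (show A ≤ iSup W' from fun z hz => hV₀ hz.1)).op gl) =
        F.obj.map (homOfLE hle).op (s x) := by
      refine ((comp F _ _ (homOfLE ((inf_le_right : C x ≤ W' x).trans (le_iSup W' x))) gl).trans ?_)
      rw [← comp F (homOfLE (inf_le_right : C x ≤ W' x)) (Opens.leSupr W' x) _ gl, hgl x]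
      exact comp F _ _ _ _
    refine (congrArg (φ.hom.app _) e1).trans (e2.trans ?_)
    have hπ : C x ≤ π' := fun z hz => hz.1.2
    exact (comp G _ (homOfLE (hW x)) (homOfLE hπ) t).trans
      (comp G (homOfLE (inf_le_left : C x ≤ A)) ((Opens.map π).map (homOfLE (inf_le_right : V' ≤ V))) (homOfLE hπ) t).symm

end Groth.Agent.S15582
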