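import Groth.Statements.S15583
import Groth.Agent.HermDiag.Basic

set_option autoImplicit false
universe u v
open RInv

namespace Groth.Agent.S15583

/-- Let `A` be a commutative ring with an involution `lam` whose fixed ring `B` is local, let `ε = ±1`,
and let `h` be an invertible `n × n` matrix over `A` that is `(ε, lam)`-hermitian: `h` equals `ε`
times the transpose of `lam` applied entrywise to `h`. If `lam` is not the identity modulo the
Jacobson radical of `A`, or `ε ≠ -1` modulo that radical, or `n` is odd, then `h` is congruent to a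
diagonal matrix: there is an invertible `v` with `(lam v)ᵀ h v` diagonal. -/
theorem result (B : Type u) (A : Type v) [CommRing B] [CommRing A]
    [Algebra B A] (lam : A ≃+* A) (hlam : Function.Involutive lam) (hB : RInv.IsFixedRing B A lam)
    [IsLocalRing B] (n : ℕ) (ε : A) (hε : ε = 1 ∨ ε = -1) (h : Matrix (Fin n) (Fin n) A)
    (hh : IsUnit h) (herm : ε • (h.map lam).transpose = h)
    (hcase : (∃ a : A, lam a - a ∉ Ring.jacobson A) ∨ ε + 1 ∉ Ring.jacobson A ∨ Odd n) :
    ∃ v : Matrix (Fin n) (Fin n) A, IsUnit v ∧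
      ∃ d : Fin n → A, (v.map lam).transpose * h * v = Matrix.diagonal d := by
  letI : StarRing A :=
    { star := lam
      star_involutive := hlam
      star_mul := fun a b => by
        show lam (a * b) = lam b * lam a
        rw [map_mul, mul_comm]
      star_add := fun a b => map_add lam a b }
  rcases subsingleton_or_nontrivial A with hA | hA
  · exact ⟨1, isUnit_one, fun _ => 0, Subsingleton.elim _ _⟩
  obtain ⟨M, hMmax⟩ := Ideal.exists_maximal A
  have hinv : ∀ w, lam (lam w) = w := hlam
  have hnorm : ∀ w, ∃ b, algebraMap B A b = w * lam w := fun w =>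
    (hB.2 _).mp (by rw [map_mul, hinv, mul_comm])
  have htr : ∀ w, ∃ b, algebraMap B A b = w + lam w := fun w =>
    (hB.2 _).mp (by rw [map_add, hinv, add_comm])
  have hfix : ∀ b : B, lam (algebraMap B A b) = algebraMap B A b := fun b => (hB.2 _).mpr ⟨b, rfl⟩
  have hbM : ∀ b : B, ¬ IsUnit b → ∀ N : Ideal A, N.IsMaximal → algebraMap B A b ∈ N := by
    intro b hb N hN
    by_contra hbN
    obtain ⟨c, m, hm, hcm⟩ := hN.exists_inv hbN
    obtain ⟨t, ht⟩ := htr c
    obtain ⟨s, hs⟩ := hnorm c
    have hk : algebraMap B A (1 - b * (t - b * s)) = m * lam m := by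
      have em : m = 1 - c * algebraMap B A b := by rw [← hcm]; ring
      rw [map_sub, map_one, map_mul, map_sub, map_mul, ht, hs, em, map_sub, map_one, map_mul, hfix]
      ring
    rcases IsLocalRing.isUnit_or_isUnit_one_sub_self (b * (t - b * s)) with h1 | h1
    · exact hb (isUnit_of_mul_isUnit_left h1)
    · have h2 := h1.map (algebraMap B A)
      rw [hk] at h2
      exact hN.ne_top (N.eq_top_of_isUnit_mem (N.mul_mem_right _ hm) h2)
  have hM : ∀ w : A, w ∉ M → star w ∉ M → IsUnit w := by
    intro w hw hw'
    by_contra hu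
    obtain ⟨b, hb⟩ := hnorm w
    have hbu : ¬ IsUnit b := fun hbu => hu (isUnit_of_mul_isUnit_left (hb ▸ hbu.map (algebraMap B A)))
    have := hbM b hbu M hMmax
    rw [hb] at this
    exact (hMmax.isPrime.mem_or_mem this).elim hw hw'
  have hJ : ∀ w : A, w ∈ M → star w ∈ M → w ∈ Ring.jacobson A := by
    intro w hw hw'
    rw [Ring.jacobson_eq_sInf_isMaximal]
    refine Submodule.mem_sInf.mpr fun (N : Ideal A) hN => ?_
    have hN' : N.IsMaximal := hN
    by_contra hwN
    obtain ⟨c, m, hm, hcm⟩ := hN'.exists_inv hwN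
    have hm1 : m ∉ M := fun h => hMmax.ne_top ((Ideal.eq_top_iff_one M).mpr
      (hcm ▸ add_mem (M.mul_mem_left c hw) h))
    have hm2 : star m ∉ M := fun h => hMmax.ne_top ((Ideal.eq_top_iff_one M).mpr (by
      have e := congrArg star hcm
      rw [star_add, star_mul, star_one] at e
      exact e ▸ add_mem (M.mul_mem_right _ hw') h))
    exact hN'.ne_top (N.eq_top_of_isUnit_mem hm (hM m hm1 hm2))
  have hε2 : ε * ε = 1 := by rcases hε with rfl | rfl <;> ring
  have hεs : star ε = ε := by
    rcases hε with rfl | rfl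
    · exact map_one lam
    · show lam (-1) = -1
      rw [map_neg, map_one]
  have hh' : h.conjTranspose = ε • h := by
    calc h.conjTranspose = (ε * ε) • h.conjTranspose := by rw [hε2, one_smul]
      _ = ε • (ε • (h.map lam).transpose) := by rw [smul_smul]; rfl
      _ = ε • h := by rw [herm]
  have := hMmax.isPrime
  obtain ⟨V, hV, d, hd⟩ := Groth.Agent.HermDiag.exists_diag M hε2 hεs hM n h hh' hh
    (Groth.Agent.HermDiag.exists_q_notMem M hε2 hM hh' hh hcase hJ)
  exact ⟨V, hV, d, hd⟩

end Groth.Agent.S15583
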