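import Groth.Statements.S15585
import Mathlib.RingTheory.Unramified.Field
import Mathlib.RingTheory.LocalRing.Quotient
import Mathlib.RingTheory.LocalRing.Module
import Mathlib.RingTheory.Artinian.Ring
import Mathlib.RingTheory.Spectrum.Prime.FreeLocus
set_option linter.unusedVariables false

set_option autoImplicit false
universe u v
open RInv

namespace Groth.Agent.S15585

/-- For a local ring `S` (maximal ideal `m`, residue field `k`) and a quadratic etale `S`-algebra `R`,
the ring `R/mR` is a field that is a separable extension of `k` of degree 2, or else it is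
isomorphic as a `k`-algebra to `k × k`. -/
theorem result (S : Type u) (R : Type v) [CommRing S]
    [CommRing R] [Algebra S R] [IsLocalRing S] (hq : RInv.IsQuadEtale S R) :
    (IsField (R ⧸ (IsLocalRing.maximalIdeal S).map (algebraMap S R)) ∧
      Module.finrank (S ⧸ IsLocalRing.maximalIdeal S)
        (R ⧸ (IsLocalRing.maximalIdeal S).map (algebraMap S R)) = 2 ∧
      Algebra.IsSeparable (S ⧸ IsLocalRing.maximalIdeal S)
        (R ⧸ (IsLocalRing.maximalIdeal S).map (algebraMap S R))) ∨
    Nonempty ((R ⧸ (IsLocalRing.maximalIdeal S).map (algebraMap S R)) ≃ₐ[S ⧸ IsLocalRing.maximalIdeal S]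
      ((S ⧸ IsLocalRing.maximalIdeal S) × (S ⧸ IsLocalRing.maximalIdeal S))) := by
  obtain ⟨hfin, hproj, hunr, hrank⟩ := hq
  set m := IsLocalRing.maximalIdeal S with hm
  letI : Field (S ⧸ m) := Ideal.Quotient.field m
  haveI : Module.Free S R := Module.free_of_flat_of_isLocalRing
  have h2 : Module.finrank S R = 2 := by
    have := hrank ⟨m, inferInstance⟩
    rw [Module.rankAtStalk_eq_finrank_of_free] at this
    exact this
  set Q := R ⧸ m.map (algebraMap S R)
  have hQ2 : Module.finrank (S ⧸ m) Q = 2 := (IsLocalRing.finrank_quotient_map (R := S) (S := R)).trans h2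
  haveI : Module.Finite (S ⧸ m) Q := Module.Finite.of_restrictScalars_finite S _ _
  haveI : Nontrivial Q := Module.nontrivial_of_finrank_eq_succ hQ2
  haveI : Algebra.FormallyUnramified R Q := Algebra.FormallyUnramified.of_surjective (Algebra.ofId R Q) Ideal.Quotient.mk_surjective
  haveI : Algebra.FormallyUnramified S Q := Algebra.FormallyUnramified.comp S R Q
  haveI : Algebra.FormallyUnramified (S ⧸ m) Q := Algebra.FormallyUnramified.of_restrictScalars S (S ⧸ m) Q
  haveI : Algebra.EssFiniteType (S ⧸ m) Q := inferInstance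
  haveI : IsReduced Q := Algebra.FormallyUnramified.isReduced_of_field (S ⧸ m) Q
  haveI : IsArtinianRing Q := IsArtinianRing.of_finite (S ⧸ m) Q
  by_cases hone : ∃! I : Ideal Q, I.IsMaximal
  · haveI : IsLocalRing Q := IsLocalRing.of_unique_max_ideal hone
    have hF : IsField Q := IsArtinianRing.isField_of_isReduced_of_isLocalRing Q
    refine Or.inl ⟨hF, hQ2, ?_⟩
    letI : Field Q := hF.toField
    exact Algebra.FormallyUnramified.isSeparable (S ⧸ m) Q
  · refine Or.inr ?_
    obtain ⟨I, hI⟩ := Ideal.exists_maximal Q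
    obtain ⟨J, hJ, hne⟩ : ∃ J : Ideal Q, J.IsMaximal ∧ J ≠ I := by
      by_contra h
      push Not at h
      exact hone ⟨I, hI, h⟩
    let f : Q →ₐ[S ⧸ m] (Q ⧸ I) × (Q ⧸ J) := (Ideal.Quotient.mkₐ (S ⧸ m) I).prod (Ideal.Quotient.mkₐ (S ⧸ m) J)
    have hsurj : Function.Surjective f := by
      rintro ⟨a, b⟩
      obtain ⟨a, rfl⟩ := Ideal.Quotient.mk_surjective a
      obtain ⟨b, rfl⟩ := Ideal.Quotient.mk_surjective b
      obtain ⟨i, hi, j, hj, hij⟩ := Submodule.mem_sup.1
        ((Ideal.eq_top_iff_one _).1 (hI.coprime_of_ne hJ (Ne.symm hne)))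
      refine ⟨a * j + b * i, Prod.ext ?_ ?_⟩
      · change Ideal.Quotient.mk I (a * j + b * i) = Ideal.Quotient.mk I a
        rw [Ideal.Quotient.mk_eq_mk_iff_sub_mem]
        have : a * j + b * i - a = (b - a) * i + a * (i + j - 1) := by ring
        rw [this, hij, sub_self, mul_zero, add_zero]
        exact I.mul_mem_left _ hi
      · change Ideal.Quotient.mk J (a * j + b * i) = Ideal.Quotient.mk J b
        rw [Ideal.Quotient.mk_eq_mk_iff_sub_mem]
        have : a * j + b * i - b = (a - b) * j + b * (i + j - 1) := by ring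
        rw [this, hij, sub_self, mul_zero, add_zero]
        exact J.mul_mem_left _ hj
    haveI : Nontrivial (Q ⧸ I) := Ideal.Quotient.nontrivial_iff.2 hI.ne_top
    haveI : Nontrivial (Q ⧸ J) := Ideal.Quotient.nontrivial_iff.2 hJ.ne_top
    have h1 := LinearMap.finrank_range_add_finrank_ker f.toLinearMap
    rw [LinearMap.range_eq_top.2 hsurj, finrank_top, hQ2, Module.finrank_prod] at h1
    have hI1 : 0 < Module.finrank (S ⧸ m) (Q ⧸ I) := Module.finrank_pos
    have hJ1 : 0 < Module.finrank (S ⧸ m) (Q ⧸ J) := Module.finrank_pos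
    have hinj : Function.Injective f := by
      have h0 : Module.finrank (S ⧸ m) (LinearMap.ker f.toLinearMap) = 0 := by omega
      exact LinearMap.ker_eq_bot.1 (Submodule.finrank_eq_zero.1 h0)
    have hb : ∀ (T : Type v) [CommRing T] [Nontrivial T] [Algebra (S ⧸ m) T] [Module.Finite (S ⧸ m) T],
        Module.finrank (S ⧸ m) T = 1 → Nonempty ((S ⧸ m) ≃ₐ[S ⧸ m] T) := by
      intro T _ _ _ _ hT
      refine ⟨AlgEquiv.ofBijective (Algebra.ofId (S ⧸ m) T) ⟨(algebraMap (S ⧸ m) T).injective, fun x => ?_⟩⟩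
      obtain ⟨c, hc⟩ := (finrank_eq_one_iff_of_nonzero' (1 : T) one_ne_zero).1 hT x
      exact ⟨c, by rw [← hc, Algebra.smul_def, mul_one]; rfl⟩
    obtain ⟨eI⟩ := hb (Q ⧸ I) (by omega)
    obtain ⟨eJ⟩ := hb (Q ⧸ J) (by omega)
    exact ⟨(AlgEquiv.ofBijective f ⟨hinj, hsurj⟩).trans (AlgEquiv.prodCongr eI.symm eJ.symm)⟩

end Groth.Agent.S15585
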