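import Mathlib
import Groth.Statements.S15586
-- import your own Groth.Agent.* helpers here

set_option autoImplicit false
universe u v w
open scoped TensorProduct
open RInv

namespace Groth.Agent.S15586

/-- Let `R` be a commutative ring with an involution `lam` and fixed ring `S`, and let `S'` be a
commutative `S`-algebra. If `S'` is flat over `S`, or if `2` is invertible in `S`, then `S'` is the
fixed ring of the base-changed involution `id ⊗ lam` of `S' ⊗_S R`: the structure map `S' → S' ⊗_S
R` is injective with image the fixed elements. (In general the fixed ring does not commute with base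
change.) -/
theorem result (S : Type u) (R : Type v) (S' : Type w)
    [CommRing S] [CommRing R] [Algebra S R] [CommRing S'] [Algebra S S']
    (lam : R ≃ₐ[S] R) (hlam : Function.Involutive lam)
    (hS : RInv.IsFixedRing S R lam.toRingEquiv)
    (h : Module.Flat S S' ∨ IsUnit (2 : S)) :
    RInv.IsFixedRing S' (S' ⊗[S] R)
      (Algebra.TensorProduct.congr (AlgEquiv.refl : S' ≃ₐ[S] S') lam).toRingEquiv := by
  classical
  let ι : S →ₗ[S] R := Algebra.linearMap S R
  let dd : R →ₗ[S] R := lam.toLinearMap - LinearMap.id
  have hex : Function.Exact ι dd := by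
    intro r
    change lam r - r = 0 ↔ _
    rw [sub_eq_zero]
    exact hS.2 r
  have halg : ∀ s' : S', algebraMap S' (S' ⊗[S] R) s' = ι.lTensor S' (s' ⊗ₜ[S] (1 : S)) := fun s' => by
    rw [LinearMap.lTensor_tmul, Algebra.TensorProduct.algebraMap_apply]
    simp [ι]
  have hrange : Set.range (algebraMap S' (S' ⊗[S] R)) = Set.range (ι.lTensor S') := by
    ext z
    constructor
    · rintro ⟨s', rfl⟩; exact ⟨_, (halg s').symm⟩
    · rintro ⟨w, rfl⟩
      refine ⟨TensorProduct.rid S S' w, ?_⟩
      rw [halg]
      exact congrArg _ ((TensorProduct.rid S S').symm_apply_apply w)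
  have hdd : ∀ z : S' ⊗[S] R, dd.lTensor S' z = (Algebra.TensorProduct.congr (AlgEquiv.refl : S' ≃ₐ[S] S') lam) z - z := by
    intro z
    induction z using TensorProduct.induction_on with
    | zero => simp
    | tmul a r => simp [dd, TensorProduct.tmul_sub]
    | add a b ha hb => rw [map_add, map_add, ha, hb]; abel
  have key : Function.Injective (ι.lTensor S') ∧ Function.Exact (ι.lTensor S') (dd.lTensor S') := by
    rcases h with h | h
    · exact ⟨Module.Flat.lTensor_preserves_injective_linearMap ι hS.1, Module.Flat.lTensor_exact S' hex⟩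
    · obtain ⟨t, ht⟩ := h.exists_left_inv
      let A : R →ₗ[S] R := t • (lam.toLinearMap + LinearMap.id)
      have hA : ∀ r, A r ∈ LinearMap.range ι := fun r => by
        refine (hS.2 _).mp ?_
        change lam (t • (lam r + r)) = t • (lam r + r)
        rw [map_smul, map_add, hlam r, add_comm]
      let ρ : R →ₗ[S] S := (LinearEquiv.ofInjective ι hS.1).symm.toLinearMap ∘ₗ A.codRestrict (LinearMap.range ι) hA
      have hρ : ∀ r, ι (ρ r) = A r := fun r => by
        exact congrArg Subtype.val ((LinearEquiv.ofInjective ι hS.1).apply_symm_apply ⟨A r, hA r⟩)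
      have hρι : ρ ∘ₗ ι = LinearMap.id := by
        refine LinearMap.ext fun s => hS.1 ?_
        change ι (ρ (ι s)) = ι s
        rw [hρ]
        change t • (lam (algebraMap S R s) + algebraMap S R s) = algebraMap S R s
        rw [AlgEquiv.commutes, ← two_smul S, smul_smul, ht, one_smul]
      refine ⟨fun a b hab => ?_, fun z => ⟨fun hz => ?_, ?_⟩⟩
      · simpa [← LinearMap.lTensor_comp_apply, hρι] using congrArg (ρ.lTensor S') hab
      · refine ⟨ρ.lTensor S' z, ?_⟩
        have hid : ι ∘ₗ ρ = t • dd + LinearMap.id := by
          refine LinearMap.ext fun r => ?_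
          change ι (ρ r) = t • (lam r - r) + r
          rw [hρ]
          change t • (lam r + r) = _
          have e : t • r + t • r = r := by rw [← two_smul S, smul_smul, mul_comm, ht, one_smul]
          conv_rhs => arg 2; rw [← e]
          rw [smul_sub, smul_add]; abel
        rw [← LinearMap.lTensor_comp_apply, hid]
        simp [LinearMap.lTensor_add, LinearMap.lTensor_smul, hz]
      · rintro ⟨w, rfl⟩
        rw [← LinearMap.lTensor_comp_apply, hex.linearMap_comp_eq_zero]
        simp
  refine ⟨fun a b hab => ?_, fun z => ?_⟩
  · rw [halg, halg] at hab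
    simpa using congrArg (TensorProduct.rid S S') (key.1 hab)
  · rw [hrange, ← key.2 z, hdd, sub_eq_zero]
    rfl

end Groth.Agent.S15586
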