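import Mathlib
import Groth.Statements.S15590
-- import your own Groth.Agent.* helpers here

set_option autoImplicit false
universe u v
open CAlg

namespace Groth.Agent.S15590

/-- Let A → B be an injective homomorphism of commutative rings which makes B a finite flat A-module,
and suppose B is a Dedekind domain (Noetherian, integrally closed, of Krull dimension at most one; a
field is allowed). Then A is a Dedekind domain. -/
theorem result (A : Type u) (B : Type v)
    [CommRing A] [CommRing B] [Algebra A B] [IsDedekindDomain B]
    (hinj : Function.Injective (algebraMap A B)) [Module.Finite A B] [Module.Flat A B] :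
    IsDedekindDomain A := by
  haveI : FaithfulSMul A B := (faithfulSMul_iff_algebraMap_injective A B).mpr hinj
  haveI : IsDomain A := hinj.isDomain _
  haveI : Algebra.IsIntegral A B := Algebra.IsIntegral.of_finite A B
  haveI : Module.FaithfullyFlat A B := Module.FaithfullyFlat.of_isIntegral_of_isDomain ..
  haveI : IsNoetherianRing A := by
    rw [IsNoetherianRing, isNoetherian_iff]
    refine Subrelation.wf (fun {I J} (h : I > J) => ?_) (InvImage.wf (Ideal.map (algebraMap A B)) (wellFounded_gt (α := Ideal B)))
    exact lt_of_le_of_ne (Ideal.map_mono h.le) fun he => h.ne (by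
      have := congrArg (Ideal.comap (algebraMap A B)) he
      rwa [Ideal.comap_map_eq_self_of_faithfullyFlat, Ideal.comap_map_eq_self_of_faithfullyFlat] at this)
  haveI : Ring.DimensionLEOne A := ⟨fun {p} hp hpp => by
    haveI := hpp
    obtain ⟨Q, hQ, hQp⟩ := Ideal.exists_isPrime_liesOver_of_faithfullyFlat (A := A) (B := B) p
    have hQ0 : Q ≠ ⊥ := fun h0 => hp (by
      rw [hQp.over, h0]
      exact (RingHom.injective_iff_ker_eq_bot _).mp hinj)
    haveI : Q.IsMaximal := hQ.isMaximal hQ0
    rw [hQp.over]
    exact Ideal.isMaximal_comap_of_isIntegral_of_isMaximal Q⟩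
  haveI : IsIntegrallyClosed A := by
    rw [isIntegrallyClosed_iff (FractionRing A)]
    intro x hx
    obtain ⟨a, b, hb, rfl⟩ := IsFractionRing.div_surjective A x
    have hb' : b ≠ 0 := nonZeroDivisors.ne_zero hb
    let φ : FractionRing A →ₐ[A] FractionRing B := IsFractionRing.liftAlgHom
      (g := Algebra.ofId A (FractionRing B)) (fun u v h => hinj (IsFractionRing.injective B (FractionRing B) (by
        rw [← IsScalarTower.algebraMap_apply, ← IsScalarTower.algebraMap_apply]; exact h)))
    have hi : IsIntegral B (φ (algebraMap A _ a / algebraMap A _ b)) := (hx.map φ).tower_top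
    obtain ⟨c, hc⟩ := IsIntegrallyClosed.isIntegral_iff.mp hi
    rw [map_div₀, AlgHom.commutes, AlgHom.commutes, IsScalarTower.algebraMap_apply A B (FractionRing B) a, IsScalarTower.algebraMap_apply A B (FractionRing B) b] at hc
    have hne : algebraMap B (FractionRing B) (algebraMap A B b) ≠ 0 := fun h0 => hb' (hinj (by
      rw [map_zero]; exact IsFractionRing.injective B (FractionRing B) (by rw [h0, map_zero])))
    rw [eq_div_iff hne, ← map_mul] at hc
    have hmem : a ∈ ((Ideal.span {b}).map (algebraMap A B)).comap (algebraMap A B) := by
      rw [Ideal.mem_comap, Ideal.map_span, Set.image_singleton, Ideal.mem_span_singleton]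
      exact ⟨c, by rw [← IsFractionRing.injective B (FractionRing B) hc, mul_comm]⟩
    rw [Ideal.comap_map_eq_self_of_faithfullyFlat, Ideal.mem_span_singleton] at hmem
    obtain ⟨y, rfl⟩ := hmem
    refine ⟨y, ?_⟩
    rw [map_mul, mul_div_cancel_left₀]
    exact fun h0 => hb' (IsFractionRing.injective A (FractionRing A) (by rw [h0, map_zero]))
  exact {}

end Groth.Agent.S15590
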