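import Groth.Statements.S15593
import Mathlib
import Groth.Agent.GrpSchField.Isogeny
import Groth.Agent.UnitProd.SmoothReduced
-- import your own Groth.Agent.* helpers here

set_option autoImplicit false
universe u
open CategoryTheory MonoidalCategory CartesianMonoidalCategory MonObj GrpObj AlgebraicGeometry
open AlgGrp

namespace Groth.Agent.S15593

/-- Let k be a field and f : G ⟶ G' a homomorphism of smooth k-group schemes of finite type. If f is
surjective (on underlying topological spaces) and has trivial kernel, that is, f is a monomorphism,
then f is an isomorphism. No flatness of f is assumed. -/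
theorem result (k : Type u) [Field k]
    (G G' : Over (Spec (CommRingCat.of k))) [GrpObj G] [GrpObj G']
    [Smooth G.hom] [QuasiCompact G.hom] [Smooth G'.hom] [QuasiCompact G'.hom]
    (f : G ⟶ G') [IsMonHom f] [Mono f] [Surjective f.left] : IsIso f := by
  have : IsReduced G'.left := Groth.Agent.UnitProd.isReduced_left_of_smooth G'.hom
  have : Flat f.left := Groth.Agent.GrpSchField.flat_of_surjective f
  have : LocallyOfFinitePresentation (f.left ≫ G'.hom) := by rw [Over.w f]; infer_instance
  have : LocallyOfFinitePresentation f.left :=
    Groth.Agent.GrpSchField.locallyOfFinitePresentation_of_comp f.left G'.hom inferInstance inferInstance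
  have : Mono f.left := inferInstanceAs (Mono ((Over.forget _).map f))
  have : IsOpenImmersion f.left := IsOpenImmersion.of_flat_of_mono f.left
  have : IsIso f.left := (isIso_iff_isOpenImmersion_and_surjective f.left).mpr ⟨inferInstance, inferInstance⟩
  have : IsIso ((Over.forget _).map f) := this
  exact isIso_of_reflects_iso f (Over.forget _)

end Groth.Agent.S15593
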