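import Groth.Statements.S15596
import Mathlib.AlgebraicGeometry.AlgClosed.Basic
-- import your own Groth.Agent.* helpers here

set_option autoImplicit false
universe u
open CategoryTheory MonoidalCategory CartesianMonoidalCategory MonObj GrpObj AlgebraicGeometry
open AlgGrp

namespace Groth.Agent.S15596

/-- Let k be an algebraically closed field, H a smooth k-group scheme of finite type, and U a dense open
subset of H. Then every k-rational point h of H is of the form u₂ · u₁⁻¹ for k-rational points u₁,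
u₂ of H whose underlying points lie in U. -/
theorem result (k : Type u) [Field k] [IsAlgClosed k]
    (H : Over (Spec (CommRingCat.of k))) [GrpObj H] [Smooth H.hom] [QuasiCompact H.hom]
    (U : H.left.Opens) (hU : Dense (U : Set ↥H.left)) (h : 𝟙_ (Over (Spec (CommRingCat.of k))) ⟶ H) :
    ∃ u₁ u₂ : 𝟙_ (Over (Spec (CommRingCat.of k))) ⟶ H,
      u₁.left.base (IsLocalRing.closedPoint k) ∈ U ∧ u₂.left.base (IsLocalRing.closedPoint k) ∈ U ∧
        h = u₂ * u₁⁻¹ := by
  have tc : ∀ (f g : H ⟶ H), f ≫ toUnit H = g ≫ toUnit H := fun _ _ => toUnit_unique _ _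
  let a : H ⟶ H := toUnit H ≫ h
  have ha : ∀ f : H ⟶ H, f ≫ a = a := fun f => by simp only [a, ← Category.assoc, toUnit_unique (f ≫ toUnit H) (toUnit H)]
  let e : H ≅ H :=
    { hom := a * 𝟙 H
      inv := a⁻¹ * 𝟙 H
      hom_inv_id := by rw [MonObj.comp_mul, GrpObj.comp_inv, ha, Category.comp_id, inv_mul_cancel_left]
      inv_hom_id := by rw [MonObj.comp_mul, ha, Category.comp_id, mul_inv_cancel_left] }
  have : JacobsonSpace ↥H.left := LocallyOfFiniteType.jacobsonSpace H.hom
  haveI : Nonempty ↥H.left := ⟨h.left.base (IsLocalRing.closedPoint k)⟩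
  let eh := AlgebraicGeometry.Scheme.Hom.homeomorph ((Over.forget _).mapIso e).hom
  have hd : Dense ((U : Set ↥H.left) ∩ e.hom.left.base ⁻¹' (U : Set ↥H.left)) := by
    refine hU.inter_of_isOpen_left ?_ U.isOpen
    exact hU.preimage eh.isOpenMap
  obtain ⟨x, hx, hxc⟩ := nonempty_inter_closedPoints hd.nonempty
    (U.isOpen.inter (U.isOpen.preimage e.hom.left.continuous)).isLocallyClosed
  let u : 𝟙_ (Over (Spec (CommRingCat.of k))) ⟶ H :=
    Over.homMk (pointOfClosedPoint H.hom x hxc) (pointOfClosedPoint_comp _ _ _)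
  have hu : u.left.base (IsLocalRing.closedPoint k) = x := pointOfClosedPoint_apply _ _ _ _
  refine ⟨u, u ≫ e.hom, hu ▸ hx.1, ?_, ?_⟩
  · show e.hom.left.base (u.left.base (IsLocalRing.closedPoint k)) ∈ U
    exact (congrArg e.hom.left.base hu).symm ▸ hx.2
  · show h = (u ≫ (a * 𝟙 H)) * u⁻¹
    rw [MonObj.comp_mul, Category.comp_id, mul_inv_cancel_right]
    simp only [a, ← Category.assoc, toUnit_unique (u ≫ toUnit H) (𝟙 _), Category.id_comp]

end Groth.Agent.S15596
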