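import Groth.Statements.S15602
import Groth.Agent.GroupLawLine.Add

set_option autoImplicit false
universe u
open CategoryTheory MonoidalCategory CartesianMonoidalCategory MonObj GrpObj AlgebraicGeometry
open AlgGrp

namespace Groth.Agent.S15602

open Groth.Agent Groth.Agent.GroupLawLine Groth.Agent.GaGmQuot in
theorem mul_eq_aux (k : Type u) [Field k] (G : Over (Spec (CommRingCat.of k)))
    (co : ∀ T, (T ⟶ G) → Γ(T.left, ⊤)) (hinj : ∀ T, Function.Injective (co T))
    (hsurj : ∀ T, Function.Surjective (co T))
    (hnat : ∀ {T T' : Over (Spec (CommRingCat.of k))} (f : T' ⟶ T) (x : T ⟶ G),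
      co T' (f ≫ x) = f.left.appTop (co T x))
    (h₁ h₂ : GrpObj G) (e : h₁.one = h₂.one) : h₁.mul = h₂.mul := by
  apply hinj
  have key : ∀ h : GrpObj G, co _ h.mul = co _ (fst G G) + co _ (snd G G) -
      str _ (cB co (toUnit (Aff k k) ≫ h.one)) := fun h => by
    letI := h
    have h' := co_mul_eq hinj hsurj hnat (G ⊗ G) (fst G G) (snd G G)
    rw [Hom.mul_def, lift_fst_snd, Category.id_comp] at h'
    exact h'
  rw [key h₁, key h₂, e]

/-- Additive case. Let k be a field and consider the affine line over k, taken here as the underlying
k-scheme of the additive group. Any two structures of k-group scheme on it with the same unit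
section have the same multiplication; in particular a group law on the affine line whose identity is
the origin is the usual addition. -/
theorem result (k : Type u) [Field k]
    (h₁ h₂ : GrpObj (Red.Ga (Spec (CommRingCat.of k)))) (e : h₁.one = h₂.one) : h₁.mul = h₂.mul :=
  mul_eq_aux k _ (fun _ => Red.gaFn) (fun _ => Groth.Agent.RedPts.gaFn_injective)
    (fun _ => Groth.Agent.RedPts.exists_gaFn) (fun f x => Groth.Agent.RedPts.gaFn_comp f x) h₁ h₂ e

end Groth.Agent.S15602
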