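import Groth.Statements.S15603
import Groth.Agent.GroupLawLine.Mul

set_option autoImplicit false
universe u
open CategoryTheory MonoidalCategory CartesianMonoidalCategory MonObj GrpObj AlgebraicGeometry
open AlgGrp

namespace Groth.Agent.S15603

open Groth.Agent Groth.Agent.GroupLawLine Groth.Agent.GaGmQuot in
theorem mul_eq_aux (k : Type u) [Field k] (G : Over (Spec (CommRingCat.of k)))
    (co : ∀ T, (T ⟶ G) → Γ(T.left, ⊤)) (hinj : ∀ T, Function.Injective (co T))
    (hunit : ∀ T x, IsUnit (co T x)) (hsurj : ∀ (T : Over (Spec (CommRingCat.of k))) (a : Γ(T.left, ⊤)ˣ), ∃ x, co T x = a)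
    (hnat : ∀ {T T' : Over (Spec (CommRingCat.of k))} (f : T' ⟶ T) (x : T ⟶ G),
      co T' (f ≫ x) = f.left.appTop (co T x))
    (h₁ h₂ : GrpObj G) (e : h₁.one = h₂.one) : h₁.mul = h₂.mul := by
  apply hinj
  have key : ∀ h : GrpObj G, co _ h.mul * str _ (cB co (toUnit (Aff k k) ≫ h.one)) =
      co _ (fst G G) * co _ (snd G G) := fun h => by
    letI := h
    have h' := co_mul_eq_units hinj hunit hsurj hnat (G ⊗ G) (fst G G) (snd G G)
    rw [Hom.mul_def, lift_fst_snd, Category.id_comp] at h'
    exact h'
  have h1 := key h₁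
  rw [e, ← key h₂] at h1
  let ψ : Γ((Aff k k).left, ⊤) →+* k := (Scheme.ΓSpecIso (CommRingCat.of k)).hom.hom
  have hu : IsUnit (cB co (toUnit (Aff k k) ≫ h₂.one)) := (hunit (Aff k k) _).map ψ
  exact (hu.map (str _)).mul_left_injective h1

/-- Multiplicative case. Let k be a field and consider the affine line minus the origin over k, taken
here as the underlying k-scheme of the multiplicative group. Any two structures of k-group scheme on
it with the same unit section have the same multiplication; in particular a group law on the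
punctured line whose identity is the point 1 is the usual multiplication. -/
theorem result (k : Type u) [Field k]
    (h₁ h₂ : GrpObj (Red.Gm (Spec (CommRingCat.of k)))) (e : h₁.one = h₂.one) : h₁.mul = h₂.mul :=
  mul_eq_aux k _ (fun _ => Red.gmFn) (fun _ => Groth.Agent.RedPts.gmFn_injective)
    (fun _ => Groth.Agent.RedPts.isUnit_gmFn)
    (fun _ => Groth.Agent.RedPts.exists_gmFn) (fun f x => Groth.Agent.RedPts.gmFn_comp f x) h₁ h₂ e

end Groth.Agent.S15603
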