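import Groth.Statements.S15604
import Groth.Agent.GrpdClosed.GroupImage
import Groth.Agent.GrpdClosed.Sub
import Groth.Agent.GrpSchField.SmoothCriterion
import Groth.Agent.GrpSchField.Subgroup
import Groth.Agent.UnitProd.SmoothReduced
-- import your own Groth.Agent.* helpers here

set_option autoImplicit false
universe u
open CategoryTheory MonoidalCategory CartesianMonoidalCategory MonObj GrpObj AlgebraicGeometry
open AlgGrp

namespace Groth.Agent.S15604

/-- Let k be a field and f : G ⟶ G' a homomorphism of k-group schemes of finite type, with G smooth over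
k. The image of f is closed (not asserted here); with its reduced induced structure it is smooth
over k: every reduced closed subscheme H of G' whose underlying set is the set-theoretic image of f
is smooth over k. -/
theorem result (k : Type u) [Field k]
    (G G' : Over (Spec (CommRingCat.of k))) [GrpObj G] [GrpObj G'] [Smooth G.hom] [QuasiCompact G.hom]
    [LocallyOfFiniteType G'.hom] [QuasiCompact G'.hom] (f : G ⟶ G') [IsMonHom f]
    (H : Scheme.{u}) (i : H ⟶ G'.left) [IsClosedImmersion i] [IsReduced H]
    (hH : Set.range i.base = Set.range f.left.base) : Smooth (i ≫ G'.hom) := by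
  haveI : IsSeparated G'.hom := inferInstance
  haveI : QuasiCompact f.left := by
    haveI : QuasiCompact (f.left ≫ G'.hom) := by rw [Over.w f]; infer_instance
    exact QuasiCompact.of_comp f.left G'.hom
  haveI : IsReduced G.left := Groth.Agent.UnitProd.isReduced_left_of_smooth G.hom
  let C : TopologicalSpace.Closeds G'.left := ⟨Set.range i.base, i.isClosedEmbedding.isClosed_range⟩
  have hsupp : (C : Set G'.left) ⊆ i.ker.support := by
    rw [Scheme.Hom.support_ker]; exact subset_closure
  have hle : i.ker ≤ f.left.ker :=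
    le_trans (Scheme.IdealSheafData.le_support_iff_le_vanishingIdeal.1 hsupp)
      (Groth.Agent.GrpdClosed.vanishingIdeal_le_ker f.left C (by rw [show (C : Set G'.left) = _ from hH]))
  let H' : Over (Spec (CommRingCat.of k)) := Over.mk (i ≫ G'.hom)
  let iO : H' ⟶ G' := Over.homMk i rfl
  haveI : IsClosedImmersion iO.left := inferInstanceAs (IsClosedImmersion i)
  haveI : IsReduced H'.left := ‹IsReduced H›
  let g : G ⟶ H' := Over.homMk (IsClosedImmersion.lift i f.left hle) (by
    show IsClosedImmersion.lift i f.left hle ≫ i ≫ G'.hom = G.hom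
    rw [IsClosedImmersion.lift_fac_assoc]; exact Over.w f)
  have hgi : g ≫ iO = f := Over.OverMorphism.ext (IsClosedImmersion.lift_fac _ _ _)
  haveI : QuasiCompact g.left := by
    haveI : QuasiCompact (g.left ≫ i) := by rw [show g.left ≫ i = f.left from IsClosedImmersion.lift_fac _ _ _]; infer_instance
    exact QuasiCompact.of_comp g.left i
  haveI : Surjective g.left := by
    refine ⟨fun h => ?_⟩
    obtain ⟨x, hx⟩ : i h ∈ Set.range f.left.base := hH ▸ ⟨h, rfl⟩
    refine ⟨x, i.isClosedEmbedding.injective ?_⟩
    rw [← hx]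
    exact (Scheme.Hom.comp_apply _ _ _).symm.trans (by rw [show g.left ≫ i = f.left from IsClosedImmersion.lift_fac _ _ _])
  haveI : IsSchemeTheoreticallyDominant g.left :=
    (isSchemeTheoreticallyDominant_iff_isDominant _).2 inferInstance
  haveI : Mono iO := (Over.forget _).mono_of_mono_map (inferInstanceAs (Mono i))
  obtain ⟨⟨c, hc⟩, hdiv⟩ := Groth.Agent.GrpImage.subgroup f iO g hgi
  have hone : ∀ T : Over (Spec (CommRingCat.of k)), ∃ z : T ⟶ H', z ≫ iO = 1 := fun T =>
    ⟨toUnit T ≫ c, by rw [Category.assoc, hc]; rfl⟩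
  have hinv : ∀ (T : Over (Spec (CommRingCat.of k))) (a : T ⟶ H'), ∃ z : T ⟶ H', z ≫ iO = (a ≫ iO)⁻¹ :=
    fun T a => by
      obtain ⟨o, ho⟩ := hone T
      obtain ⟨z, hz⟩ := hdiv T a o
      exact ⟨z, by rw [hz, ho, _root_.mul_one]⟩
  obtain ⟨_, _⟩ := Groth.Agent.Transporter.exists_grpObj_of_closed iO ⟨c, by rw [hc, Hom.one_def]; simp⟩
    (fun T a b => by
      obtain ⟨z, hz⟩ := hinv T a
      obtain ⟨w, hw⟩ := hdiv T z b
      exact ⟨w, by rw [hw, hz, _root_.inv_inv]⟩) hinv
  haveI : LocallyOfFiniteType H'.hom := inferInstanceAs (LocallyOfFiniteType (i ≫ G'.hom))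
  let φ := Spec.map (CommRingCat.ofHom (algebraMap k (AlgebraicClosure k)))
  refine (show Smooth H'.hom from Groth.Agent.GrpSchField.smooth_of_baseChange H' ?_)
  haveI : Flat φ := inferInstance
  haveI : Flat (Limits.pullback.fst H'.hom φ) := inferInstance
  obtain ⟨hdom, hqc⟩ := Groth.Agent.GrpdClosed.dominant_map_left g.left H'.hom φ
  haveI : IsReduced (Limits.pullback (g.left ≫ H'.hom) φ) := by
    haveI : Smooth (g.left ≫ H'.hom) := by rw [Over.w g]; infer_instance
    exact Groth.Agent.UnitProd.isReduced_left_of_smooth (Limits.pullback.snd (g.left ≫ H'.hom) φ)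
  haveI : IsReduced (Limits.pullback H'.hom φ) :=
    IsSchemeTheoreticallyDominant.isReduced (Limits.pullback.map (g.left ≫ H'.hom) φ H'.hom φ g.left (𝟙 _) (𝟙 _) _ _)
  haveI : Nonempty (Limits.pullback H'.hom φ : Scheme.{u}) := by
    haveI : Surjective φ := inferInstance
    haveI : Surjective (Limits.pullback.fst H'.hom φ) := inferInstance
    have h0 : Nonempty (𝟙_ (Over (Spec (CommRingCat.of k)))).left := inferInstanceAs (Nonempty (Spec (CommRingCat.of k)))
    obtain ⟨x, -⟩ := (Limits.pullback.fst H'.hom φ).surjective (c.left h0.some)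
    exact ⟨x⟩
  exact (Limits.pullback.snd H'.hom φ).dense_smoothLocus_of_perfectField.nonempty

end Groth.Agent.S15604
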