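import Mathlib
import Groth.Statements.S15605
-- import your own Groth.Agent.* helpers here

set_option autoImplicit false
universe u
open TensorProduct
open AGF

namespace Groth.Agent.S15605

section

open TensorProduct

variable {k A A' : Type*} [Field k] [CommRing A] [Algebra k A] [CommRing A'] [Algebra k A']

theorem main (S : Set (A →ₐ[k] k)) (S' : Set (A' →ₐ[k] k)) :
    (⨅ σ ∈ S, ⨅ σ' ∈ S', RingHom.ker ((Algebra.TensorProduct.lmul' (S := k) k).comp
        (Algebra.TensorProduct.map σ σ'))) =
      Ideal.map (Algebra.TensorProduct.includeLeft : A →ₐ[k] A ⊗[k] A') (⨅ σ ∈ S, RingHom.ker σ) ⊔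
        Ideal.map (Algebra.TensorProduct.includeRight : A' →ₐ[k] A ⊗[k] A') (⨅ σ' ∈ S', RingHom.ker σ') := by
  classical
  refine le_antisymm (fun z hz => ?_) (sup_le ?_ ?_)
  · simp only [Submodule.mem_iInf, RingHom.mem_ker] at hz
    set I' : Ideal A' := ⨅ σ' ∈ S', RingHom.ker σ' with hI'
    let W : Submodule k A' := I'.restrictScalars k
    let b := Module.Basis.ofVectorSpace k (A' ⧸ W)
    let q := LinearMap.lTensor A W.mkQ
    let coord := fun j => (TensorProduct.rid k A).toLinearMap ∘ₗ LinearMap.lTensor A (b.coord j)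
    let ev : (A →ₐ[k] k) → (A ⊗[k] A' →ₗ[k] A') := fun σ =>
      (TensorProduct.lid k A').toLinearMap ∘ₗ LinearMap.rTensor A' σ.toLinearMap
    have hev : ∀ (σ : A →ₐ[k] k) (σ' : A' →ₐ[k] k) (w : A ⊗[k] A'),
        σ' (ev σ w) = (Algebra.TensorProduct.lmul' (S := k) k).comp (Algebra.TensorProduct.map σ σ') w := by
      intro σ σ' w
      induction w using TensorProduct.induction_on with
      | zero => simp
      | tmul a a' => simp [ev]
      | add u v hu hv => simp [hu, hv]
    have hevI : ∀ σ ∈ S, ev σ z ∈ W := by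
      intro σ hσ
      simp only [W, hI', Submodule.restrictScalars_mem, Submodule.mem_iInf, RingHom.mem_ker]
      intro σ' hσ'
      rw [hev]
      exact hz σ hσ σ' hσ'
    have hcoord : ∀ (σ : A →ₐ[k] k) (w : A ⊗[k] A') j, σ (coord j (q w)) = b.coord j (W.mkQ (ev σ w)) := by
      intro σ w j
      induction w using TensorProduct.induction_on with
      | zero => simp
      | tmul a a' => simp [ev, q, coord, mul_comm]
      | add u v hu hv => simp only [map_add, hu, hv]
    have hI : ∀ j, coord j (q z) ∈ (⨅ σ ∈ S, RingHom.ker σ : Ideal A) := by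
      intro j
      simp only [Submodule.mem_iInf, RingHom.mem_ker]
      intro σ hσ
      rw [hcoord, Submodule.mkQ_apply, (Submodule.Quotient.mk_eq_zero W).2 (hevI σ hσ), map_zero]
    have hexp : ∀ w : A ⊗[k] (A' ⧸ W), ∃ s : Finset _, ∀ t, s ⊆ t → w = ∑ j ∈ t, coord j w ⊗ₜ[k] b j := by
      intro w
      induction w using TensorProduct.induction_on with
      | zero => exact ⟨∅, fun t _ => by simp⟩
      | tmul a c =>
        refine ⟨(b.repr c).support, fun t ht => ?_⟩
        conv_lhs => rw [← b.linearCombination_repr c, Finsupp.linearCombination_apply,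
          Finsupp.sum_of_support_subset _ ht _ (by simp), TensorProduct.tmul_sum]
        refine Finset.sum_congr rfl fun j _ => ?_
        simp [coord, TensorProduct.smul_tmul]
      | add u v hu hv =>
        obtain ⟨s, hs⟩ := hu
        obtain ⟨s', hs'⟩ := hv
        refine ⟨s ∪ s', fun t ht => ?_⟩
        conv_lhs => rw [hs t (Finset.union_subset_left ht), hs' t (Finset.union_subset_right ht), ← Finset.sum_add_distrib]
        simp [TensorProduct.add_tmul]
    obtain ⟨t, ht⟩ := hexp (q z)
    choose lift hlift using fun j => W.mkQ_surjective (b j)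
    let z' := ∑ j ∈ t, coord j (q z) ⊗ₜ[k] lift j
    have hz' : q (z - z') = 0 := by
      rw [map_sub, sub_eq_zero]
      conv_lhs => rw [ht t subset_rfl]
      simp [z', q, hlift]
    obtain ⟨w, hw⟩ := (lTensor_exact A (LinearMap.exact_subtype_mkQ W) W.mkQ_surjective _).1 hz'
    have e : z = z' + LinearMap.lTensor A W.subtype w := by rw [hw]; abel
    rw [e]
    refine add_mem (Submodule.mem_sup_left (Ideal.sum_mem _ fun j _ => ?_)) (Submodule.mem_sup_right ?_)
    · have := Ideal.mul_mem_right ((1 : A) ⊗ₜ[k] lift j) _ (Ideal.mem_map_of_mem (Algebra.TensorProduct.includeLeft : A →ₐ[k] A ⊗[k] A') (hI j))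
      simpa using this
    · clear hw e
      induction w using TensorProduct.induction_on with
      | zero => simp
      | tmul a c =>
        have := Ideal.mul_mem_left _ (a ⊗ₜ[k] (1 : A')) (Ideal.mem_map_of_mem (Algebra.TensorProduct.includeRight : A' →ₐ[k] A ⊗[k] A') (show (c : A') ∈ I' from c.2))
        simpa using this
      | add u v hu hv => rw [map_add]; exact add_mem hu hv
  · rw [Ideal.map_le_iff_le_comap]
    intro a ha
    simp only [Submodule.mem_iInf, RingHom.mem_ker, Ideal.mem_comap] at ha ⊢
    intro σ hσ σ' _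
    simp [ha σ hσ]
  · rw [Ideal.map_le_iff_le_comap]
    intro a ha
    simp only [Submodule.mem_iInf, RingHom.mem_ker, Ideal.mem_comap] at ha ⊢
    intro σ _ σ' hσ'
    simp [ha σ' hσ']

end

/-- Affine form. Let k be a field, A and A' finitely generated commutative k-algebras and S, S' sets of
k-algebra homomorphisms A → k, A' → k. The closure of a set of rational points of Spec A is cut out
by the intersection of their kernels. Compatibility of these closures with products: in A ⊗_k A',
the intersection over (σ, σ') ∈ S × S' of the kernels of σ ⊗ σ' : A ⊗_k A' → k equals the ideal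
generated by the images of ⋂_{σ} ker σ and of ⋂_{σ'} ker σ'. -/
theorem result (k A A' : Type u) [Field k] [CommRing A] [Algebra k A]
    [Algebra.FiniteType k A] [CommRing A'] [Algebra k A'] [Algebra.FiniteType k A']
    (S : Set (A →ₐ[k] k)) (S' : Set (A' →ₐ[k] k)) :
    (⨅ σ ∈ S, ⨅ σ' ∈ S', RingHom.ker ((Algebra.TensorProduct.lmul' (S := k) k).comp
        (Algebra.TensorProduct.map σ σ'))) =
      Ideal.map (Algebra.TensorProduct.includeLeft : A →ₐ[k] A ⊗[k] A') (⨅ σ ∈ S, RingHom.ker σ) ⊔
        Ideal.map (Algebra.TensorProduct.includeRight : A' →ₐ[k] A ⊗[k] A') (⨅ σ' ∈ S', RingHom.ker σ') := by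
  exact main S S' 

end Groth.Agent.S15605
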