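import Groth.Statements.S1562
import Groth.Agent.SmoothDense.Apps
-- import your own Groth.Agent.* helpers here

set_option autoImplicit false
universe u
open CategoryTheory CategoryTheory.Limits AlgebraicGeometry
open Variety

namespace Groth.Agent.S1562

/-- Let X be locally of finite type over a field k and x a point of X. Then X is geometrically regular
at x (regular local rings at all points over x after every finitely generated field extension) if
and only if x lies in the smooth locus of X → Spec k. -/
theorem result (k : Type u) [Field k] (X : Scheme.{u}) [X.Over (Spec (CommRingCat.of k))] [LocallyOfFinitePresentation (X ↘ (Spec (CommRingCat.of k)))] (x : X) :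
    Curv2.IsGeomRegularAt k X x ↔ x ∈ (X ↘ (Spec (CommRingCat.of k))).smoothLocus := by
  let f := X ↘ Spec (CommRingCat.of k)
  refine ⟨fun h => ?_, fun hx k' _ _ _ x' hx' => ?_⟩
  · let _ := GeomRedAt.stalkAlg f x
    refine SmoothDense.mem_smoothLocus_of_regular_baseChanges (GeomRedAt.stalkAlg_spec f x) fun k' _ _ hf x' hx' => ?_
    exact h k' (IntermediateField.fg_top_iff.2 inferInstance) x' hx'
  · refine SmoothDense.isRegular_of_mem_smoothLocus (pullback.snd f (Spec.map (CommRingCat.ofHom (algebraMap k k')))) ?_
    rw [S2155.result f _ _ _ (IsPullback.of_hasPullback f _) (.inr (GeomRedAt.flat_SpecMap_field _))]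
    show pullback.fst f _ x' ∈ f.smoothLocus
    rw [show pullback.fst f _ x' = x from hx']
    exact hx

end Groth.Agent.S1562
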