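import Groth.Statements.S1563
import Groth.Agent.SmoothDense.Apps
-- import your own Groth.Agent.* helpers here

set_option autoImplicit false
universe u
open CategoryTheory CategoryTheory.Limits AlgebraicGeometry
open Variety

namespace Groth.Agent.S1563

/-- Geometric regularity descends along a morphism f of locally Noetherian k-schemes which is flat at
the point x (the map of local rings at x is flat): if X has it at x then Y has it at f(x). -/
theorem result (k : Type u) [Field k] (X Y : Scheme.{u}) [X.Over (Spec (CommRingCat.of k))] [Y.Over (Spec (CommRingCat.of k))]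
    [IsLocallyNoetherian X] [IsLocallyNoetherian Y] (f : X ⟶ Y) (hf : f ≫ (Y ↘ (Spec (CommRingCat.of k))) = X ↘ (Spec (CommRingCat.of k)))
    (x : X) (hflat : (f.stalkMap x).hom.Flat) (hx : Curv2.IsGeomRegularAt k X x) :
    Curv2.IsGeomRegularAt k Y (f.base x) := by
  intro k' _ _ hfg y' hy'
  let g := Spec.map (CommRingCat.ofHom (algebraMap k k'))
  have : Algebra.EssFiniteType k k' := IntermediateField.fg_top_iff.1 hfg
  let m : Limits.pullback f (Curv2.bcFst k Y k') ⟶ Curv2.bc k X k' :=
    pullback.lift (pullback.fst _ _) (pullback.snd _ _ ≫ pullback.snd _ _) (by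
      rw [← hf, ← Category.assoc, pullback.condition, Category.assoc, Category.assoc, pullback.condition])
  have hsq : IsPullback (pullback.fst f (Curv2.bcFst k Y k')) (pullback.snd _ _ ≫ pullback.snd _ _) (X ↘ Spec (CommRingCat.of k)) g := by
    rw [← hf]
    exact ((IsPullback.of_hasPullback f (Curv2.bcFst k Y k')).paste_vert (IsPullback.of_hasPullback (Y ↘ Spec (CommRingCat.of k)) g))
  have : IsIso m := by
    have : m = hsq.isoPullback.hom := by
      apply pullback.hom_ext
      · rw [IsPullback.isoPullback_hom_fst, pullback.lift_fst]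
      · rw [IsPullback.isoPullback_hom_snd, pullback.lift_snd]
    rw [this]; infer_instance
  have : IsLocallyNoetherian (Curv2.bc k Y k') := SmoothDense.isLocallyNoetherian_bc (Y ↘ Spec (CommRingCat.of k)) k'
  refine SmoothDense.exists_regular_descend f (Curv2.bcFst k Y k') x hflat y' hy' fun x' hx' => ?_
  have h1 : IsRegularLocalRing ((Curv2.bc k X k').presheaf.stalk (m x')) := hx k' hfg (m x') (by
    rw [← Scheme.Hom.comp_apply, pullback.lift_fst]; exact hx')
  exact IsRegularLocalRing.of_ringEquiv (asIso (m.stalkMap x')).commRingCatIsoToRingEquiv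

end Groth.Agent.S1563
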