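import Groth.Statements.S1564
import Groth.Agent.CurveDeg.Linear

set_option autoImplicit false
set_option backward.isDefEq.respectTransparency false
universe u
open CategoryTheory CategoryTheory.Limits AlgebraicGeometry
open Curves

namespace Groth.Agent.S1564

/-- Let X be a proper curve over a field k (an integral scheme of dimension 1, proper over k) with
H^0(X, O_X) of dimension 1 over k, and L an invertible O_X-module with H^0(X, L) ≠ 0. Then dim_k
H^0(X, L) ≤ deg L + 1, and if equality holds and deg L > 0 then X has genus zero, i.e. H^1(X, O_X) =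
0. (This is the statement that a linear series of degree d and dimension r has r ≤ d, with equality
for d ≥ 1 only in genus zero. The published statement does not exclude r = d = 0 in the equality
clause, where (O_X, H^0(X, O_X)) is a linear series on every such curve and the conclusion fails in
positive genus; the hypothesis 0 < deg L is therefore added to the equality clause here.) -/
theorem result (k : Type u) [Field k] (X : Scheme.{u}) [X.Over (Spec (CommRingCat.of k))]
    [IsIntegral X] [IsProper (X ↘ (Spec (CommRingCat.of k)))] (hdim : topologicalKrullDim X = 1)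
    (h0 : Module.finrank k (Coh.HH X (Coh.structureModule X) 0) = 1)
    (L : X.Modules) (hL : PicF.IsInvertible L) (hs : Nontrivial (Coh.HH X L 0)) :
    (Module.finrank k (Coh.HH X L 0) : ℤ) ≤ Curv2.deg k X L 1 + 1 ∧
      ((Module.finrank k (Coh.HH X L 0) : ℤ) = Curv2.deg k X L 1 + 1 → 0 < Curv2.deg k X L 1 →
        Curv2.genus k X = 0) := by
  obtain ⟨a, ha⟩ := exists_ne (0 : Coh.HH X L 0)
  let E : Coh.HH X L 0 ≃+ Γ(L, ⊤) :=
    (Groth.Agent.CohVanish.hEquiv (X := Groth.Agent.CohVanish.sp X) (Coh.toAb L) 0).trans (Groth.Agent.CohVanish.eu0 ⊤ _)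
  obtain ⟨h1, h2⟩ := Groth.Agent.CurveDeg.h0_le_deg_add_one k hdim
    (show Groth.Agent.CurveDeg.hdim' k (Coh.structureModule X) 0 = 1 from congrArg Nat.cast h0)
    hL ⟨E a, fun h => ha (E.injective (h.trans (map_zero E).symm))⟩
  exact ⟨h1, fun e hp => Nat.cast_eq_zero.mp (h2 e hp)⟩
end Groth.Agent.S1564
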