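import Mathlib
import Groth.Statements.S6298
-- import your own Groth.Agent.* helpers here

set_option autoImplicit false
universe u
open CAlg

namespace Groth.Agent.S6298

/-- Let R be a ring, x ∈ R, I ⊆ R an ideal and p₁, …, p_r prime ideals such that for each i the coset x
+ I is not contained in p_i. Then there is y ∈ I with x + y ∉ p_i for all i. -/
theorem result {R : Type u} [CommRing R] (x : R) (I : Ideal R) {r : ℕ} (p : Fin r → Ideal R) [∀ i, (p i).IsPrime] (h : ∀ i, ∃ y ∈ I, x + y ∉ p i) : ∃ y ∈ I, ∀ i, x + y ∉ p i := by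
  classical
  let T : Finset (Fin r) := Finset.univ.filter fun i => x ∈ p i
  let T' : Finset (Fin r) := Finset.univ.filter fun j => x ∉ p j ∧ ∀ i ∈ T, ¬ p j ≤ p i
  rcases T.eq_empty_or_nonempty with hT | ⟨a, ha⟩
  · refine ⟨0, I.zero_mem, fun i hi => ?_⟩
    have : i ∈ T := Finset.mem_filter.mpr ⟨Finset.mem_univ _, by simpa using hi⟩
    simp [hT] at this
  have hI : ∀ i ∈ T, ¬ I ≤ p i := fun i hi hle => by
    obtain ⟨y, hy, hxy⟩ := h i
    exact hxy ((p i).add_mem (Finset.mem_filter.mp hi).2 (hle hy))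
  have hJ : ∀ i ∈ T, ¬ I * ∏ j ∈ T', p j ≤ p i := fun i hi hle => by
    rcases (Ideal.IsPrime.mul_le (inferInstance : (p i).IsPrime)).mp hle with h1 | h1
    · exact hI i hi h1
    · obtain ⟨j, hj, hji⟩ := (Ideal.IsPrime.prod_le (inferInstance : (p i).IsPrime)).mp h1
      exact (Finset.mem_filter.mp hj).2.2 i hi hji
  have hsub : ¬ ((↑(I * ∏ j ∈ T', p j) : Set R) ⊆ ⋃ i ∈ (↑T : Set (Fin r)), p i) := fun hs => by
    obtain ⟨i, hi, hle⟩ := (Ideal.subset_union_prime a a fun i _ _ _ => inferInstance).mp hs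
    exact hJ i hi hle
  obtain ⟨y, hy, hyn⟩ := Set.not_subset.mp hsub
  simp only [Set.mem_iUnion, Finset.mem_coe, SetLike.mem_coe, exists_prop, not_exists, not_and] at hyn hy
  refine ⟨y, Ideal.mul_le_left hy, fun k hk => ?_⟩
  by_cases hxk : x ∈ p k
  · exact hyn k (Finset.mem_filter.mpr ⟨Finset.mem_univ _, hxk⟩) ((Submodule.add_mem_iff_right _ hxk).mp hk)
  by_cases hki : ∃ i ∈ T, p k ≤ p i
  · obtain ⟨i, hi, hle⟩ := hki
    exact hyn i hi ((Submodule.add_mem_iff_right _ (Finset.mem_filter.mp hi).2).mp (hle hk))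
  · have hk' : k ∈ T' := Finset.mem_filter.mpr ⟨Finset.mem_univ _, hxk, fun i hi hle => hki ⟨i, hi, hle⟩⟩
    have : y ∈ p k := (Ideal.prod_le_inf.trans (Finset.inf_le hk')) (Ideal.mul_le_right hy)
    exact hxk ((Submodule.add_mem_iff_left _ this).mp hk)

end Groth.Agent.S6298
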