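import Mathlib
import Groth.Agent.S6298
import Groth.Statements.S15706
-- import your own Groth.Agent.* helpers here

set_option autoImplicit false
universe u
open CAlg

namespace Groth.Agent.S15706

/-- Let A be a Noetherian ring with Serre's property (S_1), stated here in the equivalent form that
every associated prime of A is a minimal prime of A. Let I be an ideal of A and b an element of A/I
which is regular (a non-zero-divisor) in A/I. Then b is the image of a regular element of A. -/
theorem result (A : Type u) [CommRing A]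
    [IsNoetherianRing A] (hS1 : ∀ p ∈ associatedPrimes A A, p ∈ minimalPrimes A) (I : Ideal A)
    (b : A ⧸ I) (hb : b ∈ nonZeroDivisors (A ⧸ I)) :
    ∃ a : A, a ∈ nonZeroDivisors A ∧ Ideal.Quotient.mk I a = b := by
  obtain ⟨a₀, rfl⟩ := Ideal.Quotient.mk_surjective b
  have hfin := associatedPrimes.finite A A
  let e := hfin.toFinset.equivFin
  have hp : ∀ i, (e.symm i : Ideal A) ∈ associatedPrimes A A := fun i => hfin.mem_toFinset.1 (e.symm i).2
  haveI : ∀ i, ((fun i => (e.symm i : Ideal A)) i).IsPrime := fun i => (hp i).isPrime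
  have hcond : ∀ i, ∃ y ∈ I, a₀ + y ∉ (e.symm i : Ideal A) := by
    intro i
    by_contra h
    push Not at h
    have ha : a₀ ∈ (e.symm i : Ideal A) := by simpa using h 0 I.zero_mem
    have hI : I ≤ (e.symm i : Ideal A) := fun y hy => by
      simpa using (Submodule.add_mem_iff_right _ ha).1 (h y hy)
    have hmin : (e.symm i : Ideal A) ∈ I.minimalPrimes :=
      ⟨⟨(hp i).isPrime, hI⟩, fun q hq hle => (hS1 _ (hp i)).2 ⟨hq.1, bot_le⟩ hle⟩
    rw [Ideal.minimalPrimes_eq_comap] at hmin
    obtain ⟨q, hq, hqe⟩ := hmin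
    rw [← hqe] at ha
    exact Set.disjoint_left.1 (Ideal.disjoint_nonZeroDivisors_of_mem_minimalPrimes hq) ha hb
  obtain ⟨y, hy, hyn⟩ := Groth.Agent.S6298.result a₀ I (fun i => (e.symm i : Ideal A)) hcond
  refine ⟨a₀ + y, ?_, by rw [map_add, Ideal.Quotient.eq_zero_iff_mem.2 hy, add_zero]⟩
  rw [mem_nonZeroDivisors_iff_right]
  intro z hz
  by_contra hz0
  have hmem : a₀ + y ∈ ⋃ p ∈ associatedPrimes A A, (p : Set A) := by
    rw [biUnion_associatedPrimes_eq_zero_divisors]
    exact ⟨z, hz0, by rw [smul_eq_mul, mul_comm, hz]⟩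
  obtain ⟨p, hp', hpm⟩ := Set.mem_iUnion₂.1 hmem
  exact hyn (e ⟨p, hfin.mem_toFinset.2 hp'⟩) (by simpa using hpm)

end Groth.Agent.S15706
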