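import Groth.Statements.S15707
import Mathlib
-- import your own Groth.Agent.* helpers here

set_option autoImplicit false
universe u
open CAlg

namespace Groth.Agent.S15707

/-- Let A be a Noetherian ring with Serre's property (S_1), stated here as: every associated prime of A
is a minimal prime. Let I be an ideal and B = A/I. Then the B-module Hom_A(B, A), with B acting
through the source, is torsion-free: an A-linear map φ : B → A which is killed by a regular element
b of B, in the sense that φ(b x) = 0 for all x, is zero. -/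
theorem result (A : Type u) [CommRing A]
    [IsNoetherianRing A] (hS1 : ∀ p ∈ associatedPrimes A A, p ∈ minimalPrimes A) (I : Ideal A)
    (φ : (A ⧸ I) →ₗ[A] A) (b : A ⧸ I) (hb : b ∈ nonZeroDivisors (A ⧸ I))
    (h : ∀ x : A ⧸ I, φ (b * x) = 0) : φ = 0 := by
  obtain ⟨b, rfl⟩ := Ideal.Quotient.mk_surjective b
  have hsmul : ∀ (r : A) (x : A ⧸ I), φ (Ideal.Quotient.mk I r * x) = r * φ x := fun r x => by
    rw [← Ideal.Quotient.algebraMap_eq, ← Algebra.smul_def, map_smul, smul_eq_mul]
  refine LinearMap.ext fun x => ?_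
  obtain ⟨x, rfl⟩ := Ideal.Quotient.mk_surjective x
  rw [← mul_one (Ideal.Quotient.mk I x), hsmul, LinearMap.zero_apply]
  suffices φ 1 = 0 by rw [this, mul_zero]
  by_contra hy
  have hb0 : b * φ 1 = 0 := by rw [← hsmul, h]
  have hI : ∀ i ∈ I, i * φ 1 = 0 := fun i hi => by
    rw [← hsmul, Ideal.Quotient.eq_zero_iff_mem.mpr hi, zero_mul, map_zero]
  obtain ⟨p, hp, hle⟩ := exists_le_isAssociatedPrime_of_isNoetherianRing A (φ 1) hy
  have hann : ∀ a : A, a * φ 1 = 0 → a ∈ p := fun a ha =>
    hle (by rw [Submodule.mem_colon_singleton, Submodule.mem_bot, smul_eq_mul]; exact ha)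
  have hmin : p ∈ I.minimalPrimes :=
    ⟨⟨hp.isPrime, fun i hi => hann i (hI i hi)⟩, fun q hq hqp => (hS1 p hp).2 ⟨hq.1, bot_le⟩ hqp⟩
  obtain ⟨q, hq, hqp⟩ : p ∈ Ideal.comap (Ideal.Quotient.mk I) '' minimalPrimes (A ⧸ I) := by
    rwa [← Ideal.minimalPrimes_eq_comap]
  exact Set.disjoint_left.mp (Ideal.disjoint_nonZeroDivisors_of_mem_minimalPrimes hq)
    (show Ideal.Quotient.mk I b ∈ q by rw [← Ideal.mem_comap, hqp]; exact hann b hb0) hb

end Groth.Agent.S15707
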