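import Mathlib
import Groth.Statements.S15708
-- import your own Groth.Agent.* helpers here

set_option autoImplicit false
universe u v
open CAlg

namespace Groth.Agent.S15708

/-- Let A be a Noetherian commutative ring graded by the natural numbers, J a homogeneous ideal, and
p_1, ..., p_r finitely many prime ideals such that no p_i contains the irrelevant ideal A_+ and no
p_i contains J. Then there is a homogeneous element z of positive degree with z in J and z in no
p_i. -/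
theorem result {R : Type u} {A : Type v} [CommRing R] [CommRing A]
    [Algebra R A] [IsNoetherianRing A] (𝒜 : ℕ → Submodule R A) [GradedRing 𝒜]
    (J : Ideal A) (hJ : J.IsHomogeneous 𝒜) (P : Finset (Ideal A))
    (hP : ∀ p ∈ P, p.IsPrime ∧ ¬ (HomogeneousIdeal.irrelevant 𝒜).toIdeal ≤ p ∧ ¬ J ≤ p) :
    ∃ (z : A) (n : ℕ), 0 < n ∧ z ∈ 𝒜 n ∧ z ∈ J ∧ ∀ p ∈ P, z ∉ p := by
  classical
  have hom_not : ∀ (q p : Ideal A), q.IsHomogeneous 𝒜 → ¬ q ≤ p → ∃ (i : ℕ) (x : A), x ∈ 𝒜 i ∧ x ∈ q ∧ x ∉ p := by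
    intro q p hq hqp
    by_contra hcon
    push Not at hcon
    refine hqp fun x hx => ?_
    rw [← DirectSum.sum_support_decompose 𝒜 x]
    exact p.sum_mem fun i _ => hcon i _ (Submodule.coe_mem _) (hq i hx)
  suffices H : ∀ S : Finset (Ideal A), (∀ p ∈ S, p.IsPrime ∧ p.IsHomogeneous 𝒜 ∧
      ¬ (HomogeneousIdeal.irrelevant 𝒜).toIdeal ≤ p ∧ ¬ J ≤ p) →
      ∃ (z : A) (n : ℕ), 0 < n ∧ z ∈ 𝒜 n ∧ z ∈ J ∧ ∀ p ∈ S, z ∉ p by
    obtain ⟨z, n, hn, hz, hzJ, hzS⟩ := H (P.image fun p => (p.homogeneousCore 𝒜).toIdeal) (by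
      intro q hq
      obtain ⟨p, hp, rfl⟩ := Finset.mem_image.1 hq
      obtain ⟨h1, h2, h3⟩ := hP p hp
      have hle := p.toIdeal_homogeneousCore_le 𝒜
      exact ⟨h1.homogeneousCore, (p.homogeneousCore 𝒜).isHomogeneous,
        fun h => h2 (h.trans hle), fun h => h3 (h.trans hle)⟩)
    exact ⟨z, n, hn, hz, hzJ, fun p hp hzp => hzS _ (Finset.mem_image_of_mem _ hp)
      (Ideal.mem_homogeneousCore_of_homogeneous_of_mem ⟨n, hz⟩ hzp)⟩
  intro S
  induction S using Finset.strongInduction with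
  | H S ih =>
    intro hS
    rcases S.eq_empty_or_nonempty with rfl | hne
    · exact ⟨0, 1, one_pos, zero_mem _, zero_mem _, by simp⟩
    obtain ⟨p, hp, hmin⟩ := S.exists_minimal hne
    obtain ⟨hpp, hph, hpo, hpJ⟩ := hS p hp
    obtain ⟨f, e, he, hfe, hfJ, hf⟩ := ih (S.erase p) (Finset.erase_ssubset hp)
      fun q hq => hS q (Finset.mem_of_mem_erase hq)
    by_cases hfp : f ∈ p
    swap
    · refine ⟨f, e, he, hfe, hfJ, fun q hq => ?_⟩
      rcases eq_or_ne q p with rfl | hqp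
      · exact hfp
      · exact hf q (Finset.mem_erase.2 ⟨hqp, hq⟩)
    obtain ⟨a, x, hx, hxJ, hxp⟩ := hom_not J p hJ hpJ
    obtain ⟨d, w, hw, hwI, hwp⟩ := hom_not _ p (HomogeneousIdeal.irrelevant 𝒜).isHomogeneous hpo
    have hd : 0 < d := by
      rcases Nat.eq_zero_or_pos d with rfl | hd
      · have h0 : GradedRing.proj 𝒜 0 w = 0 := (HomogeneousIdeal.mem_irrelevant_iff 𝒜 w).1 hwI
        rw [GradedRing.proj_apply, DirectSum.decompose_of_mem_same 𝒜 hw] at h0
        exact absurd (h0 ▸ p.zero_mem) hwp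
      · exact hd
    have key : ∀ T ⊆ S.erase p, ∃ (g : A) (m : ℕ), g ∈ 𝒜 m ∧ g ∉ p ∧ ∀ q ∈ T, g ∈ q := by
      intro T hT
      induction T using Finset.induction with
      | empty => exact ⟨1, 0, SetLike.one_mem_graded 𝒜, fun h1 => hpp.ne_top ((Ideal.eq_top_iff_one _).2 h1), by simp⟩
      | insert q T _ iht =>
        obtain ⟨g, m, hgm, hgp, hg⟩ := iht ((Finset.subset_insert q T).trans hT)
        obtain ⟨hqp, hqS⟩ := Finset.mem_erase.1 (hT (Finset.mem_insert_self q T))
        obtain ⟨i, x', hx', hxq, hxp'⟩ := hom_not q p (hS q hqS).2.1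
          fun h => hqp (le_antisymm h (hmin hqS h))
        refine ⟨g * x', m + i, SetLike.GradedMul.mul_mem hgm hx', fun hgx => (hpp.mem_or_mem hgx).elim hgp hxp', fun q' hq' => ?_⟩
        rcases Finset.mem_insert.1 hq' with rfl | hq'
        · exact q'.mul_mem_left _ hxq
        · exact q'.mul_mem_right _ (hg q' hq')
    obtain ⟨g, m, hgm, hgp, hg⟩ := key _ subset_rfl
    have hG : g * (x * w) ∈ 𝒜 (m + (a + d)) := SetLike.GradedMul.mul_mem hgm (SetLike.GradedMul.mul_mem hx hw)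
    refine ⟨f ^ (m + (a + d)) + (g * (x * w)) ^ e, (m + (a + d)) * e, Nat.mul_pos (by omega) he,
      add_mem ?_ ?_, add_mem (J.pow_mem_of_mem hfJ _ (by omega))
        (J.pow_mem_of_mem (J.mul_mem_left _ (J.mul_mem_right _ hxJ)) _ he), fun q hq hmem => ?_⟩
    · simpa using SetLike.pow_mem_graded (m + (a + d)) hfe
    · have := SetLike.pow_mem_graded e hG
      rwa [smul_eq_mul, mul_comm] at this
    · rcases eq_or_ne q p with rfl | hqp
      · have := (Ideal.add_mem_iff_right q (q.pow_mem_of_mem hfp _ (by omega))).1 hmem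
        rcases hpp.mem_or_mem (hpp.mem_of_pow_mem _ this) with h' | h'
        · exact hgp h'
        · exact (hpp.mem_or_mem h').elim hxp hwp
      · have hq' := Finset.mem_erase.2 ⟨hqp, hq⟩
        have := (Ideal.add_mem_iff_left q
          (q.pow_mem_of_mem (q.mul_mem_right _ (hg q hq')) _ he)).1 hmem
        exact hf q hq' ((hS q hq).1.mem_of_pow_mem _ this)

end Groth.Agent.S15708
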