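import Groth.Statements.S1699
import Groth.Agent.MeroBasic.Minimal

set_option autoImplicit false
universe u
open CategoryTheory CategoryTheory.Limits AlgebraicGeometry TopologicalSpace
open SDiv

namespace Groth.Agent.S1699

/-- (1) if and only if (3): let X be a locally Noetherian scheme and U an open subscheme. Then U is
scheme-theoretically dense in X if and only if U contains every associated point of X (every point
whose local ring has its maximal ideal as an associated prime). -/
theorem result (X : Scheme.{u}) [IsLocallyNoetherian X] (U : X.Opens) :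
    CInt.IsSchematicallyDense U ↔ ∀ x : ↥X, IsAssociatedPrime (IsLocalRing.maximalIdeal ↑(X.presheaf.stalk x)) ↑(X.presheaf.stalk x) → x ∈ U := by
  classical
  constructor
  · intro hdense x hx
    by_contra hxU
    obtain ⟨_, ⟨W, hW, rfl⟩, hxW, -⟩ :=
      X.isBasis_affineOpens.exists_subset_of_mem_open (Set.mem_univ x) isOpen_univ
    have := IsLocallyNoetherian.component_noetherian (X := X) ⟨W, hW⟩
    obtain ⟨-, c, hc⟩ := isAssociatedPrime_iff.mp hx
    obtain ⟨a, s, hs, ha⟩ := Groth.Agent.MeroBasic.exists_germ_mul_eq hW (hx := hxW) c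
    let p := Groth.Agent.MeroBasic.pr hW x hxW
    obtain ⟨t, ht⟩ := (IsNoetherian.noetherian p : p.FG)
    have hr : ∀ r ∈ t, ∃ u, u ∉ p ∧ u * (r * a) = 0 := by
      intro r hr
      have hrp : r ∈ p := ht ▸ Submodule.subset_span hr
      have hmem : X.presheaf.germ W x hxW r ∈ IsLocalRing.maximalIdeal (X.presheaf.stalk x) :=
        fun hu => (Groth.Agent.MeroBasic.isUnit_germ_iff hW r).mp hu hrp
      rw [hc, Submodule.mem_colon_singleton, Submodule.mem_bot, smul_eq_mul] at hmem
      refine (Groth.Agent.MeroBasic.germ_eq_zero_iff hW _).mp ?_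
      rw [map_mul, ← ha, ← mul_assoc, hmem, zero_mul]
    choose u hup hu using hr
    let v := ∏ r ∈ t.attach, u r.1 r.2
    have hv : v ∉ p := fun h => by
      obtain ⟨r, -, hr⟩ := (hW.primeIdealOf ⟨x, hxW⟩).isPrime.prod_mem_iff.mp h
      exact hup r.1 r.2 hr
    let V : X.Opens := X.basicOpen v
    have hxV : x ∈ V := (X.mem_basicOpen v x hxW).mpr ((Groth.Agent.MeroBasic.isUnit_germ_iff hW v).mpr hv)
    have h0 : X.presheaf.map (homOfLE (X.basicOpen_le v)).op a = 0 := by
      refine hdense V ?_
      rw [map_zero]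
      refine Groth.Agent.MeroBasic.eq_zero_of_germ_eq_zero fun y hy => ?_
      rw [TopCat.Presheaf.germ_res_apply, TopCat.Presheaf.germ_res_apply]
      have hyW := X.basicOpen_le v hy.1
      by_contra hne
      have hvy : v ∉ Groth.Agent.MeroBasic.pr hW y hyW :=
        (Groth.Agent.MeroBasic.isUnit_germ_iff hW v).mp ((X.mem_basicOpen v y hyW).mp hy.1)
      have hle : p ≤ Groth.Agent.MeroBasic.pr hW y hyW := by
        rw [← ht, Ideal.span_le]
        intro r hr
        by_contra hry
        refine hne ((Groth.Agent.MeroBasic.germ_eq_zero_iff hW a).mpr ⟨u r hr * r, fun h => ?_, ?_⟩)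
        · rcases (hW.primeIdealOf ⟨y, hyW⟩).isPrime.mem_or_mem h with h | h
          · exact hvy (Ideal.mem_of_dvd _ (Finset.dvd_prod_of_mem _ (Finset.mem_attach t ⟨r, hr⟩)) h)
          · exact hry h
        · rw [mul_assoc, hu r hr]
      have hsp : x ⤳ y := by
        have := Groth.Agent.MeroBasic.specializes_of_le hW (hx := hyW) (hW.primeIdealOf ⟨x, hxW⟩) hle
        rwa [hW.fromSpec_primeIdealOf] at this
      exact hxU (hsp.mem_open U.isOpen hy.2)
    have h1 := congrArg (X.presheaf.germ V x hxV) h0
    rw [TopCat.Presheaf.germ_res_apply, map_zero, ← ha] at h1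
    have hc0 : c = 0 := ((Groth.Agent.MeroBasic.isUnit_germ_iff hW s).mpr hs).mul_left_eq_zero.mp h1
    apply (IsLocalRing.maximalIdeal.isMaximal (X.presheaf.stalk x)).ne_top
    rw [hc, hc0, Ideal.eq_top_iff_one, Submodule.mem_colon_singleton, smul_zero]
    exact zero_mem _
  · intro h V
    rw [injective_iff_map_eq_zero]
    intro a ha
    refine Groth.Agent.MeroBasic.eq_zero_of_germ_weakAss a fun η hη hw => ?_
    have hmem := h η (Groth.Agent.MeroBasic.isAssociatedPrime_maximalIdeal_of_isWeakAssPoint hw)
    have := congrArg (X.presheaf.germ (V ⊓ U) η ⟨hη, hmem⟩) ha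
    simpa only [TopCat.Presheaf.germ_res_apply, map_zero] using this

end Groth.Agent.S1699
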