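import Groth.Statements.S15712
import Groth.Agent.DepthLib.Basic
import Groth.Agent.S1699
-- import your own Groth.Agent.* helpers here

set_option autoImplicit false
universe u
open CategoryTheory AlgebraicGeometry TopologicalSpace
open RatSing

namespace Groth.Agent.S15712

/-- Let X be a locally Noetherian scheme with Serre's property (S_1), i.e. every local ring O_{X,x} has
depth at least min(1, dim O_{X,x}) (for instance X Cohen–Macaulay), and let U ⊆ X be open. Then
scheme-theoretic density of U in X is equivalent to U being dense as a subset. (The published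
statement assumes every scheme excellent, in particular locally Noetherian.) -/
theorem result (X : Scheme.{u}) [IsLocallyNoetherian X]
    (hS1 : ∀ x : X, min (1 : WithBot ℕ∞) (ringKrullDim (X.presheaf.stalk x)) ≤
      ((LocCoh.depth (X.presheaf.stalk x) (X.presheaf.stalk x) : ℕ∞) : WithBot ℕ∞))
    (U : X.Opens) : CInt.IsSchematicallyDense U ↔ Dense (U : Set X) := by
  constructor
  · intro hV
    rw [dense_iff_inter_open]
    intro W hW hne
    by_contra hcon
    have hbot : (⟨W, hW⟩ : X.Opens) ⊓ U = ⊥ :=
      TopologicalSpace.Opens.ext (Set.not_nonempty_iff_eq_empty.1 hcon)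
    haveI : Nonempty (⟨W, hW⟩ : X.Opens) := hne.to_subtype
    haveI : Subsingleton Γ(X, (⟨W, hW⟩ : X.Opens) ⊓ U) := by
      rw [hbot]
      exact CommRingCat.subsingleton_of_isTerminal X.sheaf.isTerminalOfEmpty
    haveI := Function.Injective.subsingleton (hV ⟨W, hW⟩)
    exact false_of_nontrivial_of_subsingleton Γ(X, (⟨W, hW⟩ : X.Opens))
  · intro hd
    rw [Groth.Agent.S1699.result]
    intro x hx
    have h0 : LocCoh.depth (X.presheaf.stalk x) (X.presheaf.stalk x) = 0 :=
      Groth.Agent.DepthLib.depth_eq_zero_iff.2 hx
    have h1 := hS1 x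
    rw [h0] at h1
    have hdim : ringKrullDim (X.presheaf.stalk x) = 0 := by
      refine le_antisymm ?_ ringKrullDim_nonneg_of_nontrivial
      rcases le_total (1 : WithBot ℕ∞) (ringKrullDim (X.presheaf.stalk x)) with h | h
      · rw [min_eq_left h] at h1
        exact absurd h1 (by simp)
      · rw [min_eq_right h] at h1
        simpa using h1
    rw [ringKrullDim_stalk_eq_coheight] at hdim
    have hmax : IsMax x := Order.coheight_eq_zero.1 (by exact_mod_cast hdim)
    obtain ⟨_, ⟨W, hW, rfl⟩, hxW, -⟩ :=
      X.isBasis_affineOpens.exists_subset_of_mem_open (Set.mem_univ x) isOpen_univ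
    haveI : IsNoetherianRing Γ(X, W) := IsLocallyNoetherian.component_noetherian ⟨W, hW⟩
    haveI : TopologicalSpace.NoetherianSpace W :=
      hW.isoSpec.hom.homeomorph.isInducing.noetherianSpace
    haveI : TopologicalSpace.NoetherianSpace ((W : Set X) : Type u) := ‹TopologicalSpace.NoetherianSpace W›
    let S : Set X := (W : Set X) ∩ U
    haveI : TopologicalSpace.NoetherianSpace S :=
      (Topology.IsInducing.subtypeVal.of_comp (continuous_inclusion Set.inter_subset_left) continuous_subtype_val :
        Topology.IsInducing (Set.inclusion (Set.inter_subset_left : S ⊆ (W : Set X)))).noetherianSpace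
    haveI : QuasiSober S :=
      (W.isOpen.inter U.isOpen).isOpenEmbedding_subtypeVal.quasiSober
    have hfin := TopologicalSpace.NoetherianSpace.finite_irreducibleComponents (α := S)
    let G : Set X := ⋃ Z ∈ irreducibleComponents S, closure (Subtype.val '' Z)
    have hG : IsClosed G := hfin.isClosed_biUnion fun _ _ => isClosed_closure
    have hsub : closure S ⊆ G := closure_minimal (fun s hs => Set.mem_biUnion
      (irreducibleComponent_mem_irreducibleComponents (⟨s, hs⟩ : S))
      (subset_closure ⟨⟨s, hs⟩, mem_irreducibleComponent, rfl⟩)) hG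
    have hxS : x ∈ closure S := W.isOpen.inter_closure ⟨hxW, hd x⟩
    obtain ⟨Z, hZ, hxZ⟩ := Set.mem_iUnion₂.1 (hsub hxS)
    obtain ⟨η, hη⟩ := QuasiSober.sober hZ.1 (isClosed_of_mem_irreducibleComponents Z hZ)
    have h2 : (η : X) ⤳ x := by
      refine specializes_iff_mem_closure.2 (closure_minimal ?_ isClosed_closure hxZ)
      rintro _ ⟨z, hz, rfl⟩
      exact specializes_iff_mem_closure.1 ((hη.specializes hz).map continuous_subtype_val)
    have h3 : x = η := (Specializes.antisymm (hmax h2 : x ⤳ (η : X)) h2).eq
    rw [h3]
    exact η.2.2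

end Groth.Agent.S15712
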