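import Groth.Statements.S3833
import Mathlib


set_option autoImplicit false
universe u
open CategoryTheory CategoryTheory.Limits AlgebraicGeometry TopologicalSpace
open Rat20

namespace Groth.Agent.S3833

/-- Stated for a global section, the case of a section over an open subset U being the same statement
for the open subscheme U: let X be a scheme and s a global section of O_X which is regular in the
sense that its germ at every point x is a non-zero-divisor of the local ring O_{X,x} (on an affine
scheme this is the same as being a non-zero-divisor of Γ(X, O_X), but not in general). Then the open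
subset X_s where s is invertible is schematically dense in X. -/
theorem result (X : Scheme.{u}) (s : Γ(X, ⊤))
    (hs : ∀ x : ↥X, (X.presheaf.germ ⊤ x trivial s) ∈ nonZeroDivisors ↑(X.presheaf.stalk x)) :
    CInt.IsSchematicallyDense (X.basicOpen s) := by

  intro V a b hab
  refine TopCat.Presheaf.section_ext X.sheaf _ _ _ fun x hx => ?_
  obtain ⟨A, hA, hxA, hAV⟩ := exists_isAffineOpen_mem_and_subset (X := X) (x := x) (U := V) hx
  let sA := X.presheaf.map (homOfLE le_top : A ⟶ (⊤ : X.Opens)).op s
  let aA := X.presheaf.map (homOfLE hAV : A ⟶ V).op a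
  let bA := X.presheaf.map (homOfLE hAV : A ⟶ V).op b
  have hle : X.basicOpen sA ≤ V ⊓ X.basicOpen s := by
    refine le_inf ((X.basicOpen_le sA).trans hAV) ?_
    rw [show X.basicOpen sA = A ⊓ X.basicOpen s from X.basicOpen_res s (homOfLE le_top).op]
    exact inf_le_right
  have key := congrArg (fun t => X.presheaf.map (homOfLE hle).op t) hab
  simp only [← CategoryTheory.ConcreteCategory.comp_apply, ← CategoryTheory.Functor.map_comp] at key
  have := hA.isLocalization_basicOpen sA
  have h2 : algebraMap Γ(X, A) Γ(X, X.basicOpen sA) aA = algebraMap Γ(X, A) Γ(X, X.basicOpen sA) bA := by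
    simp only [aA, bA, RingHom.algebraMap_toAlgebra]
    simp only [← CategoryTheory.ConcreteCategory.comp_apply, ← CategoryTheory.Functor.map_comp]
    exact key
  obtain ⟨⟨_, n, rfl⟩, hn⟩ := (IsLocalization.eq_iff_exists (Submonoid.powers sA) _).1 h2
  have hg := congrArg (fun t => X.presheaf.germ A x hxA t) hn
  simp only [map_mul, map_pow] at hg
  have es : X.presheaf.germ A x hxA sA = X.presheaf.germ ⊤ x trivial s := TopCat.Presheaf.germ_res_apply _ _ _ _ _
  rw [es] at hg
  have hr := (mul_cancel_left_mem_nonZeroDivisors (pow_mem (hs x) n)).1 hg
  simp only [aA, bA, TopCat.Presheaf.germ_res_apply] at hr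
  exact hr

end Groth.Agent.S3833
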