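import Groth.Statements.S3834
import Groth.Agent.S3833
-- import your own Groth.Agent.* helpers here

set_option autoImplicit false
universe u
open CategoryTheory CategoryTheory.Limits AlgebraicGeometry TopologicalSpace
open Rat20

namespace Groth.Agent.S3834

/-- Let X = Spec A be an affine scheme, with A Noetherian, or A reduced with finitely many minimal
primes. Then an open subset U of X is schematically dense if and only if it contains an open subset
of the form X_t with t a regular element of A = Γ(X, O_X). -/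
theorem result (X : Scheme.{u}) [IsAffine X]
    (hX : IsNoetherian X ∨ (IsReduced X ∧ (irreducibleComponents ↥X).Finite)) (U : X.Opens) :
    CInt.IsSchematicallyDense U ↔ ∃ t : Γ(X, ⊤), t ∈ nonZeroDivisors Γ(X, ⊤) ∧ X.basicOpen t ≤ U := by
  classical
  constructor
  · intro hU
    obtain ⟨P, hPfin, hP, hzero⟩ : ∃ P : Set (Ideal Γ(X, ⊤)), P.Finite ∧
        (∀ q ∈ P, q.IsPrime ∧ ∃ a : Γ(X, ⊤), a ≠ 0 ∧ ∀ s ∈ q, s * a = 0) ∧
        ∀ t : Γ(X, ⊤), (∀ q ∈ P, t ∉ q) → t ∈ nonZeroDivisors Γ(X, ⊤) := by
      rcases hX with hN | ⟨hR, hfin⟩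
      · haveI : IsNoetherianRing Γ(X, ⊤) := IsLocallyNoetherian.component_noetherian ⟨⊤, isAffineOpen_top X⟩
        refine ⟨associatedPrimes Γ(X, ⊤) Γ(X, ⊤), associatedPrimes.finite _ _, fun q hq => ?_, fun t ht => ?_⟩
        · haveI := IsAssociatedPrime.isPrime hq
          obtain ⟨-, a, ha⟩ := isAssociatedPrime_iff.1 hq
          refine ⟨inferInstance, a, fun h => ?_, fun s hs => ?_⟩
          · refine ‹q.IsPrime›.ne_top ((Ideal.eq_top_iff_one _).2 ?_)
            rw [ha, Submodule.mem_colon_singleton, h, smul_zero]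
            exact zero_mem _
          · rw [ha, Submodule.mem_colon_singleton] at hs
            simpa using hs
        · by_contra h
          have h1 : t ∈ ⋃ q ∈ associatedPrimes Γ(X, ⊤) Γ(X, ⊤), (q : Set Γ(X, ⊤)) := by
            rw [biUnion_associatedPrimes_eq_compl_nonZeroDivisors]
            exact h
          obtain ⟨q, hq, htq⟩ := Set.mem_iUnion₂.1 h1
          exact ht q hq htq
      · have hfin' : (minimalPrimes Γ(X, ⊤)).Finite := by
          have h1 : (irreducibleComponents (PrimeSpectrum Γ(X, ⊤))).Finite := by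
            refine Set.Finite.of_injOn (f := fun Z => X.isoSpec.hom.homeomorph ⁻¹' Z) ?_ ?_ hfin
            · intro Z hZ
              exact preimage_mem_irreducibleComponents hZ X.isoSpec.hom.homeomorph.isOpenEmbedding
                (hZ.1.nonempty.imp fun z hz => ⟨hz, X.isoSpec.hom.homeomorph.surjective z⟩)
            · exact fun Z _ Z' _ h => (Set.preimage_eq_preimage X.isoSpec.hom.homeomorph.surjective).1 h
          haveI := h1.to_subtype
          exact Set.finite_coe_iff.1 (Finite.of_equiv _ (minimalPrimes.equivIrreducibleComponents Γ(X, ⊤)).toEquiv.symm)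
        refine ⟨minimalPrimes Γ(X, ⊤), hfin', fun q hq => ⟨hq.1.1, ?_⟩, fun t ht => ?_⟩
        · have hq' : ∀ p ∈ minimalPrimes Γ(X, ⊤), p ≠ q → ∃ r ∈ p, r ∉ q := fun p hp hne => by
            by_contra hcon
            push Not at hcon
            exact hne (le_antisymm hcon (hq.2 hp.1 hcon))
          choose! r hrp hrq using hq'
          haveI := hq.1.1
          have ha : ∏ p ∈ hfin'.toFinset.erase q, r p ∉ q := fun h => by
            obtain ⟨p, hp, hpq⟩ := (Ideal.IsPrime.prod_mem_iff (p := q)).1 h
            rw [Finset.mem_erase, Set.Finite.mem_toFinset] at hp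
            exact hrq p hp.2 hp.1 hpq
          refine ⟨∏ p ∈ hfin'.toFinset.erase q, r p, fun h => ha (by rw [h]; exact zero_mem q), fun s hs => ?_⟩
          refine IsNilpotent.eq_zero ?_
          rw [← mem_nilradical, nilradical_eq_sInf, Submodule.mem_sInf]
          intro p hp
          haveI : Ideal.IsPrime p := hp
          obtain ⟨m, hm, hmp⟩ := Ideal.exists_minimalPrimes_le (bot_le : ⊥ ≤ p)
          apply hmp
          by_cases hmq : m = q
          · exact Ideal.mul_mem_right _ _ (hmq ▸ hs)
          · obtain ⟨d, hd⟩ := Finset.dvd_prod_of_mem r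
              (show m ∈ hfin'.toFinset.erase q by simp [hmq, minimalPrimes, hm])
            exact Ideal.mul_mem_left _ _ (hd ▸ Ideal.mul_mem_right _ _ (hrp m hm hmq))
        · rw [mem_nonZeroDivisors_iff_right]
          intro x hx
          refine IsNilpotent.eq_zero ?_
          rw [← mem_nilradical, nilradical_eq_sInf, Submodule.mem_sInf]
          intro p hp
          haveI : Ideal.IsPrime p := hp
          obtain ⟨m, hm, hmp⟩ := Ideal.exists_minimalPrimes_le (bot_le : ⊥ ≤ p)
          haveI : m.IsPrime := hm.1.1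
          exact hmp ((Ideal.IsPrime.mem_or_mem ‹m.IsPrime› (hx ▸ m.zero_mem)).resolve_right (ht m hm))
    let I : Ideal Γ(X, ⊤) :=
      { carrier := {t | X.basicOpen t ≤ U}
        add_mem' := fun {a b} ha hb => (X.basicOpen_add_le a b).trans (sup_le ha hb)
        zero_mem' := by
          show X.basicOpen 0 ≤ U
          rw [X.basicOpen_zero]
          exact bot_le
        smul_mem' := fun c t ht => by
          show X.basicOpen (c * t) ≤ U
          rw [X.basicOpen_mul]
          exact inf_le_right.trans ht }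
    by_contra hcon
    push Not at hcon
    have hI : (I : Set Γ(X, ⊤)) ⊆ ⋃ q ∈ (hPfin.toFinset : Set (Ideal Γ(X, ⊤))), (q : Set Γ(X, ⊤)) := by
      intro t ht
      by_contra h
      refine hcon t (hzero t fun q hq htq => h ?_) ht
      exact Set.mem_iUnion₂.2 ⟨q, by simpa using hq, htq⟩
    obtain ⟨q, hq, hIq⟩ := (Ideal.subset_union_prime (f := id) ⊥ ⊥
      (fun i hi _ _ => (hP i (hPfin.mem_toFinset.1 hi)).1)).1 hI
    obtain ⟨-, a, ha0, ha⟩ := hP q (hPfin.mem_toFinset.1 hq)
    refine ha0 (hU ⊤ ?_)
    rw [map_zero]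
    refine TopCat.Presheaf.section_ext X.sheaf _ _ _ fun x hx => ?_
    obtain ⟨s, hs, hxs⟩ := (isAffineOpen_top X).exists_basicOpen_le (V := U) ⟨x, hx.2⟩ trivial
    show X.presheaf.germ (⊤ ⊓ U) x hx (X.presheaf.map (homOfLE _).op a) = X.presheaf.germ (⊤ ⊓ U) x hx 0
    rw [map_zero]
    refine (TopCat.Presheaf.germ_res_apply X.presheaf _ x hx a).trans ?_
    have h1 : IsUnit (X.presheaf.germ ⊤ x trivial s) := (X.mem_basicOpen' s ⟨x, trivial⟩).1 hxs
    refine h1.mul_right_eq_zero.1 ?_
    rw [← map_mul, ha s (hIq hs), map_zero]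
  · rintro ⟨t, ht, htU⟩
    have h1 : CInt.IsSchematicallyDense (X.basicOpen t) := Groth.Agent.S3833.result X t fun x => by
      letI := X.presheaf.algebra_section_stalk (⟨x, trivial⟩ : (⊤ : X.Opens))
      haveI := (isAffineOpen_top X).isLocalization_stalk ⟨x, trivial⟩
      exact IsLocalization.map_nonZeroDivisors_le ((isAffineOpen_top X).primeIdealOf ⟨x, trivial⟩).asIdeal.primeCompl
        (X.presheaf.stalk x) ⟨t, ht, rfl⟩
    intro V a b hab
    apply h1 V
    have hle : V ⊓ X.basicOpen t ≤ V ⊓ U := inf_le_inf_left V htU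
    have h2 := congrArg (X.presheaf.map (homOfLE hle).op) hab
    simp only [← CommRingCat.comp_apply, ← Functor.map_comp] at h2
    exact h2

end Groth.Agent.S3834
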