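import Groth.Statements.S15715
import Groth.Agent.S3834
import Groth.Agent.QCohLib.FiniteType
-- import your own Groth.Agent.* helpers here

set_option autoImplicit false
universe u
open CategoryTheory AlgebraicGeometry TopologicalSpace
open RatSing

namespace Groth.Agent.S15715

/-- Let X be a locally Noetherian scheme, φ : F → G a homomorphism of O_X-modules with F quasi-coherent
and torsion-free (over every affine open V, no nonzero section of F is killed by a regular element
of O_X(V)), and U a scheme-theoretically dense open subset of X such that the restriction of φ to U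
is injective. Then φ is injective. (The published statement allows an arbitrary O_X-module F; for
the skyscraper sheaf on the affine line over a field, placed at a closed point with value the local
ring at that point, which is torsion-free in this sense, the zero map to the zero module is
injective over the dense open complement of the point but not injective. This row takes F
quasi-coherent.) -/
theorem result (X : Scheme.{u})
    [IsLocallyNoetherian X] (F G : X.Modules) (hF : Coh.IsQCoh F)
    (htf : ∀ V : X.affineOpens, Submodule.torsion Γ(X, V.1) (F.val.obj (Opposite.op V.1)) = ⊥)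
    (φ : F ⟶ G) (U : X.Opens) (hU : CInt.IsSchematicallyDense U)
    (hφU : ∀ V : X.Opens, V ≤ U → Function.Injective ⇑(ConcreteCategory.hom (φ.val.app (Opposite.op V)))) (V : X.Opens) :
    Function.Injective ⇑(ConcreteCategory.hom (φ.val.app (Opposite.op V))) := by
  haveI : F.IsQuasicoherent := hF
  have key : ∀ W : X.Opens, IsAffineOpen W → ∀ s : Γ(F, W), φ.val.app (Opposite.op W) s = 0 → s = 0 := by
    intro W hW
    suffices h : ∀ W0 : X.Opens, W0 = W.ι ''ᵁ ⊤ → ∀ s : Γ(F, W0), φ.val.app (Opposite.op W0) s = 0 → s = 0 from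
      h W W.ι_image_top.symm
    rintro W0 rfl s hs
    have hW0 : IsAffineOpen (W.ι ''ᵁ ⊤) := by rw [W.ι_image_top]; exact hW
    haveI : IsAffine W := hW
    haveI : IsNoetherianRing Γ(X, W) := IsLocallyNoetherian.component_noetherian ⟨W, hW⟩
    haveI : IsLocallyNoetherian (W : Scheme.{u}) := isLocallyNoetherian_of_isOpenImmersion W.ι
    haveI : IsNoetherian (W : Scheme.{u}) := {}
    have hd : CInt.IsSchematicallyDense (W.ι ⁻¹ᵁ U) := by
      intro V' a b hab
      apply hU (W.ι ''ᵁ V')
      have hle : W.ι ''ᵁ V' ⊓ U ≤ W.ι ''ᵁ (V' ⊓ W.ι ⁻¹ᵁ U) := by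
        rintro _ ⟨⟨y, hy, rfl⟩, hyU⟩
        exact ⟨y, ⟨hy, hyU⟩, rfl⟩
      have h2 := congrArg (X.presheaf.map (homOfLE hle).op) hab
      have hc : ∀ c, X.presheaf.map (homOfLE hle).op
          (X.presheaf.map (homOfLE (W.ι.image_mono (inf_le_left : V' ⊓ W.ι ⁻¹ᵁ U ≤ V'))).op c) =
          X.presheaf.map (homOfLE inf_le_left).op c := fun c =>
        (ConcreteCategory.congr_hom (X.presheaf.map_comp _ _) c).symm
      exact (hc a).symm.trans (h2.trans (hc b))
    obtain ⟨t, ht, htU⟩ := (Groth.Agent.S3834.result (W : Scheme.{u}) (Or.inl inferInstance) (W.ι ⁻¹ᵁ U)).1 hd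
    let t' : Γ(X, W.ι ''ᵁ ⊤) := t
    have htU' : X.basicOpen t' ≤ U := by
      have h := (W.ι.image_mono htU).trans (W.ι.image_preimage_eq_opensRange_inf U |>.trans_le inf_le_right)
      rw [Scheme.image_basicOpen, Scheme.Opens.ι_appIso] at h
      exact h
    have h0 : F.presheaf.map (homOfLE (X.basicOpen_le t')).op s = 0 := by
      refine hφU _ htU' ?_
      refine Eq.trans ?_ (map_zero (φ.val.app (Opposite.op (X.basicOpen t'))).hom).symm
      have hn := PresheafOfModules.naturality_apply φ.val (homOfLE (X.basicOpen_le t')).op s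
      refine hn.trans ?_
      erw [hs]
      exact map_zero _
    letI := Groth.Agent.QCohLib.resModule F (X.basicOpen_le t')
    haveI := Groth.Agent.QCohLib.isLocalizedModule_res F hW0 t'
    obtain ⟨⟨_, n, rfl⟩, hn⟩ := (IsLocalizedModule.eq_zero_iff (Submonoid.powers t')
      (Groth.Agent.QCohLib.resLinearMap F (X.basicOpen_le t'))).1 h0
    have hmem : s ∈ Submodule.torsion Γ(X, W.ι ''ᵁ ⊤) (F.val.obj (Opposite.op (W.ι ''ᵁ ⊤))) :=
      ⟨⟨t' ^ n, pow_mem (ht : t' ∈ nonZeroDivisors Γ(X, W.ι ''ᵁ ⊤)) n⟩, hn⟩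
    have h3 := htf ⟨W.ι ''ᵁ ⊤, hW0⟩
    exact (Submodule.mem_bot Γ(X, W.ι ''ᵁ ⊤)).1 (h3 ▸ hmem)
  intro a b hab
  refine sub_eq_zero.1 ?_
  have hab' : φ.val.app (Opposite.op V) (a - b) = 0 := by rw [map_sub, hab, sub_self]
  let F' : TopCat.Sheaf Ab X := ⟨F.presheaf, F.isSheaf⟩
  refine TopCat.Presheaf.section_ext F' V _ _ fun x hx => ?_
  obtain ⟨_, ⟨W, hW, rfl⟩, hxW, e'⟩ := X.isBasis_affineOpens.exists_subset_of_mem_open hx V.2
  have e : W ≤ V := e'
  have h1 : F.presheaf.map (homOfLE e).op (a - b) = 0 := by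
    refine key W hW _ ?_
    refine (PresheafOfModules.naturality_apply φ.val (homOfLE e).op (a - b)).trans ?_
    erw [hab']
    exact map_zero _
  show F.presheaf.germ V x hx (a - b) = F.presheaf.germ V x hx 0
  rw [map_zero, ← TopCat.Presheaf.germ_res_apply F.presheaf (homOfLE e) x hxW, h1, map_zero]

end Groth.Agent.S15715
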