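import Groth.Statements.S15717
import Groth.Agent.DepthLib.CMModule

set_option autoImplicit false
universe u
open CAlg

namespace Groth.Agent.S15717

theorem _root_.Groth.Agent.S15717.WithBot.add_right_cancel' {a b : WithBot ℕ∞} {d : ℕ}
    (h : a + (d : WithBot ℕ∞) = b + ((d : ℕ∞) : WithBot ℕ∞)) : a = b := by
  induction d with
  | zero => simpa using h
  | succ d ih =>
    refine ih (DepthLib.withBot_add_one_cancel ?_)
    push_cast at h
    rw [add_assoc, add_assoc]
    exact h

/-- Let R be a Cohen–Macaulay local ring and I an ideal of R with R/I equidimensional (all minimal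
primes p over I have the same dim R/p). Then there is a regular sequence r_1, ..., r_n in I such
that the closed subscheme V(r_1, ..., r_n) of Spec R, a local complete intersection, contains V(I),
has the same dimension as V(I), and has the irreducible components of V(I) among its irreducible
components: dim R/(r_1, ..., r_n) = dim R/I and every minimal prime over I is a minimal prime over
(r_1, ..., r_n). The sequence is asked to be weakly regular (each r_i a non-zero-divisor modulo the
previous ones), which for I proper is the same as regular and which also covers I = R with the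
sequence (1). -/
theorem result (R : Type u) [CommRing R]
    [LocCoh.IsCohenMacaulayLocalRing R] (I : Ideal R)
    (hI : ∀ p ∈ I.minimalPrimes, ringKrullDim (R ⧸ p) = ringKrullDim (R ⧸ I)) :
    ∃ rs : List R, RingTheory.Sequence.IsWeaklyRegular R rs ∧ Ideal.ofList rs ≤ I ∧
      ringKrullDim (R ⧸ Ideal.ofList rs) = ringKrullDim (R ⧸ I) ∧
      I.minimalPrimes ⊆ (Ideal.ofList rs).minimalPrimes := by
  classical
  by_cases hI' : I = ⊤
  · subst hI'
    refine ⟨[1], (RingTheory.Sequence.isWeaklyRegular_singleton_iff R 1).mpr (fun a b h => by simpa using h),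
      le_top, ?_, ?_⟩
    · rw [Ideal.ofList_singleton, Ideal.span_singleton_one]
    · rw [Ideal.minimalPrimes_top]; exact Set.empty_subset _
  haveI : Nontrivial (R ⧸ I) := Ideal.Quotient.nontrivial_iff.mpr hI'
  have hCM := DepthLib.isCohenMacaulayModule_self (R := R)
  have hk := DepthLib.supportDim_quotient_add_idealDepth hCM hI'
  obtain ⟨d, hd⟩ := WithTop.ne_top_iff_exists.mp (fun ht => hI' (by
    have := (DepthLib.idealDepth_eq_top_iff (I := I) (M := R)).mp ht
    rwa [smul_eq_mul, Ideal.mul_top] at this) : LocCoh.idealDepth I R ≠ ⊤)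
  obtain ⟨rs, hlen, hreg, hrs⟩ := DepthLib.natCast_le_idealDepth_iff.mp hd.le
  have hle : Ideal.ofList rs ≤ I := Ideal.span_le.mpr hrs
  have hN := DepthLib.supportDim_quot_ofList_add_length
    (fun r hr => IsLocalRing.le_maximalIdeal hI' (hrs r hr)) hreg
  rw [smul_eq_mul, Ideal.mul_top, Module.supportDim_quotient_eq_ringKrullDim] at hk hN
  rw [← hd] at hk
  rw [hlen] at hN
  have heq : ringKrullDim (R ⧸ Ideal.ofList rs) = ringKrullDim (R ⧸ I) := by
    have h := hN.trans hk.symm
    revert h
    generalize ringKrullDim (R ⧸ Ideal.ofList rs) = a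
    generalize ringKrullDim (R ⧸ I) = b
    intro h
    exact WithBot.add_right_cancel' (d := d) h
  refine ⟨rs, hreg, hle, heq, fun p hp => ⟨⟨hp.1.1, hle.trans hp.1.2⟩, fun q hq hqp => ?_⟩⟩
  by_contra hne
  haveI := hq.1
  haveI := hp.1.1
  obtain ⟨y, hyp, hyq⟩ := SetLike.exists_of_lt (lt_of_le_of_ne hqp (fun h => hne (h ▸ le_rfl)))
  have h1 := DepthLib.ringKrullDim_quotient_succ_le hqp hyq hyp
  have h2 := h1.trans (ringKrullDim_le_of_surjective (Ideal.Quotient.factor hq.2) (Ideal.Quotient.factor_surjective hq.2))
  rw [heq, ← hI p hp] at h2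
  obtain ⟨f, hf⟩ := DepthLib.exists_nat_ringKrullDim_quotient p
  rw [hf] at h2
  have h3 : ((f + 1 : ℕ) : WithBot ℕ∞) ≤ (f : WithBot ℕ∞) := by exact_mod_cast h2
  exact absurd (Nat.cast_le.mp h3) (by omega)

end Groth.Agent.S15717
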