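import Groth.Statements.S1687
import Groth.Agent.InvExtend.AffineCompl

set_option autoImplicit false
set_option linter.style.haveILetI false
universe u
open CategoryTheory CategoryTheory.Limits AlgebraicGeometry TopologicalSpace
open SDiv

namespace Groth.Agent.S1687

/-- Let X be a Noetherian scheme with affine diagonal (the intersection of any two affine opens is
affine), U a dense affine open subset, and suppose the local ring of X at every point outside U is a
unique factorisation domain. Then there is an effective Cartier divisor whose support is exactly X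
minus U. -/
theorem result (X : Scheme.{u}) [IsNoetherian X]
    (hΔ : ∀ V W : X.Opens, IsAffineOpen V → IsAffineOpen W → IsAffineOpen (V ⊓ W)) (U : X.Opens) (hU : IsAffineOpen U)
    (hdense : Dense (U : Set ↥X))
    (hufd : ∀ x : ↥X, x ∉ U → IsDomain (X.presheaf.stalk x) ∧ UniqueFactorizationMonoid (X.presheaf.stalk x)) :
    ∃ 𝓘 : X.IdealSheafData, BlowUp.IsEffCartierIdeal 𝓘 ∧ (𝓘.support : Set ↥X) = (U : Set ↥X)ᶜ := by
  classical
  let Z : TopologicalSpace.Closeds X := ⟨(U : Set X)ᶜ, U.2.isClosed_compl⟩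
  let 𝓘 := Scheme.IdealSheafData.vanishingIdeal Z
  have hsupp : (𝓘.support : Set X) = (U : Set X)ᶜ := Scheme.IdealSheafData.coe_support_vanishingIdeal _
  refine ⟨𝓘, ?_, hsupp⟩
  refine Groth.Agent.InvExtend.isEffCartierIdeal_of_associatedPrimes 𝓘 (fun x hx => hufd x (hsupp.le hx))
    fun W q hq hmem => ?_
  have hz : Groth.Agent.InvExtend.pt W.2 q ∉ U := hsupp.le hmem
  obtain ⟨h1, h2⟩ := hufd _ hz
  refine Groth.Agent.InvExtend.ringKrullDim_stalk_eq_one_of_affine_compl hdense W.2 (hΔ _ _ W.2 hU)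
    (Groth.Agent.InvExtend.pt_mem W.2 q) hz fun y hy hyU => ?_
  -- associated primes of a radical ideal are minimal over it
  have hyW : y ∈ W.1 := hy.mem_open W.1.2 (Groth.Agent.InvExtend.pt_mem W.2 q)
  let Q := (W.2.primeIdealOf ⟨y, hyW⟩).asIdeal
  have hQq : Q ≤ q.asIdeal := by
    have := (Groth.Agent.InvExtend.specializes_iff W.2 (Groth.Agent.InvExtend.pt_mem W.2 q) hyW).mp hy
    exact this.trans (congrArg PrimeSpectrum.asIdeal (Groth.Agent.InvExtend.primeIdealOf_pt W.2 q)).le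
  have hIQ : 𝓘.ideal W ≤ Q := by
    have := (Set.ext_iff.mp (𝓘.coe_support_inter W) y).mp ⟨hsupp.ge hyU, hyW⟩
    intro f hf
    by_contra hfQ
    exact (Scheme.mem_zeroLocus_iff _ _ _).mp this.1 f hf ((Groth.Agent.InvExtend.mem_basicOpen_iff W.2 hyW f).mpr hfQ)
  obtain ⟨hp, x, hx⟩ := hq
  obtain ⟨a, rfl⟩ := Ideal.Quotient.mk_surjective x
  have hrad : (𝓘.ideal W).IsRadical := by
    rw [Scheme.IdealSheafData.vanishingIdeal_ideal]
    exact PrimeSpectrum.isRadical_vanishingIdeal _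
  have hann : ∀ r, r ∈ q.asIdeal → r * a ∈ 𝓘.ideal W := fun r hr => hrad (by
    obtain ⟨n, hn⟩ := hx.le hr
    rw [Submodule.mem_colon_singleton, Submodule.mem_bot] at hn
    refine ⟨n + 1, ?_⟩
    have hn' : r ^ n * a ∈ 𝓘.ideal W := Ideal.Quotient.eq_zero_iff_mem.mp hn
    have : (r * a) ^ (n + 1) = (r * a ^ n) * (r ^ n * a) := by ring
    rw [this]
    exact Ideal.mul_mem_left _ _ hn')
  have ha : a ∉ 𝓘.ideal W := fun h => hp.ne_top ((Ideal.eq_top_iff_one _).mpr (hx.ge ⟨1, by
    rw [Submodule.mem_colon_singleton, Submodule.mem_bot, Ideal.Quotient.eq_zero_iff_mem.mpr h, smul_zero]⟩))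
  obtain ⟨P, hP, haP⟩ : ∃ P ∈ (𝓘.ideal W).minimalPrimes, a ∉ P := by
    by_contra hc
    push Not at hc
    refine ha (hrad ?_)
    rw [← Ideal.sInf_minimalPrimes]
    exact Submodule.mem_sInf.mpr hc
  have hqP : q.asIdeal ≤ P := fun r hr => (hP.isPrime.mem_or_mem (hP.1.2 (hann r hr))).resolve_right haP
  have hQ : Q = q.asIdeal :=
    le_antisymm hQq (hqP.trans (hP.2 ⟨inferInstance, hIQ⟩ (hQq.trans hqP)))
  have : W.2.primeIdealOf ⟨y, hyW⟩ = q := PrimeSpectrum.ext hQ
  exact (W.2.fromSpec_primeIdealOf ⟨y, hyW⟩).symm.trans (congrArg W.2.fromSpec this)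

end Groth.Agent.S1687
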