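import Groth.Statements.S15738
import Mathlib.RingTheory.Ideal.Span
import Mathlib.Algebra.MvPolynomial.Basic
import Mathlib.Algebra.Ring.GeomSum
import Mathlib.Tactic.Linarith
import Mathlib.Tactic.LinearCombination

set_option autoImplicit false
universe u
open W4c2invhilbsl2

namespace Groth.Agent.S15738

open MvPolynomial in
lemma sub_mem_of_eq {k : Type u} [Field k] {p q : ℕ} (hpq : p < q) (I : Ideal (MvPolynomial (Fin 3) k))
    (hI : (X 0 : MvPolynomial (Fin 3) k) ^ (q - p) - X 1 * X 2 ∈ I)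
    {d0 d1 d2 e0 e1 e2 : ℕ} (h : (d1 : ℤ) - d2 = (e1 : ℤ) - e2)
    (hn : (e0 : ℤ) - (p : ℤ) * e1 + (q : ℤ) * e2 = (d0 : ℤ) - (p : ℤ) * d1 + (q : ℤ) * d2) :
    (X 0 : MvPolynomial (Fin 3) k) ^ d0 * X 1 ^ d1 * X 2 ^ d2 - X 0 ^ e0 * X 1 ^ e1 * X 2 ^ e2 ∈ I := by
  wlog hle : d1 ≤ e1 generalizing d0 d1 d2 e0 e1 e2 with H
  · rw [← neg_sub]
    exact I.neg_mem (H h.symm hn.symm (le_of_not_ge hle))
  obtain ⟨t, rfl⟩ := Nat.exists_eq_add_of_le hle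
  have he2 : e2 = d2 + t := by push_cast at h; omega
  subst he2
  have hd0 : d0 = e0 + (q - p) * t := by
    zify [hpq.le]
    push_cast at hn
    linear_combination -hn
  subst hd0
  rw [show (X 0 : MvPolynomial (Fin 3) k) ^ (e0 + (q - p) * t) * X 1 ^ d1 * X 2 ^ d2 - X 0 ^ e0 * X 1 ^ (d1 + t) * X 2 ^ (d2 + t) =
    X 0 ^ e0 * X 1 ^ d1 * X 2 ^ d2 * ((X 0 ^ (q - p)) ^ t - (X 1 * X 2) ^ t) by rw [mul_pow, ← pow_mul, pow_add, pow_add, pow_add]; ring]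
  obtain ⟨c, hc⟩ := sub_dvd_pow_sub_pow ((X 0 : MvPolynomial (Fin 3) k) ^ (q - p)) (X 1 * X 2) t
  rw [hc]
  exact I.mul_mem_left _ (I.mul_mem_right _ hI)


/-- Let k be a field and m ≥ 1; for a monomial X₀^d₀X₁^d₁X₂^d₂ of the polynomial ring in X₀, X₁, X₂ (X₂
standing for Xⱼ, j = 3 or 4, of the five-variable ring) put n = d₀ − p·d₁ + q·d₂ (its weight for the
torus diag(t, t^(−p), t^q)), c = d₁ − d₂ and ω = p·d₁ − q·d₂, so that d₀ = n + ω; here 0 < p < q are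
coprime integers. Take two monomials X₀^d₀X₁^d₁X₂^d₂ and X₀^e₀X₁^e₁X₂^e₂ with the same n and with
values c, c' of c congruent modulo m (so both lie in the same ℤ × ℤ/m-weight piece for the weights
(1,0), (−p,−1), (q,1)). Then: (i) if c = c', the difference of the two monomials lies in the
principal ideal (X₀^(q−p) − X₁X₂); (ii) if c' < c, the monomial X₀^d₀X₁^d₁X₂^d₂ lies in the ideal
(X₀^(q−p) − X₁X₂, X₀^(mp)X₁^m); (iii) in all cases the difference lies in the ideal (X₀^(q−p) −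
X₁X₂, 1 − X₀^(mp)X₁^m). -/
theorem result (k : Type u) [Field k] (p q m : ℕ) (hp : 0 < p) (hpq : p < q) (hcop : Nat.Coprime p q) (hm : 0 < m)
    (d0 d1 d2 e0 e1 e2 : ℕ) (hn : (e0 : ℤ) - (p : ℤ) * e1 + (q : ℤ) * e2 = (d0 : ℤ) - (p : ℤ) * d1 + (q : ℤ) * d2)
    (hc : (m : ℤ) ∣ ((d1 : ℤ) - d2) - ((e1 : ℤ) - e2)) :
    ((d1 : ℤ) - d2 = (e1 : ℤ) - e2 →
      (MvPolynomial.X (0 : Fin 3) ^ d0 * MvPolynomial.X (1 : Fin 3) ^ d1 * MvPolynomial.X (2 : Fin 3) ^ d2 - MvPolynomial.X (0 : Fin 3) ^ e0 * MvPolynomial.X (1 : Fin 3) ^ e1 * MvPolynomial.X (2 : Fin 3) ^ e2 : MvPolynomial (Fin 3) k) ∈ Ideal.span {MvPolynomial.X (0 : Fin 3) ^ (q - p) - MvPolynomial.X (1 : Fin 3) * MvPolynomial.X (2 : Fin 3)}) ∧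
    ((e1 : ℤ) - e2 < (d1 : ℤ) - d2 →
      (MvPolynomial.X (0 : Fin 3) ^ d0 * MvPolynomial.X (1 : Fin 3) ^ d1 * MvPolynomial.X (2 : Fin 3) ^ d2 : MvPolynomial (Fin 3) k) ∈ Ideal.span {MvPolynomial.X (0 : Fin 3) ^ (q - p) - MvPolynomial.X (1 : Fin 3) * MvPolynomial.X (2 : Fin 3), MvPolynomial.X (0 : Fin 3) ^ (m * p) * MvPolynomial.X (1 : Fin 3) ^ m}) ∧
    ((MvPolynomial.X (0 : Fin 3) ^ d0 * MvPolynomial.X (1 : Fin 3) ^ d1 * MvPolynomial.X (2 : Fin 3) ^ d2 - MvPolynomial.X (0 : Fin 3) ^ e0 * MvPolynomial.X (1 : Fin 3) ^ e1 * MvPolynomial.X (2 : Fin 3) ^ e2 : MvPolynomial (Fin 3) k) ∈ Ideal.span {MvPolynomial.X (0 : Fin 3) ^ (q - p) - MvPolynomial.X (1 : Fin 3) * MvPolynomial.X (2 : Fin 3), 1 - MvPolynomial.X (0 : Fin 3) ^ (m * p) * MvPolynomial.X (1 : Fin 3) ^ m}) := by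
  have step : ∀ (I : Ideal (MvPolynomial (Fin 3) k)),
      (MvPolynomial.X (0 : Fin 3) ^ (q - p) - MvPolynomial.X (1 : Fin 3) * MvPolynomial.X (2 : Fin 3) : MvPolynomial (Fin 3) k) ∈ I →
      ∀ (d0 d1 d2 e0 e1 e2 l : ℕ), (e0 : ℤ) - (p : ℤ) * e1 + (q : ℤ) * e2 = (d0 : ℤ) - (p : ℤ) * d1 + (q : ℤ) * d2 →
      ((d1 : ℤ) - d2) - ((e1 : ℤ) - e2) = (m : ℤ) * l →
      (MvPolynomial.X (0 : Fin 3) ^ d0 * MvPolynomial.X (1 : Fin 3) ^ d1 * MvPolynomial.X (2 : Fin 3) ^ d2 -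
        MvPolynomial.X (0 : Fin 3) ^ e0 * MvPolynomial.X (1 : Fin 3) ^ e1 * MvPolynomial.X (2 : Fin 3) ^ e2 *
          (MvPolynomial.X (0 : Fin 3) ^ (m * p) * MvPolynomial.X (1 : Fin 3) ^ m) ^ l : MvPolynomial (Fin 3) k) ∈ I := by
    intro I hI d0 d1 d2 e0 e1 e2 l hn' hl
    have := sub_mem_of_eq hpq I hI (d0 := d0) (d1 := d1) (d2 := d2) (e0 := e0 + m * p * l) (e1 := e1 + m * l) (e2 := e2)
      (by push_cast; linear_combination hl) (by push_cast; linear_combination hn')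
    convert this using 2
    rw [mul_pow, ← pow_mul, ← pow_mul, pow_add, pow_add]
    ring
  refine ⟨fun h => sub_mem_of_eq hpq _ (Ideal.subset_span (Set.mem_singleton _)) h hn, fun hlt => ?_, ?_⟩
  · obtain ⟨l, hl⟩ := hc
    have hl0 : 0 < l := by
      by_contra hcon
      have : (m : ℤ) * l ≤ 0 := mul_nonpos_of_nonneg_of_nonpos (by positivity) (le_of_not_gt hcon)
      omega
    lift l to ℕ using hl0.le
    have h1 := step (Ideal.span {MvPolynomial.X (0 : Fin 3) ^ (q - p) - MvPolynomial.X (1 : Fin 3) * MvPolynomial.X (2 : Fin 3), MvPolynomial.X (0 : Fin 3) ^ (m * p) * MvPolynomial.X (1 : Fin 3) ^ m})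
      (Ideal.subset_span (Set.mem_insert _ _)) d0 d1 d2 e0 e1 e2 l hn hl
    obtain ⟨l, rfl⟩ : ∃ l', l = l' + 1 := ⟨l - 1, by omega⟩
    refine (Submodule.sub_mem_iff_left _ ?_).mp h1
    rw [pow_succ, ← mul_assoc]
    exact Ideal.mul_mem_left _ _ (Ideal.subset_span (Set.mem_insert_of_mem _ rfl))
  · set I : Ideal (MvPolynomial (Fin 3) k) := Ideal.span {MvPolynomial.X (0 : Fin 3) ^ (q - p) - MvPolynomial.X (1 : Fin 3) * MvPolynomial.X (2 : Fin 3), 1 - MvPolynomial.X (0 : Fin 3) ^ (m * p) * MvPolynomial.X (1 : Fin 3) ^ m} with hI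
    have hI1 : (1 - MvPolynomial.X (0 : Fin 3) ^ (m * p) * MvPolynomial.X (1 : Fin 3) ^ m : MvPolynomial (Fin 3) k) ∈ I :=
      Ideal.subset_span (Set.mem_insert_of_mem _ rfl)
    have hpow : ∀ (M : MvPolynomial (Fin 3) k) (l : ℕ),
        M * (MvPolynomial.X (0 : Fin 3) ^ (m * p) * MvPolynomial.X (1 : Fin 3) ^ m) ^ l - M ∈ I := by
      intro M l
      obtain ⟨c, hc⟩ := sub_dvd_pow_sub_pow (1 : MvPolynomial (Fin 3) k) (MvPolynomial.X (0 : Fin 3) ^ (m * p) * MvPolynomial.X (1 : Fin 3) ^ m) l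
      rw [one_pow] at hc
      rw [← neg_sub, ← mul_one_sub, hc]
      exact I.neg_mem (I.mul_mem_left _ (I.mul_mem_right _ hI1))
    obtain ⟨l, hl⟩ := hc
    rcases Int.eq_nat_or_neg l with ⟨l, rfl | rfl⟩
    · have h1 := step I (Ideal.subset_span (Set.mem_insert _ _)) d0 d1 d2 e0 e1 e2 l hn hl
      have h2 := I.add_mem h1 (hpow (MvPolynomial.X (0 : Fin 3) ^ e0 * MvPolynomial.X (1 : Fin 3) ^ e1 * MvPolynomial.X (2 : Fin 3) ^ e2) l)
      rwa [sub_add_sub_cancel] at h2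
    · have h1 := step I (Ideal.subset_span (Set.mem_insert _ _)) e0 e1 e2 d0 d1 d2 l hn.symm (by linear_combination -hl)
      have h2 := I.neg_mem (I.add_mem h1 (hpow (MvPolynomial.X (0 : Fin 3) ^ d0 * MvPolynomial.X (1 : Fin 3) ^ d1 * MvPolynomial.X (2 : Fin 3) ^ d2) l))
      rwa [sub_add_sub_cancel, neg_sub] at h2

end Groth.Agent.S15738
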