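import Groth.Statements.S15739
import Mathlib.RingTheory.Ideal.Span
import Mathlib.Algebra.MvPolynomial.Basic
import Mathlib.Algebra.Ring.GeomSum
import Mathlib.RingTheory.Coprime.Lemmas
import Mathlib.RingTheory.Int.Basic
import Mathlib.Tactic.Linarith
import Mathlib.Tactic.LinearCombination

set_option autoImplicit false
universe u
open W4c2invhilbsl2

namespace Groth.Agent.S15739

/-- Let k be a field and m ≥ 1, put g = gcd(m, q−p), a = m/g and b = (q−p)/g; for a monomial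
X₀^d₀X₁^d₁X₂^d₂ of the polynomial ring in X₀, X₁, X₂ (X₂ standing for Xⱼ, j = 3 or 4, of the
five-variable ring) put n = d₀ − p·d₁ + q·d₂ (its weight for the torus diag(t, t^(−p), t^q)), c = d₁
− d₂ and ω = p·d₁ − q·d₂, so that d₀ = n + ω; here 0 < p < q are coprime integers. Take two
monomials X₀^d₀X₁^d₁X₂^d₂ and X₀^e₀X₁^e₁X₂^e₂ with the same n, where 0 ≤ n < q − p, whose values c
and c' of c are both divisible by m, and with d₀ < g and e₀ < g (so each has the least ω for its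
pair (n, c), as g ≤ q − p). Then: (i) d₀ = e₀, i.e. the two values of ω agree, and m·b divides c −
c'; (ii) if c < c', then X₀^e₀X₁^e₁X₂^e₂ is a multiple of X₀^d₀X₁^d₁X₂^d₂ · X₁^(aq)X₂^(ap); (iii)
the difference of the two monomials lies in the principal ideal (1 − X₁^(aq)X₂^(ap)). -/
theorem result (k : Type u) [Field k] (p q m : ℕ) (hp : 0 < p) (hpq : p < q) (hcop : Nat.Coprime p q) (hm : 0 < m)
    (d0 d1 d2 e0 e1 e2 : ℕ) (hn : (e0 : ℤ) - (p : ℤ) * e1 + (q : ℤ) * e2 = (d0 : ℤ) - (p : ℤ) * d1 + (q : ℤ) * d2)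
    (hn0 : 0 ≤ (d0 : ℤ) - (p : ℤ) * d1 + (q : ℤ) * d2) (hnq : (d0 : ℤ) - (p : ℤ) * d1 + (q : ℤ) * d2 < (q : ℤ) - p)
    (hcd : (m : ℤ) ∣ (d1 : ℤ) - d2) (hce : (m : ℤ) ∣ (e1 : ℤ) - e2)
    (hd0 : d0 < Nat.gcd m (q - p)) (he0 : e0 < Nat.gcd m (q - p)) :
    (d0 = e0 ∧ ((m : ℤ) * ((q - p) / Nat.gcd m (q - p) : ℕ)) ∣ ((d1 : ℤ) - d2) - ((e1 : ℤ) - e2)) ∧
    ((d1 : ℤ) - d2 < (e1 : ℤ) - e2 →
      (MvPolynomial.X (0 : Fin 3) ^ d0 * MvPolynomial.X (1 : Fin 3) ^ d1 * MvPolynomial.X (2 : Fin 3) ^ d2 * (MvPolynomial.X (1 : Fin 3) ^ (m / Nat.gcd m (q - p) * q) * MvPolynomial.X (2 : Fin 3) ^ (m / Nat.gcd m (q - p) * p)) : MvPolynomial (Fin 3) k) ∣ MvPolynomial.X (0 : Fin 3) ^ e0 * MvPolynomial.X (1 : Fin 3) ^ e1 * MvPolynomial.X (2 : Fin 3) ^ e2) ∧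
    ((MvPolynomial.X (0 : Fin 3) ^ e0 * MvPolynomial.X (1 : Fin 3) ^ e1 * MvPolynomial.X (2 : Fin 3) ^ e2 - MvPolynomial.X (0 : Fin 3) ^ d0 * MvPolynomial.X (1 : Fin 3) ^ d1 * MvPolynomial.X (2 : Fin 3) ^ d2 : MvPolynomial (Fin 3) k) ∈
      Ideal.span {(1 : MvPolynomial (Fin 3) k) - MvPolynomial.X (1 : Fin 3) ^ (m / Nat.gcd m (q - p) * q) * MvPolynomial.X (2 : Fin 3) ^ (m / Nat.gcd m (q - p) * p)}) := by
  set g := Nat.gcd m (q - p) with hg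
  have hgpos : 0 < g := Nat.gcd_pos_of_pos_left _ hm
  obtain ⟨a, ha⟩ : g ∣ m := Nat.gcd_dvd_left _ _
  obtain ⟨b, hb⟩ : g ∣ q - p := Nat.gcd_dvd_right _ _
  have hb' : (q - p) / g = b := by rw [hb, Nat.mul_div_cancel_left _ hgpos]
  have ha' : m / g = a := by rw [ha, Nat.mul_div_cancel_left _ hgpos]
  have hbz : (q : ℤ) - p = (g : ℤ) * b := by
    have := congrArg (fun x : ℕ => (x : ℤ)) hb
    push_cast [Nat.cast_sub hpq.le] at this
    exact this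
  have haz : (m : ℤ) = (g : ℤ) * a := by exact_mod_cast ha
  obtain ⟨cd, hcd⟩ := hcd
  obtain ⟨ce, hce⟩ := hce
  have hdvd : (g : ℤ) ∣ (d0 : ℤ) - e0 :=
    ⟨(p : ℤ) * a * (cd - ce) - b * ((d2 : ℤ) - e2), by
      linear_combination (-1 : ℤ) * hn + (p : ℤ) * hcd - (p : ℤ) * hce - ((d2 : ℤ) - e2) * hbz + (p : ℤ) * (cd - ce) * haz⟩
  have hd0e0 : d0 = e0 := by
    have h0 : (d0 : ℤ) - e0 = 0 := Int.eq_zero_of_abs_lt_dvd hdvd (abs_lt.mpr ⟨by omega, by omega⟩)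
    omega
  subst hd0e0
  have hk : (p : ℤ) * a * (cd - ce) = (b : ℤ) * ((d2 : ℤ) - e2) := by
    refine mul_left_cancel₀ (Nat.cast_ne_zero.mpr hgpos.ne' : (g : ℤ) ≠ 0) ?_
    linear_combination hn - (p : ℤ) * hcd + (p : ℤ) * hce + ((d2 : ℤ) - e2) * hbz - (p : ℤ) * (cd - ce) * haz
  have hcopab : Nat.Coprime a b := by
    have := Nat.coprime_div_gcd_div_gcd (m := m) (n := q - p) hgpos
    rwa [← hg, ha', hb'] at this
  have hcoppb : Nat.Coprime p b := by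
    have h1 : Nat.Coprime p (q - p) := by rwa [Nat.coprime_sub_self_right hpq.le]
    exact Nat.Coprime.coprime_dvd_right ⟨g, by rw [hb, mul_comm]⟩ h1
  have hbdvd : (b : ℤ) ∣ cd - ce := by
    have h1 : (b : ℤ) ∣ ((p : ℤ) * a) * (cd - ce) := ⟨_, hk⟩
    have h2 : IsCoprime (b : ℤ) ((p : ℤ) * a) := by
      exact_mod_cast (Nat.Coprime.isCoprime ((hcoppb.symm).mul_right hcopab.symm))
    exact h2.dvd_of_dvd_mul_left h1
  obtain ⟨j, hj⟩ := hbdvd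
  have hb0 : (b : ℤ) ≠ 0 := by
    intro h
    rw [h, mul_zero] at hbz
    omega
  have hΔ2 : (d2 : ℤ) - e2 = (a : ℤ) * p * j := by
    refine mul_left_cancel₀ hb0 ?_
    rw [← hk, hj]
    ring
  have hΔ1 : (d1 : ℤ) - e1 = (a : ℤ) * q * j := by
    linear_combination hcd - hce + hΔ2 + (m : ℤ) * hj + (b : ℤ) * j * haz - (a : ℤ) * j * hbz
  rw [ha', hb']
  have hc : ((d1 : ℤ) - d2) - ((e1 : ℤ) - e2) = (m : ℤ) * b * j := by
    linear_combination hcd - hce + (m : ℤ) * hj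
  have key : ∀ {f1 f2 h1 h2 l : ℕ}, (h1 : ℤ) - f1 = (a : ℤ) * q * l → (h2 : ℤ) - f2 = (a : ℤ) * p * l →
      (MvPolynomial.X (0 : Fin 3) ^ d0 * MvPolynomial.X (1 : Fin 3) ^ h1 * MvPolynomial.X (2 : Fin 3) ^ h2 : MvPolynomial (Fin 3) k) =
      MvPolynomial.X (0 : Fin 3) ^ d0 * MvPolynomial.X (1 : Fin 3) ^ f1 * MvPolynomial.X (2 : Fin 3) ^ f2 *
        (MvPolynomial.X (1 : Fin 3) ^ (a * q) * MvPolynomial.X (2 : Fin 3) ^ (a * p)) ^ l := by
    intro f1 f2 h1 h2 l e1' e2'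
    rw [show h1 = f1 + a * q * l by zify; linear_combination e1',
      show h2 = f2 + a * p * l by zify; linear_combination e2', mul_pow, ← pow_mul, ← pow_mul, pow_add, pow_add]
    ring
  refine ⟨⟨rfl, j, hc⟩, fun hlt => ?_, ?_⟩
  · have hjneg : j < 0 := by
      by_contra hcon
      have : (0 : ℤ) ≤ (m : ℤ) * b * j := mul_nonneg (by positivity) (le_of_not_gt hcon)
      omega
    obtain ⟨l, hl⟩ : ∃ l : ℕ, j = -((l : ℤ) + 1) := ⟨(-j - 1).toNat, by omega⟩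
    rw [key (f1 := d1) (f2 := d2) (h1 := e1) (h2 := e2) (l := l + 1)
      (by push_cast; linear_combination -hΔ1 - (a : ℤ) * q * hl)
      (by push_cast; linear_combination -hΔ2 - (a : ℤ) * p * hl), pow_succ]
    exact ⟨(MvPolynomial.X (1 : Fin 3) ^ (a * q) * MvPolynomial.X (2 : Fin 3) ^ (a * p)) ^ l, by ring⟩
  · rw [Ideal.mem_span_singleton]
    rcases Int.eq_nat_or_neg j with ⟨l, rfl | rfl⟩
    · rw [key (f1 := e1) (f2 := e2) (h1 := d1) (h2 := d2) (l := l) hΔ1 hΔ2, ← mul_one_sub]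
      exact Dvd.dvd.mul_left (by simpa using sub_dvd_pow_sub_pow (1 : MvPolynomial (Fin 3) k) _ l) _
    · rw [key (f1 := d1) (f2 := d2) (h1 := e1) (h2 := e2) (l := l) (by linear_combination -hΔ1)
        (by linear_combination -hΔ2), ← dvd_neg, neg_sub, ← mul_one_sub]
      exact Dvd.dvd.mul_left (by simpa using sub_dvd_pow_sub_pow (1 : MvPolynomial (Fin 3) k) _ l) _

end Groth.Agent.S15739
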