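import Groth.Statements.S1574
import Groth.Agent.AffineComplDim.Basic
-- import your own Groth.Agent.* helpers here

set_option autoImplicit false
universe u
open CategoryTheory CategoryTheory.Limits AlgebraicGeometry
open Divisors

namespace Groth.Agent.S1574

/-- For a Noetherian local ring A, the punctured spectrum (Spec A minus the closed point, as an open
subscheme) is affine if and only if dim A ≤ 1. -/
theorem result (A : Type u) [CommRing A] [IsLocalRing A] [IsNoetherianRing A] :
    IsAffine (FEt.puncturedSpec A : Scheme.{u}) ↔ ringKrullDim A ≤ 1 := by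
  classical
  constructor
  · intro h
    have h1 := Groth.Agent.AffineComplDim.height_le_one_of_isAffineOpen (A := A) (FEt.puncturedSpec A) h
      (IsLocalRing.closedPoint A) (fun hn => hn rfl) (fun q _ hq => not_not.mp hq)
    rw [← IsLocalRing.maximalIdeal_height_eq_ringKrullDim]
    exact_mod_cast h1
  · intro h
    haveI : Ring.KrullDimLE 1 A := Ring.krullDimLE_iff.mpr (by exact_mod_cast h)
    let M := ((⊥ : Ideal A).finite_minimalPrimes_of_isNoetherianRing).sdiff (t := {IsLocalRing.maximalIdeal A})
    have hcov : ¬ ((IsLocalRing.maximalIdeal A : Set A) ⊆ ⋃ i ∈ M.toFinset, ((i : Ideal A) : Set A)) := by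
      intro hsub
      obtain ⟨i, hi, hle⟩ := (Ideal.subset_union_prime ⊥ ⊥
        (fun i hi _ _ => ((M.mem_toFinset.mp hi).1).isPrime)).mp hsub
      obtain ⟨hi1, hi2⟩ := M.mem_toFinset.mp hi
      exact hi2 (le_antisymm (IsLocalRing.le_maximalIdeal hi1.isPrime.ne_top) hle)
    obtain ⟨f, hfm, hf⟩ := Set.not_subset.mp hcov
    have heq : FEt.puncturedSpec A = PrimeSpectrum.basicOpen f := by
      refine TopologicalSpace.Opens.ext (Set.ext fun q => ?_)
      change q ≠ IsLocalRing.closedPoint A ↔ f ∉ q.asIdeal
      refine ⟨fun hq hfq => ?_, fun hfq hq => hfq (hq ▸ hfm)⟩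
      rcases Ring.krullDimLE_one_iff.mp inferInstance q.asIdeal q.isPrime with hmin | hmax
      · refine hf (Set.mem_biUnion (M.mem_toFinset.mpr ⟨hmin, fun he => hq ?_⟩) hfq)
        exact PrimeSpectrum.ext he
      · exact hq (PrimeSpectrum.ext (IsLocalRing.eq_maximalIdeal hmax))
    rw [heq]
    exact AlgebraicGeometry.IsAffineOpen.Spec_basicOpen (R := CommRingCat.of A) f

end Groth.Agent.S1574
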