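import Groth.Statements.S15748
import Groth.Agent.WeilLib.Kunneth


set_option autoImplicit false
universe u v
open CategoryTheory AlgebraicGeometry
open WeilCoh Groth.Agent.WeilLib

namespace Groth.Agent.S15748

/-- Let `H` be a Weil cohomology theory with coefficients in a field `K` of characteristic zero on
nonsingular connected projective varieties over an algebraically closed field `k`; let `X`, `Y` be
such varieties, `P` a product `X × Y` with projections `p`, `q`, `P'` a product `Y × X` with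
projections `p'`, `q'`, and `σ : P ⟶ P'` the swap (`σ p' = q`, `σ q' = p`). For an integer `r`, a
class `φ ∈ H^{2 dim X + r}(P)` acts as the degree-`r` correspondence `x ↦ q_*(p^* x ∪ φ)` from
`H•(X)` to `H•(Y)`, and `ψ ∈ H^{2 dim Y − r}(P')` as the degree-`(−r)` correspondence `y ↦ q'_*(p'^*
y ∪ ψ)` back. Then `Tr_P(φ ∪ σ^* ψ) = Σ_{i=0}^{2 dim X} (−1)^i tr(ψ ∘ φ | H^i(X))`. The hypothesis
`hdim` is the arithmetic identity expressing `dim P = dim P' = dim X + dim Y` in the form needed to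
read the composite `ψ ∘ φ` as an endomorphism of each `H^i(X)` (the push-forward maps are indexed by
the dimensions of the underlying spaces). (The published lemma defines the action of a
correspondence through the Künneth and Poincaré duality identifications `Hom^r(H•X, H•Y) = H^{2 dim
X + r}(X × Y)` and the transpose through the same identifications; here the action is written as
pull-back, cup product and push-forward, and the transpose as pull-back along the swap, which the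
published text identifies with it.) (The published lemma is stated for smooth projective varieties
over an arbitrary base field, pure of their dimensions, with Tate twists; this row is its case of
connected varieties over an algebraically closed field, without twists.) -/
theorem result (k : Type u) [Field k] [IsAlgClosed k] (K : Type v) [Field K] [CharZero K]
    (T : WeilCoh.Theory k K) (X Y P P' : WeilCoh.Var k)
    (p : P ⟶ X) (q : P ⟶ Y) (hP : WeilCoh.IsProd p q)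
    (p' : P' ⟶ Y) (q' : P' ⟶ X) (hP' : WeilCoh.IsProd p' q')
    (σ : P ⟶ P') (hσ₁ : σ ≫ p' = q) (hσ₂ : σ ≫ q' = p) (r : ℤ)
    (hdim : ∀ i : ℤ, ((i + (2 * (WeilCoh.dim X.obj.left : ℤ) + r) + 2 * (WeilCoh.dim Y.obj.left : ℤ) - 2 * (WeilCoh.dim P.obj.left : ℤ)) + (2 * (WeilCoh.dim Y.obj.left : ℤ) - r) + 2 * (WeilCoh.dim X.obj.left : ℤ) - 2 * (WeilCoh.dim P'.obj.left : ℤ)) = i)
    (φ : ↥(T.gr P (2 * (WeilCoh.dim X.obj.left : ℤ) + r))) (ψ : ↥(T.gr P' (2 * (WeilCoh.dim Y.obj.left : ℤ) - r))) :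
    T.tr P ((φ : T.H P) * T.pull σ (ψ : T.H P')) =
      ∑ i ∈ Finset.range (2 * WeilCoh.dim X.obj.left + 1),
        (-1 : K) ^ i * LinearMap.trace K ↥(T.gr X (i : ℤ))
          ((LinearEquiv.ofEq (T.gr X (((i : ℤ) + (2 * (WeilCoh.dim X.obj.left : ℤ) + r) + 2 * (WeilCoh.dim Y.obj.left : ℤ) - 2 * (WeilCoh.dim P.obj.left : ℤ)) + (2 * (WeilCoh.dim Y.obj.left : ℤ) - r) + 2 * (WeilCoh.dim X.obj.left : ℤ) - 2 * (WeilCoh.dim P'.obj.left : ℤ))) (T.gr X (i : ℤ)) (congrArg (T.gr X) (hdim (i : ℤ)))).toLinearMap ∘ₗ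
            ((T.push q' (((i : ℤ) + (2 * (WeilCoh.dim X.obj.left : ℤ) + r) + 2 * (WeilCoh.dim Y.obj.left : ℤ) - 2 * (WeilCoh.dim P.obj.left : ℤ)) + (2 * (WeilCoh.dim Y.obj.left : ℤ) - r))) ∘ₗ ((LinearMap.mulRight K (ψ : T.H P')).restrict (p := T.gr P' ((i : ℤ) + (2 * (WeilCoh.dim X.obj.left : ℤ) + r) + 2 * (WeilCoh.dim Y.obj.left : ℤ) - 2 * (WeilCoh.dim P.obj.left : ℤ))) (q := T.gr P' (((i : ℤ) + (2 * (WeilCoh.dim X.obj.left : ℤ) + r) + 2 * (WeilCoh.dim Y.obj.left : ℤ) - 2 * (WeilCoh.dim P.obj.left : ℤ)) + (2 * (WeilCoh.dim Y.obj.left : ℤ) - r))) (fun y hy => SetLike.mul_mem_graded hy ψ.2)) ∘ₗ (T.pullDeg p' ((i : ℤ) + (2 * (WeilCoh.dim X.obj.left : ℤ) + r) + 2 * (WeilCoh.dim Y.obj.left : ℤ) - 2 * (WeilCoh.dim P.obj.left : ℤ)))) ∘ₗ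
            ((T.push q ((i : ℤ) + (2 * (WeilCoh.dim X.obj.left : ℤ) + r))) ∘ₗ ((LinearMap.mulRight K (φ : T.H P)).restrict (p := T.gr P (i : ℤ)) (q := T.gr P ((i : ℤ) + (2 * (WeilCoh.dim X.obj.left : ℤ) + r))) (fun x hx => SetLike.mul_mem_graded hx φ.2)) ∘ₗ (T.pullDeg p (i : ℤ)))) := by
  obtain ⟨e, f, hef⟩ := exists_bases T X
  have hd := dim_prod T p q hP
  let g : ∀ s : ℕ, ↥(T.gr X (s : ℤ)) →ₗ[K] T.H Y := fun s =>
    Submodule.subtype _ ∘ₗ (T.push q ((s : ℤ) + (2 * (WeilCoh.dim X.obj.left : ℤ) + r))) ∘ₗ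
      ((LinearMap.mulRight K (φ : T.H P)).restrict (p := T.gr P (s : ℤ))
        (q := T.gr P ((s : ℤ) + (2 * (WeilCoh.dim X.obj.left : ℤ) + r)))
        (fun x hx => SetLike.mul_mem_graded hx φ.2)) ∘ₗ (T.pullDeg p (s : ℤ))
  have hg : ∀ (s : ℕ) (a : ↥(T.gr X (s : ℤ))), g s a ∈
      T.gr Y ((s : ℤ) + (2 * (WeilCoh.dim X.obj.left : ℤ) + r) - 2 * WeilCoh.dim X.obj.left) :=
    fun s a => (show (s : ℤ) + (2 * (WeilCoh.dim X.obj.left : ℤ) + r) + 2 * (WeilCoh.dim Y.obj.left : ℤ) -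
        2 * (WeilCoh.dim P.obj.left : ℤ) =
      (s : ℤ) + (2 * (WeilCoh.dim X.obj.left : ℤ) + r) - 2 * WeilCoh.dim X.obj.left by
        rw [hd]; ring) ▸ Subtype.prop _
  conv_lhs => rw [eq_expansion T e f hef hP φ.2 g hg fun s a b => tr_push T q _ _ b, expansion,
    Finset.sum_mul, map_sum]
  refine Finset.sum_congr rfl fun s hs => ?_
  have hs' : s ≤ 2 * WeilCoh.dim X.obj.left := by simpa [Nat.lt_succ_iff] using hs
  rw [trace_eq_sum T (e s) (f s) (hef s hs'), smul_mul_assoc, map_smul, Finset.sum_mul, map_sum,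
    smul_eq_mul]
  congr 1
  refine Finset.sum_congr rfl fun l _ => ?_
  set L : ↥(T.gr X (s : ℤ)) →ₗ[K] ↥(T.gr X (s : ℤ)) := _
  rw [mul_comm_z T (f s l).2 (L (e s l)).2, map_smul, smul_eq_mul]
  have hy := hg s (e s l)
  have hLe : T.tr X ((L (e s l) : T.H X) * (f s l : T.H X)) =
      T.tr P' (T.pull p' (g s (e s l)) * (ψ : T.H P') * T.pull q' (f s l : T.H X)) :=
    tr_push T q' _ _ _
  rw [hLe, ← tr_pull_swap T hP hP' σ hσ₁ hσ₂, map_mul (T.pull σ), map_mul (T.pull σ), pull_pull,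
    pull_pull, hσ₁, hσ₂,
    mul_comm_z T (SetLike.mul_mem_graded (T.pull_mem q _ _ hy) (T.pull_mem σ _ _ ψ.2))
      (T.pull_mem p _ _ (f s l).2), map_smul, smul_eq_mul, ← mul_assoc, ← zpow_add₀ (by simp),
    mul_assoc (T.pull p _), Even.neg_one_zpow, one_mul]
  refine ⟨(2 * (WeilCoh.dim X.obj.left : ℤ) - s) * (s + WeilCoh.dim Y.obj.left), by ring⟩

end Groth.Agent.S15748
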