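import Mathlib
import Groth.Statements.S15749
-- import your own Groth.Agent.* helpers here

set_option autoImplicit false
universe u
open CAlg

namespace Groth.Agent.S15749

/-- For an arbitrary commutative ring R, every idempotent of the ring of formal Laurent series R((t)) is
the constant series attached to a unique idempotent of R. Equivalently, the structure map R → R((t))
induces a bijection on idempotents, so that the spectrum of R((t)) is connected if and only if the
spectrum of R is. No reducedness is assumed. -/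
theorem result (R : Type u) [CommRing R]
    (e : LaurentSeries R) (he : IsIdempotentElem e) :
    ∃! r : R, IsIdempotentElem r ∧ HahnSeries.C r = e := by
  classical
  have hmul : ∀ (J : Ideal R) (x y : LaurentSeries R) (m : ℤ),
      (∀ i j, i + j = m → x.coeff i * y.coeff j ∈ J) → (x * y).coeff m ∈ J := fun J x y m h => by
    rw [HahnSeries.coeff_mul]
    exact J.sum_mem fun ij hij => h _ _ (Finset.mem_addAntidiagonal.1 hij).2.2
  have hneg : ∀ (P : Ideal R), P.IsPrime → ∀ (x : LaurentSeries R), IsIdempotentElem x → ∀ n < 0, x.coeff n ∈ P := by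
    intro P hP x hx
    suffices ∀ k : ℕ, ∀ n : ℤ, n < 0 → n < x.order + k → x.coeff n ∈ P from fun n hn => this (n - x.order + 1).toNat n hn (by omega)
    intro k
    induction k with
    | zero => intro n _ hn; rw [HahnSeries.coeff_eq_zero_of_lt_order (by omega)]; exact P.zero_mem
    | succ k ih =>
      intro n hn hlt
      by_cases h' : n < x.order + k
      · exact ih n hn h'
      have hn' : n = x.order + k := by omega
      refine (hP.mem_or_mem (?_ : x.coeff n * x.coeff n ∈ P)).elim id id
      have h2 : x.coeff (n + n) ∈ P := ih (n + n) (by omega) (by omega)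
      nth_rw 1 [← hx.eq] at h2
      rw [HahnSeries.coeff_mul] at h2
      by_contra hnn
      have hsupp : x.coeff n ≠ 0 := fun h0 => hnn (by simp [h0])
      rw [Finset.sum_eq_add_sum_sdiff_singleton_of_mem (i := (n, n)) (Finset.mem_addAntidiagonal.2 ⟨hsupp, hsupp, rfl⟩)] at h2
      refine hnn ((P.add_mem_iff_left (P.sum_mem fun ij hij => ?_)).1 h2)
      obtain ⟨hij, hne⟩ := Finset.mem_sdiff.1 hij
      have hsum : ij.1 + ij.2 = n + n := (Finset.mem_addAntidiagonal.1 hij).2.2
      rw [Finset.mem_singleton, Prod.ext_iff] at hne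
      rcases lt_trichotomy ij.1 n with h | h | h
      · exact P.mul_mem_right _ (ih _ (by omega) (by omega))
      · exact absurd ⟨h, by omega⟩ hne
      · exact P.mul_mem_left _ (ih _ (by omega) (by omega))
  have hpos : ∀ (P : Ideal R), P.IsPrime → ∀ (x : LaurentSeries R), IsIdempotentElem x → x.coeff 0 ∈ P → ∀ n, x.coeff n ∈ P := by
    intro P hP x hx h0
    suffices ∀ k : ℕ, ∀ n : ℤ, n ≤ k → x.coeff n ∈ P from fun n => this n.toNat n (by omega)
    intro k
    induction k with
    | zero => intro n hn; rcases hn.lt_or_eq with h | h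
              · exact hneg P hP x hx n h
              · rw [h]; exact h0
    | succ k ih =>
      intro n hn
      rcases hn.lt_or_eq with h | h
      · exact ih n (by push_cast at h; omega)
      · rw [← hx.eq]
        refine hmul P x x n fun i j hij => ?_
        by_cases hi : i ≤ k
        · exact P.mul_mem_right _ (ih i hi)
        · exact P.mul_mem_left _ (ih j (by push_cast at h; omega))
  have hnil0 : ∀ n, n ≠ 0 → IsNilpotent (e.coeff n) := by
    intro n hn
    rw [← mem_nilradical, nilradical_eq_sInf, Submodule.mem_sInf]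
    intro (P : Ideal R) (hP : Ideal.IsPrime P)
    by_cases h0 : e.coeff 0 ∈ P
    · exact hpos P hP e he h0 n
    · have he1 : IsIdempotentElem (1 - e) := he.one_sub
      have h10 : (1 - e).coeff 0 ∈ P := by
        refine (hP.mem_or_mem (?_ : e.coeff 0 * (1 - e).coeff 0 ∈ P)).resolve_left h0
        have h2 : e.coeff 0 - e.coeff 0 * e.coeff 0 ∈ P := by
          have hz : (e * e).coeff 0 = e.coeff 0 := by rw [he.eq]
          rw [HahnSeries.coeff_mul] at hz
          by_cases hs : e.coeff 0 = 0
          · simp [hs]
          rw [Finset.sum_eq_add_sum_sdiff_singleton_of_mem (i := ((0 : ℤ), (0 : ℤ))) (show ((0 : ℤ), (0 : ℤ)) ∈ Finset.antidiagonal e.isPWO_support e.isPWO_support (0 : ℤ) by simp [hs])] at hz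
          rw [show e.coeff 0 - e.coeff 0 * e.coeff 0 = _ from sub_eq_of_eq_add' hz.symm]
          refine P.sum_mem fun ij hij => ?_
          obtain ⟨hij, hne⟩ := Finset.mem_sdiff.1 hij
          have hsum : ij.1 + ij.2 = 0 := (Finset.mem_addAntidiagonal.1 hij).2.2
          rw [Finset.mem_singleton, Prod.ext_iff] at hne
          rcases lt_trichotomy ij.1 0 with h | h | h
          · exact P.mul_mem_right _ (hneg P hP e he _ h)
          · exact absurd ⟨h, by omega⟩ hne
          · exact P.mul_mem_left _ (hneg P hP e he _ (by omega))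
        simpa [HahnSeries.coeff_sub, HahnSeries.coeff_one, mul_sub] using h2
      have := hpos P hP (1 - e) he1 h10 n
      simpa [HahnSeries.coeff_sub, HahnSeries.coeff_one, hn] using this
  have hidem : e.coeff 0 * e.coeff 0 - e.coeff 0 ∈ nilradical R := by
    have hz : (e * e).coeff 0 = e.coeff 0 := by rw [he.eq]
    rw [HahnSeries.coeff_mul] at hz
    by_cases hs : e.coeff 0 = 0
    · simp [hs]
    rw [Finset.sum_eq_add_sum_sdiff_singleton_of_mem (i := ((0 : ℤ), (0 : ℤ))) (show ((0 : ℤ), (0 : ℤ)) ∈ Finset.antidiagonal e.isPWO_support e.isPWO_support (0 : ℤ) by simp [hs])] at hz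
    refine neg_mem_iff.1 ?_
    rw [neg_sub, show e.coeff 0 - e.coeff 0 * e.coeff 0 = _ from sub_eq_of_eq_add' hz.symm]
    refine (nilradical R).sum_mem fun ij hij => ?_
    obtain ⟨hij, hne⟩ := Finset.mem_sdiff.1 hij
    have hsum : ij.1 + ij.2 = 0 := (Finset.mem_addAntidiagonal.1 hij).2.2
    rw [Finset.mem_singleton, Prod.ext_iff] at hne
    exact Ideal.mul_mem_right _ _ (mem_nilradical.2 (hnil0 _ fun h => hne ⟨h, by omega⟩))
  obtain ⟨r, hr, hre⟩ := exists_isIdempotentElem_eq_of_ker_isNilpotent (Ideal.Quotient.mk (nilradical R))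
    (fun x hx => mem_nilradical.1 (by rwa [Ideal.mk_ker] at hx)) (Ideal.Quotient.mk _ (e.coeff 0)) ⟨_, rfl⟩
    (show _ * _ = _ by rw [← map_mul, Ideal.Quotient.eq]; exact hidem)
  set f := e - HahnSeries.C r with hf
  have hfn : ∀ n, IsNilpotent (f.coeff n) := fun n => by
    by_cases h : n = 0
    · subst h
      rw [← mem_nilradical]
      have : f.coeff 0 = e.coeff 0 - r := by simp [hf, HahnSeries.C_apply]
      rw [this]
      exact Ideal.Quotient.eq.1 hre.symm
    · have : f.coeff n = e.coeff n := by simp [hf, HahnSeries.C_apply, HahnSeries.coeff_single_of_ne h]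
      rw [this]
      exact hnil0 n h
  have hf3 : f * f * f = f := by
    have hC : HahnSeries.C r * HahnSeries.C r = (HahnSeries.C r : LaurentSeries R) := by rw [← map_mul, hr.eq]
    simp only [hf]
    linear_combination (e + 1 - 3 * HahnSeries.C r) * he.eq + (3 * e - HahnSeries.C r - 1) * hC
  let I : Ideal R := Ideal.span ↑((Finset.Icc f.order 0).image f.coeff)
  have hle : ∀ n ≤ 0, f.coeff n ∈ I := fun n hn => by
    by_cases h : n < f.order
    · rw [HahnSeries.coeff_eq_zero_of_lt_order h]; exact I.zero_mem
    · exact Ideal.subset_span (Finset.mem_coe.2 (Finset.mem_image_of_mem _ (Finset.mem_Icc.2 ⟨by omega, hn⟩)))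
  have hI : ∀ n, f.coeff n ∈ I := by
    suffices ∀ k : ℕ, ∀ n : ℤ, n ≤ k → f.coeff n ∈ I from fun n => this n.toNat n (by omega)
    intro k
    induction k with
    | zero => exact fun n hn => hle n (by simpa using hn)
    | succ k ih =>
      intro n hn
      rcases hn.lt_or_eq with h | h
      · exact ih n (by push_cast at h; omega)
      · push_cast at h
        rw [← hf3]
        refine hmul I _ f n fun a l hal => ?_
        by_cases hl : l ≤ k
        · exact I.mul_mem_left _ (ih l hl)
        · refine I.mul_mem_right _ (hmul I f f a fun i j hij => ?_)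
          by_cases hi : i ≤ k
          · exact I.mul_mem_right _ (ih i hi)
          · exact I.mul_mem_left _ (ih j (by omega))
  obtain ⟨N, hN⟩ : IsNilpotent I := by
    rw [Ideal.FG.isNilpotent_iff_le_nilradical ⟨_, rfl⟩, Ideal.span_le]
    intro x hx
    obtain ⟨n, -, rfl⟩ := Finset.mem_image.1 (Finset.mem_coe.1 hx)
    exact mem_nilradical.2 (hfn n)
  have hpow : ∀ k : ℕ, ∀ n, f.coeff n ∈ I ^ (3 ^ k) := by
    intro k
    induction k with
    | zero => simpa using hI
    | succ k ih =>
      intro n
      rw [← hf3, show 3 ^ (k + 1) = 3 ^ k + 3 ^ k + 3 ^ k by ring, pow_add, pow_add]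
      exact hmul _ _ f n fun a l _ => Ideal.mul_mem_mul (hmul _ f f a fun i j _ => Ideal.mul_mem_mul (ih i) (ih j)) (ih l)
  have hf0 : f = 0 := by
    ext n
    have := Ideal.pow_le_pow_right (I := I) (Nat.lt_pow_self (n := N) (by norm_num : 1 < 3)).le (hpow N n)
    rw [hN] at this
    simpa using this
  refine ⟨r, ⟨hr, (sub_eq_zero.1 hf0).symm⟩, fun r' hr' => HahnSeries.C_injective (hr'.2.trans (sub_eq_zero.1 hf0))⟩

end Groth.Agent.S15749
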