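import Mathlib
import Groth.Statements.S15750
-- import your own Groth.Agent.* helpers here

set_option autoImplicit false
universe u
open CAlg

namespace Groth.Agent.S15750

/-- Let R be a nonzero reduced commutative ring with no idempotents other than 0 and 1. Then every unit
of the Laurent series ring R((t)) is t^n · u for a unique integer n and a unique unit u of the power
series ring R[[t]]. (The published statement is for an arbitrary torus T over a reduced ring R, with
n replaced by a locally constant integer-valued function on Spec R, i.e. a point of the cocharacter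
lattice; this row is the case where T is the multiplicative group and Spec R is connected, to which
the published proof reduces.) -/
theorem result (R : Type u) [CommRing R]
    [IsReduced R] [Nontrivial R] (hconn : ∀ e : R, IsIdempotentElem e → e = 0 ∨ e = 1)
    (f : (LaurentSeries R)ˣ) :
    ∃! p : ℤ × (PowerSeries R)ˣ,
      (f : LaurentSeries R) = HahnSeries.single p.1 (1 : R) * HahnSeries.ofPowerSeries ℤ R (p.2 : PowerSeries R) := by
  classical
  set F : LaurentSeries R := (f : LaurentSeries R) with hF
  set G : LaurentSeries R := ((f⁻¹ : (LaurentSeries R)ˣ) : LaurentSeries R) with hG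
  have hFG : F * G = 1 := f.mul_inv
  have key : ∀ P : Ideal R, P.IsPrime → ∃ n : ℤ, (∀ i < n, F.coeff i ∈ P) ∧ F.coeff n ∉ P ∧
      F.coeff n * G.coeff (-n) - 1 ∈ P ∧ ∀ k ≠ n, F.coeff k * G.coeff (-k) ∈ P := by
    intro P hP
    have hne : ∀ x y : LaurentSeries R, x * y = 1 → {i : ℤ | x.coeff i ∉ P}.Nonempty := by
      intro x y hxy
      by_contra hno
      rw [Set.not_nonempty_iff_eq_empty, Set.eq_empty_iff_forall_notMem] at hno
      have hall : ∀ i, x.coeff i ∈ P := fun i => not_not.mp (hno i)
      apply (Ideal.ne_top_iff_one P).mp hP.ne_top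
      have h0 : (x * y).coeff 0 = 1 := by rw [hxy, HahnSeries.coeff_one]; simp
      rw [← h0, HahnSeries.coeff_mul]
      exact Ideal.sum_mem _ fun ij _ => P.mul_mem_right _ (hall _)
    have hwf : ∀ x : LaurentSeries R, {i : ℤ | x.coeff i ∉ P}.IsWF := fun x =>
      (x.isPWO_support.mono (fun i (hi : x.coeff i ∉ P) (h0 : x.coeff i = 0) => hi (h0 ▸ P.zero_mem))).isWF
    have hnF := hne F G hFG
    have hnG := hne G F (by rw [mul_comm, hFG])
    set n := (hwf F).min hnF
    set m := (hwf G).min hnG
    have hnm : F.coeff n ∉ P := (hwf F).min_mem hnF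
    have hmm : G.coeff m ∉ P := (hwf G).min_mem hnG
    have hlow : ∀ i < n, F.coeff i ∈ P := fun i hi => by
      by_contra h
      exact absurd ((hwf F).min_le hnF h) (not_le.mpr hi)
    have hlow' : ∀ i < m, G.coeff i ∈ P := fun i hi => by
      by_contra h
      exact absurd ((hwf G).min_le hnG h) (not_le.mpr hi)
    have hprod : F.coeff n * G.coeff m - (F * G).coeff (n + m) ∈ P := by
      rw [← Ideal.Quotient.eq, HahnSeries.coeff_mul, map_sum]
      rw [Finset.sum_eq_single (n, m)]
      · intro ij hij hne'
        have hs : ij.1 + ij.2 = n + m := (Finset.mem_addAntidiagonal.mp hij).2.2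
        rw [Ideal.Quotient.eq_zero_iff_mem]
        rcases lt_trichotomy ij.1 n with h | h | h
        · exact P.mul_mem_right _ (hlow _ h)
        · exact absurd (Prod.ext h (by omega)) hne'
        · exact P.mul_mem_left _ (hlow' _ (by omega))
      · intro hni
        by_contra h
        refine hni (Finset.mem_addAntidiagonal.mpr ⟨?_, ?_, rfl⟩)
        · exact fun h0 : F.coeff n = 0 => hnm (h0 ▸ P.zero_mem)
        · exact fun h0 : G.coeff m = 0 => hmm (h0 ▸ P.zero_mem)
    rw [hFG, HahnSeries.coeff_one] at hprod
    have hsum : n + m = 0 := by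
      by_contra h
      rw [if_neg h, sub_zero] at hprod
      exact (hP.mem_or_mem hprod).elim hnm hmm
    rw [if_pos hsum, show m = -n by omega] at hprod
    refine ⟨n, hlow, hnm, hprod, fun k hk => ?_⟩
    rcases lt_or_gt_of_ne hk with h | h
    · exact P.mul_mem_right _ (hlow _ h)
    · exact P.mul_mem_left _ (hlow' _ (by omega))
  have idem : ∀ k, IsIdempotentElem (F.coeff k * G.coeff (-k)) := by
    intro k
    change _ * _ = _
    rw [← sub_eq_zero]
    refine IsNilpotent.eq_zero (nilpotent_iff_mem_prime.mpr fun P hP => ?_)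
    obtain ⟨n, h1, h2, h3, h4⟩ := key P hP
    set e := F.coeff k * G.coeff (-k) with he
    have he2 : e * e - e = e * (e - 1) := by ring
    rw [he2]
    by_cases hk : k = n
    · subst hk; exact P.mul_mem_left _ h3
    · exact P.mul_mem_right _ (h4 k hk)
  obtain ⟨M, hM⟩ := Ideal.exists_maximal R
  obtain ⟨n0, -, -, hn0, -⟩ := key M hM.isPrime
  have he1 : F.coeff n0 * G.coeff (-n0) = 1 := by
    refine (hconn _ (idem n0)).resolve_left fun h0 => (Ideal.ne_top_iff_one M).mp hM.ne_top ?_
    rw [h0, zero_sub] at hn0
    simpa using M.neg_mem hn0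
  have hzero : ∀ i < n0, F.coeff i = 0 := by
    intro i hi
    refine IsNilpotent.eq_zero (nilpotent_iff_mem_prime.mpr fun P hP => ?_)
    obtain ⟨n, h1, h2, h3, h4⟩ := key P hP
    by_cases hk : n0 = n
    · exact h1 i (hk ▸ hi)
    · exact absurd (he1 ▸ h4 n0 hk) ((Ideal.ne_top_iff_one P).mp hP.ne_top)
  have hu : IsUnit (PowerSeries.mk fun i : ℕ => F.coeff (n0 + i)) := by
    rw [PowerSeries.isUnit_iff_constantCoeff, PowerSeries.constantCoeff_mk]
    simp only [Nat.cast_zero, add_zero]
    exact IsUnit.of_mul_eq_one _ he1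
  have hdec : F = HahnSeries.single n0 (1 : R) * HahnSeries.ofPowerSeries ℤ R (hu.unit : PowerSeries R) := by
    ext i
    rw [HahnSeries.coeff_single_mul, one_mul, IsUnit.unit_spec, PowerSeries.coeff_coe]
    split_ifs with h
    · exact hzero i (by omega)
    · rw [PowerSeries.coeff_mk]; congr 1; omega
  refine ⟨(n0, hu.unit), hdec, ?_⟩
  rintro ⟨k, v⟩ hkv
  change F = HahnSeries.single k (1 : R) * HahnSeries.ofPowerSeries ℤ R (v : PowerSeries R) at hkv
  have hcoef : ∀ i, i < k → F.coeff i = 0 := fun i hi => by
    rw [hkv, HahnSeries.coeff_single_mul, one_mul, PowerSeries.coeff_coe, if_pos (by omega)]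
  have hk0 : IsUnit (F.coeff k) := by
    rw [hkv, HahnSeries.coeff_single_mul, one_mul, PowerSeries.coeff_coe, if_neg (by omega),
      show (k - k).natAbs = 0 by omega, PowerSeries.coeff_zero_eq_constantCoeff]
    exact PowerSeries.isUnit_iff_constantCoeff.mp v.isUnit
  have hkn : k = n0 := by
    rcases lt_trichotomy k n0 with h | h | h
    · exact absurd (hzero k h ▸ hk0) not_isUnit_zero
    · exact h
    · exact absurd (he1 ▸ (by rw [hcoef n0 h, zero_mul] : F.coeff n0 * G.coeff (-n0) = 0)) one_ne_zero
  subst hkn
  refine Prod.ext rfl (Units.ext (HahnSeries.ofPowerSeries_injective (Γ := ℤ) ?_))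
  have h := hkv.symm.trans hdec
  have h2 := congrArg (fun z => HahnSeries.single (-k) (1 : R) * z) h
  simp only [← mul_assoc, HahnSeries.single_mul_single, neg_add_cancel, one_mul, HahnSeries.single_zero_one] at h2
  exact h2

end Groth.Agent.S15750
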