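import Groth.Statements.S15759
import Groth.Agent.DenseProj.Basic
-- import your own Groth.Agent.* helpers here

set_option autoImplicit false
universe u
open Polynomial TensorProduct
open CAlg

namespace Groth.Agent.S15759

open Groth.Agent.DenseProj in
lemma closure_form {R : Type u} [CommRing R] {s : R[X]}
    (hs : s ∈ Submonoid.closure ({f : R[X] | f.coeff 0 = 1} ∪ {X})) :
    ∃ (m : ℕ) (f : R[X]), s = X ^ m * f ∧ f.coeff 0 = 1 := by
  induction hs using Submonoid.closure_induction with
  | mem s hs =>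
    rcases hs with hs | hs
    · exact ⟨0, s, by simp, hs⟩
    · exact ⟨1, 1, by simp [Set.mem_singleton_iff.mp hs], by simp⟩
  | one => exact ⟨0, 1, by simp, by simp⟩
  | mul a b _ _ ha hb =>
    obtain ⟨m, f, rfl, hf⟩ := ha
    obtain ⟨n, g, rfl, hg⟩ := hb
    exact ⟨m + n, f * g, by ring, by simp [Polynomial.mul_coeff_zero, hf, hg]⟩

/-- `R[[t]]` inside `L'`, dense for the image of `L`. -/
theorem exists_data (R : Type u) [CommRing R]
    (L : Type u) [CommRing L] [Algebra R[X] L]
    [IsLocalization (Submonoid.closure ({f : R[X] | f.coeff 0 = 1} ∪ {X})) L]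
    (L' : Type u) [CommRing L'] [Algebra L L'] (e : L' ≃+* LaurentSeries R)
    (he : ∀ p : R[X], e (algebraMap L L' (algebraMap R[X] L p)) =
      HahnSeries.ofPowerSeries ℤ R (Polynomial.coeToPowerSeries.ringHom p)) :
    Nonempty (Groth.Agent.DenseProj.Data L L') := by
  let φ : PowerSeries R →+* L' := e.symm.toRingHom.comp (HahnSeries.ofPowerSeries ℤ R)
  have hφ : ∀ p : R[X], algebraMap L L' (algebraMap R[X] L p) = φ p := fun p => by
    apply e.injective
    rw [he]; simp [φ]
  have hinj : Function.Injective φ :=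
    e.symm.injective.comp HahnSeries.ofPowerSeries_injective
  have hX : IsUnit (algebraMap R[X] L X) :=
    IsLocalization.map_units L (⟨X, Submonoid.subset_closure (Or.inr rfl)⟩ :
      Submonoid.closure ({f : R[X] | f.coeff 0 = 1} ∪ {X}))
  have hτ : IsUnit (φ PowerSeries.X) := by
    rw [← Polynomial.coe_X, ← hφ]
    exact hX.map _
  refine ⟨⟨φ.range, φ PowerSeries.X, ⟨_, rfl⟩, hτ, fun x => ?_, fun x N => ?_, ?_, ?_⟩⟩
  · obtain ⟨⟨a, ⟨_, k, rfl⟩⟩, ha⟩ := IsLocalization.surj
      (Submonoid.powers (PowerSeries.X : PowerSeries R)) (e x)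
    refine ⟨k, a, ?_⟩
    apply e.injective
    simp only [φ, RingHom.comp_apply, RingEquiv.toRingHom_eq_coe, RingHom.coe_coe,
      RingEquiv.apply_symm_apply, map_mul, map_pow]
    refine ha.symm.trans ?_
    simp [mul_comm, LaurentSeries.algebraMap_apply]
  · obtain ⟨⟨a, ⟨_, k, rfl⟩⟩, ha⟩ := IsLocalization.surj
      (Submonoid.powers (PowerSeries.X : PowerSeries R)) (e x)
    have hx : φ PowerSeries.X ^ k * x = φ a := by
      apply e.injective
      simp only [φ, RingHom.comp_apply, RingEquiv.toRingHom_eq_coe, RingHom.coe_coe,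
        RingEquiv.apply_symm_apply, map_mul, map_pow]
      refine Eq.trans ?_ ha
      simp [mul_comm, LaurentSeries.algebraMap_apply]
    obtain ⟨c, hc⟩ : PowerSeries.X ^ (k + N) ∣
        ((a.trunc (k + N) : R[X]) : PowerSeries R) - a := by
      rw [PowerSeries.X_pow_dvd_iff]
      intro j hj
      rw [map_sub, Polynomial.coeff_coe, PowerSeries.coeff_trunc, if_pos hj, sub_self]
    obtain ⟨w, hw⟩ := hX.pow k
    refine ⟨algebraMap R[X] L (a.trunc (k + N)) * ↑w⁻¹, φ c, ⟨_, rfl⟩, ?_⟩
    refine (hτ.pow k).mul_left_cancel ?_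
    have h1 : φ PowerSeries.X ^ k * algebraMap L L' ↑w⁻¹ = 1 := by
      rw [← Polynomial.coe_X, ← hφ, ← map_pow, ← hw, ← map_mul, Units.mul_inv, map_one]
    rw [mul_sub, hx, map_mul, hφ, mul_comm (φ _) (algebraMap L L' _), ← mul_assoc, h1, one_mul,
      ← map_sub, hc, map_mul, map_pow, pow_add, mul_assoc]
  · rintro x ⟨_, ⟨c, rfl⟩, hc⟩
    obtain ⟨⟨p, s⟩, hps⟩ := IsLocalization.surj
      (Submonoid.closure ({f : R[X] | f.coeff 0 = 1} ∪ {X})) x
    obtain ⟨m, f, hs, hf⟩ := closure_form s.2
    have h2 : (p : PowerSeries R) = (1 + PowerSeries.X * c) * ((s : R[X]) : PowerSeries R) := by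
      apply hinj
      rw [map_mul, ← hφ, ← hφ, ← hps, map_mul, map_add, map_one, map_mul]
      exact congr_arg (· * _) (sub_eq_iff_eq_add'.mp hc)
    rw [hs, Polynomial.coe_mul, Polynomial.coe_pow, Polynomial.coe_X] at h2
    have h3 : X ^ m ∣ p := by
      rw [Polynomial.X_pow_dvd_iff]
      intro j hj
      rw [← Polynomial.coeff_coe, h2]
      exact PowerSeries.X_pow_dvd_iff.mp (Dvd.intro ((f : PowerSeries R) * (1 + PowerSeries.X * c))
        (by ring)) j hj
    obtain ⟨g, rfl⟩ := h3
    have h4 : (g : PowerSeries R) = (1 + PowerSeries.X * c) * (f : PowerSeries R) := by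
      rw [Polynomial.coe_mul, Polynomial.coe_pow, Polynomial.coe_X] at h2
      refine hinj ((hτ.pow m).mul_left_cancel ?_)
      rw [← map_pow, ← map_mul, ← map_mul, h2]
      congr 1; ring
    have h5 : g.coeff 0 = 1 := by
      rw [← Polynomial.coeff_coe, h4, PowerSeries.coeff_zero_eq_constantCoeff_apply]
      simp [← Polynomial.constantCoeff_apply, hf]
    have h6 : IsUnit (algebraMap R[X] L (X ^ m * g)) :=
      IsLocalization.map_units L (⟨X ^ m * g,
        (Submonoid.closure ({f : R[X] | f.coeff 0 = 1} ∪ {X})).mul_mem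
          ((Submonoid.closure ({f : R[X] | f.coeff 0 = 1} ∪ {X})).pow_mem
            (Submonoid.subset_closure (Or.inr rfl)) m)
          (Submonoid.subset_closure (Or.inl h5))⟩ :
        Submonoid.closure ({f : R[X] | f.coeff 0 = 1} ∪ {X}))
    rw [← hps] at h6
    exact isUnit_of_mul_isUnit_left h6
  · rintro x ⟨_, ⟨c, rfl⟩, hc⟩
    rw [show x = φ (1 + PowerSeries.X * c) by
      rw [map_add, map_one, map_mul]; exact sub_eq_iff_eq_add'.mp hc]
    exact (PowerSeries.isUnit_iff_constantCoeff.mpr (by simp)).map φ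


/-- Let R be a ring, L = R(t) the localisation of R[t] at the monoid generated by t and the polynomials
with constant term 1 (that is, (R[t]_{1+tR[t]})[1/t]), and L' an L-algebra identified with R((t))
compatibly with R[t] → R((t)). Then (b) finitely generated projective L-modules that become
isomorphic over L' are isomorphic, and (c) every stably free L'-module is the base change of a
stably free L-module. -/
theorem result (R : Type u) [CommRing R]
    (L : Type u) [CommRing L] [Algebra R[X] L]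
    [IsLocalization (Submonoid.closure ({f : R[X] | f.coeff 0 = 1} ∪ {X})) L]
    (L' : Type u) [CommRing L'] [Algebra L L'] (e : L' ≃+* LaurentSeries R)
    (he : ∀ p : R[X], e (algebraMap L L' (algebraMap R[X] L p)) =
      HahnSeries.ofPowerSeries ℤ R (Polynomial.coeToPowerSeries.ringHom p)) :
    (∀ (M N : Type u) [AddCommGroup M] [Module L M] [Module.Finite L M] [Module.Projective L M]
        [AddCommGroup N] [Module L N] [Module.Finite L N] [Module.Projective L N],
        Nonempty (L' ⊗[L] M ≃ₗ[L'] L' ⊗[L] N) → Nonempty (M ≃ₗ[L] N)) ∧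
    (∀ (M' : Type u) [AddCommGroup M'] [Module L' M'] [Module.Finite L' M'],
        (∃ n m : ℕ, Nonempty ((M' × (Fin n → L')) ≃ₗ[L'] (Fin m → L'))) →
        ∃ (M : Type u) (_ : AddCommGroup M) (_ : Module L M), Module.Finite L M ∧
          (∃ n m : ℕ, Nonempty ((M × (Fin n → L)) ≃ₗ[L] (Fin m → L))) ∧
          Nonempty (L' ⊗[L] M ≃ₗ[L'] M')) := by
  obtain ⟨d⟩ := exists_data R L L' e he
  exact ⟨fun M N _ _ _ _ _ _ _ _ ⟨u⟩ => Groth.Agent.DenseProj.nonempty_linearEquiv d M N u,
    fun M' _ _ _ ⟨_, _, ⟨Φ⟩⟩ => Groth.Agent.DenseProj.exists_stablyFree d M' Φ⟩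

end Groth.Agent.S15759
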