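import Groth.Statements.S15765
import Mathlib
-- import your own Groth.Agent.* helpers here

set_option autoImplicit false
universe u
open CategoryTheory AlgebraicGeometry
open CAlg

namespace Groth.Agent.S15765

section Aux
theorem exists_sum_isUnit (B : Type u) [CommRing B] [TopologicalSpace B]
    [IsTopologicalRing B] (hB : IsOpen {b : B | IsUnit b})
    (B₀ : Type u) [CommRing B₀] (φ : B₀ →+* B) (hφ : DenseRange φ) {A : Type u} [CommRing A]
    (ψ : A →+* B) (c : B₀ →+* A) (hc : ψ.comp c = φ) (I : Ideal A) (hI : I.map ψ = ⊤) :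
    ∃ a ∈ I, IsUnit (ψ a) := by
  have h1 : (1 : B) ∈ Ideal.span (ψ '' (I : Set A)) := by
    rw [← Ideal.map_span, Ideal.span_eq, hI]; trivial
  obtain ⟨n, b, v, hv⟩ := Submodule.mem_span_set'.mp h1
  have hv' : ∀ i, ∃ a ∈ I, ψ a = (v i : B) := fun i => (v i).2
  choose a haI haψ using hv'
  let Φ : (Fin n → B) → B := fun x => ∑ i, x i * ψ (a i)
  have hΦ : Continuous Φ := continuous_finsetSum _ fun i _ => (continuous_apply i).mul continuous_const
  have hO : IsOpen (Φ ⁻¹' {b : B | IsUnit b}) := hB.preimage hΦ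
  have hb : b ∈ Φ ⁻¹' {b : B | IsUnit b} := by
    show IsUnit (∑ i, b i * ψ (a i))
    simp only [haψ]
    simp only [smul_eq_mul] at hv
    rw [hv]; exact isUnit_one
  obtain ⟨w, hw⟩ := (DenseRange.piMap (fun _ : Fin n => hφ)).exists_mem_open hO ⟨b, hb⟩
  refine ⟨∑ i, c (w i) * a i, I.sum_mem fun i _ => I.mul_mem_left _ (haI i), ?_⟩
  have he : ψ (∑ i, c (w i) * a i) = Φ (Pi.map (fun _ => φ) w) := by
    simp [Φ, map_sum, ← hc, Pi.map]
  rw [he]
  exact hw

end Aux

/-- Let B be a topological ring in which the units form an open subset, B₀ → B a ring map with dense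
image and X a quasi-affine scheme over B₀. Then the image of any B-point Spec B → X over B₀ is
contained in an affine open of X. (The published statement allows X ind-quasi-affine, i.e. with all
quasi-compact opens quasi-affine; since a B-point lands in a quasi-compact open, this row's
quasi-affine case carries the content.) -/
theorem result (B : Type u) [CommRing B] [TopologicalSpace B]
    [IsTopologicalRing B] (hB : IsOpen {b : B | IsUnit b})
    (B₀ : Type u) [CommRing B₀] (φ : B₀ →+* B) (hφ : DenseRange φ)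
    (X : Scheme.{u}) [X.IsQuasiAffine] (p : X ⟶ Spec (CommRingCat.of B₀))
    (f : Spec (CommRingCat.of B) ⟶ X) (hf : f ≫ p = Spec.map (CommRingCat.ofHom φ)) :
    ∃ U : X.Opens, IsAffineOpen U ∧ Set.range f.base ⊆ (U : Set X) := by
  set A := Γ(X, ⊤) with hA
  set η := X.toSpecΓ with hη
  obtain ⟨ψ, hψ⟩ := Spec.map_surjective (f ≫ η)
  obtain ⟨I, hI⟩ := (PrimeSpectrum.isClosed_iff_zeroLocus_ideal _).mp η.opensRange.2.isClosed_compl
  have hIB : I.map ψ.hom = ⊤ := by
    by_contra hne
    obtain ⟨m, hm, hle⟩ := Ideal.exists_le_maximal _ hne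
    let q : Spec (CommRingCat.of B) := (⟨m, hm.isPrime⟩ : PrimeSpectrum B)
    have h1 : (Spec.map ψ) q ∈ PrimeSpectrum.zeroLocus (I : Set A) :=
      fun a ha => hle (Ideal.mem_map_of_mem _ ha)
    rw [hψ] at h1
    have h2 : (f ≫ η) q ∉ η.opensRange := by
      have h3 := h1
      rw [← hI] at h3
      exact h3
    exact h2 ⟨f q, (Scheme.Hom.comp_apply f η q).symm⟩
  obtain ⟨c, hc⟩ : ∃ c : B₀ →+* A, ψ.hom.comp c = φ := by
    refine ⟨(p.appTop.hom.comp (Scheme.ΓSpecIso (CommRingCat.of B₀)).inv.hom), ?_⟩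
    have h1 : Spec.map (CommRingCat.ofHom φ) = Spec.map ((Scheme.ΓSpecIso (CommRingCat.of B₀)).inv ≫ p.appTop ≫ ψ) := by
      rw [Spec.map_comp, Spec.map_comp, hψ, Category.assoc, Category.assoc, hη,
        ← Scheme.toSpecΓ_naturality_assoc, ← hf]
      simp
    have h2 := congrArg (fun t => t.hom) (Spec.map_injective h1)
    exact h2.symm
  obtain ⟨a, haI, haB⟩ := exists_sum_isUnit B hB B₀ φ hφ ψ.hom c hc I hIB
  have hD : (PrimeSpectrum.basicOpen a : (Spec A).Opens) ≤ η.opensRange := by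
    intro x hx
    by_contra hx'
    have hI' : ((η.opensRange : (Spec A).Opens) : Set (Spec A))ᶜ = PrimeSpectrum.zeroLocus (I : Set A) := hI
    have : x ∈ PrimeSpectrum.zeroLocus (I : Set A) := hI' ▸ hx'
    exact hx (this haI)
  refine ⟨η ⁻¹ᵁ PrimeSpectrum.basicOpen a,
    (IsAffineOpen.Spec_basicOpen a).preimage_of_isOpenImmersion η hD, ?_⟩
  rintro _ ⟨q, rfl⟩
  show η (f q) ∈ PrimeSpectrum.basicOpen a
  rw [← Scheme.Hom.comp_apply, ← hψ]
  show ψ.hom a ∉ (show PrimeSpectrum B from q).asIdeal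
  intro h
  exact (show PrimeSpectrum B from q).2.ne_top (Ideal.eq_top_of_isUnit_mem _ h haB)

end Groth.Agent.S15765
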