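import Groth.Statements.S1577
import Groth.Agent.QCohLib.StalkLoc

set_option autoImplicit false
universe u
open CategoryTheory CategoryTheory.Limits AlgebraicGeometry
open Divisors

namespace Groth.Agent.S1577

section Aux

open Groth.Agent.QCohLib TopologicalSpace

set_option backward.isDefEq.respectTransparency false

theorem aux {X : Scheme.{u}} [IsLocallyNoetherian X] (F : X.Modules) (hF : F.IsQuasicoherent)
    (x : X) (hx : x ∈ CohB1.support F) (hmax : ∀ y ∈ CohB1.support F, y ⤳ x → y = x) :
    IsAssociatedPrime (IsLocalRing.maximalIdeal (X.presheaf.stalk x)) (F.presheaf.stalk x) := by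
  obtain ⟨U, hU, hxU, -⟩ := exists_isAffineOpen_mem_and_subset (U := ⊤) (Opens.mem_top x)
  have := IsLocallyNoetherian.component_noetherian ⟨U, hU⟩
  let p := hU.primeIdealOf ⟨x, hxU⟩
  have hp : p = hU.primeIdealOf ⟨x, hxU⟩ := rfl
  let : Algebra Γ(X, U) (X.presheaf.stalk x) := (X.presheaf.germ U x hxU).hom.toAlgebra
  have hloc : IsLocalization.AtPrime (X.presheaf.stalk x) p.asIdeal := hU.isLocalization_stalk ⟨x, hxU⟩
  have : IsNoetherianRing (X.presheaf.stalk x) :=
    IsLocalization.isNoetherianRing p.asIdeal.primeCompl _ inferInstance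
  have : Nontrivial (F.presheaf.stalk x) := not_subsingleton_iff_nontrivial.mp hx
  obtain ⟨q, hq⟩ := associatedPrimes.nonempty (X.presheaf.stalk x) (F.presheaf.stalk x)
  have hqp : q.IsPrime := hq.isPrime
  let q' : PrimeSpectrum Γ(X, U) := ⟨q.comap (algebraMap _ _), inferInstance⟩
  have hle : q'.asIdeal ≤ p.asIdeal := fun r hr => by
    by_contra hc
    exact hqp.ne_top (q.eq_top_of_isUnit_mem hr (IsLocalization.map_units (M := p.asIdeal.primeCompl) _ ⟨r, hc⟩))
  let y := hU.fromSpec q'
  have hyU : y ∈ U := hU.range_fromSpec.le ⟨q', rfl⟩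
  have hyq : hU.primeIdealOf ⟨y, hyU⟩ = q' :=
    hU.fromSpec.isOpenEmbedding.injective (hU.fromSpec_primeIdealOf ⟨y, hyU⟩)
  have hyx : y ⤳ x := by
    have h := ((PrimeSpectrum.le_iff_specializes q' p).mp hle).map hU.fromSpec.continuous
    rw [hp, hU.fromSpec_primeIdealOf ⟨x, hxU⟩] at h
    exact h
  have hys : y ∈ CohB1.support F := by
    rw [mem_support_iff_mem_moduleSupport hU y hyU, hyq]
    obtain ⟨_, m, hm⟩ := hq
    obtain ⟨f, s, hxf, hfs⟩ := exists_smul_eq_germ hU x hxU m
    by_contra hc
    obtain ⟨r, hr, hrs⟩ := Module.notMem_support_iff'.mp hc s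
    have h1 := congrArg (F.presheaf.germ U x hxU) hrs
    rw [germ_smul, map_zero, ← hfs, smul_smul, mul_comm, mul_smul] at h1
    have h2 : X.presheaf.germ U x hxU r • m = 0 :=
      ((X.mem_basicOpen f x hxU).mp hxf).smul_eq_zero.mp h1
    refine hr ?_
    change algebraMap Γ(X, U) (X.presheaf.stalk x) r ∈ q
    rw [hm]
    exact Ideal.le_radical (Submodule.mem_colon_singleton.mpr ((Submodule.mem_bot _).mpr h2))
  have hyeq : q' = p := by
    have := hmax y hys hyx
    exact hU.fromSpec.isOpenEmbedding.injective (this.trans (hU.fromSpec_primeIdealOf ⟨x, hxU⟩).symm)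
  have hqm : q = IsLocalRing.maximalIdeal (X.presheaf.stalk x) := by
    refine le_antisymm (IsLocalRing.le_maximalIdeal hqp.ne_top) ?_
    intro a ha
    obtain ⟨⟨r, v⟩, hrv⟩ := IsLocalization.surj p.asIdeal.primeCompl a
    have hr : r ∈ p.asIdeal := by
      by_contra hc
      have hu := IsLocalization.map_units (X.presheaf.stalk x) (⟨r, hc⟩ : p.asIdeal.primeCompl)
      rw [← hrv] at hu
      exact ha (isUnit_of_mul_isUnit_left hu)
    rw [← hyeq] at hr
    change algebraMap _ _ r ∈ q at hr
    rw [← hrv] at hr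
    exact (Ideal.IsPrime.mul_mem_iff_mem_or_mem hqp).mp hr |>.resolve_right fun h =>
      hqp.ne_top (q.eq_top_of_isUnit_mem h (IsLocalization.map_units _ v))
  exact hqm ▸ hq

end Aux

/-- Let X be locally Noetherian and F quasi-coherent. A point of the support of F which is not a
specialisation of a different point of the support is an associated point of F. -/
theorem result (X : Scheme.{u}) [IsLocallyNoetherian X]
    (F : X.Modules) (hF : Coh.IsQCoh F) (x : X) (hx : x ∈ CohB1.support F)
    (hmax : ∀ y ∈ CohB1.support F, y ⤳ x → y = x) : Curv2.IsAssPoint F x := by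
  exact aux F hF x hx hmax

end Groth.Agent.S1577
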