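import Mathlib
import Groth.Statements.S15770
-- import your own Groth.Agent.* helpers here

set_option autoImplicit false
universe u
open CAlg

namespace Groth.Agent.S15770

section

theorem main {B : Type*} [CommRing B] [TopologicalSpace B] [IsTopologicalRing B] (hB : IsOpen {b : B | IsUnit b})
    {M M' : Type*} [AddCommGroup M] [Module B M]
    [AddCommGroup M'] [Module B M'] [Module.Finite B M'] [Module.Projective B M']
    [TopologicalSpace (M →ₗ[B] M')] [IsModuleTopology B (M →ₗ[B] M')] :
    IsOpen {f : M →ₗ[B] M' | Function.Surjective f} := by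
  classical
  rw [isOpen_iff_forall_mem_open]
  intro f₀ hf₀
  obtain ⟨s, hs⟩ := Module.projective_lifting_property f₀ LinearMap.id hf₀
  obtain ⟨n, π, ι, -, -, hπι⟩ := Module.Finite.exists_comp_eq_id_of_projective B M'
  have hπι' : ∀ y, π (ι y) = y := fun y => LinearMap.congr_fun hπι y
  let L : (M →ₗ[B] M') →ₗ[B] Matrix (Fin n) (Fin n) B :=
    { toFun := fun f => LinearMap.toMatrix' (ι ∘ₗ (f ∘ₗ s) ∘ₗ π)
      map_add' := fun f g => by simp [LinearMap.add_comp, LinearMap.comp_add]
      map_smul' := fun b f => by simp [LinearMap.smul_comp, LinearMap.comp_smul] }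
  let Φ : (M →ₗ[B] M') → B := fun f => (L f + (1 - LinearMap.toMatrix' (ι ∘ₗ π))).det
  refine ⟨Φ ⁻¹' {b | IsUnit b}, ?_, ?_, ?_⟩
  · intro f hf y
    have hu : IsUnit (L f + (1 - LinearMap.toMatrix' (ι ∘ₗ π))) := (Matrix.isUnit_iff_isUnit_det _).2 hf
    obtain ⟨z, hz⟩ := (Matrix.mulVec_surjective_iff_isUnit.2 hu) (ι y)
    refine ⟨s (π z), ?_⟩
    have := congrArg π hz
    simpa [L, Matrix.add_mulVec, Matrix.sub_mulVec, LinearMap.toMatrix'_mulVec, map_add, map_sub, hπι'] using this
  · refine hB.preimage ?_
    have hc : Continuous L := IsModuleTopology.continuous_of_linearMap L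
    exact (hc.add continuous_const).matrix_det
  · show IsUnit (Φ f₀)
    simp [Φ, L, hs]

end

/-- Let B be a topological ring with Bˣ ⊂ B open and M, M' finitely generated projective B-modules, and
endow Hom_B(M, M') with the module topology (the canonical topology of a finite module). Then the
set of surjective B-linear maps M → M' is open. -/
theorem result (B : Type u) [CommRing B] [TopologicalSpace B]
    [IsTopologicalRing B] (hB : IsOpen {b : B | IsUnit b})
    (M M' : Type u) [AddCommGroup M] [Module B M] [Module.Finite B M] [Module.Projective B M]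
    [AddCommGroup M'] [Module B M'] [Module.Finite B M'] [Module.Projective B M']
    [TopologicalSpace (M →ₗ[B] M')] [IsModuleTopology B (M →ₗ[B] M')] :
    IsOpen {f : M →ₗ[B] M' | Function.Surjective f} := by
  exact main hB

end Groth.Agent.S15770
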