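import Groth.Statements.S15774
import Mathlib
-- import your own Groth.Agent.* helpers here

set_option autoImplicit false
universe u
open CAlg

namespace Groth.Agent.S15774

section
open Polynomial

variable {A : Type u} [CommRing A] (t : A)


theorem exists_approx (M : ℕ) (α : AdicCompletion (Ideal.span {t}) A) :
    ∃ (a : A) (β : AdicCompletion (Ideal.span {t}) A), α = (algebraMap A (AdicCompletion (Ideal.span {t}) A)) a + (algebraMap A (AdicCompletion (Ideal.span {t}) A)) t ^ M * β := by
  obtain ⟨a, ha⟩ := Submodule.mkQ_surjective ((Ideal.span {t}) ^ M • ⊤ : Submodule A A) (AdicCompletion.eval (Ideal.span {t}) A M α)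
  refine ⟨a, ?_⟩
  have h : α - AdicCompletion.of (Ideal.span {t}) A a ∈ ((Ideal.span {t}) ^ M • ⊤ : Submodule A (AdicCompletion (Ideal.span {t}) A)) := by
    rw [AdicCompletion.pow_smul_top_eq_ker_eval (Submodule.fg_span_singleton t), LinearMap.mem_ker, map_sub,
      AdicCompletion.eval_of, ha, sub_self]
  rw [Ideal.smul_top_eq_map, Submodule.restrictScalars_mem, Ideal.map_pow, Ideal.map_span, Set.image_singleton,
    Ideal.span_singleton_pow, Ideal.mem_span_singleton'] at h
  obtain ⟨β, hβ⟩ := h
  refine ⟨β, ?_⟩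
  rw [mul_comm, hβ]
  exact (add_sub_cancel _ _).symm

theorem exists_of_eq_mul {M : ℕ} {a : A} {γ : AdicCompletion (Ideal.span {t}) A} (h : (algebraMap A (AdicCompletion (Ideal.span {t}) A)) a = (algebraMap A (AdicCompletion (Ideal.span {t}) A)) t ^ M * γ) :
    ∃ b, a = t ^ M * b := by
  have h1 := congrArg (AdicCompletion.evalₐ (Ideal.span {t}) M) h
  simp only [map_mul, map_pow, AlgHom.commutes, Ideal.Quotient.algebraMap_eq] at h1
  rw [← map_pow, Ideal.Quotient.eq_zero_iff_mem.2 (show t ^ M ∈ Ideal.span {t} ^ M by rw [Ideal.span_singleton_pow]; exact Ideal.mem_span_singleton_self _),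
    zero_mul, Ideal.Quotient.eq_zero_iff_mem, Ideal.span_singleton_pow, Ideal.mem_span_singleton] at h1
  exact h1

theorem isUnit_one_add [HenselianRing A (Ideal.span {t})] {x : A} (hx : x ∈ (Ideal.span {t})) : IsUnit (1 + x) := by
  have := Ideal.mem_jacobson_bot.1 (HenselianRing.jac hx) 1
  rwa [mul_one, add_comm] at this

theorem eq_of_idem {B : Type*} [CommRing B] {e e' x : B} (he : IsIdempotentElem e) (he' : IsIdempotentElem e')
    (hx : e - e' = x) (hu : IsUnit (1 - x ^ 2)) : e = e' := by
  have h1 : x * (1 - x ^ 2) = 0 := by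
    subst hx
    have h := he.eq; have h' := he'.eq
    linear_combination (-e - 1 + 3 * e') * h + (e' + 1 - 3 * e) * h'
  rw [← sub_eq_zero, hx]
  exact (hu.mul_left_eq_zero).1 h1

end

/-- The instance A[1/t] → Â[1/t]: if (A, tA) is a Henselian pair and the t-power torsion of A is
bounded, then every idempotent of Â[1/t] (Â the t-adic completion) comes from a unique idempotent of
A[1/t]. -/
theorem result (A : Type u) [CommRing A] (t : A) [HenselianRing A (Ideal.span {t})]
    (hbd : ∃ N : ℕ, ∀ a : A, (∃ m : ℕ, t ^ m * a = 0) → t ^ N * a = 0)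
    (e : Localization.Away (algebraMap A (AdicCompletion (Ideal.span {t}) A) t)) (he : IsIdempotentElem e) :
    ∃! e₀ : Localization.Away t, IsIdempotentElem e₀ ∧ Localization.awayMap (algebraMap A (AdicCompletion (Ideal.span {t}) A)) t e₀ = e := by
  classical
  obtain ⟨k₀, α₀, hα₀⟩ := IsLocalization.Away.surj (algebraMap A (AdicCompletion (Ideal.span {t}) A) t) e
  obtain ⟨l, hl⟩ : ∃ l : ℕ, (algebraMap A (AdicCompletion (Ideal.span {t}) A) t) ^ l * (α₀ ^ 2 - (algebraMap A (AdicCompletion (Ideal.span {t}) A) t) ^ k₀ * α₀) = 0 := by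
    have h0 : algebraMap (AdicCompletion (Ideal.span {t}) A) (Localization.Away (algebraMap A (AdicCompletion (Ideal.span {t}) A) t)) (α₀ ^ 2 - (algebraMap A (AdicCompletion (Ideal.span {t}) A) t) ^ k₀ * α₀) = 0 := by
      rw [map_sub, map_pow, map_mul, map_pow, ← hα₀]
      linear_combination (algebraMap (AdicCompletion (Ideal.span {t}) A) (Localization.Away (algebraMap A (AdicCompletion (Ideal.span {t}) A) t)) (algebraMap A (AdicCompletion (Ideal.span {t}) A) t)) ^ (2 * k₀) * he.eq
    obtain ⟨⟨_, l, rfl⟩, hl⟩ := (IsLocalization.map_eq_zero_iff (Submonoid.powers (algebraMap A (AdicCompletion (Ideal.span {t}) A) t)) _ _).1 h0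
    exact ⟨l, hl⟩
  set k := k₀ + l with hk
  set α := (algebraMap A (AdicCompletion (Ideal.span {t}) A) t) ^ l * α₀ with hαdef
  have hα : e * (algebraMap (AdicCompletion (Ideal.span {t}) A) (Localization.Away (algebraMap A (AdicCompletion (Ideal.span {t}) A) t)) (algebraMap A (AdicCompletion (Ideal.span {t}) A) t)) ^ k = algebraMap (AdicCompletion (Ideal.span {t}) A) _ α := by
    rw [hαdef, map_mul, map_pow, ← hα₀, hk, pow_add]; ring
  have hα2 : α ^ 2 - (algebraMap A (AdicCompletion (Ideal.span {t}) A) t) ^ k * α = 0 := by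
    rw [hαdef, hk, pow_add]
    linear_combination (algebraMap A (AdicCompletion (Ideal.span {t}) A) t) ^ l * hl
  obtain ⟨a, β, hab⟩ := exists_approx t (3 * k + 1) α
  obtain ⟨c, hc⟩ := exists_of_eq_mul t (M := 3 * k + 1) (a := a ^ 2 - t ^ k * a)
    (γ := -(2 * algebraMap A (AdicCompletion (Ideal.span {t}) A) a * β + (algebraMap A (AdicCompletion (Ideal.span {t}) A) t) ^ (3 * k + 1) * β ^ 2 - (algebraMap A (AdicCompletion (Ideal.span {t}) A) t) ^ k * β)) (by
      rw [map_sub, map_mul, map_pow, map_pow]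
      rw [hab] at hα2
      linear_combination hα2)
  set δ := t ^ (k + 1) * c with hδ
  have hδI : δ ∈ Ideal.span {t} := Ideal.mem_span_singleton.2 ⟨t ^ k * c, by rw [hδ, pow_succ]; ring⟩
  obtain ⟨u, hu⟩ := isUnit_one_add t (x := 4 * δ) (Ideal.mul_mem_left _ _ hδI)
  set ε := δ * (↑u⁻¹ : A) with hε
  obtain ⟨s, hs, hs0⟩ := HenselianRing.is_henselian (I := Ideal.span {t})
    (Polynomial.X ^ 2 - Polynomial.X + Polynomial.C ε)
    (by monicity!) 0 (by simpa using Ideal.mul_mem_right _ _ hδI) (by simp)
  simp only [Polynomial.IsRoot, Polynomial.eval_add, Polynomial.eval_sub, Polynomial.eval_pow, Polynomial.eval_X,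
    Polynomial.eval_C] at hs
  rw [sub_zero] at hs0
  obtain ⟨v, hv⟩ := isUnit_one_add t (x := -s) (neg_mem hs0)
  set r := c * (↑u⁻¹ : A) * (↑v⁻¹ : A) with hr
  have hsr : s = t ^ (k + 1) * r := by
    have h1 : s * (v : A) = ε := by rw [hv]; linear_combination -hs
    rw [hr, ← mul_assoc, ← mul_assoc, ← hδ, ← hε, ← h1, mul_assoc, Units.mul_inv, mul_one]
  set L := Localization.Away t
  have hT : IsUnit (algebraMap A L t) := IsLocalization.Away.algebraMap_isUnit t
  obtain ⟨T, hT⟩ := hT
  obtain ⟨e₀, he₀'⟩ : ∃ e₀ : L, e₀ * algebraMap A L t ^ k = algebraMap A L a :=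
    ⟨algebraMap A L a * (↑(T ^ k)⁻¹ : L), by rw [mul_assoc, ← hT, ← Units.val_pow_eq_pow_val, Units.inv_mul, mul_one]⟩
  obtain ⟨e₁, he₁⟩ : ∃ x : L, x = e₀ + (1 - 2 * e₀) * algebraMap A L s := ⟨_, rfl⟩
  have hδL : e₀ ^ 2 - e₀ = algebraMap A L δ := by
    have hc' : (algebraMap A L a) ^ 2 - algebraMap A L t ^ k * algebraMap A L a = algebraMap A L t ^ (3 * k + 1) * algebraMap A L c := by
      rw [← map_pow, ← map_pow, ← map_pow, ← map_mul, ← map_sub, hc, map_mul, map_pow]
    have hTk : IsUnit (algebraMap A L t ^ (2 * k)) := (IsLocalization.Away.algebraMap_isUnit t).pow _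
    refine hTk.mul_left_cancel ?_
    rw [hδ, map_mul, map_pow]
    rw [← he₀'] at hc'
    linear_combination hc'
  have he₁i : IsIdempotentElem e₁ := by
    have hu' : algebraMap A L (u : A) * algebraMap A L (↑u⁻¹ : A) = 1 := by rw [← map_mul, Units.mul_inv, map_one]
    have hs' : algebraMap A L s ^ 2 - algebraMap A L s + algebraMap A L δ * algebraMap A L (↑u⁻¹ : A) = 0 := by
      rw [← map_mul, ← hε, ← map_pow, ← map_sub, ← map_add, hs, map_zero]
    rw [hu, map_add, map_mul, map_one, map_ofNat, ← hδL] at hu'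
    rw [← hδL] at hs'
    show e₁ * e₁ = e₁
    rw [he₁]
    linear_combination (1 + 4 * (e₀ ^ 2 - e₀)) * hs' - (e₀ ^ 2 - e₀) * hu'
  set φ := Localization.awayMap (algebraMap A (AdicCompletion (Ideal.span {t}) A)) t with hφ
  have hφa : ∀ z, φ (algebraMap A L z) = algebraMap (AdicCompletion (Ideal.span {t}) A) _ (algebraMap A (AdicCompletion (Ideal.span {t}) A) z) := fun z => by
    exact IsLocalization.map_eq _ z
  have hTC : IsUnit (algebraMap (AdicCompletion (Ideal.span {t}) A) (Localization.Away (algebraMap A (AdicCompletion (Ideal.span {t}) A) t)) (algebraMap A (AdicCompletion (Ideal.span {t}) A) t)) := IsLocalization.Away.algebraMap_isUnit (algebraMap A (AdicCompletion (Ideal.span {t}) A) t)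
  have hjac : ∀ γ : (AdicCompletion (Ideal.span {t}) A), IsUnit (1 - ((algebraMap A (AdicCompletion (Ideal.span {t}) A) t) * γ) ^ 2) := by
    intro γ
    haveI : IsAdicComplete ((Ideal.span {t}).map (algebraMap A (AdicCompletion (Ideal.span {t}) A))) (AdicCompletion (Ideal.span {t}) A) := by
      exact (IsAdicComplete.map_algebraMap_iff _ _).mpr (AdicCompletion.isAdicComplete (Submodule.fg_span_singleton t))
    have hmem : -(((algebraMap A (AdicCompletion (Ideal.span {t}) A) t) * γ) * γ) * (algebraMap A (AdicCompletion (Ideal.span {t}) A) t) ∈ (Ideal.span {t}).map (algebraMap A (AdicCompletion (Ideal.span {t}) A)) :=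
      Ideal.mul_mem_left _ _ (Ideal.mem_map_of_mem _ (Ideal.mem_span_singleton_self t))
    have := Ideal.mem_jacobson_bot.1 (IsAdicComplete.le_jacobson_bot _ hmem) 1
    convert this using 1
    ring
  refine ⟨e₁, ⟨he₁i, ?_⟩, ?_⟩
  · refine eq_of_idem (he₁i.map φ) he (x := algebraMap (AdicCompletion (Ideal.span {t}) A) _ ((algebraMap A (AdicCompletion (Ideal.span {t}) A) t) * (-((algebraMap A (AdicCompletion (Ideal.span {t}) A) t) ^ (2 * k) * β) + ((algebraMap A (AdicCompletion (Ideal.span {t}) A) t) ^ k - 2 * algebraMap A (AdicCompletion (Ideal.span {t}) A) a) * algebraMap A (AdicCompletion (Ideal.span {t}) A) r))) ?_ ?_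
    · refine (hTC.pow k).mul_right_cancel ?_
      have hφ0 : φ e₀ * algebraMap (AdicCompletion (Ideal.span {t}) A) (Localization.Away (algebraMap A (AdicCompletion (Ideal.span {t}) A) t)) (algebraMap A (AdicCompletion (Ideal.span {t}) A) t) ^ k = algebraMap (AdicCompletion (Ideal.span {t}) A) _ (algebraMap A (AdicCompletion (Ideal.span {t}) A) a) := by
        rw [← hφa t, ← map_pow, ← map_mul, he₀', hφa]
      have hα' := hα
      rw [hab, map_add, map_mul, map_pow] at hα'
      rw [he₁, map_add, map_mul, map_sub, map_one, map_mul φ 2, map_ofNat, hφa, hsr]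
      simp only [map_add, map_mul, map_sub, map_neg, map_pow, map_ofNat]
      linear_combination hφ0 - hα' - 2 * algebraMap (AdicCompletion (Ideal.span {t}) A) (Localization.Away (algebraMap A (AdicCompletion (Ideal.span {t}) A) t)) (algebraMap A (AdicCompletion (Ideal.span {t}) A) t) ^ (k + 1) * algebraMap (AdicCompletion (Ideal.span {t}) A) _ (algebraMap A (AdicCompletion (Ideal.span {t}) A) r) * hφ0
    · rw [← map_pow, ← map_one (algebraMap (AdicCompletion (Ideal.span {t}) A) (Localization.Away (algebraMap A (AdicCompletion (Ideal.span {t}) A) t))), ← map_sub]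
      exact (hjac _).map _
  · rintro e₂ ⟨he₂, h2⟩
    have hφe : φ e₁ = e := by
      refine eq_of_idem (he₁i.map φ) he (x := algebraMap (AdicCompletion (Ideal.span {t}) A) _ ((algebraMap A (AdicCompletion (Ideal.span {t}) A) t) * (-((algebraMap A (AdicCompletion (Ideal.span {t}) A) t) ^ (2 * k) * β) + ((algebraMap A (AdicCompletion (Ideal.span {t}) A) t) ^ k - 2 * algebraMap A (AdicCompletion (Ideal.span {t}) A) a) * algebraMap A (AdicCompletion (Ideal.span {t}) A) r))) ?_ ?_
      · refine (hTC.pow k).mul_right_cancel ?_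
        have hφ0 : φ e₀ * algebraMap (AdicCompletion (Ideal.span {t}) A) (Localization.Away (algebraMap A (AdicCompletion (Ideal.span {t}) A) t)) (algebraMap A (AdicCompletion (Ideal.span {t}) A) t) ^ k = algebraMap (AdicCompletion (Ideal.span {t}) A) _ (algebraMap A (AdicCompletion (Ideal.span {t}) A) a) := by
          rw [← hφa t, ← map_pow, ← map_mul, he₀', hφa]
        have hα' := hα
        rw [hab, map_add, map_mul, map_pow] at hα'
        rw [he₁, map_add, map_mul, map_sub, map_one, map_mul φ 2, map_ofNat, hφa, hsr]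
        simp only [map_add, map_mul, map_sub, map_neg, map_pow, map_ofNat]
        linear_combination hφ0 - hα' - 2 * algebraMap (AdicCompletion (Ideal.span {t}) A) (Localization.Away (algebraMap A (AdicCompletion (Ideal.span {t}) A) t)) (algebraMap A (AdicCompletion (Ideal.span {t}) A) t) ^ (k + 1) * algebraMap (AdicCompletion (Ideal.span {t}) A) _ (algebraMap A (AdicCompletion (Ideal.span {t}) A) r) * hφ0
      · rw [← map_pow, ← map_one (algebraMap (AdicCompletion (Ideal.span {t}) A) (Localization.Away (algebraMap A (AdicCompletion (Ideal.span {t}) A) t))), ← map_sub]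
        exact (hjac _).map _
    obtain ⟨m, z, hz⟩ := IsLocalization.Away.surj t (e₂ - e₁)
    have h0 : algebraMap (AdicCompletion (Ideal.span {t}) A) (Localization.Away (algebraMap A (AdicCompletion (Ideal.span {t}) A) t)) (algebraMap A (AdicCompletion (Ideal.span {t}) A) z) = 0 := by
      rw [← hφa, ← hz, map_mul, map_sub, h2, hφe, sub_self, zero_mul]
    obtain ⟨⟨_, j, rfl⟩, hj⟩ := (IsLocalization.map_eq_zero_iff (Submonoid.powers (algebraMap A (AdicCompletion (Ideal.span {t}) A) t)) _ _).1 h0
    obtain ⟨b, hb⟩ := exists_of_eq_mul t (M := m + j + 1) (a := t ^ j * z) (γ := 0) (by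
      rw [mul_zero, map_mul, map_pow]; exact hj)
    refine eq_of_idem he₂ he₁i (x := algebraMap A L (t * b)) ?_ ?_
    · refine ((IsLocalization.Away.algebraMap_isUnit (S := L) t).pow (m + j)).mul_right_cancel ?_
      rw [pow_add, ← mul_assoc, hz, ← map_pow, ← map_pow, ← map_mul, ← map_mul, ← map_mul, mul_comm z, hb]
      congr 1
      ring
    · have hu2 := isUnit_one_add t (x := -(t * b * b) * t)
        (Ideal.mul_mem_left _ _ (Ideal.mem_span_singleton_self t))
      rw [← map_pow, ← map_one (algebraMap A L), ← map_sub]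
      refine IsUnit.map _ ?_
      convert hu2 using 1
      ring

end Groth.Agent.S15774
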