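import Groth.Statements.S15778
import Groth.Agent.DenseProj.Basic
-- import your own Groth.Agent.* helpers here

set_option autoImplicit false
universe u
open TensorProduct
open CAlg

namespace Groth.Agent.S15778

/-- The completion inside `Â[1/t]`, dense for the image of `A[1/t]`. -/
theorem exists_data (A : Type u) [CommRing A]
    (t : A) (ht : t ∈ (⊥ : Ideal A).jacobson)
    [Algebra (Localization.Away t) (Localization.Away (algebraMap A (AdicCompletion (Ideal.span {t}) A) t))]
    (halg : algebraMap (Localization.Away t) (Localization.Away (algebraMap A (AdicCompletion (Ideal.span {t}) A) t)) = Localization.awayMap (algebraMap A (AdicCompletion (Ideal.span {t}) A)) t) :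
    Nonempty (Groth.Agent.DenseProj.Data (Localization.Away t)
      (Localization.Away (algebraMap A (AdicCompletion (Ideal.span {t}) A) t))) := by
  have hfg : (Ideal.span {t}).FG := Submodule.fg_span_singleton t
  have hφ : ∀ a : A, algebraMap (Localization.Away t) (Localization.Away (algebraMap A (AdicCompletion (Ideal.span {t}) A) t))
      (algebraMap A (Localization.Away t) a) = (algebraMap (AdicCompletion (Ideal.span {t}) A) (Localization.Away (algebraMap A (AdicCompletion (Ideal.span {t}) A) t))) (algebraMap A (AdicCompletion (Ideal.span {t}) A) a) := fun a => by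
    rw [halg]
    exact IsLocalization.map_eq _ _
  have hτ : IsUnit ((algebraMap (AdicCompletion (Ideal.span {t}) A) (Localization.Away (algebraMap A (AdicCompletion (Ideal.span {t}) A) t))) (algebraMap A (AdicCompletion (Ideal.span {t}) A) t)) := IsLocalization.Away.algebraMap_isUnit (algebraMap A (AdicCompletion (Ideal.span {t}) A) t)
  have htL : IsUnit (algebraMap A (Localization.Away t) t) :=
    IsLocalization.Away.algebraMap_isUnit t
  refine ⟨⟨(algebraMap (AdicCompletion (Ideal.span {t}) A) (Localization.Away (algebraMap A (AdicCompletion (Ideal.span {t}) A) t))).range, (algebraMap (AdicCompletion (Ideal.span {t}) A) (Localization.Away (algebraMap A (AdicCompletion (Ideal.span {t}) A) t))) (algebraMap A (AdicCompletion (Ideal.span {t}) A) t), ⟨_, rfl⟩, hτ, fun x => ?_, fun x N => ?_, ?_, ?_⟩⟩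
  · obtain ⟨⟨a, ⟨_, k, rfl⟩⟩, ha⟩ := IsLocalization.surj (Submonoid.powers (algebraMap A (AdicCompletion (Ideal.span {t}) A) t)) x
    exact ⟨k, a, by rw [← ha, map_pow, mul_comm]⟩
  · obtain ⟨⟨a, ⟨_, k, rfl⟩⟩, ha⟩ := IsLocalization.surj (Submonoid.powers (algebraMap A (AdicCompletion (Ideal.span {t}) A) t)) x
    have hx : (algebraMap (AdicCompletion (Ideal.span {t}) A) (Localization.Away (algebraMap A (AdicCompletion (Ideal.span {t}) A) t))) (algebraMap A (AdicCompletion (Ideal.span {t}) A) t) ^ k * x = (algebraMap (AdicCompletion (Ideal.span {t}) A) (Localization.Away (algebraMap A (AdicCompletion (Ideal.span {t}) A) t))) a := by rw [← map_pow, mul_comm]; exact ha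
    obtain ⟨p, hp⟩ := Submodule.Quotient.mk_surjective ((Ideal.span {t}) ^ (k + N) • ⊤ : Submodule A A)
      (AdicCompletion.eval (Ideal.span {t}) A (k + N) a)
    have h0 : algebraMap A (AdicCompletion (Ideal.span {t}) A) p - a ∈ ((Ideal.span {t}) ^ (k + N) • ⊤ : Submodule A (AdicCompletion (Ideal.span {t}) A)) := by
      rw [AdicCompletion.pow_smul_top_eq_ker_eval hfg, LinearMap.mem_ker, map_sub, sub_eq_zero,
        ← hp]
      rfl
    rw [Ideal.span_singleton_pow, Submodule.ideal_span_singleton_smul,
      Submodule.mem_smul_pointwise_iff_exists] at h0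
    obtain ⟨c, -, hc⟩ := h0
    rw [Algebra.smul_def, map_pow] at hc
    obtain ⟨w, hw⟩ := htL.pow k
    refine ⟨algebraMap A _ p * ↑w⁻¹, (algebraMap (AdicCompletion (Ideal.span {t}) A) (Localization.Away (algebraMap A (AdicCompletion (Ideal.span {t}) A) t))) c, ⟨_, rfl⟩, ?_⟩
    refine (hτ.pow k).mul_left_cancel ?_
    have h1 : (algebraMap (AdicCompletion (Ideal.span {t}) A) (Localization.Away (algebraMap A (AdicCompletion (Ideal.span {t}) A) t))) (algebraMap A (AdicCompletion (Ideal.span {t}) A) t) ^ k * algebraMap (Localization.Away t) (Localization.Away (algebraMap A (AdicCompletion (Ideal.span {t}) A) t)) ↑w⁻¹ = 1 := by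
      rw [← hφ, ← map_pow, ← hw, ← map_mul, Units.mul_inv, map_one]
    rw [mul_sub, hx, map_mul, hφ, mul_comm ((algebraMap (AdicCompletion (Ideal.span {t}) A) (Localization.Away (algebraMap A (AdicCompletion (Ideal.span {t}) A) t))) _) (algebraMap _ _ _), ← mul_assoc, h1, one_mul,
      ← map_sub, ← hc, map_mul, map_pow, pow_add, mul_assoc]
  · rintro x ⟨_, ⟨c, rfl⟩, hc⟩
    obtain ⟨⟨p, ⟨_, m, rfl⟩⟩, hps⟩ := IsLocalization.surj (Submonoid.powers t) x
    have h2 : (algebraMap (AdicCompletion (Ideal.span {t}) A) (Localization.Away (algebraMap A (AdicCompletion (Ideal.span {t}) A) t))) (algebraMap A (AdicCompletion (Ideal.span {t}) A) p) = (algebraMap (AdicCompletion (Ideal.span {t}) A) (Localization.Away (algebraMap A (AdicCompletion (Ideal.span {t}) A) t))) ((1 + (algebraMap A (AdicCompletion (Ideal.span {t}) A) t) * c) * (algebraMap A (AdicCompletion (Ideal.span {t}) A) t) ^ m) := by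
      rw [map_mul, map_add, map_one, map_mul, ← sub_eq_iff_eq_add'.mp hc, ← map_pow, ← hφ p, ← hφ (t ^ m),
        ← map_mul, hps]
    obtain ⟨⟨_, j, rfl⟩, hj⟩ := (IsLocalization.eq_iff_exists (Submonoid.powers (algebraMap A (AdicCompletion (Ideal.span {t}) A) t)) _).mp h2
    have h3 : t ^ j * (p - t ^ m) ∈ Ideal.span {t ^ (j + m + 1)} := by
      rw [← Ideal.span_singleton_pow, ← Ideal.Quotient.eq_zero_iff_mem]
      have := congr_arg (AdicCompletion.evalₐ (Ideal.span {t}) (j + m + 1)) hj
      simp only [map_mul, map_add, map_one, map_pow, AlgHom.commutes,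
        Ideal.Quotient.algebraMap_eq] at this
      have h4 : (Ideal.Quotient.mk ((Ideal.span {t}) ^ (j + m + 1)) t) ^ (j + m + 1) = 0 := by
        rw [← map_pow, Ideal.Quotient.eq_zero_iff_mem]
        exact Ideal.pow_mem_pow (Ideal.mem_span_singleton_self t) _
      simp only [map_mul, map_sub, map_pow]
      linear_combination this + (AdicCompletion.evalₐ (Ideal.span {t}) (j + m + 1) c) * h4
    obtain ⟨a, ha⟩ := Ideal.mem_span_singleton'.mp h3
    have h5 : IsUnit (1 + t * a) := by
      rw [add_comm]; exact Ideal.mem_jacobson_bot.mp ht a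
    have h6 : IsUnit (algebraMap A (Localization.Away t) (t ^ j * p)) := by
      rw [show t ^ j * p = t ^ (j + m) * (1 + t * a) by linear_combination -ha, map_mul, map_pow]
      exact (htL.pow _).mul (h5.map _)
    rw [map_mul, ← hps] at h6
    exact isUnit_of_mul_isUnit_left (isUnit_of_mul_isUnit_right h6)
  · rintro x ⟨_, ⟨c, rfl⟩, hc⟩
    rw [show x = (algebraMap (AdicCompletion (Ideal.span {t}) A) (Localization.Away (algebraMap A (AdicCompletion (Ideal.span {t}) A) t))) (1 + (algebraMap A (AdicCompletion (Ideal.span {t}) A) t) * c) by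
      rw [map_add, map_one, map_mul]; exact sub_eq_iff_eq_add'.mp hc]
    haveI := AdicCompletion.isAdicComplete_self (Ideal.span {t}) hfg
    have h7 : (algebraMap A (AdicCompletion (Ideal.span {t}) A) t) ∈ (⊥ : Ideal (AdicCompletion (Ideal.span {t}) A)).jacobson :=
      IsAdicComplete.le_jacobson_bot ((Ideal.span {t}).map (algebraMap A (AdicCompletion (Ideal.span {t}) A)))
        (Ideal.mem_map_of_mem _ (Ideal.mem_span_singleton_self t))
    refine IsUnit.map (algebraMap (AdicCompletion (Ideal.span {t}) A) (Localization.Away (algebraMap A (AdicCompletion (Ideal.span {t}) A) t))) ?_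
    rw [add_comm]; exact Ideal.mem_jacobson_bot.mp h7 c


/-- The instance A[1/t] → Â[1/t] for modules: let t lie in the Jacobson radical of A (a Zariski pair (A,
tA)) with bounded t-power torsion, Â the t-adic completion, and give Â[1/t] the A[1/t]-algebra
structure of the canonical map. Then finitely generated projective A[1/t]-modules isomorphic over
Â[1/t] are isomorphic, and every stably free Â[1/t]-module is extended from a stably free
A[1/t]-module. (The published statement also asserts injectivity on H¹ for inner forms of GL_n; this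
row omits that clause.) -/
theorem result (A : Type u) [CommRing A]
    (t : A) (ht : t ∈ (⊥ : Ideal A).jacobson)
    (hbd : ∃ N : ℕ, ∀ a : A, (∃ m : ℕ, t ^ m * a = 0) → t ^ N * a = 0)
    [Algebra (Localization.Away t) (Localization.Away (algebraMap A (AdicCompletion (Ideal.span {t}) A) t))]
    (halg : algebraMap (Localization.Away t) (Localization.Away (algebraMap A (AdicCompletion (Ideal.span {t}) A) t)) = Localization.awayMap (algebraMap A (AdicCompletion (Ideal.span {t}) A)) t) :
    (∀ (M N : Type u) [AddCommGroup M] [Module (Localization.Away t) M] [Module.Finite (Localization.Away t) M] [Module.Projective (Localization.Away t) M]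
        [AddCommGroup N] [Module (Localization.Away t) N] [Module.Finite (Localization.Away t) N] [Module.Projective (Localization.Away t) N],
        Nonempty ((Localization.Away (algebraMap A (AdicCompletion (Ideal.span {t}) A) t)) ⊗[Localization.Away t] M ≃ₗ[Localization.Away (algebraMap A (AdicCompletion (Ideal.span {t}) A) t)] (Localization.Away (algebraMap A (AdicCompletion (Ideal.span {t}) A) t)) ⊗[Localization.Away t] N) → Nonempty (M ≃ₗ[Localization.Away t] N)) ∧
    (∀ (M' : Type u) [AddCommGroup M'] [Module (Localization.Away (algebraMap A (AdicCompletion (Ideal.span {t}) A) t)) M'] [Module.Finite (Localization.Away (algebraMap A (AdicCompletion (Ideal.span {t}) A) t)) M'],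
        (∃ n m : ℕ, Nonempty ((M' × (Fin n → Localization.Away (algebraMap A (AdicCompletion (Ideal.span {t}) A) t))) ≃ₗ[Localization.Away (algebraMap A (AdicCompletion (Ideal.span {t}) A) t)] (Fin m → Localization.Away (algebraMap A (AdicCompletion (Ideal.span {t}) A) t)))) →
        ∃ (M : Type u) (_ : AddCommGroup M) (_ : Module (Localization.Away t) M), Module.Finite (Localization.Away t) M ∧
          (∃ n m : ℕ, Nonempty ((M × (Fin n → Localization.Away t)) ≃ₗ[Localization.Away t] (Fin m → Localization.Away t))) ∧
          Nonempty ((Localization.Away (algebraMap A (AdicCompletion (Ideal.span {t}) A) t)) ⊗[Localization.Away t] M ≃ₗ[Localization.Away (algebraMap A (AdicCompletion (Ideal.span {t}) A) t)] M')) := by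
  obtain ⟨d⟩ := exists_data A t ht halg
  exact ⟨fun M N _ _ _ _ _ _ _ _ ⟨u⟩ => Groth.Agent.DenseProj.nonempty_linearEquiv d M N u,
    fun M' _ _ _ ⟨_, _, ⟨Φ⟩⟩ => Groth.Agent.DenseProj.exists_stablyFree d M' Φ⟩

end Groth.Agent.S15778
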