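import Groth.Statements.S15779
import Mathlib
import Groth.Agent.HenselLib.FactorLift
-- import your own Groth.Agent.* helpers here

set_option autoImplicit false
universe u
open Polynomial
open CAlg

namespace Groth.Agent.S15779

section
open Polynomial

theorem part_all (R : Type u) [CommRing R]
    [HenselianLocalRing R] (L : Type u) [CommRing L] [Algebra R[X] L]
    [IsLocalization (Submonoid.closure ({f : R[X] | f.coeff 0 = 1} ∪ {X})) L]
    [Algebra R L] [IsScalarTower R R[X] L]
    (ψ : R[X] →ₐ[R] L) (hψ : ψ X * algebraMap R[X] L X = 1) :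
    (∀ I : Ideal R[X], I ⊔ (IsLocalRing.maximalIdeal R).map (algebraMap R R[X]) = ⊤ →
        (I.map ψ.toRingHom).comap ψ.toRingHom = I ∧
        I.map ψ.toRingHom ⊔ (IsLocalRing.maximalIdeal R).map (algebraMap R L) = ⊤ ∧
        Function.Bijective (Ideal.quotientMap (I.map ψ.toRingHom) ψ.toRingHom Ideal.le_comap_map)) ∧
    (∀ J : Ideal L, J ⊔ (IsLocalRing.maximalIdeal R).map (algebraMap R L) = ⊤ →
        (J.comap ψ.toRingHom).map ψ.toRingHom = J ∧
        J.comap ψ.toRingHom ⊔ (IsLocalRing.maximalIdeal R).map (algebraMap R R[X]) = ⊤) := by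
  classical
  set ι := algebraMap R[X] L with hι
  set iR := algebraMap R L with hiR
  set M := (IsLocalRing.maximalIdeal R).map (algebraMap R R[X]) with hM
  have hψe : ∀ p, ψ p = eval₂ iR (ψ X) p := fun p => by
    rw [← aeval_def, aeval_algHom_apply, aeval_X_left_apply]
  have hιe : ∀ p, ι p = eval₂ iR (ι X) p := fun p => by
    rw [← aeval_def, show ι X = IsScalarTower.toAlgHom R R[X] L X from rfl, aeval_algHom_apply, aeval_X_left_apply]
    rfl
  letI invT : Invertible (ι X) := ⟨ψ X, hψ, by rw [mul_comm]; exact hψ⟩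
  letI invS : Invertible (ψ X) := ⟨ι X, by rw [mul_comm]; exact hψ, hψ⟩
  have key : ∀ (f : R[X]) (N : ℕ), f.natDegree ≤ N → ψ (reflect N f) * ι X ^ N = ι f := fun f N hN => by
    have h := eval₂_reflect_mul_pow iR (ι X) N f hN
    rw [show (⅟(ι X) : L) = ψ X from rfl, ← hψe, ← hιe] at h
    exact h
  have key' : ∀ (f : R[X]) (N : ℕ), f.natDegree ≤ N → ι (reflect N f) * ψ X ^ N = ψ f := fun f N hN => by
    have h := eval₂_reflect_mul_pow iR (ψ X) N f hN
    rw [show (⅟(ψ X) : L) = ι X from rfl, ← hιe, ← hψe] at h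
    exact h
  have hunit : ∀ h : R[X], h.Monic → IsUnit (ψ h) := fun h hh => by
    rw [← key' h _ le_rfl]
    refine IsUnit.mul ?_ ((isUnit_of_invertible (ψ X)).pow _)
    refine IsLocalization.map_units L (⟨reflect h.natDegree h, Submonoid.subset_closure (Or.inl ?_)⟩ :
      Submonoid.closure ({f : R[X] | f.coeff 0 = 1} ∪ {X}))
    show (reflect h.natDegree h).coeff 0 = 1
    rw [coeff_reflect, revAt_le (Nat.zero_le _), Nat.sub_zero]
    exact hh
  have hclos : ∀ s ∈ Submonoid.closure ({f : R[X] | f.coeff 0 = 1} ∪ {X}),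
      ∃ h q : R[X], h.Monic ∧ ι s * ψ q = ψ h := by
    intro s hs
    induction hs using Submonoid.closure_induction with
    | mem s hs =>
      rcases hs with hs | hs
      · refine ⟨reflect s.natDegree s, X ^ s.natDegree, ?_, ?_⟩
        · refine monic_of_natDegree_le_of_coeff_eq_one s.natDegree (natDegree_le_iff_coeff_eq_zero.2 fun i hi => ?_) ?_
          · rw [coeff_reflect, revAt_eq_self_of_lt hi, coeff_eq_zero_of_natDegree_lt hi]
          · rw [coeff_reflect, revAt_le le_rfl, Nat.sub_self]
            exact hs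
        · rw [← key s _ le_rfl, map_pow, mul_assoc, ← mul_pow, mul_comm (ι X), hψ, one_pow, mul_one]
      · refine ⟨1, X, monic_one, ?_⟩
        rw [Set.mem_singleton_iff.1 hs, mul_comm, map_one]
        exact hψ
    | one => exact ⟨1, 1, monic_one, by simp⟩
    | mul a b _ _ ha hb =>
      obtain ⟨h, q, hh, e⟩ := ha
      obtain ⟨h', q', hh', e'⟩ := hb
      exact ⟨h * h', q * q', hh.mul hh', by rw [map_mul, map_mul, map_mul, ← e, ← e']; ring⟩
  have hgen : ∀ l : L, ∃ h p : R[X], h.Monic ∧ l * ψ h = ψ p := by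
    intro l
    obtain ⟨⟨f, s, hs⟩, e⟩ := IsLocalization.surj (Submonoid.closure ({f : R[X] | f.coeff 0 = 1} ∪ {X})) l
    obtain ⟨h, q, hh, e'⟩ := hclos s hs
    refine ⟨h * X ^ f.natDegree, q * reflect f.natDegree f, hh.mul (monic_X_pow _), ?_⟩
    rw [map_mul, map_mul, map_pow, ← e']
    have e2 : l * ι s = ι f := e
    calc l * (ι s * ψ q * ψ X ^ f.natDegree) = l * ι s * ψ q * ψ X ^ f.natDegree := by ring
      _ = ψ q * ψ (reflect f.natDegree f) * (ψ X * ι X) ^ f.natDegree := by
        rw [e2, ← key f _ le_rfl]; ring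
      _ = _ := by rw [hψ, one_pow, mul_one]
  have hM' : M.map ψ.toRingHom = (IsLocalRing.maximalIdeal R).map iR := by
    rw [hM, Ideal.map_map]
    exact congrArg (fun g => Ideal.map g _) ψ.comp_algebraMap
  refine ⟨fun I hI => ?_, fun J hJ => ?_⟩
  · have hmon : ∀ h : R[X], h.Monic → IsUnit (Ideal.Quotient.mk I h) := by
      intro h hh
      haveI : Module.Finite R (R[X] ⧸ Ideal.span {h}) := hh.finite_adjoinRoot
      haveI : Module.Finite R (R[X] ⧸ (I ⊔ Ideal.span {h})) :=
        Module.Finite.of_surjective (Submodule.factor (le_sup_right : Ideal.span {h} ≤ I ⊔ Ideal.span {h}) |>.restrictScalars R)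
          (Submodule.factor_surjective (le_sup_right : Ideal.span {h} ≤ I ⊔ Ideal.span {h}))
      have htop : (⊤ : Submodule R (R[X] ⧸ (I ⊔ Ideal.span {h}))) ≤ IsLocalRing.maximalIdeal R • ⊤ := by
        intro z hz0
        clear hz0
        obtain ⟨z, rfl⟩ := Ideal.Quotient.mk_surjective z
        have hz : z ∈ I ⊔ M := hI ▸ Submodule.mem_top
        obtain ⟨a, ha, b, hb, rfl⟩ := Submodule.mem_sup.1 hz
        clear hz
        rw [map_add, Ideal.Quotient.eq_zero_iff_mem.2 (Submodule.mem_sup_left ha), zero_add]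
        rw [hM, Ideal.map] at hb
        induction hb using Submodule.span_induction with
        | mem x hx =>
          obtain ⟨r, hr, rfl⟩ := hx
          rw [show Ideal.Quotient.mk (I ⊔ Ideal.span {h}) (algebraMap R R[X] r) = r • (1 : R[X] ⧸ (I ⊔ Ideal.span {h})) by
            rw [Algebra.smul_def, mul_one]; rfl]
          exact Submodule.smul_mem_smul hr Submodule.mem_top
        | zero => simp
        | add x y _ _ hx hy => rw [map_add]; exact add_mem hx hy
        | smul c x _ hx =>
          rw [smul_eq_mul, map_mul]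
          generalize Ideal.Quotient.mk (I ⊔ Ideal.span {h}) x = y at hx ⊢
          induction hx using Submodule.smul_induction_on' with
          | smul r hr n _ => rw [mul_smul_comm]; exact Submodule.smul_mem_smul hr Submodule.mem_top
          | add x _ y _ hx hy => rw [mul_add]; exact add_mem hx hy
      have hbot := Submodule.eq_bot_of_le_smul_of_le_jacobson_bot (IsLocalRing.maximalIdeal R) ⊤ Module.Finite.fg_top
        htop (IsLocalRing.maximalIdeal_le_jacobson _)
      have h1 : (1 : R[X]) ∈ I ⊔ Ideal.span {h} := by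
        rw [← Ideal.Quotient.eq_zero_iff_mem, ← Submodule.mem_bot R, ← hbot]
        trivial
      obtain ⟨a, ha, b, hb, e⟩ := Submodule.mem_sup.1 h1
      obtain ⟨c, rfl⟩ := Ideal.mem_span_singleton'.1 hb
      refine IsUnit.of_mul_eq_one (Ideal.Quotient.mk I c) ?_
      rw [← map_mul, ← map_one (Ideal.Quotient.mk I), Ideal.Quotient.eq]
      have : h * c - 1 = -a := by rw [← e]; ring
      rw [this]
      exact I.neg_mem ha
    have hX : IsUnit (Ideal.Quotient.mk I X) := hmon X monic_X
    letI invx : Invertible (Ideal.Quotient.mk I X) := hX.invertible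
    let iQ := (Ideal.Quotient.mk I).comp (algebraMap R R[X])
    have hmk : ∀ p, Ideal.Quotient.mk I p = eval₂ iQ (Ideal.Quotient.mk I X) p := fun p => by
      conv_lhs => rw [← eval₂_C_X (p := p), hom_eval₂]
      rfl
    let g : R[X] →+* R[X] ⧸ I := eval₂RingHom iQ (⅟(Ideal.Quotient.mk I X))
    have hg : ∀ s : Submonoid.closure ({f : R[X] | f.coeff 0 = 1} ∪ {X}), IsUnit (g s) := by
      rintro ⟨s, hs⟩
      show IsUnit (g s)
      induction hs using Submonoid.closure_induction with
      | mem s hs =>
        rcases hs with hs | hs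
        · have h := eval₂_reflect_mul_pow iQ (Ideal.Quotient.mk I X) s.natDegree (reflect s.natDegree s)
            (natDegree_le_iff_coeff_eq_zero.2 fun i hi => by
              rw [coeff_reflect, revAt_eq_self_of_lt hi, coeff_eq_zero_of_natDegree_lt hi])
          rw [show reflect s.natDegree (reflect s.natDegree s) = s by
            ext i; rw [coeff_reflect, coeff_reflect, revAt_invol]] at h
          have hu : IsUnit (g s * Ideal.Quotient.mk I X ^ s.natDegree) := by
            rw [show g s = eval₂ iQ (⅟(Ideal.Quotient.mk I X)) s from rfl, h, ← hmk]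
            refine hmon _ (monic_of_natDegree_le_of_coeff_eq_one s.natDegree (natDegree_le_iff_coeff_eq_zero.2 fun i hi => ?_) ?_)
            · rw [coeff_reflect, revAt_eq_self_of_lt hi, coeff_eq_zero_of_natDegree_lt hi]
            · rw [coeff_reflect, revAt_le le_rfl, Nat.sub_self]
              exact hs
          exact isUnit_of_mul_isUnit_left hu
        · rw [Set.mem_singleton_iff.1 hs]
          simp only [g, coe_eval₂RingHom, eval₂_X]
          exact isUnit_of_invertible _
      | one => simp
      | mul a b _ _ ha hb => rw [map_mul]; exact ha.mul hb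
    let χ : L →+* R[X] ⧸ I := IsLocalization.lift hg
    have hχψ : ∀ p, χ (ψ p) = Ideal.Quotient.mk I p := by
      intro p
      have hC : ∀ r, χ (iR r) = iQ r := fun r => by
        rw [hiR, IsScalarTower.algebraMap_apply R R[X] L, IsLocalization.lift_eq]
        simp [g]
      have hXX : χ (ψ X) = Ideal.Quotient.mk I X := by
        have h1 : χ (ψ X) * χ (ι X) = 1 := by rw [← map_mul, hψ, map_one]
        have h2 : χ (ι X) = ⅟(Ideal.Quotient.mk I X) := by rw [IsLocalization.lift_eq]; simp [g]
        rw [h2] at h1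
        calc χ (ψ X) = χ (ψ X) * ⅟(Ideal.Quotient.mk I X) * Ideal.Quotient.mk I X := by
              rw [mul_assoc, invOf_mul_self, mul_one]
          _ = _ := by rw [h1, one_mul]
      rw [hψe, hom_eval₂, hmk]
      congr 1
      exact RingHom.ext hC
    have hχI : ∀ l ∈ I.map ψ.toRingHom, χ l = 0 := by
      intro l hl
      have : I.map ψ.toRingHom ≤ RingHom.ker χ := by
        rw [Ideal.map_le_iff_le_comap]
        intro p hp
        show χ (ψ p) = 0
        rw [hχψ, Ideal.Quotient.eq_zero_iff_mem]
        exact hp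
      exact this hl
    have hcm : (I.map ψ.toRingHom).comap ψ.toRingHom = I := by
      refine le_antisymm (fun p hp => ?_) Ideal.le_comap_map
      have := hχI _ (Ideal.mem_comap.1 hp)
      rwa [show ψ.toRingHom p = ψ p from rfl, hχψ, Ideal.Quotient.eq_zero_iff_mem] at this
    refine ⟨hcm, ?_, Ideal.quotientMap_injective' hcm.le, fun z => ?_⟩
    · rw [← hM', ← Ideal.map_sup, hI, Ideal.map_top]
    · obtain ⟨l, rfl⟩ := Ideal.Quotient.mk_surjective z
      obtain ⟨h, p, hh, e⟩ := hgen l
      obtain ⟨q, hq⟩ := Ideal.Quotient.mk_surjective ((hmon h hh).unit⁻¹ : (R[X] ⧸ I)ˣ).1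
      refine ⟨Ideal.Quotient.mk I (p * q), ?_⟩
      rw [Ideal.quotientMap_mk, Ideal.Quotient.eq]
      have h1 : h * q - 1 ∈ I := by
        rw [← Ideal.Quotient.eq, map_mul, hq, map_one]
        exact (hmon h hh).mul_val_inv
      have h2 := Ideal.mul_mem_left (I.map ψ.toRingHom) l (Ideal.mem_map_of_mem ψ.toRingHom h1)
      have h3 : ψ.toRingHom (p * q) - l = l * ψ.toRingHom (h * q - 1) := by
        show ψ (p * q) - l = l * ψ (h * q - 1)
        rw [map_sub, map_one, map_mul, map_mul, ← e]; ring
      rwa [h3]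
  · refine ⟨le_antisymm Ideal.map_comap_le fun l hl => ?_, ?_⟩
    · obtain ⟨h, p, hh, e⟩ := hgen l
      rw [← Ideal.mul_unit_mem_iff_mem _ (hunit h hh), e]
      refine Ideal.mem_map_of_mem ψ.toRingHom (show ψ p ∈ J from e ▸ J.mul_mem_right _ hl)
    · obtain ⟨j, hj, x, hx, hjx⟩ := Submodule.mem_sup.1 (hJ.ge (Submodule.mem_top : (1 : L) ∈ ⊤))
      have hx' : ∃ h q, h.Monic ∧ q ∈ M ∧ x * ψ h = ψ q := by
        clear hjx
        rw [← hM'] at hx
        rw [Ideal.map] at hx
        induction hx using Submodule.span_induction with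
        | mem y hy =>
          obtain ⟨q, hq, rfl⟩ := hy
          exact ⟨1, q, monic_one, hq, by simp⟩
        | zero => exact ⟨1, 0, monic_one, zero_mem _, by simp⟩
        | add a b _ _ ha hb =>
          obtain ⟨h, q, hh, hq, e⟩ := ha
          obtain ⟨h', q', hh', hq', e'⟩ := hb
          exact ⟨h * h', q * h' + q' * h, hh.mul hh', add_mem (Ideal.mul_mem_right _ _ hq) (Ideal.mul_mem_right _ _ hq'),
            by simp only [map_mul, map_add, ← e, ← e']; ring⟩
        | smul c a _ ha =>
          obtain ⟨h, q, hh, hq, e⟩ := ha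
          obtain ⟨h', p', hh', e'⟩ := hgen c
          exact ⟨h' * h, p' * q, hh'.mul hh, Ideal.mul_mem_left _ _ hq,
            by simp only [map_mul, smul_eq_mul, ← e, ← e']; ring⟩
      obtain ⟨h, q, hh, hq, e⟩ := hx'
      have hp : ψ (h - q) ∈ J := by
        rw [map_sub, ← e, show ψ h - x * ψ h = j * ψ h by rw [← sub_eq_of_eq_add hjx.symm]; ring]
        exact J.mul_mem_right _ hj
      have hqz : q.map (IsLocalRing.residue R) = 0 := by
        have : M ≤ RingHom.ker (mapRingHom (IsLocalRing.residue R)) := by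
          rw [hM, Ideal.map_le_iff_le_comap]
          intro r hr
          simp [(IsLocalRing.residue_eq_zero_iff r).2 hr]
        exact this hq
      obtain ⟨g, c, hgc, hg, -, hc⟩ := Groth.Agent.HenselLib.exists_factor_lift (h - q)
        (h.map (IsLocalRing.residue R)) 1 (hh.map _) isCoprime_one_right
        (by rw [Polynomial.map_sub, hqz, sub_zero, mul_one])
      rw [hgc, map_mul, Ideal.unit_mul_mem_iff_mem _ (hunit g hg)] at hp
      rw [Ideal.eq_top_iff_one, show (1 : R[X]) = c + (1 - c) by ring]
      refine add_mem (Submodule.mem_sup_left hp) (Submodule.mem_sup_right ?_)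
      rw [hM, algebraMap_eq, Ideal.mem_map_C_iff]
      intro i
      rw [← IsLocalRing.residue_eq_zero_iff, ← coeff_map, Polynomial.map_sub, hc, Polynomial.map_one, sub_self, coeff_zero]

end

/-- For a Henselian local ring (R, m), L the localisation of R[t] at the monoid generated by t and the
polynomials with constant term 1, and ψ : R[s] → L the R-algebra map with s ↦ t⁻¹, extension and
contraction along ψ are mutually inverse bijections between the ideals of R[s] comaximal with mR[s]
and the ideals of L comaximal with mL, and R[s]/I → L/IL is bijective for every such I. -/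
theorem result (R : Type u) [CommRing R]
    [HenselianLocalRing R] (L : Type u) [CommRing L] [Algebra R[X] L]
    [IsLocalization (Submonoid.closure ({f : R[X] | f.coeff 0 = 1} ∪ {X})) L]
    [Algebra R L] [IsScalarTower R R[X] L]
    (ψ : R[X] →ₐ[R] L) (hψ : ψ X * algebraMap R[X] L X = 1) :
    (∀ I : Ideal R[X], I ⊔ (IsLocalRing.maximalIdeal R).map (algebraMap R R[X]) = ⊤ →
        (I.map ψ.toRingHom).comap ψ.toRingHom = I ∧
        I.map ψ.toRingHom ⊔ (IsLocalRing.maximalIdeal R).map (algebraMap R L) = ⊤ ∧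
        Function.Bijective (Ideal.quotientMap (I.map ψ.toRingHom) ψ.toRingHom Ideal.le_comap_map)) ∧
    (∀ J : Ideal L, J ⊔ (IsLocalRing.maximalIdeal R).map (algebraMap R L) = ⊤ →
        (J.comap ψ.toRingHom).map ψ.toRingHom = J ∧
        J.comap ψ.toRingHom ⊔ (IsLocalRing.maximalIdeal R).map (algebraMap R R[X]) = ⊤) := by
  exact part_all R L ψ hψ

end Groth.Agent.S15779
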