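import Groth.Statements.S1578
import Mathlib
import Groth.Agent.WeakAss.Basic
import Groth.Agent.QCohLib.TildeFlat
-- import your own Groth.Agent.* helpers here

set_option autoImplicit false
universe u
open CategoryTheory CategoryTheory.Limits AlgebraicGeometry
open Divisors

namespace Groth.Agent.S1578

/-- Let M be a module over a ring A, F the associated quasi-coherent module on Spec A, and p a prime of
A. If p is an associated prime of M then p is an associated point of F; the converse holds when p is
finitely generated. -/
theorem result (A : CommRingCat.{u}) (M : ModuleCat.{u} A)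
    (p : Spec A) :
    (p.asIdeal ∈ associatedPrimes A M → Curv2.IsAssPoint (tilde M) p) ∧
    (p.asIdeal.FG → Curv2.IsAssPoint (tilde M) p → p.asIdeal ∈ associatedPrimes A M) := by
  have hp : p.asIdeal.IsPrime := p.isPrime
  let O := (Spec A).presheaf.stalk p
  let : Algebra A O := (StructureSheaf.toStalk A p).hom.toAlgebra
  have hloc : IsLocalization p.asIdeal.primeCompl O := StructureSheaf.IsLocalization.to_stalk A p
  let : Module A ((tilde M).presheaf.stalk p) :=
    Groth.Agent.QCohLib.stalkModuleSelf (B := A) M p
  let f := Groth.Agent.QCohLib.toStalkLinear (B := A) M p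
  have : IsLocalizedModule p.asIdeal.primeCompl f :=
    Groth.Agent.QCohLib.isLocalizedModule_toStalkLinear (B := A) M p
  have : IsScalarTower A O ((tilde M).presheaf.stalk p) :=
    IsScalarTower.of_algebraMap_smul fun _ _ => rfl
  have : IsLocalization.AtPrime O p.asIdeal := hloc
  have hc : (IsLocalRing.maximalIdeal O).comap (algebraMap A O) = p.asIdeal :=
    IsLocalization.AtPrime.under_maximalIdeal O p.asIdeal
  refine ⟨fun h => ?_, fun hfg h => ?_⟩
  · exact Module.associatedPrimes.mem_associatedPrimes_of_comap_mem_associatedPrimes_of_isLocalizedModule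
      p.asIdeal.primeCompl f (IsLocalRing.maximalIdeal O) (hc.symm ▸ h)
  · exact hc ▸ Module.associatedPrimes.comap_mem_associatedPrimes_of_mem_associatedPrimes_of_isLocalizedModule_of_fg
      p.asIdeal.primeCompl f (IsLocalRing.maximalIdeal O) h (hc.symm ▸ hfg)

end Groth.Agent.S1578
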