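import Groth.Statements.S15784
import Mathlib
-- import your own Groth.Agent.* helpers here

set_option autoImplicit false
universe u
open Neron

namespace Groth.Agent.S15784

/-- Let O be a discrete valuation ring with fraction field L and uniformizer ϖ', let ϖ be an element of
the maximal ideal of O, let q = u·ϖ'^n with u a unit of O and n ≥ 1, and let m ≥ 1 be a divisor of
n. Then the following are equivalent: (i) there is a nonzero element z = w·ϖ'^a of L, with w a unit
of O and a an integer congruent to n/m modulo n, and an integer j such that z^m·q^j lies in 1 + ϖO;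
(ii) ϖ'^n/q is an m-th power in the group of units of O/ϖO, that is, u·(y^m + ϖ·r) = 1 for some y, r
∈ O. (The published statement phrases (i) geometrically, as the existence of a point of order m in
the special fibre of the Néron model of the Weil restriction of the Tate curve with parameter q from
L down to a subfield over which L is totally ramified with ϖ a uniformizer of the subfield, whose
image in the component group also has order m; this row states the equivalence between (i) and (ii)
that the printed argument establishes.) -/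
theorem result
    (O : Type u) [CommRing O] [IsDomain O] [IsDiscreteValuationRing O]
    (L : Type u) [Field L] [Algebra O L] [IsFractionRing O L]
    (ϖ' : O) (hϖ' : Irreducible ϖ') (ϖ : O) (hϖ : ϖ ∈ IsLocalRing.maximalIdeal O)
    (n : ℕ) (hn : 1 ≤ n) (u : Oˣ) (q : O) (hq : q = u * ϖ' ^ n)
    (m : ℕ) (hm : 1 ≤ m) (hmn : m ∣ n) :
    (∃ (w : Oˣ) (a j t : ℤ) (r : O), a = (n / m : ℕ) + t * n ∧
        (algebraMap O L w * algebraMap O L ϖ' ^ a) ^ m * algebraMap O L q ^ j = algebraMap O L (1 + ϖ * r)) ↔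
      ∃ y r : O, (u : O) * (y ^ m + ϖ * r) = 1 := by
  have hπ0 : (algebraMap O L ϖ' : L) ≠ 0 :=
    (map_ne_zero_iff _ (IsFractionRing.injective O L)).mpr hϖ'.ne_zero
  let uL : Lˣ := Units.map (algebraMap O L).toMonoidHom u
  constructor
  · rintro ⟨w, a, j, t, r, ha, h⟩
    have hunit : IsUnit (1 + ϖ * r) := by
      have hm' : ϖ * r ∈ IsLocalRing.maximalIdeal O := Ideal.mul_mem_right _ _ hϖ
      by_contra hc
      have hsum := (IsLocalRing.mem_maximalIdeal _).mpr hc
      have : (1 : O) ∈ IsLocalRing.maximalIdeal O := by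
        have := sub_mem hsum hm'
        rwa [add_sub_cancel_right] at this
      exact (IsLocalRing.maximalIdeal.isMaximal O).ne_top ((Ideal.eq_top_iff_one _).mpr this)
    obtain ⟨v, hv⟩ := hunit
    have hexp : (algebraMap O L ((w ^ m : Oˣ) : O)) * (((uL ^ j : Lˣ) : L)) *
        algebraMap O L ϖ' ^ (a * m + n * j) = algebraMap O L (v : O) := by
      rw [hv, ← h, hq, map_mul, map_pow, mul_pow, mul_zpow, ← zpow_natCast (algebraMap O L ϖ') n,
        ← zpow_mul, ← zpow_natCast (algebraMap O L ϖ' ^ a) m, ← zpow_mul, zpow_add₀ hπ0,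
        Units.val_zpow_eq_zpow_val, Units.val_pow_eq_pow_val, map_pow]
      simp only [uL, Units.coe_map, RingHom.toMonoidHom_eq_coe, MonoidHom.coe_coe]
      ring
    let W : Oˣ := v * (u ^ j)⁻¹ * (w ^ m)⁻¹
    have hW : algebraMap O L ϖ' ^ (a * m + n * j) = algebraMap O L (W : O) := by
      have h1 : (Units.map (algebraMap O L).toMonoidHom W) =
          Units.map (algebraMap O L).toMonoidHom v * (uL ^ j)⁻¹ *
            (Units.map (algebraMap O L).toMonoidHom (w ^ m))⁻¹ := by
        simp only [W, map_mul, map_inv, map_zpow, uL]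
      have h2 := congr_arg Units.val h1
      simp only [Units.coe_map, Units.val_mul, RingHom.toMonoidHom_eq_coe, MonoidHom.coe_coe] at h2
      rw [h2, ← hexp, Units.val_inv_eq_inv_val, Units.val_inv_eq_inv_val, Units.coe_map]
      have e1 : (algebraMap O L ((w ^ m : Oˣ) : O)) ≠ 0 := ((w ^ m).isUnit.map _).ne_zero
      have e2 : ((uL ^ j : Lˣ) : L) ≠ 0 := (uL ^ j).ne_zero
      generalize algebraMap O L ϖ' ^ (a * m + n * j) = g
      simp only [RingHom.toMonoidHom_eq_coe, MonoidHom.coe_coe]
      field_simp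
    have hzero : a * m + n * j = 0 := by
      rcases Int.natAbs_eq (a * m + n * j) with hk | hk
      · rw [hk, zpow_natCast, ← map_pow] at hW
        have h3 := IsFractionRing.injective O L hW
        have : (a * m + n * j).natAbs = 0 := by
          by_contra hne
          exact hϖ'.not_isUnit ((isUnit_pow_iff hne).mp (h3 ▸ W.isUnit))
        omega
      · rw [hk, zpow_neg, zpow_natCast, ← map_pow, inv_eq_iff_eq_inv] at hW
        have h4 : algebraMap O L (ϖ' ^ (a * m + n * j).natAbs * W) = algebraMap O L 1 := by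
          rw [map_mul, hW, inv_mul_cancel₀ ((W.isUnit.map (algebraMap O L)).ne_zero), map_one]
        have h3 := IsFractionRing.injective O L h4
        have : (a * m + n * j).natAbs = 0 := by
          by_contra hne
          exact hϖ'.not_isUnit ((isUnit_pow_iff hne).mp (IsUnit.of_mul_eq_one _ h3))
        omega
    obtain ⟨c, rfl⟩ := hmn
    have hc : m * c / m = c := Nat.mul_div_cancel_left c (by omega)
    have hj : j = -1 - t * m := by
      rw [ha, hc] at hzero
      push_cast at hzero
      have hfac : ((m : ℤ) * c) * (1 + t * m + j) = 0 := by linarith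
      rcases mul_eq_zero.mp hfac with h0 | h0
      · exfalso
        have : m * c = 0 := by exact_mod_cast h0
        omega
      · linarith
    have hv' : v = w ^ m * u ^ j := by
      rw [hzero, zpow_zero, mul_one] at hexp
      apply Units.ext
      apply IsFractionRing.injective O L
      rw [← hexp, Units.val_mul, map_mul]
      congr 1
      show ((Units.map (algebraMap O L).toMonoidHom u) ^ j : Lˣ).1 =
        (Units.map (algebraMap O L).toMonoidHom (u ^ j)).1
      rw [map_zpow]
    let y0 : Oˣ := w * u ^ (-t)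
    have hy0 : y0 ^ m = u * v := by
      rw [hv', hj, mul_pow, ← zpow_natCast (u ^ (-t)) m, ← zpow_mul, sub_eq_add_neg, zpow_add,
        zpow_neg_one, neg_mul, mul_comm (w ^ m) (u⁻¹ * _), mul_assoc, mul_inv_cancel_left, mul_comm]
    refine ⟨(y0⁻¹ : Oˣ), ((y0⁻¹ : Oˣ) : O) ^ m * r, ?_⟩
    have : (u : O) * ((((y0⁻¹ : Oˣ) : O) ^ m) + ϖ * ((((y0⁻¹ : Oˣ) : O)) ^ m * r)) =
        ((u * v * (y0 ^ m)⁻¹ : Oˣ) : O) := by
      rw [Units.val_mul, Units.val_mul, hv, ← inv_pow, Units.val_pow_eq_pow_val]
      ring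
    rw [this, hy0, mul_inv_cancel]
    rfl
  · rintro ⟨y, r, h⟩
    have hy : IsUnit y := by
      by_contra hc
      have : (1 : O) ∈ IsLocalRing.maximalIdeal O := by
        rw [← h]
        exact Ideal.mul_mem_left _ _ (add_mem (Ideal.pow_mem_of_mem _ ((IsLocalRing.mem_maximalIdeal _).mpr hc) _ hm)
          (Ideal.mul_mem_right _ _ hϖ))
      exact (IsLocalRing.maximalIdeal.isMaximal O).ne_top ((Ideal.eq_top_iff_one _).mpr this)
    obtain ⟨Y, rfl⟩ := hy
    refine ⟨Y⁻¹, ((n / m : ℕ) : ℤ), -1, 0, r * ((Y⁻¹ : Oˣ) : O) ^ m, by ring, ?_⟩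
    have hnm : ((n / m : ℕ) : ℤ) * (m : ℤ) = (n : ℤ) := by exact_mod_cast Nat.div_mul_cancel hmn
    rw [mul_pow, ← zpow_natCast (algebraMap O L ϖ' ^ _) m, ← zpow_mul, hnm, zpow_natCast, hq, map_mul,
      map_pow, zpow_neg_one, mul_inv, ← map_pow]
    have hu0 : algebraMap O L (u : O) ≠ 0 := (u.isUnit.map _).ne_zero
    have key : ((Y⁻¹ : Oˣ) : O) ^ m = (u : O) * (1 + ϖ * (r * ((Y⁻¹ : Oˣ) : O) ^ m)) := by
      have hYY : (Y : O) ^ m * ((Y⁻¹ : Oˣ) : O) ^ m = 1 := by rw [← mul_pow, Units.mul_inv, one_pow]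
      calc ((Y⁻¹ : Oˣ) : O) ^ m = ((Y⁻¹ : Oˣ) : O) ^ m * ((u : O) * ((Y : O) ^ m + ϖ * r)) := by rw [h, mul_one]
        _ = (u : O) * ((Y : O) ^ m * ((Y⁻¹ : Oˣ) : O) ^ m + ϖ * (r * ((Y⁻¹ : Oˣ) : O) ^ m)) := by ring
        _ = _ := by rw [hYY]
    generalize (1 + ϖ * (r * ((Y⁻¹ : Oˣ) : O) ^ m)) = Z at key ⊢
    rw [key, map_mul]
    field_simp

end Groth.Agent.S15784
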