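import Groth.Statements.S1579
import Mathlib
import Groth.Agent.AssPoints.Pushforward
-- import your own Groth.Agent.* helpers here

set_option autoImplicit false
universe u
open CategoryTheory CategoryTheory.Limits AlgebraicGeometry
open Divisors

namespace Groth.Agent.S1579

open TopologicalSpace in
lemma exists_mult {A B : Type u} [CommRing A] [CommRing B] (φ : A →+* B) (hφ : φ.Finite)
    {M : Type u} [AddCommGroup M] [Module B M] (a : M) (P : Ideal B) [P.IsPrime]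
    (hP : ∀ σ ∈ P, ∃ v ∉ P, ∃ k : ℕ, (v * σ ^ k) • a = 0) :
    ∃ g ∉ P, ∀ r ∈ P.comap φ, ∃ u ∉ P.comap φ, ∃ N : ℕ, (φ (u * r ^ N) * g) • a = 0 := by
  classical
  algebraize [φ]
  let p := P.comap φ
  have hfin : ((p.primesOver B) \ {P}).Finite := (Algebra.QuasiFinite.finite_primesOver p).sdiff
  have hb : ∀ Q : hfin.toFinset, ∃ b v : B, b ∉ Q.1 ∧ v ∉ P ∧ ∃ k : ℕ, (v * b ^ k) • a = 0 := by
    rintro ⟨Q, hQ⟩
    obtain ⟨⟨hQp, hQl⟩, hne⟩ := hfin.mem_toFinset.mp hQ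
    have hnle : ¬ P ≤ Q := fun hle => by
      obtain ⟨x, hxQ, hxP⟩ := SetLike.exists_of_lt (lt_of_le_of_ne hle (fun h => hne h.symm))
      have := Ideal.comap_lt_comap_of_integral_mem_sdiff (R := A) hle ⟨hxQ, hxP⟩
        (Algebra.IsIntegral.isIntegral x)
      exact this.ne hQl.over
    obtain ⟨b, hbP, hbQ⟩ := SetLike.not_le_iff_exists.mp hnle
    obtain ⟨v, hv, k, hk⟩ := hP b hbP
    exact ⟨b, v, hbQ, hv, k, hk⟩
  choose b v hbQ hvP k hk using hb
  refine ⟨∏ Q, v Q, fun h => ?_, fun r hr => ?_⟩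
  · obtain ⟨Q, -, hQ⟩ := (Ideal.IsPrime.prod_mem_iff (hp := ‹P.IsPrime›)).mp h
    exact hvP Q hQ
  by_contra hne
  let J : Ideal B := LinearMap.ker (LinearMap.toSpanSingleton B M ((∏ Q, v Q) • a))
  have hJ : ∀ σ : B, σ ∈ J ↔ (σ * ∏ Q, v Q) • a = 0 := fun σ => by
    simp only [J, LinearMap.mem_ker, LinearMap.toSpanSingleton_apply, smul_smul]
  have hd : Disjoint (J : Set B) (((p.primeCompl ⊔ Submonoid.powers r).map φ : Submonoid B) : Set B) := by
    rw [Set.disjoint_right]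
    rintro _ ⟨t, ht, rfl⟩ hJt
    obtain ⟨u, hu, _, ⟨N, rfl⟩, rfl⟩ := Submonoid.mem_sup.mp ht
    exact hne ⟨u, hu, N, (hJ _).mp hJt⟩
  obtain ⟨y, hy, hJy, hyd⟩ := Ideal.exists_le_prime_disjoint J _ hd
  have hyp : y.comap (algebraMap A B) ≤ p := fun t ht => by
    by_contra htp
    exact Set.disjoint_left.mp hyd (show algebraMap A B t ∈ y from ht)
      ⟨t, Submonoid.mem_sup_left htp, rfl⟩
  obtain ⟨Q, hyQ, hQ, hQp⟩ := Ideal.exists_ideal_over_prime_of_isIntegral_of_isPrime p y hyp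
  by_cases hQP : Q = P
  · subst hQP
    have hQy : Q ≤ y := fun σ hσ => by
      obtain ⟨w, hw, n, hn⟩ := hP σ hσ
      have : w * σ ^ n ∈ J := (hJ _).mpr (by
        rw [mul_comm _ (∏ Q, v Q), mul_smul, hn, smul_zero])
      exact hy.mem_of_pow_mem n ((hy.mem_or_mem (hJy this)).resolve_left fun h => hw (hyQ h))
    exact Set.disjoint_left.mp hyd (hQy hr)
      ⟨r, Submonoid.mem_sup_right (Submonoid.mem_powers r), rfl⟩
  · let Q' : hfin.toFinset := ⟨Q, hfin.mem_toFinset.mpr ⟨⟨hQ, ⟨hQp.symm⟩⟩, hQP⟩⟩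
    have : b Q' ^ k Q' ∈ J := (hJ _).mpr (by
      rw [← Finset.prod_erase_mul _ _ (Finset.mem_univ Q'), mul_left_comm, mul_comm (b Q' ^ k Q'),
        mul_smul, hk, smul_zero])
    exact hbQ Q' (hQ.mem_of_pow_mem _ (hyQ (hJy this)))

open MeroBasic (pr isUnit_germ_iff exists_germ_mul_eq fromSpec_mem primeIdealOf_fromSpec) in
open Groth.Agent.AssPoints TopologicalSpace in
theorem isWeakAssPoint_pushforward_finite {X S : Scheme.{u}} (f : X ⟶ S) [IsFinite f] {F : X.Modules}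
    (hF : F.IsQuasicoherent) {x : X} (hx : Curv2.IsWeakAssPoint F x) :
    Curv2.IsWeakAssPoint ((Scheme.Modules.pushforward f).obj F) (f x) := by
  have hG : ((Scheme.Modules.pushforward f).obj F).IsQuasicoherent :=
    Groth.Agent.QCohLib.isQuasicoherent_pushforward f
  obtain ⟨_, ⟨V, hV, rfl⟩, hsV, -⟩ :=
    S.isBasis_affineOpens.exists_subset_of_mem_open (Set.mem_univ (f x)) isOpen_univ
  replace hsV : f x ∈ V := hsV
  have hU : IsAffineOpen (f ⁻¹ᵁ V) := hV.preimage f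
  have hxU : x ∈ f ⁻¹ᵁ V := hsV
  obtain ⟨m, hm⟩ := hx
  obtain ⟨t, a, hxt, hta⟩ := Groth.Agent.QCohLib.exists_smul_eq_germ hU x hxU m
  have ht : IsUnit (X.presheaf.germ (f ⁻¹ᵁ V) x hxU t) := (X.mem_basicOpen t x hxU).mp hxt
  let P := pr hU x hxU
  let I : Ideal Γ(X, f ⁻¹ᵁ V) :=
    { carrier := {σ | ∃ v ∉ P, (v * σ) • a = 0}
      add_mem' := by
        rintro σ τ ⟨v, hv, hσ⟩ ⟨w, hw, hτ⟩
        refine ⟨v * w, fun h ↦ ((hU.primeIdealOf ⟨x, hxU⟩).isPrime.mem_or_mem h).elim hv hw, ?_⟩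
        rw [mul_add, add_smul, mul_right_comm, mul_comm _ w, mul_smul, hσ, smul_zero, zero_add,
          mul_assoc, mul_smul, hτ, smul_zero]
      zero_mem' := ⟨1, fun h ↦ (hU.primeIdealOf ⟨x, hxU⟩).isPrime.ne_top ((Ideal.eq_top_iff_one _).mpr h),
        by rw [mul_zero, zero_smul]⟩
      smul_mem' := by
        rintro r σ ⟨v, hv, hσ⟩
        exact ⟨v, hv, by rw [smul_eq_mul, mul_left_comm, mul_smul, hσ, smul_zero]⟩ }
  have hPI : P ≤ I.radical := fun r hr ↦ by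
    have : X.presheaf.germ (f ⁻¹ᵁ V) x hxU r ∈ IsLocalRing.maximalIdeal (X.presheaf.stalk x) := fun hu ↦
      (isUnit_germ_iff hU r).mp hu hr
    rw [← hm] at this
    obtain ⟨k, hk⟩ := this
    have h0 : F.presheaf.germ (f ⁻¹ᵁ V) x hxU (r ^ k • a) = 0 := by
      rw [Groth.Agent.QCohLib.germ_smul, ← hta, smul_smul, mul_comm, mul_smul, map_pow,
        show X.presheaf.germ (f ⁻¹ᵁ V) x hxU r ^ k • m = 0 from hk, smul_zero]
    obtain ⟨v, hv, hv0⟩ := (germ_eq_zero_iff' hF hU hxU _).mp h0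
    exact ⟨k, v, hv, by rw [mul_smul, hv0]⟩
  obtain ⟨w, hwP, hw⟩ := exists_mult (f.app V).hom (f.finite_app V hV) a P (fun σ hσ ↦ by
    obtain ⟨k, v, hv, h⟩ := hPI hσ
    exact ⟨v, hv, k, h⟩)
  let b : Γ((Scheme.Modules.pushforward f).obj F, V) := (w • a : Γ(F, f ⁻¹ᵁ V))
  refine ⟨((Scheme.Modules.pushforward f).obj F).presheaf.germ V (f x) hsV b, le_antisymm ?_ ?_⟩
  · refine IsLocalRing.le_maximalIdeal fun htop ↦ ?_
    rw [Ideal.radical_eq_top, Ideal.eq_top_iff_one] at htop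
    have h0 := (one_smul (S.presheaf.stalk (f x)) _).symm.trans htop
    obtain ⟨v, hv, hv0⟩ := (germ_eq_zero_iff' hG hV hsV b).mp h0
    have hv' : f.app V v ∉ P := fun h ↦ hv ((pr_map f hV hU hxU).le h)
    have h1 : F.presheaf.germ (f ⁻¹ᵁ V) x hxU a = 0 := (germ_eq_zero_iff' hF hU hxU a).mpr
      ⟨f.app V v * w, fun h ↦ ((hU.primeIdealOf ⟨x, hxU⟩).isPrime.mem_or_mem h).elim hv' hwP,
        by rw [mul_smul]; exact hv0⟩
    rw [← hta, ht.smul_eq_zero] at h1
    apply (IsLocalRing.maximalIdeal.isMaximal (X.presheaf.stalk x)).ne_top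
    rw [← hm, h1, Ideal.radical_eq_top, LinearMap.ker_eq_top]
    ext; simp
  · intro y hy
    obtain ⟨r, e, he, hre⟩ := exists_germ_mul_eq hV (hx := hsV) y
    have hr : r ∈ pr hV (f x) hsV := by
      by_contra hr
      have := (isUnit_germ_iff hV r).mpr hr
      rw [← hre, IsUnit.mul_iff] at this
      exact hy this.1
    have hrP : f.app V r ∈ P := (pr_map f hV hU hxU).ge hr
    obtain ⟨u, hu, N, hN⟩ := hw r hrP
    refine ⟨N, ?_⟩
    rw [LinearMap.mem_ker, LinearMap.toSpanSingleton_apply]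
    have h0 : (u * r ^ N) • b = 0 := by
      change f.app V (u * r ^ N) • (w • a : Γ(F, f ⁻¹ᵁ V)) = (0 : Γ(F, f ⁻¹ᵁ V))
      rw [smul_smul]
      exact hN
    have h1 := congrArg (((Scheme.Modules.pushforward f).obj F).presheaf.germ V (f x) hsV) h0
    rw [Groth.Agent.QCohLib.germ_smul, map_zero, map_mul, mul_smul, map_pow, ← hre, mul_pow, mul_comm,
      mul_smul] at h1
    have hu' : IsUnit (S.presheaf.germ V (f x) hsV u) :=
      (isUnit_germ_iff hV u).mpr fun h ↦ hu ((pr_map f hV hU hxU).ge h)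
    exact (((isUnit_germ_iff hV e).mpr he).pow N).smul_eq_zero.mp (hu'.smul_eq_zero.mp h1)


/-- Let f : X → S be finite and F quasi-coherent on X. Then the weakly associated points of f_* F are
precisely the images under f of the weakly associated points of F. -/
theorem result {X S : Scheme.{u}} (f : X ⟶ S) [IsFinite f] (F : X.Modules) (hF : Coh.IsQCoh F) :
    {s : S | Curv2.IsWeakAssPoint ((Coh.push f).obj F) s} = f.base '' {x : X | Curv2.IsWeakAssPoint F x} := by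
  ext s
  constructor
  · intro hs
    obtain ⟨x, hx, hw⟩ := Groth.Agent.AssPoints.exists_isWeakAssPoint_of_pushforward f hF hs
    exact ⟨x, hw, hx⟩
  · rintro ⟨x, hw, rfl⟩
    exact isWeakAssPoint_pushforward_finite f hF hw

end Groth.Agent.S1579
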