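import Groth.Statements.S15791
-- import your own Groth.Agent.* helpers here

set_option autoImplicit false
universe u v
open WildQuot

namespace Groth.Agent.S15791

/-- Let `A` be a regular local ring of Krull dimension `n` with maximal ideal `m`, let a finite group
`G` of order `g` act on `A` by ring automorphisms, and let `u_1, …, u_n` be an admissible regular
system of parameters: for every choice `σ_1, …, σ_n ∈ G`, the elements `σ_1 u_1, …, σ_n u_n`
generate `m`. With `x_i = ∏_{σ ∈ G} σ u_i` the norms, the length of `A / (x_1, …, x_n)` is at most
`g ^ n`. (The published statement is for a complete regular local ring containing a `G`-fixed field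
of representatives and asserts that the length equals `g ^ n`; this row states the upper bound for
any regular local ring.) -/
theorem result
    (A : Type u) [CommRing A] [IsRegularLocalRing A]
    (G : Type v) [Group G] [Fintype G] [MulSemiringAction G A]
    (n : ℕ) (hn : ringKrullDim A = n) (u : Fin n → A)
    (hu : ∀ τ : Fin n → G,
      Ideal.span (Set.range fun i => τ i • u i) = IsLocalRing.maximalIdeal A) :
    Module.length A (A ⧸ Ideal.span (Set.range fun i => ∏ σ : G, σ • u i)) ≤
      (Fintype.card G ^ n : ℕ) := by
  classical
  have key : ∀ (I : Ideal A) (a b : A), Module.length A (A ⧸ (I ⊔ Ideal.span {a * b})) ≤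
      Module.length A (A ⧸ (I ⊔ Ideal.span {a})) + Module.length A (A ⧸ (I ⊔ Ideal.span {b})) := by
    intro I a b
    let J' : Ideal A := I ⊔ Ideal.span {a * b}
    have hab : a * b ∈ J' := Submodule.mem_sup_right (Ideal.mem_span_singleton_self _)
    have hle : J' ≤ I ⊔ Ideal.span {a} := sup_le_sup_left
      ((Ideal.span_singleton_le_span_singleton).2 (dvd_mul_right a b)) _
    have hfle : (I ⊔ Ideal.span {b}) ≤ Submodule.comap (LinearMap.mulLeft A a) J' := by
      refine sup_le (fun z hz => ?_) ((Ideal.span_le).2 ?_)
      · show a * z ∈ J'
        exact Submodule.mem_sup_left (I.mul_mem_left a hz)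
      · rw [Set.singleton_subset_iff]
        exact hab
    let f := Submodule.mapQ (I ⊔ Ideal.span {b}) J' (LinearMap.mulLeft A a) hfle
    let g : (A ⧸ J') →ₗ[A] (A ⧸ (I ⊔ Ideal.span {a})) := Submodule.factor hle
    have hex : Function.Exact (LinearMap.range f).subtype g := by
      rw [LinearMap.exact_iff, Submodule.range_subtype]
      ext z
      obtain ⟨z, rfl⟩ := Submodule.Quotient.mk_surjective _ z
      show g (Submodule.Quotient.mk z) = 0 ↔ _
      rw [show g (Submodule.Quotient.mk z) = Submodule.Quotient.mk z from rfl,
        Submodule.Quotient.mk_eq_zero, Submodule.mem_sup]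
      constructor
      · rintro ⟨i, hi, j, hj, rfl⟩
        obtain ⟨t, rfl⟩ := Ideal.mem_span_singleton'.1 hj
        refine ⟨Submodule.Quotient.mk t, ?_⟩
        show Submodule.Quotient.mk (a * t) = _
        rw [Submodule.Quotient.eq]
        have h := J'.neg_mem_iff.2 (Submodule.mem_sup_left hi : i ∈ J')
        convert h using 1
        ring
      · rintro ⟨t, ht⟩
        obtain ⟨t, rfl⟩ := Submodule.Quotient.mk_surjective _ t
        change Submodule.Quotient.mk (a * t) = Submodule.Quotient.mk z at ht
        rw [Submodule.Quotient.eq] at ht
        rw [← Submodule.mem_sup]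
        have : a * t ∈ I ⊔ Ideal.span {a} := Submodule.mem_sup_right
          (Ideal.mem_span_singleton'.2 ⟨t, mul_comm _ _⟩)
        simpa using sub_mem this (hle ht)
    rw [Module.length_eq_add_of_exact _ g (Submodule.injective_subtype _)
      (Submodule.factor_surjective hle) hex, add_comm]
    gcongr
    exact Module.length_le_of_surjective f.rangeRestrict f.surjective_rangeRestrict
  have key' : ∀ (I : Ideal A) (s : Finset G) (w : G → A),
      Module.length A (A ⧸ (I ⊔ Ideal.span {∏ σ ∈ s, w σ})) ≤
        ∑ σ ∈ s, Module.length A (A ⧸ (I ⊔ Ideal.span {w σ})) := by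
    intro I s w
    induction s using Finset.induction_on with
    | empty =>
      rw [Finset.prod_empty, Ideal.span_singleton_one, sup_top_eq, Finset.sum_empty]
      haveI : Subsingleton (A ⧸ (⊤ : Ideal A)) := Ideal.Quotient.subsingleton_iff.2 rfl
      rw [Module.length_eq_zero]
    | insert a s ha ih =>
      rw [Finset.prod_insert ha, Finset.sum_insert ha]
      exact (key I _ _).trans (add_le_add_right ih _)
  have main : ∀ (S : Finset (Fin n)) (I : Ideal A),
      (∀ τ : Fin n → G, I ⊔ Ideal.span ((fun i => τ i • u i) '' S) = IsLocalRing.maximalIdeal A) →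
      Module.length A (A ⧸ (I ⊔ Ideal.span ((fun i => ∏ σ : G, σ • u i) '' S))) ≤
        (Fintype.card G ^ S.card : ℕ) := by
    intro S
    induction S using Finset.induction_on with
    | empty =>
      intro I hI
      have h := hI (fun _ => 1)
      rw [Finset.coe_empty, Set.image_empty, Ideal.span_empty, sup_bot_eq] at h ⊢
      subst h
      haveI : IsSimpleModule A (A ⧸ IsLocalRing.maximalIdeal A) :=
        isSimpleModule_iff_isCoatom.2 (Ideal.isMaximal_def.1 inferInstance)
      rw [Module.length_eq_one A]
      simp
    | insert a S ha ih =>
      intro I hI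
      rw [Finset.coe_insert, Set.image_insert_eq, Ideal.span_insert, sup_left_comm, sup_comm]
      refine (key' _ Finset.univ (fun σ => σ • u a)).trans ?_
      refine (Finset.sum_le_sum (g := fun _ => ((Fintype.card G ^ S.card : ℕ) : ℕ∞))
        (fun σ _ => ?_)).trans ?_
      · rw [sup_right_comm]
        refine ih (I ⊔ Ideal.span {σ • u a}) (fun τ => ?_)
        rw [← hI (Function.update τ a σ), Finset.coe_insert, Set.image_insert_eq, Ideal.span_insert,
          sup_assoc, Function.update_self]
        congr 2
        congr 1
        refine Set.image_congr fun i hi => ?_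
        rw [Function.update_of_ne]
        rintro rfl
        exact ha hi
      · rw [Finset.sum_const, Finset.card_univ, Finset.card_insert_of_notMem ha, pow_succ', nsmul_eq_mul,
          Nat.cast_mul]
  have h := main Finset.univ ⊥ (fun τ => by
    rw [bot_sup_eq, Finset.coe_univ, Set.image_univ]
    exact hu τ)
  rw [bot_sup_eq, Finset.coe_univ, Set.image_univ, Finset.card_univ, Fintype.card_fin] at h
  exact h

end Groth.Agent.S15791
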