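import Groth.Statements.S15805
import Groth.Agent.WildQuot.Symmetric
-- import your own Groth.Agent.* helpers here

set_option autoImplicit false
universe u v
open WildQuot

namespace Groth.Agent.S15805

open MvPolynomial in
/-- Let `k` be a field of characteristic `p > 0`, `R = k[[x_1, …, x_n]]`, `a_1, …, a_n ∈ R` with zero
constant term and not all zero, and `A = R[u_1, …, u_n] / (u_i ^ p - a_i ^ (p-1) u_i - x_i : i =
1..n)`. Let `G` be a group of order `p` acting on `A` by `R`-algebra automorphisms, generated by an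
element `g` acting by `u_i ↦ u_i + a_i`. Then the skew group ring `A∗G` (free `A`-module on `G` with
`(a g)(b h) = a g(b) gh`) is a symmetric `R`-algebra: there is an `R`-linear form `φ : A∗G → R` with
`φ(xy) = φ(yx)` for all `x, y`, such that `y ↦ (x ↦ φ(x y))` is injective and reaches every
`R`-linear form on `A∗G` (so `Hom_R(A∗G, R) ≅ A∗G` as bimodules). -/
theorem result
    (p : ℕ) [Fact p.Prime] (k : Type u) [Field k] [CharP k p] (n : ℕ)
    (a : Fin n → MvPowerSeries (Fin n) k)
    (ham : ∀ i, MvPowerSeries.constantCoeff (a i) = 0) (hne : ∃ i, a i ≠ 0) :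
    let R := MvPowerSeries (Fin n) k
    let I : Ideal (MvPolynomial (Fin n) R) :=
      Ideal.span (Set.range fun i : Fin n =>
        X i ^ p - C (a i ^ (p - 1)) * X i - C (MvPowerSeries.X i))
    let A := MvPolynomial (Fin n) R ⧸ I
    ∀ (G : Type v) [Group G] [Finite G] [MulSemiringAction G A] [SMulCommClass G R A]
      (g : G), Nat.card G = p → (∀ h : G, h ∈ Subgroup.zpowers g) →
      (∀ i, g • (Ideal.Quotient.mk I (X i)) = Ideal.Quotient.mk I (X i) + algebraMap R A (a i)) →
      ∃ φ : SkewMonoidAlgebra A G →ₗ[R] R,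
        (∀ x y : SkewMonoidAlgebra A G, φ (x * y) = φ (y * x)) ∧
        Function.Injective (fun y : SkewMonoidAlgebra A G => fun x : SkewMonoidAlgebra A G => φ (x * y)) ∧
        ∀ ψ : SkewMonoidAlgebra A G →ₗ[R] R, ∃ y : SkewMonoidAlgebra A G, ∀ x, ψ x = φ (x * y) := by
  intro R I A G _ _ _ _ g _ hg hu
  classical
  let b : Fin n → R := fun i => a i ^ (p - 1)
  have hc : ∀ i, a i ^ p = b i * a i := fun i => (pow_sub_one_mul (Fact.out : p.Prime).ne_zero _).symm
  haveI : CharP R p := charP_of_injective_algebraMap (algebraMap k R).injective p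
  let τ : A →ₗ[R] R := Groth.Agent.WildQuot.topForm p b (fun i => MvPowerSeries.X i)
  refine Groth.Agent.WildQuot.skew_symmetric (A := A) (G := G) τ ?_ (Groth.Agent.WildQuot.topForm_bijective p b (fun i => MvPowerSeries.X i))
  let H : Subgroup G :=
    { carrier := {h | ∀ t : A, τ (h • t) = τ t}
      one_mem' := fun t => by rw [one_smul]
      mul_mem' := fun {u v} hu hv t => by rw [mul_smul, hu, hv]
      inv_mem' := fun {u} hu t => by rw [← hu, smul_inv_smul] }
  have hgH : g ∈ H := fun t => by
    have h1 : (MulSemiringAction.toAlgHom R A g) = Groth.Agent.WildQuot.transHom p b _ a hc :=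
      Groth.Agent.WildQuot.as_algHom_ext p b _ fun i => by
        exact (hu i).trans (Groth.Agent.WildQuot.transHom_var p b _ a hc i).symm
    have h2 : g • t = Groth.Agent.WildQuot.transHom p b _ a hc t := AlgHom.congr_fun h1 t
    rw [h2]
    exact Groth.Agent.WildQuot.topForm_trans p b _ a hc t
  exact fun h t => Subgroup.zpowers_le.mpr hgH (hg h) t

end Groth.Agent.S15805
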