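import Groth.Statements.S15808
import Groth.Agent.WildQuot.MinorResults
-- import your own Groth.Agent.* helpers here

set_option autoImplicit false
universe u
open WildQuot

namespace Groth.Agent.S15808

open MvPolynomial in
/-- Let `k` be a field of characteristic `p > 0`, `n ≥ 2`, `R = k[[x_1, …, x_n]]`, `a_1, …, a_n ∈ R`
with zero constant term and pairwise coprime, `μ ∈ R` nonzero and coprime to each `a_i`; fix an
index `i₀` and let `B = R[Z_j : j ≠ i₀] / (Z_j ^ p - (μ a_{i₀} a_j) ^ (p-1) Z_j - (a_{i₀} ^ p x_j -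
a_j ^ p x_{i₀}) : j ≠ i₀)`, the complete-intersection ring of the minor elements through `u_{i₀}`.
Then `B` is a free `R`-module of rank `p ^ (n-1)`, `B` is an integral domain, and the localisation
`B[1/(μ a_{i₀})]` is integrally closed. (The published statement uses the first index for `i₀`; this
row allows any index.) -/
theorem result
    (p : ℕ) [Fact p.Prime] (k : Type u) [Field k] [CharP k p] (n : ℕ) (hn : 2 ≤ n)
    (a : Fin n → MvPowerSeries (Fin n) k) (μ : MvPowerSeries (Fin n) k)
    (ham : ∀ i, MvPowerSeries.constantCoeff (a i) = 0) (hcop : ∀ i j, i ≠ j → IsRelPrime (a i) (a j))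
    (hμ : μ ≠ 0) (hμa : ∀ i, IsRelPrime μ (a i)) (i₀ : Fin n) :
    let R := MvPowerSeries (Fin n) k
    let r : {j : Fin n // j ≠ i₀} → MvPolynomial {j : Fin n // j ≠ i₀} R := fun j =>
      X j ^ p - C ((μ * a i₀ * a j.1) ^ (p - 1)) * X j
        - C (a i₀ ^ p * MvPowerSeries.X j.1 - a j.1 ^ p * MvPowerSeries.X i₀)
    let B := MvPolynomial {j : Fin n // j ≠ i₀} R ⧸ Ideal.span (Set.range r)
    Module.Free R B ∧ Module.finrank R B = p ^ (n - 1) ∧ IsDomain B ∧
      IsIntegrallyClosed (Localization.Away (algebraMap R B (μ * a i₀))) := by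
  intro R r B
  have ha0 := Groth.Agent.WildQuot.powerSeries_a_ne_zero hn a ham hcop i₀
  haveI := Groth.Agent.PP16Lib.isRegularLocalRing_mvPowerSeries n k
  haveI : IsDomain R := Groth.Agent.DepthLib.isDomain_of_isRegularLocalRing R
  haveI : CharP R p := charP_of_injective_algebraMap (algebraMap k R).injective p
  have hb : ∀ i, MvPowerSeries.constantCoeff ((μ * a i) ^ (p - 1)) = 0 := fun i => by
    rw [map_pow, map_mul, ham, mul_zero, zero_pow (Nat.sub_ne_zero_of_lt (Fact.out : p.Prime).one_lt)]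
  haveI := (Groth.Agent.WildQuot.as_regular p k n (fun i => (μ * a i) ^ (p - 1)) hb).1
  haveI := (Groth.Agent.WildQuot.as_complete_domain p k n (fun i => (μ * a i) ^ (p - 1)) hb).2
  haveI := Groth.Agent.DepthLib.isIntegrallyClosed_of_isRegularLocalRing
    (MvPolynomial (Fin n) R ⧸ Groth.Agent.WildQuot.asIdeal p (fun i => (μ * a i) ^ (p - 1))
      (fun i : Fin n => (MvPowerSeries.X i : R)))
  let BB := Groth.Agent.WildQuot.asBasis p (fun j : {j : Fin n // j ≠ i₀} => (μ * a i₀ * a j.1) ^ (p - 1))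
    (fun j : {j : Fin n // j ≠ i₀} => a i₀ ^ p * MvPowerSeries.X j.1 - a j.1 ^ p * MvPowerSeries.X i₀ (R := k))
  refine ⟨Module.Free.of_basis BB, ?_, ?_, ?_⟩
  · refine (Module.finrank_eq_card_basis BB).trans ?_
    simp
  · exact Function.Injective.isDomain
      (Groth.Agent.WildQuot.minorB p (fun i : Fin n => (MvPowerSeries.X i : R)) a μ i₀).toRingHom
      (Groth.Agent.WildQuot.minorB_injective p _ a μ i₀ ha0)
  · exact Groth.Agent.WildQuot.minor_isIntegrallyClosed p (fun i : Fin n => (MvPowerSeries.X i : R)) a μ i₀ hμ ha0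

end Groth.Agent.S15808
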