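import Groth.Statements.S15811
import Mathlib
-- import your own Groth.Agent.* helpers here

set_option autoImplicit false
universe u
open WildQuot

namespace Groth.Agent.S15811

/-- Let `R` be an integrally closed domain of prime characteristic `p` with fraction field `K`, and `α ∈
R`. Then `α ≠ 0` and the polynomial `T ^ p - α T` splits into linear factors over `K` — which says
that the finite flat group scheme `Spec R[T]/(T ^ p - α T)` of order `p` has constant generic fibre
(its `p` roots are then distinct) — if and only if `α = a ^ (p-1)` for some nonzero `a ∈ R`. (The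
published statement is that the generic fibre of the finite flat group scheme of order `p` with
parameters `α, β` satisfying `α β = 0`, whose underlying scheme is `Spec R[T]/(T ^ p - α T)`, is
constant if and only if `β = 0` and `α` is the `(p-1)`-th power of a nonzero element of `R`; this
row states the polynomial condition, in which `α ≠ 0` already forces `β = 0` over a domain.) -/
theorem result
    (p : ℕ) [Fact p.Prime] (R : Type u) [CommRing R] [IsDomain R] [IsIntegrallyClosed R]
    [CharP R p] (α : R) :
    (α ≠ 0 ∧ (Polynomial.map (algebraMap R (FractionRing R))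
        (Polynomial.X ^ p - Polynomial.C α * Polynomial.X)).Splits) ↔
      ∃ a : R, a ≠ 0 ∧ α = a ^ (p - 1) := by
  have hp := (Fact.out : p.Prime)
  let K := FractionRing R
  haveI : CharP K p := charP_of_injective_ringHom (IsFractionRing.injective R K) p
  set f : Polynomial K := Polynomial.map (algebraMap R K) (Polynomial.X ^ p - Polynomial.C α * Polynomial.X) with hf
  have hf' : f = Polynomial.X ^ p - Polynomial.C (algebraMap R K α) * Polynomial.X := by simp [hf]
  have hlt : (Polynomial.C (algebraMap R K α) * Polynomial.X).degree < ((p : ℕ) : WithBot ℕ) :=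
    (Polynomial.degree_C_mul_X_le _).trans_lt (by exact_mod_cast hp.one_lt)
  have hmon : f.Monic := hf' ▸ (Polynomial.monic_X_pow p).sub_of_left (by rwa [Polynomial.degree_X_pow])
  have hdeg : f.natDegree = p := by
    rw [hf']
    exact Polynomial.natDegree_eq_of_degree_eq_some (by
      rw [Polynomial.degree_sub_eq_left_of_degree_lt (by rwa [Polynomial.degree_X_pow]), Polynomial.degree_X_pow])
  constructor
  · rintro ⟨hα, hs⟩
    obtain ⟨r, hr, hr0⟩ : ∃ r ∈ f.roots, r ≠ 0 := by
      by_contra! h
      have h1 := hs.eq_prod_roots_of_monic hmon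
      rw [Multiset.eq_replicate_card.mpr h, Multiset.map_replicate, Multiset.prod_replicate,
        Polynomial.C_0, sub_zero, Polynomial.splits_iff_card_roots.mp hs, hdeg] at h1
      have h2 := congrArg (Polynomial.coeff · 1) h1
      simp [hf', Polynomial.coeff_X_pow, hp.one_lt.ne] at h2
      exact hα h2
    have he := (Polynomial.mem_roots hmon.ne_zero).mp hr
    rw [Polynomial.IsRoot, hf', Polynomial.eval_sub, Polynomial.eval_mul, Polynomial.eval_pow,
      Polynomial.eval_C, Polynomial.eval_X, sub_eq_zero, ← pow_sub_one_mul hp.ne_zero r] at he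
    have he' := mul_right_cancel₀ hr0 he
    obtain ⟨a, ha⟩ := (IsIntegrallyClosed.isIntegral_iff (R := R) (K := K) (x := r)).mp <| by
      refine IsIntegral.of_pow (n := p - 1) (by have := hp.two_le; omega) ?_
      rw [he']
      exact isIntegral_algebraMap
    refine ⟨a, fun h => hr0 (by rw [← ha, h, map_zero]), IsFractionRing.injective R K ?_⟩
    rw [map_pow, ha, he']
  · rintro ⟨a, ha, rfl⟩
    refine ⟨pow_ne_zero _ ha, Polynomial.splits_iff_card_roots.mpr ?_⟩
    refine le_antisymm (Polynomial.card_roots' f) ?_
    have ha' : algebraMap R K a ≠ 0 := (map_ne_zero_iff _ (IsFractionRing.injective R K)).mpr ha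
    classical
    let s : Finset K := Finset.univ.image fun j : Fin p => (j : ℕ) * algebraMap R K a
    have hs : s.card = p := by
      rw [Finset.card_image_of_injective _ fun i j hij => ?_, Finset.card_univ, Fintype.card_fin]
      have h2 := (CharP.natCast_eq_natCast K p).mp (mul_right_cancel₀ ha' hij)
      exact Fin.ext (Nat.ModEq.eq_of_lt_of_lt h2 i.2 j.2)
    rw [hdeg, ← hs]
    refine (Finset.card_le_card fun x hx => Multiset.mem_toFinset.mpr ?_).trans (Multiset.toFinset_card_le _)
    obtain ⟨j, -, rfl⟩ := Finset.mem_image.mp hx
    rw [Polynomial.mem_roots hmon.ne_zero, Polynomial.IsRoot, hf', map_pow]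
    simp only [Polynomial.eval_sub, Polynomial.eval_mul, Polynomial.eval_pow, Polynomial.eval_C, Polynomial.eval_X]
    have hj : ((j : ℕ) : K) ^ p = (j : ℕ) := by
      rw [← frobenius_def, map_natCast]
    rw [mul_pow, hj, ← pow_sub_one_mul hp.ne_zero (algebraMap R K a)]
    ring

end Groth.Agent.S15811
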