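import Groth.Statements.S15814
import Groth.Agent.RegCoprod.Two

set_option autoImplicit false
universe u v w
open WildQuot

namespace Groth.Agent.S15814

open TensorProduct in
theorem aux (R : Type u) [CommRing R] [IsRegularLocalRing R] (A : Type v) [CommRing A]
    [IsRegularLocalRing A] [Algebra R A] [Module.Finite R A]
    (hinj : Function.Injective (algebraMap R A))
    (hres : Function.Surjective (IsLocalRing.residue A ∘ algebraMap R A))
    {ι : Type} [DecidableEq ι] (B : ι → Subalgebra R A)
    (hcoprod : ∀ (C : Type (max u v)) [CommRing C] [Algebra R C] (φ : ∀ i, B i →ₐ[R] C),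
      ∃! ψ : A →ₐ[R] C, ∀ i (x : B i), ψ x = φ i x) (i : ι) :
    Module.Free R (B i) ∧ IsRegularLocalRing (B i) := by
  let C : Subalgebra R A := Algebra.adjoin R (⋃ j : {j : ι // j ≠ i}, (B j.1 : Set A))
  have hle : ∀ j, j ≠ i → B j ≤ C := fun j hj x hx =>
    Algebra.subset_adjoin (Set.mem_iUnion.mpr ⟨⟨j, hj⟩, hx⟩)
  -- two maps out of `A` agreeing on the `B j` are equal
  have hext : ∀ (T : Type v) [CommRing T] [Algebra R T] (f g : A →ₐ[R] T),
      (∀ j (x : B j), f x = g x) → f = g := fun T _ _ f g h => by
    let up : T →ₐ[R] ULift.{u} T := (ULift.algEquiv (R := R)).symm.toAlgHom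
    obtain ⟨ψ, -, huniq⟩ := hcoprod (ULift.{u} T) fun j => (up.comp f).comp (B j).val
    have h1 := huniq (up.comp f) fun j x => rfl
    have h2 := huniq (up.comp g) fun j x => congrArg up (h j x).symm
    exact AlgHom.ext fun a => (ULift.algEquiv (R := R)).symm.injective (AlgHom.congr_fun (h1.trans h2.symm) a)
  let inc : ∀ j, B j →ₐ[R] B i ⊗[R] C := fun j =>
    if h : j = i then
      (Algebra.TensorProduct.includeLeft : B i →ₐ[R] B i ⊗[R] C).comp (Subalgebra.inclusion (h ▸ le_rfl))
    else Algebra.TensorProduct.includeRight.comp (Subalgebra.inclusion (hle j h))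
  let up : B i ⊗[R] C →ₐ[R] ULift.{u} (B i ⊗[R] C) := (ULift.algEquiv (R := R)).symm.toAlgHom
  obtain ⟨ψ, hψ, -⟩ := hcoprod (ULift.{u} (B i ⊗[R] C)) fun j => up.comp (inc j)
  let η : A →ₐ[R] B i ⊗[R] C := ULift.algEquiv.toAlgHom.comp ψ
  have hη : ∀ j (x : B j), η x = inc j x := fun j x => by
    change (ULift.algEquiv.{u, v, u} (R := R)) (ψ x) = _
    rw [hψ j x]
    exact (ULift.algEquiv.{u, v, u} (R := R)).apply_symm_apply (inc j x)
  have hηi : ∀ x : B i, η x = x ⊗ₜ 1 := fun x => by
    rw [hη i x]; simp [inc, Subalgebra.inclusion]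
  have hηC : ∀ x : C, η x = 1 ⊗ₜ x := by
    suffices h : η.comp C.val = Algebra.TensorProduct.includeRight from fun x => AlgHom.congr_fun h x
    refine AlgHom.adjoin_ext fun x hx => ?_
    obtain ⟨⟨j, hj⟩, hx⟩ := Set.mem_iUnion.mp hx
    change η x = _
    rw [hη j ⟨x, hx⟩]
    simp [inc, hj, Subalgebra.inclusion]
  refine Groth.Agent.RegCoprod.main (B i) C hinj hres
    (Function.bijective_iff_has_inverse.mpr ⟨η, ?_, ?_⟩)
  · refine AlgHom.congr_fun (?_ : η.comp (Groth.Agent.RegCoprod.mulMap (B i) C) = AlgHom.id R _)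
    refine Algebra.TensorProduct.ext ?_ ?_
    · refine AlgHom.ext fun x => ?_
      simp [Groth.Agent.RegCoprod.mulMap, hηi]
    · refine AlgHom.ext fun x => ?_
      simp [Groth.Agent.RegCoprod.mulMap, hηC]
  · refine AlgHom.congr_fun (?_ : (Groth.Agent.RegCoprod.mulMap (B i) C).comp η = AlgHom.id R _)
    refine hext A _ _ fun j x => ?_
    change Groth.Agent.RegCoprod.mulMap (B i) C (η x) = x
    rcases eq_or_ne j i with rfl | hj
    · rw [hηi, Groth.Agent.RegCoprod.mulMap_tmul]; simp
    · rw [hηC ⟨x, hle j hj x.2⟩, Groth.Agent.RegCoprod.mulMap_tmul]; simp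

/-- Let `R` be a regular local ring and `A` a regular local ring, finite over `R` (with `R → A`
injective) and with the same residue field; let a finite commutative group `H` of order `p ^ n` (`p`
prime) act faithfully on `A` by `R`-algebra automorphisms with ring of invariants exactly `R`, and
let `G_1, …, G_n ≤ H` be subgroups of order `p` generating `H`, each the inertia subgroup of some
height-one prime of `A`. Put `G_i^⊥ =` the subgroup generated by the `G_j` with `j ≠ i` and `B_i =
A^{G_i^⊥}`. Suppose `A` is the coproduct of the `R`-algebras `B_1, …, B_n`: every family of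
`R`-algebra maps `B_i → C` into a commutative `R`-algebra `C` is the restriction of a unique
`R`-algebra map `A → C` (that is, the product map `B_1 ⊗_R ⋯ ⊗_R B_n → A` is an isomorphism). Then
every `B_i` is a free `R`-module and a regular local ring. (The published statement is for `A`
complete regular with an action ramified precisely at the origin, `R` a norm subring and `H` the
Galois group of `Frac(A)/Frac(R)`, when that extension is Galois, and adds that the branch-locus
equations `a_1, …, a_n` of the `B_i` over `R` form a system of parameters of `R`; that last clause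
is not included, and the test algebras `C` are taken in one universe large enough to contain the
tensor product.) -/
theorem result
    (p : ℕ) [Fact p.Prime] (R : Type u) [CommRing R] [IsRegularLocalRing R]
    (A : Type v) [CommRing A] [IsRegularLocalRing A]
    [Algebra R A] [Module.Finite R A] (hinj : Function.Injective (algebraMap R A))
    (hres : Function.Surjective (IsLocalRing.residue A ∘ algebraMap R A))
    (H : Type w) [Group H] [Finite H] [MulSemiringAction H A] [SMulCommClass H R A] [FaithfulSMul H A]
    (hfix : ∀ a : A, (∀ h : H, h • a = a) → a ∈ Set.range (algebraMap R A))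
    (hcomm : ∀ g h : H, g * h = h * g)
    (n : ℕ) (hcard : Nat.card H = p ^ n) (Gi : Fin n → Subgroup H)
    (hGi : ∀ i, Nat.card (Gi i) = p) (hsup : (⨆ i, Gi i) = ⊤)
    (hinert : ∀ i, ∃ P : Ideal A, P.IsPrime ∧ P.height = 1 ∧ P.inertia H = Gi i)
    (hcoprod : ∀ (C : Type (max u v)) [CommRing C] [Algebra R C]
      (φ : ∀ i : Fin n,
        FixedPoints.subalgebra R A ↥(⨆ j ∈ (Finset.univ.erase i : Finset (Fin n)), Gi j : Subgroup H) →ₐ[R] C),
      ∃! ψ : A →ₐ[R] C, ∀ i
        (x : FixedPoints.subalgebra R A ↥(⨆ j ∈ (Finset.univ.erase i : Finset (Fin n)), Gi j : Subgroup H)),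
        ψ x = φ i x) :
    ∀ i, Module.Free R
        (FixedPoints.subalgebra R A ↥(⨆ j ∈ (Finset.univ.erase i : Finset (Fin n)), Gi j : Subgroup H)) ∧
      IsRegularLocalRing
        (FixedPoints.subalgebra R A ↥(⨆ j ∈ (Finset.univ.erase i : Finset (Fin n)), Gi j : Subgroup H)) := by
  intro i
  classical
  exact aux R A hinj hres _ hcoprod i

end Groth.Agent.S15814
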