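import Groth.Statements.S15816
import Groth.Agent.KoszulScale.Basic
import Groth.Agent.RegSeq.Basic
-- import your own Groth.Agent.* helpers here

set_option autoImplicit false
universe u
open CategoryTheory
open scoped TensorProduct
open Koszul

namespace Groth.Agent.S15816

/-- Let A be a commutative ring, f = (f_1, …, f_n) a sequence in A that is regular in the weak sense
(f_1 is a non-zero-divisor of A and each f_i is a non-zero-divisor modulo (f_1, …, f_{i-1})), with
Koszul complex K(f) and differentials ∂^q, and let x be a non-zero-divisor of A. Then for every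
integer q < 0 the q-th cohomology module of the Koszul complex of (x f_1, …, x f_n) is isomorphic as
an A-module to Ker(∂^q) ⊗_A A/(x) (existence of an A-linear isomorphism; mapping-cone model of the
Koszul complex). -/
theorem result (A : Type u) [CommRing A] (l : List A)
    (hl : RingTheory.Sequence.IsWeaklyRegular A l) (x : A) (hx : x ∈ nonZeroDivisors A) (q : ℤ) (hq : q < 0) :
    Nonempty ((Koszul.koszul A (l.map (fun f => x * f))).homology q ≅
      ModuleCat.of A (↥(LinearMap.ker ((Koszul.koszul A l).d q (q + 1)).hom) ⊗[A] (A ⧸ Ideal.span {x}))) := by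
  obtain ⟨i⟩ := Groth.Agent.KoszulScale.homology_scale l x hx q
  have hex := Groth.Agent.RegSeq.ex_of_isWeaklyRegular_aux _ l rfl hl (q - 1) q (q + 1) (by omega) rfl (by omega)
  let M := LinearMap.ker ((Koszul.koszul A l).d q (q + 1)).hom
  have heq : Submodule.comap M.subtype (Ideal.span {x} • LinearMap.range ((Koszul.koszul A l).d (q - 1) q).hom) =
      Ideal.span {x} • (⊤ : Submodule A M) := by
    have hr : LinearMap.range ((Koszul.koszul A l).d (q - 1) q).hom = M := (LinearMap.exact_iff.1 hex).symm
    rw [hr]
    apply Submodule.map_injective_of_injective M.injective_subtype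
    rw [Submodule.map_comap_subtype, Submodule.map_smul'', Submodule.map_top, Submodule.range_subtype]
    exact inf_eq_right.2 Submodule.smul_le_right
  exact ⟨i ≪≫ ((Submodule.quotEquivOfEq _ _ heq) ≪≫ₗ
    (TensorProduct.tensorQuotEquivQuotSMul M (Ideal.span {x})).symm).toModuleIso⟩

end Groth.Agent.S15816
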