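import Mathlib
import Groth.Statements.S15817
-- import your own Groth.Agent.* helpers here

set_option autoImplicit false
universe u v
open CategoryTheory
open CAlg

namespace Groth.Agent.S15817

/-- Let A be a commutative ring, M an A-module and P, Q submodules of M. Then the commuting square of
quotient projections with corners M/(P ∩ Q), M/P, M/Q and M/(P + Q) is cartesian in the category of
A-modules: M/(P ∩ Q) is the fibre product of M/P and M/Q over M/(P + Q). -/
theorem result (A : Type u) [CommRing A] (M : Type v) [AddCommGroup M] [Module A M]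
    (P Q : Submodule A M) :
    IsPullback (ModuleCat.ofHom (Submodule.factor (inf_le_left : P ⊓ Q ≤ P)))
      (ModuleCat.ofHom (Submodule.factor (inf_le_right : P ⊓ Q ≤ Q)))
      (ModuleCat.ofHom (Submodule.factor (le_sup_left : P ≤ P ⊔ Q)))
      (ModuleCat.ofHom (Submodule.factor (le_sup_right : Q ≤ P ⊔ Q))) := by
  have hw : ModuleCat.ofHom (Submodule.factor (inf_le_left : P ⊓ Q ≤ P)) ≫ ModuleCat.ofHom (Submodule.factor (le_sup_left : P ≤ P ⊔ Q)) =
      ModuleCat.ofHom (Submodule.factor (inf_le_right : P ⊓ Q ≤ Q)) ≫ ModuleCat.ofHom (Submodule.factor (le_sup_right : Q ≤ P ⊔ Q)) := by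
    ext x; rfl
  refine IsPullback.of_map (forget (ModuleCat.{v} A)) hw ?_
  rw [Limits.Types.isPullback_iff]
  refine ⟨?_, ?_, ?_⟩
  · ext x; obtain ⟨m, rfl⟩ := Submodule.Quotient.mk_surjective _ x; rfl
  · rintro x y ⟨h1, h2⟩
    obtain ⟨m, rfl⟩ := Submodule.Quotient.mk_surjective _ x
    obtain ⟨n, rfl⟩ := Submodule.Quotient.mk_surjective _ y
    exact (Submodule.Quotient.eq _).mpr ⟨(Submodule.Quotient.eq P).mp h1, (Submodule.Quotient.eq Q).mp h2⟩
  · intro x y h
    obtain ⟨m, rfl⟩ := Submodule.Quotient.mk_surjective _ x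
    obtain ⟨n, rfl⟩ := Submodule.Quotient.mk_surjective _ y
    obtain ⟨a, ha, b, hb, hab⟩ := Submodule.mem_sup.mp ((Submodule.Quotient.eq (P ⊔ Q)).mp h)
    refine ⟨Submodule.Quotient.mk (m - a), (Submodule.Quotient.eq P).mpr (by simpa using P.neg_mem ha), (Submodule.Quotient.eq Q).mpr ?_⟩
    simp only [LinearMap.id_apply] at hab ⊢
    rw [show m - a - n = b by rw [sub_sub, add_comm, ← sub_sub, ← hab]; abel]
    exact hb

end Groth.Agent.S15817
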