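import Groth.Statements.S15818
import Mathlib
-- import your own Groth.Agent.* helpers here

set_option autoImplicit false
universe u
open CategoryTheory
open Koszul

namespace Groth.Agent.S15818

section Aux
open CategoryTheory CategoryTheory.Limits

lemma isPullback_of_bij {A : Type u} [CommRing A] {P X Y W : ModuleCat.{u} A} (f : P ⟶ X) (g : P ⟶ Y)
    (h : X ⟶ W) (k : Y ⟶ W) (w : f ≫ h = g ≫ k)
    (hinj : ∀ p, f.hom p = 0 → g.hom p = 0 → p = 0)
    (hsurj : ∀ a b, h.hom a = k.hom b → ∃ p, f.hom p = a ∧ g.hom p = b) : IsPullback f g h k := by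
  have hex : ∀ s : PullbackCone h k, ∀ t : s.pt, ∃ p, f.hom p = s.fst.hom t ∧ g.hom p = s.snd.hom t :=
    fun s t => hsurj _ _ (LinearMap.congr_fun (congrArg ModuleCat.Hom.hom s.condition) t)
  choose L hL1 hL2 using hex
  have huniq : ∀ p p', f.hom p = f.hom p' → g.hom p = g.hom p' → p = p' := fun p p' h1 h2 =>
    sub_eq_zero.1 (hinj _ (by rw [map_sub, h1, sub_self]) (by rw [map_sub, h2, sub_self]))
  refine ⟨⟨w⟩, ⟨PullbackCone.IsLimit.mk w (fun s => ModuleCat.ofHom
    { toFun := L s
      map_add' := fun a b => huniq _ _ (by rw [map_add, hL1, hL1, hL1, map_add])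
        (by rw [map_add, hL2, hL2, hL2, map_add])
      map_smul' := fun r a => huniq _ _ (by rw [RingHom.id_apply, map_smul, hL1, hL1, map_smul])
        (by rw [RingHom.id_apply, map_smul, hL2, hL2, map_smul]) })
    (fun s => ModuleCat.hom_ext (LinearMap.ext (hL1 s)))
    (fun s => ModuleCat.hom_ext (LinearMap.ext (hL2 s)))
    (fun s m h1 h2 => ModuleCat.hom_ext (LinearMap.ext fun t => huniq _ _
      ((LinearMap.congr_fun (congrArg ModuleCat.Hom.hom h1) t).trans (hL1 s t).symm)
      ((LinearMap.congr_fun (congrArg ModuleCat.Hom.hom h2) t).trans (hL2 s t).symm)))⟩⟩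

end Aux

/-- Let A be a commutative ring, f = (f_1, …, f_n) a finite sequence in A with Koszul complex K = K(f)
(mapping-cone model) and differentials ∂, q an integer, Z = Ker(∂^q) and B = Im(∂^{q-1}), so B ⊆ Z
inside K^q (this inclusion is carried as the hypothesis hBZ). Let x be a non-zero-divisor of A which
moreover acts injectively on the cohomology module Z/B (for Noetherian A this says that x lies in no
associated prime of Z/B, which is how the published statement phrases it; the published argument
uses exactly the injectivity). Then the commuting square of quotient projections with corners Z/xB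
(top left; it is isomorphic to the q-th cohomology of the Koszul complex of (x f_1, …, x f_n)), Z/xZ
= Z ⊗ A/(x) (top right), Z/B (bottom left) and Z/(B + xZ) = (Z/B) ⊗ A/(x) (bottom right) is
cartesian in the category of A-modules. All four corners are written as quotients of Z by the
preimages of the submodules xB, xZ, B, B + xZ of K^q. -/
theorem result (A : Type u) [CommRing A] (l : List A) (q : ℤ)
    (K : CochainComplex (ModuleCat.{u} A) ℤ) (hK : K = Koszul.koszul A l)
    (hBZ : LinearMap.range (K.d (q - 1) q).hom ≤ LinearMap.ker (K.d q (q + 1)).hom)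
    (x : A) (hx : x ∈ nonZeroDivisors A)
    (hxH : IsSMulRegular (↥(LinearMap.ker (K.d q (q + 1)).hom) ⧸ Submodule.comap (LinearMap.ker (K.d q (q + 1)).hom).subtype (LinearMap.range (K.d (q - 1) q).hom)) x) :
    IsPullback
      (ModuleCat.ofHom (Submodule.factor (Submodule.comap_mono (Submodule.smul_mono le_rfl hBZ) :
        Submodule.comap (LinearMap.ker (K.d q (q + 1)).hom).subtype (Ideal.span {x} • LinearMap.range (K.d (q - 1) q).hom) ≤
          Submodule.comap (LinearMap.ker (K.d q (q + 1)).hom).subtype (Ideal.span {x} • LinearMap.ker (K.d q (q + 1)).hom))))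
      (ModuleCat.ofHom (Submodule.factor (Submodule.comap_mono (Submodule.smul_le_right) :
        Submodule.comap (LinearMap.ker (K.d q (q + 1)).hom).subtype (Ideal.span {x} • LinearMap.range (K.d (q - 1) q).hom) ≤
          Submodule.comap (LinearMap.ker (K.d q (q + 1)).hom).subtype (LinearMap.range (K.d (q - 1) q).hom))))
      (ModuleCat.ofHom (Submodule.factor (Submodule.comap_mono le_sup_right :
        Submodule.comap (LinearMap.ker (K.d q (q + 1)).hom).subtype (Ideal.span {x} • LinearMap.ker (K.d q (q + 1)).hom) ≤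
          Submodule.comap (LinearMap.ker (K.d q (q + 1)).hom).subtype (LinearMap.range (K.d (q - 1) q).hom ⊔ Ideal.span {x} • LinearMap.ker (K.d q (q + 1)).hom))))
      (ModuleCat.ofHom (Submodule.factor (Submodule.comap_mono le_sup_left :
        Submodule.comap (LinearMap.ker (K.d q (q + 1)).hom).subtype (LinearMap.range (K.d (q - 1) q).hom) ≤
          Submodule.comap (LinearMap.ker (K.d q (q + 1)).hom).subtype (LinearMap.range (K.d (q - 1) q).hom ⊔ Ideal.span {x} • LinearMap.ker (K.d q (q + 1)).hom)))) := by
  refine isPullback_of_bij _ _ _ _ (ModuleCat.hom_ext (LinearMap.ext fun p => ?_)) ?_ ?_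
  · obtain ⟨z, rfl⟩ := Submodule.Quotient.mk_surjective _ p
    rfl
  · intro p h1 h2
    obtain ⟨z, rfl⟩ := Submodule.Quotient.mk_surjective _ p
    have hz1 : (z : K.X q) ∈ Ideal.span {x} • LinearMap.ker (K.d q (q + 1)).hom :=
      Submodule.mem_comap.1 ((Submodule.Quotient.mk_eq_zero _).1 h1)
    have hz2 : (z : K.X q) ∈ LinearMap.range (K.d (q - 1) q).hom :=
      Submodule.mem_comap.1 ((Submodule.Quotient.mk_eq_zero _).1 h2)
    rw [Submodule.ideal_span_singleton_smul, Submodule.mem_smul_pointwise_iff_exists] at hz1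
    obtain ⟨w, hw, hzw⟩ := hz1
    have h0 : x • (Submodule.Quotient.mk (⟨w, hw⟩ : LinearMap.ker (K.d q (q + 1)).hom) :
        _ ⧸ Submodule.comap (LinearMap.ker (K.d q (q + 1)).hom).subtype (LinearMap.range (K.d (q - 1) q).hom)) = 0 := by
      rw [← Submodule.Quotient.mk_smul, Submodule.Quotient.mk_eq_zero, Submodule.mem_comap]
      show x • w ∈ _
      rw [hzw]
      exact hz2
    have hwB : w ∈ LinearMap.range (K.d (q - 1) q).hom :=
      Submodule.mem_comap.1 ((Submodule.Quotient.mk_eq_zero _).1 (hxH (h0.trans (smul_zero x).symm)))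
    refine (Submodule.Quotient.mk_eq_zero _).2 (Submodule.mem_comap.2 ?_)
    show (z : K.X q) ∈ _
    rw [← hzw]
    exact Submodule.smul_mem_smul (Ideal.mem_span_singleton_self x) hwB
  · intro a b hab
    obtain ⟨a, rfl⟩ := Submodule.Quotient.mk_surjective _ a
    obtain ⟨b, rfl⟩ := Submodule.Quotient.mk_surjective _ b
    have h1 : ((a - b : LinearMap.ker (K.d q (q + 1)).hom) : K.X q) ∈
        LinearMap.range (K.d (q - 1) q).hom ⊔ Ideal.span {x} • LinearMap.ker (K.d q (q + 1)).hom :=
      Submodule.mem_comap.1 ((Submodule.Quotient.eq _).1 hab)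
    obtain ⟨β, hβ, ξ, hξ, hsum⟩ := Submodule.mem_sup.1 h1
    refine ⟨Submodule.Quotient.mk (b + ⟨β, hBZ hβ⟩), (Submodule.Quotient.eq _).2 ?_, (Submodule.Quotient.eq _).2 ?_⟩
    · show (b : K.X q) + β - a ∈ Ideal.span {x} • LinearMap.ker (K.d q (q + 1)).hom
      have : (b : K.X q) + β - a = -ξ := by
        rw [Submodule.coe_sub] at hsum
        linear_combination (norm := module) hsum
      rw [this]
      exact Submodule.neg_mem _ hξ
    · show (b : K.X q) + β - b ∈ LinearMap.range (K.d (q - 1) q).hom
      rwa [add_sub_cancel_left]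

end Groth.Agent.S15818
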