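import Groth.Statements.S4628
import Mathlib

set_option autoImplicit false
open CategoryTheory AlgebraicGeometry
universe u
open FBase

namespace Groth.Agent.S4628

open TensorProduct CategoryTheory.Limits

/-- Reducedness of tensor products passes to the union of finitely generated subalgebras. -/
theorem isReduced_tensor (k A B : Type u) [Field k] [CommRing A] [CommRing B] [Algebra k A] [Algebra k B]
    (h : ∀ B0 : Subalgebra k B, B0.FG → _root_.IsReduced (A ⊗[k] B0)) : _root_.IsReduced (A ⊗[k] B) := by
  refine ⟨fun x hx => ?_⟩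
  obtain ⟨n, hn⟩ := hx
  obtain ⟨B0, hB0, y, rfl⟩ : ∃ B0 : Subalgebra k B, B0.FG ∧ ∃ y,
      Algebra.TensorProduct.map (AlgHom.id k A) B0.val y = x := by
    clear hn
    induction x using TensorProduct.induction_on with
    | zero => exact ⟨⊥, Subalgebra.fg_bot, 0, map_zero _⟩
    | tmul a b => exact ⟨Algebra.adjoin k {b}, ⟨{b}, by simp⟩, a ⊗ₜ ⟨b, Algebra.subset_adjoin rfl⟩, by simp⟩
    | add x y hx hy =>
      obtain ⟨B1, h1, y1, rfl⟩ := hx
      obtain ⟨B2, h2, y2, rfl⟩ := hy
      refine ⟨B1 ⊔ B2, h1.sup h2, Algebra.TensorProduct.map (AlgHom.id k A) (Subalgebra.inclusion le_sup_left) y1 +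
        Algebra.TensorProduct.map (AlgHom.id k A) (Subalgebra.inclusion le_sup_right) y2, ?_⟩
      rw [map_add, ← AlgHom.comp_apply, ← Algebra.TensorProduct.map_comp, ← AlgHom.comp_apply,
        ← Algebra.TensorProduct.map_comp]
      rfl
  have := h B0 hB0
  have hinj : Function.Injective (Algebra.TensorProduct.map (AlgHom.id k A) B0.val) :=
    Module.Flat.lTensor_preserves_injective_linearMap (M := A) B0.val.toLinearMap Subtype.val_injective
  rw [← map_pow] at hn
  have hy0 : y ^ n = 0 := hinj (by rw [hn, map_zero])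
  rw [IsNilpotent.eq_zero ⟨n, hy0⟩, map_zero]

/-- The affine case. -/
theorem isReduced_affine (k A B : Type u) [Field k] [CommRing A] [CommRing B] [Algebra k A] [Algebra k B]
    [_root_.IsReduced B] {X : Scheme.{u}} (f : X ⟶ Spec (CommRingCat.of k)) [GeometricallyReduced f]
    (a : Spec (CommRingCat.of A) ⟶ X) [IsOpenImmersion a]
    (ha : a ≫ f = Spec.map (CommRingCat.ofHom (algebraMap k A))) :
    _root_.IsReduced (A ⊗[k] B) := by
  refine isReduced_tensor k A B fun B0 hB0 => ?_
  have : Algebra.FiniteType k B0 := B0.fg_iff_finiteType.1 hB0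
  have : IsNoetherianRing B0 := Algebra.FiniteType.isNoetherianRing k B0
  have : _root_.IsReduced B0 := isReduced_of_injective B0.val Subtype.val_injective
  let g0 := Spec.map (CommRingCat.ofHom (algebraMap k B0))
  have : Flat f := inferInstance
  have : AlgebraicGeometry.IsReduced (pullback f g0) := inferInstance
  let j : pullback (Spec.map (CommRingCat.ofHom (algebraMap k A))) g0 ⟶ pullback f g0 :=
    pullback.map _ _ _ _ a (𝟙 _) (𝟙 _) (by rw [Category.comp_id, ha]) (by simp [g0])
  have : IsOpenImmersion j := inferInstance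
  have : AlgebraicGeometry.IsReduced (pullback (Spec.map (CommRingCat.ofHom (algebraMap k A))) g0) :=
    isReduced_of_isOpenImmersion j
  have : AlgebraicGeometry.IsReduced (Spec (CommRingCat.of (A ⊗[k] B0))) :=
    isReduced_of_isOpenImmersion (pullbackSpecIso k A B0).inv
  exact (affine_isReduced_iff _).1 this

open CategoryTheory.Limits in
theorem piece (k : Type u) [Field k] {A B : CommRingCat.{u}} {X S : Scheme.{u}} (f : X ⟶ Spec (CommRingCat.of k))
    (g : S ⟶ Spec (CommRingCat.of k)) [GeometricallyReduced f] [AlgebraicGeometry.IsReduced S]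
    (a : Spec A ⟶ X) [IsOpenImmersion a] (b : Spec B ⟶ S) [IsOpenImmersion b] :
    AlgebraicGeometry.IsReduced (pullback (a ≫ f) (b ≫ g)) := by
  obtain ⟨φ, hφ⟩ := Spec.map_surjective (R := CommRingCat.of k) (a ≫ f)
  obtain ⟨ψ, hψ⟩ := Spec.map_surjective (R := CommRingCat.of k) (b ≫ g)
  let _ : Algebra k A := φ.hom.toAlgebra
  let _ : Algebra k B := ψ.hom.toAlgebra
  have hS : AlgebraicGeometry.IsReduced (Spec B) := isReduced_of_isOpenImmersion b
  have hB := (affine_isReduced_iff B).1 hS
  have h := isReduced_affine k A B f a hφ.symm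
  have : AlgebraicGeometry.IsReduced (Spec (CommRingCat.of (A ⊗[k] B))) := (affine_isReduced_iff _).2 h
  exact isReduced_of_isOpenImmersion ((pullback.congrHom hφ.symm hψ.symm).hom ≫ (pullbackSpecIso k A B).hom)

/-- Let X be a scheme over a field k which is geometrically reduced (X ⊗_k K is reduced for every
extension field K of k), and let S be any reduced scheme over k. Then the product X ×_k S is
reduced. (No Noetherian or finiteness assumption on S.) -/
theorem result {k : Type u} [Field k] {X S : Scheme.{u}}
    (f : X ⟶ Spec (CommRingCat.of k)) (g : S ⟶ Spec (CommRingCat.of k)) [GeometricallyReduced f]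
    [AlgebraicGeometry.IsReduced S] : AlgebraicGeometry.IsReduced (pullback f g) := by
  let 𝒰 := Scheme.Pullback.openCoverOfLeftRight X.affineCover S.affineCover f g
  suffices ∀ i, AlgebraicGeometry.IsReduced (𝒰.X i) from IsReduced.of_openCover (𝒰 := 𝒰)
  rintro ⟨i, j⟩
  exact @piece k _ _ _ _ _ f g _ _ (X.affineCover.f i) (X.affineCover.map_prop i) (S.affineCover.f j) (S.affineCover.map_prop j)

end Groth.Agent.S4628
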