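import Groth.Statements.S15821
import Groth.Agent.RegSeq.Basic
-- import your own Groth.Agent.* helpers here

set_option autoImplicit false
universe u
open CategoryTheory
open Koszul

namespace Groth.Agent.S15821

/-- Let A be a commutative ring and f = (f_1, …, f_r) a sequence in A which is regular in the weak sense
(f_1 is a non-zero-divisor of A and each f_i is a non-zero-divisor of A/(f_1, …, f_{i-1}); no
condition A/(f) ≠ 0). Then the Koszul complex K(f) (iterated mapping-cone model, degrees -r, …, 0)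
has vanishing cohomology in all nonzero degrees, i.e. f is Koszul-regular, and its cohomology in
degree 0 is isomorphic as an A-module to A/(f_1, …, f_r) (existence of an A-linear isomorphism):
K(f) is a free resolution of A/(f). -/
theorem result (A : Type u) [CommRing A] (l : List A)
    (hl : RingTheory.Sequence.IsWeaklyRegular A l) :
    LCI.IsKoszulRegularSeq A l ∧
      Nonempty ((Koszul.koszul A l).homology 0 ≅ ModuleCat.of A (A ⧸ Ideal.ofList l)) := by
  refine ⟨Groth.Agent.RegSeq.isKoszulRegularSeq_of_isWeaklyRegular hl, ⟨?_⟩⟩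
  let K := Koszul.koszul A l
  let Sc := K.sc' (-1) 0 1
  haveI := Groth.Agent.KoszulLib.subsingleton_of_outside (R := A) l 1 (Or.inl one_pos)
  let φ : LinearMap.ker Sc.g.hom →ₗ[A] A ⧸ Ideal.ofList l :=
    (Submodule.mkQ (Ideal.ofList l)) ∘ₗ (Groth.Agent.KoszulLib.e0 l).toLinearMap ∘ₗ (LinearMap.ker Sc.g.hom).subtype
  have hφ : Function.Surjective φ := fun y => by
    obtain ⟨r, rfl⟩ := Submodule.Quotient.mk_surjective _ y
    refine ⟨⟨(Groth.Agent.KoszulLib.e0 l).symm r,
      @Subsingleton.elim (Groth.Agent.KoszulLib.X l 1) this _ _⟩, ?_⟩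
    show Submodule.Quotient.mk (Groth.Agent.KoszulLib.e0 l ((Groth.Agent.KoszulLib.e0 l).symm r)) = _
    rw [LinearEquiv.apply_symm_apply]
  have hk : LinearMap.range Sc.moduleCatToCycles = LinearMap.ker φ := by
    ext ⟨x, hx⟩
    rw [LinearMap.mem_ker]
    show _ ↔ Submodule.Quotient.mk (Groth.Agent.KoszulLib.e0 l x) = 0
    rw [Submodule.Quotient.mk_eq_zero, Groth.Agent.KoszulLib.range_d_zero]
    constructor
    · rintro ⟨w, hw⟩; exact ⟨w, congrArg (Groth.Agent.KoszulLib.e0 l) (congrArg Subtype.val hw)⟩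
    · rintro ⟨w, hw⟩; exact ⟨w, Subtype.ext ((Groth.Agent.KoszulLib.e0 l).injective hw)⟩
  exact K.homologyIsoSc' (-1) 0 1 (by simp) (by simp) ≪≫ Sc.moduleCatHomologyIso ≪≫
    (Submodule.quotEquivOfEq _ _ hk ≪≫ₗ φ.quotKerEquivOfSurjective hφ).toModuleIso

end Groth.Agent.S15821
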