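import Groth.Statements.S15824
import Groth.Agent.S18944
import Groth.Agent.CIPres.SyntomicLocal
-- import your own Groth.Agent.* helpers here

set_option autoImplicit false
universe u
open CategoryTheory AlgebraicGeometry
open RegImm

namespace Groth.Agent.S15824

/-- Let X be a locally Noetherian scheme all of whose local rings are Cohen–Macaulay, and i : Z → X a
closed immersion which is regular (around every point, on some affine open of X the ideal of Z is
generated by a regular sequence). Then Z has no embedded points (each associated point of Z is
generic in an irreducible component): for every point z of Z, if the maximal ideal of O_{Z,z} is an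
associated prime of O_{Z,z} (as a module over itself), then O_{Z,z} has Krull dimension 0. (The
published statement takes X Noetherian and Z a local complete intersection subscheme; the assertion
is local on X and uses only that the ideal of Z is locally generated by a regular sequence.) -/
theorem result {X Z : Scheme.{u}}
    [IsLocallyNoetherian X] (hCM : ∀ x : X, LocCoh.IsCohenMacaulayLocalRing (X.presheaf.stalk x))
    (i : Z ⟶ X) [IsClosedImmersion i] (hi : RegImm.IsRegularImmersion RegImm.Kind.regular i) (z : Z)
    (hz : IsAssociatedPrime (IsLocalRing.maximalIdeal (Z.presheaf.stalk z)) (Z.presheaf.stalk z)) :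
    ringKrullDim (Z.presheaf.stalk z) = 0 := by
  obtain ⟨rs, hrs, hk⟩ := Groth.Agent.S18944.result i hi z
  haveI := hCM (i z)
  have hmem : ∀ r ∈ rs, r ∈ IsLocalRing.maximalIdeal (X.presheaf.stalk (i z)) := fun r hr =>
    IsLocalRing.le_maximalIdeal (RingHom.ker_ne_top (i.stalkMap z).hom) (hk ▸ Ideal.subset_span hr)
  have hsurj := i.stalkMap_surjective z
  have e : (X.presheaf.stalk (i z) ⧸ Ideal.ofList rs) ≃+* Z.presheaf.stalk z :=
    (Ideal.quotEquivOfEq hk.symm).trans (RingHom.quotientKerEquivOfSurjective hsurj)
  haveI : IsLocalRing (X.presheaf.stalk (i z) ⧸ Ideal.ofList rs) := e.symm.isLocalRing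
  haveI hZ : LocCoh.IsCohenMacaulayLocalRing (Z.presheaf.stalk z) :=
    Groth.FlatDescent.CM.cm_ringEquiv e (Groth.Agent.CIPres.cm_quotient_ofList rs hmem hrs.toIsWeaklyRegular)
  haveI : IsNoetherianRing (Z.presheaf.stalk z) := isNoetherianRing_of_ringEquiv _ e
  rw [Groth.Agent.DepthLib.ringKrullDim_eq_depth, Groth.Agent.DepthLib.depth_eq_zero_iff.2 hz]
  rfl

end Groth.Agent.S15824
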