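import Groth.Statements.S15832
import Mathlib
-- import your own Groth.Agent.* helpers here

set_option autoImplicit false
universe u
open TopGrp

namespace Groth.Agent.S15832

open Topology

variable {T : Type*} [Group T] [TopologicalSpace T]

theorem mul_decomp (x y g h γ : T) (he : g * h = x * γ * y) (γ₁ γ₂ : T) :
    (g * h * y⁻¹ * γ₁ * (y * h⁻¹)) * (h * y⁻¹ * γ₂ * y) = x * (γ * γ₁ * γ₂) * y := by
  rw [he]
  group

/-- The family of translates. -/
def fam (T : Type*) [Group T] [TopologicalSpace T] : Set (Set T) :=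
  {S : Set T | ∃ (Γ : OpenSubgroup T) (x y : T), S = (fun g : T => x * g * y) '' (Γ : Set T)}

theorem continuous_mul_fam :
    Continuous[@instTopologicalSpaceProd T T (TopologicalSpace.generateFrom (fam T)) (TopologicalSpace.generateFrom (fam T)),
      TopologicalSpace.generateFrom (fam T)] fun p : T × T => p.1 * p.2 := by
  rw [continuous_generateFrom_iff]
  rintro s ⟨Γ, x, y, rfl⟩
  rw [@isOpen_prod_iff T T (TopologicalSpace.generateFrom (fam T)) (TopologicalSpace.generateFrom (fam T))]
  rintro g h ⟨γ, hγ, he⟩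
  refine ⟨(fun t => g * h * y⁻¹ * t * (y * h⁻¹)) '' (Γ : Set T),
    (fun t => h * y⁻¹ * t * y) '' (Γ : Set T),
    .basic _ ⟨Γ, _, _, rfl⟩, .basic _ ⟨Γ, _, _, rfl⟩, ⟨1, Γ.one_mem, by group⟩,
    ⟨1, Γ.one_mem, by group⟩, ?_⟩
  rintro ⟨a, b⟩ ⟨⟨γ₁, h₁, rfl⟩, ⟨γ₂, h₂, rfl⟩⟩
  exact ⟨γ * γ₁ * γ₂, mul_mem (mul_mem hγ h₁) h₂, (mul_decomp x y g h γ he.symm γ₁ γ₂).symm⟩

theorem continuous_inv_fam :
    Continuous[TopologicalSpace.generateFrom (fam T), TopologicalSpace.generateFrom (fam T)] fun g : T => g⁻¹ := by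
  rw [continuous_generateFrom_iff]
  rintro s ⟨Γ, x, y, rfl⟩
  refine .basic _ ⟨Γ, y⁻¹, x⁻¹, ?_⟩
  ext g
  constructor
  · rintro ⟨t, ht, he⟩
    refine ⟨t⁻¹, inv_mem ht, ?_⟩
    have he' : x * t * y = g⁻¹ := he
    rw [← inv_inv g, ← he']
    group
  · rintro ⟨t, ht, rfl⟩
    exact ⟨t⁻¹, inv_mem ht, by group⟩

theorem exists_subgroup {s : Set T} (hs : IsOpen[TopologicalSpace.generateFrom (fam T)] s) :
    ∀ g ∈ s, ∃ K : Subgroup T,
      IsOpen[TopologicalSpace.generateFrom (fam T)] (K : Set T) ∧ ∀ k ∈ K, g * k ∈ s := by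
  induction hs with
  | basic s hs =>
    obtain ⟨Γ, x, y, rfl⟩ := hs
    rintro g ⟨γ, hγ, rfl⟩
    refine ⟨Γ.toSubgroup.map (MulAut.conj y⁻¹).toMonoidHom,
      .basic _ ⟨Γ, y⁻¹, y, ?_⟩, ?_⟩
    · rw [Subgroup.coe_map]
      refine Set.image_congr' fun t => ?_
      simp
    · rintro k ⟨t, ht, rfl⟩
      exact ⟨γ * t, mul_mem hγ ht, by simp [MulAut.conj_apply]; group⟩
  | univ => exact fun g _ => ⟨⊤, TopologicalSpace.GenerateOpen.univ, fun _ _ => trivial⟩
  | inter s t _ _ ihs iht =>
    rintro g ⟨hgs, hgt⟩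
    obtain ⟨K, hK, hK'⟩ := ihs g hgs
    obtain ⟨L, hL, hL'⟩ := iht g hgt
    exact ⟨K ⊓ L, TopologicalSpace.GenerateOpen.inter _ _ hK hL, fun k hk => ⟨hK' k hk.1, hL' k hk.2⟩⟩
  | sUnion S _ ih =>
    rintro g ⟨s, hs, hgs⟩
    obtain ⟨K, hK, hK'⟩ := ih s hs g hgs
    exact ⟨K, hK, fun k hk => ⟨s, hs, hK' k hk⟩⟩

theorem nonarch_fam : @NonarchimedeanGroup T _ (TopologicalSpace.generateFrom (fam T)) := by
  refine @NonarchimedeanGroup.mk T _ (TopologicalSpace.generateFrom (fam T))
    (@IsTopologicalGroup.mk T (TopologicalSpace.generateFrom (fam T)) _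
      (@ContinuousMul.mk T (TopologicalSpace.generateFrom (fam T)) _ continuous_mul_fam)
      (@ContinuousInv.mk T (TopologicalSpace.generateFrom (fam T)) _ continuous_inv_fam)) ?_
  intro U hU
  obtain ⟨t, htU, ht, h1⟩ := (@mem_nhds_iff T (TopologicalSpace.generateFrom (fam T)) 1 U).mp hU
  obtain ⟨K, hK, hK'⟩ := exists_subgroup ht 1 h1
  exact ⟨@OpenSubgroup.mk T _ (TopologicalSpace.generateFrom (fam T)) K hK,
    fun k hk => htU (by simpa using hK' k hk)⟩

/-- For a group T with a topology, let B be the family of two-sided translates x Γ y, where Γ runs over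
the subgroups of T open in the given topology and x, y over T; the topology generated by B makes T a
topological group in which every neighbourhood of the identity contains a subgroup open for that
topology. (The published statement is for the free topological product of two Noohi groups whose
open subgroups form a basis of neighbourhoods of the identity; the argument uses only the group
structure and the chosen family of subgroups, so the row is stated for an arbitrary group with a
topology. The published conventions include Hausdorffness in the word topological group; this row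
does not assert it, and the published argument does not prove it.) -/
theorem result (T : Type u) [Group T]
    [TopologicalSpace T] :
    @NonarchimedeanGroup T _ (TopologicalSpace.generateFrom
      {S : Set T | ∃ (Γ : OpenSubgroup T) (x y : T), S = (fun g : T => x * g * y) '' (Γ : Set T)}) := by
  exact nonarch_fam

end Groth.Agent.S15832
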