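import Mathlib
import Groth.Statements.S15833
-- import your own Groth.Agent.* helpers here

set_option autoImplicit false
universe u
open EtBase

namespace Groth.Agent.S15833

open CategoryTheory CategoryTheory.Limits AlgebraicGeometry in
/-- Let i : X₀ ⟶ X be a surjective closed immersion of schemes and f : Y ⟶ X a morphism. Then f
satisfies the valuative criterion (existence and uniqueness of a lift in every valuative square,
over arbitrary valuation rings) if and only if its base change Y ×_X X₀ ⟶ X₀ does. (The published
statement takes X locally Noetherian and connected, X₀ the reduced closed subscheme with the same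
underlying space and f étale, and combines this step with the equivalence between étale schemes over
X and over X₀ to identify the geometric coverings, i.e. the étale morphisms satisfying the valuative
criterion, of X and of X₀; the argument for this step uses only that X₀ ⟶ X is a surjective closed
immersion and that valuation rings are reduced.) -/
theorem result {X X₀ Y : Scheme.{u}} (i : X₀ ⟶ X)
    [IsClosedImmersion i] [Surjective i] (f : Y ⟶ X) :
    ValuativeCriterion f ↔ ValuativeCriterion (pullback.snd f i) := by
  constructor
  · intro h S
    have hsq : CommSq (S.i₁ ≫ pullback.fst f i) (Spec.map (CommRingCat.ofHom (algebraMap S.R S.K))) f (S.i₂ ≫ i) :=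
      ⟨by rw [Category.assoc, pullback.condition, ← Category.assoc, S.commSq.w, Category.assoc]⟩
    obtain ⟨u⟩ := h { R := S.R, K := S.K, i₁ := S.i₁ ≫ pullback.fst f i, i₂ := S.i₂ ≫ i, commSq := hsq }
    refine ⟨{ default := ⟨pullback.lift u.default.l S.i₂ u.default.fac_right, ?_, pullback.lift_snd _ _ _⟩, uniq := ?_ }⟩
    · apply pullback.hom_ext
      · rw [Category.assoc, pullback.lift_fst]; exact u.default.fac_left
      · rw [Category.assoc, pullback.lift_snd]; exact S.commSq.w.symm
    · intro l
      ext : 1
      apply pullback.hom_ext
      · rw [pullback.lift_fst]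
        exact congrArg CommSq.LiftStruct.l (u.uniq ⟨l.l ≫ pullback.fst f i, by rw [← Category.assoc, l.fac_left],
          by rw [Category.assoc, pullback.condition, ← Category.assoc, l.fac_right]⟩)
      · rw [pullback.lift_snd, l.fac_right]
  · intro h S
    haveI : IsReduced (Spec (CommRingCat.of S.R)) := inferInstance
    haveI : IsIso (pullback.fst S.i₂ i) := isIso_of_isClosedImmersion_of_surjective _
    let l₀ := inv (pullback.fst S.i₂ i) ≫ pullback.snd S.i₂ i
    have hl₀ : l₀ ≫ i = S.i₂ := by
      simp only [l₀, Category.assoc, ← pullback.condition, IsIso.inv_hom_id_assoc]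
    let j₁ := pullback.lift S.i₁ (Spec.map (CommRingCat.ofHom (algebraMap S.R S.K)) ≫ l₀) (by rw [Category.assoc, hl₀]; exact S.commSq.w) (f := f) (g := i)
    have hsq : CommSq j₁ (Spec.map (CommRingCat.ofHom (algebraMap S.R S.K))) (pullback.snd f i) l₀ := ⟨pullback.lift_snd _ _ _⟩
    obtain ⟨u⟩ := h { R := S.R, K := S.K, i₁ := j₁, i₂ := l₀, commSq := hsq }
    refine ⟨{ default := ⟨u.default.l ≫ pullback.fst f i, ?_, ?_⟩, uniq := ?_ }⟩
    · rw [← Category.assoc, u.default.fac_left]
      exact pullback.lift_fst _ _ _
    · rw [Category.assoc, pullback.condition, ← Category.assoc, u.default.fac_right, hl₀]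
    · intro l
      ext : 1
      have := congrArg CommSq.LiftStruct.l (u.uniq ⟨pullback.lift l.l l₀ (by rw [l.fac_right, hl₀]), ?_, pullback.lift_snd _ _ _⟩)
      · show l.l = u.default.l ≫ pullback.fst f i
        rw [← show pullback.lift l.l l₀ (by rw [l.fac_right, hl₀]) = u.default.l from this, pullback.lift_fst]
      · apply pullback.hom_ext
        · rw [Category.assoc, pullback.lift_fst, l.fac_left]
          exact (pullback.lift_fst _ _ _).symm
        · rw [Category.assoc, pullback.lift_snd]
          exact (pullback.lift_snd _ _ _).symm

end Groth.Agent.S15833
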