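import Mathlib
import Groth.Statements.S15835
-- import your own Groth.Agent.* helpers here

set_option autoImplicit false
universe u
open SprIso

namespace Groth.Agent.S15835

/-- Over a commutative ring R of prime characteristic p, let n ≥ 1 and let p^m be the largest power of p
dividing n. The locus of n × n matrices with characteristic polynomial t^n is stable under adding a
scalar matrix a·1 with n·a = 0 exactly when a^(p^m) = 0: for X with characteristic polynomial t^n
and such an a, the matrix X + a·1 has characteristic polynomial t^n if and only if a^(p^m) = 0.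
(Stated on points with values in an arbitrary ring of characteristic p; the scheme-theoretic
assertion about the nilpotent scheme of SL_n is this statement for all such rings.) -/
theorem result (p : ℕ) [Fact p.Prime] (R : Type u) [CommRing R]
    [CharP R p] (n : ℕ) (hn : 0 < n) (X : Matrix (Fin n) (Fin n) R) (hX : X.charpoly = Polynomial.X ^ n)
    (a : R) (ha : (n : R) * a = 0) :
    (X + Matrix.scalar (Fin n) a).charpoly = Polynomial.X ^ n ↔ a ^ (p ^ padicValNat p n) = 0 := by
  have hXa : X + Matrix.scalar (Fin n) a = X - Matrix.scalar (Fin n) (-a) := by rw [map_neg, sub_neg_eq_add]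
  rw [hXa, Matrix.charpoly_sub_scalar, hX, Polynomial.X_pow_comp, map_neg, ← sub_eq_add_neg]
  set q := p ^ padicValNat p n with hq
  obtain ⟨r, hr⟩ : q ∣ n := pow_padicValNat_dvd
  have hpp : p.Prime := Fact.out
  have hrp : ¬ p ∣ r := by
    rintro ⟨s, rfl⟩
    exact pow_succ_padicValNat_not_dvd (p := p) hn.ne' ⟨s, by rw [pow_succ, ← hq, mul_assoc]; exact hr⟩
  have hru : IsUnit (r : R) := by
    have h : IsUnit ((r : ZMod p)) := isUnit_iff_ne_zero.2 (fun e => hrp ((ZMod.natCast_eq_zero_iff r p).1 e))
    simpa using h.map (ZMod.castHom (dvd_refl p) R)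
  have : ExpChar R p := ExpChar.prime hpp
  have key : (Polynomial.X - Polynomial.C a : Polynomial R) ^ n =
      Polynomial.expand R q ((Polynomial.X - Polynomial.C (a ^ q)) ^ r) := by
    rw [map_pow, map_sub, Polynomial.expand_X, Polynomial.expand_C, hr, pow_mul, hq, sub_pow_expChar_pow, map_pow]
  have hX' : (Polynomial.X : Polynomial R) ^ n = Polynomial.expand R q (Polynomial.X ^ r) := by
    rw [map_pow, Polynomial.expand_X, hr, pow_mul]
  rw [key, hX', (Polynomial.expand_injective (pow_pos hpp.pos _)).eq_iff]
  constructor
  · intro h
    have := congrArg Polynomial.nextCoeff h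
    rw [(Polynomial.monic_X_sub_C _).nextCoeff_pow, Polynomial.monic_X.nextCoeff_pow, Polynomial.nextCoeff_X_sub_C] at this
    have h0 : (Polynomial.X : Polynomial R).nextCoeff = 0 := by
      have := Polynomial.nextCoeff_X_sub_C (0 : R)
      simpa using this
    rw [h0, smul_zero, nsmul_eq_mul, mul_neg, neg_eq_zero] at this
    exact hru.mul_right_eq_zero.1 this
  · intro h; rw [h]; simp

end Groth.Agent.S15835
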