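import Mathlib
import Groth.Statements.S15838
-- import your own Groth.Agent.* helpers here

set_option autoImplicit false
universe u
open scoped TensorProduct
open SprIso

namespace Groth.Agent.S15838

section
open scoped TensorProduct

lemma key {k : Type*} [Field k] [PerfectField k] {V : Type*} [AddCommGroup V] [Module k V] [FiniteDimensional k V]
    (R : Type*) [CommRing R] [Algebra k R] (h : Module.End R (R ⊗[k] V))
    (X Y N : Module.End k V) (hY : Y.IsSemisimple) (hN : IsNilpotent N) (hc : Commute Y N) (hX : X = Y + N) :
    Commute h (X.baseChange R) ↔ Commute h (Y.baseChange R) ∧ Commute h (N.baseChange R) := by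
  constructor
  · intro hh
    obtain ⟨n, hn, s, hs, hnn, hss, heq⟩ := X.exists_isNilpotent_isSemisimple
    have hcomm : Commute n s :=
      Algebra.commute_of_mem_adjoin_singleton_of_commute hs
        (Algebra.commute_of_mem_adjoin_singleton_of_commute hn (Commute.refl X)).symm
    obtain ⟨rfl, rfl⟩ := Module.End.isNilpotent_isSemisimple_unique hnn hss hN hY hcomm hc.symm
      (by rw [← heq, hX, add_comm])
    let φ := Module.End.baseChangeHom k R V
    have hle : Algebra.adjoin k {X} ≤ (Subalgebra.centralizer k ({h} : Set (Module.End R (R ⊗[k] V)))).comap φ := by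
      refine Algebra.adjoin_le ?_
      intro z hz
      obtain rfl := Set.mem_singleton_iff.1 hz
      simp only [SetLike.mem_coe, Subalgebra.mem_comap, Subalgebra.mem_centralizer_iff]
      intro g hg
      obtain rfl := Set.mem_singleton_iff.1 hg
      exact hh
    exact ⟨Subalgebra.mem_centralizer_iff k |>.1 (hle hs) h rfl, Subalgebra.mem_centralizer_iff k |>.1 (hle hn) h rfl⟩
  · rintro ⟨h1, h2⟩
    rw [hX, LinearMap.baseChange_add]
    exact h1.add_right h2

end


/-- General linear group case: this is the case G = GL(V), to which the general case reduces along a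
closed embedding. Let k be a perfect field and V a finite-dimensional k-vector space. If an
invertible endomorphism g of V has multiplicative Jordan decomposition g = t u (t semisimple, u
unipotent, t and u commuting), then the scheme-theoretic centralizer of g in GL(V) is the
centralizer of u inside the centralizer of t: for every commutative k-algebra R, an R-linear
endomorphism h of R ⊗ V commutes with g_R if and only if it commutes with both t_R and u_R.
Likewise, if an endomorphism X of V has additive Jordan decomposition X = Y + N (Y semisimple, N
nilpotent, commuting), then h commutes with X_R if and only if it commutes with both Y_R and N_R. -/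
theorem result (k : Type u) [Field k] [PerfectField k]
    (V : Type u) [AddCommGroup V] [Module k V] [FiniteDimensional k V]
    (R : Type u) [CommRing R] [Algebra k R] (h : Module.End R (R ⊗[k] V)) :
    (∀ (g t u : Module.End k V), IsUnit g → t.IsSemisimple → IsNilpotent (u - 1) → Commute t u → g = t * u →
      (Commute h (g.baseChange R) ↔ Commute h (t.baseChange R) ∧ Commute h (u.baseChange R))) ∧
    (∀ (X Y N : Module.End k V), Y.IsSemisimple → IsNilpotent N → Commute Y N → X = Y + N →
      (Commute h (X.baseChange R) ↔ Commute h (Y.baseChange R) ∧ Commute h (N.baseChange R))) := by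
  refine ⟨fun g t u hg ht hu htu hgtu => ?_, fun X Y N hY hN hc hX => key R h X Y N hY hN hc hX⟩
  have htc : Commute t (t * (u - 1)) := (Commute.refl t).mul_right (htu.sub_right (Commute.one_right t))
  have hn : IsNilpotent (t * (u - 1)) := (htu.sub_right (Commute.one_right t)).isNilpotent_mul_left hu
  have hgY : g = t + t * (u - 1) := by rw [hgtu, mul_sub, mul_one]; abel
  have htunit : IsUnit (t.baseChange R) := by
    have : IsUnit t := (htu.isUnit_mul_iff.1 (hgtu ▸ hg)).1
    exact this.map (Module.End.baseChangeHom k R V)
  rw [key R h g t (t * (u - 1)) ht hn htc hgY]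
  constructor
  · rintro ⟨h1, h2⟩
    refine ⟨h1, htunit.mul_left_cancel ?_⟩
    have h3 : Commute h (g.baseChange R) := by rw [hgY, LinearMap.baseChange_add]; exact h1.add_right h2
    rw [hgtu, LinearMap.baseChange_mul] at h3
    calc t.baseChange R * (h * u.baseChange R) = h * (t.baseChange R * u.baseChange R) := by
            rw [← mul_assoc, ← mul_assoc, h1.eq]
      _ = (t.baseChange R * u.baseChange R) * h := h3.eq
      _ = t.baseChange R * (u.baseChange R * h) := mul_assoc _ _ _
  · rintro ⟨h1, h2⟩
    refine ⟨h1, ?_⟩
    rw [mul_sub, mul_one]
    refine LinearMap.ext fun z => ?_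
    have e1 := LinearMap.congr_fun (h1.mul_right h2).eq z
    have e2 := LinearMap.congr_fun h1.eq z
    simp only [Module.End.mul_apply, LinearMap.baseChange_sub, LinearMap.baseChange_mul, LinearMap.sub_apply, map_sub] at e1 e2 ⊢
    rw [e1, e2]

end Groth.Agent.S15838
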