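import Groth.Statements.S15839
import Groth.Agent.AlgSpLib.LocP

set_option autoImplicit false
universe u
open CategoryTheory MonoidalCategory CartesianMonoidalCategory MonObj GrpObj AlgebraicGeometry
open SprIso

namespace Groth.Agent.S15839

/-- Let S be a scheme, G an S-group scheme which is affine and of finite presentation over S, and g a
section of G over S. Then the centralizer of g — the subfunctor of G whose points with values in an
S-scheme T are the points x of G with x g_T = g_T x — is represented by a closed subscheme of G
whose inclusion is of finite presentation. -/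
theorem result (S : Scheme.{u}) (G : Over S) [GrpObj G]
    [IsAffineHom G.hom] [LocallyOfFinitePresentation G.hom] (g : 𝟙_ (Over S) ⟶ G) :
    ∃ (Z : Over S) (j : Z ⟶ G), IsClosedImmersion j.left ∧ LocallyOfFinitePresentation j.left ∧
      ∀ (T : Over S) (x : T ⟶ G), (∃ z : T ⟶ Z, z ≫ j = x) ↔
        x * (toUnit T ≫ g) = (toUnit T ≫ g) * x := by
  let gg : G ⟶ G := toUnit G ≫ g
  let a : G ⟶ G := 𝟙 G * gg
  let b : G ⟶ G := gg * 𝟙 G
  let c : G.left ⟶ Limits.pullback G.hom G.hom := Limits.pullback.lift a.left b.left (by rw [Over.w, Over.w])
  let Z : Over S := Over.mk (Limits.pullback.fst c (Limits.pullback.diagonal G.hom) ≫ G.hom)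
  let j : Z ⟶ G := Over.homMk (Limits.pullback.fst c (Limits.pullback.diagonal G.hom))
  have hd : LocallyOfFinitePresentation (Limits.pullback.diagonal G.hom) :=
    Groth.Agent.AlgSpLib.locallyOfFinitePresentation_of_comp _ (Limits.pullback.fst G.hom G.hom)
      (by rw [Limits.pullback.diagonal_fst]; infer_instance) inferInstance
  refine ⟨Z, j, inferInstanceAs (IsClosedImmersion (Limits.pullback.fst c (Limits.pullback.diagonal G.hom))),
    inferInstanceAs (LocallyOfFinitePresentation (Limits.pullback.fst c (Limits.pullback.diagonal G.hom))), fun T x => ?_⟩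
  have ha : x ≫ a = x * (toUnit T ≫ g) := by
    simp only [a, gg, MonObj.comp_mul, Category.comp_id, ← Category.assoc, comp_toUnit]
  have hb : x ≫ b = (toUnit T ≫ g) * x := by
    simp only [b, gg, MonObj.comp_mul, Category.comp_id, ← Category.assoc, comp_toUnit]
  rw [← ha, ← hb]
  constructor
  · rintro ⟨z, rfl⟩
    apply Over.OverMorphism.ext
    have h := Limits.pullback.condition (f := c) (g := Limits.pullback.diagonal G.hom)
    have h1 := congrArg (· ≫ Limits.pullback.fst G.hom G.hom) h
    have h2 := congrArg (· ≫ Limits.pullback.snd G.hom G.hom) h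
    simp only [c, Category.assoc, Limits.pullback.lift_fst, Limits.pullback.lift_snd, Limits.pullback.diagonal_fst, Limits.pullback.diagonal_snd] at h1 h2
    simp only [Over.comp_left, Category.assoc, j, Over.homMk_left]
    erw [h1, h2]
  · intro h
    have h' : x.left ≫ a.left = x.left ≫ b.left := congrArg (fun f : T ⟶ G => f.left) h
    refine ⟨Over.homMk (Limits.pullback.lift x.left (x.left ≫ a.left) ?_) ?_, Over.OverMorphism.ext (Limits.pullback.lift_fst _ _ _)⟩
    · apply Limits.pullback.hom_ext
      · simp only [c, Category.assoc, Limits.pullback.diagonal_fst, Category.comp_id]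
        erw [Limits.pullback.lift_fst]
      · simp only [c, Category.assoc, Limits.pullback.diagonal_snd, Category.comp_id]
        erw [Limits.pullback.lift_snd, h']
    · show Limits.pullback.lift _ _ _ ≫ Limits.pullback.fst _ _ ≫ G.hom = T.hom
      rw [Limits.pullback.lift_fst_assoc, Over.w]

end Groth.Agent.S15839
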