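import Groth.Statements.S1584
-- import your own Groth.Agent.* helpers here

set_option autoImplicit false
universe u
open CategoryTheory CategoryTheory.Limits AlgebraicGeometry
open Variety

namespace Groth.Agent.S1584

section Aux
open AlgebraicGeometry CategoryTheory Limits

theorem exists_galAct (k : Type u) [Field k] (X : Scheme.{u}) [X.Over (Spec (CommRingCat.of k))]
    (K : Type u) [Field K] [Algebra k K] [IsGalois k K] (y₁ y₂ : Curv2.bc k X K)
    (h : (Curv2.bcFst k X K) y₁ = (Curv2.bcFst k X K) y₂) :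
    ∃ σ : K ≃ₐ[k] K, (Curv2.galAct k X K σ) y₁ = y₂ := by
  obtain ⟨z, hz₁, hz₂⟩ := Scheme.Pullback.exists_preimage_pullback y₁ y₂ h
  let P := pullback (Curv2.bcFst k X K) (Curv2.bcFst k X K)
  let Ω := P.residueField z
  let b : Spec Ω ⟶ P := P.fromSpecResidueField z
  let b₁ := b ≫ pullback.fst _ _
  let b₂ := b ≫ pullback.snd _ _
  have hb : b₁ ≫ Curv2.bcFst k X K = b₂ ≫ Curv2.bcFst k X K := by
    simp only [b₁, b₂, Category.assoc, pullback.condition]
  let φ₁ : CommRingCat.of K ⟶ Ω := Spec.preimage (b₁ ≫ pullback.snd _ _)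
  let φ₂ : CommRingCat.of K ⟶ Ω := Spec.preimage (b₂ ≫ pullback.snd _ _)
  have hcomp : CommRingCat.ofHom (algebraMap k K) ≫ φ₁ = CommRingCat.ofHom (algebraMap k K) ≫ φ₂ := by
    apply Spec.map_injective
    rw [Spec.map_comp, Spec.map_comp, Spec.map_preimage, Spec.map_preimage, Category.assoc b₁,
      Category.assoc b₂, ← pullback.condition, ← Category.assoc, ← Category.assoc b₂]
    exact congrArg (· ≫ X ↘ Spec (CommRingCat.of k)) hb
  let _ : Algebra K Ω := φ₁.hom.toAlgebra
  let _ : Algebra k Ω := (φ₁.hom.comp (algebraMap k K)).toAlgebra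
  have : IsScalarTower k K Ω := IsScalarTower.of_algebraMap_eq' rfl
  let ψ : K →ₐ[k] Ω :=
    { φ₂.hom with
      commutes' := fun c => (congrArg (fun g => (ConcreteCategory.hom g) c) hcomp).symm }
  let σ : K ≃ₐ[k] K := ψ.restrictNormal' K
  have hσ : ∀ x, φ₁.hom (σ x) = φ₂.hom x := fun x => ψ.restrictNormal_commutes K x
  refine ⟨σ, ?_⟩
  have hb2 : b₁ ≫ Curv2.galAct k X K σ = b₂ := by
    apply pullback.hom_ext
    · rw [Category.assoc, Curv2.galAct, pullback.lift_fst, Category.comp_id]
      exact hb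
    · rw [Category.assoc, Curv2.galAct, pullback.lift_snd, ← Category.assoc,
        ← Spec.map_preimage (b₁ ≫ pullback.snd _ _), ← Spec.map_comp,
        ← Spec.map_preimage (b₂ ≫ pullback.snd _ _)]
      congr 1
      ext x
      exact hσ x
  have := congrArg (fun g : Spec Ω ⟶ Curv2.bc k X K => g (default : PrimeSpectrum Ω)) hb2
  have hbz : b (default : PrimeSpectrum Ω) = z := Scheme.fromSpecResidueField_apply z _
  simp only [b₁, b₂, Scheme.Hom.comp_apply, hbz, hz₁, hz₂] at this
  exact this

end Aux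

/-- Let K be a Galois extension of k (possibly infinite) and X a scheme over k. A closed subset of X_K
which is mapped onto itself by the action of every k-automorphism of K is the inverse image of a
closed subset of X. -/
theorem result (k : Type u) [Field k] (X : Scheme.{u}) [X.Over (Spec (CommRingCat.of k))] (K : Type u) [Field K] [Algebra k K] [IsGalois k K]
    (T' : Set (Curv2.bc k X K)) (hT' : IsClosed T') (hinv : ∀ σ : K ≃ₐ[k] K, (Curv2.galAct k X K σ).base '' T' = T') :
    ∃ T : Set X, IsClosed T ∧ (Curv2.bcFst k X K).base ⁻¹' T = T' := by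
  have : UniversallyClosed (Curv2.bcFst k X K) := by
    have hint : IsIntegralHom (Spec.map (CommRingCat.ofHom (algebraMap k K))) :=
      IsIntegralHom.SpecMap_iff.mpr
        (algebraMap_isIntegral_iff.mpr (Algebra.IsAlgebraic.isIntegral (K := k) (A := K)))
    have : IsIntegralHom (Curv2.bcFst k X K) := MorphismProperty.pullback_fst _ _ hint
    infer_instance
  refine ⟨(Curv2.bcFst k X K).base '' T', (Curv2.bcFst k X K).isClosedMap T' hT', ?_⟩
  refine Set.Subset.antisymm (fun y ⟨t, ht, hty⟩ => ?_) (fun y hy => ⟨y, hy, rfl⟩)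
  obtain ⟨σ, rfl⟩ := exists_galAct k X K t y hty
  exact (hinv σ).le ⟨t, ht, rfl⟩

end Groth.Agent.S1584
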