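import Groth.Statements.S15841
import Mathlib.Tactic
-- import your own Groth.Agent.* helpers here

set_option autoImplicit false
universe u
open scoped TensorProduct
open SprIso

namespace Groth.Agent.S15841

open scoped TensorProduct

section
variable {ι M N : Type u} [AddCommGroup M] [AddCommGroup N] (P : RootPairing ι ℤ M N)
variable (k : Type u) [Field k]

/-- composite of coreflections -/
noncomputable abbrev W (l : List ι) : k ⊗[ℤ] N →ₗ[k] k ⊗[ℤ] N :=
  ((l.map (fun i => ((P.coreflection i : N ≃ₗ[ℤ] N) : N →ₗ[ℤ] N))).prod).baseChange k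

/-- coordinate -/
noncomputable abbrev co (f : N →ₗ[ℤ] ℤ) : k ⊗[ℤ] N →ₗ[k] k :=
  (TensorProduct.AlgebraTensorModule.rid ℤ k k).toLinearMap ∘ₗ f.baseChange k

lemma W_cons (i : ι) (l : List ι) (H : k ⊗[ℤ] N) :
    W P k (i :: l) H = W P k l H - co k (P.root' i) (W P k l H) • ((1 : k) ⊗ₜ[ℤ] P.coroot i) := by
  have h1 : W P k (i :: l) H =
      (((P.coreflection i : N ≃ₗ[ℤ] N) : N →ₗ[ℤ] N)).baseChange k (W P k l H) := by
    simp only [W, List.map_cons, List.prod_cons]
    rw [show ∀ a b : N →ₗ[ℤ] N, a * b = a ∘ₗ b from fun _ _ => rfl, LinearMap.baseChange_comp]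
    rfl
  rw [h1]
  generalize W P k l H = y
  induction y with
  | zero => simp
  | tmul c n =>
    simp [RootPairing.coreflection_apply, TensorProduct.tmul_sub, TensorProduct.tmul_smul,
      TensorProduct.smul_tmul', co]
  | add a b ha hb => rw [map_add, map_add, ha, hb, add_smul]; abel

lemma fixed (ω : ι → N →ₗ[ℤ] ℤ) : ∀ (l : List ι), l.Nodup →
    (∀ i ∈ l, ω i (P.coroot i) = 1) → ∀ H : k ⊗[ℤ] N,
    (∀ f : N →ₗ[ℤ] ℤ, (∀ i ∈ l, f (P.coroot i) = 0) → co k f (W P k l H) = co k f H) ∧
    ((∀ i ∈ l, ∀ j ∈ l, j ≠ i → ω i (P.coroot j) = 0) → W P k l H = H →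
      ∀ i ∈ l, co k (P.root' i) H = 0) := by
  intro l
  induction l with
  | nil =>
    intro _ _ H
    refine ⟨fun f _ => ?_, by simp⟩
    simp [W, show (1 : N →ₗ[ℤ] N) = LinearMap.id from rfl]
  | cons i l ih =>
    intro hl hω H
    rw [List.nodup_cons] at hl
    obtain ⟨ih₁, ih₂⟩ := ih hl.2 (fun j hj => hω j (List.mem_cons_of_mem _ hj)) H
    refine ⟨fun f hf => ?_, fun hoff hH => ?_⟩
    · rw [W_cons, map_sub, map_smul, ih₁ f (fun j hj => hf j (List.mem_cons_of_mem _ hj))]
      simp [co, hf i List.mem_cons_self]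
    · have h1 := congrArg (co k (ω i)) hH
      rw [W_cons, map_sub, map_smul,
        ih₁ (ω i) (fun j hj => hoff i List.mem_cons_self j (List.mem_cons_of_mem _ hj)
          (fun e => hl.1 (e ▸ hj)))] at h1
      have h2 : co k (P.root' i) (W P k l H) = 0 := by
        simpa [co, hω i List.mem_cons_self] using h1
      rw [W_cons, h2, zero_smul, sub_zero] at hH
      intro j hj
      rcases List.mem_cons.1 hj with rfl | hj
      · rwa [hH] at h2
      · exact ih₂ (fun a ha b hb => hoff a (List.mem_cons_of_mem _ ha) b (List.mem_cons_of_mem _ hb)) hH j hj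

end


/-- For a connected reductive group G with maximal torus T whose derived group is simply connected, and
a Coxeter element w (the product of the simple reflections, each once, in any order), an element of
Lie T = k ⊗ X_*(T) fixed by Ad(w) is killed by the differential of every simple root, i.e. lies in
the centre of Lie G. In root-datum form: let P be a root pairing over ℤ with character lattice M and
cocharacter lattice N, b a base, and suppose each simple coroot has a dual character ω_i in M with
⟨ω_i, α_i^∨⟩ = 1 and ⟨ω_i, α_j^∨⟩ = 0 for every other simple j (the simply connected derived group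
hypothesis). If l lists the simple roots without repetition, w^∨ is the composite of the
coreflections along l acting on N, k is a field and H in k ⊗ N satisfies w^∨_k H = H, then (α_i)_k H
= 0 for every simple root α_i, where (α_i)_k is the base change to k of the functional ⟨α_i, −⟩ on
N. (Stated for an arbitrary field k; the published setting is an algebraically closed field, and the
argument does not depend on k.) -/
theorem result {ι M N : Type u} [AddCommGroup M] [AddCommGroup N]
    (P : RootPairing ι ℤ M N) (b : P.Base)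
    (hsc : ∀ i ∈ b.support, ∃ ω : M, P.coroot' i ω = 1 ∧ ∀ j ∈ b.support, j ≠ i → P.coroot' j ω = 0)
    (l : List ι) (hl : l.Nodup) (hlb : ∀ i : ι, i ∈ l ↔ i ∈ b.support)
    (k : Type u) [Field k] (H : k ⊗[ℤ] N)
    (hH : ((l.map (fun i => ((P.coreflection i : N ≃ₗ[ℤ] N) : N →ₗ[ℤ] N))).prod).baseChange k H = H) :
    ∀ i ∈ b.support, (P.root' i).baseChange k H = 0 := by
  classical
  choose ω hω₁ hω₂ using hsc
  let f : ι → N →ₗ[ℤ] ℤ := fun i => if h : i ∈ b.support then P.toLinearMap (ω i h) else 0
  have h := (fixed P k f l hl (fun i hi => ?_) H).2 (fun i hi j hj hne => ?_) hH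
  · intro i hi
    have := h i ((hlb i).2 hi)
    exact (TensorProduct.AlgebraTensorModule.rid ℤ k k).map_eq_zero_iff.1 this
  · simp only [f, dif_pos ((hlb i).1 hi)]; exact hω₁ i ((hlb i).1 hi)
  · simp only [f, dif_pos ((hlb i).1 hi)]; exact hω₂ i ((hlb i).1 hi) j ((hlb j).1 hj) hne

end Groth.Agent.S15841
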