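import Groth.Statements.S15842
import Mathlib
-- import your own Groth.Agent.* helpers here

set_option autoImplicit false
universe u
open SprIso

namespace Groth.Agent.S15842

open Polynomial in
theorem exists_cyclic {K : Type*} [Field K] {n : ℕ} (g : Matrix (Fin n) (Fin n) K)
    (h : Module.finrank K (Subalgebra.centralizer K ({g} : Set (Matrix (Fin n) (Fin n) K))) = n) :
    ∃ e : Fin n → K, IsUnit (Matrix.of fun i j => ((g ^ (j : ℕ)).mulVec e) i : Matrix (Fin n) (Fin n) K) := by
  classical
  let f : Module.End K (Fin n → K) := Matrix.toLinAlgEquiv' g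
  haveI : Module.Finite K[X] (Module.AEval' f) := Module.Finite.of_restrictScalars_finite K _ _
  have htors : Module.IsTorsion K[X] (Module.AEval' f) := Module.AEval.isTorsion_of_finiteDimensional K _ f
  obtain ⟨ι, hι, p, hp, e, ⟨E⟩⟩ := Module.equiv_directSum_of_isTorsion htors
  let N : ι → Type _ := fun i => K[X] ⧸ Ideal.span {p i ^ e i}
  let E' : Module.AEval' f ≃ₗ[K[X]] (∀ i, N i) := E.trans (DirectSum.linearEquivFunOnFintype K[X] ι _)
  let eK : (Fin n → K) ≃ₗ[K] (∀ i, N i) := (Module.AEval'.of f).trans (E'.restrictScalars K)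
  have hXv : ∀ v, eK (f v) = (X : K[X]) • eK v := fun v => by
    show E' (Module.AEval'.of f (f v)) = (X : K[X]) • E' (Module.AEval'.of f v)
    rw [← map_smul E', Module.AEval'.X_smul_of]
  -- cyclicity
  have hcyc : ∃ m : ∀ i, N i, ∀ x : ∀ i, N i, ∃ r : K[X], x = r • m := by
    by_cases hab : ∃ a b, a ≠ b ∧ Associated (p a) (p b) ∧ e a ≠ 0 ∧ e b ≠ 0
    · exfalso
      obtain ⟨a, b, hne, has, hea, heb⟩ := hab
      let w : N b := Ideal.Quotient.mk _ (p b ^ (e b - 1))
      have hw : w ≠ 0 := by
        intro h0
        rw [Ideal.Quotient.eq_zero_iff_mem, Ideal.mem_span_singleton] at h0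
        have := (pow_dvd_pow_iff (hp b).ne_zero (hp b).not_isUnit).1 h0
        omega
      have hkill : (p a ^ e a) • w = 0 := by
        show Ideal.Quotient.mk _ (p a ^ e a * p b ^ (e b - 1)) = 0
        rw [Ideal.Quotient.eq_zero_iff_mem, Ideal.mem_span_singleton]
        obtain ⟨d, hd⟩ := Nat.exists_eq_succ_of_ne_zero hea
        rw [hd, show p b ^ e b = p b * p b ^ (e b - 1) by rw [← pow_succ', Nat.sub_add_cancel (Nat.pos_of_ne_zero heb)]]
        exact mul_dvd_mul_right (dvd_trans has.symm.dvd (dvd_pow_self _ (Nat.succ_ne_zero d))) _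
      let τ : N a →ₗ[K[X]] N b := Submodule.liftQ _ (LinearMap.toSpanSingleton K[X] (N b) w) (by
        rw [Ideal.span, Submodule.span_le, Set.singleton_subset_iff]
        exact hkill)
      let δ : (∀ i, N i) →ₗ[K] (∀ i, N i) :=
        ((LinearMap.single K[X] N b).comp (τ.comp (LinearMap.proj a))).restrictScalars K
      let Λ : ((∀ i, N i) × K) →ₗ[K] Module.End K (∀ i, N i) :=
        LinearMap.mk₂ K (fun y x => y.1 * x + y.2 • δ x)
          (fun y y' x => (congrArg₂ (· + ·) (add_mul y.1 y'.1 x) (add_smul y.2 y'.2 (δ x))).trans (add_add_add_comm _ _ _ _))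
          (fun c y x => (congrArg₂ (· + ·) (smul_mul_assoc c y.1 x) (smul_assoc c y.2 (δ x))).trans (smul_add c _ _).symm)
          (fun y x x' => (congrArg₂ (· + ·) (mul_add y.1 x x') ((congrArg (y.2 • ·) (map_add δ x x')).trans (smul_add _ _ _))).trans (add_add_add_comm _ _ _ _))
          (fun c y x => (congrArg₂ (· + ·) (mul_smul_comm c y.1 x) ((congrArg (y.2 • ·) (map_smul δ c x)).trans (smul_comm _ _ _))).trans (smul_add c _ _).symm)
      have hΛX : ∀ y x, Λ y ((X : K[X]) • x) = (X : K[X]) • Λ y x := fun y x => by
        show y.1 * ((X : K[X]) • x) + y.2 • δ ((X : K[X]) • x) = (X : K[X]) • (y.1 * x + y.2 • δ x)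
        have h1 : δ ((X : K[X]) • x) = (X : K[X]) • δ x :=
          ((LinearMap.single K[X] N b).comp (τ.comp (LinearMap.proj a))).map_smul X x
        rw [h1, smul_add, mul_smul_comm, smul_comm y.2 (X : K[X])]
      have hΛinj : Function.Injective Λ := by
        refine (injective_iff_map_eq_zero Λ).2 ?_
        rintro ⟨y, c⟩ hy
        have hval : ∀ i j, (y * Pi.single (M := N) i 1 + c • δ (Pi.single i 1)) j = 0 := fun i j =>
          congrFun (LinearMap.congr_fun hy (Pi.single i 1)) j
        have hδ : ∀ i, δ (Pi.single (M := N) i 1) = Pi.single b (τ (Pi.single (M := N) i 1 a)) := fun i => rfl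
        have hτ1 : τ 1 = w := by
          show LinearMap.toSpanSingleton K[X] (N b) w 1 = w
          simp
        have hc : c = 0 := by
          have := hval a b
          rw [hδ, Pi.add_apply, Pi.mul_apply, Pi.smul_apply, Pi.single_eq_same, Pi.single_eq_same,
            Pi.single_eq_of_ne hne.symm, mul_zero, zero_add, hτ1] at this
          exact (smul_eq_zero.1 this).resolve_right hw
        subst hc
        refine Prod.ext (funext fun i => ?_) rfl
        have := hval i i
        simpa using this
      let Θ : ((∀ i, N i) × K) →ₗ[K] Subalgebra.centralizer K ({g} : Set (Matrix (Fin n) (Fin n) K)) :=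
        LinearMap.codRestrict (Subalgebra.toSubmodule (Subalgebra.centralizer K ({g} : Set (Matrix (Fin n) (Fin n) K))))
          ((Matrix.toLinAlgEquiv' (R := K) (n := Fin n)).symm.toLinearMap ∘ₗ eK.symm.conj.toLinearMap ∘ₗ Λ)
          (fun y => by
            rw [Subalgebra.mem_toSubmodule, Subalgebra.mem_centralizer_iff]
            rintro _ rfl
            apply (Matrix.toLinAlgEquiv' (R := K) (n := Fin n)).injective
            rw [map_mul, map_mul]
            simp only [LinearMap.comp_apply, LinearEquiv.coe_coe, AlgEquiv.toLinearMap_apply, AlgEquiv.apply_symm_apply]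
            refine LinearMap.ext fun v => ?_
            show f (eK.symm (Λ y (eK v))) = eK.symm (Λ y (eK (f v)))
            apply eK.injective
            rw [hXv, LinearEquiv.apply_symm_apply, LinearEquiv.apply_symm_apply, hXv, hΛX])
      have hΘ : Function.Injective Θ := fun y y' hyy => hΛinj (eK.symm.conj.injective
        ((Matrix.toLinAlgEquiv' (R := K) (n := Fin n)).symm.injective (congrArg Subtype.val hyy)))
      haveI : Module.Finite K (∀ i, N i) := Module.Finite.equiv eK
      have := LinearMap.finrank_le_finrank_of_injective hΘ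
      rw [h, Module.finrank_prod, ← eK.finrank_eq, Module.finrank_fin_fun, Module.finrank_self] at this
      omega
    · refine ⟨1, fun x => ?_⟩
      obtain ⟨r, hr⟩ := Ideal.pi_quotient_surjective (I := fun i => Ideal.span {p i ^ e i}) (by
        intro i j hij
        rw [Function.onFun, Ideal.isCoprime_span_singleton_iff]
        rcases Nat.eq_zero_or_pos (e i) with hi | hi
        · rw [hi, pow_zero]; exact isCoprime_one_left
        rcases Nat.eq_zero_or_pos (e j) with hj | hj
        · rw [hj, pow_zero]; exact isCoprime_one_right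
        refine IsCoprime.pow ((hp i).coprime_iff_not_dvd.2 fun hdvd => hab ⟨i, j, hij, ?_, hi.ne', hj.ne'⟩)
        exact (hp i).associated_of_dvd (hp j) hdvd) x
      exact ⟨r, funext fun i => by rw [← hr i, Pi.smul_apply, Pi.one_apply]; exact (Algebra.algebraMap_eq_smul_one r).trans rfl⟩
  obtain ⟨m, hm⟩ := hcyc
  rcases Nat.eq_zero_or_pos n with rfl | hn
  · exact ⟨0, isUnit_of_subsingleton _⟩
  refine ⟨eK.symm m, ?_⟩
  set e₀ := eK.symm m
  rw [← Matrix.linearIndependent_cols_iff_isUnit]
  refine linearIndependent_of_top_le_span_of_card_eq_finrank ?_ (by simp)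
  rintro v -
  obtain ⟨r, hr⟩ := hm (eK v)
  have hv : v = ((r %ₘ g.charpoly).aeval g).mulVec e₀ := by
    have h1 : v = (r.aeval f) e₀ := by
      apply (Module.AEval'.of f).injective
      apply E'.injective
      show eK v = E' (Module.AEval.of K _ f ((aeval f r) • e₀))
      rw [Module.AEval.of_aeval_smul, map_smul, hr]
      show r • m = r • eK e₀
      rw [LinearEquiv.apply_symm_apply]
    rw [h1, show aeval f r = Matrix.toLinAlgEquiv' (aeval g r) from aeval_algHom_apply _ g r,
      Matrix.toLinAlgEquiv'_apply]
    congr 1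
    conv_lhs => rw [← Polynomial.modByMonic_add_div r g.charpoly]
    rw [map_add, map_mul, Matrix.aeval_self_charpoly, zero_mul, add_zero]
  rw [hv, aeval_eq_sum_range' (n := n) ?_, Matrix.sum_mulVec]
  · refine Submodule.sum_mem _ fun i hi => ?_
    rw [Matrix.smul_mulVec]
    exact Submodule.smul_mem _ _ (Submodule.subset_span ⟨⟨i, Finset.mem_range.1 hi⟩, rfl⟩)
  · haveI : Nonempty (Fin n) := ⟨⟨0, hn⟩⟩
    have h1 := Polynomial.degree_modByMonic_lt r g.charpoly_monic
    rw [Matrix.charpoly_degree_eq_dim, Fintype.card_fin] at h1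
    by_cases h0 : r %ₘ g.charpoly = 0
    · rw [h0, natDegree_zero]; exact hn
    · exact (natDegree_lt_iff_degree_lt h0).2 h1

theorem eq_sum_of_commute {B : Type*} [CommRing B] {n : ℕ} (g x : Matrix (Fin n) (Fin n) B) (e : Fin n → B)
    (hC : IsUnit (Matrix.of fun i j => ((g ^ (j : ℕ)).mulVec e) i : Matrix (Fin n) (Fin n) B)) (hx : Commute x g) :
    ∃ a : Fin n → B, x = ∑ i : Fin n, a i • g ^ (i : ℕ) := by
  set C : Matrix (Fin n) (Fin n) B := Matrix.of fun i j => ((g ^ (j : ℕ)).mulVec e) i with hCdef
  obtain ⟨a, ha⟩ := (Matrix.mulVec_surjective_iff_isUnit.2 hC) (x.mulVec e)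
  refine ⟨a, ?_⟩
  set P := ∑ i : Fin n, a i • g ^ (i : ℕ) with hP
  have hPe : P.mulVec e = x.mulVec e := by
    rw [← ha, hP, Matrix.sum_mulVec]
    funext k
    rw [Finset.sum_apply, Matrix.mulVec, dotProduct]
    refine Finset.sum_congr rfl fun i _ => ?_
    rw [Matrix.smul_mulVec, Pi.smul_apply, smul_eq_mul, mul_comm]
    rfl
  have hPg : Commute P g :=
    Commute.sum_left _ _ _ fun i _ => ((Commute.refl g).pow_left (i : ℕ)).smul_left _
  refine hC.mul_right_cancel (Matrix.ext fun i j => ?_)
  show (x.mulVec ((g ^ (j : ℕ)).mulVec e)) i = (P.mulVec ((g ^ (j : ℕ)).mulVec e)) i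
  rw [Matrix.mulVec_mulVec, Matrix.mulVec_mulVec, (hx.pow_right _).eq, (hPg.pow_right _).eq, ← Matrix.mulVec_mulVec,
    ← Matrix.mulVec_mulVec, hPe]

/-- General linear group case: this is the case G = GL_n (its derived group SL_n is simply connected and
every prime is good for it, so the hypotheses on the fundamental group and on the characteristic
that the general statement needs hold over every base, and strong regularity is regularity). Let A
be a commutative ring and g an n × n matrix over A — a section of GL_n when invertible, or of its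
Lie algebra gl_n = M_n in general, the centralizer being in both cases the invertible matrices
commuting with g — which is fiberwise regular, i.e. at every field-valued point A → K the commutant
of g_K in M_n(K) has dimension n, the rank of GL_n. Then the centralizer of g in GL_n is
commutative: for every commutative A-algebra B and all invertible x, y ∈ M_n(B) commuting with g_B,
x y = y x. -/
theorem result (A : Type u) [CommRing A] (n : ℕ)
    (g : Matrix (Fin n) (Fin n) A)
    (hreg : ∀ (K : Type u) [Field K] (φ : A →+* K),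
      Module.finrank K (Subalgebra.centralizer K ({g.map φ} : Set (Matrix (Fin n) (Fin n) K))) = n)
    (B : Type u) [CommRing B] [Algebra A B] (x y : Matrix (Fin n) (Fin n) B) (hx : IsUnit x) (hy : IsUnit y)
    (hxg : x * g.map (algebraMap A B) = g.map (algebraMap A B) * x)
    (hyg : y * g.map (algebraMap A B) = g.map (algebraMap A B) * y) :
    x * y = y * x := by
  classical
  refine Matrix.ext fun i j => MaximalSpectrum.toPiLocalization_injective B (funext fun M => ?_)
  let S := Localization.AtPrime M.asIdeal
  let π := algebraMap B S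
  let k := IsLocalRing.ResidueField S
  let φ : A →+* k := ((IsLocalRing.residue S).comp π).comp (algebraMap A B)
  obtain ⟨e₀, he₀⟩ := exists_cyclic (g.map φ) (hreg k φ)
  choose e he using fun i => IsLocalRing.residue_surjective (R := S) (e₀ i)
  set G := (g.map (algebraMap A B)).map π with hG
  have hmap : g.map φ = (IsLocalRing.residue S).mapMatrix G := by
    ext a b; rfl
  set C : Matrix (Fin n) (Fin n) S := Matrix.of fun i j => ((G ^ (j : ℕ)).mulVec e) i with hCdef
  have hC : IsUnit C := by
    rw [Matrix.isUnit_iff_isUnit_det]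
    refine isUnit_of_map_unit (IsLocalRing.residue S) _ ?_
    rw [RingHom.map_det, ← Matrix.isUnit_iff_isUnit_det]
    convert he₀ using 1
    ext a b
    show IsLocalRing.residue S (((G ^ (b : ℕ)).mulVec e) a) = _
    rw [RingHom.map_mulVec, Matrix.of_apply, hmap, ← map_pow]
    congr 2
    exact funext he
  have hxG : Commute (π.mapMatrix x) G := by
    show π.mapMatrix x * π.mapMatrix (g.map (algebraMap A B)) = π.mapMatrix (g.map (algebraMap A B)) * π.mapMatrix x
    rw [← map_mul, ← map_mul, hxg]
  have hyG : Commute (π.mapMatrix y) G := by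
    show π.mapMatrix y * π.mapMatrix (g.map (algebraMap A B)) = π.mapMatrix (g.map (algebraMap A B)) * π.mapMatrix y
    rw [← map_mul, ← map_mul, hyg]
  obtain ⟨a, ha⟩ := eq_sum_of_commute G _ e hC hxG
  have hcomm : Commute (π.mapMatrix x) (π.mapMatrix y) := by
    rw [ha]
    exact Commute.sum_left _ _ _ fun i _ => ((hyG.symm).pow_left (i : ℕ)).smul_left _
  show π ((x * y) i j) = π ((y * x) i j)
  have h := congrFun (congrFun hcomm.eq i) j
  rw [← map_mul, ← map_mul] at h
  exact h

end Groth.Agent.S15842
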