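import Groth.Statements.S15843
import Mathlib
import Groth.Agent.S15842
-- import your own Groth.Agent.* helpers here

set_option autoImplicit false
universe u
open SprIso

namespace Groth.Agent.S15843

/-- Matrix of `X ↦ X g - g X`. -/
def adMat {R : Type*} [CommRing R] {n : ℕ} (g : Matrix (Fin n) (Fin n) R) :
    Matrix (Fin n × Fin n) (Fin n × Fin n) R :=
  Matrix.of fun ij kl => (if ij.1 = kl.1 then g kl.2 ij.2 else 0) - (if kl.2 = ij.2 then g ij.1 kl.1 else 0)

theorem adMat_mulVec {R : Type*} [CommRing R] {n : ℕ} (g X : Matrix (Fin n) (Fin n) R) :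
    (adMat g).mulVec (fun ij => X ij.1 ij.2) = fun ij => (X * g - g * X) ij.1 ij.2 := by
  funext ij
  simp only [Matrix.mulVec, dotProduct, adMat, Matrix.of_apply, sub_mul, Finset.sum_sub_distrib,
    Fintype.sum_prod_type, ite_mul, zero_mul, Matrix.sub_apply, Matrix.mul_apply]
  congr 1
  · rw [Finset.sum_comm]
    simp [mul_comm]
  · simp

theorem adMat_map {R S : Type*} [CommRing R] [CommRing S] (φ : R →+* S) {n : ℕ} (g : Matrix (Fin n) (Fin n) R) :
    adMat (g.map φ) = (adMat g).map φ := by
  ext ij kl
  simp only [adMat, Matrix.map_apply, Matrix.of_apply, map_sub, apply_ite φ, map_zero]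

/-- With a cyclic vector the commutator map is von Neumann regular. -/
theorem exists_regular_inverse {R : Type*} [CommRing R] {n : ℕ} (g : Matrix (Fin n) (Fin n) R) (e : Fin n → R)
    (hC : IsUnit (Matrix.of fun i j => ((g ^ (j : ℕ)).mulVec e) i : Matrix (Fin n) (Fin n) R)) :
    ∃ H : Matrix (Fin n × Fin n) (Fin n × Fin n) R, adMat g * H * adMat g = adMat g := by
  classical
  set C : Matrix (Fin n) (Fin n) R := Matrix.of fun i j => ((g ^ (j : ℕ)).mulVec e) i with hCdef
  let W : ((Fin n × Fin n) → R) →ₗ[R] ((Fin n × Fin n) → R) :=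
    { toFun := fun y ij => ((Matrix.of fun a (j : Fin n) =>
        ((∑ i ∈ Finset.range (j : ℕ), g ^ i * (Matrix.of fun p q => y (p, q)) * g ^ ((j : ℕ) - 1 - i)).mulVec e) a)
          * C⁻¹) ij.1 ij.2
      map_add' := fun y z => by
        funext ij
        have : (Matrix.of fun p q => y (p, q) + z (p, q) : Matrix (Fin n) (Fin n) R) =
            (Matrix.of fun p q => y (p, q)) + Matrix.of fun p q => z (p, q) := rfl
        simp only [Pi.add_apply, this, mul_add, add_mul, Finset.sum_add_distrib, Matrix.add_mulVec, Matrix.mul_apply, Matrix.of_apply]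
      map_smul' := fun c y => by
        funext ij
        have : (Matrix.of fun p q => c • y (p, q) : Matrix (Fin n) (Fin n) R) =
            c • (Matrix.of fun p q => y (p, q)) := rfl
        simp only [Pi.smul_apply, RingHom.id_apply, this, mul_smul_comm, smul_mul_assoc, ← Finset.smul_sum,
          Matrix.smul_mulVec, Matrix.mul_apply, Matrix.of_apply] }
  refine ⟨LinearMap.toMatrix' W, ?_⟩
  apply Matrix.toLin'.injective
  refine LinearMap.ext fun v => ?_
  rw [Matrix.toLin'_mul, Matrix.toLin'_mul, Matrix.toLin'_toMatrix', LinearMap.comp_apply, LinearMap.comp_apply,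
    Matrix.toLin'_apply, Matrix.toLin'_apply]
  set X : Matrix (Fin n) (Fin n) R := Matrix.of fun p q => v (p, q) with hX
  have hv : v = fun ij : Fin n × Fin n => X ij.1 ij.2 := rfl
  set a := C⁻¹.mulVec (X.mulVec e) with ha
  set P := ∑ i : Fin n, a i • g ^ (i : ℕ) with hP
  have hdet : IsUnit C.det := (Matrix.isUnit_iff_isUnit_det C).1 hC
  have hPe : P.mulVec e = X.mulVec e := by
    have hCa : C.mulVec a = X.mulVec e := by
      rw [ha, Matrix.mulVec_mulVec, Matrix.mul_nonsing_inv _ hdet, Matrix.one_mulVec]
    rw [← hCa, hP, Matrix.sum_mulVec]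
    funext l
    rw [Finset.sum_apply, Matrix.mulVec, dotProduct]
    refine Finset.sum_congr rfl fun i _ => ?_
    rw [Matrix.smul_mulVec, Pi.smul_apply, smul_eq_mul, mul_comm]
    rfl
  have hPg : Commute P g :=
    Commute.sum_left _ _ _ fun i _ => ((Commute.refl g).pow_left (i : ℕ)).smul_left _
  set Z := X - P with hZ
  have hZe : Z.mulVec e = 0 := by rw [hZ, Matrix.sub_mulVec, hPe, sub_self]
  have hZad : Z * g - g * Z = X * g - g * X := by
    rw [hZ, sub_mul, mul_sub, hPg.eq]; abel
  set Y := X * g - g * X with hY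
  have tel : ∀ j : ℕ, Z * g ^ j - g ^ j * Z = ∑ i ∈ Finset.range j, g ^ i * Y * g ^ (j - 1 - i) := by
    intro j
    induction j with
    | zero => simp
    | succ j ih =>
      have h1 : Z * g ^ (j + 1) - g ^ (j + 1) * Z = (Z * g ^ j - g ^ j * Z) * g + g ^ j * (Z * g - g * Z) := by
        rw [pow_succ]; noncomm_ring
      rw [h1, ih, hZad, Finset.sum_mul, Finset.sum_range_succ, Nat.add_sub_cancel, Nat.sub_self, pow_zero, mul_one]
      congr 1
      refine Finset.sum_congr rfl fun i hi => ?_
      rw [Finset.mem_range] at hi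
      rw [mul_assoc, ← pow_succ, show j - 1 - i + 1 = j - i by omega]
  rw [hv, adMat_mulVec]
  have hW : W (fun ij => Y ij.1 ij.2) = fun ij => Z ij.1 ij.2 := by
    funext ij
    show ((Matrix.of fun a (j : Fin n) =>
        ((∑ i ∈ Finset.range (j : ℕ), g ^ i * (Matrix.of fun p q => Y p q) * g ^ ((j : ℕ) - 1 - i)).mulVec e) a)
          * C⁻¹) ij.1 ij.2 = Z ij.1 ij.2
    have : (Matrix.of fun a (j : Fin n) =>
        ((∑ i ∈ Finset.range (j : ℕ), g ^ i * (Matrix.of fun p q => Y p q) * g ^ ((j : ℕ) - 1 - i)).mulVec e) a) = Z * C := by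
      refine Matrix.ext fun a j => ?_
      rw [Matrix.of_apply, show (Matrix.of fun p q => Y p q : Matrix (Fin n) (Fin n) R) = Y from rfl, ← tel,
        Matrix.sub_mulVec, ← Matrix.mulVec_mulVec, ← Matrix.mulVec_mulVec, hZe, Matrix.mulVec_zero, sub_zero]
      rfl
    rw [this, Matrix.mul_assoc, Matrix.mul_nonsing_inv _ hdet, Matrix.mul_one]
  rw [hW, adMat_mulVec, hZad]

/-- The flatness assertion, for a section of the group and equally for a section of its Lie algebra, in
the case G = GL_n (its derived group SL_n is simply connected and every prime is good for it, so the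
hypotheses on the fundamental group and on the characteristic that the general statement needs hold
over every base, and strong regularity is regularity). Let A be a commutative ring and g an n × n
matrix over A — a section of GL_n when invertible, of its Lie algebra gl_n in general; in both cases
the centralizer in GL_n is the scheme of invertible matrices commuting with g — which is fiberwise
regular (at every field-valued point A → K the commutant of g_K in M_n(K) has dimension n). Then the
centralizer Z_{GL_n}(g) is flat over A; concretely, with X the generic n × n matrix over A[x_ij],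
the ring obtained from A[x_ij] by dividing by the entries of X g − g X and inverting det X is a flat
A-module. -/
theorem result (A : Type u) [CommRing A] (n : ℕ)
    (g : Matrix (Fin n) (Fin n) A)
    (hreg : ∀ (K : Type u) [Field K] (φ : A →+* K),
      Module.finrank K (Subalgebra.centralizer K ({g.map φ} : Set (Matrix (Fin n) (Fin n) K))) = n) :
    Module.Flat A (Localization.Away
      (Ideal.Quotient.mk (Ideal.span (Set.range fun ij : Fin n × Fin n =>
        (Matrix.mvPolynomialX (Fin n) (Fin n) A * g.map MvPolynomial.C -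
          g.map MvPolynomial.C * Matrix.mvPolynomialX (Fin n) (Fin n) A :
            Matrix (Fin n) (Fin n) (MvPolynomial (Fin n × Fin n) A)) ij.1 ij.2))
        (Matrix.mvPolynomialX (Fin n) (Fin n) A).det)) := by
  classical
  set D := adMat g with hD
  let I : Ideal A :=
    { carrier := {s | ∃ H : Matrix (Fin n × Fin n) (Fin n × Fin n) A, D * H * D = s • D}
      zero_mem' := ⟨0, by simp⟩
      add_mem' := fun {a b} ⟨H, hH⟩ ⟨K, hK⟩ => ⟨H + K, by rw [mul_add, add_mul, hH, hK, add_smul]⟩
      smul_mem' := fun c a ⟨H, hH⟩ => ⟨c • H, by rw [mul_smul_comm, smul_mul_assoc, hH, smul_smul]; rfl⟩ }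
  have hI : I = ⊤ := by
    by_contra hne
    obtain ⟨m, hm, hIm⟩ := Ideal.exists_le_maximal I hne
    let S := Localization.AtPrime m
    let π := algebraMap A S
    let k := IsLocalRing.ResidueField S
    let φ : A →+* k := (IsLocalRing.residue S).comp π
    obtain ⟨e₀, he₀⟩ := S15842.exists_cyclic (g.map φ) (hreg k φ)
    choose e he using fun i => IsLocalRing.residue_surjective (R := S) (e₀ i)
    have hC : IsUnit (Matrix.of fun i j => (((g.map π) ^ (j : ℕ)).mulVec e) i : Matrix (Fin n) (Fin n) S) := by
      rw [Matrix.isUnit_iff_isUnit_det]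
      refine isUnit_of_map_unit (IsLocalRing.residue S) _ ?_
      rw [RingHom.map_det, ← Matrix.isUnit_iff_isUnit_det]
      convert he₀ using 1
      ext a b
      show IsLocalRing.residue S ((((g.map π) ^ (b : ℕ)).mulVec e) a) = _
      rw [RingHom.map_mulVec, Matrix.of_apply, show g.map φ = (IsLocalRing.residue S).mapMatrix (g.map π) from rfl,
        ← map_pow]
      congr 2
      exact funext he
    obtain ⟨H, hH⟩ := exists_regular_inverse (g.map π) e hC
    obtain ⟨⟨b, hb⟩, hbH⟩ := IsLocalization.exist_integer_multiples_of_finite m.primeCompl (fun p : (Fin n × Fin n) × (Fin n × Fin n) => H p.1 p.2)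
    choose H₀ hH₀ using hbH
    let H' : Matrix (Fin n × Fin n) (Fin n × Fin n) A := Matrix.of fun i j => H₀ (i, j)
    have h1 : (D * H' * D).map π = (b • D).map π := by
      have hH' : H'.map π = π b • H := by
        refine Matrix.ext fun i j => ?_
        rw [Matrix.map_apply, Matrix.smul_apply]
        exact (hH₀ (i, j)).trans (by rw [Algebra.smul_def]; rfl)
      rw [Matrix.map_mul, Matrix.map_mul, hH', ← adMat_map, mul_smul_comm, smul_mul_assoc, hH, adMat_map]
      ext i j
      simp [hD]
    have h2 : ∀ p : (Fin n × Fin n) × (Fin n × Fin n), ∃ c : m.primeCompl,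
        (c : A) * (D * H' * D) p.1 p.2 = c * (b • D) p.1 p.2 := fun p =>
      (IsLocalization.eq_iff_exists m.primeCompl S).1 (congrFun (congrFun h1 p.1) p.2)
    choose c hc using h2
    have hmem : (∏ p, (c p : A)) * b ∈ I := by
      refine ⟨(∏ p, (c p : A)) • H', Matrix.ext fun i j => ?_⟩
      rw [mul_smul_comm, smul_mul_assoc, Matrix.smul_apply, smul_eq_mul, ← Finset.mul_prod_erase _ _ (Finset.mem_univ (i, j)),
        mul_right_comm, hc (i, j), Matrix.smul_apply, Matrix.smul_apply, smul_eq_mul, smul_eq_mul]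
      ring
    have hnot : (∏ p, (c p : A)) * b ∉ m := by
      refine fun h => (hm.isPrime.mem_or_mem h).elim (fun h' => ?_) hb
      obtain ⟨p, -, hp⟩ := hm.isPrime.prod_mem_iff.1 h'
      exact (c p).2 hp
    exact hnot (hIm hmem)
  obtain ⟨H, hH⟩ : (1 : A) ∈ I := hI ▸ trivial
  rw [one_smul] at hH
  set G : Matrix (Fin n) (Fin n) (MvPolynomial (Fin n × Fin n) A) := g.map MvPolynomial.C with hG
  set XX := Matrix.mvPolynomialX (Fin n) (Fin n) A with hXX
  set J := Ideal.span (Set.range fun ij : Fin n × Fin n => (XX * G - G * XX : Matrix (Fin n) (Fin n) (MvPolynomial (Fin n × Fin n) A)) ij.1 ij.2)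
  let xv : Fin n × Fin n → (MvPolynomial (Fin n × Fin n) A) := fun ij => MvPolynomial.X ij
  let DP := D.map (MvPolynomial.C : A →+* (MvPolynomial (Fin n × Fin n) A))
  let HP := H.map (MvPolynomial.C : A →+* (MvPolynomial (Fin n × Fin n) A))
  have hgen : (fun ij : Fin n × Fin n => (XX * G - G * XX : Matrix (Fin n) (Fin n) (MvPolynomial (Fin n × Fin n) A)) ij.1 ij.2) = DP.mulVec xv := by
    rw [show DP = adMat G from (adMat_map MvPolynomial.C g).symm]
    exact (adMat_mulVec G XX).symm
  let φ : (MvPolynomial (Fin n × Fin n) A) →ₐ[A] (MvPolynomial (Fin n × Fin n) A) := MvPolynomial.aeval (xv - HP.mulVec (DP.mulVec xv))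
  have hφ : ∀ ij, φ (DP.mulVec xv ij) = 0 := by
    intro ij
    have h1 : φ (DP.mulVec xv ij) = DP.mulVec (xv - HP.mulVec (DP.mulVec xv)) ij := by
      simp only [Matrix.mulVec, dotProduct, map_sum, map_mul, DP, Matrix.map_apply, xv, φ, MvPolynomial.aeval_C,
        MvPolynomial.aeval_X, MvPolynomial.algebraMap_eq]
    rw [h1, Matrix.mulVec_sub, Matrix.mulVec_mulVec, Matrix.mulVec_mulVec,
      show DP * HP * DP = (D * H * D).map MvPolynomial.C by rw [Matrix.map_mul, Matrix.map_mul], hH, sub_self]
    rfl
  have hJ : ∀ a ∈ J, φ a = 0 := by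
    intro a ha
    have : J ≤ RingHom.ker φ := by
      refine Ideal.span_le.2 ?_
      rw [hgen]
      rintro _ ⟨ij, rfl⟩
      exact hφ ij
    exact this ha
  have hcomp : (Ideal.Quotient.mkₐ A J).comp φ = Ideal.Quotient.mkₐ A J := by
    refine MvPolynomial.algHom_ext fun ij => ?_
    show Ideal.Quotient.mk J (φ (MvPolynomial.X ij)) = Ideal.Quotient.mk J (MvPolynomial.X ij)
    rw [Ideal.Quotient.eq]
    have : φ (MvPolynomial.X ij) - MvPolynomial.X ij = -(HP.mulVec (DP.mulVec xv) ij) := by simp [φ, xv]
    rw [this]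
    refine J.neg_mem (J.sum_mem fun kl _ => J.mul_mem_left _ ?_)
    rw [← hgen]
    exact Ideal.subset_span ⟨kl, rfl⟩
  haveI : Module.Flat A ((MvPolynomial (Fin n × Fin n) A) ⧸ J) := Module.Flat.of_retract (Ideal.Quotient.liftₐ J φ hJ).toLinearMap
    (Ideal.Quotient.mkₐ A J).toLinearMap (LinearMap.ext fun z => by
      obtain ⟨z, rfl⟩ := Ideal.Quotient.mk_surjective z
      exact AlgHom.congr_fun hcomp z)
  exact Module.Flat.trans A ((MvPolynomial (Fin n × Fin n) A) ⧸ J) _

end Groth.Agent.S15843
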