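import Groth.Statements.S15845
import Mathlib
-- import your own Groth.Agent.* helpers here

set_option autoImplicit false
universe u
open SprIso

namespace Groth.Agent.S15845

/-- General linear group case: this is the case G = GL_n with its upper-triangular Borel subgroup B
(derived group SL_n simply connected, all primes good, so the hypotheses on the characteristic
hold), together with the companion statement for a regular nilpotent element of Lie B. Let k be a
field and u an n × n upper-triangular matrix over k whose diagonal entries are all equal and whose
superdiagonal entries u_{i,i+1} are all non-zero — for diagonal 1 this is a regular unipotent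
element of B(k), for diagonal 0 a regular nilpotent element of Lie B. Then the centralizer of u in
GL_n is contained in B and is the product of the centre with the centralizer in the unipotent
radical: for every commutative k-algebra R and every invertible x ∈ M_n(R) commuting with u_R, x is
upper triangular and its diagonal entries are all equal. (The smoothness of the centralizer in the
unipotent radical, also part of the published statement, is not stated here.) -/
theorem result (k : Type u) [Field k] (n : ℕ)
    (u : Matrix (Fin n) (Fin n) k) (htri : ∀ i j : Fin n, j < i → u i j = 0) (hdiag : ∀ i j : Fin n, u i i = u j j)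
    (hreg : ∀ (i j : Fin n), j.val = i.val + 1 → u i j ≠ 0)
    (R : Type u) [CommRing R] [Algebra k R] (x : Matrix (Fin n) (Fin n) R) (hx : IsUnit x)
    (hxu : x * u.map (algebraMap k R) = u.map (algebraMap k R) * x) :
    (∀ i j : Fin n, j < i → x i j = 0) ∧ (∀ i j : Fin n, x i i = x j j) := by
  classical
  let U : Fin n → Fin n → R := fun i j => algebraMap k R (u i j)
  have hU0 : ∀ i j, j < i → U i j = 0 := fun i j h => by simp [U, htri i j h]
  have hrel : ∀ i j, ∑ l ∈ Finset.univ.filter (fun l => l < j), x i l * U l j = ∑ l ∈ Finset.univ.filter (fun l => i < l), U i l * x l j := by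
    intro i j
    have h := congrFun (congrFun hxu i) j
    simp only [Matrix.mul_apply, Matrix.map_apply] at h
    have h1 : ∑ l, x i l * U l j = (∑ l ∈ Finset.univ.filter (fun l => l < j), x i l * U l j) + x i j * U j j := by
      rw [← Finset.add_sum_erase _ _ (Finset.mem_univ j), add_comm]
      congr 1
      symm
      refine Finset.sum_subset (fun l hl => Finset.mem_erase.2 ⟨(Finset.mem_filter.1 hl).2.ne, Finset.mem_univ l⟩) fun l hl hl' => ?_
      have hne := Finset.ne_of_mem_erase hl
      have : j < l := lt_of_le_of_ne (not_lt.1 fun h => hl' (Finset.mem_filter.2 ⟨Finset.mem_univ l, h⟩)) hne.symm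
      rw [hU0 l j this, mul_zero]
    have h2 : ∑ l, U i l * x l j = (∑ l ∈ Finset.univ.filter (fun l => i < l), U i l * x l j) + U i i * x i j := by
      rw [← Finset.add_sum_erase _ _ (Finset.mem_univ i), add_comm]
      congr 1
      symm
      refine Finset.sum_subset (fun l hl => Finset.mem_erase.2 ⟨(Finset.mem_filter.1 hl).2.ne', Finset.mem_univ l⟩) fun l hl hl' => ?_
      have hne := Finset.ne_of_mem_erase hl
      have : l < i := lt_of_le_of_ne (not_lt.1 fun h => hl' (Finset.mem_filter.2 ⟨Finset.mem_univ l, h⟩)) hne
      rw [hU0 i l this, zero_mul]
    have hc : U j j = U i i := congrArg (algebraMap k R) (hdiag j i)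
    change ∑ l, x i l * U l j = ∑ l, U i l * x l j at h
    rw [h1, h2, hc, mul_comm (x i j)] at h
    exact add_right_cancel h
  have hunit : ∀ i j : Fin n, j.val = i.val + 1 → IsUnit (U i j) := fun i j h => (IsUnit.mk0 _ (hreg i j h)).map _
  have hzero : ∀ (jv : ℕ) (s : ℕ) (i j : Fin n), j.val = jv → n - i.val = s → j < i → x i j = 0 := by
    intro jv
    induction jv using Nat.strong_induction_on with
    | _ jv ihj =>
      intro s
      induction s using Nat.strong_induction_on with
      | _ s ihs =>
        intro i j hj hs hji
        have hiv : j.val < i.val := hji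
        let i' : Fin n := ⟨i.val - 1, by omega⟩
        have h := hrel i' j
        rw [Finset.sum_eq_zero (fun l hl => by
          have hl' : l.val < j.val := (Finset.mem_filter.1 hl).2
          rw [ihj l.val (by omega) _ i' l rfl rfl (show l.val < i.val - 1 by omega), zero_mul]),
          Finset.sum_eq_single i] at h
        · exact (hunit i' i (show i.val = i.val - 1 + 1 by omega)).mul_right_eq_zero.1 h.symm
        · intro l hl hne
          have hl' : i.val - 1 < l.val := (Finset.mem_filter.1 hl).2
          have hne' : l.val ≠ i.val := fun e => hne (Fin.ext e)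
          rw [ihs (n - l.val) (by omega) l j hj rfl (show j.val < l.val by omega), mul_zero]
        · intro hni
          exact absurd (Finset.mem_filter.2 ⟨Finset.mem_univ i, show i.val - 1 < i.val by omega⟩) hni
  have hz : ∀ i j : Fin n, j < i → x i j = 0 := fun i j h => hzero _ _ i j rfl rfl h
  have hsucc : ∀ i j : Fin n, j.val = i.val + 1 → x i i = x j j := by
    intro i j h
    have h1 := hrel i j
    rw [Finset.sum_eq_single i, Finset.sum_eq_single j] at h1
    · exact (hunit i j h).mul_left_inj.1 (h1.trans (mul_comm _ _))
    · intro l hl hne
      have hl' : i.val < l.val := (Finset.mem_filter.1 hl).2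
      have hne' : l.val ≠ j.val := fun e => hne (Fin.ext e)
      rw [hz l j (show j.val < l.val by omega), mul_zero]
    · intro hni
      exact absurd (Finset.mem_filter.2 ⟨Finset.mem_univ j, show i.val < j.val by omega⟩) hni
    · intro l hl hne
      have hl' : l.val < j.val := (Finset.mem_filter.1 hl).2
      have hne' : l.val ≠ i.val := fun e => hne (Fin.ext e)
      rw [hz i l (show l.val < i.val by omega), zero_mul]
    · intro hni
      exact absurd (Finset.mem_filter.2 ⟨Finset.mem_univ i, show i.val < j.val by omega⟩) hni
  refine ⟨hz, fun i j => ?_⟩
  have hall : ∀ (a : ℕ) (ha : a < n), x ⟨a, ha⟩ ⟨a, ha⟩ = x ⟨0, by omega⟩ ⟨0, by omega⟩ := by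
    intro a
    induction a with
    | zero => intro ha; rfl
    | succ a ih => intro ha; rw [← ih (by omega)]; exact (hsucc ⟨a, by omega⟩ ⟨a + 1, ha⟩ rfl).symm
  exact (hall i.val i.isLt).trans (hall j.val j.isLt).symm

end Groth.Agent.S15845
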