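import Groth.Statements.S15883
import Groth.Agent.BMCoh.Clopen

set_option autoImplicit false
universe u
open CategoryTheory AlgebraicGeometry Opposite
open BMCoh

namespace Groth.Agent.S15883

/-- Let T be a twisted Borel–Moore cohomology theory with coefficients in A (a full subcategory of
R-modules containing R) on a constructible class V of Noetherian schemes, and let i_X : X → W and
i_Y : Y → W be morphisms of V — open immersions with dim X = dim W = dim Y — whose images are
complementary in W, so that W is the disjoint union of X and Y. Then for every coefficient module M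
and all integers i, n the map H^i(W, M(n)) → H^i(X, M(n)) × H^i(Y, M(n)) whose components are the
restriction maps along i_X and i_Y is bijective. -/
theorem result (V : ObjectProperty Scheme.{u}) [BMCoh.IsConstructible V] (R : Type u) [CommRing R] (A : BMCoh.Coefs R) (T : BMCoh.TheoryOn V R A) {X Y W : BMCoh.Obj V} (iX : X ⟶ W) (iY : Y ⟶ W) (h : Set.range iX.hom = (Set.range iY.hom)ᶜ) (M : A.Cat) (i n : ℤ) : Function.Bijective (fun a : T.gp W M i n => ((T.pull iX M i n).hom a, (T.pull iY M i n).hom a)) := by
  have h' : Set.range iY.hom = (Set.range iX.hom)ᶜ := by rw [h, compl_compl]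
  let D := Groth.Agent.BMCoh.clopenDecomp iX iY h'
  let D' := Groth.Agent.BMCoh.clopenDecomp iY iX h
  have : IsClosedImmersion iX.hom := D.closedImm
  have : IsClosedImmersion iY.hom := D'.closedImm
  have hx := Groth.Agent.BMCoh.relCodim_hom iX
  have hy := Groth.Agent.BMCoh.relCodim_hom iY
  have hd₁ : Disjoint (Set.range iY.hom) (Set.range iX.hom) := by
    rw [h']; exact disjoint_compl_left
  refine ⟨fun a b hab => ?_, fun ⟨p, q⟩ => ?_⟩
  · simp only [Prod.mk.injEq] at hab
    exact sub_eq_zero.mp (Groth.Agent.BMCoh.eq_zero_of_pull_two T.toPreTheory iX iY h' M i n _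
      (by rw [map_sub, hab.1, sub_self]) (by rw [map_sub, hab.2, sub_self]))
  · have hix : i = i + 2 * BMCoh.relCodim X.scheme W.scheme := by omega
    have hnx : n = n + BMCoh.relCodim X.scheme W.scheme := by omega
    have hiy : i = i + 2 * BMCoh.relCodim Y.scheme W.scheme := by omega
    have hny : n = n + BMCoh.relCodim Y.scheme W.scheme := by omega
    refine ⟨(T.push iX.hom M i n i n hix hnx).hom p + (T.push iY.hom M i n i n hiy hny).hom q, ?_⟩
    simp only [map_add, Prod.mk.injEq]
    constructor
    · rw [Groth.Agent.BMCoh.pull_push_self,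
        Groth.Agent.BMCoh.pull_push_disjoint T.toPreTheory iX iY hd₁.symm, add_zero]
    · rw [Groth.Agent.BMCoh.pull_push_self,
        Groth.Agent.BMCoh.pull_push_disjoint T.toPreTheory iY iX hd₁, zero_add]

end Groth.Agent.S15883
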