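import Groth.Statements.S15888
import Groth.Agent.BMCoh.ClosedSub

set_option autoImplicit false
universe u
open CategoryTheory AlgebraicGeometry Opposite
open BMCoh

namespace Groth.Agent.S15888

/-- Let T be a twisted Borel–Moore cohomology theory with coefficients in A on a constructible class V
of Noetherian schemes, X an object of V whose underlying scheme is integral, and f : U → X a
morphism of V (an open immersion with dim U = dim X) whose image is a big open subset: every point
of X outside the image has codimension at least 2 in X, that is, its closure has dimension less than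
dim X − 1. Then for every coefficient module M and every integer n the restriction map H^2(X, M(n))
→ H^2(U, M(n)) along f is bijective. (The published remark is made for the rank-one Tate-twisted
coefficients of an ℓ-adic theory; the exactness-and-vanishing argument it indicates involves neither
the coefficient module nor the twist, and the statement is made here for all of them.) -/
theorem result (V : ObjectProperty Scheme.{u}) [BMCoh.IsConstructible V] (R : Type u) [CommRing R] (A : BMCoh.Coefs R) (T : BMCoh.TheoryOn V R A) {U X : BMCoh.Obj V} [IsIntegral X.scheme] (f : U ⟶ X) (hbig : ∀ x : X.scheme, x ∉ Set.range f.hom → 2 ≤ WeilCoh.codim X.scheme x) (M : A.Cat) (n : ℤ) : Function.Bijective (T.pull f M 2 n).hom := by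
  let O := f.hom.opensRange
  have hO : BMCoh.ContainsFj X 1 O := fun y hy => by
    by_contra h
    have := hbig y h
    omega
  let O' := Groth.Agent.BMCoh.mkIdx X O hO
  let φ : U ⟶ X.res O :=
    ⟨IsOpenImmersion.lift O.ι f.hom (by simp [O]), by
      have : IsOpenImmersion (IsOpenImmersion.lift O.ι f.hom (by simp [O]) ≫ O.ι) := by
        rw [IsOpenImmersion.lift_fac]; infer_instance
      exact IsOpenImmersion.of_comp _ O.ι, f.dim_eq.trans O'.2.2.symm⟩
  have hφ : φ.hom = IsOpenImmersion.lift O.ι f.hom (by simp [O]) := rfl
  have hf : φ.hom ≫ O.ι = f.hom := IsOpenImmersion.lift_fac _ _ _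
  have : IsIso φ.hom := by
    rw [isIso_iff_isOpenImmersion_and_epi_base]
    refine ⟨inferInstance, ?_⟩
    rw [TopCat.epi_iff_surjective]
    rintro ⟨y, p, hp⟩
    refine ⟨p, Subtype.ext (Eq.trans ?_ hp)⟩
    rw [← hf]
    rfl
  have e : f = φ ≫ X.resLE (le_top : O ≤ ⊤) (O'.2.2.trans (BMCoh.dim_top X.scheme).symm) ≫
      X.resTop := by
    refine BMCoh.Hom.ext ?_
    rw [← hf]
    exact congrArg (φ.hom ≫ ·) (X.scheme.homOfLE_ι (le_top : O ≤ ⊤)).symm
  have key : ∀ a, (T.pull f M 2 n).hom a = (T.pull φ M 2 n).hom
      ((T.pull (X.resLE (le_top : O ≤ ⊤) (O'.2.2.trans (BMCoh.dim_top X.scheme).symm)) M 2 n).hom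
        ((T.pull X.resTop M 2 n).hom a)) := fun a => by
    rw [Groth.Agent.BMCoh.pull_pull, Groth.Agent.BMCoh.pull_pull, Category.assoc, ← e]
  rw [show ⇑(T.pull f M 2 n).hom = _ from funext key]
  refine (Groth.Agent.BMCoh.pull_bijective_of_isIso T.toPreTheory φ M 2 n).comp
    ((Groth.Agent.BMCoh.pull_open_bijective T.toPreTheory X M 1 2 n
      (fun x hx n' => T.pt_vanish X x M _ n' (by omega))
      (fun x hx n' => T.pt_vanish X x M _ n' (by omega)) O').comp
      (Groth.Agent.BMCoh.pull_bijective_of_isIso T.toPreTheory X.resTop M 2 n))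

end Groth.Agent.S15888
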