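import Groth.Statements.S15891
import Groth.Agent.Versch19.Basic
import Groth.Agent.FinHopf.Reduced


set_option autoImplicit false
universe u
open scoped TensorProduct
open Versch

namespace Groth.Agent.S15891

/-- Let p be a prime, R a commutative ring of characteristic p and A a commutative and cocommutative
Hopf algebra over R which is finitely generated and projective as an R-module, of characteristic p
(a finite locally free commutative group scheme G = Spec A over S = Spec R), and let v : A → A^(p) =
A ⊗_R R^(Frob) be the comorphism of the Verschiebung V : G^(p) → G (the ring map whose transpose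
under the canonical pairing is the relative Frobenius of the dual Hopf algebra). Then F ∘ V = [p] is
multiplication by p on the S-group G^(p): the ring endomorphism v ∘ F* of A^(p), where F* : A^(p) →
A is the relative Frobenius comorphism, transported along the symmetry A ⊗_R R^(Frob) ≅ R^(Frob) ⊗_R
A, is the p-th convolution power of the identity of the Hopf algebra R^(Frob) ⊗_R A over R^(Frob)
(the base change of A along the Frobenius of R). (The published notes work over a Noetherian base
ring; the row allows any commutative base ring of characteristic p.) -/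
theorem result (p : ℕ) [Fact p.Prime] (R : Type u) [CommRing R] [CharP R p]
    (A : Type u) [CommRing A] [HopfAlgebra R A] [Coalgebra.IsCocomm R A] [Module.Finite R A] [Module.Projective R A]
    [CharP A p] (v : A →+* FrobAlg.BaseChange p R A) (hv : Versch.IsVerschiebung p R A v) :
    ((Algebra.TensorProduct.comm R A (FrobAlg.Twist p R)).toRingEquiv.toRingHom.comp
        ((v.comp (FrobAlg.relFrob p R A)).comp
          (Algebra.TensorProduct.comm R A (FrobAlg.Twist p R)).symm.toRingEquiv.toRingHom)) =
      (SGA3b.powConv (FrobAlg.Twist p R) (FrobAlg.Twist p R ⊗[R] A) p).toRingHom := by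
  obtain ⟨m, a, φ, h⟩ := Groth.Agent.OTLib.exists_dualFrame R A
  let T := FrobAlg.Twist p R
  haveI : CharP (FrobAlg.BaseChange p R A) p := by
    refine charP_of_injective_algebraMap (R := FrobAlg.Twist p R) (A := FrobAlg.BaseChange p R A) (fun x y hxy => ?_) p
    have := congrArg (Algebra.TensorProduct.lift
      ((Algebra.ofId R (FrobAlg.Twist p R)).comp (Bialgebra.counitAlgHom R A)) (AlgHom.id R (FrobAlg.Twist p R))
      (fun _ _ => Commute.all _ _)) hxy
    rw [show algebraMap (FrobAlg.Twist p R) (FrobAlg.BaseChange p R A) x = (1 : A) ⊗ₜ[R] x from rfl,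
      show algebraMap (FrobAlg.Twist p R) (FrobAlg.BaseChange p R A) y = (1 : A) ⊗ₜ[R] y from rfl] at this
    simpa using this
  refine RingHom.ext fun z => ?_
  induction z using TensorProduct.induction_on with
  | zero => simp
  | add s t hs ht => simp only [map_add, hs, ht]
  | tmul s b =>
    obtain ⟨r, rfl⟩ := (FrobAlg.toTwist p R).surjective s
    have h1 : (SGA3b.powConv T (T ⊗[R] A) p) ((1 : T) ⊗ₜ[R] b) = (1 : T) ⊗ₜ[R] SGA3b.powConv R A p b :=
      (Groth.Agent.FinHopf.includeRight_pow' (R := R) T p b).symm
    have h2 : (FrobAlg.toTwist p R r) ⊗ₜ[R] b = algebraMap T (T ⊗[R] A) (FrobAlg.toTwist p R r) * ((1 : T) ⊗ₜ[R] b) := by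
      simp [Algebra.TensorProduct.algebraMap_apply]
    have hp := Groth.Agent.Versch19.powConv_eq p R A a φ h 1 b
    rw [pow_one] at hp
    show (Algebra.TensorProduct.comm R A T) (v (FrobAlg.relFrob p R A (b ⊗ₜ[R] FrobAlg.toTwist p R r))) =
      SGA3b.powConv T (T ⊗[R] A) p (FrobAlg.toTwist p R r ⊗ₜ[R] b)
    rw [Groth.Agent.Versch19.relFrob_tmul, map_mul, map_pow, Groth.Agent.Versch19.verschiebung_algebraMap p R A hv,
      Groth.Agent.Versch19.verschiebung_eq p R A hv a φ h, sum_pow_char p, Finset.sum_mul, map_sum, h2, map_mul,
      AlgHom.commutes, h1, show SGA3b.powConv R A p b = _ from hp, TensorProduct.tmul_sum, Finset.mul_sum]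
    refine Finset.sum_congr rfl fun i _ => ?_
    rw [TensorProduct.tmul_smul, TensorProduct.smul_tmul', Algebra.TensorProduct.algebraMap_apply]
    simp only [Algebra.TensorProduct.tmul_pow, Algebra.TensorProduct.tmul_mul_tmul,
      Algebra.TensorProduct.comm_tmul, one_mul, mul_one, Algebra.algebraMap_self, RingHom.id_apply]
    congr 1
    rw [Algebra.smul_def, mul_one, mul_comm]
    rfl

end Groth.Agent.S15891
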