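import Groth.Statements.S15893
import Mathlib
-- import your own Groth.Agent.* helpers here

set_option autoImplicit false
universe u v w
open CartDual

namespace Groth.Agent.S15893

theorem eval_bijective (R : Type*) [CommRing R] (A : Type*) [CommRing A] [Bialgebra R A] [Module.Finite R A] [Module.Projective R A] :
    Function.Bijective (CartDual.eval R A) := by
  show Function.Bijective (CartDual.evalLin R A)
  unfold CartDual.evalLin
  rw [LinearMap.coe_comp, LinearMap.coe_comp]
  exact (CartDual.toDual R (CartDual.D R A)).symm.bijective.comp ((CartDual.toDual R A).dualMap.bijective.comp (Module.bijective_dual_eval R A))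

/-- Let R be a commutative ring and A, B commutative and cocommutative Hopf algebras over R, each
finitely generated and projective as an R-module (finite locally free commutative group schemes G =
Spec A, H = Spec B over Spec R). Then Cartier duality is a fully faithful contravariant functor: the
map sending a bialgebra homomorphism f : A → B (a homomorphism of group schemes H → G) to its
transpose between the dual Hopf algebras, Hom_R(B, R) → Hom_R(A, R) (the dual homomorphism G^D →
H^D), is a bijection between bialgebra homomorphisms A → B and bialgebra homomorphisms Hom_R(B, R) →
Hom_R(A, R). (The published statement also asserts that the canonical map to the double dual is an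
isomorphism, which makes duality an involutory anti-equivalence; that part is not restated here. The
published notes work over a Noetherian base ring; the row allows any commutative base ring.) -/
theorem result (R : Type u) [CommRing R] (A : Type v) (B : Type w)
    [CommRing A] [HopfAlgebra R A] [Coalgebra.IsCocomm R A] [Module.Finite R A] [Module.Projective R A]
    [CommRing B] [HopfAlgebra R B] [Coalgebra.IsCocomm R B] [Module.Finite R B] [Module.Projective R B] :
    Function.Bijective (fun f : A →ₐc[R] B => CartDual.transpose R f) := by
  refine ⟨fun f g h => ?_, fun φ => ?_⟩
  · apply BialgHom.ext
    intro a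
    rw [← sub_eq_zero, ← Module.forall_dual_apply_eq_zero_iff R]
    intro ψ
    have := congrArg (fun t : CartDual.D R B →ₐc[R] CartDual.D R A => t (WithConv.toConv ψ) a) h
    simp only [CartDual.transpose_apply] at this
    rw [map_sub, sub_eq_zero]
    exact this
  · let eA := @BialgEquiv.ofBijective R A (CartDual.D R (CartDual.D R A)) _ _ _ _ _ (CartDual.eval R A) (eval_bijective R A)
    let eB := @BialgEquiv.ofBijective R B (CartDual.D R (CartDual.D R B)) _ _ _ _ _ (CartDual.eval R B) (eval_bijective R B)
    refine ⟨(eB.symm : _ →ₐc[R] _).comp ((CartDual.transpose R φ).comp (eA : _ →ₐc[R] _)), ?_⟩
    apply BialgHom.ext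
    intro y
    apply WithConv.ext
    apply LinearMap.ext
    intro a
    show y (eB.symm (CartDual.transpose R φ (eA a))) = φ y a
    have := congrArg (fun t : CartDual.D R (CartDual.D R B) => t y) (eB.apply_symm_apply (CartDual.transpose R φ (eA a)))
    exact this

end Groth.Agent.S15893
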