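import Groth.Statements.S15895
import Groth.Agent.Versch19.Basic
import Groth.Agent.FinHopf.DualPoints


set_option autoImplicit false
universe u
open scoped TensorProduct
open Versch

namespace Groth.Agent.S15895

/-- Let p be a prime, R a commutative ring of characteristic p and B = Hom_R(R[ℤ/p], R) the dual Hopf
algebra of the group algebra of the cyclic group of order p: the Hopf algebra of the constant group
scheme ℤ/p over Spec R (the Cartier dual of μ_p). Let v : B → B ⊗_R R^(Frob) be the comorphism of
the Verschiebung V : (ℤ/p)^(p) → ℤ/p (the ring map whose transpose under the canonical pairing is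
the relative Frobenius of the dual Hopf algebra of B). Then V is the trivial homomorphism: v is the
composite of the counit ε : B → R, the identity of underlying rings R → R^(Frob) and the inclusion
of the twisted factor R^(Frob) → B ⊗_R R^(Frob), i.e. v(b) = 1 ⊗ ε(b). -/
theorem result (p : ℕ) [Fact p.Prime] (R : Type u) [CommRing R]
    [CharP R p] (v : CartDual.D R (MonoidAlgebra R (Multiplicative (ZMod p))) →+* FrobAlg.BaseChange p R (CartDual.D R (MonoidAlgebra R (Multiplicative (ZMod p)))))
    (hv : Versch.IsVerschiebung p R (CartDual.D R (MonoidAlgebra R (Multiplicative (ZMod p)))) v) :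
    v = ((Algebra.TensorProduct.includeRight (R := R) (A := CartDual.D R (MonoidAlgebra R (Multiplicative (ZMod p))))
            (B := FrobAlg.Twist p R)).toRingHom.comp (FrobAlg.toTwist p R).toRingHom).comp
          (Bialgebra.counitAlgHom R (CartDual.D R (MonoidAlgebra R (Multiplicative (ZMod p))))).toRingHom := by
  haveI : Module.Finite R (MonoidAlgebra R (Multiplicative (ZMod p))) := Module.Finite.of_basis (MonoidAlgebra.basis (Multiplicative (ZMod p)) R)
  haveI : CharP (MonoidAlgebra R (Multiplicative (ZMod p))) p := charP_of_injective_algebraMap (Bialgebra.algebraMap_injective (R := R) (MonoidAlgebra R (Multiplicative (ZMod p)))) p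
  have hm : ∀ m : (MonoidAlgebra R (Multiplicative (ZMod p))), m ^ p = algebraMap R (MonoidAlgebra R (Multiplicative (ZMod p))) ((Coalgebra.counit (R := R) m) ^ p) := by
    intro m
    induction m using MonoidAlgebra.induction_linear with
    | zero => simp [zero_pow (Fact.out : p.Prime).ne_zero]
    | add f g hf hg => rw [add_pow_char, hf, hg, map_add, add_pow_char, map_add]
    | single g r =>
      rw [MonoidAlgebra.single_pow, show g ^ p = 1 from by
        rw [← ofAdd_toAdd g, ← ofAdd_nsmul, ZModModule.char_nsmul_eq_zero, ofAdd_zero]]
      simp [MonoidAlgebra.coe_algebraMap, MonoidAlgebra.single_pow, MonoidAlgebra.counit_single]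
  have hpow : ∀ x : CartDual.D R (CartDual.D R (MonoidAlgebra R (Multiplicative (ZMod p)))), x ^ p = algebraMap R _ ((x 1) ^ p) := by
    intro x
    obtain ⟨m, hxm⟩ := Groth.Agent.FinHopf.DualPoints.exists_eval (B := R) (E := (MonoidAlgebra R (Multiplicative (ZMod p)))) x.ofConv
    have hn : ∀ (n : ℕ) (f : CartDual.D R (MonoidAlgebra R (Multiplicative (ZMod p)))), (x ^ n) f = f (m ^ n) := by
      intro n
      induction n with
      | zero =>
        intro f
        simp [CartDual.coe_apply]
      | succ n ih =>
        intro f
        rw [pow_succ, CartDual.coe_apply, LinearMap.convMul_apply, pow_succ,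
          ← CartDual.ev₂_coalgebra_comul_tmul R (MonoidAlgebra R (Multiplicative (ZMod p))) f (m ^ n) m]
        generalize Coalgebra.comul (R := R) f = z
        induction z using TensorProduct.induction_on with
        | zero => simp
        | add s t hs ht => simp only [map_add, LinearMap.add_apply, hs, ht]
        | tmul s t =>
          simp only [TensorProduct.map_tmul, LinearMap.mul'_apply, CartDual.ev₂_tmul]
          have := ih s
          simp only [CartDual.coe_apply] at this ⊢
          rw [this, hxm]
    refine WithConv.ext (LinearMap.ext fun f => ?_)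
    have h := hn p f
    have h1 := hxm 1
    simp only [CartDual.coe_apply] at h h1
    rw [h, hm, h1]
    simp [CartDual.coe_apply, Algebra.algebraMap_eq_smul_one, LinearMap.convAlgebraMap_apply, mul_comm]
  refine RingHom.ext fun a => Versch.evTw_injective p R (CartDual.D R (MonoidAlgebra R (Multiplicative (ZMod p)))) fun x => ?_
  rw [(Versch.isVerschiebung_iff p R _ v).1 hv a x, hpow]
  simp only [RingHom.comp_apply, RingEquiv.toRingHom_eq_coe, RingHom.coe_coe, AlgHom.toRingHom_eq_coe,
    Algebra.TensorProduct.includeRight_apply, Versch.evTw_tmul', Bialgebra.counitAlgHom_apply]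
  rw [← map_mul, Algebra.algebraMap_eq_smul_one, CartDual.coe_apply, WithConv.ofConv_smul, LinearMap.smul_apply]
  simp [CartDual.coe_apply]

end Groth.Agent.S15895
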