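import Groth.Statements.S15896
import Mathlib
import Groth.Agent.S15062
-- import your own Groth.Agent.* helpers here

set_option autoImplicit false
universe u
open scoped TensorProduct
open Hopf

namespace Groth.Agent.S15896
set_option maxHeartbeats 1600000

/-- Let R be a henselian Noetherian local ring and A a commutative and cocommutative Hopf algebra over R
which is finitely generated and projective as an R-module (a finite flat commutative R-group G =
Spec A). Let e ∈ A be an idempotent with ε(e) = 1 such that the ideal (1 − e) is a Hopf ideal and A⁰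
= A/(1 − e) is a local ring, projective over R, with cocommutative quotient structure (G⁰ = Spec A⁰
is the connected component of the unit section). Let B = Hom_R(A⁰, R) be the dual Hopf algebra (the
Cartier dual (G⁰)^D) and e' ∈ B an idempotent with ε(e') = 1 and B/(1 − e') local (the unit
component of (G⁰)^D). Say that x ∈ B is invariant when (id ⊗ (multiplication by e'))(Δ x) = x ⊗ e',
i.e. x is invariant under translation by the unit component of (G⁰)^D, so that the invariant
elements form the Hopf algebra of the maximal étale quotient of (G⁰)^D; the ideal in A⁰ of the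
closed subgroup G_μ ⊆ G⁰ ⊆ G consists of the elements annihilated by every invariant x (G_μ is the
Cartier dual of the étale quotient of (G⁰)^D, a connected multiplicative subgroup of G). Then G_μ is
the largest connected multiplicative closed subgroup of G: for every Hopf ideal J of A such that A/J
is a local ring, projective over R, cocommutative, and has étale dual Hopf algebra Hom_R(A/J, R) (H
= Spec A/J a connected closed subgroup with étale Cartier dual), every a ∈ A whose image in A⁰ is
annihilated by all invariant x lies in J, i.e. H ⊆ G_μ. -/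
theorem result (R : Type u) [CommRing R]
    [HenselianLocalRing R] [IsNoetherianRing R] (A : Type u) [CommRing A] [HopfAlgebra R A] [Coalgebra.IsCocomm R A]
    [Module.Finite R A] [Module.Projective R A] (e : A) (he : IsIdempotentElem e)
    (hε : Bialgebra.counitAlgHom R A e = 1) [(Ideal.span ({1 - e} : Set A)).IsHopfIdeal R] [IsLocalRing (A ⧸ Ideal.span ({1 - e} : Set A))]
    [Module.Projective R (A ⧸ Ideal.span ({1 - e} : Set A))] [Coalgebra.IsCocomm R (A ⧸ Ideal.span ({1 - e} : Set A))]
    (e' : CartDual.D R (A ⧸ Ideal.span ({1 - e} : Set A))) (he' : IsIdempotentElem e')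
    (hε' : Bialgebra.counitAlgHom R (CartDual.D R (A ⧸ Ideal.span ({1 - e} : Set A))) e' = 1)
    [IsLocalRing (CartDual.D R (A ⧸ Ideal.span ({1 - e} : Set A)) ⧸ Ideal.span ({1 - e'} : Set (CartDual.D R (A ⧸ Ideal.span ({1 - e} : Set A)))))]
    (J : Ideal A) [J.IsHopfIdeal R] [IsLocalRing (A ⧸ J)] [Module.Projective R (A ⧸ J)]
    [Coalgebra.IsCocomm R (A ⧸ J)] [Algebra.Etale R (CartDual.D R (A ⧸ J))]
    (a : A) (ha : ∀ x : CartDual.D R (A ⧸ Ideal.span ({1 - e} : Set A)), LinearMap.lTensor (CartDual.D R (A ⧸ Ideal.span ({1 - e} : Set A))) (LinearMap.mulLeft R e') (Coalgebra.comul (R := R) x) = x ⊗ₜ[R] e' → x (Ideal.Quotient.mk (Ideal.span ({1 - e} : Set A)) a) = 0) :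
    a ∈ J := by
  have hEJ : (Ideal.span ({1 - e} : Set A)) ≤ J := by
    rw [Ideal.span, Submodule.span_le, Set.singleton_subset_iff, SetLike.mem_coe, ← Ideal.Quotient.eq_zero_iff_mem]
    rw [map_sub, map_one, sub_eq_zero]
    rcases IsLocalRing.isUnit_or_isUnit_one_sub_self (Ideal.Quotient.mk J e) with h | h
    · exact ((IsIdempotentElem.iff_eq_one_of_isUnit h).1 (he.map _)).symm
    · exfalso
      have h' := (IsIdempotentElem.iff_eq_one_of_isUnit h).1 (he.map (Ideal.Quotient.mk J)).one_sub
      rw [sub_eq_self] at h'
      have h2 : Bialgebra.counitAlgHom R (A ⧸ J) (Ideal.Quotient.mk J e) = 1 := by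
        exact (CoalgHomClass.counit_comp_apply (Bialgebra.Quotient.mkBialgHom (R := R) J) e).trans hε
      rw [h', map_zero] at h2
      exact zero_ne_one h2
  let q : (A ⧸ (Ideal.span ({1 - e} : Set A))) →ₐ[R] (A ⧸ J) := Ideal.Quotient.liftₐ (Ideal.span ({1 - e} : Set A)) (Ideal.Quotient.mkₐ R J) (fun x hx => Ideal.Quotient.eq_zero_iff_mem.2 (hEJ hx))
  let f : (A ⧸ (Ideal.span ({1 - e} : Set A))) →ₐc[R] (A ⧸ J) := BialgHom.ofAlgHom q
    (Ideal.Quotient.algHom_ext _ (AlgHom.ext fun x => by
      show Coalgebra.counit (R := R) (Ideal.Quotient.mk J x) = Coalgebra.counit (R := R) (Ideal.Quotient.mk (Ideal.span ({1 - e} : Set A)) x)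
      exact (CoalgHomClass.counit_comp_apply (Bialgebra.Quotient.mkBialgHom (R := R) J) x).trans (CoalgHomClass.counit_comp_apply (Bialgebra.Quotient.mkBialgHom (R := R) (Ideal.span ({1 - e} : Set A))) x).symm))
    (Ideal.Quotient.algHom_ext _ (AlgHom.ext fun x => by
      show Algebra.TensorProduct.map q q (Coalgebra.comul (R := R) (Ideal.Quotient.mk (Ideal.span ({1 - e} : Set A)) x)) = Coalgebra.comul (R := R) (Ideal.Quotient.mk J x)
      rw [show Coalgebra.comul (R := R) (Ideal.Quotient.mk (Ideal.span ({1 - e} : Set A)) x) = _ from (CoalgHomClass.map_comp_comul_apply (Bialgebra.Quotient.mkBialgHom (R := R) (Ideal.span ({1 - e} : Set A))) x).symm]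
      refine Eq.trans ?_ (CoalgHomClass.map_comp_comul_apply (Bialgebra.Quotient.mkBialgHom (R := R) J) x)
      generalize Coalgebra.comul (R := R) x = z
      induction z using TensorProduct.induction_on with
      | zero => simp
      | add x y hx hy => simp only [map_add, hx, hy]
      | tmul u v => rfl))
  haveI : Nontrivial (CartDual.D R (A ⧸ (Ideal.span ({1 - e} : Set A)))) := RingHom.domain_nontrivial (Bialgebra.counitAlgHom R (CartDual.D R (A ⧸ (Ideal.span ({1 - e} : Set A))))).toRingHom
  have hinv : ∀ y : CartDual.D R (A ⧸ J), LinearMap.lTensor (CartDual.D R (A ⧸ (Ideal.span ({1 - e} : Set A)))) (LinearMap.mulLeft R e') (Coalgebra.comul (R := R) (CartDual.transpose R f y)) = CartDual.transpose R f y ⊗ₜ[R] e' := by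
    intro y
    have h := Groth.Agent.S15062.invariant_of_etale e' hε' (CartDual.transpose R f) y
    set E' := Ideal.span ({1 - e'} : Set (CartDual.D R (A ⧸ (Ideal.span ({1 - e} : Set A))))) with hE'
    have hker : E' ≤ LinearMap.ker (LinearMap.mul (CartDual.D R (A ⧸ (Ideal.span ({1 - e} : Set A)))) (CartDual.D R (A ⧸ (Ideal.span ({1 - e} : Set A)))) e') := by
      rw [hE']
      refine Ideal.span_le.2 (Set.singleton_subset_iff.2 ?_)
      show e' * (1 - e') = 0
      rw [mul_sub, mul_one, he'.eq, sub_self]
    let s : (CartDual.D R (A ⧸ (Ideal.span ({1 - e} : Set A))) ⧸ E') →ₗ[R] CartDual.D R (A ⧸ (Ideal.span ({1 - e} : Set A))) := (Submodule.liftQ E' _ hker).restrictScalars R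
    have h2 := congrArg (LinearMap.lTensor (CartDual.D R (A ⧸ (Ideal.span ({1 - e} : Set A)))) s) h
    rw [LinearMap.lTensor_tmul] at h2
    refine (Eq.trans ?_ h2).trans (congrArg _ (show e' * 1 = e' from mul_one e'))
    generalize Coalgebra.comul (R := R) (CartDual.transpose R f y) = z
    induction z using TensorProduct.induction_on with
    | zero => simp
    | add x y hx hy => simp only [map_add, hx, hy]
    | tmul u v => rfl
  rw [← Ideal.Quotient.eq_zero_iff_mem, ← Module.forall_dual_apply_eq_zero_iff R]
  intro φ
  exact ha (CartDual.transpose R f (WithConv.toConv φ)) (hinv _)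

end Groth.Agent.S15896
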