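import Mathlib
import Groth.Statements.S15897
-- import your own Groth.Agent.* helpers here

set_option autoImplicit false
universe u v
open CartDual

namespace Groth.Agent.S15897

/-- Let R be a commutative ring and A a commutative Hopf algebra over R which is finitely generated and
projective as an R-module (a finite locally free R-group scheme G = Spec A, not assumed
commutative). If the convolution product on the dual Hopf algebra Hom_R(A, R) is commutative, then A
is cocommutative, i.e. G is a commutative group scheme. (The dual Hopf algebra is commutative
exactly when A is cocommutative; the other implication is immediate and not stated. The published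
notes work over a Noetherian base ring; the row allows any commutative base ring.) -/
theorem result (R : Type u) [CommRing R] (A : Type v) [CommRing A] [HopfAlgebra R A]
    [Module.Finite R A] [Module.Projective R A] (h : ∀ x y : CartDual.D R A, x * y = y * x) :
    Coalgebra.IsCocomm R A := by
  refine ⟨LinearMap.ext fun a => Module.eval_apply_injective R (LinearMap.ext fun φ => ?_)⟩
  show φ _ = φ _
  obtain ⟨z, rfl⟩ := (CartDual.ev₂ R A).surjective φ
  induction z using TensorProduct.induction_on with
  | zero => simp
  | add z w hz hw => simp only [map_add, LinearMap.add_apply, hz, hw]
  | tmul x y =>
    have e : ∀ (x y : CartDual.D R A) (t : TensorProduct R A A), CartDual.ev₂ R A (x ⊗ₜ[R] y) (TensorProduct.comm R A A t) = CartDual.ev₂ R A (y ⊗ₜ[R] x) t := by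
      intro x y t
      induction t using TensorProduct.induction_on with
      | zero => simp
      | add t s ht hs => simp only [map_add, ht, hs]
      | tmul b c => simp [mul_comm]
    have hm : ∀ (x y : CartDual.D R A) (a : A), CartDual.ev₂ R A (x ⊗ₜ[R] y) (Coalgebra.comul a) = (x * y) a := by
      intro x y a
      show _ = (x * y) a
      rw [CartDual.ev₂_tmul_eq, LinearMap.convMul_apply]
      generalize (Coalgebra.comul (R := R) a) = t
      induction t using TensorProduct.induction_on with
      | zero => simp
      | add t s ht hs => simp only [map_add, ht, hs]
      | tmul b c => simp
    rw [LinearMap.comp_apply, LinearEquiv.coe_coe, e, hm, hm, h]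

end Groth.Agent.S15897
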