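import Groth.Statements.S15906
import Groth.Agent.W4c3DP.Weyl
import Mathlib.Data.Fin.Tuple.Sort
-- import your own Groth.Agent.* helpers here

set_option autoImplicit false
open Surf

namespace Groth.Agent.S15906

open W4c3severiratdp in
/-- Work in the lattice of vectors (a; b_1, …, b_δ), standing for divisor classes a ℓ − Σ b_i e_i on the
blow-up of the projective plane at δ points written in a standard basis, with intersection form a a'
− Σ b_i b_i' and canonical class K = (−3; −1, …, −1); a conic class is a class Q with Q·Q = 0 and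
K·Q = −2, an exceptional class (the class of a (−1)-curve) is a class E with E·E = −1 and K·E = −1,
and the Weyl group W_δ is the group of additive automorphisms of the lattice preserving the form and
fixing K. For δ = 8, a class (a; b_1, …, b_8) is a conic class if and only if, up to a permutation
of b_1, …, b_8, it is one of the fifteen vectors (1; 1, 0, 0, 0, 0, 0, 0, 0), (2; 1, 1, 1, 1, 0, 0,
0, 0), (3; 2, 1, 1, 1, 1, 1, 0, 0), (4; 2, 2, 2, 1, 1, 1, 1, 0), (4; 3, 1, 1, 1, 1, 1, 1, 1), (5; 2,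
2, 2, 2, 2, 2, 1, 0), (5; 3, 2, 2, 2, 1, 1, 1, 1), (6; 3, 3, 2, 2, 2, 2, 1, 1), (7; 3, 3, 3, 3, 2,
2, 2, 1), (7; 4, 3, 2, 2, 2, 2, 2, 2), (8; 4, 3, 3, 3, 3, 2, 2, 2), (8; 3, 3, 3, 3, 3, 3, 3, 1), (9;
4, 4, 3, 3, 3, 3, 3, 2), (10; 4, 4, 4, 4, 3, 3, 3, 3), (11; 4, 4, 4, 4, 4, 4, 4, 3). (One line of
the published table is illegible in the available copy; the fifteen vectors here are the complete
solution set of the two defining equations a² = Σ b_i², 3a − Σ b_i = 2.) -/
theorem result (v : DP 8) :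
    IsConic v ↔
      ∃ t ∈ ({![1, 1, 0, 0, 0, 0, 0, 0, 0],
        ![2, 1, 1, 1, 1, 0, 0, 0, 0],
        ![3, 2, 1, 1, 1, 1, 1, 0, 0],
        ![4, 2, 2, 2, 1, 1, 1, 1, 0],
        ![4, 3, 1, 1, 1, 1, 1, 1, 1],
        ![5, 2, 2, 2, 2, 2, 2, 1, 0],
        ![5, 3, 2, 2, 2, 1, 1, 1, 1],
        ![6, 3, 3, 2, 2, 2, 2, 1, 1],
        ![7, 3, 3, 3, 3, 2, 2, 2, 1],
        ![7, 4, 3, 2, 2, 2, 2, 2, 2],
        ![8, 4, 3, 3, 3, 3, 2, 2, 2],
        ![8, 3, 3, 3, 3, 3, 3, 3, 1],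
        ![9, 4, 4, 3, 3, 3, 3, 3, 2],
        ![10, 4, 4, 4, 4, 3, 3, 3, 3],
        ![11, 4, 4, 4, 4, 4, 4, 4, 3]} : Set (DP 8)),
        ∃ σ : Equiv.Perm (Fin 8), v 0 = t 0 ∧ ∀ i : Fin 8, v (σ i).succ = t i.succ := by
  constructor
  · intro hv
    obtain ⟨σ, hσ⟩ : ∃ σ : Equiv.Perm (Fin 8), Monotone ((fun i : Fin 8 => -v i.succ) ∘ σ) :=
      ⟨_, Tuple.monotone_sort _⟩
    obtain ⟨w, hw⟩ : ∃ w : DP 8, w = (Fin.cases (v 0) (fun i => v (σ i).succ) : DP 8) := ⟨_, rfl⟩
    have hw0 : w 0 = v 0 := by rw [hw]; rfl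
    have hws : ∀ i : Fin 8, w i.succ = v (σ i).succ := fun i => by rw [hw]; rfl
    have h1 : form w w = 0 := by
      have h := hv.1
      simp only [form] at h
      simp only [form, hw0, hws]
      rwa [Equiv.sum_comp σ (fun i => v i.succ * v i.succ)]
    have h2 : form (canon 8) w = -2 := by
      have h := hv.2
      simp only [form, canon, Fin.cases_zero, Fin.cases_succ] at h
      simp only [form, canon, Fin.cases_zero, Fin.cases_succ, hw0, hws]
      rwa [Equiv.sum_comp σ (fun i => (-1 : ℤ) * v i.succ)]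
    have hmem := Groth.Agent.W4c3DP.mem_enum_ofFn le_rfl (Or.inl ⟨rfl, rfl⟩) w h1 h2
    simp only [Groth.Agent.W4c3DP.enum, List.mem_flatMap, List.mem_range, List.mem_map] at hmem
    obtain ⟨i, hi, t, ht, hcons⟩ := hmem
    obtain ⟨e1, e2, e3⟩ := (Groth.Agent.W4c3DP.mem_search t 8 _ _ (by nlinarith)).mp ht
    have hget : ∀ (m : ℕ) (hm : m < 8), t.getD m 0 = v (σ ⟨m, hm⟩).succ := by
      intro m hm
      have h := congrArg (fun l : List ℤ => l.getD (m + 1) 0) hcons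
      simp only [List.getD_cons_succ] at h
      rw [h, List.getD_eq_getElem _ _ (by rw [List.length_ofFn]; omega), List.getElem_ofFn]
      exact hws ⟨m, hm⟩
    have hsorted : ∀ n, n < 8 → 0 + n ∈ (List.range 7).map (· + 1) →
        t.getD n 0 ≤ ((0 : ℤ) :: t).getD n 0 := by
      intro n hn hnJ
      rw [Nat.zero_add, List.mem_map] at hnJ
      obtain ⟨j, -, rfl⟩ := hnJ
      rw [List.getD_cons_succ, hget (j + 1) hn, hget j (by omega)]
      have := hσ (show (⟨j, by omega⟩ : Fin 8) ≤ ⟨j + 1, hn⟩ by simp)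
      simp only [Function.comp_apply, neg_le_neg_iff] at this
      exact this
    have hc := Groth.Agent.W4c3DP.mem_searchC _ t 8 0 0 _ _ (by nlinarith) e1 e2 e3 hsorted
    have hall : ∀ l ∈ (List.range 14).flatMap (fun i : ℕ =>
        (Groth.Agent.W4c3DP.searchC ((List.range 7).map (· + 1)) 8 0 0 (3 * ((i : ℤ) - 1) - 2)
          (((i : ℤ) - 1) * ((i : ℤ) - 1) - 0)).map (List.cons ((i : ℤ) - 1))),
        l ∈ ([[1, 1, 0, 0, 0, 0, 0, 0, 0], [2, 1, 1, 1, 1, 0, 0, 0, 0], [3, 2, 1, 1, 1, 1, 1, 0, 0],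
          [4, 2, 2, 2, 1, 1, 1, 1, 0], [4, 3, 1, 1, 1, 1, 1, 1, 1], [5, 2, 2, 2, 2, 2, 2, 1, 0],
          [5, 3, 2, 2, 2, 1, 1, 1, 1], [6, 3, 3, 2, 2, 2, 2, 1, 1], [7, 3, 3, 3, 3, 2, 2, 2, 1],
          [7, 4, 3, 2, 2, 2, 2, 2, 2], [8, 4, 3, 3, 3, 3, 2, 2, 2], [8, 3, 3, 3, 3, 3, 3, 3, 1],
          [9, 4, 4, 3, 3, 3, 3, 3, 2], [10, 4, 4, 4, 4, 3, 3, 3, 3],
          [11, 4, 4, 4, 4, 4, 4, 4, 3]] : List (List ℤ)) := by decide +kernel
    have hl := hall (List.ofFn w) (List.mem_flatMap.mpr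
      ⟨i, List.mem_range.mpr hi, List.mem_map.mpr ⟨t, hc, hcons⟩⟩)
    refine ⟨w, ?_, σ, hw0.symm, fun i => (hws i).symm⟩
    rw [← Groth.Agent.W4c3DP.toDP_ofFn w]
    simp only [List.mem_cons, List.not_mem_nil, or_false] at hl
    simp only [Set.mem_insert_iff, Set.mem_singleton_iff]
    rcases hl with h | h | h | h | h | h | h | h | h | h | h | h | h | h | h <;> rw [h] <;>
      decide +kernel
  · rintro ⟨t, ht, σ, h0, hs⟩
    have h1 : form t t = 0 ∧ form (canon 8) t = -2 := by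
      simp only [Set.mem_insert_iff, Set.mem_singleton_iff] at ht
      rcases ht with rfl | rfl | rfl | rfl | rfl | rfl | rfl | rfl | rfl | rfl | rfl | rfl | rfl |
        rfl | rfl <;> decide +kernel
    constructor
    · have h := h1.1
      simp only [form, ← h0, ← hs] at h
      rw [Equiv.sum_comp σ (fun i => v i.succ * v i.succ)] at h
      exact h
    · have h := h1.2
      simp only [form, canon, Fin.cases_zero, Fin.cases_succ, ← h0, ← hs] at h
      rw [Equiv.sum_comp σ (fun i => (-1 : ℤ) * v i.succ)] at h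
      simp only [form, canon, Fin.cases_zero, Fin.cases_succ]
      exact h

end Groth.Agent.S15906
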