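import Groth.Statements.S15916
-- import your own Groth.Agent.* helpers here
import Groth.Agent.SurfRR.CurveConfig
import Groth.Agent.SurfRR.Setup
import Groth.Agent.IntTh.Criteria
import Groth.Agent.IntTh.Kleiman

set_option autoImplicit false
universe u
open CategoryTheory CategoryTheory.Limits AlgebraicGeometry TopologicalSpace
open Surf

namespace Groth.Agent.S15916

/-- Let k be an algebraically closed field of characteristic zero and X a smooth projective surface over
k (integral, proper and smooth over k of dimension 2, with a closed immersion over k into some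
projective space); intersection numbers of invertible modules are (L·M) = χ(O_X) − χ(L) − χ(M) + χ(L
⊗ M), and for an integral closed one-dimensional subscheme C ⊆ X write (L·C) = χ(O_C ⊗ L) − χ(O_C);
an invertible module is nef when (L·C) ≥ 0 for all such C. Let D be an invertible module generated
by its global sections, nef, with (D·D) > 0, and let N be a nef invertible module with (D·N) = 0.
Then N is numerically trivial: (N·C) = 0 for every integral curve C ⊆ X. (The published statement
concludes that N is zero in Pic X; on the product of an elliptic curve with the projective line, the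
pull-back N of a non-trivial degree-zero class of the elliptic curve is nef, orthogonal to an ample
base-point-free D, and non-zero, while the printed proof establishes numerical triviality, which is
what this row states.) -/
theorem result (k : Type u) [Field k] [IsAlgClosed k]
    [CharZero k] (X : Scheme.{u}) [X.Over (Spec (CommRingCat.of k))] [IsIntegral X] [IsProper (X ↘ (Spec (CommRingCat.of k)))] [Smooth (X ↘ (Spec (CommRingCat.of k)))]
    (hdim : topologicalKrullDim X = 2)
    (hproj : ∃ (n : ℕ) (ι : X ⟶ CohB1.ProjSpace n k), IsClosedImmersion ι ∧ ι ≫ CohB1.ProjSpace.toSpec n k = (X ↘ (Spec (CommRingCat.of k))))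
    (D N : X.Modules) (hDi : PicF.IsInvertible D) (hNi : PicF.IsInvertible N)
    (hDgg : Curv2.IsGloballyGenerated D)
    (hDnef : ∀ C : X.IdealSheafData, IsIntegral C.subscheme → topologicalKrullDim (C.support : Set X) = 1 → 0 ≤ (Curv2.euler k X (CohB1.tensorMod (ClSub.quotMod C) D) - Curv2.euler k X (ClSub.quotMod C)))
    (hD2 : 0 < FGA.intNum k X 2 ![D, D] (Coh.structureModule X))
    (hNnef : ∀ C : X.IdealSheafData, IsIntegral C.subscheme → topologicalKrullDim (C.support : Set X) = 1 → 0 ≤ (Curv2.euler k X (CohB1.tensorMod (ClSub.quotMod C) N) - Curv2.euler k X (ClSub.quotMod C)))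
    (hDN : FGA.intNum k X 2 ![D, N] (Coh.structureModule X) = 0) :
    ∀ C : X.IdealSheafData, IsIntegral C.subscheme → topologicalKrullDim (C.support : Set X) = 1 → (Curv2.euler k X (CohB1.tensorMod (ClSub.quotMod C) N) - Curv2.euler k X (ClSub.quotMod C)) = 0 := by
  have hreg := fun y => CohDual.SmoothEquidim.isRegularLocalRing_stalk (X ↘ Spec (CommRingCat.of k)) y
  obtain ⟨W, hW, hdual⟩ := SurfRR.exists_canonical hdim hreg hproj
  obtain ⟨n, ι, hι, -⟩ := hproj
  haveI := hι
  have hH := SurfRR.isAmple_hyperplane (k := k) ι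
  set H := (Scheme.Modules.pullback ι).obj (Twist.twistProjSpace n k 1)
  have hle := hdim.le
  let P : X.Modules → X.Modules → ℤ := fun A B => IntTh.inum k [A, B] (Coh.structureModule X)
  have hsymm : ∀ A B, PicF.IsInvertible A → PicF.IsInvertible B → P A B = P B A :=
    fun A B hA hB => IntTh.inum_swap k hA hB _ _
  have hnef : IntTh.Nef k N := fun Z j _ _ hZ => by
    obtain ⟨C, h1, h2, h3⟩ := IntTh.exists_ideal_of_curve k hNi j hZ
    exact (hNnef C h1 h2).trans h3.ge
  have hNN0 : 0 ≤ P N N := by
    have h := IntTh.inumOn_nonneg_of_nef k hNi hH hnef (𝟙 X) (i := 2) (l := 0) (by rw [hdim]; rfl)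
    have hl : IntTh.Inv [N, N] := IntTh.Inv.replicate hNi 2
    haveI := SurfRR.isIso_unitToPush (𝟙 X)
    rw [IntTh.inumOn, List.replicate_zero, List.append_nil, ← IntTh.inum_push k (𝟙 X) (IntTh.Inv.replicate hNi 2) _
      (InvBasic.isQuasicoherent_structureModule X), ← IntTh.inum_congr k _ (asIso (ClSub.unitToPush (𝟙 X)))] at h
    exact h
  rw [SurfRR.intNum_pair k hle hDi hDi] at hD2
  rw [SurfRR.intNum_pair k hle hDi hNi] at hDN
  have hodge : ∀ M, PicF.IsInvertible M → P D M = 0 → P M M ≤ 0 := fun M hM h0 =>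
    SurfRR.inum_self_nonpos k hdim hW hdual hDi hM hH hD2 h0
  have hNN : P N N = 0 := le_antisymm (hodge N hNi hDN) hNN0
  have horth : ∀ M, PicF.IsInvertible M → P D M = 0 → P N M = 0 := fun M hM h0 => by
    obtain ⟨M', ⟨e⟩⟩ := NegVanish.exists_inverse hM
    have hM' : PicF.IsInvertible M' := NegVanish.isInvertible_of_inverse hM ⟨e⟩
    have key : ∀ A, PicF.IsInvertible A → P D A = 0 → ∀ a : ℕ, 2 * (a : ℤ) * P N A + P A A ≤ 0 := fun A hA hA0 a => by
      have hp := InvPow.isInvertible_tensorPow hNi a
      have hT := InvPow.isInvertible_tensorMod hp hA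
      have hz : P D (CohB1.tensorMod (CohB1.tensorPow N a) A) = 0 := by
        rw [hsymm _ _ hDi hT]
        simp only [P]
        rw [SurfRR.inum_tensor k hle hp hA hDi, SurfRR.inum_pow k hle hNi hDi, IntTh.inum_swap k hNi hDi,
          IntTh.inum_swap k hA hDi, show IntTh.inum k [D, N] (Coh.structureModule X) = 0 from hDN,
          show IntTh.inum k [D, A] (Coh.structureModule X) = 0 from hA0]
        simp
      have h := hodge _ hT hz
      simp only [P] at h hNN ⊢
      rw [SurfRR.inum_tensor k hle hp hA hT, SurfRR.inum_pow k hle hNi hT, IntTh.inum_swap k hNi hT,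
        IntTh.inum_swap k hA hT, SurfRR.inum_tensor k hle hp hA hNi, SurfRR.inum_tensor k hle hp hA hA,
        SurfRR.inum_pow k hle hNi hNi, SurfRR.inum_pow k hle hNi hA, IntTh.inum_swap k hA hNi, hNN] at h
      linarith
    have h1 := key M hM h0
    have hM'0 : P D M' = 0 := by
      simp only [P] at h0 ⊢
      rw [IntTh.inum_swap k hDi hM', SurfRR.inum_inv k hle hM e hDi, IntTh.inum_swap k hM hDi, h0, neg_zero]
    have h2 := key M' hM' hM'0
    have e1 : P N M' = -P N M := by
      simp only [P]
      rw [IntTh.inum_swap k hNi hM', SurfRR.inum_inv k hle hM e hNi, IntTh.inum_swap k hM hNi]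
    have a1 := h1 ((P M M).natAbs + (P M' M').natAbs + 1)
    have a2 := h2 ((P M M).natAbs + (P M' M').natAbs + 1)
    rw [e1] at a2
    push_cast at a1 a2
    by_contra hx
    rcases lt_or_gt_of_ne hx with hx | hx
    · nlinarith [abs_nonneg (P M M), abs_nonneg (P M' M'), neg_abs_le (P M' M'), neg_abs_le (P M M)]
    · nlinarith [abs_nonneg (P M M), abs_nonneg (P M' M'), neg_abs_le (P M' M'), neg_abs_le (P M M)]
  intro C h1 h2
  have hI := SurfRR.isInvertible_idealMod_curve k hdim h1 h2
  rw [SurfRR.euler_quotMod_sub k hdim hI hNi, SurfRR.intNum_pair k hle hI hNi, IntTh.inum_swap k hI hNi, neg_eq_zero]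
  obtain ⟨D', ⟨e⟩⟩ := NegVanish.exists_inverse hDi
  have hD' : PicF.IsInvertible D' := NegVanish.isInvertible_of_inverse hDi ⟨e⟩
  obtain ⟨d, hd⟩ : ∃ d : ℕ, (d : ℤ) = P D D := ⟨_, Int.toNat_of_nonneg hD2.le⟩
  set I := ClSub.idealMod C
  have hDI : P D I = P D I := rfl
  obtain ⟨S, hS, m, hSD, hSN⟩ : ∃ (S : X.Modules) (_ : PicF.IsInvertible S) (m : ℕ),
      (m : ℤ) * P D S = -((d : ℤ) * P D I) ∧ P N S = 0 := by
    rcases le_total (P D I) 0 with hs | hs
    · refine ⟨D, hDi, (P D I).natAbs, ?_, ?_⟩
      · rw [hd, Int.natCast_natAbs, abs_of_nonpos hs]; ring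
      · rw [hsymm _ _ hNi hDi]; exact hDN
    · refine ⟨D', hD', (P D I).natAbs, ?_, ?_⟩
      · simp only [P] at hd hs ⊢
        rw [IntTh.inum_swap k hDi hD', SurfRR.inum_inv k hle hDi e hDi, hd, Int.natCast_natAbs, abs_of_nonneg hs]
        ring
      · simp only [P]
        rw [IntTh.inum_swap k hNi hD', SurfRR.inum_inv k hle hDi e hNi]
        simpa using hDN
  have hT := InvPow.isInvertible_tensorMod (InvPow.isInvertible_tensorPow hI d) (InvPow.isInvertible_tensorPow hS m)
  have hz := horth (CohB1.tensorMod (CohB1.tensorPow I d) (CohB1.tensorPow S m)) hT (by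
    rw [hsymm _ _ hDi hT]
    simp only [P]
    rw [SurfRR.inum_comb k hle hI hS hDi, IntTh.inum_swap k hI hDi, IntTh.inum_swap k hS hDi,
      show (m : ℤ) * IntTh.inum k [D, S] (Coh.structureModule X) = -((d : ℤ) * IntTh.inum k [D, I] (Coh.structureModule X)) from hSD]
    ring)
  rw [hsymm _ _ hNi hT] at hz
  simp only [P] at hz hd hSN
  rw [SurfRR.inum_comb k hle hI hS hNi, IntTh.inum_swap k hS hNi, hSN, IntTh.inum_swap k hI hNi, mul_zero, add_zero] at hz
  refine (mul_eq_zero.1 hz).resolve_left ?_
  rw [hd]
  exact hD2.ne'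

end Groth.Agent.S15916
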