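import Groth.Statements.S15939
import Mathlib

set_option autoImplicit false
universe u
open CAlg

namespace Groth.Agent.S15939

open Polynomial in
/-- Let κ be a field and A a commutative κ-algebra whose only κ-subalgebras are the image of κ and A
itself, these two being different. Then A is finite-dimensional over κ, and A is isomorphic as a
κ-algebra to the dual numbers over κ, or to κ × κ, or A is a field which is either separable over κ
or isomorphic to κ[X]/(X^p - a) with p the (positive) characteristic of κ and a an element of κ that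
is not a p-th power. (The published statement also records that these four cases exclude one
another; that part is not restated.) -/
theorem result (κ A : Type u) [Field κ] [CommRing A] [Algebra κ A]
    (h : IsSimpleOrder (Subalgebra κ A)) :
    FiniteDimensional κ A ∧
    (Nonempty (A ≃ₐ[κ] DualNumber κ) ∨ Nonempty (A ≃ₐ[κ] (κ × κ)) ∨
      (IsField A ∧ (Algebra.IsSeparable κ A ∨
        ∃ (p : ℕ) (a : κ), p.Prime ∧ CharP κ p ∧ (∀ b : κ, b ^ p ≠ a) ∧
          Nonempty (A ≃ₐ[κ] AdjoinRoot (X ^ p - C a))))) := by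
  classical
  haveI : IsSimpleOrder (Subalgebra κ A) := h
  haveI : Nontrivial A := by
    by_contra hn
    rw [not_nontrivial_iff_subsingleton] at hn
    exact bot_ne_top (α := Subalgebra κ A) (SetLike.ext fun x => by simp [Subsingleton.elim x 0])
  have hgen : ∀ x : A, x ∉ (⊥ : Subalgebra κ A) → Algebra.adjoin κ ({x} : Set A) = ⊤ := fun x hx =>
    (eq_bot_or_eq_top _).resolve_left fun h0 => hx (h0 ▸ Algebra.self_mem_adjoin_singleton κ x)
  obtain ⟨x₀, hx₀⟩ : ∃ x : A, x ∉ (⊥ : Subalgebra κ A) := by
    by_contra hc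
    push Not at hc
    exact bot_ne_top (α := Subalgebra κ A) (eq_top_iff.2 fun x _ => hc x)
  have hint : IsIntegral κ x₀ := by
    by_contra hni
    have halg : Transcendental κ x₀ := fun hal => hni hal.isIntegral
    have hinj : Function.Injective (aeval (R := κ) x₀) := transcendental_iff_injective.1 halg
    have hx2 : x₀ ^ 2 ∉ (⊥ : Subalgebra κ A) := by
      rintro ⟨c, hc⟩
      have h1 := congrArg natDegree (@hinj (C c) (X ^ 2) (by simp only [aeval_C, aeval_X_pow]; exact hc))
      simp at h1
    have hmem : x₀ ∈ Algebra.adjoin κ ({x₀ ^ 2} : Set A) := hgen _ hx2 ▸ Algebra.mem_top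
    rw [Algebra.adjoin_singleton_eq_range_aeval] at hmem
    obtain ⟨q, hq⟩ := hmem
    have h1 := congrArg natDegree (@hinj (q.comp (X ^ 2)) X (by rw [aeval_comp, aeval_X_pow, aeval_X]; exact hq))
    rw [natDegree_comp, natDegree_X_pow, natDegree_X] at h1
    omega
  haveI hfin : Module.Finite κ A := by
    have := hint.fg_adjoin_singleton
    rw [hgen x₀ hx₀, Algebra.top_toSubmodule] at this
    exact ⟨this⟩
  refine ⟨hfin, ?_⟩
  by_cases hnil : ∃ x : A, x ≠ 0 ∧ IsNilpotent x
  · left
    obtain ⟨x, hx0, hxn⟩ := hnil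
    have hbot : ∀ y : A, IsNilpotent y → y ∈ (⊥ : Subalgebra κ A) → y = 0 := by
      rintro y hy ⟨c, rfl⟩
      by_contra hc
      exact hy.not_isUnit ((IsUnit.mk0 c (fun h0 => hc (by simp [h0]))).map (algebraMap κ A))
    have hxb : x ∉ (⊥ : Subalgebra κ A) := fun hm => hx0 (hbot x hxn hm)
    have hsq : x * x = 0 := by
      by_contra hne
      have hx2 : x * x ∉ (⊥ : Subalgebra κ A) := fun hm => hne (hbot _ ((Commute.all x x).isNilpotent_mul_left hxn) hm)
      have hmem : x ∈ Algebra.adjoin κ ({x * x} : Set A) := hgen _ hx2 ▸ Algebra.mem_top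
      rw [Algebra.adjoin_singleton_eq_range_aeval] at hmem
      obtain ⟨q, hq⟩ := hmem
      replace hq : aeval (x * x) q = x := hq
      rw [← X_mul_divX_add q, map_add, map_mul, aeval_X, aeval_C] at hq
      set r := aeval (x * x) q.divX with hr
      have h1 : algebraMap κ A (q.coeff 0) = x * (1 - x * r) := by linear_combination hq
      have hu : IsUnit (1 - x * r) := ((Commute.all x r).isNilpotent_mul_right hxn).isUnit_one_sub
      have hc0 : algebraMap κ A (q.coeff 0) = 0 :=
        hbot _ (h1 ▸ (Commute.all x _).isNilpotent_mul_right hxn) ⟨_, rfl⟩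
      exact hx0 (hu.mul_left_eq_zero.1 (h1.symm.trans hc0))
    let φ : DualNumber κ →ₐ[κ] A := DualNumber.lift ⟨(Algebra.ofId κ A, x), hsq, fun a => Commute.all _ _⟩
    refine ⟨(AlgEquiv.ofBijective φ ⟨?_, ?_⟩).symm⟩
    · rw [injective_iff_map_eq_zero]
      intro a ha
      rw [DualNumber.lift_apply_apply] at ha
      by_cases hb : TrivSqZeroExt.snd a = 0
      · rw [hb, map_zero, zero_mul, add_zero] at ha
        exact TrivSqZeroExt.ext ((algebraMap κ A).injective (ha.trans (map_zero _).symm)) hb
      · exfalso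
        refine hxb ⟨-(TrivSqZeroExt.fst a) / TrivSqZeroExt.snd a, ?_⟩
        have hu : algebraMap κ A (TrivSqZeroExt.snd a)⁻¹ * algebraMap κ A (TrivSqZeroExt.snd a) = 1 := by
          rw [← map_mul, inv_mul_cancel₀ hb, map_one]
        have ha' : algebraMap κ A (TrivSqZeroExt.fst a) + algebraMap κ A (TrivSqZeroExt.snd a) * x = 0 := ha
        change algebraMap κ A _ = x
        rw [div_eq_mul_inv, map_mul, map_neg]
        linear_combination (-(algebraMap κ A (TrivSqZeroExt.snd a)⁻¹)) * ha' + x * hu
    · rw [← AlgHom.range_eq_top, eq_top_iff, ← hgen x hxb, Algebra.adjoin_le_iff]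
      rintro _ rfl
      exact ⟨DualNumber.eps, DualNumber.lift_apply_eps _⟩
  right
  push Not at hnil
  haveI : IsReduced A := ⟨fun x hx => by_contra fun h0 => hnil x h0 hx⟩
  by_cases hF : IsField A
  · right
    refine ⟨hF, ?_⟩
    by_cases hsep : Algebra.IsSeparable κ A
    · exact Or.inl hsep
    right
    letI := hF.toField
    haveI : Algebra.IsAlgebraic κ A := Algebra.IsAlgebraic.of_finite κ A
    have hbot : separableClosure κ A = ⊥ := by
      rcases eq_bot_or_eq_top (separableClosure κ A).toSubalgebra with h0 | h0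
      · exact IntermediateField.toSubalgebra_injective (h0.trans IntermediateField.bot_toSubalgebra.symm)
      · exact absurd ((separableClosure.eq_top_iff κ A).1
          (IntermediateField.toSubalgebra_injective (h0.trans IntermediateField.top_toSubalgebra.symm))) hsep
    haveI := (separableClosure.eq_bot_iff).1 hbot
    obtain ⟨p, hp⟩ := CharP.exists κ
    rcases CharP.char_is_prime_or_zero κ p with hpr | rfl
    swap
    · haveI := CharP.charP_to_charZero κ
      exact absurd (inferInstance : Algebra.IsSeparable κ A) hsep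
    haveI : Fact p.Prime := ⟨hpr⟩
    haveI : CharP A p := charP_of_injective_algebraMap (algebraMap κ A).injective p
    haveI : ExpChar κ p := ExpChar.prime hpr
    haveI : ExpChar A p := ExpChar.prime hpr
    have hex := IsPurelyInseparable.pow_mem κ p x₀
    let n := Nat.find hex
    have hn := Nat.find_spec hex
    obtain ⟨m, hm⟩ : ∃ m, n = m + 1 := Nat.exists_eq_succ_of_ne_zero fun h0 => hx₀ (by
      have : x₀ ^ p ^ n ∈ (algebraMap κ A).range := hn
      rw [h0, pow_zero, pow_one] at this
      exact this)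
    have hy : x₀ ^ p ^ m ∉ (⊥ : Subalgebra κ A) := Nat.find_min hex (show m < n by omega)
    obtain ⟨a, ha⟩ := hn
    have hya : (x₀ ^ p ^ m) ^ p = algebraMap κ A a := by
      rw [← pow_mul, ← pow_succ, ← hm, ha]
    have hnp : ∀ b : κ, b ^ p ≠ a := fun b hb => hy ⟨b, by
      refine frobenius_inj A p ?_
      show (algebraMap κ A b) ^ p = _
      rw [← map_pow, hb, ← hya]
      rfl⟩
    refine ⟨p, a, hpr, hp, hnp, ?_⟩
    haveI : Fact (Irreducible (X ^ p - C a : κ[X])) := ⟨X_pow_sub_C_irreducible_of_prime hpr hnp⟩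
    let φ : AdjoinRoot (X ^ p - C a : κ[X]) →ₐ[κ] A :=
      AdjoinRoot.liftAlgHom _ (Algebra.ofId κ A) (x₀ ^ p ^ m) (by simp [hya])
    refine ⟨(AlgEquiv.ofBijective φ ⟨(φ : AdjoinRoot (X ^ p - C a : κ[X]) →+* A).injective, ?_⟩).symm⟩
    rw [← AlgHom.range_eq_top, eq_top_iff, ← hgen _ hy, Algebra.adjoin_le_iff]
    rintro _ rfl
    exact ⟨AdjoinRoot.root _, AdjoinRoot.liftAlgHom_root _ _ _ _⟩
  left
  obtain ⟨x, hx0, hxu⟩ : ∃ x : A, x ≠ 0 ∧ ¬ IsUnit x := by
    by_contra hc
    push Not at hc
    exact hF ⟨⟨0, 1, zero_ne_one⟩, mul_comm, fun {a} ha => ⟨_, (hc a ha).mul_val_inv⟩⟩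
  haveI : IsArtinianRing A := IsArtinianRing.of_finite κ A
  obtain ⟨n, y, hy⟩ := IsArtinian.exists_pow_succ_smul_dvd x (1 : A)
  replace hy : x ^ (n + 1) * y = x ^ n := by simpa [Nat.succ_eq_add_one] using hy
  have h1 : x * (1 - x * y) = 0 := by
    refine IsNilpotent.eq_zero ⟨n + 1, ?_⟩
    rw [mul_pow, pow_succ (1 - x * y) n]
    linear_combination ((1 - x * y) ^ n * x) * (hy * (-1 : A))
  set e := x * y with he
  have hee : e * e = e := by rw [he]; linear_combination (-y) * h1
  have heb : e ∉ (⊥ : Subalgebra κ A) := by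
    rintro ⟨c, hc⟩
    change algebraMap κ A c = e at hc
    have h2 : c * c = c := (algebraMap κ A).injective (by rw [map_mul, hc, hee])
    rcases mul_eq_zero.1 (show c * (c - 1) = 0 by rw [mul_sub, h2, mul_one, sub_self]) with h3 | h3
    · rw [h3, map_zero] at hc
      rw [← hc, sub_zero, mul_one] at h1
      exact hx0 h1
    · rw [sub_eq_zero.1 h3, map_one] at hc
      exact hxu (IsUnit.of_mul_eq_one y hc.symm)
  let φ : (κ × κ) →ₐ[κ] A := AlgHom.ofLinearMap
    ((LinearMap.fst κ κ κ).smulRight e + (LinearMap.snd κ κ κ).smulRight (1 - e)) (by simp)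
    (by
      intro u v
      simp only [LinearMap.add_apply, LinearMap.smulRight_apply, LinearMap.fst_apply, LinearMap.snd_apply,
        Prod.fst_mul, Prod.snd_mul, Algebra.smul_def, map_mul]
      linear_combination (-(algebraMap κ A u.1 * algebraMap κ A v.1) + algebraMap κ A u.1 * algebraMap κ A v.2
        + algebraMap κ A u.2 * algebraMap κ A v.1 - algebraMap κ A u.2 * algebraMap κ A v.2) * hee)
  refine ⟨(AlgEquiv.ofBijective φ ⟨?_, ?_⟩).symm⟩
  · rw [injective_iff_map_eq_zero]
    intro u hu
    change u.1 • e + u.2 • (1 - e) = 0 at hu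
    have he0 : e ≠ 0 := fun h0 => heb (h0 ▸ zero_mem _)
    have he1 : 1 - e ≠ 0 := fun h0 => heb (sub_eq_zero.1 h0 ▸ one_mem _)
    have a1 : u.1 • e = 0 := by
      have := congrArg (e * ·) hu
      simpa [mul_add, mul_sub, hee] using this
    have a2 : u.2 • (1 - e) = 0 := by simpa [a1] using hu
    exact Prod.ext ((smul_eq_zero.1 a1).resolve_right he0) ((smul_eq_zero.1 a2).resolve_right he1)
  · rw [← AlgHom.range_eq_top, eq_top_iff, ← hgen e heb, Algebra.adjoin_le_iff]
    rintro _ rfl
    exact ⟨(1, 0), by simp [φ]⟩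

end Groth.Agent.S15939
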