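import Groth.Statements.S15941
import Mathlib.RingTheory.IntegralClosure.IntegrallyClosed
-- import your own Groth.Agent.* helpers here

set_option autoImplicit false
universe u
open HTop

namespace Groth.Agent.S15941

/-- An integrally closed integral domain is a seminormal ring, that is, whenever x^3 = y^2 there is
exactly one element a with x = a^2 and y = a^3. (The published statement is for a normal Noetherian
scheme and reduces at once to this affine integral case; the Noetherian hypothesis plays no role.) -/
theorem result (A : Type u) [CommRing A] [IsDomain A]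
    [IsIntegrallyClosed A] : HTop.IsSeminormalRing A := by
  intro x y hxy
  rcases eq_or_ne x 0 with rfl | hx
  · rw [zero_pow (by norm_num), eq_comm, pow_eq_zero_iff (by norm_num)] at hxy
    subst hxy
    exact ⟨0, by simp, fun a ha => pow_eq_zero_iff (n := 2) (by norm_num) |>.mp ha.1.symm⟩
  let K := FractionRing A
  have hxK : algebraMap A K x ≠ 0 := (map_ne_zero_iff _ (IsFractionRing.injective A K)).mpr hx
  have h3 : algebraMap A K x ^ 3 = algebraMap A K y ^ 2 := by rw [← map_pow, hxy, map_pow]
  have h2 : (algebraMap A K y / algebraMap A K x) ^ 2 = algebraMap A K x := by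
    rw [div_pow, ← h3, pow_succ, mul_div_cancel_left₀ _ (pow_ne_zero 2 hxK)]
  obtain ⟨a, ha⟩ := IsIntegrallyClosed.exists_algebraMap_eq_of_isIntegral_pow (R := A) (K := K) (n := 2) (by norm_num)
    (x := algebraMap A K y / algebraMap A K x) (by rw [h2]; exact isIntegral_algebraMap)
  have hy : y = a * x := IsFractionRing.injective A K (by
    rw [map_mul, ha, div_mul_cancel₀ _ hxK])
  have hxa : x = a ^ 2 := IsFractionRing.injective A K (by rw [map_pow, ha, h2])
  refine ⟨a, ⟨hxa, ?_⟩, fun b hb => ?_⟩
  · rw [hy, hxa]; ring
  · refine mul_right_cancel₀ hx ?_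
    rw [← hy, hb.2, hb.1]; ring

end Groth.Agent.S15941
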