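import Groth.Statements.S15961
import Groth.Agent.AWN.Glue

set_option autoImplicit false
universe u
open HTop

namespace Groth.Agent.S15961

open CategoryTheory AlgebraicGeometry in
/-- Let ν : X' → X be a seminormalization of the scheme X (X' seminormal, ν a universal homeomorphism
inducing isomorphisms on residue fields and initial among such morphisms to X) and let U be an open
subscheme of X. Then the restriction of ν over U, ν⁻¹(U) → U, is a seminormalization of U. (The
published lemma also treats U → X a localisation; that case is not restated.) -/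
theorem result {X' X : Scheme.{u}} (ν : X' ⟶ X)
    (hν : HTop.IsSeminormalization ν) (hX' : HTop.IsSeminormal X') (U : X.Opens) :
    HTop.IsSeminormalization (ν ∣_ U) := by
  have h0 := Groth.Agent.AWN.locUniv True X
  have hs := h0.isSeminormalization
  obtain ⟨b, hb, -⟩ := hν.2 _ (Groth.Agent.AWN.normToBase True X) hs.1.1 hs.1.2
  obtain ⟨a, ha, -⟩ := hs.2 _ ν hν.1.1 hν.1.2
  have e1 : b ≫ a = 𝟙 X' := (hν.2 _ ν hν.1.1 hν.1.2).unique
    (by rw [Category.assoc, ha, hb]) (Category.id_comp _)
  have e2 : a ≫ b = 𝟙 _ := (hs.2 _ (Groth.Agent.AWN.normToBase True X) hs.1.1 hs.1.2).unique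
    (by rw [Category.assoc, hb, ha]) (Category.id_comp _)
  have : IsIso b := ⟨a, e1, e2⟩
  rw [← hb]
  exact ((h0.of_iso b).restrict U).isSeminormalization

end Groth.Agent.S15961
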