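import Groth.Statements.S15962
import Groth.Agent.AWN.NormalScheme
import Groth.Agent.AWN.ResPullback
-- import your own Groth.Agent.* helpers here

set_option autoImplicit false
universe u
open HTop

open Groth.Agent.AWN

namespace Groth.Agent.S15962

open CategoryTheory AlgebraicGeometry in
/-- Let S be a reduced Noetherian scheme, π : S̃ → S its normalisation (S̃ has integrally closed local
domains, π is integral and restricts to an isomorphism over a dense open subset of S whose preimage
is dense in S̃), and ν : X' → S a seminormalization of S (X' seminormal, ν a universal homeomorphism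
inducing isomorphisms on residue fields, initial among such). Then the normalisation factors through
the seminormalisation: there is a morphism g : S̃ → X' with g followed by ν equal to π. -/
theorem result {S Sn X' : Scheme.{u}} [IsNoetherian S] [IsReduced S]
    (π : Sn ⟶ S) [IsIntegralHom π] (hn : Pi1.IsNormalScheme Sn)
    (hbir : ∃ U : S.Opens, Dense (U : Set S) ∧ Dense ((π ⁻¹ᵁ U : Sn.Opens) : Set Sn) ∧ IsIso (π ∣_ U))
    (ν : X' ⟶ S) (hν : HTop.IsSeminormalization ν) (hX' : HTop.IsSeminormal X') :
    ∃ g : Sn ⟶ X', g ≫ ν = π := by
    haveI hSn := (isN_of_isNormalScheme hn).isReduced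
    obtain ⟨⟨hu, hr⟩, -⟩ := hν
    obtain ⟨h1, h2, h3⟩ := (isUnivHomeo_iff ν).mp hu
    let p := Limits.pullback.snd ν π
    have hc : CondHom True p := by
      refine ⟨fun P' T' i j q hsq => hu (i ≫ Limits.pullback.fst ν π) (j ≫ π) q
        (hsq.paste_vert (IsPullback.of_hasPullback ν π).flip |>.flip |>.flip), fun _ z => ?_⟩
      have := (resTriv_pullback ν π hr) z
      exact this
    obtain ⟨g, hg, -⟩ := (isN_of_isNormalScheme hn).existsUnique_section _ p hc
    exact ⟨g ≫ Limits.pullback.fst ν π, by rw [Category.assoc, Limits.pullback.condition, ← Category.assoc, hg, Category.id_comp]⟩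

end Groth.Agent.S15962
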