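import Groth.Statements.S15963
import Groth.Agent.AWN.Normal
-- import your own Groth.Agent.* helpers here

set_option autoImplicit false
universe u
open HTop

open Groth.Agent.AWN

open Groth.Agent.AWN

namespace Groth.Agent.S15963

open CategoryTheory AlgebraicGeometry in
/-- Let S be a reduced Noetherian scheme, π : S̃ → S its normalisation (S̃ has integrally closed local
domains, π is integral and an isomorphism over a dense open subset of S with dense preimage), ν : X'
→ S a seminormalization of S (X' seminormal, ν a universal homeomorphism with residue-field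
isomorphisms, initial among such) and g : S̃ → X' a morphism with g followed by ν equal to π. Then ν
and g are scheme-theoretically dominant (the structure sheaf maps injectively into the direct
image), and if π is finite then so are ν and g. -/
theorem result {S Sn X' : Scheme.{u}}
    [IsNoetherian S] [IsReduced S]
    (π : Sn ⟶ S) [IsIntegralHom π] (hn : Pi1.IsNormalScheme Sn)
    (hbir : ∃ U : S.Opens, Dense (U : Set S) ∧ Dense ((π ⁻¹ᵁ U : Sn.Opens) : Set Sn) ∧ IsIso (π ∣_ U))
    (ν : X' ⟶ S) (hν : HTop.IsSeminormalization ν) (hX' : HTop.IsSeminormal X')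
    (g : Sn ⟶ X') (hg : g ≫ ν = π) :
    (IsSchemeTheoreticallyDominant ν ∧ IsSchemeTheoreticallyDominant g) ∧
      (IsFinite π → IsFinite ν ∧ IsFinite g) := by
    subst hg
    obtain ⟨⟨hu, -⟩, -⟩ := hν
    obtain ⟨h1, h2, h3⟩ := (isUnivHomeo_iff ν).mp hu
    haveI := (isSeminormal_iff.mp hX').isReduced
    obtain ⟨U, hU, hU', hiso⟩ := hbir
    haveI : Surjective (g ≫ ν) := by
      refine ⟨fun s => ?_⟩
      have hcl : IsClosed (Set.range (g ≫ ν)) := (g ≫ ν).isClosedMap.isClosed_range
      refine (hcl.closure_subset_iff.mpr ?_) (hU s)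
      intro u hu
      obtain ⟨v, hv⟩ := (ConcreteCategory.bijective_of_isIso ((g ≫ ν) ∣_ U).base).2 ⟨u, hu⟩
      exact ⟨v.1, (morphismRestrict_base_coe (g ≫ ν) U v).symm.trans (congrArg Subtype.val hv)⟩
    haveI : Surjective g := ⟨fun x => by
      obtain ⟨z, hz⟩ := (g ≫ ν).surjective (ν x)
      exact ⟨z, ν.injective hz⟩⟩
    haveI hdν : IsSchemeTheoreticallyDominant ν := .of_isDominant ν
    haveI hdg : IsSchemeTheoreticallyDominant g := .of_isDominant g
    refine ⟨⟨hdν, hdg⟩, fun hfin => ?_⟩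
    haveI hg : IsFinite g := IsFinite.of_comp g ν
    refine ⟨(isFinite_iff ν).mpr ⟨inferInstance, fun V hV => ?_⟩, hg⟩
    have hc : ((g ≫ ν).app V).hom.Finite := (g ≫ ν).finite_app V hV
    rw [Scheme.Hom.comp_app] at hc
    have hinj := g.app_injective (ν ⁻¹ᵁ V)
    haveI := IsLocallyNoetherian.component_noetherian ⟨V, hV⟩
    algebraize [(ν.app V).hom, (g.app (ν ⁻¹ᵁ V)).hom, (g.app (ν ⁻¹ᵁ V)).hom.comp (ν.app V).hom]
    haveI : Module.Finite Γ(S, V) Γ(Sn, g ⁻¹ᵁ (ν ⁻¹ᵁ V)) := hc
    exact Module.Finite.of_injective (IsScalarTower.toAlgHom Γ(S, V) Γ(X', ν ⁻¹ᵁ V) Γ(Sn, g ⁻¹ᵁ (ν ⁻¹ᵁ V))).toLinearMap hinj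

end Groth.Agent.S15963
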