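import Mathlib
import Groth.Statements.S15987
-- import your own Groth.Agent.* helpers here

set_option autoImplicit false
universe u v
open Deform

namespace Groth.Agent.S15987

open TrivSqZeroExt in
/-- Let k be a field, A a commutative k-algebra and q_i : A → k (i ∈ ι) k-algebra maps (marked k-points
of Spec A). The k-algebra automorphisms φ of the ring of dual numbers A[ε] that fix ε (so are
k[ε]-linear), are the identity modulo ε, and satisfy q_i((φ x)_ε) = q_i(x_ε) for all i and x
(compatibility with the trivial lifts A[ε] → k[ε] of the marked points) are in bijection with the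
k-derivations D : A → A such that q_i ∘ D = 0 for every i, the bijection sending φ to a ↦ (φ(a))_ε.
(The source identifies the right-hand side with the global vector fields vanishing at the marked
points; the condition the computation yields is q_i ∘ D = 0, which is the same for Spec A smooth
over k but is weaker in general, e.g. for A = k[x]/(x^2) with 2 invertible in k.) -/
theorem result
    (k : Type u) [Field k] (A : Type u) [CommRing A] [Algebra k A] {ι : Type v} (q : ι → (A →ₐ[k] k)) :
    ∃ e : {φ : DualNumber A ≃ₐ[k] DualNumber A //
            φ DualNumber.eps = DualNumber.eps ∧ (∀ x, (φ x).fst = x.fst) ∧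
              ∀ i x, q i (φ x).snd = q i x.snd} ≃
          {D : Derivation k A A // ∀ i a, q i (D a) = 0},
      ∀ φ (a : A), (e φ).1 a = (φ.1 (inl a : DualNumber A)).snd := by
  refine ⟨{
    toFun := fun φ => ⟨Derivation.mk'
        { toFun := fun a => (φ.1 (inl a : DualNumber A)).snd
          map_add' := fun a b => by rw [inl_add, map_add, snd_add]
          map_smul' := fun c a => by rw [inl_smul, map_smul, snd_smul]; rfl }
        (fun a b => by
          show (φ.1 (inl (a * b) : DualNumber A)).snd = a • (φ.1 (inl b : DualNumber A)).snd + b • (φ.1 (inl a : DualNumber A)).snd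
          rw [inl_mul, map_mul, DualNumber.snd_mul, φ.2.2.1, φ.2.2.1, fst_inl, fst_inl, smul_eq_mul, smul_eq_mul, mul_comm _ b]),
      fun i a => by
        show q i (φ.1 (inl a : DualNumber A)).snd = 0
        rw [φ.2.2.2 i (inl a), snd_inl, map_zero]⟩
    invFun := fun D => ⟨AlgEquiv.ofBijective
        (AlgHom.ofLinearMap
          { toFun := fun x => inl x.fst + inr (D.1 x.fst + x.snd)
            map_add' := fun x y => by ext <;> simp <;> ring
            map_smul' := fun c x => by ext <;> simp [smul_add] }
          (by show inl (1 : DualNumber A).fst + inr (D.1 (1 : DualNumber A).fst + (1 : DualNumber A).snd) = (1 : DualNumber A)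
              ext <;> simp)
          (fun x y => by
            show inl (x * y).fst + inr (D.1 (x * y).fst + (x * y).snd) = (inl x.fst + inr (D.1 x.fst + x.snd)) * (inl y.fst + inr (D.1 y.fst + y.snd))
            ext <;> simp <;> ring))
        (by
          refine Function.bijective_iff_has_inverse.2 ⟨fun x => inl x.fst + inr (x.snd - D.1 x.fst), fun x => ?_, fun x => ?_⟩
          · show inl (inl x.fst + inr (D.1 x.fst + x.snd) : DualNumber A).fst + inr (_ - D.1 _) = x
            ext <;> simp
          · show inl (inl x.fst + inr (x.snd - D.1 x.fst) : DualNumber A).fst + inr (D.1 _ + _) = x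
            ext <;> simp),
      by
        show inl (DualNumber.eps : DualNumber A).fst + inr (D.1 _ + (DualNumber.eps : DualNumber A).snd) = DualNumber.eps
        ext <;> simp,
      fun x => by
        show (inl x.fst + inr (D.1 x.fst + x.snd) : DualNumber A).fst = x.fst
        simp,
      fun i x => by
        show q i (inl x.fst + inr (D.1 x.fst + x.snd) : DualNumber A).snd = q i x.snd
        simp [D.2 i]⟩
    left_inv := ?_
    right_inv := ?_ }, fun φ a => rfl⟩
  · intro φ
    refine Subtype.ext (AlgEquiv.ext fun x => ?_)
    show inl x.fst + inr ((φ.1 (inl x.fst : DualNumber A)).snd + x.snd) = φ.1 x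
    conv_rhs => rw [← inl_fst_add_inr_snd_eq x, map_add]
    have : φ.1 (inr x.snd) = inr x.snd := by
      have h1 : (inr x.snd : DualNumber A) = inl x.snd * DualNumber.eps := by ext <;> simp
      rw [h1, map_mul, φ.2.1]
      ext
      · simp
      · simp [φ.2.2.1]
    rw [this]
    ext
    · simp [φ.2.2.1]
    · simp
  · intro D
    refine Subtype.ext (Derivation.ext fun a => ?_)
    show (inl (inl a : DualNumber A).fst + inr (D.1 (inl a : DualNumber A).fst + (inl a : DualNumber A).snd) : DualNumber A).snd = D.1 a
    simp

end Groth.Agent.S15987
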