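import Groth.Statements.S1599
import Groth.Agent.FiniteNormalCompletion.Basic
import Groth.Agent.FiniteNormalCompletion.Completion
import Groth.Agent.CohenStruct.N2
-- import your own Groth.Agent.* helpers here

set_option autoImplicit false
universe u
open CategoryTheory CategoryTheory.Limits AlgebraicGeometry
open Resolve

namespace Groth.Agent.S1599

set_option backward.isDefEq.respectTransparency false in

/-- Let A be a Noetherian local ring with maximal ideal m and B ⊆ C finite A-algebras. If B is a normal
ring and the m-adic completion of C is a normal ring, then the m-adic completion of B is a normal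
ring. -/
theorem result (A : Type u) [CommRing A] [IsLocalRing A] [IsNoetherianRing A]
    (B C : Type u) [CommRing B] [CommRing C] [Algebra A B] [Algebra A C] [Algebra B C] [IsScalarTower A B C]
    [Module.Finite A B] [Module.Finite A C] (hinj : Function.Injective (algebraMap B C))
    (hB : EGA4.IsNormalRing B)
    (hC : EGA4.IsNormalRing (AdicCompletion ((IsLocalRing.maximalIdeal A).map (algebraMap A C)) C)) :
    EGA4.IsNormalRing (AdicCompletion ((IsLocalRing.maximalIdeal A).map (algebraMap A B)) B) := by
  classical
  let m := IsLocalRing.maximalIdeal A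
  let Ah := AdicCompletion m A
  haveI : IsNoetherianRing B := IsNoetherianRing.of_finite A B
  haveI : Module.Finite B C := Module.Finite.of_restrictScalars_finite A B C
  haveI : IsNoetherianRing Ah := CohenStruct.isNoetherianRing_completion A
  let D := TensorProduct A B Ah
  let E := TensorProduct B C D
  let eD := FiniteNormalCompletion.mapCompletionEquiv A B
  let eC := FiniteNormalCompletion.mapCompletionEquiv A C
  let eE : E ≃+* TensorProduct A C Ah :=
    (Algebra.TensorProduct.cancelBaseChange A B B C Ah).toRingEquiv
  have transport : ∀ {R S : Type u} [CommRing R] [CommRing S], (R ≃+* S) →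
      EGA4.IsNormalRing S → EGA4.IsNormalRing R := fun {R S} _ _ e h => by
    letI : Algebra R S := e.toRingHom.toAlgebra
    let el : R ≃ₗ[R] S := { e.toAddEquiv with map_smul' := fun r x => e.map_mul r x }
    haveI : Module.FaithfullyFlat R S := Module.FaithfullyFlat.of_linearEquiv R R el.symm
    exact FlatAscent.isNormalRing_of_faithfullyFlat (S := S) h
  have hE : EGA4.IsNormalRing E := transport (eE.trans eC) hC
  refine transport eD.symm ?_
  change EGA4.IsNormalRing D
  -- `D` is Noetherian
  haveI : IsNoetherianRing (TensorProduct A Ah B) := IsNoetherianRing.of_finite Ah _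
  haveI : IsNoetherianRing D := isNoetherianRing_of_ringEquiv _ (Algebra.TensorProduct.comm A Ah B).toRingEquiv
  haveI : Module.Flat B D := inferInstance
  -- `D → E` is injective
  let j : D →ₐ[B] E := Algebra.TensorProduct.includeRight
  have hj : Function.Injective j := Algebra.TensorProduct.includeRight_injective (R := B) hinj
  haveI hredE : IsReduced E := NormalTensor.isReduced_of_isNormalRing hE
  haveI : IsReduced D := isReduced_of_injective j.toRingHom hj
  haveI : IsArtinianRing (FractionRing D) := NormalTensor.isArtinianRing_fractionRing D
  haveI : IsReduced (FractionRing D) :=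
    isReduced_localizationPreserves (nonZeroDivisors D) _ inferInstance
  refine NormalTensor.isNormalRing_of_isIntegrallyClosed (Q := FractionRing D) fun q hq => ?_
  obtain ⟨p, hp, hpq⟩ := hq
  obtain ⟨b, y, rfl⟩ := IsLocalization.exists_mk'_eq (nonZeroDivisors D) q
  have h2 : (p.scaleRoots (y : D)).eval₂ (RingHom.id D) b = 0 := by
    refine IsFractionRing.injective D (FractionRing D) ?_
    rw [Polynomial.hom_eval₂, RingHom.comp_id, map_zero]
    have := Polynomial.scaleRoots_eval₂_eq_zero (p := p) (algebraMap D (FractionRing D)) (s := (y : D)) hpq
    rwa [IsLocalization.mk'_spec'] at this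
  have h3 : (p.scaleRoots (y : D)).eval₂ j.toRingHom (j.toRingHom b) = 0 := by
    have := congrArg j.toRingHom h2
    rwa [Polynomial.hom_eval₂, RingHom.comp_id, map_zero] at this
  obtain ⟨x, hx⟩ := Ideal.mem_span_singleton'.1
    (FiniteNormalCompletion.mem_span_of_scaleRoots hE j.toRingHom hp h3)
  obtain ⟨z, hz⟩ := FiniteNormalCompletion.exists_mul_eq_of_mul_eq B C D hinj hB y.2 hx
  refine ⟨z, ?_⟩
  rw [IsLocalization.eq_mk'_iff_mul_eq, ← map_mul]
  exact congrArg _ hz

end Groth.Agent.S1599
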