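import Groth.Statements.S15991
import Groth.Agent.HomTangent.DefIso
import Groth.Agent.HilbLoc.Basic
import Groth.Agent.ArtFunLib.Basic
import Groth.Agent.TangentFin.Tangent
import Groth.Agent.DefTriv.Marked

set_option maxHeartbeats 1000000
set_option backward.isDefEq.respectTransparency false

set_option autoImplicit false
universe u v
open Deform

namespace Groth.Agent.S15991

open AlgebraicGeometry CategoryTheory in
/-- Let k be a field and X an affine scheme smooth over k, with finitely many pairwise distinct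
k-rational points p_j (j ∈ ι). Let X' → Spec k[ε] be flat, i : X → X' a morphism making X the fibre
over the closed point Spec k → Spec k[ε] (cartesian square), and p'_j : Spec k[ε] → X' sections
restricting to the p_j. Then there is an isomorphism φ : X' ≅ X ×_{Spec k} Spec k[ε] over Spec k[ε]
such that i followed by φ is the inclusion of X at the closed point (its first component is the
identity of X) and each p'_j followed by φ is the constant section through p_j: every first-order
deformation of a smooth affine scheme with marked points is trivial. (The source says non-singular;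
smooth over k is assumed here, and the marked points are taken pairwise distinct and finite in
number.) -/
theorem result
    (k : Type u) [Field k] (X : Scheme.{u}) (hX : X ⟶ Spec (CommRingCat.of k)) [IsAffine X] [Smooth hX]
    {ι : Type v} [Finite ι] (p : ι → (Spec (CommRingCat.of k) ⟶ X)) (hp : ∀ j, p j ≫ hX = 𝟙 _)
    (hinj : Function.Injective p)
    (X' : Scheme.{u}) (g : X' ⟶ Spec (CommRingCat.of (DualNumber k))) [Flat g] (i : X ⟶ X')
    (hsq : IsPullback i hX g
      (Spec.map (CommRingCat.ofHom (TrivSqZeroExt.fstHom k k k).toRingHom)))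
    (p' : ι → (Spec (CommRingCat.of (DualNumber k)) ⟶ X')) (hp' : ∀ j, p' j ≫ g = 𝟙 _)
    (hpp' : ∀ j, p j ≫ i = Spec.map (CommRingCat.ofHom (TrivSqZeroExt.fstHom k k k).toRingHom) ≫ p' j) :
    ∃ φ : X' ≅ Limits.pullback hX (Spec.map (CommRingCat.ofHom (algebraMap k (DualNumber k)))),
      φ.hom ≫ Limits.pullback.snd hX (Spec.map (CommRingCat.ofHom (algebraMap k (DualNumber k)))) = g ∧
        i ≫ φ.hom ≫ Limits.pullback.fst hX (Spec.map (CommRingCat.ofHom (algebraMap k (DualNumber k)))) = 𝟙 X ∧
          ∀ j, p' j ≫ φ.hom ≫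
              Limits.pullback.fst hX (Spec.map (CommRingCat.ofHom (algebraMap k (DualNumber k)))) =
            Spec.map (CommRingCat.ofHom (algebraMap k (DualNumber k))) ≫ p j := by
  let ξ : ArtFun.DefSch X hX (ArtFun.Art.dual k k) := ⟨X', g, inferInstance, i, hsq⟩
  have hX' : IsAffineOpen (⊤ : X'.Opens) := DefGlue.isAffineOpen_of_i ξ (isAffineOpen_top X)
  obtain ⟨-, hsurj, hker⟩ := DefAut.chart ξ hX'
  letI : Algebra k Γ(X, ⊤) := (hX.appTop.hom.comp (Scheme.ΓSpecIso (CommRingCat.of k)).inv.hom).toAlgebra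
  letI : Algebra k Γ(X', ⊤) := ((DefAut.structHom ξ ⊤).comp (algebraMap k (DualNumber k))).toAlgebra
  haveI : Algebra.FormallySmooth k Γ(X, ⊤) := by
    have h1 : (hX.appTop).hom.Smooth := HasRingHomProperty.appTop @Smooth hX inferInstance
    have h2 : (hX.appTop.hom.comp (Scheme.ΓSpecIso (CommRingCat.of k)).inv.hom).Smooth :=
      RingHom.Smooth.respectsIso.2 hX.appTop.hom (Scheme.ΓSpecIso (CommRingCat.of k)).symm.commRingCatIsoToRingEquiv h1
    have h3 : Algebra.Smooth k Γ(X, ⊤) := RingHom.smooth_algebraMap.1 h2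
    exact h3.formallySmooth
  let π0 : Γ(X', ⊤) →ₐ[k] Γ(X, ⊤) :=
    { (i.appTop).hom with
      commutes' := fun c => by
        have h := DefAut.i_app_structHom ξ ⊤ (algebraMap k (DualNumber k) c)
        refine h.trans ?_
        rw [show (ArtFun.Art.dual k k).res (algebraMap k (DualNumber k) c) = c from
          (ArtFun.Art.dual k k).res.commutes c]
        change X.presheaf.map (homOfLE (le_top : (⊤ : X.Opens) ≤ ⊤)).op _ = _
        rw [show (homOfLE (le_top : (⊤ : X.Opens) ≤ ⊤)) = 𝟙 _ from rfl, op_id, X.presheaf.map_id]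
        rfl }
  have hstr : ∀ a, DefAut.structHom ξ ⊤ a = g.appTop ((Scheme.ΓSpecIso (CommRingCat.of (DualNumber k))).inv a) := by
    intro a
    change X'.presheaf.map (homOfLE (le_top : (⊤ : X'.Opens) ≤ ⊤)).op _ = _
    rw [show (homOfLE (le_top : (⊤ : X'.Opens) ≤ ⊤)) = 𝟙 _ from rfl, op_id, X'.presheaf.map_id]
    rfl
  have hev : ∀ {R : Type u} [CommRing R] {Y : Scheme.{u}} (y : Spec (CommRingCat.of R) ⟶ Y)
      (q : Y ⟶ Spec (CommRingCat.of R)), y ≫ q = 𝟙 _ → ∀ c,
      (Scheme.ΓSpecIso (CommRingCat.of R)).hom (y.appTop (q.appTop ((Scheme.ΓSpecIso (CommRingCat.of R)).inv c))) = c := by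
    intro R _ Y y q hq c
    rw [← ConcreteCategory.comp_apply q.appTop, ← Scheme.Hom.comp_appTop, hq, Scheme.Hom.id_appTop,
      ConcreteCategory.id_apply, ← ConcreteCategory.comp_apply, Iso.inv_hom_id, ConcreteCategory.id_apply]
  let ev : ι → Γ(X, ⊤) →ₐ[k] k := fun j =>
    { ((p j).appTop ≫ (Scheme.ΓSpecIso (CommRingCat.of k)).hom).hom with
      commutes' := fun c => hev (p j) hX (hp j) c }
  let ev' : ι → Γ(X', ⊤) →ₐ[k] DualNumber k := fun j =>
    { ((p' j).appTop ≫ (Scheme.ΓSpecIso (CommRingCat.of (DualNumber k))).hom).hom with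
      commutes' := fun c => by
        change (Scheme.ΓSpecIso _).hom ((p' j).appTop (DefAut.structHom ξ ⊤ (algebraMap k (DualNumber k) c))) = _
        rw [hstr]
        exact hev (p' j) g (hp' j) _ }
  have hcompat : ∀ j b', TrivSqZeroExt.fst (ev' j b') = ev j (π0 b') := fun j b' => by
    have h := congrArg (fun m => (Scheme.ΓSpecIso (CommRingCat.of k)).hom (Scheme.Hom.appTop m b')) (hpp' j)
    simp only [Scheme.Hom.comp_appTop, ConcreteCategory.comp_apply] at h
    refine Eq.trans ?_ h.symm
    exact congr($((Scheme.ΓSpecIso_naturality (CommRingCat.ofHom (TrivSqZeroExt.fstHom k k k).toRingHom)))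
      ((p' j).appTop b')).symm
  have hinj' : Function.Injective ev := fun a b h => hinj (ext_of_isAffine (CommRingCat.hom_ext (RingHom.ext fun s =>
    (ConcreteCategory.bijective_of_isIso (Scheme.ΓSpecIso (CommRingCat.of k)).hom).1 (DFunLike.congr_fun h s))))
  have hm : IsLocalRing.maximalIdeal (ArtFun.Art.dual k k) = Ideal.span {(DefAffHull.epsD : ArtFun.Art.dual k k)} :=
    le_antisymm TangentFin.maximalIdeal_dual ((Ideal.span_singleton_le_iff_mem _).2
      ((ArtFun.Art.mem_maximalIdeal_iff _ _).2 rfl))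
  obtain ⟨σ, hσ, hσj⟩ := DefTriv.exists_section_through π0 hsurj (DefAut.structHom ξ ⊤ DefAffHull.epsD)
    ((map_mul (DefAut.structHom ξ ⊤) _ _).symm.trans
      ((congrArg (DefAut.structHom ξ ⊤) (DualNumber.eps_mul_eps (R := k))).trans (map_zero _)))
    (by
      change RingHom.ker (ξ.i.app ⊤).hom = _
      rw [hker, hm, Ideal.map_span, Set.image_singleton])
    ev hinj' ev' hcompat (fun j => by
      change (Scheme.ΓSpecIso _).hom ((p' j).appTop (DefAut.structHom ξ ⊤ DefAffHull.epsD)) = _
      rw [hstr]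
      exact hev (p' j) g (hp' j) _)
  have hσ' : CommRingCat.ofHom σ.toRingHom ≫ i.appTop = 𝟙 _ := CommRingCat.hom_ext (RingHom.ext fun b => hσ b)
  let q : X' ⟶ X := X'.toSpecΓ ≫ Spec.map (CommRingCat.ofHom σ.toRingHom) ≫ X.isoSpec.inv
  have hiq : i ≫ q = 𝟙 X := by
    simp only [q]
    rw [Scheme.toSpecΓ_naturality_assoc, ← Spec.map_comp_assoc, hσ', Spec.map_id]
    exact (congrArg (X.toSpecΓ ≫ ·) (Category.id_comp _)).trans X.isoSpec.hom_inv_id
  have hq : q ≫ hX = g ≫ Spec.map (CommRingCat.ofHom (algebraMap k (DualNumber k))) := by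
    have hq1 : q.appTop = CommRingCat.ofHom σ.toRingHom := by
      simp only [q]
      simp [Scheme.isoSpec]
      exact congrArg (· ≫ CommRingCat.ofHom σ.toRingHom) (Scheme.toSpecΓ_appTop X).symm
    refine ext_of_isAffine ((Scheme.Hom.comp_appTop q hX).trans ((congrArg (hX.appTop ≫ ·) hq1).trans ?_))
    rw [Scheme.Hom.comp_appTop]
    refine (cancel_epi (Scheme.ΓSpecIso (CommRingCat.of k)).inv).1 ?_
    rw [← reassoc_of% (Scheme.ΓSpecIso_inv_naturality (CommRingCat.ofHom (algebraMap k (DualNumber k))))]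
    ext c
    refine (σ.commutes c).trans ?_
    change X'.presheaf.map (homOfLE (le_top : (⊤ : X'.Opens) ≤ ⊤)).op _ = _
    rw [show (homOfLE (le_top : (⊤ : X'.Opens) ≤ ⊤)) = 𝟙 _ from rfl, op_id, X'.presheaf.map_id]
    rfl
  let π : X' ⟶ (HilbLoc.triv hX (ArtFun.Art.dual k k)).total := Limits.pullback.lift q g hq
  have hπg : π ≫ (HilbLoc.triv hX (ArtFun.Art.dual k k)).f = g := Limits.pullback.lift_snd _ _ _
  have hπi : i ≫ π = ArtFun.Art.XAincl hX (ArtFun.Art.dual k k) := by
    refine Limits.pullback.hom_ext ?_ ?_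
    · rw [Category.assoc, Limits.pullback.lift_fst, hiq]
      exact (ArtFun.Art.XAincl_fst hX (ArtFun.Art.dual k k)).symm
    · rw [Category.assoc, Limits.pullback.lift_snd, hsq.w]
      exact (ArtFun.Art.XAincl_snd hX (ArtFun.Art.dual k k)).symm
  haveI : IsIso π := HomTangent.isIso_of_fibre ξ (HilbLoc.triv hX (ArtFun.Art.dual k k)) π hπg hπi
  have hπq : π ≫ Limits.pullback.fst hX (Spec.map (CommRingCat.ofHom (algebraMap k (DualNumber k)))) = q :=
    Limits.pullback.lift_fst _ _ _
  refine ⟨asIso π, Limits.pullback.lift_snd _ _ _, ?_, fun j => ?_⟩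
  · rw [asIso_hom, hπq]; exact hiq
  · rw [asIso_hom, hπq]
    have hq1 : q.appTop = CommRingCat.ofHom σ.toRingHom := by
      simp only [q]
      simp [Scheme.isoSpec]
      exact congrArg (· ≫ CommRingCat.ofHom σ.toRingHom) (Scheme.toSpecΓ_appTop X).symm
    refine ext_of_isAffine ((Scheme.Hom.comp_appTop _ _).trans ((congrArg (· ≫ (p' j).appTop) hq1).trans ?_))
    rw [Scheme.Hom.comp_appTop]
    refine (cancel_mono (Scheme.ΓSpecIso (CommRingCat.of (DualNumber k))).hom).1 ?_
    rw [Category.assoc, Category.assoc, Scheme.ΓSpecIso_naturality]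
    exact CommRingCat.hom_ext (RingHom.ext fun b => hσj j b)


end Groth.Agent.S15991
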