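import Groth.Statements.S16002
import Groth.Agent.CurveVB.MaxSlope
import Groth.Agent.CurveVB.Higgs
-- import your own Groth.Agent.* helpers here

set_option autoImplicit false
set_option backward.isDefEq.respectTransparency false
open CategoryTheory AlgebraicGeometry CategoryTheory.Limits
open VBCurve

namespace Groth.Agent.S16002
open Groth.Agent

/-- Let X be a smooth proper integral curve over the complex numbers and (L_i)_{i ∈ ι} a family of
invertible O_X-modules. A tuple is a finite locally free O_X-module E of rank r ≥ 1 with maps φ_i :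
E → E ⊗ L_i; a submodule j : G → E (a monomorphism) is invariant when for every i some χ : G → G ⊗
L_i followed by j ⊗ L_i equals j followed by φ_i; the tuple is semistable when deg G · r ≤ deg E · n
for every invariant finite locally free submodule G of rank n ≥ 1, degrees being χ − rank · χ(O_X).
If (E, φ) and (F, ψ) are semistable tuples of ranks r ≥ 1 and s ≥ 1 over the same family (L_i) and f
: E → F is a nonzero module map with f followed by ψ_i equal to φ_i followed by f ⊗ L_i for every i,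
then the slope of E is at most that of F: deg E · s ≤ deg F · r. (The published lemma has finitely
many pairwise commuting twisting maps and morphisms compatible up to one nonzero scalar; the
commutation is not used, the index set is arbitrary here, and the scalar case reduces to this one by
rescaling the ψ_i.) -/
theorem result
    (X : Scheme.{0}) [X.Over (Spec (CommRingCat.of ℂ))] [IsIntegral X]
    [IsProper (X ↘ Spec (CommRingCat.of ℂ))] [Smooth (X ↘ Spec (CommRingCat.of ℂ))]
    (hdim : topologicalKrullDim X = 1)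
    (ι : Type) (L : ι → X.Modules) (hL : ∀ i, PicF.IsInvertible (L i))
    (r s : ℕ) (hr : 0 < r) (hs : 0 < s)
    (E F : X.Modules) (hE : FlatMod.IsFinLocFreeOfRank r E) (hF : FlatMod.IsFinLocFreeOfRank s F)
    (φ : ∀ i, E ⟶ CohB1.tensorMod E (L i)) (ψ : ∀ i, F ⟶ CohB1.tensorMod F (L i))
    (hEss : (∀ (G : X.Modules) (n : ℕ) (j : G ⟶ E), Mono j → 0 < n → FlatMod.IsFinLocFreeOfRank n G →
      (∀ i, ∃ χ : G ⟶ CohB1.tensorMod G (L i), χ ≫ (CohB1.sheafifyMod X).map (MonoidalCategoryStruct.whiskerRight (C := CohB1.PMod X) j.val (CohB1.toPMod (L i))) = j ≫ φ i) →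
      Curv2.deg ℂ X G n * (r : ℤ) ≤ Curv2.deg ℂ X E r * (n : ℤ)))
    (hFss : (∀ (G : X.Modules) (n : ℕ) (j : G ⟶ F), Mono j → 0 < n → FlatMod.IsFinLocFreeOfRank n G →
      (∀ i, ∃ χ : G ⟶ CohB1.tensorMod G (L i), χ ≫ (CohB1.sheafifyMod X).map (MonoidalCategoryStruct.whiskerRight (C := CohB1.PMod X) j.val (CohB1.toPMod (L i))) = j ≫ ψ i) →
      Curv2.deg ℂ X G n * (s : ℤ) ≤ Curv2.deg ℂ X F s * (n : ℤ)))
    (f : E ⟶ F) (hf : ∀ i, f ≫ ψ i = φ i ≫ (CohB1.sheafifyMod X).map (MonoidalCategoryStruct.whiskerRight (C := CohB1.PMod X) f.val (CohB1.toPMod (L i)))) (hne : f ≠ 0) :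
    Curv2.deg ℂ X E r * (s : ℤ) ≤ Curv2.deg ℂ X F s * (r : ℤ) := by
  haveI : IsLocallyNoetherian X := LocallyOfFiniteType.isLocallyNoetherian (X ↘ Spec (CommRingCat.of ℂ))
  have hcE := DCohPerf.isCoh_finLocFree (CurveVB.finLocFree_of_rank hE)
  have hcF := DCohPerf.isCoh_finLocFree (CurveVB.finLocFree_of_rank hF)
  have hcK := QCohLib.isCoh_kernel f hcE hcF.1
  let j : cokernel (kernel.ι f) ⟶ F := cokernel.desc (kernel.ι f) f (kernel.condition f)
  haveI hj : Mono j := inferInstanceAs (Mono (Abelian.factorThruCoimage f))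
  have hjf : cokernel.π (kernel.ι f) ≫ j = f := cokernel.π_desc _ _ _
  obtain ⟨q, -, hq⟩ := CurveVB.exists_rank_sub ℂ hdim hcK hE (kernel.ι f)
  obtain ⟨t, -, ht⟩ := CurveVB.exists_rank_sub ℂ hdim (QCohLib.isCoh_cokernel _ hcK.1 hcE) hF j
  let S : ShortComplex X.Modules := ShortComplex.mk (kernel.ι f) (cokernel.π _) (cokernel.condition _)
  have hS : S.ShortExact := { exact := ShortComplex.exact_of_g_is_cokernel _ (cokernelIsCokernel _) }
  have hrqt : r = q + t := CurveVB.rank_add _ hS hq hE ht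
  have hdeg : Curv2.deg ℂ X E r = Curv2.deg ℂ X (kernel f) q + Curv2.deg ℂ X (cokernel (kernel.ι f)) t :=
    S7643.result ℂ X hdim.le _ hS q r t hq hE ht
  have ht0 : 0 < t := Nat.pos_of_ne_zero fun h => hne (by
    subst h
    rw [← hjf, (CurveVB.isZero_of_rank_zero ht).eq_of_src j 0, comp_zero])
  have hfj : ∀ i, HilbPoly.tMap (cokernel.π (kernel.ι f)) (L i) ≫ HilbPoly.tMap j (L i) = HilbPoly.tMap f (L i) := fun i => by
    rw [← LimSh.tensorModMap_comp, hjf]
  have hK0 : ∀ i, kernel.ι f ≫ φ i ≫ HilbPoly.tMap (cokernel.π (kernel.ι f)) (L i) = 0 := fun i => by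
    haveI := HilbPoly.mono_tMap j (hL i)
    rw [← cancel_mono (HilbPoly.tMap j (L i)), zero_comp, Category.assoc, Category.assoc, hfj i]
    have h := hf i
    change f ≫ ψ i = φ i ≫ HilbPoly.tMap f (L i) at h
    rw [← h, ← Category.assoc, kernel.condition, zero_comp]
  have b1 : Curv2.deg ℂ X (kernel f) q * (r : ℤ) ≤ Curv2.deg ℂ X E r * (q : ℤ) := by
    rcases Nat.eq_zero_or_pos q with h0 | h0
    · subst h0
      rw [CurveVB.deg_zero ℂ hdim hq]
      simp
    · refine hEss _ q (kernel.ι f) inferInstance h0 hq fun i => ?_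
      have h := HilbPoly.shortExact_tSC hS (hL i)
      haveI := h.mono_f
      have hν : (kernel.ι f ≫ φ i) ≫ (HilbPoly.tSC S (hL i)).g = 0 := by rw [Category.assoc]; exact hK0 i
      exact ⟨h.exact.lift _ hν, h.exact.lift_f _ hν⟩
  have b2 := hFss _ t j hj ht0 ht fun i => ⟨cokernel.desc (kernel.ι f) (φ i ≫ HilbPoly.tMap (cokernel.π (kernel.ι f)) (L i)) (hK0 i), by
    change cokernel.desc (kernel.ι f) (φ i ≫ HilbPoly.tMap (cokernel.π (kernel.ι f)) (L i)) (hK0 i) ≫ HilbPoly.tMap j (L i) = j ≫ ψ i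
    rw [← cancel_epi (cokernel.π (kernel.ι f)), cokernel.π_desc_assoc, Category.assoc, hfj i, ← Category.assoc, hjf]
    exact (hf i).symm⟩
  have hr' : (0 : ℤ) < r := by exact_mod_cast hr
  have hI : Curv2.deg ℂ X E r * (t : ℤ) ≤ Curv2.deg ℂ X (cokernel (kernel.ι f)) t * (r : ℤ) := by
    have hrq : (r : ℤ) = q + t := by exact_mod_cast hrqt
    have := congrArg (· * (r : ℤ)) hdeg
    simp only [hrq] at this b1 ⊢
    nlinarith
  refine le_of_mul_le_mul_right ?_ (show (0 : ℤ) < t by exact_mod_cast ht0)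
  nlinarith [mul_le_mul_of_nonneg_right hI (Int.natCast_nonneg s), mul_le_mul_of_nonneg_right b2 hr'.le]

end Groth.Agent.S16002
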