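import Groth.Statements.S1601
import Mathlib
-- import your own Groth.Agent.* helpers here

set_option autoImplicit false
universe u
open Resolve

namespace Groth.Agent.S1601

open MvPolynomial

variable {κ : Type u} [Field κ]

theorem exists_derivation_of_notMem_sq (h2 : (2 : κ) = 0) (t : κ) (ht : ∀ c, c ^ 2 ≠ t) :
    ∃ D : Derivation ℤ κ κ, D t ≠ 0 := by
  classical
  let K₀ : Subfield κ :=
    { carrier := {z | ∃ c, c ^ 2 = z}
      mul_mem' := fun {a b} ⟨c, hc⟩ ⟨d, hd⟩ => ⟨c * d, by rw [mul_pow, hc, hd]⟩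
      one_mem' := ⟨1, one_pow 2⟩
      add_mem' := fun {a b} ⟨c, hc⟩ ⟨d, hd⟩ => ⟨c + d, by linear_combination hc + hd + c * d * h2⟩
      zero_mem' := ⟨0, by ring⟩
      neg_mem' := fun {a} ⟨c, hc⟩ => ⟨c, by linear_combination hc + a * h2⟩
      inv_mem' := fun a ⟨c, hc⟩ => ⟨c⁻¹, by rw [inv_pow, hc]⟩ }
  obtain ⟨k, hk⟩ : ∃ k, Maximal (· ∈ {k : Subfield κ | K₀ ≤ k ∧ t ∉ k}) k := by
    refine zorn_le₀ _ fun c hc hchain => ?_
    rcases c.eq_empty_or_nonempty with rfl | hne
    · exact ⟨K₀, ⟨le_rfl, fun ⟨c, h⟩ => ht c h⟩, by simp⟩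
    refine ⟨sSup c, ⟨?_, fun h => ?_⟩, fun k hk => le_sSup hk⟩
    · obtain ⟨k, hk⟩ := hne
      exact (hc hk).1.trans (le_sSup hk)
    · obtain ⟨k, hk, htk⟩ := (Subfield.mem_sSup_of_directedOn hne hchain.directedOn).mp h
      exact (hc hk).2 htk
  obtain ⟨⟨hk0, htk⟩, hmax⟩ := hk
  have hsq : ∀ z, z ^ 2 ∈ k := fun z => hk0 ⟨z, rfl⟩
  have hspan : ∀ z, ∃ α β : κ, α ∈ k ∧ β ∈ k ∧ z = α + β * t := by
    intro z
    by_cases hz : z ∈ k
    · exact ⟨z, 0, hz, zero_mem k, by ring⟩
    let S : Subfield κ :=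
      { carrier := {w | ∃ α β, α ∈ k ∧ β ∈ k ∧ w = α + β * z}
        mul_mem' := by
          rintro _ _ ⟨α, β, hα, hβ, rfl⟩ ⟨α', β', hα', hβ', rfl⟩
          exact ⟨α * α' + β * β' * z ^ 2, α * β' + β * α', add_mem (mul_mem hα hα') (mul_mem (mul_mem hβ hβ') (hsq z)),
            add_mem (mul_mem hα hβ') (mul_mem hβ hα'), by ring⟩
        one_mem' := ⟨1, 0, one_mem k, zero_mem k, by ring⟩
        add_mem' := by
          rintro _ _ ⟨α, β, hα, hβ, rfl⟩ ⟨α', β', hα', hβ', rfl⟩
          exact ⟨α + α', β + β', add_mem hα hα', add_mem hβ hβ', by ring⟩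
        zero_mem' := ⟨0, 0, zero_mem k, zero_mem k, by ring⟩
        neg_mem' := by
          rintro _ ⟨α, β, hα, hβ, rfl⟩
          exact ⟨-α, -β, neg_mem hα, neg_mem hβ, by ring⟩
        inv_mem' := by
          rintro w ⟨α, β, hα, hβ, rfl⟩
          by_cases h0 : α + β * z = 0
          · exact ⟨0, 0, zero_mem k, zero_mem k, by rw [h0, inv_zero]; ring⟩
          have hu : ((α + β * z) ^ 2)⁻¹ ∈ k := inv_mem (hsq _)
          exact ⟨α * ((α + β * z) ^ 2)⁻¹, β * ((α + β * z) ^ 2)⁻¹, mul_mem hα hu, mul_mem hβ hu, by field_simp⟩ }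
    have hkS : k ≤ S := fun w hw => ⟨w, 0, hw, zero_mem k, by ring⟩
    have htS : t ∈ S := by
      by_contra h
      exact hz (hmax ⟨hk0.trans hkS, h⟩ hkS ⟨0, 1, zero_mem k, one_mem k, by ring⟩)
    obtain ⟨α, β, hα, hβ, ht'⟩ := htS
    have hβ0 : β ≠ 0 := fun h => htk (by rw [ht', h, zero_mul, add_zero]; exact hα)
    exact ⟨-α * β⁻¹, β⁻¹, mul_mem (neg_mem hα) (inv_mem hβ), inv_mem hβ, by rw [ht']; field_simp; ring⟩
  choose A B hA hB hz using hspan
  have hu : ∀ z α β, α ∈ k → β ∈ k → z = α + β * t → B z = β := by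
    intro z α β hα hβ h
    by_contra hne
    have h' := (hz z).symm.trans h
    have : t = (α - A z) * (B z - β)⁻¹ := by
      rw [eq_mul_inv_iff_mul_eq₀ (sub_ne_zero.mpr hne)]
      linear_combination h'
    exact htk (this ▸ mul_mem (sub_mem hα (hA z)) (inv_mem (sub_mem (hB z) hβ)))
  have hadd : ∀ a b, B (a + b) = B a + B b := fun a b =>
    hu _ (A a + A b) _ (add_mem (hA a) (hA b)) (add_mem (hB a) (hB b)) (by linear_combination hz a + hz b)
  have hmul : ∀ a b, B (a * b) = a • B b + b • B a := by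
    intro a b
    rw [hu (a * b) (A a * A b + B a * B b * t ^ 2) (A a * B b + B a * A b)
      (add_mem (mul_mem (hA a) (hA b)) (mul_mem (mul_mem (hB a) (hB b)) (hsq t)))
      (add_mem (mul_mem (hA a) (hB b)) (mul_mem (hB a) (hA b))) (by
        linear_combination hz a * b + (A a + B a * t) * hz b)]
    simp only [smul_eq_mul]
    linear_combination (-(B b)) * hz a - B a * hz b - B a * B b * t * h2
  refine ⟨Derivation.mk' (AddMonoidHom.mk' B hadd).toIntLinearMap hmul, ?_⟩
  show B t ≠ 0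
  rw [hu t 0 1 (zero_mem k) (one_mem k) (by ring)]
  exact one_ne_zero

/-- A derivation of the coefficients acts on polynomials. -/
theorem exists_coeff_derivation (D : Derivation ℤ κ κ) : ∃ δ : MvPolynomial (Fin 2) κ →+ MvPolynomial (Fin 2) κ,
    (∀ a b, δ (a * b) = a * δ b + b * δ a) ∧ (∀ c, δ (C c) = C (D c)) ∧ ∀ k, δ (X k) = 0 := by
  let η : κ →+* DualNumber (MvPolynomial (Fin 2) κ) :=
    { toFun := fun c => (TrivSqZeroExt.inl (C c) + TrivSqZeroExt.inr (C (D c)))
      map_one' := by ext <;> simp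
      map_mul' := fun a b => by
        refine TrivSqZeroExt.ext (by simp) ?_
        simp only [TrivSqZeroExt.snd_add, TrivSqZeroExt.snd_inl, TrivSqZeroExt.snd_inr, zero_add, DualNumber.snd_mul,
          TrivSqZeroExt.fst_add, TrivSqZeroExt.fst_inl, TrivSqZeroExt.fst_inr, add_zero, Derivation.leibniz, smul_eq_mul,
          map_add, map_mul]
        ring
      map_zero' := by ext <;> simp
      map_add' := fun a b => by ext <;> simp [map_add] }
  let Ψ := eval₂Hom η fun k => TrivSqZeroExt.inl (X k)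
  have hfst : ∀ h, (Ψ h).fst = h := by
    intro h
    induction h using MvPolynomial.induction_on with
    | C c => simp [Ψ, η]
    | add p q hp hq => rw [map_add, TrivSqZeroExt.fst_add, hp, hq]
    | mul_X p k hp => rw [map_mul, TrivSqZeroExt.fst_mul, hp]; simp [Ψ]
  refine ⟨AddMonoidHom.mk' (fun h => (Ψ h).snd) fun a b => by simp, fun a b => ?_, fun c => ?_, fun k => ?_⟩
  · show (Ψ (a * b)).snd = a * (Ψ b).snd + b * (Ψ a).snd
    rw [map_mul, DualNumber.snd_mul, hfst, hfst]; ring
  · show (Ψ (C c)).snd = _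
    simp [Ψ, η]
  · show (Ψ (X k)).snd = _
    simp [Ψ]

/-- The general degree two polynomial. -/
noncomputable def quad (i j : Fin 2) (a b c d e f : κ) : MvPolynomial (Fin 2) κ :=
  C a + C b * X i + C c * X j + C d * X i ^ 2 + C e * X i * X j + C f * X j ^ 2

theorem pderiv_mem (i : Fin 2) {I : Ideal (MvPolynomial (Fin 2) κ)} {F : MvPolynomial (Fin 2) κ} (h : F ∈ I ^ 2) :
    pderiv i F ∈ I := by
  rw [pow_two] at h
  refine Submodule.mul_induction_on h (fun a ha b hb => ?_) (fun a b ha hb => by rw [map_add]; exact add_mem ha hb)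
  rw [pderiv_mul]
  exact add_mem (Ideal.mul_mem_left _ _ hb) (Ideal.mul_mem_right _ _ ha)

theorem fin_two {i j : Fin 2} (hij : i ≠ j) (k : Fin 2) : k = i ∨ k = j := by omega

theorem affine_eq_zero {i j : Fin 2} (hij : i ≠ j) {α β γ : κ} (h : C α + C β * X i + C γ * X j = (0 : MvPolynomial (Fin 2) κ)) :
    α = 0 ∧ β = 0 ∧ γ = 0 := by
  have hi := congrArg (pderiv i) h
  have hj := congrArg (pderiv j) h
  simp [pderiv_X, Pi.single_eq_of_ne hij, Pi.single_eq_of_ne hij.symm] at hi hj
  subst hi hj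
  simpa using h

theorem not_forall_sub_C_mem {I : Ideal (MvPolynomial (Fin 2) κ)}
    (hI : ¬ (Module.Finite κ (MvPolynomial (Fin 2) κ ⧸ I) ∧ Module.finrank κ (MvPolynomial (Fin 2) κ ⧸ I) ≤ 1)) :
    ¬ ∀ h, ∃ c, h - C c ∈ I := by
  intro h
  let ι : κ →ₗ[κ] MvPolynomial (Fin 2) κ ⧸ I := Algebra.linearMap κ _
  have hs : Function.Surjective ι := fun x => by
    obtain ⟨x, rfl⟩ := Ideal.Quotient.mk_surjective x
    obtain ⟨c, hc⟩ := h x
    exact ⟨c, (Ideal.Quotient.eq.mpr hc).symm⟩
  exact hI ⟨Module.Finite.of_surjective ι hs, by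
    have := LinearMap.finrank_le_finrank_of_surjective (f := ι) hs
    simpa using this⟩

/-- The case of an ideal containing a linear polynomial. -/
theorem of_linear_mem {I : Ideal (MvPolynomial (Fin 2) κ)} (hconst : ¬ ∀ h, ∃ c, h - C c ∈ I) {i j : Fin 2} (hij : i ≠ j)
    {α γ : κ} (hL : C α + X i + C γ * X j ∈ I) (a b c d e f : κ) (hmem : quad i j a b c d e f ∈ I ^ 2) :
    quad i j a b c d e f = C d * (C α + C 1 * X i + C γ * X j) ^ 2 := by
  classical
  let θ : MvPolynomial (Fin 2) κ →ₐ[κ] Polynomial κ :=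
    aeval fun k => if k = i then -Polynomial.C α - Polynomial.C γ * Polynomial.X else Polynomial.X
  let ι : Polynomial κ →ₐ[κ] MvPolynomial (Fin 2) κ := Polynomial.aeval (X j)
  have hθi : θ (X i) = -Polynomial.C α - Polynomial.C γ * Polynomial.X := by
    show aeval _ (X i) = _
    rw [aeval_X, if_pos rfl]
  have hθj : θ (X j) = Polynomial.X := by
    show aeval _ (X j) = _
    rw [aeval_X, if_neg hij.symm]
  have hθC : ∀ c, θ (C c) = Polynomial.C c := fun c => aeval_C _ c
  have hιθ : ∀ h, h - ι (θ h) ∈ I := by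
    intro h
    induction h using MvPolynomial.induction_on with
    | C c => rw [hθC]; simp [ι]
    | add p q hp hq => rw [map_add, map_add, add_sub_add_comm]; exact add_mem hp hq
    | mul_X p k hp =>
      rw [map_mul, map_mul]
      have hk : X k - ι (θ (X k)) ∈ I := by
        rcases fin_two hij k with rfl | rfl
        · rw [hθi, show X k - ι (-Polynomial.C α - Polynomial.C γ * Polynomial.X) = C α + X k + C γ * X j by
            simp [ι]; ring]
          exact hL
        · rw [hθj]; simp [ι]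
      rw [show p * X k - ι (θ p) * ι (θ (X k)) = (p - ι (θ p)) * X k + ι (θ p) * (X k - ι (θ (X k))) by ring]
      exact add_mem (I.mul_mem_right _ hp) (I.mul_mem_left _ hk)
  -- no nonzero polynomial of degree at most one lies in the image of `I`
  have hdeg : ∀ h ∈ I, (θ h).natDegree ≤ 1 → θ h = 0 := by
    intro h hh hd
    by_contra hne
    apply hconst
    intro g
    have hr : θ g % θ h = Polynomial.C ((θ g % θ h).coeff 0) := by
      apply Polynomial.eq_C_of_degree_le_zero
      have h1 := EuclideanDomain.mod_lt (θ g) hne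
      rcases eq_or_ne (θ g % θ h) 0 with h0 | h0
      · rw [h0]; simp
      · have h2 := Polynomial.natDegree_lt_natDegree h0 h1
        rw [Polynomial.degree_le_iff_coeff_zero]
        intro m hm
        have : 1 ≤ m := by exact_mod_cast Nat.succ_le_of_lt (WithBot.coe_lt_coe.mp hm)
        exact Polynomial.coeff_eq_zero_of_natDegree_lt (by omega)
    refine ⟨(θ g % θ h).coeff 0, ?_⟩
    have hιh : ι (θ h) ∈ I := by
      have := sub_mem hh (hιθ h)
      rwa [sub_sub_cancel] at this
    have hC : ι (θ g % θ h) = C ((θ g % θ h).coeff 0) := by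
      rw [hr]; simp [ι]
    have := congrArg ι (EuclideanDomain.div_add_mod (θ g) (θ h))
    rw [map_add, map_mul, hC] at this
    have h3 := add_mem (hιθ g) (I.mul_mem_right (ι (θ g / θ h)) hιh)
    rw [← this] at h3
    ring_nf at h3 ⊢
    exact h3
  let L : MvPolynomial (Fin 2) κ := C α + X i + C γ * X j
  let G : MvPolynomial (Fin 2) κ := C (b - d * α) + C d * X i + C (e - d * γ) * X j
  have hθL : θ L = 0 := by
    simp only [L, map_add, map_mul, hθC, hθi, hθj]; ring
  let q : Polynomial κ := Polynomial.C (a - α * (b - d * α)) +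
    Polynomial.C (c - γ * (b - d * α) - α * (e - d * γ)) * Polynomial.X + Polynomial.C (f - γ * (e - d * γ)) * Polynomial.X ^ 2
  have hF : quad i j a b c d e f = L * G + ι q := by
    simp [quad, L, G, q, ι]; ring
  have hθι : θ (ι q) = q := by
    rw [← AlgHom.comp_apply, show θ.comp ι = AlgHom.id κ _ from Polynomial.algHom_ext (by simp [ι, hθj])]
    rfl
  have hq : q = 0 := by
    have h1 : θ (quad i j a b c d e f) = q := by rw [hF, map_add, map_mul, hθL, zero_mul, zero_add, hθι]
    by_contra hne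
    have h2 := Ideal.mem_map_of_mem θ.toRingHom hmem
    rw [Ideal.map_pow] at h2
    change θ (quad i j a b c d e f) ∈ _ at h2
    rw [h1] at h2
    obtain ⟨p, hp⟩ := (IsPrincipalIdealRing.principal (I.map θ.toRingHom)).principal
    rw [show I.map θ.toRingHom = Ideal.span {p} from hp, Ideal.span_singleton_pow, Ideal.mem_span_singleton] at h2
    obtain ⟨h, hh, hh'⟩ := (Ideal.mem_map_iff_of_surjective θ.toRingHom fun x => ⟨ι x, by
      show θ (ι x) = x
      rw [← AlgHom.comp_apply, show θ.comp ι = AlgHom.id κ _ from Polynomial.algHom_ext (by simp [ι, hθj])]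
      rfl⟩).mp (show p ∈ I.map θ.toRingHom by rw [show I.map θ.toRingHom = Ideal.span {p} from hp]; exact Ideal.mem_span_singleton_self p)
    change θ h = p at hh'
    have hp0 : p ≠ 0 := by rintro rfl; exact hne (by simpa using h2)
    have h3 := Polynomial.natDegree_le_of_dvd h2 hne
    rw [Polynomial.natDegree_pow] at h3
    have h4 : q.natDegree ≤ 2 := by simp only [q]; compute_degree
    exact hp0 (hh' ▸ hdeg h hh (by rw [hh']; omega))
  rw [hq, map_zero, add_zero] at hF
  -- the derivative in the first coordinate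
  have hG : G ∈ I := by
    have h1 := pderiv_mem i hmem
    rw [hF, pderiv_mul] at h1
    have h2 : pderiv i L = 1 := by simp [L, pderiv_X, Pi.single_eq_of_ne hij, Pi.single_eq_of_ne hij.symm]
    rw [h2, one_mul] at h1
    have := sub_mem h1 (I.mul_mem_right (pderiv i G) hL)
    rwa [add_sub_cancel_right] at this
  have hθG : θ G = Polynomial.C (b - d * α - d * α) + Polynomial.C (e - d * γ - d * γ) * Polynomial.X := by
    simp only [G, map_add, map_mul, hθC, hθi, hθj]
    simp only [map_sub, map_mul]; ring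
  have h0 := hdeg G hG (by rw [hθG]; compute_degree)
  rw [hθG] at h0
  have hb : b - d * α = d * α := by
    have := congrArg (fun p => Polynomial.coeff p 0) h0
    simp at this
    linear_combination this
  have he : e - d * γ = d * γ := by
    have := congrArg (fun p => Polynomial.coeff p 1) h0
    simp at this
    linear_combination this
  rw [hF]
  simp only [L, G, hb, he, map_mul, map_one]
  ring

/-- Reduction modulo `x ^ 2 - s` and `y ^ 2 - r`. -/
theorem exists_reduce (s r : κ) (h : MvPolynomial (Fin 2) κ) {i j : Fin 2} (hij : i ≠ j) :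
    ∃ α β γ δ : κ, h - (C α + C β * X i + C γ * X j + C δ * X i * X j) ∈
      Ideal.span {X i ^ 2 - C s, X j ^ 2 - C r} := by
  induction h using MvPolynomial.induction_on with
  | C c => exact ⟨c, 0, 0, 0, by simp⟩
  | add p q hp hq =>
    obtain ⟨α, β, γ, δ, hp⟩ := hp
    obtain ⟨α', β', γ', δ', hq⟩ := hq
    refine ⟨α + α', β + β', γ + γ', δ + δ', ?_⟩
    convert add_mem hp hq using 1
    simp only [map_add]; ring
  | mul_X p k hp =>
    obtain ⟨α, β, γ, δ, hp⟩ := hp
    rcases fin_two hij k with rfl | rfl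
    · refine ⟨β * s, α, δ * s, γ, ?_⟩
      convert add_mem (Ideal.mul_mem_right (X k) _ hp) (Ideal.mul_mem_left _ (C β + C δ * X j)
        (Ideal.subset_span (Set.mem_insert (X k ^ 2 - C s) {X j ^ 2 - C r}))) using 1
      simp only [map_mul]; ring
    · refine ⟨γ * r, δ * r, α, β, ?_⟩
      convert add_mem (Ideal.mul_mem_right (X k) _ hp) (Ideal.mul_mem_left _ (C γ + C δ * X i)
        (Ideal.subset_span (Set.mem_insert_of_mem (X i ^ 2 - C s) (rfl : X k ^ 2 - C r = X k ^ 2 - C r)))) using 1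
      simp only [map_mul]; ring

theorem notMem_span_sq (s r f : κ) {i j : Fin 2} (hij : i ≠ j) :
    (X i ^ 2 - C s) + C f * (X j ^ 2 - C r) ∉ (Ideal.span {X i ^ 2 - C s, X j ^ 2 - C r} : Ideal (MvPolynomial (Fin 2) κ)) ^ 2 := by
  classical
  intro hmem
  let B := AdjoinRoot ((Polynomial.X : Polynomial κ) ^ 2 - Polynomial.C r)
  haveI : Nontrivial B := AdjoinRoot.nontrivial _ (by rw [Polynomial.degree_X_pow_sub_C (by norm_num)]; norm_num)
  let φ : MvPolynomial (Fin 2) κ →ₐ[κ] Polynomial B :=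
    aeval fun k => if k = i then Polynomial.X else Polynomial.C (AdjoinRoot.root _)
  have hi : φ (X i ^ 2 - C s) = Polynomial.X ^ 2 - Polynomial.C (algebraMap κ B s) := by
    show aeval _ _ = _
    rw [map_sub, map_pow, aeval_X, if_pos rfl, aeval_C]; rfl
  have hj : φ (X j ^ 2 - C r) = 0 := by
    show aeval _ _ = _
    rw [map_sub, map_pow, aeval_X, if_neg hij.symm, aeval_C, ← map_pow]
    have := AdjoinRoot.eval₂_root ((Polynomial.X : Polynomial κ) ^ 2 - Polynomial.C r)
    simp only [Polynomial.eval₂_sub, Polynomial.eval₂_X_pow, Polynomial.eval₂_C, sub_eq_zero] at this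
    rw [this]; exact sub_self _
  have h1 := Ideal.mem_map_of_mem φ.toRingHom hmem
  rw [Ideal.map_pow, Ideal.map_span, Set.image_pair] at h1
  change φ _ ∈ Ideal.span {φ _, φ _} ^ 2 at h1
  rw [map_add, map_mul, hi, hj, mul_zero, add_zero, Ideal.span_insert, Ideal.span_singleton_eq_bot.mpr rfl, sup_bot_eq,
    Ideal.span_singleton_pow, Ideal.mem_span_singleton] at h1
  have hm := Polynomial.monic_X_pow_sub_C (algebraMap κ B s) (two_ne_zero (α := ℕ))
  obtain ⟨w, hw⟩ := h1
  have hw0 : w ≠ 0 := by rintro rfl; rw [mul_zero] at hw; exact hm.ne_zero hw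
  have := congrArg Polynomial.natDegree hw
  rw [(hm.pow 2).natDegree_mul' hw0, hm.natDegree_pow, Polynomial.natDegree_X_pow_sub_C] at this
  omega

/-- The case of vanishing partial derivatives in characteristic two. -/
theorem square_case (h2 : (2 : κ) = 0) {I : Ideal (MvPolynomial (Fin 2) κ)} (htop : ∀ c, C c ∈ I → c = 0)
    (hlin : ∀ i j : Fin 2, i ≠ j → ∀ α β γ, C α + C β * X i + C γ * X j ∈ I → α = 0 ∧ β = 0 ∧ γ = 0)
    {i j : Fin 2} (hij : i ≠ j) (a f : κ) (hmem : C a + X i ^ 2 + C f * X j ^ 2 ∈ I ^ 2) :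
    ∃ g t : κ, g ^ 2 = a ∧ t ^ 2 = f := by
  classical
  by_contra hne
  have hh : (∀ c, c ^ 2 ≠ a) ∨ (∀ c, c ^ 2 ≠ f) := by
    by_contra! h
    exact hne ⟨_, _, h.1.choose_spec, h.2.choose_spec⟩
  obtain ⟨D, hD⟩ : ∃ D : Derivation ℤ κ κ, D a ≠ 0 ∨ D f ≠ 0 := hh.elim
    (fun h => (exists_derivation_of_notMem_sq h2 a h).imp fun D hD => Or.inl hD)
    (fun h => (exists_derivation_of_notMem_sq h2 f h).imp fun D hD => Or.inr hD)
  obtain ⟨δ, hδmul, hδC, hδX⟩ := exists_coeff_derivation D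
  have hD2 : ∀ g ∈ I ^ 2, δ g ∈ I := by
    intro g hg
    rw [pow_two] at hg
    refine Submodule.mul_induction_on hg (fun a ha b hb => ?_) (fun a b ha hb => by rw [map_add]; exact add_mem ha hb)
    rw [hδmul]
    exact add_mem (I.mul_mem_right _ ha) (I.mul_mem_right _ hb)
  have h1 : C (D a) + C (D f) * X j ^ 2 ∈ I := by
    have := hD2 _ hmem
    simpa [pow_two, hδmul, hδC, hδX, mul_comm] using this
  have hDf : D f ≠ 0 := fun h0 => by
    rw [h0, map_zero, zero_mul, add_zero] at h1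
    exact hD.elim (fun h => h (htop _ h1)) (fun h => h h0)
  obtain ⟨r, hr⟩ : ∃ r, r * D f = -D a := ⟨-D a / D f, div_mul_cancel₀ _ hDf⟩
  obtain ⟨s, hs⟩ : ∃ s, s = -(a + f * r) := ⟨_, rfl⟩
  have hIF : C a + X i ^ 2 + C f * X j ^ 2 ∈ I := Ideal.pow_le_self two_ne_zero hmem
  have hF : C a + X i ^ 2 + C f * X j ^ 2 = (X i ^ 2 - C s) + C f * (X j ^ 2 - C r) := by
    rw [hs]; simp only [map_neg, map_add, map_mul]; ring
  have hv : X j ^ 2 - C r ∈ I := by
    have h3 := I.mul_mem_left (C (D f)⁻¹) h1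
    rwa [mul_add, ← mul_assoc, ← map_mul, ← map_mul, inv_mul_cancel₀ hDf, map_one, one_mul,
      show (D f)⁻¹ * D a = -r by rw [← neg_neg (D a), ← hr]; field_simp, map_neg, neg_add_eq_sub] at h3
  have hu : X i ^ 2 - C s ∈ I := by
    have := sub_mem hIF (I.mul_mem_left (C f) hv)
    rwa [hF, add_sub_cancel_right] at this
  have hQ : Ideal.span {X i ^ 2 - C s, X j ^ 2 - C r} ≤ I := by
    rw [Ideal.span_le]
    rintro _ (rfl | rfl)
    · exact hu
    · exact hv
  by_cases hδ : ∀ α β γ δ, C α + C β * X i + C γ * X j + C δ * X i * X j ∈ I → δ = 0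
  · have hle : I ≤ Ideal.span {X i ^ 2 - C s, X j ^ 2 - C r} := fun g hg => by
      obtain ⟨α, β, γ, δ, h⟩ := exists_reduce s r g hij
      have h3 := sub_mem hg (hQ h)
      rw [sub_sub_cancel] at h3
      obtain rfl := hδ _ _ _ _ h3
      rw [map_zero, zero_mul, zero_mul, add_zero] at h3
      obtain ⟨rfl, rfl, rfl⟩ := hlin i j hij _ _ _ h3
      simpa using h
    exact notMem_span_sq s r f hij (Ideal.pow_right_mono hle 2 (hF ▸ hmem))
  push_neg at hδ
  obtain ⟨α, β, γ, δ, hw, hδ0⟩ := hδ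
  -- normalise to `(x + g) * (y + t) + o`
  obtain ⟨g, t, o, hgto⟩ : ∃ g t o, (X i + C g) * (X j + C t) + C o ∈ I := by
    refine ⟨γ / δ, β / δ, α / δ - γ / δ * (β / δ), ?_⟩
    convert I.mul_mem_left (C δ⁻¹) hw using 1
    simp only [mul_add, ← mul_assoc, ← map_mul, inv_mul_cancel₀ hδ0, map_one, one_mul]
    simp only [div_eq_inv_mul, map_sub, map_mul]
    ring
  have h2' : (2 : MvPolynomial (Fin 2) κ) = 0 := by rw [← map_ofNat (C : κ →+* MvPolynomial (Fin 2) κ), h2, map_zero]
  have hx : (X i + C g) ^ 2 - C (s + g ^ 2) ∈ I := by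
    convert hu using 1
    simp only [map_add, map_pow]
    linear_combination (X i * C g) * h2'
  have hy : (X j + C t) ^ 2 - C (r + t ^ 2) ∈ I := by
    convert hv using 1
    simp only [map_add, map_pow]
    linear_combination (X j * C t) * h2'
  obtain ⟨-, ho, hs0⟩ : ((s + g ^ 2) * t + o * g = 0) ∧ o = 0 ∧ s + g ^ 2 = 0 := by
    refine hlin i j hij _ o (s + g ^ 2) ?_
    convert sub_mem (I.mul_mem_left (X i + C g) hgto) (I.mul_mem_left (X j + C t) hx) using 1
    simp only [map_add, map_mul, map_pow]; ring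
  subst ho
  obtain ⟨-, hr0, -⟩ : ((r + t ^ 2) * g = 0) ∧ r + t ^ 2 = 0 ∧ (0 : κ) = 0 := by
    refine hlin i j hij _ (r + t ^ 2) 0 ?_
    convert sub_mem (I.mul_mem_left (X j + C t) hgto) (I.mul_mem_left (X i + C g) hy) using 1
    simp only [map_add, map_mul, map_pow, map_zero]; ring
  let φ : MvPolynomial (Fin 2) κ →ₐ[κ] Polynomial κ :=
    aeval fun k => if k = i then Polynomial.X - Polynomial.C g else - Polynomial.C t
  have hφi : φ (X i + C g) = Polynomial.X := by
    show aeval _ _ = _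
    rw [map_add, aeval_X, if_pos rfl, aeval_C]; exact sub_add_cancel _ _
  have hφj : φ (X j + C t) = 0 := by
    show aeval _ _ = _
    rw [map_add, aeval_X, if_neg hij.symm, aeval_C]; exact neg_add_cancel _
  have hφu : φ (X i ^ 2 - C s) = Polynomial.X ^ 2 := by
    rw [show X i ^ 2 - C s = (X i + C g) ^ 2 - C (s + g ^ 2) by
      simp only [map_add, map_pow]; linear_combination (-(X i * C g)) * h2', hs0, map_zero, sub_zero, map_pow, hφi]
  have hφv : φ (X j ^ 2 - C r) = 0 := by
    rw [show X j ^ 2 - C r = (X j + C t) ^ 2 - C (r + t ^ 2) by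
      simp only [map_add, map_pow]; linear_combination (-(X j * C t)) * h2', hr0, map_zero, sub_zero, map_pow, hφj,
      zero_pow two_ne_zero]
  have hle : I.map φ.toRingHom ≤ Ideal.span {(Polynomial.X : Polynomial κ) ^ 2} := by
    rw [Ideal.map_le_iff_le_comap]
    intro h hh
    obtain ⟨α', β', γ', δ', h4⟩ := exists_reduce s r h hij
    have hQ' : ∀ q ∈ Ideal.span {X i ^ 2 - C s, X j ^ 2 - C r}, φ q ∈ Ideal.span {(Polynomial.X : Polynomial κ) ^ 2} := by
      intro q hq
      refine (Ideal.span_le (I := Ideal.comap φ.toRingHom (Ideal.span {(Polynomial.X : Polynomial κ) ^ 2}))).mpr ?_ hq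
      rintro _ (rfl | rfl)
      · rw [SetLike.mem_coe, Ideal.mem_comap]
        show φ _ ∈ Ideal.span {(Polynomial.X : Polynomial κ) ^ 2}
        rw [hφu]; exact Ideal.mem_span_singleton_self _
      · rw [SetLike.mem_coe, Ideal.mem_comap]
        show φ _ ∈ Ideal.span {(Polynomial.X : Polynomial κ) ^ 2}
        rw [hφv]; exact zero_mem _
    have h5 := sub_mem hh (hQ h4)
    rw [sub_sub_cancel] at h5
    obtain ⟨hA, hB, hG⟩ : α' - δ' * g * t = 0 ∧ β' - δ' * t = 0 ∧ γ' - δ' * g = 0 := by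
      refine hlin i j hij _ _ _ ?_
      convert sub_mem h5 (I.mul_mem_left (C δ') hgto) using 1
      simp only [map_sub, map_mul, map_zero]; ring
    have h6 : C α' + C β' * X i + C γ' * X j + C δ' * X i * X j = C δ' * ((X i + C g) * (X j + C t)) := by
      rw [sub_eq_zero.mp hA, sub_eq_zero.mp hB, sub_eq_zero.mp hG]
      simp only [map_mul]; ring
    rw [Ideal.mem_comap]
    show φ h ∈ Ideal.span {(Polynomial.X : Polynomial κ) ^ 2}
    have h7 := hQ' _ h4
    rw [map_sub, h6, map_mul, map_mul, hφj, mul_zero, mul_zero, sub_zero] at h7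
    exact h7
  have h8 := Ideal.mem_map_of_mem φ.toRingHom hmem
  rw [Ideal.map_pow] at h8
  have h9 := Ideal.pow_right_mono hle 2 h8
  change φ _ ∈ _ at h9
  rw [Ideal.span_singleton_pow, Ideal.mem_span_singleton, hF, map_add, map_mul, hφu, hφv, mul_zero, add_zero, ← pow_mul,
    pow_dvd_pow_iff Polynomial.X_ne_zero Polynomial.not_isUnit_X] at h9
  omega

/-- Let κ be a field and I an ideal of κ[x, y] whose colength is greater than one (the quotient is not
of dimension at most one over κ). If a nonzero polynomial a + bx + cy + dx^2 + exy + fy^2 lies in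
I^2, then it equals j (g + hx + iy)^2 for some scalars j, g, h, i. -/
theorem result (κ : Type u) [Field κ] (I : Ideal (MvPolynomial (Fin 2) κ))
    (hI : ¬ (Module.Finite κ (MvPolynomial (Fin 2) κ ⧸ I) ∧ Module.finrank κ (MvPolynomial (Fin 2) κ ⧸ I) ≤ 1))
    (a b c d e f : κ) (hne : (a, b, c, d, e, f) ≠ (0, 0, 0, 0, 0, 0))
    (hmem : (MvPolynomial.C a + MvPolynomial.C b * MvPolynomial.X 0 + MvPolynomial.C c * MvPolynomial.X 1 +
      MvPolynomial.C d * MvPolynomial.X 0 ^ 2 + MvPolynomial.C e * MvPolynomial.X 0 * MvPolynomial.X 1 +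
      MvPolynomial.C f * MvPolynomial.X 1 ^ 2 : MvPolynomial (Fin 2) κ) ∈ I ^ 2) :
    ∃ j g h i : κ, (MvPolynomial.C a + MvPolynomial.C b * MvPolynomial.X 0 + MvPolynomial.C c * MvPolynomial.X 1 +
      MvPolynomial.C d * MvPolynomial.X 0 ^ 2 + MvPolynomial.C e * MvPolynomial.X 0 * MvPolynomial.X 1 +
      MvPolynomial.C f * MvPolynomial.X 1 ^ 2 : MvPolynomial (Fin 2) κ) =
      MvPolynomial.C j * (MvPolynomial.C g + MvPolynomial.C h * MvPolynomial.X 0 + MvPolynomial.C i * MvPolynomial.X 1) ^ 2 := by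
  classical
  have hconst := not_forall_sub_C_mem hI
  have htop : ∀ c, C c ∈ I → c = 0 := fun c hc => by
    by_contra h
    exact hconst fun g => ⟨0, by
      rw [(I.eq_top_of_isUnit_mem hc ((isUnit_iff_ne_zero.mpr h).map C))]; trivial⟩
  change quad 0 1 a b c d e f ∈ I ^ 2 at hmem
  show ∃ j g h i : κ, quad 0 1 a b c d e f = _
  by_cases hlin : ∀ i j : Fin 2, i ≠ j → ∀ α β γ, C α + C β * X i + C γ * X j ∈ I → α = 0 ∧ β = 0 ∧ γ = 0
  swap
  · obtain ⟨i, j, hij, α, γ, hL⟩ : ∃ i j : Fin 2, i ≠ j ∧ ∃ α γ : κ, C α + X i + C γ * X j ∈ I := by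
      push_neg at hlin
      obtain ⟨i, j, hij, α, β, γ, hL, hne'⟩ := hlin
      rcases eq_or_ne β 0 with rfl | hβ
      · rw [map_zero, zero_mul, add_zero] at hL
        have hγ : γ ≠ 0 := fun h => hne' (htop α (by rwa [h, map_zero, zero_mul, add_zero] at hL)) rfl h
        refine ⟨j, i, hij.symm, α / γ, 0, ?_⟩
        convert I.mul_mem_left (C γ⁻¹) hL using 1
        rw [mul_add, ← mul_assoc, ← map_mul, ← map_mul, inv_mul_cancel₀ hγ, map_one, div_eq_inv_mul, map_zero]
        ring
      · refine ⟨i, j, hij, α / β, γ / β, ?_⟩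
        convert I.mul_mem_left (C β⁻¹) hL using 1
        simp only [mul_add, ← mul_assoc, ← map_mul, inv_mul_cancel₀ hβ, map_one, div_eq_inv_mul]
        ring
    rcases fin_two (show (0 : Fin 2) ≠ 1 by decide) i with rfl | rfl
    · obtain rfl : j = 1 := (fin_two (show (0 : Fin 2) ≠ 1 by decide) j).resolve_left fun h => hij h.symm
      exact ⟨d, α, 1, γ, of_linear_mem hconst hij hL a b c d e f hmem⟩
    · obtain rfl : j = 0 := (fin_two (show (0 : Fin 2) ≠ 1 by decide) j).resolve_right fun h => hij h.symm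
      have hsw : quad 0 1 a b c d e f = quad 1 0 a c b f e d := by simp only [quad]; ring
      rw [hsw] at hmem ⊢
      refine ⟨f, α, γ, 1, ?_⟩
      rw [of_linear_mem hconst hij hL a c b f e d hmem]
      ring
  have h01 : (0 : Fin 2) ≠ 1 := by decide
  have hF1 : quad 0 1 a b c d e f ∈ I := Ideal.pow_le_self two_ne_zero hmem
  obtain ⟨hb, hd, he⟩ : b = 0 ∧ d * 2 = 0 ∧ e = 0 := by
    refine hlin 0 1 h01 _ _ _ ?_
    convert pderiv_mem 0 hmem using 1
    simp [quad, pderiv_X, map_ofNat]; ring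
  obtain ⟨hc, -, hf⟩ : c = 0 ∧ e = 0 ∧ f * 2 = 0 := by
    refine hlin 0 1 h01 _ _ _ ?_
    convert pderiv_mem 1 hmem using 1
    simp [quad, pderiv_X, map_ofNat]; ring
  subst hb he hc
  have hne' : d ≠ 0 ∨ f ≠ 0 := by
    by_contra! h
    obtain ⟨rfl, rfl⟩ := h
    simp only [quad, map_zero, zero_mul, add_zero] at hF1
    exact hne (by rw [htop a hF1])
  rcases hne' with hd0 | hf0
  · have h2 : (2 : κ) = 0 := (mul_eq_zero.mp hd).resolve_left hd0
    obtain ⟨g, t, hg, ht⟩ := square_case h2 htop hlin h01 (a / d) (f / d) (by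
      convert (I ^ 2).mul_mem_left (C d⁻¹) hmem using 1
      simp only [quad, map_zero, zero_mul, add_zero, mul_add, ← mul_assoc, ← map_mul, inv_mul_cancel₀ hd0, map_one, one_mul,
        div_eq_inv_mul])
    refine ⟨d, g, 1, t, ?_⟩
    have ha : a = d * g ^ 2 := by rw [hg, mul_div_cancel₀ _ hd0]
    have hf' : f = d * t ^ 2 := by rw [ht, mul_div_cancel₀ _ hd0]
    have h2' : (2 : MvPolynomial (Fin 2) κ) = 0 := by rw [← map_ofNat (C : κ →+* MvPolynomial (Fin 2) κ), h2, map_zero]
    simp only [quad, ha, hf', map_zero, zero_mul, add_zero, map_mul, map_pow, map_one]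
    linear_combination (-(C d * (C g * X 0 + C g * C t * X 1 + C t * X 0 * X 1))) * h2'
  · have h2 : (2 : κ) = 0 := (mul_eq_zero.mp hf).resolve_left hf0
    obtain ⟨g, t, hg, ht⟩ := square_case h2 htop hlin h01.symm (a / f) (d / f) (by
      convert (I ^ 2).mul_mem_left (C f⁻¹) hmem using 1
      simp only [quad, map_zero, zero_mul, add_zero, mul_add, ← mul_assoc, ← map_mul, inv_mul_cancel₀ hf0, map_one, one_mul,
        div_eq_inv_mul]
      ring)
    refine ⟨f, g, t, 1, ?_⟩
    have ha : a = f * g ^ 2 := by rw [hg, mul_div_cancel₀ _ hf0]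
    have hd' : d = f * t ^ 2 := by rw [ht, mul_div_cancel₀ _ hf0]
    have h2' : (2 : MvPolynomial (Fin 2) κ) = 0 := by rw [← map_ofNat (C : κ →+* MvPolynomial (Fin 2) κ), h2, map_zero]
    simp only [quad, ha, hd', map_zero, zero_mul, add_zero, map_mul, map_pow, map_one]
    linear_combination (-(C f * (C g * X 1 + C g * C t * X 0 + C t * X 0 * X 1))) * h2'


end Groth.Agent.S1601
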