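import Mathlib
import Groth.Statements.S16015
-- import your own Groth.Agent.* helpers here

set_option autoImplicit false
universe u v w
open W4c3ghconstell

namespace Groth.Agent.S16015

open scoped TensorProduct

/-- Let B be a commutative ring, E a B-module, F a finitely generated projective B-module and β : E → F
a B-linear map. Then there is a unique ideal I of B such that for every commutative B-algebra C the
base change β_C : C ⊗ E → C ⊗ F is zero if and only if the structure map B → C kills I. (The
published statement is for a homomorphism of modules on a scheme T into a locally free module and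
produces a closed subscheme T₀ through which a morphism factors exactly when the pulled-back
homomorphism vanishes; this row is the case of an affine T with affine test schemes and F of finite
rank, to which it reduces.) -/
theorem result {B : Type u} [CommRing B]
    {E : Type v} [AddCommGroup E] [Module B E]
    {F : Type w} [AddCommGroup F] [Module B F] [Module.Finite B F] [Module.Projective B F]
    (β : E →ₗ[B] F) :
    ∃! I : Ideal B, ∀ (C : Type u) [CommRing C] [Algebra B C],
      LinearMap.baseChange C β = 0 ↔ I ≤ RingHom.ker (algebraMap B C) := by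
  classical
  obtain ⟨n, q, hq⟩ := Module.Finite.exists_fin' B F
  obtain ⟨s, hs⟩ := Module.projective_lifting_property q LinearMap.id hq
  let φ : Fin n → Module.Dual B F := fun i => LinearMap.proj i ∘ₗ s
  let v : Fin n → F := fun i => q (Pi.single i 1)
  have hrec : ∀ x : F, ∑ i, φ i x • v i = x := fun x => by
    conv_rhs => rw [← LinearMap.id_apply (R := B) x, ← hs, LinearMap.comp_apply, pi_eq_sum_univ' (s x), map_sum]
    exact Finset.sum_congr rfl fun i _ => by simp [φ, v]
  let I : Ideal B := Ideal.span (Set.range fun pe : Fin n × E => φ pe.1 (β pe.2))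
  have key : ∀ (C : Type u) [CommRing C] [Algebra B C],
      LinearMap.baseChange C β = 0 ↔ I ≤ RingHom.ker (algebraMap B C) := by
    intro C _ _
    constructor
    · intro h
      rw [Ideal.span_le]
      rintro _ ⟨⟨i, e⟩, rfl⟩
      have h1 : (1 : C) ⊗ₜ[B] β e = 0 := by rw [← LinearMap.baseChange_tmul, h, LinearMap.zero_apply]
      have h2 := congrArg ((TensorProduct.rid B C).toLinearMap ∘ₗ (φ i).lTensor C) h1
      rw [map_zero] at h2
      simpa [Algebra.smul_def] using h2
    · intro h
      refine TensorProduct.AlgebraTensorModule.ext fun c e => ?_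
      rw [LinearMap.baseChange_tmul, LinearMap.zero_apply]
      conv_lhs => rw [← hrec (β e), TensorProduct.tmul_sum]
      refine Finset.sum_eq_zero fun i _ => ?_
      have h0 : algebraMap B C (φ i (β e)) = 0 := h (Ideal.subset_span ⟨(i, e), rfl⟩)
      rw [← TensorProduct.smul_tmul, Algebra.smul_def, h0, zero_mul, TensorProduct.zero_tmul]
  refine ⟨I, key, fun I' hI' => le_antisymm ?_ ?_⟩
  · have := (hI' (B ⧸ I)).1 ((key (B ⧸ I)).2 (by rw [Ideal.Quotient.algebraMap_eq, Ideal.mk_ker]))
    rwa [Ideal.Quotient.algebraMap_eq, Ideal.mk_ker] at this
  · have := (key (B ⧸ I')).1 ((hI' (B ⧸ I')).2 (by rw [Ideal.Quotient.algebraMap_eq, Ideal.mk_ker]))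
    rwa [Ideal.Quotient.algebraMap_eq, Ideal.mk_ker] at this

end Groth.Agent.S16015
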