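import Mathlib
import Groth.Statements.S16016
-- import your own Groth.Agent.* helpers here

set_option autoImplicit false
universe u
open W4c3ghconstell

namespace Groth.Agent.S16016

/-- Let k be a field with 2 ≠ 0, index k⁶ by two copies of {0,1,2} (basis vectors p₁, p₂, p₃ in the
first copy and p₄, p₅, p₆ in the second), let Q be the symmetric matrix with blocks ((0, 1), (1,
0)), so that the form it defines pairs pᵢ with pᵢ₊₃, and let W₀ be the span of p₁ and p₂. Then a 6 ×
6 matrix A satisfies AᵀQ + QA = 0 (A lies in the orthogonal Lie algebra of Q) and has the image of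
Aᵀ contained in W₀ if and only if A = a · (E₄₂ − E₅₁) for some scalar a, where Eᵢⱼ is the matrix
unit. (The lemma in the source concludes that the set of such A inside a certain nilpotent orbit
closure of this Lie algebra is one-dimensional; this row is the computation its proof performs,
which determines all such A in the Lie algebra. Characteristic 2 is excluded: there E₁₄ᵀ also
qualifies.) -/
theorem result (k : Type u) [Field k] (h2 : (2 : k) ≠ 0)
    (A : Matrix (Fin 3 ⊕ Fin 3) (Fin 3 ⊕ Fin 3) k) :
    (A.transpose * Matrix.fromBlocks (0 : Matrix (Fin 3) (Fin 3) k) 1 1 0 +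
        Matrix.fromBlocks (0 : Matrix (Fin 3) (Fin 3) k) 1 1 0 * A = 0 ∧
      LinearMap.range (Matrix.mulVecLin A.transpose) ≤
        Submodule.span k {Pi.single (Sum.inl 0 : Fin 3 ⊕ Fin 3) (1 : k), Pi.single (Sum.inl 1 : Fin 3 ⊕ Fin 3) (1 : k)}) ↔
    ∃ a : k, A = a • (Matrix.single (Sum.inr 0) (Sum.inl 1) (1 : k) - Matrix.single (Sum.inr 1) (Sum.inl 0) (1 : k)) := by
  classical
  set J : Matrix (Fin 3 ⊕ Fin 3) (Fin 3 ⊕ Fin 3) k := Matrix.fromBlocks (0 : Matrix (Fin 3) (Fin 3) k) 1 1 0
  have hJA : ∀ i j, (J * A) i j = A (Sum.swap i) j := by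
    intro i j
    rcases i with i | i <;> simp [J, Matrix.mul_apply, Fintype.sum_sum_type, Matrix.one_apply]
  have hAJ : ∀ i j, (A.transpose * J) i j = A (Sum.swap j) i := by
    intro i j
    rcases j with j | j <;> simp [J, Matrix.mul_apply, Fintype.sum_sum_type, Matrix.one_apply]
  constructor
  · rintro ⟨h, hr⟩
    have anti : ∀ i j, A (Sum.swap j) i + A (Sum.swap i) j = 0 := fun i j => by
      rw [← hAJ, ← hJA]; exact congrFun (congrFun h i) j
    have col : ∀ i j, j ≠ Sum.inl 0 → j ≠ Sum.inl 1 → A i j = 0 := by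
      intro i j h0 h1
      have hm : A.transpose.mulVec (Pi.single i 1) ∈ Submodule.span k {Pi.single (Sum.inl 0 : Fin 3 ⊕ Fin 3) (1 : k), Pi.single (Sum.inl 1 : Fin 3 ⊕ Fin 3) (1 : k)} := hr ⟨_, rfl⟩
      obtain ⟨a, b, hab⟩ := Submodule.mem_span_pair.mp hm
      have := congrFun hab j
      simpa [h0, h1, Matrix.mulVec_single] using this.symm
    have row : ∀ i j, Sum.swap i ≠ Sum.inl 0 → Sum.swap i ≠ Sum.inl 1 → A i j = 0 := by
      intro i j h0 h1
      have := anti j (Sum.swap i)
      rw [Sum.swap_swap, col (Sum.swap j) _ h0 h1, add_zero] at this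
      exact this
    have dg : ∀ j, A (Sum.swap j) j = 0 := by
      intro j
      have := anti j j
      rw [← two_mul] at this
      exact (mul_eq_zero.mp this).resolve_left h2
    refine ⟨A (Sum.inr 0) (Sum.inl 1), ?_⟩
    have e00 : A (Sum.inr 0) (Sum.inl 0) = 0 := dg (Sum.inl 0)
    have e11 : A (Sum.inr 1) (Sum.inl 1) = 0 := dg (Sum.inl 1)
    have e10 : A (Sum.inr 1) (Sum.inl 0) = -A (Sum.inr 0) (Sum.inl 1) := by
      have := anti (Sum.inl 0) (Sum.inl 1)
      exact eq_neg_of_add_eq_zero_left this
    ext i j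
    by_cases hi : i = Sum.inr 0
    · subst hi
      by_cases hj : j = Sum.inl 1
      · subst hj; simp
      · by_cases hj0 : j = Sum.inl 0
        · subst hj0; simp [e00]
        · rw [col _ _ hj0 hj]; simp [Matrix.single, Ne.symm hj]
    · by_cases hi1 : i = Sum.inr 1
      · subst hi1
        by_cases hj : j = Sum.inl 0
        · subst hj; simp [e10]
        · by_cases hj1 : j = Sum.inl 1
          · subst hj1; simp [e11]
          · rw [col _ _ hj hj1]; simp [Matrix.single, Ne.symm hj]
      · rw [row i j (fun h => hi (by simpa using congrArg Sum.swap h)) (fun h => hi1 (by simpa using congrArg Sum.swap h))]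
        simp [Matrix.single, Ne.symm hi, Ne.symm hi1]
  · rintro ⟨a, rfl⟩
    refine ⟨?_, ?_⟩
    · ext i j
      rw [Matrix.add_apply, hAJ, hJA]
      rcases i with i | i <;> rcases j with j | j <;> simp [Matrix.single] <;> fin_cases i <;> fin_cases j <;> simp
    · rintro _ ⟨v, rfl⟩
      refine Submodule.mem_span_pair.mpr ⟨-a * v (Sum.inr 1), a * v (Sum.inr 0), ?_⟩
      funext j
      simp only [Matrix.mulVecLin_apply, Matrix.mulVec, dotProduct, Matrix.transpose_apply, Pi.add_apply, Pi.smul_apply]
      simp [Matrix.single, Fintype.sum_sum_type, Fin.sum_univ_three]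
      rcases j with j | j <;> fin_cases j <;> simp

end Groth.Agent.S16016
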