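import Mathlib
import Groth.Statements.S16017
-- import your own Groth.Agent.* helpers here

set_option autoImplicit false
universe u
open W4c3ghconstell

namespace Groth.Agent.S16017

section

variable {ι : Type*} [DecidableEq ι]

lemma tail_eq {a : ι → ℝ} (ha : Summable a) (D : Finset ι) :
    (∑' i, if i ∈ D then (0 : ℝ) else a i) = (∑' i, a i) - ∑ i ∈ D, a i := by
  have hS : HasSum (fun i => if i ∈ D then a i else 0) (∑ i ∈ D, a i) := by
    have h : (∑ i ∈ D, if i ∈ D then a i else 0) = ∑ i ∈ D, a i := Finset.sum_congr rfl fun i hi => if_pos hi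
    rw [← h]
    exact hasSum_sum_of_ne_finset_zero fun i hi => if_neg hi
  have h := ha.hasSum.sub hS
  have e : (fun i => a i - if i ∈ D then a i else 0) = fun i => if i ∈ D then (0 : ℝ) else a i := by
    funext i; split_ifs <;> simp
  rw [e] at h
  exact h.tsum_eq

lemma weight_mul_ratio (θ : ℝ) {h h' : ℕ} (hle : h' ≤ h) : θ * (h' : ℝ) = θ * (h : ℝ) * ((h' : ℝ) / (h : ℝ)) := by
  rcases Nat.eq_zero_or_pos h with rfl | hp
  · simp [Nat.le_zero.1 hle]
  · have : (h : ℝ) ≠ 0 := by exact_mod_cast hp.ne'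
    field_simp

lemma ratio_mem {h h' : ℕ} (hle : h' ≤ h) : 0 ≤ (h' : ℝ) / (h : ℝ) ∧ (h' : ℝ) / (h : ℝ) ≤ 1 := by
  refine ⟨by positivity, div_le_one_of_le₀ (by exact_mod_cast hle) (by positivity)⟩

lemma summable_mul_ratio {a : ι → ℝ} (ha : Summable a) {r : ι → ℝ} (hr : ∀ i, 0 ≤ r i ∧ r i ≤ 1) :
    Summable fun i => a i * r i := by
  refine Summable.of_norm_bounded ha.abs fun i => ?_
  rw [Real.norm_eq_abs, abs_mul]
  exact mul_le_of_le_one_right (abs_nonneg _) (abs_le.2 ⟨by linarith [(hr i).1], (hr i).2⟩)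

end

/-- Let ι index the irreducible representations, θ : ι → ℚ a weight negative at only finitely many
indices (the finite set D₋), h h' : ι → ℕ with h' ≤ h pointwise (the isotypic dimensions of an
object and of a sub-object) and Σ_i θ_i h_i summable. For a finite set D of indices put S_D = Σ_{i ∉
D} θ_i h_i, d = #(D ∖ D₋), and θ̃_D = Σ_{i ∈ D} θ_i h'_i + (S_D / d) · Σ_{i ∈ D ∖ D₋} h'_i / h_i,
the modified weight attached to the parameters chosen for D (for D ⊇ D₋ the first sum is the
negative part plus the part over D ∖ D₋). Then θ̃_D tends to Σ_i θ_i h'_i as D grows through the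
finite subsets of ι. (Here D runs over all finite sets of indices and a quotient by zero is zero;
the source lets D run over the finite subsets of the locus θ ≠ 0 containing D₋, and the same tail
estimate gives both.) -/
theorem result {ι : Type u} [DecidableEq ι] (θ : ι → ℚ) (h h' : ι → ℕ)
    (hle : ∀ i, h' i ≤ h i) (hfin : {i | θ i < 0}.Finite)
    (hsum : Summable (fun i => (θ i : ℝ) * (h i : ℝ))) :
    Filter.Tendsto
      (fun D : Finset ι =>
        (∑ i ∈ D, (θ i : ℝ) * (h' i : ℝ)) +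
          ((∑' i, if i ∈ D then (0 : ℝ) else (θ i : ℝ) * (h i : ℝ)) / ((D \ hfin.toFinset).card : ℝ)) *
            ∑ i ∈ D \ hfin.toFinset, ((h' i : ℝ) / (h i : ℝ)))
      Filter.atTop (nhds (∑' i, (θ i : ℝ) * (h' i : ℝ))) := by
  classical
  simp only [weight_mul_ratio _ (hle _)]
  set a : ι → ℝ := fun i => (θ i : ℝ) * (h i : ℝ) with ha
  set r : ι → ℝ := fun i => (h' i : ℝ) / (h i : ℝ) with hr
  have hr01 : ∀ i, 0 ≤ r i ∧ r i ≤ 1 := fun i => ratio_mem (hle i)
  have h1 : Filter.Tendsto (fun D : Finset ι => ∑ i ∈ D, a i * r i) Filter.atTop (nhds (∑' i, a i * r i)) :=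
    (summable_mul_ratio hsum hr01).hasSum
  have hT : Filter.Tendsto (fun D : Finset ι => ∑' i, if i ∈ D then (0 : ℝ) else a i) Filter.atTop (nhds 0) := by
    simp only [tail_eq hsum]
    have := (tendsto_const_nhds (x := ∑' i, a i)).sub (show Filter.Tendsto (fun D : Finset ι => ∑ i ∈ D, a i) Filter.atTop (nhds (∑' i, a i)) from hsum.hasSum)
    rwa [sub_self] at this
  have h2 : Filter.Tendsto (fun D : Finset ι =>
      ((∑' i, if i ∈ D then (0 : ℝ) else a i) / ((D \ hfin.toFinset).card : ℝ)) * ∑ i ∈ D \ hfin.toFinset, r i)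
      Filter.atTop (nhds 0) := by
    refine squeeze_zero_norm (fun D => ?_) (tendsto_zero_iff_abs_tendsto_zero _ |>.1 hT)
    show ‖_‖ ≤ |∑' i, if i ∈ D then (0 : ℝ) else a i|
    rw [Real.norm_eq_abs, div_mul_eq_mul_div, mul_div_assoc, abs_mul]
    refine mul_le_of_le_one_right (abs_nonneg _) ?_
    rw [abs_of_nonneg (div_nonneg (Finset.sum_nonneg fun i _ => (hr01 i).1) (Nat.cast_nonneg _))]
    refine div_le_one_of_le₀ ?_ (Nat.cast_nonneg _)
    calc ∑ i ∈ D \ hfin.toFinset, r i ≤ ∑ _i ∈ D \ hfin.toFinset, (1 : ℝ) := Finset.sum_le_sum fun i _ => (hr01 i).2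
      _ = _ := by simp
  simpa using h1.add h2

end Groth.Agent.S16017
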