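import Groth.Statements.S16021
import Groth.Agent.CechEdgeLib.Basic

set_option autoImplicit false
universe u
open CategoryTheory CategoryTheory.Limits Opposite
open CechEdge

namespace Groth.Agent.S16021

/-- On a small site with fibre products, with coverings given as indexed families of objects over their
target, an abelian presheaf is a sheaf if and only if, for every object U and every family of
objects over U whose generated sieve is covering, the canonical map from the sections over U to the
degree-0 Cech cohomology with respect to the family is bijective. -/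
theorem result {C : Type u} [SmallCategory C] [HasPullbacks C]
    (J : GrothendieckTopology C) (P : Cᵒᵖ ⥤ AddCommGrpCat.{u}) :
    Presheaf.IsSheaf J P ↔ ∀ (U : C) (ι : Type u) (Y : ι → Over U),
      Sieve.ofArrows (fun i => (Y i).left) (fun i => (Y i).hom) ∈ J U →
        Function.Bijective (CechEdge.toCech Y P) := by
  constructor
  · intro h V ι Y hY
    exact Groth.Agent.CechEdgeLib.sheaf_toCech_bijective hY (⟨P, h⟩ : Sheaf J AddCommGrpCat.{u})
  · intro h
    rw [Presheaf.isSheaf_iff_isSheaf_forget J P (forget AddCommGrpCat.{u}), isSheaf_iff_isSheaf_of_type]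
    intro V S hS
    let Y : (Σ W : C, {f : W ⟶ V // S f}) → Over V := fun k => Over.mk k.2.1
    have hYS : Sieve.ofArrows (fun i => (Y i).left) (fun i => (Y i).hom) = S := by
      ext W f
      constructor
      · intro hf
        obtain ⟨k, g, rfl⟩ := (Sieve.mem_ofArrows_iff _ _ _).1 hf
        exact S.downward_closed k.2.2 g
      · intro hf
        exact (Sieve.mem_ofArrows_iff _ _ _).2 ⟨⟨W, f, hf⟩, 𝟙 W, (Category.id_comp f).symm⟩
    have := (Groth.Agent.CechEdgeLib.toCech_bijective_iff (Y := Y) P).1 (h V _ Y (hYS.symm ▸ hS))
    change Presieve.IsSheafFor _ (Sieve.ofArrows (fun i => (Y i).left) (fun i => (Y i).hom)).arrows at this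
    rwa [hYS] at this

end Groth.Agent.S16021
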