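import Groth.Statements.S16030
import Mathlib
-- import your own Groth.Agent.* helpers here

set_option autoImplicit false
universe u
open CAlg

namespace Groth.Agent.S16030

/-- For a finite set F of points of the spectrum of a commutative ring A and an open subset U containing
F, some basic open D(a) contains F and is contained in U. -/
theorem result
    (A : Type u) [CommRing A] (F : Set (PrimeSpectrum A)) (hF : F.Finite)
    (U : TopologicalSpace.Opens (PrimeSpectrum A)) (hFU : F ⊆ (U : Set (PrimeSpectrum A))) :
    ∃ a : A, F ⊆ (PrimeSpectrum.basicOpen a : Set (PrimeSpectrum A)) ∧ PrimeSpectrum.basicOpen a ≤ U := by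
  obtain ⟨s, hs⟩ := (PrimeSpectrum.isOpen_iff (U := (U : Set (PrimeSpectrum A)))).mp U.isOpen
  by_contra! hcon
  have hsub : (Ideal.span s : Set A) ⊆ ⋃ p ∈ F, (p.asIdeal : Set A) := fun a ha => by
    by_contra h
    simp only [Set.mem_iUnion, SetLike.mem_coe, not_exists] at h
    refine hcon a (fun p hp => h p hp) (fun q hq => ?_)
    by_contra hqU
    have : q ∈ PrimeSpectrum.zeroLocus s := hs ▸ hqU
    rw [← PrimeSpectrum.zeroLocus_span] at this
    exact hq (this ha)
  rcases F.eq_empty_or_nonempty with rfl | ⟨p₀, -⟩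
  · simpa using hsub (Ideal.zero_mem _)
  obtain ⟨p, hp, hle⟩ := (Ideal.subset_union_prime_finite hF p₀ p₀ (f := fun p : PrimeSpectrum A => p.asIdeal)
    fun p _ _ _ => p.isPrime).mp hsub
  have : p ∈ (U : Set (PrimeSpectrum A))ᶜ := by
    rw [hs, ← PrimeSpectrum.zeroLocus_span]
    exact hle
  exact this (hFU hp)

end Groth.Agent.S16030
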