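import Groth.Statements.S16048
import Groth.Agent.ArtFunLib.Criteria
import Groth.Agent.ArtFunLib.Trunc
import Groth.Agent.ArtFunLib.Separable
import Groth.Agent.ArtFunLib.Smooth
import Groth.Agent.S12722
import Mathlib

set_option autoImplicit false
universe u v
open CategoryTheory
open ArtFun

namespace Groth.Agent.S16048

/-- Let Λ be a complete local Noetherian ring with residue field k and F a functor on Artinian local
Λ-algebras with residue field k which admits a hull. A family ξ of F over a complete local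
Noetherian Λ-algebra R with residue field k such that R is isomorphic over Λ to a power series ring
Λ[[t_1, …, t_n]] and the induced map on tangent spaces h_R(k[ε]) → F(k[ε]) is bijective is
miniversal. (The source states this for the deformation functor of a rational double point over the
Witt vectors of an algebraically closed field, with the Kodaira–Spencer map as the tangent map and
the existence of a hull taken from Schlessinger's criteria; the argument uses only the existence of
a hull, so the hull is carried as a hypothesis and Λ is any complete local Noetherian ring with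
residue field k.) -/
theorem result {Λ : Type u} {k : Type u}
    [CommRing Λ] [Field k] [Algebra Λ k] [IsNoetherianRing Λ] [Module.Finite Λ k]
    [IsLocalRing Λ] [IsAdicComplete (IsLocalRing.maximalIdeal Λ) Λ]
    (hk : Function.Surjective (algebraMap Λ k))
    {F : ArtFun.Art Λ k ⥤ Type v} (hF : ArtFun.HasHull F)
    (R : ArtFun.CRing Λ k) (n : ℕ) (e : R.carrier ≃ₐ[Λ] MvPowerSeries (Fin n) Λ)
    (ξ : ArtFun.Family R.carrier R.res F)
    (hξ : Function.Bijective (ArtFun.TangentSpace.ofFamily ξ)) :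
    ArtFun.IsMiniversal ξ := by
  open Groth.Agent.ArtFunLib ArtFun ArtFun.Art ArtFun.CRing in
  obtain ⟨⟨H, η, hη⟩⟩ := hF
  have hbt : Function.Bijective (ξ.app (dual Λ k)) := hξ
  have h0 : H0 F := h0_of_surjective (ξ := η) fun z => by
    obtain ⟨a, ha⟩ := hη.2.2 (F.map baseToDual z)
    refine ⟨HomSet.map (toBase _) a, ?_⟩
    rw [η.natural, ha, ← map_comp', show (baseToDual : base Λ k ⟶ dual Λ k) ≫ toBase _ = 𝟙 _ from
      (eq_toBase _).trans (eq_toBase _).symm, map_id']
  obtain ⟨g, hg, hgξ⟩ := exists_hom_of_versal' hη.1 h0 ξ.toFormalElt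
  have hfam : η.along g hg = ξ := (toFormalElt_bijective R F).1 hgξ
  -- the tangent map of `g` is bijective
  have happ : ∀ a : HomSet R.carrier R.res (dual Λ k),
      ξ.app _ a = η.app _ ⟨a.1.comp g, by rw [← AlgHom.comp_assoc, a.2, hg]⟩ := fun a => by
    rw [← hfam]
    rfl
  have hgs : Function.Surjective g := by
    refine surjective_of_trunc g hg (surjective_of_dual_separating _ ?_ fun d d' hdd => ?_)
    · rw [sq]
      refine le_bot_iff.mp (Ideal.mul_le.mpr fun a ha b hb => ?_)
      obtain ⟨a, rfl⟩ := Ideal.Quotient.mk_surjective a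
      obtain ⟨b, rfl⟩ := Ideal.Quotient.mk_surjective b
      refine Ideal.mem_bot.mpr (Ideal.Quotient.eq_zero_iff_mem.mpr ?_ : Ideal.Quotient.mk (mpow R 1) (a * b) = 0)
      rw [mpow, sq]
      exact Ideal.mul_mem_mul ((CRing.mem_maximalIdeal_iff R a).mpr ((Art.mem_maximalIdeal_iff (R.trunc 1) _).mp ha))
        ((CRing.mem_maximalIdeal_iff R b).mpr ((Art.mem_maximalIdeal_iff (R.trunc 1) _).mp hb))
    · refine trunc_hom_ext (hbt.1 ?_)
      rw [happ, happ]
      refine congrArg _ (Subtype.ext (AlgHom.ext fun x => ?_))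
      exact congr_hom hdd (Ideal.Quotient.mk _ x)
  have hsm := (Groth.Agent.S12722.result hk R).mpr ⟨n, ⟨e⟩⟩
  have step : ∀ m (φ : HomSet R.carrier R.res (H.trunc m)),
      HomSet.map (truncMapOfHom g hg m) φ = R.truncHom m → ∃ ψ : HomSet R.carrier R.res (H.trunc (m + 1)),
        HomSet.map (H.truncMap m) ψ = φ ∧ HomSet.map (truncMapOfHom g hg (m + 1)) ψ = R.truncHom (m + 1) := by
    intro m φ hφ
    obtain ⟨W, w₁, w₂, hW⟩ := exists_fibreProd (truncMapOfHom g hg m) (R.truncMap m) (truncMap_surjective m)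
    obtain ⟨μ, hμ₁, hμ₂⟩ := exists_lift hW (g₁ := H.truncMap m) (g₂ := truncMapOfHom g hg (m + 1))
      (truncMapOfHom_truncMap g hg m).symm
    have hμ : Function.Surjective μ := fun z => by
      obtain ⟨a, ha⟩ := Ideal.Quotient.mk_surjective (w₁ z)
      obtain ⟨b, hb⟩ := Ideal.Quotient.mk_surjective (w₂ z)
      have he : g a - b ∈ mpow R m := by
        refine Ideal.Quotient.eq.mp ?_
        have := hW.w_apply z
        rw [← ha, ← hb] at this
        exact this
      have hmg : Ideal.map g.toRingHom (IsLocalRing.maximalIdeal H.carrier) = IsLocalRing.maximalIdeal R.carrier := by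
        refine le_antisymm (Ideal.map_le_iff_le_comap.mpr (maximalIdeal_le_comap g hg)) fun y hy => ?_
        obtain ⟨x, rfl⟩ := hgs y
        refine Ideal.mem_map_of_mem g.toRingHom ((CRing.mem_maximalIdeal_iff H x).mpr ?_)
        rw [← res_comp_apply g hg]
        exact (CRing.mem_maximalIdeal_iff R _).mp hy
      rw [mpow, ← hmg, ← Ideal.map_pow] at he
      obtain ⟨c, hc, hcb⟩ := (Ideal.mem_map_iff_of_surjective g.toRingHom hgs).mp he
      refine ⟨Ideal.Quotient.mk _ (a - c), hW.inj _ _ ((congr_hom hμ₁ _).trans ?_) ((congr_hom hμ₂ _).trans ?_)⟩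
      · rw [← ha]
        exact Ideal.Quotient.eq.mpr (by rw [sub_sub_cancel_left]; exact neg_mem hc)
      · rw [← hb]
        refine Ideal.Quotient.eq.mpr ?_
        change g (a - c) - b ∈ _
        rw [map_sub, show g c = g a - b from hcb, sub_sub_cancel, sub_self]
        exact zero_mem _
    obtain ⟨χ, hχ₁, hχ₂⟩ := exists_homSet_lift hW (g₁ := φ) (g₂ := R.truncHom (m + 1))
      (hφ.trans (truncMap_truncHom (R := R) m).symm)
    obtain ⟨ψ, hψ⟩ : ∃ ψ : HomSet R.carrier R.res _, HomSet.map μ ψ = χ := hsm μ hμ χ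
    exact ⟨ψ, by rw [← hμ₁, homSet_map_comp]; exact (congrArg (HomSet.map w₁) hψ).trans hχ₁,
      by rw [← hμ₂, homSet_map_comp]; exact (congrArg (HomSet.map w₂) hψ).trans hχ₂⟩
  choose next h₁ h₂ using step
  have hb0 : Function.Bijective (truncMapOfHom g hg 0) := by
    refine ⟨fun a b h => ?_, fun t => ?_⟩
    · obtain ⟨a, rfl⟩ := Ideal.Quotient.mk_surjective a
      obtain ⟨b, rfl⟩ := Ideal.Quotient.mk_surjective b
      refine Ideal.Quotient.eq.mpr ?_
      have h' : g a - g b ∈ mpow R 0 := Ideal.Quotient.eq.mp h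
      rw [mpow, zero_add, pow_one, CRing.mem_maximalIdeal_iff] at h' ⊢
      rwa [← map_sub, res_comp_apply g hg] at h'
    · obtain ⟨y, rfl⟩ := Ideal.Quotient.mk_surjective t
      obtain ⟨x, rfl⟩ := hgs y
      exact ⟨Ideal.Quotient.mk _ x, rfl⟩
  let seq : ∀ m, {φ : HomSet R.carrier R.res (H.trunc m) // HomSet.map (truncMapOfHom g hg m) φ = R.truncHom m} :=
    fun m => Nat.rec ⟨HomSet.map (homInv _ hb0) (R.truncHom 0), by rw [← homSet_map_comp, homInv_comp, homSet_map_id]⟩
      (fun i p => ⟨next i p.1 p.2, h₂ i p.1 p.2⟩) m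
  obtain ⟨s, hs, hmk⟩ := exists_algHom_of_trunc (R := H) (fun m => (seq m).1) fun m => h₁ m _ (seq m).2
  have hgsid : g.comp s = AlgHom.id Λ _ := cring_hom_ext R _ _ fun m x =>
    (congrArg (truncMapOfHom g hg m) (hmk m x)).trans (DFunLike.congr_fun (congrArg Subtype.val (seq m).2) x)
  have hss : Function.Surjective s := by
    refine surjective_of_trunc s hs (surjective_of_dual_separating _ ?_ fun d d' hdd => ?_)
    · rw [sq]
      refine le_bot_iff.mp (Ideal.mul_le.mpr fun a ha b hb => ?_)
      obtain ⟨a, rfl⟩ := Ideal.Quotient.mk_surjective a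
      obtain ⟨b, rfl⟩ := Ideal.Quotient.mk_surjective b
      refine Ideal.mem_bot.mpr (Ideal.Quotient.eq_zero_iff_mem.mpr ?_ : Ideal.Quotient.mk (mpow H 1) (a * b) = 0)
      rw [mpow, sq]
      exact Ideal.mul_mem_mul ((CRing.mem_maximalIdeal_iff H a).mpr ((Art.mem_maximalIdeal_iff (H.trunc 1) _).mp ha))
        ((CRing.mem_maximalIdeal_iff H b).mpr ((Art.mem_maximalIdeal_iff (H.trunc 1) _).mp hb))
    · obtain ⟨a, ha⟩ := hbt.2 (η.app _ (HomSet.map d (H.truncHom 1)))
      obtain ⟨a', ha'⟩ := hbt.2 (η.app _ (HomSet.map d' (H.truncHom 1)))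
      rw [happ] at ha ha'
      have e₁ := hη.2.1 ha
      have e₂ := hη.2.1 ha'
      refine trunc_hom_ext (e₁.symm.trans (Eq.trans ?_ e₂))
      have haa : a = a' := Subtype.ext (AlgHom.ext fun r => by
        have h₁' := DFunLike.congr_fun (congrArg Subtype.val e₁) (s r)
        have h₂' := DFunLike.congr_fun (congrArg Subtype.val e₂) (s r)
        simp only [AlgHom.comp_apply, show g (s r) = r from DFunLike.congr_fun hgsid r] at h₁' h₂'
        exact h₁'.trans ((congr_hom hdd (Ideal.Quotient.mk _ r)).trans h₂'.symm))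
      rw [haa]
  refine ⟨fun B A μ hμ φ y hy => ?_, hbt⟩
  rw [← hfam] at hy ⊢
  obtain ⟨ψ', hψ', hψy⟩ := hη.1 μ hμ ⟨φ.1.comp g, by rw [← AlgHom.comp_assoc, φ.2, hg]⟩ y hy
  refine ⟨⟨ψ'.1.comp s, by rw [← AlgHom.comp_assoc, ψ'.2, hs]⟩, Subtype.ext (AlgHom.ext fun r => ?_), ?_⟩
  · exact (DFunLike.congr_fun (congrArg Subtype.val hψ') (s r)).trans (congrArg φ.1 (DFunLike.congr_fun hgsid r))
  · refine Eq.trans (congrArg (η.app B) (Subtype.ext (AlgHom.ext fun x => ?_))) hψy
    obtain ⟨r, rfl⟩ := hss x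
    exact congrArg ψ'.1 (congrArg s (DFunLike.congr_fun hgsid r))

end Groth.Agent.S16048
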