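import Groth.Statements.S16051
import Mathlib.Algebra.Lie.Classical
import Mathlib.RingTheory.DiscreteValuationRing.Basic
import Mathlib.LinearAlgebra.Isomorphisms
import Mathlib.LinearAlgebra.Dimension.Constructions
import Mathlib.LinearAlgebra.Dimension.Free
import Mathlib.Algebra.BigOperators.Fin
import Mathlib.Algebra.CharP.Basic
-- import your own Groth.Agent.* helpers here

set_option autoImplicit false
universe u
open LieAlg

namespace Groth.Agent.S16051

section
variable {O : Type u} [CommRing O]

/-- A matrix as a function of two natural numbers. -/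
private def ext' {n : ℕ} (A : Matrix (Fin (n + 1)) (Fin (n + 1)) O) (i j : ℕ) : O :=
  if h : i < n + 1 ∧ j < n + 1 then A ⟨i, h.1⟩ ⟨j, h.2⟩ else 0

private lemma ext'_val {n : ℕ} (A : Matrix (Fin (n + 1)) (Fin (n + 1)) O) (i j : Fin (n + 1)) :
    ext' A i j = A i j := by
  rw [ext', dif_pos ⟨i.2, j.2⟩]

/-- Sum along a subdiagonal of the upper left block. -/
private def psi (n k : ℕ) (M : ℕ → ℕ → O) : O := ∑ s ∈ Finset.range (n - k), M (k + s) s

/-- Back substitution. -/
private def W (M : ℕ → ℕ → O) : ℕ → ℕ → O
  | 0, _ => 0
  | i + 1, j => M i j + if j = 0 then 0 else W M i (j - 1)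

private lemma W_diag (M : ℕ → ℕ → O) (k : ℕ) : ∀ j, W M (k + j + 1) j = ∑ s ∈ Finset.range (j + 1), M (k + s) s
  | 0 => by simp [W]
  | j + 1 => by
    rw [Finset.sum_range_succ, ← W_diag M k j]
    show M (k + (j + 1)) (j + 1) + W M (k + (j + 1)) j = _
    rw [show k + (j + 1) = k + j + 1 by omega, add_comm]

/-- The bracket with the subregular element, in natural coordinates. -/
private def br (n : ℕ) (Y : ℕ → ℕ → O) (i j : ℕ) : O :=
  (if i + 1 < n then Y (i + 1) j else 0) - if 1 ≤ j ∧ j < n then Y i (j - 1) else 0

private lemma psi_br (n k : ℕ) (Y : ℕ → ℕ → O) : psi n k (br n Y) = 0 := by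
  let g : ℕ → O := fun s => if 1 ≤ s ∧ k + s < n then Y (k + s) (s - 1) else 0
  have h : ∀ s ∈ Finset.range (n - k), br n Y (k + s) s = g (s + 1) - g s := by
    intro s hs
    rw [Finset.mem_range] at hs
    simp only [br, g, Nat.add_sub_cancel]
    congr 1
    · rcases lt_or_ge (k + s + 1) n with h | h
      · rw [if_pos h, if_pos ⟨by omega, by omega⟩, Nat.add_assoc]
      · rw [if_neg (by omega), if_neg (by omega)]
    · rcases Nat.eq_zero_or_pos s with h | h
      · subst h; simp
      · rw [if_pos ⟨h, by omega⟩, if_pos ⟨h, by omega⟩]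
  rw [psi, Finset.sum_congr rfl h, Finset.sum_range_sub]
  simp only [g]
  rw [if_neg (by omega), if_neg (by omega), sub_zero]

end

/-- Let O be a discrete valuation ring of characteristic zero with residue field of characteristic p,
let 1 ≤ n with n + 1 < p (type A_n with p above the Coxeter number), and let x ∈ sl_{n+1}(O) be the
standard subregular nilpotent element, the matrix with entries x_{i,i+1} = 1 for i + 1 < n and 0
elsewhere (one Jordan block of size n and one of size 1; in the source this is the sum of the root
vectors of the first n − 1 simple roots, completed there to an sl₂-triple). Then the quotient of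
sl_{n+1}(O) by the image of ad_x is a free O-module of rank n + 2. (The source works over a complete
such ring with algebraically closed residue field; completeness and algebraic closedness are not
used for this statement.) -/
theorem result (O : Type u) [CommRing O] [IsDomain O] [IsDiscreteValuationRing O]
    [CharZero O] (p : ℕ) [Fact p.Prime] [CharP (IsLocalRing.ResidueField O) p]
    (n : ℕ) (hn : 1 ≤ n) (hp : n + 1 < p)
    (x : LieAlgebra.SpecialLinear.sl (Fin (n + 1)) O)
    (hx : ∀ i j : Fin (n + 1), (x : Matrix (Fin (n + 1)) (Fin (n + 1)) O) i j =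
      if j.val = i.val + 1 ∧ j.val < n then 1 else 0) :
    Module.Free O (LieAlgebra.SpecialLinear.sl (Fin (n + 1)) O ⧸
        LinearMap.range (LieAlgebra.ad O (LieAlgebra.SpecialLinear.sl (Fin (n + 1)) O) x)) ∧
      Module.finrank O (LieAlgebra.SpecialLinear.sl (Fin (n + 1)) O ⧸
        LinearMap.range (LieAlgebra.ad O (LieAlgebra.SpecialLinear.sl (Fin (n + 1)) O) x)) = n + 2 := by
  classical
  let ad := LieAlgebra.ad O (LieAlgebra.SpecialLinear.sl (Fin (n + 1)) O) x
  have hbr : ∀ (Y : Matrix (Fin (n + 1)) (Fin (n + 1)) O) (i j : Fin (n + 1)),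
      ((x : Matrix (Fin (n + 1)) (Fin (n + 1)) O) * Y - Y * (x : Matrix (Fin (n + 1)) (Fin (n + 1)) O)) i j =
        br n (ext' Y) i j := by
    intro Y i j
    rw [Matrix.sub_apply, Matrix.mul_apply, Matrix.mul_apply, br]
    congr 1
    · rcases lt_or_ge (i.val + 1) n with h | h
      · rw [if_pos h, Finset.sum_eq_single ⟨i.val + 1, by omega⟩]
        · rw [hx, if_pos ⟨rfl, h⟩, one_mul, ← ext'_val Y ⟨i.val + 1, by omega⟩ j]
        · intro l _ hl
          rw [hx, if_neg (fun hh => hl (Fin.ext hh.1)), zero_mul]
        · intro hh; exact absurd (Finset.mem_univ _) hh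
      · rw [if_neg (by omega)]
        exact Finset.sum_eq_zero fun l _ => by rw [hx, if_neg (by omega), zero_mul]
    · by_cases h : 1 ≤ j.val ∧ j.val < n
      · rw [if_pos h, Finset.sum_eq_single ⟨j.val - 1, by omega⟩]
        · rw [hx, if_pos ⟨by simp only []; omega, h.2⟩, mul_one, ← ext'_val Y i ⟨j.val - 1, by omega⟩]
        · intro l _ hl
          rw [hx, if_neg (fun hh => hl (Fin.ext (show l.val = j.val - 1 by omega))), mul_zero]
        · intro hh; exact absurd (Finset.mem_univ _) hh
      · rw [if_neg h]
        exact Finset.sum_eq_zero fun l _ => by rw [hx, if_neg (by omega), mul_zero]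
  have hbr' : ∀ (Y : Matrix (Fin (n + 1)) (Fin (n + 1)) O) (i j : ℕ), i ≤ n → j ≤ n →
      ext' ((x : Matrix (Fin (n + 1)) (Fin (n + 1)) O) * Y - Y * (x : Matrix (Fin (n + 1)) (Fin (n + 1)) O)) i j =
        br n (ext' Y) i j := fun Y i j hi hj => by
    rw [ext', dif_pos ⟨by omega, by omega⟩]; exact hbr Y ⟨i, by omega⟩ ⟨j, by omega⟩
  have hadd : ∀ (A B : Matrix (Fin (n + 1)) (Fin (n + 1)) O) i j, ext' (A + B) i j = ext' A i j + ext' B i j := by
    intro A B i j; simp only [ext']; split <;> simp
  have hsmul : ∀ (c : O) (A : Matrix (Fin (n + 1)) (Fin (n + 1)) O) i j, ext' (c • A) i j = c * ext' A i j := by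
    intro c A i j; simp only [ext']; split <;> simp
  let φ : LieAlgebra.SpecialLinear.sl (Fin (n + 1)) O →ₗ[O] (Fin (n - 1) → O) × O × O × O :=
    { toFun := fun M => (fun a => psi n (a.val + 1) (ext' (M : Matrix (Fin (n + 1)) (Fin (n + 1)) O)),
        ext' (M : Matrix (Fin (n + 1)) (Fin (n + 1)) O) n 0,
        ext' (M : Matrix (Fin (n + 1)) (Fin (n + 1)) O) (n - 1) n,
        ext' (M : Matrix (Fin (n + 1)) (Fin (n + 1)) O) n n)
      map_add' := fun A B => by
        refine Prod.ext (funext fun a => ?_) (Prod.ext ?_ (Prod.ext ?_ ?_)) <;>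
          simp [psi, hadd, Finset.sum_add_distrib]
      map_smul' := fun c A => by
        refine Prod.ext (funext fun a => ?_) (Prod.ext ?_ (Prod.ext ?_ ?_)) <;>
          simp [psi, hsmul, Finset.mul_sum] }
  have hsurj : Function.Surjective φ := by
    rintro ⟨c, a, b, e⟩
    let F : ℕ → ℕ → O := fun i j =>
      if j = 0 then (if i = 0 then -e else if h : i - 1 < n - 1 then c ⟨i - 1, h⟩ else a)
      else if j = n then (if i = n - 1 then b else if i = n then e else 0) else 0
    let M : Matrix (Fin (n + 1)) (Fin (n + 1)) O := Matrix.of fun i j => F i j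
    have htr : M.trace = 0 := by
      show ∑ i : Fin (n + 1), F i i = 0
      rw [Fin.sum_univ_eq_sum_range (fun i => F i i), Finset.sum_range_succ,
        Finset.sum_eq_single 0 (fun i hi h0 => by
          rw [Finset.mem_range] at hi
          simp only [F]; rw [if_neg h0, if_neg (by omega)]) (fun h => absurd (Finset.mem_range.mpr (by omega)) h)]
      simp only [F]
      rw [if_true, if_true, if_neg (by omega), if_true, if_neg (by omega), if_true, neg_add_cancel]
    refine ⟨⟨M, htr⟩, ?_⟩
    have hext : ∀ i j, i ≤ n → j ≤ n → ext' M i j = F i j := fun i j hi hj => by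
      rw [ext', dif_pos ⟨by omega, by omega⟩]; rfl
    refine Prod.ext (funext fun t => ?_) (Prod.ext ?_ (Prod.ext ?_ ?_))
    · show psi n (t.val + 1) (ext' M) = c t
      have := t.2
      rw [psi, Finset.sum_eq_single 0]
      · rw [hext _ _ (by omega) (by omega)]
        simp only [F, Nat.add_zero, Nat.add_sub_cancel]
        rw [if_true, if_neg (by omega), dif_pos t.2]
      · intro s hs h0
        rw [Finset.mem_range] at hs
        rw [hext _ _ (by omega) (by omega)]
        simp only [F]
        rw [if_neg h0, if_neg (by omega)]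
      · intro h; exact absurd (Finset.mem_range.mpr (by omega)) h
    · show ext' M n 0 = a
      rw [hext _ _ le_rfl (by omega)]
      simp only [F]
      rw [if_true, if_neg (by omega), dif_neg (by omega)]
    · show ext' M (n - 1) n = b
      rw [hext _ _ (by omega) le_rfl]
      simp only [F]
      rw [if_neg (by omega), if_true, if_true]
    · show ext' M n n = e
      rw [hext _ _ le_rfl le_rfl]
      simp only [F]
      rw [if_neg (by omega), if_true, if_neg (by omega), if_true]
  have hunit : IsUnit ((n + 1 : ℕ) : O) := by
    apply IsUnit.of_map (IsLocalRing.residue O)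
    rw [map_natCast, isUnit_iff_ne_zero, Ne, CharP.cast_eq_zero_iff (IsLocalRing.ResidueField O) p]
    exact fun h => absurd (Nat.le_of_dvd (by omega) h) (by omega)
  have hker : LinearMap.ker φ = LinearMap.range ad := by
    refine le_antisymm (fun M hM => ?_) ?_
    · simp only [LinearMap.mem_ker, φ, LinearMap.coe_mk, AddHom.coe_mk, Prod.ext_iff, Prod.fst_zero,
        Prod.snd_zero, funext_iff, Pi.zero_apply] at hM
      obtain ⟨h1, h2, h3, h4⟩ := hM
      set A : Matrix (Fin (n + 1)) (Fin (n + 1)) O := (M : Matrix (Fin (n + 1)) (Fin (n + 1)) O) with hA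
      have h0 : psi n 0 (ext' A) = 0 := by
        have htr : A.trace = 0 := M.2
        rw [show A.trace = ∑ i : Fin (n + 1), ext' A i i by simp [Matrix.trace, ext'_val],
          Fin.sum_univ_eq_sum_range (fun i => ext' A i i), Finset.sum_range_succ, h4, add_zero] at htr
        simpa [psi] using htr
      have hk : ∀ k, k < n → psi n k (ext' A) = 0 := by
        rintro (_ | k) hk
        · exact h0
        · exact h1 ⟨k, by omega⟩
      let Y : Matrix (Fin (n + 1)) (Fin (n + 1)) O := Matrix.of fun i j =>
        if i.val < n then (if j.val < n then W (ext' A) i.val j.val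
          else if i.val = 0 then 0 else ext' A (i.val - 1) n)
        else if j.val + 1 < n then -ext' A n (j.val + 1) else 0
      have hY : ∀ i j : ℕ, i ≤ n → j ≤ n → ext' Y i j =
          if i < n then (if j < n then W (ext' A) i j else if i = 0 then 0 else ext' A (i - 1) n)
          else if j + 1 < n then -ext' A n (j + 1) else 0 := fun i j hi hj => by
        rw [ext', dif_pos ⟨by omega, by omega⟩]; rfl
      have hYA : (x : Matrix (Fin (n + 1)) (Fin (n + 1)) O) * Y - Y * (x : Matrix (Fin (n + 1)) (Fin (n + 1)) O) = A := by
        ext i j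
        rw [hbr Y i j, ← ext'_val A i j]
        have hi := i.2
        have hj := j.2
        generalize i.val = a at hi
        generalize j.val = c at hj
        rw [br]
        rcases lt_or_ge (a + 1) n with ha | ha
        · rw [if_pos ha, hY _ _ (by omega) (by omega), if_pos ha]
          rcases lt_or_ge c n with hc | hc
          · rw [if_pos hc]
            show (ext' A a c + if c = 0 then 0 else W (ext' A) a (c - 1)) - _ = _
            rcases Nat.eq_zero_or_pos c with h | h
            · rw [if_pos h, if_neg (by omega), add_zero, sub_zero]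
            · rw [if_neg (by omega), if_pos ⟨h, hc⟩, hY _ _ (by omega) (by omega), if_pos (show a < n by omega),
                if_pos (show c - 1 < n by omega), add_sub_cancel_right]
          · rw [if_neg (by omega), if_neg (by omega), if_neg (by omega), Nat.add_sub_cancel, sub_zero,
              show c = n by omega]
        · rw [if_neg (by omega), zero_sub]
          rcases lt_or_ge a n with ha' | ha'
          · have hae : a = n - 1 := by omega
            rcases lt_or_ge c n with hc | hc
            · have hd := hk (n - 1 - c) (by omega)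
              rw [psi, show n - (n - 1 - c) = c + 1 by omega, ← W_diag,
                show n - 1 - c + c + 1 = a + 1 by omega] at hd
              change ext' A a c + (if c = 0 then 0 else W (ext' A) a (c - 1)) = 0 at hd
              rcases Nat.eq_zero_or_pos c with h | h
              · rw [if_pos h, add_zero] at hd
                rw [if_neg (by omega), neg_zero, hd]
              · rw [if_neg (show c ≠ 0 by omega)] at hd
                rw [if_pos ⟨h, hc⟩, hY _ _ (by omega) (by omega), if_pos ha', if_pos (show c - 1 < n by omega)]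
                exact (eq_neg_of_add_eq_zero_left hd).symm
            · rw [if_neg (by omega), neg_zero, hae, show c = n by omega, h3]
          · have hae : a = n := by omega
            subst hae
            by_cases hc : 1 ≤ c ∧ c < a
            · rw [if_pos hc, hY _ _ le_rfl (by omega), if_neg (by omega), if_pos (by omega), neg_neg,
                Nat.sub_add_cancel hc.1]
            · rw [if_neg hc, neg_zero]
              rcases Nat.eq_zero_or_pos c with h | h
              · rw [h, h2]
              · rw [show c = a by omega, h4]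
      obtain ⟨u, hu⟩ := hunit
      let Y₀ : Matrix (Fin (n + 1)) (Fin (n + 1)) O := Y - ((↑u⁻¹ : O) * Y.trace) • 1
      have htr : Y₀.trace = 0 := by
        rw [Matrix.trace_sub, Matrix.trace_smul, Matrix.trace_one, Fintype.card_fin, smul_eq_mul, ← hu,
          mul_comm _ (u : O), Units.mul_inv_cancel_left, sub_self]
      refine ⟨⟨Y₀, htr⟩, Subtype.ext ?_⟩
      show (x : Matrix (Fin (n + 1)) (Fin (n + 1)) O) * Y₀ - Y₀ * (x : Matrix (Fin (n + 1)) (Fin (n + 1)) O) = A
      simp only [Y₀, mul_sub, sub_mul, Matrix.mul_smul, Matrix.smul_mul, Matrix.mul_one, Matrix.one_mul]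
      rw [← hYA]; abel
    · rintro _ ⟨Y, rfl⟩
      set B : Matrix (Fin (n + 1)) (Fin (n + 1)) O := (Y : Matrix (Fin (n + 1)) (Fin (n + 1)) O)
      have hco : ((ad Y : LieAlgebra.SpecialLinear.sl (Fin (n + 1)) O) : Matrix (Fin (n + 1)) (Fin (n + 1)) O) =
          (x : Matrix (Fin (n + 1)) (Fin (n + 1)) O) * B - B * (x : Matrix (Fin (n + 1)) (Fin (n + 1)) O) := rfl
      rw [LinearMap.mem_ker]
      refine Prod.ext (funext fun t => ?_) (Prod.ext ?_ (Prod.ext ?_ ?_))
      · show psi n (t.val + 1) (ext' _) = 0
        rw [hco, ← psi_br n (t.val + 1) (ext' B)]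
        refine Finset.sum_congr rfl fun s hs => ?_
        rw [Finset.mem_range] at hs
        exact hbr' B _ _ (by omega) (by omega)
      · show ext' _ n 0 = 0
        rw [hco, hbr' B _ _ le_rfl (by omega), br, if_neg (by omega), if_neg (by omega), sub_zero]
      · show ext' _ (n - 1) n = 0
        rw [hco, hbr' B _ _ (by omega) le_rfl, br, if_neg (by omega), if_neg (by omega), sub_zero]
      · show ext' _ n n = 0
        rw [hco, hbr' B _ _ le_rfl le_rfl, br, if_neg (by omega), if_neg (by omega), sub_zero]
  let e := (Submodule.quotEquivOfEq _ _ hker.symm).trans (φ.quotKerEquivOfSurjective hsurj)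
  refine ⟨Module.Free.of_equiv e.symm, ?_⟩
  rw [e.finrank_eq, Module.finrank_prod, Module.finrank_prod, Module.finrank_prod, Module.finrank_fin_fun,
    Module.finrank_self]
  omega

end Groth.Agent.S16051
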