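import Groth.Statements.S16052
import Groth.Agent.TameRam.Basic
import Mathlib
-- import your own Groth.Agent.* helpers here

set_option autoImplicit false
universe u
open Polynomial
open CAlg

namespace Groth.Agent.S16052

theorem combine {G : Type*} [CommGroup G] (γ δ π : G) (A B : ℕ) (hA : γ ^ A = π) (hB : δ ^ B = π) :
    ∃ ε : G, ε ^ Nat.lcm A B = π := by
  set g := Nat.gcd A B with hg
  rcases Nat.eq_zero_or_pos g with h0 | h0
  · obtain ⟨rfl, rfl⟩ := Nat.gcd_eq_zero_iff.1 h0
    exact ⟨1, by rw [← hA]; simp⟩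
  refine ⟨γ ^ (Nat.gcdB A B) * δ ^ (Nat.gcdA A B), ?_⟩
  obtain ⟨a', ha'⟩ := Nat.gcd_dvd_left A B
  obtain ⟨b', hb'⟩ := Nat.gcd_dvd_right A B
  rw [← hg] at ha' hb'
  have h1 : Nat.lcm A B = A * b' := by
    rw [Nat.lcm, ← hg]
    conv_lhs => rw [hb', ← mul_assoc, mul_comm A g, mul_assoc]
    exact Nat.mul_div_cancel_left _ h0
  have h2 : Nat.lcm A B = B * a' := by
    rw [h1]
    conv_lhs => rw [ha']
    conv_rhs => rw [hb']
    ring
  have hbez : (g : ℤ) = A * Nat.gcdA A B + B * Nat.gcdB A B := Nat.gcd_eq_gcd_ab A B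
  have h3 : (b' : ℤ) * Nat.gcdB A B + a' * Nat.gcdA A B = 1 := by
    refine mul_left_cancel₀ (by exact_mod_cast h0.ne' : (g : ℤ) ≠ 0) ?_
    rw [mul_add, mul_one, ← mul_assoc, ← mul_assoc]
    have ha'' : (g : ℤ) * a' = A := by exact_mod_cast ha'.symm
    have hb'' : (g : ℤ) * b' = B := by exact_mod_cast hb'.symm
    rw [ha'', hb'']
    linarith
  rw [mul_pow]
  have e1 : (γ ^ Nat.gcdB A B) ^ Nat.lcm A B = π ^ ((b' : ℤ) * Nat.gcdB A B) := by
    rw [← hA, h1, ← zpow_natCast, ← zpow_natCast γ A, ← zpow_mul, ← zpow_mul]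
    congr 1
    push_cast
    ring
  have e2 : (δ ^ Nat.gcdA A B) ^ Nat.lcm A B = π ^ ((a' : ℤ) * Nat.gcdA A B) := by
    rw [← hB, h2, ← zpow_natCast, ← zpow_natCast δ B, ← zpow_mul, ← zpow_mul]
    congr 1
    push_cast
    ring
  rw [e1, e2, ← zpow_add, h3, zpow_one]

/-- Let O be a henselian discrete valuation ring of characteristic zero with algebraically closed
residue field of characteristic p, ϖ a uniformizer and K the fraction field. Let r_1, …, r_m ≥ 1 and
b_1, …, b_m ≥ 1 be integers with gcd(r_i, b_i) = 1 for each i and r_1 + ⋯ + r_m < p, and let v_1, …,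
v_m be units of O. Then the splitting field over K of the polynomial ∏_i (y^{r_i} − v_i ϖ^{b_i}) has
degree lcm(r_1, …, r_m) over K. (In the source O is complete and this polynomial is the y-part of a
deformation y ↦ x² + z² + f(y) of an A_n-singularity with n + 1 = Σ r_i; the proposition goes on to
identify the monodromy element, which is not stated here.) -/
theorem result (O : Type u) [CommRing O] [IsDomain O]
    [IsDiscreteValuationRing O] [HenselianLocalRing O] [CharZero O] [IsAlgClosed (IsLocalRing.ResidueField O)]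
    (p : ℕ) [Fact p.Prime] [CharP (IsLocalRing.ResidueField O) p]
    (ϖ : O) (hϖ : Irreducible ϖ) (m : ℕ) (r b : Fin m → ℕ) (v : Fin m → Oˣ)
    (hr : ∀ i, 1 ≤ r i) (hb : ∀ i, 1 ≤ b i) (hrb : ∀ i, Nat.Coprime (r i) (b i)) (hp : ∑ i, r i < p) :
    Module.finrank (FractionRing O)
        (∏ i, (X ^ (r i) - C (algebraMap O (FractionRing O) ((v i : O) * ϖ ^ (b i))))).SplittingField =
      Finset.univ.lcm r := by
  classical
  let K := FractionRing O
  set N := Finset.univ.lcm r with hN
  have hN0 : N ≠ 0 := fun h => by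
    obtain ⟨i, -, hi⟩ := Finset.lcm_eq_zero_iff.1 h
    exact absurd hi (by have := hr i; omega)
  have hunit : ∀ n : ℕ, ¬ p ∣ n → IsUnit (n : O) := fun n hn => by
    by_contra h
    refine hn ((CharP.cast_eq_zero_iff (IsLocalRing.ResidueField O) p n).1 ?_)
    rw [← map_natCast (IsLocalRing.residue O), IsLocalRing.residue_eq_zero_iff]; exact h
  have hpi : ∀ i, ¬ p ∣ r i := fun i h => by
    have := Nat.le_of_dvd (by have := hr i; omega) h
    have := Finset.single_le_sum (f := r) (fun j _ => Nat.zero_le _) (Finset.mem_univ i)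
    omega
  have hN' : IsUnit (N : O) := by
    refine hunit N fun h => ?_
    have h2 : N ∣ ∏ i, r i := Finset.lcm_dvd fun i hi => Finset.dvd_prod_of_mem r hi
    obtain ⟨i, -, hi⟩ := (Nat.Prime.prime (Fact.out : p.Prime)).exists_mem_finset_dvd (h.trans h2)
    exact hpi i hi
  set c : Fin m → K := fun i => algebraMap O K ((v i : O) * ϖ ^ (b i)) with hc
  let P : Polynomial K := ∏ i, (Polynomial.X ^ r i - Polynomial.C (c i))
  show Module.finrank K P.SplittingField = N
  let L := P.SplittingField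
  have hP0 : P ≠ 0 := Finset.prod_ne_zero_iff.2 fun i _ => Polynomial.X_pow_sub_C_ne_zero (by have := hr i; omega) _
  have hsp : (P.map (algebraMap K L)).Splits := Polynomial.SplittingField.splits P
  let π : L := algebraMap K L (algebraMap O K ϖ)
  have hπ0 : π ≠ 0 := fun h => hϖ.ne_zero (IsFractionRing.injective O K ((algebraMap K L).injective (by
    show π = _; rw [h, map_zero, map_zero])))
  choose w hw using fun i => TameRam.exists_root_unit (r i) (by have := hr i; omega) (hunit _ (hpi i)) (v i : O) (v i).isUnit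
  let W : Fin m → L := fun i => algebraMap K L (algebraMap O K (w i))
  have hW0 : ∀ i, W i ≠ 0 := fun i h => (v i).ne_zero (by
    rw [← hw i, show w i = 0 from IsFractionRing.injective O K ((algebraMap K L).injective (by
      show W i = _; rw [h, map_zero, map_zero])), zero_pow (by have := hr i; omega)])
  have hcL : ∀ i, algebraMap K L (c i) = W i ^ r i * π ^ b i := fun i => by
    simp [hc, W, π, ← hw i]
  have hroot : ∀ i, ∃ γ : Lˣ, (γ : L) ^ r i = π := by
    intro i
    have hd : ((Polynomial.X ^ r i - Polynomial.C (c i)).map (algebraMap K L)).Splits :=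
      hsp.of_dvd (Polynomial.map_ne_zero hP0) (Polynomial.map_dvd _ (Finset.dvd_prod_of_mem _ (Finset.mem_univ i)))
    obtain ⟨y, hy⟩ := hd.exists_eval_eq_zero (by
      rw [Polynomial.degree_map, Polynomial.degree_X_pow_sub_C (by have := hr i; omega)]
      exact_mod_cast (by have := hr i; omega : r i ≠ 0))
    simp only [Polynomial.map_sub, Polynomial.map_pow, Polynomial.map_X, Polynomial.map_C, Polynomial.eval_sub,
      Polynomial.eval_pow, Polynomial.eval_X, Polynomial.eval_C, sub_eq_zero, hcL] at hy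
    have hz : (y / W i) ^ r i = π ^ b i := by
      rw [div_pow, hy, mul_div_cancel_left₀ _ (pow_ne_zero _ (hW0 i))]
    have hz0 : y / W i ≠ 0 := fun h => pow_ne_zero (b i) hπ0 (by rw [← hz, h, zero_pow (by have := hr i; omega)])
    let z : Lˣ := Units.mk0 _ hz0
    let πu : Lˣ := Units.mk0 π hπ0
    refine ⟨z ^ (Nat.gcdB (r i) (b i)) * πu ^ (Nat.gcdA (r i) (b i)), ?_⟩
    have hbez : (1 : ℤ) = r i * Nat.gcdA (r i) (b i) + b i * Nat.gcdB (r i) (b i) := by
      rw [← Nat.gcd_eq_gcd_ab, (hrb i).gcd_eq_one]; rfl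
    have hzu : z ^ r i = πu ^ b i := Units.ext (by simpa [z, πu] using hz)
    have : (z ^ (Nat.gcdB (r i) (b i)) * πu ^ (Nat.gcdA (r i) (b i))) ^ r i = πu := by
      rw [mul_pow, ← zpow_natCast, ← zpow_mul, mul_comm _ (r i : ℤ), zpow_mul, zpow_natCast, hzu, ← zpow_natCast,
        ← zpow_mul, ← zpow_natCast, ← zpow_mul, ← zpow_add,
        show (b i : ℤ) * Nat.gcdB (r i) (b i) + Nat.gcdA (r i) (b i) * r i = 1 by linarith, zpow_one]
    rw [← Units.val_pow_eq_pow_val, this]
    rfl
  have hβex : ∀ s : Finset (Fin m), ∃ γ : Lˣ, (γ : L) ^ s.lcm r = π := by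
    intro s
    induction s using Finset.induction_on with
    | empty => exact ⟨Units.mk0 π hπ0, by simp⟩
    | insert i s hi ih =>
      obtain ⟨γ, hγ⟩ := hroot i
      obtain ⟨δ, hδ⟩ := ih
      obtain ⟨ε, hε⟩ := combine γ δ (Units.mk0 π hπ0) (r i) (s.lcm r) (Units.ext (by simpa using hγ)) (Units.ext (by simpa using hδ))
      refine ⟨ε, ?_⟩
      rw [Finset.lcm_insert, ← Units.val_pow_eq_pow_val]
      exact congrArg Units.val hε
  obtain ⟨β, hβ⟩ := hβex Finset.univ
  obtain ⟨hG1, -, -⟩ := TameRam.finrank_and_normal_adjoin K ϖ hϖ N hN0 hN' (β : L) hβ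
  suffices htop : IntermediateField.adjoin K {(β : L)} = ⊤ by
    rw [← hG1, htop, IntermediateField.finrank_top']
  rw [eq_top_iff, ← ((isSplittingField_iff_intermediateField (p := P) (K := K) (L := L)).1 inferInstance).2]
  refine IntermediateField.adjoin_le_iff.2 fun y hy => ?_
  rw [Polynomial.mem_rootSet_of_ne hP0, map_prod, Finset.prod_eq_zero_iff] at hy
  obtain ⟨i, -, hy⟩ := hy
  simp only [map_sub, map_pow, Polynomial.aeval_X, Polynomial.aeval_C, sub_eq_zero, hcL] at hy
  obtain ⟨k, hk⟩ : r i ∣ N := Finset.dvd_lcm (Finset.mem_univ i)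
  obtain ⟨ζ, hζ⟩ := TameRam.primitiveRoots_nonempty K (r i) (by have := hr i; omega) (hunit _ (hpi i))
  have hζ' : IsPrimitiveRoot ζ (r i) := (mem_primitiveRoots (hr i)).1 hζ
  set q := W i * ((β : L) ^ k) ^ b i with hq
  have hq0 : q ≠ 0 := mul_ne_zero (hW0 i) (pow_ne_zero _ (pow_ne_zero _ β.ne_zero))
  haveI : NeZero (r i) := ⟨by have := hr i; omega⟩
  obtain ⟨j, -, hj⟩ := (hζ'.map_of_injective (algebraMap K L).injective).eq_pow_of_pow_eq_one
    (ξ := y / q) (by
      rw [div_pow, div_eq_one_iff_eq (pow_ne_zero _ hq0), hy, hq, mul_pow, ← pow_mul, ← pow_mul]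
      congr 1
      rw [← hβ, ← pow_mul, show Finset.univ.lcm r = N from rfl, hk]
      congr 1
      ring)
  rw [SetLike.mem_coe, show y = algebraMap K L ζ ^ j * q by rw [hj, div_mul_cancel₀ _ hq0]]
  exact mul_mem (pow_mem (IntermediateField.algebraMap_mem _ ζ) j)
    (mul_mem (IntermediateField.algebraMap_mem _ _) (pow_mem (pow_mem (IntermediateField.mem_adjoin_simple_self K _) k) _))

end Groth.Agent.S16052
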