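import Groth.Statements.S16053
import Groth.Agent.TameRam.Basic
import Groth.Agent.S0505
import Groth.Agent.ChevAffine.Semilocal
import Mathlib
-- import your own Groth.Agent.* helpers here

set_option autoImplicit false
universe u
open Polynomial
open CAlg

namespace Groth.Agent.S16053

/-- Let O be a henselian discrete valuation ring of characteristic zero with algebraically closed
residue field of characteristic p and fraction field K, and let f ∈ O[y] be a monic polynomial of
degree e with 1 ≤ e < p which is Eisenstein at the maximal ideal of O. Then the splitting field of f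
over K has degree e over K and the Galois group of f over K is cyclic. (In the source O is complete,
e = n + 1 and f is the y-part y^{n+1} + u_n ϖ^{a_n} y^{n−1} + ⋯ + u_1 ϖ of an A_n-degeneration
meeting the discriminant transversally; the corollary's conclusion that monodromy acts through a
Coxeter element is not stated here.) -/
theorem result (O : Type u) [CommRing O] [IsDomain O]
    [IsDiscreteValuationRing O] [HenselianLocalRing O] [CharZero O] [IsAlgClosed (IsLocalRing.ResidueField O)]
    (p : ℕ) [Fact p.Prime] [CharP (IsLocalRing.ResidueField O) p]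
    (f : O[X]) (hmon : f.Monic) (e : ℕ) (hdeg : f.natDegree = e) (he : 1 ≤ e) (hep : e < p)
    (hf : f.IsEisensteinAt (IsLocalRing.maximalIdeal O)) :
    Module.finrank (FractionRing O) (f.map (algebraMap O (FractionRing O))).SplittingField = e ∧
      IsCyclic (f.map (algebraMap O (FractionRing O))).Gal := by
  classical
  obtain ⟨ϖ, hϖ⟩ := IsDiscreteValuationRing.exists_irreducible O
  let K := FractionRing O
  have he0 : e ≠ 0 := by omega
  have he' : IsUnit (e : O) := by
    by_contra h
    have h2 : (e : IsLocalRing.ResidueField O) = 0 := by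
      rw [← map_natCast (IsLocalRing.residue O), IsLocalRing.residue_eq_zero_iff]; exact h
    exact absurd (Nat.le_of_dvd (by omega) ((CharP.cast_eq_zero_iff _ p e).1 h2)) (by omega)
  have hirr : Irreducible (f.map (algebraMap O K)) :=
    TameRam.irreducible_map_of_isEisensteinAt K f hmon (by omega) hf
  have hfirr : Irreducible f := (hmon.isPrimitive.irreducible_iff_irreducible_map_fraction_map).2 hirr
  haveI : IsDomain (AdjoinRoot f) := AdjoinRoot.isDomain_of_prime hfirr.prime
  haveI : Module.Finite O (AdjoinRoot f) := hmon.finite_adjoinRoot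
  haveI : IsLocalRing (AdjoinRoot f) := ChevAffine.isLocalRing_of_henselian_of_isIntegral O (AdjoinRoot f)
  haveI : HenselianLocalRing (AdjoinRoot f) := S0505.result O (AdjoinRoot f)
  haveI : IsLocalHom (algebraMap O (AdjoinRoot f)) := RingHom.IsIntegral.isLocalHom
    (Algebra.IsIntegral.isIntegral (R := O) (A := AdjoinRoot f))
    (AdjoinRoot.of.injective_of_degree_ne_zero (by rw [Polynomial.degree_eq_natDegree hmon.ne_zero]; exact_mod_cast (by omega : f.natDegree ≠ 0)))
  let S := AdjoinRoot f
  let r : S := AdjoinRoot.root f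
  have hb : ∀ i : Fin e, ∃ b : O, f.coeff i = ϖ * b := fun i => by
    have := hf.mem (n := i) (by rw [hdeg]; exact i.2)
    rw [hϖ.maximalIdeal_eq, Ideal.mem_span_singleton] at this
    exact this
  choose b hb using hb
  have hsum : r ^ e = algebraMap O S ϖ * -(∑ i : Fin e, algebraMap O S (b i) * r ^ (i : ℕ)) := by
    have h0 : Polynomial.aeval r f = 0 := AdjoinRoot.aeval_eq f ▸ AdjoinRoot.mk_self
    rw [Polynomial.aeval_eq_sum_range, hdeg, Finset.sum_range_succ] at h0
    rw [show f.coeff e = 1 from hdeg ▸ hmon.coeff_natDegree, one_smul] at h0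
    rw [eq_neg_of_add_eq_zero_right h0, mul_neg, Finset.mul_sum, ← Fin.sum_univ_eq_sum_range]
    congr 1
    exact Finset.sum_congr rfl fun i _ => by rw [hb i, Algebra.smul_def, map_mul, mul_assoc]
  have hrm : r ∈ IsLocalRing.maximalIdeal S := by
    refine (IsLocalRing.maximalIdeal.isMaximal S).isPrime.mem_of_pow_mem e ?_
    rw [hsum]
    exact Ideal.mul_mem_right _ _ (fun h => hϖ.1 ((isUnit_map_iff _ ϖ).1 h))
  set j0 : Fin e := ⟨0, by omega⟩
  have hb0 : IsUnit (b j0) := by
    by_contra h
    have hmem : b j0 ∈ IsLocalRing.maximalIdeal O := h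
    refine hf.notMem ?_
    rw [show f.coeff 0 = ϖ * b j0 from hb j0, pow_two]
    exact Ideal.mul_mem_mul hϖ.1 hmem
  have hrest : ∑ i ∈ Finset.univ.erase j0, algebraMap O S (b i) * r ^ (i : ℕ) ∈ IsLocalRing.maximalIdeal S :=
    Ideal.sum_mem _ fun i hi => Ideal.mul_mem_left _ _ (Ideal.pow_mem_of_mem _ hrm _ (Nat.pos_of_ne_zero fun h =>
      (Finset.mem_erase.1 hi).1 (Fin.ext h)))
  set u : S := -(∑ i : Fin e, algebraMap O S (b i) * r ^ (i : ℕ)) with hu
  obtain ⟨w, hw⟩ := TameRam.exists_root_unit e he0 he' (-b j0) hb0.neg
  have hwu : (algebraMap O S w) ^ e - u ∈ IsLocalRing.maximalIdeal S := by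
    rw [← map_pow, hw, hu, ← Finset.add_sum_erase _ _ (Finset.mem_univ j0), map_neg, pow_zero, mul_one]
    rw [show -algebraMap O S (b j0) - -(algebraMap O S (b j0) + ∑ i ∈ Finset.univ.erase j0, algebraMap O S (b i) * r ^ (i : ℕ)) = ∑ i ∈ Finset.univ.erase j0, algebraMap O S (b i) * r ^ (i : ℕ) by ring]
    exact hrest
  have huu : IsUnit u := by
    by_contra h
    have h' : u ∈ IsLocalRing.maximalIdeal S := h
    have h2 := add_mem hwu h'
    rw [sub_add_cancel, ← map_pow, hw] at h2
    exact h2 (hb0.neg.map _)
  obtain ⟨v, hv, -⟩ := TameRam.exists_root_near e he0 (by rw [← map_natCast (algebraMap O S)]; exact he'.map _) u _ huu hwu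
  have hv0 : IsUnit v := (isUnit_pow_iff he0).1 (hv ▸ huu)
  -- inside the splitting field
  let L := (f.map (algebraMap O K)).SplittingField
  have hsplit : ((f.map (algebraMap O K)).map (algebraMap K L)).Splits := Polynomial.SplittingField.splits _
  obtain ⟨α, hα⟩ := hsplit.exists_eval_eq_zero (by
    rw [Polynomial.degree_map, hmon.degree_map, Polynomial.degree_eq_natDegree hmon.ne_zero]
    exact_mod_cast (by omega : f.natDegree ≠ 0))
  have hα' : Polynomial.aeval α (f.map (algebraMap O K)) = 0 := by
    rwa [Polynomial.aeval_def, ← Polynomial.eval_map]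
  let ψ : S →+* L := AdjoinRoot.lift ((algebraMap K L).comp (algebraMap O K)) α (by
    rw [← Polynomial.eval₂_map, ← Polynomial.aeval_def]; exact hα')
  have hψr : ψ r = α := AdjoinRoot.lift_root _
  have hψC : ∀ c, ψ (algebraMap O S c) = algebraMap K L (algebraMap O K c) := fun c => AdjoinRoot.lift_of _
  let F := IntermediateField.adjoin K {α}
  have hψF : ∀ z, ψ z ∈ F := by
    intro z
    induction z using AdjoinRoot.induction_on with
    | ih q =>
      induction q using Polynomial.induction_on with
      | C c => rw [AdjoinRoot.mk_C]; exact (hψC c).symm ▸ F.algebraMap_mem _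
      | add a b ha hb => rw [map_add, map_add]; exact add_mem ha hb
      | monomial n c ih =>
        rw [pow_succ, ← mul_assoc, map_mul, map_mul, AdjoinRoot.mk_X, hψr]
        exact mul_mem ih (IntermediateField.mem_adjoin_simple_self K α)
  let β := α / ψ v
  have hβ : β ^ e = algebraMap K L (algebraMap O K ϖ) := by
    rw [div_pow, ← map_pow, hv, div_eq_iff (huu.map ψ).ne_zero, ← hψC, ← map_mul, ← hψr, ← map_pow, hsum]
  obtain ⟨hG1, hG2, hG3⟩ := TameRam.finrank_and_normal_adjoin K ϖ hϖ e he0 he' β hβ
  have hint : IsIntegral K α := ⟨_, hmon.map _, by rwa [← Polynomial.aeval_def]⟩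
  have hmin : minpoly K α = f.map (algebraMap O K) :=
    (minpoly.eq_of_irreducible_of_monic hirr hα' (hmon.map _)).symm
  have hF : Module.finrank K F = e := by
    rw [IntermediateField.adjoin.finrank hint, hmin, hmon.natDegree_map, hdeg]
  have hFG : IntermediateField.adjoin K {β} = F :=
    IntermediateField.eq_of_le_of_finrank_eq
      (IntermediateField.adjoin_simple_le_iff.2 (div_mem (IntermediateField.mem_adjoin_simple_self K α) (hψF v)))
      (hG1.trans hF.symm)
  have htop : IntermediateField.adjoin K {β} = ⊤ := by
    rw [eq_top_iff, ← ((isSplittingField_iff_intermediateField (p := f.map (algebraMap O K)) (K := K) (L := L)).1 inferInstance).2]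
    refine IntermediateField.adjoin_le_iff.2 fun y hy => ?_
    haveI := hG3
    let α' : IntermediateField.adjoin K {β} := ⟨α, hFG ▸ IntermediateField.mem_adjoin_simple_self K α⟩
    have hs := hG3.splits α'
    have hm' : minpoly K α' = f.map (algebraMap O K) :=
      (minpoly.algebraMap_eq (IntermediateField.adjoin K {β}).val.injective α').symm.trans hmin
    rw [hm'] at hs
    rw [Polynomial.mem_rootSet_of_ne (hmon.map _).ne_zero] at hy
    have hr := hs.roots_map (IntermediateField.adjoin K {β}).val.toRingHom
    rw [Polynomial.map_map, show (IntermediateField.adjoin K {β}).val.toRingHom.comp (algebraMap K (IntermediateField.adjoin K {β})) = algebraMap K L from rfl] at hr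
    have : y ∈ ((f.map (algebraMap O K)).map (algebraMap K L)).roots :=
      (Polynomial.mem_roots (((hmon.map _).map _).ne_zero)).2 (by rw [Polynomial.IsRoot, Polynomial.eval_map, ← Polynomial.aeval_def]; exact hy)
    rw [hr, Multiset.mem_map] at this
    obtain ⟨z, -, rfl⟩ := this
    exact z.2
  subst hdeg
  have e1 : IntermediateField.adjoin K {β} ≃ₐ[K] L := (IntermediateField.equivOfEq htop).trans IntermediateField.topEquiv
  exact ⟨e1.toLinearEquiv.finrank_eq.symm.trans hG1, isCyclic_of_surjective e1.autCongr.toMonoidHom e1.autCongr.surjective⟩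

end Groth.Agent.S16053
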