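import Groth.Statements.S18366
import Groth.Agent.SmoothDense.SepPoint
-- import your own Groth.Agent.* helpers here

set_option autoImplicit false
universe u
open CategoryTheory CategoryTheory.Limits AlgebraicGeometry
open Variety

namespace Groth.Agent.S18366

/-- Let k be a separably closed field and X a non-empty k-scheme of finite type which is geometrically
reduced. Then X has a k-rational point, i.e. the structure morphism admits a section. (Non-emptiness
is part of the hypotheses: the empty scheme is geometrically reduced of finite type and has no
point. The published statement does not assume X non-empty; this row does, since the empty scheme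
has no rational point.) -/
theorem result (k : Type u) [Field k] [IsSepClosed k]
    {X : Scheme.{u}} (f : X ⟶ Spec (CommRingCat.of k)) [LocallyOfFiniteType f] [QuasiCompact f] [GeometricallyReduced f]
    [Nonempty X] :
    ∃ s : Spec (CommRingCat.of k) ⟶ X, s ≫ f = 𝟙 (Spec (CommRingCat.of k)) := by
  have hd := SmoothDense.dense_smoothLocus_of_geometricallyReduced f
  have := SmoothDense.smooth_opens_ι_comp f (U := f.smoothLocus) le_rfl
  obtain ⟨y, hy⟩ := hd.nonempty
  obtain ⟨w, -, -, φ, hφ, hfd, hsep⟩ :=
    SmoothDense.exists_separable_closedPoint (f.smoothLocus.ι ≫ f) isOpen_univ ⟨⟨y, hy⟩, trivial⟩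
  let _ : Algebra k ((f.smoothLocus : Scheme.{u}).residueField w) := φ.toAlgebra
  have := hfd
  have := hsep
  let e : k ≃+* (f.smoothLocus : Scheme.{u}).residueField w :=
    RingEquiv.ofBijective φ ⟨φ.injective, IsSepClosed.algebraMap_surjective k _⟩
  refine ⟨Spec.map (CommRingCat.ofHom e.symm.toRingHom) ≫ (f.smoothLocus : Scheme.{u}).fromSpecResidueField w ≫ f.smoothLocus.ι, ?_⟩
  rw [Category.assoc, Category.assoc, ← hφ, ← Spec.map_comp, ← CommRingCat.ofHom_comp]
  have : e.symm.toRingHom.comp φ = RingHom.id k := RingHom.ext fun a => e.symm_apply_apply a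
  rw [this, CommRingCat.ofHom_id, Spec.map_id]

end Groth.Agent.S18366
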