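import Groth.Statements.S1607
import Mathlib.RingTheory.KrullDimension.Basic
import Mathlib.AlgebraicGeometry.Morphisms.Affine

set_option autoImplicit false
universe u
open CategoryTheory CategoryTheory.Limits AlgebraicGeometry
open Variety

namespace Groth.Agent.S1607

theorem mem_radical_span {A : Type u} [CommRing A] [Ring.KrullDimLE 1 A] [IsNoetherianRing A]
    [IsLocalRing A] (I : Ideal A) (hI : I ≤ IsLocalRing.maximalIdeal A) :
    ∃ g ∈ I, I ≤ (Ideal.span {g}).radical := by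
  classical
  let S : Finset (Ideal A) := (minimalPrimes.finite_of_isNoetherianRing A).toFinset.filter fun q ↦ ¬ I ≤ q
  have : ¬ ((I : Set A) ⊆ ⋃ q ∈ (↑S : Set (Ideal A)), (q : Set A)) := by
    intro h
    obtain ⟨q, hq, hIq⟩ := (Ideal.subset_union_prime (f := fun q : Ideal A ↦ q) ⊥ ⊥ (fun q hq _ _ ↦ by
      simp only [S, Finset.mem_filter, Set.Finite.mem_toFinset] at hq
      exact Ideal.minimalPrimes_isPrime hq.1)).mp h
    simp [S] at hq
    exact hq.2 hIq
  obtain ⟨g, hg, hgS⟩ := Set.not_subset.mp this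
  refine ⟨g, hg, ?_⟩
  rw [Ideal.radical_eq_sInf]
  refine le_sInf fun q ⟨hgq, hq⟩ ↦ ?_
  haveI := hq
  rcases Ring.krullDimLE_one_iff.mp ‹_› q hq with h | h
  · by_contra hIq
    exact hgS (Set.mem_biUnion (x := q) (by simp [S, hIq]; exact h) (hgq (Ideal.mem_span_singleton_self g)))
  · exact (IsLocalRing.eq_maximalIdeal h) ▸ hI

theorem exists_local_basicOpen (X : Scheme.{u}) [IsAffine X] (x : X)
    (hx : IsNoetherianRing (X.presheaf.stalk x) ∧ ringKrullDim (X.presheaf.stalk x) ≤ 1)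
    (U : X.Opens) (t : Finset Γ(X, ⊤)) (hU : (U : Set X) = ⋃ i ∈ t, (X.basicOpen i : Set X)) :
    ∃ s g : Γ(X, ⊤), x ∈ X.basicOpen s ∧ U ⊓ X.basicOpen s = X.basicOpen (s * g) := by
  classical
  have hmem : ∀ y : X, y ∈ U ↔ ∃ i ∈ t, y ∈ X.basicOpen i := fun y ↦ by
    rw [← SetLike.mem_coe, hU]; simp
  let A := X.presheaf.stalk x
  let φ := (X.presheaf.germ ⊤ x trivial).hom
  letI : Algebra Γ(X, ⊤) A := φ.toAlgebra
  haveI hloc := (isAffineOpen_top X).isLocalization_stalk ⟨x, trivial⟩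
  set P := ((isAffineOpen_top X).primeIdealOf ⟨x, trivial⟩).asIdeal
  haveI : IsLocalization.AtPrime A P := hloc
  by_cases h : x ∈ U
  · obtain ⟨i, hi, hxi⟩ := (hmem x).mp h
    refine ⟨i, 1, hxi, ?_⟩
    rw [mul_one, inf_eq_right]
    exact fun y hy ↦ (hmem y).mpr ⟨i, hi, hy⟩
  haveI := hx.1
  haveI : Ring.KrullDimLE 1 A := Ring.krullDimLE_iff.mpr hx.2
  have hI : (Ideal.span (t : Set Γ(X, ⊤))).map (algebraMap Γ(X, ⊤) A) ≤
      IsLocalRing.maximalIdeal A := by
    rw [Ideal.map_span, Ideal.span_le]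
    rintro _ ⟨i, hi, rfl⟩
    intro hu
    exact h ((hmem x).mpr ⟨i, hi, (X.mem_basicOpen i x trivial).mpr hu⟩)
  obtain ⟨g0, hg0, hle⟩ := mem_radical_span _ hI
  obtain ⟨⟨⟨g, hg⟩, t0⟩, hgt⟩ := (IsLocalization.mem_map_algebraMap_iff P.primeCompl A).mp hg0
  simp only at hgt
  have hspan : Ideal.span {g0} = (Ideal.span {g}).map (algebraMap Γ(X, ⊤) A) := by
    rw [Ideal.map_span, Set.image_singleton, ← hgt,
      Ideal.span_singleton_mul_right_unit (IsLocalization.map_units A t0)]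
  have key : ∀ i ∈ t, ∃ m : P.primeCompl, ∃ n : ℕ, ∃ r, (m : Γ(X, ⊤)) * i ^ n = r * g := by
    intro i hi
    obtain ⟨n, hn⟩ := hle (Ideal.mem_map_of_mem (algebraMap Γ(X, ⊤) A) (Ideal.subset_span hi))
    rw [hspan, ← map_pow] at hn
    obtain ⟨⟨⟨b, hb⟩, t1⟩, hbt⟩ := (IsLocalization.mem_map_algebraMap_iff P.primeCompl A).mp hn
    simp only at hbt
    rw [← map_mul, IsLocalization.eq_iff_exists P.primeCompl A] at hbt
    obtain ⟨t2, ht2⟩ := hbt
    obtain ⟨r, rfl⟩ := Ideal.mem_span_singleton'.mp hb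
    exact ⟨t2 * t1, n, t2 * r, by push_cast; linear_combination ht2⟩
  choose! m n r hr using key
  let s : P.primeCompl := ∏ i ∈ t, m i
  have hxs : x ∈ X.basicOpen (s : Γ(X, ⊤)) :=
    (X.mem_basicOpen (U := ⊤) _ x trivial).mpr (IsLocalization.map_units A s)
  refine ⟨s, g, hxs, ?_⟩
  rw [X.basicOpen_mul]
  apply le_antisymm
  · rintro y ⟨hy, hys⟩
    refine ⟨hys, ?_⟩
    obtain ⟨i, hi, hyi⟩ := (hmem y).mp hy
    have hu := (X.mem_basicOpen (U := ⊤) _ y trivial).mp hys
    have hi' := (X.mem_basicOpen (U := ⊤) _ y trivial).mp hyi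
    simp only [s, Submonoid.coe_finsetProd, map_prod, IsUnit.prod_iff] at hu
    have h2 : IsUnit ((X.presheaf.germ ⊤ y trivial).hom ((m i : Γ(X, ⊤)) * i ^ n i)) := by
      rw [map_mul, map_pow]
      exact (hu i hi).mul (hi'.pow _)
    rw [hr i hi, map_mul] at h2
    exact (X.mem_basicOpen (U := ⊤) _ y trivial).mpr (isUnit_of_mul_isUnit_right h2)
  · rintro y ⟨hys, hyg⟩
    refine ⟨(hmem y).mpr ?_, hys⟩
    by_contra hcon
    push Not at hcon
    have hy' := (X.mem_basicOpen (U := ⊤) _ y trivial).mp hyg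
    have : Ideal.span (t : Set Γ(X, ⊤)) ≤
        (IsLocalRing.maximalIdeal _).comap (X.presheaf.germ ⊤ y trivial).hom := by
      rw [Ideal.span_le]
      intro i hi hu
      exact hcon i hi ((X.mem_basicOpen (U := ⊤) _ y trivial).mpr hu)
    exact this hg hy'

/-- If X is affine and each of its local rings is Noetherian of dimension at most one, then every
quasi-compact open subscheme of X is affine. -/
theorem result (X : Scheme.{u}) [IsAffine X]
    (hX : ∀ x : X, IsNoetherianRing (X.presheaf.stalk x) ∧ ringKrullDim (X.presheaf.stalk x) ≤ 1)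
    (U : X.Opens) (hU : IsCompact (U : Set X)) : IsAffineOpen U := by
  classical
  obtain ⟨t, htf, ht⟩ := ((isBasis_basicOpen X).isCompact_open_iff_eq_finite_iUnion _
    (fun i ↦ ((isAffineOpen_top X).basicOpen i).isCompact) (U : Set X)).mp ⟨hU, U.2⟩
  choose s g hxs hsg using fun x ↦ exists_local_basicOpen X x (hX x) U htf.toFinset
    (by rw [ht]; simp)
  have hspan : Ideal.span (Set.range s) = ⊤ := by
    rw [← (isAffineOpen_top X).self_le_iSup_basicOpen_iff]
    intro x _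
    simp only [TopologicalSpace.Opens.mem_iSup]
    exact ⟨⟨s x, x, rfl⟩, hxs x⟩
  let res := (X.presheaf.map (homOfLE (le_top : U ≤ ⊤)).op).hom
  refine isAffineOpen_of_isAffineOpen_basicOpen U (Set.range (res ∘ s)) ?_ ?_
  · rw [Set.range_comp, ← Ideal.map_span, hspan, Ideal.map_top]
  · rintro _ ⟨x, rfl⟩
    rw [Function.comp_apply, Scheme.basicOpen_res, hsg x]
    exact (isAffineOpen_top X).basicOpen _

end Groth.Agent.S1607
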