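import Groth.Statements.S16071
import Groth.Agent.AlphaPExtra.Basic
import Mathlib.RingTheory.Bialgebra.Equiv
-- import your own Groth.Agent.* helpers here

set_option autoImplicit false
universe u
open CartDual

namespace Groth.Agent.S16071

/-- Let p be a prime, R a commutative ring of characteristic p and A = R[X]/(X^p) the Hopf algebra of
α_p over Spec R, with X primitive. Then the Cartier dual of α_p is again α_p: there is a bialgebra
isomorphism e from the dual Hopf algebra Hom_R(A, R), with the transposed structure maps, to A,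
whose inverse sends X to the linear form dual to X with respect to the basis 1, X, …, X^{p-1} of A
(so e⁻¹(X) takes the value 1 on X and 0 on the other powers X^i, i < p). (Any commutative base ring
of characteristic p is allowed.) -/
theorem result (p : ℕ) [Fact p.Prime] (R : Type u) [CommRing R] [CharP R p] :
    ∃ e : CartDual.D R (AlphaP.A p R) ≃ₐc[R] AlphaP.A p R,
      ∀ i : ℕ, i < p → (e.symm (AlphaP.x p R)) (AlphaP.x p R ^ i) = if i = 1 then 1 else 0 := by
  classical
  haveI := CharP.nontrivial_of_char_ne_one (R := R) (Fact.out : p.Prime).ne_one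
  set δ : CartDual.D R (AlphaP.A p R) := WithConv.toConv (AlphaPExtra.c1 p R) with hδdef
  have hmul : ∀ (ψ : CartDual.D R (AlphaP.A p R)) (i : ℕ), i < p →
      (δ * ψ) (AlphaP.x p R ^ i) = (i : R) * ψ (AlphaP.x p R ^ (i - 1)) := by
    intro ψ i hi
    refine Eq.trans ?_ (AlphaPExtra.c1_map_comul p R ψ.ofConv hi)
    rw [LinearMap.convMul_apply]
    generalize Coalgebra.comul (R := R) (AlphaP.x p R ^ i) = t
    induction t using TensorProduct.induction_on with
    | zero => simp
    | tmul a b => simp [δ]
    | add a b ha hb => simp only [map_add, ha, hb]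
  have hpow : ∀ m i : ℕ, i < p →
      (δ ^ m) (AlphaP.x p R ^ i) = if i = m then (m.factorial : R) else 0 := by
    intro m
    induction m with
    | zero =>
      intro i _
      rw [pow_zero]
      have : (1 : CartDual.D R (AlphaP.A p R)) (AlphaP.x p R ^ i) =
          Bialgebra.counitAlgHom R (AlphaP.A p R) (AlphaP.x p R ^ i) := by
        simp [LinearMap.convOne_def]
      rw [this, map_pow, Bialgebra.counitAlgHom_apply, AlphaP.counit_x, zero_pow_eq]
      simp
    | succ m ih =>
      intro i hi
      rw [pow_succ', hmul _ i hi, ih (i - 1) (by omega)]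
      rcases Nat.eq_zero_or_pos i with rfl | h0
      · simp
      · split_ifs with h h' h'
        · subst h'
          rw [Nat.factorial_succ, Nat.cast_mul]
        · omega
        · omega
        · simp
  have hδp : δ ^ p = 0 := by
    apply WithConv.ext
    refine AlphaPExtra.linearMap_ext p R fun i hi => ?_
    change (δ ^ p) (AlphaP.x p R ^ i) = _
    rw [hpow p i hi, if_neg hi.ne]
    rfl
  haveI : Coalgebra.IsCocomm R (AlphaP.A p R) := inferInstance
  let h : AlphaP.A p R →ₐ[R] CartDual.D R (AlphaP.A p R) := AlphaP.lift p R δ hδp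
  have hx : h (AlphaP.x p R) = δ := AlphaP.lift_x _ _
  have hcoef : ∀ (z : AlphaP.A p R) (j : Fin p),
      h z (AlphaP.x p R ^ (j : ℕ)) = (AlphaP.basis p R).repr z j * ((j : ℕ).factorial : R) := by
    intro z j
    conv_lhs => rw [← (AlphaP.basis p R).sum_repr z]
    simp only [map_sum, map_smul, AlphaP.basis_apply, map_pow, hx, WithConv.ofConv_sum,
      WithConv.ofConv_smul, LinearMap.sum_apply, LinearMap.smul_apply, smul_eq_mul]
    rw [Finset.sum_eq_single j]
    · rw [hpow _ _ j.2, if_pos rfl]
    · intro l _ hl
      rw [hpow _ _ j.2, if_neg (fun h => hl (Fin.ext h.symm)), mul_zero]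
    · intro h; exact absurd (Finset.mem_univ _) h
  have hbij : Function.Bijective h := by
    constructor
    · intro a b hab
      refine (AlphaP.basis p R).repr.injective (Finsupp.ext fun j => ?_)
      exact (AlphaPExtra.isUnit_factorial p R j.2).mul_left_injective
        (show _ = _ by simpa only [← hcoef] using congrArg (fun y => y (AlphaP.x p R ^ (j : ℕ))) hab)
    · intro y
      refine ⟨∑ i : Fin p, ((AlphaPExtra.isUnit_factorial p R i.2).unit⁻¹.val *
        y (AlphaP.x p R ^ (i : ℕ))) • AlphaP.basis p R i, WithConv.ext ?_⟩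
      refine AlphaPExtra.linearMap_ext p R fun i hi => ?_
      refine (hcoef _ ⟨i, hi⟩).trans ?_
      rw [map_sum, Finsupp.finsetSum_apply]
      simp only [map_smul, Module.Basis.repr_self, Finsupp.smul_apply, smul_eq_mul, Finsupp.single_apply,
        mul_ite, mul_one, mul_zero, Finset.sum_ite_eq', Finset.mem_univ, if_true]
      rw [mul_right_comm, IsUnit.val_inv_mul, one_mul]
  have hcounit : (Bialgebra.counitAlgHom R (CartDual.D R (AlphaP.A p R))).comp h =
      Bialgebra.counitAlgHom R (AlphaP.A p R) := by
    apply AlphaP.algHom_ext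
    simpa [hx, δ] using AlphaPExtra.c1_x_pow p R (i := 0) (Fact.out : p.Prime).pos
  have hcomul : (Algebra.TensorProduct.map h h).comp (Bialgebra.comulAlgHom R (AlphaP.A p R)) =
      (Bialgebra.comulAlgHom R (CartDual.D R (AlphaP.A p R))).comp h := by
    apply AlphaP.algHom_ext
    simp only [AlgHom.comp_apply, Bialgebra.comulAlgHom_apply, AlphaP.comul_x, map_add,
      Algebra.TensorProduct.map_tmul, map_one, hx]
    refine (CartDual.ev₂ R (AlphaP.A p R)).injective ?_
    refine ((AlphaP.basis p R).tensorProduct (AlphaP.basis p R)).ext fun ⟨i, j⟩ => ?_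
    rw [Module.Basis.tensorProduct_apply, CartDual.ev₂_coalgebra_comul_tmul, map_add,
      LinearMap.add_apply, CartDual.ev₂_tmul, CartDual.ev₂_tmul, AlphaP.basis_apply, AlphaP.basis_apply,
      ← pow_add]
    have hε : ∀ l : Fin p, (1 : CartDual.D R (AlphaP.A p R)) (AlphaP.x p R ^ (l : ℕ)) =
        if (l : ℕ) = 0 then 1 else 0 := fun l => by simpa using hpow 0 l l.2
    rw [hε, hε]
    simp only [δ, WithConv.ofConv_toConv, AlphaPExtra.c1_x_pow p R i.2, AlphaPExtra.c1_x_pow p R j.2]
    have hp2 : 2 ≤ p := (Fact.out : p.Prime).two_le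
    rcases Nat.lt_or_ge ((i : ℕ) + j) p with hij | hij
    · rw [AlphaPExtra.c1_x_pow p R hij]
      split_ifs <;> first | omega | simp
    · rw [AlphaP.x_pow_of_le p R hij, map_zero]
      split_ifs <;> first | omega | simp
  refine ⟨(BialgEquiv.ofBijective (BialgHom.ofAlgHom h hcounit hcomul) hbij).symm, fun i hi => ?_⟩
  change h (AlphaP.x p R) (AlphaP.x p R ^ i) = _
  rw [hx]
  exact AlphaPExtra.c1_x_pow p R hi

end Groth.Agent.S16071
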