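import Groth.Statements.S16072
import Mathlib
-- import your own Groth.Agent.* helpers here

set_option autoImplicit false
universe u
open Hopf

namespace Groth.Agent.S16072

theorem two_homs (R : Type*) [CommRing R] (k : Type*) [CommRing k] [Nontrivial k] [Algebra R k]
    (G : Type*) [Nontrivial G] : ¬ Subsingleton ((G → R) →ₐ[R] k) := by
  classical
  intro hs
  obtain ⟨a, b, hab⟩ := exists_pair_ne G
  have := congrArg (fun φ : (G → R) →ₐ[R] k => φ (Pi.single a 1))
    (Subsingleton.elim ((Algebra.ofId R k).comp (Pi.evalAlgHom R (fun _ => R) a))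
      ((Algebra.ofId R k).comp (Pi.evalAlgHom R (fun _ => R) b)))
  simp [Pi.single_eq_of_ne (Ne.symm hab)] at this


/-- Let p be a prime and R a commutative ring of characteristic p (p = 0 in R, R nonzero). Then the
constant group scheme ℤ/p and the group scheme μ_p of p-th roots of unity over Spec R are not
isomorphic: there is no R-bialgebra isomorphism between the Hopf algebra Maps(ℤ/p, R) of functions
on the cyclic group of order p and the group algebra R[ℤ/p]. (Any nonzero commutative base ring of
characteristic p is allowed. The published statement allows any ring R with p·R = 0; over the zero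
ring both Hopf algebras are the zero ring and hence isomorphic, so R is assumed nonzero here.) -/
theorem result (p : ℕ) [Fact p.Prime] (R : Type u) [CommRing R]
    [CharP R p] :
    IsEmpty (ConstGrp.F R (Multiplicative (ZMod p)) ≃ₐc[R] MonoidAlgebra R (Multiplicative (ZMod p))) := by
  refine ⟨fun e => ?_⟩
  haveI : Nontrivial R := CharP.nontrivial_of_char_ne_one (R := R) (Fact.out : p.Prime).ne_one
  obtain ⟨m, hm⟩ := Ideal.exists_maximal R
  letI := Ideal.Quotient.field m
  haveI : CharP (R ⧸ m) p := CharP.quotient' p m fun x hx => by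
    by_contra hx0
    rw [CharP.cast_eq_zero_iff R p] at hx0
    exact hm.ne_top (Ideal.eq_top_of_isUnit_mem _ hx
      ((CharP.isUnit_natCast_iff (Fact.out : p.Prime)).mpr hx0))
  haveI hsub : Subsingleton (MonoidAlgebra R (Multiplicative (ZMod p)) →ₐ[R] R ⧸ m) := by
    refine (MonoidAlgebra.lift R (R ⧸ m) (Multiplicative (ZMod p))).symm.subsingleton_congr.mpr
      ⟨fun φ ψ => MonoidHom.ext fun g => ?_⟩
    have hg : g ^ p = 1 := Multiplicative.toAdd.injective (by simp)
    have key : ∀ φ : Multiplicative (ZMod p) →* R ⧸ m, φ g = 1 := fun φ => by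
      refine frobenius_inj (R ⧸ m) p ?_
      rw [frobenius_def, frobenius_def, ← map_pow, hg, map_one, one_pow]
    rw [key, key]
  refine two_homs R (R ⧸ m) (Multiplicative (ZMod p)) ⟨fun φ ψ => ?_⟩
  let e' : (Multiplicative (ZMod p) → R) ≃ₐ[R] MonoidAlgebra R (Multiplicative (ZMod p)) :=
    e.toAlgEquiv
  exact AlgHom.ext fun x => by
    simpa using congrArg (fun f => f (e' x))
      (Subsingleton.elim (φ.comp e'.symm.toAlgHom) (ψ.comp e'.symm.toAlgHom))

end Groth.Agent.S16072
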