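import Groth.Statements.S16073
import Mathlib
-- import your own Groth.Agent.* helpers here

set_option autoImplicit false
universe u
open Hopf

namespace Groth.Agent.S16073

theorem two_homs (R : Type*) [CommRing R] (k : Type*) [CommRing k] [Nontrivial k] [Algebra R k]
    (G : Type*) [Nontrivial G] : ¬ Subsingleton ((G → R) →ₐ[R] k) := by
  classical
  intro hs
  obtain ⟨a, b, hab⟩ := exists_pair_ne G
  have := congrArg (fun φ : (G → R) →ₐ[R] k => φ (Pi.single a 1))
    (Subsingleton.elim ((Algebra.ofId R k).comp (Pi.evalAlgHom R (fun _ => R) a))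
      ((Algebra.ofId R k).comp (Pi.evalAlgHom R (fun _ => R) b)))
  simp [Pi.single_eq_of_ne (Ne.symm hab)] at this


/-- Let p be a prime and R a commutative ring of characteristic p (p = 0 in R, R nonzero). Then the
constant group scheme ℤ/p and α_p over Spec R are not isomorphic: there is no R-bialgebra
isomorphism between the Hopf algebra Maps(ℤ/p, R) of functions on the cyclic group of order p and
the Hopf algebra R[X]/(X^p) of α_p (X primitive). (Any nonzero commutative base ring of
characteristic p is allowed. The published statement allows any ring R with p·R = 0; over the zero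
ring both Hopf algebras are the zero ring and hence isomorphic, so R is assumed nonzero here.) -/
theorem result (p : ℕ) [Fact p.Prime] (R : Type u) [CommRing R] [CharP R p] :
    IsEmpty (ConstGrp.F R (Multiplicative (ZMod p)) ≃ₐc[R] AlphaP.A p R) := by
  refine ⟨fun e => ?_⟩
  haveI : Nontrivial R := CharP.nontrivial_of_char_ne_one (R := R) (Fact.out : p.Prime).ne_one
  obtain ⟨m, hm⟩ := Ideal.exists_maximal R
  letI := Ideal.Quotient.field m
  haveI hsub : Subsingleton (AlphaP.A p R →ₐ[R] R ⧸ m) := ⟨fun φ ψ => by
    refine AdjoinRoot.algHom_ext (g₁ := φ) (g₂ := ψ) ?_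
    have key : ∀ φ : AlphaP.A p R →ₐ[R] R ⧸ m, φ (AlphaP.x p R) = 0 := fun φ => by
      refine eq_zero_of_pow_eq_zero (n := p) ?_
      rw [← map_pow, AlphaP.x_pow, map_zero]
    exact (key φ).trans (key ψ).symm⟩
  refine two_homs R (R ⧸ m) (Multiplicative (ZMod p)) ⟨fun φ ψ => ?_⟩
  let e' : (Multiplicative (ZMod p) → R) ≃ₐ[R] AlphaP.A p R := e.toAlgEquiv
  exact AlgHom.ext fun x => by
    simpa using congrArg (fun f => f (e' x))
      (Subsingleton.elim (φ.comp e'.symm.toAlgHom) (ψ.comp e'.symm.toAlgHom))

end Groth.Agent.S16073
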