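import Mathlib
import Groth.Statements.S16074
-- import your own Groth.Agent.* helpers here

set_option autoImplicit false
universe u
open Hopf

namespace Groth.Agent.S16074

/-- Let p be a prime and R a commutative ring of characteristic p (p = 0 in R, R nonzero). Then μ_p and
α_p over Spec R are not isomorphic: there is no R-bialgebra isomorphism between the group algebra
R[ℤ/p] of the cyclic group of order p (group elements group-like) and the Hopf algebra R[X]/(X^p) of
α_p (X primitive), although the underlying R-algebras R[ℤ/p] = R[Y]/(Y^p) and R[X]/(X^p) are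
isomorphic. (Any nonzero commutative base ring of characteristic p is allowed. The published
statement allows any ring R with p·R = 0; over the zero ring both Hopf algebras are the zero ring
and hence isomorphic, so R is assumed nonzero here.) -/
theorem result (p : ℕ) [Fact p.Prime] (R : Type u) [CommRing R] [CharP R p] :
    IsEmpty (MonoidAlgebra R (Multiplicative (ZMod p)) ≃ₐc[R] AlphaP.A p R) := by
  refine ⟨fun e => ?_⟩
  haveI : Nontrivial R := CharP.nontrivial_of_char_ne_one (Fact.out : p.Prime).ne_one
  let B := MonoidAlgebra R (Multiplicative (ZMod p))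
  let co : Multiplicative (ZMod p) → B →ₗ[R] R := fun g =>
    (Finsupp.lapply g).comp (MonoidAlgebra.coeffLinearEquiv R).toLinearMap
  let L : Multiplicative (ZMod p) → TensorProduct R B B →ₗ[R] R := fun g =>
    (TensorProduct.lid R R).toLinearMap.comp (TensorProduct.map (co g) (co g))
  have hcs : ∀ g g' (t : R), co g (MonoidAlgebra.single g' t) = if g' = g then t else 0 := fun g g' t => by
    change (MonoidAlgebra.single g' t).coeff g = _
    simp [Finsupp.single_apply]
  have hL : ∀ g, (L g).comp Coalgebra.comul = co g := fun g => by
    ext g'
    simp [L, hcs, MonoidAlgebra.comul_single, MonoidAlgebra.lsingle]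
  set y : B := e.symm (AlphaP.x p R) with hy
  have hcy : Coalgebra.comul (R := R) y = y ⊗ₜ[R] (1 : B) + (1 : B) ⊗ₜ[R] y := by
    have h := CoalgHomClass.map_comp_comul_apply e.symm (AlphaP.x p R)
    rw [AlphaP.comul_x, map_add, TensorProduct.map_tmul, TensorProduct.map_tmul] at h
    rw [hy, ← h]
    simp
  have hy0 : y = 0 := by
    ext g
    have h := congrArg (L g) hcy
    rw [← LinearMap.comp_apply, hL] at h
    simp only [L, MonoidAlgebra.one_def, map_add, LinearMap.comp_apply, TensorProduct.map_tmul,
      LinearEquiv.coe_coe, TensorProduct.lid_tmul, smul_eq_mul, hcs] at h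
    show co g y = 0
    rw [MonoidAlgebra.one_def, hcs] at h
    split_ifs at h
    · rw [mul_one, one_mul] at h; exact left_eq_add.1 h
    · simpa using h
  have hx : AlphaP.x p R = 0 := by
    rw [← e.apply_symm_apply (AlphaP.x p R), ← hy, hy0, map_zero]
  have := (AlphaP.basis p R).ne_zero ⟨1, (Fact.out : p.Prime).one_lt⟩
  simp [hx] at this

end Groth.Agent.S16074
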