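import Groth.Statements.S16075
import Groth.Agent.AlphaPExtra.Basic
-- import your own Groth.Agent.* helpers here

set_option autoImplicit false
universe u
open Hopf

namespace Groth.Agent.S16075

/-- Let p be a prime, T a commutative ring of characteristic p (p = 0 in T, T nonzero) and A =
T[X]/(X^p) the Hopf algebra of α_p over Spec T, with X primitive. Then the endomorphisms of the
T-group α_{p,T} are exactly the scalings: every T-bialgebra endomorphism f of A has f(X) = λ·X for a
unique λ ∈ T, and for every λ ∈ T there is a T-bialgebra endomorphism f of A with f(X) = λ·X. So the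
endomorphisms of α_{p,T} correspond bijectively to the elements of T. (Only this bijection is
stated; that it turns addition and composition of endomorphisms into addition and multiplication in
T, and its naturality in T, are not stated here. The zero ring, allowed as T in the published
statement, is excluded by the characteristic hypothesis here.) -/
theorem result (p : ℕ) [Fact p.Prime] (T : Type u) [CommRing T] [CharP T p] :
    (∀ f : AlphaP.A p T →ₐc[T] AlphaP.A p T, ∃! c : T, f (AlphaP.x p T) = c • AlphaP.x p T) ∧
      (∀ c : T, ∃ f : AlphaP.A p T →ₐc[T] AlphaP.A p T, f (AlphaP.x p T) = c • AlphaP.x p T) := by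
  classical
  haveI := CharP.nontrivial_of_char_ne_one (R := T) (Fact.out : p.Prime).ne_one
  refine ⟨fun f => ?_, fun c => ?_⟩
  · set y := f (AlphaP.x p T) with hy
    have hrepr := (AlphaP.basis p T).sum_repr y
    simp only [AlphaP.basis_apply] at hrepr
    set a := (AlphaP.basis p T).repr y
    have hprim : Coalgebra.comul (R := T) y = y ⊗ₜ[T] 1 + 1 ⊗ₜ[T] y := by
      rw [hy, ← CoalgHomClass.map_comp_comul_apply, AlphaP.comul_x]
      simp
    have hcomp := congrArg (fun t => TensorProduct.lid T (AlphaP.A p T)
      (TensorProduct.map (AlphaPExtra.c1 p T) LinearMap.id t)) hprim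
    simp only [map_add, TensorProduct.map_tmul, TensorProduct.lid_tmul, LinearMap.id_apply] at hcomp
    have h1 : AlphaPExtra.c1 p T 1 = 0 := by
      simpa using AlphaPExtra.c1_x_pow p T (i := 0) (Fact.out : p.Prime).pos
    rw [h1, zero_smul, add_zero] at hcomp
    conv_lhs at hcomp => rw [← hrepr]
    simp only [map_sum, map_smul, AlphaPExtra.c1_map_comul p T LinearMap.id (Fin.is_lt _),
      LinearMap.id_apply] at hcomp
    have h0 : a ⟨0, (Fact.out : p.Prime).pos⟩ = 0 := by
      have hε : Coalgebra.counit (R := T) y = 0 := by
        rw [hy, CoalgHomClass.counit_comp_apply, AlphaP.counit_x]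
      rw [← hrepr] at hε
      simp only [map_sum, map_smul] at hε
      rw [Finset.sum_eq_single ⟨0, (Fact.out : p.Prime).pos⟩] at hε
      · simpa using hε
      · intro j _ hj
        have hpow : Coalgebra.counit (R := T) (AlphaP.x p T ^ (j : ℕ)) = 0 := by
          change Bialgebra.counitAlgHom T _ (AlphaP.x p T ^ (j : ℕ)) = 0
          rw [map_pow, Bialgebra.counitAlgHom_apply, AlphaP.counit_x, zero_pow]
          exact fun h => hj (Fin.ext h)
        rw [hpow, smul_zero]
      · intro h; exact absurd (Finset.mem_univ _) h
    have hhigh : ∀ j : Fin p, 2 ≤ (j : ℕ) → a j = 0 := by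
      intro j hj
      have hc := congrArg ((AlphaP.basis p T).coord ⟨j - 1, lt_of_le_of_lt (Nat.sub_le _ _) j.2⟩) hcomp
      have hb : ∀ (l : ℕ) (hl : l < p) (q : Fin p),
          (AlphaP.basis p T).coord q (AlphaP.x p T ^ l) = if (⟨l, hl⟩ : Fin p) = q then 1 else 0 := by
        intro l hl q
        rw [show AlphaP.x p T ^ l = AlphaP.basis p T ⟨l, hl⟩ from (AlphaP.basis_apply p T ⟨l, hl⟩).symm]
        simp only [Module.Basis.coord_apply, Module.Basis.repr_self, Finsupp.single_apply]
      have hne : (⟨0, (Fact.out : p.Prime).pos⟩ : Fin p) ≠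
          ⟨(j : ℕ) - 1, lt_of_le_of_lt (Nat.sub_le _ _) j.2⟩ := fun h => by
        have := congrArg Fin.val h
        simp at this
        omega
      rw [map_smul, show (1 : AlphaP.A p T) = AlphaP.x p T ^ 0 from (pow_zero _).symm,
        hb 0 (Fact.out : p.Prime).pos, if_neg hne, smul_zero, map_sum] at hc
      simp only [map_smul, hb _ (lt_of_le_of_lt (Nat.sub_le _ _) (Fin.is_lt _))] at hc
      rw [Finset.sum_eq_single j] at hc
      · rw [if_pos rfl, smul_eq_mul, smul_eq_mul, mul_one] at hc
        exact (AlphaPExtra.isUnit_natCast p T (by omega) j.2).mul_left_eq_zero.1 hc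
      · intro l _ hl
        split_ifs with h
        · have := congrArg Fin.val h
          simp only at this
          have hl0 : (l : ℕ) = 0 ∨ False := by
            left
            by_contra h0'
            exact hl (Fin.ext (by omega))
          rcases hl0 with hl0 | hl0
          · simp [hl0]
          · exact hl0.elim
        · simp
      · intro h; exact absurd (Finset.mem_univ _) h
    refine ⟨a ⟨1, (Fact.out : p.Prime).one_lt⟩, ?_, ?_⟩
    · rw [← hrepr, Finset.sum_eq_single ⟨1, (Fact.out : p.Prime).one_lt⟩]
      · rw [pow_one]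
      · intro j _ hj
        rcases Nat.lt_or_ge (j : ℕ) 2 with h | h
        · have : j = ⟨0, (Fact.out : p.Prime).pos⟩ := Fin.ext (by
            have : (j : ℕ) ≠ 1 := fun h' => hj (Fin.ext h')
            simp only; omega)
          rw [this, h0, zero_smul]
        · rw [hhigh j h, zero_smul]
      · intro h; exact absurd (Finset.mem_univ _) h
    · intro c hc
      have hc' : y = c • AlphaP.x p T := hc
      have hx : AlphaP.x p T = AlphaP.basis p T ⟨1, (Fact.out : p.Prime).one_lt⟩ := by
        rw [AlphaP.basis_apply, pow_one]
      simp only [a]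
      rw [hc', hx, map_smul, Module.Basis.repr_self]
      simp only [Finsupp.smul_apply, Finsupp.single_eq_same, smul_eq_mul, mul_one]
  · have hpow : (c • AlphaP.x p T) ^ p = 0 := by rw [smul_pow, AlphaP.x_pow, smul_zero]
    refine ⟨BialgHom.ofAlgHom (AlphaP.lift p T (c • AlphaP.x p T) hpow) ?_ ?_, ?_⟩
    · apply AlphaP.algHom_ext
      simp
    · apply AlphaP.algHom_ext
      simp [TensorProduct.smul_tmul', TensorProduct.tmul_smul, smul_add]
    · exact AlphaP.lift_x (p := p) (c • AlphaP.x p T) hpow

end Groth.Agent.S16075
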