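import Groth.Statements.S16076
import Groth.Agent.Versch19.Basic


set_option autoImplicit false
universe u
open scoped TensorProduct
open Versch

namespace Groth.Agent.S16076

/-- Let p be a prime, R a commutative ring of characteristic p and A = R[X]/(X^p) the Hopf algebra of
α_p over Spec R, with X primitive. Let v : A → A ⊗_R R^(Frob) be the comorphism of the Verschiebung
V : α_p^(p) → α_p (the ring map whose transpose under the canonical pairing is the relative
Frobenius of the dual Hopf algebra Hom_R(A, R)). Then V is the trivial homomorphism: v is the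
composite of the counit ε : A → R, the identity of underlying rings R → R^(Frob) and the inclusion
of the twisted factor R^(Frob) → A ⊗_R R^(Frob), i.e. v(a) = 1 ⊗ ε(a). (Any commutative base ring of
characteristic p is allowed.) -/
theorem result (p : ℕ) [Fact p.Prime] (R : Type u) [CommRing R] [CharP R p]
    (v : AlphaP.A p R →+* FrobAlg.BaseChange p R (AlphaP.A p R))
    (hv : Versch.IsVerschiebung p R (AlphaP.A p R) v) :
    v = ((Algebra.TensorProduct.includeRight (R := R) (A := AlphaP.A p R) (B := FrobAlg.Twist p R)).toRingHom.comp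
          (FrobAlg.toTwist p R).toRingHom).comp (Bialgebra.counitAlgHom R (AlphaP.A p R)).toRingHom := by
  haveI : Nontrivial R := CharP.nontrivial_of_char_ne_one (R := R) (Fact.out : p.Prime).ne_one
  have hnil : ∀ y : CartDual.D R (AlphaP.A p R), y 1 = 0 →
      ∀ m i, i < m → (y ^ m) (AlphaP.x p R ^ i) = 0 := by
    intro y hy m
    induction m with
    | zero => intro i hi; omega
    | succ m ih =>
      intro i hi
      have hΔ : Coalgebra.comul (R := R) (AlphaP.x p R ^ i) =
          ∑ j ∈ Finset.HasAntidiagonal.antidiagonal i,
            (i.choose j.1) • ((AlphaP.x p R ^ j.1) ⊗ₜ[R] (AlphaP.x p R ^ j.2)) := by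
        rw [Bialgebra.comul_pow, AlphaP.comul_x, (Commute.all _ _).add_pow']
        refine Finset.sum_congr rfl fun j _ => ?_
        simp [Algebra.TensorProduct.tmul_pow]
      rw [pow_succ, CartDual.coe_apply, LinearMap.convMul_apply, hΔ, map_sum, map_sum]
      refine Finset.sum_eq_zero fun j hj => ?_
      rw [Finset.HasAntidiagonal.mem_antidiagonal] at hj
      rw [map_nsmul, map_nsmul, TensorProduct.map_tmul, LinearMap.mul'_apply]
      rcases Nat.eq_zero_or_pos j.2 with h | h
      · rw [h, pow_zero]
        rw [hy, mul_zero, smul_zero]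
      · have := ih j.1 (by omega)
        rw [this, zero_mul, smul_zero]
  have hpow : ∀ x : CartDual.D R (AlphaP.A p R), x ^ p = algebraMap R _ ((x 1) ^ p) := by
    intro x
    rw [← sub_eq_zero, map_pow, ← sub_pow_char]
    have h1 : (x - algebraMap R (CartDual.D R (AlphaP.A p R)) (x 1)) 1 = 0 := by
      simp [CartDual.coe_apply, LinearMap.convAlgebraMap_apply]
    refine WithConv.ext ((AlphaP.basis p R).ext fun i => ?_)
    rw [AlphaP.basis_apply]
    simpa [CartDual.coe_apply] using hnil _ h1 p i i.2
  refine RingHom.ext fun a => Versch.evTw_injective p R _ fun x => ?_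
  rw [(Versch.isVerschiebung_iff p R _ v).1 hv a x, hpow]
  simp only [RingHom.comp_apply, RingEquiv.toRingHom_eq_coe, RingHom.coe_coe, AlgHom.toRingHom_eq_coe,
    Algebra.TensorProduct.includeRight_apply, Versch.evTw_tmul', Bialgebra.counitAlgHom_apply]
  rw [← map_mul, Algebra.algebraMap_eq_smul_one, CartDual.coe_apply, WithConv.ofConv_smul, LinearMap.smul_apply]
  simp [CartDual.coe_apply]

end Groth.Agent.S16076
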