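import Groth.Statements.S16078
import Mathlib
-- import your own Groth.Agent.* helpers here

set_option autoImplicit false
universe u
open scoped TensorProduct
open Hopf

namespace Groth.Agent.S16078
set_option maxHeartbeats 1600000

theorem idem_eq {R Q : Type*} [CommRing R] [Nontrivial R] [CommRing Q] (ε : Q →+* R) (f f' : Q) (hf : IsIdempotentElem f) (hf' : IsIdempotentElem f')
    (h1 : ε f = 1) (h1' : ε f' = 1) (hl : IsLocalRing (Q ⧸ Ideal.span ({1 - f} : Set Q))) : f * f' = f := by
  set π := Ideal.Quotient.mk (Ideal.span ({1 - f} : Set Q))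
  have hε : ∀ a ∈ Ideal.span ({1 - f} : Set Q), ε a = 0 := fun a ha => by
    obtain ⟨c, rfl⟩ := Ideal.mem_span_singleton'.1 ha
    rw [map_mul, map_sub, map_one, h1, sub_self, mul_zero]
  have hone : π f' = 1 := by
    have hi := hf'.map π
    rcases IsLocalRing.isUnit_or_isUnit_one_sub_self (π f') with h | h
    · exact (IsIdempotentElem.iff_eq_one_of_isUnit h).1 hi
    · exfalso
      have h' := (IsIdempotentElem.iff_eq_one_of_isUnit h).1 hi.one_sub
      rw [sub_eq_self] at h'
      have := hε _ (Ideal.Quotient.eq_zero_iff_mem.1 h')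
      rw [h1'] at this; exact one_ne_zero this
  rw [← map_one π, Ideal.Quotient.eq] at hone
  obtain ⟨c, hc⟩ := Ideal.mem_span_singleton'.1 hone
  rw [show f' = c * (1 - f) + 1 by rw [hc]; abel, mul_add, mul_one, mul_left_comm, mul_sub, mul_one, hf.eq, sub_self, mul_zero, zero_add]

/-- Let R be a henselian Noetherian local ring, A and A'' commutative Hopf algebras over R which are
finite and flat as R-modules, and A'' → A an R-algebra homomorphism compatible with
comultiplications and counits making A faithfully flat over A'' (a faithfully flat homomorphism π :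
G → G'' of finite flat R-groups); let J ⊆ A be the ideal generated by the image of the augmentation
ideal of A'' (G' = Spec A/J = ker π, so that 1 → G' → G → G'' → 1 is exact). Let e ∈ A and e'' ∈ A''
be idempotents with ε(e) = 1, ε(e'') = 1 and A/(1 − e), A''/(1 − e'') local rings (the unit
components G⁰ and G''⁰), and let e' ∈ A be an element whose image in A/J is an idempotent, with
ε(e') = 1 and A/(J + (1 − e')) local (so G'⁰ = Spec (A/J)/(1 − e') is the unit component of G').
Suppose g : A''/(1 − e'') → A/(1 − e) is the ring homomorphism induced by A'' → A (the restriction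
π⁰ : G⁰ → G''⁰ of π, which exists because G⁰ is connected). Then g is faithfully flat, and e ≡ e'
modulo J, i.e. J + (1 − e) = J + (1 − e') and the kernel of π⁰, which is cut out in G⁰ by J, is
exactly G'⁰: the sequence 1 → G'⁰ → G⁰ → G''⁰ → 1 is exact. (The published statement also asserts
exactness of the maximal étale quotient G ↦ G^ét, not stated here.) -/
theorem result (R : Type u) [CommRing R] [HenselianLocalRing R]
    [IsNoetherianRing R] (A A'' : Type u) [CommRing A] [HopfAlgebra R A] [Module.Finite R A] [Module.Flat R A]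
    [CommRing A''] [HopfAlgebra R A''] [Module.Finite R A''] [Module.Flat R A'']
    [Algebra A'' A] [IsScalarTower R A'' A] [Module.FaithfullyFlat A'' A]
    (hΔ : (Bialgebra.comulAlgHom R A).comp (IsScalarTower.toAlgHom R A'' A) =
      (Algebra.TensorProduct.map (IsScalarTower.toAlgHom R A'' A) (IsScalarTower.toAlgHom R A'' A)).comp
        (Bialgebra.comulAlgHom R A''))
    (hε : (Bialgebra.counitAlgHom R A).comp (IsScalarTower.toAlgHom R A'' A) = Bialgebra.counitAlgHom R A'')
    (e : A) (he : IsIdempotentElem e) (heε : Bialgebra.counitAlgHom R A e = 1)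
    [IsLocalRing (A ⧸ Ideal.span ({1 - e} : Set A))]
    (e'' : A'') (he'' : IsIdempotentElem e'') (he''ε : Bialgebra.counitAlgHom R A'' e'' = 1)
    [IsLocalRing (A'' ⧸ Ideal.span ({1 - e''} : Set A''))]
    (e' : A) (he' : IsIdempotentElem (Ideal.Quotient.mk ((RingHom.ker (Bialgebra.counitAlgHom R A'')).map (algebraMap A'' A)) e'))
    (he'ε : Bialgebra.counitAlgHom R A e' = 1)
    [IsLocalRing (A ⧸ (((RingHom.ker (Bialgebra.counitAlgHom R A'')).map (algebraMap A'' A)) ⊔ Ideal.span ({1 - e'} : Set A)))]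
    (g : (A'' ⧸ Ideal.span ({1 - e''} : Set A'')) →+* (A ⧸ Ideal.span ({1 - e} : Set A)))
    (hg : g.comp (Ideal.Quotient.mk (Ideal.span ({1 - e''} : Set A''))) =
      (Ideal.Quotient.mk (Ideal.span ({1 - e} : Set A))).comp (algebraMap A'' A)) :
    g.FaithfullyFlat ∧
      Ideal.Quotient.mk ((RingHom.ker (Bialgebra.counitAlgHom R A'')).map (algebraMap A'' A)) e = Ideal.Quotient.mk ((RingHom.ker (Bialgebra.counitAlgHom R A'')).map (algebraMap A'' A)) e' := by
  set I'' := RingHom.ker (Bialgebra.counitAlgHom R A'') with hI''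
  set J := I''.map (algebraMap A'' A) with hJ
  have hJI : J ≤ RingHom.ker (Bialgebra.counitAlgHom R A) := Ideal.map_le_iff_le_comap.2 fun x hx => by
    rw [Ideal.mem_comap, RingHom.mem_ker]
    exact (congrArg (fun f : A'' →ₐ[R] R => f x) hε).trans (RingHom.mem_ker.1 hx)
  refine ⟨?_, ?_⟩
  · letI : Algebra (A'' ⧸ Ideal.span ({1 - e''} : Set A'')) (A ⧸ Ideal.span ({1 - e} : Set A)) := g.toAlgebra
    haveI : IsScalarTower A'' (A'' ⧸ Ideal.span ({1 - e''} : Set A'')) (A ⧸ Ideal.span ({1 - e} : Set A)) :=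
      IsScalarTower.of_algebraMap_eq' hg.symm
    haveI : Module.Finite A'' A := Module.Finite.of_restrictScalars_finite R A'' A
    have hEker : Ideal.span ({1 - e} : Set A) ≤ LinearMap.ker (LinearMap.mul A A e) := by
      rw [Ideal.span, Submodule.span_le, Set.singleton_subset_iff]
      show e * (1 - e) = 0
      rw [mul_sub, mul_one, he.eq, sub_self]
    let s : (A ⧸ Ideal.span ({1 - e} : Set A)) →ₗ[A''] A := (Submodule.liftQ _ (LinearMap.mul A A e) hEker).restrictScalars A''
    haveI : Module.Flat A'' (A ⧸ Ideal.span ({1 - e} : Set A)) := Module.Flat.of_retract s (IsScalarTower.toAlgHom A'' A (A ⧸ Ideal.span ({1 - e} : Set A))).toLinearMap (by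
      ext q
      obtain ⟨a, rfl⟩ := Ideal.Quotient.mk_surjective q
      show Ideal.Quotient.mk _ (e * a) = Ideal.Quotient.mk _ a
      rw [Ideal.Quotient.eq, Ideal.mem_span_singleton']
      exact ⟨-a, by ring⟩)
    haveI : IsLocalization.Away e'' (A'' ⧸ Ideal.span ({1 - e''} : Set A'')) :=
      IsLocalization.away_of_isIdempotentElem he'' Ideal.mk_ker Ideal.Quotient.mk_surjective
    haveI : Module.Flat (A'' ⧸ Ideal.span ({1 - e''} : Set A'')) (A ⧸ Ideal.span ({1 - e} : Set A)) :=
      (Module.flat_iff_of_isLocalization (A'' ⧸ Ideal.span ({1 - e''} : Set A'')) (Submonoid.powers e'') _).2 inferInstance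
    haveI : Module.Finite A'' (A ⧸ Ideal.span ({1 - e} : Set A)) := Module.Finite.of_restrictScalars_finite R A'' _
    haveI : Module.Finite (A'' ⧸ Ideal.span ({1 - e''} : Set A'')) (A ⧸ Ideal.span ({1 - e} : Set A)) := Module.Finite.of_restrictScalars_finite A'' _ _
    haveI : IsLocalHom (algebraMap (A'' ⧸ Ideal.span ({1 - e''} : Set A'')) (A ⧸ Ideal.span ({1 - e} : Set A))) := by
      have := (IsLocalRing.local_hom_TFAE (algebraMap (A'' ⧸ Ideal.span ({1 - e''} : Set A'')) (A ⧸ Ideal.span ({1 - e} : Set A)))).out 4 0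
      exact this.1 (IsLocalRing.eq_maximalIdeal (Ideal.isMaximal_comap_of_isIntegral_of_isMaximal _))
    exact RingHom.faithfullyFlat_algebraMap_iff.2 (Module.FaithfullyFlat.of_flat_of_isLocalHom)
  · let εJ : (A ⧸ J) →+* R := Ideal.Quotient.lift J (Bialgebra.counitAlgHom R A).toRingHom (fun a ha => hJI ha)
    have loc : ∀ (x : A) (M : Ideal A), Bialgebra.counitAlgHom R A x = 1 → Ideal.span ({1 - x} : Set A) ≤ M → IsLocalRing (A ⧸ M) → M ≤ J ⊔ Ideal.span ({1 - x} : Set A) → IsLocalRing ((A ⧸ J) ⧸ Ideal.span ({1 - Ideal.Quotient.mk J x} : Set (A ⧸ J))) := by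
      intro x M hx hxM hM hMJ
      haveI := hM
      haveI : Nontrivial ((A ⧸ J) ⧸ Ideal.span ({1 - Ideal.Quotient.mk J x} : Set (A ⧸ J))) := by
        refine Ideal.Quotient.nontrivial_iff.2 fun h => one_ne_zero (α := R) ?_
        obtain ⟨c, hc⟩ := Ideal.mem_span_singleton'.1 ((Ideal.eq_top_iff_one _).1 h)
        rw [← map_one εJ, ← hc, map_mul, map_sub, map_one]
        rw [show εJ (Ideal.Quotient.mk J x) = 1 from hx, sub_self, mul_zero]
      have hkill : ∀ a ∈ M, ((Ideal.Quotient.mk (Ideal.span ({1 - Ideal.Quotient.mk J x} : Set (A ⧸ J)))).comp (Ideal.Quotient.mk J)) a = 0 := by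
        intro a ha
        obtain ⟨u, hu, v, hv, rfl⟩ := Submodule.mem_sup.1 (hMJ ha)
        obtain ⟨c, rfl⟩ := Ideal.mem_span_singleton'.1 hv
        rw [map_add, RingHom.comp_apply, RingHom.comp_apply, Ideal.Quotient.eq_zero_iff_mem.2 hu, map_zero, zero_add,
          Ideal.Quotient.eq_zero_iff_mem, map_mul, map_sub, map_one]
        exact Ideal.mul_mem_left _ _ (Ideal.mem_span_singleton_self _)
      exact IsLocalRing.of_surjective' (Ideal.Quotient.lift M _ hkill) (Ideal.Quotient.lift_surjective_of_surjective _ _ (Ideal.Quotient.mk_surjective.comp Ideal.Quotient.mk_surjective))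
    have h1 := idem_eq εJ (Ideal.Quotient.mk J e) (Ideal.Quotient.mk J e') (he.map _) he' heε he'ε
      (loc e (Ideal.span ({1 - e} : Set A)) heε le_rfl ‹_› le_sup_right)
    have h2 := idem_eq εJ (Ideal.Quotient.mk J e') (Ideal.Quotient.mk J e) he' (he.map _) he'ε heε
      (loc e' (J ⊔ Ideal.span ({1 - e'} : Set A)) he'ε le_sup_right ‹_› le_rfl)
    rw [← h1, mul_comm, h2]

end Groth.Agent.S16078
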