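import Groth.Statements.S16079
import Mathlib
-- import your own Groth.Agent.* helpers here

set_option autoImplicit false
universe u
open scoped TensorProduct
open Hopf

namespace Groth.Agent.S16079
set_option maxHeartbeats 1600000

theorem idem_one {R Q : Type*} [CommRing R] [Nontrivial R] [CommRing Q] [IsLocalRing Q] (ε : Q →+* R) (q : Q) (hq : IsIdempotentElem q) (h : ε q = 1) : q = 1 := by
  rcases IsLocalRing.isUnit_or_isUnit_one_sub_self q with hu | hu
  · exact (IsIdempotentElem.iff_eq_one_of_isUnit hu).1 hq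
  · exfalso
    have h' := (IsIdempotentElem.iff_eq_one_of_isUnit hu).1 hq.one_sub
    rw [sub_eq_self] at h'
    rw [h', map_zero] at h
    exact zero_ne_one h

/-- Let R be a henselian Noetherian local ring, A and B commutative and cocommutative Hopf algebras over
R which are finitely generated and projective as R-modules (finite flat commutative R-groups G =
Spec A and H = Spec B), and ψ : B → A an R-bialgebra homomorphism (a homomorphism φ : G → H). Let
e_A ∈ A be an idempotent with ε(e_A) = 1 such that (1 − e_A) is a Hopf ideal and A⁰ = A/(1 − e_A) is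
local, R-projective and cocommutative (the unit component G⁰), and let e'_A be an idempotent of the
dual Hopf algebra Hom_R(A⁰, R) with ε(e'_A) = 1 and local quotient by (1 − e'_A) (the unit component
of the Cartier dual (G⁰)^D); similarly e_B, B⁰ = B/(1 − e_B) and e'_B for H. Call a linear form x on
A⁰ invariant when (id ⊗ multiplication by e'_A)(Δx) = x ⊗ e'_A, i.e. x is invariant under
translation by the unit component of (G⁰)^D and so lies in the Hopf algebra of its étale quotient;
the elements of A⁰ annihilated by all invariant x form the ideal of G_μ ⊆ G⁰ ⊆ G, the largest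
connected multiplicative closed subgroup of G; likewise for B and H_μ. Then the filtration G_μ ⊆ G⁰
⊆ G is respected by φ at the G_μ step: φ maps G_μ into H_μ, i.e. for every b ∈ B whose image in B⁰
is annihilated by all invariant linear forms on B⁰ (b in the ideal of H_μ), the image of ψ(b) in A⁰
is annihilated by all invariant linear forms on A⁰ (ψ(b) in the ideal of G_μ). (That φ maps G⁰ into
H⁰ is the universal property of the unit component and is not restated.) -/
theorem result (R : Type u) [CommRing R]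
    [HenselianLocalRing R] [IsNoetherianRing R] (A B : Type u) [CommRing A] [HopfAlgebra R A] [Coalgebra.IsCocomm R A]
    [Module.Finite R A] [Module.Projective R A] [CommRing B] [HopfAlgebra R B] [Coalgebra.IsCocomm R B]
    [Module.Finite R B] [Module.Projective R B] (ψ : B →ₐc[R] A)
    (eA : A) (heA : IsIdempotentElem eA) (heAε : Bialgebra.counitAlgHom R A eA = 1)
    [(Ideal.span ({1 - eA} : Set A)).IsHopfIdeal R] [IsLocalRing (A ⧸ Ideal.span ({1 - eA} : Set A))] [Module.Projective R (A ⧸ Ideal.span ({1 - eA} : Set A))] [Coalgebra.IsCocomm R (A ⧸ Ideal.span ({1 - eA} : Set A))]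
    (fA : CartDual.D R (A ⧸ Ideal.span ({1 - eA} : Set A))) (hfA : IsIdempotentElem fA)
    (hfAε : Bialgebra.counitAlgHom R (CartDual.D R (A ⧸ Ideal.span ({1 - eA} : Set A))) fA = 1)
    [IsLocalRing (CartDual.D R (A ⧸ Ideal.span ({1 - eA} : Set A)) ⧸ Ideal.span ({1 - fA} : Set (CartDual.D R (A ⧸ Ideal.span ({1 - eA} : Set A)))))]
    (eB : B) (heB : IsIdempotentElem eB) (heBε : Bialgebra.counitAlgHom R B eB = 1)
    [(Ideal.span ({1 - eB} : Set B)).IsHopfIdeal R] [IsLocalRing (B ⧸ Ideal.span ({1 - eB} : Set B))] [Module.Projective R (B ⧸ Ideal.span ({1 - eB} : Set B))] [Coalgebra.IsCocomm R (B ⧸ Ideal.span ({1 - eB} : Set B))]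
    (fB : CartDual.D R (B ⧸ Ideal.span ({1 - eB} : Set B))) (hfB : IsIdempotentElem fB)
    (hfBε : Bialgebra.counitAlgHom R (CartDual.D R (B ⧸ Ideal.span ({1 - eB} : Set B))) fB = 1)
    [IsLocalRing (CartDual.D R (B ⧸ Ideal.span ({1 - eB} : Set B)) ⧸ Ideal.span ({1 - fB} : Set (CartDual.D R (B ⧸ Ideal.span ({1 - eB} : Set B)))))]
    (b : B) (hb : ∀ y : CartDual.D R (B ⧸ Ideal.span ({1 - eB} : Set B)), LinearMap.lTensor (CartDual.D R (B ⧸ Ideal.span ({1 - eB} : Set B))) (LinearMap.mulLeft R fB) (Coalgebra.comul (R := R) y) = y ⊗ₜ[R] fB → y (Ideal.Quotient.mk (Ideal.span ({1 - eB} : Set B)) b) = 0)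
    (x : CartDual.D R (A ⧸ Ideal.span ({1 - eA} : Set A))) (hx : LinearMap.lTensor (CartDual.D R (A ⧸ Ideal.span ({1 - eA} : Set A))) (LinearMap.mulLeft R fA) (Coalgebra.comul (R := R) x) = x ⊗ₜ[R] fA) :
    x (Ideal.Quotient.mk (Ideal.span ({1 - eA} : Set A)) (ψ b)) = 0 := by
  have h1 : Ideal.Quotient.mk (Ideal.span ({1 - eA} : Set A)) (ψ eB) = 1 := by
    refine idem_one (Bialgebra.counitAlgHom R (A ⧸ Ideal.span ({1 - eA} : Set A))).toRingHom _ ((heB.map ψ).map _) ?_
    exact ((CoalgHomClass.counit_comp_apply (Bialgebra.Quotient.mkBialgHom (R := R) (Ideal.span ({1 - eA} : Set A))) (ψ eB)).trans (CoalgHomClass.counit_comp_apply ψ eB)).trans heBε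
  let q : (B ⧸ Ideal.span ({1 - eB} : Set B)) →ₐ[R] (A ⧸ Ideal.span ({1 - eA} : Set A)) :=
    Ideal.Quotient.liftₐ _ ((Ideal.Quotient.mkₐ R _).comp (ψ : B →ₐ[R] A)) (fun y hy => by
      obtain ⟨d, rfl⟩ := Ideal.mem_span_singleton'.1 hy
      show Ideal.Quotient.mk (Ideal.span ({1 - eA} : Set A)) (ψ (d * (1 - eB))) = 0
      rw [map_mul ψ, map_sub ψ, map_one ψ, map_mul, map_sub, map_one, h1, sub_self, mul_zero])
  let f : (B ⧸ Ideal.span ({1 - eB} : Set B)) →ₐc[R] (A ⧸ Ideal.span ({1 - eA} : Set A)) := BialgHom.ofAlgHom q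
    (Ideal.Quotient.algHom_ext _ (AlgHom.ext fun y => by
      show Coalgebra.counit (R := R) (Ideal.Quotient.mk (Ideal.span ({1 - eA} : Set A)) (ψ y)) = Coalgebra.counit (R := R) (Ideal.Quotient.mk (Ideal.span ({1 - eB} : Set B)) y)
      exact ((CoalgHomClass.counit_comp_apply (Bialgebra.Quotient.mkBialgHom (R := R) (Ideal.span ({1 - eA} : Set A))) (ψ y)).trans (CoalgHomClass.counit_comp_apply ψ y)).trans (CoalgHomClass.counit_comp_apply (Bialgebra.Quotient.mkBialgHom (R := R) (Ideal.span ({1 - eB} : Set B))) y).symm))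
    (Ideal.Quotient.algHom_ext _ (AlgHom.ext fun y => by
      show Algebra.TensorProduct.map q q (Coalgebra.comul (R := R) (Ideal.Quotient.mk (Ideal.span ({1 - eB} : Set B)) y)) = Coalgebra.comul (R := R) (Ideal.Quotient.mk (Ideal.span ({1 - eA} : Set A)) (ψ y))
      rw [show Coalgebra.comul (R := R) (Ideal.Quotient.mk (Ideal.span ({1 - eB} : Set B)) y) = _ from (CoalgHomClass.map_comp_comul_apply (Bialgebra.Quotient.mkBialgHom (R := R) (Ideal.span ({1 - eB} : Set B))) y).symm]
      refine Eq.trans ?_ (CoalgHomClass.map_comp_comul_apply (Bialgebra.Quotient.mkBialgHom (R := R) (Ideal.span ({1 - eA} : Set A))) (ψ y))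
      rw [← CoalgHomClass.map_comp_comul_apply ψ y]
      generalize Coalgebra.comul (R := R) y = z
      induction z using TensorProduct.induction_on with
      | zero => simp
      | add x y hx hy => simp only [map_add, hx, hy]
      | tmul u v => rfl))
  set t := CartDual.transpose R f with ht
  have h2 : fB * t fA = fB := by
    set π := Ideal.Quotient.mk (Ideal.span ({1 - fB} : Set (CartDual.D R (B ⧸ Ideal.span ({1 - eB} : Set B))))) with hπ
    have hε : ∀ a ∈ Ideal.span ({1 - fB} : Set (CartDual.D R (B ⧸ Ideal.span ({1 - eB} : Set B)))), (Bialgebra.counitAlgHom R (CartDual.D R (B ⧸ Ideal.span ({1 - eB} : Set B)))).toRingHom a = 0 := fun a ha => by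
      obtain ⟨d, rfl⟩ := Ideal.mem_span_singleton'.1 ha
      rw [AlgHom.toRingHom_eq_coe, RingHom.coe_coe, map_mul, map_sub, map_one, hfBε, sub_self, mul_zero]
    have h := idem_one (Ideal.Quotient.lift _ _ hε) (π (t fA)) ((hfA.map t).map π) ((CoalgHomClass.counit_comp_apply t fA).trans hfAε)
    rw [← map_one π, Ideal.Quotient.eq] at h
    obtain ⟨d, hd⟩ := Ideal.mem_span_singleton'.1 h
    rw [show t fA = d * (1 - fB) + 1 by rw [hd]; abel, mul_add, mul_one, mul_left_comm, mul_sub, mul_one, hfB.eq, sub_self, mul_zero, zero_add]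
  refine hb (t x) ?_
  have h3 := congrArg (TensorProduct.map t.toLinearMap ((LinearMap.mulLeft R fB).comp t.toLinearMap)) hx
  rw [← CoalgHomClass.map_comp_comul_apply t x]
  refine (Eq.trans ?_ h3).trans ?_
  · generalize Coalgebra.comul (R := R) x = z
    induction z using TensorProduct.induction_on with
    | zero => simp
    | add x y hx hy => simp only [map_add, hx, hy]
    | tmul u v =>
      show t u ⊗ₜ[R] (fB * t v) = t u ⊗ₜ[R] (fB * t (fA * v))
      rw [map_mul, ← mul_assoc, h2]
  · show t x ⊗ₜ[R] (fB * t fA) = t x ⊗ₜ[R] fB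
    rw [h2]

end Groth.Agent.S16079
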