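import Groth.Statements.S1608
import Groth.Agent.DimInequality.Local
import Groth.Agent.S0402
import Groth.Agent.FibConstr.FibreMap
-- import your own Groth.Agent.* helpers here

set_option autoImplicit false
universe u
open CategoryTheory CategoryTheory.Limits AlgebraicGeometry
open Variety

namespace Groth.Agent.S1608

/-- Let f : X → Y be locally of finite type, and let y ∈ Y be a point whose local ring is Noetherian of
dimension at most one. Suppose f is quasi-finite at the generic point of each irreducible component
of X. Then f is quasi-finite at each point x of X with f(x) = y. -/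
theorem result {X Y : Scheme.{u}} (f : X ⟶ Y) [LocallyOfFiniteType f]
    (y : Y) [IsNoetherianRing (Y.presheaf.stalk y)] (hy : ringKrullDim (Y.presheaf.stalk y) ≤ 1)
    (hgen : ∀ Z ∈ irreducibleComponents (X : Type u), ∀ η : X, IsGenericPoint η Z → f.QuasiFiniteAt η)
    (x : X) (hx : f.base x = y) : f.QuasiFiniteAt x := by
  subst hx
  have hqf : ∀ η : X, FibDim.IsMax' η → FlatMor.fibreDimAt f η ≤ 0 := fun η hη => by
    have h := hgen _ (FibDim.closure_mem_components hη) η rfl
    have h2 := h.isClopen_singleton_asFiber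
    rw [FibreDim.fibreDimAt_of_maximal f η fun z _ hz => hη z (specializes_iff_mem_closure.2 hz),
      EquidimFlat.fdim_eq_fibre_closure, h2.1.closure_eq]
    exact topologicalKrullDim_zero_of_discreteTopology ↥({f.asFiber η} : Set ↑(f.fiber (f η)))
  obtain ⟨n, hn, ⟨w, hw, hwx, hwn⟩, -⟩ := FibreDim.exists_fibreDimAt_eq f x
  have h0 : n = 0 := by
    by_cases hmax : FibDim.IsMax' w
    · have h := hqf w hmax
      rw [FibreDim.fibreDimAt_of_maximal f w fun z _ hz => hmax z (specializes_iff_mem_closure.2 hz), hwn] at h
      exact Nat.le_zero.1 (by exact_mod_cast h)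
    haveI : IsNoetherianRing (Y.presheaf.stalk (f w)) := by rw [show f w = f x from hw]; infer_instance
    have h := DimInequality.fdim_add_one_le f w hmax 0 fun η hη _ => by
      rw [← FibreDim.fibreDimAt_of_maximal f η fun z _ hz => hη z (specializes_iff_mem_closure.2 hz), Nat.cast_zero]
      exact hqf η hη
    rw [show f w = f x from hw, hwn, Nat.cast_zero, add_zero] at h
    have h2 : n + 1 ≤ 1 := by exact_mod_cast h.trans hy
    omega
  subst h0
  let U : X.Opens := ⟨_, FibreSemi.isOpen_le f 0⟩
  haveI : LocallyOfFiniteType (U.ι ≫ f) := inferInstance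
  haveI : LocallyQuasiFinite (U.ι ≫ f) := (FibConstr.locallyQuasiFinite_iff_fibreDimAt (U.ι ≫ f)).2 fun a => by
    rw [GeomUnib.SectionBC.fibreDimAt_restrict (f := f) (f' := U.ι ≫ f) (j := U.ι) (i := 𝟙 Y) (Category.comp_id _) a]
    exact a.2
  exact (Scheme.Hom.quasiFiniteAt_comp_iff_of_isOpenImmersion (f := U.ι) (x := ⟨x, hn.le⟩)).1 ((U.ι ≫ f).quasiFiniteAt _)

end Groth.Agent.S1608
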