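import Groth.Statements.S16081
import Groth.Agent.RefHullLib.Reflexive
import Groth.Agent.DepthLib.ReflexiveDomain
import Groth.Agent.NegVanish.Syzygy
import Mathlib.AlgebraicGeometry.FunctionField

set_option autoImplicit false
set_option backward.isDefEq.respectTransparency false
universe u
open CategoryTheory CategoryTheory.Limits AlgebraicGeometry TopologicalSpace
open SDiv

namespace Groth.Agent.S16081

/-- Let X be an integral locally Noetherian scheme and F, G coherent O_X-modules with G reflexive. Then
the sheaf Hom 𝓗om_{O_X}(F, G) is reflexive: its canonical map into its reflexive hull is an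
isomorphism. -/
theorem result (X : Scheme.{u}) [IsIntegral X] [IsLocallyNoetherian X] (F G : X.Modules)
    (hF : Coh.IsCoh F) (hG : Coh.IsCoh G) (hGr : RefHull.IsReflexive G) :
    RefHull.IsReflexive (RefHull.homSh F G) := by
  rw [Groth.Agent.RefHullLib.isReflexive_iff _ (Groth.Agent.RefHullLib.isCoh_homSh hF hG)]
  intro x
  haveI := Groth.Agent.NegVanish.finite_stalk hF x
  haveI := Groth.Agent.NegVanish.finite_stalk hG x
  haveI : Module.IsReflexive (X.presheaf.stalk x) (G.presheaf.stalk x) :=
    (Groth.Agent.RefHullLib.isReflexive_iff G hG).mp hGr x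
  haveI : Module.IsReflexive (X.presheaf.stalk x) (RefHull.StalkHom F G x) :=
    Groth.Agent.DepthLib.isReflexive_linearMap _ _
  exact Module.equiv (LinearEquiv.ofBijective _
    (Groth.Agent.Ref1.evalStalk_bijective F G (Groth.Agent.QCohLib.isCoh_iff_isFP.mp hF) x)).symm

end Groth.Agent.S16081
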