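import Groth.Statements.S16084
import Groth.Agent.Ref1.Main

set_option autoImplicit false
universe u
open CategoryTheory CategoryTheory.Limits AlgebraicGeometry TopologicalSpace
open SDiv

namespace Groth.Agent.S16084

/-- Let X be an integral locally Noetherian normal scheme, F a rank one coherent reflexive O_X-module
and s a nonzero global section of F. Let Z be the set of points x at which multiplication by the
germ of s, O_{X,x} → F_x, fails to be bijective (the complement of the open where s generates F).
Then every irreducible component of Z has codimension 1 in X: at each point z of Z to which no other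
point of Z specializes, the local ring O_{X,z} has dimension 1. -/
theorem result (X : Scheme.{u}) [IsIntegral X] [IsLocallyNoetherian X]
    (hX : Pi1.IsNormalScheme X) (F : X.Modules) (hF : RefHull.IsRef1 F) (s : Γ(F, ⊤)) (hs : s ≠ 0) (z : ↥X)
    (hz : ¬ Function.Bijective fun a : ↑(X.presheaf.stalk z) => a • F.presheaf.germ ⊤ z trivial s)
    (hmax : ∀ y : ↥X, ¬ Function.Bijective (fun a : ↑(X.presheaf.stalk y) => a • F.presheaf.germ ⊤ y trivial s) →
      y ⤳ z → y = z) :
    ringKrullDim ↑(X.presheaf.stalk z) = 1 := by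
  open Groth.Agent.Ref1 Order in
  obtain ⟨t₀, D₀, -, -, hR₀⟩ := exists_rep_of_isRef1 hX hF
  obtain ⟨c, hc⟩ := hR₀.span (F.presheaf.germ ⊤ (genericPoint ↥X) trivial s)
  have hc0 : c ≠ 0 := fun e => hs (QCohLib.section_ext _ _ fun x hx => hR₀.inj x (by
    rw [sp_germ, hc, e, zero_smul, map_zero, map_zero]))
  have hR := hR₀.rescale hc0
  rw [← hc] at hR
  have key : ∀ (x : X) (a : X.presheaf.stalk x), sp F x (a • F.presheaf.germ ⊤ x trivial s) =
      algebraMap (X.presheaf.stalk x) X.functionField a •
        F.presheaf.germ ⊤ (genericPoint ↥X) trivial s := fun x a =>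
    (sp_smul _ x a _).trans (congrArg _ (sp_germ (U := ⊤) F x trivial s))
  have hbad : ∃ y, y ⤳ z ∧ coheight y = 1 ∧ D₀ y + Scheme.ord c y ≠ 0 := by
    by_contra hne
    push Not at hne
    refine hz ⟨fun a b e => ?_, fun m => ?_⟩
    · have e' := congrArg (sp F z) e
      rw [key, key] at e'
      exact algebraMap_stalk_injective z (hR.cancel e')
    · obtain ⟨b, hb⟩ := hR.span (sp F z m)
      obtain ⟨a, rfl⟩ := (inLat_zero_iff hX z b hne).mp ((hR.img z b).mp ⟨m, hb⟩)
      exact ⟨a, hR.inj z ((key z a).trans hb.symm)⟩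
  obtain ⟨y, hyz, hy1, hD⟩ := hbad
  have hy : y = z := hmax y (fun hb => hD (by
    have hge : 0 ≤ D₀ y + Scheme.ord c y := by
      have h := ((inLat_iff_ge hy1 1).mp ((hR.img y 1).mp ⟨_, (sp_germ (U := ⊤) F y trivial _).trans
        (one_smul _ _).symm⟩)).resolve_left one_ne_zero
      rw [ord_one] at h
      simp only at h
      omega
    obtain ⟨v, hv, hv1⟩ := exists_ord_eq hX hy1 (-(D₀ y + Scheme.ord c y))
    obtain ⟨m, hm⟩ := (hR.img y v).mpr ((inLat_iff_ge hy1 v).mpr (Or.inr hv1.ge))
    obtain ⟨a, rfl⟩ := hb.2 m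
    rw [key] at hm
    have h3 := hR.cancel hm
    have h4 := ord_algebraMap_nonneg (y := y) (a := a) fun e => hv (by rw [← h3, e, map_zero])
    rw [h3, hv1] at h4
    omega)) hyz
  rw [← hy]
  rw [ringKrullDim_stalk_eq_coheight, hy1]
  rfl

end Groth.Agent.S16084
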