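import Groth.Statements.S16085
import Groth.Agent.Ref1.Classes

set_option autoImplicit false
universe u
open CategoryTheory CategoryTheory.Limits AlgebraicGeometry TopologicalSpace
open SDiv

namespace Groth.Agent.S16085

/-- Let X be an integral locally Noetherian normal scheme. Sending (F, G) to the reflexive hull (F
⊗_{O_X} G)^** makes the isomorphism classes of rank one coherent reflexive O_X-modules into an
abelian group: on that set there are a commutative and associative composition law, a neutral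
element and inverses, such that the product of the classes of F and G is the class of the reflexive
hull of F ⊗_{O_X} G, the neutral element is the class of O_X, and the inverse of the class of F is
the class of its dual 𝓗om_{O_X}(F, O_X). -/
theorem result (X : Scheme.{u}) [IsIntegral X] [IsLocallyNoetherian X] (hX : Pi1.IsNormalScheme X) :
    ∃ (mul : {c : PicF.Cl X // ∃ F : X.Modules, PicF.cl F = c ∧ RefHull.IsRef1 F} →
          {c : PicF.Cl X // ∃ F : X.Modules, PicF.cl F = c ∧ RefHull.IsRef1 F} →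
            {c : PicF.Cl X // ∃ F : X.Modules, PicF.cl F = c ∧ RefHull.IsRef1 F})
      (one : {c : PicF.Cl X // ∃ F : X.Modules, PicF.cl F = c ∧ RefHull.IsRef1 F})
      (inv : {c : PicF.Cl X // ∃ F : X.Modules, PicF.cl F = c ∧ RefHull.IsRef1 F} →
          {c : PicF.Cl X // ∃ F : X.Modules, PicF.cl F = c ∧ RefHull.IsRef1 F}),
      (∀ a b, mul a b = mul b a) ∧ (∀ a b c, mul (mul a b) c = mul a (mul b c)) ∧ (∀ a, mul one a = a) ∧
        (∀ a, mul (inv a) a = one) ∧
        (∀ (F G : X.Modules) (hF : RefHull.IsRef1 F) (hG : RefHull.IsRef1 G),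
          (mul ⟨PicF.cl F, F, rfl, hF⟩ ⟨PicF.cl G, G, rfl, hG⟩).1 = PicF.cl (RefHull.ddual (CohB1.tensorMod F G))) ∧
        one.1 = PicF.cl (Coh.structureModule X) ∧
        (∀ (F : X.Modules) (hF : RefHull.IsRef1 F), (inv ⟨PicF.cl F, F, rfl, hF⟩).1 = PicF.cl (RefHull.dual F)) := by
  open Groth.Agent.Ref1 in
  choose rep hrep hR using
    fun a : {c : PicF.Cl X // ∃ F : X.Modules, PicF.cl F = c ∧ RefHull.IsRef1 F} => a.2
  choose D hD using fun a => exists_hasDiv hX (hR a)
  have back : ∀ (F : X.Modules) (hF : ∃ G : X.Modules, PicF.cl G = PicF.cl F ∧ RefHull.IsRef1 G)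
      (E : X → ℤ), HasDiv F E → HasDiv (rep ⟨PicF.cl F, hF⟩) E := fun F hF E h => by
    obtain ⟨e⟩ := nonempty_iso_of_cl_eq (hrep ⟨PicF.cl F, hF⟩).symm
    exact h.of_iso e
  refine ⟨fun a b => ⟨_, _, rfl, ((hD a).tensor hX (hD b)).isRef1 hX⟩,
    ⟨_, _, rfl, (hasDiv_structureModule hX).isRef1 hX⟩,
    fun a => ⟨_, _, rfl, ((hD a).dual hX).isRef1 hX⟩, fun a b => ?_, fun a b c => ?_, fun a => ?_,
    fun a => ?_, fun F G hF hG => ?_, rfl, fun F hF => ?_⟩
  · exact Subtype.ext (((hD a).tensor hX (hD b)).cl_eq ((hD b).tensor hX (hD a)) fun y => add_comm _ _)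
  · exact Subtype.ext (((back _ _ _ ((hD a).tensor hX (hD b))).tensor hX (hD c)).cl_eq
      ((hD a).tensor hX (back _ _ _ ((hD b).tensor hX (hD c)))) fun y => add_assoc _ _ _)
  · exact Subtype.ext ((((back _ _ _ (hasDiv_structureModule hX)).tensor hX (hD a)).cl_eq (hD a)
      fun y => zero_add _).trans (hrep a))
  · exact Subtype.ext (((back _ _ _ ((hD a).dual hX)).tensor hX (hD a)).cl_eq
      (hasDiv_structureModule hX) fun y => neg_add_cancel _)
  · obtain ⟨E₁, h₁⟩ := exists_hasDiv hX hF
    obtain ⟨E₂, h₂⟩ := exists_hasDiv hX hG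
    exact ((back F _ _ h₁).tensor hX (back G _ _ h₂)).cl_eq (h₁.tensor hX h₂) fun y => rfl
  · obtain ⟨E, h⟩ := exists_hasDiv hX hF
    exact ((back F _ _ h).dual hX).cl_eq (h.dual hX) fun y => rfl

end Groth.Agent.S16085
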