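import Groth.Statements.S16086
import Groth.Agent.Ref1.Main

set_option autoImplicit false
universe u
open CategoryTheory CategoryTheory.Limits AlgebraicGeometry TopologicalSpace
open SDiv

namespace Groth.Agent.S16086

/-- The class map is well defined and injective: fix a scheme X that is integral, normal and locally
Noetherian, and write η for its generic point; suppose F and G are rank one coherent reflexive
O_X-modules and let s ∈ F_η and t ∈ G_η be nonzero rational sections. At a point x of codimension 1
the stalks F_x, G_x are free of rank one over the discrete valuation ring O_{X,x}, so s and t have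
orders ord_{x,F}(s), ord_{x,G}(t). Then F ≅ G if and only if the Weil divisors of s and t are
linearly equivalent: for some nonzero rational function f one has ord_{x,F}(s) = ord_{x,G}(t) +
ord_x(f) at every point x of codimension 1. -/
theorem result (X : Scheme.{u}) [IsIntegral X] [IsLocallyNoetherian X]
    (hX : Pi1.IsNormalScheme X) (F G : X.Modules) (hF : RefHull.IsRef1 F) (hG : RefHull.IsRef1 G)
    (s : Cyc.secFibre F (genericPoint ↥X)) (hs : s ≠ 0) (t : Cyc.secFibre G (genericPoint ↥X)) (ht : t ≠ 0) :
    Nonempty (F ≅ G) ↔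
      ∃ f : ↑X.functionField, f ≠ 0 ∧
        ∀ (x : ↥X), Order.coheight x = 1 →
          Cyc.secOrdAt F (genericPoint ↥X) x ((genericPoint_spec ↥X).specializes (Set.mem_univ x)) s =
            Cyc.secOrdAt G (genericPoint ↥X) x ((genericPoint_spec ↥X).specializes (Set.mem_univ x)) t +
              Scheme.ord f x := by
  obtain ⟨t₁, D₁, rfl, -, -, h₁, ho₁⟩ := Groth.Agent.Ref1.exists_rep_of_section hX hF s hs
  obtain ⟨t₂, D₂, rfl, -, -, h₂, ho₂⟩ := Groth.Agent.Ref1.exists_rep_of_section hX hG t ht
  constructor
  · rintro ⟨e⟩
    have h := h₁.transport e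
    obtain ⟨f, hf⟩ := h₂.span (Groth.Agent.QCohLib.stalkLinearMap e.hom (genericPoint ↥X) t₁)
    rw [hf] at h
    have hf0 : f ≠ 0 := fun e0 => one_ne_zero (h.free 1 (by rw [e0, zero_smul, smul_zero]))
    refine ⟨f, hf0, fun x hx => ?_⟩
    rw [ho₁ x _ hx, ho₂ x _ hx]
    exact h.unique hX (h₂.rescale hf0) hx
  · rintro ⟨f, hf, h⟩
    refine h₁.exists_iso (h₂.rescale hf) fun x hx => ?_
    have := h x hx
    rw [ho₁ x _ hx, ho₂ x _ hx] at this
    exact this

end Groth.Agent.S16086
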