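import Groth.Statements.S16087
import Groth.Agent.Ref1.Main

set_option autoImplicit false
universe u
open CategoryTheory CategoryTheory.Limits AlgebraicGeometry TopologicalSpace
open SDiv

namespace Groth.Agent.S16087

/-- The class map takes values in Weil divisor classes and is surjective: suppose X is a normal scheme
that is integral and locally Noetherian, and denote its generic point by η. For a rank one coherent
reflexive O_X-module F and a nonzero rational section s ∈ F_η write ord_{x,F}(s) for the order of s
with respect to a generator of the free rank one O_{X,x}-module F_x at a point x of codimension 1.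
Then (1) the function sending a codimension-1 point x to ord_{x,F}(s) and every other point to 0 has
locally finite support, so it is a Weil divisor; and (2) every Weil divisor D on X (an
integer-valued function with locally finite support vanishing outside the codimension-1 points)
arises this way: D(x) = ord_{x,F}(s) at all codimension-1 points x for some rank one coherent
reflexive F and nonzero s ∈ F_η. -/
theorem result (X : Scheme.{u}) [IsIntegral X] [IsLocallyNoetherian X]
    (hX : Pi1.IsNormalScheme X) :
    (∀ (F : X.Modules) (hF : RefHull.IsRef1 F) (s : Cyc.secFibre F (genericPoint ↥X)), s ≠ 0 →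
        ∃ D : AlgebraicCycle X ℤ, (∀ x : ↥X, Order.coheight x ≠ 1 → D x = 0) ∧
          ∀ (x : ↥X), Order.coheight x = 1 →
            D x = Cyc.secOrdAt F (genericPoint ↥X) x ((genericPoint_spec ↥X).specializes (Set.mem_univ x)) s) ∧
      ∀ D : AlgebraicCycle X ℤ, (∀ x : ↥X, Order.coheight x ≠ 1 → D x = 0) →
        ∃ (F : X.Modules) (_ : RefHull.IsRef1 F) (s : Cyc.secFibre F (genericPoint ↥X)), s ≠ 0 ∧
          ∀ (x : ↥X), Order.coheight x = 1 →
            D x = Cyc.secOrdAt F (genericPoint ↥X) x ((genericPoint_spec ↥X).specializes (Set.mem_univ x)) s := by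
  refine ⟨fun F hF s hs => ?_, fun D hD => ?_⟩
  · obtain ⟨t, D, -, hfin, h0, -, hord⟩ := Groth.Agent.Ref1.exists_rep_of_section hX hF s hs
    refine ⟨⟨D, fun _ _ => trivial, fun z _ => ?_⟩, h0, fun x hx => (hord x _ hx).symm⟩
    obtain ⟨W, hW, hzW, -⟩ := exists_isAffineOpen_mem_and_subset (X := X) (x := z) (U := ⊤) trivial
    refine ⟨W, W.2.mem_nhds hzW, (hfin W hW).subset fun y hy => ⟨hy.1, ?_, hy.2⟩⟩
    by_contra h
    exact hy.2 (h0 y h)
  · have hfin : Groth.Agent.Ref1.Fin (⇑D) := fun W hW =>
      (LocallyFiniteSupport.finite_inter_support_of_isCompact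
        (fun z => D.supportLocallyFiniteWithinDomain' z trivial) hW.isCompact).subset
        fun y hy => ⟨hy.1, hy.2.2⟩
    obtain ⟨s, hs⟩ := Groth.Agent.Ref1.rep_Sh hX hfin
    exact ⟨_, hs.isRef1 hX hfin, Submodule.Quotient.mk s, hs.mk_ne_zero,
      fun x hx => (hs.secOrdAt_self hX hx _).symm⟩

end Groth.Agent.S16087
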