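import Groth.Statements.S16092
import Groth.Agent.Ref1.SecOrd
import Groth.Agent.ProjCoh.TensorSections
import Groth.Agent.InvBasic.Basic

set_option autoImplicit false
universe u
open CategoryTheory CategoryTheory.Limits AlgebraicGeometry TopologicalSpace
open SDiv

namespace Groth.Agent.S16092

theorem ordFrac_mul (R : Type u) [CommRing R] (K : Type u) [Field K] [Algebra R K] {f g : K}
    (hf : f ≠ 0) (hg : g ≠ 0) :
    CycAlg.ordFrac R K (f * g) = CycAlg.ordFrac R K f + CycAlg.ordFrac R K g := by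
  unfold CycAlg.ordFrac
  split_ifs with h
  · obtain ⟨_, _, _, _⟩ := h
    have : IsDomain R := (IsFractionRing.injective R K).isDomain
    obtain ⟨a, ha⟩ := WithZero.ne_zero_iff_exists.mp ((map_ne_zero (Ring.ordFrac R (K := K))).mpr hf)
    obtain ⟨b, hb⟩ := WithZero.ne_zero_iff_exists.mp ((map_ne_zero (Ring.ordFrac R (K := K))).mpr hg)
    rw [map_mul, ← ha, ← hb, ← WithZero.coe_mul]
    rfl
  · simp

theorem ordFrac_of_isUnit (R : Type u) [CommRing R] (K : Type u) [Field K] [Algebra R K] {r : R}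
    (hr : IsUnit r) : CycAlg.ordFrac R K (algebraMap R K r) = 0 := by
  unfold CycAlg.ordFrac
  split_ifs with h
  · obtain ⟨_, _, _, _⟩ := h
    have : IsDomain R := (IsFractionRing.injective R K).isDomain
    rw [Ring.ordFrac_of_isUnit hr]
    rfl
  · rfl

variable {X : Scheme.{u}} [IsIntegral X]

theorem ordAt_mul {x : X} (h : genericPoint ↥X ⤳ x) {a b : X.functionField} (ha : a ≠ 0) (hb : b ≠ 0) :
    Cyc.ordAt x (genericPoint ↥X) h (X.residue (genericPoint ↥X) (a * b)) =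
      Cyc.ordAt x (genericPoint ↥X) h (X.residue (genericPoint ↥X) a) +
        Cyc.ordAt x (genericPoint ↥X) h (X.residue (genericPoint ↥X) b) := by
  have hne : ∀ {c : X.functionField}, c ≠ 0 → X.residue (genericPoint ↥X) c ≠ 0 := fun hc e =>
    hc (Ref1.residue_eta_bijective.1 (e.trans (map_zero _).symm))
  rw [Cyc.ordAt, Cyc.ordAt, Cyc.ordAt, ← ordFrac_mul _ _ (hne ha) (hne hb)]
  exact congrArg _ (map_mul (X.residue (genericPoint ↥X)).hom a b)

set_option maxHeartbeats 1600000 in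
theorem secOrdAt_basis {L : X.Modules} {U : X.Opens} {ℓ : Γ(L, U)} (hb : InvBasic.IsBasis L ℓ) {x : X}
    (hx : x ∈ U) (h : genericPoint ↥X ⤳ x) {φ : X.functionField} (hφ : φ ≠ 0) :
    Cyc.secOrdAt L (genericPoint ↥X) x h
        (Submodule.Quotient.mk (φ • L.presheaf.germ U (genericPoint ↥X) (Ref1.eta_mem hx) ℓ)) =
      Cyc.ordAt x (genericPoint ↥X) h (X.residue (genericPoint ↥X) φ) := by
  have hbx := hb.stalk_bijective hx
  have hbη := hb.stalk_bijective (Ref1.eta_mem hx)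
  have ht : ∃ t : L.presheaf.stalk x, Submodule.span (X.presheaf.stalk x) {t} = ⊤ :=
    ⟨L.presheaf.germ U x hx ℓ, eq_top_iff.mpr fun m _ => Submodule.mem_span_singleton.mpr (hbx.2 m)⟩
  rw [Cyc.secOrdAt, dif_pos ht]
  obtain ⟨u, hu⟩ := hbx.2 (Classical.choose ht)
  obtain ⟨v, hv⟩ := Submodule.mem_span_singleton.mp
    (eq_top_iff.mp (Classical.choose_spec ht) (x := L.presheaf.germ U x hx ℓ) trivial)
  have huu : IsUnit u := isUnit_iff_exists_inv'.mpr ⟨v, hbx.1
    ((mul_smul v u _).trans (((congrArg (v • ·) hu).trans hv).trans (one_smul _ _).symm))⟩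
  have hsp : L.presheaf.stalkSpecializes h (Classical.choose ht) =
      algebraMap (X.presheaf.stalk x) X.functionField u •
        L.presheaf.germ U (genericPoint ↥X) (Ref1.eta_mem hx) ℓ :=
    (congrArg (Ref1.sp L x) hu).symm.trans ((Ref1.sp_smul L x u _).trans (congrArg _ (Ref1.sp_germ L x hx ℓ)))
  have hu0 : algebraMap (X.presheaf.stalk x) X.functionField u ≠ 0 := (huu.map _).ne_zero
  have hex : ∃ ψ : X.presheaf.stalk (genericPoint ↥X),
      (Submodule.Quotient.mk (φ • L.presheaf.germ U (genericPoint ↥X) (Ref1.eta_mem hx) ℓ) :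
        Cyc.secFibre L (genericPoint ↥X)) =
      ψ • (Submodule.Quotient.mk ((L.presheaf.stalkSpecializes h) (Classical.choose ht))) := by
    refine ⟨φ * (algebraMap (X.presheaf.stalk x) X.functionField u)⁻¹, ?_⟩
    rw [hsp, ← Submodule.Quotient.mk_smul, ← mul_smul]
    congr 1
    exact congrArg (· • _) (inv_mul_cancel_right₀ hu0 φ).symm
  rw [dif_pos hex]
  have hψ := (Classical.choose_spec hex).trans (congrArg
    (fun z => Classical.choose hex • (Submodule.Quotient.mk z : Cyc.secFibre L (genericPoint ↥X))) hsp)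
  rw [← Submodule.Quotient.mk_smul, ← mul_smul] at hψ
  have e := hbη.1 ((Ref1.secFibre_mk_bijective L).1 hψ)
  have hψ0 : (Classical.choose hex : X.functionField) ≠ 0 := fun h0 => hφ (e.trans (by rw [h0, zero_mul]))
  conv_rhs => rw [e]
  rw [ordAt_mul h hψ0 hu0]
  refine (add_eq_left.mpr ?_).symm
  exact ordFrac_of_isUnit (Cyc.LocQuot x (genericPoint ↥X) h) _
    (huu.map (Ideal.Quotient.mk (RingHom.ker (Cyc.specMap x (genericPoint ↥X) h))))

/-- Let X be an integral scheme that is locally Noetherian, with generic point η, let L and N be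
invertible O_X-modules and s ∈ L_η, t ∈ N_η nonzero rational sections, with orders ord_{x,L}(s),
ord_{x,N}(t) along the prime divisors, i.e. at the points x with dim O_{X,x} = 1, taken with respect
to generators of the stalks. Then L ⊗_{O_X} N has a nonzero rational section w with ord_{x,L ⊗ N}(w)
= ord_{x,L}(s) + ord_{x,N}(t) at every such x; hence the Weil divisor class of L ⊗ N is the sum of
the classes of L and N. The published statement names w as the product s·t; here only the existence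
of such a w is asserted. -/
theorem result (X : Scheme.{u}) [IsIntegral X] [IsLocallyNoetherian X] (L N : X.Modules)
    (hL : PicF.IsInvertible L) (hN : PicF.IsInvertible N) (s : Cyc.secFibre L (genericPoint ↥X)) (hs : s ≠ 0)
    (t : Cyc.secFibre N (genericPoint ↥X)) (ht : t ≠ 0) :
    ∃ w : Cyc.secFibre (CohB1.tensorMod L N) (genericPoint ↥X), w ≠ 0 ∧
      ∀ (x : ↥X), ringKrullDim ↑(X.presheaf.stalk x) = 1 →
        Cyc.secOrdAt (CohB1.tensorMod L N) (genericPoint ↥X) x ((genericPoint_spec ↥X).specializes (Set.mem_univ x)) w =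
          Cyc.secOrdAt L (genericPoint ↥X) x ((genericPoint_spec ↥X).specializes (Set.mem_univ x)) s +
            Cyc.secOrdAt N (genericPoint ↥X) x ((genericPoint_spec ↥X).specializes (Set.mem_univ x)) t := by
  obtain ⟨s', rfl⟩ := Submodule.Quotient.mk_surjective _ s
  obtain ⟨t', rfl⟩ := Submodule.Quotient.mk_surjective _ t
  obtain ⟨U₀, hx₀, ℓ₀, hℓ₀⟩ := InvBasic.exists_isBasis hL (genericPoint ↥X)
  obtain ⟨V₀, hy₀, g₀, hg₀⟩ := InvBasic.exists_isBasis hN (genericPoint ↥X)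
  have hη : genericPoint ↥X ∈ U₀ ⊓ V₀ := ⟨hx₀, hy₀⟩
  have key : ∀ {x : X} {O : X.Opens} (hxO : x ∈ O) {ℓ : Γ(L, O)} {g : Γ(N, O)},
      InvBasic.IsBasis L ℓ → InvBasic.IsBasis N g →
      InvBasic.IsBasis (CohB1.tensorMod L N) (U := O) (SecTwist.tmul L N O ℓ g) := by
    intro x O hxO ℓ g hℓ hg W hW
    have e : (fun r : Γ(X, W) => r • (CohB1.tensorMod L N).presheaf.map (homOfLE hW).op
        (show Γ(CohB1.tensorMod L N, O) from SecTwist.tmul L N O ℓ g)) =
        (fun m => SecTwist.tmul L N W m (N.presheaf.map (homOfLE hW).op g)) ∘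
          (fun r : Γ(X, W) => r • L.presheaf.map (homOfLE hW).op ℓ) := funext fun r =>
      (congrArg (r • ·) (ProjCoh.map_tmul_gen L N hW ℓ g)).trans
        (ProjCoh.tmul_smul_left L N W r _ _).symm
    rw [e]
    exact (ProjCoh.tmul_gen_bijective L hg hW).comp (hℓ W hW)
  let T := CohB1.tensorMod L N
  let ℓ₁ : Γ(L, U₀ ⊓ V₀) := L.presheaf.map (homOfLE inf_le_left).op ℓ₀
  let g₁ : Γ(N, U₀ ⊓ V₀) := N.presheaf.map (homOfLE inf_le_right).op g₀
  have hℓ₁ : InvBasic.IsBasis L ℓ₁ := hℓ₀.restrict inf_le_left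
  have hg₁ : InvBasic.IsBasis N g₁ := hg₀.restrict inf_le_right
  obtain ⟨a, rfl⟩ := (hℓ₁.stalk_bijective hη).2 s'
  obtain ⟨b, rfl⟩ := (hg₁.stalk_bijective hη).2 t'
  let τ : T.presheaf.stalk (genericPoint ↥X) :=
    T.presheaf.germ (U₀ ⊓ V₀) _ hη (SecTwist.tmul L N (U₀ ⊓ V₀) ℓ₁ g₁)
  have ha : (a : X.functionField) ≠ 0 := fun e => hs (by subst e; simp only [zero_smul]; rfl)
  have hb : (b : X.functionField) ≠ 0 := fun e => ht (by subst e; simp only [zero_smul]; rfl)
  have hab : (a * b : X.functionField) ≠ 0 := mul_ne_zero ha hb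
  refine ⟨Submodule.Quotient.mk ((show X.functionField from a * b) • τ), fun e => ?_, fun x hx => ?_⟩
  · have e' : (show X.functionField from a * b) • τ = 0 :=
      (Ref1.secFibre_mk_bijective T).1 (e.trans (Submodule.Quotient.mk_zero _).symm)
    exact hab (((key hη hℓ₁ hg₁).stalk_bijective hη).1 (e'.trans (zero_smul _ τ).symm))
  obtain ⟨U, hxU, ℓ, hℓ⟩ := InvBasic.exists_isBasis hL x
  obtain ⟨V, hxV, g, hg⟩ := InvBasic.exists_isBasis hN x
  let ℓ' : Γ(L, U ⊓ V) := L.presheaf.map (homOfLE inf_le_left).op ℓ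
  let g' : Γ(N, U ⊓ V) := N.presheaf.map (homOfLE inf_le_right).op g
  have hℓ' : InvBasic.IsBasis L ℓ' := hℓ.restrict inf_le_left
  have hg' : InvBasic.IsBasis N g' := hg.restrict inf_le_right
  have hxO : x ∈ U ⊓ V := ⟨hxU, hxV⟩
  let O := (U₀ ⊓ V₀) ⊓ (U ⊓ V)
  have hηO : genericPoint ↥X ∈ O := ⟨hη, Ref1.eta_mem hxO⟩
  obtain ⟨c, hc⟩ := (hℓ' O inf_le_right).2 (L.presheaf.map (homOfLE inf_le_left).op ℓ₁)
  obtain ⟨d, hd⟩ := (hg' O inf_le_right).2 (N.presheaf.map (homOfLE inf_le_left).op g₁)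
  let cη : X.functionField := X.presheaf.germ O (genericPoint ↥X) hηO c
  let dη : X.functionField := X.presheaf.germ O (genericPoint ↥X) hηO d
  have hc' : L.presheaf.germ _ _ hη ℓ₁ = cη • L.presheaf.germ _ _ (Ref1.eta_mem hxO) ℓ' := by
    refine ((TopCat.Presheaf.germ_res_apply L.presheaf (homOfLE (inf_le_left : O ≤ U₀ ⊓ V₀)) _ hηO ℓ₁).symm.trans
      (congrArg (L.presheaf.germ O _ hηO) hc).symm).trans ?_
    exact (InvBasic.germ_smul L O _ hηO c _).trans (congrArg (cη • ·)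
      (TopCat.Presheaf.germ_res_apply L.presheaf (homOfLE (inf_le_right : O ≤ U ⊓ V)) _ hηO ℓ'))
  have hd' : N.presheaf.germ _ _ hη g₁ = dη • N.presheaf.germ _ _ (Ref1.eta_mem hxO) g' := by
    refine ((TopCat.Presheaf.germ_res_apply N.presheaf (homOfLE (inf_le_left : O ≤ U₀ ⊓ V₀)) _ hηO g₁).symm.trans
      (congrArg (N.presheaf.germ O _ hηO) hd).symm).trans ?_
    exact (InvBasic.germ_smul N O _ hηO d _).trans (congrArg (dη • ·)
      (TopCat.Presheaf.germ_res_apply N.presheaf (homOfLE (inf_le_right : O ≤ U ⊓ V)) _ hηO g'))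
  have hτ : τ = (cη * dη) • T.presheaf.germ (U ⊓ V) _ (Ref1.eta_mem hxO) (SecTwist.tmul L N (U ⊓ V) ℓ' g') := by
    have e1 := ProjCoh.map_tmul_gen L N (inf_le_left : O ≤ U₀ ⊓ V₀) ℓ₁ g₁
    rw [← hc, ← hd, ProjCoh.tmul_smul_right, ProjCoh.tmul_smul_left, ProjCoh.tmul_smul_left] at e1
    have e2 := congrArg (T.presheaf.germ O _ hηO) (e1.trans (congrArg (fun z => d • c • z)
      (ProjCoh.map_tmul_gen L N (inf_le_right : O ≤ U ⊓ V) ℓ' g').symm))
    rw [InvBasic.germ_smul, InvBasic.germ_smul] at e2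
    refine ((TopCat.Presheaf.germ_res_apply T.presheaf (homOfLE (inf_le_left : O ≤ U₀ ⊓ V₀)) _ hηO _).symm.trans e2).trans ?_
    refine ((mul_smul dη cη _).symm.trans (congrArg (fun r : X.functionField => r • _) (mul_comm dη cη))).trans ?_
    exact congrArg ((cη * dη) • ·) (TopCat.Presheaf.germ_res_apply T.presheaf (homOfLE (inf_le_right : O ≤ U ⊓ V)) _ hηO _)
  have hc0 : cη ≠ 0 := fun e => hs (by beta_reduce; rw [hc', e, zero_smul, smul_zero]; rfl)
  have hd0 : dη ≠ 0 := fun e => ht (by beta_reduce; rw [hd', e, zero_smul, smul_zero]; rfl)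
  rw [hτ, ← mul_smul, secOrdAt_basis (key hxO hℓ' hg') hxO _ (mul_ne_zero hab (mul_ne_zero hc0 hd0))]
  beta_reduce
  rw [hc', hd', ← mul_smul, ← mul_smul, secOrdAt_basis hℓ' hxO _ (mul_ne_zero ha hc0),
    secOrdAt_basis hg' hxO _ (mul_ne_zero hb hd0)]
  rw [← ordAt_mul _ (mul_ne_zero ha hc0) (mul_ne_zero hb hd0)]
  congr 2
  ring

end Groth.Agent.S16092
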