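import Groth.Statements.S16099
import Groth.Agent.FunFld.Rational
import Groth.Agent.FunFld.RR
-- import your own Groth.Agent.* helpers here

set_option autoImplicit false
universe u
open FunFld

namespace Groth.Agent.S16099

/-- For a function field `K/k` of one variable of genus `g` and any place `P`, the `k`-space `K /
(O_{\{P\}} + O_P)` is finite-dimensional of dimension `g` (the number of Weierstrass gaps when `P`
is rational), where `O_{\{P\}}` is the ring of elements of `K` integral at every place other than
`P` and `O_P` is the valuation ring of `P` (written as the elements integral at every place outside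
the complement of `\{P\}`). (The published example is for a curve over an algebraically closed field
and is stated with completions at `P`; this is the equivalent form inside `K`, over any field `k`
algebraically closed in `K`.) -/
theorem result (k K : Type u) [Field k] [Field K]
    [Algebra k K] (hK : FunFld.IsFunctionField k K) (P : FunFld.Place k K) :
    FiniteDimensional k (K ⧸ (Subalgebra.toSubmodule (AdFn.SInt ({P} : Set (FunFld.Place k K))) ⊔
        Subalgebra.toSubmodule (AdFn.SInt (({P} : Set (FunFld.Place k K))ᶜ)))) ∧
    Module.finrank k (K ⧸ (Subalgebra.toSubmodule (AdFn.SInt ({P} : Set (FunFld.Place k K))) ⊔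
        Subalgebra.toSubmodule (AdFn.SInt (({P} : Set (FunFld.Place k K))ᶜ)))) = FunFld.genus k K := by
  classical
  obtain ⟨hfin, hrank⟩ := FunFldLib.finrank_adele_quotient hK (0 : FunFld.Divisor k K)
  have hsingle : ∀ x : K, Pi.single P x ∈ FunFld.adele k K := fun x =>
    Filter.eventually_cofinite.2 ((Set.finite_singleton P).subset fun Q hQ => by
      by_contra hQP
      have h1 : (Pi.single P x : FunFld.Place k K → K) Q = 0 := Pi.single_eq_of_ne hQP _
      simp [h1] at hQ)
  let f : K →ₗ[k] ↥(FunFld.adele k K) ⧸ FunFld.ADK (0 : FunFld.Divisor k K) :=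
    (Submodule.mkQ _).comp ((LinearMap.single k (fun _ : FunFld.Place k K => K) P).codRestrict _ hsingle)
  have hker : Subalgebra.toSubmodule (AdFn.SInt ({P} : Set (FunFld.Place k K))) ⊔
      Subalgebra.toSubmodule (AdFn.SInt (({P} : Set (FunFld.Place k K))ᶜ)) = LinearMap.ker f := by
    ext x
    have hmem : x ∈ LinearMap.ker f ↔ (Pi.single P x : FunFld.Place k K → K) ∈
        FunFld.AD (0 : FunFld.Divisor k K) ⊔ LinearMap.range (FunFld.diag k K) :=
      Submodule.Quotient.mk_eq_zero (FunFld.ADK (0 : FunFld.Divisor k K))
    rw [hmem]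
    simp only [Submodule.mem_sup, Subalgebra.mem_toSubmodule, AdFn.mem_SInt,
      LinearMap.mem_range, exists_exists_eq_and]
    constructor
    · rintro ⟨y, hy, z, hz, rfl⟩
      refine ⟨Pi.single P (y + z) - FunFld.diag k K y, fun Q => ?_, y, sub_add_cancel _ _⟩
      rw [Finsupp.zero_apply, WithZero.exp_zero, Pi.sub_apply, FunFldLib.diag_apply]
      rcases eq_or_ne Q P with rfl | hQ
      · rw [Pi.single_eq_same, add_sub_cancel_left]; exact hz Q (by simp)
      · rw [Pi.single_eq_of_ne hQ, zero_sub, Valuation.map_neg]; exact hy Q (by simpa using hQ)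
    · rintro ⟨b, hb, y, hby⟩
      have hQy : ∀ Q, b Q = (Pi.single P x : FunFld.Place k K → K) Q - y := fun Q => by
        have h1 : b Q + y = (Pi.single P x : FunFld.Place k K → K) Q := congrFun hby Q
        rw [← h1]; ring
      refine ⟨y, fun Q hQ => ?_, x - y, fun Q hQ => ?_, add_sub_cancel _ _⟩
      · have h1 := hb Q
        rw [hQy, Pi.single_eq_of_ne (by simpa using hQ), zero_sub, Valuation.map_neg] at h1
        simpa using h1
      · obtain rfl : Q = P := by simpa using hQ
        have h1 := hb Q
        rw [hQy, Pi.single_eq_same] at h1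
        simpa using h1
  have hsurj : Function.Surjective f := by
    intro q
    induction q using Submodule.Quotient.induction_on with
    | _ a =>
      obtain ⟨N, hN⟩ := FunFldLib.riemann_eventually hK
      obtain ⟨b, hb, _, ⟨y, rfl⟩, hby⟩ := Submodule.mem_sup.1
        (FunFldLib.adele_le_of_delta_eq hK (hN (Finsupp.single P (max N 0)) (by
          rw [FunFldLib.deg_single]
          have h1 : max N 0 * 1 ≤ max N 0 * (P.deg : ℤ) :=
            mul_le_mul_of_nonneg_left (by have := FunFldLib.deg_pos hK P; omega) (le_max_right _ _)
          omega)) a.2)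
      refine ⟨b P, (Submodule.Quotient.eq _).2 (Submodule.mem_comap.2 ?_)⟩
      refine Submodule.mem_sup.2 ⟨Pi.single P (b P) - b, fun Q => ?_, -FunFld.diag k K y, ⟨-y, map_neg _ _⟩, ?_⟩
      · rw [Finsupp.zero_apply, WithZero.exp_zero, Pi.sub_apply]
        rcases eq_or_ne Q P with rfl | hQ
        · simp
        · rw [Pi.single_eq_of_ne hQ, zero_sub, Valuation.map_neg]
          simpa [Finsupp.single_eq_of_ne hQ] using hb Q
      · show Pi.single P (b P) - b + -FunFld.diag k K y = Pi.single P (b P) - a.1
        rw [← hby]; abel
  let e := (Submodule.quotEquivOfEq _ _ hker).trans (f.quotKerEquivOfSurjective hsurj)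
  refine ⟨Module.Finite.equiv e.symm, ?_⟩
  rw [e.finrank_eq]
  have h0 : FunFldLib.delta (0 : FunFld.Divisor k K) = 0 := by simp [FunFldLib.delta, FunFldLib.ell_zero hK]
  omega

end Groth.Agent.S16099
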