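import Groth.Statements.S16104
import Mathlib
-- import your own Groth.Agent.* helpers here

set_option autoImplicit false
universe u v
open LunaSt

namespace Groth.Agent.S16104

/-- Case of local rings. Let φ : A → B be a local homomorphism of Noetherian local rings whose composite
A → B/m_B² is surjective (the first infinitesimal neighbourhoods give a closed immersion), and
assume that A/m_A^(n+1) and B/m_B^(n+1) have the same length for every n (the associated graded
modules of the two maximal ideals have pieces of the same dimension over the common residue field).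
Then for every n the composite A → B/m_B^(n+1) is surjective with kernel m_A^(n+1): φ identifies all
infinitesimal neighbourhoods. (The published statement is for a pointed morphism of Noetherian local
algebraic stacks; its proof reduces to this case of local rings.) -/
theorem result
    (A : Type u) (B : Type v) [CommRing A] [CommRing B] [IsLocalRing A] [IsLocalRing B]
    [IsNoetherianRing A] [IsNoetherianRing B] (φ : A →+* B) [IsLocalHom φ]
    (h1 : Function.Surjective ((Ideal.Quotient.mk (IsLocalRing.maximalIdeal B ^ 2)).comp φ))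
    (hlen : ∀ n : ℕ, Module.length A (A ⧸ IsLocalRing.maximalIdeal A ^ (n + 1)) =
      Module.length B (B ⧸ IsLocalRing.maximalIdeal B ^ (n + 1))) (n : ℕ) :
    Function.Surjective ((Ideal.Quotient.mk (IsLocalRing.maximalIdeal B ^ (n + 1))).comp φ) ∧
      RingHom.ker ((Ideal.Quotient.mk (IsLocalRing.maximalIdeal B ^ (n + 1))).comp φ) =
        IsLocalRing.maximalIdeal A ^ (n + 1) := by
  set mA := IsLocalRing.maximalIdeal A with hmA
  set mB := IsLocalRing.maximalIdeal B with hmB
  have hmap : mA.map φ ≤ mB := ((IsLocalRing.local_hom_TFAE φ).out 0 2).mp ‹_›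
  have hres : ∀ b : B, ∃ c : A, φ c - b ∈ mB := fun b => by
    obtain ⟨a, ha⟩ := h1 (Ideal.Quotient.mk _ b)
    rw [RingHom.comp_apply, Ideal.Quotient.eq] at ha
    exact ⟨a, Ideal.pow_le_self two_ne_zero ha⟩
  have hgen : mB = mA.map φ ⊔ mB ^ 2 := by
    refine le_antisymm (fun b hb => ?_) (sup_le hmap (Ideal.pow_le_self two_ne_zero))
    obtain ⟨a, ha⟩ := h1 (Ideal.Quotient.mk _ b)
    rw [RingHom.comp_apply, Ideal.Quotient.eq] at ha
    have hφa : φ a ∈ mB := by
      have := add_mem (Ideal.pow_le_self two_ne_zero ha : φ a - b ∈ mB) hb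
      rwa [sub_add_cancel] at this
    have haA : a ∈ mA := by
      by_contra hu
      exact (IsLocalRing.notMem_maximalIdeal.mpr ((IsLocalRing.notMem_maximalIdeal.mp hu).map φ)) hφa
    have : b = φ a + -(φ a - b) := by ring
    rw [this]
    exact Submodule.add_mem_sup (Ideal.mem_map_of_mem φ haA) (neg_mem ha)
  have hpow : ∀ k : ℕ, mB ^ k ≤ (mA ^ k).map φ ⊔ mB ^ (k + 1) := by
    intro k
    induction k with
    | zero => simp [Ideal.map_top]
    | succ k ih =>
      have hAk : (mA ^ k).map φ ≤ mB ^ k := by
        rw [Ideal.map_pow]; exact Ideal.pow_right_mono hmap k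
      calc mB ^ (k + 1) = mB ^ k * mB := pow_succ _ _
        _ ≤ ((mA ^ k).map φ ⊔ mB ^ (k + 1)) * mB := Ideal.mul_mono_left ih
        _ = (mA ^ k).map φ * (mA.map φ ⊔ mB ^ 2) ⊔ mB ^ (k + 1) * mB := by
              rw [← hgen, Ideal.sup_mul]
        _ ≤ (mA ^ (k + 1)).map φ ⊔ mB ^ (k + 1 + 1) := by
              rw [Ideal.mul_sup, ← Ideal.map_mul, ← pow_succ, ← pow_succ]
              refine sup_le (sup_le le_sup_left ?_) le_sup_right
              refine le_sup_of_le_right ((Ideal.mul_mono_left hAk).trans ?_)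
              rw [← pow_add]
  have hlift : ∀ k : ℕ, ∀ y ∈ mB ^ k, ∃ a : A, φ a - y ∈ mB ^ (k + 1) := by
    intro k y hy
    obtain ⟨y1, hy1, y2, hy2, rfl⟩ := Submodule.mem_sup.mp (hpow k hy)
    suffices h : ∃ a : A, φ a - y1 ∈ mB ^ (k + 1) by
      obtain ⟨a, ha⟩ := h
      exact ⟨a, by rw [← sub_sub]; exact sub_mem ha hy2⟩
    clear hy hy2 y2
    have : y1 ∈ mB ^ k ∧ ∃ a : A, φ a - y1 ∈ mB ^ (k + 1) := by
      induction hy1 using Submodule.span_induction with
      | mem x hx =>
        obtain ⟨a, ha, rfl⟩ := hx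
        refine ⟨?_, a, by simp⟩
        have := Ideal.mem_map_of_mem φ ha
        rw [Ideal.map_pow] at this
        exact Ideal.pow_right_mono hmap k this
      | zero => exact ⟨zero_mem _, 0, by simp⟩
      | add x z _ _ hx hz =>
        obtain ⟨hx1, a, ha⟩ := hx
        obtain ⟨hz1, c, hc⟩ := hz
        exact ⟨add_mem hx1 hz1, a + c, by
          have : φ (a + c) - (x + z) = (φ a - x) + (φ c - z) := by rw [map_add]; ring
          rw [this]; exact add_mem ha hc⟩
      | smul b x _ hx =>
        obtain ⟨hx1, a, ha⟩ := hx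
        obtain ⟨c, hc⟩ := hres b
        refine ⟨Submodule.smul_mem _ _ hx1, c * a, ?_⟩
        have : φ (c * a) - b • x = φ c * (φ a - x) + (φ c - b) * x := by
          rw [map_mul, smul_eq_mul]; ring
        rw [this, pow_succ']
        refine add_mem (Ideal.mul_mem_left _ _ ?_) (Ideal.mul_mem_mul hc hx1)
        rw [← pow_succ']; exact ha
    exact this.2
  have happrox : ∀ k : ℕ, ∀ b : B, ∃ a : A, φ a - b ∈ mB ^ k := by
    intro k
    induction k with
    | zero => exact fun b => ⟨0, by simp⟩
    | succ k ih =>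
      intro b
      obtain ⟨a, ha⟩ := ih b
      obtain ⟨c, hc⟩ := hlift k _ ha
      refine ⟨a - c, ?_⟩
      have : φ (a - c) - b = -(φ c - (φ a - b)) := by rw [map_sub]; ring
      rw [this]; exact neg_mem hc
  set ψ := (Ideal.Quotient.mk (mB ^ (n + 1))).comp φ with hψ
  have hs : Function.Surjective ψ := by
    intro x
    obtain ⟨b, rfl⟩ := Ideal.Quotient.mk_surjective x
    obtain ⟨a, ha⟩ := happrox (n + 1) b
    exact ⟨a, Ideal.Quotient.eq.mpr ha⟩
  refine ⟨hs, le_antisymm ?_ ?_⟩
  swap
  · intro a ha
    rw [RingHom.mem_ker, hψ, RingHom.comp_apply, Ideal.Quotient.eq_zero_iff_mem]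
    have := Ideal.mem_map_of_mem φ ha
    rw [Ideal.map_pow] at this
    exact Ideal.pow_right_mono hmap (n + 1) this
  have hle : mA ^ (n + 1) ≤ RingHom.ker ψ := fun a ha => by
    rw [RingHom.mem_ker, hψ, RingHom.comp_apply, Ideal.Quotient.eq_zero_iff_mem]
    have := Ideal.mem_map_of_mem φ ha
    rw [Ideal.map_pow] at this
    exact Ideal.pow_right_mono hmap (n + 1) this
  letI := φ.toAlgebra
  let g : (A ⧸ mA ^ (n + 1)) →ₗ[A] (B ⧸ mB ^ (n + 1)) :=
    Submodule.liftQ _ (Algebra.linearMap A (B ⧸ mB ^ (n + 1))) (fun a ha => by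
      have := hle ha
      exact this)
  have hgs : Function.Surjective g := fun x => by
    obtain ⟨a, rfl⟩ := hs x
    exact ⟨Submodule.Quotient.mk a, rfl⟩
  have hlB : Module.length A (B ⧸ mB ^ (n + 1)) = Module.length B (B ⧸ mB ^ (n + 1)) := by
    rw [Module.length_eq_of_surjective (R := B ⧸ mB ^ (n + 1)) (S := A) hs,
      Module.length_eq_of_surjective (R := B ⧸ mB ^ (n + 1)) (S := B) Ideal.Quotient.mk_surjective]
  have hfin : Module.length A (A ⧸ mA ^ (n + 1)) ≠ ⊤ := by
    haveI : Ring.KrullDimLE 0 (A ⧸ mA ^ (n + 1)) := by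
      refine Ring.KrullDimLE.mk₀ fun P hP => ?_
      have hc : mA ≤ P.comap (Ideal.Quotient.mk (mA ^ (n + 1))) := by
        refine (Ideal.IsPrime.pow_le_iff (Nat.succ_ne_zero n)).mp fun x hx => ?_
        rw [Ideal.mem_comap, Ideal.Quotient.eq_zero_iff_mem.mpr hx]
        exact zero_mem _
      have hmax : (P.comap (Ideal.Quotient.mk (mA ^ (n + 1)))).IsMaximal := by
        rw [← (IsLocalRing.maximalIdeal.isMaximal A).eq_of_le (Ideal.IsPrime.ne_top inferInstance) hc]
        exact IsLocalRing.maximalIdeal.isMaximal A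
      rw [← Ideal.map_comap_of_surjective _ Ideal.Quotient.mk_surjective P]
      exact (Ideal.map_eq_top_or_isMaximal_of_surjective _ Ideal.Quotient.mk_surjective hmax).resolve_left
        (by rw [Ideal.map_comap_of_surjective _ Ideal.Quotient.mk_surjective P]; exact hP.ne_top)
    haveI : IsArtinianRing (A ⧸ mA ^ (n + 1)) :=
      isArtinianRing_iff_isNoetherianRing_krullDimLE_zero.mpr ⟨inferInstance, inferInstance⟩
    rw [Module.length_eq_of_surjective (R := A ⧸ mA ^ (n + 1)) (S := A) Ideal.Quotient.mk_surjective]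
    exact Module.length_ne_top
  have hgi : Function.Injective g := by
    have hexact : Function.Exact (LinearMap.ker g).subtype g := LinearMap.exact_subtype_ker_map g
    have h := Module.length_eq_add_of_exact _ g (LinearMap.ker g).injective_subtype hgs hexact
    rw [hlB, ← hlen n] at h
    have h0 : Module.length A (LinearMap.ker g) = 0 := by
      have h' : 0 + Module.length A (A ⧸ mA ^ (n + 1)) =
          Module.length A (LinearMap.ker g) + Module.length A (A ⧸ mA ^ (n + 1)) := by
        rw [zero_add]; exact h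
      exact (((ENat.addLECancellable_of_ne_top hfin).inj_left).mp h').symm
    rw [Module.length_eq_zero_iff, Submodule.subsingleton_iff_eq_bot] at h0
    exact LinearMap.ker_eq_bot.mp h0
  intro a ha
  have : g (Submodule.Quotient.mk a) = 0 := ha
  exact (Submodule.Quotient.mk_eq_zero _).mp (hgi (this.trans (map_zero g).symm))

end Groth.Agent.S16104
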