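import Groth.Statements.S16115
import Mathlib
import Groth.Agent.UnitProd.Char
-- import your own Groth.Agent.* helpers here

set_option autoImplicit false
universe u
open CategoryTheory MonoidalCategory CartesianMonoidalCategory MonObj GrpObj AlgebraicGeometry CategoryTheory.Limits
open AlgGrp

namespace Groth.Agent.S16115

/-- Over an algebraically closed field k, let G be a connected algebraic group (a smooth connected
k-group scheme of finite type) and X an irreducible variety (an integral separated k-scheme of
finite type). Then every unit f of Γ(G × X, O) is of the form p₁^*(χ) · p₂^*(u) with χ a character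
of G (a unit of Γ(G, O_G) with e^*(χ) = 1 and m^*(χ) = p₁^*(χ) · p₂^*(χ)) and u a unit of Γ(X, O_X).
(The published statement asserts that the product map from characters of G times units of X to units
of G × X is an isomorphism; injectivity is immediate by restriction to e × X and is not restated.) -/
theorem result (k : Type u) [Field k] [IsAlgClosed k]
    (G X : Over (Spec (CommRingCat.of k))) [GrpObj G] [Smooth G.hom] [QuasiCompact G.hom] [ConnectedSpace ↥G.left]
    [IsIntegral X.left] [IsSeparated X.hom] [LocallyOfFiniteType X.hom] [QuasiCompact X.hom]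
    (f : Γ((G ⊗ X).left, ⊤)) (hf : IsUnit f) :
    ∃ (χ : Γ(G.left, ⊤)) (u : Γ(X.left, ⊤)), IsUnit χ ∧ η[G].left.appTop χ = 1 ∧
      μ[G].left.appTop χ = (fst G G).left.appTop χ * (snd G G).left.appTop χ ∧ IsUnit u ∧
      f = (fst G X).left.appTop χ * (snd G X).left.appTop u := by
  obtain ⟨x₀⟩ := Groth.Agent.UnitProd.exists_point X
  obtain ⟨F, rfl⟩ := hf
  have : IsReduced G.left := Groth.Agent.UnitProd.isReduced_left_of_smooth G.hom
  have h := Groth.Agent.UnitProd.eq_mul η[G] x₀ F
  let c := Groth.Agent.UnitProd.pull (lift η[G] x₀) F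
  let χ := Groth.Agent.UnitProd.pull (lift (𝟙 G) (toUnit G ≫ x₀)) F * (Groth.Agent.UnitProd.pull (toUnit G) c)⁻¹
  let u := Groth.Agent.UnitProd.pull (lift (toUnit X ≫ η[G]) (𝟙 X)) F
  have hη : Groth.Agent.UnitProd.pull η[G] χ = 1 := by
    simp only [χ, c, map_mul, map_inv, ← Groth.Agent.UnitProd.pull_comp]
    rw [comp_lift, Category.comp_id, ← Category.assoc η[G], ← Category.assoc η[G],
      toUnit_unique (η[G] ≫ toUnit G) (𝟙 _), Category.id_comp, Category.id_comp, mul_inv_cancel]
  refine ⟨χ.1, u.1, Units.isUnit _, congrArg Units.val hη,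
    congrArg Units.val (Groth.Agent.UnitProd.pull_mul_eq G χ hη), Units.isUnit _, ?_⟩
  refine (congrArg Units.val (h.trans ?_ : F = Groth.Agent.UnitProd.pull (fst G X) χ * Groth.Agent.UnitProd.pull (snd G X) u)).trans rfl
  rw [map_mul, map_inv, ← Groth.Agent.UnitProd.pull_comp (fst G X) (toUnit G) c, toUnit_unique (fst G X ≫ toUnit G) (toUnit _)]
  exact mul_right_comm _ _ _

end Groth.Agent.S16115
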