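import Groth.Statements.S16116
import Mathlib
import Groth.Agent.UnitProd.Global
import Groth.Agent.UnitProd.SmoothReduced
-- import your own Groth.Agent.* helpers here

set_option autoImplicit false
universe u
open CategoryTheory MonoidalCategory CartesianMonoidalCategory MonObj GrpObj AlgebraicGeometry CategoryTheory.Limits
open AlgGrp

namespace Groth.Agent.S16116

open Groth.Agent.UnitProd in
/-- A rational point of a nonempty scheme locally of finite type over an algebraically closed field. -/
theorem exists_point {k : Type u} [Field k] [IsAlgClosed k] (X : Over (Spec (CommRingCat.of k)))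
    [LocallyOfFiniteType X.hom] [Nonempty X.left] : Nonempty (𝟙_ (Over (Spec (CommRingCat.of k))) ⟶ X) := by
  have : JacobsonSpace X.left := LocallyOfFiniteType.jacobsonSpace X.hom
  obtain ⟨p, -, hp⟩ := nonempty_inter_closedPoints (X := X.left) (Z := Set.univ) Set.univ_nonempty isClosed_univ.isLocallyClosed
  exact ⟨Over.homMk (pointOfClosedPoint X.hom p hp) (pointOfClosedPoint_comp _ p hp)⟩

open Groth.Agent.UnitProd in
/-- Over an algebraically closed field k, let G be a connected algebraic group (a smooth connected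
k-group scheme of finite type) acting by σ on an irreducible variety X (an integral separated
k-scheme of finite type), and let f be a unit of Γ(X, O_X). Then f is a semi-invariant: there is a
unique character χ of G (a unit of Γ(G, O_G) with e^*(χ) = 1 and m^*(χ) = p₁^*(χ) · p₂^*(χ)) such
that σ^*(f) = p₁^*(χ) · p₂^*(f) in Γ(G × X, O). -/
theorem result (k : Type u) [Field k] [IsAlgClosed k]
    (G X : Over (Spec (CommRingCat.of k))) [GrpObj G] [Smooth G.hom] [QuasiCompact G.hom] [ConnectedSpace ↥G.left]
    [IsIntegral X.left] [IsSeparated X.hom] [LocallyOfFiniteType X.hom] [QuasiCompact X.hom] (a : AlgGrp.Action G X)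
    (f : Γ(X.left, ⊤)) (hf : IsUnit f) :
    ∃! χ : Γ(G.left, ⊤), IsUnit χ ∧ η[G].left.appTop χ = 1 ∧
      μ[G].left.appTop χ = (fst G G).left.appTop χ * (snd G G).left.appTop χ ∧
      a.act.left.appTop f = (fst G X).left.appTop χ * (snd G X).left.appTop f := by
  obtain ⟨x₀⟩ := exists_point X
  obtain ⟨u, rfl⟩ := hf
  have : IsReduced G.left := Groth.Agent.UnitProd.isReduced_left_of_smooth G.hom
  set F := pull a.act u with hF
  have hunit : lift (toUnit X ≫ η[G]) (𝟙 X) ≫ a.act = 𝟙 X := by
    have e : lift (toUnit X ≫ η[G]) (𝟙 X) = lift (toUnit X) (𝟙 X) ≫ (η[G] ▷ X) := by ext <;> simp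
    rw [e, Category.assoc, a.one_act]
    simp
  let c := pull x₀ u
  let χ := pull (lift (𝟙 G) (toUnit G ≫ x₀)) F * (pull (toUnit G) c)⁻¹
  have hmain : F = pull (fst G X) χ * pull (snd G X) u := by
    have h := eq_mul η[G] x₀ F
    have h2 : pull (lift (toUnit X ≫ η[G]) (𝟙 X)) F = u := by rw [hF, ← pull_comp, hunit, pull_id]
    have h3 : pull (toUnit (G ⊗ X) ≫ lift η[G] x₀) F = pull (fst G X) (pull (toUnit G) c) := by
      simp only [hF, c, ← pull_comp]
      congr 1
      rw [← Category.assoc (fst G X), toUnit_unique (fst G X ≫ toUnit G) (toUnit _), Category.assoc]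
      congr 1
      congr 1
      have e : lift η[G] x₀ = x₀ ≫ lift (toUnit X ≫ η[G]) (𝟙 X) := by
        rw [comp_lift, Category.comp_id, ← Category.assoc, toUnit_unique (x₀ ≫ toUnit X) (𝟙 _), Category.id_comp]
      rw [e, Category.assoc, hunit, Category.comp_id]
    rw [h2, h3] at h
    rw [map_mul, map_inv]
    exact h.trans (mul_right_comm _ _ _)
  have hη : pull η[G] χ = 1 := by
    have e : lift η[G] x₀ = x₀ ≫ lift (toUnit X ≫ η[G]) (𝟙 X) := by
      rw [comp_lift, Category.comp_id, ← Category.assoc, toUnit_unique (x₀ ≫ toUnit X) (𝟙 _), Category.id_comp]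
    simp only [χ, hF, c, map_mul, map_inv, ← pull_comp]
    rw [comp_lift_assoc, Category.comp_id, ← Category.assoc η[G], toUnit_unique (η[G] ≫ toUnit G) (𝟙 _), Category.id_comp,
      e, Category.assoc, hunit, Category.comp_id, mul_inv_cancel]
  have hpt : ∀ {T : Over (Spec (CommRingCat.of k))} (g : T ⟶ G) (x : T ⟶ X),
      pull (lift g x ≫ a.act) u = pull g χ * pull x u := fun g x => by
    rw [pull_comp, ← hF, hmain, map_mul, ← pull_comp, ← pull_comp, lift_fst, lift_snd]
  have hμ : pull μ[G] χ = pull (fst G G) χ * pull (snd G G) χ := by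
    have e : lift μ[G] (toUnit (G ⊗ G) ≫ x₀) ≫ a.act =
        lift (fst G G) (lift (snd G G) (toUnit (G ⊗ G) ≫ x₀) ≫ a.act) ≫ a.act := by
      have e1 : lift μ[G] (toUnit (G ⊗ G) ≫ x₀) = lift (𝟙 (G ⊗ G)) (toUnit _ ≫ x₀) ≫ (μ[G] ▷ X) := by ext <;> simp
      rw [e1, Category.assoc, a.mul_act, ← Category.assoc, ← Category.assoc]
      rw [← lift_fst_snd, lift_lift_associator_hom, lift_whiskerLeft]
    have := congrArg (fun m => pull m u) e
    simp only [hpt] at this
    rw [← _root_.mul_assoc] at this
    exact mul_right_cancel this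
  refine ⟨χ.1, ⟨Units.isUnit _, congrArg Units.val hη, congrArg Units.val hμ, congrArg Units.val hmain⟩, ?_⟩
  rintro χ' ⟨hu, -, -, h'⟩
  obtain ⟨v, rfl⟩ := hu
  refine congrArg Units.val (?_ : v = χ)
  have h'' : F = pull (fst G X) v * pull (snd G X) u := Units.ext h'
  have := congrArg (pull (lift (𝟙 G) (toUnit G ≫ x₀))) (h''.symm.trans hmain)
  rw [map_mul, map_mul, ← pull_comp, ← pull_comp, ← pull_comp, lift_fst, pull_id, pull_id] at this
  exact mul_right_cancel this

end Groth.Agent.S16116
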