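import Groth.Statements.S16117
import Mathlib
import Groth.Agent.UnitProd.Global
-- import your own Groth.Agent.* helpers here

set_option autoImplicit false
universe u
open CategoryTheory MonoidalCategory CartesianMonoidalCategory MonObj GrpObj AlgebraicGeometry CategoryTheory.Limits
open AlgGrp

namespace Groth.Agent.S16117

open Groth.Agent.UnitProd in
/-- A rational point of a nonempty scheme locally of finite type over an algebraically closed field. -/
theorem exists_point {k : Type u} [Field k] [IsAlgClosed k] (X : Over (Spec (CommRingCat.of k)))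
    [LocallyOfFiniteType X.hom] [Nonempty X.left] : Nonempty (𝟙_ (Over (Spec (CommRingCat.of k))) ⟶ X) := by
  have : JacobsonSpace X.left := LocallyOfFiniteType.jacobsonSpace X.hom
  obtain ⟨p, -, hp⟩ := nonempty_inter_closedPoints (X := X.left) (Z := Set.univ) Set.univ_nonempty isClosed_univ.isLocallyClosed
  exact ⟨Over.homMk (pointOfClosedPoint X.hom p hp) (pointOfClosedPoint_comp _ p hp)⟩

/-- Over an algebraically closed field k, let X and Y be irreducible varieties (integral separated
k-schemes of finite type). Then the product map on units is surjective: every unit of Γ(X × Y, O)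
equals p₁^*(g) · p₂^*(h) for some units g of Γ(X, O_X) and h of Γ(Y, O_Y). -/
theorem result (k : Type u) [Field k] [IsAlgClosed k]
    (X Y : Over (Spec (CommRingCat.of k))) [IsIntegral X.left] [IsSeparated X.hom] [LocallyOfFiniteType X.hom] [QuasiCompact X.hom]
    [IsIntegral Y.left] [IsSeparated Y.hom] [LocallyOfFiniteType Y.hom] [QuasiCompact Y.hom]
    (f : Γ((X ⊗ Y).left, ⊤)) (hf : IsUnit f) :
    ∃ (g : Γ(X.left, ⊤)) (h : Γ(Y.left, ⊤)), IsUnit g ∧ IsUnit h ∧
      f = (fst X Y).left.appTop g * (snd X Y).left.appTop h := by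
  obtain ⟨eX⟩ := exists_point X
  obtain ⟨eY⟩ := exists_point Y
  obtain ⟨F, rfl⟩ := hf
  have h := Groth.Agent.UnitProd.eq_mul eX eY F
  let c := Groth.Agent.UnitProd.pull (lift eX eY) F
  refine ⟨((Groth.Agent.UnitProd.pull (lift (𝟙 X) (toUnit X ≫ eY)) F * (Groth.Agent.UnitProd.pull (toUnit X) c)⁻¹ : Γ(X.left, ⊤)ˣ) : Γ(X.left, ⊤)),
    ((Groth.Agent.UnitProd.pull (lift (toUnit Y ≫ eX) (𝟙 Y)) F : Γ(Y.left, ⊤)ˣ) : Γ(Y.left, ⊤)), Units.isUnit _, Units.isUnit _, ?_⟩
  refine (congrArg Units.val (h.trans ?_ : F = Groth.Agent.UnitProd.pull (fst X Y)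
    (Groth.Agent.UnitProd.pull (lift (𝟙 X) (toUnit X ≫ eY)) F * (Groth.Agent.UnitProd.pull (toUnit X) c)⁻¹) *
    Groth.Agent.UnitProd.pull (snd X Y) (Groth.Agent.UnitProd.pull (lift (toUnit Y ≫ eX) (𝟙 Y)) F))).trans rfl
  rw [map_mul, map_inv, ← Groth.Agent.UnitProd.pull_comp (fst X Y) (toUnit X) c, toUnit_unique (fst X Y ≫ toUnit X) (toUnit _)]
  exact mul_right_comm _ _ _

end Groth.Agent.S16117
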