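import Groth.Statements.S16126
import Mathlib
import Groth.Agent.GmChar.Points
import Groth.Agent.GmChar.Matrix
-- import your own Groth.Agent.* helpers here

set_option autoImplicit false
universe u
open CategoryTheory MonoidalCategory CartesianMonoidalCategory MonObj GrpObj AlgebraicGeometry CategoryTheory.Limits
open AlgGrp

namespace Groth.Agent.S16126

open Groth.Agent.GmChar LaurentPolynomial
open scoped CategoryTheory.Obj TensorProduct

/-- Over an algebraically closed field k, let E and G be linear algebraic groups (affine smooth k-group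
schemes) with G connected, i : 𝔾_m → E a homomorphism which is a closed immersion with central
image, and f : E → G a flat surjective homomorphism with kernel i (a central extension 1 → 𝔾_m → E →
G → 1). Then there exist a character χ : E → 𝔾_m and an integer n ≥ 1 such that χ ∘ i is the n-th
power map of 𝔾_m: for every point t of 𝔾_m with values in a k-scheme T, χ(i(t)) = tⁿ in the group of
T-points of 𝔾_m. (The published lemma is stated in a setting where all groups are linear; for a
connected G that is not linear the conclusion can fail.) -/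
theorem result (k : Type u) [Field k] [IsAlgClosed k]
    (E G : Over (Spec (CommRingCat.of k))) [GrpObj E] [IsAffine E.left] [Smooth E.hom]
    [GrpObj G] [IsAffine G.left] [Smooth G.hom] [ConnectedSpace ↥G.left]
    (i : Red.Gm (Spec (CommRingCat.of k)) ⟶ E) [IsMonHom i] [IsClosedImmersion i.left]
    (hcent : ∀ (T : Over (Spec (CommRingCat.of k))) (t : T ⟶ Red.Gm (Spec (CommRingCat.of k))) (g : T ⟶ E),
      (t ≫ i) * g = g * (t ≫ i))
    (f : E ⟶ G) [IsMonHom f] [Flat f.left] [Surjective f.left] (hker : AlgGrp.IsKernel i f) :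
    ∃ (χ : E ⟶ Red.Gm (Spec (CommRingCat.of k))) (n : ℕ), IsMonHom χ ∧ 1 ≤ n ∧
      ∀ (T : Over (Spec (CommRingCat.of k))) (t : T ⟶ Red.Gm (Spec (CommRingCat.of k))), (t ≫ i) ≫ χ = t ^ n := by
  let L := k[T;T⁻¹]
  obtain ⟨HE, ⟨eE⟩⟩ : (hopfSpec (CommRingCat.of k)).essImage (Grp.mk E) :=
    essImage_hopfSpec.2 (inferInstanceAs (IsAffine E.left))
  let A : Type u := HE.unop
  let eH : sp k A ⟶ E := eE.hom.hom.hom
  haveI : IsMonHom eH := eE.hom.hom.isMonHom_hom
  haveI : IsIso eH := ((Grp.forget _).mapIso eE).isIso_hom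
  haveI : IsMonHom (inv eH) := by
    haveI : IsMonHom (asIso eH).hom := ‹IsMonHom eH›
    exact (inferInstance : IsMonHom (asIso eH).inv)
  -- `τ : Spec k[T,T⁻¹] ≅ 𝔾_m`
  let P : ∀ (C : Type u) [CommRing C] [Algebra k C], (sp k C ⟶ Red.Gm (Spec (CommRingCat.of k))) ≃* (Multiplicative ℤ →* C) :=
    fun C _ _ => dsPts k ℤ C
  let τ : sp k L ⟶ Red.Gm (Spec (CommRingCat.of k)) := (P L).symm ((Units.coeHom L).comp (zpowersHom Lˣ (unitT k)))
  have hq : ∀ (C : Type u) [CommRing C] [Algebra k C] (φ : L →ₐ[k] C),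
      P C (spMap φ ≫ τ) (Multiplicative.ofAdd 1) = φ (T 1) := by
    intro C _ _ φ
    show dsPts k ℤ C (spMap φ ≫ τ) _ = _
    rw [dsPts_nat]
    show φ (P L ((P L).symm _) _) = _
    rw [MulEquiv.apply_symm_apply]
    simp [coe_unitT]
  have hext : ∀ (C : Type u) [CommRing C] [Algebra k C] (x y : sp k C ⟶ Red.Gm (Spec (CommRingCat.of k))),
      P C x (Multiplicative.ofAdd 1) = P C y (Multiplicative.ofAdd 1) → x = y := by
    intro C _ _ x y h
    exact (P C).injective (MonoidHom.ext_mint h)
  let q : ∀ (C : Type u) [CommRing C] [Algebra k C], Cˣ → (sp k C ⟶ Red.Gm (Spec (CommRingCat.of k))) :=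
    fun C _ _ v => spMap (pt v) ≫ τ
  have hqv : ∀ (C : Type u) [CommRing C] [Algebra k C] (v : Cˣ), P C (q C v) (Multiplicative.ofAdd 1) = v := by
    intro C _ _ v
    rw [hq, pt_T, zpow_one]
  have hqmul : ∀ (C : Type u) [CommRing C] [Algebra k C] (v w : Cˣ), q C (v * w) = q C v * q C w := by
    intro C _ _ v w
    apply hext
    rw [map_mul, MonoidHom.mul_apply, hqv, hqv, hqv, Units.val_mul]
  haveI : IsIso τ := by
    let Gm₁ : Over (Spec (CommRingCat.of k)) := Red.Gm (Spec (CommRingCat.of k))
    haveI : IsAffine Gm₁.left := by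
      show IsAffine (Limits.pullback _ _)
      haveI : IsAffine (Red.diag (ULift.{u} ℤ) ℤ).left := by
        change IsAffine (Spec (CommRingCat.of (MonoidAlgebra (ULift.{u} ℤ) (Multiplicative ℤ))))
        infer_instance
      infer_instance
    obtain ⟨HG, ⟨eG⟩⟩ : (hopfSpec (CommRingCat.of k)).essImage (Grp.mk Gm₁) :=
      essImage_hopfSpec.2 (inferInstanceAs (IsAffine Gm₁.left))
    let B : Type u := HG.unop
    let eG' : sp k B ⟶ Red.Gm (Spec (CommRingCat.of k)) := eG.hom.hom.hom
    haveI : IsIso eG' := ((Grp.forget _).mapIso eG).isIso_hom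
    have hu : IsUnit (P B eG' (Multiplicative.ofAdd 1)) := (Group.isUnit _).map (P B eG')
    have h1 : spMap (pt hu.unit) ≫ τ = eG' := hext _ _ _ (by rw [hq, pt_T, zpow_one, IsUnit.unit_spec])
    refine ⟨inv eG' ≫ spMap (pt hu.unit), ?_, by rw [Category.assoc, h1, IsIso.inv_hom_id]⟩
    obtain ⟨ψ, hψ⟩ := exists_spMap (τ ≫ inv eG' ≫ spMap (pt hu.unit))
    rw [← hψ, show ψ = AlgHom.id k L from algHom_ext_T ?_, spMap_id]
    rw [← hq, hψ, Category.assoc, Category.assoc, h1, IsIso.inv_hom_id, Category.comp_id,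
      ← hq L (AlgHom.id k L), spMap_id, Category.id_comp]
  obtain ⟨ia, hι⟩ := exists_spMap (τ ≫ i ≫ inv eH)
  have hcl : IsClosedImmersion (τ ≫ i ≫ inv eH).left := by
    haveI : IsIso τ.left := ((Over.forget _).mapIso (asIso τ)).isIso_hom
    haveI : IsIso (inv eH).left := ((Over.forget _).mapIso (asIso (inv eH))).isIso_hom
    rw [Over.comp_left, Over.comp_left]
    infer_instance
  have hsurj : Function.Surjective ia := by
    rw [← hι] at hcl
    haveI : IsClosedImmersion (Spec.map (CommRingCat.ofHom ia.toRingHom)) := hcl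
    have h2 := (IsClosedImmersion.isAffine_surjective_of_isAffine
      (Spec.map (CommRingCat.ofHom ia.toRingHom))).2
    intro y
    obtain ⟨x, hx⟩ := h2 ((Scheme.ΓSpecIso (CommRingCat.of L)).inv y)
    refine ⟨(Scheme.ΓSpecIso (CommRingCat.of A)).hom x, ?_⟩
    have h3 := congr($(Scheme.ΓSpecIso_naturality (CommRingCat.ofHom ia.toRingHom)) x)
    refine h3.symm.trans ?_
    show (Scheme.ΓSpecIso (CommRingCat.of L)).hom ((Spec.map (CommRingCat.ofHom ia.toRingHom)).appTop x) = y
    rw [hx]
    exact congr($((Scheme.ΓSpecIso (CommRingCat.of L)).inv_hom_id) y)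
  have hE : ∀ (C : Type u) [CommRing C] [Algebra k C] (v : Cˣ),
      spMap ((pt v).comp ia) = q C v ≫ i ≫ inv eH := by
    intro C _ _ v
    rw [spMap_comp, hι]
    simp only [q, Category.assoc]
  obtain ⟨u, n, hn, hu, hu1, hι'⟩ := exists_char ia hsurj
    (fun C _ _ v w => by
      apply WithConv.ofConv_injective
      apply spMap_injective
      rw [spMap_mul]
      simp only [WithConv.ofConv_toConv, hE, hqmul, MonObj.mul_comp])
    (fun C _ _ v g => by
      apply WithConv.ofConv_injective
      apply spMap_injective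
      rw [spMap_mul, spMap_mul]
      simp only [WithConv.ofConv_toConv, hE]
      rw [← cancel_mono eH, MonObj.mul_comp, MonObj.mul_comp]
      simp only [Category.assoc, IsIso.inv_hom_id, Category.comp_id]
      exact hcent _ (q C v) _)
  let χA : sp k A ⟶ Red.Gm (Spec (CommRingCat.of k)) := q A u
  have hχ : ∀ (C : Type u) [CommRing C] [Algebra k C] (g : A →ₐ[k] C),
      P C (spMap g ≫ χA) (Multiplicative.ofAdd 1) = g u := by
    intro C _ _ g
    show dsPts k ℤ C (spMap g ≫ χA) _ = _
    rw [dsPts_nat]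
    exact congrArg g (hqv A u)
  haveI : IsMonHom χA := by
    refine ⟨?_, ?_⟩
    · let j : sp k k ⟶ 𝟙_ (Over (Spec (CommRingCat.of k))) := toUnit _
      haveI : IsIso j.left := by
        have : j.left = 𝟙 (Spec (CommRingCat.of k)) := by
          have := Over.w j
          simp [specOverSpec_over] at this
          exact this
        rw [this]; exact IsIso.id _
      haveI : IsIso ((Over.forget (Spec (CommRingCat.of k))).map j) := ‹IsIso j.left›
      haveI : IsIso j := isIso_of_reflects_iso j (Over.forget _)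
      rw [← cancel_epi j, ← Category.assoc, ← Hom.one_def, ← Hom.one_def, ← spMap_one]
      apply hext
      rw [hχ, hu1, map_one, MonoidHom.one_apply]
    · let j : sp k (A ⊗[k] A) ⟶ sp k A ⊗ sp k A :=
        Over.homMk (pullbackSpecIso k A A).inv (by
          show (pullbackSpecIso k A A).inv ≫ (pullback.fst _ _ ≫ Spec.map _) = _
          rw [← Category.assoc, pullbackSpecIso_inv_fst, ← Spec.map_comp]
          rfl)
      haveI : IsIso j.left := inferInstanceAs (IsIso (pullbackSpecIso k A A).inv)
      haveI : IsIso ((Over.forget (Spec (CommRingCat.of k))).map j) := ‹IsIso j.left›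
      haveI : IsIso j := isIso_of_reflects_iso j (Over.forget _)
      rw [← cancel_epi j]
      obtain ⟨g, hg⟩ := exists_spMap (j ≫ fst _ _)
      obtain ⟨g', hg'⟩ := exists_spMap (j ≫ snd _ _)
      have e : μ[sp k A] = fst (sp k A) (sp k A) * snd _ _ := by rw [Hom.mul_def, lift_fst_snd, Category.id_comp]
      rw [← Category.assoc, e, MonObj.comp_mul, ← hg, ← hg', ← spMap_mul (WithConv.toConv g) (WithConv.toConv g')]
      have e' : (χA ⊗ₘ χA) ≫ μ[Red.Gm (Spec (CommRingCat.of k))] =
          (fst _ _ ≫ χA) * (snd _ _ ≫ χA) := by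
        rw [Hom.mul_def]
        congr 1
      rw [e', MonObj.comp_mul, ← Category.assoc j (fst _ _), ← Category.assoc j (snd _ _), ← hg, ← hg']
      apply hext
      rw [hχ, hu, map_mul, MonoidHom.mul_apply, hχ, hχ]
  refine ⟨inv eH ≫ χA, n, inferInstance, hn, fun T' t => ?_⟩
  have key : i ≫ inv eH ≫ χA = (𝟙 _) ^ n := by
    rw [← cancel_epi τ, MonObj.comp_pow, Category.comp_id, ← Category.assoc i, ← Category.assoc, ← hι]
    apply hext
    rw [hχ, map_pow, MonoidHom.pow_apply]
    have := hq L (AlgHom.id k L)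
    rw [spMap_id, Category.id_comp] at this
    rw [hι', this, AlgHom.id_apply, T_pow, _root_.mul_one]
  rw [Category.assoc, key, MonObj.comp_pow, Category.comp_id]

end Groth.Agent.S16126
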