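import Groth.Statements.S16127
import Groth.Agent.FppfEpi.Basic
-- import your own Groth.Agent.* helpers here

set_option autoImplicit false
universe u
open CategoryTheory MonoidalCategory CartesianMonoidalCategory MonObj GrpObj AlgebraicGeometry CategoryTheory.Limits
open AlgGrp

namespace Groth.Agent.S16127

section Aux
open Opposite

theorem appTop_injective_of_epi' {Z X : Scheme.{u}} (p : Z ⟶ X) [Epi p] : Function.Injective p.appTop := by
  haveI : Scheme.Γ.rightOp.IsLeftAdjoint := ΓSpec.adjunction.isLeftAdjoint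
  haveI : Epi (Scheme.Γ.rightOp.map p) := inferInstance
  haveI : Mono p.appTop := unop_mono_of_epi (Scheme.Γ.rightOp.map p)
  exact (ConcreteCategory.mono_iff_injective_of_preservesPullback p.appTop).1 inferInstance

noncomputable def Rx : CommRingCat.{u} := CommRingCat.of (Polynomial (ULift.{u} ℤ))

noncomputable def ev {Z : Scheme.{u}} (s : Γ(Z, ⊤)) : Rx.{u} ⟶ Γ(Z, ⊤) :=
  CommRingCat.ofHom (Polynomial.eval₂RingHom ((Int.castRingHom Γ(Z, ⊤)).comp (ULift.ringEquiv : ULift.{u} ℤ ≃+* ℤ).toRingHom) s)

theorem ev_comp {Z W : Scheme.{u}} (g : W ⟶ Z) (s : Γ(Z, ⊤)) : ev s ≫ g.appTop = ev (g.appTop s) := by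
  refine CommRingCat.hom_ext (Polynomial.ringHom_ext' ?_ ?_)
  · exact RingHom.ext fun a => by
      show g.appTop (Polynomial.eval₂ _ s (Polynomial.C a)) = Polynomial.eval₂ _ (g.appTop s) (Polynomial.C a)
      rw [Polynomial.eval₂_C, Polynomial.eval₂_C]
      exact map_intCast g.appTop.hom _
  · show g.appTop (Polynomial.eval₂ _ s Polynomial.X) = Polynomial.eval₂ _ (g.appTop s) Polynomial.X
    rw [Polynomial.eval₂_X, Polynomial.eval₂_X]

noncomputable def sec {Z : Scheme.{u}} (s : Γ(Z, ⊤)) : Z ⟶ Spec Rx.{u} := Z.toSpecΓ ≫ Spec.map (ev s)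

theorem comp_sec {Z W : Scheme.{u}} (g : W ⟶ Z) (s : Γ(Z, ⊤)) : g ≫ sec s = sec (g.appTop s) := by
  rw [sec, sec, ← ev_comp, Spec.map_comp, ← Category.assoc, Scheme.toSpecΓ_naturality, Category.assoc]

theorem range_appTop {W X Y : Scheme.{u}} (f : X ⟶ Y) [EffectiveEpi f] (p₁ p₂ : W ⟶ X)
    (hsq : IsPullback p₁ p₂ f f) :
    Set.range f.appTop = {s : Γ(X, ⊤) | p₁.appTop s = p₂.appTop s} := by
  ext s
  constructor
  · rintro ⟨t, rfl⟩
    show p₁.appTop (f.appTop t) = p₂.appTop (f.appTop t)
    rw [← CommRingCat.comp_apply, ← CommRingCat.comp_apply, ← Scheme.Hom.comp_appTop, ← Scheme.Hom.comp_appTop, hsq.w]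
  · intro hs
    have hk : ∀ {Z : Scheme.{u}} (g₁ g₂ : Z ⟶ X), g₁ ≫ f = g₂ ≫ f → g₁ ≫ sec s = g₂ ≫ sec s := fun g₁ g₂ h => by
      rw [← hsq.lift_fst g₁ g₂ h, Category.assoc, comp_sec, show p₁.appTop s = p₂.appTop s from hs,
        ← comp_sec, ← Category.assoc, hsq.lift_snd]
    let ψ := EffectiveEpi.desc f (sec s) hk
    refine ⟨ψ.appTop ((Scheme.ΓSpecIso Rx.{u}).inv Polynomial.X), ?_⟩
    have h1 : ψ.appTop ≫ f.appTop = (sec s).appTop := by
      rw [← Scheme.Hom.comp_appTop, EffectiveEpi.fac]
    rw [← CommRingCat.comp_apply, h1, sec, Scheme.Hom.comp_appTop, Scheme.toSpecΓ_appTop, ← CommRingCat.comp_apply,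
      ← Category.assoc, ← Scheme.ΓSpecIso_inv_naturality, Category.assoc, Iso.inv_hom_id, Category.comp_id]
    exact Polynomial.eval₂_X _ _

end Aux

/-- Over an algebraically closed field k, let G be an algebraic group (a smooth k-group scheme of finite
type) acting by σ on a variety X, and let f : X → Y be a principal G-bundle over a variety Y (X, Y
reduced separated k-schemes of finite type; f flat and surjective, the square σ, p₂ : G × X → X, f,
f cartesian). Then f^* identifies Γ(Y, O_Y) with the invariants Γ(X, O_X)^G: f^* on global sections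
is injective and its range is the set of global functions s on X with σ^*(s) = p₂^*(s). -/
theorem result (k : Type u) [Field k] [IsAlgClosed k]
    (G X Y : Over (Spec (CommRingCat.of k))) [GrpObj G] [Smooth G.hom] [QuasiCompact G.hom]
    [IsReduced X.left] [IsSeparated X.hom] [LocallyOfFiniteType X.hom] [QuasiCompact X.hom]
    [IsReduced Y.left] [IsSeparated Y.hom] [LocallyOfFiniteType Y.hom] [QuasiCompact Y.hom]
    (a : AlgGrp.Action G X) (f : X ⟶ Y) [Flat f.left] [Surjective f.left]
    (hsq : IsPullback a.act.left (snd G X).left f.left f.left) :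
    Function.Injective (f.left.appTop) ∧
      Set.range (f.left.appTop) = {s : Γ(X.left, ⊤) | a.act.left.appTop s = (snd G X).left.appTop s} := by
  haveI : IsLocallyNoetherian Y.left := LocallyOfFiniteType.isLocallyNoetherian Y.hom
  haveI : LocallyOfFiniteType (f.left ≫ Y.hom) := by rw [Over.w]; infer_instance
  haveI : LocallyOfFiniteType f.left := locallyOfFiniteType_of_comp f.left Y.hom
  haveI : LocallyOfFinitePresentation f.left := inferInstance
  haveI : EffectiveEpi f.left := Groth.Agent.FppfEpi.effectiveEpi_of_fppf f.left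
  exact ⟨appTop_injective_of_epi' f.left, range_appTop f.left a.act.left (snd G X).left hsq⟩

end Groth.Agent.S16127
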