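import Groth.Statements.S16131
import Groth.Agent.HomogSep.Qs
import Groth.Agent.GrpSchField.Orbit
import Groth.Agent.FibreDim.Topo
import Groth.Agent.FibDim.Scheme
import Groth.Agent.GeomUnib.HyperplaneFibre
-- import your own Groth.Agent.* helpers here

set_option autoImplicit false
set_option linter.style.haveILetI false
set_option backward.isDefEq.respectTransparency false
universe u
open CategoryTheory MonoidalCategory CartesianMonoidalCategory MonObj GrpObj AlgebraicGeometry CategoryTheory.Limits
open AlgGrp
open Groth.Agent.GrpSchField Groth.Agent.HomogSep TopologicalSpace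

namespace Groth.Agent.S16131

/-- Over an algebraically closed field k, let G be an algebraic group (a smooth k-group scheme of finite
type, not necessarily connected) acting on a variety X (a reduced separated k-scheme of finite
type), and let x be a k-point of X with orbit G · x (the image of the orbit map). Then the boundary
cl(G · x) ∖ G · x has strictly smaller Krull dimension than G · x (both with the subspace topology
from X); so the orbit closure is the union of the orbit and of orbits of smaller dimension. -/
theorem result (k : Type u) [Field k] [IsAlgClosed k]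
    (G X : Over (Spec (CommRingCat.of k))) [GrpObj G] [Smooth G.hom] [QuasiCompact G.hom]
    [IsReduced X.left] [IsSeparated X.hom] [LocallyOfFiniteType X.hom] [QuasiCompact X.hom]
    (a : AlgGrp.Action G X) (x : 𝟙_ (Over (Spec (CommRingCat.of k))) ⟶ X) :
    topologicalKrullDim ↥(closure (Set.range (a.orbitMap x).left.base) \ Set.range (a.orbitMap x).left.base) <
      topologicalKrullDim ↥(Set.range (a.orbitMap x).left.base) := by
  haveI : JacobsonSpace X.left := LocallyOfFiniteType.jacobsonSpace X.hom
  haveI : JacobsonSpace G.left := LocallyOfFiniteType.jacobsonSpace G.hom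
  haveI : IsLocallyNoetherian G.left := LocallyOfFiniteType.isLocallyNoetherian G.hom
  haveI : CompactSpace G.left := QuasiCompact.compactSpace_of_compactSpace G.hom
  haveI : IsNoetherian G.left := {}
  let R : Set X.left := Set.range (a.orbitMap x).left
  have hR : IsLocallyClosed R := isLocallyClosed_range_orbitMap a x
  let Z : Set X.left := closure R \ R
  let W : X.left.Opens := ⟨coborder R, hR.isOpen_coborder⟩
  have hWR : coborder R ∩ closure R = R := coborder_inter_closure
  have hZc : IsClosed Z := by
    have : Z = closure R ∩ (coborder R)ᶜ := by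
      ext z
      exact ⟨fun hz => ⟨hz.1, fun h => hz.2 (hWR.le ⟨h, hz.1⟩)⟩, fun hz => ⟨hz.1, fun h => hz.2 (subset_coborder h)⟩⟩
    rw [this]
    exact isClosed_closure.inter hR.isOpen_coborder.isClosed_compl
  show topologicalKrullDim Z < topologicalKrullDim R
  -- closures of the images of the components cover the closure of the orbit
  let o := (a.orbitMap x).left
  let M : Set G.left := {g | ∀ g', g' ⤳ g → g ⤳ g'}
  have hMfin : (irreducibleComponents G.left).Finite := NoetherianSpace.finite_irreducibleComponents
  have hgen : ∀ C : irreducibleComponents G.left, ∃ ξ, IsGenericPoint ξ C.1 := fun C =>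
    QuasiSober.sober C.2.1 (isClosed_of_mem_irreducibleComponents C.1 C.2)
  choose ξ hξ using hgen
  haveI : Fintype (irreducibleComponents G.left) := hMfin.fintype
  have hcov : closure R ⊆ ⋃ C : irreducibleComponents G.left, closure {o (ξ C)} := by
    refine closure_minimal ?_ (isClosed_iUnion_of_finite fun _ => isClosed_closure)
    rintro _ ⟨g, rfl⟩
    refine Set.mem_iUnion.mpr ⟨⟨_, irreducibleComponent_mem_irreducibleComponents g⟩, ?_⟩
    exact specializes_iff_mem_closure.mp (((hξ _).specializes mem_irreducibleComponent).map o.continuous)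
  have hnat : ∀ p : X.left, ∃ n : ℕ, topologicalKrullDim (closure ({p} : Set X.left)) = (n : WithBot ℕ∞) := fun p => by
    obtain ⟨n, -, hn⟩ := DimTrdeg.exists_dim_closure_eq_trdeg X.hom p
    exact ⟨n, hn⟩
  choose n hn using hnat
  haveI : Nonempty (irreducibleComponents G.left) :=
    ⟨⟨_, irreducibleComponent_mem_irreducibleComponents (e G)⟩⟩
  obtain ⟨C₀, -, hC₀⟩ := Finset.exists_max_image Finset.univ (fun C : irreducibleComponents G.left => n (o (ξ C)))
    Finset.univ_nonempty
  let N := n (o (ξ C₀))
  have hNR : (N : WithBot ℕ∞) ≤ topologicalKrullDim R := by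
    let r : W.toScheme := ⟨o (ξ C₀), subset_coborder ⟨_, rfl⟩⟩
    haveI : LocallyOfFiniteType (W.ι ≫ X.hom) := inferInstance
    rw [← hn, show o (ξ C₀) = W.ι r from rfl, FibDim.dim_closure_openImmersion W.ι X.hom r,
      ← FibreDim.dim_image W.ι.isOpenEmbedding.isEmbedding]
    refine FibreDim.dim_mono ?_
    rintro _ ⟨w, hw, rfl⟩
    refine hWR.le ⟨w.2, closure_mono (Set.singleton_subset_iff.mpr ⟨ξ C₀, rfl⟩ :
      ({W.ι r} : Set X.left) ⊆ R) ?_⟩
    exact specializes_iff_mem_closure.mp ((specializes_iff_mem_closure.mpr hw).map W.ι.continuous)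
  have hlt : ∀ z ∈ Z, n z < N := by
    intro z hz
    obtain ⟨C, hC⟩ := Set.mem_iUnion.mp (hcov hz.1)
    refine lt_of_lt_of_le ?_ (hC₀ C (Finset.mem_univ _))
    have hss : closure ({z} : Set X.left) ⊂ closure {o (ξ C)} := by
      refine ⟨closure_minimal (Set.singleton_subset_iff.mpr hC) isClosed_closure, fun h => hz.2 ?_⟩
      have h1 : z ⤳ o (ξ C) := specializes_iff_mem_closure.mpr (h (subset_closure rfl))
      have h2 : o (ξ C) ⤳ z := specializes_iff_mem_closure.mpr hC
      exact ⟨ξ C, (h2.antisymm h1).eq⟩
    exact GeomUnib.dim_add_one_le hss.subset isClosed_closure isIrreducible_singleton.closure hss.ne (hn z) (hn _)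
  refine lt_of_lt_of_le ?_ hNR
  rcases Z.eq_empty_or_nonempty with hZe | ⟨z₀, hz₀⟩
  · have : IsEmpty Z := by rw [hZe]; infer_instance
    rw [show topologicalKrullDim Z = ⊥ from Order.krullDim_eq_bot_iff.mpr
      ⟨fun C => C.2.nonempty.elim fun z _ => IsEmpty.false z⟩]
    exact WithBot.bot_lt_coe _
  haveI : QuasiSober Z := hZc.isClosedEmbedding_subtypeVal.quasiSober
  have hN : 1 ≤ N := Nat.one_le_of_lt (hlt _ hz₀)
  refine lt_of_le_of_lt (b := ((N - 1 : ℕ) : WithBot ℕ∞)) ?_ (by exact_mod_cast (show N - 1 < N by omega))
  refine FibreDim.dim_le_of_points fun t => ?_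
  rw [← FibreDim.dim_image Topology.IsEmbedding.subtypeVal]
  refine le_trans (FibreDim.dim_mono (image_closure_subset_closure_image continuous_subtype_val)) ?_
  rw [Set.image_singleton, hn]
  exact_mod_cast Nat.le_sub_one_of_lt (hlt _ t.2)

end Groth.Agent.S16131
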