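import Groth.Statements.S16137
import Groth.Agent.CurveVB.Line
-- import your own Groth.Agent.* helpers here

set_option autoImplicit false
set_option backward.isDefEq.respectTransparency false
universe u
open CategoryTheory CategoryTheory.Limits AlgebraicGeometry
open VBCurve

namespace Groth.Agent.S16137

/-- Let k be an algebraically closed field of characteristic zero and X a smooth proper geometrically
connected curve over k (topological dimension one) of genus at least 2 (the text's standing setting:
a smooth projective complex curve of genus at least 2). Let 0 → F → E → G → 0 be a short exact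
sequence of O_X-modules in which E is finite locally free of rank r ≥ 1 and slope-stable (deg F' · r
< deg E · r' for every finite locally free submodule F' of E of rank r' with 0 < r' < r). Then
Hom(G, F) = 0: every morphism from the quotient G to the submodule F is zero. (The published
statement writes the conclusion as h^0(G^* ⊗ F) = 0.) -/
theorem result (k : Type u) [Field k] [IsAlgClosed k] [CharZero k]
    (X : Scheme.{u}) [X.Over (Spec (CommRingCat.of k))]
    [IsProper (X ↘ Spec (CommRingCat.of k))] [Smooth (X ↘ Spec (CommRingCat.of k))]
    [GeometricallyConnected (X ↘ Spec (CommRingCat.of k))] (hdim : topologicalKrullDim ↥X = 1)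
    (hg : 2 ≤ Curv2.genus k X)
    (T : ShortComplex X.Modules) (hT : T.ShortExact)
    (r : ℕ) (hr : 0 < r) (hE : FlatMod.IsFinLocFreeOfRank r T.X₂)
    (hst : ModFun.IsSlopeStable k X T.X₂ r)
    (φ : T.X₃ ⟶ T.X₁) : φ = 0 := by
  haveI : IsIntegral X := Groth.Agent.CurveVB.isIntegral_of_geometricallyConnected (X ↘ Spec (CommRingCat.of k))
  haveI := hT.mono_f
  haveI := hT.epi_g
  have h0 : T.g ≫ φ ≫ T.f = 0 := by
    by_contra hne
    haveI := Groth.Agent.CurveVB.isIso_of_stable k hdim hE (fun G s i hi hG h0 hs => hst G s i hi h0 hs hG) _ hne
    refine hne ((cancel_epi (T.g ≫ φ ≫ T.f)).1 ?_)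
    simp [Category.assoc, reassoc_of% T.zero]
  exact (cancel_epi T.g).1 ((cancel_mono T.f).1 (by rw [Category.assoc, h0, comp_zero, zero_comp]))

end Groth.Agent.S16137
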