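import Groth.Statements.S16148
import Groth.Agent.NegGrowth.Basic
import Groth.Agent.PicTwist.Basic
import Groth.Agent.ProjTwist.Invertible
import Groth.Agent.ProjTwist.Tensor

set_option autoImplicit false
set_option backward.isDefEq.respectTransparency false
universe u
open CategoryTheory CategoryTheory.Limits AlgebraicGeometry
open Variety

open Groth.Agent Groth.Agent.InvBasic Groth.Agent.ProjUniv Groth.Agent.InvPow Groth.Agent.QCohLib Groth.Agent.HilbPoly Groth.Agent.CurveDeg Groth.Agent.CohFinite
set_option linter.style.haveILetI false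

namespace Groth.Agent.S16148

/-- Let k be a characteristic-zero algebraically closed field and G a coherent O-module (quasi-coherent
of finite type) on projective n-space P^n_k whose support, as a subspace of P^n_k, has Krull
dimension a with a ≥ 1. Then there is an integer m such that H^a(P^n_k, G(m)) ≠ 0, where G(m) = G ⊗
O(m). (The source works over the complex numbers.) -/
theorem result (k : Type u) [Field k] [IsAlgClosed k] [CharZero k]
    (n : ℕ) (G : (CohB1.ProjSpace n k).Modules) (hG : Coh.IsCoh G) (a : ℕ) (ha : 1 ≤ a)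
    (hdim : topologicalKrullDim ↥(CohB1.support G) = a) :
    ∃ m : ℤ, Nontrivial (Coh.HH (CohB1.ProjSpace n k) (CohB1.tensorMod G (Twist.twistProjSpace n k m)) a) := by
  haveI : IsProper ((CohB1.ProjSpace n k) ↘ Spec (CommRingCat.of k)) :=
    Groth.Agent.InvPow.isProper_toSpec n k
  have hu : ∀ e : ℤ, ProjTwist.HasUnit (CohB1.polyGrading n k) e := fun e => ProjCoh.hasUnit_polyGrading e
  have hB : CohB1.IsAmple (Twist.twistProjSpace n k 1) := PicTwist.isAmple_twistProjSpace_one
  have hB' : ClSub.IsInverseOf (Twist.twistProjSpace n k 1) (Twist.twistProjSpace n k (-1)) := by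
    obtain ⟨e⟩ := ProjTwist.nonempty_tensor_twist_iso (CohB1.polyGrading n k) (n := 1) (m := -1) (r := 0)
      (by norm_num) (hu (-1))
    obtain ⟨o⟩ := ProjTwist.nonempty_structureModule_iso_twist_zero (CohB1.polyGrading n k)
    exact ⟨e ≪≫ o.symm⟩
  obtain ⟨t, ht⟩ := NegGrowth.exists_nontrivial k hB hB' hG ha hdim
  refine ⟨-(t : ℤ), ?_⟩
  obtain ⟨e⟩ := ProjTwist.nonempty_twist_iso_tensorPow (CohB1.polyGrading n k) (hu (-1)) t (-(t : ℤ)) (by ring)
  refine not_subsingleton_iff_nontrivial.mp fun h => not_subsingleton_iff_nontrivial.mpr ht ?_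
  exact HilbPoly.exists_vanishing_ample.subsingleton_HH_of_iso
    (ProjTwist.nonempty_tensorMod_iso (Iso.refl G) e.symm).some h
end Groth.Agent.S16148
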