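import Groth.Statements.S16149
import Groth.Agent.MeroBasic.Minimal
import Groth.Agent.QCohLib.Cover

set_option autoImplicit false
universe u
open CategoryTheory CategoryTheory.Limits AlgebraicGeometry TopologicalSpace
open SDiv

namespace Groth.Agent.S16149

/-- Let X be a locally Noetherian scheme, F a coherent O_X-module (quasi-coherent of finite type) and s
: O_X → F a global section of F. Then the set of points x of X at which the stalk map (O_X)_x → F_x
of s is bijective is open. (The published statement assumes moreover X integral and normal and F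
reflexive of rank one; the openness assertion uses only that F is coherent on a locally Noetherian
scheme, and it can fail for F quasi-coherent of finite type on a scheme that is not locally
Noetherian.) -/
theorem result (X : Scheme.{u}) [IsLocallyNoetherian X] (F : X.Modules) (hF : Coh.IsCoh F)
    (s : Coh.structureModule X ⟶ F) : IsOpen (RefPow.isoLocus s) := by
  classical
  have := hF.1
  rw [isOpen_iff_forall_mem_open]
  intro x hx
  obtain ⟨_, ⟨U, hU, rfl⟩, hxU, -⟩ :=
    X.isBasis_affineOpens.exists_subset_of_mem_open (Set.mem_univ x) isOpen_univ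
  have := IsLocallyNoetherian.component_noetherian (X := X) ⟨U, hU⟩
  have := (Groth.Agent.QCohLib.isCoh_iff.mp hF).2 ⟨U, hU⟩
  let one (y : X) : (Coh.structureModule X).presheaf.stalk y :=
    (Coh.structureModule X).presheaf.germ ⊤ y (trivial : y ∈ (⊤ : X.Opens)) (1 : Γ(X, ⊤))
  let e : Γ(F, U) := F.presheaf.map (homOfLE (le_top : U ≤ ⊤)).op (s.app ⊤ (1 : Γ(X, ⊤)))
  have hstalk : ∀ (y : X) (hy : y ∈ U) (c : X.presheaf.stalk y),
      RefHull.stalkMapₗ s y (c • one y) = c • F.presheaf.germ U y hy e := by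
    intro y hy c
    rw [map_smul, TopCat.Presheaf.germ_res_apply]
    congr 1
    exact Groth.Agent.QCohLib.stalkHom_germ s ⊤ y trivial _
  have hbij : ∀ (y : X) (hy : y ∈ U), y ∈ RefPow.isoLocus s ↔
      Function.Bijective (fun c : X.presheaf.stalk y => c • F.presheaf.germ U y hy e) := by
    intro y hy
    have h1 : Function.Bijective (fun c : X.presheaf.stalk y => c • one y) := by
      refine ⟨(injective_iff_map_eq_zero (LinearMap.toSpanSingleton (X.presheaf.stalk y)
        ((Coh.structureModule X).presheaf.stalk y) (one y))).mpr fun c hc =>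
          Groth.Agent.MeroBasic.smul_one_germ_eq_zero y c hc, fun m => ?_⟩
      obtain ⟨c, rfl⟩ := Groth.Agent.MeroBasic.exists_eq_smul_one_germ y m
      exact ⟨c, rfl⟩
    rw [show (fun c : X.presheaf.stalk y => c • F.presheaf.germ U y hy e) =
      RefHull.stalkMapₗ s y ∘ (fun c => c • one y) from funext fun c => (hstalk y hy c).symm]
    exact (Function.Bijective.of_comp_iff _ h1).symm
  obtain ⟨hinj, hsurj⟩ := (hbij x hxU).mp hx
  let p := Groth.Agent.MeroBasic.pr hU x hxU
  have hmem : ∀ (y : X) (hy : y ∈ U) (f : Γ(X, U)), y ∈ X.basicOpen f ↔ f ∉ Groth.Agent.MeroBasic.pr hU y hy :=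
    fun y hy f => Groth.Agent.QCohLib.mem_basicOpen_iff_notMem_primeIdealOf hU hy f
  have hker : ∀ k ∈ LinearMap.ker (LinearMap.toSpanSingleton Γ(X, U) Γ(F, U) e), ∃ u, u ∉ p ∧ u * k = 0 := by
    intro k hk
    have h2 : X.presheaf.germ U x hxU k = 0 := by
      refine hinj ?_
      simp only [zero_smul]
      rw [← Groth.Agent.QCohLib.germ_smul, show k • e = 0 from hk, map_zero]
    exact (Groth.Agent.MeroBasic.germ_eq_zero_iff hU k).mp h2
  have hcok : ∀ m : Γ(F, U), ∃ u, u ∉ p ∧ ∃ r : Γ(X, U), u • m = r • e := by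
    intro m
    obtain ⟨c, hc⟩ := hsurj (F.presheaf.germ U x hxU m)
    simp only at hc
    obtain ⟨a, t, ht, hat⟩ := Groth.Agent.MeroBasic.exists_germ_mul_eq hU (hx := hxU) c
    have h2 : F.presheaf.germ U x hxU (t • m - a • e) = 0 := by
      rw [map_sub, Groth.Agent.QCohLib.germ_smul, Groth.Agent.QCohLib.germ_smul, ← hc, ← hat,
        smul_smul, mul_comm, sub_self]
    obtain ⟨f, hxf, hf⟩ := (Groth.Agent.QCohLib.germ_eq_zero_iff hU x hxU _).mp h2
    refine ⟨f * t, fun h => ((hU.primeIdealOf ⟨x, hxU⟩).isPrime.mem_or_mem h).elim ((hmem x hxU f).mp hxf) ht,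
      f * a, ?_⟩
    rw [mul_smul, mul_smul, ← sub_eq_zero, ← smul_sub, hf]
  obtain ⟨tk, htk⟩ := (IsNoetherian.noetherian (LinearMap.ker (LinearMap.toSpanSingleton Γ(X, U) Γ(F, U) e)) : Submodule.FG _)
  obtain ⟨tm, htm⟩ := (Module.Finite.fg_top : (⊤ : Submodule Γ(X, U) Γ(F, U)).FG)
  choose u hup hu using fun k : tk => hker k.1 (htk ▸ Submodule.subset_span k.2)
  choose v hvp r hv using fun m : tm => hcok m.1
  let w := (∏ k : tk, u k) * ∏ m : tm, v m
  have hwp : w ∉ p := fun h => by
    rcases (hU.primeIdealOf ⟨x, hxU⟩).isPrime.mem_or_mem h with h | h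
    · obtain ⟨k, -, hk⟩ := (hU.primeIdealOf ⟨x, hxU⟩).isPrime.prod_mem_iff.mp h
      exact hup k hk
    · obtain ⟨k, -, hk⟩ := (hU.primeIdealOf ⟨x, hxU⟩).isPrime.prod_mem_iff.mp h
      exact hvp k hk
  refine ⟨X.basicOpen w, fun y hy => ?_, (X.basicOpen w).isOpen, (hmem x hxU w).mpr hwp⟩
  have hyU := X.basicOpen_le w hy
  have hwy := (hmem y hyU w).mp hy
  have hwu : IsUnit (X.presheaf.germ U y hyU w) := (X.mem_basicOpen w y hyU).mp hy
  refine (hbij y hyU).mpr ⟨?_, ?_⟩
  · refine (injective_iff_map_eq_zero (LinearMap.toSpanSingleton (X.presheaf.stalk y)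
      (F.presheaf.stalk y) (F.presheaf.germ U y hyU e))).mpr fun c hc => ?_
    obtain ⟨a, t, ht, hat⟩ := Groth.Agent.MeroBasic.exists_germ_mul_eq hU (hx := hyU) c
    have h2 : F.presheaf.germ U y hyU (a • e) = 0 := by
      rw [Groth.Agent.QCohLib.germ_smul, ← hat, mul_comm, mul_smul, show c • F.presheaf.germ U y hyU e = 0 from hc, smul_zero]
    obtain ⟨f, hyf, hf⟩ := (Groth.Agent.QCohLib.germ_eq_zero_iff hU y hyU _).mp h2
    have h3 : w * (f * a) = 0 := by
      suffices ∀ k ∈ Submodule.span Γ(X, U) (tk : Set Γ(X, U)), w * k = 0 from this _ (htk.symm ▸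
        (show (f * a) • e = 0 by rw [mul_smul, hf]))
      intro k hk
      induction hk using Submodule.span_induction with
      | mem k hk =>
        simp only [w]
        rw [mul_comm (∏ k : tk, u k) _, mul_assoc, ← Finset.mul_prod_erase _ _ (Finset.mem_univ (⟨k, hk⟩ : tk)),
          mul_comm (u ⟨k, hk⟩) _, mul_assoc, hu ⟨k, hk⟩, mul_zero, mul_zero]
      | zero => rw [mul_zero]
      | add _ _ _ _ h1 h2 => rw [mul_add, h1, h2, add_zero]
      | smul r _ _ h => rw [smul_eq_mul, mul_left_comm, h, mul_zero]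
    have h4 : X.presheaf.germ U y hyU a = 0 := by
      have := congrArg (X.presheaf.germ U y hyU) h3
      rw [map_mul _ w, map_mul _ f, map_zero] at this
      exact ((X.mem_basicOpen f y hyU).mp hyf).mul_right_eq_zero.mp (hwu.mul_right_eq_zero.mp this)
    rw [← hat] at h4
    exact ((Groth.Agent.MeroBasic.isUnit_germ_iff hU t).mpr ht).mul_left_eq_zero.mp h4
  · intro m
    obtain ⟨f, m', hyf, hm'⟩ := Groth.Agent.QCohLib.exists_smul_eq_germ hU y hyU m
    have h3 : ∃ a : Γ(X, U), w • m' = a • e := by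
      suffices ∀ k ∈ Submodule.span Γ(X, U) (tm : Set Γ(F, U)), ∃ a : Γ(X, U), w • k = a • e from
        this m' (htm ▸ Submodule.mem_top)
      intro k hk
      induction hk using Submodule.span_induction with
      | mem k hk =>
        refine ⟨(∏ k : tk, u k) * ((∏ m ∈ Finset.univ.erase (⟨k, hk⟩ : tm), v m) * r ⟨k, hk⟩), ?_⟩
        simp only [w, mul_smul]
        rw [← hv ⟨k, hk⟩, ← mul_smul (∏ m ∈ Finset.univ.erase (⟨k, hk⟩ : tm), v m),
          Finset.prod_erase_mul _ _ (Finset.mem_univ _)]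
      | zero => exact ⟨0, by rw [smul_zero, zero_smul]⟩
      | add _ _ _ _ h1 h2 =>
        obtain ⟨a, ha⟩ := h1; obtain ⟨b, hb⟩ := h2
        exact ⟨a + b, by rw [smul_add, ha, hb, add_smul]⟩
      | smul c _ _ h =>
        obtain ⟨a, ha⟩ := h
        exact ⟨c * a, by rw [smul_comm, ha, mul_smul]⟩
    obtain ⟨a, ha⟩ := h3
    obtain ⟨W, hW⟩ := hwu.mul ((X.mem_basicOpen f y hyU).mp hyf)
    refine ⟨(↑W⁻¹ : X.presheaf.stalk y) * X.presheaf.germ U y hyU a, ?_⟩
    simp only
    rw [mul_smul, ← Groth.Agent.QCohLib.germ_smul, ← ha, Groth.Agent.QCohLib.germ_smul, ← hm', smul_smul,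
      smul_smul, mul_assoc, ← hW, Units.inv_mul, one_smul]

end Groth.Agent.S16149
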