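import Groth.Statements.S1615
-- import your own Groth.Agent.* helpers here

set_option autoImplicit false
universe u
open CategoryTheory CategoryTheory.Limits AlgebraicGeometry
open Constr

namespace Groth.Agent.S1615

/-- For a graded ring A, quasi-compactness of Proj A is equivalent to the existence of finitely many
homogeneous elements of positive degree generating an ideal whose radical contains the irrelevant
ideal A_+. -/
theorem result {R A : Type u} [CommRing R] [CommRing A] [Algebra R A] (𝒜 : ℕ → Submodule R A) [GradedAlgebra 𝒜] :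
    CompactSpace ↥(Proj 𝒜) ↔ ∃ s : Finset A, (∀ f ∈ s, ∃ d : ℕ, 0 < d ∧ f ∈ 𝒜 d) ∧
      (HomogeneousIdeal.irrelevant 𝒜).toIdeal ≤ (Ideal.span (s : Set A)).radical := by
  classical
  constructor
  · intro hc
    let 𝒰 := (Proj.affineOpenCover 𝒜)
    obtain ⟨t, ht⟩ := hc.isCompact_univ.elim_finite_subcover
      (fun i : 𝒰.I₀ ↦ (Proj.basicOpen 𝒜 (i.2 : A) : Set (Proj 𝒜))) (fun i ↦ (Proj.basicOpen 𝒜 _).isOpen)
      (fun x _ ↦ by
        have hx := 𝒰.covers x
        refine Set.mem_iUnion.mpr ⟨𝒰.idx x, ?_⟩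
        rw [← Proj.opensRange_awayι 𝒜 ((𝒰.idx x).2 : A) (𝒰.idx x).2.2 (𝒰.idx x).1.2]
        exact hx)
    refine ⟨t.image fun i ↦ (i.2 : A), ?_, ?_⟩
    · intro f hf
      obtain ⟨i, -, rfl⟩ := Finset.mem_image.mp hf
      exact ⟨i.1, i.1.2, i.2.2⟩
    · have hhom : (Ideal.span ((t.image fun i ↦ (i.2 : A) : Finset A) : Set A)).IsHomogeneous 𝒜 := by
        refine Ideal.homogeneous_span 𝒜 _ ?_
        intro f hf
        obtain ⟨i, -, rfl⟩ := Finset.mem_image.mp (Finset.mem_coe.mp hf)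
        exact ⟨_, i.2.2⟩
      rw [hhom.radical_eq]
      refine le_sInf fun J ⟨hJh, hle, hJp⟩ ↦ ?_
      by_contra hne
      let x : Proj 𝒜 := (⟨⟨J, hJh⟩, hJp, hne⟩ : ProjectiveSpectrum 𝒜)
      obtain ⟨i, hi, hxi⟩ := Set.mem_iUnion₂.mp (ht (Set.mem_univ x))
      exact hxi (hle (Ideal.subset_span (Finset.mem_image_of_mem _ hi)))
  · rintro ⟨s, hs, hle⟩
    refine ⟨?_⟩
    have hcover : (Set.univ : Set (Proj 𝒜)) = ⋃ f ∈ s, (Proj.basicOpen 𝒜 f : Set (Proj 𝒜)) := by
      refine (Set.eq_univ_of_forall fun x ↦ ?_).symm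
      by_contra hx
      simp only [Set.mem_iUnion, not_exists] at hx
      refine x.not_irrelevant_le (hle.trans (x.isPrime.radical_le_iff.mpr (Ideal.span_le.mpr ?_)))
      intro f hf
      by_contra hfx
      exact hx f hf hfx
    rw [hcover]
    refine s.finite_toSet.isCompact_biUnion fun f hf ↦ ?_
    obtain ⟨d, hd, hfd⟩ := hs f hf
    exact (Proj.isAffineOpen_basicOpen 𝒜 f hfd hd).isCompact

end Groth.Agent.S1615
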