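import Groth.Statements.S16150
import Groth.Agent.Ref1.Colim

set_option autoImplicit false
universe u
open CategoryTheory CategoryTheory.Limits AlgebraicGeometry TopologicalSpace
open SDiv

namespace Groth.Agent.S16150

/-- Let X be an integral locally Noetherian normal scheme, F a rank one coherent reflexive O_X-module
and s : O_X → F a global section of F. Let U be the open subscheme of X whose points are those x at
which the stalk map (O_X)_x → F_x of s is bijective, and j : U → X its inclusion. Consider the
system O_X → F → F^[2] → F^[3] → ⋯ of reflexive powers (F^[0] = O_X, F^[1] = F, F^[n+1] the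
reflexive hull of F^[n] ⊗ F), each map being multiplication by s. Then j_*(O_X|_U) is the colimit of
this system in the category of O_X-modules; precisely, there is a cocone from the system to
j_*(O_X|_U) whose leg in degree 0 is the restriction map O_X → j_*(O_X|_U) (the unit of the
adjunction between restriction to U and direct image along j) and which is a colimit cocone. -/
theorem result (X : Scheme.{u}) [IsIntegral X] [IsLocallyNoetherian X]
    (hX : Pi1.IsNormalScheme X) (F : X.Modules) (hF : RefHull.IsRef1 F) (s : Coh.structureModule X ⟶ F)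
    (U : X.Opens) (hU : (U : Set X) = RefPow.isoLocus s) :
    ∃ ι : RefPow.diagram F s ⟶ (Functor.const ℕ).obj ((Scheme.Modules.pushforward U.ι).obj ((Coh.structureModule X).restrict U.ι)),
      ι.app 0 = (Scheme.Modules.restrictAdjunction U.ι).unit.app (Coh.structureModule X) ∧
        Nonempty (IsColimit (Cocone.mk _ ι)) := by
  open Groth.Agent.Ref1 in
  by_cases hs : s = 0
  · subst hs
    have hbot := eq_bot_of_eq_zero (0 : Coh.structureModule X ⟶ F) rfl hU
    have hsub : ∀ V : X.Opens, Subsingleton Γ(pushU U, V) := fun V => by
      have e : U.ι ''ᵁ (U.ι ⁻¹ᵁ V) = ⊥ := by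
        rw [Scheme.Hom.image_preimage_eq_opensRange_inf, Scheme.Opens.opensRange_ι, hbot, bot_inf_eq]
      change Subsingleton Γ(X, U.ι ''ᵁ (U.ι ⁻¹ᵁ V))
      rw [e]
      exact CommRingCat.subsingleton_of_isTerminal X.sheaf.isTerminalOfEmpty
    have h0 : ∀ {N : X.Modules} (f g : N ⟶ pushU U), f = g := fun f g =>
      Scheme.Modules.hom_ext _ _ fun V => by ext r; exact @Subsingleton.elim _ (hsub V) _ _
    refine ⟨{ app := fun _ => 0, naturality := fun _ _ _ => h0 _ _ }, h0 _ _, ⟨?_⟩⟩
    refine { desc := fun K => 0, fac := fun K n => ?_, uniq := fun K f _ => ?_ }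
    · rw [← K.w (homOfLE (Nat.le_succ n)), RefPow.diagram_map, mulBy_zero_section]
      exact comp_zero.trans zero_comp.symm
    · refine Scheme.Modules.hom_ext _ _ fun V => ?_
      ext r
      rw [@Subsingleton.elim _ (hsub V) r 0]
      exact (map_zero _).trans (map_zero _).symm
  obtain ⟨D, hD, hR⟩ := exists_rep_germ s hX hF hs
  exact exists_colimit s hX hD hR hU

end Groth.Agent.S16150
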