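import Groth.Statements.S16152
import Mathlib

set_option autoImplicit false
universe u
open WGauss

namespace Groth.Agent.S16152

section

open MvPolynomial Finsupp

variable {k : Type*} [Field k] [CharZero k] {n : ℕ}

theorem exists_le_degree_eq (γ : Fin (n + 1) →₀ ℕ) : ∀ m : ℕ, m ≤ Finsupp.degree γ →
    ∃ α, α ≤ γ ∧ Finsupp.degree α = m := by
  intro m
  induction m with
  | zero => exact fun _ => ⟨0, fun _ => Nat.zero_le _, map_zero _⟩
  | succ m ih =>
    intro hm
    obtain ⟨α, hle, hdeg⟩ := ih (by omega)
    obtain ⟨i, hi⟩ : ∃ i, α i < γ i := by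
      by_contra h
      push Not at h
      have : γ = α := le_antisymm h hle
      subst this
      omega
    refine ⟨α + Finsupp.single i 1, fun j => ?_, by rw [map_add, hdeg, Finsupp.degree_single]⟩
    rcases eq_or_ne i j with rfl | hij
    · simpa using hi
    · simpa [Finsupp.single_eq_of_ne hij.symm] using hle j

/-- The monomial tuple of weight `v` in multidegree `γ`. -/
noncomputable def wt (γ : Fin (n + 1) →₀ ℕ) :
    (Fin (n + 1) → k) →ₗ[k] (Fin (n + 1) → MvPolynomial (Fin (n + 1)) k) :=
  LinearMap.pi fun i => (MvPolynomial.monomial (γ - Finsupp.single i 1)).comp (LinearMap.proj i)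

theorem wt_apply (γ : Fin (n + 1) →₀ ℕ) (v : Fin (n + 1) → k) (i : Fin (n + 1)) :
    wt γ v i = MvPolynomial.monomial (γ - Finsupp.single i 1) (v i) := rfl

theorem mem_of_sum_eq_zero (S : Submodule k (Fin (n + 1) → k)) (v : Fin (n + 1) → k)
    (hv : ∑ i, v i = 0) (i₀ : Fin (n + 1))
    (h : ∀ i, v i ≠ 0 → Pi.single i 1 - Pi.single i₀ 1 ∈ S) : v ∈ S := by
  classical
  have : v = ∑ i, v i • (Pi.single i 1 - Pi.single i₀ (1 : k) : Fin (n + 1) → k) := by
    simp only [smul_sub, Finset.sum_sub_distrib, ← Finset.sum_smul, hv, zero_smul, sub_zero]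
    exact pi_eq_sum_univ' v
  rw [this]
  refine S.sum_mem fun i _ => ?_
  by_cases hi : v i = 0
  · rw [hi, zero_smul]; exact S.zero_mem
  · exact S.smul_mem _ (h i hi)

theorem wt_mem {e a b : ℕ} (he : 0 < e) (ha : 0 < a) (hb : 0 < b) (γ : Fin (n + 1) →₀ ℕ)
    (hγ : Finsupp.degree γ = (a + b) * e) (v : Fin (n + 1) → k) (hv : ∑ i, v i = 0)
    (hsupp : ∀ i, γ i = 0 → v i = 0) :
    wt γ v ∈ Submodule.span k
      {g : Fin (n + 1) → MvPolynomial (Fin (n + 1)) k |
        ∃ σ τ : MvPolynomial (Fin (n + 1)) k, σ.IsHomogeneous (a * e) ∧ τ.IsHomogeneous (b * e) ∧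
          g = fun i => (b : k) • (τ * pderiv i σ) - (a : k) • (σ * pderiv i τ)} := by
  classical
  set T := Submodule.span k
      {g : Fin (n + 1) → MvPolynomial (Fin (n + 1)) k |
        ∃ σ τ : MvPolynomial (Fin (n + 1)) k, σ.IsHomogeneous (a * e) ∧ τ.IsHomogeneous (b * e) ∧
          g = fun i => (b : k) • (τ * pderiv i σ) - (a : k) • (σ * pderiv i τ)}
  change v ∈ T.comap (wt γ)
  have hgen : ∀ α, α ≤ γ → Finsupp.degree α = a * e →
      (fun i => ((a + b : ℕ) : k) * (α i : k) - (a : k) * (γ i : k)) ∈ T.comap (wt γ) := by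
    intro α hle hdeg
    set β := γ - α with hβ
    have hsum : α + β = γ := add_tsub_cancel_of_le hle
    have hdβ : Finsupp.degree β = b * e := by
      have := congrArg Finsupp.degree hsum
      rw [map_add, hdeg, hγ, add_mul] at this
      omega
    refine Submodule.subset_span ⟨MvPolynomial.monomial α 1, MvPolynomial.monomial β 1,
      isHomogeneous_monomial _ hdeg, isHomogeneous_monomial _ hdβ, funext fun i => ?_⟩
    have h1 : MvPolynomial.monomial β (1 : k) * pderiv i (MvPolynomial.monomial α 1) =
        MvPolynomial.monomial (γ - Finsupp.single i 1) (α i : k) := by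
      rw [pderiv_monomial, monomial_mul, one_mul, one_mul]
      rcases Nat.eq_zero_or_pos (α i) with h0 | hp
      · rw [h0, Nat.cast_zero, map_zero, map_zero]
      · rw [← add_tsub_assoc_of_le (Finsupp.single_le_iff.2 hp), add_comm β α, hsum]
    have h2 : MvPolynomial.monomial α (1 : k) * pderiv i (MvPolynomial.monomial β 1) =
        MvPolynomial.monomial (γ - Finsupp.single i 1) (β i : k) := by
      rw [pderiv_monomial, monomial_mul, one_mul, one_mul]
      rcases Nat.eq_zero_or_pos (β i) with h0 | hp
      · rw [h0, Nat.cast_zero, map_zero, map_zero]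
      · rw [← add_tsub_assoc_of_le (Finsupp.single_le_iff.2 hp), hsum]
    rw [wt_apply, h1, h2, MvPolynomial.smul_monomial, MvPolynomial.smul_monomial, ← map_sub]
    congr 1
    have hi : (γ i : k) = (α i : k) + (β i : k) := by
      rw [← hsum, Finsupp.add_apply, Nat.cast_add]
    rw [hi]
    push_cast
    simp only [smul_eq_mul]
    ring
  obtain ⟨i₀, hi₀⟩ : ∃ i, γ i ≠ 0 := by
    by_contra h
    push Not at h
    have : γ = 0 := Finsupp.ext h
    rw [this, map_zero] at hγ
    have := Nat.mul_pos (Nat.add_pos_left ha b) he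
    omega
  refine mem_of_sum_eq_zero _ v hv i₀ fun i hi => ?_
  rcases eq_or_ne i i₀ with rfl | hne
  · rw [sub_self]; exact Submodule.zero_mem _
  have hγi : γ i ≠ 0 := fun h => hi (hsupp i h)
  have hle2 : Finsupp.single i 1 + Finsupp.single i₀ 1 ≤ γ := fun j => by
    rw [Finsupp.add_apply]
    by_cases h1 : j = i
    · subst h1; rw [Finsupp.single_eq_same, Finsupp.single_eq_of_ne hne]; omega
    · rw [Finsupp.single_eq_of_ne h1]
      by_cases h2 : j = i₀
      · subst h2; rw [Finsupp.single_eq_same]; omega
      · rw [Finsupp.single_eq_of_ne h2]; omega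
  have hdγ : Finsupp.degree (γ - (Finsupp.single i 1 + Finsupp.single i₀ 1)) + 2 = (a + b) * e := by
    rw [← hγ]
    conv_rhs => rw [← tsub_add_cancel_of_le hle2, map_add, map_add, Finsupp.degree_single, Finsupp.degree_single]
  obtain ⟨c, hc, hcd⟩ := exists_le_degree_eq (γ - (Finsupp.single i 1 + Finsupp.single i₀ 1)) (a * e - 1) (by
    have : 1 ≤ b * e := Nat.mul_pos hb he
    rw [add_mul] at hdγ
    omega)
  have hc' : c + (Finsupp.single i 1 + Finsupp.single i₀ 1) ≤ γ :=
    (le_tsub_iff_right hle2).1 hc
  have h1 := hgen (c + Finsupp.single i 1) (le_trans (by rw [← add_assoc]; exact le_self_add) hc')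
    (by rw [map_add, hcd, Finsupp.degree_single]; have := Nat.mul_pos ha he; omega)
  have h2 := hgen (c + Finsupp.single i₀ 1)
    (le_trans (by rw [← add_assoc, add_right_comm]; exact le_self_add) hc')
    (by rw [map_add, hcd, Finsupp.degree_single]; have := Nat.mul_pos ha he; omega)
  have hab : ((a + b : ℕ) : k) ≠ 0 := Nat.cast_ne_zero.2 (by omega)
  have h3 := Submodule.smul_mem _ ((a + b : ℕ) : k)⁻¹ (Submodule.sub_mem _ h1 h2)
  convert h3 using 1
  funext j
  simp only [Pi.smul_apply, Pi.sub_apply, Finsupp.add_apply, Finsupp.single_apply, Pi.single_apply,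
    smul_eq_mul, Nat.cast_add (c j)]
  rw [sub_sub_sub_cancel_right, ← mul_sub, ← mul_assoc, inv_mul_cancel₀ hab, one_mul, add_sub_add_left_eq_sub]
  simp [eq_comm]

end

open MvPolynomial in
/-- Over a field k of characteristic zero, for e, a, b positive integers with a < b, the weighted
Gaussian map of the line bundle O(e) on projective n-space is surjective. Concretely, identifying
global sections of O(m) with homogeneous polynomials of degree m in X_0, ..., X_n and global
sections of the twisted cotangent sheaf Omega^1(t) with the (n+1)-tuples of homogeneous polynomials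
of degree t - 1 killed by the Euler map (f_i) to sum_i X_i f_i, every such tuple with t = (a+b)e is
a k-linear combination of the tuples (b tau (d sigma / d X_i) - a sigma (d tau / d X_i))_i with
sigma homogeneous of degree ae and tau homogeneous of degree be. (The source works over the complex
numbers; the statement is one of linear algebra and is given here over any field of characteristic
zero.) -/
theorem result
    (k : Type u) [Field k] [CharZero k] (n e a b : ℕ) (he : 0 < e) (ha : 0 < a) (hab : a < b)
    (f : Fin (n + 1) → MvPolynomial (Fin (n + 1)) k)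
    (hf : ∀ i, (f i).IsHomogeneous ((a + b) * e - 1))
    (hEuler : ∑ i, X i * f i = 0) :
    f ∈ Submodule.span k
      {g : Fin (n + 1) → MvPolynomial (Fin (n + 1)) k |
        ∃ σ τ : MvPolynomial (Fin (n + 1)) k, σ.IsHomogeneous (a * e) ∧ τ.IsHomogeneous (b * e) ∧
          g = fun i => (b : k) • (τ * pderiv i σ) - (a : k) • (σ * pderiv i τ)} := by
  classical
  have hab0 : 0 < b := by omega
  let G : Finset (Fin (n + 1) →₀ ℕ) :=
    Finset.univ.biUnion fun i => (f i).support.image (· + Finsupp.single i 1)
  let v : (Fin (n + 1) →₀ ℕ) → Fin (n + 1) → k := fun γ i =>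
    if γ i = 0 then 0 else coeff (γ - Finsupp.single i 1) (f i)
  have hG : ∀ γ ∈ G, Finsupp.degree γ = (a + b) * e := by
    intro γ hγ
    simp only [G, Finset.mem_biUnion, Finset.mem_image] at hγ
    obtain ⟨i, -, d, hd, rfl⟩ := hγ
    have := (hf i).degree_eq_sum_deg_support hd
    rw [map_add, Finsupp.degree_single]
    have hpos := Nat.mul_pos (Nat.add_pos_left ha b) he
    have hdd : Finsupp.degree d = ∑ j ∈ d.support, d j := rfl
    omega
  have hv : ∀ γ, ∑ i, v γ i = 0 := by
    intro γ
    have := congrArg (coeff γ) hEuler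
    rw [coeff_sum, coeff_zero] at this
    rw [← this]
    refine Finset.sum_congr rfl fun i _ => ?_
    rw [MvPolynomial.coeff_X_mul']
    by_cases h0 : γ i = 0 <;> simp [v, h0]
  have hdecomp : f = ∑ γ ∈ G, wt γ (v γ) := by
    funext i
    rw [Finset.sum_apply]
    simp only [wt_apply]
    conv_lhs => rw [(f i).as_sum]
    rw [← Finset.sum_subset (s₁ := (f i).support.image (· + Finsupp.single i 1)) (s₂ := G)
      (fun x hx => Finset.mem_biUnion.2 ⟨i, Finset.mem_univ i, hx⟩)]
    · rw [Finset.sum_image (fun x _ y _ h => add_right_cancel h)]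
      refine Finset.sum_congr rfl fun d _ => ?_
      simp [v]
    · intro γ _ hγ
      simp only [v]
      split_ifs with h0
      · exact map_zero _
      · rw [MvPolynomial.monomial_eq_zero]
        by_contra hne
        refine hγ (Finset.mem_image.2 ⟨γ - Finsupp.single i 1, MvPolynomial.mem_support_iff.2 hne,
          tsub_add_cancel_of_le (Finsupp.single_le_iff.2 (by omega))⟩)
  rw [hdecomp]
  exact Submodule.sum_mem _ fun γ hγ => wt_mem he ha hab0 γ (hG γ hγ) (v γ) (hv γ)
    fun i hi => by simp [v, hi]


end Groth.Agent.S16152
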