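import Mathlib
import Groth.Statements.S16156
-- import your own Groth.Agent.* helpers here

set_option autoImplicit false
universe u
open MukaiVec

namespace Groth.Agent.S16156

/-- Let N be an abelian group with a symmetric integer-valued bilinear form and H an element with H·H =
2n for some n > 0 such that every x with x·H = 0 satisfies x·x ≤ 0 (the Hodge index inequality). Fix
integers r ≥ 2, d > 0 and χ < 0 (a Mukai vector v = (r, dH, χ)) and an isotropic Mukai vector u =
(p, η, q), p ≥ 0, η ∈ N, η·η = 2pq, whose pairing ⟨v, u⟩ = d(H·η) − rq − χp has absolute value 1 or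
2. Exclude the case d = 1, χ = −1, H·η = 1, η·η = 0, and when r = 2 also the case p = 0, H·η = 0.
Then the pairings of u∨ = (p, −η, q) with w₀ = (0, rH, −2nd) and with w₁ = (2nd, −χH, 0) are both
non-negative or both negative: 2ndp − r(H·η) ≥ 0 holds if and only if χ(H·η) − 2ndq ≥ 0 holds. -/
theorem result
    (N : Type u) [AddCommGroup N] (B : LinearMap.BilinForm ℤ N) (hB : ∀ x y : N, B x y = B y x)
    (H : N) (n : ℤ) (hn : 0 < n) (hH : B H H = 2 * n) (hodge : ∀ x : N, B x H = 0 → B x x ≤ 0)
    (r d χ p q : ℤ) (η : N) (hr : 2 ≤ r) (hd : 0 < d) (hχ : χ < 0) (hp : 0 ≤ p)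
    (hiso : B η η = 2 * p * q)
    (hvu : 1 ≤ |d * B H η - r * q - χ * p| ∧ |d * B H η - r * q - χ * p| ≤ 2)
    (hexc : ¬ (d = 1 ∧ χ = -1 ∧ B H η = 1 ∧ B η η = 0))
    (hr2 : r = 2 → ¬ (p = 0 ∧ B H η = 0)) :
    (0 ≤ 2 * n * d * p - r * B H η ↔ 0 ≤ χ * B H η - 2 * n * d * q) := by
  set a := B H η with ha
  have hH' : B η H = a := hB η H
  have hodge' : 4 * n * (p * q) ≤ a ^ 2 := by
    have h1 := hodge ((2 * n) • η - a • H) (by simp [hH, hH']; ring)
    simp [hH, hH', ← ha, hiso] at h1
    nlinarith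
  obtain ⟨he1, he2⟩ := hvu
  rw [abs_le] at he2
  rcases le_or_gt a 0 with hneg | hpos
  · have hX : 0 ≤ 2 * n * d * p - r * a := by nlinarith [mul_nonneg (mul_nonneg hn.le hd.le) hp]
    refine iff_of_true hX ?_
    by_contra hY
    push_neg at hY
    have hq : 0 < q := by
      by_contra hq
      push_neg at hq
      nlinarith [mul_nonneg hn.le hd.le, mul_nonpos_of_nonneg_of_nonpos (mul_nonneg hn.le hd.le) hq, mul_nonneg_of_nonpos_of_nonpos hχ.le hneg]
    rcases hp.eq_or_lt with hp0 | hppos
    · subst hp0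
      have h1 : d * (-a) + r * q ≤ 2 := by linarith [he2.1]
      have h2 : r = 2 := by nlinarith [mul_nonneg hd.le (neg_nonneg.2 hneg)]
      have h3 : a = 0 := by nlinarith [mul_nonneg hd.le (neg_nonneg.2 hneg)]
      exact hr2 h2 ⟨rfl, h3⟩
    · rcases hneg.eq_or_lt with ha0 | haneg
      · rw [ha0] at hodge'
        nlinarith [mul_pos hn (mul_pos hppos hq)]
      · have h2 : (-χ) * (4 * n * (p * q)) ≤ (-χ) * a ^ 2 := mul_le_mul_of_nonneg_left hodge' (by linarith)
        have h3 : (-χ) * a ^ 2 < 2 * n * d * q * (-a) := by nlinarith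
        have h4 : 2 * (n * q) * (2 * p * (-χ)) < 2 * (n * q) * (d * (-a)) := by nlinarith
        have h5 : 2 * p * (-χ) < d * (-a) := lt_of_mul_lt_mul_left h4 (by positivity)
        nlinarith [he2.1, mul_le_mul hr (show (1 : ℤ) ≤ q from hq) (by norm_num) (by linarith)]
  · rcases lt_or_ge q 0 with hq | hq
    · exfalso
      nlinarith [he2.2, mul_pos hd hpos, mul_nonneg (neg_nonneg.2 hχ.le) hp, mul_le_mul hr (show (1 : ℤ) ≤ -q by linarith) (by norm_num) (by linarith)]
    · have hY : ¬ 0 ≤ χ * a - 2 * n * d * q := by nlinarith [mul_nonneg (mul_nonneg hn.le hd.le) hq]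
      refine iff_of_false ?_ hY
      intro hX
      rcases hp.eq_or_lt with hp0 | hppos
      · subst hp0
        nlinarith
      have h2 : r * (4 * n * (p * q)) ≤ r * a ^ 2 := mul_le_mul_of_nonneg_left hodge' (by linarith)
      have h3 : r * a ^ 2 ≤ 2 * n * d * p * a := by nlinarith
      have h4 : 2 * (n * p) * (2 * (r * q)) ≤ 2 * (n * p) * (d * a) := by nlinarith
      have h5 : 2 * (r * q) ≤ d * a := le_of_mul_le_mul_left h4 (by positivity)
      have h6 : 1 ≤ -χ * p := by nlinarith
      have h7 : 1 ≤ d * a := by nlinarith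
      have h8 : -χ * p = 1 ∧ d * a ≤ 2 := by constructor <;> linarith [he2.2]
      have h9 : r * q = 0 := by
        rcases hq.eq_or_lt with h | h
        · rw [← h]; ring
        · nlinarith [mul_le_mul hr (show (1 : ℤ) ≤ q from h) (by norm_num) (by linarith)]
      have h10 : d * a = 1 := by nlinarith [he2.2]
      have hq0 : q = 0 := (mul_eq_zero.1 h9).resolve_left (by linarith)
      have hd1 : d = 1 := Int.eq_one_of_mul_eq_one_right hd.le h10
      refine hexc ⟨hd1, ?_, ?_, ?_⟩
      · have := Int.eq_one_of_mul_eq_one_right (by linarith : (0 : ℤ) ≤ -χ) h8.1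
        linarith
      · rw [hd1, one_mul] at h10; exact h10
      · rw [hiso, hq0, mul_zero]

end Groth.Agent.S16156
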