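import Groth.Statements.S16158
import Mathlib.Algebra.Module.Torsion.Basic
import Mathlib.RingTheory.Ideal.AssociatedPrime.Finiteness
import Mathlib.Algebra.DirectSum.Module
import Mathlib.LinearAlgebra.Dimension.Finite
import Mathlib.LinearAlgebra.InvariantBasisNumber
import Mathlib.LinearAlgebra.DFinsupp
import Mathlib.LinearAlgebra.FreeModule.StrongRankCondition
import Mathlib.RingTheory.Ideal.Quotient.Basic
-- import your own Groth.Agent.* helpers here

set_option autoImplicit false
universe u v w
open MadRed

namespace Groth.Agent.S16158

/-- Let R be a commutative Noetherian ring and M a finitely generated R-module. Then there is a natural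
number n such that in every decomposition of M as an internal direct sum of a family of submodules,
at most n of the summands are nonzero (the nonzero summands are indexed by a finite set of size at
most n). -/
theorem result (R : Type u) [CommRing R] [IsNoetherianRing R]
    (M : Type v) [AddCommGroup M] [Module R M] [Module.Finite R M] :
    ∃ n : ℕ, ∀ (ι : Type w) [DecidableEq ι] (N : ι → Submodule R M), DirectSum.IsInternal N →
      ∃ s : Finset ι, s.card ≤ n ∧ ∀ i, N i ≠ ⊥ → i ∈ s := by
  classical
  have hAss : (associatedPrimes R M).Finite := associatedPrimes.finite R M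
  refine ⟨∑ p ∈ hAss.toFinset, Module.finrank (R ⧸ p) (Submodule.torsionBySet R M (p : Set R)),
    fun ι _ N hN => ?_⟩
  have hind := hN.submodule_iSupIndep
  let S : Ideal R → Set ι := fun p => {i | IsAssociatedPrime p (N i)}
  have key : ∀ p ∈ hAss.toFinset, ∀ s : Finset ι, (∀ i ∈ s, i ∈ S p) →
      s.card ≤ Module.finrank (R ⧸ p) (Submodule.torsionBySet R M (p : Set R)) := by
    intro p hp s hs
    haveI : p.IsPrime := (hAss.mem_toFinset.mp hp).1
    haveI : Module.Finite (R ⧸ p) (Submodule.torsionBySet R M (p : Set R)) :=
      Module.Finite.of_restrictScalars_finite R _ _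
    choose x hx using fun i : s => (isAssociatedPrime_iff.mp (hs i i.2)).2
    have hmem : ∀ i : s, ((x i : N i) : M) ∈ Submodule.torsionBySet R M (p : Set R) := by
      intro i
      rw [Submodule.mem_torsionBySet_iff]
      rintro ⟨a, ha⟩
      rw [SetLike.mem_coe, hx i, Submodule.mem_colon_singleton, Submodule.mem_bot] at ha
      exact congrArg Subtype.val ha
    let v : s → Submodule.torsionBySet R M (p : Set R) := fun i => ⟨_, hmem i⟩
    have hli : LinearIndependent (R ⧸ p) v := by
      rw [Fintype.linearIndependent_iff]
      intro g hg i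
      choose r hr using fun j => Ideal.Quotient.mk_surjective (g j)
      have h1 : ∑ j, r j • ((x j : N j) : M) = 0 := by
        have h2 := congrArg Subtype.val hg
        rw [AddSubmonoidClass.coe_finsetSum, ZeroMemClass.coe_zero] at h2
        rw [← h2]
        refine Finset.sum_congr rfl fun j _ => ?_
        rw [← hr j]
        rfl
      have hind' : iSupIndep fun j : s => N j := hind.comp Subtype.val_injective
      have h3 := (iSupIndep_iff_finsetSum_eq_zero_imp_eq_zero _).mp hind' Finset.univ
        (fun j => r j • ((x j : N j) : M)) (fun j _ => (N j).smul_mem _ (x j).2) h1 i (Finset.mem_univ i)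
      rw [← hr i, Ideal.Quotient.eq_zero_iff_mem, hx i, Submodule.mem_colon_singleton, Submodule.mem_bot]
      exact Subtype.ext h3
    simpa using hli.fintype_card_le_finrank
  have hfin : ∀ p ∈ hAss.toFinset, (S p).Finite := by
    intro p hp
    by_contra hinf
    obtain ⟨s, hs, hc⟩ := Set.Infinite.exists_subset_card_eq hinf
      (Module.finrank (R ⧸ p) (Submodule.torsionBySet R M (p : Set R)) + 1)
    have := key p hp s hs
    omega
  refine ⟨hAss.toFinset.attach.biUnion fun p => (hfin p.1 p.2).toFinset, ?_, fun i hi => ?_⟩
  · refine Finset.card_biUnion_le.trans ?_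
    rw [← Finset.sum_attach hAss.toFinset]
    exact Finset.sum_le_sum fun p _ => key p.1 p.2 _ fun i hi => (hfin p.1 p.2).mem_toFinset.mp hi
  · haveI : Nontrivial (N i) := Submodule.nontrivial_iff_ne_bot.mpr hi
    obtain ⟨p, hp⟩ := associatedPrimes.nonempty R (N i)
    have hpM : p ∈ hAss.toFinset := hAss.mem_toFinset.mpr
      (IsAssociatedPrime.map_of_injective (N i).subtype hp (N i).injective_subtype)
    exact Finset.mem_biUnion.mpr ⟨⟨p, hpM⟩, Finset.mem_attach _ _, (hfin p hpM).mem_toFinset.mpr hp⟩

end Groth.Agent.S16158
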