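import Mathlib
import Groth.Statements.S16159
-- import your own Groth.Agent.* helpers here

set_option autoImplicit false
universe u v w x
open MadRed

namespace Groth.Agent.S16159

/-- Let k be a field, R a commutative Noetherian k-algebra and V an R-module, viewed also as a k-vector
space through k → R. Let (f_i) be a family of pairwise commuting R-linear endomorphisms of V such
that each f_i, as a k-linear map, is diagonalizable over k (its eigenspaces span V), and such that
every vector of V lies in a finitely generated R-submodule stable under every f_i. Then the family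
is simultaneously diagonalizable over k: the common eigenspaces ⨅_i Eig(f_i, χ(i)), over all
assignments χ of eigenvalues in k, span V. The source states this for the endomorphisms given by an
abelian group acting R-linearly; the row takes any commuting family, which is what the argument
uses, and neither k algebraically closed nor of characteristic zero is needed. -/
theorem result
    (k : Type u) [Field k] (R : Type v) [CommRing R] [Algebra k R] [IsNoetherianRing R]
    (V : Type w) [AddCommGroup V] [Module R V] [Module k V] [IsScalarTower k R V]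
    (ι : Type x) (f : ι → Module.End R V)
    (hcomm : ∀ i j, Commute (f i) (f j))
    (hdiag : ∀ i, ⨆ μ : k, Module.End.eigenspace ((f i).restrictScalars k) μ = ⊤)
    (hfin : ∀ v : V, ∃ W : Submodule R V, v ∈ W ∧ W.FG ∧ ∀ i, ∀ w ∈ W, f i w ∈ W) :
    ⨆ χ : ι → k, ⨅ i, Module.End.eigenspace ((f i).restrictScalars k) (χ i) = ⊤ := by
  classical
  let E : ι → k → Submodule R V := fun i μ => LinearMap.ker (f i - algebraMap k R μ • (1 : Module.End R V))
  have hE : ∀ i μ v, v ∈ E i μ ↔ f i v = μ • v := by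
    intro i μ v
    simp [E, sub_eq_zero, algebraMap_smul]
  let S : Submodule k V := ⨆ χ : ι → k, ⨅ i, Module.End.eigenspace ((f i).restrictScalars k) (χ i)
  have hcomp : ∀ (i : ι) (U : Submodule R V), (∀ w ∈ U, f i w ∈ U) → ∀ (s : Finset k) (c : k → V),
      (∀ μ ∈ s, c μ ∈ E i μ) → (∑ μ ∈ s, c μ) ∈ U → ∀ μ ∈ s, c μ ∈ U := by
    intro i U hU s
    induction s using Finset.induction with
    | empty => intro c _ _ μ hμ; simp at hμ
    | @insert a s ha ih =>
      intro c hc hsum
      have h1 : ∑ μ ∈ s, (μ - a) • c μ ∈ U := by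
        have h2 : f i (∑ μ ∈ insert a s, c μ) - a • (∑ μ ∈ insert a s, c μ) ∈ U := by
          refine U.sub_mem (hU _ hsum) ?_
          rw [← algebraMap_smul R a]
          exact U.smul_mem _ hsum
        rw [map_sum, Finset.smul_sum, ← Finset.sum_sub_distrib, Finset.sum_insert ha,
          (hE i a _).1 (hc a (Finset.mem_insert_self a s)), sub_self, zero_add] at h2
        refine (Finset.sum_congr rfl fun μ hμ => ?_).subst h2
        rw [(hE i μ _).1 (hc μ (Finset.mem_insert_of_mem hμ)), sub_smul]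
      have h3 := ih (fun μ => (μ - a) • c μ) (fun μ hμ => by
        rw [← algebraMap_smul R (μ - a)]
        exact Submodule.smul_mem _ _ (hc μ (Finset.mem_insert_of_mem hμ))) h1
      have h4 : ∀ μ ∈ s, c μ ∈ U := fun μ hμ => by
        have hne : μ - a ≠ 0 := sub_ne_zero.2 fun e => ha (e ▸ hμ)
        have := U.smul_mem (algebraMap k R (μ - a)⁻¹) (h3 μ hμ)
        rwa [algebraMap_smul, smul_smul, inv_mul_cancel₀ hne, one_smul] at this
      intro μ hμ
      rcases Finset.mem_insert.1 hμ with rfl | hμ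
      · rw [Finset.sum_insert ha] at hsum
        exact (Submodule.add_mem_iff_left U (Submodule.sum_mem U h4)).1 hsum
      · exact h4 μ hμ
  have hdec : ∀ (i : ι) (v : V), ∃ (s : Finset k) (c : k → V), (∀ μ ∈ s, c μ ∈ E i μ) ∧ ∑ μ ∈ s, c μ = v := by
    intro i v
    have hv : v ∈ ⨆ μ : k, Module.End.eigenspace ((f i).restrictScalars k) μ := (hdiag i).symm ▸ Submodule.mem_top
    obtain ⟨c, hc, rfl⟩ := (Submodule.mem_iSup_iff_exists_finsupp _ _).1 hv
    exact ⟨c.support, c, fun μ _ => (hE i μ _).2 (Module.End.mem_eigenspace_iff.1 (hc μ)), rfl⟩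
  rw [eq_top_iff]
  intro v _
  obtain ⟨W, hvW, hWfg, hWst⟩ := hfin v
  haveI : IsNoetherian R W := isNoetherian_of_fg_of_noetherian W hWfg
  suffices key : ∀ (U : Submodule R W) (Z : Submodule R V), Z ≤ W → (∀ i, ∀ w ∈ Z, f i w ∈ Z) →
      Disjoint (U.map W.subtype) Z → ∀ z ∈ Z, z ∈ S from key ⊥ W le_rfl hWst (by simp) v hvW
  intro U
  induction U using WellFoundedGT.induction with
  | _ U ih =>
    intro Z hZW hZst hdisj z hz
    by_cases hsc : ∀ i, ∃ μ, Z ≤ E i μ
    · choose χ hχ using hsc
      refine Submodule.mem_iSup_of_mem χ (Submodule.mem_iInf _ |>.2 fun i => ?_)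
      exact Module.End.mem_eigenspace_iff.2 ((hE i _ _).1 (hχ i hz))
    push_neg at hsc
    obtain ⟨i, hi⟩ := hsc
    have hstab : ∀ μ, ∀ j, ∀ w ∈ Z ⊓ E i μ, f j w ∈ Z ⊓ E i μ := fun μ j w hw =>
      ⟨hZst j w hw.1, (hE i μ _).2 (by
        have h1 : f i (f j w) = f j (f i w) := LinearMap.congr_fun (hcomm i j) w
        rw [h1, (hE i μ w).1 hw.2, LinearMap.map_smul_of_tower])⟩
    obtain ⟨s, c, hc, hsum⟩ := hdec i z
    have hcZ := hcomp i Z (hZst i) s c hc (hsum ▸ hz)
    rw [← hsum]
    refine Submodule.sum_mem _ fun μ hμ => ?_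
    obtain ⟨z₀, hz₀Z, hz₀⟩ := SetLike.not_le_iff_exists.1 (hi μ)
    obtain ⟨s₀, c₀, hc₀, hsum₀⟩ := hdec i z₀
    obtain ⟨ν, hν, hνne⟩ : ∃ ν ∈ s₀, ν ≠ μ ∧ c₀ ν ≠ 0 := by
      by_contra h
      push_neg at h
      refine hz₀ (hsum₀ ▸ Submodule.sum_mem _ fun ν hν => ?_)
      by_cases e : ν = μ
      · exact e ▸ hc₀ ν hν
      · rw [h ν hν e]; exact zero_mem _
    have hνZ : c₀ ν ∈ Z := hcomp i Z (hZst i) s₀ c₀ hc₀ (hsum₀ ▸ hz₀Z) ν hν
    let Y : Submodule R V := U.map W.subtype ⊔ (Z ⊓ E i ν)
    have hYW : Y ≤ W := sup_le (Submodule.map_subtype_le W U) (inf_le_left.trans hZW)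
    have hY : (Y.comap W.subtype).map W.subtype = Y := by
      rw [Submodule.map_comap_subtype, inf_eq_right.2 hYW]
    have hlt : U < Y.comap W.subtype := by
      refine lt_of_le_of_ne (Submodule.map_le_iff_le_comap.1 le_sup_left) fun e => ?_
      have h1 : c₀ ν ∈ U.map W.subtype := by
        rw [e, hY]
        exact Submodule.mem_sup_right ⟨hνZ, hc₀ ν hν⟩
      exact hνne.2 (Submodule.disjoint_def.1 hdisj _ h1 hνZ)
    refine ih _ hlt (Z ⊓ E i μ) (inf_le_left.trans hZW) (hstab μ) ?_ (c μ) ⟨hcZ μ hμ, hc μ hμ⟩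
    rw [hY, Submodule.disjoint_def]
    intro x hx hx'
    obtain ⟨u, hu, y, hy, rfl⟩ := Submodule.mem_sup.1 hx
    have hu0 : u = 0 := Submodule.disjoint_def.1 hdisj u hu ((Submodule.add_mem_iff_left Z hy.1).1 hx'.1)
    subst hu0
    rw [zero_add] at hx' ⊢
    have : (ν - μ) • y = 0 := by rw [sub_smul, ← (hE i ν y).1 hy.2, ← (hE i μ y).1 hx'.2, sub_self]
    exact (smul_eq_zero.1 this).resolve_left (sub_ne_zero.2 hνne.1)

end Groth.Agent.S16159
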