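import Mathlib
import Groth.Agent.S16159
import Groth.Statements.S16160
-- import your own Groth.Agent.* helpers here

set_option autoImplicit false
universe u v w
open scoped TensorProduct
open MadRed

namespace Groth.Agent.S16160

open scoped TensorProduct

/-- Let k be a field, G = Spec A an affine k-group with A a commutative Hopf algebra over k, and R a
commutative Noetherian k-algebra, so that R ⊗ A is the coordinate ring of the base change G_R and
the k-algebra maps A → R are its R-valued points. Let H be a set of R-valued points which pairwise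
commute for the convolution product of G(R) (the case of an abelian subgroup of G(R)). If every g in
H is diagonalizable over k on R ⊗ A, meaning that the eigenspaces of right translation by g, for
eigenvalues in k, span R ⊗ A, then H is simultaneously diagonalizable over k on R ⊗ A: the common
eigenspaces of the right translations by all g in H span R ⊗ A. The standing assumptions of the
source at this point (k algebraically closed of characteristic zero, G reductive) are not used. -/
theorem result (k : Type u) [Field k]
    (A : Type v) [CommRing A] [HopfAlgebra k A] (R : Type w) [CommRing R] [Algebra k R]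
    [IsNoetherianRing R] (H : Set (A →ₐ[k] R))
    (hcomm : ∀ g ∈ H, ∀ h ∈ H,
      WithConv.toConv g * WithConv.toConv h = WithConv.toConv h * WithConv.toConv g)
    (hdiag : ∀ g ∈ H, ⨆ μ : k,
      Module.End.eigenspace (((MadRed.ptAct k A R g).toLinearMap).restrictScalars k) μ = ⊤) :
    ⨆ χ : H → k, ⨅ g : H,
      Module.End.eigenspace (((MadRed.ptAct k A R g.1).toLinearMap).restrictScalars k) (χ g) = ⊤ := by
  classical
  let T : (A →ₐ[k] R) → Module.End R (R ⊗[k] A) := fun g => (MadRed.ptAct k A R g).toLinearMap
  have hT1 : ∀ g a, T g ((1 : R) ⊗ₜ[k] a) = TensorProduct.map g.toLinearMap LinearMap.id (TensorProduct.comm k A A (Coalgebra.comul a)) := by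
    intro g a
    show MadRed.ptAct k A R g ((1 : R) ⊗ₜ[k] a) = _
    simp only [MadRed.ptAct, Algebra.TensorProduct.lift_tmul, map_one, one_mul]
    rfl
  have hcomp : ∀ g h : A →ₐ[k] R, T g * T h = T (WithConv.toConv g * WithConv.toConv h).ofConv := by
    intro g h
    refine TensorProduct.AlgebraTensorModule.ext fun r a => ?_
    have hr : r ⊗ₜ[k] a = r • ((1 : R) ⊗ₜ[k] a) := by rw [TensorProduct.smul_tmul', smul_eq_mul, mul_one]
    rw [hr, map_smul, map_smul, Module.End.mul_apply]
    congr 1
    let L : A ⊗[k] (A ⊗[k] A) →ₗ[k] R ⊗[k] A :=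
      (TensorProduct.map ((LinearMap.mul' k R) ∘ₗ TensorProduct.map g.toLinearMap h.toLinearMap) LinearMap.id) ∘ₗ
        (TensorProduct.comm k A (A ⊗[k] A)).toLinearMap
    have h1 : ∀ t : A ⊗[k] A, T g (TensorProduct.map h.toLinearMap LinearMap.id (TensorProduct.comm k A A t)) =
        L (TensorProduct.assoc k A A A (LinearMap.rTensor A Coalgebra.comul t)) := by
      intro t
      induction t using TensorProduct.induction_on with
      | zero => simp
      | add p q hp hq => simp only [map_add, hp, hq]
      | tmul x y =>
        rw [TensorProduct.comm_tmul, TensorProduct.map_tmul, LinearMap.id_apply]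
        have : (h.toLinearMap y) ⊗ₜ[k] x = h y • ((1 : R) ⊗ₜ[k] x) := by
          rw [TensorProduct.smul_tmul', smul_eq_mul, mul_one]; rfl
        rw [this, map_smul, hT1, LinearMap.rTensor_tmul]
        generalize Coalgebra.comul (R := k) x = s
        induction s using TensorProduct.induction_on with
        | zero => simp
        | add p q hp hq => simp only [map_add, smul_add, TensorProduct.add_tmul, hp, hq]
        | tmul u v => simp [L, TensorProduct.smul_tmul', mul_comm]
    have h2 : ∀ t : A ⊗[k] A, TensorProduct.map (WithConv.toConv g * WithConv.toConv h).ofConv.toLinearMap LinearMap.id (TensorProduct.comm k A A t) =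
        L (LinearMap.lTensor A Coalgebra.comul t) := by
      intro t
      induction t using TensorProduct.induction_on with
      | zero => simp
      | add p q hp hq => simp only [map_add, hp, hq]
      | tmul x y =>
        simp only [TensorProduct.comm_tmul, TensorProduct.map_tmul, LinearMap.id_apply, LinearMap.lTensor_tmul, L, LinearMap.comp_apply, LinearEquiv.coe_coe]
        rfl
    rw [hT1, hT1, h1, h2, Coalgebra.coassoc_apply]
  have hbnd : ∀ z : R ⊗[k] A, ∃ W₀ : Submodule R (R ⊗[k] A), W₀.FG ∧ ∀ g, T g z ∈ W₀ := by
    intro z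
    induction z using TensorProduct.induction_on with
    | zero => exact ⟨⊥, Submodule.fg_bot, fun g => by simp⟩
    | add p q hp hq =>
      obtain ⟨W₁, hW₁, h1⟩ := hp
      obtain ⟨W₂, hW₂, h2⟩ := hq
      exact ⟨W₁ ⊔ W₂, hW₁.sup hW₂, fun g => by rw [map_add]; exact Submodule.add_mem_sup (h1 g) (h2 g)⟩
    | tmul r a =>
      obtain ⟨S, hS⟩ := TensorProduct.exists_finset (Coalgebra.comul (R := k) a)
      refine ⟨Submodule.span R ((S.image fun i => (1 : R) ⊗ₜ[k] i.1 : Finset (R ⊗[k] A)) : Set (R ⊗[k] A)), Submodule.fg_span (Finset.finite_toSet _), fun g => ?_⟩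
      have hr : r ⊗ₜ[k] a = r • ((1 : R) ⊗ₜ[k] a) := by rw [TensorProduct.smul_tmul', smul_eq_mul, mul_one]
      rw [hr, map_smul, hT1, hS, map_sum, map_sum]
      refine Submodule.smul_mem _ _ (Submodule.sum_mem _ fun i hi => ?_)
      have : (g.toLinearMap i.2) ⊗ₜ[k] i.1 = g i.2 • ((1 : R) ⊗ₜ[k] i.1) := by
        rw [TensorProduct.smul_tmul', smul_eq_mul, mul_one]; rfl
      rw [TensorProduct.comm_tmul, TensorProduct.map_tmul, LinearMap.id_apply, this]
      exact Submodule.smul_mem _ _ (Submodule.subset_span (Finset.mem_coe.2 (Finset.mem_image.2 ⟨i, hi, rfl⟩)))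
  refine Groth.Agent.S16159.result k R (R ⊗[k] A) H (fun g => T g.1) (fun g h => ?_) (fun g => hdiag g.1 g.2) fun z => ?_
  · show T g.1 * T h.1 = T h.1 * T g.1
    rw [hcomp, hcomp, hcomm g.1 g.2 h.1 h.2]
  · obtain ⟨W₀, hW₀, hz⟩ := hbnd z
    refine ⟨Submodule.span R (insert z (Set.range fun g => T g z)), Submodule.subset_span (Set.mem_insert _ _), ?_, fun g w hw => ?_⟩
    · haveI : IsNoetherian R ↥(Submodule.span R {z} ⊔ W₀) := isNoetherian_of_fg_of_noetherian _ ((Submodule.fg_span_singleton z).sup hW₀)
      have hle : Submodule.span R (insert z (Set.range fun g => T g z)) ≤ Submodule.span R {z} ⊔ W₀ := by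
        rw [Submodule.span_le, Set.insert_subset_iff]
        exact ⟨Submodule.mem_sup_left (Submodule.mem_span_singleton_self z), fun _ ⟨g, hg⟩ => hg ▸ Submodule.mem_sup_right (hz g)⟩
      have hfg := IsNoetherian.noetherian (Submodule.comap (Submodule.span R {z} ⊔ W₀).subtype (Submodule.span R (insert z (Set.range fun g => T g z))))
      have := hfg.map (Submodule.span R {z} ⊔ W₀).subtype
      rwa [Submodule.map_comap_subtype, inf_eq_right.2 hle] at this
    · induction hw using Submodule.span_induction with
      | mem x hx =>
        rcases hx with rfl | ⟨h, rfl⟩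
        · exact Submodule.subset_span (Set.mem_insert_of_mem _ ⟨g.1, rfl⟩)
        · show T g.1 (T h z) ∈ _
          rw [← Module.End.mul_apply, hcomp]
          exact Submodule.subset_span (Set.mem_insert_of_mem _ ⟨_, rfl⟩)
      | zero => simp
      | add a b _ _ ha hb => rw [map_add]; exact add_mem ha hb
      | smul c a _ ha => rw [map_smul]; exact Submodule.smul_mem _ _ ha

end Groth.Agent.S16160
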