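import Mathlib
import Groth.Statements.S16161
-- import your own Groth.Agent.* helpers here

set_option autoImplicit false
universe u v
open MadRed

namespace Groth.Agent.S16161

/-- Let k be an algebraically closed field of characteristic zero and R a reduced finitely generated
commutative k-algebra whose spectrum is connected (R has no idempotents besides 0 and 1); let W =
R^n be a free R-module of finite rank and g an R-linear endomorphism of W of finite order, g^m = 1
with m > 0 (an element of finite order of GL(W)(R)). Then the action of g on W is diagonalizable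
over k: viewing g as a k-linear map, its eigenspaces for eigenvalues in k span W. The source also
assumes that g is diagonalizable over k on every fibre W ⊗ k(x), x a point of Spec R; for g of
finite order this holds automatically (k is algebraically closed of characteristic zero), as the
source itself notes, so that hypothesis is omitted. -/
theorem result
    (k : Type u) [Field k] [IsAlgClosed k] [CharZero k]
    (R : Type v) [CommRing R] [Algebra k R] [IsReduced R] [Algebra.FiniteType k R]
    (hconn : ∀ e : R, IsIdempotentElem e → e = 0 ∨ e = 1)
    (n : ℕ) (g : Module.End R (Fin n → R)) (m : ℕ) (hm : 0 < m) (hg : g ^ m = 1) :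
    ⨆ μ : k, Module.End.eigenspace (g.restrictScalars k) μ = ⊤ := by
  classical
  set g' := g.restrictScalars k
  have hgm : g' ^ m = 1 := by
    have : ∀ j, g' ^ j = (g ^ j).restrictScalars k := fun j => by
      induction j with
      | zero => rfl
      | succ j ih => rw [pow_succ, pow_succ, ih]; rfl
    rw [this, hg]; rfl
  set f : Polynomial k := Polynomial.X ^ m - 1 with hf
  have hfsep : f.Separable := by
    rw [hf, ← Polynomial.C_1]
    exact Polynomial.separable_X_pow_sub_C (1 : k) (by exact_mod_cast hm.ne') one_ne_zero
  have hfm : f.Monic := by rw [hf, ← Polynomial.C_1]; exact Polynomial.monic_X_pow_sub_C _ hm.ne'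
  set S := f.roots.toFinset with hS
  have hne : S.Nonempty := ⟨1, by rw [hS, Multiset.mem_toFinset, Polynomial.mem_roots hfm.ne_zero]; simp [hf]⟩
  have hprod : f = ∏ μ ∈ S, (Polynomial.X - Polynomial.C μ) := by
    conv_lhs => rw [(IsAlgClosed.splits f).eq_prod_roots_of_monic hfm]
    rw [hS, Finset.prod_eq_multiset_prod, Multiset.toFinset_val, (Polynomial.nodup_roots hfsep).dedup]
  have hfg : Polynomial.aeval g' f = 0 := by rw [hf, map_sub, map_pow, Polynomial.aeval_X, hgm, map_one, sub_self]
  refine eq_top_iff.2 fun v _ => ?_
  have hv : v = ∑ μ ∈ S, (Polynomial.aeval g' (Lagrange.basis S id μ)) v := by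
    rw [← LinearMap.sum_apply, ← map_sum, Lagrange.sum_basis (Set.injOn_id _) hne, map_one]
    rfl
  rw [hv]
  refine Submodule.sum_mem _ fun μ hμ => Submodule.mem_iSup_of_mem μ ?_
  have hdvd : f ∣ (Polynomial.X - Polynomial.C μ) * Lagrange.basis S id μ := by
    rw [hprod]
    refine Finset.prod_dvd_of_coprime (fun a _ b _ hab => (Polynomial.pairwise_coprime_X_sub_C Function.injective_id hab)) fun ν hν => ?_
    rw [Polynomial.dvd_iff_isRoot, Polynomial.IsRoot.def, Polynomial.eval_mul]
    rcases eq_or_ne ν μ with rfl | hne'
    · simp
    · exact mul_eq_zero_of_right _ (Lagrange.eval_basis_of_ne (v := id) hne'.symm hν)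
  obtain ⟨c, hc⟩ := hdvd
  have h0 := congrArg (fun p => (Polynomial.aeval g' p) v) hc
  simp only [map_mul, hfg, zero_mul, LinearMap.zero_apply, map_sub, Polynomial.aeval_X, Polynomial.aeval_C, Module.End.mul_apply, LinearMap.sub_apply, Module.algebraMap_end_apply, sub_eq_zero] at h0
  exact Module.End.mem_eigenspace_iff.2 h0

end Groth.Agent.S16161
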