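import Groth.Statements.S16164
import Mathlib.LinearAlgebra.Matrix.DotProduct
import Mathlib.Tactic
-- import your own Groth.Agent.* helpers here

set_option autoImplicit false
open Neron

namespace Groth.Agent.S16164

/-- Let X, Y₁, Y₂ be finitely generated free abelian groups with chosen bases, so that homomorphisms are
integer matrices acting on column vectors and each group is identified with its dual; let P : X → Y₁
and Q : X → Y₂ be surjective with A = (P over Q) : X → Y₁ ⊕ Y₂ injective, and let Ψ₁, Ψ₂ be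
symmetric positive-definite integer matrices on Y₁ and Y₂, Ψ their block-diagonal sum. If the image
of Aᵀ Ψ : Y₁ ⊕ Y₂ → X coincides with the image of Aᵀ Ψ A : X → X (the reverse inclusion always
holds), then A is bijective. (In the source X, Y₁, Y₂ are character groups of maximal tori, P and Q
specialization maps, Ψ₁ and Ψ₂ monodromy pairings, and the hypothesis expresses that two groups of
components coincide.) -/
theorem result
    {ι κ₁ κ₂ : Type} [Fintype ι] [Fintype κ₁] [Fintype κ₂]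
    (P : Matrix κ₁ ι ℤ) (Q : Matrix κ₂ ι ℤ)
    (hP : Function.Surjective P.mulVec) (hQ : Function.Surjective Q.mulVec)
    (hA : Function.Injective (Matrix.fromRows P Q).mulVec)
    (Ψ₁ : Matrix κ₁ κ₁ ℤ) (Ψ₂ : Matrix κ₂ κ₂ ℤ) (hΨ₁ : Ψ₁.IsSymm) (hΨ₂ : Ψ₂.IsSymm)
    (hΨ₁pos : ∀ y : κ₁ → ℤ, y ≠ 0 → 0 < y ⬝ᵥ Ψ₁.mulVec y)
    (hΨ₂pos : ∀ y : κ₂ → ℤ, y ≠ 0 → 0 < y ⬝ᵥ Ψ₂.mulVec y)
    (himage : LinearMap.range ((Matrix.fromRows P Q).transpose * Matrix.fromBlocks Ψ₁ 0 0 Ψ₂).mulVecLin =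
      LinearMap.range ((Matrix.fromRows P Q).transpose * Matrix.fromBlocks Ψ₁ 0 0 Ψ₂ * Matrix.fromRows P Q).mulVecLin) :
    Function.Bijective (Matrix.fromRows P Q).mulVec := by
  classical
  set A := Matrix.fromRows P Q with hAdef
  set Ψ := Matrix.fromBlocks Ψ₁ 0 0 Ψ₂ with hΨdef
  have hbl : ∀ (u : κ₁ → ℤ) (v : κ₂ → ℤ),
      Ψ.mulVec (Sum.elim u v) = Sum.elim (Ψ₁.mulVec u) (Ψ₂.mulVec v) := by
    intro u v
    rw [hΨdef, Matrix.fromBlocks_mulVec]
    simp
  have hAx : ∀ x, A.mulVec x = Sum.elim (P.mulVec x) (Q.mulVec x) := fun x => by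
    rw [hAdef, Matrix.fromRows_mulVec]
  have hΨsym : Ψ.IsSymm := by
    rw [hΨdef, Matrix.isSymm_fromBlocks_iff]
    exact ⟨hΨ₁, by simp, by simp, hΨ₂⟩
  let B : (κ₁ ⊕ κ₂ → ℤ) → (κ₁ ⊕ κ₂ → ℤ) → ℤ := fun u v => u ⬝ᵥ Ψ.mulVec v
  have Bsymm : ∀ u v, B u v = B v u := fun u v => by
    simp only [B]
    rw [Matrix.dotProduct_mulVec, ← Matrix.mulVec_transpose, hΨsym.eq, dotProduct_comm]
  have Bpos : ∀ u, u ≠ 0 → 0 < B u u := by
    intro u hu
    have e : u = Sum.elim (u ∘ Sum.inl) (u ∘ Sum.inr) := (Sum.elim_comp_inl_inr u).symm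
    have h1 : u ∘ Sum.inl ≠ 0 ∨ u ∘ Sum.inr ≠ 0 := by
      by_contra hc
      push_neg at hc
      apply hu
      rw [e, hc.1, hc.2]
      simp
    have n1 : 0 ≤ (u ∘ Sum.inl) ⬝ᵥ Ψ₁.mulVec (u ∘ Sum.inl) := by
      by_cases h0 : u ∘ Sum.inl = 0
      · simp [h0]
      · exact (hΨ₁pos _ h0).le
    have n2 : 0 ≤ (u ∘ Sum.inr) ⬝ᵥ Ψ₂.mulVec (u ∘ Sum.inr) := by
      by_cases h0 : u ∘ Sum.inr = 0
      · simp [h0]
      · exact (hΨ₂pos _ h0).le
    have hval : B u u = (u ∘ Sum.inl) ⬝ᵥ Ψ₁.mulVec (u ∘ Sum.inl)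
        + (u ∘ Sum.inr) ⬝ᵥ Ψ₂.mulVec (u ∘ Sum.inr) := by
      show u ⬝ᵥ Ψ.mulVec u = _
      conv_lhs => rw [e]
      rw [hbl, sumElim_dotProduct_sumElim]
    rw [hval]
    rcases h1 with h | h
    · have := hΨ₁pos _ h; omega
    · have := hΨ₂pos _ h; omega
  have Bnn : ∀ u, 0 ≤ B u u := by
    intro u
    by_cases hu : u = 0
    · simp [B, hu]
    · exact (Bpos u hu).le
  have Borth : ∀ x k, (A.transpose * Ψ).mulVec k = 0 → B (A.mulVec x) k = 0 := by
    intro x k hk
    rw [← Matrix.mulVec_mulVec] at hk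
    simp only [B]
    rw [dotProduct_comm, Matrix.dotProduct_mulVec, ← Matrix.mulVec_transpose, hk, zero_dotProduct]
  have Badd : ∀ u v, B (u + v) (u + v) = B u u + 2 * B u v + B v v := by
    intro u v
    have := Bsymm u v
    simp only [B] at this ⊢
    rw [Matrix.mulVec_add, add_dotProduct, dotProduct_add, dotProduct_add]
    linarith
  have hdec : ∀ y, ∃ x, (A.transpose * Ψ).mulVec (y - A.mulVec x) = 0 := by
    intro y
    have : (A.transpose * Ψ).mulVec y ∈ LinearMap.range (A.transpose * Ψ).mulVecLin := ⟨y, rfl⟩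
    rw [himage] at this
    obtain ⟨x, hx⟩ := this
    refine ⟨x, ?_⟩
    rw [Matrix.mulVec_sub, Matrix.mulVec_mulVec]
    change (A.transpose * Ψ * A).mulVec x = _ at hx
    rw [hx, sub_self]
  have hK : ∀ k, (A.transpose * Ψ).mulVec k = 0 → k = 0 := by
    by_contra hc
    push_neg at hc
    obtain ⟨k₀, hk₀, hk₀0⟩ := hc
    have hex : ∃ n : ℕ, ∃ k, (A.transpose * Ψ).mulVec k = 0 ∧ k ≠ 0 ∧ (B k k).toNat = n :=
      ⟨_, k₀, hk₀, hk₀0, rfl⟩
    obtain ⟨k, hk, hk0, hkn⟩ := Nat.find_spec hex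
    have hmin : ∀ c, (A.transpose * Ψ).mulVec c = 0 → c ≠ 0 → B k k ≤ B c c := by
      intro c hc hc0
      have h1 := Nat.find_min' hex ⟨c, hc, hc0, rfl⟩
      rw [← hkn] at h1
      have h2 := Bnn k
      have h3 := Bnn c
      omega
    set k₁ := k ∘ Sum.inl with hk₁
    set k₂ := k ∘ Sum.inr with hk₂
    have hsplit : k = Sum.elim k₁ k₂ := (Sum.elim_comp_inl_inr k).symm
    set e₁ : κ₁ ⊕ κ₂ → ℤ := Sum.elim k₁ 0 with he₁
    set e₂ : κ₁ ⊕ κ₂ → ℤ := Sum.elim 0 k₂ with he₂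
    have hsum : e₁ + e₂ = k := by
      rw [he₁, he₂, hsplit]
      funext i
      cases i <;> simp
    obtain ⟨x, hx⟩ := hdec e₁
    obtain ⟨c, hc⟩ : ∃ c, c = e₁ - A.mulVec x := ⟨_, rfl⟩
    rw [← hc] at hx
    have hkc : (A.transpose * Ψ).mulVec (k - c) = 0 := by rw [Matrix.mulVec_sub, hk, hx, sub_self]
    have d1 : e₁ = A.mulVec x + c := by rw [hc]; abel
    have d2 : e₂ = A.mulVec (-x) + (k - c) := by
      rw [Matrix.mulVec_neg, hc, ← hsum]; abel
    have q1 : B e₁ e₁ = B (A.mulVec x) (A.mulVec x) + B c c := by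
      rw [d1, Badd, Borth x c hx]; ring
    have q2 : B e₂ e₂ = B (A.mulVec x) (A.mulVec x) + B (k - c) (k - c) := by
      rw [d2, Badd, Borth (-x) _ hkc]
      simp [B, Matrix.mulVec_neg]
    have q12 : B e₁ e₂ = 0 := by
      simp only [B, he₁, he₂]
      rw [hbl, sumElim_dotProduct_sumElim]
      simp
    have qk : B k k = B e₁ e₁ + B e₂ e₂ := by
      conv_lhs => rw [← hsum]
      rw [Badd, q12]; ring
    have hkpos := Bpos k hk0
    have hAA := Bnn (A.mulVec x)
    by_cases hc0 : c = 0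
    · have o : B e₁ k = 0 := by rw [d1, hc0, add_zero]; exact Borth x k hk
      have ek : k₁ = 0 := by
        by_contra hne
        have := hΨ₁pos _ hne
        simp only [B, he₁] at o
        rw [hsplit, hbl, sumElim_dotProduct_sumElim] at o
        simp at o
        omega
      obtain ⟨z, hz⟩ := hQ k₂
      have o2 := Borth z k hk
      simp only [B] at o2
      rw [hAx, hsplit, hbl, sumElim_dotProduct_sumElim, ek, hz] at o2
      simp at o2
      have ek2 : k₂ = 0 := by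
        by_contra hne
        have := hΨ₂pos _ hne
        omega
      apply hk0
      rw [hsplit, ek, ek2]
      simp
    by_cases hck : c = k
    · have o : B e₂ k = 0 := by rw [d2, hck, sub_self, add_zero]; exact Borth (-x) k hk
      have ek : k₂ = 0 := by
        by_contra hne
        have := hΨ₂pos _ hne
        simp only [B, he₂] at o
        rw [hsplit, hbl, sumElim_dotProduct_sumElim] at o
        simp at o
        omega
      obtain ⟨z, hz⟩ := hP k₁
      have o2 := Borth z k hk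
      simp only [B] at o2
      rw [hAx, hsplit, hbl, sumElim_dotProduct_sumElim, ek, hz] at o2
      simp at o2
      have ek1 : k₁ = 0 := by
        by_contra hne
        have := hΨ₁pos _ hne
        omega
      apply hk0
      rw [hsplit, ek, ek1]
      simp
    have m1 := hmin c hx hc0
    have m2 := hmin (k - c) hkc (sub_ne_zero.mpr (Ne.symm hck))
    omega
  refine ⟨hA, fun y => ?_⟩
  obtain ⟨x, hx⟩ := hdec y
  exact ⟨x, (sub_eq_zero.mp (hK _ hx)).symm⟩

end Groth.Agent.S16164
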