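import Groth.Statements.S16170
import Mathlib
-- import your own Groth.Agent.* helpers here

set_option autoImplicit false
open Neron

namespace Groth.Agent.S16170

/-- Let M and N be symmetric positive-semidefinite integer matrices on the same finite index set whose
sum M + N is positive definite, and let χ₁, χ₂ be integer matrices with χ₁ + χ₂ = 1 and M χ₂ = N χ₁.
Then χ₁ and χ₂ are idempotent. (In the intended application M = Pᵀ Ψ₁ P and N = Qᵀ Ψ₂ Q for
surjective integer matrices P, Q and positive-definite Ψ₁, Ψ₂.) -/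
theorem result
    {ι : Type} [Fintype ι] [DecidableEq ι]
    (M N χ₁ χ₂ : Matrix ι ι ℤ) (hM : M.IsSymm) (hN : N.IsSymm)
    (hMpos : ∀ v : ι → ℤ, 0 ≤ v ⬝ᵥ M.mulVec v) (hNpos : ∀ v : ι → ℤ, 0 ≤ v ⬝ᵥ N.mulVec v)
    (hpos : ∀ v : ι → ℤ, v ≠ 0 → 0 < v ⬝ᵥ (M + N).mulVec v)
    (hsum : χ₁ + χ₂ = 1) (hrel : M * χ₂ = N * χ₁) :
    χ₁ * χ₁ = χ₁ ∧ χ₂ * χ₂ = χ₂ := by
  obtain rfl : χ₂ = 1 - χ₁ := eq_sub_of_add_eq' hsum
  suffices h : χ₁ * χ₁ = χ₁ from ⟨h, by rw [mul_sub, mul_one, sub_mul, one_mul, h, sub_self, sub_zero]⟩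
  set P := χ₁
  have hMP : M = (M + N) * P := by
    rw [mul_sub, mul_one] at hrel
    rw [add_mul, ← hrel]; abel
  have hNQ : N = (M + N) * (1 - P) := by rw [mul_sub, mul_one, ← hMP]; abel
  let B : (ι → ℤ) → (ι → ℤ) → ℤ := fun v w => v ⬝ᵥ (M + N).mulVec w
  have sym : ∀ (A : Matrix ι ι ℤ), A.IsSymm → ∀ v w, v ⬝ᵥ A.mulVec w = w ⬝ᵥ A.mulVec v := by
    intro A hA v w
    rw [Matrix.dotProduct_mulVec, dotProduct_comm, ← Matrix.mulVec_transpose, hA]
  have hBs : ∀ v w, B v w = B w v := sym _ (hM.add hN)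
  have hBP : ∀ v w, B v (P.mulVec w) = v ⬝ᵥ M.mulVec w := fun v w => by
    show v ⬝ᵥ (M + N).mulVec (P.mulVec w) = _
    rw [Matrix.mulVec_mulVec, ← hMP]
  have hadj : ∀ v w, B (P.mulVec v) w = B v (P.mulVec w) := fun v w => by
    rw [hBs, hBP, sym M hM, ← hBP]
  have hBQ : ∀ v w, B v w - B v (P.mulVec w) = v ⬝ᵥ N.mulVec w := fun v w => by
    show v ⬝ᵥ (M + N).mulVec w - B v (P.mulVec w) = _
    rw [hBP, Matrix.add_mulVec, dotProduct_add]; ring
  have hN0 : ∀ y, y ⬝ᵥ N.mulVec y = 0 → y - P.mulVec y = 0 := by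
    intro y hy
    have hz : ∀ z, z ⬝ᵥ N.mulVec y = 0 := by
      intro z
      have key : ∀ t : ℤ, 0 ≤ 2 * t * (z ⬝ᵥ N.mulVec y) + z ⬝ᵥ N.mulVec z := fun t => by
        have := hNpos (t • y + z)
        simp only [Matrix.mulVec_add, Matrix.mulVec_smul, dotProduct_add, add_dotProduct, smul_dotProduct,
          dotProduct_smul, smul_eq_mul, hy, sym N hN y z] at this
        linarith
      by_contra hne
      have h1 := key (-(z ⬝ᵥ N.mulVec y) * (z ⬝ᵥ N.mulVec z + 1))
      have h2 : 1 ≤ (z ⬝ᵥ N.mulVec y) ^ 2 := Int.add_one_le_iff.2 (sq_pos_of_ne_zero hne)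
      have h3 := hNpos z
      nlinarith
    by_contra hne
    have h1 := hpos _ hne
    have h2 : B (y - P.mulVec y) (y - P.mulVec y) = 0 := by
      have e : (M + N).mulVec (y - P.mulVec y) = N.mulVec y := by
        rw [Matrix.mulVec_sub, Matrix.mulVec_mulVec, ← hMP, Matrix.add_mulVec]; abel
      show _ ⬝ᵥ (M + N).mulVec (y - P.mulVec y) = 0
      rw [e]; exact hz _
    exact h1.ne' h2
  suffices h : ∀ x, P.mulVec (P.mulVec x) = P.mulVec x by
    refine Matrix.ext_of_mulVec_single fun i => ?_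
    rw [← Matrix.mulVec_mulVec]; exact h _
  intro x
  let p : ℕ → (ι → ℤ) := fun k => (P.mulVec)^[k] x
  have hp : ∀ k, p (k + 1) = P.mulVec (p k) := fun k => Function.iterate_succ_apply' _ _ _
  let A : ℕ → ℤ := fun i => B (p i) (p i)
  have step : ∀ i, A i - B (p i) (p (i + 1)) = p i ⬝ᵥ N.mulVec (p i) := fun i => by rw [hp]; exact hBQ _ _
  have step2 : ∀ i, 0 ≤ B (p i) (p (i + 1)) - A (i + 1) := by
    intro i
    have hy := hp i
    set y := p i
    have e1 : y = P.mulVec y + (y - P.mulVec y) := by abel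
    have k1 := hNpos (P.mulVec y)
    rw [← hBQ] at k1
    have k2 := hMpos (y - P.mulVec y)
    rw [← hBP] at k2
    show 0 ≤ B y (p (i + 1)) - B (p (i + 1)) (p (i + 1))
    rw [hy, hadj y (P.mulVec y)]
    simp only [B, Matrix.mulVec_sub, dotProduct_sub, sub_dotProduct] at k1 k2 ⊢
    have e2 := hadj y (P.mulVec y)
    have e3 := hadj y y
    have e4 := hadj y (P.mulVec (P.mulVec y))
    simp only [B] at e2 e3 e4
    linarith [sym (M + N) (hM.add hN) y (P.mulVec (P.mulVec y)), sym (M + N) (hM.add hN) y (P.mulVec y)]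
  have hA0 : ∀ i, 0 ≤ A i := fun i => by
    by_cases h : p i = 0
    · simp [A, B, h]
    · exact (hpos _ h).le
  classical
  have hex : ∃ n : ℕ, ∃ i, (A i).toNat = n := ⟨_, 0, rfl⟩
  obtain ⟨i, hi⟩ := Nat.find_spec hex
  have hmin : Nat.find hex ≤ (A (i + 1)).toNat := Nat.find_min' hex ⟨i + 1, rfl⟩
  have hz : p i ⬝ᵥ N.mulVec (p i) = 0 := by
    have := step2 i; have := hNpos (p i); have := step i
    have := hA0 i; have := hA0 (i + 1)
    omega
  have hfix : ∀ j, p (j + 1) - p j = (P.mulVec)^[j] (P.mulVec x - x) := by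
    intro j
    induction j with
    | zero => rfl
    | succ j ih => rw [hp (j + 1), hp j, ← Matrix.mulVec_sub, ← hp j, ih, Function.iterate_succ_apply']
  have hker : ∀ (j : ℕ) (z : ι → ℤ), (P.mulVec)^[j + 1] z = 0 → P.mulVec z = 0 := by
    intro j
    induction j with
    | zero => intro z hz; exact hz
    | succ j ih =>
      intro z hz
      rw [Function.iterate_succ_apply] at hz
      have h1 := ih _ hz
      by_contra hne
      have h2 : B (P.mulVec z) (P.mulVec z) = 0 := by rw [hadj, h1]; simp [B]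
      exact (hpos _ hne).ne' h2
  have hzero : (P.mulVec)^[i + 1] (P.mulVec x - x) = 0 := by
    rw [Function.iterate_succ_apply', ← hfix, ← neg_sub, hp, hN0 _ hz, neg_zero, Matrix.mulVec_zero]
  have := hker i _ hzero
  rwa [Matrix.mulVec_sub, sub_eq_zero] at this

end Groth.Agent.S16170
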