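import Groth.Statements.S16174
import Mathlib.Algebra.Polynomial.Taylor
import Mathlib.Algebra.Polynomial.Lifts
import Mathlib.Tactic.LinearCombination

set_option autoImplicit false
universe u
open Hensel

namespace Groth.Agent.S16174

/-- Let V be a Henselian valuation ring and p a prime ideal of V. Then the local rings V_p (localisation
at p) and V/p are Henselian. (Both are again valuation rings, which is elementary and not restated.) -/
theorem result (V : Type u) [CommRing V]
    [IsDomain V] [ValuationRing V] [HenselianLocalRing V] (p : Ideal V) [p.IsPrime] :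
    HenselianLocalRing (Localization.AtPrime p) ∧ HenselianLocalRing (V ⧸ p) := by
  classical
  have key : ∀ (e : ℕ → V) (n : ℕ), 2 ≤ n → (∀ i, e i ∈ IsLocalRing.maximalIdeal V) →
      ∃ y : V, 1 + y + ∑ i ∈ Finset.Ico 2 (n + 1), e i * y ^ i = 0 ∧
        y + 1 ∈ IsLocalRing.maximalIdeal V := by
    intro e n hn he
    let g : Polynomial V := Polynomial.X ^ n + Polynomial.X ^ (n - 1) +
      ∑ i ∈ Finset.Ico 2 (n + 1), Polynomial.C (e i) * Polynomial.X ^ (n - i)
    have hg : g.Monic := by
      refine Polynomial.monic_of_natDegree_le_of_coeff_eq_one n ?_ ?_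
      · refine Polynomial.natDegree_add_le_of_degree_le (Polynomial.natDegree_add_le_of_degree_le ?_ ?_) ?_
        · simp
        · simp
        · refine Polynomial.natDegree_sum_le_of_forall_le _ _ fun i _ => ?_
          exact (Polynomial.natDegree_C_mul_le _ _).trans ((Polynomial.natDegree_X_pow_le _).trans (Nat.sub_le _ _))
      · simp only [g, Polynomial.coeff_add, Polynomial.coeff_X_pow, Polynomial.finsetSum_coeff,
          Polynomial.coeff_C_mul, mul_ite, mul_one, mul_zero]
        rw [if_pos trivial, if_neg (by omega), add_zero, Finset.sum_eq_zero, add_zero]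
        intro i hi
        rw [Finset.mem_Ico] at hi
        rw [if_neg (by omega)]
    let q := Ideal.Quotient.mk (IsLocalRing.maximalIdeal V)
    have hsum : ∀ (x : V) (c : ℕ → V), q (∑ i ∈ Finset.Ico 2 (n + 1), e i * c i * x) = 0 := fun x c => by
      rw [Ideal.Quotient.eq_zero_iff_mem]
      exact Submodule.sum_mem _ fun i _ => Ideal.mul_mem_right _ _ (Ideal.mul_mem_right _ _ (he i))
    have h1 : g.eval (-1) ∈ IsLocalRing.maximalIdeal V := by
      rw [← Ideal.Quotient.eq_zero_iff_mem]
      simp only [g, Polynomial.eval_add, Polynomial.eval_pow, Polynomial.eval_X, Polynomial.eval_finsetSum,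
        Polynomial.eval_mul, Polynomial.eval_C]
      rw [map_add]
      have h0 : (-1 : V) ^ n + (-1) ^ (n - 1) = 0 := by
        obtain ⟨k, rfl⟩ : ∃ k, n = k + 1 := ⟨n - 1, by omega⟩
        rw [Nat.add_sub_cancel, pow_succ]; ring
      have := hsum 1 (fun i => (-1) ^ (n - i))
      simp only [mul_one] at this
      show q _ + q _ = 0
      rw [h0, this, map_zero, add_zero]
    have h2 : IsUnit (g.derivative.eval (-1)) := by
      rw [← IsLocalRing.notMem_maximalIdeal, ← Ideal.Quotient.eq_zero_iff_mem]
      simp only [g, Polynomial.derivative_add, Polynomial.derivative_sum, Polynomial.derivative_X_pow,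
        Polynomial.derivative_C_mul_X_pow, Polynomial.eval_add, Polynomial.eval_finsetSum, Polynomial.eval_mul,
        Polynomial.eval_C, Polynomial.eval_pow, Polynomial.eval_X]
      rw [map_add]
      have := hsum 1 (fun i => ((n - i : ℕ) : V) * (-1) ^ (n - i - 1))
      simp only [mul_one, ← mul_assoc] at this
      show ¬ q _ + q _ = 0
      rw [this, add_zero]
      obtain ⟨k, rfl⟩ : ∃ k, n = k + 2 := ⟨n - 2, by omega⟩
      have h3 : ((k + 2 : ℕ) : V) * (-1) ^ (k + 2 - 1) + ((k + 2 - 1 : ℕ) : V) * (-1) ^ (k + 2 - 1 - 1) =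
          -((-1) ^ k) := by
        simp only [Nat.add_sub_cancel, show k + 2 - 1 = k + 1 from rfl]
        push_cast
        ring
      rw [h3, Ideal.Quotient.eq_zero_iff_mem]
      exact fun hmem => (IsLocalRing.maximalIdeal.isMaximal V).ne_top
        (Ideal.eq_top_of_isUnit_mem _ hmem ((isUnit_one.neg.pow k).neg))
    obtain ⟨z, hz, hz1⟩ := HenselianLocalRing.is_henselian g hg (-1) h1 h2
    rw [sub_neg_eq_add] at hz1
    have hzu : IsUnit z := by
      rw [← IsLocalRing.notMem_maximalIdeal]
      intro hzm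
      exact (IsLocalRing.maximalIdeal.isMaximal V).ne_top
        ((Ideal.eq_top_iff_one _).mpr (by simpa using sub_mem hz1 hzm))
    obtain ⟨u, rfl⟩ := hzu
    refine ⟨↑u⁻¹, (u.isUnit.pow n).mul_right_eq_zero.mp ?_, ?_⟩
    · have hz' : (u : V) ^ n + (u : V) ^ (n - 1) +
          ∑ i ∈ Finset.Ico 2 (n + 1), e i * (u : V) ^ (n - i) = 0 := by
        have := hz
        rw [Polynomial.IsRoot.def] at this
        simpa only [g, Polynomial.eval_add, Polynomial.eval_pow, Polynomial.eval_X,
          Polynomial.eval_finsetSum, Polynomial.eval_mul, Polynomial.eval_C] using this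
      rw [← hz', mul_add, mul_add, mul_one, Finset.mul_sum]
      congr 1
      · congr 1
        obtain ⟨k, rfl⟩ : ∃ k, n = k + 1 := ⟨n - 1, by omega⟩
        rw [Nat.add_sub_cancel, pow_succ, mul_assoc, Units.mul_inv, mul_one]
      · refine Finset.sum_congr rfl fun i hi => ?_
        rw [Finset.mem_Ico] at hi
        obtain ⟨k, rfl⟩ : ∃ k, n = k + i := ⟨n - i, by omega⟩
        rw [Nat.add_sub_cancel, pow_add, mul_left_comm, mul_assoc, ← mul_pow, Units.mul_inv, one_pow, mul_one]
    · have : (↑u⁻¹ : V) + 1 = ↑u⁻¹ * (↑u + 1) := by rw [mul_add, Units.inv_mul, mul_one, add_comm]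
      rw [this]
      exact Ideal.mul_mem_left _ _ hz1
  refine ⟨{ (inferInstance : IsLocalRing (Localization.AtPrime p)) with
    is_henselian := fun F hF a₀ h1 h2 => ?_ }, ?_⟩
  · -- translate to a root near zero
    let W := Localization.AtPrime p
    let G := F.taylor a₀
    have hG0 : G.coeff 0 = F.eval a₀ := Polynomial.taylor_coeff_zero _ _
    have hG1 : G.coeff 1 = F.derivative.eval a₀ := Polynomial.taylor_coeff_one _ _
    obtain ⟨c1u, hc1u⟩ := h2
    obtain ⟨N, hN, hdeg⟩ : ∃ N, 2 ≤ N ∧ G.natDegree ≤ N := ⟨G.natDegree + 2, by omega, by omega⟩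
    have hmem : ∀ x : W, x ∈ IsLocalRing.maximalIdeal W →
        ∃ v : V, v ∈ IsLocalRing.maximalIdeal V ∧ algebraMap V W v = x := by
      intro x hx
      obtain ⟨⟨v, s⟩, hxs⟩ := IsLocalization.surj p.primeCompl x
      have hv : v ∈ p := by
        by_contra hv
        have hu := IsLocalization.map_units W (⟨v, hv⟩ : p.primeCompl)
        rw [show algebraMap V W v = x * algebraMap V W s from hxs.symm] at hu
        exact (IsLocalRing.maximalIdeal.isMaximal W).ne_top
          (Ideal.eq_top_of_isUnit_mem _ (Ideal.mul_mem_right _ _ hx) hu)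
      have hdvd : (s : V) ∣ v := by
        rcases ValuationRing.dvd_total (s : V) v with h | h
        · exact h
        · exact absurd (Ideal.mem_of_dvd p h hv) s.2
      obtain ⟨w, rfl⟩ := hdvd
      refine ⟨w, IsLocalRing.le_maximalIdeal (Ideal.IsPrime.ne_top ‹p.IsPrime›)
        ((Ideal.IsPrime.mem_or_mem ‹p.IsPrime› hv).resolve_left s.2), ?_⟩
      refine (IsLocalization.map_units W s).mul_left_cancel ?_
      rw [← map_mul, ← hxs, mul_comm]
    have he : ∀ i, ∃ v : V, v ∈ IsLocalRing.maximalIdeal V ∧
        algebraMap V W v = if 2 ≤ i then G.coeff i * G.coeff 0 ^ (i - 1) * (↑c1u⁻¹ : W) ^ i else 0 := by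
      intro i
      refine hmem _ ?_
      split_ifs with hi
      · refine Ideal.mul_mem_right _ _ (Ideal.mul_mem_left _ _ (Ideal.pow_mem_of_mem _ ?_ _ (by omega)))
        rw [hG0]; exact h1
      · exact zero_mem _
    choose e hem hee using he
    obtain ⟨y, hy, -⟩ := key e N hN hem
    refine ⟨a₀ + G.coeff 0 * ↑c1u⁻¹ * algebraMap V W y, ?_, ?_⟩
    · rw [Polynomial.IsRoot.def, add_comm, ← Polynomial.taylor_eval,
        Polynomial.eval_eq_sum_range' (Nat.lt_succ_of_le hdeg), Finset.range_eq_Ico,
        Finset.sum_eq_sum_Ico_succ_bot (by omega), Finset.sum_eq_sum_Ico_succ_bot (by omega)]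
      have hy' := congrArg (fun v => G.coeff 0 * algebraMap V W v) hy
      simp only [map_zero, mul_zero, map_add, map_one, mul_add, mul_one, map_sum, Finset.mul_sum] at hy'
      refine Eq.trans ?_ hy'
      rw [pow_zero, mul_one, ← add_assoc]
      congr 1
      · congr 1
        rw [pow_one, show G.coeff (0 + 1) = (c1u : W) by rw [zero_add, hG1, hc1u]]
        rw [mul_comm (G.coeff 0) (↑c1u⁻¹ : W), mul_assoc, Units.mul_inv_cancel_left]
      · refine Finset.sum_congr rfl fun i hi => ?_
        rw [Finset.mem_Ico] at hi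
        rw [map_mul, map_pow, hee i, if_pos (by omega), mul_pow, mul_pow]
        obtain ⟨j, rfl⟩ : ∃ j, i = j + 1 := ⟨i - 1, by omega⟩
        rw [Nat.add_sub_cancel, pow_succ (G.coeff 0) j]
        ring
    · rw [add_sub_cancel_left]
      refine Ideal.mul_mem_right _ _ (Ideal.mul_mem_right _ _ ?_)
      rw [hG0]; exact h1
  · have hlocal : IsLocalRing (V ⧸ p) := IsLocalRing.of_surjective' _ Ideal.Quotient.mk_surjective
    refine { hlocal with is_henselian := fun f hf a₀ h1 h2 => ?_ }
    obtain ⟨a, rfl⟩ := Ideal.Quotient.mk_surjective a₀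
    obtain ⟨F, rfl, -, hFm⟩ := Polynomial.lifts_and_natDegree_eq_and_monic
      (Polynomial.map_surjective _ Ideal.Quotient.mk_surjective f) hf
    rw [Polynomial.eval_map_apply] at h1
    rw [Polynomial.derivative_map, Polynomial.eval_map_apply] at h2
    obtain ⟨r, hr, hra⟩ := HenselianLocalRing.is_henselian F hFm a
      (((IsLocalRing.mem_maximalIdeal _).mp h1 |> fun hn => (IsLocalRing.mem_maximalIdeal _).mpr fun hu =>
        hn (hu.map _)))
      (by
        rw [← IsLocalRing.notMem_maximalIdeal]
        intro hm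
        have hmap : (IsLocalRing.maximalIdeal V).map (Ideal.Quotient.mk p) ≤ IsLocalRing.maximalIdeal (V ⧸ p) := by
          refine IsLocalRing.le_maximalIdeal fun htop => ?_
          have := Ideal.comap_map_of_surjective (Ideal.Quotient.mk p) Ideal.Quotient.mk_surjective
            (IsLocalRing.maximalIdeal V)
          rw [htop, Ideal.comap_top, ← RingHom.ker_eq_comap_bot, Ideal.mk_ker,
            sup_eq_left.mpr (IsLocalRing.le_maximalIdeal (Ideal.IsPrime.ne_top ‹p.IsPrime›))] at this
          exact (IsLocalRing.maximalIdeal.isMaximal V).ne_top this.symm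
        exact (IsLocalRing.notMem_maximalIdeal.mpr h2) (hmap (Ideal.mem_map_of_mem _ hm)))
    refine ⟨Ideal.Quotient.mk p r, ?_, ?_⟩
    · rw [Polynomial.IsRoot.def, Polynomial.eval_map_apply, hr, map_zero]
    · rw [← map_sub, IsLocalRing.mem_maximalIdeal]
      intro hu
      have hmap : (IsLocalRing.maximalIdeal V).map (Ideal.Quotient.mk p) ≠ ⊤ := fun htop => by
        have := Ideal.comap_map_of_surjective (Ideal.Quotient.mk p) Ideal.Quotient.mk_surjective
          (IsLocalRing.maximalIdeal V)
        rw [htop, Ideal.comap_top, ← RingHom.ker_eq_comap_bot, Ideal.mk_ker,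
          sup_eq_left.mpr (IsLocalRing.le_maximalIdeal (Ideal.IsPrime.ne_top ‹p.IsPrime›))] at this
        exact (IsLocalRing.maximalIdeal.isMaximal V).ne_top this.symm
      exact hmap (Ideal.eq_top_of_isUnit_mem _ (Ideal.mem_map_of_mem _ hra) hu)

end Groth.Agent.S16174
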