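import Groth.Statements.S16185
import Groth.Agent.GorLib.FlatLocal
import Mathlib.AlgebraicGeometry.Morphisms.ClosedImmersion
-- import your own Groth.Agent.* helpers here

set_option autoImplicit false
universe u
open CategoryTheory CategoryTheory.Limits AlgebraicGeometry
open Dual3

namespace Groth.Agent.S16185

/-- Let A be an Artinian local ring with maximal ideal m and let f : P → Spec A be a flat morphism of
schemes whose closed fibre X = P ×_{Spec A} Spec (A/m) is a Gorenstein scheme (locally Noetherian,
all local rings Gorenstein). Then f is a Gorenstein morphism: flat at every point with Gorenstein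
local rings on its fibres. (The source takes A to be a local Artinian algebra over a field k with
residue field k and X a k-scheme deformed flatly over A; the k-algebra structure plays no role, so
the residue field of A is used directly.) -/
theorem result
    {A : Type u} [CommRing A] [IsArtinianRing A] [IsLocalRing A]
    {P X : Scheme.{u}} (f : P ⟶ Spec (CommRingCat.of A)) [Flat f]
    (i : X ⟶ P) (q : X ⟶ Spec (CommRingCat.of (IsLocalRing.ResidueField A)))
    (hsq : IsPullback i q f (Spec.map (CommRingCat.ofHom (IsLocalRing.residue A))))
    (hX : Dual3.IsGorenstein X) : Dual3.IsGorensteinMor f := by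
  intro x
  refine ⟨Flat.stalkMap f x, ?_⟩
  haveI : Subsingleton (Spec (CommRingCat.of A)) :=
    inferInstanceAs (Subsingleton (PrimeSpectrum A))
  let res : Spec (CommRingCat.of (IsLocalRing.ResidueField A)) ⟶ Spec (CommRingCat.of A) :=
    Spec.map (CommRingCat.ofHom (IsLocalRing.residue A))
  haveI : IsClosedImmersion res := IsClosedImmersion.spec_of_surjective _ IsLocalRing.residue_surjective
  obtain ⟨⟨s, e⟩, he⟩ : ∃ xf, (Scheme.SpecToEquivOfField (IsLocalRing.ResidueField A) (Spec (CommRingCat.of A))).symm xf = res :=
    ⟨_, Equiv.symm_apply_apply _ res⟩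
  change Spec.map e ≫ (Spec (CommRingCat.of A)).fromSpecResidueField s = res at he
  obtain rfl : f x = s := Subsingleton.elim _ _
  haveI : IsClosedImmersion (Spec.map e ≫ (Spec (CommRingCat.of A)).fromSpecResidueField (f x)) := by
    rw [he]; infer_instance
  haveI : IsClosedImmersion (Spec.map e) := IsClosedImmersion.of_comp _ ((Spec (CommRingCat.of A)).fromSpecResidueField (f x))
  haveI : Surjective (Spec.map e) :=
    ⟨fun y => ⟨IsLocalRing.closedPoint (IsLocalRing.ResidueField A), Subsingleton.elim (α := PrimeSpectrum _) _ _⟩⟩
  haveI : IsIso (Spec.map e) := isIso_of_isClosedImmersion_of_surjective _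
  have hp : IsPullback i (q ≫ Spec.map e) f ((Spec (CommRingCat.of A)).fromSpecResidueField (f x)) :=
    hsq.of_iso (Iso.refl _) (Iso.refl _) (asIso (Spec.map e)) (Iso.refl _)
      (by simp) (by simp) (by simp) (by simp only [asIso_hom, Iso.refl_hom]; rw [he, Category.comp_id])
  let E : f.fiber (f x) ≅ X := hp.isoPullback.symm
  haveI := hX.1
  exact (Groth.Agent.GorLib.gorenstein_iff_of_ringEquiv
    (asIso (E.hom.stalkMap (f.asFiber x))).commRingCatIsoToRingEquiv).1 (hX.2 _)

end Groth.Agent.S16185
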