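import Groth.Statements.S16188
import Mathlib
import Groth.Agent.BMCoh.Basic
-- import your own Groth.Agent.* helpers here

set_option autoImplicit false
universe u
open CategoryTheory AlgebraicGeometry TopologicalSpace
open SchMor

namespace Groth.Agent.S16188

/-- Let f : X → Y be a morphism of schemes with X reduced and irreducible. Then f factors through an
irreducible component of Y carrying its reduced closed-subscheme structure: there are an irreducible
component Z of Y and a morphism g from X to the closed subscheme of Y cut out by the vanishing ideal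
sheaf of Z with g followed by the inclusion equal to f; that closed subscheme is integral. -/
theorem result
    {X Y : Scheme.{u}} (f : X ⟶ Y) [IsReduced X] [IrreducibleSpace X] :
    ∃ (Z : Closeds Y) (_ : (Z : Set Y) ∈ irreducibleComponents Y)
      (_ : IsIntegral (Scheme.IdealSheafData.vanishingIdeal Z).subscheme)
      (g : X ⟶ (Scheme.IdealSheafData.vanishingIdeal Z).subscheme),
      g ≫ (Scheme.IdealSheafData.vanishingIdeal Z).subschemeι = f := by
  have hirr : IsIrreducible (Set.range f) := by
    rw [← Set.image_univ]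
    exact (IrreducibleSpace.isIrreducible_univ (X := X)).image f f.continuous.continuousOn
  obtain ⟨Z, hZ, hle⟩ : ∃ Z ∈ irreducibleComponents Y, Set.range f ⊆ Z := by
    obtain ⟨Z, hZ, hsub, hmax⟩ := exists_preirreducible _ hirr.2
    exact ⟨Z, ⟨⟨hirr.1.mono hsub, hZ⟩, fun S hS hZS => (hmax S hS.2 hZS).le⟩, hsub⟩
  let C : Closeds Y := ⟨Z, isClosed_of_mem_irreducibleComponents Z hZ⟩
  let I := Scheme.IdealSheafData.vanishingIdeal C
  have hr : Set.range I.subschemeι = Z := by
    rw [Scheme.IdealSheafData.range_subschemeι, Scheme.IdealSheafData.coe_support_vanishingIdeal]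
    rfl
  have hred : IsReduced I.subscheme := Groth.Agent.BMCoh.isReduced_vanishingIdeal_subscheme C
  have : IrreducibleSpace I.subscheme := by
    rw [irreducibleSpace_def]
    refine ⟨?_, ?_⟩
    · obtain ⟨y, hy⟩ := hZ.1.1
      obtain ⟨x, -⟩ := hr.ge hy
      exact ⟨x, trivial⟩
    · intro U V hU hV hUne hVne
      obtain ⟨U', hU', rfl⟩ := I.subschemeι.isClosedEmbedding.isInducing.isOpen_iff.1 hU
      obtain ⟨V', hV', rfl⟩ := I.subschemeι.isClosedEmbedding.isInducing.isOpen_iff.1 hV
      obtain ⟨a, -, ha⟩ := hUne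
      obtain ⟨b, -, hb⟩ := hVne
      obtain ⟨y, hyZ, hy⟩ := hZ.1.2 U' V' hU' hV' ⟨_, hr.le ⟨a, rfl⟩, ha⟩ ⟨_, hr.le ⟨b, rfl⟩, hb⟩
      obtain ⟨x, rfl⟩ := hr.ge hyZ
      exact ⟨x, trivial, hy⟩
  have hle' : I.subschemeι.ker ≤ f.ker := by
    rw [Scheme.IdealSheafData.ker_subschemeι]
    rw [← Scheme.IdealSheafData.map_bot, Scheme.IdealSheafData.le_map_iff_comap_le]
    refine (Scheme.IdealSheafData.le_radical _).trans ?_
    have hs : (I.comap f).support = (⊥ : X.IdealSheafData).support := by
      ext x
      rw [Scheme.IdealSheafData.support_comap, Scheme.IdealSheafData.support_bot]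
      refine iff_of_true ?_ trivial
      show f x ∈ (I.support : Set Y)
      rw [Scheme.IdealSheafData.coe_support_vanishingIdeal]
      exact hle ⟨x, rfl⟩
    rw [← Scheme.IdealSheafData.vanishingIdeal_support, hs, Scheme.IdealSheafData.vanishingIdeal_support]
    intro U
    rw [Scheme.IdealSheafData.radical_ideal, Scheme.IdealSheafData.ideal_bot, Pi.bot_apply]
    exact (nilradical_eq_zero Γ(X, U.1)).le
  exact ⟨C, hZ, isIntegral_of_irreducibleSpace_of_isReduced _, IsClosedImmersion.lift I.subschemeι f hle',
    IsClosedImmersion.lift_fac _ _ _⟩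

end Groth.Agent.S16188
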