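import Groth.Statements.S16194
-- import your own Groth.Agent.* helpers here

set_option autoImplicit false
universe u
open DivAlg

namespace Groth.Agent.S16194

/-- In an associative unital ring R, not necessarily commutative, every element r of the Jacobson
radical (the set of elements lying in every maximal left ideal) is quasiregular, i.e. 1 - r is a
two-sided unit. -/
theorem result {R : Type u} [Ring R] (r : R)
    (hr : r ∈ Ring.jacobson R) : IsUnit (1 - r) := by
  have hleft : ∀ a ∈ Ring.jacobson R, ∃ s, s * (1 - a) = 1 := by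
    intro a ha
    by_contra hc
    have hne : Ideal.span {1 - a} ≠ ⊤ := fun h => hc (by
      obtain ⟨s, hs⟩ := Ideal.mem_span_singleton'.mp ((Ideal.eq_top_iff_one _).mp h)
      exact ⟨s, hs⟩)
    obtain ⟨m, hm, hle⟩ := Ideal.exists_le_maximal _ hne
    have h1 : a ∈ m := Submodule.mem_sInf.mp ha m hm.out
    have h2 : 1 - a ∈ m := hle (Ideal.mem_span_singleton_self _)
    exact hm.ne_top ((Ideal.eq_top_iff_one _).mpr (by simpa using m.add_mem h2 h1))
  obtain ⟨s, hs⟩ := hleft r hr
  have hsr : -(s * r) ∈ Ring.jacobson R := (Ring.jacobson R).neg_mem (Submodule.smul_mem _ s hr)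
  obtain ⟨t, ht⟩ := hleft _ hsr
  have he : 1 - -(s * r) = s := by
    rw [sub_neg_eq_add]
    calc 1 + s * r = s * (1 - r) + s * r := by rw [hs]
      _ = s := by rw [mul_sub, mul_one, sub_add_cancel]
  rw [he] at ht
  have h2 : t = 1 - r := by
    calc t = t * (s * (1 - r)) := by rw [hs, mul_one]
      _ = 1 - r := by rw [← mul_assoc, ht, one_mul]
  exact ⟨⟨1 - r, s, by rw [← h2]; exact ht, hs⟩, rfl⟩

end Groth.Agent.S16194
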