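import Groth.Statements.S16195
-- import your own Groth.Agent.* helpers here

set_option autoImplicit false
universe u v w
open DivAlg

namespace Groth.Agent.S16195

/-- Let R be a ring (associative, unital, not necessarily commutative) and M, N left R-modules. For an
R-module P write BiEnd_R(P) for the ring of endomorphisms of P that are linear over the ring
End_R(P), which acts on P through evaluation. Then every T in BiEnd_R(M × N) preserves the two
summands and is induced by a pair (T₁, T₂) with T₁ in BiEnd_R(M) and T₂ in BiEnd_R(N). -/
theorem result {R : Type u} [Ring R] (M : Type v) (N : Type w)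
    [AddCommGroup M] [Module R M] [AddCommGroup N] [Module R N]
    (T : Module.End (Module.End R (M × N)) (M × N)) :
    ∃ (T₁ : Module.End (Module.End R M) M) (T₂ : Module.End (Module.End R N) N),
      ∀ (m : M) (n : N), T (m, n) = (T₁ m, T₂ n) := by
  have hT : ∀ (φ : Module.End R (M × N)) (z : M × N), T (φ z) = φ (T z) := fun φ z => map_smul T φ z
  let T₁ : Module.End (Module.End R M) M :=
    { toFun := fun m => (T (m, 0)).1
      map_add' := fun a b => by
        rw [← Prod.fst_add, ← map_add, Prod.mk_add_mk, add_zero]
      map_smul' := fun φ m => by
        have h := hT (φ.prodMap 0) (m, 0)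
        simp only [LinearMap.prodMap_apply, LinearMap.zero_apply] at h
        exact congrArg Prod.fst h }
  let T₂ : Module.End (Module.End R N) N :=
    { toFun := fun n => (T (0, n)).2
      map_add' := fun a b => by
        rw [← Prod.snd_add, ← map_add, Prod.mk_add_mk, add_zero]
      map_smul' := fun φ n => by
        have h := hT ((0 : Module.End R M).prodMap φ) (0, n)
        simp only [LinearMap.prodMap_apply, LinearMap.zero_apply] at h
        exact congrArg Prod.snd h }
  refine ⟨T₁, T₂, fun m n => ?_⟩
  have h1 := hT ((1 : Module.End R M).prodMap (0 : Module.End R N)) (m, n)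
  have h2 := hT ((0 : Module.End R M).prodMap (1 : Module.End R N)) (m, n)
  simp only [LinearMap.prodMap_apply, LinearMap.zero_apply, Module.End.one_apply] at h1 h2
  exact Prod.ext (congrArg Prod.fst h1).symm (congrArg Prod.snd h2).symm

end Groth.Agent.S16195
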