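import Mathlib
import Groth.Statements.S16196
-- import your own Groth.Agent.* helpers here

set_option autoImplicit false
universe u v
open DivAlg

namespace Groth.Agent.S16196

/-- Let R be a ring (associative, unital, not necessarily commutative) and M a left R-module which is a
generator, in the form: for some n there is an R-linear surjection from M^n onto R. Then the natural
ring homomorphism from R to the double endomorphism ring BiEnd_R(M) = End_{End_R(M)}(M)
(endomorphisms of M commuting with every R-linear endomorphism), r ↦ multiplication by r, is
bijective. (The printed form takes R an algebra over a commutative ring k, embeds R in E = End_k(M)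
and asserts R = C_E(C_E(R)); the double centralizer there is BiEnd_R(M).) -/
theorem result {R : Type u} [Ring R] (M : Type v)
    [AddCommGroup M] [Module R M]
    (hgen : ∃ (n : ℕ) (f : (Fin n → M) →ₗ[R] R), Function.Surjective f) :
    Function.Bijective (Module.toModuleEnd (Module.End R M) (S := R) M) := by
  classical
  obtain ⟨n, f, hf⟩ := hgen
  obtain ⟨m, hm⟩ := hf 1
  let φ : Fin n → (M →ₗ[R] R) := fun i => f ∘ₗ LinearMap.single R (fun _ : Fin n => M) i
  have h1 : ∑ i, φ i (m i) = 1 := by
    simp only [φ, LinearMap.comp_apply, LinearMap.single_apply]
    rw [← map_sum, Finset.univ_sum_single, hm]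
  constructor
  · intro r r' h
    have h' : ∀ x : M, r • x = r' • x := fun x => LinearMap.congr_fun h x
    calc r = ∑ i, φ i (r • m i) := by simp only [map_smul, smul_eq_mul, ← Finset.mul_sum, h1, mul_one]
      _ = ∑ i, φ i (r' • m i) := by simp only [h']
      _ = r' := by simp only [map_smul, smul_eq_mul, ← Finset.mul_sum, h1, mul_one]
  · intro F
    refine ⟨∑ i, φ i (F (m i)), LinearMap.ext fun x => ?_⟩
    show (∑ i, φ i (F (m i))) • x = F x
    rw [Finset.sum_smul]
    have h2 : ∀ i, φ i (F (m i)) • x = F (φ i (m i) • x) := fun i =>
      (F.map_smul ((φ i).smulRight x : Module.End R M) (m i)).symm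
    simp only [h2]
    rw [← map_sum, ← Finset.sum_smul, h1, one_smul]

end Groth.Agent.S16196
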