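import Mathlib
import Groth.Statements.S16197
-- import your own Groth.Agent.* helpers here

set_option autoImplicit false
universe u v w
open DivAlg

namespace Groth.Agent.S16197

/-- Let R be a ring (associative, unital, not necessarily commutative) and M a left R-module which is a
generator, used here only through the existence of an R-linear surjection from a direct sum of
copies of M, indexed by an arbitrary type, onto R. Then some finite power M^n decomposes as R × Q
for a submodule Q of M^n. (The published statement is an equivalence; this row states only the
implication from the existence of such a surjection to the splitting.) -/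
theorem result {R : Type u} [Ring R] (M : Type v)
    [AddCommGroup M] [Module R M]
    (hgen : ∃ (ι : Type w) (f : (ι →₀ M) →ₗ[R] R), Function.Surjective f) :
    ∃ (n : ℕ) (Q : Submodule R (Fin n → M)), Nonempty ((Fin n → M) ≃ₗ[R] (R × Q)) := by
  classical
  obtain ⟨ι, f, hf⟩ := hgen
  obtain ⟨v, hv⟩ := hf 1
  let e := v.support.equivFin
  let g : (Fin v.support.card → M) →ₗ[R] R :=
    f ∘ₗ ∑ i, Finsupp.lsingle (R := R) (e.symm i : ι) ∘ₗ LinearMap.proj i
  let w : Fin v.support.card → M := fun i => v (e.symm i)
  have hw : g w = 1 := by
    have : ∑ i, Finsupp.single (e.symm i : ι) (w i) = v := by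
      rw [Fintype.sum_equiv e.symm _ (fun a : v.support => Finsupp.single (a : ι) (v a)) fun i => rfl]
      rw [Finset.univ_eq_attach, Finset.sum_attach v.support fun a => Finsupp.single a (v a)]
      exact Finsupp.sum_single v
    simp only [g, LinearMap.comp_apply, LinearMap.sum_apply, Finsupp.lsingle_apply, LinearMap.proj_apply]
    rw [this, hv]
  refine ⟨_, LinearMap.ker g, ⟨?_⟩⟩
  refine LinearEquiv.ofLinear
    (LinearMap.prod g ((LinearMap.id - (LinearMap.toSpanSingleton R _ w).comp g).codRestrict (LinearMap.ker g) fun x => by
      simp [hw, LinearMap.mem_ker, LinearMap.toSpanSingleton_apply]))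
    (LinearMap.coprod (LinearMap.toSpanSingleton R _ w) (LinearMap.ker g).subtype) ?_ ?_
  · apply LinearMap.ext
    rintro ⟨r, q, hq⟩
    rw [LinearMap.mem_ker] at hq
    ext <;> simp [hw, hq, LinearMap.toSpanSingleton_apply]
  · apply LinearMap.ext
    intro x
    simp [LinearMap.toSpanSingleton_apply]

end Groth.Agent.S16197
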