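import Mathlib
import Groth.Statements.S16198
-- import your own Groth.Agent.* helpers here

set_option autoImplicit false
universe u v
open DivAlg

namespace Groth.Agent.S16198

/-- In the case of a commutative ring R, let N be an invertible R-module such that the direct sum N^n is
isomorphic to R^n for some natural number n. Then the class of N in Pic(R) satisfies [N]^n = 1. (The
published statement is for invertible modules on an arbitrary ringed site; this row states the case
of a commutative ring.) -/
theorem result {R : Type u} [CommRing R] (N : Type v)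
    [AddCommGroup N] [Module R N] [Module.Invertible R N] (n : ℕ)
    (e : (Fin n → N) ≃ₗ[R] (Fin n → R)) :
    CommRing.Pic.mk R N ^ n = 1 := by
  classical
  set L : CommRing.Pic R := CommRing.Pic.mk R N with hL
  let u : L.AsModule ≃ₗ[R] N := CommRing.Pic.mk.linearEquiv R N
  let e' : (Fin n → L.AsModule) ≃ₗ[R] (Fin n → R) := (LinearEquiv.piCongrRight fun _ => u).trans e
  -- the iterated tensor power
  have hpow : ∀ k : ℕ, Nonempty ((PiTensorProduct R fun _ : Fin k => L.AsModule) ≃ₗ[R] (L ^ k).AsModule) := by
    intro k
    induction k with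
    | zero =>
      rw [pow_zero]
      obtain ⟨v⟩ := CommRing.Pic.mk_eq_one_iff.mp (CommRing.Pic.mk_eq_self (M := (1 : CommRing.Pic R)))
      exact ⟨(PiTensorProduct.isEmptyEquiv (Fin 0)).trans v.symm⟩
    | succ k ih =>
      obtain ⟨w⟩ := ih
      obtain ⟨t⟩ : Nonempty (TensorProduct R (L ^ k).AsModule L.AsModule ≃ₗ[R] (L ^ (k + 1)).AsModule) := by
        rw [← CommRing.Pic.mk_eq_iff, CommRing.Pic.mk_tensor, CommRing.Pic.mk_eq_self, CommRing.Pic.mk_eq_self,
          ← pow_succ]
      exact ⟨(PiTensorProduct.reindex R (fun _ : Fin (k + 1) => L.AsModule) finSumFinEquiv.symm).trans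
        ((PiTensorProduct.tmulEquiv (R := R) (M := L.AsModule) (ι := Fin k) (ι₂ := Fin 1)).symm.trans
        ((TensorProduct.congr w (PiTensorProduct.subsingletonEquiv (R := R) (s := fun _ : Fin 1 => L.AsModule) 0)).trans t))⟩
  obtain ⟨w⟩ := hpow n
  haveI : Module.Invertible R (PiTensorProduct R fun _ : Fin n => L.AsModule) := Module.Invertible.congr w.symm
  let Φ : MultilinearMap R (fun _ : Fin n => L.AsModule) R :=
    (Matrix.detRowAlternating (R := R) (n := Fin n)).toMultilinearMap.compLinearMap
      (fun i => e'.toLinearMap.comp (LinearMap.single R (fun _ : Fin n => L.AsModule) i))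
  have comm : ∀ (g : L.AsModule →ₗ[R] R) (x y : L.AsModule), g x • y = g y • x := fun g x y => by
    have h := congrArg (fun t => TensorProduct.lid R L.AsModule (LinearMap.rTensor L.AsModule g t))
      (Module.Invertible.tmul_comm (R := R) (m₁ := x) (m₂ := y))
    simpa using h
  have hsurj : LinearMap.range (PiTensorProduct.lift Φ) = ⊤ := by
    by_contra hne
    obtain ⟨m, hm, hle⟩ := Ideal.exists_le_maximal _ hne
    obtain ⟨g, z, hgz⟩ : ∃ (g : L.AsModule →ₗ[R] R) (z : L.AsModule), g z ∉ m := by
      by_contra! h
      have h1 : ∀ t : TensorProduct R (Module.Dual R L.AsModule) L.AsModule, Module.Invertible.linearEquiv R L.AsModule t ∈ m := by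
        intro t
        induction t with
        | zero => simp
        | add a b ha hb => rw [map_add]; exact m.add_mem ha hb
        | tmul a b => simpa [Module.Invertible.linearEquiv] using h a b
      have h2 := h1 ((Module.Invertible.linearEquiv R L.AsModule).symm 1)
      rw [LinearEquiv.apply_symm_apply] at h2
      exact (Ideal.ne_top_iff_one m).mp hm.ne_top h2
    have hdet : Φ (fun _ => z) ∈ m := hle ⟨PiTensorProduct.tprod R (fun _ => z), PiTensorProduct.lift.tprod _⟩
    let Z : Matrix (Fin n) (Fin n) R := fun i => e' (Pi.single i z)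
    have hΦ : Φ (fun _ => z) = Z.det := rfl
    let A : Matrix (Fin n) (Fin n) R := fun j i => g (e'.symm (Pi.single j 1) i)
    have hAZ : A * Z = g z • (1 : Matrix (Fin n) (Fin n) R) := by
      refine Matrix.ext fun j k => ?_
      have h1 : g z • e'.symm (Pi.single j 1) = ∑ i, A j i • (Pi.single i z : Fin n → L.AsModule) := by
        refine funext fun i => ?_
        rw [Finset.sum_apply, Finset.sum_eq_single i (fun b _ hb => by
          rw [Pi.smul_apply, Pi.single_eq_of_ne (Ne.symm hb), smul_zero]) (fun h => absurd (Finset.mem_univ i) h),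
          Pi.smul_apply, Pi.smul_apply, Pi.single_eq_same]
        exact comm g z _
      have h2 := congrFun (congrArg e' h1) k
      rw [map_smul, LinearEquiv.apply_symm_apply, map_sum, Finset.sum_apply] at h2
      simp only [map_smul, Pi.smul_apply, smul_eq_mul] at h2
      rw [Matrix.mul_apply, Matrix.smul_apply, Matrix.one_apply, smul_eq_mul]
      refine h2.symm.trans ?_
      rw [Pi.single_apply]
      simp [eq_comm]
    have h3 := congrArg Matrix.det hAZ
    rw [Matrix.det_mul, Matrix.det_smul, Matrix.det_one, mul_one, Fintype.card_fin] at h3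
    exact hgz (hm.isPrime.mem_of_pow_mem n (h3 ▸ m.mul_mem_left _ (hΦ ▸ hdet)))
  have hb := Module.Invertible.bijective_of_surjective (LinearMap.range_eq_top.mp hsurj)
  rw [← CommRing.Pic.mk_eq_self (M := L ^ n)]
  exact CommRing.Pic.mk_eq_one_iff.mpr ⟨w.symm.trans (LinearEquiv.ofBijective _ hb)⟩

end Groth.Agent.S16198
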