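import Groth.Statements.S16200
import Mathlib.RingTheory.PicardGroup
import Mathlib.RingTheory.HopkinsLevitzki
import Mathlib.RingTheory.DedekindDomain.Basic

set_option autoImplicit false
universe u v
open DivAlg

namespace Groth.Agent.S16200

open scoped TensorProduct

variable {R : Type u} [CommRing R]

theorem apply_smul_comm {M : Type u} [AddCommGroup M] [Module R M] [Module.Invertible R M]
    (g : M →ₗ[R] R) (x y : M) : g x • y = g y • x := by
  have h := congrArg (fun t => TensorProduct.lid R M (LinearMap.rTensor M g t))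
    (Module.Invertible.tmul_comm (R := R) (m₁ := x) (m₂ := y))
  simpa using h

variable [IsDedekindDomain R]

/-- Steinitz: `N × M ≅ R × (N ⊗ M)` for invertible modules over a Dedekind domain. -/
theorem steinitz (N M : Type u) [AddCommGroup N] [Module R N] [Module.Invertible R N]
    [AddCommGroup M] [Module R M] [Module.Invertible R M] :
    Nonempty ((N × M) ≃ₗ[R] (R × (N ⊗[R] M))) := by
  classical
  have hMf : Module.Flat R M := inferInstance
  -- a nonzero, hence injective, functional on `M`
  obtain ⟨g, hg⟩ : ∃ g : M →ₗ[R] R, g ≠ 0 := by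
    by_contra! h
    have h1 : ∀ t : Module.Dual R M ⊗[R] M, Module.Invertible.linearEquiv R M t = 0 := by
      intro t
      induction t with
      | zero => simp
      | add a b ha hb => rw [map_add, ha, hb, add_zero]
      | tmul a b => rw [h a, TensorProduct.zero_tmul, map_zero]
    have h2 := h1 ((Module.Invertible.linearEquiv R M).symm 1)
    rw [LinearEquiv.apply_symm_apply] at h2
    exact one_ne_zero h2
  have hginj : Function.Injective g := by
    rw [injective_iff_map_eq_zero]
    intro x hx
    obtain ⟨y, hy⟩ : ∃ y, g y ≠ 0 := by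
      by_contra! h
      exact hg (LinearMap.ext h)
    have h := apply_smul_comm g x y
    rw [hx, zero_smul] at h
    exact (smul_eq_zero.mp h.symm).resolve_left hy
  let J : Ideal R := LinearMap.range g
  have hJ : J ≠ ⊥ := fun h => hg (LinearMap.range_eq_bot.mp h)
  have : Ring.KrullDimLE 0 (R ⧸ J) := Ring.KrullDimLE.mk₀ fun P hP => by
    have hle : J ≤ P.comap (Ideal.Quotient.mk J) := fun a ha => by
      show Ideal.Quotient.mk J a ∈ P
      rw [Ideal.Quotient.eq_zero_iff_mem.mpr ha]; exact P.zero_mem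
    have hmax : (P.comap (Ideal.Quotient.mk J)).IsMaximal :=
      Ideal.IsPrime.isMaximal inferInstance (ne_bot_of_le_ne_bot hJ hle)
    refine (Ideal.map_eq_top_or_isMaximal_of_surjective _ Ideal.Quotient.mk_surjective hmax).elim
      (fun h => absurd ((Ideal.map_comap_of_surjective _ Ideal.Quotient.mk_surjective P).symm.trans h) hP.ne_top)
      (fun h => by rwa [Ideal.map_comap_of_surjective _ Ideal.Quotient.mk_surjective P] at h)
  have : IsNoetherianRing (R ⧸ J) :=
    isNoetherianRing_of_surjective R (R ⧸ J) (Ideal.Quotient.mk J) Ideal.Quotient.mk_surjective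
  have : IsArtinianRing (R ⧸ J) :=
    isArtinianRing_iff_isNoetherianRing_krullDimLE_zero.mpr ⟨inferInstance, inferInstance⟩
  obtain ⟨e⟩ := CommRing.Pic.mk_eq_one_iff.mp
    (Subsingleton.elim (CommRing.Pic.mk (R ⧸ J) ((R ⧸ J) ⊗[R] N)) 1)
  let q : N →ₗ[R] R ⧸ J := (e.toLinearMap.restrictScalars R).comp (TensorProduct.mk R (R ⧸ J) N 1)
  obtain ⟨f, hf⟩ := Module.projective_lifting_property
    ((Ideal.Quotient.mkₐ R J).toLinearMap) q Ideal.Quotient.mk_surjective
  have hq : Function.Surjective q :=
    e.surjective.comp (TensorProduct.mk_surjective R N (R ⧸ J) Ideal.Quotient.mk_surjective)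
  obtain ⟨a0, ha0⟩ := hq 1
  obtain ⟨b0, hb0⟩ : (1 : R) - f a0 ∈ J := by
    rw [← Ideal.Quotient.eq_zero_iff_mem, map_sub, map_one, sub_eq_zero]
    exact (ha0 ▸ LinearMap.congr_fun hf a0).symm
  have hone : f a0 + g b0 = 1 := by rw [hb0]; ring
  let φ : (N × M) →ₗ[R] R := f.coprod g
  let ι : (N ⊗[R] M) →ₗ[R] (N × M) :=
    LinearMap.prod ((TensorProduct.rid R N).toLinearMap ∘ₗ LinearMap.lTensor N g)
      (-((TensorProduct.lid R M).toLinearMap ∘ₗ LinearMap.rTensor M f))
  have hι : ∀ a b, ι (a ⊗ₜ b) = (g b • a, -(f a • b)) := fun a b => by simp [ι]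
  have hιinj : Function.Injective ι := fun x y h =>
    Module.Flat.lTensor_preserves_injective_linearMap g hginj
      ((TensorProduct.rid R N).injective (congrArg Prod.fst h))
  have hrange : LinearMap.ker φ = LinearMap.range ι := by
    refine le_antisymm ?_ ?_
    · rintro ⟨a, b⟩ hab
      have hab' : f a + g b = 0 := hab
      refine ⟨a ⊗ₜ b0 - a0 ⊗ₜ b, ?_⟩
      rw [map_sub, hι, hι, Prod.mk_sub_mk]
      refine Prod.ext ?_ ?_
      · show g b0 • a - g b • a0 = a
        rw [show g b = -f a from eq_neg_of_add_eq_zero_right hab', neg_smul, sub_neg_eq_add,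
          apply_smul_comm f a a0, ← add_smul, add_comm, hone, one_smul]
      · show -(f a • b0) - -(f a0 • b) = b
        rw [show f a = -g b from eq_neg_of_add_eq_zero_left hab', neg_smul, neg_neg, sub_neg_eq_add,
          apply_smul_comm g b b0, ← add_smul, add_comm, hone, one_smul]
    · rintro _ ⟨t, rfl⟩
      induction t with
      | zero => simp
      | add x y hx hy => rw [map_add]; exact add_mem hx hy
      | tmul a b =>
        rw [LinearMap.mem_ker, hι]
        simp only [φ, LinearMap.coprod_apply, map_smul, map_neg, smul_eq_mul]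
        ring
  let E : (R × (N ⊗[R] M)) →ₗ[R] (N × M) := (LinearMap.toSpanSingleton R _ (a0, b0)).coprod ι
  have hφE : ∀ r t, φ (E (r, t)) = r := fun r t => by
    have h0 : φ (ι t) = 0 := LinearMap.mem_ker.mp (hrange.ge ⟨t, rfl⟩)
    have h1 : φ (a0, b0) = 1 := hone
    show φ (r • (a0, b0) + ι t) = r
    rw [map_add, map_smul, h1, h0, smul_eq_mul, mul_one, add_zero]
  refine ⟨(LinearEquiv.ofBijective E ⟨?_, ?_⟩).symm⟩
  · rintro ⟨r, t⟩ ⟨r', t'⟩ h
    have hr : r = r' := by rw [← hφE r t, h, hφE]
    subst hr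
    simp only [E, LinearMap.coprod_apply, add_right_inj] at h
    rw [hιinj h]
  · intro x
    have hx : x - φ x • (a0, b0) ∈ LinearMap.ker φ := by
      have h1 : φ (a0, b0) = 1 := hone
      rw [LinearMap.mem_ker, map_sub, map_smul, h1, smul_eq_mul, mul_one, sub_self]
    obtain ⟨t, ht⟩ := hrange.le hx
    exact ⟨(φ x, t), by simp [E, ht]⟩

theorem pow_equiv (N : CommRing.Pic R) (k : ℕ) :
    Nonempty ((Fin (k + 1) → N.AsModule) ≃ₗ[R] ((Fin k → R) × (N ^ (k + 1)).AsModule)) := by
  induction k with
  | zero =>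
    rw [zero_add, pow_one]
    exact ⟨(LinearEquiv.funUnique (Fin 1) R N.AsModule).trans LinearEquiv.uniqueProd.symm⟩
  | succ k ih =>
    obtain ⟨e⟩ := ih
    obtain ⟨s⟩ := steinitz (R := R) N.AsModule (N ^ (k + 1)).AsModule
    obtain ⟨t⟩ : Nonempty ((N.AsModule ⊗[R] (N ^ (k + 1)).AsModule) ≃ₗ[R] (N ^ (k + 2)).AsModule) := by
      rw [← CommRing.Pic.mk_eq_iff, CommRing.Pic.mk_tensor, CommRing.Pic.mk_eq_self,
        CommRing.Pic.mk_eq_self, ← pow_succ']
    exact ⟨((Fin.consLinearEquiv R fun _ => N.AsModule).symm).trans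
      (((LinearEquiv.refl R _).prodCongr e).trans
      ((LinearEquiv.prodAssoc R _ _ _).symm.trans
      (((LinearEquiv.prodComm R _ _).prodCongr (LinearEquiv.refl R _)).trans
      ((LinearEquiv.prodAssoc R _ _ _).trans
      (((LinearEquiv.refl R _).prodCongr (s.trans ((LinearEquiv.refl R R).prodCongr t))).trans
      ((LinearEquiv.prodAssoc R _ _ _).symm.trans
      (((LinearEquiv.prodComm R _ _).trans (Fin.consLinearEquiv R fun _ => R)).prodCongr
        (LinearEquiv.refl R _))))))))⟩

/-- Let R be a Dedekind domain, N an invertible R-module and n a natural number with [N]^n = 1 in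
Pic(R). Then the direct sum N^n is isomorphic to R^n; thus over a Dedekind domain the invertible
modules N with N^n ≅ R^n are exactly the n-torsion classes of Pic(R), the other inclusion holding
over any commutative ring. -/
theorem result {R : Type u} [CommRing R]
    [IsDedekindDomain R] (N : Type v) [AddCommGroup N] [Module R N] [Module.Invertible R N]
    (n : ℕ) (h : CommRing.Pic.mk R N ^ n = 1) :
    Nonempty ((Fin n → N) ≃ₗ[R] (Fin n → R)) := by
  rcases n with _ | k
  · exact ⟨LinearEquiv.ofSubsingleton _ _⟩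
  obtain ⟨e⟩ := pow_equiv (CommRing.Pic.mk R N) k
  rw [h] at e
  obtain ⟨u⟩ := CommRing.Pic.mk_eq_one_iff.mp
    (CommRing.Pic.mk_eq_self (M := (1 : CommRing.Pic R)))
  exact ⟨(LinearEquiv.piCongrRight fun _ => (CommRing.Pic.mk.linearEquiv R N).symm).trans
    (e.trans (((LinearEquiv.refl R (Fin k → R)).prodCongr u).trans
      ((LinearEquiv.prodComm R _ _).trans (Fin.consLinearEquiv R fun _ => R))))⟩

end Groth.Agent.S16200
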