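import Mathlib
import Groth.Statements.S16201
-- import your own Groth.Agent.* helpers here

set_option autoImplicit false
open CategoryTheory AlgebraicGeometry
open Variety

namespace Groth.Agent.S16201

open Topology TopologicalSpace in
theorem interior_or_interior_compl {S : Type*} [TopologicalSpace S] [NoetherianSpace S] [IrreducibleSpace S]
    {E : Set S} (hE : IsConstructible E) : (interior E).Nonempty ∨ (interior Eᶜ).Nonempty := by
  induction hE using IsConstructible.empty_union_induction with
  | open_retrocompact U hU _ =>
    rcases U.eq_empty_or_nonempty with he | hne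
    · exact Or.inr (by simp [he])
    · exact Or.inl (by rwa [hU.interior_eq])
  | union s _ t _ hs ht =>
    rcases hs with hs | hs
    · exact Or.inl (hs.mono (interior_mono Set.subset_union_left))
    rcases ht with ht | ht
    · exact Or.inl (ht.mono (interior_mono Set.subset_union_right))
    refine Or.inr ?_
    rw [Set.compl_union, interior_inter]
    exact nonempty_preirreducible_inter isOpen_interior isOpen_interior hs ht
  | compl s _ hs =>
    rw [compl_compl]
    exact hs.symm


/-- Let f : Y → Z be a morphism of schemes of finite type over ℂ, with Z irreducible. Suppose that the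
general fibre of f is irreducible, in the sense that there is a nonempty open subset V of Z such
that the fibre of f over every closed point of V is an irreducible topological space, and that each
irreducible component of Y has dense image in Z. Then Y is irreducible. (The published statement is
for a morphism of projective varieties; only finiteness of type over the field is used, and the row
is stated in that generality.) -/
theorem result
    (Y Z : Scheme.{0}) (g : Z ⟶ Spec (CommRingCat.of ℂ)) (f : Y ⟶ Z)
    [LocallyOfFiniteType g] [QuasiCompact g] [LocallyOfFiniteType f] [QuasiCompact f]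
    [IrreducibleSpace Z]
    (hgen : ∃ V : Z.Opens, (V : Set Z).Nonempty ∧
      ∀ z ∈ V, IsClosed ({z} : Set Z) → IsIrreducible (f.base ⁻¹' {z}))
    (hdom : ∀ W ∈ irreducibleComponents Y, Dense (f.base '' W)) :
    IrreducibleSpace Y := by
  classical
  have : IsLocallyNoetherian Z := LocallyOfFiniteType.isLocallyNoetherian g
  have : CompactSpace Z := QuasiCompact.compactSpace_of_compactSpace g
  have : IsNoetherian Z := {}
  have : IsLocallyNoetherian Y := LocallyOfFiniteType.isLocallyNoetherian f
  have : CompactSpace Y := QuasiCompact.compactSpace_of_compactSpace f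
  have : IsNoetherian Y := {}
  have : JacobsonSpace Z := LocallyOfFiniteType.jacobsonSpace g
  have : LocallyOfFinitePresentation f := LocallyOfFinitePresentation.iff_locallyOfFiniteType.2 inferInstance
  obtain ⟨V, hVne, hV⟩ := hgen
  obtain ⟨z₀, hz₀, hz₀'⟩ := nonempty_inter_closedPoints hVne V.2.isLocallyClosed
  have hYne : Nonempty Y := ⟨(hV z₀ hz₀ hz₀').1.some⟩
  refine { isPreirreducible_univ := ?_, toNonempty := hYne }
  have hfin := TopologicalSpace.NoetherianSpace.finite_irreducibleComponents (α := Y)
  let O : Set Y → Set Y := fun W => (⋃₀ (irreducibleComponents Y \ {W}))ᶜ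
  have hO : ∀ W ∈ irreducibleComponents Y, IsOpen (O W) ∧ (O W).Nonempty ∧ O W ⊆ W := by
    intro W hW
    refine ⟨(hfin.sdiff.isClosed_biUnion (fun A hA => isClosed_of_mem_irreducibleComponents A hA.1) |> fun h => by
      rw [isOpen_compl_iff, Set.sUnion_eq_biUnion]; exact h), ?_, ?_⟩
    · by_contra he
      rw [Set.not_nonempty_iff_eq_empty, Set.compl_empty_iff] at he
      have hsub : W ⊆ ⋃₀ ↑(hfin.sdiff (t := {W})).toFinset := by rw [Set.Finite.coe_toFinset, he]; exact Set.subset_univ _
      obtain ⟨A, hA, hWA⟩ := isIrreducible_iff_sUnion_isClosed.1 hW.1 _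
        (fun A hA => isClosed_of_mem_irreducibleComponents A ((Set.Finite.mem_toFinset _).1 hA).1) hsub
      rw [Set.Finite.mem_toFinset] at hA
      exact hA.2 (subset_antisymm (hW.2 hA.1.1 hWA) hWA)
    · intro y hy
      obtain ⟨A, hA, hyA⟩ : y ∈ ⋃₀ irreducibleComponents Y := by rw [sUnion_irreducibleComponents]; trivial
      by_cases hAW : A = W
      · exact hAW ▸ hyA
      · exact (hy ⟨A, ⟨hA, hAW⟩, hyA⟩).elim
  have key : ∀ W ∈ irreducibleComponents Y, (interior (f.base '' O W)).Nonempty := by
    intro W hW
    obtain ⟨ho, hne, hsub⟩ := hO W hW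
    have hc : Topology.IsConstructible (f.base '' O W) :=
      f.isConstructible_image ((TopologicalSpace.NoetherianSpace.isCompact _).isConstructible ho)
    rcases interior_or_interior_compl hc with h | h
    · exact h
    exfalso
    have hd : Dense (f.base '' O W) := by
      intro z
      have h1 : W ⊆ closure (O W) := subset_closure_inter_of_isPreirreducible_of_isOpen hW.1.2 ho (by
        obtain ⟨a, ha⟩ := hne; exact ⟨a, hsub ha, ha⟩) |>.trans (closure_mono Set.inter_subset_right)
      have h2 : f.base '' W ⊆ closure (f.base '' O W) :=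
        (Set.image_mono h1).trans (image_closure_subset_closure_image f.continuous)
      exact closure_minimal h2 isClosed_closure ((hdom W hW) z)
    obtain ⟨z, hz, hz'⟩ := hd.inter_open_nonempty _ isOpen_interior h
    exact interior_subset hz hz'
  have huniq : ∀ W₁ ∈ irreducibleComponents Y, ∀ W₂ ∈ irreducibleComponents Y, W₁ = W₂ := by
    intro W₁ hW₁ W₂ hW₂
    by_contra hne
    obtain ⟨z1, hz1⟩ := nonempty_preirreducible_inter isOpen_interior isOpen_interior (key W₁ hW₁) (key W₂ hW₂)
    have hne2 : ((V : Set Z) ∩ (interior (f.base '' O W₁) ∩ interior (f.base '' O W₂))).Nonempty :=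
      nonempty_preirreducible_inter V.2 (isOpen_interior.inter isOpen_interior) hVne ⟨z1, hz1⟩
    obtain ⟨z, ⟨hzV, hz1, hz2⟩, hzc⟩ := nonempty_inter_closedPoints hne2 (V.2.inter (isOpen_interior.inter isOpen_interior)).isLocallyClosed
    obtain ⟨y1, hy1, hy1'⟩ := interior_subset hz1
    obtain ⟨y2, hy2, hy2'⟩ := interior_subset hz2
    obtain ⟨y, -, hyO1, hyO2⟩ := (hV z hzV hzc).2 _ _ (hO W₁ hW₁).1 (hO W₂ hW₂).1 ⟨y1, hy1', hy1⟩ ⟨y2, hy2', hy2⟩
    exact hyO2 ⟨W₁, ⟨hW₁, hne⟩, (hO W₁ hW₁).2.2 hyO1⟩
  obtain ⟨y⟩ := hYne
  have huniv : irreducibleComponent y = Set.univ := by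
    refine Set.eq_univ_of_forall fun x => ?_
    rw [huniq _ (irreducibleComponent_mem_irreducibleComponents y) _ (irreducibleComponent_mem_irreducibleComponents x)]
    exact mem_irreducibleComponent
  rw [← huniv]
  exact isIrreducible_irreducibleComponent.2

end Groth.Agent.S16201
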