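import Groth.Statements.S16202
import Groth.Agent.ConnDiv.Loci

set_option autoImplicit false
set_option backward.isDefEq.respectTransparency false
open CategoryTheory CategoryTheory.Limits AlgebraicGeometry
open Variety

namespace Groth.Agent.S16202

/-- Let X be an integral projective scheme over ℂ of dimension at least 2 and D an effective ample
divisor on X. Then the support of D is connected. Here D is given by an ample invertible module L
together with a nonzero global section s (a monomorphism O_X → L), and its support is the zero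
scheme Z(s), which is asserted to be a connected (in particular nonempty) topological space. -/
theorem result
    (X : Scheme.{0}) (f : X ⟶ Spec (CommRingCat.of ℂ)) [IsIntegral X]
    (hproj : (∃ (n : ℕ) (ι : X ⟶ CohB1.ProjSpace n ℂ), IsClosedImmersion ι ∧ ι ≫ CohB1.ProjSpace.toSpec n ℂ = f))
    (hdim : (2 : WithBot ℕ∞) ≤ topologicalKrullDim X)
    (L : X.Modules) (hL : CohB1.IsAmple L) (s : Coh.structureModule X ⟶ L) (hs : Mono s) :
    ConnectedSpace ↥(PicF2.zeroScheme L s).subscheme := by
  obtain ⟨n, ι, hι, hιf⟩ := hproj
  haveI : IsProper (CohB1.ProjSpace.toSpec n ℂ) := Groth.Agent.InvPow.isProper_toSpec n ℂ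
  haveI : IsProper f := by rw [← hιf]; infer_instance
  let σ : Γ(L, ⊤) := PicF2.secVal L s ⊤
  have hZ := Groth.Agent.NegVanish.support_zeroScheme hL.1 s
  have hc : IsConnected ((Groth.Agent.ProjUniv.genOpen hL.1 σ : Set X)ᶜ) := by
    by_cases hne : (Groth.Agent.ProjUniv.genOpen hL.1 σ : Set X).Nonempty
    · exact Groth.Agent.ConnDiv.isConnected_compl_genOpen' f hdim hL σ hne
    · rw [Set.not_nonempty_iff_eq_empty.mp hne, Set.compl_empty]
      exact isConnected_univ
  rw [← hZ, ← Scheme.IdealSheafData.range_subschemeι] at hc
  haveI : PreconnectedSpace ↥(PicF2.zeroScheme L s).subscheme :=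
    ⟨(PicF2.zeroScheme L s).subschemeι.isEmbedding.isInducing.isPreconnected_image.mp
      (by rw [Set.image_univ]; exact hc.2)⟩
  obtain ⟨_, y, rfl⟩ := hc.nonempty
  exact { toNonempty := ⟨y⟩ }
end Groth.Agent.S16202
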