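import Groth.Statements.S16206
import Mathlib

set_option autoImplicit false
open RatCurv

namespace Groth.Agent.S16206

section

open W4c3cyccovratcurv Relation SimpleGraph

variable {k n : ℕ}

theorem conicAdj_symm {T T' : MarkedTree k} (h : ConicAdj T T') : ConicAdj T' T := by
  obtain ⟨u₁, w₁, u₂, w₂, h₁, h₂, φ, hu, hm⟩ := h
  exact ⟨u₂, w₂, u₁, w₁, h₂, h₁, φ.symm, by rw [← hu, RelIso.symm_apply_apply],
    fun i => by rw [← hm i, RelIso.symm_apply_apply]⟩

theorem conicAdj_of_eq (G G' : SimpleGraph (Fin n)) (hG : G.IsTree) (hG' : G'.IsTree)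
    (m m' : Fin k → Fin n) {u w : Fin n} (h : G.Adj u w) (h' : G'.Adj u w)
    (hc : contract G u w = contract G' u w)
    (hm : ∀ i, contractMark m u w h.ne i = contractMark m' u w h.ne i) :
    ConicAdj (⟨n, G, hG, m⟩ : MarkedTree k) ⟨n, G', hG', m'⟩ :=
  ⟨u, w, u, w, h, h', { Equiv.refl _ with map_rel_iff' := by intro a b; simp [hc] }, rfl,
    fun i => hm i⟩

theorem to_star_marks (r : Fin n) : ∀ (s : Finset (Fin k)) (m : Fin k → Fin n),
    (∀ i, i ∉ s → m i = r) → ReflTransGen ConicAdj
      (⟨n, starGraph r, isTree_starGraph r, m⟩ : MarkedTree k)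
      ⟨n, starGraph r, isTree_starGraph r, fun _ => r⟩ := by
  intro s
  induction s using Finset.induction with
  | empty =>
    intro m h
    rw [show m = fun _ => r from funext fun i => h i (Finset.notMem_empty i)]
  | insert a s ha ih =>
    intro m h
    by_cases hr : m a = r
    · refine ih m fun i hi => ?_
      by_cases hia : i = a
      · exact hia ▸ hr
      · exact h i (by simp [hia, hi])
    let m' : Fin k → Fin n := fun i => if m i = m a then r else m i
    refine ReflTransGen.head ?_ (ih m' fun i hi => ?_)
    · refine conicAdj_of_eq _ _ _ _ m m' (u := r) (w := m a) (starGraph_center_adj (Ne.symm hr))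
        (starGraph_center_adj (Ne.symm hr)) rfl fun i => ?_
      unfold contractMark
      by_cases hi : m i = m a
      · rw [dif_pos hi]
        have : m' i ≠ m a := by simp [m', hi, Ne.symm hr]
        rw [dif_neg this]
        simp [m', hi]
      · rw [dif_neg hi]
        have : m' i ≠ m a := by simp [m', hi]
        rw [dif_neg this]
        simp [m', hi]
    · by_cases hia : i = a
      · simp [m', hia]
      · simp [m', h i (by simp [hia, hi])]

theorem to_star (r : Fin n) (m : Fin k → Fin n) : ∀ (d : ℕ) (G : SimpleGraph (Fin n)) (hG : G.IsTree),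
    {v | v ≠ r ∧ ¬ G.Adj r v}.ncard ≤ d → ReflTransGen ConicAdj
      (⟨n, G, hG, m⟩ : MarkedTree k) ⟨n, starGraph r, isTree_starGraph r, m⟩ := by
  intro d
  induction d using Nat.strong_induction_on with
  | _ d ih =>
    intro G hG hd
    by_cases hall : ∀ v, v ≠ r → G.Adj r v
    · have hle : starGraph r ≤ G := fun x y hxy => by
        obtain ⟨hne, rfl | rfl⟩ := starGraph_adj.1 hxy
        · exact hall y hne.symm
        · exact (hall x hne).symm
      obtain rfl : G = starGraph r :=
        le_antisymm ((isTree_iff_minimal_connected.1 hG).2 (connected_starGraph r) hle) hle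
      exact ReflTransGen.refl
    push Not at hall
    obtain ⟨v, hv, hva⟩ := hall
    obtain ⟨p⟩ := hG.connected r v
    obtain ⟨d', -, hd1, hd2⟩ := p.exists_boundary_dart {x | x = r ∨ G.Adj r x} (Or.inl rfl)
      (fun h => h.elim hv hva)
    set u := d'.fst
    set w := d'.snd
    have huw : G.Adj u w := d'.adj
    have hwr : w ≠ r := fun h => hd2 (Or.inl h)
    have hrw : ¬ G.Adj r w := fun h => hd2 (Or.inr h)
    have hru : G.Adj r u := (hd1 : u = r ∨ G.Adj r u).resolve_left fun h => hrw (h ▸ huw)
    let G₀ := G.deleteEdges {s(u, w)}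
    let G' := G₀ ⊔ edge r w
    have hru₀ : G₀.Adj r u := by
      refine deleteEdges_adj.2 ⟨hru, ?_⟩
      simp [hru.ne, hwr.symm]
    have hnr : ¬ G₀.Reachable r w := fun h => by
      have hb := isAcyclic_iff_forall_adj_isBridge.1 hG.isAcyclic huw
      exact (isBridge_iff.1 hb) ((hru₀.reachable.symm).trans h)
    have hrw' : G'.Adj r w := Or.inr ((edge_adj _ _ _ _).2 ⟨Or.inl ⟨rfl, rfl⟩, hwr.symm⟩)
    haveI : Nonempty (Fin n) := ⟨r⟩
    have hconn : G'.Connected := by
      refine ⟨fun x y => ?_⟩
      refine (hG.connected x y).elim fun q => ?_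
      induction q with
      | nil => exact Reachable.refl _
      | @cons a b c hab q ihq =>
        refine Reachable.trans ?_ ihq
        by_cases he : s(a, b) = s(u, w)
        · have huw' : G'.Reachable u w :=
            (Adj.reachable (show G'.Adj u r from Or.inl hru₀.symm)).trans hrw'.reachable
          rcases Sym2.eq_iff.1 he with ⟨rfl, rfl⟩ | ⟨rfl, rfl⟩
          · exact huw'
          · exact huw'.symm
        · exact Adj.reachable (show G'.Adj a b from Or.inl (deleteEdges_adj.2 ⟨hab, he⟩))
    have htree : G'.IsTree := ⟨hconn,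
      (isAcyclic_add_edge_iff_of_not_reachable _ _ hnr).2 (hG.isAcyclic.anti (deleteEdges_le _))⟩
    refine ReflTransGen.head (conicAdj_of_eq G G' hG htree m m (u := r) (w := u) hru (Or.inl hru₀)
      ?_ (fun i => rfl)) (ih _ ?_ G' htree le_rfl)
    · ext ⟨a, ha⟩ ⟨b, hb⟩
      simp only [contract, fromRel_adj, ne_eq, Subtype.mk.injEq, G', sup_adj, G₀, deleteEdges_adj,
        edge_adj, Set.mem_singleton_iff, Sym2.eq_iff]
      constructor <;> rintro ⟨hne, hcases⟩ <;> refine ⟨hne, ?_⟩ <;>
        grind [SimpleGraph.Adj.symm, SimpleGraph.Adj.ne]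
    · refine lt_of_lt_of_le (Set.ncard_lt_ncard ?_ (Set.toFinite _)) hd
      rw [Set.ssubset_iff_of_subset]
      · exact ⟨w, ⟨hwr, hrw⟩, fun h => h.2 hrw'⟩
      · rintro x ⟨hx, hxn⟩
        refine ⟨hx, fun h => hxn (Or.inl (deleteEdges_adj.2 ⟨h, ?_⟩))⟩
        simp [hru.ne, hwr.symm]

end

/-- Let G₁ and G₂ be dual graphs of linear trees of the same total degree e and with k marked points
each, that is finite trees with e vertices, every vertex of degree one, together with a list of k
marked vertices (repetitions allowed). Then a finite chain of conic deformations leads from G₁ to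
G₂. Here a conic deformation of such a graph is the marked graph obtained by contracting one edge
(the contracted vertex being the unique vertex of degree two), two marked trees are one step apart
when they have isomorphic conic deformations, the isomorphism matching the contracted vertices and
the i-th marked vertices, and the conclusion is that G₁ and G₂ are related by the
reflexive-transitive closure of this one-step relation. -/
theorem result (k : ℕ) (T₁ T₂ : W4c3cyccovratcurv.MarkedTree k)
    (h : T₁.n = T₂.n) :
    Relation.ReflTransGen W4c3cyccovratcurv.ConicAdj T₁ T₂ := by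
  obtain ⟨n, G₁, hG₁, m₁⟩ := T₁
  obtain ⟨n', G₂, hG₂, m₂⟩ := T₂
  obtain rfl : n = n' := h
  obtain ⟨r⟩ := hG₁.connected.nonempty
  have key : ∀ (G : SimpleGraph (Fin n)) (hG : G.IsTree) (m : Fin k → Fin n),
      Relation.ReflTransGen W4c3cyccovratcurv.ConicAdj (⟨n, G, hG, m⟩ : W4c3cyccovratcurv.MarkedTree k)
        ⟨n, SimpleGraph.starGraph r, SimpleGraph.isTree_starGraph r, fun _ => r⟩ := fun G hG m =>
    (to_star r m _ G hG le_rfl).trans (to_star_marks r Finset.univ m fun i hi => absurd (Finset.mem_univ i) hi)
  haveI : Std.Symm (W4c3cyccovratcurv.ConicAdj (k := k)) := ⟨fun _ _ h => conicAdj_symm h⟩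
  exact (key G₁ hG₁ m₁).trans (Relation.ReflTransGen.symmetric.symm _ _ (key G₂ hG₂ m₂))

end Groth.Agent.S16206
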