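import Mathlib
import Mathlib.RingTheory.Smooth.Basic
import Mathlib.Algebra.Ring.Action.Basic
import Groth.Statements.S16211
-- import your own Groth.Agent.* helpers here

set_option autoImplicit false
universe u v
open InvTh

namespace Groth.Agent.S16211

/-- Let R be a commutative ring, O a formally smooth R-algebra and G a finite group whose order is
invertible in R, acting on O by R-algebra automorphisms. Then the largest quotient algebra of O on
which G acts trivially, namely the quotient of O by the ideal generated by all g • f - f (the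
coordinate ring of the subscheme of G-fixed points of Spec O), is again formally smooth over R:
invariant homomorphisms lift along square-zero extensions. The published statement is about a scheme
X smooth and of finite presentation over the base and concludes that its fixed-point scheme is
smooth; this row, the affine step of its proof, assumes only that O is formally smooth over R and
concludes only formal smoothness. -/
theorem result (R : Type u) [CommRing R]
    (O : Type u) [CommRing O] [Algebra R O] [Algebra.FormallySmooth R O]
    (G : Type v) [Group G] [Finite G] [MulSemiringAction G O] [SMulCommClass G R O]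
    (hG : IsUnit (Nat.card G : R)) :
    Algebra.FormallySmooth R (O ⧸ Ideal.span {x : O | ∃ (g : G) (f : O), x = g • f - f}) := by
  classical
  cases nonempty_fintype G
  refine Algebra.FormallySmooth.iff_comp_surjective.mpr fun B _ _ N hN φ => ?_
  let J : Ideal O := Ideal.span {x : O | ∃ (g : G) (f : O), x = g • f - f}
  obtain ⟨ψ, hψ⟩ := Algebra.FormallySmooth.comp_surjective R O N hN (φ.comp (Ideal.Quotient.mkₐ R J))
  have hψ' : ∀ x, Ideal.Quotient.mk N (ψ x) = φ (Ideal.Quotient.mk J x) := fun x => AlgHom.congr_fun hψ x
  let D : G → O → B := fun g x => ψ (g • x) - ψ x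
  have hD : ∀ g x, D g x ∈ N := fun g x => by
    have hm : g • x - x ∈ J := Ideal.subset_span ⟨g, x, rfl⟩
    rw [← Ideal.Quotient.eq_zero_iff_mem, map_sub, hψ', hψ', ← map_sub, ← map_sub,
      Ideal.Quotient.eq_zero_iff_mem.mpr hm, map_zero]
  have hNN : ∀ a b, a ∈ N → b ∈ N → a * b = 0 := fun a b ha hb => by
    have : a * b ∈ N ^ 2 := by rw [pow_two]; exact Ideal.mul_mem_mul ha hb
    rwa [hN, Ideal.mem_bot] at this
  obtain ⟨u, hu⟩ := hG
  let c : B := algebraMap R B ↑u⁻¹
  have hc : c * (Fintype.card G : B) = 1 := by
    have h : (↑u⁻¹ : R) * (Fintype.card G : R) = 1 := by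
      rw [← Nat.card_eq_fintype_card, ← hu, Units.inv_mul]
    simpa [c] using congrArg (algebraMap R B) h
  let D' : O → B := fun x => c * ∑ g, D g x
  have hD' : ∀ x, D' x ∈ N := fun x => N.mul_mem_left _ (N.sum_mem fun g _ => hD g x)
  have hDmul : ∀ g x y, D g (x * y) = ψ x * D g y + D g x * ψ y := fun g x y => by
    have h := hNN _ _ (hD g x) (hD g y)
    simp only [D, smul_mul', map_mul] at h ⊢
    linear_combination h
  let ψ' : O →ₐ[R] B :=
    { toFun := fun x => ψ x + D' x
      map_one' := by simp [D', D]
      map_mul' := fun x y => by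
        have h : D' (x * y) = ψ x * D' y + D' x * ψ y := by
          simp only [D', hDmul, Finset.sum_add_distrib, ← Finset.mul_sum, ← Finset.sum_mul]
          ring
        rw [map_mul, h]
        linear_combination -(hNN _ _ (hD' x) (hD' y))
      map_zero' := by simp [D', D]
      map_add' := fun x y => by
        simp only [D', D, smul_add, map_add, Finset.sum_sub_distrib, Finset.sum_add_distrib]
        ring
      commutes' := fun r => by simp [D', D, Algebra.algebraMap_eq_smul_one, smul_comm, smul_one] }
  have hinv : ∀ (h : G) (x : O), ψ' (h • x) = ψ' x := by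
    intro h x
    have hsum : ∑ g : G, ψ (g • h • x) = ∑ g : G, ψ (g • x) :=
      Fintype.sum_equiv (Equiv.mulRight h) _ _ (fun g => by simp [mul_smul])
    show ψ (h • x) + c * ∑ g, (ψ (g • h • x) - ψ (h • x)) = ψ x + c * ∑ g, (ψ (g • x) - ψ x)
    rw [Finset.sum_sub_distrib, Finset.sum_sub_distrib, hsum, Finset.sum_const, Finset.sum_const, Finset.card_univ, nsmul_eq_mul, nsmul_eq_mul]
    linear_combination (ψ x - ψ (h • x)) * hc
  have hker : ∀ a ∈ J, ψ' a = 0 := by
    intro a ha
    refine (show J ≤ RingHom.ker ψ'.toRingHom from Ideal.span_le.mpr ?_) ha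
    rintro _ ⟨g, f, rfl⟩
    show ψ' (g • f - f) = 0
    rw [map_sub, hinv, sub_self]
  refine ⟨Ideal.Quotient.liftₐ J ψ' hker, Ideal.Quotient.algHom_ext R (AlgHom.ext fun x => ?_)⟩
  show Ideal.Quotient.mk N (ψ x + D' x) = φ (Ideal.Quotient.mk J x)
  rw [map_add, hψ', Ideal.Quotient.eq_zero_iff_mem.mpr (hD' x), add_zero]

end Groth.Agent.S16211
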