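import Groth.Statements.S16220
import Mathlib.RingTheory.WittVector.Complete
-- import your own Groth.Agent.* helpers here

set_option autoImplicit false
universe u v
open Disp

namespace Groth.Agent.S16220

/-- Let p be a prime and k a perfect ring of characteristic p, so that the Frobenius σ of W = W(k) is
bijective, W has no p-torsion and W/p^n W = W_n(k) (the ideal p^n W is the kernel of the truncation
to length n). Let n ≥ 2 and let M be a truncated Dieudonné module of level n over k: a W-module on
which W acts through W/p^n W, finitely generated and projective over W/p^n W, with a σ-semilinear F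
: M → M and a σ⁻¹-semilinear V : M → M such that FV = VF = p. Then on M/pM the kernel of F is the
image of V and the kernel of V is the image of F; stated inside M: the preimage of pM under F is VM
+ pM, and the preimage of pM under V is FM + pM. -/
theorem result (p : ℕ) [Fact p.Prime] (k : Type u) [CommRing k]
    [CharP k p] [PerfectRing k p] (n : ℕ) (hn : 2 ≤ n)
    (M : Type v) [AddCommGroup M] [Module (WittVector p k) M]
    [Module (WittVector p k ⧸ Ideal.span {(p : WittVector p k) ^ n}) M] [IsScalarTower (WittVector p k) (WittVector p k ⧸ Ideal.span {(p : WittVector p k) ^ n}) M]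
    [Module.Finite (WittVector p k ⧸ Ideal.span {(p : WittVector p k) ^ n}) M] [Module.Projective (WittVector p k ⧸ Ideal.span {(p : WittVector p k) ^ n}) M]
    (F : M →ₛₗ[(WittVector.frobenius : WittVector p k →+* WittVector p k)] M)
    (V : M →ₛₗ[((WittVector.frobeniusEquiv p k).symm : WittVector p k →+* WittVector p k)] M)
    (hFV : ∀ m : M, F (V m) = (p : WittVector p k) • m) (hVF : ∀ m : M, V (F m) = (p : WittVector p k) • m) :
    (Ideal.span {(p : WittVector p k)} • (⊤ : Submodule (WittVector p k) M)).comap F =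
        Submodule.span (WittVector p k) (Set.range V) ⊔ Ideal.span {(p : WittVector p k)} • (⊤ : Submodule (WittVector p k) M) ∧
      (Ideal.span {(p : WittVector p k)} • (⊤ : Submodule (WittVector p k) M)).comap V =
        Submodule.span (WittVector p k) (Set.range F) ⊔ Ideal.span {(p : WittVector p k)} • (⊤ : Submodule (WittVector p k) M) := by
  have key : ∀ y : M, (p : WittVector p k) • y = 0 → y ∈ Ideal.span {(p : WittVector p k)} • (⊤ : Submodule (WittVector p k) M) := by
    intro y hy
    obtain ⟨s, hs⟩ := Module.projective_def'.1 (inferInstance : Module.Projective (WittVector p k ⧸ Ideal.span {(p : WittVector p k) ^ n}) M)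
    have hsy : algebraMap (WittVector p k) (WittVector p k ⧸ Ideal.span {(p : WittVector p k) ^ n}) (p : WittVector p k) • s y = 0 := by
      rw [← map_smul, IsScalarTower.algebraMap_smul, hy, map_zero]
    have hex : ∀ a : M, ∃ b : WittVector p k, (s y) a = algebraMap (WittVector p k) (WittVector p k ⧸ Ideal.span {(p : WittVector p k) ^ n}) ((p : WittVector p k) * b) := by
      intro a
      obtain ⟨w, hw⟩ := Ideal.Quotient.mk_surjective ((s y) a)
      have h1 : algebraMap (WittVector p k) (WittVector p k ⧸ Ideal.span {(p : WittVector p k) ^ n}) (p : WittVector p k) * (s y) a = 0 :=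
        DFunLike.congr_fun hsy a
      rw [← hw, Ideal.Quotient.algebraMap_eq, ← map_mul, Ideal.Quotient.eq_zero_iff_mem,
        Ideal.mem_span_singleton] at h1
      obtain ⟨d, hd⟩ := h1
      obtain ⟨m, rfl⟩ : ∃ m, n = m + 2 := ⟨n - 2, by omega⟩
      have hw' : w = (p : WittVector p k) * ((p : WittVector p k) ^ m * d) :=
        sub_eq_zero.1 (WittVector.eq_zero_of_p_mul_eq_zero _ (by rw [sub_mul, mul_comm w, hd]; ring))
      exact ⟨(p : WittVector p k) ^ m * d, by rw [← hw, Ideal.Quotient.algebraMap_eq, hw']⟩
    have hy' : Finsupp.linearCombination (WittVector p k ⧸ Ideal.span {(p : WittVector p k) ^ n}) (id : M → M) (s y) = y := DFunLike.congr_fun hs y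
    rw [← hy', Finsupp.linearCombination_apply]
    refine Submodule.sum_mem _ fun a _ => ?_
    obtain ⟨b, hb⟩ := hex a
    show (s y) a • a ∈ _
    rw [hb, IsScalarTower.algebraMap_smul, mul_smul]
    exact Submodule.smul_mem_smul (Ideal.mem_span_singleton_self (p : WittVector p k)) Submodule.mem_top
  have hmem : ∀ x, x ∈ Ideal.span {(p : WittVector p k)} • (⊤ : Submodule (WittVector p k) M) ↔ ∃ y, (p : WittVector p k) • y = x := by
    intro x
    rw [Submodule.ideal_span_singleton_smul]
    exact ⟨fun ⟨y, _, h⟩ => ⟨y, h⟩, fun ⟨y, h⟩ => ⟨y, trivial, h⟩⟩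
  constructor
  · refine le_antisymm (fun m hm => ?_) (sup_le (Submodule.span_le.2 ?_) fun m hm => ?_)
    · obtain ⟨x, hx⟩ := (hmem _).1 hm
      refine Submodule.mem_sup.2 ⟨V x, Submodule.subset_span ⟨x, rfl⟩, m - V x, key _ ?_, add_sub_cancel _ _⟩
      rw [smul_sub, ← hVF, ← hx, LinearMap.map_smulₛₗ, map_natCast, sub_self]
    · rintro _ ⟨x, rfl⟩
      exact (hmem _).2 ⟨x, (hFV x).symm⟩
    · obtain ⟨x, rfl⟩ := (hmem _).1 hm
      exact (hmem _).2 ⟨F x, by rw [LinearMap.map_smulₛₗ, map_natCast]⟩
  · refine le_antisymm (fun m hm => ?_) (sup_le (Submodule.span_le.2 ?_) fun m hm => ?_)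
    · obtain ⟨x, hx⟩ := (hmem _).1 hm
      refine Submodule.mem_sup.2 ⟨F x, Submodule.subset_span ⟨x, rfl⟩, m - F x, key _ ?_, add_sub_cancel _ _⟩
      rw [smul_sub, ← hFV, ← hx, LinearMap.map_smulₛₗ, map_natCast, sub_self]
    · rintro _ ⟨x, rfl⟩
      exact (hmem _).2 ⟨x, (hVF x).symm⟩
    · obtain ⟨x, rfl⟩ := (hmem _).1 hm
      exact (hmem _).2 ⟨V x, by rw [LinearMap.map_smulₛₗ, map_natCast]⟩

end Groth.Agent.S16220
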