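import Groth.Statements.S16222
import Mathlib
-- import your own Groth.Agent.* helpers here

set_option autoImplicit false
universe u v
open Disp

namespace Groth.Agent.S16222

section
open WittVector
variable {p : ℕ} [Fact p.Prime] {k : Type u} [CommRing k] [CharP k p] [PerfectRing k p]
variable {M : Type v} [AddCommGroup M] [Module (WittVector p k) M] [Module.Projective (WittVector p k) M]


theorem mem_pTop {x : M} : x ∈ Ideal.span {(p : (WittVector p k))} • (⊤ : Submodule (WittVector p k) M) ↔ ∃ y, (p : (WittVector p k)) • y = x := by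
  rw [Submodule.ideal_span_singleton_smul]
  constructor
  · rintro ⟨y, -, rfl⟩; exact ⟨y, rfl⟩
  · rintro ⟨y, rfl⟩; exact Submodule.smul_mem_pointwise_smul y _ _ Submodule.mem_top

theorem smul_p_inj {x : M} (h : (p : (WittVector p k)) • x = 0) : x = 0 := by
  obtain ⟨s, hs⟩ := Module.projective_def'.1 (inferInstance : Module.Projective (WittVector p k) M)
  have h0 : s x = 0 := Finsupp.ext fun i => by
    have h' := congrArg (fun z => z i) (congrArg s h)
    simp only [map_smul, map_zero, Finsupp.smul_apply, Finsupp.coe_zero, Pi.zero_apply, smul_eq_mul] at h'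
    exact WittVector.eq_zero_of_p_mul_eq_zero _ (by rw [mul_comm]; exact h')
  have := LinearMap.congr_fun hs x
  rw [LinearMap.comp_apply, h0, map_zero] at this
  exact this.symm

theorem comap_eq {σ τ : (WittVector p k) →+* (WittVector p k)} (F : M →ₛₗ[σ] M) (V : M →ₛₗ[τ] M)
    (hFV : ∀ m : M, F (V m) = (p : (WittVector p k)) • m) (hVF : ∀ m : M, V (F m) = (p : (WittVector p k)) • m) :
    (Ideal.span {(p : (WittVector p k))} • (⊤ : Submodule (WittVector p k) M)).comap F =
      Submodule.span (WittVector p k) (Set.range V) ⊔ Ideal.span {(p : (WittVector p k))} • (⊤ : Submodule (WittVector p k) M) := by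
  refine le_antisymm (fun x hx => ?_) (sup_le (Submodule.span_le.2 ?_) fun x hx => ?_)
  · obtain ⟨y, hy⟩ := mem_pTop.1 hx
    have h : (p : (WittVector p k)) • (x - V y) = 0 := by
      rw [← hVF, map_sub F, hFV, ← hy, sub_self, map_zero]
    rw [sub_eq_zero.1 (smul_p_inj h)]
    exact Submodule.mem_sup_left (Submodule.subset_span ⟨y, rfl⟩)
  · rintro _ ⟨y, rfl⟩
    exact mem_pTop.2 ⟨y, (hFV y).symm⟩
  · obtain ⟨y, rfl⟩ := mem_pTop.1 hx
    exact mem_pTop.2 ⟨F y, by rw [map_smulₛₗ, map_natCast]⟩

theorem map_coeff_zero_eq {R : Type*} [CommRing R] [CharP R p] (f : k →+* R) (w : (WittVector p k)) :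
    WittVector.map f (frobenius w) = frobenius (WittVector.map f w) := by
  ext n
  simp only [coeff_frobenius_charP, map_coeff, map_pow]

theorem mem_smul_top_of_smul {ι : Type*} (J : Ideal (WittVector p k)) (s : M →ₗ[(WittVector p k)] (ι →₀ (WittVector p k))) (r : (ι →₀ (WittVector p k)) →ₗ[(WittVector p k)] M)
    (hs : r ∘ₗ s = LinearMap.id) (x : M) (h : ∀ i, s x i ∈ J) : x ∈ J • (⊤ : Submodule (WittVector p k) M) := by
  rw [← LinearMap.id_apply (R := (WittVector p k)) x, ← hs, LinearMap.comp_apply, ← Finsupp.sum_single (s x),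
    map_finsuppSum]
  refine Submodule.sum_mem _ fun i _ => ?_
  change r (Finsupp.single i (s x i)) ∈ _
  rw [show Finsupp.single i (s x i) = s x i • Finsupp.single i (1 : (WittVector p k)) by simp, map_smul]
  exact Submodule.smul_mem_smul (h i) Submodule.mem_top

theorem apply_mem_of_mem_smul_top (J : Ideal (WittVector p k)) {ι : Type*} (s : M →ₗ[(WittVector p k)] (ι →₀ (WittVector p k))) {x : M}
    (hx : x ∈ J • (⊤ : Submodule (WittVector p k) M)) (i : ι) : s x i ∈ J := by
  induction hx using Submodule.smul_induction_on' with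
  | smul a ha m _ => rw [map_smul, Finsupp.smul_apply]; exact Ideal.mul_mem_right _ _ ha
  | add a _ b _ ha hb => rw [map_add, Finsupp.add_apply]; exact add_mem ha hb

variable (F : M →ₛₗ[(frobenius : (WittVector p k) →+* (WittVector p k))] M)
  (V : M →ₛₗ[((frobeniusEquiv p k).symm : (WittVector p k) →+* (WittVector p k))] M)
  (hFV : ∀ m : M, F (V m) = (p : (WittVector p k)) • m) (hVF : ∀ m : M, V (F m) = (p : (WittVector p k)) • m)

include hFV hVF in
/-- exactness in the fibre -/
theorem fibre_exact (I : Ideal (WittVector p k)) [I.IsPrime] (hpI : (p : (WittVector p k)) ∈ I) {x : M} (hx : F x ∈ I • (⊤ : Submodule (WittVector p k) M)) :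
    x ∈ Submodule.span (WittVector p k) (Set.range V) ⊔ I • (⊤ : Submodule (WittVector p k) M) := by
  classical
  have hker : Ideal.span {(p : (WittVector p k))} ≤ I := (Ideal.span_singleton_le_iff_mem _).2 hpI
  let q : Ideal k := I.map (WittVector.constantCoeff : (WittVector p k) →+* k)
  have hcs : Function.Surjective (WittVector.constantCoeff : (WittVector p k) →+* k) :=
    fun a => ⟨WittVector.teichmuller p a, by simp [WittVector.constantCoeff]⟩
  have hkI : RingHom.ker (WittVector.constantCoeff : (WittVector p k) →+* k) ≤ I := by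
    rw [WittVector.ker_constantCoeff]; exact hker
  have hq : q.IsPrime := Ideal.map_isPrime_of_surjective hcs hkI
  have hqI : ∀ w : (WittVector p k), WittVector.constantCoeff w ∈ q → w ∈ I := fun w hw => by
    have h : w ∈ q.comap (WittVector.constantCoeff : (WittVector p k) →+* k) := hw
    rwa [Ideal.comap_map_of_surjective _ hcs, ← RingHom.ker_eq_comap_bot, sup_eq_left.2 hkI] at h
  have : CharP (k ⧸ q) p := CharP.quotient' p q fun x hx => by
    by_contra hne
    have hdvd : ¬ p ∣ x := fun hd => hne ((CharP.cast_eq_zero_iff k p x).2 hd)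
    obtain ⟨u, hu⟩ : IsUnit (x : k) := by
      have h1 : IsUnit (x : ZMod p) := by
        rw [isUnit_iff_ne_zero]; exact fun h => hdvd ((CharP.cast_eq_zero_iff (ZMod p) p x).1 h)
      simpa only [map_natCast] using h1.map (ZMod.castHom (dvd_refl p) k)
    exact hq.ne_top (Ideal.eq_top_of_isUnit_mem _ hx (hu ▸ u.isUnit))
  have : PerfectRing (k ⧸ q) p := PerfectRing.ofSurjective _ p fun y => by
    obtain ⟨z, rfl⟩ := Ideal.Quotient.mk_surjective y
    obtain ⟨w, rfl⟩ := surjective_frobenius k p z
    exact ⟨Ideal.Quotient.mk q w, by simp [frobenius_def]⟩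
  let ρ := WittVector.map (p := p) (Ideal.Quotient.mk q)
  let J := RingHom.ker ρ
  have hJI : J ≤ I := fun w hw => hqI w (Ideal.Quotient.eq_zero_iff_mem.1 (by
    have h := congrArg (fun z => z.coeff 0) (RingHom.mem_ker.1 hw)
    simpa [ρ, WittVector.constantCoeff] using h))
  obtain ⟨s, hs⟩ := Module.projective_def'.1 (inferInstance : Module.Projective (WittVector p k) M)
  -- `F x ∈ pM + JM`
  have h1 : F x ∈ Ideal.span {(p : (WittVector p k))} • (⊤ : Submodule (WittVector p k) M) ⊔ J • (⊤ : Submodule (WittVector p k) M) := by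
    rw [← Submodule.sup_smul]
    refine Submodule.smul_mono_left (fun w hw => ?_) hx
    have hz : ρ w ∈ Ideal.span {(p : WittVector p (k ⧸ q))} := by
      rw [WittVector.mem_span_p_iff_coeff_zero_eq_zero]
      simp only [ρ, WittVector.map_coeff]
      exact Ideal.Quotient.eq_zero_iff_mem.2 (Ideal.mem_map_of_mem _ hw)
    obtain ⟨z, hz⟩ := Ideal.mem_span_singleton.1 hz
    obtain ⟨z, rfl⟩ := WittVector.map_surjective (Ideal.Quotient.mk q) Ideal.Quotient.mk_surjective z
    rw [show w = (p : (WittVector p k)) * z + (w - (p : (WittVector p k)) * z) by ring]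
    refine Submodule.add_mem_sup (Ideal.mul_mem_right _ _ (Ideal.mem_span_singleton_self _)) ?_
    rw [RingHom.mem_ker, map_sub, map_mul, map_natCast, hz, sub_self]
  obtain ⟨a, ha, b, hb, hab⟩ := Submodule.mem_sup.1 h1
  obtain ⟨y, rfl⟩ := mem_pTop.1 ha
  have hV : ∀ z ∈ J • (⊤ : Submodule (WittVector p k) M), V z ∈ J • (⊤ : Submodule (WittVector p k) M) := fun z hz => by
    induction hz using Submodule.smul_induction_on' with
    | smul a ha m _ =>
      rw [map_smulₛₗ]
      refine Submodule.smul_mem_smul ?_ Submodule.mem_top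
      rw [RingHom.mem_ker] at ha ⊢
      apply (WittVector.frobenius_bijective p (k ⧸ q)).injective
      rw [← map_coeff_zero_eq, map_zero]
      change ρ ((frobeniusEquiv p k) ((frobeniusEquiv p k).symm a)) = 0
      rw [RingEquiv.apply_symm_apply, ha]
    | add a _ b _ ha hb => rw [map_add]; exact add_mem ha hb
  have h2 : (p : (WittVector p k)) • (x - V y) ∈ J • (⊤ : Submodule (WittVector p k) M) := by
    rw [← hVF, map_sub F, hFV, ← hab, add_sub_cancel_left]
    exact hV b hb
  have h3 : x - V y ∈ J • (⊤ : Submodule (WittVector p k) M) := by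
    refine mem_smul_top_of_smul J s _ hs _ fun i => ?_
    have h := apply_mem_of_mem_smul_top J s h2 i
    rw [map_smul, Finsupp.smul_apply, smul_eq_mul, RingHom.mem_ker, map_mul, map_natCast] at h
    exact RingHom.mem_ker.2 (WittVector.eq_zero_of_p_mul_eq_zero _ (by rw [mul_comm]; exact h))
  rw [show x = V y + (x - V y) by abel]
  exact Submodule.add_mem_sup (Submodule.subset_span ⟨y, rfl⟩) (Submodule.smul_mono_left hJI h3)

include hFV hVF in
theorem projective_quot [Module.Finite (WittVector p k) M] :
    Module.Projective ((WittVector p k) ⧸ Ideal.span {(p : (WittVector p k))})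
      ((M ⧸ (Ideal.span {(p : (WittVector p k))} • (⊤ : Submodule (WittVector p k) M))) ⧸
        Submodule.span ((WittVector p k) ⧸ Ideal.span {(p : (WittVector p k))})
          (Set.range fun m : M => (Ideal.span {(p : (WittVector p k))} • (⊤ : Submodule (WittVector p k) M)).mkQ (V m))) := by
  classical
  set P := Ideal.span {(p : (WittVector p k))} with hP
  obtain ⟨N, π0, hπ0⟩ := Module.Finite.exists_fin' (WittVector p k) M
  let U : Submodule (WittVector p k) M := Submodule.span (WittVector p k) (Set.range V) ⊔ P • ⊤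
  let PN : Submodule (WittVector p k) (Fin N → (WittVector p k)) := P • ⊤
  let SId : Ideal (WittVector p k) :=
    { carrier := {r | ∃ s : M →ₗ[(WittVector p k)] (Fin N → (WittVector p k)), (∀ x, π0 (s x) - r • x ∈ U) ∧ ∀ x ∈ U, s x ∈ PN}
      add_mem' := by
        rintro r r' ⟨s, h1, h2⟩ ⟨s', h1', h2'⟩
        refine ⟨s + s', fun x => ?_, fun x hx => add_mem (h2 x hx) (h2' x hx)⟩
        rw [LinearMap.add_apply, map_add, add_smul, add_sub_add_comm]
        exact add_mem (h1 x) (h1' x)
      zero_mem' := ⟨0, fun x => by simp, fun x _ => by simp⟩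
      smul_mem' := by
        rintro c r ⟨s, h1, h2⟩
        refine ⟨c • s, fun x => ?_, fun x hx => Submodule.smul_mem _ c (h2 x hx)⟩
        rw [LinearMap.smul_apply, map_smul, smul_eq_mul, mul_smul, ← smul_sub]
        exact U.smul_mem c (h1 x) }
  have htop : SId = ⊤ := by
    by_contra hne
    obtain ⟨I, hImax, hI⟩ := Ideal.exists_le_maximal _ hne
    have hp : (p : (WittVector p k)) ∈ SId := ⟨0, fun x => by
      rw [LinearMap.zero_apply, map_zero, zero_sub]
      exact neg_mem (Submodule.mem_sup_right (mem_pTop.2 ⟨x, rfl⟩)), fun x _ => zero_mem _⟩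
    have hPI : P ≤ I := (Ideal.span_singleton_le_iff_mem _).2 (hI hp)
    have hfrob : ∀ w : (WittVector p k), frobenius w ∈ I ↔ w ∈ I := fun w => by
      have h : frobenius w - w ^ p ∈ P := by
        rw [hP, ← WittVector.ker_constantCoeff, RingHom.mem_ker, map_sub, map_pow]
        simp [WittVector.constantCoeff, coeff_frobenius_charP]
      constructor
      · intro hw
        exact hImax.isPrime.mem_of_pow_mem p (by simpa using sub_mem hw (hPI h))
      · intro hw
        simpa using add_mem (hPI h) (Ideal.pow_mem_of_mem I hw p (Fact.out : p.Prime).pos)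
    let _ : Field ((WittVector p k) ⧸ I) := Ideal.Quotient.field I
    -- a basis of the fibre
    let Z : Submodule (WittVector p k) M := U ⊔ I • ⊤
    have hIZ : Module.IsTorsionBySet (WittVector p k) (M ⧸ Z) I := fun z a => by
      obtain ⟨z, rfl⟩ := Z.mkQ_surjective z
      rw [← map_smul]
      exact (Submodule.Quotient.mk_eq_zero Z).2 (Submodule.mem_sup_right (Submodule.smul_mem_smul a.2 Submodule.mem_top))
    let _ : Module ((WittVector p k) ⧸ I) (M ⧸ Z) := hIZ.module
    have : IsScalarTower (WittVector p k) ((WittVector p k) ⧸ I) (M ⧸ Z) := hIZ.isScalarTower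
    have : Module.Finite ((WittVector p k) ⧸ I) (M ⧸ Z) := Module.Finite.of_restrictScalars_finite (WittVector p k) _ _
    obtain ⟨b, ⟨bs⟩⟩ : ∃ b, Nonempty (Module.Basis (Fin b) ((WittVector p k) ⧸ I) (M ⧸ Z)) :=
      ⟨_, ⟨Module.finBasis _ _⟩⟩
    choose c hc using fun i => Z.mkQ_surjective (bs i)
    -- `F c` is independent in `M / IM`
    let ξ : Fin b → M ⧸ (I • (⊤ : Submodule (WittVector p k) M)) := fun i => Submodule.Quotient.mk (F (c i))
    have hli : LinearIndependent ((WittVector p k) ⧸ I) ξ := by
      rw [Fintype.linearIndependent_iff]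
      intro g hg i
      choose a ha using fun i => Ideal.Quotient.mk_surjective (g i)
      let a' := fun i => (frobeniusEquiv p k).symm (a i)
      have h0 : F (∑ i, a' i • c i) ∈ I • (⊤ : Submodule (WittVector p k) M) := by
        rw [← Submodule.Quotient.mk_eq_zero (I • (⊤ : Submodule (WittVector p k) M)), ← hg, map_sum,
          ← Submodule.mkQ_apply, map_sum]
        refine Finset.sum_congr rfl fun i _ => ?_
        rw [map_smulₛₗ, ← ha i, map_smul]
        simp only [a', show ∀ w, (frobenius : (WittVector p k) →+* (WittVector p k)) ((frobeniusEquiv p k).symm w) = w from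
          fun w => (frobeniusEquiv p k).apply_symm_apply w]
        rfl
      have h1 := fibre_exact F V hFV hVF I (hI hp) h0
      have h2 : Z.mkQ (∑ i, a' i • c i) = 0 :=
        (Submodule.Quotient.mk_eq_zero Z).2 (sup_le_sup_right (le_sup_left : _ ≤ U) _ h1)
      rw [map_sum] at h2
      have h3 : ∑ i, Ideal.Quotient.mk I (a' i) • bs i = 0 := by
        rw [← h2]
        refine Finset.sum_congr rfl fun i _ => ?_
        rw [map_smul, hc i]
        exact algebraMap_smul ((WittVector p k) ⧸ I) (a' i) (bs i)
      have h4 : Ideal.Quotient.mk I (a' i) = 0 :=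
        Fintype.linearIndependent_iff.1 bs.linearIndependent _ h3 i
      rw [← ha i, Ideal.Quotient.eq_zero_iff_mem]
      rw [Ideal.Quotient.eq_zero_iff_mem, ← hfrob] at h4
      simpa only [a', show ∀ w, (frobenius : (WittVector p k) →+* (WittVector p k)) ((frobeniusEquiv p k).symm w) = w from
        fun w => (frobeniusEquiv p k).apply_symm_apply w] using h4
    obtain ⟨ψ, hψ⟩ : ∃ ψ : (M ⧸ (I • (⊤ : Submodule (WittVector p k) M))) →ₗ[(WittVector p k) ⧸ I] (Fin b → (WittVector p k) ⧸ I),
        ∀ i, ψ (ξ i) = Pi.single i 1 := by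
      let l : (Fin b → (WittVector p k) ⧸ I) →ₗ[(WittVector p k) ⧸ I] M ⧸ (I • (⊤ : Submodule (WittVector p k) M)) := Fintype.linearCombination ((WittVector p k) ⧸ I) ξ
      obtain ⟨ψ, hψ⟩ := l.exists_leftInverse_of_injective
        (LinearMap.ker_eq_bot.2 (linearIndependent_iff_injective_fintypeLinearCombination.1 hli))
      refine ⟨ψ, fun i => ?_⟩
      have h := LinearMap.congr_fun hψ (Pi.single i 1)
      simp only [l, LinearMap.comp_apply, LinearMap.id_apply, Fintype.linearCombination_apply_single, one_smul] at h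
      exact h
    let ψ' : M →ₗ[(WittVector p k)] (Fin b → (WittVector p k) ⧸ I) := ψ.restrictScalars (WittVector p k) ∘ₗ (I • (⊤ : Submodule (WittVector p k) M)).mkQ
    obtain ⟨φ, hφ⟩ := Module.projective_lifting_property ((Ideal.Quotient.mkₐ (WittVector p k) I).toLinearMap.compLeft (Fin b)) ψ'
      (fun g => by
        choose a ha using fun i => Ideal.Quotient.mk_surjective (g i)
        exact ⟨a, funext ha⟩)
    let G : Matrix (Fin b) (Fin b) (WittVector p k) := fun i j => φ (F (c i)) j
    let δ := G.det
    have hδ : δ ∉ I := by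
      rw [← Ideal.Quotient.eq_zero_iff_mem, RingHom.map_det]
      have : (Ideal.Quotient.mk I).mapMatrix G = 1 := by
        ext i j
        have h := congrFun (LinearMap.congr_fun hφ (F (c i))) j
        change Ideal.Quotient.mk I (φ (F (c i)) j) = ψ (ξ i) j at h
        rw [hψ] at h
        change Ideal.Quotient.mk I (φ (F (c i)) j) = _
        rw [h, Matrix.one_apply, Pi.single_apply]
        simp [eq_comm]
      rw [this, Matrix.det_one]
      exact one_ne_zero
    let Θ : M →ₗ[(WittVector p k)] (Fin b → (WittVector p k)) := Matrix.vecMulLinear G.adjugate ∘ₗ φ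
    have hΘ : ∀ i, Θ (F (c i)) = δ • Pi.single i 1 := fun i => by
      funext j
      have h := congrFun (congrFun (Matrix.mul_adjugate G) i) j
      simp only [Matrix.mul_apply, Matrix.smul_apply, Matrix.one_apply] at h
      simpa [Θ, Matrix.vecMul, dotProduct, G, Pi.single_apply, eq_comm, δ] using h
    let τ := (frobeniusEquiv p k).symm
    let s0 : M →ₗ[(WittVector p k)] (Fin b → (WittVector p k)) :=
      { toFun := fun x i => τ (Θ (F x) i)
        map_add' := fun x y => funext fun i => by simp
        map_smul' := fun r x => funext fun i => by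
          simp only [map_smulₛₗ, Pi.smul_apply, smul_eq_mul, map_mul, RingHom.id_apply, map_smul]
          congr 1
          exact (frobeniusEquiv p k).symm_apply_apply r }
    let π : (Fin b → (WittVector p k)) →ₗ[(WittVector p k)] M := Fintype.linearCombination (WittVector p k) c
    obtain ⟨t, ht⟩ := Module.projective_lifting_property π0 π hπ0
    let X : Submodule (WittVector p k) M := U ⊔ Submodule.span (WittVector p k) (Set.range c)
    have hX : ∃ r, r ∉ I ∧ ∀ x : M, r • x ∈ X := by
      have hle : (⊤ : Submodule (WittVector p k) (M ⧸ X)) ≤ I • ⊤ := by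
        intro z _
        obtain ⟨m, rfl⟩ := X.mkQ_surjective z
        have hm : Z.mkQ m ∈ Submodule.span (WittVector p k) (Z.mkQ '' Set.range c) := by
          have h5 : Submodule.span (WittVector p k) (Set.range bs) = ⊤ := by
            rw [← Submodule.restrictScalars_span (R := (WittVector p k)) (A := (WittVector p k) ⧸ I) Ideal.Quotient.mk_surjective, bs.span_eq,
              Submodule.restrictScalars_top]
          rw [← Set.range_comp, show Z.mkQ ∘ c = bs from funext hc, h5]
          trivial
        rw [← Submodule.map_span] at hm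
        obtain ⟨m', hm', he⟩ := hm
        have h6 : m - m' ∈ Z := (Submodule.Quotient.eq Z).1 he.symm
        have h7 : X.mkQ m' = 0 := (Submodule.Quotient.mk_eq_zero X).2 (Submodule.mem_sup_right hm')
        rw [show X.mkQ m = X.mkQ (m - m') by rw [map_sub, h7, sub_zero]]
        have h8 : X.mkQ (m - m') ∈ Z.map X.mkQ := Submodule.mem_map_of_mem h6
        rw [Submodule.map_sup, Submodule.map_smul''] at h8
        refine (sup_le (c := I • (⊤ : Submodule (WittVector p k) (M ⧸ X))) ?_ (Submodule.smul_mono le_rfl le_top)) h8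
        rintro _ ⟨u, hu, rfl⟩
        rw [Submodule.mkQ_apply, (Submodule.Quotient.mk_eq_zero X).2 (Submodule.mem_sup_left hu)]
        exact zero_mem _
      obtain ⟨r, hr1, hr2⟩ := Submodule.exists_sub_one_mem_and_smul_eq_zero_of_fg_of_le_smul I ⊤
        Module.Finite.fg_top hle
      refine ⟨r, fun h => hImax.ne_top ((Ideal.eq_top_iff_one _).2 (by simpa using sub_mem h hr1)), fun x => ?_⟩
      exact (Submodule.Quotient.mk_eq_zero X).1 (hr2 (X.mkQ x) Submodule.mem_top)
    obtain ⟨r, hr, hrX⟩ := hX
    have hτ : ∀ w ∈ P, τ w ∈ P := fun w hw => by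
      obtain ⟨z, rfl⟩ := Ideal.mem_span_singleton.1 hw
      exact Ideal.mem_span_singleton.2 ⟨τ z, by simp⟩
    have hs0 : ∀ x ∈ U, ∀ i, s0 x i ∈ P := fun x hx i => by
      refine hτ _ ?_
      have h : F x ∈ P • (⊤ : Submodule (WittVector p k) M) := by
        rw [← Submodule.mem_comap, comap_eq F V hFV hVF]; exact hx
      obtain ⟨y, hy⟩ := mem_pTop.1 h
      rw [← hy, map_smul, Pi.smul_apply, smul_eq_mul]
      exact Ideal.mul_mem_right _ _ (Ideal.mem_span_singleton_self _)
    have hπP : ∀ v : Fin b → (WittVector p k), (∀ i, v i ∈ P) → ∀ (L : Submodule (WittVector p k) M), P • ⊤ ≤ L → π v ∈ L := fun v hv L hL => by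
      rw [show π v = ∑ i, v i • c i from Fintype.linearCombination_apply (WittVector p k) c v]
      exact sum_mem fun i _ => hL (Submodule.smul_mem_smul (hv i) Submodule.mem_top)
    have hgood : ∀ x ∈ X, π (s0 x) - τ δ • x ∈ U := by
      intro x hx
      obtain ⟨u, hu, v, hv, rfl⟩ := Submodule.mem_sup.1 hx
      rw [map_add, map_add, smul_add, add_sub_add_comm]
      refine add_mem (sub_mem (hπP _ (hs0 u hu) U le_sup_right) (U.smul_mem _ hu)) ?_
      clear hx
      induction hv using Submodule.span_induction with
      | mem z hz =>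
        obtain ⟨i, rfl⟩ := hz
        have : s0 (c i) = τ δ • Pi.single i 1 := funext fun j => by
          change τ (Θ (F (c i)) j) = _
          rw [hΘ]
          by_cases h : j = i <;> simp [h]
        rw [this, map_smul, show π (Pi.single i 1) = c i by simp [π, Fintype.linearCombination_apply_single], sub_self]
        exact zero_mem _
      | zero => simp
      | add a b _ _ ha hb => rw [map_add, map_add, smul_add, add_sub_add_comm]; exact add_mem ha hb
      | smul a z _ hz => rw [map_smul, map_smul, smul_comm, ← smul_sub]; exact U.smul_mem _ hz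
    refine (hImax.isPrime.mem_or_mem (hI (x := r * τ δ) ⟨r • t ∘ₗ s0, fun x => ?_, fun x hx => ?_⟩)).elim hr ?_
    · have h := hgood (r • x) (hrX x)
      rw [map_smul, map_smul] at h
      rw [LinearMap.smul_apply, map_smul, LinearMap.comp_apply, ← LinearMap.comp_apply π0, ht, mul_comm, mul_smul]
      exact h
    · refine Submodule.smul_mem _ r ?_
      rw [LinearMap.comp_apply]
      have : s0 x = ∑ i, s0 x i • Pi.single i 1 := pi_eq_sum_univ' _
      rw [this, map_sum]
      refine sum_mem fun i _ => ?_
      rw [map_smul]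
      exact Submodule.smul_mem_smul (hs0 x hx i) Submodule.mem_top
    · intro h
      refine hδ ?_
      have h' := (hfrob _).2 h
      rwa [show (WittVector.frobenius : (WittVector p k) →+* (WittVector p k)) (τ δ) = δ from
        (frobeniusEquiv p k).apply_symm_apply δ] at h'
  obtain ⟨s, h1, h2⟩ : (1 : (WittVector p k)) ∈ SId := htop ▸ Submodule.mem_top
  -- descend to the quotient
  set U' := Submodule.span ((WittVector p k) ⧸ P) (Set.range fun m : M => (P • (⊤ : Submodule (WittVector p k) M)).mkQ (V m)) with hU'
  let Pr : M →ₗ[(WittVector p k)] (M ⧸ P • (⊤ : Submodule (WittVector p k) M)) ⧸ U' := (U'.mkQ.restrictScalars (WittVector p k)) ∘ₗ (P • (⊤ : Submodule (WittVector p k) M)).mkQ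
  have hPr : Function.Surjective Pr := U'.mkQ_surjective.comp (Submodule.mkQ_surjective _)
  have hUP : LinearMap.ker Pr = U := by
    have h : U'.restrictScalars (WittVector p k) = (Submodule.span (WittVector p k) (Set.range V)).map (P • (⊤ : Submodule (WittVector p k) M)).mkQ := by
      rw [hU', Submodule.restrictScalars_span (R := (WittVector p k)) (A := (WittVector p k) ⧸ P) Ideal.Quotient.mk_surjective,
        Submodule.map_span, ← Set.range_comp]
      rfl
    rw [LinearMap.ker_comp, LinearMap.ker_restrictScalars, Submodule.ker_mkQ, h, Submodule.comap_map_eq,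
      Submodule.ker_mkQ]
  let red : (Fin N → (WittVector p k)) →ₗ[(WittVector p k)] (Fin N → (WittVector p k) ⧸ P) := (Ideal.Quotient.mkₐ (WittVector p k) P).toLinearMap.compLeft (Fin N)
  have hsP : ∀ x ∈ LinearMap.ker Pr, (red ∘ₗ s) x = 0 := fun x hx => by
    rw [hUP] at hx
    ext i
    refine Ideal.Quotient.eq_zero_iff_mem.2 ?_
    have aux : ∀ v ∈ PN, v i ∈ P := by
      intro v hv
      induction hv using Submodule.smul_induction_on' with
      | smul a ha m _ => exact Ideal.mul_mem_right _ _ ha
      | add a _ b _ ha hb => exact add_mem ha hb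
    exact aux _ (h2 x hx)
  let e := Pr.quotKerEquivOfSurjective hPr
  let σ0 : (M ⧸ P • (⊤ : Submodule (WittVector p k) M)) ⧸ U' →ₗ[(WittVector p k)] (Fin N → (WittVector p k) ⧸ P) :=
    (LinearMap.ker Pr).liftQ (red ∘ₗ s) hsP ∘ₗ e.symm.toLinearMap
  have hσ0 : ∀ x, σ0 (Pr x) = red (s x) := fun x => by
    have he : e.symm (Pr x) = Submodule.Quotient.mk x := e.symm_apply_eq.2 rfl
    simp only [σ0, LinearMap.comp_apply, LinearEquiv.coe_coe, he]
    rfl
  let σ1 : (M ⧸ P • (⊤ : Submodule (WittVector p k) M)) ⧸ U' →ₗ[(WittVector p k) ⧸ P] (Fin N → (WittVector p k) ⧸ P) :=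
    σ0.extendScalarsOfSurjective Ideal.Quotient.mk_surjective
  let π1 : (Fin N → (WittVector p k) ⧸ P) →ₗ[(WittVector p k) ⧸ P] (M ⧸ P • (⊤ : Submodule (WittVector p k) M)) ⧸ U' :=
    Fintype.linearCombination ((WittVector p k) ⧸ P) fun i => Pr (π0 (Pi.single i 1))
  refine Module.Projective.of_split σ1 π1 (LinearMap.ext fun z => ?_)
  obtain ⟨x, rfl⟩ := hPr z
  change π1 (σ0 (Pr x)) = Pr x
  rw [hσ0]
  have h3 : Pr (π0 (s x) - (1 : (WittVector p k)) • x) = 0 := by
    rw [← LinearMap.mem_ker, hUP]; exact h1 x
  rw [one_smul, map_sub, sub_eq_zero] at h3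
  rw [← h3, show π1 (red (s x)) = ∑ i, red (s x) i • Pr (π0 (Pi.single i 1)) from
    Fintype.linearCombination_apply _ _ _]
  conv_rhs => rw [pi_eq_sum_univ' (s x), map_sum, map_sum]
  refine Finset.sum_congr rfl fun i _ => ?_
  rw [map_smul, map_smul]
  exact algebraMap_smul ((WittVector p k) ⧸ P) (s x i) _

end


/-- Let p be a prime and k a perfect ring of characteristic p, so that the Frobenius σ of W = W(k) is
bijective and W has no p-torsion. Let M be a projective Dieudonné module over k: a finitely
generated projective W-module with a σ-semilinear F : M → M and a σ⁻¹-semilinear V : M → M such that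
FV = VF = p. Then the reduction M/pM satisfies the level-one conditions: the preimage of pM under F
is VM + pM, the preimage of pM under V is FM + pM (so Ker F = Im V and Ker V = Im F on M/pM), and
M/VM, that is M/pM divided by the image of V, is a projective module over W/pW, which the first Witt
component identifies with k. -/
theorem result (p : ℕ) [Fact p.Prime] (k : Type u) [CommRing k]
    [CharP k p] [PerfectRing k p]
    (M : Type v) [AddCommGroup M] [Module (WittVector p k) M] [Module.Finite (WittVector p k) M] [Module.Projective (WittVector p k) M]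
    (F : M →ₛₗ[(WittVector.frobenius : WittVector p k →+* WittVector p k)] M)
    (V : M →ₛₗ[((WittVector.frobeniusEquiv p k).symm : WittVector p k →+* WittVector p k)] M)
    (hFV : ∀ m : M, F (V m) = (p : WittVector p k) • m) (hVF : ∀ m : M, V (F m) = (p : WittVector p k) • m) :
    ((Ideal.span {(p : WittVector p k)} • (⊤ : Submodule (WittVector p k) M)).comap F =
        Submodule.span (WittVector p k) (Set.range V) ⊔ Ideal.span {(p : WittVector p k)} • (⊤ : Submodule (WittVector p k) M) ∧
      (Ideal.span {(p : WittVector p k)} • (⊤ : Submodule (WittVector p k) M)).comap V =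
        Submodule.span (WittVector p k) (Set.range F) ⊔ Ideal.span {(p : WittVector p k)} • (⊤ : Submodule (WittVector p k) M)) ∧
    Module.Projective (WittVector p k ⧸ Ideal.span {(p : WittVector p k)})
      ((M ⧸ (Ideal.span {(p : WittVector p k)} • (⊤ : Submodule (WittVector p k) M))) ⧸
        Submodule.span (WittVector p k ⧸ Ideal.span {(p : WittVector p k)})
          (Set.range fun m : M => (Ideal.span {(p : WittVector p k)} • (⊤ : Submodule (WittVector p k) M)).mkQ (V m))) := by
  exact ⟨⟨comap_eq F V hFV hVF, comap_eq V F hVF hFV⟩, projective_quot F V hFV hVF⟩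

end Groth.Agent.S16222
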