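import Groth.Statements.S16225
import Groth.Agent.WittExact.Basic
-- import your own Groth.Agent.* helpers here

set_option autoImplicit false
open scoped TensorProduct
universe u v
open CAlg

namespace Groth.Agent.S16225

theorem flat_equalizer {A : Type u} [CommRing A] {B C : Type u} [CommRing B] [CommRing C] [Algebra A B] [Algebra A C]
    (ψ₁ ψ₂ : B →ₐ[A] C) (hinj : Function.Injective (algebraMap A B))
    (heq : ∀ b, ψ₁ b = ψ₂ b → ∃ a, algebraMap A B a = b)
    (M : Type v) [AddCommGroup M] [Module A M] [Module.Flat A M] :
    Function.Injective (fun m : M => m ⊗ₜ[A] (1 : B)) ∧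
      ∀ x : M ⊗[A] B, LinearMap.lTensor M ψ₁.toLinearMap x = LinearMap.lTensor M ψ₂.toLinearMap x →
        x ∈ Set.range (fun m : M => m ⊗ₜ[A] (1 : B)) := by
  have hι : ∀ m : M, (Algebra.linearMap A B).lTensor M (m ⊗ₜ 1) = m ⊗ₜ[A] (1 : B) := fun m => by simp
  refine ⟨fun m m' h => ?_, fun x hx => ?_⟩
  · have h' := Module.Flat.lTensor_preserves_injective_linearMap (M := M) (Algebra.linearMap A B) hinj
      ((hι m).trans (h.trans (hι m').symm))
    simpa using congrArg (TensorProduct.rid A M) h'
  · have hex : Function.Exact (Algebra.linearMap A B) (ψ₁.toLinearMap - ψ₂.toLinearMap) := fun b => by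
      refine ⟨fun hb => ?_, ?_⟩
      · rw [LinearMap.sub_apply, sub_eq_zero] at hb
        exact heq b hb
      · rintro ⟨a, rfl⟩
        simp
    obtain ⟨y, hy⟩ := (Module.Flat.lTensor_exact M hex x).1 (by
      rw [LinearMap.lTensor_sub, LinearMap.sub_apply]
      exact sub_eq_zero.2 hx)
    refine ⟨TensorProduct.rid A M y, ?_⟩
    show (TensorProduct.rid A M y) ⊗ₜ[A] (1 : B) = x
    rw [← hι, ← TensorProduct.rid_symm_apply, LinearEquiv.symm_apply_apply]
    exact hy

/-- Let p be a prime, n a natural number and R → R' a faithfully flat homomorphism of commutative rings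
in which p is nilpotent. Regard W_n(R') and W_n(R' ⊗_R R') as W_n(R)-algebras through the
componentwise maps induced by R → R' and R → R' ⊗_R R', and let ψ₁, ψ₂ : W_n(R') → W_n(R' ⊗_R R') be
the componentwise maps induced by the two inclusions of R' (these are W_n(R)-algebra maps). Then for
every flat W_n(R)-module M the sequence 0 → M → M ⊗_{W_n(R)} W_n(R') ⇉ M ⊗_{W_n(R)} W_n(R' ⊗_R R')
is exact: m ↦ m ⊗ 1 is injective and its image is the equalizer of id ⊗ ψ₁ and id ⊗ ψ₂. (This is the
beginning, in degrees 0 and 1, of a complex continued by the higher tensor powers of R', which the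
published proof asserts to be exact throughout; W_n(R) → W_n(R') is not flat in general, so this is
not faithfully flat descent.) -/
theorem result (p : ℕ) [Fact p.Prime] (n : ℕ)
    (R R' : Type u) [CommRing R] [CommRing R'] [Algebra R R'] [Module.FaithfullyFlat R R']
    (hp : IsNilpotent (p : R))
    [Algebra (TruncatedWittVector p n R) (TruncatedWittVector p n R')]
    (h₁ : algebraMap (TruncatedWittVector p n R) (TruncatedWittVector p n R') = WittGrp.truncMap p n (algebraMap R R'))
    [Algebra (TruncatedWittVector p n R) (TruncatedWittVector p n (TensorProduct R R' R'))]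
    (h₂ : algebraMap (TruncatedWittVector p n R) (TruncatedWittVector p n (TensorProduct R R' R')) =
      WittGrp.truncMap p n (algebraMap R (TensorProduct R R' R')))
    (ψ₁ ψ₂ : TruncatedWittVector p n R' →ₐ[TruncatedWittVector p n R] TruncatedWittVector p n (TensorProduct R R' R'))
    (hψ₁ : (ψ₁ : TruncatedWittVector p n R' →+* TruncatedWittVector p n (TensorProduct R R' R')) =
      WittGrp.truncMap p n (Algebra.TensorProduct.includeLeftRingHom : R' →+* TensorProduct R R' R'))
    (hψ₂ : (ψ₂ : TruncatedWittVector p n R' →+* TruncatedWittVector p n (TensorProduct R R' R')) =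
      WittGrp.truncMap p n ((Algebra.TensorProduct.includeRight : R' →ₐ[R] TensorProduct R R' R') : R' →+* TensorProduct R R' R'))
    (M : Type v) [AddCommGroup M] [Module (TruncatedWittVector p n R) M] [Module.Flat (TruncatedWittVector p n R) M] :
    Function.Injective (fun m : M => m ⊗ₜ[TruncatedWittVector p n R] (1 : TruncatedWittVector p n R')) ∧
      ∀ x : M ⊗[TruncatedWittVector p n R] TruncatedWittVector p n R',
        LinearMap.lTensor M ψ₁.toLinearMap x = LinearMap.lTensor M ψ₂.toLinearMap x →
          x ∈ Set.range (fun m : M => m ⊗ₜ[TruncatedWittVector p n R] (1 : TruncatedWittVector p n R')) := by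
  refine flat_equalizer ψ₁ ψ₂ ?_ (fun b hb => ?_) M
  · rw [h₁]
    intro a b hab
    refine TruncatedWittVector.ext fun i => FaithfulSMul.algebraMap_injective R R' ?_
    have := congrArg (fun w => TruncatedWittVector.coeff i w) hab
    simpa [WittGrp.coeff_truncMap] using this
  · rw [h₁]
    refine Groth.Agent.WittExact.trunc_equalizer p n R R' b ?_
    rw [← hψ₁, ← hψ₂]
    exact hb

end Groth.Agent.S16225
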